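import Groth.Statements.S13955
import Mathlib

set_option autoImplicit false
universe u
open TateLoc

namespace Groth.Agent.S13955

open MvPolynomial TensorProduct

lemma isGCDMonoid_of_mulEquiv {α β : Type*} [CommMonoidWithZero α] [CommMonoidWithZero β]
    (e : α ≃* β) [IsCancelMulZero α] (h : IsGCDMonoid β) : IsGCDMonoid α := by
  obtain ⟨-, hc⟩ := isGCDMonoid_iff_exists_gcd.1 h
  refine isGCDMonoid_iff_exists_gcd.2 ⟨inferInstance, fun a b => ?_⟩
  obtain ⟨c, hcc⟩ := hc (e a) (e b)
  refine ⟨e.symm c, fun d => ?_⟩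
  rw [← map_dvd_iff e, ← map_dvd_iff e (b := b), ← map_dvd_iff e (b := e.symm c),
    e.apply_symm_apply]
  exact hcc _

lemma isGCDMonoid_mvPolynomial (R : Type*) [CommRing R] [IsDomain R] [IsGCDMonoid R] :
    ∀ n, IsGCDMonoid (MvPolynomial (Fin n) R)
  | 0 => isGCDMonoid_of_mulEquiv (MvPolynomial.isEmptyAlgEquiv R (Fin 0)).toMulEquiv inferInstance
  | n + 1 => by
    haveI := isGCDMonoid_mvPolynomial R n
    exact isGCDMonoid_of_mulEquiv (MvPolynomial.finSuccEquiv R n).toMulEquiv inferInstance

lemma exists_lift {ι : Type*} {R : ι → Type*} [∀ i, CommRing (R i)] (n D : ℕ)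
    (f : ∀ i, MvPolynomial (Fin n) (R i)) (hf : ∀ i, (f i).totalDegree ≤ D) :
    ∃ F : MvPolynomial (Fin n) (∀ i, R i), ∀ i, MvPolynomial.map (Pi.evalRingHom R i) F = f i := by
  classical
  refine ⟨∑ d ∈ Finset.Iic (Finsupp.equivFunOnFinite.symm fun _ : Fin n => D),
    MvPolynomial.monomial d (fun i => (f i).coeff d), fun i => ?_⟩
  ext d
  simp only [map_sum, MvPolynomial.map_monomial, MvPolynomial.coeff_sum,
    MvPolynomial.coeff_monomial, Finset.sum_ite_eq', Pi.evalRingHom_apply]
  split_ifs with hd
  · rfl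
  · symm
    by_contra hne
    refine hd (Finset.mem_Iic.2 fun x => ?_)
    have h1 := MvPolynomial.le_totalDegree (MvPolynomial.mem_support_iff.2 hne)
    by_cases hx : x ∈ d.support
    · exact (Finset.single_le_sum (fun _ _ => Nat.zero_le _) hx).trans (h1.trans (hf i))
    · simp [Finsupp.notMem_support_iff.1 hx]

lemma trace_eq_one {A M : Type*} [CommRing A] [AddCommGroup M] [Module A M] [Module.Invertible A M]
    {m : ℕ} (π : Fin m → M) (s : Fin m → Module.Dual A M) (hs : ∀ x, ∑ a, s a x • π a = x) :
    ∑ a, s a (π a) = 1 := by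
  refine FaithfulSMul.eq_of_smul_eq_smul (α := M) fun x => ?_
  rw [one_smul, Finset.sum_smul]
  conv_rhs => rw [← hs x]
  refine Finset.sum_congr rfl fun a _ => ?_
  have := congrArg (TensorProduct.lift ((LinearMap.lsmul A M).comp (s a)))
    (Module.Invertible.tmul_comm (R := A) (m₁ := π a) (m₂ := x))
  simpa using this


/-- For a family (R_i) of valuation rings with product A = ∏ R_i and any n, the Picard group of the
polynomial ring in n variables over A is trivial. -/
theorem result {ι : Type u} (R : ι → Type u)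
    [∀ i, CommRing (R i)] [∀ i, IsDomain (R i)] [∀ i, ValuationRing (R i)]
    (n : ℕ) : Subsingleton (CommRing.Pic (MvPolynomial (Fin n) (∀ i, R i))) := by
  classical
  rw [CommRing.Pic.subsingleton_iff]
  intro M _ _ _
  let A := MvPolynomial (Fin n) (∀ i, R i)
  let B := fun i => MvPolynomial (Fin n) (R i)
  let ev : ∀ i, A →+* B i := fun i => MvPolynomial.map (Pi.evalRingHom R i)
  obtain ⟨m, p, hp⟩ := Module.Finite.exists_fin' A M
  obtain ⟨σ, hσ⟩ := Module.projective_lifting_property p LinearMap.id hp
  let π : Fin m → M := fun a => p (Pi.single a 1)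
  let s : Fin m → Module.Dual A M := fun a => LinearMap.proj a ∘ₗ σ
  have hs : ∀ x, ∑ a, s a x • π a = x := fun x => by
    simp only [s, π, ← map_smul, ← map_sum, LinearMap.comp_apply, LinearMap.proj_apply]
    rw [show ∑ a, σ x a • (Pi.single a 1 : Fin m → A) = σ x from (pi_eq_sum_univ' (σ x)).symm]
    exact LinearMap.congr_fun hσ x
  have htr := trace_eq_one π s hs
  have key : ∀ i, ∃ v w : Fin m → B i, (∀ a b, ev i (s b (π a)) = w a * v b) ∧ ∑ a, w a * v a = 1 := by
    intro i
    letI := (ev i).toAlgebra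
    haveI := isGCDMonoid_mvPolynomial (R i) n
    haveI : Module.Free (B i) (B i ⊗[A] M) := inferInstance
    obtain ⟨ψ⟩ := (Module.Invertible.free_iff_linearEquiv (R := B i) (M := B i ⊗[A] M)).1 inferInstance
    let v : Fin m → B i := fun b => (s b).baseChange (B i) (ψ.symm 1)
    let w : Fin m → B i := fun a => ψ (1 ⊗ₜ π a)
    have h : ∀ a b, ev i (s b (π a)) = w a * v b := fun a b => by
      have e : (1 : B i) ⊗ₜ[A] π a = w a • ψ.symm 1 := ψ.injective (by simp [w])
      have := congrArg (fun z => (s b).baseChange (B i) z) e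
      simp only [map_smul, Module.Dual.baseChange_apply_tmul, Algebra.smul_def (R := A), mul_one] at this
      simpa [v, RingHom.algebraMap_toAlgebra] using this
    exact ⟨v, w, h, by simp only [← h, ← map_sum, htr, map_one]⟩
  choose v w hvw hone using key
  let D := (Finset.univ : Finset (Fin m × Fin m)).sup fun ab => (s ab.2 (π ab.1)).totalDegree
  have hdeg : ∀ i a b, (ev i (s b (π a))).totalDegree ≤ D := fun i a b =>
    (Finset.sup_le fun d hd => Finset.le_sup (f := fun d : Fin n →₀ ℕ => d.sum fun _ e => e)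
      (MvPolynomial.support_map_subset _ _ hd)).trans
      (Finset.le_sup (f := fun ab : Fin m × Fin m => (s ab.2 (π ab.1)).totalDegree)
        (Finset.mem_univ (a, b)))
  have bound : ∀ i (f g : Fin m → B i), (∑ a, f a * g a = 1) →
      (∀ a b, (f a * g b).totalDegree ≤ D) → ∀ a, (f a).totalDegree ≤ D := by
    intro i f g h1 h a
    obtain ⟨b, hb⟩ : ∃ b, g b ≠ 0 := by
      by_contra! hc
      simp [hc] at h1
    by_cases hf : f a = 0
    · simp [hf]
    · have := h a b
      rw [MvPolynomial.totalDegree_mul_of_isDomain hf hb] at this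
      omega
  have hw : ∀ i a, (w i a).totalDegree ≤ D := fun i =>
    bound i (w i) (v i) (hone i) fun a b => by rw [← hvw]; exact hdeg i a b
  have hv : ∀ i a, (v i a).totalDegree ≤ D := fun i =>
    bound i (v i) (w i) (by simpa [mul_comm] using hone i) fun a b => by
      rw [mul_comm, ← hvw]; exact hdeg i b a
  have lift : ∀ f : ∀ i, B i, (∀ i, (f i).totalDegree ≤ D) → ∃ F : A, ∀ i, ev i F = f i :=
    fun f hf => exists_lift n D f hf
  choose W hW using fun a => lift (fun i => w i a) fun i => hw i a
  choose V hV using fun a => lift (fun i => v i a) fun i => hv i a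
  have hinj : ∀ x y : A, (∀ i, ev i x = ev i y) → x = y := fun x y h =>
    MvPolynomial.ext _ _ fun d => funext fun i => by
      have h' := congrArg (MvPolynomial.coeff d) (h i)
      rw [MvPolynomial.coeff_map, MvPolynomial.coeff_map] at h'
      exact h'
  let f : M →ₗ[A] A := ∑ b, (s b).smulRight (W b)
  have hf1 : f (∑ a, V a • π a) = 1 := hinj _ _ fun i => by
    simp only [f, map_sum, map_smul, LinearMap.sum_apply, LinearMap.smulRight_apply, smul_eq_mul,
      map_mul, hvw, hV, hW, map_one]
    calc ∑ a, v i a * ∑ b, w i a * v i b * w i b = ∑ a, w i a * v i a := by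
          refine Finset.sum_congr rfl fun a _ => ?_
          rw [show ∑ b, w i a * v i b * w i b = w i a * ∑ b, w i b * v i b by
            rw [Finset.mul_sum]; exact Finset.sum_congr rfl fun b _ => by ring, hone, mul_one,
            mul_comm]
      _ = 1 := hone i
  have hsurj : Function.Surjective f := fun x => ⟨x • ∑ a, V a • π a, by rw [map_smul, hf1, smul_eq_mul, mul_one]⟩
  exact Module.Free.of_equiv (LinearEquiv.ofBijective f (Module.Invertible.bijective_of_surjective hsurj)).symm

end Groth.Agent.S13955
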