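import Groth.Statements.S13956
import Groth.Agent.H88.EtMod.PointCohTorsion
import Groth.Agent.H88.EtMod.ConstNormal
import Groth.Agent.Lib.SchTopo.Closure

set_option autoImplicit false
universe u
open TateLoc

namespace Groth.Agent.S13956

open CategoryTheory AlgebraicGeometry in
/-- For a Noetherian normal scheme X (quasi-compact, locally Noetherian, all local rings integrally
closed domains), the cohomology of the constant sheaf ℚ on the small etale site of X vanishes in
every positive degree. -/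
theorem result (X : Scheme.{u}) [IsLocallyNoetherian X] [CompactSpace X]
    (hN : ∀ x : X, IsDomain (X.presheaf.stalk x) ∧ IsIntegrallyClosed (X.presheaf.stalk x))
    (i : ℕ) (hi : 0 < i) :
    Subsingleton (EtCoh.H X (EtCoh.const X ℚ) i) := by
  classical
  haveI : IsNoetherian X := {}
  let S : Set X := {η | closure {η} ∈ irreducibleComponents ↥X}
  have hgen : ∀ x : X, ∃ η ∈ S, η ⤳ x := fun x => by
    obtain ⟨η, h1, h2⟩ := Groth.Agent.Lib.SchTopo.Closure.exists_maximal_specializes X x
    exact ⟨η, h1, h2⟩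
  have hinj : ∀ η ∈ S, ∀ η' ∈ S, ∀ x : X, η ⤳ x → η' ⤳ x → η = η' := by
    intro η hη η' hη' x h h'
    obtain ⟨w, -, hw⟩ := Groth.Agent.H88.EtMod.ConstNormal.exists_generic_of_isPrime x (by
      haveI := (hN x).1
      rw [nilradical_eq_zero]
      exact Ideal.isPrime_bot)
    exact (Groth.Agent.Lib.SchTopo.Closure.eq_of_specializes_of_closure_mem hη (hw η h)).symm.trans
      (Groth.Agent.Lib.SchTopo.Closure.eq_of_specializes_of_closure_mem hη' (hw η' h'))
  have hfin : S.Finite := Set.Finite.of_finite_image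
    (TopologicalSpace.NoetherianSpace.finite_irreducibleComponents.subset
      (by rintro _ ⟨η, hη, rfl⟩; exact hη))
    (fun a _ b _ h => ((specializes_iff_closure_subset.2 h.ge).antisymm (specializes_iff_closure_subset.2 h.le)).eq)
  haveI := hfin.to_subtype
  haveI : Fintype S := Fintype.ofFinite S
  have hopen : ∀ η : S, IsOpen (closure {(η : X)}) := fun η => by
    rw [← isClosed_compl_iff]
    have hc : (closure {(η : X)})ᶜ = ⋃ μ ∈ S \ {(η : X)}, closure {μ} := by
      ext x
      simp only [Set.mem_compl_iff, Set.mem_iUnion, ← specializes_iff_mem_closure]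
      refine ⟨fun h => ?_, ?_⟩
      · obtain ⟨μ, hμ, hx⟩ := hgen x
        exact ⟨μ, ⟨hμ, fun e => h (e ▸ hx)⟩, hx⟩
      · rintro ⟨μ, ⟨hμ, hne⟩, hx⟩ h
        exact hne (hinj μ hμ η η.2 x hx h)
    rw [hc]
    exact (hfin.subset Set.sdiff_subset).isClosed_biUnion fun _ _ => isClosed_closure
  let U : S → X.Opens := fun η => ⟨closure {(η : X)}, hopen η⟩
  let j : ∀ η : S, (U η : Scheme.{u}) ⟶ X := fun η => (U η).ι
  let o : ∀ η : S, Groth.Agent.H61.FieldCoh.obj (j η) ⟶ EtCoh.top X := fun η =>
    (EtCore.topIsTerminal X).from _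
  have hD : Groth.Agent.Lib.EtSite.DisjointCover.IsDisjointCover
      (fun η => Groth.Agent.H61.FieldCoh.obj (j η)) o :=
    { isOpenImmersion := fun η => by
        have he : (o η).left = 𝟙 _ ≫ j η :=
          ((Category.comp_id _).symm.trans (MorphismProperty.Over.w (o η)))
        rw [he]
        exact inferInstanceAs (IsOpenImmersion (𝟙 _ ≫ (U η).ι))
      exists_eq := fun x => by
        obtain ⟨η, hη, hx⟩ := hgen x
        refine ⟨⟨η, hη⟩, ⟨x, specializes_iff_mem_closure.1 hx⟩, ?_⟩
        have he : (o ⟨η, hη⟩).left = 𝟙 _ ≫ j ⟨η, hη⟩ :=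
          ((Category.comp_id _).symm.trans (MorphismProperty.Over.w (o _)))
        rw [he, Category.id_comp]
        rfl
      disjoint := fun a b x y h => by
        have he : ∀ c, (o c).left = 𝟙 _ ≫ j c := fun c =>
          ((Category.comp_id _).symm.trans (MorphismProperty.Over.w (o c)))
        rw [he, he, Category.id_comp, Category.id_comp] at h
        refine Subtype.ext (hinj a a.2 b b.2 ((j a).base x) (specializes_iff_mem_closure.2 x.2) ?_)
        exact (specializes_iff_mem_closure.2 y.2).trans (specializes_of_eq h.symm) }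
  have htor : IsAddTorsion (EtCoh.H X (EtCoh.const X ℚ) i) := fun e => by
    refine Groth.Agent.H88.EtMod.PointCohTorsion.isOfFinAddOrder_of_disjointCover j o hD
      Groth.Agent.H88.EtMod.ExtColim.global e fun η => ?_
    haveI : IrreducibleSpace ↥(U η : Scheme.{u}) :=
      Subtype.irreducibleSpace (isIrreducible_singleton.closure : IsIrreducible (closure {(η : X)}))
    haveI : ∀ x : ↥(U η : Scheme.{u}), _root_.IsReduced ((U η : Scheme.{u}).presheaf.stalk x) := fun x => by
      haveI := (hN ((U η).ι.base x)).1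
      exact isReduced_of_injective (asIso ((U η).ι.stalkMap x)).commRingCatIsoToRingEquiv.symm.toRingHom
        (asIso ((U η).ι.stalkMap x)).commRingCatIsoToRingEquiv.symm.injective
    haveI : IsReduced (U η : Scheme.{u}) := isReduced_of_isReduced_stalk _
    haveI : AlgebraicGeometry.IsIntegral (U η : Scheme.{u}) := isIntegral_of_irreducibleSpace_of_isReduced _
    let Y : Scheme.{u} := U η
    haveI : CompactSpace ↥Y := isCompact_iff_compactSpace.1 isClosed_closure.isCompact
    haveI : IsNoetherian Y := {}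
    let g : Spec (CommRingCat.of Y.functionField) ⟶ Y := Y.fromSpecStalk (genericPoint Y)
    haveI : IsPreimmersion g := inferInstanceAs (IsPreimmersion (Y.fromSpecStalk (genericPoint Y)))
    haveI : QuasiCompact g := ⟨fun _ _ _ => Set.Subsingleton.isCompact Set.subsingleton_of_subsingleton⟩
    haveI : QuasiSeparated g := inferInstance
    have hY : Pi1.IsNormalScheme Y := fun x => by
      let e := (asIso ((U η).ι.stalkMap x)).commRingCatIsoToRingEquiv
      haveI := (hN ((U η).ι.base x)).1
      haveI := (hN ((U η).ι.base x)).2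
      exact ⟨MulEquiv.isDomain (X.presheaf.stalk ((U η).ι.base x)) e.symm.toMulEquiv,
        IsIntegrallyClosed.of_equiv e⟩
    haveI := Groth.Agent.H88.EtMod.ConstNormal.isIso_unit ℚ g hY fun y hy => by
      rw [← hy _ (genericPoint_specializes y)]
      exact ⟨IsLocalRing.closedPoint _, Scheme.fromSpecStalk_closedPoint⟩
    let c : (EtCoh.pull (j η)).obj (EtCoh.const X ℚ) ≅ EtCoh.const Y ℚ :=
      (EtCore.pullConstIso (j η)).app (AddCommGrpCat.of (ULift.{u + 1} ℚ))
    let ψ := c ≪≫ asIso ((EtCoh.pullPushAdj g).unit.app (EtCoh.const Y ℚ))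
    intro y
    have hy : (y.comp (Abelian.Ext.mk₀ ψ.hom) (add_zero i)).comp (Abelian.Ext.mk₀ ψ.inv) (add_zero i) = y := by
      rw [Abelian.Ext.comp_assoc_of_second_deg_zero, Abelian.Ext.mk₀_comp_mk₀, Iso.hom_inv_id,
        Abelian.Ext.comp_mk₀_id]
    rw [← hy]
    obtain ⟨k, rfl⟩ : ∃ k, i = k + 1 := ⟨i - 1, by omega⟩
    refine AddMonoidHom.isOfFinAddOrder ((Abelian.Ext.mk₀ ψ.inv).postcomp _ (add_zero (k + 1))) ?_
    exact Groth.Agent.H88.EtMod.PointCohTorsion.isAddTorsion_H_push g k _ _
  refine subsingleton_of_forall_eq 0 fun e => ?_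
  obtain ⟨n, hn, hne⟩ := isOfFinAddOrder_iff_nsmul_eq_zero.1 (htor e)
  let a : AddCommGrpCat.of (ULift.{u + 1} ℚ) ⟶ AddCommGrpCat.of (ULift.{u + 1} ℚ) :=
    AddCommGrpCat.ofHom (DistribSMul.toAddMonoidHom (ULift.{u + 1} ℚ) ((n : ℚ)⁻¹))
  let φ : EtCoh.const X ℚ ⟶ EtCoh.const X ℚ :=
    (constantSheaf X.smallEtaleTopology AddCommGrpCat.{u + 1}).map a
  have h1 : n • φ = 𝟙 _ := by
    rw [← Functor.map_nsmul, ← CategoryTheory.Functor.map_id]
    congr 1
    ext x
    simp [a, AddCommGrpCat.hom_nsmul, inv_mul_cancel_left₀ (Nat.cast_ne_zero.2 hn.ne' : (n : ℚ) ≠ 0)]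
  have h2 : ∀ m : ℕ, e.comp (Abelian.Ext.mk₀ (m • φ)) (add_zero i) =
      (m • e).comp (Abelian.Ext.mk₀ φ) (add_zero i) := fun m => by
    induction m with
    | zero => simp
    | succ m ih => rw [succ_nsmul, succ_nsmul, Abelian.Ext.mk₀_add, Abelian.Ext.comp_add, Abelian.Ext.add_comp, ih]
  have := h2 n
  rw [h1, hne, Abelian.Ext.comp_mk₀_id, Abelian.Ext.zero_comp] at this
  exact this

end Groth.Agent.S13956
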