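import Groth.Statements.S13958
import Mathlib.GroupTheory.FiniteAbelian.Basic

set_option autoImplicit false
universe u
open TateLoc

namespace Groth.Agent.S13958

open CategoryTheory in
/-- Let A' be a finitely generated abelian group (written multiplicatively, discrete) and A a subgroup.
If the image of x ∈ A' in the profinite completion of A' lies in the image of the profinite
completion of A under the map induced by the inclusion, then x ∈ A. (The published statement says
that the square formed by the two completion maps and the two inclusions is Cartesian; given the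
injectivity of the induced map on completions, which holds here, that amounts to this membership
criterion.) -/
theorem result (A' : Type u) [CommGroup A'] [Group.FG A']
    (A : Subgroup A') (x : A')
    (hx : ProfiniteGrp.ProfiniteCompletion.etaFn (GrpCat.of A') x ∈
      Set.range ⇑(ProfiniteGrp.profiniteCompletion.map (GrpCat.ofHom A.subtype)).hom) :
    x ∈ A := by
  classical
  by_contra hx'
  -- a finite-index subgroup containing `A` but not `x`
  obtain ⟨H, hfin, hAH, hxH⟩ : ∃ H : Subgroup A', H.FiniteIndex ∧ A ≤ H ∧ x ∉ H := by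
    let Q := Additive (A' ⧸ A)
    haveI : AddGroup.FG Q := GroupFG.iff_add_fg.1 inferInstance
    obtain ⟨n, ι, hι, p, hp, e, ⟨f⟩⟩ := AddCommGroup.equiv_free_prod_directSum_zmod Q
    set y : Q := Additive.ofMul (QuotientGroup.mk x) with hy
    have hy0 : y ≠ 0 := fun h => hx' ((QuotientGroup.eq_one_iff x).1 (congrArg Additive.toMul h))
    suffices ∃ (m : ℕ) (_ : NeZero m) (g : Q →+ ZMod m), g y ≠ 0 by
      obtain ⟨m, hm, g, hg⟩ := this
      let φ : A' →* Multiplicative (ZMod m) := (AddMonoidHom.toMultiplicativeRight g).comp (QuotientGroup.mk' A)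
      refine ⟨φ.ker, ?_, fun a ha => ?_, fun h => hg ?_⟩
      · haveI : Finite (Multiplicative (ZMod m)) := inferInstance
        exact Subgroup.finiteIndex_ker φ
      · simp [φ, MonoidHom.mem_ker, (QuotientGroup.eq_one_iff a).2 ha]
      · have := MonoidHom.mem_ker.1 h
        exact congrArg Multiplicative.toAdd this
    have hfy : f y ≠ 0 := fun h => hy0 (f.injective (h.trans (map_zero f).symm))
    rcases Classical.em ((f y).1 = 0) with h1 | h1
    · have h2 : (f y).2 ≠ 0 := fun h2 => hfy (Prod.ext h1 h2)
      obtain ⟨i, hi⟩ : ∃ i, (f y).2 i ≠ 0 := by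
        by_contra hne; push Not at hne; exact h2 (DFinsupp.ext hne)
      haveI : NeZero (p i ^ e i) := ⟨pow_ne_zero _ (hp i).ne_zero⟩
      exact ⟨p i ^ e i, inferInstance,
        ((DFinsupp.evalAddMonoidHom i).comp (AddMonoidHom.snd _ _)).comp f.toAddMonoidHom, hi⟩
    · obtain ⟨i, hi⟩ := Finsupp.ne_iff.1 h1
      simp only [Finsupp.coe_zero, Pi.zero_apply] at hi
      refine ⟨((f y).1 i).natAbs + 1, inferInstance, ((Int.castAddHom _).comp
        ((Finsupp.applyAddHom i).comp (AddMonoidHom.fst _ _))).comp f.toAddMonoidHom, ?_⟩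
      simp only [AddMonoidHom.coe_comp, Function.comp_apply, Int.coe_castAddHom]
      change (((f y).1 i : ℤ) : ZMod (((f y).1 i).natAbs + 1)) ≠ 0
      rw [Ne, ZMod.intCast_zmod_eq_zero_iff_dvd]
      intro hdvd
      have := Int.le_of_dvd (Int.natAbs_pos.2 hi |> fun h => by exact_mod_cast h)
        ((Int.dvd_natAbs).2 hdvd)
      omega
  haveI := hfin
  let P : ProfiniteGrp.{u} := ProfiniteGrp.ofFiniteGrp (FiniteGrp.of (A' ⧸ H))
  let q : GrpCat.of A' ⟶ GrpCat.of P := GrpCat.ofHom (QuotientGroup.mk' H)
  obtain ⟨y, hy⟩ := hx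
  let L := ProfiniteGrp.ProfiniteCompletion.lift q
  have hL : ∀ z : A', L (ProfiniteGrp.ProfiniteCompletion.etaFn (GrpCat.of A') z) = q z :=
    fun z => congr($(ProfiniteGrp.ProfiniteCompletion.lift_eta q) z)
  let M := ProfiniteGrp.profiniteCompletion.map (GrpCat.ofHom A.subtype)
  have hM : ∀ a : A, M (ProfiniteGrp.ProfiniteCompletion.etaFn (GrpCat.of A) a) =
      ProfiniteGrp.ProfiniteCompletion.etaFn (GrpCat.of A') (a : A') :=
    fun a => congr($(ProfiniteGrp.ProfiniteCompletion.lift_eta
      (GrpCat.ofHom A.subtype ≫ ProfiniteGrp.ProfiniteCompletion.eta (GrpCat.of A'))) a)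
  haveI : T2Space P := inferInstance
  have h1 : (fun z => L (M z)) = fun _ => (1 : P) := by
    refine (ProfiniteGrp.ProfiniteCompletion.denseRange (G := GrpCat.of A)).equalizer
      (L.hom.continuous_toFun.comp M.hom.continuous_toFun) continuous_const ?_
    funext a
    change L (M _) = 1
    rw [hM a, hL]
    exact (QuotientGroup.eq_one_iff (a : A')).2 (hAH a.2)
  have h3 : L (M y) = 1 := congrFun h1 y
  have h4 : L (ProfiniteGrp.ProfiniteCompletion.etaFn (GrpCat.of A') x) = q x := hL x
  rw [← hy] at h4
  apply hxH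
  refine (QuotientGroup.eq_one_iff x).1 ?_
  exact h4.symm.trans h3

end Groth.Agent.S13958
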