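import Groth.Statements.S13959
import Groth.Agent.Lib.TorsorSch.FibreProd
import Groth.Agent.Lib.GrpSch.Basic
-- import your own Groth.Agent.* helpers here

set_option autoImplicit false
universe u
open TateLoc

namespace Groth.Agent.S13959

open CategoryTheory CategoryTheory.Limits MonoidalCategory CartesianMonoidalCategory AlgebraicGeometry in
open scoped MonObj GrpObj in
/-- Points of a one-point finite group scheme with values in a reduced scheme are trivial. -/
theorem hom_eq_one {k : Type u} [Field k] {I T : Over (Spec (CommRingCat.of k))} [GrpObj I] [IsFinite I.hom]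
    [Subsingleton ↥(I.left)] [AlgebraicGeometry.IsReduced T.left] (g : T ⟶ I) : g = 1 := by
  let e : Spec (CommRingCat.of k) ⟶ I.left := η[I].left
  have he : e ≫ I.hom = 𝟙 _ := Over.w η[I]
  haveI : IsClosedImmersion (e ≫ I.hom) := by rw [he]; infer_instance
  haveI : IsClosedImmersion e := .of_comp e I.hom
  haveI : Surjective e := ⟨fun x => ⟨default, Subsingleton.elim _ _⟩⟩
  haveI : IsIso (pullback.fst g.left e) := isIso_of_isClosedImmersion_of_surjective _
  let h : T.left ⟶ Spec (CommRingCat.of k) := inv (pullback.fst g.left e) ≫ pullback.snd g.left e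
  have h1 : h ≫ e = g.left := by simp [h, ← pullback.condition]
  have h2 : h = T.hom := by rw [← Over.w g, ← h1, Category.assoc, he, Category.comp_id]
  rw [Hom.one_def]
  refine Over.OverMorphism.ext ?_
  rw [← h1, h2]
  rfl


open CategoryTheory AlgebraicGeometry in
/-- Let k be a field, L an extension field of k which is separable over k in the sense that L ⊗_k L is
reduced (not necessarily algebraic), and I an infinitesimal k-group scheme (finite over k with
one-point underlying space). If a k-scheme E with an action of I is an fppf torsor under I and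
acquires a point over L, then E already has a k-point. (The published statement is the injectivity
of H^1(k, I) → H^1(L, I); this row is its torsor form.) -/
theorem result (k : Type u) [Field k] (L : Type u) [Field L] [Algebra k L]
    [IsReduced (TensorProduct k L L)]
    (I E : Over (Spec (CommRingCat.of k))) [GrpObj I] [IsFinite I.hom] [Subsingleton ↥(I.left)]
    (a : AlgGrp.Action I E) (hE : NonAbH1.IsTorsorFor Scheme.fppfPrecoverage a)
    (hL : NonAbH1.HasSectionOver E (Spec.map (CommRingCat.ofHom (algebraMap k L)))) :
    NonAbH1.HasSectionOver E (𝟙 (Spec (CommRingCat.of k))) := by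
  obtain ⟨σ, hσ⟩ := hL
  let p := Spec.map (CommRingCat.ofHom (algebraMap k L))
  let W : Over (Spec (CommRingCat.of k)) := Over.mk p
  haveI : AlgebraicGeometry.IsReduced (Spec (CommRingCat.of (TensorProduct k L L))) := inferInstance
  haveI : AlgebraicGeometry.IsReduced (Limits.pullback p p) :=
    isReduced_of_isOpenImmersion (pullbackSpecIso k L L).hom
  haveI : AlgebraicGeometry.IsReduced (MonoidalCategoryStruct.tensorObj W W).left :=
    inferInstanceAs (AlgebraicGeometry.IsReduced (Limits.pullback p p))
  let s : W ⟶ E := Over.homMk σ hσ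
  obtain ⟨g, hg, -⟩ := Groth.Agent.Lib.TorsorSch.FibreProd.existsUnique_of_pseudo hE.1
    (SemiCartesianMonoidalCategory.fst W W ≫ s) (SemiCartesianMonoidalCategory.snd W W ≫ s)
  rw [hom_eq_one g, Groth.Agent.Lib.GrpSch.act_one] at hg
  haveI : Surjective p := inferInstance
  haveI : EffectiveEpi p := inferInstance
  have hall : ∀ {Z : Scheme.{u}} (g₁ g₂ : Z ⟶ Spec (CommRingCat.of L)), g₁ ≫ p = g₂ ≫ p → g₁ ≫ σ = g₂ ≫ σ := by
    intro Z g₁ g₂ h
    have h1 := congrArg (fun m => Limits.pullback.lift g₁ g₂ h ≫ CategoryTheory.CommaMorphism.left m) hg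
    change Limits.pullback.lift g₁ g₂ h ≫ Limits.pullback.fst p p ≫ σ =
      Limits.pullback.lift g₁ g₂ h ≫ Limits.pullback.snd p p ≫ σ at h1
    simpa only [Limits.pullback.lift_fst_assoc, Limits.pullback.lift_snd_assoc] using h1
  refine ⟨EffectiveEpi.desc p σ hall, ?_⟩
  rw [← cancel_epi p, EffectiveEpi.fac_assoc, hσ, Category.comp_id]

end Groth.Agent.S13959
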