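import Groth.Statements.S13963
import Mathlib.Topology.Algebra.Group.OpenMapping
import Mathlib.Topology.Baire.LocallyCompactRegular
import Mathlib.Topology.Compactness.SigmaCompact

set_option autoImplicit false
universe u
open TateLoc

namespace Groth.Agent.S13963

/-- Let A' → A → A'' be continuous homomorphisms of locally compact, second-countable, Hausdorff abelian
topological groups which form a short exact sequence of abstract groups (the first injective, the
second surjective, image equal to kernel). If A' and A'' are compact, then A is compact. -/
theorem result (A' A A'' : Type u)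
    [AddCommGroup A'] [TopologicalSpace A'] [IsTopologicalAddGroup A'] [SecondCountableTopology A'] [T2Space A']
    [CompactSpace A']
    [AddCommGroup A] [TopologicalSpace A] [IsTopologicalAddGroup A] [LocallyCompactSpace A]
    [SecondCountableTopology A] [T2Space A]
    [AddCommGroup A''] [TopologicalSpace A''] [IsTopologicalAddGroup A''] [SecondCountableTopology A''] [T2Space A'']
    [CompactSpace A'']
    (f : A' →+ A) (g : A →+ A'') (hf : Continuous f) (hg : Continuous g)
    (hinj : Function.Injective f) (hsurj : Function.Surjective g) (hex : g.ker = f.range) :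
    CompactSpace A := by
  have hKc : IsCompact (f.range : Set A) := by
    rw [AddMonoidHom.coe_range]; exact isCompact_range hf
  haveI : SigmaCompactSpace A := inferInstance
  have hopen : IsOpenMap g := AddMonoidHom.isOpenMap_of_sigmaCompact g hsurj hg
  choose V hVc hVn using fun a : A => exists_compact_mem_nhds a
  obtain ⟨t, ht⟩ := (isCompact_univ (X := A'')).elim_finite_subcover
    (fun a : A => g '' interior (V a)) (fun a => hopen _ isOpen_interior)
    (fun y _ => by
      obtain ⟨a, rfl⟩ := hsurj y
      exact Set.mem_iUnion.2 ⟨a, a, mem_interior_iff_mem_nhds.2 (hVn a), rfl⟩)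
  refine ⟨?_⟩
  refine ((t.isCompact_biUnion fun a _ => hVc a).add hKc).of_isClosed_subset isClosed_univ ?_
  intro x _
  obtain ⟨a, hat, b, hb, hgb⟩ := by simpa using ht (Set.mem_univ (g x))
  refine ⟨b, Set.mem_iUnion₂.2 ⟨a, hat, interior_subset hb⟩, x - b, ?_, by simp⟩
  rw [SetLike.mem_coe, ← hex, AddMonoidHom.mem_ker, map_sub, hgb, sub_self]

end Groth.Agent.S13963
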