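import Groth.Statements.S15382
import Groth.Agent.Lib.NormDual86.Main
-- import your own Groth.Agent.* helpers here

set_option autoImplicit false
universe u
open GmDual

namespace Groth.Agent.S15382

open CategoryTheory AlgebraicGeometry in
/-- Let f : X' ⟶ X be a finite etale morphism of Noetherian schemes, N : f_* 𝔾_{m,X'} ⟶ 𝔾_{m,X} the norm
map of f as a morphism of abelian sheaves on the big fppf site of X (characterised by: on every
affine test scheme T over X for which the functions of T ×_X X' form a finite free algebra over
those of T, N sends an invertible function to the determinant of multiplication by it), and F' an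
abelian fppf sheaf on X'. Then the induced map on dual sheaves f_* (F'^) ⟶ (f_* F')^, sending a
character of F' over T ×_X X' to the character of f_* F' over T obtained by base-changing test
objects and composing with N, is an isomorphism of fppf sheaves. -/
theorem result (X X' : Scheme.{u}) (f : X' ⟶ X) [IsFinite f] [Etale f]
    [AlgebraicGeometry.IsNoetherian X]
    (N : CGrpSh3.pushGm Scheme.fppfPrecoverage f ⟶ CGrpSh2.Gm Scheme.fppfPrecoverage X)
    (hN : CGrpSh3.IsNormMap Scheme.fppfPrecoverage f N) (F' : BigSite.Ab Scheme.fppfPrecoverage X') :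
    IsIso (CGrpSh3.dualNormMap Scheme.fppfPrecoverage f N F') := by
  open Groth.Agent.Lib.NormDual86 in
  have hb : ∀ T : Over X, Function.Bijective
      ((CGrpSh3.dualNormMap Scheme.fppfPrecoverage f N F').hom.app (Opposite.op T)) := fun T =>
    ⟨dualApp_injective (T := T) (F := F') hN,
      fun ψ => ⟨invHom (f := f) (F := F') ψ, dualApp_invHom ψ hN⟩⟩
  haveI : IsIso ((sheafToPresheaf (QuotSh.J Scheme.fppfPrecoverage X) AddCommGrpCat.{u + 1}).map
      (CGrpSh3.dualNormMap Scheme.fppfPrecoverage f N F')) := by
    change IsIso (CGrpSh3.dualNormMap Scheme.fppfPrecoverage f N F').hom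
    haveI : ∀ T, IsIso ((CGrpSh3.dualNormMap Scheme.fppfPrecoverage f N F').hom.app T) := fun T =>
      (ConcreteCategory.isIso_iff_bijective _).2 (hb T.unop)
    exact NatIso.isIso_of_isIso_app _
  exact CategoryTheory.isIso_of_reflects_iso _
    (sheafToPresheaf (QuotSh.J Scheme.fppfPrecoverage X) AddCommGrpCat.{u + 1})

end Groth.Agent.S15382
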