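import Groth.Statements.S13965
import Groth.Agent.S15382
import Groth.Agent.S15384
import Groth.Agent.Lib.DualGm86.Field
import Groth.Agent.Lib.DualGm86.Push

set_option autoImplicit false
set_option maxHeartbeats 800000
universe u
open TateLoc

namespace Groth.Agent.S13965

open CategoryTheory AlgebraicGeometry in
/-- Take a finite separable field extension k'/k, and let R be the Weil restriction of the
multiplicative group from k' to k, i.e. the direct image of the multiplicative group along Spec k' →
Spec k as an abelian sheaf on the big fppf site of Spec k. Then the first cohomology H^1(k, R̂) of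
the dual sheaf R̂ (internal Hom from R into the multiplicative group) vanishes. (The published
statement is for the Weil restriction of any split k'-torus, a finite product of copies of this
case.) -/
theorem result (k k' : Type u) [Field k] [Field k'] [Algebra k k']
    [FiniteDimensional k k'] [Algebra.IsSeparable k k'] :
    Subsingleton (BigSite.H Scheme.fppfPrecoverage (Spec (CommRingCat.of k)) (CGrpSh2.dualSh Scheme.fppfPrecoverage ((BigSite.pushBig Scheme.fppfPrecoverage (Spec.map (CommRingCat.ofHom (algebraMap k k'))) AddCommGrpCat.{u+1}).obj (CGrpSh2.Gm Scheme.fppfPrecoverage (Spec (CommRingCat.of k'))))) 1) := by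
  let f := Spec.map (CommRingCat.ofHom (algebraMap k k'))
  haveI : IsFinite f := (IsFinite.SpecMap_iff _).mpr
    (RingHom.finite_algebraMap.mpr inferInstance)
  haveI : Etale f := (HasRingHomProperty.Spec_iff (P := @Etale)).mpr
    (RingHom.etale_algebraMap.mpr (by haveI : Algebra.FormallyEtale k k' := Algebra.FormallyEtale.of_isSeparable k k'; haveI : Algebra.FinitePresentation k k' := Algebra.FinitePresentation.of_finiteType.mp inferInstance; exact ⟨inferInstance, inferInstance⟩))
  obtain ⟨N, hN⟩ := Groth.Agent.S15384.result (Spec (CommRingCat.of k)) (Spec (CommRingCat.of k')) f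
  haveI := Groth.Agent.S15382.result (Spec (CommRingCat.of k)) (Spec (CommRingCat.of k')) f N hN
    (CGrpSh2.Gm Scheme.fppfPrecoverage (Spec (CommRingCat.of k')))
  exact @Function.Injective.subsingleton _ _ _ ((CategoryTheory.Abelian.extFunctorObj _ 1).mapIso
    (asIso (CGrpSh3.dualNormMap Scheme.fppfPrecoverage f N
      (CGrpSh2.Gm Scheme.fppfPrecoverage (Spec (CommRingCat.of k'))))).symm).addCommGroupIsoToAddEquiv.injective
    (Groth.Agent.Lib.DualGm86.subsingleton_H1_push f _
      (Groth.Agent.Lib.DualGm86.subsingleton_H1_dual_Gm k'))

end Groth.Agent.S13965
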