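import Groth.Statements.S13971
import Groth.Agent.Lib.ArtinFun.T1Criterion
import Groth.Agent.Lib.ArtinFun.Hull
import Groth.Agent.Lib.ArtinFun.SmoothAdic

set_option autoImplicit false
universe u v
open CategoryTheory
open ArtFun
open Groth.Agent.Lib.ArtinFun

namespace Groth.Agent.S13971

/-- Let k be a field of characteristic zero and F a deformation functor on Artinian local k-algebras
with residue field k — F(k) is a point and the comparison map F(A₁ ×_A A₂) → F(A₁) ×_{F(A)} F(A₂) is
bijective whenever A₂ → A is surjective — whose tangent space F(k[ε]) is finite-dimensional. Suppose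
that for every object A and every surjective morphism q : A'' → A' between split square-zero
extensions of A (A' and A'' come with retractions onto A whose kernels have square zero and with
sections from A, and q commutes with the retractions and the sections), the map F(q) : F(A'') →
F(A') is surjective. Then F is unobstructed: F(B) → F(A) is surjective for every surjective B → A.
(The published statement is for deformation categories, with the hypothesis that, for every object
over A, the functor M ↦ {isomorphism classes of its liftings to A ⊕ M} on finite A-modules carries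
surjections to surjections; this row is the case of a category fibred in sets, for which a split
square-zero extension of A is A ⊕ M with M the kernel, a finite A-module, and that hypothesis is the
displayed surjectivity.) -/
theorem result {k : Type u} [Field k] [CharZero k]
    (F : ArtFun.Art k k ⥤ Type v) [ArtFun.TangentStr F]
    (h0 : ArtFun.H0 F)
    (hRS : (∀ ⦃B A A' A'' : ArtFun.Art k k⦄ (p' : B ⟶ A') (p'' : B ⟶ A'') (f' : A' ⟶ A) (f'' : A'' ⟶ A)
        (h : ArtFun.Art.IsFibreProd p' p'' f' f''), Function.Surjective f'' → Function.Bijective (ArtFun.cmp F h)))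
    (hfin : ArtFun.Hfin F)
    (hT1 : ∀ ⦃A A' A'' : ArtFun.Art k k⦄ (π' : A' ⟶ A) (i' : A ⟶ A') (π'' : A'' ⟶ A) (i'' : A ⟶ A'')
        (q : A'' ⟶ A'), i' ≫ π' = 𝟙 A → i'' ≫ π'' = 𝟙 A →
        RingHom.ker π'.toAlgHom * RingHom.ker π'.toAlgHom = ⊥ →
        RingHom.ker π''.toAlgHom * RingHom.ker π''.toAlgHom = ⊥ →
        q ≫ π' = π'' → i'' ≫ q = i' → Function.Surjective q → Function.Surjective (F.map q)) :
    ArtFun.IsSmoothFunctor F := by
  have hk : Function.Surjective (algebraMap k k) := fun c => ⟨c, rfl⟩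
  haveI : IsAdicComplete (IsLocalRing.maximalIdeal k) k := by
    rw [IsLocalRing.maximalIdeal_eq_bot]
    infer_instance
  obtain ⟨H⟩ := hasHull_of_schlessinger (subsingleton_base_dual_of_surjective hk) F h0
    (RS.s1 hRS) (RS.heps hRS) hfin
  rw [isSmoothFunctor_iff_of_versal h0 H.ring H.family H.miniversal.1,
    isSmoothFunctor_iff_powerSeries hk H.ring]
  obtain ⟨d, p, hp, hker⟩ := exists_minimal_ps_presentation H.ring
  refine ⟨d, ⟨(AlgEquiv.ofBijective p ⟨(RingHom.injective_iff_ker_eq_bot p.toRingHom).2 ?_, hp⟩).symm⟩⟩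
  refine ker_eq_bot_of_lifting p hp hker fun A S φ => ?_
  obtain ⟨E', π', ι', e', hι', hsq', hπe', hιe'⟩ := exists_art_trivSqZero A ((Fin d → A) ⧸ S)
  obtain ⟨E'', π'', ι'', e'', hι'', hsq'', hπe'', hιe''⟩ := exists_art_trivSqZero A (Fin d → A)
  let m₀ : TrivSqZeroExt A (Fin d → A) →ₐ[k] TrivSqZeroExt A ((Fin d → A) ⧸ S) :=
    (TrivSqZeroExt.map S.mkQ).restrictScalars k
  let q : E'' ⟶ E' := Art.homMk ((e'.toAlgHom.comp m₀).comp e''.symm.toAlgHom) (res_unique _ _)
  have hqe : ∀ x, q (e'' x) = e' (m₀ x) := fun x => congrArg (fun y => e' (m₀ y)) (e''.symm_apply_apply x)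
  have hqπ : q ≫ π' = π'' := hom_ext_apply fun y => by
    obtain ⟨x, rfl⟩ := e''.surjective y
    show π' (q (e'' x)) = π'' (e'' x)
    rw [hqe, hπe', hπe'']
    exact TrivSqZeroExt.fst_map S.mkQ x
  have hιq : ι'' ≫ q = ι' := hom_ext_apply fun a => by
    show q (ι'' a) = ι' a
    rw [hιe'', hqe, hιe']
    exact congrArg e' (TrivSqZeroExt.map_inl S.mkQ a)
  have hqs : Function.Surjective q := fun y => by
    obtain ⟨x, rfl⟩ := e'.surjective y
    obtain ⟨v, hv⟩ := Submodule.mkQ_surjective S x.snd
    refine ⟨e'' (TrivSqZeroExt.inl x.fst + TrivSqZeroExt.inr v), (hqe _).trans (congrArg e' ?_)⟩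
    refine TrivSqZeroExt.ext ?_ ?_
    · simp [m₀, TrivSqZeroExt.fst_map]
    · simp [m₀, TrivSqZeroExt.snd_map, ← hv]
  let φ' : HomSet H.ring.carrier H.ring.res E' := ⟨e'.toAlgHom.comp φ, res_unique _ _⟩
  obtain ⟨y, hy⟩ := hT1 π' ι' π'' ι'' q hι' hι'' hsq' hsq'' hqπ hιq hqs (H.family.app E' φ')
  obtain ⟨ψ, hψ, -⟩ := H.miniversal.1 q hqs φ' y hy
  let ψ₁ : HomSet H.ring.carrier H.ring.res E'' := ψ
  refine ⟨e''.symm.toAlgHom.comp ψ₁.1, fun r => ?_⟩
  have h := AlgHom.congr_fun (congrArg Subtype.val hψ) r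
  change q (ψ₁.1 r) = e' (φ r) at h
  obtain ⟨x, hx⟩ := e''.surjective (ψ₁.1 r)
  rw [← hx, hqe] at h
  have h2 := e'.injective h
  have hgoal : e''.symm.toAlgHom.comp ψ₁.1 r = x := by
    show e''.symm (ψ₁.1 r) = x
    rw [← hx, AlgEquiv.symm_apply_apply]
  rw [hgoal, ← h2]
  exact ⟨(TrivSqZeroExt.fst_map S.mkQ x).symm, (TrivSqZeroExt.snd_map S.mkQ x).symm⟩

end Groth.Agent.S13971
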