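import Groth.Statements.S13972
import Groth.Agent.Lib.NilKoszul.Lift
import Groth.Agent.Lib.Synt92.CubeBase

set_option autoImplicit false
universe u
open LCI

namespace Groth.Agent.S13972

open Groth.Agent.Lib.Wiebe.Link

theorem lift {n : ℕ} : ∀ (N : ℕ) {A B : Type u} [CommRing A] [CommRing B] [Algebra A B] [Module.Flat A B]
    (I : Ideal A), I ^ (N + 1) = ⊥ → ∀ (f : Fin n → B) (Q : Type u) [CommRing Q]
    (q : B ⧸ I.map (algebraMap A B) →+* Q), Function.Surjective q →
    RingHom.ker q = Ideal.span (Set.range fun i => Ideal.Quotient.mk (I.map (algebraMap A B)) (f i)) →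
    (q.comp (Ideal.quotientMap (I.map (algebraMap A B)) (algebraMap A B) Ideal.le_comap_map)).Flat →
    Acyc (fun i => Ideal.Quotient.mk (I.map (algebraMap A B)) (f i)) →
    Acyc f ∧ Module.Flat A (B ⧸ Ideal.span (Set.range f)) := by
  intro N
  induction N with
  | zero =>
    intro A B _ _ _ _ I hI f Q _ q hq hker hflat hac
    have hJ : I * I = ⊥ := by rw [pow_one] at hI; simp [hI]
    have hfl : Module.Flat (A ⧸ I) ((B ⧸ I.map (algebraMap A B)) ⧸
        Ideal.span (Set.range fun i => Ideal.Quotient.mk (I.map (algebraMap A B)) (f i))) := by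
      let e : Q ≃+* ((B ⧸ I.map (algebraMap A B)) ⧸
          Ideal.span (Set.range fun i => Ideal.Quotient.mk (I.map (algebraMap A B)) (f i))) :=
        (RingHom.quotientKerEquivOfSurjective hq).symm.trans (Ideal.quotEquivOfEq hker)
      refine RingHom.flat_algebraMap_iff.1 ?_
      have h := hflat.comp (RingHom.Flat.of_bijective (f := e.toRingHom) e.bijective)
      convert h using 1
      refine Ideal.Quotient.ringHom_ext (RingHom.ext fun a => ?_)
      have hfx : ∀ x, e (q x) = Ideal.Quotient.mk _ x := fun x => by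
        change Ideal.quotEquivOfEq hker ((RingHom.quotientKerEquivOfSurjective hq).symm (q x)) = _
        rw [show (RingHom.quotientKerEquivOfSurjective hq).symm (q x) = Ideal.Quotient.mk _ x from
          (RingHom.quotientKerEquivOfSurjective hq).symm_apply_eq.2 rfl]
        rfl
      exact (hfx _).symm
    exact ⟨Groth.Agent.Lib.NilKoszul.acyc I hJ f hac hfl, Groth.Agent.Lib.NilKoszul.flat_quotient I hJ f hac hfl⟩
  | succ N ih =>
    intro A B _ _ _ _ I hI f Q _ q hq hker hflat hac
    let J := I ^ (N + 1)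
    have hJ : J * J = ⊥ := by
      rw [eq_bot_iff, ← hI, ← pow_add]
      exact Ideal.pow_le_pow_right (by omega)
    let B₁ := B ⧸ J.map (algebraMap A B)
    have : Module.Flat (A ⧸ J) B₁ :=
      Module.Flat.of_linearEquiv (R := A ⧸ J) (M := TensorProduct A (A ⧸ J) B)
        (Algebra.TensorProduct.quotIdealMapEquivQuotTensor B J).toLinearEquiv
    let I₁ := I.map (Ideal.Quotient.mk J)
    have hI₁ : I₁ ^ (N + 1) = ⊥ := by rw [← Ideal.map_pow]; exact Ideal.map_quotient_self J
    have hJI : J ≤ I := Ideal.pow_le_self (by omega)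
    let K := I₁.map (algebraMap (A ⧸ J) B₁)
    have hK : K = (I.map (algebraMap A B)).map (Ideal.Quotient.mk (J.map (algebraMap A B))) := by
      rw [Ideal.map_map]
      change (I.map (Ideal.Quotient.mk J)).map (algebraMap (A ⧸ J) B₁) = _
      rw [Ideal.map_map]
      rfl
    let φ : B₁ ⧸ K ≃+* B ⧸ I.map (algebraMap A B) :=
      (Ideal.quotEquivOfEq hK).trans (DoubleQuot.quotQuotEquivQuotOfLE (Ideal.map_mono hJI))
    have hφ : ∀ b : B, φ (Ideal.Quotient.mk K (Ideal.Quotient.mk _ b)) = Ideal.Quotient.mk _ b := fun b => rfl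
    have hac₁ : Acyc (fun i => Ideal.Quotient.mk K (Ideal.Quotient.mk (J.map (algebraMap A B)) (f i))) := by
      have h := Groth.Agent.Lib.Synt92.CubeBase.acyc_flat_ringHom φ.symm.toRingHom
        (RingHom.Flat.of_bijective φ.symm.bijective) _ hac
      refine (congrArg Acyc (funext fun i => ?_)).mp h
      exact φ.symm_apply_eq.2 (hφ (f i)).symm
    let σ : (A ⧸ J) ⧸ I₁ ≃+* A ⧸ I := DoubleQuot.quotQuotEquivQuotOfLE hJI
    obtain ⟨h1, h2⟩ := ih (B := B₁) I₁ hI₁ (fun i => Ideal.Quotient.mk _ (f i)) Q (q.comp φ.toRingHom)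
      (hq.comp φ.surjective) (by
        rw [← RingHom.comap_ker, hker]
        have hm : Ideal.comap φ.toRingHom (Ideal.span (Set.range fun i =>
            Ideal.Quotient.mk (I.map (algebraMap A B)) (f i))) =
            (Ideal.span (Set.range fun i => Ideal.Quotient.mk (I.map (algebraMap A B)) (f i))).map φ.symm.toRingHom :=
          (Ideal.map_symm φ).symm
        refine hm.trans ?_
        rw [Ideal.map_span, ← Set.range_comp]
        exact congrArg _ (congrArg _ (funext fun i => φ.symm_apply_eq.2 (hφ (f i)).symm))) (by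
        have h := (RingHom.Flat.of_bijective (f := σ.toRingHom) σ.bijective).comp hflat
        convert h using 1
        refine Ideal.Quotient.ringHom_ext (Ideal.Quotient.ringHom_ext (RingHom.ext fun a => ?_))
        rfl) hac₁
    have hfl : Module.Flat (A ⧸ J) (B₁ ⧸ Ideal.span (Set.range fun i => Ideal.Quotient.mk (J.map (algebraMap A B)) (f i))) := h2
    exact ⟨Groth.Agent.Lib.NilKoszul.acyc J hJ f h1 hfl, Groth.Agent.Lib.NilKoszul.flat_quotient J hJ f h1 hfl⟩

theorem nakayama {R : Type u} [CommRing R] {M S J' : Ideal R} (hS : S ≤ J') (h1 : J' ≤ S ⊔ M * J')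
    {N : ℕ} (hN : M ^ N = ⊥) : J' = S := by
  have h2 : ∀ k : ℕ, J' ≤ S ⊔ M ^ k * J' := by
    intro k
    induction k with
    | zero => rw [pow_zero, one_mul]; exact le_sup_right
    | succ k ih =>
      refine ih.trans (sup_le le_sup_left ?_)
      refine (Ideal.mul_mono_right h1).trans ?_
      rw [Ideal.mul_sup, ← mul_assoc, ← pow_succ]
      exact sup_le (Ideal.mul_le_right.trans le_sup_left) le_sup_right
  have h3 := h2 N
  rw [hN, Ideal.bot_mul, sup_bot_eq] at h3
  exact le_antisymm h3 hS

theorem inf_le_smul {A B : Type u} [CommRing A] [CommRing B] [Algebra A B] (I : Ideal A) (J : Ideal B)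
    [Module.Flat A (B ⧸ J)] {m : B} (hm : m ∈ J) (hmI : m ∈ I.map (algebraMap A B)) :
    m ∈ I.map (algebraMap A B) * J := by
  obtain ⟨t, ht⟩ : ∃ t : Σ l : ℕ, (Fin l → A) × (Fin l → B),
      (∀ k, t.2.1 k ∈ I) ∧ m = ∑ k, algebraMap A B (t.2.1 k) * t.2.2 k := by
    rw [← Submodule.restrictScalars_mem A, ← Ideal.smul_top_eq_map] at hmI
    refine Submodule.smul_induction_on hmI (fun a ha c _ => ⟨⟨1, fun _ => a, fun _ => c⟩, fun _ => ha, by
      simp [Algebra.smul_def]⟩) ?_
    rintro x y ⟨⟨l, a, r⟩, ha, rfl⟩ ⟨⟨l', a', r'⟩, ha', rfl⟩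
    refine ⟨⟨l + l', Fin.append a a', Fin.append r r'⟩, fun k => ?_, ?_⟩
    · refine Fin.addCases (fun k => ?_) (fun k => ?_) k
      · simpa using ha k
      · simpa using ha' k
    · simp [Fin.sum_univ_add]
  obtain ⟨l, a, r⟩ := t
  obtain ⟨ha, rfl⟩ := ht
  have h0 : ∑ k, a k • (Ideal.Quotient.mk J (r k)) = 0 := by
    have h1 : Ideal.Quotient.mk J (∑ k, algebraMap A B (a k) * r k) = 0 := Ideal.Quotient.eq_zero_iff_mem.2 hm
    rw [map_sum] at h1
    refine (Finset.sum_congr rfl fun k _ => ?_).trans h1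
    rw [map_mul, Algebra.smul_def]
    rfl
  obtain ⟨p, c, y, hy, hc⟩ := Module.Flat.isTrivialRelation_of_sum_smul_eq_zero h0
  beta_reduce at hy
  choose z hz using fun j => Ideal.Quotient.mk_surjective (y j)
  have he : ∀ k, r k - ∑ j, algebraMap A B (c k j) * z j ∈ J := fun k => by
    rw [← Ideal.Quotient.eq_zero_iff_mem, map_sub, (hy k : Ideal.Quotient.mk J (r k) = _), map_sum, sub_eq_zero]
    refine Finset.sum_congr rfl fun j _ => ?_
    rw [map_mul, hz, Algebra.smul_def]
    rfl
  have hsum : ∑ k, algebraMap A B (a k) * r k =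
      ∑ k, algebraMap A B (a k) * (r k - ∑ j, algebraMap A B (c k j) * z j) := by
    have h2 : ∑ k, algebraMap A B (a k) * ∑ j, algebraMap A B (c k j) * z j = 0 := by
      simp only [Finset.mul_sum, ← mul_assoc, ← map_mul]
      rw [Finset.sum_comm]
      simp only [← Finset.sum_mul, ← map_sum, hc, map_zero, zero_mul, Finset.sum_const_zero]
    simp only [mul_sub, Finset.sum_sub_distrib, h2, sub_zero]
  rw [hsum]
  exact Ideal.sum_mem _ fun k _ => Ideal.mul_mem_mul (Ideal.mem_map_of_mem _ (ha k)) (he k)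

/-- Let A' be an Artinian local ring, I a proper ideal of A', A = A'/I, R' a Noetherian A'-algebra flat
over A' and R = R'/IR'. Let f₁, …, f_r ∈ R be a Koszul-regular sequence (its Koszul complex is
acyclic in nonzero degrees) such that R/(f₁, …, f_r) is flat over A. Then: (1) for every choice of
lifts f'₁, …, f'_r ∈ R' of the f_i, the quotient R'/(f'₁, …, f'_r) is flat over A' and f'₁, …, f'_r
is a Koszul-regular sequence in R'; (2) if J' ⊆ R' is an ideal with R'/J' flat over A' whose image
in R is the ideal (f₁, …, f_r), then J' is generated by any lifts f'₁, …, f'_r ∈ J' of the f_i. (The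
published statement takes R' = R₀ ⊗_Λ A' for a flat Λ-algebra R₀ and a surjection A' → A of Artinian
local Λ-algebras; this row assumes only that R' is Noetherian and flat over A' and that I is a
proper ideal, which is what its proof uses. Regularity of a sequence is taken there in every
localization at a prime containing the ideal it generates, which over a Noetherian ring is the
Koszul-acyclicity used in the proof and stated here.) -/
theorem result
    {A' : Type u} [CommRing A'] [IsLocalRing A'] [IsArtinianRing A'] (I : Ideal A') (hI : I ≠ ⊤)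
    {R' : Type u} [CommRing R'] [Algebra A' R'] [IsNoetherianRing R'] [Module.Flat A' R']
    (r : ℕ) (f : Fin r → R' ⧸ I.map (algebraMap A' R'))
    (hf : LCI.IsKoszulRegularSeq (R' ⧸ I.map (algebraMap A' R')) (List.ofFn f))
    [Module.Flat (A' ⧸ I) ((R' ⧸ I.map (algebraMap A' R')) ⧸ Ideal.span (Set.range f))] :
    (∀ f' : Fin r → R', (∀ i, Ideal.Quotient.mk (I.map (algebraMap A' R')) (f' i) = f i) →
        Module.Flat A' (R' ⧸ Ideal.span (Set.range f')) ∧ LCI.IsKoszulRegularSeq R' (List.ofFn f')) ∧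
    (∀ (J' : Ideal R'), Module.Flat A' (R' ⧸ J') →
        J'.map (Ideal.Quotient.mk (I.map (algebraMap A' R'))) = Ideal.span (Set.range f) →
        ∀ f' : Fin r → R', (∀ i, f' i ∈ J') →
          (∀ i, Ideal.Quotient.mk (I.map (algebraMap A' R')) (f' i) = f i) →
          J' = Ideal.span (Set.range f')) := by
  obtain ⟨N, hN⟩ : ∃ N : ℕ, I ^ (N + 1) = ⊥ := by
    obtain ⟨N, hN⟩ := (IsArtinianRing.isNilpotent_jacobson_bot (R := A'))
    refine ⟨N, eq_bot_iff.2 ?_⟩
    rw [IsLocalRing.jacobson_eq_maximalIdeal ⊥ bot_ne_top] at hN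
    refine le_trans (Ideal.pow_le_pow_right (Nat.le_succ N)) ?_
    exact (Ideal.pow_right_mono (IsLocalRing.le_maximalIdeal hI) N).trans hN.le
  have hflat : RingHom.Flat ((Ideal.Quotient.mk (Ideal.span (Set.range f))).comp
      (Ideal.quotientMap (I.map (algebraMap A' R')) (algebraMap A' R') Ideal.le_comap_map)) := by
    have h := RingHom.flat_algebraMap_iff.2 (inferInstance :
      Module.Flat (A' ⧸ I) ((R' ⧸ I.map (algebraMap A' R')) ⧸ Ideal.span (Set.range f)))
    convert h using 1
    exact Ideal.Quotient.ringHom_ext (RingHom.ext fun a => rfl)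
  refine ⟨fun f' hf' => ?_, fun J' hJ' hmap f' hf'J hf' => ?_⟩
  · have e : (fun i => Ideal.Quotient.mk (I.map (algebraMap A' R')) (f' i)) = f := funext hf'
    obtain ⟨h1, h2⟩ := lift N I hN f' _ (Ideal.Quotient.mk (Ideal.span (Set.range f)))
      Ideal.Quotient.mk_surjective (by rw [Ideal.mk_ker, e]) hflat
      (by rw [e]; exact Groth.Agent.Lib.Wiebe.Bridge.acyc_of_isKoszulRegularSeq f hf)
    exact ⟨h2, Groth.Agent.Lib.Synt92.CubeBase.isKoszulRegularSeq_of_acyc f' h1⟩
  · haveI := hJ'
    let M := I.map (algebraMap A' R')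
    let S := Ideal.span (Set.range f')
    have hS : S ≤ J' := Ideal.span_le.2 (by rintro _ ⟨i, rfl⟩; exact hf'J i)
    have h1 : J' ≤ S ⊔ M * J' := by
      intro x hx
      have hx' := Ideal.mem_map_of_mem (Ideal.Quotient.mk M) hx
      rw [hmap, show Ideal.span (Set.range f) = S.map (Ideal.Quotient.mk M) from by
        rw [Ideal.map_span, ← Set.range_comp]; exact congrArg _ (congrArg _ (funext hf').symm)] at hx'
      obtain ⟨y, hy, hye⟩ := (Ideal.mem_map_iff_of_surjective _ Ideal.Quotient.mk_surjective).1 hx'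
      have hm : x - y ∈ M * J' :=
        inf_le_smul I J' (sub_mem hx (hS hy)) (Ideal.Quotient.eq.1 hye.symm)
      simpa using add_mem (Ideal.mem_sup_left (T := M * J') hy) (Ideal.mem_sup_right (S := S) hm)
    exact nakayama hS h1 (show M ^ (N + 1) = ⊥ by rw [← Ideal.map_pow, hN, Ideal.map_bot])

end Groth.Agent.S13972
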