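import Groth.Statements.S13977
import Groth.Agent.H25.InfAut.Sheaf

set_option autoImplicit false
universe u
open CategoryTheory CategoryTheory.Limits AlgebraicGeometry
open Deform

namespace Groth.Agent.S13977

open Groth.Agent.H25.InfAut in
/-- Let k be a field, X₀ a locally Noetherian k-scheme and E₀ a quasi-coherent O_{X₀}-module. Let X_ε =
X₀ ×_k Spec k[ε] be the trivial first-order deformation, presented by a cartesian square with
projections q : X_ε → X₀ and p : X_ε → Spec k[ε], with the closed immersion i : X₀ → X_ε over ε = 0,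
a section of q, and let E_ε = q^*E₀ be the trivial lifting of E₀. Then the infinitesimal
automorphisms of E₀ — the O_{X_ε}-linear automorphisms of E_ε whose pullback along i is the identity
— form a group isomorphic to the additive group Hom_{O_{X₀}}(E₀, E₀): there is a bijection taking
composition to addition. -/
theorem result (k : Type u) [Field k]
    (X₀ : Scheme.{u}) [IsLocallyNoetherian X₀] (x : X₀ ⟶ Spec (CommRingCat.of k))
    (E₀ : X₀.Modules) (hE₀ : Coh.IsQCoh E₀)
    (Xε : Scheme.{u}) (q : Xε ⟶ X₀) (p : Xε ⟶ Spec (CommRingCat.of (DualNumber k)))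
    (hsq : IsPullback q p x (Spec.map (CommRingCat.ofHom (algebraMap k (DualNumber k)))))
    (i : X₀ ⟶ Xε) (hiq : i ≫ q = 𝟙 X₀)
    (hip : i ≫ p = x ≫ Spec.map (CommRingCat.ofHom (TrivSqZeroExt.fstHom k k k).toRingHom)) :
    ∃ e : {φ : (Scheme.Modules.pullback q).obj E₀ ≅ (Scheme.Modules.pullback q).obj E₀ //
            (Scheme.Modules.pullback i).map φ.hom = 𝟙 _} ≃ (E₀ ⟶ E₀),
      ∀ φ ψ χ : {φ : (Scheme.Modules.pullback q).obj E₀ ≅ (Scheme.Modules.pullback q).obj E₀ //
            (Scheme.Modules.pullback i).map φ.hom = 𝟙 _},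
        φ.1 ≪≫ ψ.1 = χ.1 → e χ = e φ + e ψ := by
  haveI : E₀.IsQuasicoherent := hE₀
  let P := Scheme.Modules.pullback q
  let Q := Scheme.Modules.pushforward q
  let I := Scheme.Modules.pullback i
  let adj := Scheme.Modules.pullbackPushforwardAdjunction q
  let s := mulEps q p E₀
  haveI := isIso_desc hsq E₀
  haveI : P.Additive := adj.left_adjoint_additive
  haveI : I.Additive := (Scheme.Modules.pullbackPushforwardAdjunction i).left_adjoint_additive
  haveI : Q.Additive := adj.right_adjoint_additive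
  have hs : I.map s = 0 := pullback_map_scal_eq_zero i _ _ (appTop_eps hip)
  have hcomm : ∀ f : E₀ ⟶ E₀, s ≫ P.map f = P.map f ≫ s := fun f =>
    scal_naturality (P.map f) (eps p)
  have hss : s ≫ s = 0 := by
    show Lib.CurveBundle.EndAlg.scalHom _ (eps p) * Lib.CurveBundle.EndAlg.scalHom _ (eps p) = 0
    rw [← map_mul, eps_mul_eps, map_zero]
  have hdecomp : ∀ ψ : P.obj E₀ ⟶ P.obj E₀, ∃ a b : E₀ ⟶ E₀, ψ = P.map a + P.map b ≫ s := by
    intro ψ
    let l := adj.homEquiv _ _ ψ ≫ inv (biprod.desc (η q E₀) (ηeps q p E₀))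
    refine ⟨l ≫ biprod.fst, l ≫ biprod.snd, (adj.homEquiv _ _).injective ?_⟩
    have h1 : adj.homEquiv _ _ ψ = l ≫ biprod.desc (η q E₀) (ηeps q p E₀) := by simp [l]
    have h2 : ∀ a b : E₀ ⟶ E₀, adj.homEquiv _ _ (P.map a + P.map b ≫ s) =
        a ≫ η q E₀ + b ≫ ηeps q p E₀ := by
      intro a b
      rw [Adjunction.homEquiv_unit]
      show η q E₀ ≫ Q.map (P.map a + P.map b ≫ s) = _
      rw [Functor.map_add, Preadditive.comp_add]
      refine congrArg₂ (· + ·) (adj.unit.naturality a).symm ?_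
      rw [Functor.map_comp, ← Category.assoc]
      refine (congrArg (· ≫ Q.map s) (adj.unit.naturality b).symm).trans ?_
      exact Category.assoc _ _ _
    rw [h1, h2, biprod.desc_eq, Preadditive.comp_add, ← Category.assoc, ← Category.assoc]
  have hinj : ∀ f : E₀ ⟶ E₀, P.map f ≫ s = 0 → f = 0 := by
    intro f hf
    have h0 := congrArg (fun m => adj.homEquiv _ _ m) hf
    simp only [Adjunction.homEquiv_unit, Functor.map_zero, comp_zero, Functor.map_comp] at h0
    have h1 : (biprod.lift 0 f) ≫ biprod.desc (η q E₀) (ηeps q p E₀) = 0 := by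
      rw [biprod.lift_desc, zero_comp, zero_add]
      refine Eq.trans ?_ h0
      rw [← Category.assoc]
      refine (congrArg (· ≫ Q.map s) (adj.unit.naturality f)).trans ?_
      exact Category.assoc _ _ _
    have h2 : biprod.lift (0 : E₀ ⟶ E₀) f = 0 := by
      rwa [← cancel_mono (biprod.desc (η q E₀) (ηeps q p E₀)), zero_comp]
    simpa using congrArg (· ≫ biprod.snd) h2
  let N : P ⋙ I ≅ 𝟭 X₀.Modules :=
    Scheme.Modules.pullbackComp i q ≪≫ Scheme.Modules.pullbackCongr hiq ≪≫ Scheme.Modules.pullbackId X₀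
  have hIP : ∀ a : E₀ ⟶ E₀, I.map (P.map a) = 0 → a = 0 := by
    intro a ha
    have h := N.hom.naturality a
    simp only [Functor.comp_map, Functor.id_map] at h
    rw [ha, zero_comp] at h
    rw [← cancel_epi (N.hom.app E₀), comp_zero]
    exact h.symm
  let M : (E₀ ⟶ E₀) → (P.obj E₀ ⟶ P.obj E₀) := fun f => P.map f ≫ s
  have hMM : ∀ f g : E₀ ⟶ E₀, M f ≫ M g = 0 := by
    intro f g
    show (P.map f ≫ s) ≫ P.map g ≫ s = 0
    rw [Category.assoc, ← Category.assoc s, hcomm, Category.assoc, hss, comp_zero, comp_zero]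
  have hMadd : ∀ f g : E₀ ⟶ E₀, M (f + g) = M f + M g := by
    intro f g; simp [M, Functor.map_add, Preadditive.add_comp]
  have hIM : ∀ f : E₀ ⟶ E₀, I.map (M f) = 0 := fun f => by
    show I.map (P.map f ≫ s) = 0
    rw [Functor.map_comp, hs, comp_zero]
  let G : (E₀ ⟶ E₀) → {φ : P.obj E₀ ≅ P.obj E₀ // I.map φ.hom = 𝟙 _} := fun f =>
    ⟨{ hom := 𝟙 _ + M f
       inv := 𝟙 _ - M f
       hom_inv_id := by
        simp [Preadditive.add_comp, Preadditive.comp_sub, hMM]
       inv_hom_id := by
        simp [Preadditive.sub_comp, Preadditive.comp_add, hMM] },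
      by rw [Functor.map_add, hIM, add_zero, CategoryTheory.Functor.map_id]⟩
  have hG : Function.Bijective G := by
    constructor
    · intro f g hfg
      have h : 𝟙 _ + M f = 𝟙 _ + M g := congrArg (fun t => t.1.hom) hfg
      have h' : P.map (f - g) ≫ s = 0 := by
        rw [Functor.map_sub, Preadditive.sub_comp, sub_eq_zero]
        exact add_left_cancel h
      exact sub_eq_zero.1 (hinj _ h')
    · intro φ
      obtain ⟨a, b, hab⟩ := hdecomp (φ.1.hom - 𝟙 _)
      have ha : a = 0 := hIP a (by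
        have h := congrArg (fun m => I.map m) hab
        simp only [Functor.map_sub, Functor.map_add, Functor.map_comp, hs, comp_zero, add_zero,
          CategoryTheory.Functor.map_id] at h
        rw [← h, sub_eq_zero]
        exact φ.2)
      refine ⟨b, Subtype.ext (Iso.ext ?_)⟩
      show 𝟙 _ + M b = φ.1.hom
      rw [eq_add_of_sub_eq hab, ha, Functor.map_zero, zero_add, add_comm]
  refine ⟨(Equiv.ofBijective G hG).symm, fun φ ψ χ h => ?_⟩
  obtain ⟨a, rfl⟩ := hG.2 φ
  obtain ⟨b, rfl⟩ := hG.2 ψ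
  obtain ⟨c, rfl⟩ := hG.2 χ
  simp only [Equiv.ofBijective_symm_apply_apply]
  have h1 : (𝟙 _ + M a) ≫ (𝟙 _ + M b) = 𝟙 _ + M c := congrArg Iso.hom h
  apply hG.1
  refine Subtype.ext (Iso.ext ?_)
  show 𝟙 _ + M c = 𝟙 _ + M (a + b)
  rw [← h1, hMadd]
  simp only [Preadditive.add_comp, Preadditive.comp_add, Category.id_comp, Category.comp_id, hMM]
  abel

end Groth.Agent.S13977
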