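import Groth.Statements.S13982
import Groth.Agent.H25.Morse.Degenerate
import Groth.Agent.H25.Morse.Singular

set_option autoImplicit false
set_option linter.style.haveILetI false
universe u
open CategoryTheory CategoryTheory.Limits AlgebraicGeometry
open Curves IsLocalRing

attribute [local instance] Curv2.stalkAlgebra

namespace Groth.Agent.S13982

open H25 H25.Morse

/-- The special fibre at `p` is a node. -/
theorem isNode_of_chart {Λ : Type u} [CommRing Λ] [IsLocalRing Λ] [IsNoetherianRing Λ] {u : Λ}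
    (hu : u ∈ maximalIdeal Λ) {X : Scheme.{u}} [IsLocallyNoetherian X]
    (f : X ⟶ Spec (CommRingCat.of Λ)) [LocallyOfFiniteType f] (p : X) (hp : f p = closedPoint Λ)
    (hch : letI := ((X.presheaf.germ ⊤ p trivial).hom.comp (Coh.toGlobal f)).toAlgebra
      Degenerate.HasChart (A := X.presheaf.stalk p) u) :
    @Curv2.IsNode ((Spec (CommRingCat.of Λ)).residueField (f p)) _ (f.fiber (f p))
      ⟨f.fiberToSpecResidueField (f p)⟩ (f.asFiber p) := by
  let S := Spec (CommRingCat.of Λ)
  letI : Algebra Λ (X.presheaf.stalk p) := ((X.presheaf.germ ⊤ p trivial).hom.comp (Coh.toGlobal f)).toAlgebra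
  let k := S.residueField (f p)
  let F := f.fiber (f p)
  letI : F.Over (Spec (CommRingCat.of k)) := ⟨f.fiberToSpecResidueField (f p)⟩
  haveI : LocallyOfFiniteType (F ↘ Spec (CommRingCat.of k)) :=
    inferInstanceAs (LocallyOfFiniteType (pullback.snd f (S.fromSpecResidueField (f p))))
  haveI : IsLocallyNoetherian F := LocallyOfFiniteType.isLocallyNoetherian (F ↘ Spec (CommRingCat.of k))
  obtain ⟨φ, hφ, hker, hcompat⟩ :=
    Node.FibreStalk.exists_stalkHom f (f p) (f.asFiber p) p (f.fiberι_asFiber p) rfl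
  let R' := S.presheaf.stalk (f p)
  haveI : ((f p).asIdeal : Ideal Λ).IsPrime := PrimeSpectrum.isPrime (R := Λ) (f p)
  letI : Algebra Λ R' := (StructureSheaf.toStalk Λ (f p)).hom.toAlgebra
  haveI : IsLocalization.AtPrime R' (f p).asIdeal := StructureSheaf.IsLocalization.to_stalk Λ (f p)
  have hmax : maximalIdeal R' = (maximalIdeal Λ).map (algebraMap Λ R') := by
    have h1 : ((f p).asIdeal : Ideal Λ) = maximalIdeal Λ := congrArg PrimeSpectrum.asIdeal hp
    exact (IsLocalization.AtPrime.map_eq_maximalIdeal ((f p).asIdeal : Ideal Λ) R').symm.trans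
      (congrArg (Ideal.map (algebraMap Λ R')) h1)
  have hA : ∀ c : Λ, (f.stalkMap p).hom (algebraMap Λ R' c) = algebraMap Λ (X.presheaf.stalk p) c := by
    intro c
    show (f.stalkMap p).hom ((S.presheaf.germ ⊤ (f p) trivial).hom ((Scheme.ΓSpecIso (CommRingCat.of Λ)).inv c)) = _
    exact Scheme.Hom.germ_stalkMap_apply f ⊤ p trivial _
  have hnod : Node.IsNodal (F.presheaf.stalk (f.asFiber p)) := by
    refine Degenerate.isNodal_special hch hu φ hφ ?_
    rw [hker, hmax, Ideal.map_map]
    exact congrArg (fun ψ => (maximalIdeal Λ).map ψ) (RingHom.ext hA)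
  have hsurj : Function.Surjective (Curv2.resMap k F (f.asFiber p)) := by
    intro β
    obtain ⟨β, rfl⟩ := IsLocalRing.residue_surjective β
    obtain ⟨α, rfl⟩ := hφ β
    obtain ⟨c, hc⟩ := Degenerate.exists_residue hch α
    refine ⟨(S.residue (f p)).hom (algebraMap Λ R' c), ?_⟩
    show IsLocalRing.residue _ (Curv2.stalkMap k F (f.asFiber p) _) = IsLocalRing.residue _ (φ α)
    rw [hcompat]
    simp only [TopCat.Presheaf.stalkSpecializes_refl, CommRingCat.id_apply]
    rw [hA, eq_comm, ← sub_eq_zero, ← map_sub, ← map_sub, residue_eq_zero_iff]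
    haveI : IsLocalHom φ := IsLocalHom.of_surjective φ hφ
    exact map_maximalIdeal_le φ (Ideal.mem_map_of_mem φ hc)
  refine (Node.Sch.isNode_iff k F _).2 ⟨?_, ⟨fun β => ?_⟩, hnod⟩
  · exact (Node.Sch.isClosed_iff k F _).2 (RingHom.Finite.of_surjective _ hsurj)
  · obtain ⟨c, rfl⟩ := hsurj β
    exact isSeparable_algebraMap c

/-- The implication its proof establishes. Let Λ be a complete Noetherian local ring of Krull dimension
1 and u ∈ Λ an element whose radical ideal is the maximal ideal (a system of parameters). Let f : X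
→ Spec Λ be proper and flat with X locally Noetherian, and let P be a finite set of points of X over
the closed point of Spec Λ such that: (a) at every point of the closed fibre outside P the morphism
f is smooth of relative dimension 1 on an open neighbourhood (the closed fibre is a curve, smooth
away from P), and (b) for every p ∈ P the completion of the local ring O_{X,p} is isomorphic,
compatibly with the maps from Λ, to Λ[[x, y]]/(xy − u) (p is a node of the closed fibre deformed by
the parameter u). Then f is smooth of relative dimension 1 on an open neighbourhood of every point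
of X that does not lie over the closed point. (The published statement asserts that a flat
projective family over Λ with a prescribed projective nodal closed fibre exists and that it is
smooth over the punctured spectrum away from the closed fibre; this row states the smoothness
implication for a given proper flat family, with smoothness of the closed fibre away from P put on
f, which for flat f is equivalent to smoothness of the fibre there.) -/
theorem result
    (Λ : Type u) [CommRing Λ] [IsLocalRing Λ] [IsNoetherianRing Λ]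
    [IsAdicComplete (IsLocalRing.maximalIdeal Λ) Λ] (hdim : ringKrullDim Λ = 1)
    (u : Λ) (hu : (Ideal.span {u}).radical = IsLocalRing.maximalIdeal Λ)
    (X : Scheme.{u}) [IsLocallyNoetherian X] (f : X ⟶ Spec (CommRingCat.of Λ)) [IsProper f] [Flat f]
    (P : Finset X) (hP : ∀ p ∈ P, f.base p = IsLocalRing.closedPoint Λ)
    (hsm : ∀ q : X, f.base q = IsLocalRing.closedPoint Λ → q ∉ P →
      ∃ U : X.Opens, q ∈ U ∧ SmoothOfRelativeDimension 1 (U.ι ≫ f))
    (hnode : ∀ p ∈ P, ∃ e : AdicCompletion (IsLocalRing.maximalIdeal (X.presheaf.stalk p)) (X.presheaf.stalk p) ≃+*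
        (MvPowerSeries (Fin 2) Λ ⧸ Ideal.span {MvPowerSeries.X 0 * MvPowerSeries.X 1 - MvPowerSeries.C u}),
      ∀ c : Λ, e (algebraMap (X.presheaf.stalk p) _ (((X.presheaf.germ ⊤ p trivial).hom.comp (Coh.toGlobal f)) c)) =
        Ideal.Quotient.mk _ (MvPowerSeries.C c)) :
    ∀ q : X, f.base q ≠ IsLocalRing.closedPoint Λ →
      ∃ U : X.Opens, q ∈ U ∧ SmoothOfRelativeDimension 1 (U.ι ≫ f) := by
  intro q hq
  obtain ⟨x, hqx, hfx⟩ : ∃ x : X, q ⤳ x ∧ f x = closedPoint Λ := by
    have h1 : closedPoint Λ ∈ closure ({f q} : Set (Spec (CommRingCat.of Λ) :)) :=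
      specializes_iff_mem_closure.1 (IsLocalRing.specializes_closedPoint (R := Λ) (f q))
    rw [← Set.image_singleton] at h1
    rw [f.isClosedMap.closure_image_eq_of_continuous f.continuous] at h1
    obtain ⟨x, hx, hfx⟩ := h1
    exact ⟨x, specializes_iff_mem_closure.2 hx, hfx⟩
  by_cases hxP : x ∉ P
  · obtain ⟨U, hxU, hU⟩ := hsm x hfx hxP
    exact ⟨U, hqx.mem_open U.2 hxU, hU⟩
  haveI : LocallyOfFinitePresentation f := LocallyOfFinitePresentation.iff_locallyOfFiniteType.2 inferInstance
  have hum : u ∈ maximalIdeal Λ := hu ▸ Ideal.le_radical (Ideal.mem_span_singleton_self u)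
  obtain ⟨W, hxW, hW⟩ := NodeOpen.of_node f x (isNode_of_chart hum f x hfx (hnode x (not_not.1 hxP)))
  have hqW : q ∈ W := hqx.mem_open W.2 hxW
  let g := W.ι ≫ f
  let Y : Scheme.{u} := W
  let x' : Y := ⟨x, hxW⟩
  let q' : Y := ⟨q, hqW⟩
  have hqx' : q' ⤳ x' := W.ι.isOpenEmbedding.isInducing.specializes_iff.1 hqx
  haveI := hW.1
  haveI := hW.2.1
  have hnot : q' ∉ (Fitt.sheafIdeal (Omega.sheaf g) 1).support := by
    intro hsup
    obtain ⟨U, hU, hxU, -⟩ := exists_isAffineOpen_mem_and_subset (X := Y) (x := x') (U := ⊤) trivial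
    have hqU : q' ∈ U := hqx'.mem_open U.2 hxU
    have eU : U ≤ g ⁻¹ᵁ ⊤ := fun _ _ => trivial
    have hI := Singular.ideal_omega g (isAffineOpen_top _) hU eU 1
    let B := Γ(Y, U)
    let χ : CommRingCat.of Λ ⟶ Γ(Y, U) := (Scheme.ΓSpecIso (CommRingCat.of Λ)).inv ≫ g.appLE ⊤ U eU
    letI : Algebra Λ B := χ.hom.toAlgebra
    letI : Algebra Γ(Spec (CommRingCat.of Λ), ⊤) B := (g.appLE ⊤ U eU).hom.toAlgebra
    have hfin : (g.appLE ⊤ U eU).hom.FiniteType :=
      HasRingHomProperty.appLE @LocallyOfFiniteType g inferInstance ⟨⊤, isAffineOpen_top _⟩ ⟨U, hU⟩ eU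
    haveI : Algebra.FiniteType Λ B :=
      hfin.comp (RingHom.FiniteType.of_surjective (Scheme.ΓSpecIso (CommRingCat.of Λ)).inv.hom
        (ConcreteCategory.bijective_of_isIso _).2)
    let A := X.presheaf.stalk x
    let A' := Y.presheaf.stalk x'
    letI : Algebra B A' := Y.presheaf.algebra_section_stalk ⟨x', hxU⟩
    let P₀ := hU.primeIdealOf ⟨x', hxU⟩
    let P₁ := hU.primeIdealOf ⟨q', hqU⟩
    haveI hlA' : IsLocalization.AtPrime A' P₀.asIdeal := hU.isLocalization_stalk ⟨x', hxU⟩
    let σ : A ≃+* A' := (asIso (W.ι.stalkMap x')).commRingCatIsoToRingEquiv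
    letI : Algebra B A := (σ.symm.toRingHom.comp (algebraMap B A')).toAlgebra
    let σ' : A' ≃ₐ[B] A := AlgEquiv.ofRingEquiv (f := σ.symm) fun _ => rfl
    haveI : IsLocalization.AtPrime A P₀.asIdeal := IsLocalization.isLocalization_of_algEquiv _ σ'
    letI : Algebra Λ A := ((X.presheaf.germ ⊤ x trivial).hom.comp (Coh.toGlobal f)).toAlgebra
    haveI : IsScalarTower Λ B A := IsScalarTower.of_algebraMap_eq fun c => by
      apply σ.injective
      refine Eq.trans ?_ (σ.apply_symm_apply _).symm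
      show (W.ι.stalkMap x').hom ((X.presheaf.germ ⊤ x trivial).hom (Coh.toGlobal f c)) =
        (Y.presheaf.germ U x' hxU).hom (χ.hom c)
      erw [Scheme.Hom.germ_stalkMap_apply W.ι ⊤ x' trivial]
      show _ = (χ ≫ Y.presheaf.germ U x' hxU).hom c
      rw [show χ ≫ Y.presheaf.germ U x' hxU = (Scheme.ΓSpecIso (CommRingCat.of Λ)).inv ≫
        f.appTop ≫ W.ι.appTop ≫ Y.presheaf.germ ⊤ x' trivial by
        simp only [χ, g, Scheme.Hom.appLE, Category.assoc]
        show _ ≫ (W.ι ≫ f).app ⊤ ≫ (Y.presheaf.map (homOfLE eU).op ≫ Y.presheaf.germ U x' hxU) = _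
        rw [Y.presheaf.germ_res]
        rfl]
      rfl
    haveI : Algebra.EssFiniteType B A := Algebra.EssFiniteType.of_isLocalization A P₀.asIdeal.primeCompl
    haveI : Algebra.EssFiniteType Λ A := Algebra.EssFiniteType.comp Λ B A
    haveI : Algebra.FormallyEtale B A := Algebra.FormallyEtale.of_isLocalization P₀.asIdeal.primeCompl
    have hle : P₁.asIdeal ≤ P₀.asIdeal := by
      refine (PrimeSpectrum.le_iff_specializes P₁ P₀).2 (hU.fromSpec.isOpenEmbedding.isInducing.specializes_iff.1 ?_)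
      rwa [hU.fromSpec_primeIdealOf, hU.fromSpec_primeIdealOf]
    have hdis : Disjoint (P₀.asIdeal.primeCompl : Set B) P₁.asIdeal :=
      Set.disjoint_left.2 fun b hb hb' => hb (hle hb')
    let Q : Ideal A := P₁.asIdeal.map (algebraMap B A)
    haveI : Q.IsPrime := IsLocalization.isPrime_of_isPrime_disjoint P₀.asIdeal.primeCompl A _ inferInstance hdis
    have hQ : Q.comap (algebraMap B A) = P₁.asIdeal :=
      IsLocalization.comap_map_of_isPrime_disjoint P₀.asIdeal.primeCompl A inferInstance hdis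
    haveI : Algebra.FiniteType Γ(Spec (CommRingCat.of Λ), ⊤) B := hfin
    letI : Algebra Λ Γ(Spec (CommRingCat.of Λ), ⊤) :=
      (Scheme.ΓSpecIso (CommRingCat.of Λ)).inv.hom.toAlgebra
    haveI : IsScalarTower Λ Γ(Spec (CommRingCat.of Λ), ⊤) B := IsScalarTower.of_algebraMap_eq fun _ => rfl
    haveI : Subsingleton Ω[Γ(Spec (CommRingCat.of Λ), ⊤)⁄Λ] :=
      KaehlerDifferential.subsingleton_of_surjective Λ _
        (ConcreteCategory.bijective_of_isIso (Scheme.ΓSpecIso (CommRingCat.of Λ)).inv).2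
    have hbij : Function.Bijective (KaehlerDifferential.map Λ Γ(Spec (CommRingCat.of Λ), ⊤) B B) := by
      refine ⟨fun a b h => sub_eq_zero.1 ?_, KaehlerDifferential.map_surjective _ _ _⟩
      obtain ⟨z, hz⟩ := (KaehlerDifferential.exact_mapBaseChange_map Λ Γ(Spec (CommRingCat.of Λ), ⊤) B (a - b)).1
        (by rw [map_sub, h, sub_self])
      rw [← hz, Subsingleton.elim z 0, map_zero]
    have hfitt : Fitt.ideal B Ω[B⁄Λ] 1 ≤ P₁.asIdeal := by
      intro b hb
      have h1 : q' ∈ (Y.zeroLocus (U := U) ((Fitt.sheafIdeal (Omega.sheaf g) 1).ideal ⟨U, hU⟩) : Set Y) :=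
        (((Fitt.sheafIdeal (Omega.sheaf g) 1).coe_support_inter ⟨U, hU⟩).le ⟨hsup, hqU⟩).1
      have h2 : b ∈ (Fitt.sheafIdeal (Omega.sheaf g) 1).ideal ⟨U, hU⟩ := by
        rw [hI]
        exact (H25.Fitting.ideal_congr (LinearEquiv.ofBijective _ hbij) 1).le hb
      by_contra hb'
      refine (Scheme.mem_zeroLocus_iff (X := Y) _ q').1 h1 b h2 ?_
      have h3 : hU.fromSpec P₁ ∈ Y.basicOpen b := by
        show P₁ ∈ hU.fromSpec ⁻¹ᵁ Y.basicOpen b
        rw [hU.fromSpec_preimage_basicOpen]
        exact hb'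
      rwa [hU.fromSpec_primeIdealOf ⟨q', hqU⟩] at h3
    have hQ1 : Fitt.ideal A Ω[A⁄Λ] 1 ≤ Q := by
      rw [H25.Fitting.ideal_congr (KaehlerDifferential.tensorKaehlerEquivOfFormallyEtale Λ B A).symm 1,
        H25.Fitting.ideal_baseChange (R' := A) 1]
      exact Ideal.map_mono hfitt
    have huQ := Degenerate.param_mem (hnode x (not_not.1 hxP)) Q hQ1
    rw [IsScalarTower.algebraMap_apply Λ B A, ← Ideal.mem_comap, hQ] at huQ
    refine hq ?_
    have h1 : f q = Spec.map χ P₁ := by
      show g q' = _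
      refine (congrArg g (hU.fromSpec_primeIdealOf ⟨q', hqU⟩)).symm.trans ?_
      show (hU.fromSpec ≫ g) P₁ = _
      rw [← (isAffineOpen_top _).SpecMap_appLE_fromSpec g hU eU, IsAffineOpen.fromSpec_top,
        Scheme.isoSpec_Spec_inv, ← Spec.map_comp]
    have h2 : u ∈ (f q).asIdeal := by rw [h1]; exact huQ
    refine PrimeSpectrum.ext ((IsLocalRing.maximalIdeal.isMaximal Λ).eq_of_le
      (PrimeSpectrum.isPrime (R := Λ) (f q)).ne_top ?_).symm
    rw [← hu]
    exact (Ideal.IsRadical.radical_le_iff (PrimeSpectrum.isPrime (R := Λ) (f q)).isRadical).2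
      ((Ideal.span_singleton_le_iff_mem _).2 h2)
  obtain ⟨V, hqV, hV⟩ : ∃ V : Y.Opens, q' ∈ V ∧ Smooth (V.ι ≫ g) := by
    by_contra hc
    exact hnot ((Lib.FittSheaf.omega_support_iff g 1 (fun s => by exact_mod_cast (hW.2.2 s).1) q').2 hc)
  have hsmooth : q' ∈ g.smoothLocus := by
    rw [← Scheme.Hom.smoothLocus_eq_top_iff, ← Scheme.Hom.preimage_smoothLocus_eq] at hV
    exact (hV.symm ▸ trivial : (⟨q', hqV⟩ : V) ∈ V.ι ⁻¹ᵁ g.smoothLocus)
  obtain ⟨n, O, hqO, hn⟩ := Locus.exists_relDim g hsmooth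
  have hOn : Curv2.IsNodalFamily (O.ι ≫ g) := S1592.result g hW O.ι
  haveI : SmoothOfRelativeDimension n ((O.ι ≫ g).fiberToSpecResidueField (g q')) :=
    (smoothOfRelativeDimension_isStableUnderBaseChange n).of_isPullback
      (IsPullback.of_hasPullback (O.ι ≫ g) _) hn
  obtain rfl : n = 1 := RelDim.eq_one ((Spec (CommRingCat.of Λ)).residueField (g q')) ((O.ι ≫ g).fiber (g q'))
    ((O.ι ≫ g).fiberToSpecResidueField (g q')) n
    (hOn.2.2 (g q')).1 ((O.ι ≫ g).asFiber ⟨q', hqO⟩)
  let j := O.ι ≫ W.ι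
  refine ⟨j.opensRange, ⟨⟨q', hqO⟩, rfl⟩, ?_⟩
  rw [← Scheme.Hom.isoOpensRange_inv_comp j, Category.assoc, Category.assoc]
  haveI := hn
  have := smoothOfRelativeDimension_comp 0 1 j.isoOpensRange.inv (O.ι ≫ g)
  simpa [g] using this

end Groth.Agent.S13982
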