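import Groth.Statements.S13985


set_option autoImplicit false
universe u
open CategoryTheory
open CohGab

namespace Groth.Agent.S13985

/-- For a ring A, the canonical map from the centre of A to the centre of the category of finitely
generated left A-modules (the endomorphism ring of its identity functor), sending a to
multiplication by a, is bijective: every natural endomorphism of the identity functor acts on each
finitely generated module as multiplication by a unique element of A, and that element is central.
(The published statement calls this map an isomorphism of commutative rings; this row states its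
bijectivity.) -/
theorem result (A : Type u) [Ring A]
    (φ : 𝟭 (FGModuleCat.{u} A) ⟶ 𝟭 (FGModuleCat.{u} A)) :
    ∃! a : A, a ∈ Subring.center A ∧
      ∀ (M : FGModuleCat.{u} A) (x : M), (φ.app M).hom.hom x = a • x := by
  let A₀ : FGModuleCat.{u} A := FGModuleCat.of A A
  let a : A := (φ.app A₀).hom.hom (1 : A)
  have key : ∀ (M : FGModuleCat.{u} A) (x : M), (φ.app M).hom.hom x = a • x := by
    intro M x
    let t : A₀ ⟶ M := FGModuleCat.ofHom (LinearMap.toSpanSingleton A M x)
    have h := congrArg (fun f : A₀ ⟶ M => f.hom.hom (1 : A)) (φ.naturality t)
    have h' : (φ.app M).hom.hom ((1 : A) • x) = a • x := h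
    rwa [one_smul] at h'
  refine ⟨a, ⟨?_, key⟩, ?_⟩
  · rw [Subring.mem_center_iff]
    intro b
    have h := key A₀ b
    have h2 : (φ.app A₀).hom.hom (b : A₀) = b • a := by
      have := (φ.app A₀).hom.hom.map_smul b (1 : A)
      rw [show (b • (1 : A) : A) = b from mul_one b] at this
      exact this
    exact h2.symm.trans h
  · rintro a' ⟨-, ha'⟩
    have h := ha' A₀ (1 : A)
    exact (mul_one a').symm.trans h.symm

end Groth.Agent.S13985
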