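import Groth.Statements.S13986
import Groth.Agent.H52.DevSummand
import Groth.Agent.Lib.KRes.CohP

set_option autoImplicit false
universe u
open Groth.Agent.Lib Groth.Agent.Lib.Modules.StalkModule Groth.Agent.Lib.Devissage.Basic Groth.Agent.H52.DevSummand
open CategoryTheory.Limits
open CategoryTheory AlgebraicGeometry
open CohGab

namespace Groth.Agent.S13986

/-- Let X be a Noetherian scheme and F, E coherent O_X-modules. Then E lies in the smallest Serre
subcategory of Coh(X) containing F — that is, E has every property P of O_X-modules such that P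
holds for F and P is a Serre class on coherent modules (for a short exact sequence of coherent
modules the middle term has P iff both outer terms do) — if and only if Supp(E) ⊆ Supp(F).
Equivalently: for a closed subset Z, the coherent modules supported in Z form the Serre subcategory
generated by any coherent module whose support is exactly Z. (The published statement is about
coherent sheaves twisted by a class in the second etale cohomology group of the units of the
structure sheaf; this row is its case of the trivial class, ordinary coherent sheaves.) -/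
theorem result (X : Scheme.{u}) [IsNoetherian X]
    (F E : X.Modules) (hF : Coh.IsCoh F) (hE : Coh.IsCoh E) :
    (∀ P : ObjectProperty X.Modules, P F →
      (∀ S : ShortComplex X.Modules, S.ShortExact → Coh.IsCoh S.X₁ → Coh.IsCoh S.X₂ →
        Coh.IsCoh S.X₃ → (P S.X₂ ↔ P S.X₁ ∧ P S.X₃)) → P E) ↔
    CohB1.support E ⊆ CohB1.support F := by
  constructor
  · intro h
    refine h (fun M => CohB1.support M ⊆ CohB1.support F) subset_rfl fun S hS _ _ _ => ?_
    rw [Groth.Agent.Lib.Modules.Support.support_eq_union_of_shortExact hS]
    exact Set.union_subset_iff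
  · intro hsupp P hPF hP
    haveI := hE.2
    have hz : ∀ M : X.Modules, IsZero M → P M := fun M hM => by
      have hMc : Coh.IsCoh M := Groth.Agent.Lib.KRes.CohP.isCoh_of_isZero X hM
      exact ((hP (ShortComplex.mk (0 : M ⟶ F) (𝟙 F) zero_comp)
        (ShortComplex.ShortExact.mk' ((ShortComplex.exact_iff_mono _ rfl).mpr inferInstance)
          ⟨fun _ _ _ => hM.eq_of_tgt _ _⟩ inferInstance) hMc hF hF).mp hPF).1
    have hthick : Groth.Agent.Lib.ProperFin.Devissage.Thick (CohB1.support E) (fun M => P M) :=
      ⟨hz, fun S hS a b c => ⟨fun h1 h3 => (hP S hS a.1 b.1 c.1).mpr ⟨h1, h3⟩,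
        fun h2 _ => ((hP S hS a.1 b.1 c.1).mp h2).1, fun _ h2 => ((hP S hS a.1 b.1 c.1).mp h2).2⟩⟩
    refine devissage' _ ⟨CohB1.support E, Groth.Agent.Lib.Modules.Support.isClosed_support E⟩ hthick
      (fun y hy small => ?_) E ⟨hE, subset_rfl⟩
    obtain ⟨B, hB, hBy⟩ := Groth.Agent.Lib.Devissage.Closure.exists_generator y
    haveI := hF.2
    haveI := Groth.Agent.Lib.Modules.GenStalk.finite_stalk F y
    haveI : Nontrivial (F.presheaf.stalk y) := not_subsingleton_iff_nontrivial.mp (hsupp hy)
    obtain ⟨φ, hφ, hBnil⟩ := exists_surjective_residue (R := X.presheaf.stalk y)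
      (M := F.presheaf.stalk y) (N := B.presheaf.stalk y) hBy
    obtain ⟨M, α, β, hM, hαy, hβy, -⟩ := bridge hF hB.1 y φ hφ hBnil
    obtain ⟨I, e, i, _, _, hI, hk, hc, -, ⟨cα⟩⟩ := exists_two_ses α hF hM
    have hPI : P I := ((hP _ (exists_ses_epi e) hk hF hI.1).mp hPF).2
    have hPM : P M := (hP _ (exists_ses_mono i) hI.1 hM.1 hc.1).mpr ⟨hPI, small _ hc
      (Groth.Agent.Lib.Modules.Support.support_congr cα ▸ not_mem_support_cokernel α hαy)⟩
    exact ⟨B, hB, hBy, (iff_of_bijective (hthick.mono
      (closure_minimal (Set.singleton_subset_iff.mpr hy)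
        (Groth.Agent.Lib.Modules.Support.isClosed_support E))) small β hB hM hβy).mpr hPM⟩

end Groth.Agent.S13986
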