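import Groth.Statements.S13987
import Groth.Agent.Lib.CohDelta.CohQuot.Loc
import Groth.Agent.Lib.CohDelta.IdealMul.DevTools
import Groth.Agent.Lib.QCoh.Pushforward

set_option autoImplicit false
universe u
open CategoryTheory CategoryTheory.Limits AlgebraicGeometry
open CohGab

namespace Groth.Agent.S13987

open Groth.Agent.Lib Groth.Agent.Lib.Modules.StalkModule Groth.Agent.Lib.CohDelta.IdealMul
open Groth.Agent.Lib.CohDelta.IdealMul.Sec
open Opposite TopologicalSpace

set_option linter.style.haveILetI false

variable {X : Scheme.{u}}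

theorem stalkMap_eq_zero {U : X.Opens} {A B : X.Modules} (f : A ⟶ B)
    (h : (Scheme.Modules.restrictFunctor U.ι).map f = 0) {x : X} (hx : x ∈ U)
    (v : A.presheaf.stalk x) : stalkMapₗ f x v = 0 := by
  let z : (U : Scheme.{u}) := ⟨x, hx⟩
  let e := Modules.Local.restrictStalkIso U.ι z
  have h0 : (Modules.Stalk.stalkFunctor X (U.ι z)).map f = 0 := by
    refine (cancel_epi (e.hom.app A)).mp ((e.hom.naturality f).symm.trans ?_)
    rw [comp_zero]
    show (Modules.Stalk.stalkFunctor (U : Scheme.{u}) z).map
      ((Scheme.Modules.restrictFunctor U.ι).map f) ≫ _ = 0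
    rw [h, Functor.map_zero, zero_comp]
  exact ConcreteCategory.congr_hom h0 v

theorem isIso_iff {U : X.Opens} {A B : X.Modules} (f : A ⟶ B) :
    IsIso ((Scheme.Modules.restrictFunctor U.ι).map f) ↔
      CohB1.support (kernel f) ⊆ (↑U : Set X)ᶜ ∧ CohB1.support (cokernel f) ⊆ (↑U : Set X)ᶜ := by
  constructor
  · intro h
    exact ⟨fun x hx hxU => Groth.Agent.H52.DevSummand.not_mem_support_kernel f
        (Main.stalkMap_bijective f hxU).1 hx,
      fun x hx hxU => Groth.Agent.H52.DevSummand.not_mem_support_cokernel f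
        (Main.stalkMap_bijective f hxU).2 hx⟩
  · rintro ⟨hk, hc⟩
    refine DevExt.isIso_restrict f fun x hx => ⟨(injective_iff_map_eq_zero _).mpr fun v hv => ?_,
      fun w => ?_⟩
    · obtain ⟨k, rfl⟩ := Groth.Agent.H52.DevSummand.eq_stalk_kernel f v hv
      have hs : Subsingleton ((kernel f).presheaf.stalk x) :=
        Modules.Support.not_mem_support_iff.mp fun h => hk h hx
      rw [Subsingleton.elim k 0, map_zero]
    · have hs : Subsingleton ((cokernel f).presheaf.stalk x) :=
        Modules.Support.not_mem_support_iff.mp fun h => hc h hx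
      have hex := (Modules.Stalk.exact_iff_stalk _).mp (ShortComplex.exact_cokernel f) x
      rw [ShortComplex.ab_exact_iff] at hex
      obtain ⟨a, ha⟩ := hex w (@Subsingleton.elim _ hs _ _)
      exact ⟨a, ha⟩

/-- Let X be a Noetherian scheme, Z ⊆ X a closed subset and U = X ∖ Z. Then restriction to U induces an
equivalence between the quotient abelian category Coh(X)/Coh_Z(X) (coherent modules modulo those
supported in Z) and Coh(U): the restriction functor Coh(X) ⥤ Coh(U) is a localization functor for
the class of morphisms of coherent O_X-modules whose kernel and cokernel (taken in O_X-modules) have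
support contained in Z. The hypothesis that restriction to U preserves coherence always holds and is
carried only to form the functor between the full subcategories. (The published statement is about
coherent sheaves twisted by a class in the second etale cohomology group of the units of the
structure sheaf; this row is its case of the trivial class, ordinary coherent sheaves.) -/
theorem result (X : Scheme.{u}) [IsNoetherian X]
    (U : X.Opens)
    (hres : ∀ M : X.Modules, Coh.IsCoh M → Coh.IsCoh ((Scheme.Modules.restrictFunctor U.ι).obj M)) :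
    (ObjectProperty.lift (fun N : (↑U : Scheme.{u}).Modules => Coh.IsCoh N)
        (ObjectProperty.ι (fun M : X.Modules => Coh.IsCoh M) ⋙ Scheme.Modules.restrictFunctor U.ι)
        (fun M => hres M.obj M.property)).IsLocalization
      (fun (A B : ObjectProperty.FullSubcategory (fun M : X.Modules => Coh.IsCoh M)) (f : A ⟶ B) =>
        CohB1.support (kernel f.hom) ⊆ (↑U : Set X)ᶜ ∧
          CohB1.support (cokernel f.hom) ⊆ (↑U : Set X)ᶜ) := by
  let R := Scheme.Modules.restrictFunctor U.ι
  let L := ObjectProperty.lift (fun N : (↑U : Scheme.{u}).Modules => Coh.IsCoh N)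
    (ObjectProperty.ι (fun M : X.Modules => Coh.IsCoh M) ⋙ R) (fun M => hres M.obj M.property)
  haveI : L.Additive := ⟨fun {A B f g} => ObjectProperty.hom_ext _ (R.map_add)⟩
  have hW : (fun (A B : ObjectProperty.FullSubcategory (fun M : X.Modules => Coh.IsCoh M)) (f : A ⟶ B) =>
      CohB1.support (kernel f.hom) ⊆ (↑U : Set X)ᶜ ∧
        CohB1.support (cokernel f.hom) ⊆ (↑U : Set X)ᶜ) = Lib.CohDelta.CohQuot.Loc.W L := by
    funext A B f
    refine propext ((isIso_iff f.hom).symm.trans ⟨fun h => ?_, fun h => ?_⟩)
    · haveI : IsIso ((ObjectProperty.ι _).map (L.map f)) := h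
      exact isIso_of_reflects_iso _ (ObjectProperty.ι (fun N : (↑U : Scheme.{u}).Modules => Coh.IsCoh N))
    · haveI : IsIso (L.map f) := h
      exact Functor.map_isIso (ObjectProperty.ι (fun N : (↑U : Scheme.{u}).Modules => Coh.IsCoh N))
        (L.map f)
  let I := Scheme.IdealSheafData.vanishingIdeal (X := X) ⟨(U : Set X)ᶜ, U.2.isClosed_compl⟩
  have hI : (U : Set X) = (I.support : Set X)ᶜ := by
    rw [Scheme.IdealSheafData.coe_support_vanishingIdeal]
    exact (compl_compl _).symm
  haveI : L.EssSurj := by
    refine ⟨fun G => ?_⟩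
    haveI : G.obj.IsQuasicoherent := G.property.1
    haveI : CompactSpace (U : Scheme.{u}) :=
      isCompact_iff_compactSpace.mp (TopologicalSpace.NoetherianSpace.isCompact (U : Set X))
    haveI : NoetherianSpace (U : Scheme.{u}) :=
      Topology.IsInducing.noetherianSpace U.ι.isOpenEmbedding.isInducing
    haveI : QuasiCompact U.ι :=
      ⟨fun V _ _ => NoetherianSpace.isCompact _⟩
    haveI : ((Scheme.Modules.pushforward U.ι).obj G.obj).IsQuasicoherent :=
      QCoh.Pushforward.isQCoh_pushforward U.ι (M := G.obj)
    obtain ⟨G', i, e, -, hG'q, hG'f, -⟩ := Modules.ExtendFT.exists_extension_of_qcqs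
      (F := (Scheme.Modules.pushforward U.ι).obj G.obj) U (NoetherianSpace.isCompact _) G.obj
      ((asIso ((Scheme.Modules.restrictAdjunction U.ι).counit)).inv.app G.obj) G.property.2
    exact ⟨⟨G', hG'q, hG'f⟩, ⟨ObjectProperty.isoMk _ e⟩⟩
  rw [hW]
  refine Lib.CohDelta.CohQuot.Loc.isLocalization L (fun {A B} g => ?_) (fun {A B} f hf => ?_)
  · haveI : B.obj.IsQuasicoherent := B.property.1
    haveI : A.obj.IsQuasicoherent := A.property.1
    obtain ⟨n, hn⟩ := Main.exists_hom_extension (F := B.obj) (G := A.obj) I A.property hI g.hom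
    obtain ⟨ψ, hψ⟩ := hn n le_rfl
    refine ⟨⟨_, isCoh_idealMul (I ^ n) A.property⟩, ObjectProperty.homMk (Dual3.idealMulι (I ^ n) A.obj),
      ObjectProperty.homMk ψ, ?_, ObjectProperty.hom_ext _ hψ⟩
    have h : IsIso (R.map (Dual3.idealMulι (I ^ n) A.obj)) :=
      DevExt.isIso_restrict _ fun x hx => DevExt.stalk_ι_bijective I A.obj n (by
        have : x ∈ (U : Set X) := hx
        rwa [hI] at this)
    haveI : IsIso ((ObjectProperty.ι (fun N : (↑U : Scheme.{u}).Modules => Coh.IsCoh N)).map
      (L.map (ObjectProperty.homMk (Dual3.idealMulι (I ^ n) A.obj) :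
        (⟨_, isCoh_idealMul (I ^ n) A.property⟩ :
          ObjectProperty.FullSubcategory (fun M : X.Modules => Coh.IsCoh M)) ⟶ A))) := h
    exact isIso_of_reflects_iso _ (ObjectProperty.ι (fun N : (↑U : Scheme.{u}).Modules => Coh.IsCoh N))
  · have hf0 : R.map f.hom = 0 := congrArg (fun φ => φ.hom) hf
    have hk : IsIso (R.map (kernel.ι f.hom)) := DevExt.isIso_restrict _ fun x hx => by
      refine ⟨(mono_iff_stalkMapₗ_injective _).mp inferInstance x, fun v => ?_⟩
      obtain ⟨k, hk⟩ := Groth.Agent.H52.DevSummand.eq_stalk_kernel f.hom v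
        (stalkMap_eq_zero f.hom hf0 hx v)
      exact ⟨k, hk⟩
    refine ⟨⟨kernel f.hom, CohBasics.Closure.isCoh_kernel f.hom A.property B.property.1⟩,
      ObjectProperty.homMk (kernel.ι f.hom), ?_, ObjectProperty.hom_ext _ (kernel.condition f.hom)⟩
    haveI : IsIso ((ObjectProperty.ι (fun N : (↑U : Scheme.{u}).Modules => Coh.IsCoh N)).map
      (L.map (ObjectProperty.homMk (kernel.ι f.hom) :
        (⟨kernel f.hom, CohBasics.Closure.isCoh_kernel f.hom A.property B.property.1⟩ :
          ObjectProperty.FullSubcategory (fun M : X.Modules => Coh.IsCoh M)) ⟶ A))) := hk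
    exact isIso_of_reflects_iso _ (ObjectProperty.ι (fun N : (↑U : Scheme.{u}).Modules => Coh.IsCoh N))

end Groth.Agent.S13987
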