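import Groth.Statements.S13988
import Groth.Agent.Lib.CohDelta.IdealMul.Main
import Groth.Agent.Lib.Modules.Free
import Groth.Agent.Lib.RefHull.Reflexive

set_option autoImplicit false
universe u
open CategoryTheory AlgebraicGeometry
open CohGab

namespace Groth.Agent.S13988

open TopologicalSpace Opposite
open Groth.Agent.Lib Groth.Agent.Lib.Modules.StalkModule Groth.Agent.Lib.CohDelta.IdealMul

variable {X : Scheme.{u}}

/-- A section over an affine open is hit by `1 ∈ I^n` for a morphism `I^n ⟶ M`, `I` cutting out the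
complement. -/
theorem exists_hom_hit [IsNoetherian X] {M : X.Modules} [M.IsQuasicoherent] {W : X.Opens}
    (hW : IsAffineOpen W) (t : Γ(M, W.ι ''ᵁ ⊤)) :
    ∃ (J : X.Modules) (_ : Coh.IsCoh J) (f : J ⟶ Coh.structureModule X) (_ : Mono f) (ψ : J ⟶ M)
      (j : Γ(J, W.ι ''ᵁ ⊤)), f.app _ j = (1 : Γ(X, W.ι ''ᵁ ⊤)) ∧ ψ.app _ j = t := by
  let Z : Closeds X := ⟨(W : Set X)ᶜ, W.isOpen.isClosed_compl⟩
  let I := Scheme.IdealSheafData.vanishingIdeal Z
  have hsupp : (I.support : Set X) = (W : Set X)ᶜ := by
    simp [I, Z, Scheme.IdealSheafData.coe_support_vanishingIdeal, W.isOpen.isClosed_compl.closure_eq]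
  let χ : (Scheme.Modules.restrictFunctor W.ι).obj (Coh.structureModule X) ⟶
      (Scheme.Modules.restrictFunctor W.ι).obj M :=
    (Scheme.Modules.restrictUnitIso W.ι).hom ≫ Modules.Free.unitHom (M.restrict W.ι) t
  have hχ : χ.app ⊤ (1 : Γ(X, W.ι ''ᵁ ⊤)) = t := by
    show (Modules.Free.unitHom (M.restrict W.ι) t).app ⊤
      ((W.ι.appIso ⊤).hom (1 : Γ(X, W.ι ''ᵁ ⊤))) = t
    rw [show (W.ι.appIso ⊤).hom (1 : Γ(X, W.ι ''ᵁ ⊤)) = (1 : Γ(↑W, ⊤)) from map_one _,
      Modules.Free.unitHom_app_one]
  have hO := RefHull.Reflexive.isCoh_structure (X := X)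
  haveI := hO.1
  obtain ⟨n, hn⟩ := Main.exists_hom_extension I hO (F := M) (U := W)
    (by rw [hsupp, compl_compl]) χ
  obtain ⟨ψ, hψ⟩ := hn n le_rfl
  have haff : IsAffineOpen (W.ι ''ᵁ ⊤) := by rw [Scheme.Opens.ι_image_top]; exact hW
  have hI : I.ideal ⟨_, haff⟩ = ⊤ := by
    have h0 := I.coe_support_inter ⟨_, haff⟩
    rw [hsupp] at h0
    simp only [Scheme.Opens.ι_image_top] at h0
    rw [Set.compl_inter_self] at h0
    have h1 := haff.fromSpec_image_zeroLocus (I.ideal ⟨_, haff⟩ : Set Γ(X, W.ι ''ᵁ ⊤))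
    rw [show X.zeroLocus (I.ideal ⟨_, haff⟩ : Set Γ(X, W.ι ''ᵁ ⊤)) ∩ (W.ι ''ᵁ ⊤ : X.Opens) = ∅ by
      simp only [Scheme.Opens.ι_image_top]; exact h0.symm] at h1
    exact PrimeSpectrum.zeroLocus_empty_iff_eq_top.mp (Set.image_eq_empty.mp h1)
  have h1 : (1 : Γ(X, W.ι ''ᵁ ⊤)) ∈ LinearMap.range
      (Sec.appL (Dual3.idealMulι (I ^ n) (Coh.structureModule X)) (W.ι ''ᵁ ⊤)) := by
    let W' : X.affineOpens := ⟨_, haff⟩
    refine (Sec.range_ι_pow I (Coh.structureModule X) n W').ge ?_
    have h3 : (I.ideal W') ^ n = ⊤ := by rw [hI, Ideal.top_pow]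
    have h4 := Submodule.smul_mem_smul (I := I.ideal W' ^ n)
      (N := (⊤ : Submodule Γ(X, W'.1) Γ(Coh.structureModule X, W'.1)))
      (h3 ▸ Submodule.mem_top (x := (1 : Γ(X, W'.1))))
      (Submodule.mem_top (x := (1 : Γ(X, W'.1))))
    convert h4 using 1
    exact (one_smul Γ(X, W'.1) _).symm
  obtain ⟨j, hj⟩ := h1
  refine ⟨_, Sec.isCoh_idealMul (I ^ n) hO, Dual3.idealMulι (I ^ n) (Coh.structureModule X),
    inferInstance, ψ, j, hj, ?_⟩
  have h2 := congrArg (fun g => g.app ⊤ j) hψ
  exact h2.trans ((congrArg (fun y => χ.app ⊤ y) hj).trans hχ)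

/-- The structure module as an object of `Coh X`. -/
noncomputable abbrev unitObj (X : Scheme.{u}) [IsNoetherian X] :
    ObjectProperty.FullSubcategory (fun M : X.Modules => Coh.IsCoh M) :=
  ⟨Coh.structureModule X, RefHull.Reflexive.isCoh_structure⟩

theorem app_eq_smul [IsNoetherian X]
    (φ : 𝟭 (ObjectProperty.FullSubcategory (fun M : X.Modules => Coh.IsCoh M)) ⟶
      𝟭 (ObjectProperty.FullSubcategory (fun M : X.Modules => Coh.IsCoh M)))
    (M : ObjectProperty.FullSubcategory (fun M : X.Modules => Coh.IsCoh M))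
    (V : X.Opens) (s : Γ(M.obj, V)) :
    (φ.app M).hom.app V s = (show Γ(X, V) from X.presheaf.map (homOfLE (le_top (a := V))).op
      ((φ.app (unitObj X)).hom.app ⊤ (1 : Γ(X, ⊤)))) • s := by
  set r : Γ(X, ⊤) := (φ.app (unitObj X)).hom.app ⊤ (1 : Γ(X, ⊤))
  have hO : ∀ (V : X.Opens) (a : Γ(X, V)), (φ.app (unitObj X)).hom.app V a =
      a * X.presheaf.map (homOfLE (le_top (a := V))).op r := fun V a => by
    rw [Modules.Free.unitHom_ext (φ := (φ.app (unitObj X)).hom)
      (ψ := Modules.Free.unitHom _ r) (Modules.Free.unitHom_app_one _ _).symm]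
    rfl
  apply TopCat.Presheaf.section_ext ((SheafOfModules.toSheaf X.ringCatSheaf).obj M.obj)
  intro x hx
  obtain ⟨W, hW, hxW, hWV⟩ := exists_isAffineOpen_mem_and_subset (U := V) (x := x) hx
  have hle : W.ι ''ᵁ ⊤ ≤ V := by rw [Scheme.Opens.ι_image_top]; exact hWV
  have hx' : x ∈ W.ι ''ᵁ ⊤ := by rw [Scheme.Opens.ι_image_top]; exact hxW
  set W' := W.ι ''ᵁ ⊤
  haveI := M.property.1
  obtain ⟨J, hJ, f, hf, ψ, j, hj, hψ⟩ := exists_hom_hit hW
    (M.obj.presheaf.map (homOfLE hle).op s)
  let Jo : ObjectProperty.FullSubcategory (fun M : X.Modules => Coh.IsCoh M) := ⟨J, hJ⟩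
  set rW : Γ(X, W') := X.presheaf.map (homOfLE (le_top (a := W'))).op r
  have hJj : (φ.app Jo).hom.app W' j = rW • j := by
    apply QCoh.Closure.sections_injective_of_mono f W'
    have nat := congrArg (fun g => g.hom.app W' j)
      (φ.naturality (ObjectProperty.homMk (X := Jo) (Y := unitObj X) f))
    change (φ.app (unitObj X)).hom.app W' (f.app W' j) =
      f.app W' ((φ.app Jo).hom.app W' j) at nat
    rw [← nat, Scheme.Modules.Hom.app_smul, hO, hj, one_mul]
    exact (mul_one rW).symm
  have hM : (φ.app M).hom.app W' (M.obj.presheaf.map (homOfLE hle).op s) =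
      rW • M.obj.presheaf.map (homOfLE hle).op s := by
    have nat := congrArg (fun g => g.hom.app W' j)
      (φ.naturality (ObjectProperty.homMk (X := Jo) (Y := M) ψ))
    change (φ.app M).hom.app W' (ψ.app W' j) =
      ψ.app W' ((φ.app Jo).hom.app W' j) at nat
    rw [← hψ, nat, hJj, Scheme.Modules.Hom.app_smul]
  have hres : M.obj.presheaf.map (homOfLE hle).op ((φ.app M).hom.app V s) =
      M.obj.presheaf.map (homOfLE hle).op
        ((show Γ(X, V) from X.presheaf.map (homOfLE (le_top (a := V))).op r) • s) := by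
    rw [← show (φ.app M).hom.app W' (M.obj.presheaf.map (homOfLE hle).op s) =
      M.obj.presheaf.map (homOfLE hle).op ((φ.app M).hom.app V s) from
      ConcreteCategory.congr_hom ((φ.app M).hom.mapPresheaf.naturality (homOfLE hle).op) s,
      hM, Scheme.Modules.map_smul]
    congr 1
    rw [← ConcreteCategory.comp_apply, ← Functor.map_comp]
    rfl
  have := congrArg (M.obj.presheaf.germ W' x hx') hres
  rwa [TopCat.Presheaf.germ_res_apply, TopCat.Presheaf.germ_res_apply] at this

/-- Let X be a Noetherian scheme. The canonical ring map from the global functions Γ(X, O_X) to the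
centre of the category of coherent O_X-modules (the endomorphisms of its identity functor), sending
r to multiplication by r, is bijective: for every natural endomorphism φ of the identity functor of
Coh(X) there is a unique global function r such that, for every coherent module M, φ_M is
multiplication by r (compared as maps of the underlying abelian sheaves). (The published result
builds a ringed space from Coh(X) — irreducible Serre subcategories of finite type, with the centres
of the categories Coh(U) as structure sheaf — and proves it isomorphic to X, for coherent sheaves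
twisted by a class in the cohomological Brauer group and with X over a field, a hypothesis its proof
does not use; this row is the ring-theoretic content of that isomorphism on global sections, for the
trivial class; applied to the open subschemes of X it gives the statement on every open.) -/
theorem result (X : Scheme.{u}) [IsNoetherian X]
    (φ : 𝟭 (ObjectProperty.FullSubcategory (fun M : X.Modules => Coh.IsCoh M)) ⟶ 𝟭 (ObjectProperty.FullSubcategory (fun M : X.Modules => Coh.IsCoh M))) :
    ∃! r : Coh.Γtop X, ∀ M : ObjectProperty.FullSubcategory (fun M : X.Modules => Coh.IsCoh M),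
      (SheafOfModules.toSheaf X.ringCatSheaf).map (φ.app M).hom = Coh.smulAb M.obj r := by
  refine ⟨(φ.app (unitObj X)).hom.app ⊤ (1 : Γ(X, ⊤)), fun M => ?_, fun r hr => ?_⟩
  · refine Sheaf.hom_ext ?_
    ext V s
    rw [Coh.smulAb_app]
    exact app_eq_smul φ M V.unop s
  · have h := congrArg (fun g => g.hom.app (op (⊤ : X.Opens)) (1 : Γ(X, ⊤))) (hr (unitObj X))
    refine (Eq.trans h ?_).symm
    show Coh.resTop X (op ⊤) r * (1 : Coh.Γtop X) = r
    rw [mul_one]
    show (X.ringCatSheaf.obj.map _).hom r = r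
    rw [show (homOfLE (le_top (a := (⊤ : X.Opens)))).op = 𝟙 _ from rfl, X.ringCatSheaf.obj.map_id]
    rfl

end Groth.Agent.S13988
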