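import Groth.Statements.S13990
import Groth.Agent.Lib.CohDelta.CohQuot.Serre

set_option autoImplicit false
universe u
open CategoryTheory AlgebraicGeometry
open CohGab

namespace Groth.Agent.S13990

open Groth.Agent.Lib.CohDelta.CohQuot

/-- Let X be a Noetherian scheme. Then Z ↦ Coh_Z(X), the coherent O_X-modules with support contained in
Z, is a bijection from the closed subsets of X onto the Serre subcategories of finite type of Coh(X)
(those generated, as Serre subcategories, by one object). Spelled out with Serre subcategories of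
Coh(X) as properties P of O_X-modules such that in a short exact sequence of coherent modules the
middle term has P iff both outer terms do: (a) for every closed Z, 'support ⊆ Z' is such a property
and there is a coherent F supported in Z such that every such property containing F contains all
coherent modules supported in Z; (b) for every such property P generated on coherent modules by one
coherent module F, there is exactly one closed Z with P(M) ⟺ Supp(M) ⊆ Z for all coherent M. (The
published statement is about coherent sheaves twisted by a class in the second etale cohomology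
group of the units of the structure sheaf; this row is its case of the trivial class.) -/
theorem result (X : Scheme.{u}) [IsNoetherian X] :
    (∀ Z : TopologicalSpace.Closeds X,
      (∀ S : ShortComplex X.Modules, S.ShortExact → Coh.IsCoh S.X₁ → Coh.IsCoh S.X₂ →
          Coh.IsCoh S.X₃ → (CohB1.support S.X₂ ⊆ (↑Z : Set X) ↔
            CohB1.support S.X₁ ⊆ (↑Z : Set X) ∧ CohB1.support S.X₃ ⊆ (↑Z : Set X))) ∧
      ∃ F : X.Modules, Coh.IsCoh F ∧ CohB1.support F ⊆ (↑Z : Set X) ∧
        ∀ Q : ObjectProperty X.Modules, (∀ S : ShortComplex X.Modules, S.ShortExact → Coh.IsCoh S.X₁ → Coh.IsCoh S.X₂ →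
          Coh.IsCoh S.X₃ → (Q S.X₂ ↔ Q S.X₁ ∧ Q S.X₃)) → Q F →
          ∀ M : X.Modules, Coh.IsCoh M → CohB1.support M ⊆ (↑Z : Set X) → Q M) ∧
    (∀ P : ObjectProperty X.Modules, (∀ S : ShortComplex X.Modules, S.ShortExact → Coh.IsCoh S.X₁ → Coh.IsCoh S.X₂ →
          Coh.IsCoh S.X₃ → (P S.X₂ ↔ P S.X₁ ∧ P S.X₃)) →
      (∃ F : X.Modules, Coh.IsCoh F ∧ P F ∧
        ∀ Q : ObjectProperty X.Modules, (∀ S : ShortComplex X.Modules, S.ShortExact → Coh.IsCoh S.X₁ → Coh.IsCoh S.X₂ →
          Coh.IsCoh S.X₃ → (Q S.X₂ ↔ Q S.X₁ ∧ Q S.X₃)) → Q F →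
          ∀ M : X.Modules, Coh.IsCoh M → P M → Q M) →
      ∃! Z : TopologicalSpace.Closeds X, ∀ M : X.Modules, Coh.IsCoh M →
        (P M ↔ CohB1.support M ⊆ (↑Z : Set X))) := by
  refine ⟨fun Z => ⟨Serre.isSerre_supported (Z : Set X), ?_⟩, fun P hP ⟨F, hF, hPF, hgen⟩ => ?_⟩
  · obtain ⟨F, hF, hFZ⟩ := Serre.exists_support_eq Z
    exact ⟨F, hF, hFZ.subset, fun Q hQ hQF M hM hMZ =>
      Serre.mem_of_support_subset hQ hF hQF hM (hMZ.trans hFZ.ge)⟩
  · haveI := hF.2
    refine ⟨⟨CohB1.support F, Groth.Agent.Lib.Modules.Support.isClosed_support F⟩, fun M hM => ?_,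
      fun Z' hZ' => ?_⟩
    · exact ⟨fun hPM => hgen (fun N => CohB1.support N ⊆ CohB1.support F)
        (Serre.isSerre_supported _) subset_rfl M hM hPM,
        fun h => Serre.mem_of_support_subset hP hF hPF hM h⟩
    · obtain ⟨G, hG, hGZ⟩ := Serre.exists_support_eq Z'
      refine SetLike.coe_injective (subset_antisymm ?_ ((hZ' F hF).mp hPF))
      rw [← hGZ]
      exact hgen (fun N => CohB1.support N ⊆ CohB1.support F) (Serre.isSerre_supported _) subset_rfl
        G hG ((hZ' G hG).mpr hGZ.subset)

end Groth.Agent.S13990
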