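import Groth.Statements.S13991
import Groth.Agent.Lib.CohDelta.CohQuot.Serre

set_option autoImplicit false
universe u
open CategoryTheory AlgebraicGeometry
open CohGab

namespace Groth.Agent.S13991

open Groth.Agent.Lib.CohDelta.CohQuot

/-- Let X be a Noetherian scheme and Z ⊆ X a closed subset. Then Z is irreducible (or empty) if and only
if Coh_Z(X), the coherent O_X-modules supported in Z, is an irreducible Serre subcategory of Coh(X),
i.e. it is not generated as a Serre subcategory by two Serre subcategories properly contained in it: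
whenever J₁, J₂ are Serre classes on coherent modules (middle term of a short exact sequence of
coherent modules belongs iff both outer terms do), both contained in Coh_Z, such that every Serre
class on coherent modules containing J₁ and J₂ contains Coh_Z, then J₁ or J₂ contains Coh_Z.
Consequently the points of X correspond to the irreducible Serre subcategories of finite type other
than the zero subcategory. (The published statement says 'Z is irreducible iff Coh_Z is irreducible'
and deduces a bijection between the points of X and all irreducible Serre subcategories of finite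
type; the zero subcategory Coh_∅ is irreducible in this sense while ∅ is not an irreducible space,
so irreducibility of Z is read here as 'irreducible or empty'. The published statement is also about
coherent sheaves twisted by a class in the second etale cohomology group of the units of the
structure sheaf; this row is its case of the trivial class.) -/
theorem result (X : Scheme.{u}) [IsNoetherian X]
    (Z : TopologicalSpace.Closeds X) :
    IsPreirreducible (↑Z : Set X) ↔
    ∀ J₁ J₂ : ObjectProperty X.Modules, (∀ S : ShortComplex X.Modules, S.ShortExact → Coh.IsCoh S.X₁ → Coh.IsCoh S.X₂ →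
        Coh.IsCoh S.X₃ → (J₁ S.X₂ ↔ J₁ S.X₁ ∧ J₁ S.X₃)) → (∀ S : ShortComplex X.Modules, S.ShortExact → Coh.IsCoh S.X₁ → Coh.IsCoh S.X₂ →
        Coh.IsCoh S.X₃ → (J₂ S.X₂ ↔ J₂ S.X₁ ∧ J₂ S.X₃)) →
      (∀ M : X.Modules, Coh.IsCoh M → J₁ M → CohB1.support M ⊆ (↑Z : Set X)) →
      (∀ M : X.Modules, Coh.IsCoh M → J₂ M → CohB1.support M ⊆ (↑Z : Set X)) →
      (∀ Q : ObjectProperty X.Modules, (∀ S : ShortComplex X.Modules, S.ShortExact → Coh.IsCoh S.X₁ → Coh.IsCoh S.X₂ →
        Coh.IsCoh S.X₃ → (Q S.X₂ ↔ Q S.X₁ ∧ Q S.X₃)) →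
        (∀ M : X.Modules, Coh.IsCoh M → J₁ M → Q M) → (∀ M : X.Modules, Coh.IsCoh M → J₂ M → Q M) →
        ∀ M : X.Modules, Coh.IsCoh M → CohB1.support M ⊆ (↑Z : Set X) → Q M) →
      (∀ M : X.Modules, Coh.IsCoh M → CohB1.support M ⊆ (↑Z : Set X) → J₁ M) ∨
        (∀ M : X.Modules, Coh.IsCoh M → CohB1.support M ⊆ (↑Z : Set X) → J₂ M) := by
  constructor
  · intro hirr J₁ J₂ hJ₁ hJ₂ h₁ h₂ hgen
    rcases (Z : Set X).eq_empty_or_nonempty with hZ | hZ
    · by_contra hc
      rw [not_or] at hc
      obtain ⟨F, hF, hFZ⟩ := Serre.exists_support_eq Z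
      refine hgen (fun _ => False) (fun _ _ _ _ _ => by simp)
        (fun N hN hN₁ => hc.1 fun M hM hMZ => ?_) (fun N hN hN₂ => hc.2 fun M hM hMZ => ?_)
        F hF hFZ.subset
      · exact Serre.isSerre_of_isZero hJ₁ hN hN₁
          (Groth.Agent.Lib.Modules.Support.support_eq_empty_iff.mp
            (Set.subset_eq_empty hMZ hZ))
      · exact Serre.isSerre_of_isZero hJ₂ hN hN₂
          (Groth.Agent.Lib.Modules.Support.support_eq_empty_iff.mp
            (Set.subset_eq_empty hMZ hZ))
    · obtain ⟨F, hF, hFZ⟩ := Serre.exists_support_eq Z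
      have hZi : IsIrreducible (Z : Set X) := ⟨hZ, hirr⟩
      let η := hZi.genericPoint
      have hη : IsGenericPoint η (Z : Set X) := by
        have := hZi.isGenericPoint_genericPoint_closure
        rwa [Z.isClosed.closure_eq] at this
      have key : ∀ (J : ObjectProperty X.Modules), Serre.IsSerre J → ∀ N, Coh.IsCoh N → J N →
          η ∈ CohB1.support N → ∀ M : X.Modules, Coh.IsCoh M → CohB1.support M ⊆ (Z : Set X) →
          J M := by
        intro J hJ N hN hJN hηN M hM hMZ
        haveI := hN.2
        refine Serre.mem_of_support_subset hJ hN hJN hM (hMZ.trans ?_)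
        rw [← hη.def]
        exact closure_minimal (Set.singleton_subset_iff.mpr hηN)
          (Groth.Agent.Lib.Modules.Support.isClosed_support N)
      by_contra hc
      rw [not_or] at hc
      refine hgen (fun N => η ∉ CohB1.support N)
        (fun S hS _ _ _ => by
          show η ∉ CohB1.support S.X₂ ↔ _
          rw [Groth.Agent.Lib.Modules.Support.support_eq_union_of_shortExact hS, Set.mem_union,
            not_or])
        (fun N hN hN₁ hη' => hc.1 (key J₁ hJ₁ N hN hN₁ hη'))
        (fun N hN hN₂ hη' => hc.2 (key J₂ hJ₂ N hN hN₂ hη')) F hF hFZ.subset ?_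
      rw [hFZ]
      exact hη.mem
  · intro h
    rw [isPreirreducible_iff_isClosed_union_isClosed]
    intro A B hA hB hAB
    obtain ⟨F, hF, hFZ⟩ := Serre.exists_support_eq Z
    refine (h (fun M => CohB1.support M ⊆ (Z : Set X) ∩ A) (fun M => CohB1.support M ⊆ (Z : Set X) ∩ B)
      (Serre.isSerre_supported _) (Serre.isSerre_supported _)
      (fun M _ hM => hM.trans Set.inter_subset_left) (fun M _ hM => hM.trans Set.inter_subset_left)
      fun Q hQ h₁ h₂ M hM hMZ => ?_).imp
      (fun hJ => ((hFZ.ge.trans (hJ F hF hFZ.subset))).trans Set.inter_subset_right)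
      (fun hJ => ((hFZ.ge.trans (hJ F hF hFZ.subset))).trans Set.inter_subset_right)
    obtain ⟨FA, hFA, hFAZ⟩ := Serre.exists_support_eq
      (Z ⊓ (⟨A, hA⟩ : TopologicalSpace.Closeds X))
    refine Groth.Agent.H52.DevSummand.devissage' (fun N => Q N) Z
      (Serre.thick_of_isSerre hQ _ hFA (h₁ FA hFA hFAZ.subset)) (fun y hy _ => ?_) M ⟨hM, hMZ⟩
    obtain ⟨C, hC, hCy⟩ := Groth.Agent.Lib.Devissage.Closure.exists_generator y
    refine ⟨C, hC, hCy, ?_⟩
    rcases hAB hy with hyA | hyB
    · exact h₁ C hC.1 (hC.2.trans (closure_minimal (Set.singleton_subset_iff.mpr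
        (show y ∈ (Z : Set X) ∩ A from ⟨hy, hyA⟩)) (Z.isClosed.inter hA)))
    · exact h₂ C hC.1 (hC.2.trans (closure_minimal (Set.singleton_subset_iff.mpr
        (show y ∈ (Z : Set X) ∩ B from ⟨hy, hyB⟩)) (Z.isClosed.inter hB)))

end Groth.Agent.S13991
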