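import Groth.Statements.S13995
import Mathlib.RingTheory.Ideal.AssociatedPrime.Basic
import Mathlib.RingTheory.Localization.Module
import Mathlib.RingTheory.LocalProperties.Reduced
import Mathlib.RingTheory.Support
import Mathlib.RingTheory.Finiteness.Basic
import Mathlib.RingTheory.KrullDimension.Zero
import Mathlib.LinearAlgebra.FiniteDimensional.Lemmas

set_option autoImplicit false
universe u
open CAlg

namespace Groth.Agent.S13995

/-- Let R be a reduced Noetherian ring, M a finitely generated R-module all of whose associated primes
are minimal primes of R and whose localization at each minimal prime p is one-dimensional over the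
field R_p, and let g : M → Q be a surjection onto a finitely generated R-module Q all of whose
associated primes are minimal primes of R. Then the kernel of g is the intersection, over the
minimal primes p of R lying in the support of Q, of the kernels of the localization maps M → M_p.
(The published statement is for a torsion-free coherent sheaf F of uniform rank one on a reduced
connected projective curve over a characteristic-zero algebraically closed field: its non-zero
torsion-free quotients are exactly the maximal torsion-free quotients F_D of the restrictions of F
to subcurves D; this row is the corresponding statement for modules over a reduced Noetherian ring,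
a subcurve being a set of minimal primes, and identifies each torsion-free quotient with F_D for D
the set of generic points of its support.) -/
theorem result (R : Type u) [CommRing R] [IsNoetherianRing R] [IsReduced R] (M : Type u) [AddCommGroup M] [Module R M] [Module.Finite R M] (hM : associatedPrimes R M ⊆ minimalPrimes R) (hrk : ∀ p : PrimeSpectrum R, p.asIdeal ∈ minimalPrimes R → Module.finrank (Localization.AtPrime p.asIdeal) (LocalizedModule p.asIdeal.primeCompl M) = 1) (Q : Type u) [AddCommGroup Q] [Module R Q] [Module.Finite R Q] (hQ : associatedPrimes R Q ⊆ minimalPrimes R) (g : M →ₗ[R] Q) (hg : Function.Surjective g) : LinearMap.ker g = ⨅ p ∈ {p : PrimeSpectrum R | p.asIdeal ∈ minimalPrimes R ∧ p ∈ Module.support R Q}, LinearMap.ker (LocalizedModule.mkLinearMap p.asIdeal.primeCompl M) := by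
  classical
  refine le_antisymm ?_ ?_
  · intro x hx
    simp only [Submodule.mem_iInf, LinearMap.mem_ker]
    rintro p ⟨hmin, hsupp⟩
    let L := Localization.AtPrime p.asIdeal
    have : Ring.KrullDimLE 0 L := .of_isLocalization _ hmin _
    letI : Field L := Ring.KrullDimLE.isField_of_isReduced.toField
    let gp := LocalizedModule.map p.asIdeal.primeCompl g
    have hsurj : Function.Surjective gp := LocalizedModule.map_surjective _ g hg
    have h1 := hrk p hmin
    haveI : Module.Finite L (LocalizedModule p.asIdeal.primeCompl M) :=
      Module.Finite.of_isLocalizedModule p.asIdeal.primeCompl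
        (LocalizedModule.mkLinearMap p.asIdeal.primeCompl M)
    have hpos : 0 < Module.finrank L (LinearMap.range gp) := by
      rw [LinearMap.range_eq_top.mpr hsurj, finrank_top]
      haveI := Module.mem_support_iff.mp hsupp
      haveI : Module.Finite L (LocalizedModule p.asIdeal.primeCompl Q) :=
        Module.Finite.of_surjective gp hsurj
      exact Module.finrank_pos
    have h2 : Module.finrank L (LinearMap.range gp) + Module.finrank L (LinearMap.ker gp) =
        Module.finrank L (LocalizedModule p.asIdeal.primeCompl M) :=
      LinearMap.finrank_range_add_finrank_ker gp
    have h3 : Module.finrank L (LinearMap.ker gp) = 0 := by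
      change Module.finrank L (LocalizedModule p.asIdeal.primeCompl M) = 1 at h1
      omega
    have hker : LinearMap.ker gp = ⊥ := Submodule.finrank_eq_zero.mp h3
    refine LinearMap.ker_eq_bot.mp hker ?_
    rw [map_zero]
    show gp (LocalizedModule.mk x 1) = 0
    simp only [gp, LocalizedModule.map_mk]
    rw [show g x = 0 from hx]
    exact LocalizedModule.zero_mk _
  · intro x hx
    simp only [Submodule.mem_iInf, LinearMap.mem_ker] at hx
    rw [LinearMap.mem_ker]
    by_contra hne
    obtain ⟨P, hP, hle⟩ := exists_le_isAssociatedPrime_of_isNoetherianRing R (g x) hne
    have hPm : P ∈ minimalPrimes R := hQ hP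
    haveI := hP.isPrime
    have hsupp : (⟨P, hP.isPrime⟩ : PrimeSpectrum R) ∈ Module.support R Q := by
      rw [Module.mem_support_iff']
      refine ⟨g x, fun r hr h => hr (hle ?_)⟩
      rw [Submodule.mem_colon_singleton, Submodule.mem_bot]
      exact h
    have h := hx ⟨P, hP.isPrime⟩ ⟨hPm, hsupp⟩
    obtain ⟨s, hs⟩ := (IsLocalizedModule.eq_zero_iff P.primeCompl
      (LocalizedModule.mkLinearMap P.primeCompl M)).mp h
    exact s.2 (hle (by
      rw [Submodule.mem_colon_singleton, Submodule.mem_bot, ← map_smul]
      exact (congrArg g hs).trans (map_zero g)))

end Groth.Agent.S13995
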