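import Groth.Statements.S13996
import Mathlib.RingTheory.Ideal.KrullsHeightTheorem
import Mathlib.RingTheory.Ideal.MinimalPrime.Localization
import Mathlib.RingTheory.Regular.IsSMulRegular
import Mathlib.Tactic

set_option autoImplicit false
universe u
open CAlg

namespace Groth.Agent.S13996

/-- Let R be a reduced Noetherian local ring of Krull dimension one with maximal ideal m, and M a
non-zero finitely generated R-module. Then M is torsion-free in the sense that no element of m which
is a non-zero-divisor on R is a zero-divisor on M, if and only if M has depth one, i.e. some element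
of m is a non-zero-divisor on M. (The published statement is for a non-zero coherent sheaf F on a
connected reduced projective curve over a characteristic-zero algebraically closed field and asserts
the equivalence of: F torsion-free in the above sense at every closed point; F pure of dimension
one; depth of F_p equal to one at every closed point p. This row is the equivalence of the first and
third conditions at a single closed point p with F_p ≠ 0; at points outside the support the third
condition as published cannot hold, so the row assumes the stalk non-zero.) -/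
theorem result (R : Type u) [CommRing R] [IsLocalRing R] [IsNoetherianRing R] [IsReduced R] (hdim : ringKrullDim R = 1) (M : Type u) [AddCommGroup M] [Module R M] [Module.Finite R M] [Nontrivial M] : (∀ r : R, r ∈ IsLocalRing.maximalIdeal R → IsSMulRegular R r → IsSMulRegular M r) ↔ (∃ x : R, x ∈ IsLocalRing.maximalIdeal R ∧ IsSMulRegular M x) := by
  constructor
  · intro h
    obtain ⟨x, hx, hxreg⟩ : ∃ x ∈ IsLocalRing.maximalIdeal R, IsSMulRegular R x := by
      by_contra hno
      push Not at hno
      have hsub : (IsLocalRing.maximalIdeal R : Set R) ⊆ ⋃ p ∈ minimalPrimes R, (p : Set R) := by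
        intro x hx
        obtain ⟨p, hp, hxp⟩ : ∃ p ∈ minimalPrimes R, x ∈ p := by
          by_contra hall
          push Not at hall
          refine hno x hx ((isSMulRegular_iff_right_eq_zero_of_smul).2 fun y hy => ?_)
          have hy' : y ∈ nilradical R := by
            rw [nilradical_eq_sInf, Submodule.mem_sInf]
            intro (P : Ideal R) (hP : P.IsPrime)
            obtain ⟨q, hq, hqP⟩ := Ideal.exists_minimalPrimes_le (I := (⊥ : Ideal R)) (J := P) (bot_le)
            refine hqP ?_
            haveI := hq.1.1
            exact (hq.1.1.mem_or_mem (show x * y ∈ q by rw [← smul_eq_mul, hy]; exact zero_mem _)).resolve_left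
              (hall q hq)
          rwa [nilradical_eq_zero, Ideal.zero_eq_bot, Ideal.mem_bot] at hy'
        exact Set.mem_biUnion hp hxp
      have hfin := minimalPrimes.finite_of_isNoetherianRing R
      obtain ⟨p, hp, hmp⟩ := (Ideal.subset_union_prime (s := hfin.toFinset) (f := id) ⊥ ⊥
        (fun p hp _ _ => (hfin.mem_toFinset.1 hp).1.1)).1 (by simpa using hsub)
      have hpm : p = IsLocalRing.maximalIdeal R :=
        le_antisymm (IsLocalRing.le_maximalIdeal (hfin.mem_toFinset.1 hp).1.1.ne_top) hmp
      have h0 := Ideal.height_eq_zero_iff.2 (hpm ▸ hfin.mem_toFinset.1 hp)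
      have h1 := IsLocalRing.maximalIdeal_height_eq_ringKrullDim (R := R)
      rw [h0, hdim] at h1
      exact one_ne_zero h1.symm
    exact ⟨x, hx, h x hx hxreg⟩
  · rintro ⟨x, hx, hxM⟩ r hr hreg
    refine (isSMulRegular_iff_right_eq_zero_of_smul).2 fun v hv => ?_
    haveI : Nontrivial (R ⧸ Ideal.span {r}) := Ideal.Quotient.nontrivial_iff.2 fun h =>
      (IsLocalRing.mem_maximalIdeal r).1 hr (Ideal.span_singleton_eq_top.1 h)
    have hrad : x ∈ (Ideal.span {r}).radical := by
      rw [Ideal.radical_eq_sInf, Submodule.mem_sInf]
      rintro P ⟨hrP, hP⟩
      haveI := hP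
      rw [show P = IsLocalRing.maximalIdeal R from ?_]
      · exact hx
      by_contra hne
      have hlt : P < IsLocalRing.maximalIdeal R :=
        lt_of_le_of_ne (IsLocalRing.le_maximalIdeal hP.ne_top) hne
      have h1 := Ideal.height_strict_mono_of_isPrime hlt
      have h2 := IsLocalRing.maximalIdeal_height_eq_ringKrullDim (R := R)
      rw [hdim] at h2
      have h3 : (IsLocalRing.maximalIdeal R).height = 1 := by exact_mod_cast h2
      rw [h3, ENat.lt_one_iff_eq_zero, Ideal.height_eq_zero_iff] at h1
      exact Set.disjoint_left.1 (Ideal.disjoint_nonZeroDivisors_of_mem_minimalPrimes h1)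
        (hrP (Ideal.mem_span_singleton_self r))
        (mem_nonZeroDivisors_iff_right.2 fun y hy => hreg.right_eq_zero_of_smul (by rw [smul_eq_mul, mul_comm]; exact hy))
    obtain ⟨k, hk⟩ := hrad
    obtain ⟨t, ht⟩ := Ideal.mem_span_singleton'.1 hk
    exact (hxM.pow k).right_eq_zero_of_smul (by rw [← ht, mul_smul, hv, smul_zero])

end Groth.Agent.S13996
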