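import Groth.Statements.S14000
import Mathlib.Algebra.Homology.ShortComplex.ModuleCat
import Mathlib.Data.Int.Interval


set_option autoImplicit false
set_option backward.isDefEq.respectTransparency false
universe u
open Perf

namespace Groth.Agent.S14000


section Euler
open CategoryTheory CategoryTheory.Limits

variable {A : Type u} [CommRing A]

lemma ker_le_range (P : CochainComplex (ModuleCat.{u} A) ℤ) (q : Ideal A) [q.IsPrime] (i : ℤ)
    (h : Subsingleton (LocalizedModule q.primeCompl (P.homology (i + 1))))
    (m : P.X (i + 1)) (hm : (P.d (i + 1) (i + 2)).hom m = 0) :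
    ∃ t : q.primeCompl, ∃ y, (P.d i (i + 1)).hom y = (t : A) • m := by
  let S := P.sc' i (i + 1) (i + 2)
  let e : P.homology (i + 1) ≅ S.moduleCatLeftHomologyData.H :=
    P.homologyIsoSc' i (i + 1) (i + 2) (by simp) (by rw [CochainComplex.next]; ring) ≪≫
      S.moduleCatHomologyIso
  let c : S.moduleCatLeftHomologyData.H := S.moduleCatLeftHomologyData.π.hom ⟨m, hm⟩
  obtain ⟨t, ht, h0⟩ := LocalizedModule.subsingleton_iff.mp h (e.inv.hom c)
  refine ⟨⟨t, ht⟩, ?_⟩
  have : S.moduleCatLeftHomologyData.π.hom (t • ⟨m, hm⟩) = 0 := by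
    rw [map_smul]
    have := congrArg e.hom.hom h0
    rw [map_smul, map_zero] at this
    rw [show e.hom.hom (e.inv.hom c) = c from congrArg (fun f => f.hom c) e.inv_hom_id] at this
    exact this
  obtain ⟨y, hy⟩ := (Submodule.Quotient.mk_eq_zero _).mp this
  exact ⟨y, congrArg Subtype.val hy⟩

theorem euler_at (P : CochainComplex (ModuleCat.{u} A) ℤ) (q : PrimeSpectrum A)
    (hP : ∀ i : ℤ, Module.Finite A (P.X i) ∧ Module.Projective A (P.X i)) (a b : ℤ) (hab : a ≤ b + 1)
    (hout : ∀ i : ℤ, (i < a ∨ b < i) → IsZero (P.X i))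
    (hH : ∀ i : ℤ, Subsingleton (LocalizedModule q.asIdeal.primeCompl (P.homology i))) :
    ∑ i ∈ Finset.Ico a (b + 1),
      ((i.negOnePow : ℤˣ) : ℤ) * (Module.rankAtStalk (R := A) (P.X i) q : ℤ) = 0 := by
  classical
  let S := q.asIdeal.primeCompl
  let B := Localization.AtPrime q.asIdeal
  let d : ∀ i, LocalizedModule S (P.X i) →ₗ[B] LocalizedModule S (P.X (i + 1)) := fun i =>
    LocalizedModule.map S (P.d i (i + 1)).hom
  have dmk : ∀ i m (s : S), d i (LocalizedModule.mk m s) = LocalizedModule.mk ((P.d i (i + 1)).hom m) s := by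
    intro i m s
    rw [IsLocalizedModule.mk_eq_mk', IsLocalizedModule.mk_eq_mk']
    exact IsLocalizedModule.map_mk' S _ _ _ _ _
  have hdd : ∀ i x, d (i + 1) (d i x) = 0 := by
    intro i x
    induction x using LocalizedModule.induction_on with
    | _ m s =>
      rw [dmk, dmk]
      rw [show (P.d (i + 1) (i + 1 + 1)).hom ((P.d i (i + 1)).hom m) = 0 from
        congrArg (fun f => f.hom m) (P.d_comp_d i (i + 1) (i + 1 + 1)), LocalizedModule.zero_mk]
  have hex : ∀ i x, d (i + 1) x = 0 → ∃ y, d i y = x := by
    intro i x hx
    induction x using LocalizedModule.induction_on with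
    | _ m s =>
      rw [dmk] at hx
      rw [← LocalizedModule.zero_mk s, LocalizedModule.mk_eq] at hx
      obtain ⟨t, ht⟩ := hx
      simp only [smul_zero, Submonoid.smul_def, ← mul_smul, ← Submonoid.coe_mul] at ht
      have ht' : (P.d (i + 1) (i + 2)).hom (((t * s : S) : A) • m) = 0 := by
        have e1 : (P.d (i + 1) (i + 1 + 1)).hom (((t * s : S) : A) • m) = 0 := by rw [map_smul]; exact ht
        rwa [show (i + 1 + 1 : ℤ) = i + 2 by ring] at e1
      obtain ⟨u, y, hy⟩ := ker_le_range P q.asIdeal i (hH _) _ ht'
      refine ⟨LocalizedModule.mk y (u * (t * s) * s), ?_⟩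
      rw [dmk, hy, LocalizedModule.mk_eq]
      refine ⟨1, ?_⟩
      simp only [one_smul, Submonoid.smul_def, Submonoid.coe_mul, ← mul_smul]
      congr 1
      ring
  have : ∀ i, Module.Finite A (P.X i) := fun i => (hP i).1
  have : ∀ i, Module.Projective A (P.X i) := fun i => (hP i).2
  have : ∀ i, Module.Finite B (LocalizedModule S (P.X i)) := fun i =>
    Module.Finite.of_isLocalizedModule S (LocalizedModule.mkLinearMap S (P.X i))
  have hproj : ∀ i, Module.Projective B (LocalizedModule S (P.X i)) := fun i =>
    Module.projective_of_isLocalizedModule S (LocalizedModule.mkLinearMap S (P.X i))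
  let F : ℤ → ℤ := fun i => ((i.negOnePow : ℤˣ) : ℤ) * Module.finrank B (LinearMap.ker (d i))
  have hzero : ∀ i, (i < a ∨ b < i) → Subsingleton (LocalizedModule S (P.X i)) := fun i hi => by
    have := ModuleCat.subsingleton_of_isZero (hout i hi)
    infer_instance
  have key : ∀ n : ℕ, Module.Projective B (LinearMap.ker (d (b + 1 - n))) ∧
      Module.Finite B (LinearMap.ker (d (b + 1 - n))) ∧
      ∑ i ∈ Finset.Ico (b + 1 - n) (b + 1),
        ((i.negOnePow : ℤˣ) : ℤ) * (Module.rankAtStalk (R := A) (P.X i) q : ℤ) = F (b + 1 - n) := by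
    intro n
    induction n with
    | zero =>
      have := hzero (b + 1) (Or.inr (by simp))
      rw [Nat.cast_zero, sub_zero]
      refine ⟨inferInstance, inferInstance, ?_⟩
      simp only [F]
      rw [Module.finrank_zero_of_subsingleton]
      simp
    | succ n ih =>
      obtain ⟨hp, hf, hsum⟩ := ih
      set i := b + 1 - ((n + 1 : ℕ) : ℤ) with hi
      have hn : b + 1 - (n : ℤ) = i + 1 := by rw [hi]; push_cast; ring
      rw [hn] at hp hf hsum
      let g : LocalizedModule S (P.X i) →ₗ[B] LinearMap.ker (d (i + 1)) :=
        (d i).codRestrict _ fun x => hdd i x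
      have hg : Function.Surjective g := fun x => by
        obtain ⟨y, hy⟩ := hex i x.1 x.2
        exact ⟨y, Subtype.ext hy⟩
      obtain ⟨σ, hσ⟩ := Module.projective_lifting_property g LinearMap.id hg
      have hk : LinearMap.ker g = LinearMap.ker (d i) := LinearMap.ker_codRestrict _ _ _
      let π : LocalizedModule S (P.X i) →ₗ[B] LinearMap.ker g :=
        (LinearMap.id - σ ∘ₗ g).codRestrict _ fun x => by
          rw [LinearMap.mem_ker, LinearMap.sub_apply, map_sub, LinearMap.id_apply,
            LinearMap.comp_apply, show g (σ (g x)) = g x from LinearMap.congr_fun hσ (g x), sub_self]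
      have hπ : ∀ x : LinearMap.ker g, π x.1 = x := fun x => Subtype.ext (by
        simp [π, LinearMap.mem_ker.mp x.2])
      have hKf : Module.Finite B (LinearMap.ker g) :=
        Module.Finite.of_surjective π fun x => ⟨x.1, hπ x⟩
      have hKp : Module.Projective B (LinearMap.ker g) := by
        have := hproj i
        exact Module.Projective.of_split (LinearMap.ker g).subtype π (LinearMap.ext hπ)
      let e : LocalizedModule S (P.X i) ≃ₗ[B] LinearMap.ker g × LinearMap.ker (d (i + 1)) :=
        LinearEquiv.ofBijective (π.prod g) (by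
          constructor
          · rw [← LinearMap.ker_eq_bot, LinearMap.ker_eq_bot']
            intro x hx
            have h1 : π x = 0 := congrArg Prod.fst hx
            have h2 : g x = 0 := congrArg Prod.snd hx
            have := hπ ⟨x, h2⟩
            rw [h1] at this
            exact (congrArg Subtype.val this).symm
          · rintro ⟨u, v⟩
            refine ⟨u.1 + σ v, Prod.ext ?_ ?_⟩
            · show π (u.1 + σ v) = u
              rw [map_add, hπ]
              have : π (σ v) = 0 := Subtype.ext (by
                simp [π, show g (σ v) = v from LinearMap.congr_fun hσ v])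
              rw [this, add_zero]
            · show g (u.1 + σ v) = v
              rw [map_add, LinearMap.mem_ker.mp u.2, zero_add]
              exact LinearMap.congr_fun hσ v)
      have : Module.Free B (LinearMap.ker g) := Module.free_of_flat_of_isLocalRing
      have : Module.Free B (LinearMap.ker (d (i + 1))) := Module.free_of_flat_of_isLocalRing
      have hr : (Module.rankAtStalk (R := A) (P.X i) q : ℤ) =
          Module.finrank B (LinearMap.ker (d i)) + Module.finrank B (LinearMap.ker (d (i + 1))) := by
        show (Module.finrank B (LocalizedModule S (P.X i)) : ℤ) = _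
        rw [e.finrank_eq, Module.finrank_prod, (LinearEquiv.ofEq _ _ hk).finrank_eq, Nat.cast_add]
      refine ⟨hk ▸ hKp, hk ▸ hKf, ?_⟩
      rw [show Finset.Ico i (b + 1) = insert i (Finset.Ico (i + 1) (b + 1)) by ext; simp; omega,
        Finset.sum_insert (by simp), hsum, hr]
      simp only [F, Int.negOnePow_succ, Units.val_neg]
      ring
  obtain ⟨n, hn⟩ : ∃ n : ℕ, b + 1 - (n : ℤ) = a := ⟨(b + 1 - a).toNat, by omega⟩
  obtain ⟨-, -, hsum⟩ := key n
  rw [hn] at hsum
  rw [hsum]
  obtain ⟨j, rfl⟩ : ∃ j, a = j + 1 := ⟨a - 1, by ring⟩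
  have := hzero j (Or.inl (by omega))
  have : Subsingleton (LinearMap.ker (d (j + 1))) := ⟨fun x y => Subtype.ext (by
    obtain ⟨u, hu⟩ := hex j x.1 x.2
    obtain ⟨v, hv⟩ := hex j y.1 y.2
    rw [← hu, ← hv, Subsingleton.elim u v])⟩
  simp [F, Module.finrank_zero_of_subsingleton]

end Euler

open CategoryTheory CategoryTheory.Limits in
/-- Let A be a commutative ring and P a strictly perfect complex over A, that is a cochain complex of
finitely generated projective A-modules which is zero outside a finite set s of degrees. Suppose the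
cohomological support of P has positive codimension: for every minimal prime q of A and every degree
i the localization at q of the cohomology module H^i(P) is zero. Then the Euler characteristic of P
vanishes identically: at every prime of A the alternating sum over i ∈ s of the ranks of the P^i is
zero. -/
theorem result {A : Type u} [CommRing A]
    (P : CochainComplex (ModuleCat.{u} A) ℤ) (s : Finset ℤ)
    (hP : ∀ i : ℤ, Module.Finite A (P.X i) ∧ Module.Projective A (P.X i))
    (hs : ∀ i : ℤ, i ∉ s → IsZero (P.X i))
    (hsupp : ∀ q : PrimeSpectrum A, q.asIdeal ∈ minimalPrimes A →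
      ∀ i : ℤ, Subsingleton (LocalizedModule q.asIdeal.primeCompl (P.homology i))) :
    ∀ x : PrimeSpectrum A,
      (s.sum fun i => ((i.negOnePow : ℤˣ) : ℤ) * (Module.rankAtStalk (R := A) (P.X i) x : ℤ)) = 0 := by
  intro x
  classical
  obtain ⟨q, hq, hqx⟩ := Ideal.exists_minimalPrimes_le (bot_le (a := x.asIdeal))
  let y : PrimeSpectrum A := ⟨q, hq.1.1⟩
  have hrank : ∀ i, Module.rankAtStalk (R := A) (P.X i) x = Module.rankAtStalk (R := A) (P.X i) y := by
    intro i
    have := (hP i).1
    have := (hP i).2
    have := Module.finitePresentation_of_projective A (P.X i)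
    have hopen := (Module.isLocallyConstant_rankAtStalk (R := A) (M := P.X i)).isOpen_fiber
      (Module.rankAtStalk (R := A) (P.X i) x)
    exact (((PrimeSpectrum.le_iff_specializes y x).mp hqx).mem_open hopen rfl).symm
  simp only [hrank]
  obtain ⟨a, ha⟩ := s.bddBelow
  obtain ⟨b, hb⟩ := s.bddAbove
  set b' := max a b
  have hsub : s ⊆ Finset.Ico a (b' + 1) := fun i hi => by
    rw [Finset.mem_Ico]
    exact ⟨ha hi, Int.lt_add_one_iff.mpr ((hb hi).trans (le_max_right a b))⟩
  rw [Finset.sum_subset hsub]
  · exact euler_at P y hP a b' (by have := le_max_left a b; omega)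
      (fun i hi => hs i fun h => by
        rcases hi with h' | h'
        · exact absurd (ha h) (by omega)
        · exact absurd ((hb h).trans (le_max_right a b)) (by omega))
      (hsupp y hq)
  · intro i _ hi
    have := ModuleCat.subsingleton_of_isZero (hs i hi)
    simp [Module.rankAtStalk_eq_zero_of_subsingleton]

end Groth.Agent.S14000
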