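import Groth.Statements.S14004
import Groth.Agent.H30.SysLemmas
import Groth.Agent.Lib.Flat55.SmoothAt

set_option autoImplicit false
universe u
open CategoryTheory AlgebraicGeometry
open FSch

namespace Groth.Agent.S14004

/-- Formal schemes are modelled as ℕ-indexed systems of thickenings. Let 𝔛 and 𝔜 be locally Noetherian
adic formal systems and f : 𝔛 ⟶ 𝔜 an adic morphism (every square X_n → X_{n+1}, Y_n → Y_{n+1}
cartesian) all of whose levels f_n : X_n ⟶ Y_n are flat. Then f is smooth, in the sense that every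
level f_n is smooth, if and only if the bottom level f_0 is smooth. -/
theorem result (𝔛 𝔜 : FSch.Sys.{u})
    (h𝔛 : 𝔛.IsLocNoethFormal) (h𝔜 : 𝔜.IsLocNoethFormal) (f : 𝔛 ⟶ 𝔜) (hf : FSch.IsAdicHom f)
    (hflat : ∀ n : ℕ, Flat ((f : FSch.Hom 𝔛 𝔜).app n)) :
    (∀ n : ℕ, AlgebraicGeometry.Smooth ((f : FSch.Hom 𝔛 𝔜).app n)) ↔
      AlgebraicGeometry.Smooth ((f : FSch.Hom 𝔛 𝔜).app 0) := by
  refine ⟨fun h => h 0, fun h0 n => ?_⟩
  have := h0
  have := H30.SysLemmas.toX_isClosedImmersion h𝔜.1 n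
  have := H30.SysLemmas.toX_surjective h𝔜.1 n
  have := h𝔜.2.2 n
  have : LocallyOfFiniteType ((f : FSch.Hom 𝔛 𝔜).app n) := H30.SysLemmas.app_locallyOfFiniteType hf h𝔜 n
  have : LocallyOfFinitePresentation ((f : FSch.Hom 𝔛 𝔜).app n) :=
    LocallyOfFinitePresentation.iff_locallyOfFiniteType.2 inferInstance
  rw [← Scheme.Hom.smoothLocus_eq_top_iff]
  refine eq_top_iff.2 fun x _ => ?_
  have := hflat n
  obtain ⟨y₀, hy⟩ := (H30.SysLemmas.toX_surjective h𝔜.1 n).surj (((f : FSch.Hom 𝔛 𝔜).app n) x)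
  refine Lib.Flat55.SmoothAt.mem_smoothLocus_of_fibre _ x (Flat.stalkMap _ x) _ hy.symm ?_
  have hiso : IsIso ((𝔜.toX n).residueFieldMap y₀) := by
    refine (ConcreteCategory.isIso_iff_bijective _).2 ⟨RingHom.injective ((𝔜.toX n).residueFieldMap y₀).hom, ?_⟩
    intro z
    obtain ⟨a, rfl⟩ := IsLocalRing.residue_surjective z
    obtain ⟨b, rfl⟩ := (𝔜.toX n).stalkMap_surjective y₀ a
    exact ⟨IsLocalRing.residue _ b, rfl⟩
  have hp := isPullback_fiberToSpecResidueField_of_isPullback (H30.SysLemmas.isPullback_toX hf n) y₀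
  have hfst := hp.isIso_fst_of_isIso
  have h1 : AlgebraicGeometry.Smooth (((f : FSch.Hom 𝔛 𝔜).app 0).fiberToSpecResidueField y₀) :=
    MorphismProperty.pullback_snd _ _ h0
  exact (MorphismProperty.arrow_mk_iso_iff @AlgebraicGeometry.Smooth
    (Arrow.isoMk (@asIso _ _ _ _ _ hfst) (Scheme.Spec.mapIso (@asIso _ _ _ _ _ hiso).op) hp.w)).1 h1

end Groth.Agent.S14004
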