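import Groth.Statements.S14005
import Mathlib.AlgebraicGeometry.Properties
import Mathlib.Topology.Sheaves.Stalks
import Mathlib.Topology.NoetherianSpace

set_option autoImplicit false
universe u
open CategoryTheory AlgebraicGeometry
open CohTop

namespace Groth.Agent.S14005

/-- Take a scheme X with a locally Noetherian underlying topological space, F a sheaf of abelian groups
on X, x a point of X and s an element of the stalk F_x. Then the following are equivalent: (i) s is
the germ of a section t over some open neighbourhood U of x whose support in U is contained in the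
closure of {x} (that is, s belongs to the subgroup Γ_x(F) of F_x); (ii) for every generization y ≠ x
of x the image of s under the cospecialisation map F_x → F_y is zero (that is, viewed as a global
section of the inverse image of F on Spec O_{X,x}, s is supported at the closed point). -/
theorem result {X : Scheme.{u}}
    (hX : ∀ x : X, ∃ U : X.Opens, x ∈ U ∧ TopologicalSpace.NoetherianSpace U)
    (F : TopCat.Sheaf AddCommGrpCat.{u} X.carrier) (x : X) (s : F.presheaf.stalk x) :
    (∃ (U : X.Opens) (hx : x ∈ U) (t : F.presheaf.obj (Opposite.op U)),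
        F.presheaf.germ U x hx t = s ∧
          ∀ (u : X) (hu : u ∈ U), F.presheaf.germ U u hu t ≠ 0 → u ∈ closure ({x} : Set X)) ↔
      ∀ (y : X) (h : y ⤳ x), y ≠ x → F.presheaf.stalkSpecializes h s = 0 := by
  classical
  constructor
  · rintro ⟨U, hx, t, hts, hsupp⟩ y h hne
    have hy : y ∈ U := h.mem_open U.isOpen hx
    rw [← hts, ← ConcreteCategory.comp_apply, TopCat.Presheaf.germ_stalkSpecializes]
    by_contra hcon
    exact hne (h.antisymm (specializes_iff_mem_closure.mpr (hsupp y hy hcon))).eq
  · intro H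
    obtain ⟨U, mU, t, ht⟩ := F.presheaf.exists_germ_eq s
    obtain ⟨V, mV, hV⟩ := hX x
    haveI : TopologicalSpace.NoetherianSpace ((V : Set X) : Type u) := hV
    let W : X.Opens := U ⊓ V
    haveI : TopologicalSpace.NoetherianSpace W :=
      (Topology.IsEmbedding.inclusion (s := (W : Set X)) (t := (V : Set X))
        (fun a ha => ha.2)).isInducing.noetherianSpace
    haveI : QuasiSober W := W.isOpen.isOpenEmbedding_subtypeVal.quasiSober
    have mW : x ∈ W := ⟨mU, mV⟩
    let t' : F.presheaf.obj (Opposite.op W) := F.presheaf.map (homOfLE (inf_le_left : W ≤ U)).op t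
    have ht' : F.presheaf.germ W x mW t' = s := by
      rw [TopCat.Presheaf.germ_res_apply]; exact ht
    let Z : Set W := {u | F.presheaf.germ W u.1 u.2 t' ≠ 0}
    have hZ : IsClosed Z := by
      rw [← isOpen_compl_iff, isOpen_iff_forall_mem_open]
      intro u hu
      have hu0 : F.presheaf.germ W u.1 u.2 t' = 0 := not_not.mp hu
      obtain ⟨W', m', i, j, hij⟩ := F.presheaf.germ_eq u.1 u.2 u.2 t' 0 (by rw [hu0, map_zero])
      refine ⟨{v : W | v.1 ∈ W'}, fun v hv hv' => hv' ?_, W'.isOpen.preimage continuous_subtype_val, m'⟩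
      rw [← TopCat.Presheaf.germ_res_apply F.presheaf i v.1 hv t', hij, map_zero, map_zero]
    obtain ⟨S, hSf, hSc, hSi, hSu⟩ := TopologicalSpace.NoetherianSpace.exists_finite_set_isClosed_irreducible hZ
    let C : Set W := ⋃ T ∈ {T ∈ S | (⟨x, mW⟩ : W) ∉ T}, T
    have hC : IsClosed C := (hSf.subset (fun T hT => hT.1)).isClosed_biUnion fun T hT => hSc T hT.1
    obtain ⟨O, hO, hOC⟩ := isOpen_induced_iff.mp hC.isOpen_compl
    let W2 : X.Opens := ⟨(W : Set X) ∩ O, W.isOpen.inter hO⟩
    have mx : x ∈ W2 := by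
      refine ⟨mW, (Set.ext_iff.mp hOC ⟨x, mW⟩).mpr ?_⟩
      intro hc
      obtain ⟨T, hT, hx'⟩ := Set.mem_iUnion₂.mp hc
      exact hT.2 hx'
    refine ⟨W2, mx, F.presheaf.map (homOfLE (fun a ha => ha.1 : W2 ≤ W)).op t', ?_, ?_⟩
    · rw [TopCat.Presheaf.germ_res_apply]; exact ht'
    · intro u hu hne
      rw [TopCat.Presheaf.germ_res_apply] at hne
      have hZu : (⟨u, hu.1⟩ : W) ∈ ⋃₀ S := hSu ▸ (hne : (⟨u, hu.1⟩ : W) ∈ Z)
      obtain ⟨T, hTS, huT⟩ := hZu
      have hxT : (⟨x, mW⟩ : W) ∈ T := by
        by_contra hcon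
        have h2 : (⟨u, hu.1⟩ : W) ∈ Cᶜ := (Set.ext_iff.mp hOC ⟨u, hu.1⟩).mp hu.2
        exact h2 (Set.mem_biUnion (show T ∈ {T ∈ S | (⟨x, mW⟩ : W) ∉ T} from ⟨hTS, hcon⟩) huT)
      obtain ⟨g, hg⟩ := QuasiSober.sober (hSi T hTS) (hSc T hTS)
      have hgx : g.1 ⤳ x := (hg.specializes hxT).map continuous_subtype_val
      have hgZ : g ∈ Z := hSu.symm ▸ Set.mem_sUnion_of_mem hg.mem hTS
      have hgeq : g.1 = x := by
        by_contra hcon
        apply hgZ
        have h3 := H g.1 hgx hcon
        rw [← ht', ← ConcreteCategory.comp_apply, TopCat.Presheaf.germ_stalkSpecializes] at h3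
        exact h3
      have h4 := (hg.specializes huT).map continuous_subtype_val
      rw [hgeq] at h4
      exact specializes_iff_mem_closure.mp h4

end Groth.Agent.S14005
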