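import Groth.Statements.S14006
import Groth.Agent.FL92.AlgLift
import Groth.Agent.FL92.SysMap

set_option autoImplicit false
universe u
open CategoryTheory AlgebraicGeometry
open FSch

namespace Groth.Agent.S14006

open Groth.Agent.FL92 in
/-- A standard smooth affine neighbourhood over a given affine open. -/
theorem exists_standardSmooth_nhd {X Y : Scheme.{u}} (f : X ⟶ Y) [AlgebraicGeometry.Smooth f]
    {U : Y.Opens} (hU : IsAffineOpen U) (O : X.Opens) (x : X) (hxU : f x ∈ U) (hxO : x ∈ O) :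
    ∃ V : X.Opens, IsAffineOpen V ∧ x ∈ V ∧ V ≤ O ∧
      ∃ e : V ≤ f ⁻¹ᵁ U, (f.appLE U V e).hom.IsStandardSmooth := by
  obtain ⟨V, hV, hxV, hle⟩ := exists_isAffineOpen_mem_and_subset
    (show x ∈ O ⊓ f ⁻¹ᵁ U from ⟨hxO, hxU⟩)
  have e : V ≤ f ⁻¹ᵁ U := fun y hy => (hle hy).2
  obtain ⟨s, hs, hstd⟩ := (RingHom.locally_iff_isLocalization
    RingHom.isStandardSmooth_respectsIso _).mp (f.smooth_appLE hU hV e).locally_isStandardSmooth
  have hx : x ∈ ⨆ t : ((s : Set Γ(X, V)) : Set _), X.basicOpen t.1 := by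
    rw [hV.iSup_basicOpen_eq_self_iff.mpr hs]
    exact hxV
  obtain ⟨⟨t, ht⟩, hxt⟩ := TopologicalSpace.Opens.mem_iSup.mp hx
  refine ⟨X.basicOpen t, hV.basicOpen t, hxt, fun y hy => (hle (X.basicOpen_le t hy)).1,
    fun y hy => e (X.basicOpen_le t hy), ?_⟩
  have := hV.isLocalization_basicOpen t
  have h := hstd t ht Γ(X, X.basicOpen t)
  rw [RingHom.algebraMap_toAlgebra, ← CommRingCat.hom_comp, Scheme.Hom.appLE_map] at h
  exact h

section Sys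

variable {S : Scheme.{u}} {𝒥 : S.IdealSheafData} {W : S.affineOpens}
  {T R : Type u} [CommRing T] [CommRing R] {gT : Γ(S, W.1) →+* T} {gR : Γ(S, W.1) →+* R}

/-- The morphism of formal spectra given by compatible maps of the quotients. -/
noncomputable def spfHom {JT : Ideal T} {JR : Ideal R}
    (θ : ∀ n : ℕ, (T ⧸ JT ^ (n + 1)) →+* R ⧸ JR ^ (n + 1))
    (hc : ∀ n x, Ideal.Quotient.factor (Ideal.pow_le_pow_right (Nat.le_succ (n + 1)) :
        JR ^ (n + 1 + 1) ≤ JR ^ (n + 1)) (θ (n + 1) (Ideal.Quotient.mk _ x)) =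
      θ n (Ideal.Quotient.mk _ x)) : FSch.spf R JR ⟶ FSch.spf T JT :=
  ⟨fun n => Spec.map (CommRingCat.ofHom (θ n)), fun n => by
    change Spec.map _ ≫ Spec.map _ = Spec.map _ ≫ Spec.map _
    rw [← Spec.map_comp, ← Spec.map_comp]
    congr 1
    ext x
    exact (hc n x).symm⟩

open Groth.Agent.FL92 in
theorem spfHom_comp (θ : ∀ n : ℕ, (T ⧸ (𝒥.ideal W).map gT ^ (n + 1)) →+*
      R ⧸ (𝒥.ideal W).map gR ^ (n + 1))
    (hc) (hA : ∀ n a, θ n (Ideal.Quotient.mk _ (gT a)) = Ideal.Quotient.mk _ (gR a)) :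
    spfHom θ hc ≫ SysMap.hom 𝒥 W gT = SysMap.hom 𝒥 W gR := by
  refine FSch.Hom.ext (funext fun n => ?_)
  change Spec.map (CommRingCat.ofHom (θ n)) ≫ SysMap.app 𝒥 W gT n =
    SysMap.app 𝒥 W gR n
  rw [← cancel_mono (FSch.completionToX S 𝒥 n), Category.assoc]
  refine (congrArg (Spec.map (CommRingCat.ofHom (θ n)) ≫ ·) (SysMap.app_comp 𝒥 W gT n)).trans
    (Eq.trans ?_ (SysMap.app_comp 𝒥 W gR n).symm)
  change Spec.map (CommRingCat.ofHom (θ n)) ≫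
      Spec.map (CommRingCat.ofHom (Ideal.Quotient.mk _)) ≫
        Spec.map (CommRingCat.ofHom gT) ≫ W.2.fromSpec =
    Spec.map (CommRingCat.ofHom (Ideal.Quotient.mk _)) ≫ Spec.map (CommRingCat.ofHom gR) ≫
      W.2.fromSpec
  rw [← Spec.map_comp_assoc, ← Spec.map_comp_assoc, ← Spec.map_comp_assoc]
  congr 2
  ext a
  exact hA n a

variable {X : Scheme.{u}} {U : X.Opens} {J : Ideal R} {ψ : R →+* Γ(X, U)}

/-- The identification `R ⧸ J = Γ(X, U)`. -/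
noncomputable def quotEquiv (hs : Function.Surjective ψ) (hk : RingHom.ker ψ = J) :
    (R ⧸ J ^ (0 + 1)) ≃+* Γ(X, U) :=
  (Ideal.quotEquivOfEq ((pow_one J).trans hk.symm)).trans
    (RingHom.quotientKerEquivOfSurjective hs)

theorem quotEquiv_mk (hs : Function.Surjective ψ) (hk : RingHom.ker ψ = J) (r : R) :
    quotEquiv hs hk (Ideal.Quotient.mk _ r) = ψ r := rfl

/-- The bottom level of the formal spectrum. -/
noncomputable def bottomIso (hU : IsAffineOpen U) (hs : Function.Surjective ψ)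
    (hk : RingHom.ker ψ = J) : (FSch.spf R J).X 0 ≅ U.toScheme :=
  Scheme.Spec.mapIso (quotEquiv hs hk).toCommRingCatIso.symm.op ≪≫ hU.isoSpec.symm

theorem bottomIso_hom_ι (hU : IsAffineOpen U) (hs : Function.Surjective ψ)
    (hk : RingHom.ker ψ = J) : (bottomIso hU hs hk).hom ≫ U.ι =
      Spec.map (CommRingCat.ofHom (quotEquiv hs hk).symm.toRingHom) ≫ hU.fromSpec :=
  (Category.assoc _ _ _).trans rfl

open Groth.Agent.FL92 in
theorem bottomIso_comp (hU : IsAffineOpen U) (hs : Function.Surjective ψ)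
    (hk : RingHom.ker ψ = (𝒥.ideal W).map gR)
    (a : X ⟶ (FSch.completionAlong S 𝒥).X 0) (ea : U ≤ a ⁻¹ᵁ (FSch.completionToX S 𝒥 0 ⁻¹ᵁ W.1))
    (hc : ψ.comp gR = (a.appLE (FSch.completionToX S 𝒥 0 ⁻¹ᵁ W.1) U ea).hom.comp
      ((FSch.completionToX S 𝒥 0).app W.1).hom) :
    (bottomIso hU hs hk).hom ≫ U.ι ≫ a = (SysMap.hom 𝒥 W gR : FSch.Hom _ _).app 0 := by
  change _ = SysMap.app 𝒥 W gR 0
  rw [← cancel_mono (FSch.completionToX S 𝒥 0)]
  refine Eq.trans ?_ (SysMap.app_comp 𝒥 W gR 0).symm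
  refine (Category.assoc _ _ _).trans ((congrArg ((bottomIso hU hs hk).hom ≫ ·)
    (Category.assoc _ _ _)).trans (((reassoc_of% bottomIso_hom_ι hU hs hk)
      (a ≫ FSch.completionToX S 𝒥 0)).trans ?_))
  change Spec.map (CommRingCat.ofHom (quotEquiv hs hk).symm.toRingHom) ≫
      hU.fromSpec ≫ a ≫ FSch.completionToX S 𝒥 0 =
    Spec.map (CommRingCat.ofHom (Ideal.Quotient.mk _)) ≫ Spec.map (CommRingCat.ofHom gR) ≫
      W.2.fromSpec
  rw [← IsAffineOpen.SpecMap_appLE_fromSpec (a ≫ FSch.completionToX S 𝒥 0) W.2 hU ea,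
    ← Spec.map_comp_assoc, ← Spec.map_comp_assoc]
  congr 2
  ext r
  have h1 : ((a ≫ FSch.completionToX S 𝒥 0).appLE W.1 U ea).hom r = ψ (gR r) := by
    rw [Scheme.Hom.comp_appLE]
    exact (RingHom.congr_fun hc r).symm
  change (quotEquiv hs hk).symm (((a ≫ FSch.completionToX S 𝒥 0).appLE W.1 U ea).hom r) =
    Ideal.Quotient.mk _ (gR r)
  rw [h1, RingEquiv.symm_apply_eq, quotEquiv_mk]

end Sys

theorem bottom_square {T R : Type u} [CommRing T] [CommRing R] {JT : Ideal T} {JR : Ideal R}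
    {X Y : Scheme.{u}} {U : X.Opens} {V : Y.Opens} {ψT : T →+* Γ(Y, V)} {ψR : R →+* Γ(X, U)}
    (hU : IsAffineOpen U) (hV : IsAffineOpen V) (hsR : Function.Surjective ψR)
    (hkR : RingHom.ker ψR = JR) (hsT : Function.Surjective ψT) (hkT : RingHom.ker ψT = JT)
    (f : X ⟶ Y) (e : U ≤ f ⁻¹ᵁ V)
    (θ : ∀ n : ℕ, (T ⧸ JT ^ (n + 1)) →+* R ⧸ JR ^ (n + 1)) (hc)
    (h0 : ∀ (x : T) (r : R), θ 0 (Ideal.Quotient.mk _ x) = Ideal.Quotient.mk _ r →
      ψR r = (f.appLE V U e).hom (ψT x)) :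
    (spfHom θ hc : FSch.Hom _ _).app 0 ≫ (bottomIso hV hsT hkT).hom =
      (bottomIso hU hsR hkR).hom ≫ f.resLE V U e := by
  rw [← cancel_mono V.ι]
  refine (Category.assoc _ _ _).trans
    ((congrArg ((spfHom θ hc : FSch.Hom _ _).app 0 ≫ ·) (bottomIso_hom_ι hV hsT hkT)).trans ?_)
  refine Eq.trans ?_ (((congrArg ((bottomIso hU hsR hkR).hom ≫ ·) (f.resLE_comp_ι e).symm).trans
    (Category.assoc _ _ _).symm))
  refine Eq.trans ?_ ((reassoc_of% bottomIso_hom_ι hU hsR hkR) f).symm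
  change Spec.map (CommRingCat.ofHom (θ 0)) ≫
      Spec.map (CommRingCat.ofHom (quotEquiv hsT hkT).symm.toRingHom) ≫ hV.fromSpec =
    Spec.map (CommRingCat.ofHom (quotEquiv hsR hkR).symm.toRingHom) ≫ hU.fromSpec ≫ f
  rw [← IsAffineOpen.SpecMap_appLE_fromSpec f hV hU e, ← Spec.map_comp_assoc,
    ← Spec.map_comp_assoc]
  congr 2
  ext c
  obtain ⟨t, rfl⟩ := hsT c
  obtain ⟨r, hr⟩ := Ideal.Quotient.mk_surjective (θ 0 (Ideal.Quotient.mk _ t))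
  change θ 0 ((quotEquiv hsT hkT).symm (ψT t)) = (quotEquiv hsR hkR).symm ((f.appLE V U e).hom (ψT t))
  rw [← h0 t r hr.symm, ← quotEquiv_mk hsT hkT t, RingEquiv.symm_apply_apply, ← hr,
    RingEquiv.eq_symm_apply, quotEquiv_mk]

/-- Formal schemes are modelled as ℕ-indexed systems of thickenings. Let S be a locally Noetherian
scheme, 𝒥 a quasi-coherent ideal of O_S, 𝔖 the completion of S along 𝒥 (the system of the closed
subschemes defined by the powers 𝒥^{n+1}) and S₀ its bottom level. Let X₀ and Y₀ be schemes smooth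
over S₀ via a and b, f : X₀ ⟶ Y₀ a morphism with f ≫ b = a, and x a point of X₀. Then there are an
open neighbourhood U₀ of x and an open V₀ of Y₀ with f(U₀) ⊆ V₀, systems 𝔘 and 𝔙 with adic morphisms
p : 𝔘 ⟶ 𝔖 and q : 𝔙 ⟶ 𝔖 (all squares cartesian) all of whose levels are smooth, a morphism Φ : 𝔘 ⟶ 𝔙
with Φ ≫ q = p, and isomorphisms of the bottom levels of 𝔘 and 𝔙 with U₀ and V₀, compatible with the
maps to S₀, under which the bottom level of Φ is the restriction U₀ ⟶ V₀ of f. In words: locally on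
X₀ the morphism f has a smooth formal lifting over 𝔖. -/
theorem result (S : Scheme.{u}) [IsLocallyNoetherian S]
    (𝒥 : S.IdealSheafData) {X₀ Y₀ : Scheme.{u}}
    (a : X₀ ⟶ (FSch.completionAlong S 𝒥).X 0) (b : Y₀ ⟶ (FSch.completionAlong S 𝒥).X 0)
    [AlgebraicGeometry.Smooth a] [AlgebraicGeometry.Smooth b] (f : X₀ ⟶ Y₀) (w : f ≫ b = a) (x : X₀) :
    ∃ (U₀ : X₀.Opens) (V₀ : Y₀.Opens) (hU : x ∈ U₀) (hUV : U₀ ≤ f ⁻¹ᵁ V₀)
      (𝔘 𝔙 : FSch.Sys.{u}) (p : 𝔘 ⟶ FSch.completionAlong S 𝒥) (q : 𝔙 ⟶ FSch.completionAlong S 𝒥)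
      (Φ : 𝔘 ⟶ 𝔙) (eU : 𝔘.X 0 ≅ U₀.toScheme) (eV : 𝔙.X 0 ≅ V₀.toScheme),
      Φ ≫ q = p ∧ FSch.IsAdicHom p ∧ FSch.IsAdicHom q ∧
      (∀ n : ℕ, AlgebraicGeometry.Smooth ((p : FSch.Hom 𝔘 _).app n)) ∧
      (∀ n : ℕ, AlgebraicGeometry.Smooth ((q : FSch.Hom 𝔙 _).app n)) ∧
      eU.hom ≫ U₀.ι ≫ a = (p : FSch.Hom 𝔘 _).app 0 ∧
      eV.hom ≫ V₀.ι ≫ b = (q : FSch.Hom 𝔙 _).app 0 ∧
      (Φ : FSch.Hom 𝔘 𝔙).app 0 ≫ eV.hom = eU.hom ≫ f.resLE V₀ U₀ hUV   := by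
  let i := FSch.completionToX S 𝒥 0
  obtain ⟨W, hsW⟩ : ∃ W : S.affineOpens, i (b (f x)) ∈ W.1 := by
    obtain ⟨W, hW, hsW, -⟩ := exists_isAffineOpen_mem_and_subset
      (show i (b (f x)) ∈ (⊤ : S.Opens) from trivial)
    exact ⟨⟨W, hW⟩, hsW⟩
  have hW₀ : IsAffineOpen (i ⁻¹ᵁ W.1) := W.2.preimage i
  have hax : a x = b (f x) := by rw [← w]; rfl
  obtain ⟨V₀, hV, hfxV, -, eb, hsmC⟩ := exists_standardSmooth_nhd b hW₀ ⊤ (f x) hsW trivial
  obtain ⟨U₀, hU, hxU, hUV, ea, hsmD⟩ :=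
    exists_standardSmooth_nhd a hW₀ (f ⁻¹ᵁ V₀) x (by rw [hax]; exact hsW) hfxV
  have hφ : (f.appLE V₀ U₀ hUV).hom.comp
      ((b.appLE (i ⁻¹ᵁ W.1) V₀ eb).hom.comp (i.app W.1).hom) =
      (a.appLE (i ⁻¹ᵁ W.1) U₀ ea).hom.comp (i.app W.1).hom := by
    rw [← RingHom.comp_assoc, ← CommRingCat.hom_comp, Scheme.Hom.appLE_comp_appLE]
    congr 2
    subst w
    rfl
  have hπ : Function.Surjective (i.app W.1).hom :=
    (𝒥 ^ (0 + 1)).subschemeι_app_surjective W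
  have hker : RingHom.ker (i.app W.1).hom = 𝒥.ideal W := by
    refine ((𝒥 ^ (0 + 1)).ker_subschemeι_app W).trans ?_
    rw [Scheme.IdealSheafData.ideal_pow, Pi.pow_apply]
    exact pow_one _
  obtain ⟨T, _, R, _, gT, gR, ψT, ψR, hgT, hgR, hsT, hsR, hkT, hkR, hcT, hcR, θ, hθA, hθc, hθ0⟩ :=
    Groth.Agent.FL92.AlgLift.exists_formal_lift (i.app W.1).hom hπ _ hsmC _ hsmD _ hφ
  rw [hker] at hkT hkR
  revert θ
  rw [hker]
  intro θ hθA hθc hθ0
  exact ⟨U₀, V₀, hxU, hUV, _, _, Groth.Agent.FL92.SysMap.hom 𝒥 W gR, Groth.Agent.FL92.SysMap.hom 𝒥 W gT,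
    spfHom θ hθc, bottomIso hU hsR hkR, bottomIso hV hsT hkT,
    spfHom_comp θ hθc hθA, Groth.Agent.FL92.SysMap.isAdicHom_hom 𝒥 _ gR, Groth.Agent.FL92.SysMap.isAdicHom_hom 𝒥 _ gT,
    Groth.Agent.FL92.SysMap.smooth_app 𝒥 _ gR hgR, Groth.Agent.FL92.SysMap.smooth_app 𝒥 _ gT hgT,
    bottomIso_comp hU hsR hkR a ea hcR, bottomIso_comp hV hsT hkT b eb hcT,
    bottom_square hU hV hsR hkR hsT hkT f hUV θ hθc hθ0⟩

end Groth.Agent.S14006
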