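import Groth.Statements.S14007
import Groth.Agent.Lib.Perfect.OfCohomology
import Groth.Agent.Lib.KRes.KDb
import Groth.Agent.Lib.KRes.CohP
import Groth.Agent.Lib.Modules.Support

set_option autoImplicit false
universe u
open CategoryTheory AlgebraicGeometry
attribute [local instance] HasDerivedCategory.standard
open KZero

namespace Groth.Agent.S14007

/-- Let X be a Noetherian scheme and Y' ⊆ X a closed subset, and suppose that every coherent O_X-module
with support in Y', viewed in degree 0, is a perfect object of D(O_X). Write K_0(C) for the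
Grothendieck group of the abelian category C of coherent O_X-modules supported in Y' (objects modulo
short exact sequences) and K_0(D) for that of the full triangulated subcategory D of D(O_X) on the
perfect complexes all of whose cohomology sheaves are supported in Y' (objects modulo distinguished
triangles with vertices in D). Then the homomorphism K_0(C) → K_0(D) induced by G ↦ G[0] is an
isomorphism: there is an isomorphism of groups carrying the class of every G in C to the class of
G[0]. -/
theorem result (X : Scheme.{u}) [IsNoetherian X]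
    (Y' : Set X) (hY' : IsClosed Y')
    (hperf : ∀ G : X.Modules, Coh.IsCoh G → CohB1.support G ⊆ Y' → DCoh.IsPerfect (DCoh.inD X G)) :
    ∃ φ : KZero.K0sub (fun G : X.Modules => Coh.IsCoh G ∧ CohB1.support G ⊆ Y') ≃+
        KZero.K0tr (fun K : DCoh.D X => DCoh.IsPerfect K ∧ ∀ i : ℤ, CohB1.support (DCoh.HD K i) ⊆ Y'),
      ∀ G : X.Modules, Coh.IsCoh G → CohB1.support G ⊆ Y' →
        φ (KZero.clSub (fun G : X.Modules => Coh.IsCoh G ∧ CohB1.support G ⊆ Y') G) =
          KZero.clTr (fun K : DCoh.D X => DCoh.IsPerfect K ∧ ∀ i : ℤ, CohB1.support (DCoh.HD K i) ⊆ Y')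
            (DCoh.inD X G) := by
  open Groth.Agent.Lib in
  let P : ObjectProperty X.Modules := fun G => Coh.IsCoh G ∧ CohB1.support G ⊆ Y'
  have hiso : P.IsClosedUnderIsomorphisms := ⟨fun e h =>
    ⟨CohBasics.Closure.isCoh_of_iso e h.1, (Modules.Support.support_congr e).symm.trans_le h.2⟩⟩
  have hzero : P.ContainsZero := by
    obtain ⟨Z, hZ, hc⟩ := (KRes.CohP.containsZero X).exists_zero
    exact ⟨Z, hZ, hc, by rw [Modules.Support.support_eq_empty_iff.2 hZ]; exact Set.empty_subset _⟩
  have hker : P.IsClosedUnderKernels := ⟨by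
    rintro _ ⟨f, k, hk, hf⟩
    exact P.prop_of_iso ((CategoryTheory.Limits.kernelIsKernel f).conePointUniqueUpToIso hk)
      ⟨CohBasics.Closure.isCoh_kernel f hf.1.1 hf.2.1.1,
        (Modules.Support.support_subset_of_mono (CategoryTheory.Limits.kernel.ι f)).trans hf.1.2⟩⟩
  let := HasDerivedCategory.standard X.Modules
  refine KRes.KDb.exists_equiv (P := P) (fun K => ⟨fun h => ?_, fun h => ?_⟩) |>.imp
    fun φ hφ G h1 h2 => hφ G ⟨h1, h2⟩
  · exact ⟨fun i => ⟨Perfect.Coherent.isCohD_of_isPerfect h.1 i, h.2 i⟩,
      Perfect.Coherent.bounded_of_isPerfect h.1⟩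
  · exact ⟨Perfect.OfCohomology.isPerfect_of_cohomology
      (fun i => hperf _ (h.1 i).1 (h.1 i).2) h.2, fun i => (h.1 i).2⟩

end Groth.Agent.S14007
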