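import Groth.Statements.S1401
import Groth.Agent.Lib.AlgSpMor.QuasiAffineDescent
import Groth.Agent.S1397
import Groth.Agent.S1398
import Groth.Agent.S1399

set_option autoImplicit false
universe u
open FlatMor

namespace Groth.Agent.S1401

open AlgebraicGeometry CategoryTheory Limits in
/-- Let S' → S be flat, surjective and quasi-compact and let f' be the base change of f : X → S to S'.
If f' is ind-quasi-affine then so is f. -/
theorem result {X S X' S' : Scheme.{u}} (f : X ⟶ S) (f' : X' ⟶ S') (g' : X' ⟶ X) (g : S' ⟶ S)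
    [Flat g] [Surjective g] [QuasiCompact g] (hc : IsPullback g' f' f g) (hf' : MoreMor.IsIndQuasiAffineHom f') : MoreMor.IsIndQuasiAffineHom f := by
  intro V hV W hW
  let U : X.Opens := (f ⁻¹ᵁ V).ι ''ᵁ W
  have hUV : U ≤ f ⁻¹ᵁ V := by
    rintro x ⟨w, -, rfl⟩
    exact w.2
  have hUc : IsCompact (U : Set X) := hW.image (f ⁻¹ᵁ V).ι.continuous
  haveI : CompactSpace (U : Scheme.{u}) := isCompact_iff_compactSpace.1 hUc
  let h : (U : Scheme.{u}) ⟶ V := f.resLE V U hUV
  haveI : IsAffine (V : Scheme.{u}) := hV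
  haveI : QuasiCompact h := inferInstance
  let P := pullback h (g ∣_ V)
  let a : P ⟶ X' := hc.lift (pullback.fst h (g ∣_ V) ≫ U.ι) (pullback.snd h (g ∣_ V) ≫ (g ⁻¹ᵁ V).ι)
    (by
      rw [Category.assoc, Category.assoc, ← morphismRestrict_ι, ← pullback.condition_assoc]
      simp [h, Scheme.Hom.resLE_comp_ι])
  have hsq : IsPullback (pullback.fst h (g ∣_ V)) a U.ι g' := by
    refine IsPullback.of_bot ?_ (hc.lift_fst _ _ _).symm hc
    rw [show a ≫ f' = pullback.snd h (g ∣_ V) ≫ (g ⁻¹ᵁ V).ι from hc.lift_snd _ _ _,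
      show U.ι ≫ f = h ≫ V.ι from (Scheme.Hom.resLE_comp_ι f hUV).symm]
    exact (IsPullback.of_hasPullback h (g ∣_ V)).paste_vert (isPullback_morphismRestrict g V)
  haveI : IsImmersion a := MorphismProperty.of_isPullback (P := @IsImmersion) hsq inferInstance
  have h1 : MoreMor.IsIndQuasiAffineHom (pullback.snd h (g ∣_ V) ≫ (g ⁻¹ᵁ V).ι) := by
    rw [← show a ≫ f' = pullback.snd h (g ∣_ V) ≫ (g ⁻¹ᵁ V).ι from hc.lift_snd _ _ _]
    exact Groth.Agent.S1397.result a f' ((Groth.Agent.S1398.result a).1 inferInstance) hf'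
  have h2 : Groth.Agent.Lib.AlgSpMor.QuasiAffineDescent.qaHom (pullback.snd h (g ∣_ V)) :=
    (Groth.Agent.Lib.AlgSpMor.QuasiAffineDescent.qaHom_iff _).2
      ⟨inferInstance, Groth.Agent.S1399.result _ _ h1⟩
  have hg1 : Flat (g ∣_ V) := MorphismProperty.of_isPullback (P := @Flat) (isPullback_morphismRestrict g V).flip ‹Flat g›
  have hg2 : Surjective (g ∣_ V) := MorphismProperty.of_isPullback (P := @Surjective) (isPullback_morphismRestrict g V).flip ‹Surjective g›
  have hg3 : QuasiCompact (g ∣_ V) :=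
    MorphismProperty.of_isPullback (P := @QuasiCompact) (isPullback_morphismRestrict g V).flip inferInstance
  have h3 : Groth.Agent.Lib.AlgSpMor.QuasiAffineDescent.qaHom h :=
    MorphismProperty.of_pullback_snd_of_descendsAlong
      (P := Groth.Agent.Lib.AlgSpMor.QuasiAffineDescent.qaHom)
      (Q := @Surjective ⊓ @Flat ⊓ @QuasiCompact) ⟨⟨hg2, hg1⟩, hg3⟩ h2
  haveI hUq : Scheme.IsQuasiAffine ((⊤ : (U : Scheme.{u}).Opens) : Scheme.{u}) :=
    h3.2 ⊤ (isAffineOpen_top _)
  haveI : Scheme.IsQuasiAffine (U : Scheme.{u}) := by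
    exact Scheme.IsQuasiAffine.of_isImmersion ((U : Scheme.{u}).topIso.inv)
  haveI : CompactSpace (W : Scheme.{u}) := isCompact_iff_compactSpace.1 hW
  exact Scheme.IsQuasiAffine.of_isImmersion ((f ⁻¹ᵁ V).ι.isoImage W).hom

end Groth.Agent.S1401
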