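import Groth.Statements.S14018
import Mathlib.CategoryTheory.Limits.Types.Limits
import Mathlib.CategoryTheory.Sites.LocallySurjective


set_option autoImplicit false
open CategoryTheory CategoryTheory.Limits Opposite
universe w v u
open CohSite

namespace Groth.Agent.S14018

/-- Let (C, J) be a site with enough weakly contractible objects — every object V has a covering sieve
all of whose arrows factor through some weakly contractible object, an object U being weakly
contractible when every epimorphism of sheaves of sets (valued in a fixed universe) is surjective on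
sections over U. Then the topos of sheaves of sets is replete: if (F_n) is an inverse system of
sheaves of sets indexed by ℕ with every transition map F_(n+1) ⟶ F_n an epimorphism, then each
projection lim_n F_n ⟶ F_n is an epimorphism; the limit is taken as any limit cone. (The small
pro-étale site of a scheme is such a site.) -/
theorem result
    {C : Type u} [Category.{v} C] (J : GrothendieckTopology C)
    (hwc : ∀ V : C, ∃ S : Sieve V, S ∈ J V ∧ ∀ ⦃W : C⦄ (f : W ⟶ V), S.arrows f →
      ∃ (U : C) (g : W ⟶ U) (h : U ⟶ V), (∀ (A B : Sheaf J (Type w)) (ψ : A ⟶ B), Epi ψ → Function.Surjective (ψ.hom.app (op U))) ∧ g ≫ h = f)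
    (F : ℕᵒᵖ ⥤ Sheaf J (Type w))
    (hF : ∀ n : ℕ, Epi (F.map (homOfLE (Nat.le_succ n)).op))
    (c : Cone F) (hc : IsLimit c) (n : ℕ) :
    Epi (c.π.app (op n)) := by
  haveI : Presheaf.IsLocallySurjective J (c.π.app (op n)).hom := by
    constructor
    intro V s
    obtain ⟨S, hS, hfac⟩ := hwc V
    refine J.superset_covering ?_ hS
    intro W f hf
    obtain ⟨U, g, h, hU, hgh⟩ := hfac f hf
    have hsurj : ∀ m : ℕ, Function.Surjective ((F.map (homOfLE (Nat.le_succ m)).op).hom.app (op U)) :=
      fun m => hU _ _ _ (hF m)
    choose lift hlift using hsurj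
    let s₀ := (F.obj (op n)).obj.map h.op s
    let y : ∀ k : ℕ, (F.obj (op (n + k))).obj.obj (op U) := fun k => Nat.rec s₀ (fun k yk => lift (n + k) yk) k
    have hy : ∀ k, (F.map (homOfLE (Nat.le_succ (n + k))).op).hom.app (op U) (y (k + 1)) = y k :=
      fun k => hlift (n + k) (y k)
    let E : Sheaf J (Type w) ⥤ Type w := sheafToPresheaf J (Type w) ⋙ (evaluation Cᵒᵖ (Type w)).obj (op U)
    let G := F ⋙ E
    have hcomp : ∀ {a b d : ℕ} (h₁ : a ≤ b) (h₂ : b ≤ d) (z : G.obj (op d)),
        G.map (homOfLE h₁).op (G.map (homOfLE h₂).op z) = G.map (homOfLE (h₁.trans h₂)).op z := by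
      intro a b d h₁ h₂ z
      rw [← ConcreteCategory.comp_apply, ← G.map_comp]
      rfl
    let x : ∀ m : ℕ, G.obj (op m) := fun m => G.map (homOfLE (Nat.le_add_left m n)).op (y m)
    have hx1 : ∀ m, G.map (homOfLE (Nat.le_succ m)).op (x (m + 1)) = x m := by
      intro m
      show G.map (homOfLE (Nat.le_succ m)).op (G.map _ (y (m + 1))) = G.map _ (y m)
      rw [← hy m]
      exact (hcomp _ _ _).trans (hcomp (Nat.le_add_left m n) (Nat.le_succ (n + m)) (y (m + 1))).symm
    have hxle : ∀ a b : ℕ, ∀ hab : a ≤ b, G.map (homOfLE hab).op (x b) = x a := by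
      intro a b hab
      induction b, hab using Nat.le_induction with
      | base =>
        rw [show (homOfLE (le_refl a)).op = 𝟙 (op a) from rfl, G.map_id]
        rfl
      | succ b hab ih => rw [← hcomp hab (Nat.le_succ b), hx1 b]; exact ih
    have hyn : ∀ k, G.map (homOfLE (Nat.le_add_right n k)).op (y k) = s₀ := by
      intro k
      induction k with
      | zero =>
        exact congrArg (fun (m : G.obj (op n) ⟶ G.obj (op n)) => m s₀) (G.map_id (op n))
      | succ k ih =>
        rw [← ih, ← hy k]
        exact (hcomp (Nat.le_add_right n k) (Nat.le_succ (n + k)) (y (k + 1))).symm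
    have hcl : IsLimit (E.mapCone c) := isLimitOfPreserves E hc
    obtain ⟨z, hz, -⟩ := Types.isLimit_iff _ |>.1 ⟨hcl⟩ (fun m => x m.unop) (by
      intro a b φ
      exact hxle b.unop a.unop φ.unop.le)
    refine ⟨(c.pt).obj.map g.op z, ?_⟩
    have hzn : (c.π.app (op n)).hom.app (op U) z = s₀ := (hz (op n)).trans (hyn n)
    refine (NatTrans.naturality_apply (c.π.app (op n)).hom g.op z).trans ?_
    refine (congrArg _ hzn).trans ?_
    show (F.obj (op n)).obj.map g.op ((F.obj (op n)).obj.map h.op s) = _
    rw [← ConcreteCategory.comp_apply, ← Functor.map_comp, ← op_comp, hgh]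
  exact @Sheaf.epi_of_isLocallySurjective' _ _ _ _ _ (c.π.app (op n)) this

end Groth.Agent.S14018
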