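import Groth.Statements.S14020
import Mathlib.RingTheory.Noetherian.OfPrime
import Mathlib.RingTheory.KrullDimension.Zero
import Mathlib.RingTheory.Artinian.Ring
import Mathlib.RingTheory.Artinian.Module
import Mathlib.RingTheory.Finiteness.Ideal
import Mathlib.RingTheory.HopkinsLevitzki
-- import your own Groth.Agent.* helpers here

set_option autoImplicit false
universe u
open CAlg

namespace Groth.Agent.S14020

/-- Let R be a commutative ring and I a finitely generated ideal such that the quotient ring R/I is
artinian. Then R/I^n is artinian for every n. -/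
theorem result
    (R : Type u) [CommRing R] (I : Ideal R) (hI : I.FG) [IsArtinianRing (R ⧸ I)] (n : ℕ) :
    IsArtinianRing (R ⧸ I ^ n) := by
  rcases Nat.eq_zero_or_pos n with rfl | hn
  · rw [pow_zero, Ideal.one_eq_top]; infer_instance
  set π := Ideal.Quotient.mk (I ^ n) with hπ
  have hI' : ∀ P : Ideal (R ⧸ I ^ n), P.IsPrime → I ≤ P.comap π := by
    intro P hP x hx
    have : π x ^ n ∈ P := by
      rw [← map_pow, Ideal.Quotient.eq_zero_iff_mem.mpr (Ideal.pow_mem_pow hx n)]; exact P.zero_mem
    exact hP.mem_of_pow_mem n this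
  have hnoeth : IsNoetherianRing (R ⧸ I ^ n) := by
    refine IsNoetherianRing.of_prime fun P hP => ?_
    have h2 : (P.comap π).FG := by
      refine Submodule.fg_of_fg_map_of_fg_inf_ker (I.mkQ : R →ₗ[R] R ⧸ I) ?_ ?_
      · have hs : Submodule.map I.mkQ (P.comap π) =
            Submodule.restrictScalars R ((P.comap π).map (Ideal.Quotient.mk I)) := by
          ext x
          rw [Submodule.restrictScalars_mem, Ideal.mem_map_iff_of_surjective _ Ideal.Quotient.mk_surjective]
          rfl
        rw [hs, Submodule.FG.restrictScalars_iff]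
        exact IsNoetherian.noetherian _
      · rw [Submodule.ker_mkQ, inf_eq_right.mpr (hI' P hP)]; exact hI
    rw [← Ideal.map_comap_of_surjective π Ideal.Quotient.mk_surjective P]
    exact h2.map π
  rw [isArtinianRing_iff_isNoetherianRing_krullDimLE_zero]
  refine ⟨hnoeth, Ring.krullDimLE_zero_iff.mpr fun P hP => ?_⟩
  have : (P.comap π).IsPrime := inferInstance
  have hm : ((P.comap π).map (Ideal.Quotient.mk I)).IsPrime :=
    Ideal.map_isPrime_of_surjective Ideal.Quotient.mk_surjective (by rw [Ideal.mk_ker]; exact hI' P hP)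
  have hmax : ((P.comap π).map (Ideal.Quotient.mk I)).IsMaximal := IsArtinianRing.isMaximal_of_isPrime _
  have h3 := Ideal.comap_isMaximal_of_surjective (Ideal.Quotient.mk I) Ideal.Quotient.mk_surjective
    (K := (P.comap π).map (Ideal.Quotient.mk I))
  rw [Ideal.comap_map_of_surjective _ Ideal.Quotient.mk_surjective, ← RingHom.ker_eq_comap_bot, Ideal.mk_ker,
    sup_eq_left.mpr (hI' P hP)] at h3
  rw [← Ideal.map_comap_of_surjective π Ideal.Quotient.mk_surjective P]
  exact (Ideal.map_eq_top_or_isMaximal_of_surjective π Ideal.Quotient.mk_surjective h3).resolve_left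
    (fun h => hP.ne_top (by rwa [Ideal.map_comap_of_surjective π Ideal.Quotient.mk_surjective P] at h))

end Groth.Agent.S14020
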