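import Groth.Statements.S14023
import Groth.Agent.Lib.AR.Injective

set_option autoImplicit false
open CategoryTheory CategoryTheory.Limits Opposite
universe v u
open ARSys

namespace Groth.Agent.S14023

/-- For an abelian category A, the category of inverse systems (A_n)_n indexed by ℕ, i.e. of functors
ℕᵒᵖ ⥤ A, has enough injectives if and only if A has enough injectives. (The second assertion of the
published proposition, describing the injective systems, is not part of this row.) -/
theorem result
    (A : Type u) [Category.{v} A] [Abelian A] :
    EnoughInjectives (ℕᵒᵖ ⥤ A) ↔ EnoughInjectives A := by
  exact ⟨fun _ => Groth.Agent.Lib.AR.enoughInjectives_of_PS, fun _ => Groth.Agent.Lib.AR.enoughInjectives_PS⟩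

end Groth.Agent.S14023
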