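import Groth.Statements.S14024
import Groth.Agent.Lib.ProEtDC.MLArt
import Groth.Agent.S14020

set_option autoImplicit false
open CategoryTheory CategoryTheory.Limits AlgebraicGeometry Opposite
universe u
open EtModW
open Groth.Agent.Lib Groth.Agent.Lib.ProEtDC Groth.Agent.H88.EtMod Groth.Agent.Lib.EtSite.Basic

namespace Groth.Agent.S14024

/-- Let X be a Noetherian scheme, Λ a Noetherian commutative ring and I an ideal of Λ such that Λ/I is
artinian. Let (F_n) be an inverse system indexed by ℕ of sheaves of Λ-modules on the small étale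
site of X with I^(n+1) F_n = 0 for every n and every F_n locally constant of finite type (on some
étale covering isomorphic to constant sheaves with finitely generated values). Then the system
(ε⁻¹F_n) of pro-étale pullbacks satisfies the Mittag-Leffler condition: for each n, the image
subobjects of ε⁻¹F_(n+s) ⟶ ε⁻¹F_n are the same for all sufficiently large s. (Continuity of the
inclusion of the étale site into the pro-étale site is carried as a binder.) -/
theorem result
    (Λ : Type (u + 1)) [CommRing Λ] [IsNoetherianRing Λ] (I : Ideal Λ) [IsArtinianRing (Λ ⧸ I)]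
    (X : Scheme.{u}) [IsNoetherian X] [ProEtS.EpsCont X]
    (F : ARSys.PS (EtModW.Mod Λ X)) (hk : ARSys.TermKilled I F)
    (hF : ∀ n : ℕ, EtModW.IsFTLocConst Λ (F.obj (op n))) :
    ARSys.IsML (F ⋙ EtModW.epsPullMod Λ X) := by
  haveI := AdicEpi.preservesFiniteLimits_pull (Λ := Λ) (X := X)
  haveI : (EtModW.epsPullMod Λ X).IsLeftAdjoint := (ProEt.EpsMod.adjM Λ).isLeftAdjoint
  refine MLArt.isML_comp (EtModW.epsPullMod Λ X) F (MLArt.isML F hF fun n x => ?_)
  haveI := LCOps.hasLimits_small (Λ := Λ)
  haveI := LCOps.hasColimits_small (Λ := Λ)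
  haveI := ARPoints.additive_stalk (Λ := Λ) (geomPoint X x)
  haveI := ARTransport.linear_stalk (Λ := Λ) (geomPoint X x)
  obtain ⟨U, ⟨u, hu⟩, M, _, _, _, φ, hφ⟩ := LCChart.isFTLocConst_iff.1 (hF n) x
  obtain ⟨p, -⟩ := exists_fiber (geomPoint X x) U u (hu.trans (geomPoint_apply x default).symm)
  haveI : Module.Finite Λ ↥((EtModW.stalk Λ (geomPoint X x)).obj (F.obj (op n))) :=
    Module.Finite.of_surjective (LCChart.germ _ U (geomPoint X x) p ∘ₗ φ) (hφ _ _ p).2
  haveI : IsArtinianRing (Λ ⧸ I ^ (n + 1)) :=
    Groth.Agent.S14020.result Λ I (IsNoetherian.noetherian I) (n + 1)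
  refine MLArt.isArtinian_of_killed (I ^ (n + 1)) fun a ha m => ?_
  exact ConcreteCategory.congr_hom
    (ARTransport.killedBy_map (EtModW.stalk Λ (geomPoint X x)) (hk n) a ha) m

end Groth.Agent.S14024
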