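import Groth.Statements.S14025
import Groth.Agent.Lib.ProEtDC.EssStrata
import Groth.Agent.H88.EtMod.Constructible

set_option autoImplicit false
open CategoryTheory CategoryTheory.Limits AlgebraicGeometry Opposite
universe u
open EtModW
open Groth.Agent.Lib.ProEtDC

namespace Groth.Agent.S14025

/-- Let X be a scheme, Λ a Noetherian commutative ring and F a sheaf of Λ-modules on the small pro-étale
site of X. Then F is constructible — isomorphic to the pro-étale pullback ε⁻¹E of a constructible
sheaf E of Λ-modules on the small étale site — exactly when each affine open U ⊆ X can be split into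
finitely many constructible locally closed strata, the images of immersions g_i : T_i ⟶ X, such that
for each i the pullback of F to the small pro-étale site of T_i is isomorphic to the pro-étale
pullback of a finite-type locally constant sheaf of Λ-modules on the small étale site of T_i.
(Continuity of the inclusions of étale into pro-étale sites and of the base-change functors between
pro-étale sites is carried as binders.) -/
theorem result
    (Λ : Type (u + 1)) [CommRing Λ] [IsNoetherianRing Λ]
    (X : Scheme.{u}) [∀ T : Scheme.{u}, ProEtS.EpsCont T]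
    [∀ (T : Scheme.{u}) (g : T ⟶ X), ProEtS.PCont g]
    (F : EtModW.ModP Λ X) :
    (∃ E : EtModW.Mod Λ X, EtModW.IsConstructible Λ E ∧ Nonempty ((EtModW.epsPullMod Λ X).obj E ≅ F)) ↔
      ∀ U : X.Opens, IsAffineOpen U →
        ∃ (m : ℕ) (T : Fin m → Scheme.{u}) (g : ∀ i, T i ⟶ X),
          (∀ i, IsImmersion (g i)) ∧
          (∀ i, Topology.IsConstructible ((Subtype.val : ↥(U : Set X) → X) ⁻¹' Set.range (fun t => (g i).base t))) ∧
          Pairwise (fun i j => Disjoint (Set.range (fun t => (g i).base t)) (Set.range (fun t => (g j).base t))) ∧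
          (⋃ i, Set.range (fun t => (g i).base t)) = (U : Set X) ∧
          ∀ i, ∃ E : EtModW.Mod Λ (T i), EtModW.IsFTLocConst Λ E ∧
            Nonempty ((EtModW.epsPullMod Λ (T i)).obj E ≅ (((ProEtS.bcP (g i)).sheafPullback (ModuleCat.{u + 1} Λ) (Scheme.ProEt.topology X) (Scheme.ProEt.topology (T i)))).obj F) := by
  constructor
  · rintro ⟨E, hE, ⟨e⟩⟩ U hU
    obtain ⟨m, T, g, h1, h2, h3, h4, h5⟩ := hE U hU
    exact ⟨m, T, g, h1, h2, h3, h4, fun i => ⟨_, h5 i,
      ⟨((EpsBC.pullIso (g i) Λ).app E).symm ≪≫ (RecollementMod.pullBC Λ (g i)).mapIso e⟩⟩⟩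
  · intro h
    obtain ⟨E, ⟨e⟩⟩ : EssLocal.Im Λ F := EssStrata.im_of_affineStrata F fun U hU => by
      obtain ⟨m, T, g, h1, h2, -, h4, h5⟩ := h U hU
      exact ⟨m, T, g, h1, h2, h4, fun i => by
        obtain ⟨E, -, ⟨e⟩⟩ := h5 i
        exact ⟨E, ⟨e⟩⟩⟩
    refine ⟨E, fun U hU => ?_, ⟨e⟩⟩
    obtain ⟨m, T, g, h1, h2, h3, h4, h5⟩ := h U hU
    refine ⟨m, T, g, h1, h2, h3, h4, fun i => ?_⟩
    obtain ⟨E', hE', ⟨e'⟩⟩ := h5 i
    obtain ⟨hfull, hfaith⟩ := AdicP.full_faithful (Λ := Λ) (X := T i)
    exact Groth.Agent.H88.EtMod.Constructible.isFTLocConst_of_iso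
      ((EtModW.epsPullMod Λ (T i)).preimageIso (e' ≪≫ (RecollementMod.pullBC Λ (g i)).mapIso e.symm ≪≫
        (EpsBC.pullIso (g i) Λ).app E)) hE'

end Groth.Agent.S14025
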