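import Groth.Statements.S14029
import Groth.Agent.Lib.CohSite.OverSubterminal

set_option autoImplicit false
open CategoryTheory CategoryTheory.Limits Opposite
universe v u
open CohSite

namespace Groth.Agent.S14029

/-- Let (C, J) be a site and U an object such that every object has at most one morphism to U; assume
extension by the empty set j_! from sheaves of sets on the localized site C/U to sheaves of sets on
C exists (through sheafification on C and left Kan extensions along C/U → C). If V is weakly
contractible in C — every epimorphism of sheaves of sets on C is surjective on sections over V —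
then for any morphism a : V ⟶ U the object V → U of C/U is weakly contractible in C/U: every
epimorphism of sheaves of sets on C/U is surjective on sections over it. Hence C/U has enough weakly
contractible objects when C does. -/
theorem result
    {C : Type u} [Category.{v} C] (J : GrothendieckTopology C) (U : C)
    (hU : ∀ W : C, Subsingleton (W ⟶ U))
    [HasWeakSheafify J (Type (max u v))]
    [∀ (P : (Over U)ᵒᵖ ⥤ Type (max u v)), (Over.forget U).op.HasLeftKanExtension P]
    (V : C) (hV : (∀ (A B : Sheaf J (Type (max u v))) (ψ : A ⟶ B), Epi ψ → Function.Surjective (ψ.hom.app (op V)))) (a : V ⟶ U) :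
    ∀ (A B : Sheaf (J.over U) (Type (max u v))) (ψ : A ⟶ B), Epi ψ →
      Function.Surjective (ψ.hom.app (op (Over.mk a))) := by
  intro A B ψ hψ
  haveI := Groth.Agent.Lib.CohSite.full_overForget U hU
  haveI := Groth.Agent.Lib.CohSite.isIso_sheafAdjunctionContinuous_unit (Over.forget U) (Type (max u v)) (J.over U) J
  let adj := (Over.forget U).sheafAdjunctionContinuous (Type (max u v)) (J.over U) J
  haveI : IsIso adj.unit := by assumption
  haveI := adj.leftAdjoint_preservesColimits
  haveI : Epi (((Over.forget U).sheafPullback (Type (max u v)) (J.over U) J).map ψ) := inferInstance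
  intro b
  obtain ⟨x, hx⟩ := hV _ _ _ this ((adj.unit.app B).hom.app (op (Over.mk a)) b)
  haveI : ∀ F, IsIso ((adj.unit.app F).hom.app (op (Over.mk a))) := fun F => by
    haveI : IsIso (adj.unit.app F).hom := inferInstanceAs (IsIso ((sheafToPresheaf _ _).map (adj.unit.app F)))
    infer_instance
  obtain ⟨y, hy⟩ := ((isIso_iff_bijective ((adj.unit.app A).hom.app (op (Over.mk a)))).1 inferInstance).2 x
  refine ⟨y, ((isIso_iff_bijective ((adj.unit.app B).hom.app (op (Over.mk a)))).1 inferInstance).1 ?_⟩
  have h := ConcreteCategory.congr_hom ((sheafToPresheaf (J.over U) (Type (max u v)) ⋙ (evaluation (Over U)ᵒᵖ (Type (max u v))).obj (op (Over.mk a))).congr_map (adj.unit.naturality ψ)) y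
  refine h.trans ?_
  refine Eq.trans ?_ hx
  exact congrArg _ hy

end Groth.Agent.S14029
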