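import Groth.Statements.S14032
import Mathlib.LinearAlgebra.TensorProduct.Quotient
import Mathlib.RingTheory.Noetherian.Nilpotent
import Mathlib.LinearAlgebra.Basis.Basic

set_option autoImplicit false
universe u v
open W4c1frobunstiva

namespace Groth.Agent.S14032

open TensorProduct in
/-- Let R be a commutative Noetherian ring with nilradical n, M an R-module and r a natural number. Then
M is NR-free of rank r — generated by r elements such that every linear relation among them has
nilpotent coefficients — if and only if (R/n) ⊗_R M is free of rank r over R/n, in the sense of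
admitting a basis indexed by r elements. (The published statement assumes M finitely generated and
also gives the converse when R is local; over a Noetherian ring the nilradical is nilpotent, the
case used here, and finite generation is not needed.) -/
theorem result (R : Type u) [CommRing R]
    [IsNoetherianRing R] (M : Type v) [AddCommGroup M] [Module R M] (r : ℕ) :
    W4c1frobunstiva.IsNRFree R M r ↔
      Nonempty (Module.Basis (Fin r) (R ⧸ nilradical R) ((R ⧸ nilradical R) ⊗[R] M)) := by
  classical
  set I : Ideal R := nilradical R with hI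
  let q : M → (R ⧸ I) ⊗[R] M := fun x => (1 : R ⧸ I) ⊗ₜ[R] x
  have hker : ∀ x, q x = 0 ↔ x ∈ I • (⊤ : Submodule R M) := fun x => by
    rw [← (quotTensorEquivQuotSMul M I).map_eq_zero_iff, show q x = Ideal.Quotient.mk I 1 ⊗ₜ[R] x by simp [q],
      quotTensorEquivQuotSMul_mk_tmul, one_smul, Submodule.Quotient.mk_eq_zero]
  have hsmul : ∀ (a : R) (x : M), Ideal.Quotient.mk I a • q x = q (a • x) := fun a x => by
    change (Ideal.Quotient.mk I a • (1 : R ⧸ I)) ⊗ₜ[R] x = (1 : R ⧸ I) ⊗ₜ[R] (a • x)
    rw [← TensorProduct.smul_tmul]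
    congr 1
  have hqsum : ∀ (a : Fin r → R) (m : Fin r → M),
      ∑ i, Ideal.Quotient.mk I (a i) • q (m i) = q (∑ i, a i • m i) := fun a m => by
    simp only [hsmul]
    exact (TensorProduct.tmul_sum _ _ _).symm
  constructor
  · rintro ⟨m, hspan, hrel⟩
    refine ⟨Module.Basis.mk (v := fun i => q (m i)) ?_ ?_⟩
    · refine Fintype.linearIndependent_iff.2 fun g hg i => ?_
      choose a ha using fun i => Ideal.Quotient.mk_surjective (g i)
      obtain rfl : g = fun i => Ideal.Quotient.mk I (a i) := funext fun i => (ha i).symm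
      rw [hqsum, hker] at hg
      obtain ⟨ν, hν, hν'⟩ : ∃ ν : Fin r → R, (∀ i, ν i ∈ I) ∧ ∑ i, ν i • m i = ∑ i, a i • m i := by
        revert hg
        generalize (∑ i, a i • m i) = x
        intro hx
        refine Submodule.smul_induction_on hx (fun c hc y _ => ?_) ?_
        · obtain ⟨b, hb⟩ := (Submodule.mem_span_range_iff_exists_fun R).1 (hspan ▸ Submodule.mem_top : y ∈ _)
          exact ⟨fun i => c * b i, fun i => I.mul_mem_right _ hc, by simp [mul_smul, ← Finset.smul_sum, hb]⟩
        · rintro x y ⟨ν, h1, rfl⟩ ⟨ν', h1', rfl⟩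
          exact ⟨ν + ν', fun i => I.add_mem (h1 i) (h1' i), by simp [add_smul, Finset.sum_add_distrib]⟩
      have := hrel (fun i => a i - ν i) (by simp [sub_smul, Finset.sum_sub_distrib, hν'])
      exact Ideal.Quotient.eq_zero_iff_mem.2 (by simpa using I.add_mem (mem_nilradical.2 (this i)) (hν i))
    · rintro z -
      induction z using TensorProduct.induction_on with
      | zero => exact Submodule.zero_mem _
      | add x y hx hy => exact Submodule.add_mem _ hx hy
      | tmul c x =>
        obtain ⟨a, rfl⟩ := Ideal.Quotient.mk_surjective c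
        obtain ⟨b, rfl⟩ := (Submodule.mem_span_range_iff_exists_fun R).1 (hspan ▸ Submodule.mem_top : x ∈ _)
        have : Ideal.Quotient.mk I a ⊗ₜ[R] (∑ i, b i • m i) = Ideal.Quotient.mk I a • q (∑ i, b i • m i) := by
          change _ = (Ideal.Quotient.mk I a * 1) ⊗ₜ[R] _
          rw [mul_one]
        rw [this, ← hqsum]
        exact Submodule.smul_mem _ _ (Submodule.sum_mem _ fun i _ =>
          Submodule.smul_mem _ _ (Submodule.subset_span ⟨i, rfl⟩))
  · rintro ⟨b⟩
    have hq : Function.Surjective q := fun z => by
      induction z using TensorProduct.induction_on with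
      | zero => exact ⟨0, TensorProduct.tmul_zero _ _⟩
      | add x y hx hy =>
        obtain ⟨u, rfl⟩ := hx
        obtain ⟨v, rfl⟩ := hy
        exact ⟨u + v, TensorProduct.tmul_add _ _ _⟩
      | tmul c x =>
        obtain ⟨a, rfl⟩ := Ideal.Quotient.mk_surjective c
        refine ⟨a • x, ?_⟩
        rw [← hsmul]
        change (Ideal.Quotient.mk I a * 1) ⊗ₜ[R] _ = _
        rw [mul_one]
    choose m hm using fun i => hq (b i)
    set N := Submodule.span R (Set.range m)
    have hdec : (⊤ : Submodule R M) ≤ N ⊔ I • ⊤ := fun x _ => by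
      choose a ha using fun i => Ideal.Quotient.mk_surjective (b.repr (q x) i)
      have h0 : q (x - ∑ i, a i • m i) = 0 := by
        change (1 : R ⧸ I) ⊗ₜ[R] _ = 0
        rw [TensorProduct.tmul_sub, sub_eq_zero]
        change q x = q (∑ i, a i • m i)
        rw [← hqsum]
        simp only [ha, hm, b.sum_repr]
      rw [← sub_add_cancel x (∑ i, a i • m i), add_comm]
      exact Submodule.add_mem_sup (Submodule.sum_mem _ fun i _ => Submodule.smul_mem _ _ (Submodule.subset_span ⟨i, rfl⟩))
        ((hker _).1 h0)
    have hit : ∀ e : ℕ, (⊤ : Submodule R M) ≤ N ⊔ (I ^ e) • ⊤ := by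
      intro e
      induction e with
      | zero => simp
      | succ e ih =>
        refine ih.trans (sup_le le_sup_left ?_)
        calc (I ^ e) • (⊤ : Submodule R M) ≤ (I ^ e) • (N ⊔ I • ⊤) := Submodule.smul_mono le_rfl hdec
          _ = (I ^ e) • N ⊔ (I ^ (e + 1)) • ⊤ := by rw [Submodule.smul_sup, ← mul_smul, pow_succ]
          _ ≤ N ⊔ (I ^ (e + 1)) • ⊤ := sup_le_sup_right Submodule.smul_le_right _
    obtain ⟨e, he⟩ := IsNoetherianRing.isNilpotent_nilradical R
    refine ⟨m, top_le_iff.1 ?_, fun a ha i => mem_nilradical.1 ?_⟩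
    · refine (hit e).trans (sup_le le_rfl ?_)
      rw [hI, he]
      exact le_trans (le_of_eq (Submodule.bot_smul _)) bot_le
    · refine Ideal.Quotient.eq_zero_iff_mem.1 (Fintype.linearIndependent_iff.1 b.linearIndependent (fun i => Ideal.Quotient.mk I (a i)) ?_ i)
      have := hqsum a m
      simp only [hm, ha] at this
      rw [this]
      exact TensorProduct.tmul_zero _ _

end Groth.Agent.S14032
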