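import Groth.Statements.S14033
import Mathlib.RingTheory.OrzechProperty
import Mathlib.RingTheory.FiniteType
import Mathlib.LinearAlgebra.Basis.Basic
import Mathlib.RingTheory.Nilpotent.Basic

set_option autoImplicit false
universe u v
open W4c1frobunstiva

namespace Groth.Agent.S14033

open DualNumber Pointwise in
/-- Let R be a commutative ring, R[ε] its ring of dual numbers (ε² = 0), M an R[ε]-module and r a
natural number. Then M is free of rank r over R[ε] (admits a basis of r elements) if and only if the
R-modules M/εM and εM are both free of rank r. (The published statement concerns a coherent sheaf on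
the product of a scheme S with Spec ℤ[ε] and local freeness of rank r; that assertion is local, and
this row is its form over one ring, with no finiteness assumption on M and no hypothesis on R.) -/
theorem result (R : Type u) [CommRing R] (M : Type v)
    [AddCommGroup M] [Module R[ε] M] [Module R M] [IsScalarTower R R[ε] M] (r : ℕ) :
    Nonempty (Module.Basis (Fin r) R[ε] M) ↔
      (Nonempty (Module.Basis (Fin r) R (M ⧸ ((ε : R[ε]) • (⊤ : Submodule R[ε] M)))) ∧
        Nonempty (Module.Basis (Fin r) R (((ε : R[ε]) • (⊤ : Submodule R[ε] M)).restrictScalars R))) := by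
  classical
  set W : Submodule R[ε] M := (ε : R[ε]) • (⊤ : Submodule R[ε] M) with hW
  have hsc : ∀ (a : R) (x : M), (TrivSqZeroExt.inl a : R[ε]) • x = a • x := fun a x => by
    rw [← TrivSqZeroExt.algebraMap_eq_inl, algebraMap_smul]
  have hdec : ∀ (c : R[ε]) (x : M), c • x = c.fst • x + (c.snd • ((ε : R[ε]) • x)) := fun c x => by
    conv_lhs => rw [show c = TrivSqZeroExt.inl c.fst + TrivSqZeroExt.inl c.snd * ε by
      ext <;> simp]
    rw [add_smul, mul_smul, hsc, hsc]
  have hεε : ∀ x : M, (ε : R[ε]) • ((ε : R[ε]) • x) = 0 := fun x => by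
    rw [smul_smul, DualNumber.eps_mul_eps, zero_smul]
  have hmem : ∀ x, x ∈ W ↔ ∃ y, (ε : R[ε]) • y = x := fun x => by
    rw [hW, Submodule.mem_smul_pointwise_iff_exists]
    simp
  constructor
  · rintro ⟨b⟩
    have hrepr : ∀ x : M, x ∈ W ↔ ∀ i, (b.repr x i).fst = 0 := fun x => by
      refine ⟨fun h i => ?_, fun h => ?_⟩
      · obtain ⟨y, rfl⟩ := (hmem x).1 h
        simp [map_smul]
      · refine (hmem x).2 ⟨∑ i, (b.repr x i).snd • b i, ?_⟩
        conv_rhs => rw [← b.sum_repr x]
        rw [Finset.smul_sum]
        refine Finset.sum_congr rfl fun i _ => ?_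
        rw [hdec (b.repr x i), h i, zero_smul, zero_add, ← hsc, ← hsc, smul_smul, smul_smul, mul_comm]
    have hfst : ∀ (c : R) (x : M) i, (b.repr (c • x) i).fst = c * (b.repr x i).fst := fun c x i => by
      rw [← hsc, map_smul]; simp
    refine ⟨⟨?_⟩, ⟨?_⟩⟩
    · refine Module.Basis.mk (v := fun i => Submodule.Quotient.mk (b i)) ?_ ?_
      · refine Fintype.linearIndependent_iff.2 fun g hg i => ?_
        have hg' : ∑ j, g j • b j ∈ W := by
          rw [← Submodule.Quotient.mk_eq_zero, ← hg, ← Submodule.mkQ_apply, map_sum]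
          simp [Submodule.Quotient.mk_smul]
        have h := (hrepr _).1 hg' i
        simp only [map_sum, Finsupp.finsetSum_apply, TrivSqZeroExt.fst_sum, hfst] at h
        simpa [b.repr_self, Finsupp.single_apply, apply_ite TrivSqZeroExt.fst] using h
      · rintro z -
        obtain ⟨x, rfl⟩ := Submodule.Quotient.mk_surjective _ z
        have : x - ∑ i, (b.repr x i).fst • b i ∈ W := by
          refine (hrepr _).2 fun i => ?_
          simp [map_sum, Finsupp.finsetSum_apply, TrivSqZeroExt.fst_sum, hfst, b.repr_self, Finsupp.single_apply,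
            apply_ite TrivSqZeroExt.fst]
        rw [(Submodule.Quotient.eq W).2 this, ← Submodule.mkQ_apply, map_sum]
        exact Submodule.sum_mem _ fun i _ => by
          rw [Submodule.mkQ_apply, Submodule.Quotient.mk_smul]
          exact Submodule.smul_mem _ _ (Submodule.subset_span ⟨i, rfl⟩)
    · refine Module.Basis.mk (v := fun i => (⟨(ε : R[ε]) • b i, (hmem _).2 ⟨b i, rfl⟩⟩ : W.restrictScalars R)) ?_ ?_
      · refine Fintype.linearIndependent_iff.2 fun g hg i => ?_
        have h := congrArg Subtype.val hg
        simp only [Submodule.coe_sum, Submodule.coe_smul, ZeroMemClass.coe_zero] at h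
        have h' : ∑ j, ((TrivSqZeroExt.inl (g j) : R[ε]) * ε) • b j = 0 := by
          simp only [mul_smul, hsc]; exact h
        have := congrArg TrivSqZeroExt.snd (Fintype.linearIndependent_iff.1 b.linearIndependent _ h' i)
        simpa using this
      · rintro ⟨x, hx⟩ -
        obtain ⟨y, rfl⟩ := (hmem x).1 hx
        rw [Submodule.mem_span_range_iff_exists_fun]
        refine ⟨fun i => (b.repr y i).fst, Subtype.ext ?_⟩
        simp only [Submodule.coe_sum, Submodule.coe_smul]
        conv_rhs => rw [← b.sum_repr y]
        rw [Finset.smul_sum]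
        refine Finset.sum_congr rfl fun i _ => ?_
        rw [smul_comm _ (b.repr y i), hdec (b.repr y i), hεε, smul_zero, add_zero]
  · rintro ⟨⟨bq⟩, ⟨bw⟩⟩
    choose m hm using fun i => Submodule.Quotient.mk_surjective W (bq i)
    have hspanM : ∀ x : M, ∃ (a : Fin r → R) (y : M), x = ∑ i, a i • m i + (ε : R[ε]) • y := fun x => by
      have : x - ∑ i, bq.repr (Submodule.Quotient.mk x) i • m i ∈ W := by
        rw [← Submodule.Quotient.eq, ← Submodule.mkQ_apply, ← Submodule.mkQ_apply W (∑ i, _), map_sum]
        simp only [Submodule.mkQ_apply, Submodule.Quotient.mk_smul, hm, bq.sum_repr]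
      obtain ⟨y, hy⟩ := (hmem _).1 this
      exact ⟨_, y, by rw [hy]; abel⟩
    let g : (Fin r → R) →ₗ[R] W.restrictScalars R :=
      Fintype.linearCombination R fun i => (⟨(ε : R[ε]) • m i, (hmem _).2 ⟨m i, rfl⟩⟩ : W.restrictScalars R)
    have hgval : ∀ c, (g c : M) = ∑ i, c i • ((ε : R[ε]) • m i) := fun c => by
      simp [g, Fintype.linearCombination_apply]
    have hgsurj : Function.Surjective g := by
      rintro ⟨x, hx⟩
      obtain ⟨y, rfl⟩ := (hmem x).1 hx
      obtain ⟨a, z, rfl⟩ := hspanM y
      refine ⟨a, Subtype.ext ?_⟩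
      rw [hgval]
      simp only [smul_add, Finset.smul_sum, hεε, add_zero]
      exact Finset.sum_congr rfl fun i _ => smul_comm _ _ _
    have hginj : Function.Injective g := by
      have := OrzechProperty.injective_of_surjective_endomorphism
        ((bw.equivFun.toLinearMap).comp g) (bw.equivFun.surjective.comp hgsurj)
      exact fun a b h => this (congrArg bw.equivFun h)
    refine ⟨Module.Basis.mk (v := m) ?_ ?_⟩
    · refine Fintype.linearIndependent_iff.2 fun c hc i => ?_
      rw [Finset.sum_congr rfl fun j _ => hdec (c j) (m j), Finset.sum_add_distrib] at hc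
      have hfst : ∀ j, (c j).fst = 0 := Fintype.linearIndependent_iff.1 bq.linearIndependent _ (by
        have h1 : ∑ j, (c j).fst • m j ∈ W := by
          rw [eq_neg_of_add_eq_zero_left hc, neg_mem_iff]
          exact Submodule.sum_mem (W.restrictScalars R) fun j _ =>
            Submodule.smul_mem _ _ ((hmem _).2 ⟨m j, rfl⟩)
        rw [← Submodule.Quotient.mk_eq_zero, ← Submodule.mkQ_apply, map_sum] at h1
        simpa [Submodule.Quotient.mk_smul, hm] using h1)
      simp only [hfst, zero_smul, Finset.sum_const_zero, zero_add] at hc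
      have hsnd := congrFun (hginj (show g (fun j => (c j).snd) = g 0 by
        rw [map_zero]; exact Subtype.ext (by rw [hgval]; exact hc))) i
      exact TrivSqZeroExt.ext (hfst i) hsnd
    · intro x _
      obtain ⟨a, y, rfl⟩ := hspanM x
      obtain ⟨b, hb⟩ := hgsurj ⟨_, (hmem _).2 ⟨y, rfl⟩⟩
      rw [← show _ = (ε : R[ε]) • y from congrArg Subtype.val hb, hgval]
      refine Submodule.add_mem _ (Submodule.sum_mem _ fun i _ => ?_) (Submodule.sum_mem _ fun i _ => ?_)
      · rw [← hsc]; exact Submodule.smul_mem _ _ (Submodule.subset_span ⟨i, rfl⟩)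
      · rw [← hsc]; exact Submodule.smul_mem _ _ (Submodule.smul_mem _ _ (Submodule.subset_span ⟨i, rfl⟩))

end Groth.Agent.S14033
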