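import Groth.Statements.S14034
import Mathlib.RingTheory.LocalRing.Module
import Mathlib.RingTheory.Nilpotent.Lemmas
import Mathlib.LinearAlgebra.Dimension.Free

set_option autoImplicit false
universe u
open W4c1frobunstiva

namespace Groth.Agent.S14034

/-- Let R be a Noetherian local ring and f an element of R whose annihilator consists of nilpotent
elements (a f = 0 forces a nilpotent), r, s and l ≤ s natural numbers, N the quotient of the free
module R^s by the submodule spanned by f e_1, …, f e_l (e_i the standard basis vectors), and φ : R^r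
→ N a surjective linear map. Then the kernel of φ is NR-free of rank r + l − s: it is generated by r
+ l − s elements every linear relation among which has nilpotent coefficients; and when l = 0 the
kernel is free of rank r − s. (The published statement takes R Noetherian with irreducible spectrum
and R_red a domain, not necessarily local, and f arbitrary. Over the coordinate ring of the real
2-sphere the kernel of (x, y, z) : R³ → R is not free, and over k[x, y]/(y², xy) localised at (x, y)
with f = y the kernel of R → R/(y) is spanned by y with the non-nilpotent relation x·y = 0. The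
published argument uses that the kernel of a surjection of free modules is free, true over a local
ring, and that a f = 0 forces a nilpotent, which is the hypothesis taken here; it holds when R_red
is a domain and f is not nilpotent, and also for f = ε in A[ε] with A a domain, so primality of the
nilradical is not assumed.) -/
theorem result (R : Type u)
    [CommRing R] [IsNoetherianRing R] [IsLocalRing R] (f : R)
    (hann : ∀ a : R, a * f = 0 → IsNilpotent a) (r s l : ℕ) (hls : l ≤ s)
    (φ : (Fin r → R) →ₗ[R]
      ((Fin s → R) ⧸ Submodule.span R (Set.range fun i : Fin l => (Pi.single (Fin.castLE hls i) f : Fin s → R))))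
    (hφ : Function.Surjective φ) :
    W4c1frobunstiva.IsNRFree R (LinearMap.ker φ) (r + l - s) ∧
      (l = 0 → Nonempty (Module.Basis (Fin (r - s)) R (LinearMap.ker φ))) := by
  classical
  let P₀ := Submodule.span R (Set.range fun i : Fin l => (Pi.single (Fin.castLE hls i) f : Fin s → R))
  let μ : (Fin l → R) →ₗ[R] (Fin s → R) :=
    Fintype.linearCombination R fun i : Fin l => (Pi.single (Fin.castLE hls i) f : Fin s → R)
  have hμrange : LinearMap.range μ = P₀ := Fintype.range_linearCombination R _
  obtain ⟨ψ, hψ⟩ := Module.projective_lifting_property P₀.mkQ φ (Submodule.mkQ_surjective _)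
  have hψ' : ∀ x, φ x = Submodule.Quotient.mk (ψ x) := fun x => (LinearMap.congr_fun hψ x).symm
  let Ψ : ((Fin r → R) × (Fin l → R)) →ₗ[R] (Fin s → R) := ψ.comp (LinearMap.fst R _ _) + μ.comp (LinearMap.snd R _ _)
  have hΨ : ∀ x y, Ψ (x, y) = ψ x + μ y := fun x y => rfl
  have hΨs : Function.Surjective Ψ := by
    intro z
    obtain ⟨x, hx⟩ := hφ (Submodule.Quotient.mk z)
    rw [hψ', Submodule.Quotient.eq] at hx
    obtain ⟨y, hy⟩ : ψ x - z ∈ LinearMap.range μ := by rw [hμrange]; exact hx
    exact ⟨(x, -y), by rw [hΨ, map_neg, hy]; abel⟩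
  obtain ⟨σ, hσ⟩ := Module.projective_lifting_property Ψ LinearMap.id hΨs
  have hσ' : ∀ z, Ψ (σ z) = z := fun z => LinearMap.congr_fun hσ z
  let K := LinearMap.ker Ψ
  let P : ((Fin r → R) × (Fin l → R)) →ₗ[R] K := (LinearMap.id - σ.comp Ψ).codRestrict K fun z => by
    simp [K, hσ']
  have hPK : P.comp K.subtype = LinearMap.id := by
    refine LinearMap.ext fun z => Subtype.ext ?_
    have : Ψ z.1 = 0 := z.2
    simp [P, this]
  have : Module.Projective R K := Module.Projective.of_split K.subtype P hPK
  have : Module.Finite R K := Module.Finite.of_surjective P fun z => ⟨z, LinearMap.congr_fun hPK z⟩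
  have : Module.Free R K := Module.free_of_flat_of_isLocalRing
  let e : ((Fin r → R) × (Fin l → R)) ≃ₗ[R] K × (Fin s → R) :=
    LinearEquiv.ofLinear (P.prod Ψ) (K.subtype.coprod σ)
      (by
        refine LinearMap.ext fun ⟨⟨z, hz⟩, y⟩ => ?_
        have hz' : Ψ z = 0 := hz
        simp [P, Prod.ext_iff, Subtype.ext_iff, hz', hσ'])
      (by
        refine LinearMap.ext fun z => ?_
        simp [P])
  have hrank : Module.finrank R K = r + l - s := by
    have h := e.finrank_eq
    simp only [Module.finrank_prod, Module.finrank_pi, Fintype.card_fin] at h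
    omega
  let b : Module.Basis (Fin (r + l - s)) R K := Module.finBasisOfFinrankEq R K hrank
  have hmker : ∀ i, (b i).1.1 ∈ LinearMap.ker φ := fun i => by
    have h : ψ (b i).1.1 + μ (b i).1.2 = 0 := (b i).2
    rw [LinearMap.mem_ker, hψ', Submodule.Quotient.mk_eq_zero, eq_neg_of_add_eq_zero_left h, ← map_neg]
    exact hμrange.le (LinearMap.mem_range_self μ _)
  let m : Fin (r + l - s) → LinearMap.ker φ := fun i => ⟨_, hmker i⟩
  have hval : ∀ a : Fin (r + l - s) → R, ((∑ i, a i • m i : LinearMap.ker φ) : Fin r → R) =
      (∑ i, a i • b i : K).1.1 := fun a => by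
    simp [m, Prod.fst_sum]
  have hspan : Submodule.span R (Set.range m) = ⊤ := by
    refine eq_top_iff.2 fun ⟨x, hx⟩ _ => ?_
    have hx' : ψ x ∈ P₀ := by
      rw [← Submodule.Quotient.mk_eq_zero, ← hψ']; exact hx
    rw [← hμrange] at hx'
    obtain ⟨y, hy⟩ := hx'
    have hk : (x, -y) ∈ K := by
      change Ψ (x, -y) = 0
      rw [hΨ, map_neg, hy, add_neg_cancel]
    rw [Submodule.mem_span_range_iff_exists_fun]
    refine ⟨fun i => b.repr ⟨_, hk⟩ i, Subtype.ext ?_⟩
    rw [hval, b.sum_repr]
  have hrel : ∀ a : Fin (r + l - s) → R, ∑ i, a i • m i = 0 →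
      ∃ y : Fin l → R, (∀ j, IsNilpotent (y j)) ∧ ((∑ i, a i • b i : K) : (Fin r → R) × (Fin l → R)) = (0, y) := by
    intro a ha
    set k : K := ∑ i, a i • b i
    have h1 : k.1.1 = 0 := by rw [← hval, ha]; rfl
    refine ⟨k.1.2, fun j => hann _ ?_, Prod.ext h1 rfl⟩
    have h : ψ k.1.1 + μ k.1.2 = 0 := k.2
    rw [h1, map_zero, zero_add] at h
    have h2 := congrFun h (Fin.castLE hls j)
    simpa [μ, Fintype.linearCombination_apply, Pi.single_apply, (Fin.castLE_injective hls).eq_iff] using h2
  refine ⟨⟨m, hspan, fun a ha i => ?_⟩, fun hl0 => ?_⟩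
  · obtain ⟨y, hy, hk⟩ := hrel a ha
    have hai : a i = b.coord i (P ((0 : Fin r → R), y)) := by
      rw [← hk]
      have : P ((∑ i, a i • b i : K) : (Fin r → R) × (Fin l → R)) = ∑ i, a i • b i :=
        LinearMap.congr_fun hPK _
      rw [this]
      simp [Finsupp.single_apply]
    have hy' : ((0 : Fin r → R), y) = ∑ j, y j • ((0 : Fin r → R), (Pi.single j 1 : Fin l → R)) := by
      simp only [Prod.smul_mk, smul_zero, Prod.ext_iff, Prod.fst_sum, Prod.snd_sum, Finset.sum_const_zero, true_and]
      funext t
      simp [Pi.single_apply]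
    rw [hai, hy', map_sum, map_sum, ← mem_nilradical]
    refine Ideal.sum_mem _ fun j _ => ?_
    rw [map_smul, map_smul, smul_eq_mul]
    exact Ideal.mul_mem_right _ _ (mem_nilradical.2 (hy j))
  · subst hl0
    refine ⟨Module.Basis.mk (v := m) (Fintype.linearIndependent_iff.2 fun a ha => ?_) hspan.ge⟩
    obtain ⟨y, -, hk⟩ := hrel a ha
    refine Fintype.linearIndependent_iff.1 b.linearIndependent a (Subtype.ext ?_)
    rw [hk, Subsingleton.elim y 0]
    rfl

end Groth.Agent.S14034
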