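import Groth.Statements.S14035
import Mathlib.RingTheory.Flat.Equalizer
import Mathlib.RingTheory.LocalRing.Module
import Mathlib.RingTheory.Support
import Mathlib.RingTheory.LocalRing.ResidueField.Ideal

set_option autoImplicit false
universe u v
open W4c1frobunstiva

namespace Groth.Agent.S14035

open TensorProduct in
/-- Let A → B be a ring homomorphism with B Noetherian. If B modulo its nilradical is flat over A and
every fibre ring κ(p) ⊗_A B, p a prime of A, is reduced, then B is reduced. (This is the affine form
of the statement for a morphism of schemes X → Y all of whose fibres are reduced and whose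
restriction to the reduced closed subscheme X_red is flat. The published statement does not say X is
locally Noetherian, but its proof applies Nakayama's lemma to the nilradical as a finitely generated
ideal; without it the square-zero extension of a discrete valuation ring A by Frac(A)/A is a
counterexample.) -/
theorem result (A : Type u) (B : Type v)
    [CommRing A] [CommRing B] [Algebra A B] [IsNoetherianRing B]
    [Module.Flat A (B ⧸ nilradical B)]
    (hfib : ∀ p : PrimeSpectrum A, IsReduced (p.asIdeal.ResidueField ⊗[A] B)) :
    IsReduced B := by
  set N : Ideal B := nilradical B with hN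
  have hzero : ∀ (p : PrimeSpectrum A) (c : p.asIdeal.ResidueField) (x : N), c ⊗ₜ[A] x = 0 := by
    intro p c x
    have hinj : Function.Injective (LinearMap.lTensor p.asIdeal.ResidueField (N.subtype.restrictScalars A)) := by
      refine LinearMap.lTensor_injective_of_exact_of_flat (Ideal.Quotient.mkₐ A N).toLinearMap
        (Ideal.Quotient.mkₐ_surjective A N) (N.subtype.restrictScalars A) Subtype.val_injective ?_ _
      intro b
      change Ideal.Quotient.mk N b = 0 ↔ _
      rw [Ideal.Quotient.eq_zero_iff_mem]
      exact ⟨fun h => ⟨⟨b, h⟩, rfl⟩, by rintro ⟨b, rfl⟩; exact b.2⟩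
    refine hinj ?_
    rw [map_zero, LinearMap.lTensor_tmul]
    have := hfib p
    refine IsReduced.eq_zero _ ?_
    obtain ⟨e, he⟩ := mem_nilradical.1 x.2
    refine ⟨e + 1, ?_⟩
    rw [Algebra.TensorProduct.tmul_pow]
    change _ ⊗ₜ[A] ((x : B) ^ (e + 1)) = 0
    rw [show (x : B) ^ (e + 1) = 0 by rw [pow_succ, he, zero_mul], TensorProduct.tmul_zero]
  have hsupp : Module.support B N = ∅ := by
    refine Set.eq_empty_of_forall_notMem fun q hq => ?_
    rw [Module.mem_support_iff_nontrivial_residueField_tensorProduct] at hq
    let p : PrimeSpectrum A := ⟨q.asIdeal.comap (algebraMap A B), inferInstance⟩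
    let ι := Ideal.ResidueField.mapₐ p.asIdeal q.asIdeal (Algebra.ofId A B) rfl
    have h1 : ∀ x : N, (1 : q.asIdeal.ResidueField) ⊗ₜ[B] x = 0 := fun x => by
      let T : p.asIdeal.ResidueField ⊗[A] N →ₗ[A] q.asIdeal.ResidueField ⊗[B] N :=
        TensorProduct.lift (LinearMap.mk₂ A (fun c y => ι c ⊗ₜ[B] y)
          (fun a b y => by rw [map_add, TensorProduct.add_tmul])
          (fun a c y => by rw [map_smul, TensorProduct.smul_tmul'])
          (fun c y z => by rw [TensorProduct.tmul_add])
          (fun a c y => by
            rw [← algebraMap_smul B a y, TensorProduct.tmul_smul, algebraMap_smul]))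
      have := congrArg T (hzero p 1 x)
      simpa [T] using this
    have : Subsingleton (q.asIdeal.ResidueField ⊗[B] N) := by
      refine subsingleton_of_forall_eq 0 fun z => ?_
      induction z using TensorProduct.induction_on with
      | zero => rfl
      | add a b ha hb => rw [ha, hb, add_zero]
      | tmul c x =>
        rw [show c ⊗ₜ[B] x = c • ((1 : q.asIdeal.ResidueField) ⊗ₜ[B] x) by
          rw [TensorProduct.smul_tmul', smul_eq_mul, mul_one], h1, smul_zero]
    exact not_subsingleton _ this
  rw [Module.support_eq_empty_iff] at hsupp
  exact ⟨fun b hb => congrArg Subtype.val (Subsingleton.elim (⟨b, mem_nilradical.2 hb⟩ : N) 0)⟩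

end Groth.Agent.S14035
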