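import Groth.Statements.S14037
import Groth.Agent.S0384
import Groth.Agent.S7803
import Groth.Agent.Lib.SchImage.Integral
import Groth.Agent.Lib.Unram.OneBranch
import Groth.Agent.Lib.FEt.GeomConn


set_option autoImplicit false
universe u
open CategoryTheory CategoryTheory.Limits AlgebraicGeometry
open W4c1frobunstiva

namespace Groth.Agent.S14037

/-- Let f : X → Y be separated and of finite type, with X and Y integral, Y Noetherian and normal.
Suppose that every geometric fibre of f — the base change of X along any morphism from the spectrum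
of an algebraically closed field to Y — is proper over that field and connected (so non-empty). Then
f is proper. -/
theorem result {X Y : Scheme.{u}}
    (f : X ⟶ Y) [IsSeparated f] [LocallyOfFiniteType f] [QuasiCompact f]
    [IsIntegral X] [IsIntegral Y] [IsNoetherian Y] (hY : Pi1.IsNormalScheme Y)
    (hfib : ∀ (Ω : Type u) [Field Ω] [IsAlgClosed Ω] (y : Spec (CommRingCat.of Ω) ⟶ Y),
      IsProper (pullback.snd f y) ∧ ConnectedSpace ↥(pullback f y)) :
    IsProper f := by
  open CategoryTheory.Limits in
  obtain ⟨Xc, j₀, g₀, _, _, _, hj₀⟩ := Groth.Agent.S0384.result f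
  let Z := j₀.image
  let j : X ⟶ Z := j₀.toImage
  let g : Z ⟶ Y := j₀.imageι ≫ g₀
  have hjg : j ≫ g = f := by rw [← Category.assoc, j₀.toImage_imageι, hj₀]
  have : IsIntegral Z := Groth.Agent.Lib.SchImage.Integral.isIntegral j₀
  have : IsProper g := inferInstanceAs (IsProper (j₀.imageι ≫ g₀))
  have : IsOpenImmersion j := inferInstanceAs (IsOpenImmersion j₀.toImage)
  have hsurjf : Function.Surjective f := fun y => by
    let K := AlgebraicClosure (Y.residueField y)
    let p := Spec.map (CommRingCat.ofHom (algebraMap (Y.residueField y) K)) ≫ Y.fromSpecResidueField y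
    obtain ⟨z⟩ := (hfib K p).2.toNonempty
    refine ⟨pullback.fst f p z, ?_⟩
    rw [← Scheme.Hom.comp_apply, pullback.condition, Scheme.Hom.comp_apply, Scheme.Hom.comp_apply]
    exact Scheme.fromSpecResidueField_apply y _
  have : IsDominant g := ⟨by
    refine Function.Surjective.denseRange fun y => ?_
    obtain ⟨x, rfl⟩ := hsurjf y
    exact ⟨j x, by rw [← Scheme.Hom.comp_apply, hjg]⟩⟩
  -- the comparison on geometric fibres
  have key : ∀ (Ω : Type u) [Field Ω] [IsAlgClosed Ω] (y : Spec (CommRingCat.of Ω) ⟶ Y),
      IsClopen (pullback.fst g y ⁻¹' Set.range j) ∧ (pullback.fst g y ⁻¹' Set.range j).Nonempty ∧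
        _root_.IsPreconnected (pullback.fst g y ⁻¹' Set.range j) := by
    intro Ω _ _ y
    let jb : pullback f y ⟶ pullback g y := pullback.lift (pullback.fst f y ≫ j) (pullback.snd f y)
      (by rw [Category.assoc, hjg, pullback.condition])
    have hjb : jb ≫ pullback.snd g y = pullback.snd f y := pullback.lift_snd _ _ _
    have sq : IsPullback (pullback.fst f y) jb j (pullback.fst g y) := by
      refine IsPullback.of_bot ?_ (pullback.lift_fst _ _ _).symm (IsPullback.of_hasPullback g y)
      rw [hjg, hjb]
      exact IsPullback.of_hasPullback f y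
    have hr : Set.range jb = pullback.fst g y ⁻¹' Set.range j := by
      ext z
      constructor
      · rintro ⟨x, rfl⟩
        refine ⟨pullback.fst f y x, ?_⟩
        rw [← Scheme.Hom.comp_apply, ← Scheme.Hom.comp_apply, sq.w]
      · rintro ⟨x, hx⟩
        obtain ⟨t, ht, -⟩ := Scheme.Pullback.exists_preimage_pullback (f := pullback.fst g y) (g := j) z x hx.symm
        refine ⟨sq.flip.isoPullback.inv t, ?_⟩
        rw [← Scheme.Hom.comp_apply, sq.flip.isoPullback_inv_fst]
        exact ht
    obtain ⟨hp, hc⟩ := hfib Ω y
    have : IsProper (jb ≫ pullback.snd g y) := hjb.symm ▸ hp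
    have : IsProper jb := IsProper.of_comp jb (pullback.snd g y)
    rw [← hr]
    exact ⟨⟨jb.isClosedMap.isClosed_range, hr ▸ j.isOpenEmbedding.isOpen_range.preimage
      (pullback.fst g y).continuous⟩, Set.range_nonempty _, isPreconnected_range jb.continuous⟩
  -- the generic fibre
  let η := genericPoint Y
  let bar := Spec.map (CommRingCat.ofHom (algebraMap (Y.residueField η) (AlgebraicClosure (Y.residueField η))))
  let q : pullback (g.fiberToSpecResidueField η) bar ⟶ g.fiber η := pullback.fst _ _
  have : IsIntegralHom bar := IsIntegralHom.SpecMap_iff.mpr (algebraMap_isIntegral_iff.mpr inferInstance)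
  have : Surjective bar := ⟨fun _ => ⟨@Classical.arbitrary _
    (inferInstanceAs (Nonempty (PrimeSpectrum (AlgebraicClosure (Y.residueField η))))),
    @Subsingleton.elim _ (inferInstanceAs (Subsingleton (PrimeSpectrum (Y.residueField η)))) _ _⟩⟩
  have hqs : Surjective q := MorphismProperty.pullback_fst (P := @Surjective) _ _ this
  have : UniversallyClosed q := MorphismProperty.pullback_fst (P := @UniversallyClosed) _ _ inferInstance
  let Q := pullback g (bar ≫ Y.fromSpecResidueField η)
  have sqQ : IsPullback (q ≫ g.fiberι η) (pullback.snd _ bar) g (bar ≫ Y.fromSpecResidueField η) :=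
    (IsPullback.of_hasPullback _ bar).paste_horiz (IsPullback.of_hasPullback g (Y.fromSpecResidueField η))
  let S := g.fiberι η ⁻¹' Set.range j
  have hSQ : q ⁻¹' S = sqQ.isoPullback.hom ⁻¹' (pullback.fst g (bar ≫ Y.fromSpecResidueField η) ⁻¹' Set.range j) := by
    ext z
    show g.fiberι η (q z) ∈ Set.range j ↔
      pullback.fst g (bar ≫ Y.fromSpecResidueField η) (sqQ.isoPullback.hom z) ∈ Set.range j
    rw [← Scheme.Hom.comp_apply, ← Scheme.Hom.comp_apply, sqQ.isoPullback_hom_fst]
  obtain ⟨hclop, -, hpre⟩ := key _ (bar ≫ Y.fromSpecResidueField η)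
  have hS : S = Set.univ := by
    have hSc : IsClosed S := by
      rw [← Set.image_preimage_eq S q.surjective, hSQ]
      exact q.isClosedMap _ (hclop.1.preimage sqQ.isoPullback.hom.continuous)
    have hgen : g (genericPoint Z) = η := by
      refine (IsGenericPoint.eq ?_ (genericPoint_spec Y))
      have := (genericPoint_spec Z).image g.continuous
      rwa [Set.image_univ, g.denseRange.closure_range] at this
    obtain ⟨z₀, hz₀⟩ : genericPoint Z ∈ Set.range (g.fiberι η) := by
      rw [Scheme.Hom.range_fiberι]
      exact hgen
    have hz₀S : z₀ ∈ S := by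
      show g.fiberι η z₀ ∈ Set.range j
      rw [hz₀]
      exact ((genericPoint_spec Z).mem_open_set_iff j.isOpenEmbedding.isOpen_range).mpr
        (by simpa using Set.range_nonempty _)
    refine Set.eq_univ_iff_forall.mpr fun z => ?_
    have hsp : z₀ ⤳ z := (g.fiberι η).isEmbedding.isInducing.specializes_iff.mp
      (hz₀ ▸ genericPoint_specializes _)
    exact hsp.mem_closed hSc hz₀S
  have hgenConn : GeometricallyConnected (g.fiberToSpecResidueField η) := by
    have : ConnectedSpace ↥(pullback (g.fiberToSpecResidueField η) bar) := by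
      have hu : (Set.univ : Set ↥(pullback g (bar ≫ Y.fromSpecResidueField η))) =
          pullback.fst g (bar ≫ Y.fromSpecResidueField η) ⁻¹' Set.range j := by
        refine (Set.preimage_eq_preimage sqQ.isoPullback.hom.homeomorph.surjective).mp ?_
        exact (congrArg (q ⁻¹' ·) hS.symm).trans hSQ
      have : PreconnectedSpace ↥(pullback g (bar ≫ Y.fromSpecResidueField η)) := ⟨hu ▸ hpre⟩
      have : ConnectedSpace ↥(pullback g (bar ≫ Y.fromSpecResidueField η)) :=
        { toNonempty := (hu ▸ (key _ (bar ≫ Y.fromSpecResidueField η)).2.1).to_subtype.map Subtype.val }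
      exact sqQ.isoPullback.hom.homeomorph.connectedSpace_iff.mpr this
    exact Groth.Agent.Lib.FEt.GeomConn.geometricallyConnected_of_algClosure (Y.residueField η)
      (g.fiberToSpecResidueField η)
  have hgc : GeometricallyConnected g := Groth.Agent.S7803.result g (fun y =>
    haveI := (hY y).1
    haveI := (hY y).2
    Groth.Agent.Lib.Unram.OneBranch.isGeomUnibranch_of_isIntegrallyClosed _) hgenConn
  have : Surjective j := ⟨fun z => by
    let K := AlgebraicClosure (Y.residueField (g z))
    let p := Spec.map (CommRingCat.ofHom (algebraMap (Y.residueField (g z)) K)) ≫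
      Y.fromSpecResidueField (g z)
    have : ConnectedSpace ↥(pullback g p) :=
      geometrically_iff_of_isClosedUnderIsomorphisms.mp hgc.geometrically_connectedSpace K p
    obtain ⟨w, hw, -⟩ := Scheme.Pullback.exists_preimage_pullback (f := g) (g := p) z
      (IsLocalRing.closedPoint K) ((Scheme.fromSpecResidueField_apply (g z) _).symm.trans
        (Scheme.Hom.comp_apply _ _ _).symm)
    obtain ⟨hcl, hne, -⟩ := key K p
    have := Set.eq_univ_iff_forall.mp (hcl.eq_univ hne) w
    rwa [Set.mem_preimage, hw] at this⟩
  have : IsIso j := (isIso_iff_isOpenImmersion_and_surjective _).mpr ⟨inferInstance, inferInstance⟩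
  rw [← hjg]
  infer_instance

end Groth.Agent.S14037
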