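import Groth.Statements.S14038
import Groth.Agent.Lib.FrobUnst.Hermite

set_option autoImplicit false
universe u
open W4c1frobunstiva

namespace Groth.Agent.S14038

open Groth.Agent.Lib.FrobUnst

/-- Let k be a field and M a square matrix of size r over the formal power series ring k[[t]] with
non-zero determinant. Call a matrix H over k[[t]] row-reduced when it is upper triangular, each
diagonal entry is a power t^{e_i} of the variable, and every entry above the diagonal in column j is
a polynomial of degree less than e_j (all its coefficients in degrees ≥ e_j vanish). Then there is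
exactly one row-reduced H obtainable from M by left multiplication with an invertible matrix over
k[[t]]. (The published statement takes k algebraically closed; the row-reduction argument needs only
a field.) -/
theorem result (k : Type u) [Field k] (r : ℕ)
    (M : Matrix (Fin r) (Fin r) (PowerSeries k)) (hM : M.det ≠ 0) :
    ∃! H : Matrix (Fin r) (Fin r) (PowerSeries k),
      (∃ e : Fin r → ℕ, (∀ i, H i i = PowerSeries.X ^ e i) ∧ (∀ i j, j < i → H i j = 0) ∧
        (∀ i j, i < j → ∀ n, e j ≤ n → PowerSeries.coeff n (H i j) = 0)) ∧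
      ∃ N : Matrix (Fin r) (Fin r) (PowerSeries k), IsUnit N ∧ N * M = H := by
  obtain ⟨N, P, e, hN, -, hPQ, hred⟩ := exists_reduced (k := k) (⊥ : NonUnitalSubring (PowerSeries k))
    (fun _ _ => False) (fun e f x => by
      refine ⟨PowerSeries.mk fun n => if f ≤ n then 0 else PowerSeries.coeff n x, 0,
        PowerSeries.mk fun n => PowerSeries.coeff (n + f) x, NonUnitalSubring.mem_bot.2 rfl,
        fun n hn => by simp [hn.resolve_right id], PowerSeries.ext fun n => ?_⟩
      rw [mul_zero, add_zero, map_add, PowerSeries.coeff_mul_X_pow']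
      by_cases h : f ≤ n
      · simp [h, Nat.sub_add_cancel h]
      · simp [h]) M hM
  have hP : P = 1 := Matrix.ext fun i j => sub_eq_zero.1 (NonUnitalSubring.mem_bot.1 (hPQ i j))
  rw [hP, mul_one] at hred
  have hconv : ∀ (e : Fin r → ℕ) (H : Matrix (Fin r) (Fin r) (PowerSeries k)),
      Reduced (fun _ _ => False) e H ↔ ((∀ i, H i i = PowerSeries.X ^ e i) ∧ (∀ i j, j < i → H i j = 0) ∧
        (∀ i j, i < j → ∀ n, e j ≤ n → PowerSeries.coeff n (H i j) = 0)) := fun e H => by
    simp [Reduced]
  refine ⟨N * M, ⟨⟨e, (hconv _ _).1 hred⟩, N, hN, rfl⟩, ?_⟩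
  rintro H ⟨⟨e', he'⟩, N', hN', rfl⟩
  refine reduced_unique ((hconv _ _).2 he') hred
    (hN.mul (Matrix.isUnit_nonsing_inv_iff.2 hN')) ?_
  rw [← mul_assoc, mul_assoc N, Matrix.nonsing_inv_mul N' ((Matrix.isUnit_iff_isUnit_det _).1 hN'), mul_one]

end Groth.Agent.S14038
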