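import Groth.Statements.S1404
import Groth.Statements.S1404
import Groth.Agent.H20.QuasiFinitePoly
import Mathlib

set_option autoImplicit false
universe u
open FlatMor

namespace Groth.Agent.S1404

/-- Polynomial rings over normal domains are normal. -/
theorem mvPoly_normal (R : Type u) [CommRing R] [IsDomain R] [IsIntegrallyClosed R] (ι : Type u) [Finite ι] :
    IsIntegrallyClosed (MvPolynomial ι R) := by
  have key : ∀ n, IsIntegrallyClosed (MvPolynomial (Fin n) R) := by
    intro n
    induction n with
    | zero => exact IsIntegrallyClosed.of_equiv (MvPolynomial.isEmptyRingEquiv R (Fin 0)).symm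
    | succ n ih =>
      exact IsIntegrallyClosed.of_equiv (MvPolynomial.finSuccEquiv R n).toRingEquiv.symm
  have := key (Nat.card ι)
  exact IsIntegrallyClosed.of_equiv (MvPolynomial.renameEquiv R (Finite.equivFin ι).symm).toRingEquiv

theorem quotient_succ_le {R : Type u} [CommRing R] {r : R} (hr : ∀ p ∈ minimalPrimes R, r ∉ p) :
    ringKrullDim (R ⧸ Ideal.span {r}) + 1 ≤ ringKrullDim R := by
  by_cases hr' : Ideal.span {r} = ⊤
  · haveI : Subsingleton (R ⧸ Ideal.span {r}) := Ideal.Quotient.subsingleton_iff.2 hr'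
    rw [ringKrullDim_eq_bot_of_subsingleton, WithBot.bot_add]
    exact bot_le
  have : Nonempty (PrimeSpectrum.zeroLocus (R := R) (Ideal.span {r})) := by
    rwa [Set.nonempty_coe_sort, Set.nonempty_iff_ne_empty, ne_eq,
      PrimeSpectrum.zeroLocus_empty_iff_eq_top]
  have := Ideal.Quotient.nontrivial_iff.mpr hr'
  have := (Ideal.Quotient.mk (Ideal.span {r})).domain_nontrivial
  rw [ringKrullDim_quotient, Order.krullDim_eq_iSup_length, ringKrullDim,
    Order.krullDim_eq_iSup_length, ← WithBot.coe_one, ← WithBot.coe_add,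
    ENat.iSup_add, WithBot.coe_le_coe, iSup_le_iff]
  intro l
  obtain ⟨p, hp, hp'⟩ := Ideal.exists_minimalPrimes_le (J := l.head.1.asIdeal) bot_le
  let p' : PrimeSpectrum R := ⟨p, hp.1.1⟩
  have hp' : p' < l.head := lt_of_le_of_ne hp' fun h ↦ hr p hp (by
    have := l.head.2 (Ideal.mem_span_singleton_self r)
    rw [← h] at this
    exact this)
  refine le_trans ?_ (le_iSup _ ((l.map Subtype.val (fun _ _ ↦ id)).cons p' hp'))
  simp [RelSeries.cons, RelSeries.append, LTSeries.map]

open Classical in
theorem exists_params {A B : Type u} [CommRing A] [CommRing B] [IsLocalRing A] [IsLocalRing B]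
    [Algebra A B] [IsLocalHom (algebraMap A B)] [Algebra.EssFiniteType A B]
    (g : B) (hg : g ∈ IsLocalRing.maximalIdeal B)
    (hmin : ∀ q ∈ (Ideal.map (algebraMap A B) (IsLocalRing.maximalIdeal A)).minimalPrimes, g ∉ q)
    (d : ℕ) (hd : ringKrullDim (B ⧸ Ideal.map (algebraMap A B) (IsLocalRing.maximalIdeal A)) = d) :
    ∃ s : Finset B, s.card + 1 ≤ d ∧ (∀ x ∈ s, x ∈ IsLocalRing.maximalIdeal B) ∧
      ∀ Z : Ideal B, Z.IsPrime → (IsLocalRing.maximalIdeal A).map (algebraMap A B) ≤ Z → g ∈ Z →
        (∀ x ∈ s, x ∈ Z) → Z = IsLocalRing.maximalIdeal B := by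
  set I := Ideal.map (algebraMap A B) (IsLocalRing.maximalIdeal A)
  have hIle : I ≤ IsLocalRing.maximalIdeal B :=
    ((IsLocalRing.local_hom_TFAE (algebraMap A B)).out 0 2 rfl rfl).mp inferInstance
  letI : Algebra (IsLocalRing.ResidueField A) (B ⧸ I) :=
    (Ideal.Quotient.lift (IsLocalRing.maximalIdeal A) ((Ideal.Quotient.mk I).comp (algebraMap A B))
      fun a ha => Ideal.Quotient.eq_zero_iff_mem.2 (Ideal.mem_map_of_mem _ ha)).toAlgebra
  haveI : IsScalarTower A (IsLocalRing.ResidueField A) (B ⧸ I) := IsScalarTower.of_algebraMap_eq fun a => rfl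
  haveI : Algebra.EssFiniteType A (B ⧸ I) := Algebra.EssFiniteType.comp A B (B ⧸ I)
  haveI : Algebra.EssFiniteType (IsLocalRing.ResidueField A) (B ⧸ I) :=
    Algebra.EssFiniteType.of_comp A (IsLocalRing.ResidueField A) (B ⧸ I)
  haveI : IsNoetherianRing (B ⧸ I) :=
    Algebra.EssFiniteType.isNoetherianRing (IsLocalRing.ResidueField A) (B ⧸ I)
  let q := Ideal.Quotient.mk I
  let T := (B ⧸ I) ⧸ Ideal.span {q g}
  have hT : ringKrullDim T + 1 ≤ d := hd ▸ quotient_succ_le (fun p hp h => hmin (p.comap q) (by
    rw [Ideal.minimalPrimes_eq_comap]; exact ⟨p, hp, rfl⟩) h)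
  let f : B →+* T := (Ideal.Quotient.mk _).comp q
  have hf : Function.Surjective f := Ideal.Quotient.mk_surjective.comp Ideal.Quotient.mk_surjective
  have hker : RingHom.ker f ≤ IsLocalRing.maximalIdeal B := fun x hx => by
    rw [RingHom.mem_ker, RingHom.comp_apply, Ideal.Quotient.eq_zero_iff_mem,
      Ideal.mem_span_singleton'] at hx
    obtain ⟨c, hc⟩ := hx
    obtain ⟨c, rfl⟩ := Ideal.Quotient.mk_surjective c
    rw [← map_mul, Ideal.Quotient.eq] at hc
    rw [← sub_sub_cancel (c * g) x]
    exact sub_mem (Ideal.mul_mem_left _ _ hg) (hIle hc)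
  haveI : Nontrivial T := ⟨⟨f 1, f 0, fun h => (IsLocalRing.maximalIdeal.isMaximal B).ne_top
    ((Ideal.eq_top_iff_one _).2 (hker (by rw [RingHom.mem_ker, h, map_zero])))⟩⟩
  haveI : IsLocalRing T := .of_surjective' f hf
  obtain ⟨t, htp, htc⟩ := Ideal.exists_finset_card_eq_height_of_isNoetherianRing (IsLocalRing.maximalIdeal T)
  have hcard : (t.card : WithBot ℕ∞) + 1 ≤ (d : WithBot ℕ∞) := by
    refine le_trans (add_le_add ?_ le_rfl) hT
    rw [← IsLocalRing.maximalIdeal_height_eq_ringKrullDim, ← htc]
    rfl
  choose pre hpre using hf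
  refine ⟨t.image pre, ?_, ?_, fun Z hZ hIZ hgZ hsZ => ?_⟩
  · have : t.card + 1 ≤ d := by exact_mod_cast hcard
    exact le_trans (Nat.add_le_add_right Finset.card_image_le 1) this
  · intro x hx
    obtain ⟨y, hy, rfl⟩ := Finset.mem_image.1 hx
    intro hu
    have : y ∈ IsLocalRing.maximalIdeal T := htp.1.2 (Ideal.subset_span hy)
    exact this (hpre y ▸ hu.map f)
  · have hsurj : Function.Surjective f := fun y => ⟨pre y, hpre y⟩
    have hkZ : RingHom.ker f ≤ Z := fun x hx => by
      rw [RingHom.mem_ker, RingHom.comp_apply, Ideal.Quotient.eq_zero_iff_mem,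
        Ideal.mem_span_singleton'] at hx
      obtain ⟨c, hc⟩ := hx
      obtain ⟨c, rfl⟩ := Ideal.Quotient.mk_surjective c
      rw [← map_mul, Ideal.Quotient.eq] at hc
      rw [← sub_sub_cancel (c * g) x]
      exact sub_mem (Ideal.mul_mem_left _ _ hgZ) (hIZ hc)
    haveI := Ideal.map_isPrime_of_surjective hsurj hkZ
    have h1 : Ideal.span (t : Set T) ≤ Z.map f := Ideal.span_le.2 fun y hy =>
      hpre y ▸ Ideal.mem_map_of_mem f (hsZ _ (Finset.mem_image_of_mem _ hy))
    have h2 : IsLocalRing.maximalIdeal T ≤ Z.map f :=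
      htp.2 ⟨inferInstance, h1⟩ (IsLocalRing.le_maximalIdeal (Ideal.IsPrime.ne_top inferInstance))
    refine le_antisymm (IsLocalRing.le_maximalIdeal hZ.ne_top) fun x hx => ?_
    have h3 : f x ∈ IsLocalRing.maximalIdeal T := fun hu => by
      obtain ⟨y, hy⟩ := hu.exists_right_inv
      obtain ⟨y, rfl⟩ := hsurj y
      have h4 : x * y - 1 ∈ IsLocalRing.maximalIdeal B := hker (by
        rw [RingHom.mem_ker, map_sub, map_mul, hy, map_one, sub_self])
      exact (IsLocalRing.maximalIdeal.isMaximal B).ne_top ((Ideal.eq_top_iff_one _).2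
        (by simpa using sub_mem (Ideal.mul_mem_right y _ hx) h4))
    obtain ⟨z, hz, hzx⟩ := (Ideal.mem_map_iff_of_surjective f hsurj).1 (h2 h3)
    rw [← sub_sub_cancel z x]
    exact sub_mem hz (hkZ (by rw [RingHom.mem_ker, map_sub, hzx, sub_self]))

theorem core {P L C : Type u} [CommRing P] [IsDomain P] [IsIntegrallyClosed P] [Field L] [Algebra P L]
    [FaithfulSMul P L] [CommRing C] [IsDomain C] [Algebra C L] [FaithfulSMul C L]
    (hCP : ∀ c : C, IsIntegral P (algebraMap C L c)) (hPC : ∀ p : P, IsIntegral C (algebraMap P L p))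
    (p1 : Ideal P) [p1.IsPrime] (qC : Ideal C) [qC.IsPrime]
    (x₀ : P) (hspan : p1 = Ideal.span {x₀}) (c₀ : C) (hc₀ : c₀ ∈ qC)
    (heq₀ : algebraMap C L c₀ = algebraMap P L x₀)
    {a x : P} {s c : C} (hx : x ∈ p1) (hs : s ∉ qC)
    (h : algebraMap C L s * algebraMap P L a = algebraMap C L c * algebraMap P L x) : a ∈ p1 := by
  haveI : FaithfulSMul P (integralClosure P L) := (faithfulSMul_iff_algebraMap_injective _ _).2
    fun a b h => FaithfulSMul.algebraMap_injective P L (congrArg Subtype.val h)
  haveI : Algebra.HasGoingDown P (integralClosure P L) := inferInstance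
  letI : Algebra C (integralClosure P L) := ((algebraMap C L).codRestrict (integralClosure P L) hCP).toAlgebra
  haveI : IsScalarTower C (integralClosure P L) L := IsScalarTower.of_algebraMap_eq fun _ => rfl
  haveI : FaithfulSMul C (integralClosure P L) := (faithfulSMul_iff_algebraMap_injective _ _).2
    fun a b h => FaithfulSMul.algebraMap_injective C L (congrArg Subtype.val h)
  haveI : Algebra.IsIntegral C (integralClosure P L) := ⟨fun y => by
    refine (isIntegral_algHom_iff (IsScalarTower.toAlgHom C (integralClosure P L) L) Subtype.val_injective).1 ?_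
    show IsIntegral C (y : L)
    obtain ⟨f, hf, hfy⟩ := (y.2 : IsIntegral P (y : L))
    have : IsIntegral (integralClosure C L) (y : L) :=
      ⟨f.map ((algebraMap P L).codRestrict (integralClosure C L) hPC), hf.map _, by
        rw [Polynomial.eval₂_map]; exact hfy⟩
    exact isIntegral_trans (y : L) this⟩
  obtain ⟨q', hq', hq'C⟩ := Ideal.exists_ideal_over_prime_of_isIntegral_of_isDomain
    (S := integralClosure P L) qC (by
      rw [(RingHom.injective_iff_ker_eq_bot _).1 (FaithfulSMul.algebraMap_injective C (integralClosure P L))]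
      exact bot_le)
  haveI := hq'
  have hle : p1 ≤ q'.under P := by
    rw [hspan, Ideal.span_singleton_le_iff_mem]
    show algebraMap P (integralClosure P L) x₀ ∈ q'
    rw [show algebraMap P (integralClosure P L) x₀ = algebraMap C (integralClosure P L) c₀ from Subtype.ext heq₀.symm,
      ← Ideal.mem_comap, hq'C]
    exact hc₀
  haveI : q'.LiesOver (q'.under P) := ⟨rfl⟩
  obtain ⟨Q, hQle, hQp, hQo⟩ := Ideal.exists_ideal_le_liesOver_of_le (p := p1) (q := q'.under P) q' hle
  have hover : p1 = Q.under P := hQo.over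
  have hmem : algebraMap C (integralClosure P L) s * algebraMap P (integralClosure P L) a ∈ Q := by
    rw [show algebraMap C (integralClosure P L) s * algebraMap P (integralClosure P L) a =
      algebraMap C (integralClosure P L) c * algebraMap P (integralClosure P L) x from Subtype.ext h]
    rw [hover] at hx
    exact Q.mul_mem_left _ hx
  rcases hQp.mem_or_mem hmem with h1 | h1
  · exact absurd (show s ∈ qC from hq'C ▸ hQle h1) hs
  · rw [hover]; exact h1

section

variable {A B : Type u} [CommRing A] [CommRing B] [IsDomain A] [IsDomain B] [IsLocalRing A] [IsLocalRing B]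
  [Algebra A B] [IsLocalHom (algebraMap A B)] [FaithfulSMul A B] [Algebra.EssFiniteType A B]

set_option maxHeartbeats 1600000 in
open Classical in
/-- Every element is a fraction of elements integral over the polynomial ring. -/
theorem exists_integral_fraction {ι : Type u} [Finite ι] (v : ι → B)
    (hfib : ∀ Z : Ideal B, Z.IsPrime → (IsLocalRing.maximalIdeal A).map (algebraMap A B) ≤ Z →
      (∀ i, v i ∈ IsLocalRing.maximalIdeal B → v i ∈ Z) → Z = IsLocalRing.maximalIdeal B)
    (halg : ∀ w : IsLocalRing.ResidueField B,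
      IsAlgebraic (Algebra.adjoin (IsLocalRing.ResidueField A) (Set.range fun i => IsLocalRing.residue B (v i))) w)
    (b : B) :
    ∃ s c : B, s ∉ IsLocalRing.maximalIdeal B ∧
      IsIntegral (Algebra.adjoin A (Set.range v)) s ∧ IsIntegral (Algebra.adjoin A (Set.range v)) c ∧
      b * s = c := by
  haveI := Fintype.ofFinite ι
  set m := IsLocalRing.maximalIdeal B
  obtain ⟨σ, hσ⟩ := (Algebra.essFiniteType_iff A B).1 ‹_›
  let σ' : Finset B := σ ∪ Finset.univ.image v
  set B0 := Algebra.adjoin A (σ' : Set B)
  have hle : Algebra.adjoin A (σ : Set B) ≤ B0 := Algebra.adjoin_mono (by simp [σ'])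
  have hσ' : ∀ x : B, ∃ t ∈ B0, IsUnit t ∧ x * t ∈ B0 := fun x => by
    obtain ⟨t, ht, hu, htx⟩ := hσ x
    exact ⟨t, hle ht, hu, hle htx⟩
  haveI hloc : IsLocalization ((IsUnit.submonoid B).comap (algebraMap B0 B)) B :=
    (Algebra.essFiniteType_cond_iff A B σ').2 hσ'
  haveI : Algebra.FiniteType A B0 := ⟨(Subalgebra.fg_top _).2 ⟨σ', rfl⟩⟩
  set D := Algebra.adjoin A (Set.range v)
  have hDB : D ≤ B0 := Algebra.adjoin_mono (by simp [σ'])
  letI : Algebra D B0 := (Subalgebra.inclusion hDB).toRingHom.toAlgebra
  haveI : IsScalarTower A D B0 := IsScalarTower.of_algebraMap_eq fun a => rfl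
  haveI : Algebra.FiniteType D B0 := Algebra.FiniteType.of_restrictScalars_finiteType A D B0
  let q : Ideal B0 := m.comap (algebraMap B0 B)
  haveI hqp : q.IsPrime := Ideal.IsPrime.comap _
  haveI : Algebra.QuasiFiniteAt D q := by
    refine Groth.Agent.H20.QuasiFinitePoly.quasiFiniteAt_of_incomparable q fun z hz hzp hcmp => ?_
    have hiff : ∀ x : D, (algebraMap D B0 x) ∈ z ↔ (x : B) ∈ m := fun x => by
      change x ∈ z.under D ↔ _
      rw [hzp]; rfl
    rcases hcmp with hzq | hqz
    · have hdisj : Disjoint (((IsUnit.submonoid B).comap (algebraMap B0 B) : Submonoid B0) : Set B0) (z : Set B0) :=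
        Set.disjoint_left.2 fun x hx hxz => hzq hxz hx
      haveI := IsLocalization.isPrime_of_isPrime_disjoint _ B z hz hdisj
      have hback : (z.map (algebraMap B0 B)).comap (algebraMap B0 B) = z :=
        IsLocalization.comap_map_of_isPrime_disjoint _ B hz hdisj
      rw [← hback]
      refine congrArg (Ideal.comap (algebraMap B0 B)) (hfib _ inferInstance ?_ fun i hi => ?_)
      · rw [Ideal.map_le_iff_le_comap]
        intro a ha
        refine Ideal.mem_map_of_mem (algebraMap B0 B) (x := algebraMap D B0 (algebraMap A D a))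
          ((hiff _).2 ?_)
        exact map_nonunit (algebraMap A B) a ha
      · exact Ideal.mem_map_of_mem (algebraMap B0 B)
          (x := algebraMap D B0 ⟨v i, Algebra.subset_adjoin ⟨i, rfl⟩⟩) ((hiff _).2 hi)
    · refine le_antisymm (fun w hw => ?_) hqz
      by_contra hwq
      set R1 := Algebra.adjoin (IsLocalRing.ResidueField A) (Set.range fun i => IsLocalRing.residue B (v i))
      have hlift : ∀ r : R1, ∃ x : D, IsLocalRing.residue B (x : B) = r := by
        rintro ⟨r, hr⟩
        induction hr using Algebra.adjoin_induction with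
        | mem y hy =>
          obtain ⟨i, rfl⟩ := hy
          exact ⟨⟨v i, Algebra.subset_adjoin ⟨i, rfl⟩⟩, rfl⟩
        | algebraMap a =>
          obtain ⟨a, rfl⟩ := IsLocalRing.residue_surjective a
          exact ⟨algebraMap A D a, rfl⟩
        | add y z _ _ hy hz =>
          obtain ⟨⟨a, ha⟩, ⟨c, hc⟩⟩ := hy, hz
          exact ⟨a + c, by rw [Subalgebra.coe_add, map_add, ha, hc]⟩
        | mul y z _ _ hy hz =>
          obtain ⟨⟨a, ha⟩, ⟨c, hc⟩⟩ := hy, hz
          exact ⟨a * c, by rw [Subalgebra.coe_mul, map_mul, ha, hc]⟩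
      choose L hL using hlift
      obtain ⟨f, hf0, hf⟩ := halg (IsLocalRing.residue B (w : B))
      let F : Polynomial D := ∑ i ∈ f.support, Polynomial.monomial i (L (f.coeff i))
      have hFw : Polynomial.aeval w F ∈ q := by
        show ((Polynomial.aeval w F : B0) : B) ∈ m
        rw [← IsLocalRing.residue_eq_zero_iff, ← hf, Polynomial.aeval_def (IsLocalRing.residue B (w : B)) (p := f), Polynomial.eval₂_def,
          Polynomial.sum_def]
        simp only [F, map_sum, Polynomial.aeval_monomial, AddSubmonoidClass.coe_finsetSum]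
        refine Finset.sum_congr rfl fun i _ => ?_
        rw [Subalgebra.coe_mul, Subalgebra.coe_pow, map_mul, map_pow]
        congr 1
        exact hL _
      have hcoef : ∀ n (G : Polynomial D), Polynomial.aeval w G ∈ q → (G.coeff n : B) ∈ m := by
        have step : ∀ G : Polynomial D, Polynomial.aeval w G ∈ q →
            (G.coeff 0 : B) ∈ m ∧ Polynomial.aeval w G.divX ∈ q := fun G hG => by
          have hG' := G.X_mul_divX_add
          have h1 : algebraMap D B0 (G.coeff 0) ∈ z := by
            have := hqz hG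
            rw [← hG', map_add, map_mul, Polynomial.aeval_X, Polynomial.aeval_C] at this
            have h2 := sub_mem this (Ideal.mul_mem_right (Polynomial.aeval w G.divX) z hw)
            rwa [add_sub_cancel_left] at h2
          have h0 := (hiff _).1 h1
          refine ⟨h0, ?_⟩
          have h3 : algebraMap D B0 (G.coeff 0) ∈ q := h0
          rw [← hG', map_add, map_mul, Polynomial.aeval_X, Polynomial.aeval_C] at hG
          have h4 := sub_mem hG h3
          rw [add_sub_cancel_right] at h4
          exact (hqp.mem_or_mem h4).resolve_left hwq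
        intro n
        induction n with
        | zero => exact fun G hG => (step G hG).1
        | succ n ih =>
          intro G hG
          have := ih _ (step G hG).2
          rwa [Polynomial.coeff_divX] at this
      refine hf0 (Polynomial.ext fun n => ?_)
      by_contra hn
      have hmem : n ∈ f.support := Polynomial.mem_support_iff.2 hn
      have h5 := hcoef n F hFw
      simp only [F, Polynomial.finsetSum_coeff, Polynomial.coeff_monomial, Finset.sum_ite_eq', hmem, if_true] at h5
      rw [← IsLocalRing.residue_eq_zero_iff, hL] at h5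
      exact hn (Subtype.ext h5)
  haveI : Algebra.WeaklyQuasiFiniteAt D q := by
    rw [Algebra.weaklyQuasiFiniteAt_iff]
    exact .of_surjective_algHom (Ideal.Quotient.mkₐ D _) Ideal.Quotient.mk_surjective
  obtain ⟨S', hS', r, hr, hbij⟩ :=
    Algebra.QuasiFiniteAt.exists_fg_and_exists_notMem_and_awayMap_bijective (R := D) q
  haveI : Module.Finite D S' := ⟨(Submodule.fg_top _).mpr hS'⟩
  haveI : IsScalarTower D B0 B := IsScalarTower.of_algebraMap_eq fun x => rfl
  have hint : ∀ y : S', IsIntegral D (algebraMap B0 B y.1) := fun y =>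
    ((IsIntegral.of_finite D y).map S'.val).map (IsScalarTower.toAlgHom D B0 B)
  have key : ∀ x : B0, ∃ n : ℕ, IsIntegral D ((x : B) * (r.1 : B) ^ n) := fun x => by
    obtain ⟨z, hz⟩ := hbij.2 (algebraMap B0 _ x)
    obtain ⟨⟨c, ⟨_, n, rfl⟩⟩, hc⟩ := IsLocalization.surj (Submonoid.powers r) z
    have h1 := congrArg (Localization.awayMap S'.val.toRingHom r) hc
    rw [map_mul, hz] at h1
    have hmap : ∀ y : S', Localization.awayMap S'.val.toRingHom r (algebraMap S' _ y) =
        algebraMap B0 (Localization.Away (S'.val.toRingHom r)) (S'.val.toRingHom y) :=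
      fun y => IsLocalization.map_eq _ y
    rw [hmap, hmap] at h1
    erw [← map_mul] at h1
    rw [IsLocalization.eq_iff_exists (Submonoid.powers (S'.val.toRingHom r))] at h1
    obtain ⟨⟨_, k, rfl⟩, hk⟩ := h1
    refine ⟨k + n, ?_⟩
    have h2 : (x : B) * (r.1 : B) ^ (k + n) = algebraMap B0 B ((r ^ k * c : S') : B0) := by
      have hk' : ((r.1 : B0) : B) ^ k * ((x : B) * (r.1 : B) ^ n) = (r.1 : B) ^ k * ((c.1 : B0) : B) :=
        by simpa [map_mul, map_pow] using congrArg (algebraMap B0 B) hk
      show _ = (((r.1 : B0) : B)) ^ k * ((c.1 : B0) : B)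
      rw [← hk']
      ring
    rw [h2]
    exact hint _
  obtain ⟨t, ht, htu, htb⟩ := hσ' b
  obtain ⟨n₁, h₁⟩ := key ⟨t, ht⟩
  obtain ⟨n₂, h₂⟩ := key ⟨b * t, htb⟩
  refine ⟨t * (r.1 : B) ^ (n₁ + n₂), b * t * (r.1 : B) ^ (n₁ + n₂), ?_, ?_, ?_, by ring⟩
  · exact fun hm => ((IsLocalRing.maximalIdeal.isMaximal B).isPrime.mem_or_mem hm).elim (fun h => h htu)
      (fun h => hr ((IsLocalRing.maximalIdeal.isMaximal B).isPrime.mem_of_pow_mem _ h))
  · rw [pow_add, ← mul_assoc]
    exact h₁.mul ((hint r).pow n₂)
  · rw [pow_add, mul_comm ((r.1 : B) ^ n₁), ← mul_assoc]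
    exact h₂.mul ((hint r).pow n₁)

end

/-- Let A → B be an injective local homomorphism of local domains with B essentially of finite type over
A, and g an element of the maximal ideal of B lying in no minimal prime over m_A B. Assume dim(B /
m_A B) + trdeg_{κ(A)} κ(B) = trdeg_A B (with all three finite). Then A → B/gB is injective. -/
theorem result {A B : Type u} [CommRing A] [CommRing B] [IsDomain A] [IsDomain B] [IsLocalRing A] [IsLocalRing B]
    [Algebra A B] [IsLocalHom (algebraMap A B)] [FaithfulSMul A B] [Algebra.EssFiniteType A B]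
    (g : B) (hg : g ∈ IsLocalRing.maximalIdeal B)
    (hmin : ∀ q ∈ (Ideal.map (algebraMap A B) (IsLocalRing.maximalIdeal A)).minimalPrimes, g ∉ q)
    (d e : ℕ) (hd : ringKrullDim (B ⧸ Ideal.map (algebraMap A B) (IsLocalRing.maximalIdeal A)) = d)
    (he : Algebra.trdeg (IsLocalRing.ResidueField A) (IsLocalRing.ResidueField B) = e) (hsum : Algebra.trdeg A B = (d + e : ℕ)) :
    Function.Injective (algebraMap A (B ⧸ Ideal.span {g})) := by
  classical
  set m := IsLocalRing.maximalIdeal B
  obtain ⟨s, hs, hsm, hsZ⟩ := exists_params g hg hmin d hd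
  obtain ⟨T, hT⟩ := exists_isTranscendenceBasis (IsLocalRing.ResidueField A) (IsLocalRing.ResidueField B)
  have hTc : Cardinal.mk T = (e : Cardinal) := by rw [hT.cardinalMk_eq_trdeg, he]
  haveI : Finite T := Cardinal.lt_aleph0_iff_finite.1 (hTc ▸ Cardinal.natCast_lt_aleph0)
  choose lift hlift using fun w : T => IsLocalRing.residue_surjective (R := B) w.1
  let ι := Option (↥s ⊕ T)
  let v : ι → B := fun o => o.elim g (Sum.elim (fun x => x.1) lift)
  have hfib : ∀ Z : Ideal B, Z.IsPrime → (IsLocalRing.maximalIdeal A).map (algebraMap A B) ≤ Z →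
      (∀ i, v i ∈ m → v i ∈ Z) → Z = m := fun Z hZ h1 h2 =>
    hsZ Z hZ h1 (h2 none hg) fun x hx => h2 (some (Sum.inl ⟨x, hx⟩)) (hsm x hx)
  have halg : ∀ w : IsLocalRing.ResidueField B,
      IsAlgebraic (Algebra.adjoin (IsLocalRing.ResidueField A) (Set.range fun i => IsLocalRing.residue B (v i))) w := by
    intro w
    have hle : Algebra.adjoin (IsLocalRing.ResidueField A) (Set.range ((↑) : T → IsLocalRing.ResidueField B)) ≤
        Algebra.adjoin (IsLocalRing.ResidueField A) (Set.range fun i => IsLocalRing.residue B (v i)) :=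
      Algebra.adjoin_mono (by rintro _ ⟨x, rfl⟩; exact ⟨some (Sum.inr x), hlift x⟩)
    letI := (Subalgebra.inclusion hle).toRingHom.toAlgebra
    haveI : IsScalarTower (Algebra.adjoin (IsLocalRing.ResidueField A) (Set.range ((↑) : T → IsLocalRing.ResidueField B)))
        (Algebra.adjoin (IsLocalRing.ResidueField A) (Set.range fun i => IsLocalRing.residue B (v i)))
        (IsLocalRing.ResidueField B) := IsScalarTower.of_algebraMap_eq fun _ => rfl
    exact (hT.isAlgebraic.isAlgebraic w).extendScalars (Subalgebra.inclusion_injective hle)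
  have hfrac := exists_integral_fraction v hfib halg
  -- independence
  haveI : Algebra.IsAlgebraic (Algebra.adjoin A (Set.range v)) B := ⟨fun b => by
    obtain ⟨s', c, hs', hsi, hci, hbc⟩ := hfrac b
    exact IsAlgebraic.of_mul (mem_nonZeroDivisors_of_ne_zero fun h => hs' (by rw [h]; exact zero_mem _))
      hsi.isAlgebraic (by rw [mul_comm, hbc]; exact hci.isAlgebraic)⟩
  obtain ⟨t', ht', hbasis⟩ := exists_isTranscendenceBasis_subset (R := A) (A := B) (Set.range v)
  haveI : Fintype T := Fintype.ofFinite T
  have hι : Fintype.card ι ≤ d + e := by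
    have hTn : Fintype.card T = e := by rw [Cardinal.mk_fintype] at hTc; exact_mod_cast hTc
    simp only [ι, Fintype.card_option, Fintype.card_sum, Fintype.card_coe, hTn]
    omega
  have hfin : t'.Finite := (Set.finite_range v).subset ht'
  haveI := hfin.fintype
  have ht'c : Fintype.card t' = d + e := by
    have := hbasis.cardinalMk_eq_trdeg
    rw [hsum, Cardinal.mk_fintype] at this
    exact_mod_cast this
  have hr1 : Fintype.card t' ≤ Fintype.card (Set.range v) := Set.card_le_card ht'
  have hr2 : Fintype.card (Set.range v) ≤ Fintype.card ι := Fintype.card_range_le v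
  have hteq : t' = Set.range v := Set.eq_of_subset_of_card_le ht' (by omega)
  have hvinj : Function.Injective v := by
    have hbij : Function.Bijective (Set.rangeFactorization v) :=
      (Fintype.bijective_iff_surjective_and_card _).2 ⟨Set.rangeFactorization_surjective, by omega⟩
    exact fun a b hab => hbij.1 (Subtype.ext hab)
  have hind : AlgebraicIndependent A v := by
    have h1 : AlgebraicIndepOn A id (Set.range v) := hteq ▸ hbasis.1
    exact h1.comp (Set.rangeFactorization v) (fun a b hab => hvinj (congrArg Subtype.val hab))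
  -- normalisation
  let L := FractionRing B
  haveI : FaithfulSMul A L := (faithfulSMul_iff_algebraMap_injective A L).2 (by
    rw [IsScalarTower.algebraMap_eq A B L]
    exact (IsFractionRing.injective B L).comp (FaithfulSMul.algebraMap_injective A B))
  let A' := integralClosure A L
  haveI : IsIntegrallyClosed A' := by
    haveI : IsIntegrallyClosedIn A' L := inferInstance
    exact .of_isIntegrallyClosed_of_isIntegrallyClosedIn A' L
  let vL : ι → L := fun i => algebraMap B L (v i)
  have hindA' : AlgebraicIndependent A' vL := by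
    have h1 : AlgebraicIndependent A vL :=
      hind.map' (f := IsScalarTower.toAlgHom A B L) (IsFractionRing.injective B L)
    exact h1.extendScalars A'
  haveI : IsIntegrallyClosed (MvPolynomial ι A') := mvPoly_normal A' ι
  letI : Algebra (MvPolynomial ι A') L := (MvPolynomial.aeval vL).toRingHom.toAlgebra
  haveI : FaithfulSMul (MvPolynomial ι A') L := (faithfulSMul_iff_algebraMap_injective (MvPolynomial ι A') L).2 hindA'
  set D := Algebra.adjoin A (Set.range v)
  let C := integralClosure D B
  have hCint : ∀ b : B, IsIntegral D b → IsIntegral (MvPolynomial ι A') (algebraMap B L b) := fun b hb => by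
    have hD : ∀ x : D, algebraMap B L x ∈ (algebraMap (MvPolynomial ι A') L).range := fun ⟨x, hx⟩ => by
      induction hx using Algebra.adjoin_induction with
      | mem y hy => obtain ⟨i, rfl⟩ := hy; exact ⟨MvPolynomial.X i, MvPolynomial.aeval_X vL i⟩
      | algebraMap a =>
        exact ⟨MvPolynomial.C (algebraMap A A' a), (MvPolynomial.aeval_C vL _).trans
          (IsScalarTower.algebraMap_apply A B L a)⟩
      | add y z _ _ hy hz => rw [map_add]; exact add_mem hy hz
      | mul y z _ _ hy hz => rw [map_mul]; exact mul_mem hy hz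
    choose pl hpl using hD
    obtain ⟨f, hf, hfb⟩ := hb
    have h0 : Polynomial.eval₂ ((algebraMap B L).comp (algebraMap D B)) (algebraMap B L b) f = 0 := by
      rw [← Polynomial.hom_eval₂, hfb, map_zero]
    let F : Polynomial L := f.map ((algebraMap B L).comp (algebraMap D B))
    have hF : F ∈ Polynomial.lifts (algebraMap (MvPolynomial ι A') L) := by
      rw [Polynomial.lifts_iff_coeff_lifts]
      intro n
      rw [Polynomial.coeff_map]
      exact ⟨pl (f.coeff n), hpl _⟩
    obtain ⟨G, hG, -, hGm⟩ := Polynomial.lifts_and_degree_eq_and_monic hF (hf.map _)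
    refine ⟨G, hGm, ?_⟩
    rw [← Polynomial.eval_map, hG, Polynomial.eval_map, h0]
  haveI : IsScalarTower A C L := IsScalarTower.of_algebraMap_eq fun a => IsScalarTower.algebraMap_apply A B L a
  haveI : FaithfulSMul C L := (faithfulSMul_iff_algebraMap_injective C L).2 fun a b h =>
    Subtype.ext (IsFractionRing.injective B L h)
  have hPC : ∀ p : MvPolynomial ι A', IsIntegral C (algebraMap (MvPolynomial ι A') L p) := fun p => by
    show algebraMap (MvPolynomial ι A') L p ∈ integralClosure C L
    induction p using MvPolynomial.induction_on with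
    | C a =>
      show MvPolynomial.aeval vL (MvPolynomial.C a) ∈ integralClosure C L
      rw [MvPolynomial.aeval_C]
      exact IsIntegral.tower_top (A := C) (show IsIntegral A (a : L) from a.2)
    | add a b ha hb => rw [map_add]; exact add_mem ha hb
    | mul_X a i ha =>
      rw [map_mul]
      refine mul_mem ha ?_
      show MvPolynomial.aeval vL (MvPolynomial.X i) ∈ integralClosure C L
      rw [MvPolynomial.aeval_X]
      exact isIntegral_algebraMap (R := C) (A := L) (x := algebraMap D C ⟨v i, Algebra.subset_adjoin ⟨i, rfl⟩⟩)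
  let qC : Ideal C := m.comap (algebraMap C B)
  haveI : qC.IsPrime := Ideal.IsPrime.comap _
  haveI : (Ideal.span {(MvPolynomial.X none : MvPolynomial ι A')}).IsPrime :=
    (Ideal.span_singleton_prime (MvPolynomial.X_ne_zero _)).2 MvPolynomial.X_prime
  have hXg : algebraMap (MvPolynomial ι A') L (MvPolynomial.X none) = algebraMap B L g :=
    MvPolynomial.aeval_X vL none
  rw [RingHom.injective_iff_ker_eq_bot, Submodule.eq_bot_iff]
  intro a ha
  rw [RingHom.mem_ker, IsScalarTower.algebraMap_apply A B, Ideal.Quotient.algebraMap_eq,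
    Ideal.Quotient.eq_zero_iff_mem, Ideal.mem_span_singleton'] at ha
  obtain ⟨b, hb⟩ := ha
  obtain ⟨s', c, hs', hsi, hci, hbc⟩ := hfrac b
  have h2 : (MvPolynomial.C (algebraMap A A' a) : MvPolynomial ι A') ∈ Ideal.span {(MvPolynomial.X none : MvPolynomial ι A')} := by
    refine core (L := L) (C := C) (fun c => hCint _ c.2) hPC _ qC (MvPolynomial.X none) rfl
      (algebraMap D C ⟨v none, Algebra.subset_adjoin ⟨none, rfl⟩⟩) hg hXg.symm
      (s := ⟨s', hsi⟩) (c := ⟨c, hci⟩) (Ideal.mem_span_singleton_self _) hs' ?_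
    show algebraMap B L s' * MvPolynomial.aeval vL (MvPolynomial.C (algebraMap A A' a)) =
        algebraMap B L c * algebraMap (MvPolynomial ι A') L (MvPolynomial.X none)
    rw [hXg, MvPolynomial.aeval_C, ← IsScalarTower.algebraMap_apply A A' L, IsScalarTower.algebraMap_apply A B L,
        ← map_mul, ← map_mul]
    congr 1
    rw [← hbc, ← hb]
    ring
  obtain ⟨f, hf⟩ := Ideal.mem_span_singleton'.1 h2
  have := congrArg MvPolynomial.constantCoeff hf
  rw [map_mul, MvPolynomial.constantCoeff_X, mul_zero, MvPolynomial.constantCoeff_C] at this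
  exact FaithfulSMul.algebraMap_injective A A' (by rw [← this, map_zero])

end Groth.Agent.S1404
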