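import Groth.Statements.S14043
import Mathlib.LinearAlgebra.Matrix.NonsingularInverse
import Mathlib.RingTheory.Ideal.Quotient.Basic
import Mathlib.RingTheory.Nilpotent.Basic

set_option autoImplicit false
universe u v
open W4c1frobunstiva

namespace Groth.Agent.S14043

/-- Let R be a commutative Noetherian ring, M an R-module that is NR-free of rank r — generated by some
r elements all of whose linear relations have nilpotent coefficients — and m, m' two generating
families of M, each indexed by the same finite set of size r. Then some invertible r × r matrix T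
over R expresses m' in terms of m, m'_j = Σ_i T_{ji} m_i; reducing modulo the nilradical n, such a T
induces the change-of-basis matrix between the bases of M/nM given by the images of m and m' (an
r-element generating family of M is itself an NR-basis), so only the existence of an invertible T is
asserted here. (T is not unique.) -/
theorem result (R : Type u) [CommRing R]
    [IsNoetherianRing R] (M : Type v) [AddCommGroup M] [Module R M] (r : ℕ)
    (hM : W4c1frobunstiva.IsNRFree R M r) (m m' : Fin r → M)
    (hm : Submodule.span R (Set.range m) = ⊤) (hm' : Submodule.span R (Set.range m') = ⊤) :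
    ∃ T : Matrix (Fin r) (Fin r) R, IsUnit T ∧ ∀ j, m' j = ∑ i, T j i • m i := by
  classical
  obtain ⟨e, he, hrel⟩ := hM
  have key : ∀ m : Fin r → M, Submodule.span R (Set.range m) = ⊤ →
      ∃ A B : Matrix (Fin r) (Fin r) R, IsUnit A ∧ (∀ i, m i = ∑ j, A i j • e j) ∧ ∀ i, e i = ∑ j, B i j • m j := by
    intro m hm
    choose A hA using fun i => (Submodule.mem_span_range_iff_exists_fun R).1 (he ▸ Submodule.mem_top : m i ∈ _)
    choose B hB using fun i => (Submodule.mem_span_range_iff_exists_fun R).1 (hm ▸ Submodule.mem_top : e i ∈ _)
    refine ⟨Matrix.of A, Matrix.of B, ?_, fun i => (hA i).symm, fun i => (hB i).symm⟩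
    have hmap : (Matrix.of B * Matrix.of A).map (Ideal.Quotient.mk (nilradical R)) = 1 := by
      ext i l
      have h0 : ∑ l, ((Matrix.of B * Matrix.of A) i l - (if i = l then 1 else 0)) • e l = 0 := by
        simp only [sub_smul, Finset.sum_sub_distrib, ite_smul, one_smul, zero_smul, Finset.sum_ite_eq,
          Finset.mem_univ, if_true, sub_eq_zero, Matrix.mul_apply, Matrix.of_apply, Finset.sum_smul]
        conv_rhs => rw [← hB i]
        simp only [← hA, Finset.smul_sum, mul_smul]
        exact Finset.sum_comm
      have hn := Ideal.Quotient.eq_zero_iff_mem.2 (mem_nilradical.2 (hrel _ h0 l))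
      rw [map_sub, sub_eq_zero] at hn
      rw [Matrix.map_apply, hn, Matrix.one_apply]
      split <;> simp
    have hdet : IsNilpotent ((Matrix.of B * Matrix.of A).det - 1) := by
      rw [← mem_nilradical, ← Ideal.Quotient.eq_zero_iff_mem, map_sub, RingHom.map_det, RingHom.mapMatrix_apply,
        hmap, Matrix.det_one, map_one, sub_self]
    have hu : IsUnit ((Matrix.of B).det * (Matrix.of A).det) := by
      rw [← Matrix.det_mul]
      simpa using hdet.isUnit_add_one
    exact (Matrix.isUnit_iff_isUnit_det _).2 (isUnit_of_mul_isUnit_right hu)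
  obtain ⟨A, -, hA, hAe, -⟩ := key m hm
  obtain ⟨A', -, hA', hA'e, -⟩ := key m' hm'
  have hinv : ∀ i, e i = ∑ j, A⁻¹ i j • m j := fun i => by
    simp only [hAe, Finset.smul_sum, smul_smul]
    rw [Finset.sum_comm]
    simp only [← Finset.sum_smul, ← Matrix.mul_apply, Matrix.nonsing_inv_mul A ((Matrix.isUnit_iff_isUnit_det _).1 hA)]
    simp [Matrix.one_apply]
  refine ⟨A' * A⁻¹, hA'.mul (Matrix.isUnit_nonsing_inv_iff.2 hA), fun j => ?_⟩
  rw [hA'e j]
  simp only [hinv, Finset.smul_sum, smul_smul]
  rw [Finset.sum_comm]
  simp only [Matrix.mul_apply, Finset.sum_smul]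

end Groth.Agent.S14043
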