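import Groth.Statements.S14044
import Groth.Agent.Lib.FrobUnst.Hermite

set_option autoImplicit false
universe u
open W4c1frobunstiva

namespace Groth.Agent.S14044

open Groth.Agent.Lib.FrobUnst

/-- Let k be a field, p a prime number and M a square matrix of size r over k[[t]] with non-zero
determinant. Allowing, besides invertible row operations over k[[t]], invertible column operations
by matrices with entries in k[[t^p]] (power series whose coefficients vanish in all degrees not
divisible by p), M can be brought to a row-reduced form — upper triangular, diagonal entries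
t^{e_i}, entries above the diagonal in column j polynomials of degree less than e_j — in which in
addition the (i, j) entry (i < j) has no term in a degree that is at least e_i and congruent to e_i
modulo p. (Existence only; the form is not unique. The published statement asks that no term in any
degree congruent to e_i modulo p remain; the published reduction — adding k[[t^p]]-multiples of
column i to column j — removes exactly the terms of degree at least e_i, which is what is asserted
here. The published statement takes k algebraically closed of characteristic p, where k[[t^p]] is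
the ring of p-th powers; neither assumption is used.) -/
theorem result (k : Type u)
    [Field k] (p : ℕ) [Fact p.Prime] (r : ℕ) (M : Matrix (Fin r) (Fin r) (PowerSeries k))
    (hM : M.det ≠ 0) :
    ∃ (N P : Matrix (Fin r) (Fin r) (PowerSeries k)) (e : Fin r → ℕ), IsUnit N ∧ IsUnit P ∧
      (∀ i j n, ¬ p ∣ n → PowerSeries.coeff n (P i j) = 0) ∧
      (∀ i, (N * M * P) i i = PowerSeries.X ^ e i) ∧ (∀ i j, j < i → (N * M * P) i j = 0) ∧
      (∀ i j, i < j → ∀ n, (e j ≤ n ∨ (e i ≤ n ∧ n % p = e i % p)) →
        PowerSeries.coeff n ((N * M * P) i j) = 0) := by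
  classical
  let Q : NonUnitalSubring (PowerSeries k) :=
    { carrier := {x | ∀ n, ¬ p ∣ n → PowerSeries.coeff n x = 0}
      add_mem' := fun {a b} ha hb n hn => by rw [map_add, ha n hn, hb n hn, add_zero]
      zero_mem' := fun n _ => map_zero _
      neg_mem' := fun {a} ha n hn => by rw [map_neg, ha n hn, neg_zero]
      mul_mem' := fun {a b} ha hb n hn => by
        rw [PowerSeries.coeff_mul]
        refine Finset.sum_eq_zero fun ij hij => ?_
        rw [Finset.mem_antidiagonal] at hij
        by_cases h1 : p ∣ ij.1
        · rw [hb ij.2 fun h2 => hn (hij ▸ dvd_add h1 h2), mul_zero]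
        · rw [ha ij.1 h1, zero_mul] }
  obtain ⟨N, P, e, hN, hP, hPQ, hd, hu, hc⟩ := exists_reduced (k := k) Q
    (fun e n => e ≤ n ∧ n % p = e % p) (fun e f x => by
      refine ⟨PowerSeries.mk fun n => if f ≤ n ∨ (e ≤ n ∧ n % p = e % p) then 0 else PowerSeries.coeff n x,
        PowerSeries.mk fun n => if p ∣ n then PowerSeries.coeff (n + e) x else 0,
        PowerSeries.mk fun n => if e ≤ n + f ∧ (n + f) % p = e % p then 0 else PowerSeries.coeff (n + f) x,
        fun n hn => by simp [hn], fun n hn => by simp [hn], PowerSeries.ext fun n => ?_⟩
      have hmod : e ≤ n → (p ∣ n - e ↔ n % p = e % p) := fun h =>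
        (Nat.modEq_iff_dvd' h).symm.trans ⟨fun h => h.symm, fun h => h.symm⟩
      rw [map_add, map_add, PowerSeries.coeff_X_pow_mul', PowerSeries.coeff_mul_X_pow']
      by_cases hf : f ≤ n <;> by_cases he : e ≤ n
      · by_cases hm : n % p = e % p <;>
          simp [hf, he, hm, hmod he, Nat.sub_add_cancel hf, Nat.sub_add_cancel he]
      · simp [hf, he, Nat.sub_add_cancel hf]
      · by_cases hm : n % p = e % p <;> simp [hf, he, hm, hmod he, Nat.sub_add_cancel he]
      · simp [hf, he]) M hM
  refine ⟨N, P, e, hN, hP, fun i j n hn => ?_, hd, hu, hc⟩
  have h := hPQ i j n hn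
  rw [map_sub, sub_eq_zero] at h
  rw [h]
  have hn0 : n ≠ 0 := fun h0 => hn (h0 ▸ dvd_zero p)
  by_cases hij : i = j <;> simp [Matrix.one_apply, hij, PowerSeries.coeff_one, hn0]

end Groth.Agent.S14044
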