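import Groth.Statements.S14046
import Mathlib.RingTheory.Flat.Equalizer
import Mathlib.RingTheory.TensorProduct.Quotient
import Mathlib.Tactic.LinearCombination
import Mathlib.LinearAlgebra.TensorProduct.Prod

set_option autoImplicit false
universe u v w
open W4c1frobunstiva

namespace Groth.Agent.S14046

open TensorProduct in
/-- Let R → A be a homomorphism of commutative rings and I, J ideals of A with I ∩ J = 0 — so that A is
the fibre product of A/I and A/J over A/(I + J), i.e. Spec A is the union of the two closed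
subschemes in the strong sense — and suppose A/(I + J) is flat over R. Then this persists under
every base change: for every commutative R-algebra R', the ideals generated by I and J in R' ⊗_R A
again meet in 0. (This is the ideal-theoretic, affine form of the base-change step; the exact
sequence of unit sheaves deduced from it in the published statement — restriction of units to a
closed subscheme being surjective locally — is not restated. Without flatness of A/(I + J) the
conclusion fails: for A = k[x, y]/(xy) over R = k[u] with u ↦ x + y, I = (x) and J = (y), the base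
change to R/(u) gives k[x]/(x²), in which both ideals become (x).) -/
theorem result (R : Type u) (A : Type v)
    [CommRing R] [CommRing A] [Algebra R A] (I J : Ideal A) (hIJ : I ⊓ J = ⊥)
    [Module.Flat R (A ⧸ (I ⊔ J))] (R' : Type w) [CommRing R'] [Algebra R R'] :
    I.map (Algebra.TensorProduct.includeRight : A →ₐ[R] R' ⊗[R] A) ⊓
      J.map (Algebra.TensorProduct.includeRight : A →ₐ[R] R' ⊗[R] A) = ⊥ := by
  let g₁ : A →ₗ[R] A ⧸ I := (Ideal.Quotient.mkₐ R I).toLinearMap
  let g₂ : A →ₗ[R] A ⧸ J := (Ideal.Quotient.mkₐ R J).toLinearMap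
  let f : A →ₗ[R] (A ⧸ I) × (A ⧸ J) := g₁.prod g₂
  let h₁ : (A ⧸ I) →ₗ[R] A ⧸ (I ⊔ J) := (Ideal.Quotient.factorₐ R (le_sup_left : I ≤ I ⊔ J)).toLinearMap
  let h₂ : (A ⧸ J) →ₗ[R] A ⧸ (I ⊔ J) := (Ideal.Quotient.factorₐ R (le_sup_right : J ≤ I ⊔ J)).toLinearMap
  let g : (A ⧸ I) × (A ⧸ J) →ₗ[R] A ⧸ (I ⊔ J) := h₁.coprod (-h₂)
  have hf : Function.Injective f := by
    refine (injective_iff_map_eq_zero f).2 fun a ha => ?_
    have h1 : a ∈ I := Ideal.Quotient.eq_zero_iff_mem.1 (congrArg Prod.fst ha)
    have h2 : a ∈ J := Ideal.Quotient.eq_zero_iff_mem.1 (congrArg Prod.snd ha)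
    have : a ∈ I ⊓ J := ⟨h1, h2⟩
    rwa [hIJ, Submodule.mem_bot] at this
  have hg : Function.Surjective g := fun z => by
    obtain ⟨a, rfl⟩ := Ideal.Quotient.mk_surjective z
    exact ⟨(Ideal.Quotient.mk I a, 0), by simp [g, h₁]⟩
  have hex : Function.Exact f g := by
    intro z
    constructor
    · intro hz
      obtain ⟨a, ha⟩ := Ideal.Quotient.mk_surjective z.1
      obtain ⟨b, hb⟩ := Ideal.Quotient.mk_surjective z.2
      have hab : a - b ∈ I ⊔ J := by
        rw [← Ideal.Quotient.eq_zero_iff_mem, map_sub]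
        simpa [g, h₁, h₂, ← ha, ← hb, sub_eq_add_neg] using hz
      obtain ⟨u, hu, v, hv, huv⟩ := Submodule.mem_sup.1 hab
      refine ⟨a - u, Prod.ext ?_ ?_⟩
      · simp [f, g₁, ← ha, Ideal.Quotient.eq_zero_iff_mem.2 hu]
      · have : a - u = b + v := by linear_combination -huv
        simp [f, g₂, ← hb, this, Ideal.Quotient.eq_zero_iff_mem.2 hv]
    · rintro ⟨a, rfl⟩
      simp [g, f, g₁, g₂, h₁, h₂]
  have hinj := LinearMap.lTensor_injective_of_exact_of_flat g hg f hf hex R'
  refine eq_bot_iff.2 fun x ⟨hx1, hx2⟩ => ?_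
  have k1 : LinearMap.lTensor R' g₁ x = 0 := by
    have := (Algebra.TensorProduct.lTensor_ker (A := R') (Ideal.Quotient.mkₐ R I) (Ideal.Quotient.mkₐ_surjective R I))
    rw [show RingHom.ker (Ideal.Quotient.mkₐ R I) = I from Ideal.Quotient.mkₐ_ker R I] at this
    exact (show x ∈ RingHom.ker (Algebra.TensorProduct.map (AlgHom.id R R') (Ideal.Quotient.mkₐ R I)) from this ▸ hx1)
  have k2 : LinearMap.lTensor R' g₂ x = 0 := by
    have := (Algebra.TensorProduct.lTensor_ker (A := R') (Ideal.Quotient.mkₐ R J) (Ideal.Quotient.mkₐ_surjective R J))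
    rw [show RingHom.ker (Ideal.Quotient.mkₐ R J) = J from Ideal.Quotient.mkₐ_ker R J] at this
    exact (show x ∈ RingHom.ker (Algebra.TensorProduct.map (AlgHom.id R R') (Ideal.Quotient.mkₐ R J)) from this ▸ hx2)
  refine (Submodule.mem_bot _).2 (hinj ?_)
  rw [map_zero]
  refine (TensorProduct.prodRight R R R' (A ⧸ I) (A ⧸ J)).injective ?_
  rw [map_zero]
  have : ∀ y, TensorProduct.prodRight R R R' (A ⧸ I) (A ⧸ J) (LinearMap.lTensor R' f y) =
      (LinearMap.lTensor R' g₁ y, LinearMap.lTensor R' g₂ y) := fun y => by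
    induction y using TensorProduct.induction_on with
    | zero => simp only [map_zero]; rfl
    | add a b ha hb => simp [ha, hb]
    | tmul a b => simp [f]
  rw [this, k1, k2]
  rfl

end Groth.Agent.S14046
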