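import Groth.Statements.S14047
import Groth.Agent.H25.Morse.Singular

set_option autoImplicit false
set_option linter.style.haveILetI false
universe u
open CategoryTheory AlgebraicGeometry
open W4c1frobunstiva

namespace Groth.Agent.S14047

/-- Let f : X → B be a proper family of nodal curves — flat, locally of finite presentation, each fibre
having all its irreducible components of dimension one and at worst nodes as singularities. Let Ω be
an O_X-module equipped with a universal B-derivation (a sheaf of relative differentials of X over B)
and let Z be the closed subscheme of X cut out by the first Fitting ideal sheaf of Ω, the singular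
locus of f. Then the composite Z → X → B is finite and formally unramified, so unramified. -/
theorem result {X B : Scheme.{u}}
    (f : X ⟶ B) (hf : Curv2.IsNodalFamily f) [IsProper f] (Ω : X.Modules) (d : OmegaSh.Der f Ω)
    (hd : OmegaSh.IsUniversal d) :
    IsFinite ((Fitt.sheafIdeal Ω 1).subschemeι ≫ f) ∧
      FormallyUnramified ((Fitt.sheafIdeal Ω 1).subschemeι ≫ f) := by
  haveI := hf.2.1
  obtain ⟨e, -⟩ := Groth.Agent.Lib.Kaehler.DOmega.exists_iso_sheaf f hd
  have hI : Fitt.sheafIdeal Ω 1 = Fitt.sheafIdeal (Omega.sheaf f) 1 := by
    haveI := Groth.Agent.Lib.Kaehler.Finite.isQuasicoherent hd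
    haveI := Groth.Agent.Lib.Kaehler.Finite.isFT hd
    haveI := (Groth.Agent.Lib.FittSheaf.qcoh_ft_omega f).1
    haveI := (Groth.Agent.Lib.FittSheaf.qcoh_ft_omega f).2
    exact Groth.Agent.Lib.FittSheaf.sheafIdeal_congr _ _ e.symm 1
  rw [hI]
  have h := Groth.Agent.H25.Morse.Singular.formallyUnramified f hf
  haveI := h
  exact ⟨Groth.Agent.H25.Morse.Singular.isFinite_of_formallyUnramified _, h⟩

end Groth.Agent.S14047
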