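import Groth.Statements.S14048

import Mathlib.RingTheory.TensorProduct.Maps
import Mathlib.Algebra.Polynomial.Taylor
import Mathlib.RingTheory.Localization.Away.Basic
import Mathlib.Data.Rat.Lemmas
import Mathlib.Data.Nat.Prime.Infinite
import Mathlib.RingTheory.Ideal.Quotient.Operations
import Mathlib.Tactic.FieldSimp
import Mathlib.RingTheory.Noetherian.Basic
import Mathlib.Algebra.BigOperators.Associated

set_option autoImplicit false
universe u
open TensorProduct
open CAlg

namespace Groth.Agent.S14048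

open Polynomial in
/-- rationals without `ℓ` in the denominator -/
def intAt (ℓ : ℕ) (hℓ : ℓ.Prime) : Subring ℚ where
  carrier := {q | ¬ ℓ ∣ q.den}
  one_mem' := by simpa using hℓ.not_dvd_one
  zero_mem' := by simpa using hℓ.not_dvd_one
  mul_mem' {a b} ha hb h := ((Nat.Prime.dvd_mul hℓ).1 (h.trans (Rat.mul_den_dvd a b))).elim ha hb
  add_mem' {a b} ha hb h := ((Nat.Prime.dvd_mul hℓ).1 (h.trans (Rat.add_den_dvd a b))).elim ha hb
  neg_mem' {a} ha := by simpa using ha

/-- Let A be an integral domain in which 2 is invertible and let t be an element of A, so that Spec A is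
a scheme over the affine line Spec ℤ[1/2][t]. Assume that (1) the ℚ-algebra map ℚ[X] → ℚ ⊗_ℤ A
sending X to 1 ⊗ t is bijective (the map Spec A → Spec ℤ[1/2][t] becomes an isomorphism after base
change to ℚ); (2) every prime number is invertible in A/(t) (the fibre over t = 0 is of pure
characteristic zero); and (3) there is a ring homomorphism s : A → ℤ[1/2] with s(t) = 1 (the fibre
over t = 1 admits a section). Then A is not Noetherian. -/
theorem result (A : Type u) [CommRing A]
    [IsDomain A] (h2 : IsUnit (2 : A)) (t : A)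
    (h1 : Function.Bijective (Polynomial.aeval (R := ℚ) ((1 : ℚ) ⊗ₜ[ℤ] t : ℚ ⊗[ℤ] A)))
    (h0 : ∀ p : ℕ, p.Prime → IsUnit ((p : ℕ) : A ⧸ Ideal.span ({t} : Set A)))
    (s : A →+* Localization.Away (2 : ℤ)) (hs : s t = 1) :
    ¬ IsNoetherianRing A := by
  intro hN
  let L := Localization.Away (2 : ℤ)
  -- the polynomial attached to an element
  let e : Polynomial ℚ ≃ₐ[ℚ] ℚ ⊗[ℤ] A := AlgEquiv.ofBijective _ h1
  let φ : A →+* Polynomial ℚ :=
    e.symm.toRingHom.comp (Algebra.TensorProduct.includeRight (R := ℤ) (A := ℚ)).toRingHom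
  have hφt : φ t = Polynomial.X := by
    apply e.injective
    simp [φ, e]
  have hu : IsUnit (Int.castRingHom A 2) := by simpa using h2
  let c : L →+* A := IsLocalization.Away.lift (S := L) (2 : ℤ) hu
  let ι : L →+* ℚ := IsLocalization.Away.lift (S := L) (2 : ℤ)
    (show IsUnit (Int.castRingHom ℚ 2) by simp)
  have hι : ∀ f : L →+* ℚ, f = ι := fun f =>
    IsLocalization.ringHom_ext (Submonoid.powers (2 : ℤ)) (RingHom.ext_int _ _)
  have hsc : ∀ x, s (c x) = x := fun x =>
    RingHom.congr_fun (IsLocalization.ringHom_ext (Submonoid.powers (2 : ℤ))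
      (RingHom.ext_int _ _) : s.comp c = RingHom.id L) x
  have hφc : ∀ x, φ (c x) = Polynomial.C (ι x) := fun x =>
    RingHom.congr_fun (IsLocalization.ringHom_ext (Submonoid.powers (2 : ℤ))
      (RingHom.ext_int _ _) : φ.comp c = Polynomial.C.comp ι) x
  have hev : ∀ a, (φ a).eval 1 = ι (s a) := by
    intro a
    let sA : A →ₐ[ℤ] ℚ := (ι.comp s).toIntAlgHom
    let g : ℚ ⊗[ℤ] A →ₐ[ℚ] ℚ :=
      Algebra.TensorProduct.lift (AlgHom.id ℚ ℚ) sA fun _ _ => .all _ _
    have hg : g.comp e.toAlgHom = Polynomial.aeval (1 : ℚ) := by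
      refine Polynomial.algHom_ext ?_
      simp [g, e, sA, hs]
    have := AlgHom.congr_fun hg (φ a)
    simp only [AlgHom.comp_apply, Polynomial.coe_aeval_eq_eval] at this
    rw [← this]
    simp [φ, g, sA]
  -- generators of the kernel of `s`
  obtain ⟨T, hT⟩ := (RingHom.ker s).fg_of_isNoetherianRing
  classical
  let den : ℕ := ∏ f ∈ T, ∏ i ∈ (Polynomial.taylor 1 (φ f)).support,
    ((Polynomial.taylor 1 (φ f)).coeff i).den
  have hden : 0 < den := Finset.prod_pos fun f _ => Finset.prod_pos fun i _ => Rat.den_pos _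
  obtain ⟨ℓ, hℓle, hℓ⟩ := Nat.exists_infinite_primes (max den 2 + 1)
  have hT' : ∀ f ∈ T, ∀ i, (Polynomial.taylor 1 (φ f)).coeff i ∈ intAt ℓ hℓ := by
    intro f hf i hdvd
    by_cases hi : i ∈ (Polynomial.taylor 1 (φ f)).support
    · have hle := Nat.le_of_dvd hden (hdvd.trans ((Finset.dvd_prod_of_mem _ hi).trans
        (Finset.dvd_prod_of_mem (fun f => ∏ i ∈ (Polynomial.taylor 1 (φ f)).support,
          ((Polynomial.taylor 1 (φ f)).coeff i).den) hf)))
      omega
    · rw [Polynomial.notMem_support_iff.1 hi] at hdvd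
      exact hℓ.not_dvd_one (by simpa using hdvd)
  have hιmem : ∀ x, ι x ∈ intAt ℓ hℓ := by
    intro x
    obtain ⟨⟨m, ⟨_, j, rfl⟩⟩, hx⟩ := IsLocalization.surj (Submonoid.powers (2 : ℤ)) x
    have hx' := congrArg ι hx
    simp only [map_mul, eq_intCast, map_intCast] at hx'
    have h22 : (1 / 2 : ℚ) ∈ intAt ℓ hℓ := by
      intro h
      have : ((1 : ℚ) / 2).den = 2 := by
        rw [one_div, show (2 : ℚ) = ((2 : ℕ) : ℚ) by norm_num, Rat.inv_natCast_den_of_pos two_pos]
      rw [this] at h
      have := Nat.le_of_dvd two_pos h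
      omega
    have hval : ι x = (m : ℚ) * (1 / 2) ^ j := by
      rw [← hx']
      push_cast
      rw [mul_assoc, ← mul_pow]
      norm_num
    rw [hval]
    exact mul_mem (intCast_mem _ m) (pow_mem h22 j)
  have key : ∀ k a, (Polynomial.taylor 1 (φ a)).coeff k ∈ intAt ℓ hℓ := by
    intro k
    induction k using Nat.strong_induction_on with
    | _ k ih =>
      intro a
      have hc0 : ∀ a, (Polynomial.taylor 1 (φ a)).coeff 0 ∈ intAt ℓ hℓ := fun a => by
        rw [Polynomial.taylor_coeff_zero, hev]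
        exact hιmem _
      rcases Nat.eq_zero_or_pos k with rfl | hk
      · exact hc0 a
      have hmem : a - c (s a) ∈ Ideal.span (T : Set A) := by
        have : a - c (s a) ∈ RingHom.ker s := by simp [RingHom.mem_ker, hsc]
        rwa [← hT] at this
      obtain ⟨h, hh⟩ := Submodule.mem_span_finset.1 hmem
      have : φ a = φ (c (s a)) + ∑ f ∈ T, φ (h f) * φ f := by
        simp only [← map_mul, ← map_sum, ← map_add]
        congr 1
        have h3 := hh.2
        simp only [smul_eq_mul] at h3
        rw [h3, add_sub_cancel]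
      rw [this, hφc, map_add, map_sum, Polynomial.taylor_C, Polynomial.coeff_add,
        Polynomial.coeff_C, if_neg hk.ne', zero_add, Polynomial.finsetSum_coeff]
      refine sum_mem fun f hf => ?_
      rw [Polynomial.taylor_mul, Polynomial.coeff_mul]
      refine sum_mem fun ij hij => ?_
      rw [Finset.mem_antidiagonal] at hij
      rcases Nat.eq_zero_or_pos ij.2 with h0 | h0
      · have hf0 : (Polynomial.taylor 1 (φ f)).coeff 0 = 0 := by
          have : f ∈ RingHom.ker s := hT ▸ Ideal.subset_span hf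
          rw [Polynomial.taylor_coeff_zero, hev, RingHom.mem_ker.1 this, map_zero]
        rw [h0, hf0, mul_zero]
        exact zero_mem _
      · exact mul_mem (ih _ (by omega) _) (hT' f hf _)
  have key0 : ∀ a, (φ a).eval 0 ∈ intAt ℓ hℓ := by
    intro a
    have : (φ a).eval 0 = (Polynomial.taylor 1 (φ a)).eval (-1) := by
      rw [Polynomial.taylor_eval]; norm_num
    rw [this, Polynomial.eval_eq_sum_range]
    exact sum_mem fun i _ => mul_mem (key i a) (pow_mem (neg_mem (one_mem _)) i)
  obtain ⟨u, hu'⟩ := (h0 ℓ hℓ).exists_right_inv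
  obtain ⟨a, rfl⟩ := Ideal.Quotient.mk_surjective u
  rw [← map_natCast (Ideal.Quotient.mk (Ideal.span ({t} : Set A))), ← map_mul, ← map_one (Ideal.Quotient.mk _),
    Ideal.Quotient.eq, Ideal.mem_span_singleton] at hu'
  obtain ⟨b, hb⟩ := hu'
  have hval := congrArg (fun x => (φ x).eval 0) hb
  simp only [map_sub, map_mul, map_natCast, map_one, hφt, Polynomial.eval_sub, Polynomial.eval_mul,
    Polynomial.eval_natCast, Polynomial.eval_one, Polynomial.eval_X, zero_mul] at hval
  have ha : (φ a).eval 0 = (1 : ℚ) / ℓ := by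
    rw [eq_div_iff (by exact_mod_cast hℓ.pos.ne')]
    linarith
  have := key0 a
  rw [ha] at this
  apply this
  rw [one_div, Rat.inv_natCast_den_of_pos hℓ.pos]


end Groth.Agent.S14048
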