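import Groth.Statements.S14049
import Groth.Agent.Lib.Lim.Thickening
import Mathlib.Tactic.Ring

set_option autoImplicit false
universe u
open CategoryTheory AlgebraicGeometry
open LocStr

namespace Groth.Agent.S14049

/-- For schemes. Let f : X → Y be a morphism of schemes and let I be a quasi-coherent sheaf of ideals on
X which is nilpotent (some power of I is zero). Let X₁ ⊆ X be the closed subscheme defined by I².
Then f is a closed immersion as soon as the composite X₁ → X → Y is one. (The published statement is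
the same assertion for a morphism of algebraic stacks; it is stated here for schemes.) -/
theorem result (X Y : Scheme.{u}) (f : X ⟶ Y)
    (I : X.IdealSheafData) (hI : IsNilpotent I)
    (h : IsClosedImmersion ((I ^ 2).subschemeι ≫ f)) :
    IsClosedImmersion f := by
  obtain ⟨N, hN⟩ := hI
  let ι := (I ^ 2).subschemeι
  haveI : Surjective ι := by
    refine ⟨fun x => ?_⟩
    have hx : x ∈ ((I ^ 2).support : Set X) := by
      rw [Scheme.IdealSheafData.support_pow _ 2 (by norm_num), ← Scheme.IdealSheafData.support_pow I (N + 1) (by omega),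
        pow_succ, hN, zero_mul, Scheme.IdealSheafData.zero_eq_bot, Scheme.IdealSheafData.support_bot]
      trivial
    rw [← Scheme.IdealSheafData.range_subschemeι] at hx
    exact hx
  obtain ⟨haff, hsurj⟩ := isClosedImmersion_iff_isAffineHom.1 h
  have hV : ∀ U : Y.Opens, IsAffineOpen U → IsAffineOpen (f ⁻¹ᵁ U) := fun U hU => by
    haveI : IsAffine (ι ⁻¹ᵁ (f ⁻¹ᵁ U)).toScheme := haff.isAffine_preimage U hU
    haveI : Surjective (ι ∣_ (f ⁻¹ᵁ U)) := IsZariskiLocalAtTarget.restrict ‹Surjective ι› _
    exact Groth.Agent.Lib.Lim.Thickening.isAffine_of_surjective (ι ∣_ (f ⁻¹ᵁ U))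
  refine isClosedImmersion_iff_isAffineHom.2 ⟨⟨hV⟩, fun U hU => ?_⟩
  let V : X.affineOpens := ⟨f ⁻¹ᵁ U, hV U hU⟩
  let φ := (f.app U).hom
  let J : Ideal Γ(X, V.1) := I.ideal V
  have hker : RingHom.ker (ι.app V.1).hom = J ^ 2 := by
    rw [Scheme.IdealSheafData.ker_subschemeι_app, Scheme.IdealSheafData.ideal_pow, Pi.pow_apply]
  have happrox : ∀ b : Γ(X, V.1), ∃ a, b - φ a ∈ J ^ 2 := fun b => by
    obtain ⟨a, ha⟩ := hsurj U hU (ι.app V.1 b)
    refine ⟨a, ?_⟩
    rw [← hker, RingHom.mem_ker, map_sub, sub_eq_zero]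
    exact ha.symm
  have hJN : J ^ (N + 1) = ⊥ := by
    have h1 : (I ^ (N + 1)).ideal V = ⊥ := by
      rw [pow_succ, hN, zero_mul, Scheme.IdealSheafData.zero_eq_bot]; simp
    rwa [Scheme.IdealSheafData.ideal_pow, Pi.pow_apply] at h1
  have hstep : ∀ n, ∀ x ∈ J ^ (n + 1), ∃ a, x - φ a ∈ J ^ (n + 2) ∧ φ a ∈ J ^ (n + 1) := by
    intro n
    induction n with
    | zero =>
      intro x hx
      obtain ⟨a, ha⟩ := happrox x
      refine ⟨a, ha, ?_⟩
      have := sub_mem hx (Ideal.pow_le_pow_right (show 1 ≤ 2 by norm_num) ha)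
      simpa using this
    | succ n ih =>
      intro x hx
      rw [pow_succ] at hx
      refine Submodule.mul_induction_on hx (fun p hp q hq => ?_) (fun p q hp hq => ?_)
      · obtain ⟨a, ha, ha'⟩ := ih p hp
        obtain ⟨b, hb⟩ := happrox q
        have hb' : φ b ∈ J := by
          have := sub_mem hq (Ideal.pow_le_self two_ne_zero hb)
          simpa using this
        refine ⟨a * b, ?_, ?_⟩
        · rw [map_mul, show p * q - φ a * φ b = (p - φ a) * q + φ a * (q - φ b) by ring]
          refine add_mem ?_ ?_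
          · rw [pow_succ]; exact Ideal.mul_mem_mul ha hq
          · rw [show n + 1 + 2 = (n + 1) + 2 from rfl, pow_add]; exact Ideal.mul_mem_mul ha' hb
        · rw [map_mul, pow_succ]; exact Ideal.mul_mem_mul ha' hb'
      · obtain ⟨a, ha, ha'⟩ := hp
        obtain ⟨b, hb, hb'⟩ := hq
        exact ⟨a + b, by rw [map_add, show p + q - (φ a + φ b) = p - φ a + (q - φ b) by abel]; exact add_mem ha hb,
          by rw [map_add]; exact add_mem ha' hb'⟩
  have hall : ∀ n b, ∃ a, b - φ a ∈ J ^ (n + 2) := by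
    intro n
    induction n with
    | zero => exact happrox
    | succ n ih =>
      intro b
      obtain ⟨a, ha⟩ := ih b
      obtain ⟨c, hc, -⟩ := hstep (n + 1) _ ha
      exact ⟨a + c, by rw [map_add, ← sub_sub]; exact hc⟩
  intro b
  obtain ⟨a, ha⟩ := hall N b
  have h0 := Ideal.pow_le_pow_right (show N + 1 ≤ N + 2 by omega) ha
  rw [hJN, Ideal.mem_bot, sub_eq_zero] at h0
  exact ⟨a, h0.symm⟩

end Groth.Agent.S14049
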