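import Groth.Statements.S14050
import Groth.Agent.S0600
import Groth.Agent.H21.PopescuApprox
import Groth.Agent.H60.FPColim

set_option autoImplicit false
universe u
open CategoryTheory CategoryTheory.Limits
open Hensel

namespace Groth.Agent.S14050

/-- Let A be a G-ring, that is a Noetherian ring whose local rings have regular completion maps (for
instance a quasi-excellent ring), let I be an ideal such that (A, I) is a henselian pair, and let Â
be the I-adic completion of A. Let F be a functor from A-algebras (commutative rings under A) to
sets which preserves filtered colimits, let ξ ∈ F(Â) and n ≥ 0. Then there is η ∈ F(A) such that η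
and ξ have the same image in F(A/I^(n+1)). Here π is the A-algebra map Â → A/I^(n+1), pinned by its
underlying ring map, and ρ is the structure map A → A/I^(n+1). (The published statement is for a
limit-preserving contravariant functor on all schemes over Spec A; only its values on affine schemes
enter, and those form a functor on A-algebras preserving filtered colimits, which is the form stated
here.) -/
theorem result (A : Type u) [CommRing A]
    (I : Ideal A) [HenselianRing A I] (hG : CAlg.IsGRing A)
    (F : Under (CommRingCat.of A) ⥤ Type u)
    (hF : ∀ (J : Type u) [SmallCategory J] [IsFiltered J], PreservesColimitsOfShape J F)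
    (n : ℕ)
    (π : Under.mk (CommRingCat.ofHom (algebraMap A (AdicCompletion I A))) ⟶
      Under.mk (CommRingCat.ofHom (algebraMap A (A ⧸ I ^ (n + 1)))))
    (hπ : π.right = CommRingCat.ofHom
      (AdicCompletion.evalₐ I (n + 1) : AdicCompletion I A →ₐ[A] A ⧸ I ^ (n + 1)).toRingHom)
    (ρ : Under.mk (𝟙 (CommRingCat.of A)) ⟶
      Under.mk (CommRingCat.ofHom (algebraMap A (A ⧸ I ^ (n + 1)))))
    (ξ : F.obj (Under.mk (CommRingCat.ofHom (algebraMap A (AdicCompletion I A))))) :
    ∃ η : F.obj (Under.mk (𝟙 (CommRingCat.of A))), F.map ρ η = F.map π ξ := by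
  classical
  haveI := hG.1
  obtain ⟨N, η, hη⟩ := Groth.Agent.H60.FPColim.exists_mem F hF ξ
  haveI : Algebra.FiniteType A N.1 := (Subalgebra.fg_iff_finiteType N.1).1 N.2
  haveI : Algebra.FinitePresentation A N.1 := Algebra.FinitePresentation.of_finiteType.1 inferInstance
  obtain ⟨τ, hτ⟩ := Groth.Agent.H21.PopescuApprox.exists_algHom I (Groth.Agent.S0600.result A hG I) N.1 N.1.val (n + 1)
  refine ⟨F.map (Groth.Agent.H60.FPColim.hom τ) η, ?_⟩
  rw [← hη, ← Functor.map_comp_apply, ← Functor.map_comp_apply]
  suffices h : Groth.Agent.H60.FPColim.hom τ ≫ ρ = Groth.Agent.H60.FPColim.hom N.1.val ≫ π from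
    congrArg (fun g => F.map g η) h
  ext x
  show ρ.right (τ x) = π.right (N.1.val x)
  rw [hπ]
  exact (ConcreteCategory.congr_hom (Under.w ρ) (τ x)).trans (hτ x)

end Groth.Agent.S14050
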