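import Groth.Statements.S14051

set_option autoImplicit false
universe u
open CAlg

namespace Groth.Agent.S14051

/-- Let A be a commutative ℕ-graded algebra over a base ring R which is generated by A_1 as an
A_0-algebra, written as A_{n+1} = A_1 · A_n for every n, and let M be a graded A-module: an A-module
with R-submodules M_n giving a direct-sum decomposition and A_i · M_j ⊆ M_{i+j}. If M is spanned
over A by a set of homogeneous elements all of degree at most n₀, then for every n ≥ n₀ and every k
≥ 0 the degree-(n+k) part of M is A_k · M_n. -/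
theorem result
    (R : Type u) [CommRing R] (A : Type u) [CommRing A] [Algebra R A]
    (𝒜 : ℕ → Submodule R A) [GradedAlgebra 𝒜]
    (hA : ∀ n : ℕ, 𝒜 (n + 1) = 𝒜 1 * 𝒜 n)
    (M : Type u) [AddCommGroup M] [Module R M] [Module A M] [IsScalarTower R A M]
    (ℳ : ℕ → Submodule R M) [DirectSum.Decomposition ℳ] [SetLike.GradedSMul 𝒜 ℳ]
    (s : Set M) (n₀ : ℕ) (hs : ∀ y ∈ s, ∃ d : ℕ, d ≤ n₀ ∧ y ∈ ℳ d)
    (hspan : Submodule.span A s = ⊤)
    (n k : ℕ) (hn : n₀ ≤ n) :
    ℳ (n + k) = 𝒜 k • ℳ n := by
  classical
  have hAk : ∀ a c, 𝒜 (a + c) = 𝒜 a * 𝒜 c ∨ a = 0 := by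
    intro a c
    induction a with
    | zero => exact Or.inr rfl
    | succ a ih =>
      refine Or.inl ?_
      rw [show a + 1 + c = (a + c) + 1 by omega, hA (a + c)]
      rcases ih with h | rfl
      · rw [h, hA a, mul_assoc]
      · rw [zero_add, hA 0, mul_assoc]
  refine le_antisymm (fun x hx => ?_) (Submodule.smul_le.2 fun a ha y hy => by
    rw [add_comm]; exact SetLike.GradedSMul.smul_mem ha hy)
  suffices H : ∀ y ∈ Submodule.span A s, (DirectSum.decompose ℳ y (n + k) : M) ∈ 𝒜 k • ℳ n by
    have := H x (hspan ▸ Submodule.mem_top)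
    rwa [DirectSum.decompose_of_mem_same ℳ hx] at this
  intro y hy
  suffices H2 : ∀ a : A, (DirectSum.decompose ℳ (a • y) (n + k) : M) ∈ 𝒜 k • ℳ n by simpa using H2 1
  induction hy using Submodule.span_induction with
  | zero => intro a; simp
  | add u v _ _ hu hv => intro a; rw [smul_add, DirectSum.decompose_add, DirectSum.add_apply, Submodule.coe_add]; exact Submodule.add_mem _ (hu a) (hv a)
  | smul c u _ hu => intro a; rw [smul_smul]; exact hu _
  | mem y hy =>
    intro a
    obtain ⟨d, hd, hyd⟩ := hs y hy
    induction a using DirectSum.Decomposition.inductionOn 𝒜 with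
    | zero => simp
    | add u v hu hv => rw [add_smul, DirectSum.decompose_add, DirectSum.add_apply, Submodule.coe_add]; exact Submodule.add_mem _ hu hv
    | @homogeneous e a =>
      have hmem : (a : A) • y ∈ ℳ (e + d) := SetLike.GradedSMul.smul_mem a.2 hyd
      by_cases he : e + d = n + k
      swap
      · rw [DirectSum.decompose_of_mem_ne ℳ hmem he]; exact Submodule.zero_mem _
      rw [← he, DirectSum.decompose_of_mem_same ℳ hmem]
      rcases hAk k (n - d) with hk | rfl
      · have ha : (a : A) ∈ 𝒜 k * 𝒜 (n - d) := by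
          rw [← hk, show k + (n - d) = e by omega]; exact a.2
        refine Submodule.mul_induction_on ha (fun p hp q hq => ?_) (fun p q hp hq => by rw [add_smul]; exact Submodule.add_mem _ hp hq)
        · rw [mul_smul]
          refine Submodule.smul_mem_smul hp ?_
          have := SetLike.GradedSMul.smul_mem (B := ℳ) hq hyd
          rwa [vadd_eq_add, Nat.sub_add_cancel (by omega)] at this
      · rw [← one_smul A ((a : A) • y)]
        refine Submodule.smul_mem_smul (SetLike.GradedOne.one_mem (A := 𝒜)) ?_
        rw [show n = e + d by omega]; exact hmem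

end Groth.Agent.S14051
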