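import Groth.Statements.S14052
import Mathlib

set_option autoImplicit false
universe u
open CAlg

namespace Groth.Agent.S14052

/-- Let A be a commutative ℕ-graded algebra over a base ring R with A_{n+1} = A_1 · A_n for every n (A
is generated by A_1 over A_0), and let S be a commutative ℕ-graded A-algebra, the structure map
sending A_i into S_i, which is a finite A-module. Let s be a finite set of homogeneous elements
spanning S as an A-module, all of degree at most n₀, with n₀ > 0. Then (1) S_{n+k} = S_k · S_n for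
all n ≥ n₀ and k ≥ 0, and (2) for every d ≥ n₀ the d-th Veronese subring of S is generated by S_d
over S_0, that is S_{md} = (S_d)^m for every m > 0. -/
theorem result
    (R : Type u) [CommRing R] (A : Type u) [CommRing A] [Algebra R A]
    (𝒜 : ℕ → Submodule R A) [GradedAlgebra 𝒜] (hA : ∀ n : ℕ, 𝒜 (n + 1) = 𝒜 1 * 𝒜 n)
    (S : Type u) [CommRing S] [Algebra R S] [Algebra A S] [IsScalarTower R A S]
    (𝒮 : ℕ → Submodule R S) [GradedAlgebra 𝒮]
    (hAS : ∀ (i : ℕ) (a : A), a ∈ 𝒜 i → algebraMap A S a ∈ 𝒮 i)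
    [Module.Finite A S]
    (s : Set S) (hsfin : s.Finite) (n₀ : ℕ) (hn₀ : 0 < n₀)
    (hs : ∀ y ∈ s, ∃ d : ℕ, d ≤ n₀ ∧ y ∈ 𝒮 d) (hspan : Submodule.span A s = ⊤) :
    (∀ n k : ℕ, n₀ ≤ n → 𝒮 (n + k) = 𝒮 k * 𝒮 n) ∧
      (∀ d : ℕ, n₀ ≤ d → ∀ m : ℕ, 0 < m → 𝒮 (m * d) = 𝒮 d ^ m) := by
  classical
  let M : ℕ → Submodule R S := fun i => (𝒜 i).map (IsScalarTower.toAlgHom R A S).toLinearMap
  have hM : ∀ i, M i ≤ 𝒮 i := fun i => by rintro _ ⟨a, ha, rfl⟩; exact hAS i a ha
  have hmul : ∀ i j, 𝒮 i * 𝒮 j ≤ 𝒮 (i + j) := fun i j => Submodule.mul_le.2 fun _ ha _ hb => SetLike.GradedMul.mul_mem ha hb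
  have hMsucc : ∀ i, M (i + 1) = M 1 * M i := fun i => by simp only [M, hA i, Submodule.map_mul]
  have step : ∀ l, n₀ ≤ l → 𝒮 (l + 1) ≤ M 1 * 𝒮 l := by
    intro l hl x hx
    have hxs : x ∈ Submodule.span A s := hspan ▸ Submodule.mem_top
    suffices ∀ z ∈ Submodule.span A s, ∀ b : A, GradedAlgebra.proj 𝒮 (l + 1) (b • z) ∈ M 1 * 𝒮 l by
      have h := this x hxs 1
      rwa [one_smul, GradedAlgebra.proj_apply, DirectSum.decompose_of_mem_same 𝒮 hx] at h
    intro z hz
    induction hz using Submodule.span_induction with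
    | zero => intro b; simp
    | add u v _ _ hu hv => intro b; rw [smul_add, map_add]; exact add_mem (hu b) (hv b)
    | smul c u _ hu => intro b; rw [smul_smul]; exact hu _
    | mem y hy =>
      obtain ⟨d, hd, hyd⟩ := hs y hy
      intro b
      induction b using DirectSum.Decomposition.inductionOn 𝒜 with
      | zero => simp
      | add u v hu hv => rw [add_smul, map_add]; exact add_mem hu hv
      | @homogeneous i b =>
        have hb : (b : A) • y ∈ 𝒮 (i + d) := by rw [Algebra.smul_def]; exact SetLike.GradedMul.mul_mem (hAS i b b.2) hyd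
        rw [GradedAlgebra.proj_apply]
        by_cases h : i + d = l + 1
        · rw [← h, DirectSum.decompose_of_mem_same 𝒮 hb, Algebra.smul_def]
          obtain ⟨i', rfl⟩ : ∃ i', i = i' + 1 := ⟨i - 1, by omega⟩
          have : algebraMap A S (b : A) * y ∈ M (i' + 1) * 𝒮 d := Submodule.mul_mem_mul ⟨_, b.2, rfl⟩ hyd
          rw [hMsucc, mul_assoc] at this
          have hle : M i' * 𝒮 d ≤ 𝒮 l := (mul_le_mul' (hM i') le_rfl).trans ((hmul i' d).trans (by rw [show i' + d = l by omega]))
          exact SetLike.le_def.1 (mul_le_mul' le_rfl hle) this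
        · rw [DirectSum.decompose_of_mem_ne 𝒮 hb h]; exact zero_mem _
  have part1 : ∀ n k : ℕ, n₀ ≤ n → 𝒮 (n + k) = 𝒮 k * 𝒮 n := by
    intro n k hn
    refine le_antisymm ?_ ((hmul k n).trans (by rw [add_comm]))
    induction k with
    | zero =>
      intro x hx
      rw [← one_mul x]
      exact Submodule.mul_mem_mul SetLike.GradedOne.one_mem hx
    | succ k ih =>
      refine (step (n + k) (by omega)).trans ((mul_le_mul' le_rfl ih).trans ?_)
      rw [← mul_assoc]
      refine mul_le_mul' ((mul_le_mul' (hM 1) le_rfl).trans ((hmul 1 k).trans ?_)) le_rfl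
      rw [add_comm]
  refine ⟨part1, fun d hd m hm => ?_⟩
  induction m, hm using Nat.le_induction with
  | base => simp
  | succ m hm ih =>
    rw [add_mul, one_mul, pow_succ', ← ih]
    exact part1 (m * d) d (hd.trans (Nat.le_mul_of_pos_left d hm))

end Groth.Agent.S14052
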