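import Groth.Statements.S14053
import Mathlib.RingTheory.GradedAlgebra.Basic
import Mathlib.LinearAlgebra.FiniteDimensional.Basic
-- import your own Groth.Agent.* helpers here

set_option autoImplicit false
universe u
open CAlg

namespace Groth.Agent.S14053

theorem exists_block {ι : Type*} [Fintype ι] [DecidableEq ι] (w : ι → ℕ)
    (hw : ∀ i, w i = 1 ∨ w i = 2 ∨ w i = 3) (c : ι → ℕ) (j : ℕ)
    (h : 6 * j ≤ ∑ i, w i * c i ∧
      ∀ k < j, ∑ i, (6 - w i) < (∑ i, w i * c i) - 6 * k) :
    ∃ t : ι → ℕ, (∀ i, t i ≤ c i) ∧ ∑ i, w i * t i = 6 * j := by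
  induction j with
  | zero => exact ⟨fun _ => 0, fun i => Nat.zero_le _, by simp⟩
  | succ j ih =>
    obtain ⟨t, ht, hts⟩ := ih ⟨by omega, fun k hk => h.2 k (by omega)⟩
    have hsub : ∑ i, w i * (c i - t i) = (∑ i, w i * c i) - 6 * j := by
      rw [← hts, ← Finset.sum_tsub_distrib Finset.univ (fun i _ => Nat.mul_le_mul_left _ (ht i))]
      simp [Nat.mul_sub]
    obtain ⟨i, hi⟩ : ∃ i, 6 ≤ w i * (c i - t i) := by
      by_contra hne
      push Not at hne
      have : ∑ i, w i * (c i - t i) ≤ ∑ i, (6 - w i) := by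
        refine Finset.sum_le_sum fun i _ => ?_
        have := hne i
        rcases hw i with h | h | h <;> rw [h] at this ⊢ <;> omega
      have := h.2 j (by omega)
      omega
    refine ⟨fun l => t l + (if l = i then 6 / w i else 0), fun l => ?_, ?_⟩
    · show t l + _ ≤ c l
      have := ht l
      split_ifs with hl
      · subst hl; rcases hw l with h | h | h <;> rw [h] at hi ⊢ <;> omega
      · omega
    · have h6 : w i * (6 / w i) = 6 := by rcases hw i with h | h | h <;> rw [h]
      simp [mul_add, Finset.sum_add_distrib, hts, mul_ite, h6]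

theorem main (k : Type u) [Field k] (R : Type u) [CommRing R] [Algebra k R]
    (ℛ : ℕ → Submodule k R) [GradedAlgebra ℛ] {ι : Type u} [Fintype ι] [DecidableEq ι]
    (w : ι → ℕ) (hw : ∀ i, w i = 1 ∨ w i = 2 ∨ w i = 3) (v : ι → R) (hv : ∀ i, v i ∈ ℛ (w i))
    (htop : Algebra.adjoin k (Set.range v) = ⊤) (e : ℕ) (he : ∑ i, (6 - w i) ≤ e) :
    ∀ m, 0 < m → ℛ (m * (6 * e)) = ℛ (6 * e) ^ m := by
  classical
  let mon : (ι → ℕ) → R := fun c => ∏ i, v i ^ c i
  let deg : (ι → ℕ) → ℕ := fun c => ∑ i, w i * c i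
  have hmon : ∀ c, mon c ∈ ℛ (deg c) := by
    intro c
    refine SetLike.prod_mem_graded ℛ _ _ (fun i _ => ?_)
    rw [mul_comm, ← smul_eq_mul]
    exact SetLike.pow_mem_graded _ (hv i)
  have hall : ∀ x : R, x ∈ Submodule.span k (Set.range mon) := by
    intro x
    have hx : x ∈ Algebra.adjoin k (Set.range v) := by rw [htop]; trivial
    induction hx using Algebra.adjoin_induction with
    | mem y hy =>
      obtain ⟨i, rfl⟩ := hy
      refine Submodule.subset_span ⟨Pi.single i 1, ?_⟩
      show ∏ l, v l ^ (Pi.single i 1 : ι → ℕ) l = v i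
      rw [Finset.prod_eq_single i (fun l _ hl => by simp [hl]) (by simp)]; simp
    | algebraMap r =>
      rw [Algebra.algebraMap_eq_smul_one]
      exact Submodule.smul_mem _ _ (Submodule.subset_span ⟨0, by simp [mon]⟩)
    | add a b _ _ ha hb => exact add_mem ha hb
    | mul a b _ _ ha hb =>
      have := Submodule.mul_mem_mul ha hb
      rw [Submodule.span_mul_span] at this
      refine Submodule.span_mono ?_ this
      rintro _ ⟨_, ⟨c, rfl⟩, _, ⟨d, rfl⟩, rfl⟩
      exact ⟨c + d, by simp [mon, pow_add, Finset.prod_mul_distrib]⟩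
  have hspan : ∀ n, ℛ n ≤ Submodule.span k (mon '' {c | deg c = n}) := by
    intro n x hx
    have : GradedAlgebra.proj ℛ n x ∈ Submodule.span k (mon '' {c | deg c = n}) := by
      have hle : Submodule.span k (Set.range mon) ≤
          (Submodule.span k (mon '' {c | deg c = n})).comap (GradedAlgebra.proj ℛ n) := by
        rw [Submodule.span_le]
        rintro _ ⟨c, rfl⟩
        rw [SetLike.mem_coe, Submodule.mem_comap, GradedAlgebra.proj_apply]
        by_cases h : deg c = n
        · subst h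
          rw [DirectSum.decompose_of_mem_same ℛ (hmon c)]
          exact Submodule.subset_span ⟨c, rfl, rfl⟩
        · rw [DirectSum.decompose_of_mem_ne ℛ (hmon c) h]; exact zero_mem _
      exact hle (hall x)
    rwa [GradedAlgebra.proj_apply, DirectSum.decompose_of_mem_same ℛ hx] at this
  intro m hm
  induction m with
  | zero => omega
  | succ m ih =>
    rcases Nat.eq_zero_or_pos m with rfl | hm'
    · simp
    specialize ih hm'
    refine le_antisymm ?_ ?_
    · refine (hspan _).trans (Submodule.span_le.2 ?_)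
      rintro _ ⟨c, hc, rfl⟩
      have hc' : ∑ i, w i * c i = m * (6 * e) + 6 * e := by
        have : deg c = (m + 1) * (6 * e) := hc
        rw [← Nat.succ_mul]; exact this
      obtain ⟨t, ht, hts⟩ := exists_block w hw c e
        ⟨by omega, fun k hk => by
          have : 6 * e ≤ m * (6 * e) := Nat.le_mul_of_pos_left _ hm'
          omega⟩
      have hrest : deg (c - t) = m * (6 * e) := by
        show ∑ i, w i * (c i - t i) = _
        rw [show (∑ i, w i * (c i - t i)) = (∑ i, w i * c i) - 6 * e by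
          rw [← hts, ← Finset.sum_tsub_distrib Finset.univ (fun i _ => Nat.mul_le_mul_left _ (ht i))]
          simp [Nat.mul_sub]]
        omega
      have : mon c = mon (c - t) * mon t := by
        simp only [mon, ← Finset.prod_mul_distrib, ← pow_add, Pi.sub_apply]
        exact Finset.prod_congr rfl fun i _ => by rw [Nat.sub_add_cancel (ht i)]
      rw [SetLike.mem_coe, this, pow_succ]
      refine Submodule.mul_mem_mul ?_ (hts ▸ hmon t)
      rw [← ih, ← hrest]; exact hmon _
    · rw [pow_succ, ← ih, Submodule.mul_le]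
      intro a ha b hb
      rw [Nat.succ_mul]; exact SetLike.mul_mem_graded ha hb

/-- Let k be a field and R a commutative ℕ-graded k-algebra with R_0 = k · 1 which is generated as a
k-algebra by R_1, R_2 and R_3, each a finite-dimensional k-vector space, of dimensions d_1, d_2,
d_3. Then for every natural number e ≥ 5 d_1 + 4 d_2 + 3 d_3 the (6e)-th Veronese subring of R is
generated in degree one over k: R_{6em} = (R_{6e})^m for every m > 0. -/
theorem result
    (k : Type u) [Field k] (R : Type u) [CommRing R] [Algebra k R]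
    (ℛ : ℕ → Submodule k R) [GradedAlgebra ℛ]
    (h0 : ℛ 0 = 1)
    (hgen : Algebra.adjoin k ((ℛ 1 : Set R) ∪ (ℛ 2 : Set R) ∪ (ℛ 3 : Set R)) = ⊤)
    [Module.Finite k (ℛ 1)] [Module.Finite k (ℛ 2)] [Module.Finite k (ℛ 3)]
    (e : ℕ) (he : 5 * Module.finrank k (ℛ 1) + 4 * Module.finrank k (ℛ 2) + 3 * Module.finrank k (ℛ 3) ≤ e)
    (m : ℕ) (hm : 0 < m) :
    ℛ (m * (6 * e)) = ℛ (6 * e) ^ m := by
  classical
  let b1 := Module.finBasis k (ℛ 1)
  let b2 := Module.finBasis k (ℛ 2)
  let b3 := Module.finBasis k (ℛ 3)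
  let ι := ULift.{u} (Fin (Module.finrank k (ℛ 1)) ⊕ Fin (Module.finrank k (ℛ 2)) ⊕ Fin (Module.finrank k (ℛ 3)))
  let w : ι → ℕ := fun i => Sum.elim (fun _ => 1) (Sum.elim (fun _ => 2) (fun _ => 3)) i.down
  let v : ι → R := fun i => Sum.elim (fun l => (b1 l : R)) (Sum.elim (fun l => (b2 l : R)) (fun l => (b3 l : R))) i.down
  refine main k R ℛ w ?_ v ?_ ?_ e ?_ m hm
  · rintro ⟨i | i | i⟩ <;> simp [w]
  · rintro ⟨i | i | i⟩ <;> simp [w, v]
  · have key : ∀ (n : ℕ) (d : ℕ) (b : Module.Basis (Fin d) k (ℛ n)), (∀ l, (b l : R) ∈ Set.range v) →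
        (ℛ n : Set R) ⊆ Algebra.adjoin k (Set.range v) := by
      intro n d b hb x hx
      have := congrArg (fun z : ℛ n => (z : R)) (b.sum_repr ⟨x, hx⟩).symm
      simp only [Submodule.coe_sum, Submodule.coe_smul] at this
      rw [SetLike.mem_coe, this]
      exact Subalgebra.sum_mem _ fun l _ => Subalgebra.smul_mem _ (Algebra.subset_adjoin (hb l)) _
    rw [eq_top_iff, ← hgen, Algebra.adjoin_le_iff, Set.union_subset_iff, Set.union_subset_iff]
    exact ⟨⟨key 1 _ b1 (fun l => ⟨⟨.inl l⟩, rfl⟩), key 2 _ b2 (fun l => ⟨⟨.inr (.inl l)⟩, rfl⟩)⟩,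
      key 3 _ b3 (fun l => ⟨⟨.inr (.inr l)⟩, rfl⟩)⟩
  · rw [← Equiv.sum_comp Equiv.ulift.symm (fun i => 6 - w i)]
    simp only [Fintype.sum_sum_type]
    simp [w]
    omega

end Groth.Agent.S14053
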