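import Groth.Statements.S14054
import Groth.Agent.H97.MulSurj

set_option autoImplicit false
universe u
open CategoryTheory CategoryTheory.Limits AlgebraicGeometry TopologicalSpace
open Variety

namespace Groth.Agent.S14054

/-- Let X be a proper scheme over a field k, L a globally generated invertible O_X-module with tensor
inverse M, r = dim_k H⁰(X, L), and b ≥ 1 an integer such that H^q(X, L^{⊗(b−q)}) = 0 whenever 1 ≤ q
≤ r − 1, where for q > b the module L^{⊗(b−q)} is the tensor power M^{⊗(q−b)}. Then the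
multiplication map H⁰(X, L^{⊗b}) ⊗ H⁰(X, L) → H⁰(X, L^{⊗(b+1)}) is surjective. The map is written as
the canonical map from the global sections of the sectionwise tensor product presheaf of L^{⊗b} and
L (these are H⁰(L^{⊗b}) ⊗ H⁰(L), tensor over the global functions) to the global sections of its
sheafification L^{⊗b} ⊗ L = L^{⊗(b+1)}. The base field is arbitrary. -/
theorem result (k : Type u) [Field k]
    (X : Scheme.{u}) [X.Over (Spec (CommRingCat.of k))] [IsProper (X ↘ (Spec (CommRingCat.of k)))]
    (L : X.Modules) (hL : PicF.IsInvertible L) (hgg : Curv2.IsGloballyGenerated L)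
    (M : X.Modules) (hM : ClSub.IsInverseOf M L)
    (b : ℕ) (hb : 1 ≤ b)
    (hvan₁ : ∀ q : ℕ, 1 ≤ q → q ≤ b → q < Module.finrank k (Coh.HH X L 0) →
      Subsingleton (Coh.HH X (CohB1.tensorPow L (b - q)) q))
    (hvan₂ : ∀ q : ℕ, b < q → q < Module.finrank k (Coh.HH X L 0) →
      Subsingleton (Coh.HH X (CohB1.tensorPow M (q - b)) q)) :
    Function.Surjective
      ((toSheafify (Opens.grothendieckTopology X) (CohB1.tensorPre (CohB1.tensorPow L b) L).presheaf).app
        (Opposite.op ⊤)) := by
  obtain ⟨eML⟩ := hM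
  obtain ⟨r, s, hr, hs⟩ := Groth.Agent.H97.MulSurj.exists_generators (X := X) k hL hgg
  intro z
  let g := (toSheafify (Opens.grothendieckTopology X)
    (CohB1.tensorPre (CohB1.tensorPow L b) L).presheaf).app (Opposite.op ⊤)
  have hz := Groth.Agent.H97.MulSurj.exists_sum (X := X) k hL
    (Groth.Agent.Lib.TensorMod.Basic.comm L M ≪≫ eML) s hs b
    (fun q h1 h2 h3 => hvan₁ q h1 h3 (by omega)) (fun q h1 h2 h3 => hvan₂ q h3 (by omega)) z
  refine (AddSubgroup.closure_le (AddMonoidHom.range g.hom)).2 ?_ hz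
  rintro _ ⟨⟨a, c⟩, rfl⟩
  exact ⟨TensorProduct.tmul _ a c, (Groth.Agent.Lib.ProjKoszul.Surj.tens_eq_η a c).symm⟩

end Groth.Agent.S14054
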