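import Groth.Statements.S14055
import Groth.Agent.Lib.SurfRR.MinusOne
import Groth.Agent.Lib.TensorMod.TensorInv

set_option autoImplicit false
universe u
open CategoryTheory CategoryTheory.Limits AlgebraicGeometry
open Surf

namespace Groth.Agent.S14055

/-- Let k be an algebraically closed field and X a smooth surface over k: an integral scheme, proper and
smooth over k, of dimension 2; let W be its canonical module, a second exterior power of Ω_{X/k}.
For an invertible module L and an integral closed one-dimensional subscheme C ⊆ X write (L·C) =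
χ(O_C ⊗ L) − χ(O_C). If W is nef, that is (W·C) ≥ 0 for every such C, then X is minimal: it contains
no (−1)-curve, where a (−1)-curve is taken, through its numerical characterization, to be an
integral closed one-dimensional subscheme E with H¹(E, O_E) = 0 and (O_X(E)·E) = −1, O_X(E) being a
tensor inverse of the ideal sheaf of E. -/
theorem result (k : Type u) [Field k] [IsAlgClosed k] (X : Scheme.{u})
    [X.Over (Spec (CommRingCat.of k))] [IsProper (X ↘ (Spec (CommRingCat.of k)))] [Smooth (X ↘ (Spec (CommRingCat.of k)))]
    [IsIntegral X] (hdim : topologicalKrullDim X = 2)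
    (W : X.Modules) (hW : ExtPow.IsExtPow 2 (Omega.sheaf (X ↘ (Spec (CommRingCat.of k)))) W)
    (hnef : (∀ C : X.IdealSheafData, IsIntegral C.subscheme → topologicalKrullDim (C.support : Set X) = 1 →
      0 ≤ Curv2.euler k X (CohB1.tensorMod (ClSub.quotMod C) W) - Curv2.euler k X (ClSub.quotMod C))) :
    (∀ (E : X.IdealSheafData) (N : X.Modules), IsIntegral E.subscheme →
      topologicalKrullDim (E.support : Set X) = 1 → ClSub.IsInverseOf N (ClSub.idealMod E) →
      Subsingleton (Coh.HH E.subscheme (Coh.structureModule E.subscheme) 1) →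
      Curv2.euler k X (CohB1.tensorMod (ClSub.quotMod E) N) - Curv2.euler k X (ClSub.quotMod E) ≠ -1) := by
  intro E N hE hE1 hN h1 hneg
  haveI := hE
  haveI := Lib.Curves.GlobalSections.isNoetherian_of_proper k X
  letI := Lib.SurfInt.Surface.overSub (k := k) E
  have hfin := Lib.Snapper.Finite.cohFinite k X
  have hd : topologicalKrullDim X ≤ ((2 : ℕ) : WithBot ℕ∞) := by exact_mod_cast hdim.le
  obtain ⟨hI, hA⟩ := Lib.SurfRR.Curve.adjunction hdim E hE1 hW
  haveI := h1
  have hg : Curv2.genus k E.subscheme = 0 := Module.finrank_zero_of_subsingleton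
  obtain ⟨e⟩ := hN
  have hNi : PicF.IsInvertible N := Lib.TensorMod.TensorInv.isInvertible_of_tensor_iso e
  have key : ∀ M : X.Modules, PicF.IsInvertible M →
      FGA.intNum k X 2 ![ClSub.idealMod E, M] (Coh.structureModule X) =
        -(Curv2.euler k X (CohB1.tensorMod (ClSub.quotMod E) M) - Curv2.euler k X (ClSub.quotMod E)) := by
    intro M hM
    rw [Lib.SurfInt.Effective.intNum_ideal hfin hd hI hM, Lib.Snapper.Chi.euler_eq_eulerCharLE hd,
      Lib.Snapper.Chi.euler_eq_eulerCharLE hd,
      Lib.Snapper.Chi.eulerCharLE_of_iso (Lib.TensorMod.Basic.comm (ClSub.quotMod E) M) 2]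
    ring
  have hW1 := key W (Lib.SurfRR.Duality.isInvertible_canonical (k := k) hdim hW)
  have hN1 := key N hNi
  rw [Lib.Snapper.IntNum.intNum_pair_comm,
    Lib.Snapper.IntNum.intNum_pair_inverse hfin hdim.le hI hNi
      (Lib.TensorMod.Basic.comm _ N ≪≫ e) hI (Lib.Snapper.Twist.isCoh_structureModule X)] at hN1
  have := hnef E hE hE1
  rw [hg] at hA
  omega

end Groth.Agent.S14055

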