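import Groth.Statements.S14056
import Groth.Agent.Lib.SurfRR.Minimal

set_option autoImplicit false
universe u
open CategoryTheory CategoryTheory.Limits AlgebraicGeometry
open Surf

namespace Groth.Agent.S14056

/-- Let k be an algebraically closed field and X a smooth surface over k: an integral scheme, proper and
smooth over k, of dimension 2; let W be its canonical module, a second exterior power of Ω_{X/k}.
For an invertible module L and an integral closed one-dimensional subscheme C ⊆ X write (L·C) =
χ(O_C ⊗ L) − χ(O_C). Suppose that X has non-negative Kodaira dimension, that is some tensor power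
W^{⊗m} with m > 0 has a nonzero global section, and that X is minimal: it contains no (−1)-curve,
where a (−1)-curve is taken, through its numerical characterization, to be an integral closed
one-dimensional subscheme E with H¹(E, O_E) = 0 and (O_X(E)·E) = −1, O_X(E) being a tensor inverse
of the ideal sheaf of E. Then W is nef: (W·C) ≥ 0 for every integral closed one-dimensional C ⊆ X.
(Together with the first assertion: under non-negative Kodaira dimension, X is minimal if and only
if W is nef.) -/
theorem result (k : Type u) [Field k] [IsAlgClosed k] (X : Scheme.{u})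
    [X.Over (Spec (CommRingCat.of k))] [IsProper (X ↘ (Spec (CommRingCat.of k)))] [Smooth (X ↘ (Spec (CommRingCat.of k)))]
    [IsIntegral X] (hdim : topologicalKrullDim X = 2)
    (W : X.Modules) (hW : ExtPow.IsExtPow 2 (Omega.sheaf (X ↘ (Spec (CommRingCat.of k)))) W)
    (m : ℕ) (hm : 0 < m) (hsec : Nontrivial (Coh.HH X (CohB1.tensorPow W m) 0))
    (hmin : (∀ (E : X.IdealSheafData) (N : X.Modules), IsIntegral E.subscheme →
      topologicalKrullDim (E.support : Set X) = 1 → ClSub.IsInverseOf N (ClSub.idealMod E) →
      Subsingleton (Coh.HH E.subscheme (Coh.structureModule E.subscheme) 1) →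
      Curv2.euler k X (CohB1.tensorMod (ClSub.quotMod E) N) - Curv2.euler k X (ClSub.quotMod E) ≠ -1)) :
    (∀ C : X.IdealSheafData, IsIntegral C.subscheme → topologicalKrullDim (C.support : Set X) = 1 →
      0 ≤ Curv2.euler k X (CohB1.tensorMod (ClSub.quotMod C) W) - Curv2.euler k X (ClSub.quotMod C)) := by
  intro C hC hC1
  haveI := hC
  haveI := Lib.Curves.GlobalSections.isNoetherian_of_proper k X
  have hfin := Lib.Snapper.Finite.cohFinite k X
  have hWi := Lib.SurfRR.Duality.isInvertible_canonical (k := k) hdim hW
  have hI := Lib.SurfInt.Effective.isInvertible_idealMod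
    (Lib.SurfInt.Curve.isEffCartier (X ↘ Spec (CommRingCat.of k)) hdim
      (Lib.SurfInt.NegDef.regular_of_smooth (k := k)) C hC1)
  by_contra hneg
  have hIW := Lib.SurfRR.Minimal.intNum_eq (k := k) hdim C hC1 hWi
  have hpow := Lib.TensorMod.Invertible.isInvertible_tensorPow hWi m
  haveI := hfin _ (Lib.Ample.GG.isCoh_of_isInvertible hpow) 0
  obtain ⟨s, hs⟩ := Lib.SurfInt.Bound.exists_hom_of_finrank_ne_zero (k := k) _
    (Module.finrank_pos (R := k) (M := Coh.HH X (CohB1.tensorPow W m) 0)).ne'
  have hZ := Lib.SurfInt.Bound.intNum_zeroScheme hfin hdim hpow s hs hI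
  obtain ⟨n, rfl⟩ : ∃ n, m = n + 1 := ⟨m - 1, by omega⟩
  rw [Lib.SurfInt.Hodge.intNum_pow_left hfin hdim hWi hI n,
    Lib.Snapper.IntNum.intNum_pair_comm W] at hZ
  have hII := Lib.SurfRR.Minimal.sq_neg_of_effective (k := k) hdim C hC1
    (Lib.SurfInt.Div.divisor_spec hpow s hs).1 (by
      rw [hZ, neg_lt_zero]
      exact mul_pos (by exact_mod_cast Nat.succ_pos n) (by omega))
  obtain ⟨h1, -, h3⟩ := Lib.SurfRR.MinusOne.minusOne hdim C hC1 hW hII (by omega)
  let N := Lib.TensorMod.Dual.dual (ClSub.idealMod C)
  have hN : ClSub.IsInverseOf N (ClSub.idealMod C) :=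
    ⟨Lib.TensorMod.Basic.comm N _ ≪≫ Lib.TensorMod.Invertible.tensorDualIso hI⟩
  exact hmin C N hC hC1 hN h3 ((Lib.SurfRR.Minimal.intNum_inverse (k := k) hdim C hC1 hN).trans h1)

end Groth.Agent.S14056

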