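import Groth.Statements.S14057
import Groth.Agent.Lib.SurfRR.Minimal

set_option autoImplicit false
universe u
open CategoryTheory CategoryTheory.Limits AlgebraicGeometry
open Surf

namespace Groth.Agent.S14057

/-- Let k be an algebraically closed field and X a smooth surface over k: an integral scheme, proper and
smooth over k, of dimension 2; let W be its canonical module, a second exterior power of Ω_{X/k}.
For an invertible module L and an integral closed one-dimensional subscheme C ⊆ X write (L·C) =
χ(O_C ⊗ L) − χ(O_C), and (W·W) for the self-intersection number of W (the alternating sum χ(O_X) −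
2χ(W) + χ(W ⊗ W)). Suppose W is nef and (W·W) > 0. Then W is ample if and only if X contains no
(−2)-curve, where a (−2)-curve is taken, through its numerical characterization, to be an integral
closed one-dimensional subscheme E with H¹(E, O_E) = 0 and (O_X(E)·E) = −2, O_X(E) being a tensor
inverse of the ideal sheaf of E. (The published statement is for a minimal surface of general type;
its proof uses exactly that the canonical module is nef with positive self-intersection, which is
how the hypothesis is written here.) -/
theorem result (k : Type u) [Field k] [IsAlgClosed k] (X : Scheme.{u})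
    [X.Over (Spec (CommRingCat.of k))] [IsProper (X ↘ (Spec (CommRingCat.of k)))] [Smooth (X ↘ (Spec (CommRingCat.of k)))]
    [IsIntegral X] (hdim : topologicalKrullDim X = 2)
    (W : X.Modules) (hW : ExtPow.IsExtPow 2 (Omega.sheaf (X ↘ (Spec (CommRingCat.of k)))) W)
    (hnef : (∀ C : X.IdealSheafData, IsIntegral C.subscheme → topologicalKrullDim (C.support : Set X) = 1 →
      0 ≤ Curv2.euler k X (CohB1.tensorMod (ClSub.quotMod C) W) - Curv2.euler k X (ClSub.quotMod C)))
    (hpos : 0 < FGA.intNum k X 2 ![W, W] (Coh.structureModule X)) :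
    CohB1.IsAmple W ↔
    (∀ (E : X.IdealSheafData) (N : X.Modules), IsIntegral E.subscheme →
      topologicalKrullDim (E.support : Set X) = 1 → ClSub.IsInverseOf N (ClSub.idealMod E) →
      Subsingleton (Coh.HH E.subscheme (Coh.structureModule E.subscheme) 1) →
      Curv2.euler k X (CohB1.tensorMod (ClSub.quotMod E) N) - Curv2.euler k X (ClSub.quotMod E) ≠ -2) := by
  haveI := Lib.Curves.GlobalSections.isNoetherian_of_proper k X
  have hfin := Lib.Snapper.Finite.cohFinite k X
  have hreg := Lib.SurfInt.NegDef.regular_of_smooth (k := k) (X := X)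
  have hWi := Lib.SurfRR.Duality.isInvertible_canonical (k := k) hdim hW
  constructor
  · intro hA E N hE hE1 hN h1 h2
    haveI := hE
    letI := Lib.SurfInt.Surface.overSub (k := k) E
    rw [Lib.SurfRR.Minimal.intNum_inverse (k := k) hdim E hE1 hN] at h2
    have hneg := Lib.SurfInt.Surface.intNum_ample_neg (k := k) hfin hdim hreg E hE1 hA
    obtain ⟨-, hadj⟩ := Lib.SurfRR.Curve.adjunction hdim E hE1 hW
    haveI := h1
    have hg : Curv2.genus k E.subscheme = 0 := Module.finrank_zero_of_subsingleton
    omega
  · intro hno
    obtain ⟨r, ι, hc, hι⟩ := Lib.SurfRR.Proper.exists_embedding (k := k) (X := X) hdim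
    haveI := hc
    refine Lib.SurfInt.Nakai.isAmple (k := k) hdim hreg (Lib.SurfInt.ProjSurf.isAmple ι) hWi hpos fun C hC hC1 => ?_
    haveI := hC
    letI := Lib.SurfInt.Surface.overSub (k := k) C
    have hle := Lib.SurfRR.Minimal.intNum_eq (k := k) hdim C hC1 hWi
    have hnef' := hnef C hC hC1
    by_contra hge
    have h0 : FGA.intNum k X 2 ![ClSub.idealMod C, W] (Coh.structureModule X) = 0 := by omega
    have hII := Lib.SurfRR.Minimal.sq_neg_of_orth (k := k) hdim C hC1 hWi hpos h0
    obtain ⟨hI, hadj⟩ := Lib.SurfRR.Curve.adjunction hdim C hC1 hW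
    let N := Lib.TensorMod.Dual.dual (ClSub.idealMod C)
    have hN : ClSub.IsInverseOf N (ClSub.idealMod C) :=
      ⟨Lib.TensorMod.Basic.comm N _ ≪≫ Lib.TensorMod.Invertible.tensorDualIso hI⟩
    exact hno C N hC hC1 hN (Lib.SurfRR.MinusOne.subsingleton_h1_of_genus (k := k) C (by omega))
      ((Lib.SurfRR.Minimal.intNum_inverse (k := k) hdim C hC1 hN).trans (by omega))

end Groth.Agent.S14057

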