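import Groth.Statements.S14058
import Groth.Agent.Lib.Amp36.Modif.LerayEuler
import Groth.Agent.Lib.Amp36.Modif.Divisorial
import Groth.Agent.Lib.Amp36.ModifVanish

set_option autoImplicit false
universe u
open CategoryTheory CategoryTheory.Limits AlgebraicGeometry TopologicalSpace
open Surf

namespace Groth.Agent.S14058

open Groth.Agent Groth.Agent.Lib Groth.Agent.Lib.Amp36.Modif TopologicalSpace

/-- Outside the closed points a normal surface is regular. -/
theorem finite_compl {X : Scheme.{u}} [IsNoetherian X] (hn : Pi1.IsNormalScheme X)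
    (hdim : topologicalKrullDim X ≤ ((2 : ℕ) : WithBot ℕ∞)) (U : X.Opens)
    (hU : ∀ x : X, IsRegularLocalRing (X.presheaf.stalk x) → x ∈ U) :
    ((U : Set X)ᶜ).Finite ∧ ∀ x ∈ ((U : Set X)ᶜ), IsClosed ({x} : Set X) := by
  have hcl : ∀ x ∈ ((U : Set X)ᶜ), IsClosed ({x} : Set X) := fun x hx => by
    refine Divisorial.isClosed_of_dim hdim x (not_lt.1 fun h => hx (hU x ?_))
    haveI := (hn x).1
    haveI := (hn x).2
    haveI : Ring.KrullDimLE 1 (X.presheaf.stalk x) := (Ring.krullDimLE_iff (n := 1)).2 (by
      rcases hd : ringKrullDim (X.presheaf.stalk x) with _ | a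
      · exact bot_le
      · rw [hd] at h
        have h' : a < ((1 + 1 : ℕ) : ℕ∞) := WithBot.coe_lt_coe.1 h
        rw [Nat.cast_add, Nat.cast_one] at h'
        exact WithBot.coe_le_coe.2 ((ENat.lt_add_one_iff ENat.one_ne_top).1 h'))
    haveI : Ring.DimensionLEOne (X.presheaf.stalk x) :=
      ⟨fun {p} hp0 hp => hp.isMaximal_of_ne_bot hp0⟩
    haveI : IsDedekindDomain (X.presheaf.stalk x) :=
      (isDedekindDomain_iff _ (FractionRing (X.presheaf.stalk x))).2 ⟨inferInstance, inferInstance, inferInstance,
        fun {z} hz => IsIntegrallyClosed.algebraMap_eq_of_integral hz⟩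
    haveI : IsPrincipalIdealRing (X.presheaf.stalk x) :=
      IsPrincipalIdealRing.of_finite_maximals (Set.Finite.subset (Set.finite_singleton
        (IsLocalRing.maximalIdeal _)) fun I hI => IsLocalRing.eq_maximalIdeal hI)
    infer_instance
  obtain ⟨S, hSf, hSc, hSi, hS⟩ :=
    NoetherianSpace.exists_finite_set_isClosed_irreducible U.isOpen.isClosed_compl
  refine ⟨?_, hcl⟩
  rw [hS]
  refine hSf.sUnion fun C hC => ?_
  obtain ⟨η, hη⟩ := QuasiSober.sober (hSi C hC) (hSc C hC)
  rw [← hη.def, (hcl η (hS.ge (Set.mem_sUnion_of_mem hη.mem hC))).closure_eq]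
  exact Set.finite_singleton η

/-- Let k be an algebraically closed field and X a normal surface over k: an integral normal scheme,
proper over k, of dimension 2. Let π : S → X be a resolution of X: S is an integral scheme of
dimension 2 smooth over k, π is proper, the map O_X → π_*O_S is an isomorphism, and π restricts to
an isomorphism over the open subset of regular points of X. Then R¹π_*O_S = 0 if and only if χ(S,
O_S) = χ(X, O_X). Here R¹π_* is the first right derived functor of the direct image on abelian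
sheaves, applied to the abelian sheaf underlying O_S. -/
theorem result (k : Type u) [Field k] [IsAlgClosed k]
    (X : Scheme.{u}) [X.Over (Spec (CommRingCat.of k))] [IsProper (X ↘ (Spec (CommRingCat.of k)))] [IsIntegral X]
    (hdimX : topologicalKrullDim X = 2) (hnorm : Pi1.IsNormalScheme X)
    (S : Scheme.{u}) (π : S ⟶ X) [IsProper π] [IsIntegral S] (hdimS : topologicalKrullDim S = 2)
    [Smooth (π ≫ (X ↘ (Spec (CommRingCat.of k))))]
    (hO : IsIso (ClSub.unitToPush π))
    (U : X.Opens) (hU : ∀ x : X, x ∈ U ↔ IsRegularLocalRing (X.presheaf.stalk x)) (hiso : IsIso (π ∣_ U)) :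
    letI : S.Over (Spec (CommRingCat.of k)) := ⟨π ≫ (X ↘ (Spec (CommRingCat.of k)))⟩
    IsZero ((Coh.RpushAb π 1).obj (Coh.toAb (Coh.structureModule S))) ↔
      Curv2.euler k S (Coh.structureModule S) = Curv2.euler k X (Coh.structureModule X) := by
  letI : S.Over (Spec (CommRingCat.of k)) := ⟨π ≫ (X ↘ (Spec (CommRingCat.of k)))⟩
  show _ ↔ Curv2.euler k S (Coh.structureModule S) = _
  haveI := Lib.Curves.GlobalSections.isNoetherian_of_proper k X
  haveI := hiso
  obtain ⟨hf, hc⟩ := finite_compl hnorm hdimX.le U fun x hx => (hU x).2 hx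
  have hg : genericPoint X ∈ U := (hU _).2 (by
    haveI : IsPrincipalIdealRing (X.presheaf.stalk (genericPoint X)) :=
      inferInstanceAs (IsPrincipalIdealRing X.functionField)
    infer_instance)
  obtain ⟨z, hz⟩ := Birat.exists_apply_eq π U hg
  refine LerayEuler.isZero_iff_euler_eq k π rfl hdimS.le hdimX.le ?_ hO _ hf hc U
    (fun x hx => not_not.1 hx)
  exact Amp36.ModifVanish.fiber_dim_le_one π hdimX.le ⟨U, ⟨z, show π z ∈ U from hz.symm ▸ hg⟩, hiso⟩

end Groth.Agent.S14058
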