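import Groth.Statements.S14059
import Groth.Agent.Lib.GrpSch.Translate
import Groth.Agent.Lib.BirMap96.SmoothCritScheme
-- import your own Groth.Agent.* helpers here

set_option autoImplicit false
set_option linter.style.haveILetI false
universe u
open CategoryTheory MonoidalCategory CartesianMonoidalCategory MonObj GrpObj AlgebraicGeometry
open GrpSch

namespace Groth.Agent.S14059

/-- Let k be an algebraically closed field and G a group scheme of finite type over k, with unit point e
(the image of the unit section). Then the tangent space of G at e is zero, that is the cotangent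
space m_e/m_e² of the local ring O_{G,e} vanishes, if and only if G is isomorphic over k to a finite
disjoint union of copies of Spec k, stated as: the underlying space of G is finite and discrete and
the structure map k → O_{G,g} is bijective for every point g. (The published statement is over an
arbitrary field; the group scheme of cube roots of unity over the rationals has zero tangent space
at the unit but a point with residue field larger than the base field, and the printed argument
translates by rational points, so the base field is taken algebraically closed here.) -/
theorem result (k : Type u) [Field k] [IsAlgClosed k]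
    (G : Over (Spec (CommRingCat.of k))) [GrpObj G] [LocallyOfFiniteType G.hom] [QuasiCompact G.hom]
    (e : G.left) (he : e ∈ Set.range (η[G]).left.base) :
    letI : G.left.Over (Spec (CommRingCat.of k)) := ⟨G.hom⟩
    Subsingleton (IsLocalRing.CotangentSpace (G.left.presheaf.stalk e)) ↔
      (Finite G.left ∧ DiscreteTopology G.left ∧
        ∀ g : G.left, Function.Bijective (Curv2.stalkMap k G.left g)) := by
  letI : G.left.Over (Spec (CommRingCat.of k)) := ⟨G.hom⟩
  haveI : LocallyOfFiniteType (G.left ↘ Spec (CommRingCat.of k)) := ‹LocallyOfFiniteType G.hom›
  haveI : IsLocallyNoetherian G.left := LocallyOfFiniteType.isLocallyNoetherian G.hom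
  haveI : JacobsonSpace G.left := LocallyOfFiniteType.jacobsonSpace G.hom
  haveI : CompactSpace G.left := QuasiCompact.compactSpace_of_compactSpace G.hom
  haveI : IsNoetherian G.left := {}
  rw [show Subsingleton (IsLocalRing.CotangentSpace (G.left.presheaf.stalk e)) ↔
    IsField (G.left.presheaf.stalk e) from IsLocalRing.subsingleton_cotangentSpace_iff]
  constructor
  · intro hF
    have hfield : ∀ g : G.left, IsClosed ({g} : Set G.left) → IsField (G.left.presheaf.stalk g) := by
      intro g hg
      let pg : 𝟙_ (Over (Spec (CommRingCat.of k))) ⟶ G :=
        Over.homMk (pointOfClosedPoint G.hom g hg) (pointOfClosedPoint_comp G.hom g hg)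
      let t := Groth.Agent.Lib.GrpSch.translate (Groth.Agent.Lib.GrpSch.regularAction G) pg
      have ht : (1 : 𝟙_ (Over (Spec (CommRingCat.of k))) ⟶ G) ≫ t.hom = pg := by
        rw [Groth.Agent.Lib.GrpSch.translate_regular_apply, _root_.mul_one]
      obtain ⟨s, rfl⟩ := he
      have h1 : (1 : 𝟙_ (Over (Spec (CommRingCat.of k))) ⟶ G) = η[G] := by
        rw [Hom.one_def, toUnit_unique (toUnit (𝟙_ (Over (Spec (CommRingCat.of k))))) (𝟙 _),
          Category.id_comp]
      have hge : t.hom.left ((η[G]).left s) = g := by
        rw [← Scheme.Hom.comp_apply, ← Over.comp_left, ← h1, ht]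
        exact pointOfClosedPoint_apply G.hom g hg s
      haveI : IsIso t.hom.left := ((Over.forget _).mapIso t).isIso_hom
      have h := MulEquiv.isField hF
        (asIso (t.hom.left.stalkMap ((η[G]).left s))).commRingCatIsoToRingEquiv.toMulEquiv
      rwa [hge] at h
    have hclosed : ∀ z : G.left, IsClosed ({z} : Set G.left) := by
      intro z
      obtain ⟨g, hg, hgc⟩ := nonempty_inter_closedPoints
        (Z := closure ({z} : Set G.left)) ⟨z, subset_closure rfl⟩ isClosed_closure.isLocallyClosed
      have hzg : z ⤳ g := specializes_iff_mem_closure.mpr hg
      obtain ⟨w, hw⟩ : z ∈ Set.range (G.left.fromSpecStalk g) := by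
        rw [Scheme.range_fromSpecStalk]; exact hzg
      letI := (hfield g hgc).toField
      haveI : Subsingleton (Spec (G.left.presheaf.stalk g)) :=
        inferInstanceAs (Subsingleton (PrimeSpectrum (G.left.presheaf.stalk g)))
      rw [Subsingleton.elim w (IsLocalRing.closedPoint (G.left.presheaf.stalk g)),
        Scheme.fromSpecStalk_closedPoint] at hw
      exact hw ▸ hgc
    haveI : T1Space G.left := ⟨hclosed⟩
    have hmem : ∀ z : G.left, ({z} : Set G.left) ∈ irreducibleComponents G.left := by
      intro z
      refine ⟨isIrreducible_singleton, fun C hC hzC w hw => ?_⟩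
      haveI : QuasiSober G.left := inferInstance
      have hgen := hC.closure.isGenericPoint_genericPoint isClosed_closure
      have h0 : closure C = {hC.closure.genericPoint} := by
        rw [← (hclosed hC.closure.genericPoint).closure_eq]
        exact hgen.def.symm
      have hwz : ∀ v ∈ C, v = hC.closure.genericPoint := fun v hv => by
        have := subset_closure hv
        rwa [h0] at this
      exact (hwz w hw).trans (hwz z (hzC rfl)).symm
    haveI : Finite G.left := by
      haveI := (TopologicalSpace.NoetherianSpace.finite_irreducibleComponents (α := G.left)).to_subtype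
      exact Finite.of_injective (fun z => (⟨{z}, hmem z⟩ : irreducibleComponents G.left))
        fun a b h => Set.singleton_eq_singleton_iff.mp (congrArg Subtype.val h)
    refine ⟨inferInstance, inferInstance, fun g => ⟨RingHom.injective _, fun b => ?_⟩⟩
    letI := (hfield g (hclosed g)).toField
    obtain ⟨c, hc⟩ := Groth.Agent.H25.Node.Sch.residue_surjective k G.left g (hclosed g)
      (G.left.residue g b)
    exact ⟨c, RingHom.injective (G.left.residue g).hom hc⟩
  · rintro ⟨_, _, hbij⟩
    exact MulEquiv.isField (Field.toIsField k) (RingEquiv.ofBijective _ (hbij e)).symm.toMulEquiv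

end Groth.Agent.S14059
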