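import Groth.Statements.S1406
import Groth.Agent.Lib.AlgSpDecent.OnePoint

set_option autoImplicit false
set_option linter.style.haveILetI false
universe u
open FlatMor

namespace Groth.Agent.S1406

open AlgebraicGeometry CategoryTheory Limits in
/-- Let a : X' → X be flat, locally of finite presentation and surjective. Then all fibres of f : X → Y
are locally Noetherian if and only if all fibres of a ≫ f are. -/
theorem result {X X' Y : Scheme.{u}} (f : X ⟶ Y) (a : X' ⟶ X) [Flat a] [LocallyOfFinitePresentation a] [Surjective a] :
    (∀ y : Y, IsLocallyNoetherian (f.fiber y)) ↔ ∀ y : Y, IsLocallyNoetherian ((a ≫ f).fiber y) := by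
  have key : ∀ y : Y, IsLocallyNoetherian (f.fiber y) ↔ IsLocallyNoetherian ((a ≫ f).fiber y) := by
    intro y
    let j := Y.fromSpecResidueField y
    let e := pullbackRightPullbackFstIso f j a
    let q : (a ≫ f).fiber y ⟶ f.fiber y := e.inv ≫ pullback.snd a (pullback.fst f j)
    haveI hq : Flat (e.inv ≫ pullback.snd a (pullback.fst f j)) := inferInstance
    haveI : Flat q := hq
    haveI hq' : LocallyOfFinitePresentation (e.inv ≫ pullback.snd a (pullback.fst f j)) := inferInstance
    haveI : LocallyOfFinitePresentation q := hq'
    haveI hq'' : Surjective (e.inv ≫ pullback.snd a (pullback.fst f j)) := inferInstance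
    haveI : Surjective q := hq''
    constructor
    · intro h
      exact LocallyOfFiniteType.isLocallyNoetherian q
    · intro h
      exact Lib.AlgSpDecent.OnePoint.isLocallyNoetherian_of_flat_surjective q
  exact forall_congr' key

end Groth.Agent.S1406
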