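import Groth.Statements.S14060
import Mathlib.Algebra.Homology.DerivedCategory.Ext.ExactSequences

set_option autoImplicit false
set_option linter.style.haveILetI false
universe u
open CategoryTheory CategoryTheory.Limits TopologicalSpace
open CohTop

namespace Groth.Agent.S14060

/-- Let X be a topological space, r ≥ 1 an integer and 0 → F_r → ⋯ → F_2 → F_1 → F_0 → 0 an exact
sequence of sheaves of abelian groups on X, presented as a chain complex F of abelian sheaves
indexed by the natural numbers whose differential F_r → F_{r−1} is a monomorphism, whose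
differential F_1 → F_0 is an epimorphism of sheaves, and which is exact at F_j for 1 ≤ j ≤ r − 1
(for r = 1 the single map F_1 → F_0 is mono and epi). Assume the sheaf cohomology groups H^{j−1}(X,
F_j) vanish for 2 ≤ j ≤ r. Then the map on global sections F_1(X) → F_0(X) is surjective. (The
instance hypothesis that the category of abelian sheaves on X has Ext groups in the universe of X
holds for every X, abelian sheaves on a space forming a Grothendieck abelian category; it is the
setting in which sheaf cohomology is defined.) -/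
theorem result (X : TopCat.{u})
    [HasExt.{u} (Sheaf (Opens.grothendieckTopology X) AddCommGrpCat.{u})]
    (r : ℕ) (hr : 1 ≤ r)
    (F : ChainComplex (Sheaf (Opens.grothendieckTopology X) AddCommGrpCat.{u}) ℕ)
    (hmono : Mono (F.d r (r - 1))) (hepi : Epi (F.d 1 0))
    (hex : ∀ j : ℕ, 1 ≤ j → j < r → F.ExactAt j)
    (hvan : ∀ j : ℕ, 2 ≤ j → j ≤ r → Subsingleton (Sheaf.H (F.X j) (j - 1))) :
    Function.Surjective ((F.d 1 0).hom.app (Opposite.op ⊤)) := by
  let K : ℕ → Sheaf (Opens.grothendieckTopology X) AddCommGrpCat.{u} := fun l => kernel (F.d (l + 1) l)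
  have hS : ∀ l, l + 1 < r → ∃ S : ShortComplex (Sheaf (Opens.grothendieckTopology X) AddCommGrpCat.{u}),
      ∃ _ : S.ShortExact, S.X₁ = K (l + 1) ∧ S.X₂ = F.X (l + 2) ∧ S.X₃ = K l := by
    intro l hl
    let g : F.X (l + 2) ⟶ K l := kernel.lift _ (F.d (l + 2) (l + 1)) (F.d_comp_d _ _ _)
    have hsc : (F.sc' (l + 2) (l + 1) l).Exact :=
      (F.exactAt_iff' (l + 2) (l + 1) l (by simp) (by simp)).1 (hex (l + 1) (by omega) hl)
    haveI : Epi g := hsc.epi_kernelLift
    have w : kernel.ι (F.d (l + 2) (l + 1)) ≫ g = 0 := by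
      rw [← cancel_mono (kernel.ι (F.d (l + 1) l))]; simp [g]
    refine ⟨ShortComplex.mk _ g w, ?_, rfl, rfl, rfl⟩
    refine ShortComplex.ShortExact.mk' (ShortComplex.exact_of_f_is_kernel _ ?_) inferInstance ‹Epi g›
    exact KernelFork.IsLimit.ofι' _ w fun {A} k hk => ⟨kernel.lift _ k (by
      have := congrArg (· ≫ kernel.ι (F.d (l + 1) l)) hk
      simpa [g] using this), by simp⟩
  have hK : ∀ t l, l + t + 1 = r → Subsingleton (Sheaf.H (K l) (l + 1)) := by
    intro t
    induction t with
    | zero =>
      intro l hl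
      obtain rfl : r = l + 1 := by omega
      haveI : Mono (F.d (l + 1) l) := hmono
      exact subsingleton_of_forall_eq 0 fun x => by
        rw [← Abelian.Ext.comp_mk₀_id x, (isZero_kernel_of_mono (F.d (l + 1) l)).eq_of_src (𝟙 (K l)) 0,
          Abelian.Ext.mk₀_zero, Abelian.Ext.comp_zero]
    | succ t ih =>
      intro l hl
      obtain ⟨S, hS, e₁, e₂, e₃⟩ := hS l (by omega)
      have h₁ := ih (l + 1) (by omega)
      rw [← e₁] at h₁
      rw [← e₃]
      have h₂ : Subsingleton (Sheaf.H S.X₂ (l + 1)) := by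
        rw [e₂]; exact hvan (l + 2) (by omega) (by omega)
      refine subsingleton_of_forall_eq 0 fun x => ?_
      obtain ⟨y, rfl⟩ := Abelian.Ext.covariant_sequence_exact₃ _ hS x rfl (Subsingleton.elim _ _)
      rw [Subsingleton.elim y 0, Abelian.Ext.zero_comp]
  have h := hK (r - 1) 0 (by omega)
  let S₀ := ShortComplex.mk (kernel.ι (F.d 1 0)) (F.d 1 0) (kernel.condition _)
  haveI := hepi
  have hS₀ : S₀.ShortExact :=
    ShortComplex.ShortExact.mk' (ShortComplex.exact_of_f_is_kernel _ (kernelIsKernel _)) inferInstance hepi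
  intro s
  obtain ⟨y, hy⟩ := Abelian.Ext.covariant_sequence_exact₃ _ hS₀
    ((Sheaf.H.equiv₀ (F.X 0) Limits.isTerminalTop).symm s) rfl (@Subsingleton.elim _ h _ _)
  refine ⟨Sheaf.H.equiv₀ (F.X 1) Limits.isTerminalTop y, ?_⟩
  rw [Sheaf.H.equiv₀_naturality (T := (⊤ : Opens X)) Limits.isTerminalTop (F.d 1 0) y, Sheaf.H.map_apply]
  rw [show y.comp (Abelian.Ext.mk₀ (F.d 1 0)) (add_zero 0) = _ from hy, AddEquiv.apply_symm_apply]

end Groth.Agent.S14060
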