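import Groth.Statements.S14064
import Groth.Agent.H90.PowIso
import Groth.Agent.Lib.TensorMod.TensorInv
import Groth.Agent.Lib.Curves.Positivity
import Mathlib.AlgebraicGeometry.Morphisms.Proper

open Groth.Agent.H90.PowIso Groth.Agent.Lib.TensorMod.Basic Groth.Agent.Lib.TensorMod.Invertible Groth.Agent.Lib.TensorMod.TensorInv Groth.Agent.Lib.TensorMod.Integral Groth.Agent.Lib.Curves.Positivity

set_option autoImplicit false
universe u
open CategoryTheory CategoryTheory.Limits AlgebraicGeometry TopologicalSpace
open Surf

namespace Groth.Agent.S14064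

/-- Fix a field k, an integral proper k-scheme X, and an invertible O_X-module L with tensor inverse M.
Suppose that L^{⊗j} has a nonzero global section for every j ≥ 4 and that no tensor power L^{⊗j}
with j ≥ 1 is isomorphic to O_X. Then H⁰(X, M^{⊗i}) = 0 for every i ≥ 1: the negative powers of L
have no nonzero global sections. (The published statement is for the canonical module of a minimal
surface of general type over an algebraically closed field, where the fourth and higher powers are
globally generated by a deep result quoted without proof, and non-triviality of the positive powers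
comes from bigness; the published deduction of this part uses exactly the two hypotheses carried
here, on an integral proper X.) -/
theorem result (k : Type u) [Field k]
    (X : Scheme.{u}) [X.Over (Spec (CommRingCat.of k))] [IsProper (X ↘ (Spec (CommRingCat.of k)))] [IsIntegral X]
    (L M : X.Modules) (hL : PicF.IsInvertible L) (hM : ClSub.IsInverseOf M L)
    (hsec : ∀ j : ℕ, 4 ≤ j → Nontrivial (Coh.HH X (CohB1.tensorPow L j) 0))
    (hnt : ∀ j : ℕ, 1 ≤ j → IsEmpty (CohB1.tensorPow L j ≅ Coh.structureModule X))
    (i : ℕ) (hi : 1 ≤ i) :
    Subsingleton (Coh.HH X (CohB1.tensorPow M i) 0) := by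
  by_contra hcon
  rw [not_subsingleton_iff_nontrivial] at hcon
  obtain ⟨e⟩ := hM
  have hMi : PicF.IsInvertible M := isInvertible_of_tensor_iso e
  obtain ⟨t, ht⟩ := exists_section_of_nontrivial hcon
  obtain ⟨t₄, ht₄⟩ := exists_section_pow (isInvertible_tensorPow hMi i) ht 4
  obtain ⟨s, hs⟩ := exists_section_of_nontrivial (hsec (i * 4) (by omega))
  have hLp := isInvertible_tensorPow hL (i * 4)
  let c : CohB1.tensorPow L (i * 4) ⟶ Coh.structureModule X :=
    (rightUnit _).inv ≫ tmap (𝟙 _) (t₄ ≫ (powMul M i 4).hom) ≫
      (powInv (comm L M ≪≫ e) (i * 4)).hom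
  have hc : c ≠ 0 := by
    intro h
    refine tmap_id_ne_zero hLp (fun h' => ht₄ ?_) ?_ (f := t₄ ≫ (powMul M i 4).hom)
    · exact (cancel_mono (powMul M i 4).hom).1 (by rw [h', zero_comp])
    · exact (cancel_epi (rightUnit _).inv).1
        ((cancel_mono (powInv (comm L M ≪≫ e) (i * 4)).hom).1
          (by rw [comp_zero, zero_comp, Category.assoc]; exact h))
  obtain ⟨iso⟩ := iso_of_section_cosection
    (isField_of_universallyClosed k (X ↘ Spec (CommRingCat.of k))) hLp hs hc
  exact (hnt (i * 4) (by omega)).false iso

end Groth.Agent.S14064
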