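import Groth.Statements.S14065
import Groth.Agent.Lib.CurveFF.SmoothBC
import Groth.Agent.Lib.CurveFF.Consts
import Groth.Agent.Lib.FEt.GeomConn
import Groth.Agent.Lib.TensorMod.Invertible
-- import your own Groth.Agent.* helpers here

set_option autoImplicit false
universe u
open CategoryTheory CategoryTheory.Limits AlgebraicGeometry TopologicalSpace
open Curves

namespace Groth.Agent.S14065

/-- Let k be an algebraically closed field and C a smooth projective connected curve over k — an
integral scheme, proper and smooth over k, of dimension 1 — of genus g = dim_k H¹(C, O_C) with g ≥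
2, and let T be the tangent module of C, a tensor inverse of the module of differentials Ω_{C/k}.
Then dim_k H¹(C, T) = 3g − 3. (The published proof makes this computation, together with the
vanishing of H⁰(C, T), to find the dimension of the tangent space of the moduli stack of genus-g
curves at C; only the dimension of H¹(C, T) is stated here.) -/
theorem result (k : Type u) [Field k] [IsAlgClosed k]
    (C : Scheme.{u}) [C.Over (Spec (CommRingCat.of k))] [IsProper (C ↘ (Spec (CommRingCat.of k)))] [Smooth (C ↘ (Spec (CommRingCat.of k)))] [IsIntegral C]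
    (hdim : topologicalKrullDim C = 1) (g : ℕ) (hg : Curv2.genus k C = g) (h2 : 2 ≤ g)
    (T : C.Modules) (hT : ClSub.IsInverseOf T (Omega.sheaf (C ↘ (Spec (CommRingCat.of k))))) :
    Module.finrank k (Coh.HH C T 1) = 3 * g - 3 := by
  haveI := Groth.Agent.Lib.FEt.GeomConn.geometricallyConnected_of_connected_isAlgClosed k (C ↘ Spec (CommRingCat.of k))
  have h0 := Groth.Agent.Lib.CurveFF.finrank_h0_eq_one k C
  have hΩ := Groth.Agent.Lib.CurveFF.SmoothBC.isInvertible (k := k) (X := C) hdim
  obtain ⟨-, hdΩ⟩ := Groth.Agent.Lib.CurveFF.SmoothBC.omega_facts (k := k) (X := C) hdim h0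
  obtain ⟨i⟩ := hT
  let M := Groth.Agent.Lib.TensorMod.Dual.dual (Omega.sheaf (C ↘ Spec (CommRingCat.of k)))
  let e : T ≅ M := Groth.Agent.Lib.TensorMod.Invertible.cancelRight hΩ
    (i ≪≫ (Groth.Agent.Lib.TensorMod.Invertible.tensorDualIso hΩ).symm ≪≫
      Groth.Agent.Lib.TensorMod.Basic.comm _ _)
  have hTi : PicF.IsInvertible T := fun y => by
    obtain ⟨U, hy, ⟨u⟩⟩ := Groth.Agent.Lib.TensorMod.Invertible.isInvertible_dual hΩ y
    exact ⟨U, hy, ⟨(Scheme.Modules.restrictFunctor U.ι).mapIso e ≪≫ u⟩⟩
  have hd := Groth.Agent.Lib.Curves.Degree.deg_of_isInverseOf (k := k) hdim.le hTi hΩ ⟨i⟩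
  rw [hdΩ, hg] at hd
  have hs : Subsingleton (Coh.HH C T 0) := by
    by_contra hn
    rw [not_subsingleton_iff_nontrivial] at hn
    have := Groth.Agent.Lib.Curves.Degree.deg_nonneg (k := k) hdim.le hTi hn
    omega
  rw [Groth.Agent.Lib.Curves.Degree.deg_eq, (Groth.Agent.Lib.Curves.Degree.isGood (k := k) hdim.le hTi).euler,
    (Groth.Agent.Lib.Curves.Degree.isGood_structureModule (k := k) (X := C) hdim.le).euler] at hd
  haveI := hs
  have hz : Module.finrank k (Coh.HH C T 0) = 0 := Module.finrank_zero_of_subsingleton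
  simp only [Groth.Agent.Lib.Curves.Euler.hdim, Curv2.genus] at hd hg ⊢
  rw [hz, h0, hg] at hd
  omega

end Groth.Agent.S14065
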