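import Groth.Statements.S14066
import Groth.Agent.Lib.ProjSub.DisjointUnion

set_option autoImplicit false
universe u
open CategoryTheory CategoryTheory.Limits AlgebraicGeometry TopologicalSpace
open Variety

namespace Groth.Agent.S14066

/-- Let k be a field, and let X₁ and X₂ be k-schemes with closed immersions i₁ : X₁ → P^n_k and i₂ : X₂
→ P^m_k over k. Then there is a closed immersion of the disjoint union X₁ ⨿ X₂ into P^{n+m+1}_k over
k, that is, compatible with the structure morphism of the coproduct induced by those of X₁ and X₂.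
(Stated as the step of the published proof showing that a disjoint union of two projective k-schemes
is projective.) -/
theorem result (k : Type u) [Field k] (n m : ℕ)
    (X₁ X₂ : Scheme.{u}) [X₁.Over (Spec (CommRingCat.of k))] [X₂.Over (Spec (CommRingCat.of k))]
    (i₁ : X₁ ⟶ CohB1.ProjSpace n k) [IsClosedImmersion i₁] (h₁ : i₁ ≫ CohB1.ProjSpace.toSpec n k = X₁ ↘ (Spec (CommRingCat.of k)))
    (i₂ : X₂ ⟶ CohB1.ProjSpace m k) [IsClosedImmersion i₂] (h₂ : i₂ ≫ CohB1.ProjSpace.toSpec m k = X₂ ↘ (Spec (CommRingCat.of k))) :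
    ∃ j : X₁ ⨿ X₂ ⟶ CohB1.ProjSpace (n + m + 1) k, IsClosedImmersion j ∧
      j ≫ CohB1.ProjSpace.toSpec (n + m + 1) k = coprod.desc (X₁ ↘ (Spec (CommRingCat.of k))) (X₂ ↘ (Spec (CommRingCat.of k))) := by

  obtain ⟨L, M, hL, hM, hd, hLs, hMs⟩ := Groth.Agent.Lib.ProjSub.DisjointUnion.exists_embedding k n m
  refine ⟨coprod.desc (i₁ ≫ L) (i₂ ≫ M), ?_, ?_⟩
  · refine Groth.Agent.Lib.ProjSub.DisjointUnion.isClosedImmersion_desc (i₁ ≫ L) (i₂ ≫ M) ?_
    rw [Set.disjoint_iff_forall_ne]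
    rintro _ ⟨x, rfl⟩ _ ⟨y, rfl⟩
    exact hd.ne_of_mem ⟨i₁ x, (Scheme.Hom.comp_apply i₁ L x).symm⟩ ⟨i₂ y, (Scheme.Hom.comp_apply i₂ M y).symm⟩
  · apply coprod.hom_ext
    · rw [coprod.inl_desc_assoc, Category.assoc, hLs, h₁, coprod.inl_desc]
    · rw [coprod.inr_desc_assoc, Category.assoc, hMs, h₂, coprod.inr_desc]

end Groth.Agent.S14066
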