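import Groth.Statements.S14068
import Groth.Agent.Lib.EtSlices.Scheme
import Groth.Agent.Lib.SchDom.FlatBC
-- import your own Groth.Agent.* helpers here

set_option autoImplicit false
universe u
open CategoryTheory AlgebraicGeometry
open FamCyc

namespace Groth.Agent.S14068

open scoped TensorProduct in
open Groth.Agent.Lib in
/-- Étale slices of a smooth algebra stay jointly injective after a flat base change of finite presentation. -/
theorem eq_zero_alg {R A T : Type u} [CommRing R] [CommRing A] [Algebra R A] [Algebra.Smooth R A]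
    [CommRing T] [Algebra A T] [Module.Flat A T] [Algebra.FinitePresentation A T] (t : T)
    (ht : ∀ (D : Type u) [CommRing D] [Algebra R D] [Algebra A D] [IsScalarTower R A D], Algebra.Etale R D →
      EtSlices.Alg.IsLocClosed (algebraMap A D) → (t ⊗ₜ[A] (1 : D)) = 0) : t = 0 := by
  classical
  let ι : Type u := {p : Σ J : A, Ideal (Localization.Away J) // Algebra.Etale R (Localization.Away p.1 ⧸ p.2)}
  let N : ι → Type u := fun i => Localization.Away i.1.1 ⧸ i.1.2
  let u : ∀ i : ι, A →ₗ[A] N i := fun i => Algebra.linearMap A (Localization.Away i.1.1 ⧸ i.1.2)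
  have hu : SchDom.InjLoc u := by
    intro g a hga
    let L := Localization.Away g
    have hLR : Algebra.Smooth A L := Algebra.Smooth.of_isLocalization_Away g
    have : Algebra.Smooth R L := Algebra.Smooth.comp R A L
    suffices h : algebraMap A L a = 0 by
      obtain ⟨⟨m, n, rfl⟩, hm⟩ := (IsLocalization.map_eq_zero_iff (Submonoid.powers g) L a).1 h
      exact ⟨n, hm⟩
    refine EtSlices.Alg.eq_zero (R := R) _ fun D _ _ π hD hπ => ?_
    let π' : A →ₐ[R] D := π.comp (IsScalarTower.toAlgHom R A L)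
    obtain ⟨J, hJ, hsurj⟩ : EtSlices.Alg.IsLocClosed π'.toRingHom :=
      EtSlices.Alg.isLocClosed_of_localization g π.toRingHom hπ
    let l : Localization.Away J →ₐ[R] D :=
      { IsLocalization.Away.lift J (g := π'.toRingHom) hJ with
        commutes' := fun r => by
          show IsLocalization.Away.lift J (g := π'.toRingHom) hJ (algebraMap R _ r) = _
          rw [IsScalarTower.algebraMap_apply R A (Localization.Away J), IsLocalization.Away.lift_eq]
          exact π'.commutes r }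
    have hl : ∀ x : A, l (algebraMap A (Localization.Away J) x) = π' x :=
      fun x => IsLocalization.Away.lift_eq J hJ x
    have hls : Function.Surjective l := fun d => by
      obtain ⟨n, c, hc⟩ := hsurj d
      refine ⟨algebraMap A _ c * IsLocalization.Away.invSelf J ^ n, ?_⟩
      have h1 : l (algebraMap A _ J) * l (IsLocalization.Away.invSelf J) = 1 := by
        rw [← map_mul, IsLocalization.Away.mul_invSelf, map_one]
      have h2 : π' J ^ n * d = π' c := hc
      rw [map_mul, map_pow, hl, ← h2, ← hl J, mul_comm _ d, mul_assoc, ← mul_pow, h1, one_pow, mul_one]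
    let e := Ideal.quotientKerAlgEquivOfSurjective hls
    obtain ⟨n, hn⟩ := hga ⟨⟨J, RingHom.ker l⟩, Algebra.Etale.of_equiv e.symm⟩
    have h0 : algebraMap A (Localization.Away J ⧸ RingHom.ker l) (g ^ n * a) = 0 := by
      rw [map_mul, ← Algebra.smul_def]
      exact hn
    have h1 : π' (g ^ n * a) = 0 := by
      rw [← hl]
      have h2 : e (algebraMap A (Localization.Away J ⧸ RingHom.ker l) (g ^ n * a)) =
          l (algebraMap A (Localization.Away J) (g ^ n * a)) := rfl
      rw [← h2, h0, map_zero]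
    rw [map_mul, map_pow] at h1
    exact (((IsLocalization.Away.algebraMap_isUnit g).map π).pow n).mul_right_eq_zero.1 h1
  obtain ⟨n, hn⟩ := SchDom.bcInj_of_flat_finitePresentation u hu T 1 (t ⊗ₜ[A] (1 : A)) fun i => by
    refine ⟨0, ?_⟩
    rw [pow_zero, one_smul, LinearMap.baseChange_tmul]
    show t ⊗ₜ[A] (algebraMap A (Localization.Away i.1.1 ⧸ i.1.2) 1) = 0
    rw [map_one]
    refine ht _ i.2 ⟨i.1.1, ?_, fun d => ?_⟩
    · exact (IsLocalization.Away.algebraMap_isUnit (S := Localization.Away i.1.1) i.1.1).map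
        (Ideal.Quotient.mk i.1.2)
    · obtain ⟨x, rfl⟩ := Ideal.Quotient.mk_surjective d
      obtain ⟨m, c, hc⟩ := IsLocalization.Away.surj i.1.1 x
      refine ⟨m, c, ?_⟩
      show Ideal.Quotient.mk i.1.2 (algebraMap A (Localization.Away i.1.1) i.1.1) ^ m * Ideal.Quotient.mk i.1.2 x =
        Ideal.Quotient.mk i.1.2 (algebraMap A (Localization.Away i.1.1) c)
      rw [← map_pow, ← map_mul, mul_comm, hc]
  rw [one_pow, one_smul] at hn
  have h2 := congrArg (TensorProduct.rid A T) hn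
  rwa [map_zero, TensorProduct.rid_tmul, one_smul] at h2

theorem app_eq_zero {Z P B : Scheme.{u}} (m : Z ⟶ P) (p : P ⟶ B) (a : Z ⟶ B) (e : m ≫ p = a) (V : B.Opens)
    (t : Γ(B, V)) (h : p.app V t = 0) : a.app V t = 0 := by
  subst e
  show (m.app (p ⁻¹ᵁ V)).hom ((p.app V).hom t) = 0
  have h' : (p.app V).hom t = 0 := h
  rw [h']
  exact map_zero _

open scoped TensorProduct in
open Groth.Agent.Lib in
theorem eq_zero_affine {S S' B' : Scheme.{u}} (g : S' ⟶ S) [Smooth g]
    (q : B' ⟶ S') [Flat q] [LocallyOfFinitePresentation q] (V : B'.Opens) (t : Γ(B', V))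
    (h : ∀ (Z : Scheme.{u}) (j : Z ⟶ S'), IsImmersion j → Etale (j ≫ g) →
      (Limits.pullback.snd j q).app V t = 0)
    (U : S.Opens) (W : S'.Opens) (W' : B'.Opens) (hU : IsAffineOpen U) (hW : IsAffineOpen W)
    (hW' : IsAffineOpen W') (hWU : W ≤ g ⁻¹ᵁ U) (hW'W : W' ≤ q ⁻¹ᵁ W) (hW'V : W' ≤ V) :
    B'.presheaf.map (homOfLE hW'V).op t = 0 := by
  have hsm : (g.appLE U W hWU).hom.Smooth := g.smooth_appLE hU hW hWU
  have hfl : (q.appLE W W' hW'W).hom.Flat := HasRingHomProperty.appLE @Flat q inferInstance ⟨W, hW⟩ ⟨W', hW'⟩ hW'W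
  have hfp : (q.appLE W W' hW'W).hom.FinitePresentation :=
    HasRingHomProperty.appLE @LocallyOfFinitePresentation q inferInstance ⟨W, hW⟩ ⟨W', hW'⟩ hW'W
  algebraize [(g.appLE U W hWU).hom, (q.appLE W W' hW'W).hom]
  refine eq_zero_alg (R := Γ(S, U)) (A := Γ(S', W)) _ fun D _ _ _ _ hD hπ => ?_
  let πc : Γ(S', W) ⟶ CommRingCat.of D := CommRingCat.ofHom (algebraMap Γ(S', W) D)
  have := EtSlices.Scheme.isImmersion_specMap πc hπ
  let j : Spec (CommRingCat.of D) ⟶ S' := Spec.map πc ≫ hW.fromSpec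
  have hj : j ≫ g = Spec.map (CommRingCat.ofHom (algebraMap Γ(S, U) D)) ≫ hU.fromSpec := by
    simp only [j, Category.assoc, ← hU.SpecMap_appLE_fromSpec g hW hWU, ← Spec.map_comp_assoc]
    congr 2
    exact CommRingCat.hom_ext (RingHom.ext fun r => (IsScalarTower.algebraMap_apply Γ(S, U) Γ(S', W) D r).symm)
  have : Etale (Spec.map (CommRingCat.ofHom (algebraMap Γ(S, U) D))) :=
    (HasRingHomProperty.Spec_iff (P := @Etale)).2 (RingHom.etale_algebraMap.2 hD)
  have het : Etale (j ≫ g) := by rw [hj]; infer_instance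
  let iL : Γ(B', W') ⟶ CommRingCat.of (Γ(B', W') ⊗[Γ(S', W)] D) :=
    CommRingCat.ofHom Algebra.TensorProduct.includeLeftRingHom
  let iR : CommRingCat.of D ⟶ CommRingCat.of (Γ(B', W') ⊗[Γ(S', W)] D) :=
    CommRingCat.ofHom Algebra.TensorProduct.includeRight.toRingHom
  have hsq : q.appLE W W' hW'W ≫ iL = πc ≫ iR := CommRingCat.hom_ext (RingHom.ext fun r => by
    show (q.appLE W W' hW'W).hom r ⊗ₜ[Γ(S', W)] (1 : D) = (1 : Γ(B', W')) ⊗ₜ[Γ(S', W)] algebraMap _ D r
    rw [Algebra.algebraMap_eq_smul_one (A := D), TensorProduct.tmul_smul, TensorProduct.smul_tmul',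
      ← Algebra.algebraMap_eq_smul_one]
    rfl)
  let a : Spec (CommRingCat.of (Γ(B', W') ⊗[Γ(S', W)] D)) ⟶ B' := Spec.map iL ≫ hW'.fromSpec
  let m := Limits.pullback.lift (f := j) (g := q) (Spec.map iR) a (by
    simp only [a, j, Category.assoc, ← hW.SpecMap_appLE_fromSpec q hW' hW'W, ← Spec.map_comp_assoc, hsq])
  have ha : m ≫ Limits.pullback.snd j q = a := Limits.pullback.lift_snd _ _ _
  have h0 : a.app V t = 0 := by
    exact app_eq_zero m _ a ha V t (h _ j inferInstance het)
  have haW : (⊤ : (Spec (CommRingCat.of (Γ(B', W') ⊗[Γ(S', W)] D))).Opens) ≤ a ⁻¹ᵁ W' :=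
    fun y _ => hW'.range_fromSpec.le ⟨_, rfl⟩
  have h1 : a.appLE W' ⊤ haW (B'.presheaf.map (homOfLE hW'V).op t) = 0 := by
    have e : B'.presheaf.map (homOfLE hW'V).op ≫ a.appLE W' ⊤ haW =
        a.app V ≫ (Spec _).presheaf.map (homOfLE (haW.trans (a.preimage_mono hW'V))).op := by
      rw [Scheme.Hom.map_appLE]; rfl
    refine (ConcreteCategory.congr_hom e t).trans ?_
    rw [CommRingCat.comp_apply, h0, map_zero]
  have h2 : a.appLE W' ⊤ haW = iL ≫ (Scheme.ΓSpecIso _).inv := by
    rw [← Scheme.Hom.appLE_comp_appLE (Spec.map iL) hW'.fromSpec W' ⊤ ⊤ hW'.fromSpec_preimage_self.ge le_top]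
    have e1 : hW'.fromSpec.appLE W' ⊤ hW'.fromSpec_preimage_self.ge = (Scheme.ΓSpecIso Γ(B', W')).inv := by
      simp only [Scheme.Hom.appLE, hW'.fromSpec_app_self, Category.assoc, ← Functor.map_comp]
      erw [CategoryTheory.Functor.map_id, Category.comp_id]
    rw [e1, Scheme.ΓSpecIso_inv_naturality]
    simp [Scheme.Hom.appLE]
    all_goals exact Category.comp_id _
  rw [h2] at h1
  exact (ConcreteCategory.bijective_of_isIso (Scheme.ΓSpecIso _).inv).1 (h1.trans (map_zero _).symm)

/-- Let g : S' ⟶ S be a smooth morphism and q : B' ⟶ S' a flat morphism locally of finite presentation.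
Then the family of base changes Z ×_{S'} B' ⟶ B' of all immersions j : Z ⟶ S' with Z étale over S is
schematically dominant: a section of the structure sheaf of B' over an open V whose pullback along
every member of the family is zero is itself zero. -/
theorem result {S S' B' : Scheme.{u}} (g : S' ⟶ S) [Smooth g]
    (q : B' ⟶ S') [Flat q] [LocallyOfFinitePresentation q] (V : B'.Opens) (t : Γ(B', V))
    (h : ∀ (Z : Scheme.{u}) (j : Z ⟶ S'), IsImmersion j → Etale (j ≫ g) →
      (Limits.pullback.snd j q).app V t = 0) : t = 0 := by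
  have hc : ∀ x : V, ∃ (U : S.Opens) (W : S'.Opens) (W' : B'.Opens), IsAffineOpen U ∧ IsAffineOpen W ∧
      IsAffineOpen W' ∧ x.1 ∈ W' ∧ W' ≤ V ∧ W ≤ g ⁻¹ᵁ U ∧ W' ≤ q ⁻¹ᵁ W := fun x => by
    obtain ⟨U, hU, hxU, -⟩ := exists_isAffineOpen_mem_and_subset (X := S) (x := g (q x.1)) (U := ⊤) trivial
    obtain ⟨W, hW, hxW, hWle⟩ :=
      exists_isAffineOpen_mem_and_subset (X := S') (x := q x.1) (U := g ⁻¹ᵁ U) hxU
    obtain ⟨W', hW', hxW', hW'le⟩ :=
      exists_isAffineOpen_mem_and_subset (X := B') (x := x.1) (U := V ⊓ q ⁻¹ᵁ W) ⟨x.2, hxW⟩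
    exact ⟨U, W, W', hU, hW, hW', hxW', fun y hy => (hW'le hy).1, hWle, fun y hy => (hW'le hy).2⟩
  choose U W W' hU hW hW' hxW' hW'V hWU hW'W using hc
  refine B'.sheaf.eq_of_locally_eq' W' V (fun x => homOfLE (hW'V x))
    (fun y hy => TopologicalSpace.Opens.mem_iSup.2 ⟨⟨y, hy⟩, hxW' ⟨y, hy⟩⟩) t 0 fun x => ?_
  rw [map_zero]
  exact eq_zero_affine g q V t h (U x) (W x) (W' x) (hU x) (hW x) (hW' x) (hWU x) (hW'W x) (hW'V x)

end Groth.Agent.S14068
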