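import Groth.Statements.S2043
import Groth.Agent.Lib.Henselian.PairUP
import Groth.Agent.Lib.Henselian.Smooth

set_option autoImplicit false
universe u
open CAlg

namespace Groth.Agent.S2043

/-- Let `I ⊆ A` be an ideal, `B` a smooth `A`-algebra and `B → A/I` an `A`-algebra map. Then there is an
étale `A`-algebra `A'` with `A/I → A'/IA'` bijective and an `A`-algebra map `B → A'` lifting the
given map. -/
theorem result {A B : Type u} [CommRing A] [CommRing B] [Algebra A B]
    [Algebra.Smooth A B] (I : Ideal A) (σ : B →ₐ[A] A ⧸ I) :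
    ∃ (A' : Type u) (_ : CommRing A') (_ : Algebra A A'), Algebra.Etale A A' ∧
      Function.Bijective (algebraMap (A ⧸ I) (A' ⧸ I.map (algebraMap A A'))) ∧
      ∃ τ : B →ₐ[A] A', ∀ b : B,
        Ideal.Quotient.mk (I.map (algebraMap A A')) (τ b) =
          algebraMap (A ⧸ I) (A' ⧸ I.map (algebraMap A A')) (σ b) := by
  have hB := Groth.Agent.Lib.Henselian.PairHenselization.isPairHenselization I
  let H := Groth.Agent.Lib.Henselian.PairHenselization.PairHenselization I
  haveI : HenselianRing H (I.map (algebraMap A H)) := hB.1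
  let J : Ideal H := I.map (algebraMap A H)
  let u : A ⧸ I →ₐ[A] H ⧸ J := Ideal.Quotient.liftₐ I (Algebra.ofId A (H ⧸ J)) fun a ha =>
    Ideal.Quotient.eq_zero_iff_mem.mpr (Ideal.mem_map_of_mem _ ha)
  obtain ⟨τ, hτ⟩ := Groth.Agent.Lib.Henselian.Smooth.exists_algHom_lift_smooth J (u.comp σ)
  obtain ⟨S, _, a1, a2, a3, hS, hn, φ, ψ, hψ⟩ :=
    Groth.Agent.Lib.Henselian.PairUP.exists_factor (A := A) hB (T := B) τ
  obtain rfl : a2 = a1 := Algebra.algebra_ext _ _ fun r => by
    exact (@IsScalarTower.algebraMap_apply A A S _ _ _ _ a1 a2 a3 r)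
  refine ⟨S, inferInstance, inferInstance, hS, ?_, ψ, fun b => ?_⟩
  · exact hn
  · obtain ⟨a, ha⟩ := Ideal.Quotient.mk_surjective (σ b)
    obtain ⟨a', ha'⟩ := Groth.Agent.Lib.Henselian.PairHenselization.exists_sub_mem_of_isNbhd hn (ψ b)
    rw [← ha]
    show Ideal.Quotient.mk _ (ψ b) = Ideal.Quotient.mk _ (algebraMap A S a)
    rw [Ideal.Quotient.eq.mpr ha', Ideal.Quotient.eq, ← map_sub]
    refine Ideal.mem_map_of_mem _ ?_
    have h1 : Ideal.Quotient.mk J (φ (ψ b)) = Ideal.Quotient.mk J (algebraMap A H a') := by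
      rw [Ideal.Quotient.eq, ← φ.commutes, ← map_sub]
      have := Ideal.mem_map_of_mem φ.toRingHom ha'
      rw [Ideal.map_map, AlgHom.toRingHom_eq_coe, AlgHom.comp_algebraMap] at this
      exact this
    have h2 : Ideal.Quotient.mk J (φ (ψ b)) = Ideal.Quotient.mk J (algebraMap A H a) := by
      rw [show φ (ψ b) = τ b from AlgHom.congr_fun hψ b]
      have := AlgHom.congr_fun hτ b
      rw [show (Ideal.Quotient.mkₐ A J).comp τ b = Ideal.Quotient.mk J (τ b) from rfl] at this
      rw [this]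
      show u (σ b) = _
      rw [← ha]
      rfl
    have h3 := (Groth.Agent.Lib.Henselian.PairUP.quotientMap_bijective hB).1
      (a₁ := Ideal.Quotient.mk I a') (a₂ := Ideal.Quotient.mk I a) (by
        rw [Ideal.quotientMap_mk, Ideal.quotientMap_mk]; exact h1.symm.trans h2)
    exact Ideal.Quotient.eq.mp h3

end Groth.Agent.S2043
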