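import Groth.Statements.S14069
import Groth.Agent.S2043
import Mathlib.AlgebraicGeometry.Morphisms.Smooth
import Mathlib.AlgebraicGeometry.Morphisms.Etale
import Mathlib.AlgebraicGeometry.Morphisms.ClosedImmersion
import Mathlib.RingTheory.TensorProduct.Maps

set_option autoImplicit false
universe u
open CategoryTheory AlgebraicGeometry
open FamCyc

namespace Groth.Agent.S14069

section Aux

open Limits TensorProduct

theorem exists_lift_smooth {S X₀ X Y : Scheme.{u}} (p : X ⟶ S) (q : Y ⟶ S) [Smooth q]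
    (j : X₀ ⟶ X) [IsClosedImmersion j] (f₀ : X₀ ⟶ Y) (hf₀ : f₀ ≫ q = j ≫ p) (x₀ : X₀) :
    ∃ (U : Scheme.{u}) (e : U ⟶ X) (f : U ⟶ Y) (P : Scheme.{u}) (w : P ⟶ U) (k : P ⟶ X₀),
      Etale e ∧ f ≫ q = e ≫ p ∧ IsPullback w k e j ∧ IsOpenImmersion k ∧ x₀ ∈ Set.range k ∧
        w ≫ f = k ≫ f₀ := by
  have hpq : q (f₀ x₀) = p (j x₀) := by
    rw [← Scheme.Hom.comp_apply, hf₀, Scheme.Hom.comp_apply]
  obtain ⟨S1, hS1, hsS1, -⟩ := exists_isAffineOpen_mem_and_subset (x := p (j x₀)) (U := ⊤) trivial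
  obtain ⟨Y1, hY1, hyY1, hYS⟩ := exists_isAffineOpen_mem_and_subset (x := f₀ x₀) (U := q ⁻¹ᵁ S1)
    (show q (f₀ x₀) ∈ S1 by rw [hpq]; exact hsS1)
  obtain ⟨O, hO, hOeq⟩ := j.isClosedEmbedding.isInducing.isOpen_iff.1 (f₀ ⁻¹ᵁ Y1).isOpen
  have hxO : j x₀ ∈ O := by
    have : x₀ ∈ j ⁻¹' O := by rw [hOeq]; exact hyY1
    exact this
  obtain ⟨X1, hX1, hxX1, hXsub⟩ := exists_isAffineOpen_mem_and_subset (x := j x₀)
    (U := p ⁻¹ᵁ S1 ⊓ ⟨O, hO⟩) ⟨hsS1, hxO⟩
  have hXS : X1 ≤ p ⁻¹ᵁ S1 := fun z hz => (hXsub hz).1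
  let R := Γ(S, S1)
  let A := Γ(X, X1)
  let C := Γ(Y, Y1)
  let φ : R ⟶ A := p.appLE S1 X1 hXS
  let ψ : R ⟶ C := q.appLE S1 Y1 hYS
  haveI : IsOpenImmersion hS1.fromSpec := hS1.isOpenImmersion_fromSpec
  haveI : IsOpenImmersion hX1.fromSpec := hX1.isOpenImmersion_fromSpec
  haveI : IsOpenImmersion hY1.fromSpec := hY1.isOpenImmersion_fromSpec
  have hφ : Spec.map φ ≫ hS1.fromSpec = hX1.fromSpec ≫ p :=
    IsAffineOpen.SpecMap_appLE_fromSpec p hS1 hX1 hXS
  have hψ : Spec.map ψ ≫ hS1.fromSpec = hY1.fromSpec ≫ q :=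
    IsAffineOpen.SpecMap_appLE_fromSpec q hS1 hY1 hYS
  letI algA : Algebra R A := φ.hom.toAlgebra
  letI algC : Algebra R C := ψ.hom.toAlgebra
  haveI : Algebra.Smooth R C := HasRingHomProperty.appLE @Smooth q inferInstance ⟨S1, hS1⟩ ⟨Y1, hY1⟩ hYS
  -- the closed part
  haveI : IsClosedImmersion (pullback.fst hX1.fromSpec j) := inferInstance
  obtain ⟨I, E, hE⟩ := IsClosedImmersion.Spec_iff.1 (inferInstance : IsClosedImmersion (pullback.fst hX1.fromSpec j))
  let mkI : A ⟶ CommRingCat.of (A ⧸ I) := CommRingCat.ofHom (Ideal.Quotient.mk I)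
  let k : Spec (CommRingCat.of (A ⧸ I)) ⟶ X₀ := E.inv ≫ pullback.snd hX1.fromSpec j
  haveI : IsOpenImmersion k := inferInstance
  have sqk : IsPullback (Spec.map mkI) k hX1.fromSpec j :=
    (IsPullback.of_hasPullback hX1.fromSpec j).of_iso E (Iso.refl _) (Iso.refl _) (Iso.refl _)
      (by simp only [Iso.refl_hom, Category.comp_id]; exact hE) (by simp [k]) (by simp) (by simp)
  have hxk : x₀ ∈ Set.range k := by
    obtain ⟨w, hw⟩ : j x₀ ∈ Set.range hX1.fromSpec := by rw [hX1.range_fromSpec]; exact hxX1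
    obtain ⟨z, -, hz⟩ := Scheme.Pullback.exists_preimage_pullback (f := hX1.fromSpec)
      (g := j) w x₀ hw
    refine ⟨E.hom z, ?_⟩
    rw [← Scheme.Hom.comp_apply]
    show (E.hom ≫ E.inv ≫ pullback.snd hX1.fromSpec j) z = x₀
    rw [Iso.hom_inv_id_assoc]; exact hz
  have hrange : Set.range (k ≫ f₀) ⊆ Set.range hY1.fromSpec := by
    rintro _ ⟨z, rfl⟩
    rw [hY1.range_fromSpec, Scheme.Hom.comp_apply]
    have h1 : j (k z) ∈ (X1 : Set X) := by
      rw [← hX1.range_fromSpec, ← Scheme.Hom.comp_apply, ← sqk.w, Scheme.Hom.comp_apply]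
      exact ⟨_, rfl⟩
    have h2 : k z ∈ j ⁻¹' O := (hXsub h1).2
    rw [hOeq] at h2
    exact h2
  let h := IsOpenImmersion.lift hY1.fromSpec (k ≫ f₀) hrange
  have hh : h ≫ hY1.fromSpec = k ≫ f₀ := IsOpenImmersion.lift_fac _ _ _
  let χ := Spec.preimage h
  have hχ : Spec.map χ = h := Spec.map_preimage _
  have hcomm : ψ ≫ χ = φ ≫ mkI := by
    apply Spec.map_injective
    rw [← cancel_mono hS1.fromSpec, Spec.map_comp, Spec.map_comp, Category.assoc, Category.assoc,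
      hψ, hφ, hχ, ← Category.assoc, hh, Category.assoc, hf₀, ← Category.assoc, ← sqk.w, Category.assoc]
  let χₐ : C →ₐ[R] A ⧸ I :=
    { χ.hom with commutes' := fun r => congrArg (fun m : R ⟶ CommRingCat.of (A ⧸ I) => m r) hcomm }
  let σ : A ⊗[R] C →ₐ[A] A ⧸ I :=
    Algebra.TensorProduct.lift (Ideal.Quotient.mkₐ A I) χₐ fun _ _ => Commute.all _ _
  obtain ⟨A', _, _, hA', hbij, τ, hτ⟩ := Groth.Agent.S2043.result (A := A) (B := A ⊗[R] C) I σ
  let I' := I.map (algebraMap A A')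
  let ρ₀ : (A ⧸ I) ≃+* (A' ⧸ I') := RingEquiv.ofBijective (algebraMap (A ⧸ I) (A' ⧸ I')) hbij
  let ρ : A' →+* A ⧸ I := ρ₀.symm.toRingHom.comp (Ideal.Quotient.mk I')
  have hρ : ρ.comp (algebraMap A A') = Ideal.Quotient.mk I := by
    refine RingHom.ext fun a => ?_
    show ρ₀.symm (Ideal.Quotient.mk I' (algebraMap A A' a)) = _
    rw [RingEquiv.symm_apply_eq]
    rfl
  let cA : A ⟶ CommRingCat.of A' := CommRingCat.ofHom (algebraMap A A')
  haveI : Etale (Spec.map cA) := by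
    rw [HasRingHomProperty.Spec_iff (P := @Etale)]
    exact RingHom.etale_algebraMap.2 hA'
  let τC : C ⟶ CommRingCat.of A' :=
    CommRingCat.ofHom (τ.toRingHom.comp (Algebra.TensorProduct.includeRight : C →ₐ[R] A ⊗[R] C).toRingHom)
  have hτC : ψ ≫ τC = φ ≫ cA := by
    refine CommRingCat.hom_ext (RingHom.ext fun r => ?_)
    show τ (1 ⊗ₜ algebraMap R C r) = algebraMap A A' (algebraMap R A r)
    rw [Algebra.algebraMap_eq_smul_one, ← TensorProduct.smul_tmul, ← Algebra.algebraMap_eq_smul_one]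
    exact τ.commutes (algebraMap R A r)
  let w : Spec (CommRingCat.of (A ⧸ I)) ⟶ Spec (CommRingCat.of A') := Spec.map (CommRingCat.ofHom ρ)
  have hpo : IsPushout mkI cA (𝟙 _) (CommRingCat.ofHom ρ) := by
    refine ⟨⟨?_⟩, ⟨PushoutCocone.IsColimit.mk _ (fun s => s.inl) (fun s => ?_) (fun s => ?_)
      (fun s m h1 h2 => ?_)⟩⟩
    · rw [Category.comp_id]
      exact CommRingCat.hom_ext hρ.symm
    · exact Category.id_comp _
    · refine CommRingCat.hom_ext (RingHom.ext fun a' => ?_)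
      have hcond : ∀ a : A, s.inl.hom (Ideal.Quotient.mk I a) = s.inr.hom (algebraMap A A' a) :=
        fun a => congrArg (fun m : A ⟶ s.pt => m a) s.condition
      obtain ⟨a, ha⟩ := Ideal.Quotient.mk_surjective (ρ a')
      have h1 : a' - algebraMap A A' a ∈ I' := by
        rw [← Ideal.Quotient.eq]
        have : ρ₀ (Ideal.Quotient.mk I a) = Ideal.Quotient.mk I' a' := by
          rw [ha]; exact ρ₀.apply_symm_apply _
        exact this.symm
      have h2 : I' ≤ RingHom.ker s.inr.hom := by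
        rw [Ideal.map_le_iff_le_comap]
        intro b hb
        rw [Ideal.mem_comap, RingHom.mem_ker, ← hcond, Ideal.Quotient.eq_zero_iff_mem.2 hb, map_zero]
      have h3 := h2 h1
      rw [RingHom.mem_ker, map_sub, sub_eq_zero] at h3
      show s.inl.hom (ρ a') = s.inr.hom a'
      rw [h3, ← ha, hcond]
    · rw [← h1]; exact (Category.id_comp m).symm
  have sq2 : IsPullback w (𝟙 _) (Spec.map cA) (Spec.map mkI) := by
    have := AlgebraicGeometry.isPullback_SpecMap_of_isPushout _ _ _ _ hpo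
    rw [Spec.map_id] at this
    exact this.flip
  refine ⟨_, Spec.map cA ≫ hX1.fromSpec, Spec.map τC ≫ hY1.fromSpec, _, w, k, inferInstance, ?_, ?_,
    inferInstance, hxk, ?_⟩
  · rw [Category.assoc, ← hψ, ← Category.assoc, ← Spec.map_comp, hτC, Spec.map_comp, Category.assoc,
      Category.assoc, hφ]
  · have h2 := sq2.paste_vert sqk
    rwa [Category.id_comp] at h2
  · rw [← Category.assoc, ← hh, ← hχ, ← Spec.map_comp]
    congr 2
    refine CommRingCat.hom_ext (RingHom.ext fun c => ?_)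
    show ρ₀.symm (Ideal.Quotient.mk I' (τ (1 ⊗ₜ c))) = χ.hom c
    rw [RingEquiv.symm_apply_eq, hτ]
    show algebraMap (A ⧸ I) (A' ⧸ I') (σ (1 ⊗ₜ c)) = algebraMap (A ⧸ I) (A' ⧸ I') (χ.hom c)
    rw [show σ (1 ⊗ₜ c) = Ideal.Quotient.mkₐ A I 1 * χₐ c from Algebra.TensorProduct.lift_tmul _ _ _ _ _,
      map_one, one_mul]
    rfl

end Aux

/-- Let i : S₀ ⟶ S be a closed immersion, p : X ⟶ S a scheme over S, q : Y ⟶ S a smooth morphism, X₀ = X
×_S S₀, x₀ a point of X₀ and f₀ : X₀ ⟶ Y a morphism over S. Then there are a scheme U, an étale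
morphism e : U ⟶ X whose base change U ×_X X₀ ⟶ X₀ is an open immersion whose image contains x₀, and
a morphism f : U ⟶ Y over S whose restriction to U ×_X X₀ equals the restriction of f₀. -/
theorem result {S S₀ X Y : Scheme.{u}} (i : S₀ ⟶ S) [IsClosedImmersion i]
    (p : X ⟶ S) (q : Y ⟶ S) [Smooth q] (f₀ : Limits.pullback p i ⟶ Y)
    (hf₀ : f₀ ≫ q = Limits.pullback.fst p i ≫ p) (x₀ : ↥(Limits.pullback p i)) :
    ∃ (U : Scheme.{u}) (e : U ⟶ X) (f : U ⟶ Y), Etale e ∧ f ≫ q = e ≫ p ∧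
      IsOpenImmersion (Limits.pullback.snd e (Limits.pullback.fst p i)) ∧
      x₀ ∈ Set.range (Limits.pullback.snd e (Limits.pullback.fst p i)).base ∧
      Limits.pullback.snd e (Limits.pullback.fst p i) ≫ f₀ =
        Limits.pullback.fst e (Limits.pullback.fst p i) ≫ f := by
  obtain ⟨U, e, f, P, w, k, he, hf, hsq, hk, hx, hres⟩ :=
    exists_lift_smooth p q (Limits.pullback.fst p i) f₀ hf₀ x₀
  have h1 : hsq.isoPullback.inv ≫ k = Limits.pullback.snd e (Limits.pullback.fst p i) :=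
    hsq.isoPullback_inv_snd
  have h2 : hsq.isoPullback.inv ≫ w = Limits.pullback.fst e (Limits.pullback.fst p i) :=
    hsq.isoPullback_inv_fst
  refine ⟨U, e, f, he, hf, ?_, ?_, ?_⟩
  · rw [← h1]; infer_instance
  · obtain ⟨z, hz⟩ := hx
    refine ⟨hsq.isoPullback.hom z, ?_⟩
    show Limits.pullback.snd e (Limits.pullback.fst p i) (hsq.isoPullback.hom z) = x₀
    rw [← Scheme.Hom.comp_apply, hsq.isoPullback_hom_snd, hz]
  · rw [← h1, ← h2, Category.assoc, Category.assoc, hres]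

end Groth.Agent.S14069
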