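import Groth.Statements.S14070
import Groth.Agent.H46.UnibranchCrit

set_option autoImplicit false
open CategoryTheory AlgebraicGeometry
universe u
open FamCyc

namespace Groth.Agent.S14070

/-- Let S be a scheme all of whose local rings are geometrically unibranch and which has only finitely
many irreducible components, and let f : X ⟶ S be a morphism locally of finite type such that every
point x of X lies on an irreducible component W of X (given its reduced subscheme structure) with W
⟶ S equidimensional at x. Then f is universally open. (No Noetherian hypothesis on S: finiteness of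
its set of irreducible components is what is used, and the statement fails without it.) -/
theorem result {X S : Scheme.{u}}
    (hS : ∀ s : S, CAlg2.IsGeomUnibranch (S.presheaf.stalk s))
    (hfin : (irreducibleComponents (S : Type u)).Finite)
    (f : X ⟶ S) [LocallyOfFiniteType f]
    (hT : ∀ x : X, ∃ W : TopologicalSpace.Closeds X, (W : Set X) ∈ irreducibleComponents (X : Type u) ∧
      ∃ w : ↥((Scheme.IdealSheafData.vanishingIdeal W).subscheme),
        (Scheme.IdealSheafData.vanishingIdeal W).subschemeι.base w = x ∧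
        EGA43.IsEquidimAt ((Scheme.IdealSheafData.vanishingIdeal W).subschemeι ≫ f) w) :
    UniversallyOpen f := by
  refine Groth.Agent.H46.UnivOpen.universallyOpen_of_forall f fun x => ?_
  obtain ⟨W, hW, w, hw, he⟩ := hT x
  let i := (Scheme.IdealSheafData.vanishingIdeal W).subschemeι
  obtain ⟨e, U, hwU, hdom, hdim⟩ := Groth.Agent.H46.Equidim.exists_of_isEquidimAt (i ≫ f) he
  obtain ⟨w₀, hw₀w, hw₀⟩ := Groth.Agent.Lib.Cyc.DimFun.exists_isMaxPt_specializes w
  have hU₀ := hw₀w.mem_open U.2 hwU
  have hξx : i w₀ ⤳ x := hw ▸ hw₀w.map i.continuous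
  have hfξ := (hdom w₀ hU₀ hw₀).1
  rw [Scheme.Hom.comp_apply] at hfξ
  have hr : Set.range i = (W : Set X) := by
    rw [Scheme.IdealSheafData.range_subschemeι, Scheme.IdealSheafData.coe_support_vanishingIdeal]
  refine Groth.Agent.H46.UnibranchSch.isUnivOpenAt_of_trd f hξx
    (Groth.Agent.H46.UnibranchCrit.nhd_of_finite_components hfin (hS _).1 hfξ
      (hξx.map f.continuous)) (hS _) fun ζ hζ hζx hfζ => ?_
  obtain ⟨v, rfl⟩ : ζ ∈ Set.range i := by
    rw [hr]; exact hζ.mem_closed W.2 (hr ▸ ⟨w₀, rfl⟩)
  rw [← Groth.Agent.H46.FibreTrdeg.trd_comp f i, ← Groth.Agent.H46.FibreTrdeg.trd_comp f i,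
    hdim w₀ hU₀ (Groth.Agent.H46.Equidim.isMaxFib_of_isMaxPt (i ≫ f) hw₀)]
  have hle := (Groth.Agent.H46.FibreTrdeg.fibreDimAt_le_iff (i ≫ f) w e).1
    (Groth.Agent.H46.Equidim.fibreDimAt_eq_of_data (i ≫ f) hdim hwU).le
  refine hle v ?_ (i.isEmbedding.isInducing.specializes_iff.1 (by rw [hw]; exact hζx))
  rw [Scheme.Hom.comp_apply, Scheme.Hom.comp_apply, hw, hfζ]

end Groth.Agent.S14070
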