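import Groth.Statements.S14073
import Mathlib.LinearAlgebra.Determinant
import Mathlib.LinearAlgebra.Charpoly.BaseChange
import Mathlib.LinearAlgebra.Charpoly.ToMatrix
import Mathlib.RingTheory.LocalRing.Module
import Mathlib.RingTheory.Ideal.AssociatedPrime.Localization
import Mathlib.Algebra.Module.LocalizedModule.Exact
import Mathlib.RingTheory.LocalProperties.Projective

set_option autoImplicit false
universe u
open FamCyc

namespace Groth.Agent.S14073

open Polynomial

theorem charpoly_eq_mul {R V : Type u} [CommRing R] [AddCommGroup V]
    [Module R V] [Module.Finite R V] [Module.Free R V]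
    (W : Submodule R V) [Module.Free R W] [Module.Finite R W] [Module.Free R (V ⧸ W)]
    (e : V →ₗ[R] V) (he : W ≤ W.comap e) :
    e.charpoly = (e.restrict he).charpoly * (W.mapQ W e he).charpoly := by
  classical
  let m := Module.Free.ChooseBasisIndex R W
  let bW : Module.Basis m R W := Module.Free.chooseBasis R W
  let n := Module.Free.ChooseBasisIndex R (V ⧸ W)
  let bQ : Module.Basis n R (V ⧸ W) := Module.Free.chooseBasis R (V ⧸ W)
  let b := Module.Basis.sumQuot bW bQ
  let X' : Matrix m m R := LinearMap.toMatrix bW bW (e.restrict he)
  let Y : Matrix m n R := Matrix.of fun i l ↦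
    ((Module.Basis.sumQuot bW bQ).repr (e ((Module.Basis.sumQuot bW bQ) (Sum.inr l)))) (Sum.inl i)
  let D : Matrix n n R := LinearMap.toMatrix bQ bQ (W.mapQ W e he)
  suffices LinearMap.toMatrix b b e = Matrix.fromBlocks X' Y 0 D by
    rw [← LinearMap.charpoly_toMatrix e b, this, Matrix.charpoly_fromBlocks_zero₂₁,
      LinearMap.charpoly_toMatrix, LinearMap.charpoly_toMatrix]
  ext u v
  cases u with
  | inl i =>
    cases v with
    | inl k =>
      simp only [b, Module.Basis.sumQuot_inl, Matrix.fromBlocks_apply₁₁, X', LinearMap.toMatrix_apply]
      apply Module.Basis.sumQuot_repr_inl_of_mem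
    | inr l => simp [b, LinearMap.toMatrix_apply, Matrix.fromBlocks_apply₁₂, Y]
  | inr j =>
    cases v with
    | inl k =>
      suffices W.mkQ (e (bW k)) = 0 by simp [LinearMap.toMatrix_apply, b, this]
      rw [← LinearMap.mem_ker, Submodule.ker_mkQ]
      exact he (Submodule.coe_mem (bW k))
    | inr l =>
      simp only [LinearMap.toMatrix_apply, Module.Basis.sumQuot_repr_inr,
        Matrix.fromBlocks_apply₂₂, b, D]
      rw [← Module.Basis.sumQuot_inr bW bQ l, W.mapQ_apply]
      simp

variable {A : Type u} [CommRing A]

theorem eq_zero_of_associated [IsNoetherianRing A] (x : A)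
    (h : ∀ (p : Ideal A) [p.IsPrime], p ∈ associatedPrimes A A → algebraMap A (Localization.AtPrime p) x = 0) : x = 0 := by
  by_contra hx
  obtain ⟨p, hp, hle⟩ := exists_le_isAssociatedPrime_of_isNoetherianRing A x hx
  have := IsAssociatedPrime.isPrime hp
  obtain ⟨s, hs⟩ := (IsLocalization.map_eq_zero_iff p.primeCompl _ _).1 (h p hp)
  exact s.2 (hle (by simp [Submodule.mem_colon_singleton, hs]))

theorem map_mk {S : Submonoid A} {X Y : Type u} [AddCommGroup X] [Module A X] [AddCommGroup Y] [Module A Y]
    (h : X →ₗ[A] Y) (x : X) (s : S) :
    LocalizedModule.map S h (LocalizedModule.mk x s) = LocalizedModule.mk (h x) s := by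
  simp [LocalizedModule.map, IsLocalizedModule.mapExtendScalars, IsLocalizedModule.map_LocalizedModules]

theorem finite_of_ffr : ∀ (n : ℕ) {M : Type u} [AddCommGroup M] [Module A M],
    FamCyc.HasFiniteFreeResolutionLE A n M → Module.Finite A M
  | 0, _, _, _, h => h.2
  | n + 1, _, _, _, ⟨_, f, hf, _⟩ => Module.Finite.of_surjective f hf

theorem free_at_associated [IsNoetherianRing A] : ∀ (n : ℕ) {M : Type u} [AddCommGroup M] [Module A M],
    FamCyc.HasFiniteFreeResolutionLE A n M → ∀ (p : Ideal A) [p.IsPrime], p ∈ associatedPrimes A A →
      Module.Free (Localization.AtPrime p) (LocalizedModule p.primeCompl M)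
  | 0, M, _, _, h, p, _, _ => by
    have := h.1; have := h.2
    exact Module.free_of_isLocalizedModule p.primeCompl (LocalizedModule.mkLinearMap p.primeCompl M)
  | n + 1, M, _, _, ⟨k, f, hf, hK⟩, p, _, hp => by
    classical
    let L := Localization.AtPrime p
    have := finite_of_ffr n hK
    have hKfree := free_at_associated n hK p hp
    let g := LocalizedModule.map p.primeCompl f
    let i := LocalizedModule.map p.primeCompl (LinearMap.ker f).subtype
    have hg : Function.Surjective g := LocalizedModule.map_surjective p.primeCompl f hf
    have hi : Function.Injective i := LocalizedModule.map_injective p.primeCompl _ (Submodule.injective_subtype _)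
    have hex : Function.Exact i g := LocalizedModule.map_exact p.primeCompl _ f (LinearMap.exact_subtype_ker_map f)
    have : Module.Finite L (LocalizedModule p.primeCompl (LinearMap.ker f)) :=
      Module.Finite.of_isLocalizedModule p.primeCompl (LocalizedModule.mkLinearMap _ _)
    have : Module.Finite L (LocalizedModule p.primeCompl (Fin k → A)) :=
      Module.Finite.of_isLocalizedModule p.primeCompl (LocalizedModule.mkLinearMap _ _)
    have : Module.Free L (LocalizedModule p.primeCompl (Fin k → A)) :=
      Module.free_of_isLocalizedModule p.primeCompl (LocalizedModule.mkLinearMap p.primeCompl _)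
    refine Module.free_of_lTensor_residueField_injective (R := L) (M := LocalizedModule p.primeCompl (LinearMap.ker f)) i g hg hex ?_
    have hm : IsLocalRing.maximalIdeal L ∈ associatedPrimes L L := by
      rw [← Module.associatedPrimes.preimage_comap_associatedPrimes_eq_associatedPrimes_of_isLocalizedModule
        p.primeCompl L (Algebra.linearMap A L), Set.mem_preimage]
      rw [show Ideal.comap (algebraMap A L) (IsLocalRing.maximalIdeal L) = p from
        IsLocalization.AtPrime.under_maximalIdeal L p]
      exact hp
    obtain ⟨-, a, ha⟩ := isAssociatedPrime_iff.1 hm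
    have ha' : ∀ c : L, c * a = 0 ↔ c ∈ IsLocalRing.maximalIdeal L := fun c => by
      rw [ha]; simp [Submodule.mem_colon_singleton]
    have ha0 : a ≠ 0 := fun h => (IsLocalRing.maximalIdeal.isMaximal L).ne_top
      (Ideal.eq_top_of_isUnit_mem _ ((ha' 1).1 (by rw [h, mul_zero])) isUnit_one)
    rw [injective_iff_map_eq_zero]
    intro z hz
    obtain ⟨x, rfl⟩ := TensorProduct.mk_surjective L _ (IsLocalRing.ResidueField L)
      Ideal.Quotient.mk_surjective z
    rw [TensorProduct.mk_apply, LinearMap.lTensor_tmul] at hz
    -- `i x ∈ 𝔪 F`
    have hsplit : ∀ (P : Type u) [AddCommGroup P] [Module L P] (y : P),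
        ((1 : L ⧸ IsLocalRing.maximalIdeal L) ⊗ₜ[L] y) = 0 ↔ y ∈ IsLocalRing.maximalIdeal L • (⊤ : Submodule L P) := by
      intro P _ _ y
      refine (LinearEquiv.map_eq_zero_iff (TensorProduct.quotTensorEquivQuotSMul (R := L) P (IsLocalRing.maximalIdeal L))).symm.trans ?_
      rw [TensorProduct.quotTensorEquivQuotSMul_mk_one_tmul (R := L) (M := P), Submodule.Quotient.mk_eq_zero]
    replace hz := (hsplit (LocalizedModule p.primeCompl (Fin k → A)) (i x)).1 hz
    refine (hsplit (LocalizedModule p.primeCompl (LinearMap.ker f)) x).2 ?_
    have h0 : a • x = 0 := hi (by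
      rw [map_smul, map_zero]
      refine Submodule.smul_induction_on hz (fun c hc y _ => ?_) (fun y y' h h' => by rw [smul_add, h, h', add_zero])
      rw [smul_smul, mul_comm, (ha' c).2 hc, zero_smul])
    let b := Module.Free.chooseBasis L (LocalizedModule p.primeCompl (LinearMap.ker f))
    rw [← b.sum_repr x]
    refine Submodule.sum_mem _ fun j _ => Submodule.smul_mem_smul ((ha' _).1 ?_) Submodule.mem_top
    have := congrArg (fun y => b.repr y j) h0
    simpa [mul_comm] using this

theorem charpoly_localized {M : Type u} [AddCommGroup M] [Module A M] [Module.Free A M] [Module.Finite A M]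
    (φ : M →ₗ[A] M) (p : Ideal A) [p.IsPrime]
    [Module.Free (Localization.AtPrime p) (LocalizedModule p.primeCompl M)]
    [Module.Finite (Localization.AtPrime p) (LocalizedModule p.primeCompl M)] :
    (LocalizedModule.map p.primeCompl φ).charpoly = φ.charpoly.map (algebraMap A (Localization.AtPrime p)) := by
  let L := Localization.AtPrime p
  let h := (isLocalizedModule_iff_isBaseChange p.primeCompl L (LocalizedModule.mkLinearMap p.primeCompl M)).1 inferInstance
  rw [← LinearMap.charpoly_baseChange φ, ← h.equiv.charpoly_conj (φ.baseChange L)]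
  congr 1
  refine h.algHom_ext _ _ fun m => ?_
  rw [LinearEquiv.conj_apply_apply, h.equiv_symm_apply, LinearMap.baseChange_tmul, h.equiv_tmul, one_smul]
  simp only [LocalizedModule.mkLinearMap_apply]
  exact map_mk φ m 1

theorem exists_poly [IsNoetherianRing A] : ∀ (n : ℕ) {M : Type u} [AddCommGroup M] [Module A M],
    FamCyc.HasFiniteFreeResolutionLE A n M → ∀ (φ : M →ₗ[A] M), ∃ Q : A[X], Q.Monic ∧
      ∀ (p : Ideal A) [p.IsPrime] [Module.Free (Localization.AtPrime p) (LocalizedModule p.primeCompl M)]
        [Module.Finite (Localization.AtPrime p) (LocalizedModule p.primeCompl M)],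
        Q.map (algebraMap A (Localization.AtPrime p)) = (LocalizedModule.map p.primeCompl φ).charpoly
  | 0, M, _, _, h, φ => by
    have := h.1; have := h.2
    exact ⟨φ.charpoly, LinearMap.charpoly_monic φ, fun p _ _ _ => (charpoly_localized φ p).symm⟩
  | n + 1, M, _, _, hM@⟨k, f, hf, hK⟩, φ => by
    classical
    obtain ⟨ψ, hψ⟩ := Module.projective_lifting_property f (φ.comp f) hf
    have hψx : ∀ x, f (ψ x) = φ (f x) := fun x => LinearMap.congr_fun hψ x
    have hker : LinearMap.ker f ≤ (LinearMap.ker f).comap ψ := fun x hx => by
      rw [Submodule.mem_comap, LinearMap.mem_ker, hψx, LinearMap.mem_ker.1 hx, map_zero]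
    obtain ⟨QK, hQK, hQK'⟩ := exists_poly n hK (ψ.restrict hker)
    have := finite_of_ffr n hK
    have : Module.Finite A M := Module.Finite.of_surjective f hf
    let Q := ψ.charpoly /ₘ QK
    have key : ∀ (p : Ideal A) [p.IsPrime] [Module.Free (Localization.AtPrime p) (LocalizedModule p.primeCompl M)]
        [Module.Finite (Localization.AtPrime p) (LocalizedModule p.primeCompl M)],
        ψ.charpoly.map (algebraMap A (Localization.AtPrime p)) =
          QK.map (algebraMap A _) * (LocalizedModule.map p.primeCompl φ).charpoly := by
      intro p _ _ _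
      let L := Localization.AtPrime p
      let g := LocalizedModule.map p.primeCompl f
      let i := LocalizedModule.map p.primeCompl (LinearMap.ker f).subtype
      let Φ := LocalizedModule.map p.primeCompl ψ
      have hg : Function.Surjective g := LocalizedModule.map_surjective p.primeCompl f hf
      have hi : Function.Injective i := LocalizedModule.map_injective p.primeCompl _ (Submodule.injective_subtype _)
      have hex : Function.Exact i g := LocalizedModule.map_exact p.primeCompl _ f (LinearMap.exact_subtype_ker_map f)
      have : Module.Finite L (LocalizedModule p.primeCompl (LinearMap.ker f)) :=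
        Module.Finite.of_isLocalizedModule p.primeCompl (LocalizedModule.mkLinearMap _ _)
      have : Module.Finite L (LocalizedModule p.primeCompl (Fin k → A)) :=
        Module.Finite.of_isLocalizedModule p.primeCompl (LocalizedModule.mkLinearMap _ _)
      have : Module.Free L (LocalizedModule p.primeCompl (Fin k → A)) :=
        Module.free_of_isLocalizedModule p.primeCompl (LocalizedModule.mkLinearMap p.primeCompl _)
      let W := LinearMap.ker g
      let eW : LocalizedModule p.primeCompl (LinearMap.ker f) ≃ₗ[L] W :=
        (LinearEquiv.ofInjective i hi).trans (LinearEquiv.ofEq _ _ hex.linearMap_ker_eq.symm)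
      let eQ : (LocalizedModule p.primeCompl (Fin k → A) ⧸ W) ≃ₗ[L] LocalizedModule p.primeCompl M :=
        g.quotKerEquivOfSurjective hg
      have : Module.Free L (_ ⧸ W) := Module.Free.of_equiv eQ.symm
      obtain ⟨s, hs⟩ := Module.projective_lifting_property g LinearMap.id hg
      have : Module.Projective L W := by
        refine Module.Projective.of_split W.subtype
          (LinearMap.codRestrict W (LinearMap.id - s.comp g) fun x => ?_) ?_
        · rw [LinearMap.mem_ker, LinearMap.sub_apply, map_sub, LinearMap.comp_apply, LinearMap.id_apply,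
            show g (s (g x)) = g x from LinearMap.congr_fun hs (g x), sub_self]
        · ext x
          simp [LinearMap.mem_ker.1 x.2]
      have : Module.Finite L W := Module.Finite.equiv eW
      have : Module.Free L W := Module.free_of_flat_of_isLocalRing (R := L) (P := W)
      have : Module.Free L (LocalizedModule p.primeCompl (LinearMap.ker f)) := Module.Free.of_equiv eW.symm
      have hgΦ : ∀ x, g (Φ x) = LocalizedModule.map p.primeCompl φ (g x) := fun x => by
        induction x using LocalizedModule.induction_on with
        | h m s => simp [g, Φ, map_mk, hψx]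
      have hW : W ≤ W.comap Φ := fun x hx => by
        rw [Submodule.mem_comap, LinearMap.mem_ker, hgΦ, LinearMap.mem_ker.1 hx, map_zero]
      rw [← charpoly_localized ψ p, charpoly_eq_mul W Φ hW, hQK' p]
      congr 1
      · refine Eq.trans ?_ (LinearEquiv.charpoly_conj (R := L) (M₂ := ↥W) eW _)
        congr 1
        refine LinearMap.ext fun y => ?_
        obtain ⟨x, rfl⟩ := eW.surjective y
        rw [LinearEquiv.conj_apply_apply, eW.symm_apply_apply]
        refine Subtype.ext ?_
        change Φ (i x) = i (LocalizedModule.map p.primeCompl (ψ.restrict hker) x)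
        induction x using LocalizedModule.induction_on with
        | h m s => simp [i, Φ, map_mk]
      · refine ((LinearEquiv.charpoly_conj (R := L) eQ _).symm.trans ?_)
        congr 1
        refine LinearMap.ext fun y => ?_
        obtain ⟨x, rfl⟩ := eQ.surjective y
        obtain ⟨x, rfl⟩ := W.mkQ_surjective x
        rw [LinearEquiv.conj_apply_apply, eQ.symm_apply_apply]
        exact hgΦ x
    have hrem : ψ.charpoly %ₘ QK = 0 := by
      ext j
      refine eq_zero_of_associated _ fun p _ hp => ?_
      have := free_at_associated (n + 1) hM p hp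
      have : Module.Finite (Localization.AtPrime p) (LocalizedModule p.primeCompl M) :=
        Module.Finite.of_isLocalizedModule p.primeCompl (LocalizedModule.mkLinearMap _ _)
      have h0 := map_modByMonic (algebraMap A (Localization.AtPrime p)) hQK (p := ψ.charpoly)
      rw [key p, (modByMonic_eq_zero_iff_dvd (hQK.map _)).2 (dvd_mul_right _ _)] at h0
      have := congrArg (fun q => q.coeff j) h0
      simpa using this
    have hmul : QK * Q = ψ.charpoly := by
      have := modByMonic_add_div ψ.charpoly QK
      rwa [hrem, zero_add] at this
    refine ⟨Q, Monic.of_mul_monic_left hQK (hmul ▸ LinearMap.charpoly_monic ψ), fun p _ _ _ => ?_⟩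
    apply (hQK.map (algebraMap A (Localization.AtPrime p))).isRegular.left
    change _ * _ = _ * _
    rw [← Polynomial.map_mul, hmul, key p]

/-- Let A be a Noetherian ring, M an A-module with a finite resolution by finite free modules, and φ an
endomorphism of M. Then there is a unique element of A (the determinant of φ) whose image in A_p is
the determinant of the localized endomorphism φ_p of the free A_p-module M_p, for every prime p of A
at which M_p is free. -/
theorem result (A : Type u) [CommRing A] [IsNoetherianRing A]
    (M : Type u) [AddCommGroup M] [Module A M] (n : ℕ) (hM : FamCyc.HasFiniteFreeResolutionLE A n M)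
    (φ : M →ₗ[A] M) :
    ∃! a : A, ∀ (p : Ideal A) [p.IsPrime],
      Module.Free (Localization.AtPrime p) (LocalizedModule p.primeCompl M) →
        algebraMap A (Localization.AtPrime p) a =
          LinearMap.det (LocalizedModule.map p.primeCompl φ) := by
  classical
  obtain ⟨Q, hQ, hQ'⟩ := exists_poly n hM φ
  have := finite_of_ffr n hM
  have hfin : ∀ (p : Ideal A) [p.IsPrime], Module.Finite (Localization.AtPrime p) (LocalizedModule p.primeCompl M) :=
    fun p _ => Module.Finite.of_isLocalizedModule p.primeCompl (LocalizedModule.mkLinearMap _ _)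
  refine ⟨(-1) ^ Q.natDegree * Q.coeff 0, fun p _ hfree => ?_, fun a ha => ?_⟩
  · have := hfin p
    rw [LinearMap.det_eq_sign_charpoly_coeff, ← hQ' p, ← LinearMap.charpoly_natDegree (LocalizedModule.map p.primeCompl φ),
      ← hQ' p, hQ.natDegree_map]
    simp
  · rw [← sub_eq_zero]
    refine eq_zero_of_associated _ fun p _ hp => ?_
    have := hfin p
    have hfree := free_at_associated n hM p hp
    rw [map_sub, ha p hfree, LinearMap.det_eq_sign_charpoly_coeff, ← hQ' p,
      ← LinearMap.charpoly_natDegree (LocalizedModule.map p.primeCompl φ), ← hQ' p, hQ.natDegree_map]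
    simp

end Groth.Agent.S14073
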