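import Groth.Statements.S14074
import Groth.Agent.H41.TorSmoothOver
import Groth.Agent.H56.RelPC.RelTor
-- import your own Groth.Agent.* helpers here

set_option autoImplicit false
set_option linter.style.haveILetI false
open CategoryTheory AlgebraicGeometry
universe u
attribute [local instance] HasDerivedCategory.standard
open FamCyc

namespace Groth.Agent.S14074

open CategoryTheory.Limits Groth.Agent.Lib.BettiExact

/-- A smooth morphism has a relative dimension near each point. -/
theorem exists_relDim {B S : Scheme.{u}} (h : B ⟶ S) [Smooth h] (y : B) :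
    ∃ (n : ℕ) (V : B.Opens), y ∈ V ∧ SmoothOfRelativeDimension n (V.ι ≫ h) := by
  obtain ⟨U, hU, V, hV, hyV, e, hsm⟩ := Smooth.exists_isStandardSmooth h y
  letI : Algebra Γ(S, U) Γ(B, V) := (h.appLE U V e).hom.toAlgebra
  obtain ⟨ι, σ, _, _, ⟨P⟩⟩ := (show Algebra.IsStandardSmooth Γ(S, U) Γ(B, V) from hsm).out
  have hn : RingHom.IsStandardSmoothOfRelativeDimension P.dimension (h.appLE U V e).hom :=
    ⟨⟨ι, σ, ‹_›, ‹_›, P, rfl⟩⟩
  set n := P.dimension
  haveI : SmoothOfRelativeDimension n (Spec.map (h.appLE U V e)) := by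
    rw [HasRingHomProperty.Spec_iff (P := @SmoothOfRelativeDimension n)]
    exact RingHom.locally_of RingHom.isStandardSmoothOfRelativeDimension_respectsIso _ hn
  refine ⟨n, V, hyV, ?_⟩
  rw [show V.ι ≫ h = hV.isoSpec.hom ≫ Spec.map (h.appLE U V e) ≫ hU.fromSpec by
    rw [hU.SpecMap_appLE_fromSpec h hV e, hV.isoSpec_hom_fromSpec_assoc]]
  have := smoothOfRelativeDimension_comp 0 (n + 0) hV.isoSpec.hom
    (Spec.map (h.appLE U V e) ≫ hU.fromSpec)
  simpa using this

/-- Let h : B ⟶ S be a smooth morphism, φ : X ⟶ B a morphism locally of finite type and F a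
quasi-coherent O_X-module of pointwise finite tor dimension over S, i.e. at every point x of X the
stalk F_x is, over the local ring of S below x, isomorphic in the derived category to a bounded
complex of flat modules. Then F has finite tor dimension over B pointwise in the same sense. -/
theorem result {X B S : Scheme.{u}} (h : B ⟶ S) [Smooth h]
    (φ : X ⟶ B) [LocallyOfFiniteType φ] (F : X.Modules) (hF : Coh.IsQCoh F)
    (hS : ∀ x : X, ∃ a b : ℤ,
      DerSch.HasTorAmplitudeAt (φ ≫ h) a b ((HomologicalComplex.single X.Modules (ComplexShape.up ℤ) 0).obj F) x) :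
    ∀ x : X, ∃ a b : ℤ,
      DerSch.HasTorAmplitudeAt φ a b ((HomologicalComplex.single X.Modules (ComplexShape.up ℤ) 0).obj F) x := by
  intro x
  obtain ⟨n, V, hxV, hn⟩ := exists_relDim h (φ x)
  obtain ⟨a, b, hab⟩ := hS x
  let U : X.Opens := φ ⁻¹ᵁ V
  let z : U.toScheme := ⟨x, hxV⟩
  let G := (HomologicalComplex.single X.Modules (ComplexShape.up ℤ) 0).obj F
  have h1 : DerSch.HasTorAmplitudeAt (U.ι ≫ φ ≫ h) a b ((DCoh.restrictCx U).obj G) z :=
    TorRestrict.torAmpAt_restrict (φ ≫ h) (U.ι ≫ φ ≫ h) U.ι (𝟙 S) (by simp) G z hab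
  haveI : Smooth (V.ι ≫ h) := inferInstance
  rw [← morphismRestrict_ι_assoc φ V h] at h1
  have hd : ∀ y : V.toScheme, ∃ (k : ℕ) (W : V.toScheme.Opens), k ≤ n ∧ y ∈ W ∧
      SmoothOfRelativeDimension k (W.ι ≫ V.ι ≫ h) := fun y => by
    refine ⟨n, ⊤, le_rfl, trivial, ?_⟩
    have := smoothOfRelativeDimension_comp 0 n (⊤ : V.toScheme.Opens).ι (V.ι ≫ h)
    simpa using this
  have h2 := H41.TorSmoothOver.torAmpAt_over_smooth (φ ∣_ V) (V.ι ≫ h) n hd _ z h1
  have h3 := TorComp.hasTorAmplitudeAt_comp (φ ∣_ V) V.ι 0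
    (H41.TorDimSmooth.hasTorDimLE_of_flat V.ι) _ _ _ z h2
  rw [morphismRestrict_ι] at h3
  exact ⟨_, _, H56.RelPC.RelTor.torAmpAt_of_restrict φ U G z h3⟩

end Groth.Agent.S14074
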