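import Groth.Statements.S14078
import Groth.Agent.Lib.QFNhd44.Algebra
import Mathlib.AlgebraicGeometry.ZariskisMainTheorem

set_option autoImplicit false
open CategoryTheory CategoryTheory.Limits AlgebraicGeometry
universe u
open FamCyc

namespace Groth.Agent.S14078

open CategoryTheory.Limits TensorProduct

/-- Let f : X ⟶ S be a morphism of schemes locally of finite type, i : Z ⟶ X an immersion such that Z ⟶
S is locally quasi-finite, and z a point of Z. Then there are an étale morphism g : T ⟶ S and an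
open subscheme U of X ×_S T such that the preimage U ×_X Z of Z in U is finite over T and contains a
point u over z whose residue field extension κ(z) → κ(u) is an isomorphism, u being moreover the
only point of U ×_X Z in its fibre over T. (The published statement covers algebraic spaces X, with
U ⟶ X ×_S T étale in general and an open subspace when X is a scheme; this row is the scheme case.) -/
theorem result {Z X S : Scheme.{u}} (f : X ⟶ S)
    [LocallyOfFiniteType f] (i : Z ⟶ X) [IsImmersion i] [LocallyQuasiFinite (i ≫ f)] (z : Z) :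
    ∃ (T : Scheme.{u}) (g : T ⟶ S) (U : (pullback f g).Opens)
      (u : ↥(pullback (U.ι ≫ pullback.fst f g) i)),
      Etale g ∧
      IsFinite (pullback.fst (U.ι ≫ pullback.fst f g) i ≫ U.ι ≫ pullback.snd f g) ∧
      (pullback.snd (U.ι ≫ pullback.fst f g) i).base u = z ∧
      IsIso ((pullback.snd (U.ι ≫ pullback.fst f g) i).residueFieldMap u) ∧
      ∀ u' : ↥(pullback (U.ι ≫ pullback.fst f g) i),
        (pullback.fst (U.ι ≫ pullback.fst f g) i ≫ U.ι ≫ pullback.snd f g).base u' =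
          (pullback.fst (U.ι ≫ pullback.fst f g) i ≫ U.ι ≫ pullback.snd f g).base u → u' = u := by
  let h : Z ⟶ S := i ≫ f
  have : LocallyOfFiniteType h := inferInstance
  obtain ⟨_, ⟨A₀, hA, rfl⟩, hzA, -⟩ := S.isBasis_affineOpens.exists_subset_of_mem_open
    (Set.mem_univ (h z)) isOpen_univ
  obtain ⟨_, ⟨V, hV, rfl⟩, hzV, hle : V ≤ h ⁻¹ᵁ A₀⟩ :=
    Z.isBasis_affineOpens.exists_subset_of_mem_open hzA (h ⁻¹ᵁ A₀).2
  have hA : IsAffineOpen A₀ := hA
  have hV : IsAffineOpen V := hV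
  have : (h.appLE A₀ V hle).hom.FiniteType := h.finiteType_appLE hA hV hle
  algebraize [(h.appLE A₀ V hle).hom]
  let q := hV.primeIdealOf ⟨z, hzV⟩
  have : Algebra.QuasiFiniteAt Γ(S, A₀) q.asIdeal :=
    (h.quasiFiniteAt z).quasiFiniteAt hV hA hle hzV
  obtain ⟨R, _, _, _, e, Q, hfin, hQq, hres, huniq⟩ :=
    Groth.Agent.Lib.QFNhd44.Algebra.exists_nhd (R := Γ(S, A₀)) q
  let φ : Γ(S, A₀) ⟶ CommRingCat.of R := CommRingCat.ofHom (algebraMap Γ(S, A₀) R)
  have hφ : φ.hom.Etale := RingHom.etale_algebraMap.mpr ‹_›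
  have : Etale (Spec.map φ) := HasRingHomProperty.Spec_iff.mpr hφ
  let g : Spec (CommRingCat.of R) ⟶ S := Spec.map φ ≫ hA.fromSpec
  let C := Localization.Away e
  let χ : Γ(Z, V) ⟶ CommRingCat.of C := CommRingCat.ofHom ((algebraMap (R ⊗[Γ(S, A₀)] Γ(Z, V)) C).comp
    (Algebra.TensorProduct.includeRight : Γ(Z, V) →ₐ[Γ(S, A₀)] R ⊗[Γ(S, A₀)] Γ(Z, V)).toRingHom)
  let ρ : CommRingCat.of R ⟶ CommRingCat.of C := CommRingCat.ofHom (algebraMap R C)
  -- the chart of the pullback of `Z`
  let e₁ : Spec (.of (R ⊗[Γ(S, A₀)] Γ(Z, V))) ≅ pullback (Spec.map (h.appLE A₀ V hle)) (Spec.map φ) :=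
    (pullbackSpecIso _ _ _).symm ≪≫ pullbackSymmetry _ _
  have he₁f : e₁.hom ≫ pullback.fst _ _ =
      Spec.map (CommRingCat.ofHom Algebra.TensorProduct.includeRight.toRingHom) := by
    dsimp [e₁, RingHom.algebraMap_toAlgebra]
    rw [Category.assoc, pullbackSymmetry_hom_comp_fst]
    exact pullbackSpecIso_inv_snd ..
  have he₁s : e₁.hom ≫ pullback.snd _ _ =
      Spec.map (CommRingCat.ofHom (algebraMap R (R ⊗[Γ(S, A₀)] Γ(Z, V)))) := by
    dsimp [e₁, RingHom.algebraMap_toAlgebra]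
    rw [Category.assoc, pullbackSymmetry_hom_comp_snd]
    exact pullbackSpecIso_inv_fst' ..
  let k : Spec (.of (R ⊗[Γ(S, A₀)] Γ(Z, V))) ⟶ pullback h g :=
    e₁.hom ≫ pullback.map _ _ _ _ hV.fromSpec (𝟙 _) hA.fromSpec
      (IsAffineOpen.SpecMap_appLE_fromSpec ..) (by simp [g])
  let θ : pullback h g ≅ pullback (pullback.fst f g) i :=
    (pullbackRightPullbackFstIso f g i).symm ≪≫ pullbackSymmetry _ _
  have hθ₁ : θ.hom ≫ pullback.snd _ _ = pullback.fst h g := by
    simp only [θ, Iso.trans_hom, Iso.symm_hom, Category.assoc, pullbackSymmetry_hom_comp_snd]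
    exact pullbackRightPullbackFstIso_inv_fst f g i
  have hθ₂ : θ.hom ≫ pullback.fst _ _ ≫ pullback.snd f g = pullback.snd h g := by
    simp only [θ, Iso.trans_hom, Iso.symm_hom, Category.assoc, pullbackSymmetry_hom_comp_fst_assoc]
    exact pullbackRightPullbackFstIso_inv_snd_snd f g i
  let m : Spec (.of C) ⟶ pullback (pullback.fst f g) i :=
    Spec.map (CommRingCat.ofHom (algebraMap (R ⊗[Γ(S, A₀)] Γ(Z, V)) C)) ≫ k ≫ θ.hom
  have hm₁ : m ≫ pullback.snd _ _ = Spec.map χ ≫ hV.fromSpec := by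
    simp only [m, k, Category.assoc, hθ₁, pullback.lift_fst, pullback.lift_snd, reassoc_of% he₁f]
    rw [← Spec.map_comp_assoc]
    rfl
  have hm₂ : m ≫ pullback.fst _ _ ≫ pullback.snd f g = Spec.map ρ := by
    simp only [m, k, Category.assoc, hθ₂, pullback.lift_fst, pullback.lift_snd, Category.comp_id]
    rw [he₁s, ← Spec.map_comp, ← CommRingCat.ofHom_comp, ← IsScalarTower.algebraMap_eq]
  have : IsOpenImmersion (Spec.map (CommRingCat.ofHom (algebraMap (R ⊗[Γ(S, A₀)] Γ(Z, V)) C))) :=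
    IsOpenImmersion.of_isLocalization e
  have : IsOpenImmersion m := inferInstance
  -- the open subscheme of the product
  obtain ⟨U₀, hU₀, hUm⟩ := (pullback.fst (pullback.fst f g) i).isEmbedding.isInducing.isOpen_iff.mp
    m.isOpenEmbedding.isOpen_range
  let U : (pullback f g).Opens := ⟨U₀, hU₀⟩
  let r : pullback (U.ι ≫ pullback.fst f g) i ⟶ pullback (pullback.fst f g) i :=
    pullback.map _ _ _ _ U.ι (𝟙 _) (𝟙 _) (by simp) (by simp)
  have hr : Set.range r = Set.range m := by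
    rw [Scheme.Pullback.range_map]
    simp only [Scheme.Opens.range_ι, Scheme.Hom.id_base, TopCat.coe_id, Set.range_id, Set.preimage_univ,
      Set.inter_univ]
    exact hUm
  let Φ : Spec (.of C) ≅ pullback (U.ι ≫ pullback.fst f g) i := IsOpenImmersion.isoOfRangeEq m r hr.symm
  have hΦ : Φ.hom ≫ r = m := IsOpenImmersion.isoOfRangeEq_hom_fac _ _ _
  have hr₁ : r ≫ pullback.snd _ _ = pullback.snd (U.ι ≫ pullback.fst f g) i :=
    (pullback.lift_snd _ _ _).trans (Category.comp_id _)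
  have hr₂ : r ≫ pullback.fst _ _ = pullback.fst (U.ι ≫ pullback.fst f g) i ≫ U.ι :=
    pullback.lift_fst _ _ _
  let p := pullback.fst (U.ι ≫ pullback.fst f g) i ≫ U.ι ≫ pullback.snd f g
  have hp : Φ.hom ≫ p = Spec.map ρ := by
    rw [← hm₂, ← hΦ, Category.assoc, reassoc_of% hr₂]
  have hs : Φ.hom ≫ pullback.snd (U.ι ≫ pullback.fst f g) i = Spec.map χ ≫ hV.fromSpec := by
    rw [← hm₁, ← hΦ, Category.assoc, hr₁]
  let Qs : ↥(Spec (CommRingCat.of C)) := Q
  refine ⟨_, g, U, Φ.hom Qs, inferInstance, ?_, ?_, ?_, ?_⟩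
  · have : IsFinite (Spec.map ρ) := by
      rw [IsFinite.SpecMap_iff]
      exact RingHom.finite_algebraMap.mpr hfin
    change IsFinite p
    rw [show p = Φ.inv ≫ Spec.map ρ from (Iso.eq_inv_comp Φ).2 hp]
    infer_instance
  · rw [← Scheme.Hom.comp_apply, hs, Scheme.Hom.comp_apply,
      show Spec.map χ Qs = q from hQq]
    exact hV.fromSpec_primeIdealOf ⟨z, hzV⟩
  · have h1 : IsIso ((Spec.map χ ≫ hV.fromSpec).residueFieldMap Qs) := by
      rw [Scheme.residueFieldMap_comp]
      have h0 : ∀ x, IsIso (hV.fromSpec.residueFieldMap x) := fun x => inferInstance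
      exact IsIso.comp_isIso' (h0 _) hres
    have h2 : IsIso ((Φ.hom ≫ pullback.snd (U.ι ≫ pullback.fst f g) i).residueFieldMap Qs) := by
      rw [Scheme.Hom.residueFieldMap_congr hs]
      exact IsIso.comp_isIso' inferInstance h1
    rw [Scheme.residueFieldMap_comp] at h2
    exact IsIso.of_isIso_fac_right (h := (pullback.snd (U.ι ≫ pullback.fst f g) i).residueFieldMap (Φ.hom Qs) ≫
      Φ.hom.residueFieldMap Qs) (hh := h2) rfl
  · intro u' hu'
    obtain ⟨Q', rfl⟩ := Φ.hom.homeomorph.surjective u'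
    show Φ.hom Q' = Φ.hom Qs
    refine congrArg (⇑Φ.hom) (huniq Q' ?_)
    change Spec.map ρ Q' = Spec.map ρ Qs
    rw [← hp, Scheme.Hom.comp_apply, Scheme.Hom.comp_apply]
    exact hu'

end Groth.Agent.S14078
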