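import Groth.Statements.S14079
import Groth.Agent.H46.Equidim

set_option autoImplicit false
open CategoryTheory AlgebraicGeometry
universe u
open FamCyc

namespace Groth.Agent.S14079

/-- (iv) ⇒ (iii): let f : X ⟶ S be locally of finite type. Suppose that every point x of X which is a
maximal point of its fibre (no other point of the fibre over f x specializes to x) lies on an
irreducible component W of X, given its reduced subscheme structure, with W ⟶ S equidimensional at
x. Then every point of X lies on such an irreducible component. -/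
theorem result {X S : Scheme.{u}} (f : X ⟶ S) [LocallyOfFiniteType f]
    (h : ∀ x : X, (∀ x' : X, f.base x' = f.base x → x ∈ closure ({x'} : Set X) → x' = x) →
      ∃ W : TopologicalSpace.Closeds X, (W : Set X) ∈ irreducibleComponents (X : Type u) ∧
      ∃ w : ↥((Scheme.IdealSheafData.vanishingIdeal W).subscheme),
        (Scheme.IdealSheafData.vanishingIdeal W).subschemeι.base w = x ∧
        EGA43.IsEquidimAt ((Scheme.IdealSheafData.vanishingIdeal W).subschemeι ≫ f) w)
    (x : X) :
    ∃ W : TopologicalSpace.Closeds X, (W : Set X) ∈ irreducibleComponents (X : Type u) ∧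
      ∃ w : ↥((Scheme.IdealSheafData.vanishingIdeal W).subscheme),
        (Scheme.IdealSheafData.vanishingIdeal W).subschemeι.base w = x ∧
        EGA43.IsEquidimAt ((Scheme.IdealSheafData.vanishingIdeal W).subschemeι ≫ f) w := by
  open Groth.Agent.H46.Equidim Groth.Agent.H46.FibreTrdeg Groth.Agent.Lib.Cyc in
  obtain ⟨ζ, hζ, hζx, hmax, he⟩ := exists_isMaxFib_trd_eq f x
  open Groth.Agent.H46.Equidim Groth.Agent.H46.FibreTrdeg Groth.Agent.Lib.Cyc in
  obtain ⟨W, hW, w, rfl, hequi⟩ := h ζ fun x' hx' hs => hmax x' hx' (specializes_iff_mem_closure.2 hs)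
  open Groth.Agent.H46.Equidim Groth.Agent.H46.FibreTrdeg Groth.Agent.Lib.Cyc in
  obtain ⟨ξ, hξ, hcl⟩ := exists_generic_of_mem_irreducibleComponents hW
  set i := (Scheme.IdealSheafData.vanishingIdeal W).subschemeι with hi
  have hr : Set.range i = closure {ξ} := by
    rw [hcl, Scheme.IdealSheafData.range_subschemeι, Scheme.IdealSheafData.coe_support_vanishingIdeal]
  obtain ⟨w₀, hw₀⟩ : ξ ∈ Set.range i := hr ▸ subset_closure rfl
  have hgen : ∀ v, w₀ ⤳ v := fun v => by
    rw [← i.isEmbedding.isInducing.specializes_iff, hw₀, specializes_iff_mem_closure, ← hr]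
    exact ⟨v, rfl⟩
  obtain ⟨e, U, hwU, hdom, hdim⟩ := Groth.Agent.H46.Equidim.exists_of_isEquidimAt (i ≫ f) hequi
  have hw₀max : Groth.Agent.Lib.Cyc.DimFun.IsMaxPt w₀ := fun v hv => (hv.antisymm (hgen v)).eq
  have hw₀U := (hgen w).mem_open U.2 hwU
  refine Groth.Agent.H46.Equidim.exists_component_isEquidimAt f x ξ hξ
    ((hw₀ ▸ (hgen w).map i.continuous).trans hζx) ?_ ?_
  · rw [← hw₀]
    exact (hdom w₀ hw₀U hw₀max).1
  · rw [he, ← hw₀, ← Groth.Agent.H46.FibreTrdeg.trd_comp f i w₀,
      hdim w₀ hw₀U (Groth.Agent.H46.Equidim.isMaxFib_of_isMaxPt (i ≫ f) hw₀max),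
      ← hdim w hwU ((Groth.Agent.H46.FibreTrdeg.isMaxFib_comp_iff f i w).2
        fun a _ ha hs => hmax a ha hs), Groth.Agent.H46.FibreTrdeg.trd_comp]

end Groth.Agent.S14079
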