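import Groth.Statements.S14082
import Groth.Agent.Lib.ArSing99.Invol
-- import your own Groth.Agent.* helpers here

set_option autoImplicit false
universe u
open ArSing

namespace Groth.Agent.S14082

/-- Over an algebraically closed field k of characteristic prime to 2 and to r+1, with r odd and r ≥ 3,
every non-trivial k-algebra involution σ of A_r = k[[x,y]]/(y^2 - x^(r+1)) is conjugate, by a
k-algebra automorphism φ of A_r, to one of the three involutions (x, y) ↦ (x, -y), (x, y) ↦ (-x, y),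
(x, y) ↦ (-x, -y). -/
theorem result (k : Type u) [Field k] [IsAlgClosed k] (r : ℕ)
    (h2 : (2 : k) ≠ 0) (hr : ((r + 1 : ℕ) : k) ≠ 0) (hodd : Odd r) (h3 : 3 ≤ r)
    (σ : ArSing.ring k r ≃ₐ[k] ArSing.ring k r) (hσ : ∀ a, σ (σ a) = a) (hne : σ ≠ AlgEquiv.refl) :
    ∃ φ : ArSing.ring k r ≃ₐ[k] ArSing.ring k r,
      (φ.symm (σ (φ (ArSing.x k r))) = ArSing.x k r ∧ φ.symm (σ (φ (ArSing.y k r))) = -ArSing.y k r) ∨
      (φ.symm (σ (φ (ArSing.x k r))) = -ArSing.x k r ∧ φ.symm (σ (φ (ArSing.y k r))) = ArSing.y k r) ∨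
      (φ.symm (σ (φ (ArSing.x k r))) = -ArSing.x k r ∧ φ.symm (σ (φ (ArSing.y k r))) = -ArSing.y k r) := by
  haveI : NeZero (2 : k) := ⟨h2⟩
  open Groth.Agent.Lib.ArSing99 in
  obtain ⟨φ, a, e, ha, he, hae, -, hx, hy⟩ := conj_normal (by omega) hr σ hσ hne
  refine ⟨φ, ?_⟩
  rcases ha with rfl | rfl <;> rcases he with rfl | rfl
  · exact absurd ⟨rfl, rfl⟩ hae
  · exact Or.inl ⟨by rw [hx, map_one, one_mul], by rw [hy, map_neg, map_one]; ring⟩
  · exact Or.inr (Or.inl ⟨by rw [hx, map_neg, map_one]; ring, by rw [hy, map_one, one_mul]⟩)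
  · exact Or.inr (Or.inr ⟨by rw [hx, map_neg, map_one]; ring, by rw [hy, map_neg, map_one]; ring⟩)

end Groth.Agent.S14082
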