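import Groth.Statements.S14084
import Groth.Agent.Lib.NodeDeform45.Iso

set_option autoImplicit false
universe u
open ArSing

namespace Groth.Agent.S14084

/-- Let k be an algebraically closed field with 2 invertible, R → S a flat local homomorphism of
complete Noetherian local k-algebras whose closed fibre S/m_R S is isomorphic over k to the node
algebra k[[x,y]]/(y^2 - x^2), and σ an R-algebra involution of S whose reduction to the closed fibre
does not exchange the two branches (it maps each minimal prime ideal over m_R S to itself). Then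
there are t in R, signs ξ₁, ξ₂ in k and an R-algebra isomorphism of S with R[[x,y]]/(xy - t)
transporting σ to x ↦ ξ₂ x, y ↦ ξ₁ y; moreover t = 0 when ξ₁ = -ξ₂. -/
theorem result (k R S : Type u) [Field k] [IsAlgClosed k]
    (h2 : (2 : k) ≠ 0)
    [CommRing R] [IsLocalRing R] [IsNoetherianRing R] [IsAdicComplete (IsLocalRing.maximalIdeal R) R]
    [CommRing S] [IsLocalRing S] [IsNoetherianRing S] [IsAdicComplete (IsLocalRing.maximalIdeal S) S]
    [Algebra k R] [Algebra R S] [Algebra k S] [IsScalarTower k R S]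
    [IsLocalHom (algebraMap R S)] [Module.Flat R S]
    (e : (S ⧸ Ideal.map (algebraMap R S) (IsLocalRing.maximalIdeal R)) ≃ₐ[k]
      (MvPowerSeries (Fin 2) k ⧸
        Ideal.span {(MvPowerSeries.X 1 ^ 2 - MvPowerSeries.X 0 ^ 2 : MvPowerSeries (Fin 2) k)}))
    (σ : S ≃ₐ[R] S) (hσ : ∀ s, σ (σ s) = s)
    (hbr : ∀ P ∈ (Ideal.map (algebraMap R S) (IsLocalRing.maximalIdeal R)).minimalPrimes,
      Ideal.map (σ : S →+* S) P = P) :
    ∃ (t : R) (ξ₁ ξ₂ : k), ξ₁ ^ 2 = 1 ∧ ξ₂ ^ 2 = 1 ∧ (ξ₁ = -ξ₂ → t = 0) ∧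
      ∃ f : S ≃ₐ[R] (MvPowerSeries (Fin 2) R ⧸
          Ideal.span {(MvPowerSeries.X 0 * MvPowerSeries.X 1 - MvPowerSeries.C t : MvPowerSeries (Fin 2) R)}),
        f (σ (f.symm (Ideal.Quotient.mk _ (MvPowerSeries.X 0)))) =
          algebraMap k R ξ₂ • Ideal.Quotient.mk _ (MvPowerSeries.X 0) ∧
        f (σ (f.symm (Ideal.Quotient.mk _ (MvPowerSeries.X 1)))) =
          algebraMap k R ξ₁ • Ideal.Quotient.mk _ (MvPowerSeries.X 1) := by
  let br : (MvPowerSeries (Fin 2) k ⧸ Ideal.span {(MvPowerSeries.X 1 ^ 2 - MvPowerSeries.X 0 ^ 2 :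
      MvPowerSeries (Fin 2) k)}) ≃ₐ[k] ArSing.ring k 1 := Ideal.quotientEquivAlgOfEq k rfl
  let p : S →ₐ[k] ArSing.ring k 1 :=
    ((e.trans br).toAlgHom).comp (Ideal.Quotient.mkₐ k _)
  have hp : Function.Surjective p := (e.trans br).surjective.comp Ideal.Quotient.mk_surjective
  have hker : ∀ s, p s = 0 ↔ s ∈ Ideal.map (algebraMap R S) (IsLocalRing.maximalIdeal R) := fun s => by
    rw [← Ideal.Quotient.eq_zero_iff_mem]
    exact map_eq_zero_iff (e.trans br) (e.trans br).injective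
  obtain ⟨ξ₁, ξ₂, x₀, y₀, p', h₁, h₂, hσx, hσy, hp', hker', hx, hy⟩ :=
    Lib.NodeDeform45.exists_coords h2 p hp hker σ hσ hbr
  obtain ⟨x, y, t, hσx, hσy, hx, hy, ht0, ht, hxy⟩ :=
    Lib.NodeDeform45.exists_limit h2 σ hσ h₁ h₂ p' hp' hker' x₀ y₀ hσx hσy hx hy
  obtain ⟨f, hfx, hfy⟩ := Lib.NodeDeform45.nonempty_iso h2 p' hp' hker' x y t hx hy ht hxy
  have key : ∀ (z : S) (ξ : k), σ z = algebraMap k S ξ * z →
      f (σ (f.symm (f z))) = algebraMap k R ξ • f z := fun z ξ hz => by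
    rw [AlgEquiv.symm_apply_apply, hz, map_mul, IsScalarTower.algebraMap_apply k R S,
      AlgEquiv.commutes]
    exact (Algebra.smul_def (algebraMap k R ξ) (f z)).symm
  refine ⟨t, ξ₁, ξ₂, h₁, h₂, ht0, f, ?_, ?_⟩
  · rw [← hfx]; exact key x ξ₂ hσx
  · rw [← hfy]; exact key y ξ₁ hσy

end Groth.Agent.S14084
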