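import Groth.Statements.S14086
import Groth.Agent.Lib.Ferrand.Flatness
import Mathlib.RingTheory.Flat.FaithfullyFlat.Algebra
import Mathlib.LinearAlgebra.TensorProduct.Prod
import Mathlib.RingTheory.LocalRing.Module

set_option autoImplicit false
universe u
open FlatMor

namespace Groth.Agent.S14086

/-- Let R be a ring, A and B flat R-algebras, I an ideal of A, B → A/I an injective finite flat map of
R-algebras and P = B ×_{A/I} A the fibre product ring (pairs in B × A with equal image in A/I). For
any R-algebra R' the base change R' ⊗_R P maps injectively to R' ⊗_R A, and any b' in R' ⊗_R B and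
a' in R' ⊗_R A with the same image in R' ⊗_R (A/I) are the two components of some element of R' ⊗_R
P; that is, R' ⊗_R P is the fibre product of R' ⊗_R B and R' ⊗_R A over R' ⊗_R (A/I). -/
theorem result (R A B R' : Type u) [CommRing R] [CommRing A]
    [CommRing B] [CommRing R'] [Algebra R A] [Algebra R B] [Algebra R R'] [Module.Flat R A] [Module.Flat R B]
    (I : Ideal A) [Algebra B (A ⧸ I)] [IsScalarTower R B (A ⧸ I)] [Module.Finite B (A ⧸ I)] [Module.Flat B (A ⧸ I)]
    (hinj : Function.Injective (algebraMap B (A ⧸ I))) :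
    Function.Injective (Algebra.TensorProduct.map (AlgHom.id R' R')
        ((AlgHom.snd R B A).comp (AlgHom.equalizer ((IsScalarTower.toAlgHom R B (A ⧸ I)).comp (AlgHom.fst R B A))
          ((Ideal.Quotient.mkₐ R I).comp (AlgHom.snd R B A))).val)) ∧
    ∀ (b : TensorProduct R R' B) (a : TensorProduct R R' A),
      Algebra.TensorProduct.map (AlgHom.id R' R') (IsScalarTower.toAlgHom R B (A ⧸ I)) b =
        Algebra.TensorProduct.map (AlgHom.id R' R') (Ideal.Quotient.mkₐ R I) a →
      ∃ x : TensorProduct R R' ↥(AlgHom.equalizer ((IsScalarTower.toAlgHom R B (A ⧸ I)).comp (AlgHom.fst R B A))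
          ((Ideal.Quotient.mkₐ R I).comp (AlgHom.snd R B A))),
        Algebra.TensorProduct.map (AlgHom.id R' R') ((AlgHom.fst R B A).comp (AlgHom.equalizer ((IsScalarTower.toAlgHom R B (A ⧸ I)).comp (AlgHom.fst R B A))
          ((Ideal.Quotient.mkₐ R I).comp (AlgHom.snd R B A))).val) x = b ∧
        Algebra.TensorProduct.map (AlgHom.id R' R') ((AlgHom.snd R B A).comp (AlgHom.equalizer ((IsScalarTower.toAlgHom R B (A ⧸ I)).comp (AlgHom.fst R B A))
          ((Ideal.Quotient.mkₐ R I).comp (AlgHom.snd R B A))).val) x = a := by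
  let f₁ := (IsScalarTower.toAlgHom R B (A ⧸ I)).comp (AlgHom.fst R B A)
  let f₂ := (Ideal.Quotient.mkₐ R I).comp (AlgHom.snd R B A)
  let E := AlgHom.equalizer f₁ f₂
  haveI : Module.Flat R (A ⧸ I) := Module.Flat.trans R B (A ⧸ I)
  haveI hff : Module.FaithfullyFlat B (A ⧸ I) := by
    refine ⟨fun {m} hm h => ?_⟩
    haveI := hm.isPrime
    let L := Localization.AtPrime m
    let M := LocalizedModule m.primeCompl (A ⧸ I)
    haveI : Module.Finite L M := Module.Finite.of_isLocalizedModule m.primeCompl (LocalizedModule.mkLinearMap m.primeCompl (A ⧸ I))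
    have h1 : (IsLocalRing.maximalIdeal L • (⊤ : Submodule L M)) = ⊤ := by
      refine top_le_iff.1 fun x _ => ?_
      induction x using LocalizedModule.induction_on with
      | h y s =>
        have hy : y ∈ m • (⊤ : Submodule B (A ⧸ I)) := by rw [h]; trivial
        suffices LocalizedModule.mkLinearMap m.primeCompl (A ⧸ I) y ∈ IsLocalRing.maximalIdeal L • (⊤ : Submodule L M) by
          have h2 : LocalizedModule.mk y s =
              Localization.mk (1 : B) s • LocalizedModule.mkLinearMap m.primeCompl (A ⧸ I) y := by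
            rw [LocalizedModule.mkLinearMap_apply, LocalizedModule.mk_smul_mk, one_smul, mul_one]
          rw [h2]
          exact Submodule.smul_mem _ _ this
        refine Submodule.smul_induction_on hy (fun b hb z _ => ?_) fun u v hu hv => ?_
        · rw [map_smul, ← algebraMap_smul L b]
          exact Submodule.smul_mem_smul
            ((IsLocalization.AtPrime.to_map_mem_maximal_iff L m b).2 hb) trivial
        · rw [map_add]
          exact add_mem hu hv
    have hbot : (⊤ : Submodule L M) = ⊥ :=
      Submodule.eq_bot_of_le_smul_of_le_jacobson_bot (IsLocalRing.maximalIdeal L) ⊤ Module.Finite.fg_top h1.ge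
        (IsLocalRing.maximalIdeal_le_jacobson _)
    have h10 : LocalizedModule.mkLinearMap m.primeCompl (A ⧸ I) (algebraMap B (A ⧸ I) 1) = 0 :=
      (Submodule.mem_bot L).1 (hbot ▸ trivial)
    obtain ⟨s, hs⟩ := (IsLocalizedModule.eq_zero_iff m.primeCompl
      (LocalizedModule.mkLinearMap m.primeCompl (A ⧸ I))).1 h10
    refine s.2 ?_
    rw [show (s : B) = 0 from hinj (by rw [map_zero, ← hs, map_one, Submonoid.smul_def, Algebra.algebraMap_eq_smul_one])]
    exact m.zero_mem
  let ι : E →ₗ[R] B × A := E.val.toLinearMap
  let π : B × A →ₗ[R] A ⧸ I := f₁.toLinearMap - f₂.toLinearMap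
  have hπ : Function.Surjective π := fun y => by
    obtain ⟨a, rfl⟩ := Ideal.Quotient.mk_surjective y
    exact ⟨(0, -a), by simp [π, f₁, f₂]⟩
  have hex : Function.Exact ι π := fun z =>
    ⟨fun h => ⟨⟨z, sub_eq_zero.1 h⟩, rfl⟩, fun ⟨w, hw⟩ => sub_eq_zero.2 (hw ▸ w.2)⟩
  have hB : Function.Injective (Algebra.TensorProduct.map (AlgHom.id R' R') (IsScalarTower.toAlgHom R B (A ⧸ I))) := by
    have heq : ∀ x : TensorProduct R R' B,
        Algebra.TensorProduct.map (AlgHom.id R' R') (IsScalarTower.toAlgHom R B (A ⧸ I)) x =
          TensorProduct.comm R (A ⧸ I) R' (TensorProduct.AlgebraTensorModule.cancelBaseChange R B B (A ⧸ I) R'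
            (TensorProduct.mk B (A ⧸ I) (TensorProduct R B R') 1 (TensorProduct.comm R R' B x))) := fun x => by
      induction x using TensorProduct.induction_on with
      | zero => simp
      | add x y hx hy => simp only [map_add, hx, hy]
      | tmul r b => simp [Algebra.algebraMap_eq_smul_one]
    intro x y hxy
    rw [heq, heq] at hxy
    exact (TensorProduct.comm R R' B).injective (Module.FaithfullyFlat.tensorProduct_mk_injective (A := B) (B := A ⧸ I) _
      ((TensorProduct.AlgebraTensorModule.cancelBaseChange R B B (A ⧸ I) R').injective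
        ((TensorProduct.comm R (A ⧸ I) R').injective hxy)))
  have hinj' := LinearMap.lTensor_injective_of_exact_of_flat π hπ ι Subtype.val_injective hex R'
  have hex' := lTensor_exact R' hex hπ
  let e := TensorProduct.prodRight R R R' B A
  have hfst : ∀ x, (Algebra.TensorProduct.map (AlgHom.id R' R') ((AlgHom.fst R B A).comp E.val)) x =
      (e (ι.lTensor R' x)).1 := fun x => by
    induction x using TensorProduct.induction_on with
    | zero => simp
    | add x y hx hy => simp only [map_add, hx, hy, Prod.fst_add]
    | tmul r b => simp [e, ι]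
  have hsnd : ∀ x, (Algebra.TensorProduct.map (AlgHom.id R' R') ((AlgHom.snd R B A).comp E.val)) x =
      (e (ι.lTensor R' x)).2 := fun x => by
    induction x using TensorProduct.induction_on with
    | zero => simp
    | add x y hx hy => simp only [map_add, hx, hy, Prod.snd_add]
    | tmul r b => simp [e, ι]
  have hπ' : ∀ z, π.lTensor R' z = Algebra.TensorProduct.map (AlgHom.id R' R') (IsScalarTower.toAlgHom R B (A ⧸ I)) (e z).1 -
      Algebra.TensorProduct.map (AlgHom.id R' R') (Ideal.Quotient.mkₐ R I) (e z).2 := fun z => by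
    induction z using TensorProduct.induction_on with
    | zero => simp
    | add x y hx hy => simp only [map_add, hx, hy, Prod.fst_add, Prod.snd_add]; abel
    | tmul r b => simp [e, π, f₁, f₂, TensorProduct.tmul_sub]
  refine ⟨(injective_iff_map_eq_zero _).2 fun x hx => ?_, fun b a hab => ?_⟩
  · rw [hsnd] at hx
    have h0 : π.lTensor R' (ι.lTensor R' x) = 0 := hex'.apply_apply_eq_zero x
    rw [hπ', hx, map_zero, sub_zero, ← map_zero (Algebra.TensorProduct.map (AlgHom.id R' R') (IsScalarTower.toAlgHom R B (A ⧸ I)))] at h0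
    refine hinj' (e.injective ?_)
    rw [map_zero, map_zero]
    exact Prod.ext (hB h0) hx
  · obtain ⟨x, hx⟩ := (hex' (e.symm (b, a))).1 (by rw [hπ', e.apply_symm_apply, hab, sub_self])
    exact ⟨x, by rw [hfst, hx, e.apply_symm_apply], by rw [hsnd, hx, e.apply_symm_apply]⟩

end Groth.Agent.S14086
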