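import Groth.Statements.S14091
import Mathlib

set_option autoImplicit false
universe u
open ArSing

namespace Groth.Agent.S14091

open Polynomial in
/-- Over an algebraically closed field k, a finite local k-algebra B whose cotangent space m/m^2 has
dimension at most one over the residue field is isomorphic, as a k-algebra, to k[t]/(t^n) with n =
dim_k B (curvilinear pointed algebras of degree n have a single isomorphism class). -/
theorem result (k B : Type u) [Field k] [IsAlgClosed k]
    [CommRing B] [IsLocalRing B] [Algebra k B] [Module.Finite k B]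
    (hcurv : Module.finrank (IsLocalRing.ResidueField B) (IsLocalRing.CotangentSpace B) ≤ 1) :
    Nonempty (B ≃ₐ[k] (Polynomial k ⧸ Ideal.span {(X : Polynomial k) ^ Module.finrank k B})) := by
  classical
  haveI : IsArtinianRing B := IsArtinianRing.of_finite k B
  have hres : Function.Surjective (algebraMap k (IsLocalRing.ResidueField B)) :=
    IsAlgClosed.algebraMap_bijective_of_isIntegral.surjective
  have hprin : (IsLocalRing.maximalIdeal B).IsPrincipal :=
    IsLocalRing.finrank_cotangentSpace_le_one_iff.1 hcurv
  obtain ⟨t, ht⟩ := hprin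
  change IsLocalRing.maximalIdeal B = Ideal.span {t} at ht
  obtain ⟨N, hN⟩ : IsNilpotent t := by
    have := IsArtinianRing.isNilpotent_jacobson_bot (R := B)
    rw [IsLocalRing.jacobson_eq_maximalIdeal ⊥ bot_ne_top, ht] at this
    obtain ⟨N, hN⟩ := this
    exact ⟨N, by rw [Ideal.span_singleton_pow] at hN; exact Ideal.span_singleton_eq_bot.1 hN⟩
  let φ : Polynomial k →ₐ[k] B := Polynomial.aeval t
  have step : ∀ (j : ℕ) (b : B), ∃ f : Polynomial k, ∃ c : B, b = φ f + t ^ j * c := by
    intro j
    induction j with
    | zero => exact fun b => ⟨0, b, by simp⟩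
    | succ j ih =>
      intro b
      obtain ⟨f, c, rfl⟩ := ih b
      obtain ⟨a, ha⟩ := hres (IsLocalRing.residue B c)
      have : c - algebraMap k B a ∈ IsLocalRing.maximalIdeal B := by
        rw [← IsLocalRing.residue_eq_zero_iff, map_sub, ← ha, sub_eq_zero]; rfl
      rw [ht, Ideal.mem_span_singleton] at this
      obtain ⟨w, hw⟩ := this
      exact ⟨f + Polynomial.C a * Polynomial.X ^ j, w, by simp [φ]; linear_combination t ^ j * hw⟩
  have hsur : Function.Surjective φ := fun b => by
    obtain ⟨f, c, h⟩ := step N b
    exact ⟨f, by simpa [hN] using h.symm⟩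
  obtain ⟨g, hg⟩ := IsPrincipalIdealRing.principal (RingHom.ker φ)
  change RingHom.ker φ = Ideal.span {g} at hg
  have hdvd : g ∣ Polynomial.X ^ N := by
    rw [← Ideal.mem_span_singleton, ← hg, RingHom.mem_ker]; simp [φ, hN]
  obtain ⟨i, _, hi⟩ := (dvd_prime_pow Polynomial.prime_X N).1 hdvd
  have hker : RingHom.ker φ = Ideal.span {Polynomial.X ^ i} := hg.trans (Ideal.span_singleton_eq_span_singleton.2 hi)
  let e : (Polynomial k ⧸ Ideal.span {(Polynomial.X : Polynomial k) ^ i}) ≃ₐ[k] B :=
    (Ideal.quotientEquivAlgOfEq k hker.symm).trans (Ideal.quotientKerAlgEquivOfSurjective hsur)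
  have hn : Module.finrank k B = i := by
    rw [← e.toLinearEquiv.finrank_eq, finrank_quotient_span_eq_natDegree, Polynomial.natDegree_X_pow]
  rw [hn]
  exact ⟨e.symm⟩

end Groth.Agent.S14091
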