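import Groth.Statements.S14087
import Mathlib
import Groth.Agent.S14091

set_option autoImplicit false
universe u
open ArSing

namespace Groth.Agent.S14087

open Polynomial in
/-- Over an algebraically closed field k, if B = k[t]/(t^n) with n ≥ 1 is flat over a k-subalgebra A ⊆ B
(a finite flat extension of pointed finite algebras with curvilinear top), then A is curvilinear
too: A is isomorphic as a k-algebra to k[t]/(t^m) for some m. -/
theorem result (k : Type u) [Field k] [IsAlgClosed k]
    (n : ℕ) (hn : 0 < n)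
    (A : Subalgebra k (Polynomial k ⧸ Ideal.span {(X : Polynomial k) ^ n}))
    [Module.Flat A (Polynomial k ⧸ Ideal.span {(X : Polynomial k) ^ n})] :
    ∃ m : ℕ, Nonempty (A ≃ₐ[k] (Polynomial k ⧸ Ideal.span {(X : Polynomial k) ^ m})) := by
  classical
  set π := Ideal.Quotient.mk (Ideal.span {(Polynomial.X : Polynomial k) ^ n}) with hπ
  set t := π Polynomial.X with ht
  haveI : Module.Finite k (Polynomial k ⧸ Ideal.span {(Polynomial.X : Polynomial k) ^ n}) := (Polynomial.monic_X_pow n).finite_quotient
  have hI : ∀ N : Ideal (Polynomial k ⧸ Ideal.span {(Polynomial.X : Polynomial k) ^ n}), ∃ j, N = Ideal.span {t ^ j} := by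
    intro N
    obtain ⟨g, hg⟩ := IsPrincipalIdealRing.principal (N.comap π)
    change N.comap π = Ideal.span {g} at hg
    have hd : g ∣ Polynomial.X ^ n := by
      rw [← Ideal.mem_span_singleton, ← hg, Ideal.mem_comap]
      rw [Ideal.Quotient.eq_zero_iff_mem.2 (Ideal.mem_span_singleton_self _)]
      exact zero_mem _
    obtain ⟨i, _, hi⟩ := (dvd_prime_pow Polynomial.prime_X n).1 hd
    refine ⟨i, ?_⟩
    rw [← Ideal.map_comap_of_surjective π Ideal.Quotient.mk_surjective N, hg, Ideal.span_singleton_eq_span_singleton.2 hi,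
      Ideal.map_span, Set.image_singleton, map_pow]
  have htn : t ^ n = 0 := by rw [ht, ← map_pow]; exact Ideal.Quotient.eq_zero_iff_mem.2 (Ideal.mem_span_singleton_self _)
  haveI : Nontrivial (Polynomial k ⧸ Ideal.span {(Polynomial.X : Polynomial k) ^ n}) := Ideal.Quotient.nontrivial_iff.2 (by
    rw [Ne, Ideal.span_singleton_eq_top, isUnit_pow_iff (by omega)]
    exact Polynomial.not_isUnit_X)
  haveI : IsLocalRing (Polynomial k ⧸ Ideal.span {(Polynomial.X : Polynomial k) ^ n}) := by
    refine IsLocalRing.of_unique_max_ideal ?_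
    obtain ⟨M, hM⟩ := Ideal.exists_maximal (Polynomial k ⧸ Ideal.span {(Polynomial.X : Polynomial k) ^ n})
    refine ⟨M, hM, fun M' hM' => ?_⟩
    have hmax : ∀ L : Ideal (Polynomial k ⧸ Ideal.span {(Polynomial.X : Polynomial k) ^ n}), L.IsMaximal → L = Ideal.span {t} := by
      intro L hL
      obtain ⟨j, hj⟩ := hI L
      have htL : t ∈ L := hL.isPrime.mem_of_pow_mem n (htn ▸ zero_mem L)
      refine le_antisymm ?_ ((Ideal.span_singleton_le_iff_mem L).2 htL)
      rw [hj]
      rcases Nat.eq_zero_or_pos j with rfl | hj0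
      · exact absurd (by rw [hj]; simp) hL.ne_top
      · rw [Ideal.span_singleton_le_span_singleton]; exact dvd_pow_self t hj0.ne'
    rw [hmax M hM, hmax M' hM']
  haveI : Module.Finite A (Polynomial k ⧸ Ideal.span {(Polynomial.X : Polynomial k) ^ n}) := Module.Finite.of_restrictScalars_finite k A _
  haveI : IsLocalHom (algebraMap A (Polynomial k ⧸ Ideal.span {(Polynomial.X : Polynomial k) ^ n})) := inferInstance
  haveI : IsLocalRing A := (algebraMap A (Polynomial k ⧸ Ideal.span {(Polynomial.X : Polynomial k) ^ n})).domain_isLocalRing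
  haveI := Module.FaithfullyFlat.of_flat_of_isLocalHom (A := A) (B := Polynomial k ⧸ Ideal.span {(Polynomial.X : Polynomial k) ^ n})
  haveI : Module.Finite k A := FiniteDimensional.finiteDimensional_submodule (Subalgebra.toSubmodule A)
  set m := IsLocalRing.maximalIdeal A
  obtain ⟨j, hj⟩ := hI (m.map (algebraMap A (Polynomial k ⧸ Ideal.span {(Polynomial.X : Polynomial k) ^ n})))
  have hprin : m.IsPrincipal := by
    suffices ∃ a ∈ m, Ideal.span {t ^ j} ≤ Ideal.span {algebraMap A (Polynomial k ⧸ Ideal.span {(Polynomial.X : Polynomial k) ^ n}) a} by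
      obtain ⟨a, ha, hle⟩ := this
      refine ⟨a, le_antisymm (fun x hx => ?_) ((Ideal.span_singleton_le_iff_mem m).2 ha)⟩
      show x ∈ Ideal.span {a}
      rw [← Ideal.comap_map_eq_self_of_faithfullyFlat (B := Polynomial k ⧸ Ideal.span {(Polynomial.X : Polynomial k) ^ n}) (Ideal.span {a}), Ideal.mem_comap, Ideal.map_span, Set.image_singleton]
      exact hle (hj ▸ Ideal.mem_map_of_mem _ hx)
    by_contra! hc
    have hle : Ideal.span {t ^ j} ≤ Ideal.span {t ^ (j + 1)} := by
      rw [← hj, Ideal.map_le_iff_le_comap]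
      intro a ha
      rw [Ideal.mem_comap]
      obtain ⟨i, hi⟩ := hI (Ideal.span {algebraMap A (Polynomial k ⧸ Ideal.span {(Polynomial.X : Polynomial k) ^ n}) a})
      have hij : j < i := by
        by_contra! hh
        exact hc a ha (hi ▸ Ideal.span_singleton_le_span_singleton.2 (pow_dvd_pow t hh))
      exact Ideal.span_singleton_le_span_singleton.2 (pow_dvd_pow t (show j + 1 ≤ i by omega)) (hi ▸ Ideal.mem_span_singleton_self _)
    obtain ⟨b, hb⟩ := Ideal.mem_span_singleton.1 (hle (Ideal.mem_span_singleton_self _))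
    have hu : IsUnit (1 - t * b) := IsNilpotent.isUnit_one_sub ⟨n, by rw [mul_pow, htn, zero_mul]⟩
    have hz : t ^ j = 0 := by
      have h0 : t ^ j * (1 - t * b) = 0 := by linear_combination hb
      exact hu.mul_left_eq_zero.1 h0
    have := hc 0 (zero_mem m)
    simp [hz] at this
  haveI : IsArtinianRing A := IsArtinianRing.of_finite k A
  exact ⟨_, S14091.result k A (IsLocalRing.finrank_cotangentSpace_le_one_iff.2 hprin)⟩

end Groth.Agent.S14087
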