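import Groth.Statements.S14088
import Mathlib.Algebra.BigOperators.Intervals
import Mathlib.Data.Nat.Choose.Basic
import Mathlib.Tactic.LinearCombination
import Mathlib.Tactic.Ring
import Mathlib.Algebra.BigOperators.Ring.Finset

set_option autoImplicit false
universe u
open ArSing

namespace Groth.Agent.S14088

/-- The identity behind the torus-equivariant classes h_i = h_0 + i τ of the coordinate hyperplanes of a
projective space of binary forms, stated in an arbitrary commutative ring: for n ≤ m, (h_0 ⋯
h_(n-1))^2 · h_n ⋯ h_(m-1) equals the sum over s = 0, …, n of (-1)^s s! (n choose s) (m choose s)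
τ^s h_0 ⋯ h_(m+n-s-1), where h_i = h + i τ. (The published statement is in the equivariant Chow ring
of that projective space; only the relations h_i = h_j + (j - i) τ are used, so it holds in any
commutative ring.) -/
theorem result (A : Type u) [CommRing A] (h τ : A) (n m : ℕ) (hnm : n ≤ m) :
    (∏ i ∈ Finset.range n, (h + (i : A) * τ) ^ 2) * ∏ i ∈ Finset.Ico n m, (h + (i : A) * τ) =
      ∑ s ∈ Finset.range (n + 1), (-1 : A) ^ s * (Nat.factorial s : A) * (Nat.choose n s : A) *
        (Nat.choose m s : A) * τ ^ s * ∏ i ∈ Finset.range (m + n - s), (h + (i : A) * τ) := by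
  let P : ℕ → A := fun j => ∏ i ∈ Finset.range j, (h + (i : A) * τ)
  let c : ℕ → ℕ → A := fun n s =>
    (-1 : A) ^ s * (s.factorial : A) * (n.choose s : A) * (m.choose s : A) * τ ^ s
  have hlhs : (∏ i ∈ Finset.range n, (h + (i : A) * τ) ^ 2) *
      ∏ i ∈ Finset.Ico n m, (h + (i : A) * τ) = P n * P m := by
    simp only [P]
    rw [← Finset.prod_range_mul_prod_Ico _ hnm, Finset.prod_pow]; ring
  have key : ∀ n, n ≤ m → P n * P m = ∑ s ∈ Finset.range (n + 1), c n s * P (m + n - s) := by
    intro n
    induction n with
    | zero => intro _; simp [P, c]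
    | succ n ih =>
      intro hn
      have e : P (n + 1) * P m = (P n * P m) * (h + (n : A) * τ) := by
        simp only [P, Finset.prod_range_succ]; ring
      rw [e, ih (by omega), Finset.sum_mul]
      have e1 : ∀ s ∈ Finset.range (n + 1), c n s * P (m + n - s) * (h + (n : A) * τ) =
          c n s * P (m + (n + 1) - s) + ((s : A) - m) * τ * c n s * P (m + n - s) := by
        intro s hs
        have hs' : s ≤ n := Nat.lt_succ_iff.mp (Finset.mem_range.mp hs)
        rw [show m + (n + 1) - s = m + n - s + 1 by omega]
        simp only [P, Finset.prod_range_succ]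
        rw [Nat.cast_sub (show s ≤ m + n by omega), Nat.cast_add]
        ring
      rw [Finset.sum_congr rfl e1, Finset.sum_add_distrib, Finset.sum_range_succ' _ (n + 1),
        Finset.sum_range_succ' (fun s => c n s * P (m + (n + 1) - s)) n]
      have e2 : ∀ t, c (n + 1) (t + 1) = c n (t + 1) + ((t : A) - m) * τ * c n t := by
        intro t
        have h1 : ((n + 1).choose (t + 1) : A) = n.choose t + n.choose (t + 1) := by
          rw [Nat.choose_succ_succ, Nat.cast_add]
        have h2 : (m.choose (t + 1) : A) * ((t : A) + 1) = ((m : A) - t) * m.choose t := by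
          rcases le_or_gt t m with hle | hlt
          · have := congrArg (Nat.cast : ℕ → A) (Nat.choose_succ_right_eq m t)
            push_cast [Nat.cast_sub hle] at this
            rw [this]; ring
          · simp [Nat.choose_eq_zero_of_lt hlt, Nat.choose_eq_zero_of_lt (by omega : m < t + 1)]
        simp only [c, Nat.factorial_succ, h1]
        push_cast
        linear_combination ((-1 : A) ^ (t + 1) * (t.factorial : A) * (n.choose t : A) * τ ^ (t + 1)) * h2
      have e3 : ∀ t ∈ Finset.range (n + 1), c (n + 1) (t + 1) * P (m + (n + 1) - (t + 1)) =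
          c n (t + 1) * P (m + (n + 1) - (t + 1)) + ((t : A) - m) * τ * c n t * P (m + n - t) := by
        intro t _
        rw [e2, show m + n - t = m + (n + 1) - (t + 1) by omega]; ring
      rw [Finset.sum_congr rfl e3, Finset.sum_add_distrib,
        Finset.sum_range_succ (fun t => c n (t + 1) * P (m + (n + 1) - (t + 1))) n]
      have e4 : c n (n + 1) = 0 := by simp [c]
      have e5 : c (n + 1) 0 = c n 0 := by simp [c]
      rw [e4, e5]; ring
  rw [hlhs, key n hnm]

end Groth.Agent.S14088
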