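import Groth.Statements.S1409
import Mathlib.RingTheory.Ideal.GoingDown
import Mathlib.RingTheory.Flat.FaithfullyFlat.Algebra
import Mathlib.RingTheory.Ideal.MinimalPrime.Localization
import Mathlib.Algebra.Colimit.Ring
import Mathlib.Data.Set.Card

set_option autoImplicit false
set_option linter.style.haveILetI false
universe u
open FlatMor

namespace Groth.Agent.S1409

variable {ι : Type u} [Preorder ι] [IsDirected ι (· ≤ ·)] [Nonempty ι] (G : ι → Type u)
  [∀ i, CommRing (G i)] (f : ∀ i j, i ≤ j → G i →+* G j) [DirectedSystem G fun i j h => f i j h]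

/-- An element of a minimal prime is nilpotent up to a factor outside of the prime. -/
theorem exists_mul_pow_eq_zero {R : Type u} [CommRing R] {p : Ideal R} (hp : p ∈ minimalPrimes R)
    {x : R} (hx : x ∈ p) : ∃ s ∉ p, ∃ n : ℕ, s * x ^ n = 0 := by
  haveI : p.IsPrime := hp.1.1
  by_contra h
  push Not at h
  have hdisj : Disjoint ((⊥ : Ideal R) : Set R)
      ((p.primeCompl ⊔ Submonoid.powers x : Submonoid R) : Set R) := by
    rw [Set.disjoint_left]
    intro a ha hmem
    obtain ⟨s, hs, _, ⟨n, rfl⟩, rfl⟩ := Submonoid.mem_sup.1 hmem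
    exact h s hs n (Ideal.mem_bot.1 ha)
  obtain ⟨q, hq, -, hqd⟩ := Ideal.exists_le_prime_disjoint _ _ hdisj
  have hqp : q ≤ p := fun a ha => by
    by_contra hap
    exact Set.disjoint_left.1 hqd ha (Submonoid.mem_sup_left hap)
  exact Set.disjoint_left.1 hqd (hp.2 ⟨hq, bot_le⟩ hqp hx)
    (Submonoid.mem_sup_right (Submonoid.mem_powers x))

/-- The canonical map to the colimit. -/
noncomputable abbrev o (i : ι) : G i →+* Ring.DirectLimit G fun i j h => ⇑(f i j h) :=
  Ring.DirectLimit.of G (fun i j h => ⇑(f i j h)) i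

theorem o_f (i j : ι) (h : i ≤ j) (x : G i) : o G f j (f i j h x) = o G f i x :=
  Ring.DirectLimit.of_f h x

/-- The canonical maps pull minimal primes back to minimal primes (going down). -/
theorem comap_mem_minimalPrimes
    (hflat : ∀ i j (h : i ≤ j), letI := (f i j h).toAlgebra
      Module.Flat (G i) (G j))
    {p : Ideal (Ring.DirectLimit G fun i j h => ⇑(f i j h))} (hp : p ∈ minimalPrimes _) (i : ι) :
    p.comap (o G f i) ∈ minimalPrimes (G i) := by
  haveI : p.IsPrime := hp.1.1
  refine ⟨⟨inferInstance, bot_le⟩, fun q' ⟨hq', _⟩ hle x hx => ?_⟩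
  obtain ⟨s, hs, n, hn⟩ := exists_mul_pow_eq_zero hp (Ideal.mem_comap.1 hx)
  obtain ⟨j, t, rfl⟩ := Ring.DirectLimit.exists_of s
  obtain ⟨k, hik, hjk⟩ := exists_ge_ge i j
  have h0 : o G f k (f j k hjk t * f i k hik x ^ n) = 0 := by
    rw [map_mul, map_pow, o_f, o_f]; exact hn
  obtain ⟨l, hkl, hl⟩ := Ring.DirectLimit.of.zero_exact h0
  rw [map_mul, map_pow, DirectedSystem.map_map (f := fun i j h => ⇑(f i j h)),
    DirectedSystem.map_map (f := fun i j h => ⇑(f i j h))] at hl
  have hil : i ≤ l := hik.trans hkl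
  letI := (f i l hil).toAlgebra
  haveI : Module.Flat (G i) (G l) := hflat i l hil
  haveI := hq'
  haveI : (p.comap (o G f l)).LiesOver (p.comap (o G f i)) := ⟨by
    ext a
    simp [Ideal.under, RingHom.algebraMap_toAlgebra, o_f]⟩
  obtain ⟨P, hP, hPprime, hPover⟩ :=
    Ideal.exists_ideal_le_liesOver_of_le (p.comap (o G f l)) hle
  have hxP : f i l hil x ∈ P := by
    rcases hPprime.mem_or_mem (hl ▸ P.zero_mem : _ * _ ∈ P) with h | h
    · refine absurd (hP h) ?_
      simpa [o_f] using hs
    · exact hPprime.mem_of_pow_mem n h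
  rw [hPover.over]
  exact hxP

/-- Let (R_i) be a directed system of commutative rings whose transition maps are faithfully flat, with
colimit R. Then, counting in the extended natural numbers, the minimal primes of R are exactly as
numerous as the supremum over i of the count of minimal primes of R_i. -/
theorem result {ι : Type u} [Preorder ι] [IsDirected ι (· ≤ ·)] [Nonempty ι] (G : ι → Type u) [∀ i, CommRing (G i)]
    (f : ∀ i j, i ≤ j → G i →+* G j) [DirectedSystem G fun i j h => f i j h]
    (hf : ∀ i j (h : i ≤ j), letI := (f i j h).toAlgebra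
      Module.FaithfullyFlat (G i) (G j)) :
    (minimalPrimes (Ring.DirectLimit G fun i j h => ⇑(f i j h))).encard = ⨆ i, (minimalPrimes (G i)).encard := by
  classical
  set R := Ring.DirectLimit G fun i j h => ⇑(f i j h) with hR
  have hflat : ∀ i j (h : i ≤ j), letI := (f i j h).toAlgebra
      Module.Flat (G i) (G j) := fun i j h => by
    letI := (f i j h).toAlgebra
    haveI := hf i j h
    infer_instance
  have hinj : ∀ i, Function.Injective (o G f i) := Ring.DirectLimit.of_injective f fun i j h => by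
    letI := (f i j h).toAlgebra
    haveI := hf i j h
    exact FaithfulSMul.algebraMap_injective (G i) (G j)
  refine le_antisymm ?_ (iSup_le fun i => ?_)
  · by_contra hlt
    rw [not_le] at hlt
    obtain ⟨N, hN⟩ : ∃ N : ℕ, (N : ℕ∞) = ⨆ i, (minimalPrimes (G i)).encard :=
      ENat.ne_top_iff_exists.1 hlt.ne_top
    obtain ⟨T, hT, hTcard⟩ := Set.exists_subset_encard_eq
      (k := ((N + 1 : ℕ) : ℕ∞)) (s := minimalPrimes R) (by
        rw [← hN] at hlt
        push_cast
        exact Order.add_one_le_of_lt hlt)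
    have hTfin : T.Finite := Set.finite_of_encard_eq_coe hTcard
    -- separating elements
    have hsep : ∀ z : hTfin.toFinset ×ˢ hTfin.toFinset,
        ∃ i, ∀ j, i ≤ j → (z : Ideal R × Ideal R).1.comap (o G f j) = (z : Ideal R × Ideal R).2.comap (o G f j) →
          (z : Ideal R × Ideal R).1 = (z : Ideal R × Ideal R).2 := by
      rintro ⟨⟨p, p'⟩, hz⟩
      rw [Finset.mem_product, Set.Finite.mem_toFinset, Set.Finite.mem_toFinset] at hz
      by_cases he : p = p'
      · exact ⟨Classical.arbitrary ι, fun _ _ _ => he⟩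
      obtain ⟨x, hx, hx'⟩ := SetLike.not_le_iff_exists.1
        (fun hle : p ≤ p' => he (le_antisymm hle ((hT hz.2).2 (hT hz.1).1 hle)))
      obtain ⟨i, y, rfl⟩ := Ring.DirectLimit.exists_of x
      refine ⟨i, fun j hij h => absurd ?_ hx'⟩
      have : f i j hij y ∈ p'.comap (o G f j) := h ▸ (by simpa [o_f] using hx)
      simpa [o_f] using this
    choose iz hiz using hsep
    obtain ⟨k, hk⟩ := Finite.exists_le iz
    have hmap : Set.MapsTo (fun p : Ideal R => p.comap (o G f k)) T (minimalPrimes (G k)) :=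
      fun p hp => comap_mem_minimalPrimes G f hflat (hT hp) k
    have hinjOn : Set.InjOn (fun p : Ideal R => p.comap (o G f k)) T := by
      intro p hp p' hp' h
      exact hiz ⟨(p, p'), Finset.mem_product.2 ⟨hTfin.mem_toFinset.2 hp, hTfin.mem_toFinset.2 hp'⟩⟩
        k (hk _) h
    have := (Set.encard_le_encard_of_injOn hmap hinjOn).trans
      (le_iSup (fun i => (minimalPrimes (G i)).encard) k)
    rw [hTcard, ← hN] at this
    exact absurd (ENat.natCast_le_natCast.1 this) (by omega)
  · have hsub : minimalPrimes (G i) ⊆ (fun p : Ideal R => p.comap (o G f i)) '' minimalPrimes R := by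
      intro q hq
      obtain ⟨P, hP, rfl⟩ := Ideal.exists_comap_eq_of_mem_minimalPrimes_of_injective (hinj i) q hq
      haveI := hP
      obtain ⟨p, hp, hpP⟩ := Ideal.exists_minimalPrimes_le (bot_le : (⊥ : Ideal R) ≤ P)
      haveI := hp.1.1
      exact ⟨p, hp, le_antisymm (Ideal.comap_mono hpP)
        (hq.2 ⟨inferInstance, bot_le⟩ (Ideal.comap_mono hpP))⟩
    exact (Set.encard_le_encard hsub).trans (Set.encard_image_le _ _)

end Groth.Agent.S1409
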