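import Groth.Statements.S14097
import Mathlib.RingTheory.MvPolynomial.Symmetric.Defs
import Mathlib.Tactic.LinearCombination
import Mathlib.Tactic.Ring

set_option autoImplicit false
universe u
open ArSing

namespace Groth.Agent.S14097

/-- In any commutative ring, if h_0, …, h_(k-1) (k ≥ 2) and τ satisfy h_i^2 + τ h_i = 0, then ∏_(i ≤
k-2) (h_i + h_(i+1) + τ) = Σ_(j ≤ k-1) τ^(k-1-j) e_j(h), e_j the elementary symmetric functions.
(The published statement is the resulting formula for the class of the small diagonal in the Chow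
ring of (P^1)^k, where the h_i are the hyperplane classes of the factors and satisfy these
relations; only the ring identity is asserted here.) -/
theorem result (A : Type u) [CommRing A] (k : ℕ) (hk : 2 ≤ k) (τ : A)
    (h : ℕ → A) (hrel : ∀ i, i < k → h i ^ 2 + τ * h i = 0) :
    ∏ i ∈ Finset.range (k - 1), (h i + h (i + 1) + τ) =
      ∑ j ∈ Finset.range k, τ ^ (k - 1 - j) * (((Finset.range k).val.map h).esymm j) := by
  let e : ℕ → ℕ → A := fun m j => ((Finset.range m).val.map h).esymm j
  let R : ℕ → A := fun m => ∑ j ∈ Finset.range m, τ ^ (m - 1 - j) * e m j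
  let PP : ℕ → A := fun m => ∏ i ∈ Finset.range m, h i
  have hsucc : ∀ m j, e (m + 1) (j + 1) = e m (j + 1) + h m * e m j := by
    intro m j
    have h0 : (Finset.range (m + 1)).val = m ::ₘ (Finset.range m).val := Multiset.range_succ m
    simp only [e, h0, Multiset.map_cons,
      Multiset.esymm, Multiset.powersetCard_cons, Multiset.map_add, Multiset.sum_add,
      Multiset.map_map, Function.comp_def, Multiset.prod_cons, Multiset.sum_map_mul_left]
  have hzero : ∀ m, e m 0 = 1 := fun m => by simp [e, Multiset.esymm]
  have hlast : ∀ m, e m m = PP m := by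
    intro m
    induction m with
    | zero => simp [e, PP, Multiset.esymm]
    | succ m ih =>
      rw [hsucc, ih]
      have : e m (m + 1) = 0 := by
        simp [e, Multiset.esymm, Multiset.powersetCard_eq_empty]
      rw [this, zero_add]
      simp [PP, Finset.prod_range_succ, mul_comm]
  have hR : ∀ m, R (m + 1) = (τ + h m) * R m + PP m := by
    intro m
    rcases m with _ | m
    · simp [R, PP, hzero]
    simp only [R]
    rw [Finset.sum_range_succ' _ (m + 1), Finset.sum_range_succ (fun j => τ ^ (m + 1 + 1 - 1 - (j + 1)) * e (m + 1 + 1) (j + 1)) m,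
      hsucc (m + 1) m, hlast (m + 1), hzero]
    conv_rhs => rw [add_mul, Finset.mul_sum, Finset.mul_sum]
    rw [Finset.sum_range_succ' (fun j => τ * (τ ^ (m + 1 - 1 - j) * e (m + 1) j)) m,
      Finset.sum_range_succ (fun j => h (m + 1) * (τ ^ (m + 1 - 1 - j) * e (m + 1) j)) m, hzero]
    have hsplit : ∀ j ∈ Finset.range m, τ ^ (m + 1 + 1 - 1 - (j + 1)) * e (m + 1 + 1) (j + 1) =
        τ * (τ ^ (m + 1 - 1 - (j + 1)) * e (m + 1) (j + 1)) +
          h (m + 1) * (τ ^ (m + 1 - 1 - j) * e (m + 1) j) := by
      intro j hj
      have hj' := Finset.mem_range.mp hj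
      rw [hsucc, show m + 1 + 1 - 1 - (j + 1) = (m + 1 - 1 - (j + 1)) + 1 by omega,
        show m + 1 - 1 - j = (m + 1 - 1 - (j + 1)) + 1 by omega]
      ring
    rw [Finset.sum_congr rfl hsplit, Finset.sum_add_distrib]
    simp
    ring
  have hhR : ∀ m, m + 1 ≤ k → h m * R (m + 1) = PP (m + 1) := by
    intro m hm
    rw [hR]
    simp only [PP, Finset.prod_range_succ]
    linear_combination R m * hrel m (by omega)
  have key : ∀ m, m + 1 ≤ k → ∏ i ∈ Finset.range m, (h i + h (i + 1) + τ) = R (m + 1) := by
    intro m
    induction m with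
    | zero => intro _; simp [R, hzero]
    | succ m ih =>
      intro hm
      rw [Finset.prod_range_succ, ih (by omega), hR (m + 1)]
      linear_combination hhR m (by omega)
  have h1 := key (k - 1) (by omega)
  rw [show k - 1 + 1 = k by omega] at h1
  exact h1

end Groth.Agent.S14097
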