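import Groth.Statements.S14099
import Groth.Agent.H22.Pinch14099.Ring
import Groth.Agent.Lib.Ferrand.LQF
import Groth.Agent.Lib.Ferrand.BaseChange
import Groth.Agent.Lib.BlowUpExists.Exists

set_option autoImplicit false
universe u
open CategoryTheory AlgebraicGeometry
open BlowUp

namespace Groth.Agent.S14099

open CategoryTheory CategoryTheory.Limits AlgebraicGeometry

open Groth.Agent.H22.Pinch14099 Groth.Agent.Lib Groth.Agent.Lib.Ideal

theorem sqU {Xt Dt D X : Scheme.{u}} (ι : Dt ⟶ Xt) [IsClosedImmersion ι] (h : Dt ⟶ D) [IsFinite h]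
    [Surjective h] (b : Xt ⟶ X) [IsAffineHom b] (j : D ⟶ X) (hP : IsPushout ι h b j)
    (U : X.Opens) (hU : IsAffineOpen U) :
    ∃ e : ι ⁻¹ᵁ (b ⁻¹ᵁ U) ≤ h ⁻¹ᵁ (j ⁻¹ᵁ U),
      Ferrand.IsSq (j.app U).hom (b.app U).hom (h.appLE (j ⁻¹ᵁ U) (ι ⁻¹ᵁ (b ⁻¹ᵁ U)) e).hom
        (ι.app (b ⁻¹ᵁ U)).hom := by
  have haff : ∀ y : D, ∃ W : Xt.Opens, IsAffineOpen W ∧ h ⁻¹' {y} ⊆ (ι ⁻¹ᵁ W : Set Dt) := by
    intro y
    obtain ⟨O, hO, hyO, -⟩ := exists_isAffineOpen_mem_and_subset (x := j y) (U := ⊤) trivial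
    refine ⟨b ⁻¹ᵁ O, hO.preimage b, ?_⟩
    rintro z (rfl : h z = y)
    show b (ι z) ∈ O
    rw [← Scheme.Hom.comp_apply, hP.w, Scheme.Hom.comp_apply]
    exact hyO
  have hg := Ferrand.GluedBy.of_isPushout (Ferrand.cover_of_integral ι h haff) hP
  have e : ι ⁻¹ᵁ (b ⁻¹ᵁ U) ≤ h ⁻¹ᵁ (j ⁻¹ᵁ U) := by
    rw [← Scheme.Hom.comp_preimage, ← Scheme.Hom.comp_preimage, hP.w]
  refine ⟨e, ?_⟩
  have hsq := (hg.affSq_restrict U hU e).sq
  refine hsq.congr_iso U.topIso.commRingCatIsoToRingEquiv (j ⁻¹ᵁ U).topIso.commRingCatIsoToRingEquiv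
    (b ⁻¹ᵁ U).topIso.commRingCatIsoToRingEquiv (ι ⁻¹ᵁ (b ⁻¹ᵁ U)).topIso.commRingCatIsoToRingEquiv
    _ _ _ _ (fun x => ?_) (fun x => ?_) (fun x => ?_) (fun x => ?_)
  · have : (j.resLE U (j ⁻¹ᵁ U) le_rfl).appTop ≫ (j ⁻¹ᵁ U).topIso.hom = U.topIso.hom ≫ j.app U := by
      rw [show (j.resLE U (j ⁻¹ᵁ U) le_rfl).appTop = (j.resLE U (j ⁻¹ᵁ U) le_rfl).app ⊤ from rfl,
        Scheme.Hom.resLE_app_top]
      simp only [Category.assoc, Iso.inv_hom_id, Category.comp_id, Scheme.Hom.appLE_eq_app]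
    exact (congr($(this) x)).symm
  · have : (b.resLE U (b ⁻¹ᵁ U) le_rfl).appTop ≫ (b ⁻¹ᵁ U).topIso.hom = U.topIso.hom ≫ b.app U := by
      rw [show (b.resLE U (b ⁻¹ᵁ U) le_rfl).appTop = (b.resLE U (b ⁻¹ᵁ U) le_rfl).app ⊤ from rfl,
        Scheme.Hom.resLE_app_top]
      simp only [Category.assoc, Iso.inv_hom_id, Category.comp_id, Scheme.Hom.appLE_eq_app]
    exact (congr($(this) x)).symm
  · have : (h.resLE (j ⁻¹ᵁ U) (ι ⁻¹ᵁ (b ⁻¹ᵁ U)) e).appTop ≫ (ι ⁻¹ᵁ (b ⁻¹ᵁ U)).topIso.hom =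
        (j ⁻¹ᵁ U).topIso.hom ≫ h.appLE (j ⁻¹ᵁ U) (ι ⁻¹ᵁ (b ⁻¹ᵁ U)) e := by
      rw [show (h.resLE (j ⁻¹ᵁ U) (ι ⁻¹ᵁ (b ⁻¹ᵁ U)) e).appTop =
        (h.resLE (j ⁻¹ᵁ U) (ι ⁻¹ᵁ (b ⁻¹ᵁ U)) e).app ⊤ from rfl, Scheme.Hom.resLE_app_top]
      simp only [Category.assoc, Iso.inv_hom_id, Category.comp_id]
    exact (congr($(this) x)).symm
  · have : (ι.resLE (b ⁻¹ᵁ U) (ι ⁻¹ᵁ (b ⁻¹ᵁ U)) le_rfl).appTop ≫ (ι ⁻¹ᵁ (b ⁻¹ᵁ U)).topIso.hom =
        (b ⁻¹ᵁ U).topIso.hom ≫ ι.app (b ⁻¹ᵁ U) := by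
      rw [show (ι.resLE (b ⁻¹ᵁ U) (ι ⁻¹ᵁ (b ⁻¹ᵁ U)) le_rfl).appTop =
        (ι.resLE (b ⁻¹ᵁ U) (ι ⁻¹ᵁ (b ⁻¹ᵁ U)) le_rfl).app ⊤ from rfl, Scheme.Hom.resLE_app_top]
      simp only [Category.assoc, Iso.inv_hom_id, Category.comp_id, Scheme.Hom.appLE_eq_app]
    exact (congr($(this) x)).symm

theorem flat_iff_quot {Z X' S : Scheme.{u}} (c : Z ⟶ X') [IsClosedImmersion c] (g : X' ⟶ S)
    (V : S.Opens) (U : X'.affineOpens) (e : U.1 ≤ g ⁻¹ᵁ V) :
    ((c ≫ g).appLE V (c ⁻¹ᵁ U.1) (fun _ hz => e hz)).hom.Flat ↔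
      ((Ideal.Quotient.mk (c.ker.ideal U)).comp (g.appLE V U.1 e).hom).Flat := by
  have hsurj : Function.Surjective (c.app U.1).hom := c.app_surjective U.1 U.2
  let ε := RingHom.quotientKerEquivOfSurjective hsurj
  have he : ((c ≫ g).appLE V (c ⁻¹ᵁ U.1) (fun _ hz => e hz)).hom =
      (c.app U.1).hom.comp (g.appLE V U.1 e).hom := by
    rw [← Scheme.Hom.appLE_comp_appLE c g V U.1 (c ⁻¹ᵁ U.1) e le_rfl, Scheme.Hom.appLE_eq_app]
    rfl
  rw [he, Scheme.Hom.ker_apply]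
  constructor
  · intro hf
    have hc : (Ideal.Quotient.mk (RingHom.ker (c.app U.1).hom)).comp (g.appLE V U.1 e).hom =
        ε.symm.toRingHom.comp ((c.app U.1).hom.comp (g.appLE V U.1 e).hom) :=
      RingHom.ext fun x => ε.injective ((RingEquiv.apply_symm_apply ε _).trans rfl).symm
    rw [hc]
    exact hf.comp (RingHom.Flat.of_bijective ε.symm.bijective)
  · intro hf
    have hc : (c.app U.1).hom.comp (g.appLE V U.1 e).hom =
        ε.toRingHom.comp ((Ideal.Quotient.mk (RingHom.ker (c.app U.1).hom)).comp (g.appLE V U.1 e).hom) :=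
      RingHom.ext fun x => rfl
    rw [hc]
    exact hf.comp (RingHom.Flat.of_bijective ε.bijective)

theorem flat_of_cover {Z X' S : Scheme.{u}} (c : Z ⟶ X') [IsClosedImmersion c] (g : X' ⟶ S)
    (H : ∀ x : X', ∃ (V : S.affineOpens) (U : X'.affineOpens) (e : U.1 ≤ g ⁻¹ᵁ V.1), x ∈ U.1 ∧
      ((Ideal.Quotient.mk (c.ker.ideal U)).comp (g.appLE V.1 U.1 e).hom).Flat) :
    Flat (c ≫ g) := by
  rw [HasRingHomProperty.iff_exists_appLE (P := @Flat)
    (RingHom.Flat.stableUnderComposition.stableUnderCompositionWithLocalizationAway RingHom.Flat.holdsForLocalizationAway).left]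
  intro z
  obtain ⟨V, U, e, hzU, hf⟩ := H (c z)
  exact ⟨V, ⟨c ⁻¹ᵁ U.1, U.2.preimage c⟩, hzU, fun _ hz => e hz, (flat_iff_quot c g V.1 U e).2 hf⟩

theorem flat_thick {S Xt Dt : Scheme.{u}} (ι : Dt ⟶ Xt) [IsClosedImmersion ι]
    (hι : BlowUp.IsEffCartierIdeal ι.ker) (g : Xt ⟶ S) [Flat (ι ≫ g)] (n : ℕ) :
    Flat ((ι.ker ^ (n + 1)).subschemeι ≫ g) := by
  refine flat_of_cover _ g fun x => ?_
  obtain ⟨V, hV, hxV, -⟩ := exists_isAffineOpen_mem_and_subset (x := g x) (U := ⊤) trivial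
  obtain ⟨U, hxU, hle, t, ht, htU⟩ := EffCartier.exists_gen hι x (W := g ⁻¹ᵁ V) hxV
  refine ⟨⟨V, hV⟩, U, hle, hxU, ?_⟩
  have h1 := (flat_iff_quot ι g V U hle).1
    (Flat.flat_appLE (ι ≫ g) hV (U.2.preimage ι) _)
  rw [htU] at h1
  rw [Scheme.IdealSheafData.ker_subschemeι, Scheme.IdealSheafData.ideal_pow, Pi.pow_apply, htU]
  exact flat_quotient_pow _ ht h1 n

theorem comap_ker {Xt Dt D X : Scheme.{u}} (ι : Dt ⟶ Xt) [IsClosedImmersion ι] (h : Dt ⟶ D) [IsFinite h]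
    [Surjective h] (b : Xt ⟶ X) [IsAffineHom b] (j : D ⟶ X) [IsClosedImmersion j] (hP : IsPushout ι h b j) :
    j.ker.comap b = ι.ker := by
  refine Scheme.IdealSheafData.ext_of_iSup_eq_top
    (fun U : X.affineOpens => (⟨b ⁻¹ᵁ U.1, U.2.preimage b⟩ : Xt.affineOpens)) ?_ fun U => ?_
  · rw [eq_top_iff]
    intro x _
    obtain ⟨U, hU, hxU, -⟩ := exists_isAffineOpen_mem_and_subset (x := b x) (U := ⊤) trivial
    exact TopologicalSpace.Opens.mem_iSup.2 ⟨⟨U, hU⟩, hxU⟩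
  · obtain ⟨e, hsq⟩ := sqU ι h b j hP U.1 U.2
    rw [Comap.ideal_comap b j.ker U ⟨b ⁻¹ᵁ U.1, U.2.preimage b⟩ le_rfl, Scheme.Hom.appLE_eq_app,
      Scheme.Hom.ker_apply, Scheme.Hom.ker_apply]
    exact map_ker hsq

theorem exists_span {X T : Scheme.{u}} (I : X.IdealSheafData) (g : T ⟶ X)
    (hg : BlowUp.IsEffCartierIdeal (I.comap g)) (y : T) :
    ∃ (U : X.affineOpens) (a : Γ(X, U.1)) (W : T.affineOpens) (e : W.1 ≤ g ⁻¹ᵁ U.1),
      a ∈ I.ideal U ∧ y ∈ W.1 ∧ g.appLE U.1 W.1 e a ∈ nonZeroDivisors Γ(T, W.1) ∧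
        Ideal.map (g.appLE U.1 W.1 e).hom (I.ideal U) = Ideal.span {g.appLE U.1 W.1 e a} := by
  obtain ⟨U, hU, hyU, -⟩ :=
    exists_isAffineOpen_mem_and_subset (show g y ∈ (⊤ : X.Opens) from trivial)
  obtain ⟨W, hyW, hle, t, ht, htW⟩ := EffCartier.exists_gen hg y (show y ∈ g ⁻¹ᵁ U from hyU)
  have hmap : (I.comap g).ideal W = Ideal.map (g.appLE U W.1 hle).hom (I.ideal ⟨U, hU⟩) :=
    Comap.ideal_comap g I ⟨U, hU⟩ W hle
  have key : ∃ a ∈ I.ideal ⟨U, hU⟩, ∃ c : Γ(T, W.1),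
      g.appLE U W.1 hle a = c * t ∧ y ∈ T.basicOpen c := by
    by_contra hcon
    push Not at hcon
    set p := (W.2.primeIdealOf ⟨y, hyW⟩).asIdeal with hp
    have hsub : Ideal.map (g.appLE U W.1 hle).hom (I.ideal ⟨U, hU⟩) ≤ p * Ideal.span {t} := by
      rw [Ideal.map_le_iff_le_comap]
      intro a ha
      obtain ⟨c, hc⟩ := Ideal.mem_span_singleton'.mp
        (htW ▸ hmap.symm ▸ Ideal.mem_map_of_mem (g.appLE U W.1 hle).hom ha)
      rw [Ideal.mem_comap, ← hc]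
      refine Ideal.mul_mem_mul ?_ (Ideal.mem_span_singleton_self t)
      by_contra hcp
      exact hcon a ha c hc.symm ((EffCartier.mem_basicOpen_iff_notMem_prime W.2 hyW c).mpr hcp)
    obtain ⟨q, hq, hqt⟩ := Ideal.mem_mul_span_singleton.mp
      (hsub (hmap ▸ htW.symm ▸ Ideal.mem_span_singleton_self t))
    have : q = 1 := (mul_cancel_right_mem_nonZeroDivisors ht).mp (hqt.trans (one_mul t).symm)
    exact (W.2.primeIdealOf ⟨y, hyW⟩).2.ne_top ((Ideal.eq_top_iff_one _).mpr (this ▸ hq))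
  obtain ⟨a, ha, c, hac, hyc⟩ := key
  have hle' : T.basicOpen c ≤ W.1 := T.basicOpen_le c
  have hspan : (I.comap g).ideal ⟨_, W.2.basicOpen c⟩ =
      Ideal.span {g.appLE U (T.basicOpen c) (hle'.trans hle) a} := by
    rw [EffCartier.ideal_eq_span_of_le (U := W) (V := ⟨_, W.2.basicOpen c⟩) hle' htW,
      ← BlowUpExists.appLE_res g hle' hle, hac, map_mul]
    exact (Ideal.span_singleton_mul_left_unit (RingedSpace.isUnit_res_basicOpen _ c) _).symm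
  refine ⟨⟨U, hU⟩, a, ⟨_, W.2.basicOpen c⟩, hle'.trans hle, ha, hyc,
    BlowUpExists.gen_mem_nonZeroDivisors hg hspan, ?_⟩
  rw [← Comap.ideal_comap g I ⟨U, hU⟩ ⟨_, W.2.basicOpen c⟩ (hle'.trans hle)]
  exact hspan

theorem local_unique {Xt Dt D X T : Scheme.{u}} (ι : Dt ⟶ Xt) [IsClosedImmersion ι] (h : Dt ⟶ D) [IsFinite h]
    [Surjective h] (b : Xt ⟶ X) [IsAffineHom b] (j : D ⟶ X) [IsClosedImmersion j] (hP : IsPushout ι h b j)
    (g : T ⟶ X) (U : X.affineOpens) (a : Γ(X, U.1)) (W : T.affineOpens) (e : W.1 ≤ g ⁻¹ᵁ U.1)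
    (ha : a ∈ j.ker.ideal U) (hnz : g.appLE U.1 W.1 e a ∈ nonZeroDivisors Γ(T, W.1))
    (hspan : Ideal.map (g.appLE U.1 W.1 e).hom (j.ker.ideal U) = Ideal.span {g.appLE U.1 W.1 e a}) :
    (∃ k : (W.1 : Scheme.{u}) ⟶ Xt, k ≫ b = W.1.ι ≫ g) ∧
      ∀ k k' : T ⟶ Xt, k ≫ b = g → k' ≫ b = g → W.1.ι ≫ k = W.1.ι ≫ k' := by
  obtain ⟨eU, hsq⟩ := sqU ι h b j hP U.1 U.2
  rw [Scheme.Hom.ker_apply] at ha hspan
  obtain ⟨ψ, hψ, huniq⟩ := existsUnique_hom hsq (g.appLE U.1 W.1 e).hom a ha hnz hspan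
  have hbU : IsAffineOpen (b ⁻¹ᵁ U.1) := U.2.preimage b
  constructor
  · refine ⟨W.2.isoSpec.hom ≫ Spec.map (CommRingCat.ofHom ψ) ≫ hbU.fromSpec, ?_⟩
    have h1 : hbU.fromSpec ≫ b = Spec.map (b.app U.1) ≫ U.2.fromSpec := by
      rw [← Scheme.Hom.appLE_eq_app, IsAffineOpen.SpecMap_appLE_fromSpec b U.2 hbU le_rfl]
    have h2 : b.app U.1 ≫ CommRingCat.ofHom ψ = g.appLE U.1 W.1 e := CommRingCat.hom_ext hψ
    rw [Category.assoc, Category.assoc, h1, ← Spec.map_comp_assoc, h2,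
      IsAffineOpen.SpecMap_appLE_fromSpec g U.2 W.2 e, IsAffineOpen.isoSpec_hom_fromSpec_assoc]
  · intro k k' hk hk'
    have key : ∀ l : T ⟶ Xt, l ≫ b = g → ∃ el : W.1 ≤ l ⁻¹ᵁ (b ⁻¹ᵁ U.1),
        (l.appLE (b ⁻¹ᵁ U.1) W.1 el).hom = ψ := by
      intro l hl
      subst hl
      refine ⟨e, huniq _ ?_⟩
      show (b.app U.1 ≫ l.appLE (b ⁻¹ᵁ U.1) W.1 e).hom = ((l ≫ b).appLE U.1 W.1 e).hom
      rw [← Scheme.Hom.appLE_eq_app, Scheme.Hom.appLE_comp_appLE]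
    obtain ⟨el, hl⟩ := key k hk
    obtain ⟨el', hl'⟩ := key k' hk'
    have := IsAffineOpen.SpecMap_appLE_fromSpec k hbU W.2 el
    have h' := IsAffineOpen.SpecMap_appLE_fromSpec k' hbU W.2 el'
    rw [show k.appLE (b ⁻¹ᵁ U.1) W.1 el = k'.appLE (b ⁻¹ᵁ U.1) W.1 el' from
      CommRingCat.hom_ext (hl.trans hl'.symm), h'] at this
    rw [← W.2.isoSpec_hom_fromSpec, Category.assoc, Category.assoc, this]

theorem isBlowUp {Xt Dt D X : Scheme.{u}} (ι : Dt ⟶ Xt) [IsClosedImmersion ι]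
    (hι : BlowUp.IsEffCartierIdeal ι.ker) (h : Dt ⟶ D) [IsFinite h] [Surjective h]
    (b : Xt ⟶ X) [IsAffineHom b] (j : D ⟶ X) [IsClosedImmersion j] (hP : IsPushout ι h b j) :
    BlowUp.IsBlowUp b j.ker := by
  refine ⟨by rw [comap_ker ι h b j hP]; exact hι, fun T g hg => ?_⟩
  have uniq : ∀ {T : Scheme.{u}} (g : T ⟶ X), BlowUp.IsEffCartierIdeal (j.ker.comap g) →
      ∀ k k' : T ⟶ Xt, k ≫ b = g → k' ≫ b = g → k = k' := by
    intro T g hg k k' hk hk'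
    choose U a W e ha hyW hnz hspan using exists_span j.ker g hg
    exact (T.openCoverOfIsOpenCover (fun y => (W y).1) (TopologicalSpace.IsOpenCover.mk
      (eq_top_iff.mpr fun y _ => TopologicalSpace.Opens.mem_iSup.mpr ⟨y, hyW y⟩))).hom_ext _ _
        fun y => (local_unique ι h b j hP g _ _ _ _ (ha y) (hnz y) (hspan y)).2 k k' hk hk'
  choose U a W e ha hyW hnz hspan using exists_span j.ker g hg
  choose k hk using fun y => (local_unique ι h b j hP g _ _ _ _ (ha y) (hnz y) (hspan y)).1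
  let 𝒰 := T.openCoverOfIsOpenCover (fun y => (W y).1) (TopologicalSpace.IsOpenCover.mk
    (eq_top_iff.mpr fun y _ => TopologicalSpace.Opens.mem_iSup.mpr ⟨y, hyW y⟩))
  have hl : 𝒰.glueMorphisms k (fun y y' => uniq (pullback.fst (W y).1.ι (W y').1.ι ≫ (W y).1.ι ≫ g)
      (by
        rw [← Category.assoc, Scheme.IdealSheafData.comap_comp]
        exact EffCartier.isEffCartier_comap_of_flat _ hg)
      _ _
      ((Category.assoc _ _ _).trans (congrArg (pullback.fst _ _ ≫ ·) (hk y)))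
      ((Category.assoc _ _ _).trans ((congrArg (pullback.snd _ _ ≫ ·) (hk y')).trans
        (pullback.condition_assoc g).symm))) ≫ b = g := by
    refine 𝒰.hom_ext _ _ fun y => ?_
    rw [← Category.assoc]
    exact (congrArg (· ≫ b) (𝒰.ι_glueMorphisms _ _ y)).trans (hk y)
  exact ⟨_, hl, fun l hl' => uniq g hg _ _ hl' hl⟩


/-- Let ι : D̃ → X̃ be a closed immersion whose ideal is effective Cartier, h : D̃ → D finite flat
surjective, all flat over a scheme S, and let (ι, h, b : X̃ → X, j : D → X) be a pushout of schemes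
with b affine and j a closed immersion, X carrying the induced morphism to S. Then the closed
subschemes of X defined by the powers I_D^n, n ≥ 1, are flat over S (so blowing up X in I_D commutes
with base change), b is a blowing up of X in I_D, and the inverse image ideal of I_D along b is the
ideal of D̃: the pair (X̃, D̃) is recovered from (X, D) by blowing up. (The published statement
assumes all three schemes proper, flat and finitely presented over S and D̃ → D only finite flat,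
takes for X the pushout built affine-locally from fibre products of rings — for which X̃ → X is
affine and D → X a closed immersion — and also asserts that X is proper and finitely presented over
S; this row assumes only flatness over S and D̃ → D surjective, takes such a pushout as given, and
does not assert properness or finite presentation of X. The affineness of X̃ → X cannot be dropped:
the affine line with doubled origin, with its two origins pinched to one point, has the affine line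
itself as pushout in the category of schemes, and the line is its own blowing up at the origin.) -/
theorem result {S Xt Dt D X : Scheme.{u}}
    (ι : Dt ⟶ Xt) [IsClosedImmersion ι] (hι : BlowUp.IsEffCartierIdeal ι.ker)
    (h : Dt ⟶ D) [IsFinite h] [Flat h] [Surjective h]
    (b : Xt ⟶ X) [IsAffineHom b] (j : D ⟶ X) [IsClosedImmersion j] (hP : IsPushout ι h b j)
    (sX : X ⟶ S) [Flat (b ≫ sX)] [Flat (j ≫ sX)] [Flat (ι ≫ b ≫ sX)] :
    (∀ n : ℕ, 1 ≤ n → Flat ((j.ker ^ n).subschemeι ≫ sX)) ∧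
    BlowUp.IsBlowUp b j.ker ∧ j.ker.comap b = ι.ker := by
  refine ⟨fun n hn => ?_, isBlowUp ι hι h b j hP, comap_ker ι h b j hP⟩
  obtain ⟨m, rfl⟩ : ∃ m, n = m + 1 := ⟨n - 1, by omega⟩
  refine flat_of_cover _ sX fun x => ?_
  obtain ⟨V, hV, hxV, -⟩ := exists_isAffineOpen_mem_and_subset (x := sX x) (U := ⊤) trivial
  obtain ⟨U, hU, hxU, hle'⟩ := exists_isAffineOpen_mem_and_subset (x := x) (U := sX ⁻¹ᵁ V) hxV
  have hle : U ≤ sX ⁻¹ᵁ V := hle'
  refine ⟨⟨V, hV⟩, ⟨U, hU⟩, hle, hxU, ?_⟩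
  obtain ⟨e, hsq⟩ := sqU ι h b j hP U hU
  rw [Scheme.IdealSheafData.ker_subschemeι, Scheme.IdealSheafData.ideal_pow, Pi.pow_apply,
    Scheme.Hom.ker_apply]
  have hbU : IsAffineOpen (b ⁻¹ᵁ U) := hU.preimage b
  haveI : Flat ((ι.ker ^ (m + 1)).subschemeι ≫ b ≫ sX) := flat_thick ι hι (b ≫ sX) m
  have h1 := (flat_iff_quot (ι.ker ^ (m + 1)).subschemeι (b ≫ sX) V ⟨b ⁻¹ᵁ U, hbU⟩ (fun z hz => hle hz)).1
    (Flat.flat_appLE _ hV (hbU.preimage _) _)
  rw [Scheme.IdealSheafData.ker_subschemeι, Scheme.IdealSheafData.ideal_pow, Pi.pow_apply,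
    Scheme.Hom.ker_apply] at h1
  have hb : (b ≫ sX).appLE V (b ⁻¹ᵁ U) (fun z hz => hle hz) = sX.appLE V U hle ≫ b.app U := by
    rw [← Scheme.Hom.appLE_eq_app, Scheme.Hom.appLE_comp_appLE]
  rw [hb] at h1
  have h2 : ((sX.appLE V U hle ≫ j.app U)).hom.Flat := by
    rw [← Scheme.Hom.appLE_eq_app, Scheme.Hom.appLE_comp_appLE]
    exact Flat.flat_appLE (j ≫ sX) hV (hU.preimage j) _
  have h3 : ((sX.appLE V U hle ≫ j.app U) ≫ h.appLE (j ⁻¹ᵁ U) (ι ⁻¹ᵁ (b ⁻¹ᵁ U)) e).hom.Flat := by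
    haveI : Flat (h ≫ j ≫ sX) := by
      rw [← Category.assoc, ← hP.w, Category.assoc]
      infer_instance
    rw [← Scheme.Hom.appLE_eq_app, Scheme.Hom.appLE_comp_appLE, Scheme.Hom.appLE_comp_appLE]
    exact Flat.flat_appLE (h ≫ j ≫ sX) hV ((hU.preimage b).preimage ι) _
  exact Ferrand.IsSq.flat (quotient_pow hsq m)
    ((Ideal.Quotient.mk _).comp (sX.appLE V U hle).hom) h2 h1 h3

end Groth.Agent.S14099
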