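import Groth.Statements.S1410
import Groth.Agent.Lib.Amp36.DegreeZero

set_option autoImplicit false
universe u
open FlatMor

namespace Groth.Agent.S1410

open AlgebraicGeometry CategoryTheory Limits in
/-- Let f : X → Y be proper with every fibre of dimension at most 1 and with H^1(X_y, O) = 0 for all y,
and assume O_Y → f_* O_X is surjective (checked on affine opens). Then for every base change f' : X'
→ Y' of f, O_{Y'} → f'_* O_{X'} is surjective on every affine open of Y'. -/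
theorem result {X Y : Scheme.{u}} (f : X ⟶ Y) [IsProper f]
    (hdim : ∀ y : Y, topologicalKrullDim ↑(f.fiber y) ≤ 1) (hH1 : ∀ y : Y, Subsingleton (Coh.HH (f.fiber y) (Coh.structureModule (f.fiber y)) 1))
    (hsurj : ∀ U : Y.Opens, IsAffineOpen U → Function.Surjective (f.app U))
    {X' Y' : Scheme.{u}} (f' : X' ⟶ Y') (g' : X' ⟶ X) (g : Y' ⟶ Y) (hc : IsPullback g' f' f g) :
    ∀ U' : Y'.Opens, IsAffineOpen U' → Function.Surjective (f'.app U') := by
  intro U' hU x
  haveI : IsProper f' := MorphismProperty.of_isPullback hc inferInstance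
  have hK : IsCompact (f' ⁻¹ᵁ U').1 := QuasiCompact.isCompact_preimage _ U'.2 hU.isCompact
  -- the ideal of elements carrying `x` into the image
  let I : Ideal Γ(Y', U') :=
    { carrier := {a | f'.app U' a * x ∈ Set.range (f'.app U')}
      zero_mem' := ⟨0, by simp⟩
      add_mem' := by
        rintro a b ⟨c, hc⟩ ⟨d, hd⟩
        exact ⟨c + d, by rw [map_add, map_add, hc, hd, add_mul]⟩
      smul_mem' := by
        rintro a b ⟨c, hc⟩
        exact ⟨a * c, by rw [smul_eq_mul, map_mul, map_mul, hc, mul_assoc]⟩ }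
  suffices hI : I = ⊤ by
    obtain ⟨c, hc⟩ := (hI ▸ Submodule.mem_top : (1 : Γ(Y', U')) ∈ I)
    exact ⟨c, by rw [hc, map_one, one_mul]⟩
  by_contra hne
  obtain ⟨m, hm, hle⟩ := Ideal.exists_le_maximal I hne
  let pt : PrimeSpectrum Γ(Y', U') := ⟨m, hm.isPrime⟩
  have hy' : hU.fromSpec pt ∈ U' := by
    have : hU.fromSpec pt ∈ Set.range hU.fromSpec := ⟨pt, rfl⟩
    rwa [hU.range_fromSpec] at this
  obtain ⟨W, hW, hyW, -⟩ := exists_isAffineOpen_mem_and_subset (U := (⊤ : Y.Opens))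
    (x := g (hU.fromSpec pt)) trivial
  obtain ⟨b, hb, hyb⟩ := hU.exists_basicOpen_le (V := g ⁻¹ᵁ W) ⟨hU.fromSpec pt, hyW⟩ hy'
  have hbm : b ∉ m := by
    have h1 : pt ∈ hU.fromSpec ⁻¹ᵁ Y'.basicOpen b := hyb
    rw [hU.fromSpec_preimage_basicOpen] at h1
    exact h1
  have hsb := Groth.Agent.Lib.Amp36.DegreeZero.surjective_app f hW (fun t _ => hdim t)
    (fun t _ => hH1 t) (hsurj W hW) hc (hU.basicOpen b) hb
  obtain ⟨c, hc'⟩ := hsb (X'.presheaf.map (homOfLE (f'.preimage_mono (Y'.basicOpen_le b))).op x)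
  haveI := hU.isLocalization_basicOpen b
  obtain ⟨a, ⟨_, k, rfl⟩, rfl⟩ := IsLocalization.exists_mk'_eq (Submonoid.powers b) c
  have hres : ∀ t, f'.app (Y'.basicOpen b) (algebraMap Γ(Y', U') Γ(Y', Y'.basicOpen b) t) =
      X'.presheaf.map (homOfLE (f'.preimage_mono (Y'.basicOpen_le b))).op (f'.app U' t) := fun t =>
    ConcreteCategory.congr_hom (f'.naturality (homOfLE (Y'.basicOpen_le b)).op) t
  have heq := congrArg (fun z => f'.app (Y'.basicOpen b) z)
    (IsLocalization.mk'_spec Γ(Y', Y'.basicOpen b) a (⟨b ^ k, k, rfl⟩ : Submonoid.powers b))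
  simp only [map_mul, hc', hres] at heq
  rw [← map_mul, ← sub_eq_zero, ← map_sub] at heq
  let d : Γ(X', f' ⁻¹ᵁ U') := x * f'.app U' (b ^ k) - f'.app U' a
  have hd : d |_ X'.basicOpen (f'.app U' b) = 0 := by
    have he : X'.basicOpen (f'.app U' b) ≤ f' ⁻¹ᵁ Y'.basicOpen b :=
      (Scheme.preimage_basicOpen f' b).ge
    have h2 := congrArg (X'.presheaf.map (homOfLE he).op) heq
    rw [map_zero, ← CommRingCat.comp_apply, ← Functor.map_comp] at h2
    exact h2
  obtain ⟨n, hn⟩ := exists_pow_mul_eq_zero_of_res_basicOpen_eq_zero_of_isCompact X' hK d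
    (f'.app U' b) hd
  have hmem : b ^ (n + k) ∈ I := by
    refine ⟨b ^ n * a, ?_⟩
    simp only [d, mul_sub, sub_eq_zero] at hn
    rw [map_mul, map_pow, ← hn, pow_add, map_mul, map_pow, map_pow]
    ring
  exact hbm (hm.isPrime.mem_of_pow_mem _ (hle hmem))

end Groth.Agent.S1410
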