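import Groth.Statements.S14100
import Groth.Agent.Lib.DerCat.TStruct

set_option autoImplicit false
universe w v u
open DCoh

namespace Groth.Agent.S14100

open CategoryTheory CategoryTheory.Limits CategoryTheory.Pretriangulated DerivedCategory in
theorem ghost {C : Type u} [Category.{v} C] [Abelian C] [HasDerivedCategory.{w} C]
    (a : ℤ) (n : ℕ) : ∀ (K : ℕ ⥤ DerivedCategory C),
    (∀ i : ℕ, i ≤ n + 1 → (K.obj i).IsGE a) → (∀ i : ℕ, i ≤ n + 1 → (K.obj i).IsLE (a + n)) →
    (∀ i : ℕ, i ≤ n → ∀ q : ℤ, (homologyFunctor C q).map (K.map (homOfLE (Nat.le_succ i))) = 0) →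
      K.map (homOfLE (Nat.zero_le (n + 1))) = 0 := by
  induction n with
  | zero =>
    intro K hGE hLE h
    haveI := hGE 0 (by omega)
    haveI := hGE 1 (by omega)
    haveI : (K.obj 0).IsLE a := by simpa using hLE 0 (by omega)
    haveI : (K.obj (0 + 1)).IsLE a := by simpa using hLE 1 (by omega)
    exact Groth.Agent.Lib.DerCat.TStruct.eq_zero_of_homologyMap_eq_zero a _ (h 0 le_rfl a)
  | succ n ih =>
    intro K hGE hLE h
    let b : ℤ := a + n + 1
    let T := (DerivedCategory.TStructure.t (C := C)).truncLT b
    let ι := (DerivedCategory.TStructure.t (C := C)).truncLTι b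
    let π := (DerivedCategory.TStructure.t (C := C)).truncGEπ b
    let K' : ℕ ⥤ DerivedCategory C :=
      (Monotone.functor (f := fun i : ℕ => i + 1) fun i j hij => Nat.add_le_add_right hij 1) ⋙ K ⋙ T
    have hT : K'.map (homOfLE (Nat.zero_le (n + 1))) = 0 := by
      refine ih K' (fun i hi => ?_) (fun i hi => ?_) fun i hi q => ?_
      · haveI := hGE (i + 1) (by omega)
        exact inferInstanceAs (TStructure.t.IsGE ((TStructure.t.truncLT b).obj (K.obj (i + 1))) a)
      · exact TStructure.t.isLE_truncLT_obj (K.obj (i + 1)) b (a + n) (by omega)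
      · exact Groth.Agent.Lib.DerCat.TStruct.homologyMap_truncLT_map_eq_zero _ b q
          fun _ => h (i + 1) (by omega) q
    let f := K.map (homOfLE (Nat.le_succ 0))
    have hπ : f ≫ π.app (K.obj (0 + 1)) = 0 := by
      haveI := hLE 0 (by omega)
      haveI := hLE 1 (by omega)
      have e : (n : ℤ) + 1 = ((n + 1 : ℕ) : ℤ) := by omega
      haveI : (((TStructure.t (C := C)).truncGE b).obj (K.obj 0)).IsLE b := by
        haveI : TStructure.t.IsLE (K.obj 0) b := by
          have := hLE 0 (by omega)
          simpa [b, add_assoc] using this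
        exact inferInstanceAs (TStructure.t.IsLE ((TStructure.t.truncGE b).obj (K.obj 0)) b)
      haveI : (((TStructure.t (C := C)).truncGE b).obj (K.obj (0 + 1))).IsLE b := by
        haveI : TStructure.t.IsLE (K.obj (0 + 1)) b := by
          have := hLE (0 + 1) (by omega)
          simpa [b, add_assoc] using this
        exact inferInstanceAs (TStructure.t.IsLE ((TStructure.t.truncGE b).obj (K.obj (0 + 1))) b)
      have h0 : (TStructure.t.truncGE b).map f = 0 :=
        Groth.Agent.Lib.DerCat.TStruct.eq_zero_of_homologyMap_eq_zero b _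
          (Groth.Agent.Lib.DerCat.TStruct.homologyMap_truncGE_map_eq_zero f b b
            fun _ => h 0 (by omega) b)
      have := π.naturality f
      simp only [Functor.id_map] at this
      rw [this, h0, comp_zero]
    obtain ⟨g, hg⟩ := Triangle.coyoneda_exact₂ _
      (TStructure.t.triangleLTGE_distinguished b (K.obj (0 + 1))) f hπ
    have hcomp : K.map (homOfLE (Nat.zero_le (n + 1 + 1))) =
        f ≫ K.map (homOfLE (show 0 + 1 ≤ n + 1 + 1 by omega)) := by
      rw [← K.map_comp]
      rfl
    have h2 : ι.app (K.obj (0 + 1)) ≫ K.map (homOfLE (show 0 + 1 ≤ n + 1 + 1 by omega)) = 0 := by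
      have h3 := ι.naturality (K.map (homOfLE (show 0 + 1 ≤ n + 1 + 1 by omega)))
      simp only [Functor.id_map] at h3
      have h4 : T.map (K.map (homOfLE (show 0 + 1 ≤ n + 1 + 1 by omega))) = 0 := hT
      rw [← h3, h4, zero_comp]
    rw [hcomp]
    refine (congrArg (· ≫ _) hg).trans ((Category.assoc _ _ _).trans ?_)
    exact (congrArg (g ≫ ·) h2).trans comp_zero


open CategoryTheory in
/-- Let C be an abelian category, a an integer and n a natural number, and let K_0 → K_1 → ⋯ → K_{n+1}
be composable morphisms in the derived category of C such that each K_i has cohomology concentrated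
in degrees a, …, a+n and each map K_i → K_{i+1} induces zero on every cohomology object. Then the
composite K_0 → K_{n+1} is zero. (The chain is given as a functor from the ordered set of natural
numbers; only its values on 0, …, n+1 matter.) -/
theorem result
    (C : Type u) [Category.{v} C] [Abelian C] [HasDerivedCategory.{w} C]
    (a : ℤ) (n : ℕ) (K : ℕ ⥤ DerivedCategory C)
    (hGE : ∀ i : ℕ, i ≤ n + 1 → (K.obj i).IsGE a)
    (hLE : ∀ i : ℕ, i ≤ n + 1 → (K.obj i).IsLE (a + n))
    (hzero : ∀ i : ℕ, i ≤ n → ∀ q : ℤ,
      (DerivedCategory.homologyFunctor C q).map (K.map (homOfLE (Nat.le_succ i))) = 0) :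
    K.map (homOfLE (Nat.zero_le (n + 1))) = 0 := by
  exact ghost a n K hGE hLE hzero

end Groth.Agent.S14100
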