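import Groth.Statements.S14101
import Groth.Agent.H21.SmoothRed
import Mathlib.RingTheory.Smooth.Locus
import Mathlib.RingTheory.Smooth.Field
import Mathlib.RingTheory.KrullDimension.Zero
import Mathlib.RingTheory.Ideal.MinimalPrime.Localization
import Mathlib.LinearAlgebra.TensorProduct.Quotient
import Mathlib.RingTheory.FinitePresentation
import Mathlib.FieldTheory.Perfect
import Mathlib.Algebra.Algebra.Rat
import Mathlib.RingTheory.Localization.FractionRing
import Mathlib.RingTheory.Ideal.Operations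
import Mathlib.RingTheory.RingHom.Smooth
import Mathlib.RingTheory.TensorProduct.Quotient
import Mathlib.RingTheory.Int.Basic
import Mathlib.Algebra.Ring.ULift

set_option autoImplicit false
universe u
open CAlg

namespace Groth.Agent.S14101

set_option linter.style.haveILetI false

lemma avoid {A : Type u} [CommRing A] (K : Ideal A) (Ps : Set (Ideal A)) (hfin : Ps.Finite)
    (hp : ∀ P ∈ Ps, P.IsPrime) (h : ∀ P ∈ Ps, ¬ K ≤ P) : ∃ d ∈ K, ∀ P ∈ Ps, d ∉ P := by
  classical
  by_contra hno
  push Not at hno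
  have hsub : (K : Set A) ⊆ ⋃ P ∈ (hfin.toFinset : Set (Ideal A)), (P : Set A) := by
    intro x hx
    obtain ⟨P, hP, hxP⟩ := hno x hx
    exact Set.mem_biUnion ((Set.Finite.mem_toFinset hfin).2 hP) hxP
  obtain ⟨P, hP, hle⟩ := (Ideal.subset_union_prime (f := fun P : Ideal A => P) (I := K) ⊥ ⊥
    (fun P hP _ _ => hp P ((Set.Finite.mem_toFinset hfin).1 hP))).1 hsub
  exact h P ((Set.Finite.mem_toFinset hfin).1 hP) hle

lemma smooth_of_charZero (K : Type u) [Field K] [CharZero K] [iK : Algebra ℤ K] [Algebra.EssFiniteType ℤ K] :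
    Algebra.FormallySmooth ℤ K := by
  letI : Algebra ℚ K := DivisionRing.toRatAlgebra
  haveI : @IsScalarTower ℤ ℚ K Algebra.toSMul Algebra.toSMul iK.toSMul :=
    @IsScalarTower.of_algebraMap_eq' ℤ ℚ K _ _ _ _ _ iK (RingHom.ext_int _ _)
  haveI : Algebra.EssFiniteType ℚ K := Algebra.EssFiniteType.of_comp ℤ ℚ K
  haveI : Algebra.FormallySmooth ℤ ℚ := Algebra.FormallySmooth.of_isLocalization (nonZeroDivisors ℤ)
  exact Algebra.FormallySmooth.comp ℤ ℚ K

lemma smoothAt_min {A : Type u} [CommRing A] [Algebra.FiniteType ℤ A] (P : Ideal A) [P.IsPrime]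
    [CharZero (Localization.AtPrime P)] (hK : IsField (Localization.AtPrime P)) :
    Algebra.FormallySmooth ℤ (Localization.AtPrime P) := by
  letI := hK.toField
  haveI : Algebra.EssFiniteType A (Localization.AtPrime P) :=
    Algebra.EssFiniteType.of_isLocalization _ P.primeCompl
  haveI : Algebra.EssFiniteType ℤ (Localization.AtPrime P) := Algebra.EssFiniteType.comp ℤ A _
  exact smooth_of_charZero _

lemma reduced_smooth_mod {R S : Type*} [CommRing R] [CommRing S] [Algebra R S] [Algebra.Smooth R S]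
    (I : Ideal R) [I.IsMaximal] (h : ∀ [Algebra.Smooth (R ⧸ I) (TensorProduct R (R ⧸ I) S)], IsReduced (TensorProduct R (R ⧸ I) S)) :
    IsReduced (S ⧸ I.map (algebraMap R S)) :=
  haveI := h
  isReduced_of_injective (Algebra.TensorProduct.quotIdealMapEquivQuotTensor S I).toRingEquiv.toRingHom
    (Algebra.TensorProduct.quotIdealMapEquivQuotTensor S I).injective

lemma reduced_mod {A : Type u} [CommRing A] (p : ℕ) (hp : p.Prime) (d : A) [Algebra.Smooth ℤ (Localization.Away d)]
    (hstep : ∀ x : A, d * x ∈ Ideal.span {(p : A)} → x ∈ Ideal.span {(p : A)}) :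
    IsReduced (A ⧸ Ideal.span {(p : A)}) := by
  let I : Ideal (ULift.{u} ℤ) := Ideal.span {(p : ULift.{u} ℤ)}
  haveI : I.IsMaximal := by
    have h0 : (Ideal.span {(p : ℤ)}).IsMaximal :=
      PrincipalIdealRing.isMaximal_of_irreducible (Nat.prime_iff_prime_int.mp hp).irreducible
    have : I = (Ideal.span {(p : ℤ)}).comap (ULift.ringEquiv.{0, u} : ULift.{u} ℤ ≃+* ℤ) := by
      rw [← Ideal.map_symm, Ideal.map_span, Set.image_singleton, map_natCast]
    rw [this]
    exact Ideal.comap_isMaximal_of_surjective _ (ULift.ringEquiv.{0, u} : ULift.{u} ℤ ≃+* ℤ).surjective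
  letI := Ideal.Quotient.field I
  let S := Localization.Away d
  let g : ULift.{u} ℤ →+* S := (algebraMap ℤ S).comp (ULift.ringEquiv.{0, u} : ULift.{u} ℤ ≃+* ℤ).toRingHom
  letI : Algebra (ULift.{u} ℤ) S := g.toAlgebra
  haveI : Algebra.Smooth (ULift.{u} ℤ) S := RingHom.smooth_algebraMap.1
    (RingHom.Smooth.comp (RingHom.Smooth.of_bijective (ULift.ringEquiv.{0, u} : ULift.{u} ℤ ≃+* ℤ).bijective)
      (RingHom.smooth_algebraMap.2 ‹Algebra.Smooth ℤ (Localization.Away d)›))
  haveI hR := reduced_smooth_mod (S := S) I (Groth.Agent.H21.SmoothRed.isReduced (ULift.{u} ℤ ⧸ I) _)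
  have hI : I.map (algebraMap (ULift.{u} ℤ) S) = Ideal.span {(p : S)} := by
    rw [Ideal.map_span, Set.image_singleton, map_natCast]
  refine ⟨fun q hq => ?_⟩
  obtain ⟨a, rfl⟩ := Ideal.Quotient.mk_surjective q
  obtain ⟨n, hn⟩ := hq
  rw [← map_pow, Ideal.Quotient.eq_zero_iff_mem, Ideal.mem_span_singleton] at hn
  rw [Ideal.Quotient.eq_zero_iff_mem]
  obtain ⟨y', hy'⟩ := hn
  have h0 : Ideal.Quotient.mk (I.map (algebraMap (ULift.{u} ℤ) S)) (algebraMap A S a) = 0 := by
    refine IsNilpotent.eq_zero ⟨n, ?_⟩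
    rw [← map_pow, ← map_pow, Ideal.Quotient.eq_zero_iff_mem, hI, hy', map_mul, map_natCast]
    exact Ideal.mul_mem_right _ _ (Ideal.mem_span_singleton_self _)
  rw [Ideal.Quotient.eq_zero_iff_mem, hI, Ideal.mem_span_singleton] at h0
  obtain ⟨w, hw⟩ := h0
  obtain ⟨⟨y, _, k, rfl⟩, hy⟩ := IsLocalization.surj (Submonoid.powers d) w
  have e1 : algebraMap A S (a * d ^ k) = algebraMap A S ((p : A) * y) := by
    rw [map_mul, map_mul, hw, ← hy, map_natCast, mul_assoc]
  obtain ⟨⟨_, j, rfl⟩, e2⟩ := (IsLocalization.eq_iff_exists (Submonoid.powers d) S).1 e1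
  have hpow : ∀ (m : ℕ) (x : A), d ^ m * x ∈ Ideal.span {(p : A)} → x ∈ Ideal.span {(p : A)} := by
    intro m
    induction m with
    | zero => intro x hx; simpa using hx
    | succ m ih => intro x hx; rw [pow_succ, mul_assoc] at hx; exact hstep x (ih _ hx)
  refine hpow (j + k) a (Ideal.mem_span_singleton.2 ⟨d ^ j * y, ?_⟩)
  simp only at e2
  linear_combination e2


/-- Affine form — let A be a reduced commutative ring of finite type over ℤ. Then for all but finitely
many prime numbers p the reduction A/pA is reduced. (The published statement is for a reduced scheme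
of finite type over ℤ; such a scheme has a finite affine open cover, so the affine form carries the
same content.) -/
theorem result
    (A : Type u) [CommRing A] [Algebra.FiniteType ℤ A] [IsReduced A] :
    {p : ℕ | p.Prime ∧ ¬ IsReduced (A ⧸ Ideal.span {(p : A)})}.Finite := by
  classical
  haveI : Algebra.FinitePresentation ℤ A := Algebra.FinitePresentation.of_finiteType.1 inferInstance
  haveI : IsNoetherianRing A := Algebra.FiniteType.isNoetherianRing ℤ A
  -- uniform annihilator of torsion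
  have hbd : ∀ K : Ideal A, ∃ N : ℕ, N ≠ 0 ∧ ∀ (n : ℕ) (a : A), n ≠ 0 → (n : A) * a ∈ K → (N : A) * a ∈ K := by
    intro K
    let F : ℕ →o Ideal A := ⟨fun m => Submodule.comap (LinearMap.mulLeft A ((m.factorial : ℕ) : A)) K,
      monotone_nat_of_le_succ fun m a ha => by
        simp only [Submodule.mem_comap, LinearMap.mulLeft_apply] at ha ⊢
        rw [Nat.factorial_succ, Nat.cast_mul, mul_assoc]
        exact K.mul_mem_left _ ha⟩
    obtain ⟨m, hm⟩ := monotone_stabilizes_iff_noetherian.2 inferInstance F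
    refine ⟨m.factorial, m.factorial_ne_zero, fun n a hn ha => ?_⟩
    have h2 : a ∈ F (max m n) := by
      obtain ⟨c, hc⟩ := Nat.dvd_factorial (Nat.pos_of_ne_zero hn) (le_max_right m n)
      show ((max m n).factorial : A) * a ∈ K
      rw [hc, Nat.cast_mul, mul_comm (n : A), mul_assoc]
      exact K.mul_mem_left _ ha
    rw [← hm _ (le_max_left _ _)] at h2
    exact h2
  obtain ⟨N, hN0, hN⟩ := hbd ⊥
  let Ps : Set (Ideal A) := {P | P ∈ minimalPrimes A ∧ (N : A) ∉ P}
  have hPfin : Ps.Finite := (minimalPrimes.finite_of_isNoetherianRing A).subset fun P h => h.1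
  obtain ⟨J, hJ⟩ := (PrimeSpectrum.isClosed_iff_zeroLocus_ideal _).1
    (Algebra.isOpen_smoothLocus (R := ℤ) (A := A)).isClosed_compl
  have hgen : ∀ P ∈ Ps, ¬ (J * Ideal.span {(N : A)} ≤ P) := by
    rintro P ⟨hP, hNP⟩ hle
    haveI : P.IsPrime := hP.1.1
    rcases (Ideal.IsPrime.mul_le this).1 hle with h | h
    · haveI : Ring.KrullDimLE 0 (Localization.AtPrime P) :=
        Ring.KrullDimLE.of_isLocalization P hP _
      letI : Field (Localization.AtPrime P) := Ring.KrullDimLE.isField_of_isReduced.toField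
      haveI : CharZero (Localization.AtPrime P) := by
        refine charZero_of_inj_zero fun n hn => ?_
        by_contra hne
        have h0 : algebraMap A (Localization.AtPrime P) ((n : ℕ) : A) = 0 := by rw [map_natCast, hn]
        obtain ⟨⟨s, hs⟩, e⟩ := (IsLocalization.map_eq_zero_iff P.primeCompl _ _).1 h0
        have := hN n s hne (by rw [Ideal.mem_bot, mul_comm]; exact e)
        rw [Ideal.mem_bot] at this
        exact (Ideal.IsPrime.mem_or_mem ‹_› (by rw [this]; exact zero_mem _)).elim hNP hs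
      have hs : (⟨P, ‹_›⟩ : PrimeSpectrum A) ∈ Algebra.smoothLocus ℤ A := smoothAt_min P (Field.toIsField _)
      have : (⟨P, ‹_›⟩ : PrimeSpectrum A) ∈ (Algebra.smoothLocus ℤ A)ᶜ := by
        rw [hJ]; exact h
      exact this hs
    · exact hNP ((Ideal.span_singleton_le_iff_mem _).1 h)
  obtain ⟨d, hd, hdP⟩ : ∃ d ∈ J * Ideal.span {(N : A)}, ∀ P ∈ Ps, d ∉ P :=
    avoid (J * Ideal.span {(N : A)}) Ps hPfin (fun P hP => hP.1.1.1) hgen
  have hdJ : d ∈ J := Ideal.mul_le_left (I := J) (J := Ideal.span {(N : A)}) hd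
  haveI : Algebra.Smooth ℤ (Localization.Away d) := by
    rw [← Algebra.basicOpen_subset_smoothLocus_iff_smooth]
    intro P hP
    by_contra hns
    have : P ∈ (Algebra.smoothLocus ℤ A)ᶜ := hns
    rw [hJ] at this
    exact hP (this hdJ)
  have hdz : ∀ x : A, d * x = 0 → (N : A) * x = 0 := by
    intro x hx
    refine IsNilpotent.eq_zero ?_
    rw [← mem_nilradical, nilradical, ← Ideal.sInf_minimalPrimes, Submodule.mem_sInf]
    intro (P : Ideal A) hP
    haveI : P.IsPrime := hP.1.1
    by_cases hNP : (N : A) ∈ P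
    · exact P.mul_mem_right _ hNP
    · exact P.mul_mem_left _ (((Ideal.IsPrime.mem_or_mem ‹_› (hx ▸ zero_mem P : d * x ∈ P))).resolve_left (hdP P ⟨hP, hNP⟩))
  obtain ⟨M, hM0, hM⟩ := hbd (Ideal.span {d})
  refine ((N * M).divisors.finite_toSet).subset ?_
  rintro p ⟨hp, hred⟩
  rw [Finset.mem_coe, Nat.mem_divisors]
  refine ⟨?_, Nat.mul_ne_zero hN0 hM0⟩
  by_contra hpd
  apply hred
  have hcop : ∀ m : ℕ, m ∣ N * M → ∃ a b : A, a * m + b * p = 1 := by
    intro m hm
    have : IsCoprime (m : ℤ) (p : ℤ) := Int.isCoprime_iff_nat_coprime.2 (by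
      simp only [Int.natAbs_natCast]
      exact ((hp.coprime_iff_not_dvd).2 fun h => hpd (h.trans hm)).symm)
    obtain ⟨a, b, hab⟩ := this
    exact ⟨a, b, by exact_mod_cast congrArg (fun z : ℤ => (z : A)) hab⟩
  -- d is a non-zero-divisor modulo p
  have hstep : ∀ x : A, d * x ∈ Ideal.span {(p : A)} → x ∈ Ideal.span {(p : A)} := by
    intro x hx
    obtain ⟨y, hy⟩ := Ideal.mem_span_singleton.1 hx
    obtain ⟨a, b, hab⟩ := hcop M (dvd_mul_left M N)
    have hMy : (M : A) * y ∈ Ideal.span {d} := hM p y hp.ne_zero (Ideal.mem_span_singleton.2 ⟨x, hy.symm⟩)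
    obtain ⟨z, hz⟩ := Ideal.mem_span_singleton.1 hMy
    have hy' : y = d * (a * z + b * x) := by
      linear_combination (-y) * hab + a * hz - b * hy
    obtain ⟨a', b', hab'⟩ := hcop N (dvd_mul_right N M)
    have := hdz (x - p * (a * z + b * x)) (by linear_combination hy + (p : A) * hy')
    exact Ideal.mem_span_singleton.2 ⟨a' * N * (a * z + b * x) + b' * x, by linear_combination (-x) * hab' + a' * this⟩
  exact reduced_mod p hp d hstep

end Groth.Agent.S14101
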