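import Groth.Statements.S14102
import Groth.Agent.S14100
import Groth.Agent.Lib.DR.Basic
import Mathlib.Algebra.Homology.ShortComplex.ModuleCat
import Mathlib.RingTheory.Filtration
import Mathlib.RingTheory.Flat.Basic

set_option autoImplicit false
universe w u
open DCoh

namespace Groth.Agent.S14102

section
open CategoryTheory MonoidalCategory Limits

variable {A : Type u} [CommRing A] (K : CochainComplex (ModuleCat.{u} A) ℤ)

/-- Tensoring the complex `K` with a module. -/
noncomputable def tens : ModuleCat.{u} A ⥤ CochainComplex (ModuleCat.{u} A) ℤ where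
  obj P := (((curriedTensor (ModuleCat.{u} A)).obj P).mapHomologicalComplex (ComplexShape.up ℤ)).obj K
  map f := (NatTrans.mapHomologicalComplex ((curriedTensor (ModuleCat.{u} A)).map f) (ComplexShape.up ℤ)).app K
  map_id P := by
    ext q : 1
    exact MonoidalCategory.id_whiskerRight P (K.X q)
  map_comp f g := by
    ext q : 1
    exact MonoidalCategory.comp_whiskerRight f g (K.X q)

/-- The multiplication map to the complex. -/
noncomputable def mult (J : Ideal A) (q : ℤ) :
    ((tens K).obj (ModuleCat.of A J)).X q →ₗ[A] K.X q :=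
  (TensorProduct.lid A (K.X q)).toLinearMap ∘ₗ (Submodule.subtype J).rTensor (K.X q)

theorem mult_tmul (J : Ideal A) (q : ℤ) (a : J) (x : K.X q) :
    mult K J q (a ⊗ₜ x) = (a : A) • x := rfl

theorem mult_injective (J : Ideal A) (q : ℤ) [Module.Projective A (K.X q)] :
    Function.Injective (mult K J q) :=
  (TensorProduct.lid A (K.X q)).injective.comp
    (Module.Flat.rTensor_preserves_injective_linearMap _ J.injective_subtype)

theorem mult_mem (J : Ideal A) (q : ℤ) (z : ((tens K).obj (ModuleCat.of A J)).X q) :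
    mult K J q z ∈ J • (⊤ : Submodule A (K.X q)) := by
  have h : ∀ z : TensorProduct A J (K.X q),
      (TensorProduct.lid A (K.X q)).toLinearMap ((Submodule.subtype J).rTensor (K.X q) z) ∈
        J • (⊤ : Submodule A (K.X q)) := by
    intro z
    induction z using TensorProduct.induction_on with
    | zero => rw [map_zero, map_zero]; exact zero_mem _
    | tmul a x => exact Submodule.smul_mem_smul a.2 Submodule.mem_top
    | add a b ha hb => rw [map_add, map_add]; exact add_mem ha hb
  exact h z

theorem mult_comm (J : Ideal A) (i j : ℤ) (z : ((tens K).obj (ModuleCat.of A J)).X i) :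
    mult K J j (((tens K).obj (ModuleCat.of A J)).d i j z) = K.d i j (mult K J i z) := by
  have h : (mult K J j) ∘ₗ (((tens K).obj (ModuleCat.of A J)).d i j).hom =
      (K.d i j).hom ∘ₗ mult K J i :=
    TensorProduct.ext' fun a x => ((K.d i j).hom.map_smul (a : A) x).symm
  exact LinearMap.congr_fun h z

theorem mult_map {J J' : Ideal A} (h : J ≤ J') (q : ℤ) (z : ((tens K).obj (ModuleCat.of A J)).X q) :
    mult K J' q (((tens K).map (ModuleCat.ofHom (Submodule.inclusion h))).f q z) = mult K J q z := by
  have h' : (mult K J' q) ∘ₗ (((tens K).map (ModuleCat.ofHom (Submodule.inclusion h))).f q).hom =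
      mult K J q :=
    TensorProduct.ext' fun a x => rfl
  exact LinearMap.congr_fun h' z

variable [IsNoetherianRing A] (J : Ideal A)

/-- Artin–Rees: deep in the filtration cycles are boundaries of deep elements. -/
theorem exists_shift (hfin : ∀ q, Module.Finite A (K.X q))
    (hJ : ∀ q : ℤ, ∀ x ∈ J, ∀ c : ↑(K.homology q), x • c = 0) (q : ℤ) :
    ∃ s : ℕ, ∀ t N : ℕ, s ≤ t → ∀ z : K.X q, K.d q (q + 1) z = 0 →
      z ∈ J ^ (N + t) • (⊤ : Submodule A (K.X q)) →
      ∃ w : ((tens K).obj (ModuleCat.of A ↥(J ^ N))).X (q - 1),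
        K.d (q - 1) q (mult K (J ^ N) (q - 1) w) = z := by
  haveI := hfin q
  let Z := LinearMap.ker (K.d q (q + 1)).hom
  obtain ⟨k, hk⟩ := J.exists_pow_inf_eq_pow_smul Z
  refine ⟨k + 1, fun t N ht z hz hzJ => ?_⟩
  have hmem : z ∈ J ^ (N + 1 + (t - (k + 1))) • Z := by
    have h1 : z ∈ J ^ (N + t) • (⊤ : Submodule A (K.X q)) ⊓ Z := ⟨hzJ, hz⟩
    rw [hk _ (by omega)] at h1
    rw [show N + 1 + (t - (k + 1)) = N + t - k by omega]
    exact Submodule.smul_mono le_rfl inf_le_right h1
  have hmem' : z ∈ J ^ N • (J • Z) := by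
    rw [← smul_assoc, smul_eq_mul, ← pow_succ]
    exact Submodule.smul_mono (Ideal.pow_le_pow_right (Nat.le_add_right _ _)) le_rfl hmem
  have hB : J • Z ≤ LinearMap.range (K.d (q - 1) q).hom := by
    refine Submodule.smul_le.mpr fun x hx y hy => ?_
    have hex : (ShortComplex.mk _ _ (K.toCycles_comp_homologyπ (q - 1) q)).Exact :=
      ShortComplex.exact_of_g_is_cokernel _ (K.homologyIsCokernel (q - 1) q (by simp))
    obtain ⟨c, hc⟩ : ∃ c : K.cycles q, K.iCycles q c = y := by
      have hex' : (ShortComplex.mk _ _ (K.iCycles_d q (q + 1))).Exact :=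
        ShortComplex.exact_of_f_is_kernel _ (K.cyclesIsKernel q (q + 1) (by simp))
      exact (ShortComplex.moduleCat_exact_iff _).mp hex' y hy
    obtain ⟨w, hw⟩ := (ShortComplex.moduleCat_exact_iff _).mp hex (x • c)
      ((map_smul (K.homologyπ q).hom x c).trans (hJ q x hx _))
    refine ⟨w, ?_⟩
    have := congrArg (K.iCycles q) hw
    rw [← ConcreteCategory.comp_apply, K.toCycles_i, map_smul, hc] at this
    exact this
  refine Submodule.smul_induction_on hmem' (fun a ha y hy => ?_) (fun y y' hy hy' => ?_)
  · obtain ⟨v, rfl⟩ := hB hy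
    exact ⟨(⟨a, ha⟩ : ↥(J ^ N)) ⊗ₜ v, by rw [mult_tmul, map_smul]⟩
  · obtain ⟨w, rfl⟩ := hy
    obtain ⟨w', rfl⟩ := hy'
    exact ⟨w + w', by rw [map_add, map_add]⟩

omit [IsNoetherianRing A] in
/-- The transition maps are eventually zero on cohomology. -/
theorem homologyMap_eq_zero (hproj : ∀ q, Module.Projective A (K.X q)) (q : ℤ) {M N : ℕ} (h : N ≤ M)
    (hs : ∀ z : K.X q, K.d q (q + 1) z = 0 → z ∈ J ^ M • (⊤ : Submodule A (K.X q)) →
      ∃ w : ((tens K).obj (ModuleCat.of A ↥(J ^ N))).X (q - 1),
        K.d (q - 1) q (mult K (J ^ N) (q - 1) w) = z) :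
    HomologicalComplex.homologyMap ((tens K).map (ModuleCat.ofHom
      (Submodule.inclusion (Ideal.pow_le_pow_right h : J ^ M ≤ J ^ N)))) q = 0 := by
  set f := (tens K).map (ModuleCat.ofHom
    (Submodule.inclusion (Ideal.pow_le_pow_right h : J ^ M ≤ J ^ N)))
  rw [← cancel_epi (((tens K).obj _).homologyπ q), HomologicalComplex.homologyπ_naturality, comp_zero]
  refine ModuleCat.hom_ext (LinearMap.ext fun z => ?_)
  let C := (tens K).obj (ModuleCat.of A ↥(J ^ M))
  let C' := (tens K).obj (ModuleCat.of A ↥(J ^ N))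
  have hz : C.d q (q + 1) (C.iCycles q z) = 0 := by
    rw [← ConcreteCategory.comp_apply, C.iCycles_d]
    rfl
  obtain ⟨w, hw⟩ := hs (mult K (J ^ M) q (C.iCycles q z))
    (by rw [← mult_comm, hz, map_zero]) (mult_mem K _ _ _)
  haveI := hproj q
  have hval : C'.d (q - 1) q w = f.f q (C.iCycles q z) := by
    apply mult_injective K (J ^ N) q
    rw [mult_comm, hw]
    exact (mult_map K _ q _).symm
  have hcyc : HomologicalComplex.cyclesMap f q z = C'.toCycles (q - 1) q w := by
    have hinj : Function.Injective (C'.iCycles q) := (ModuleCat.mono_iff_injective _).mp inferInstance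
    apply hinj
    rw [← ConcreteCategory.comp_apply, ← ConcreteCategory.comp_apply, HomologicalComplex.cyclesMap_i,
      HomologicalComplex.toCycles_i]
    exact hval.symm
  change C'.homologyπ q (HomologicalComplex.cyclesMap f q z) = 0
  rw [hcyc, ← ConcreteCategory.comp_apply, HomologicalComplex.toCycles_comp_homologyπ]
  rfl

theorem isZero_tens (P : ModuleCat.{u} A) {q : ℤ} (h : IsZero (K.X q)) : IsZero (((tens K).obj P).X q) :=
  ((curriedTensor (ModuleCat.{u} A)).obj P).map_isZero h

theorem main [HasDerivedCategory.{w} (ModuleCat.{u} A)]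
    (a b : ℤ) (hK : ∀ q : ℤ, q < a ∨ b < q → IsZero (K.X q))
    (hfin : ∀ q, Module.Finite A (K.X q)) (hproj : ∀ q, Module.Projective A (K.X q))
    (hJ : ∀ q : ℤ, ∀ x ∈ J, ∀ c : ↑(K.homology q), x • c = 0) :
    ∃ n : ℕ, ∀ m : ℕ, DerivedCategory.Q.map ((tens K).map (ModuleCat.ofHom
      (Submodule.inclusion (Ideal.pow_le_pow_right (Nat.le_add_left m n) : J ^ (n + m) ≤ J ^ m)))) = 0 := by
  classical
  choose s hs using exists_shift K J hfin hJ
  let L : ℕ := (b - a).toNat
  let S : ℕ := (Finset.range (L + 1)).sup fun i => s (a + (i : ℕ))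
  refine ⟨(L + 1) * S, fun m => ?_⟩
  let e : ℕ → ℕ := fun i => (L + 1 - i) * S + m
  have he : ∀ i j, i ≤ j → J ^ e i ≤ J ^ e j := fun i j h =>
    Ideal.pow_le_pow_right (Nat.add_le_add_right (Nat.mul_le_mul_right S (Nat.sub_le_sub_left h _)) m)
  let P : ℕ ⥤ ModuleCat.{u} A :=
    { obj := fun i => ModuleCat.of A ↥(J ^ e i)
      map := fun {i j} h => ModuleCat.ofHom (Submodule.inclusion (he i j (leOfHom h)))
      map_id := fun i => rfl
      map_comp := fun _ _ => rfl }
  let KK : ℕ ⥤ DerivedCategory (ModuleCat.{u} A) := P ⋙ tens K ⋙ DerivedCategory.Q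
  have hzero := Groth.Agent.S14100.result (ModuleCat.{u} A) a L KK
    (fun i _ => Groth.Agent.Lib.DR.Basic.isGE_Q_of_isZero _ a fun q hq => isZero_tens K _ (hK q (Or.inl hq)))
    (fun i _ => Groth.Agent.Lib.DR.Basic.isLE_Q_of_isZero _ _ fun q hq => isZero_tens K _ (hK q (Or.inr (by omega))))
    (fun i hi q => by
      change (DerivedCategory.homologyFunctor _ q).map (DerivedCategory.Q.map _) = 0
      rw [← cancel_mono ((DerivedCategory.homologyFunctorFactors (ModuleCat.{u} A) q).hom.app _),
        DerivedCategory.homologyFunctorFactors_hom_naturality, zero_comp]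
      suffices h : HomologicalComplex.homologyMap ((tens K).map (P.map (homOfLE (Nat.le_succ i)))) q = 0 by
        rw [h]
        exact comp_zero
      by_cases hq : q < a ∨ b < q
      · have hz : ((tens K).obj (P.obj i)).ExactAt q :=
          ShortComplex.exact_of_isZero_X₂ _ (isZero_tens K (P.obj i) (hK q hq))
        exact hz.isZero_homology.eq_of_src _ _
      · have hmem : s q ≤ S := by
          obtain ⟨i₀, rfl⟩ : ∃ i₀ : ℕ, q = a + (i₀ : ℕ) := ⟨(q - a).toNat, by omega⟩
          exact Finset.le_sup (f := fun i : ℕ => s (a + (i : ℕ))) (Finset.mem_range.mpr (by omega))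
        have heq : e i = e (i + 1) + S := by
          have : L + 1 - i = (L + 1 - (i + 1)) + 1 := by omega
          simp only [e, this, Nat.add_mul, Nat.one_mul]
          omega
        exact homologyMap_eq_zero K J hproj q (M := e i) (N := e (i + 1)) (by omega)
          (fun z hz hzJ => hs q S (e (i + 1)) hmem z hz (by rw [← heq]; exact hzJ)))
  have key : ∀ M N : ℕ, M = (L + 1) * S + m → N = m → ∀ hle : J ^ M ≤ J ^ N,
      DerivedCategory.Q.map ((tens K).map (ModuleCat.ofHom (Submodule.inclusion hle))) = 0 →
      DerivedCategory.Q.map ((tens K).map (ModuleCat.ofHom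
        (Submodule.inclusion (Ideal.pow_le_pow_right (Nat.le_add_left m ((L + 1) * S)) :
          J ^ ((L + 1) * S + m) ≤ J ^ m)))) = 0 := by
    rintro M N rfl rfl hle h
    exact h
  exact key (e 0) (e (L + 1)) (by simp [e]) (by simp [e]) _ hzero

end


open CategoryTheory MonoidalCategory in
/-- Affine form — let A be a Noetherian commutative ring, K a bounded cochain complex of finitely
generated projective A-modules and J an ideal of A that annihilates every cohomology module of K.
Then for some natural number n and every positive integer m, the map J^(n+m) ⊗_A K → J^m ⊗_A K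
induced by the inclusion of ideals is zero in the derived category of A-modules. (The published
statement is for a perfect complex on a noetherian scheme or formal scheme with the derived tensor
product; over an affine scheme a perfect complex is represented by a bounded complex of finitely
generated projective modules, for which the derived tensor product with J^m is the termwise tensor
product used here.) -/
theorem result
    (A : Type u) [CommRing A] [IsNoetherianRing A] [HasDerivedCategory.{w} (ModuleCat.{u} A)]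
    (K : CochainComplex (ModuleCat.{u} A) ℤ) (a b : ℤ)
    (hK : ∀ q : ℤ, q < a ∨ b < q → Limits.IsZero (K.X q))
    (hfin : ∀ q : ℤ, Module.Finite A (K.X q)) (hproj : ∀ q : ℤ, Module.Projective A (K.X q))
    (J : Ideal A) (hJ : ∀ q : ℤ, ∀ x ∈ J, ∀ c : ↑(K.homology q), x • c = 0) :
    ∃ n : ℕ, ∀ m : ℕ, 0 < m →
      DerivedCategory.Q.map
        ((NatTrans.mapHomologicalComplex
          ((curriedTensor (ModuleCat.{u} A)).map
            (ModuleCat.ofHom (Submodule.inclusion (p := J ^ (n + m)) (p' := J ^ m)
              (Ideal.pow_le_pow_right (Nat.le_add_left m n)))))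
          (ComplexShape.up ℤ)).app K) = 0 := by
  obtain ⟨n, hn⟩ := main K J a b hK hfin hproj hJ
  exact ⟨n, fun m _ => hn m⟩

end Groth.Agent.S14102
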