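import Groth.Statements.S14105
import Groth.Agent.H26.FibreDim


set_option autoImplicit false
universe u
open CategoryTheory CategoryTheory.Limits AlgebraicGeometry Opposite TopologicalSpace
open CInt

namespace Groth.Agent.S14105

theorem aux {X X' : Type u} (p : X' → X) (Y : Set X) (d : X → WithBot ℕ∞) (d' : X' → WithBot ℕ∞)
    (hle : ∀ x', d (p x') ≤ d' x')
    (hex : ∀ x₀, ∃ x', p x' = p x₀ ∧ d' x' ≤ d (p x₀)) :
    ((⨅ y : Y, d y.1) ≤ ⨅ y' : (fun x' => p x') ⁻¹' Y, d' y'.1) ∧
      (Y ⊆ Set.range p → (⨅ y' : (fun x' => p x') ⁻¹' Y, d' y'.1) = ⨅ y : Y, d y.1) := by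
  have hge : (⨅ y : Y, d y.1) ≤ ⨅ y' : (fun x' => p x') ⁻¹' Y, d' y'.1 :=
    le_iInf fun y' => le_trans (iInf_le (fun y : Y => d y.1) ⟨p y'.1, y'.2⟩) (hle y'.1)
  refine ⟨hge, fun hsurj => le_antisymm (le_iInf fun y => ?_) hge⟩
  obtain ⟨x₀, hx₀⟩ := hsurj y.2
  obtain ⟨x', hx', hd⟩ := hex x₀
  refine le_trans (iInf_le (fun y' : (fun x' => p x') ⁻¹' Y => d' y'.1)
    ⟨x', show p x' ∈ Y by rw [hx', hx₀]; exact y.2⟩) ?_
  exact hd.trans (le_of_eq (congrArg d hx₀))

/-- Let f : X → S be a morphism and g : S' → S a base change, with X, S, S' and X' = X ×_S S' locally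
Noetherian, and let Y be a closed subset of X with preimage Y' under the projection X' → X. Writing
the codimension of a closed subset relative to a morphism as the infimum, over its points, of the
Krull dimension of the local ring of the fibre through that point: the codimension of Y' relative to
X' → S' is at least the codimension of Y relative to f, and the two are equal when the projection X'
→ X maps Y' onto Y. -/
theorem result {X S S' : Scheme.{u}} (f : X ⟶ S) (g : S' ⟶ S)
    [IsLocallyNoetherian X] [IsLocallyNoetherian S] [IsLocallyNoetherian S']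
    [IsLocallyNoetherian (pullback f g)] (Y : Set ↥X) (hY : IsClosed Y) :
    ((⨅ y : Y, ringKrullDim ↑(CInt.fiberStalk f y.1)) ≤
      ⨅ y' : (fun x' => (pullback.fst f g) x') ⁻¹' Y,
        ringKrullDim ↑(CInt.fiberStalk (pullback.snd f g) y'.1)) ∧
    (Y ⊆ Set.range (pullback.fst f g).base →
      (⨅ y' : (fun x' => (pullback.fst f g) x') ⁻¹' Y,
        ringKrullDim ↑(CInt.fiberStalk (pullback.snd f g) y'.1)) =
        ⨅ y : Y, ringKrullDim ↑(CInt.fiberStalk f y.1)) := by
  exact aux (fun x' => pullback.fst f g x') Y (fun y => ringKrullDim ↑(CInt.fiberStalk f y))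
    (fun x' => ringKrullDim ↑(CInt.fiberStalk (pullback.snd f g) x'))
    (Groth.Agent.H26.FibreDim.le_fiber_baseChange f g)
    (Groth.Agent.H26.FibreDim.exists_fiber_baseChange_le f g)

end Groth.Agent.S14105
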