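import Groth.Statements.S14113
import Groth.Agent.Lib.DerivedOX.AffineKProj

set_option autoImplicit false
universe u
open CategoryTheory CategoryTheory.Limits AlgebraicGeometry Opposite TopologicalSpace
attribute [local instance] HasDerivedCategory.standard
open DCoh

namespace Groth.Agent.S14113

/-- Let X be an affine scheme and E a bounded above cochain complex of finite locally free O_X-modules
(a strictly pseudo-coherent complex). Then E is acyclic if and only if the identity of E is null
homotopic. -/
theorem result {X : Scheme.{u}} [IsAffine X]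
    (E : CochainComplex X.Modules ℤ) (b : ℤ) (hEb : ∀ i : ℤ, b < i → IsZero (E.X i))
    (hE : ∀ i : ℤ, FlatMod.IsFinLocFree (E.X i)) :
    E.Acyclic ↔ Nonempty (Homotopy (𝟙 E) 0) := by
  obtain ⟨-, h⟩ := Groth.Agent.Lib.DerivedOX.AffineKProj.good_affine E E b hEb hE
    fun i => Groth.Agent.Lib.TensorMod.QCohInv.isQCoh_of_isFinLocFree (hE i)
  refine ⟨fun hex => h (𝟙 E) ?_, fun ⟨hh⟩ i => ?_⟩
  · have hq : QuasiIso (0 : E ⟶ E) := ⟨fun n => (quasiIsoAt_iff_isIso_homologyMap _ n).2
      ⟨0, ((hex n).isZero_homology).eq_of_src _ _, ((hex n).isZero_homology).eq_of_src _ _⟩⟩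
    haveI : IsIso (DerivedCategory.Q.map (0 : E ⟶ E)) := inferInstance
    rw [Functor.map_zero] at this
    have hz : IsZero (DerivedCategory.Q.obj E) := by
      rw [IsZero.iff_id_eq_zero]
      exact (IsIso.inv_hom_id (0 : DerivedCategory.Q.obj E ⟶ DerivedCategory.Q.obj E)).symm.trans comp_zero
    exact hz.eq_of_src _ _
  · rw [HomologicalComplex.exactAt_iff_isZero_homology, IsZero.iff_id_eq_zero]
    have h1 := hh.homologyMap_eq i
    simpa using h1

end Groth.Agent.S14113
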