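import Groth.Statements.S14115
import Mathlib.Tactic.Abel

set_option autoImplicit false
universe u v
open SuperComm

namespace Groth.Agent.S14115

theorem aux {R : Type u} {S : Type v} [CommRing R] [Ring S] [Algebra R S] :
    ∀ (n : ℕ) (x : S) (y : Fin (n + 1) → S) (r : Fin (n + 1) → R),
    (∀ i : Fin (n + 1), x * y i + y i * x = algebraMap R S (r i)) →
    x * (List.ofFn y).prod + (-1 : S) ^ n * ((List.ofFn y).prod * x) =
      ∑ p : Fin (n + 1), (-1 : S) ^ (p : ℕ) * (r p • (List.ofFn (fun q : Fin n => y (p.succAbove q))).prod) := by
  intro n
  induction n with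
  | zero =>
    intro x y r h
    simpa [Algebra.smul_def] using h 0
  | succ n ih =>
    intro x y r h
    have ih' := ih x (fun i => y i.succ) (fun i => r i.succ) (fun i => h i.succ)
    rw [Fin.sum_univ_succ, List.ofFn_succ (f := y), List.prod_cons]
    simp only [Fin.val_zero, pow_zero, one_mul, Fin.zero_succAbove, Fin.val_succ]
    set P := (List.ofFn fun i : Fin (n + 1) => y i.succ).prod
    have : ∀ p : Fin (n + 1), (-1 : S) ^ ((p : ℕ) + 1) *
        (r p.succ • (List.ofFn fun q : Fin (n + 1) => y (p.succ.succAbove q)).prod) =
        -(y 0 * ((-1 : S) ^ (p : ℕ) * (r p.succ • (List.ofFn fun q : Fin n => y (p.succAbove q).succ).prod))) := by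
      intro p
      rw [List.ofFn_succ, List.prod_cons]
      simp only [Fin.succ_succAbove_zero, Fin.succ_succAbove_succ]
      rw [mul_smul_comm, ← mul_assoc (y 0), (Commute.neg_one_right (y 0)).pow_right (p : ℕ) |>.eq,
        mul_assoc, pow_succ, mul_smul_comm, mul_smul_comm, ← smul_neg]
      simp
    simp only [this, Finset.sum_neg_distrib, ← Finset.mul_sum, ← ih', Algebra.smul_def (r 0), ← h 0]
    rw [mul_add (y 0), ← mul_assoc (y 0) ((-1 : S) ^ n), ((Commute.neg_one_right (y 0)).pow_right n).eq,
      pow_succ]
    simp [add_mul, mul_add, mul_assoc, sub_eq_add_neg]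
    abel

/-- Let S be an associative unital algebra over a commutative ring R, x an element and y_0, …, y_n
elements such that the anticommutator x y_i + y_i x equals r_i · 1 for scalars r_i ∈ R. Then the
graded commutator of x with the ordered product y_0 ⋯ y_n, namely x (y_0 ⋯ y_n) + (-1)^n (y_0 ⋯ y_n)
x, equals the sum over p of (-1)^p r_p times the ordered product of the y_q with q ≠ p. (The
published statement takes x homogeneous of degree 1 and the y_i homogeneous of degree -1 in a graded
algebra with unit in degree 0, the signs being those of the supercommutator; this row states the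
identity for arbitrary elements satisfying the anticommutation relations, which is what the
computation proves.) -/
theorem result {R : Type u} {S : Type v} [CommRing R] [Ring S]
    [Algebra R S] (n : ℕ) (x : S) (y : Fin (n + 1) → S) (r : Fin (n + 1) → R)
    (h : ∀ i : Fin (n + 1), x * y i + y i * x = algebraMap R S (r i)) :
    x * (List.ofFn y).prod + (-1 : S) ^ n * ((List.ofFn y).prod * x) =
      ∑ p : Fin (n + 1), (-1 : S) ^ (p : ℕ) * (r p • (List.ofFn (fun q : Fin n => y (p.succAbove q))).prod) := by
  exact aux n x y r h

end Groth.Agent.S14115
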