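import Groth.Statements.S14119
import Groth.Agent.Lib.Ideal.Prime
import Groth.Agent.Lib.Excellent.CatenaryDim

set_option autoImplicit false
universe u
open CategoryTheory CategoryTheory.Limits AlgebraicGeometry Opposite TopologicalSpace
open BlowUp

namespace Groth.Agent.S14119

open Groth.Agent.Lib Groth.Agent.Lib.Ideal.Prime Groth.Agent.Lib.Ideal.EffCartier Groth.Agent.Lib.AssPt.Basic
  Groth.Agent.Lib.Excellent.CatenaryDim IsLocalRing

/-- In the localization at `Q` minimal over `P + (e)` of a ring with a single minimal prime and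
catenary localization, `ht Q = ht P + 1`. -/
theorem height_eq_add_one {R : Type u} [CommRing R] [IsNoetherianRing R] (P Q : Ideal R) [P.IsPrime]
    [Q.IsPrime] (A : Type u) [CommRing A] [IsNoetherianRing A] [IsLocalRing A] [Algebra R A]
    [IsLocalization.AtPrime A Q] (hcat : CAlg.IsCatenary A)
    (huniq : (nilradical R).IsPrime) (e : R) (heP : e ∉ P) (hPQ : P ≤ Q) (heQ : e ∈ Q)
    (hmin : ∀ q : Ideal R, q.IsPrime → P ≤ q → e ∈ q → q ≤ Q → q = Q) :
    Q.height = P.height + 1 := by
  have hdisj : ∀ J : Ideal R, J ≤ Q → Disjoint (Q.primeCompl : Set R) (J : Set R) := fun J hJ =>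
    Set.disjoint_left.mpr fun x hx hxJ => hx (hJ hxJ)
  have hnil : nilradical R ≤ Q := nilradical_le_prime Q
  let PA := P.map (algebraMap R A)
  let QA := Q.map (algebraMap R A)
  haveI : PA.IsPrime :=
    IsLocalization.isPrime_of_isPrime_disjoint Q.primeCompl A P inferInstance (hdisj P hPQ)
  haveI : QA.IsPrime :=
    IsLocalization.isPrime_of_isPrime_disjoint Q.primeCompl A Q inferInstance (hdisj Q le_rfl)
  have hPc : PA.comap (algebraMap R A) = P :=
    IsLocalization.under_map_of_isPrime_disjoint Q.primeCompl A inferInstance (hdisj P hPQ)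
  have hQc : QA.comap (algebraMap R A) = Q :=
    IsLocalization.under_map_of_isPrime_disjoint Q.primeCompl A inferInstance (hdisj Q le_rfl)
  have hle : ∀ J : Ideal A, J.IsPrime → J.comap (algebraMap R A) ≤ Q := fun J hJ x hx => by
    by_contra hxQ
    exact hJ.ne_top (J.eq_top_of_isUnit_mem hx (IsLocalization.map_units A (⟨x, hxQ⟩ : Q.primeCompl)))
  have hcov : (⟨PA, ‹_›⟩ : PrimeSpectrum A) ⋖ ⟨QA, ‹_›⟩ := by
    refine covBy_of_mem_minimalPrimes (t := algebraMap R A e)
      (fun h => heP (hPc ▸ h)) ⟨⟨inferInstance, sup_le (Ideal.map_mono hPQ) ?_⟩, ?_⟩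
    · rw [Ideal.span_singleton_le_iff_mem]
      exact Ideal.mem_map_of_mem _ heQ
    · rintro J ⟨hJ, hJle⟩ -
      have := hmin (J.comap (algebraMap R A)) inferInstance
        (hPc ▸ Ideal.comap_mono (le_sup_left.trans hJle))
        (hJle (Ideal.mem_sup_right (Ideal.mem_span_singleton_self _))) (hle J hJ)
      show QA ≤ J
      rw [← IsLocalization.map_under Q.primeCompl A J]
      exact Ideal.map_mono this.ge
  have heq : ∀ p ∈ minimalPrimes A, ringKrullDim (A ⧸ p) = ringKrullDim A := by
    intro p hp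
    haveI := hp.1.1
    rw [ringKrullDim_quotient]
    refine Eq.trans ?_ (Order.krullDim_eq_of_orderIso
      (OrderIso.Set.univ (α := PrimeSpectrum A)))
    refine Order.krullDim_eq_of_orderIso (OrderIso.setCongr _ _
      (Set.eq_univ_of_forall fun q => ?_))
    rw [PrimeSpectrum.mem_zeroLocus, SetLike.coe_subset_coe]
    -- `p` is the extension of the nilradical
    haveI := huniq
    have hN : ((nilradical R).map (algebraMap R A)).IsPrime :=
      IsLocalization.isPrime_of_isPrime_disjoint Q.primeCompl A _ huniq (hdisj _ hnil)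
    have hNle : ∀ J : Ideal A, J.IsPrime → (nilradical R).map (algebraMap R A) ≤ J := fun J hJ =>
      Ideal.map_le_iff_le_comap.mpr (nilradical_le_prime _)
    exact (hp.2 ⟨hN, bot_le⟩ (hNle p inferInstance)).trans (hNle q.asIdeal q.2)
  have h := height_covBy hcat heq hcov
  rwa [← IsLocalization.height_comap Q.primeCompl QA, ← IsLocalization.height_comap Q.primeCompl PA,
    show QA.under R = Q from hQc, show PA.under R = P from hPc] at h

/-- Let X be a locally Noetherian scheme, Y an effective Cartier divisor on X (a quasi-coherent ideal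
sheaf which, near every point, is generated on some affine open by one nonzerodivisor; Y is its
support) and Z a closed integral subscheme (a closed immersion i from an integral scheme with
generic point ξ). Assume X irreducible with all local rings catenary (the first of the two printed
sufficient conditions), and assume that the inverse image ideal sheaf of Y on Z is the ideal of an
effective Cartier divisor on Z. Then Y and Z intersect properly: every point ζ of Y ∩ Z that is
maximal under generization inside Y ∩ Z satisfies dim O_{X,ζ} = codim(Y,X) + codim(Z,X), where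
codim(Y,X) is the infimum over y ∈ Y of dim O_{X,y} and codim(Z,X) = dim O_{X,i(ξ)}. (The published
statement also has a second sufficient condition, X biequidimensional, and a fourth equivalent
condition, vanishing of the higher Tor sheaves of O_Y against O_Z; neither is included in this row.) -/
theorem result {X Z : Scheme.{u}}
    [IsLocallyNoetherian X] [IrreducibleSpace ↥X] (hcat : ∀ x : ↥X, CAlg.IsCatenary ↑(X.presheaf.stalk x))
    (𝓘 : X.IdealSheafData) (hY : BlowUp.IsEffCartierIdeal 𝓘)
    (i : Z ⟶ X) [IsClosedImmersion i] [IsIntegral Z] (hc : BlowUp.IsEffCartierIdeal (𝓘.comap i)) :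
    (∀ ζ : ↥X, ζ ∈ (𝓘.support : Set ↥X) ∩ Set.range i.base →
        (∀ ζ' : ↥X, ζ' ∈ (𝓘.support : Set ↥X) ∩ Set.range i.base → ζ' ⤳ ζ → ζ' = ζ) →
        ringKrullDim ↑(X.presheaf.stalk ζ) =
          (⨅ y : (𝓘.support : Set ↥X), ringKrullDim ↑(X.presheaf.stalk y.1)) +
            ringKrullDim ↑(X.presheaf.stalk (i (genericPoint ↥Z)))) := by
  intro ζ hζ hmax
  obtain ⟨U, hζU, e, he, hIe⟩ := hY ζ
  haveI : IsNoetherianRing Γ(X, U.1) := IsLocallyNoetherian.component_noetherian U
  set ξ := i (genericPoint Z) with hξ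
  have hξgen : ∀ w ∈ Set.range i.base, ξ ⤳ w := by
    rintro _ ⟨z, rfl⟩
    exact ((genericPoint_spec Z).specializes (Set.mem_univ z)).map i.continuous
  have hξζ : ξ ⤳ ζ := hξgen ζ hζ.2
  have hξU : ξ ∈ U.1 := hξζ.mem_open U.1.2 hζU
  have hξI : ξ ∉ 𝓘.support := fun h => by
    have h' : genericPoint Z ∈ (𝓘.comap i).support := by
      rw [Scheme.IdealSheafData.support_comap]
      exact h
    exact not_maximalPoint_of_mem_support hc h' fun y hy =>
      (hy.antisymm ((genericPoint_spec Z).specializes (Set.mem_univ y))).eq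
  have hsupp : ∀ (w : X) (hw : w ∈ U.1),
      w ∈ 𝓘.support ↔ e ∈ (U.2.primeIdealOf ⟨w, hw⟩).asIdeal := fun w hw => by
    rw [mem_support_iff_le_prime 𝓘 U hw, hIe, Ideal.span_singleton_le_iff_mem]
  set P := U.2.primeIdealOf ⟨ξ, hξU⟩
  set Q := U.2.primeIdealOf ⟨ζ, hζU⟩
  have hinj : ∀ {a b : X} (ha : a ∈ U.1) (hb : b ∈ U.1),
      (U.2.primeIdealOf ⟨a, ha⟩).asIdeal = (U.2.primeIdealOf ⟨b, hb⟩).asIdeal → a = b := by
    intro a b ha hb h
    have := congrArg U.2.fromSpec (PrimeSpectrum.ext h)
    rwa [U.2.fromSpec_primeIdealOf, U.2.fromSpec_primeIdealOf] at this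
  have hmin : ∀ q : Ideal Γ(X, U.1), q.IsPrime → P.asIdeal ≤ q → e ∈ q → q ≤ Q.asIdeal →
      q = Q.asIdeal := by
    intro q hq hPq heq hqQ
    haveI := hq
    obtain ⟨w, hw, rfl⟩ := exists_point_of_prime U.2 q
    have hwr : w ∈ Set.range i.base :=
      ((specializes_iff_primeIdealOf U.2 hw hξU).mpr hPq).mem_closed i.isClosedEmbedding.isClosed_range
        ⟨_, rfl⟩
    obtain rfl : w = ζ := hmax w ⟨(hsupp w hw).mpr heq, hwr⟩
      ((specializes_iff_primeIdealOf U.2 hζU hw).mpr hqQ)
    rfl
  have hnil : (nilradical Γ(X, U.1)).IsPrime := by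
    have hgU : genericPoint X ∈ U.1 :=
      ((genericPoint_spec X).mem_open_set_iff U.1.2).mpr ⟨ζ, trivial, hζU⟩
    have : nilradical Γ(X, U.1) = (U.2.primeIdealOf ⟨genericPoint X, hgU⟩).asIdeal := by
      refine le_antisymm (nilradical_le_prime _) ?_
      rw [nilradical_eq_sInf]
      refine le_sInf fun q hq => ?_
      haveI : q.IsPrime := hq
      obtain ⟨w, hw, rfl⟩ := exists_point_of_prime U.2 q
      exact (specializes_iff_primeIdealOf U.2 hw hgU).mp
        ((genericPoint_spec X).specializes (Set.mem_univ w))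
    rw [this]
    infer_instance
  let algx := X.presheaf.algebra_section_stalk ⟨ζ, hζU⟩
  haveI := U.2.isLocalization_stalk ⟨ζ, hζU⟩
  have hkey := height_eq_add_one P.asIdeal Q.asIdeal (X.presheaf.stalk ζ) (hcat ζ) hnil e
    (fun h => hξI ((hsupp ξ hξU).mpr h)) ((specializes_iff_primeIdealOf U.2 hζU hξU).mp hξζ)
    ((hsupp ζ hζU).mp hζ.1) hmin
  -- the divisor has codimension one
  have hinf : (⨅ y : (𝓘.support : Set X), ringKrullDim (X.presheaf.stalk y.1)) = 1 := by
    refine le_antisymm ?_ (le_iInf fun y => ?_)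
    · obtain ⟨q, hq, hqQ⟩ := Ideal.exists_minimalPrimes_le
        (show Ideal.span {e} ≤ Q.asIdeal by
          rw [Ideal.span_singleton_le_iff_mem]; exact (hsupp ζ hζU).mp hζ.1)
      haveI := hq.1.1
      obtain ⟨w, hw, rfl⟩ := exists_point_of_prime U.2 q
      refine (iInf_le _ ⟨w, (hsupp w hw).mpr (hq.1.2 (Ideal.mem_span_singleton_self e))⟩).trans ?_
      rw [ringKrullDim_stalk_eq_height U.2 hw]
      exact WithBot.coe_le_coe.mpr
        (Ideal.height_le_one_of_isPrincipal_of_mem_minimalPrimes _ _ hq)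
    · obtain ⟨V, hV, hyV, -⟩ := exists_isAffineOpen_mem_and_subset
        (show y.1 ∈ (⊤ : X.Opens) from trivial)
      haveI : IsNoetherianRing Γ(X, V) := IsLocallyNoetherian.component_noetherian ⟨V, hV⟩
      rw [ringKrullDim_stalk_eq_height hV hyV, ← WithBot.coe_one, WithBot.coe_le_coe,
        Order.one_le_iff_ne_zero, Ne, Ideal.height_eq_zero_iff,
        ← maximalPoint_iff_minimalPrime hV hyV]
      exact not_maximalPoint_of_mem_support hY y.2
  rw [hinf, ringKrullDim_stalk_eq_height U.2 hζU, ringKrullDim_stalk_eq_height U.2 hξU,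
    hkey, WithBot.coe_add, WithBot.coe_one]
  exact add_comm _ _

end Groth.Agent.S14119
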