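import Groth.Statements.S14120
import Groth.Agent.Lib.DvrCrit.CurveCrit
import Groth.Agent.Lib.DvrCrit.EssFT
import Groth.Agent.S2654
import Groth.Agent.S0566
-- import your own Groth.Agent.* helpers here

set_option autoImplicit false
universe u
open CategoryTheory AlgebraicGeometry
open ValCrit

namespace Groth.Agent.S14120
set_option backward.isDefEq.respectTransparency false

/-- For schemes, let every affine open of the base `S` have excellent coordinate ring, let `g : Y ⟶ S`
be locally of finite type and `f : X ⟶ Y` quasi-compact and locally of finite type. Then the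
existence part of the valuative criterion for `f` over discrete valuation rings (every commutative
square `Spec K ⟶ X`, `Spec R ⟶ Y` with `R` a discrete valuation ring and `K` its fraction field has
a lift `Spec R ⟶ X`) holds as soon as it holds for the squares whose ring `R` is essentially of
finite type over `S`, i.e. `Spec R ⟶ Y ⟶ S` factors through some affine open `U` of `S` by a ring
map `Γ(S, U) ⟶ R` that is essentially of finite type; and conversely. (The published statement is
for algebraic spaces and treats existence and uniqueness together; this row is the existence half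
for schemes.) -/
theorem result (S : Scheme.{u})
    (hS : ∀ U : S.affineOpens, EGA4.IsExcellent Γ(S, U.1))
    {X Y : Scheme.{u}} (f : X ⟶ Y) (g : Y ⟶ S)
    [QuasiCompact f] [LocallyOfFiniteType f] [LocallyOfFiniteType g] :
    (∀ sq : ValuativeCommSq f, IsDiscreteValuationRing sq.R → sq.commSq.HasLift) ↔
    (∀ sq : ValuativeCommSq f, IsDiscreteValuationRing sq.R →
      (∃ (U : S.affineOpens) (φ : Γ(S, U.1) ⟶ CommRingCat.of sq.R),
        Spec.map φ ≫ U.2.fromSpec = sq.i₂ ≫ g ∧ φ.hom.EssFiniteType) →
      sq.commSq.HasLift) := by
  haveI : IsLocallyNoetherian S := ⟨fun W => (hS W).1⟩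
  haveI : IsLocallyNoetherian Y := LocallyOfFiniteType.isLocallyNoetherian g
  have hN : ∀ W : S.affineOpens, CAlg.IsNagata Γ(S, W) := fun W =>
    Groth.Agent.S2654.result _ ⟨(hS W).1, (hS W).2.2.1, (hS W).2.2.2⟩
  refine ⟨fun h sq hd _ => h sq hd, fun H => ?_⟩
  haveI : UniversallyClosed f := by
    refine Lib.DvrCrit.universallyClosed_of_curves (fun R _ hR A _ _ hA => Groth.Agent.S0566.result R hR A) hN (f ≫ g) g f rfl ?_
    intro C r _ _ _ hn c hc hdim U hU u gY hgr huf k hk
    haveI : IsLocallyNoetherian C := LocallyOfFiniteType.isLocallyNoetherian r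
    haveI hdvr := Lib.DvrCrit.curve_stalk_dvr c (hn c) hdim
    obtain ⟨W, φ, hφ1, hφ2⟩ := Lib.DvrCrit.exists_essFiniteType_stalk r c
    let sq : ValuativeCommSq f :=
      { R := C.presheaf.stalk c,
        K := FractionRing (C.presheaf.stalk c),
        i₁ := k ≫ u,
        i₂ := C.fromSpecStalk c ≫ gY,
        commSq := ⟨by rw [Category.assoc, huf, ← Category.assoc, hk, Category.assoc]⟩ }
    obtain ⟨⟨l⟩⟩ := H sq hdvr ⟨W, φ, by
      simp only [sq, Category.assoc, hgr]
      exact hφ1, hφ2⟩
    exact ⟨l.l, l.fac_right, l.fac_left⟩
  intro sq _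
  exact Lib.DvrCrit.existence_of_universallyClosed f sq

end Groth.Agent.S14120
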