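import Groth.Statements.S1987
import Mathlib.RingTheory.AdjoinRoot
import Mathlib.RingTheory.Polynomial.Eisenstein.Basic
import Mathlib.RingTheory.Polynomial.UniqueFactorization
import Mathlib.RingTheory.DiscreteValuationRing.TFAE
import Mathlib.RingTheory.Valuation.ValuationRing

set_option autoImplicit false
universe u
open Polynomial
open EtAlg

namespace Groth.Agent.S1987

/-- Let A be a discrete valuation ring with uniformizer π and n ≥ 2, and let A' = A[x]/(x^n - π). Then
x^n - π is irreducible over A, A' is an integrally closed discrete valuation ring (so it is the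
integral closure of A in its fraction field K₁ = K(π^{1/n}), of degree n over K), the maximal ideal
of A generates the n-th power of the maximal ideal of A' (ramification index n), and K₁ is totally
ramified with respect to A. -/
theorem result (A : Type u) [CommRing A] [IsDomain A] [IsDiscreteValuationRing A] (π : A)
    (hπ : Irreducible π) (n : ℕ) (hn : 2 ≤ n) :
    Irreducible (X ^ n - C π : A[X]) ∧
    ∃ (_ : IsDomain (AdjoinRoot (X ^ n - C π : A[X]))) (_ : IsDiscreteValuationRing (AdjoinRoot (X ^ n - C π : A[X]))),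
      IsIntegrallyClosed (AdjoinRoot (X ^ n - C π : A[X])) ∧
      (IsLocalRing.maximalIdeal A).map (algebraMap A (AdjoinRoot (X ^ n - C π : A[X]))) = IsLocalRing.maximalIdeal (AdjoinRoot (X ^ n - C π : A[X])) ^ n ∧
      ∀ (K₁ : Type u) [Field K₁] [Algebra (AdjoinRoot (X ^ n - C π : A[X])) K₁] [IsFractionRing (AdjoinRoot (X ^ n - C π : A[X])) K₁],
        EtRam.IsTotallyRamified A ((algebraMap (AdjoinRoot (X ^ n - C π : A[X])) K₁).comp (algebraMap A (AdjoinRoot (X ^ n - C π : A[X])))) := by
  classical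
  have hmon : (X ^ n - C π : A[X]).Monic := monic_X_pow_sub_C π (by omega)
  have hirr : Irreducible (X ^ n - C π : A[X]) := by
    have hP : (Ideal.span {π}).IsPrime := (Ideal.span_singleton_prime hπ.ne_zero).2 hπ.prime
    refine Polynomial.IsEisensteinAt.irreducible ?_ hP hmon.isPrimitive
      (by rw [natDegree_X_pow_sub_C]; omega)
    refine ⟨?_, fun {k} hk => ?_, ?_⟩
    · rw [hmon.leadingCoeff, Ideal.mem_span_singleton]
      exact fun h => hπ.not_isUnit (isUnit_of_dvd_one h)
    · rw [natDegree_X_pow_sub_C] at hk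
      rw [coeff_sub, coeff_X_pow, coeff_C, if_neg (by omega)]
      split_ifs with h
      · simp [Ideal.mem_span_singleton]
      · simp
    · rw [coeff_sub, coeff_X_pow, coeff_C_zero, if_neg (by omega), zero_sub, Ideal.span_singleton_pow,
        Ideal.mem_span_singleton, dvd_neg]
      intro h
      have : π ^ 2 ∣ π ^ 1 := by simpa using h
      rw [pow_dvd_pow_iff hπ.ne_zero hπ.not_isUnit] at this
      omega
  refine ⟨hirr, ?_⟩
  have hdom : IsDomain (AdjoinRoot (X ^ n - C π : A[X])) :=
    AdjoinRoot.isDomain_of_prime hirr.prime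
  have hdeg : (X ^ n - C π : A[X]).degree ≠ 0 := by
    rw [degree_X_pow_sub_C (by omega)]
    norm_cast
    omega
  have hinj : Function.Injective (algebraMap A (AdjoinRoot (X ^ n - C π : A[X]))) := by
    rw [AdjoinRoot.algebraMap_eq]
    exact AdjoinRoot.of.injective_of_degree_ne_zero hdeg
  have hfin : Module.Finite A (AdjoinRoot (X ^ n - C π : A[X])) := (AdjoinRoot.powerBasis' hmon).finite
  have hnoe : IsNoetherianRing (AdjoinRoot (X ^ n - C π : A[X])) := IsNoetherianRing.of_finite A _
  set x : AdjoinRoot (X ^ n - C π : A[X]) := AdjoinRoot.root _ with hxdef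
  have hxn : x ^ n = algebraMap A _ π := by
    have := AdjoinRoot.eval₂_root (X ^ n - C π : A[X])
    rw [eval₂_sub, eval₂_X_pow, eval₂_C, sub_eq_zero] at this
    exact this
  have hdec : ∀ b : AdjoinRoot (X ^ n - C π : A[X]), ∃ a c, b = algebraMap A _ a + x * c := by
    intro b
    induction b using AdjoinRoot.induction_on with
    | ih P =>
      refine ⟨P.coeff 0, AdjoinRoot.mk _ P.divX, ?_⟩
      conv_lhs => rw [← Polynomial.X_mul_divX_add P]
      rw [map_add, map_mul, AdjoinRoot.mk_X, AdjoinRoot.mk_C, AdjoinRoot.algebraMap_eq, add_comm]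
  have hmax : ∀ m : Ideal (AdjoinRoot (X ^ n - C π : A[X])), m.IsMaximal → m = Ideal.span {x} := by
    intro m hm
    have hc : (m.comap (algebraMap A _)).IsMaximal := Ideal.isMaximal_comap_of_isIntegral_of_isMaximal m
    have hmA := IsLocalRing.eq_maximalIdeal hc
    have hxm : x ∈ m := by
      refine hm.isPrime.mem_of_pow_mem n ?_
      rw [hxn, ← Ideal.mem_comap, hmA, hπ.maximalIdeal_eq]
      exact Ideal.mem_span_singleton_self π
    refine le_antisymm (fun b hb => ?_) (by rwa [Ideal.span_singleton_le_iff_mem])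
    obtain ⟨a, c, rfl⟩ := hdec b
    have ha : a ∈ IsLocalRing.maximalIdeal A := by
      rw [← hmA, Ideal.mem_comap]
      exact (m.add_mem_iff_left (m.mul_mem_right c hxm)).1 hb
    rw [hπ.maximalIdeal_eq, Ideal.mem_span_singleton] at ha
    obtain ⟨a', rfl⟩ := ha
    rw [Ideal.mem_span_singleton, map_mul, ← hxn]
    exact dvd_add ((dvd_pow_self x (by omega)).mul_right _) (dvd_mul_right x c)
  have hloc : IsLocalRing (AdjoinRoot (X ^ n - C π : A[X])) := by
    obtain ⟨m, hm⟩ := Ideal.exists_maximal (AdjoinRoot (X ^ n - C π : A[X]))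
    exact IsLocalRing.of_unique_max_ideal ⟨m, hm, fun m' hm' => (hmax m' hm').trans (hmax m hm).symm⟩
  have hmeq : IsLocalRing.maximalIdeal (AdjoinRoot (X ^ n - C π : A[X])) = Ideal.span {x} :=
    hmax _ inferInstance
  have hx0 : x ≠ 0 := by
    intro h
    rw [h, zero_pow (by omega)] at hxn
    exact hπ.ne_zero ((map_eq_zero_iff _ hinj).1 hxn.symm)
  have hnf : ¬ IsField (AdjoinRoot (X ^ n - C π : A[X])) := by
    rw [IsLocalRing.isField_iff_maximalIdeal_eq, hmeq, Ideal.span_singleton_eq_bot]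
    exact hx0
  have hdvr : IsDiscreteValuationRing (AdjoinRoot (X ^ n - C π : A[X])) :=
    ((IsDiscreteValuationRing.TFAE _ hnf).out 4 0 :
      (IsLocalRing.maximalIdeal (AdjoinRoot (X ^ n - C π : A[X]))).IsPrincipal ↔ _).1 ⟨⟨x, hmeq⟩⟩
  refine ⟨hdom, hdvr, inferInstance, ?_, ?_⟩
  · rw [hπ.maximalIdeal_eq, Ideal.map_span, Set.image_singleton, hmeq, Ideal.span_singleton_pow, hxn]
  intro K₁ _ _ _
  set g : A →+* K₁ := (algebraMap (AdjoinRoot (X ^ n - C π : A[X])) K₁).comp (algebraMap A _) with hg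
  let V₀ : ValuationSubring K₁ :=
    { (algebraMap (AdjoinRoot (X ^ n - C π : A[X])) K₁).range with
      mem_or_inv_mem' := fun y => ValuationRing.isInteger_or_isInteger _ y }
  have hV₀ : ∀ y, y ∈ V₀ ↔ y ∈ (algebraMap (AdjoinRoot (X ^ n - C π : A[X])) K₁).range := fun y => Iff.rfl
  have hdom₀ : EtRam.Dominates A g V₀ := by
    refine ⟨fun a => ⟨_, rfl⟩, fun a ha => ?_⟩
    rw [hπ.maximalIdeal_eq, Ideal.mem_span_singleton] at ha
    obtain ⟨a', rfl⟩ := ha
    refine lt_of_le_of_ne ((V₀.valuation_le_one_iff _).2 ⟨_, rfl⟩) fun h => ?_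
    rcases eq_or_ne (g (π * a')) 0 with h0 | h0
    · rw [h0, map_zero] at h; exact zero_ne_one h
    have hinv : (g (π * a'))⁻¹ ∈ V₀ := by
      rw [← V₀.valuation_le_one_iff, map_inv₀, h, inv_one]
    obtain ⟨d, hd⟩ := hinv
    have hu : IsUnit (algebraMap A (AdjoinRoot (X ^ n - C π : A[X])) (π * a')) := by
      refine IsUnit.of_mul_eq_one d (IsFractionRing.injective (AdjoinRoot (X ^ n - C π : A[X])) K₁ ?_)
      rw [map_mul, map_one, hd]
      exact mul_inv_cancel₀ h0
    rw [map_mul, ← hxn] at hu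
    have hux : IsUnit x := (isUnit_pow_iff (by omega)).1 (isUnit_of_mul_isUnit_left hu)
    exact (IsLocalRing.mem_maximalIdeal x).1 (hmeq ▸ Ideal.mem_span_singleton_self x) hux
  have huniq : ∀ V : ValuationSubring K₁, EtRam.Dominates A g V → ∀ y, y ∈ V ↔ y ∈ V₀ := by
    intro V hV
    have hxV : V.valuation (algebraMap _ K₁ x) < 1 := by
      have h := hV.2 π (by rw [hπ.maximalIdeal_eq]; exact Ideal.mem_span_singleton_self π)
      rw [hg, RingHom.comp_apply, ← hxn, map_pow, map_pow] at h
      exact (pow_lt_one_iff (by omega)).1 h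
    have hsub : ∀ b, algebraMap (AdjoinRoot (X ^ n - C π : A[X])) K₁ b ∈ V := by
      intro b
      induction b using AdjoinRoot.induction_on with
      | ih P =>
        induction P using Polynomial.induction_on' with
        | add p q hp hq => rw [map_add, map_add]; exact V.add_mem _ _ hp hq
        | monomial k a =>
          rw [← C_mul_X_pow_eq_monomial, map_mul, map_pow, AdjoinRoot.mk_X, AdjoinRoot.mk_C, map_mul,
            map_pow]
          exact V.mul_mem _ _ (hV.1 a) (pow_mem ((V.valuation_le_one_iff _).1 hxV.le) k)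
    intro y
    refine ⟨fun hy => ?_, fun hy => by obtain ⟨b, rfl⟩ := hy; exact hsub b⟩
    by_contra hy'
    obtain ⟨d, hd⟩ := (V₀.mem_or_inv_mem y).resolve_left hy'
    have hd' : d ∈ IsLocalRing.maximalIdeal (AdjoinRoot (X ^ n - C π : A[X])) := by
      rw [IsLocalRing.mem_maximalIdeal, mem_nonunits_iff]
      intro hu
      apply hy'
      obtain ⟨w, rfl⟩ := hu
      exact ⟨↑w⁻¹, by rw [map_units_inv, hd, inv_inv]⟩
    rw [hmeq, Ideal.mem_span_singleton] at hd'
    obtain ⟨d', rfl⟩ := hd'
    have h1 : V.valuation y⁻¹ < 1 := by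
      rw [← hd, map_mul, map_mul]
      exact mul_lt_one_of_nonneg_of_lt_one_left zero_le' hxV ((V.valuation_le_one_iff _).2 (hsub d'))
    rw [map_inv₀] at h1
    rcases eq_or_ne y 0 with rfl | hy0
    · exact hy' V₀.zero_mem
    exact absurd h1 (not_lt.2 (one_le_inv₀ (zero_lt_iff.2 ((Valuation.ne_zero_iff _).2 hy0)) |>.2
      ((V.valuation_le_one_iff _).2 hy)))
  refine ⟨⟨V₀, hdom₀⟩, fun V V' h h' => SetLike.ext fun y =>
    (huniq V h y).trans (huniq V' h' y).symm, fun V h r => ?_⟩
  obtain ⟨r, rfl⟩ := IsLocalRing.residue_surjective r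
  obtain ⟨b, hb⟩ := (hV₀ _).1 ((huniq V h _).1 r.2)
  obtain ⟨a, c, rfl⟩ := hdec b
  refine ⟨a, sub_eq_zero.1 ?_⟩
  rw [← map_sub, IsLocalRing.residue_eq_zero_iff, ValuationSubring.valuation_lt_one_iff]
  have : ((RingHom.codRestrict g V h.1 a - r : V) : K₁) = -(algebraMap _ K₁ x * algebraMap _ K₁ c) := by
    push_cast
    rw [← hb, map_add, map_mul]
    show g a - _ = _
    rw [hg, RingHom.comp_apply]
    ring
  rw [this, Valuation.map_neg, map_mul]
  have hxV : V.valuation (algebraMap _ K₁ x) < 1 := by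
    have h := h.2 π (by rw [hπ.maximalIdeal_eq]; exact Ideal.mem_span_singleton_self π)
    rw [hg, RingHom.comp_apply, ← hxn, map_pow, map_pow] at h
    exact (pow_lt_one_iff (by omega)).1 h
  exact mul_lt_one_of_nonneg_of_lt_one_left zero_le' hxV
    ((V.valuation_le_one_iff _).2 ((huniq V h _).2 ⟨c, rfl⟩))

end Groth.Agent.S1987
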