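import Groth.Statements.S14123
import Mathlib
import Groth.Agent.S1987

set_option autoImplicit false
universe u v
open GmQuot

namespace Groth.Agent.S14123

/-- Divisibility of the values of the homogeneous elements of natural degree. -/
theorem dvd_of_homogeneous {A : Type u} [CommRing A] (𝒜 : ℤ → AddSubgroup A) [GradedRing 𝒜]
    (s : Finset A) (ds : A → ℤ) (hds : ∀ a ∈ s, 0 < ds a ∧ a ∈ 𝒜 (ds a))
    (hspan : ∀ (d : ℤ) (a : A), 0 < d → a ∈ 𝒜 d → a ∈ Ideal.span (s : Set A))
    {S : Type v} [CommRing S] (ψ : A →+* S) (ϖ : S) (hs : ∀ a ∈ s, ϖ ^ (ds a).toNat ∣ ψ a) :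
    ∀ (d : ℕ) (a : A), a ∈ 𝒜 d → ϖ ^ d ∣ ψ a := by
  classical
  intro d
  induction d using Nat.strong_induction_on with
  | _ d ih =>
    intro a ha
    rcases Nat.eq_zero_or_pos d with rfl | hd
    · simp
    obtain ⟨c, hc⟩ := (Submodule.mem_span_finset').1 (hspan d a (by exact_mod_cast hd) ha)
    have hacomp : a = ∑ i : {x // x ∈ s},
        (DirectSum.decompose 𝒜 (c i) ((d : ℤ) - ds i) : A) * i := by
      conv_lhs => rw [← DirectSum.decompose_of_mem_same 𝒜 ha, ← hc]
      rw [DirectSum.decompose_sum, DFinsupp.finset_sum_apply, AddSubmonoidClass.coe_finsetSum]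
      refine Finset.sum_congr rfl fun i _ => ?_
      have h := DirectSum.coe_decompose_mul_add_of_right_mem (𝒜 := 𝒜) (i := (d : ℤ) - ds i)
        (a := c i) (hds i i.2).2
      rw [sub_add_cancel] at h
      exact h
    rw [hacomp, map_sum]
    refine Finset.dvd_sum fun i _ => ?_
    rw [map_mul]
    obtain ⟨hpos, hmem⟩ := hds i i.2
    by_cases hle : (d : ℤ) ≤ ds i
    · exact Dvd.dvd.mul_left ((pow_dvd_pow ϖ (by omega)).trans (hs i i.2)) _
    · obtain ⟨k, hk⟩ : ∃ k : ℕ, (d : ℤ) - ds i = k := ⟨((d : ℤ) - ds i).toNat, by omega⟩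
      rw [show d = k + (ds i).toNat by omega, pow_add]
      refine mul_dvd_mul (ih k (by omega) _ ?_) (hs i i.2)
      rw [← hk]
      convert SetLike.coe_mem _ using 1
      rw [show ((k + (ds i).toNat : ℕ) : ℤ) = (d : ℤ) by omega]
theorem toSemiring_decompose {A : Type u} [CommRing A] (𝒜 : ℤ → AddSubgroup A) [GradedRing 𝒜]
    {S : Type v} [CommRing S] (f : ∀ d : ℤ, 𝒜 d →+ S) (hone : f 0 (GradedMonoid.GOne.one (A := fun i : ℤ => ↥(𝒜 i))) = 1)
    (hmul : ∀ {i j : ℤ} (a : 𝒜 i) (b : 𝒜 j),
      f (i + j) (GradedMonoid.GMul.mul (A := fun i : ℤ => ↥(𝒜 i)) a b) = f i a * f j b)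
    {d : ℤ} {a : A} (ha : a ∈ 𝒜 d) :
    (DirectSum.toSemiring f hone hmul).comp (DirectSum.decomposeRingEquiv 𝒜).toRingHom a =
      f d ⟨a, ha⟩ := by
  show DirectSum.toSemiring f hone hmul (DirectSum.decompose 𝒜 a) = _
  rw [DirectSum.decompose_of_mem 𝒜 ha, DirectSum.toSemiring_of]

/-- Let `A = ⊕_{d ∈ ℤ} A_d` be a graded commutative ring whose ideal `I₊` generated by the homogeneous
elements of positive degree is finitely generated, `R` a discrete valuation ring with fraction field
`K`, and `φ : A → R` a ring map with `φ(I₊) ≠ 0` and `φ(I₊)` inside the maximal ideal. Then after a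
finite extension `K'/K` and a discrete valuation ring `R'` of `K'` dominating `R` there are a
nonzero non-unit `ϖ ∈ R'` and a ring map `g : A → R'` with `g(a) ϖ^d = φ(a)` for every homogeneous
`a` of degree `d` (so `g` is `φ` rescaled through the grading by `ϖ`), such that `g(I₊) R' = R'`.
(The published statement is phrased for the quotient stack of `Spec A` by the multiplicative group
and its closed substack cut out by `I₊`, in a setting where `A` is Noetherian, being of finite type
over a Noetherian base: an `R`-point whose closed point lies in that substack and whose generic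
point does not admits, after a finite extension, an elementary modification avoiding the substack;
this row is the graded-ring statement the printed argument proves, assuming only that `I₊` is
finitely generated, which is all that argument uses, and with `ϖ` not required to be a uniformizer.) -/
theorem result
    {A : Type u} [CommRing A] (𝒜 : ℤ → AddSubgroup A) [GradedRing 𝒜]
    (hfg : (Ideal.span {a : A | ∃ d : ℤ, 0 < d ∧ a ∈ 𝒜 d}).FG)
    (R : Type v) [CommRing R] [IsDomain R] [IsDiscreteValuationRing R]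
    (K : Type v) [Field K] [Algebra R K] [IsFractionRing R K]
    (φ : A →+* R)
    (hle : Ideal.map φ (Ideal.span {a : A | ∃ d : ℤ, 0 < d ∧ a ∈ 𝒜 d}) ≤ IsLocalRing.maximalIdeal R)
    (hne : Ideal.map φ (Ideal.span {a : A | ∃ d : ℤ, 0 < d ∧ a ∈ 𝒜 d}) ≠ ⊥) :
    ∃ (R' : Type v) (_ : CommRing R') (_ : IsDomain R') (_ : IsDiscreteValuationRing R')
      (K' : Type v) (_ : Field K') (_ : Algebra R' K') (_ : IsFractionRing R' K')
      (_ : Algebra R R') (_ : Algebra K K') (_ : Algebra R K')
      (_ : IsScalarTower R R' K') (_ : IsScalarTower R K K')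
      (_ : Module.Finite K K') (_ : IsLocalHom (algebraMap R R'))
      (ϖ : R') (g : A →+* R'),
      ϖ ≠ 0 ∧ ϖ ∈ IsLocalRing.maximalIdeal R' ∧
      (∀ (d : ℤ) (a : A), a ∈ 𝒜 d →
        algebraMap R' K' (g a) * algebraMap R' K' ϖ ^ d = algebraMap R K' (φ a)) ∧
      Ideal.map g (Ideal.span {a : A | ∃ d : ℤ, 0 < d ∧ a ∈ 𝒜 d}) = ⊤ := by
  classical
  obtain ⟨t, ht⟩ := IsDiscreteValuationRing.exists_irreducible R
  obtain ⟨s, hs, hspan⟩ := (Submodule.fg_span_iff_fg_span_finset_subset _).1 hfg
  change Ideal.span _ = Ideal.span (s : Set A) at hspan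
  have hs' : ∀ a ∈ s, ∃ d : ℤ, 0 < d ∧ a ∈ 𝒜 d := fun a ha => hs ha
  choose! ds hds using hs'
  let s₀ := s.filter fun a => φ a ≠ 0
  have hs₀ : s₀.Nonempty := by
    by_contra h
    refine hne ?_
    rw [hspan, Ideal.map_span, Ideal.span_eq_bot]
    rintro _ ⟨a, ha, rfl⟩
    by_contra hne'
    exact h ⟨a, Finset.mem_filter.2 ⟨ha, hne'⟩⟩
  have hval : ∀ a, φ a ≠ 0 → ∃ n : ℕ, Associated (φ a) (t ^ n) := fun a ha =>
    IsDiscreteValuationRing.associated_pow_irreducible ha ht
  choose! e he using hval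
  obtain ⟨j, hj, hjmin⟩ := Finset.exists_min_image s₀ (fun a => (e a : ℚ) / (ds a : ℚ)) hs₀
  rw [Finset.mem_filter] at hj
  obtain ⟨D, hD⟩ : ∃ D : ℕ, (D : ℤ) = ds j := ⟨(ds j).toNat, by have := (hds j hj.1).1; omega⟩
  have hD0 : 0 < D := by have := (hds j hj.1).1; omega
  have hej : 1 ≤ e j := by
    by_contra h
    have h1 := he j hj.2
    rw [show e j = 0 by omega, pow_zero, associated_one_iff_isUnit] at h1
    exact (IsLocalRing.mem_maximalIdeal _).1 (hle (Ideal.mem_map_of_mem φ
      (hspan ▸ Ideal.subset_span hj.1))) h1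
  let n := 2 * D
  obtain ⟨-, hdom, hdvr, -, hmax, -⟩ := Groth.Agent.S1987.result R t ht n (by omega)
  let R' := AdjoinRoot (Polynomial.X ^ n - Polynomial.C t : Polynomial R)
  haveI : IsDomain R' := hdom
  haveI : IsDiscreteValuationRing R' := hdvr
  have hmon : (Polynomial.X ^ n - Polynomial.C t : Polynomial R).Monic :=
    Polynomial.monic_X_pow_sub_C t (by omega)
  haveI : Module.Finite R R' := (AdjoinRoot.powerBasis' hmon).finite
  let x : R' := AdjoinRoot.root _
  have hxn : x ^ n = algebraMap R R' t := by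
    have h := AdjoinRoot.eval₂_root (Polynomial.X ^ n - Polynomial.C t : Polynomial R)
    rw [Polynomial.eval₂_sub, Polynomial.eval₂_X_pow, Polynomial.eval₂_C, sub_eq_zero] at h
    exact h
  have hinjR : Function.Injective (algebraMap R R') := by
    rw [AdjoinRoot.algebraMap_eq]
    refine AdjoinRoot.of.injective_of_degree_ne_zero ?_
    rw [Polynomial.degree_X_pow_sub_C (by omega)]
    exact_mod_cast (by omega : n ≠ 0)
  haveI : FaithfulSMul R R' := (faithfulSMul_iff_algebraMap_injective R R').2 hinjR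
  haveI : IsLocalHom (algebraMap R R') :=
    ((IsLocalRing.local_hom_TFAE _).out 0 2 rfl rfl).mpr
      (hmax.le.trans (Ideal.pow_le_self (by omega)))
  have hx : x ∈ IsLocalRing.maximalIdeal R' := by
    refine Ideal.IsPrime.mem_of_pow_mem inferInstance n ?_
    rw [hxn]
    exact map_nonunit (algebraMap R R') t
      ((IsLocalRing.mem_maximalIdeal _).2 ht.not_isUnit)
  have hx0 : x ≠ 0 := by
    intro h
    rw [h, zero_pow (by omega), eq_comm, map_eq_zero_iff _ hinjR] at hxn
    exact ht.ne_zero hxn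
  let ϖ : R' := x ^ (2 * e j)
  have hϖ0 : ϖ ≠ 0 := pow_ne_zero _ hx0
  let ψ : A →+* R' := (algebraMap R R').comp φ
  have hgen : ∀ a ∈ s, ϖ ^ (ds a).toNat ∣ ψ a := by
    intro a ha
    by_cases h0 : φ a = 0
    · simp [ψ, h0]
    have h1 := hjmin a (Finset.mem_filter.2 ⟨ha, h0⟩)
    have hda := (hds a ha).1
    rw [div_le_div_iff₀ (by exact_mod_cast (hds j hj.1).1) (by exact_mod_cast hda), ← hD] at h1
    have h2 : e j * (ds a).toNat ≤ e a * D := by
      have h3 : ((ds a).toNat : ℤ) = ds a := Int.toNat_of_nonneg hda.le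
      have h4 : ((e j * (ds a).toNat : ℕ) : ℚ) ≤ ((e a * D : ℕ) : ℚ) := by
        push_cast
        rw [show (((ds a).toNat : ℕ) : ℚ) = (ds a : ℚ) by exact_mod_cast h3]
        exact_mod_cast h1
      exact_mod_cast h4
    obtain ⟨u, hu⟩ := he a h0
    have h5 : ψ a * algebraMap R R' u = x ^ (n * e a) := by
      refine Eq.trans ?_ (pow_mul x n (e a)).symm
      rw [hxn, ← map_pow]
      exact ((map_mul (algebraMap R R') (φ a) u).symm.trans (congrArg (algebraMap R R') hu) :)
    refine ((u.isUnit.map (algebraMap R R')).dvd_mul_right).1 ?_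
    rw [h5, ← pow_mul]
    refine pow_dvd_pow x ?_
    show 2 * e j * (ds a).toNat ≤ 2 * D * e a
    nlinarith
  have hdvd := dvd_of_homogeneous 𝒜 s ds hds
    (fun d a hd ha => hspan ▸ Ideal.subset_span ⟨d, hd, ha⟩) ψ ϖ hgen
  let K' := FractionRing R'
  haveI : FaithfulSMul R K' := (faithfulSMul_iff_algebraMap_injective R K').2 (by
    rw [IsScalarTower.algebraMap_eq R R' K']
    exact (IsFractionRing.injective R' K').comp hinjR)
  letI : Algebra K K' := (IsFractionRing.lift (K := K)
    (FaithfulSMul.algebraMap_injective R K')).toAlgebra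
  haveI : IsScalarTower R K K' := IsScalarTower.of_algebraMap_eq fun r =>
    (IsFractionRing.lift_algebraMap (K := K) (FaithfulSMul.algebraMap_injective R K') r).symm
  haveI : Algebra.IsIntegral R R' := Algebra.IsIntegral.of_finite R R'
  haveI : Module.Finite K K' := by
    obtain ⟨T, hT⟩ := Module.Finite.fg_top (R := R) (M := R')
    refine ⟨⟨T.image (algebraMap R' K'), eq_top_iff.2 fun y _ => ?_⟩⟩
    obtain ⟨b, c, hc, rfl⟩ := IsFractionRing.div_surjective R' y
    have hc0 : c ≠ 0 := nonZeroDivisors.ne_zero hc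
    obtain ⟨r, hr, hr0⟩ : ∃ r, r ∈ (Ideal.span {c}).comap (algebraMap R R') ∧ r ≠ 0 := by
      by_contra h
      push Not at h
      have h1 := Ideal.eq_bot_of_comap_eq_bot (R := R) (I := Ideal.span {c}) (eq_bot_iff.2 h)
      rw [Ideal.span_singleton_eq_bot] at h1
      exact hc0 h1
    rw [Ideal.mem_comap, Ideal.mem_span_singleton'] at hr
    obtain ⟨c', hc'⟩ := hr
    have hrK : algebraMap R K' r ≠ 0 := by
      rwa [ne_eq, map_eq_zero_iff _ (FaithfulSMul.algebraMap_injective R K')]
    have heq : algebraMap R' K' b / algebraMap R' K' c =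
        (algebraMap R K r)⁻¹ • algebraMap R' K' (b * c') := by
      rw [Algebra.smul_def, map_inv₀, ← IsScalarTower.algebraMap_apply R K K']
      rw [inv_mul_eq_div, div_eq_div_iff
        (by rwa [ne_eq, map_eq_zero_iff _ (IsFractionRing.injective R' K')]) hrK,
        IsScalarTower.algebraMap_apply R R' K', ← map_mul, ← map_mul, ← hc', mul_assoc]
    rw [heq]
    refine Submodule.smul_mem _ _ (Submodule.span_le_restrictScalars R K _ ?_)
    rw [Finset.coe_image, show (algebraMap R' K' : R' → K') = (IsScalarTower.toAlgHom R R' K').toLinearMap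
      from rfl, Submodule.span_image, hT, Submodule.map_top]
    exact ⟨_, rfl⟩
  let ι := algebraMap R' K'
  have hϖK : ι ϖ ≠ 0 := by
    rwa [ne_eq, map_eq_zero_iff _ (IsFractionRing.injective R' K')]
  let f : ∀ d : ℤ, 𝒜 d →+ K' := fun d =>
    { toFun := fun a => ι (ψ a) * ι ϖ ^ (-d)
      map_zero' := by simp
      map_add' := fun a b => by simp [add_mul] }
  let G : A →+* K' := (DirectSum.toSemiring f
    (by simp [f, SetLike.coe_gOne])
    (fun {i j} a b => by
      simp only [f, AddMonoidHom.coe_mk, ZeroHom.coe_mk, SetLike.coe_gMul, map_mul, neg_add,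
        zpow_add₀ hϖK]
      ring)).comp (DirectSum.decomposeRingEquiv 𝒜).toRingHom
  have hG : ∀ (d : ℤ) (a : A), a ∈ 𝒜 d → G a = ι (ψ a) * ι ϖ ^ (-d) := fun d a ha =>
    toSemiring_decompose 𝒜 f _ _ ha
  have hrange : ∀ a, ∃ y, ι y = G a := by
    intro a
    induction a using DirectSum.Decomposition.inductionOn 𝒜 with
    | zero => exact ⟨0, by rw [map_zero, map_zero]⟩
    | @homogeneous d m =>
      rw [hG d m m.2]
      rcases le_or_gt d 0 with hd | hd
      · refine ⟨ψ m * ϖ ^ (-d).toNat, ?_⟩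
        rw [map_mul, map_pow, ← zpow_natCast, Int.toNat_of_nonneg (by omega)]
      · obtain ⟨k, rfl⟩ : ∃ k : ℕ, d = k := ⟨d.toNat, by omega⟩
        obtain ⟨y, hy⟩ := hdvd k m m.2
        refine ⟨y, ?_⟩
        rw [hy, map_mul, map_pow, zpow_neg, zpow_natCast, mul_comm (ι ϖ ^ k), mul_assoc,
          mul_inv_cancel₀ (pow_ne_zero _ hϖK), mul_one]
    | add a b ha hb =>
      obtain ⟨y, hy⟩ := ha
      obtain ⟨z, hz⟩ := hb
      exact ⟨y + z, by rw [map_add, map_add, hy, hz]⟩
  choose g hg using hrange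
  have hι : Function.Injective ι := IsFractionRing.injective R' K'
  let gh : A →+* R' :=
    { toFun := g
      map_one' := hι (by rw [hg, map_one, map_one])
      map_mul' := fun a b => hι (by rw [hg, map_mul, map_mul, hg, hg])
      map_zero' := hι (by rw [hg, map_zero, map_zero])
      map_add' := fun a b => hι (by rw [hg, map_add, map_add, hg, hg]) }
  refine ⟨R', inferInstance, inferInstance, inferInstance, K', inferInstance, inferInstance,
    inferInstance, inferInstance, inferInstance, inferInstance, inferInstance, inferInstance,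
    inferInstance, inferInstance, ϖ, gh, hϖ0, Ideal.pow_mem_of_mem _ hx _ (by omega), fun d a ha => ?_, ?_⟩
  · show ι (g a) * ι ϖ ^ d = _
    rw [hg, hG d a ha, mul_assoc, ← zpow_add₀ hϖK, neg_add_cancel, zpow_zero, mul_one,
      IsScalarTower.algebraMap_apply R R' K']
    rfl
  · refine Ideal.eq_top_of_isUnit_mem _ (Ideal.mem_map_of_mem gh
      (hspan ▸ Ideal.subset_span hj.1 : j ∈ _)) ?_
    obtain ⟨u, hu⟩ := he j hj.2
    refine IsUnit.of_mul_eq_one (algebraMap R R' u) (hι ?_)
    rw [map_mul, map_one]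
    show ι (g j) * _ = 1
    rw [hg, hG _ j (hds j hj.1).2, ← hD, mul_right_comm, ← map_mul,
      show ψ j * algebraMap R R' u = ϖ ^ D by
        refine Eq.trans (((map_mul (algebraMap R R') (φ j) u).symm.trans
          (congrArg (algebraMap R R') hu)) :) ?_
        rw [map_pow, ← hxn]
        show _ = (x ^ (2 * e j)) ^ D
        rw [← pow_mul, ← pow_mul]
        congr 1
        ring, map_pow, ← zpow_natCast, ← zpow_add₀ hϖK, add_neg_cancel, zpow_zero]

end Groth.Agent.S14123
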