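import Groth.Statements.S14124
import Groth.Agent.H52.AmpleVanishAV

set_option autoImplicit false
universe u
open CategoryTheory CategoryTheory.Limits MonoidalCategory CartesianMonoidalCategory MonObj GrpObj AlgebraicGeometry
open AbVar

namespace Groth.Agent.S14124

/-- Let k be an algebraically closed field, A an abelian variety over k (a proper smooth k-group scheme
with geometrically connected fibres) and L an ample invertible O_A-module. Then the cohomology
groups H^j(A, L) vanish for all j > 0, and H^0(A, L) is non-zero. -/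
theorem result (k : Type u) [Field k] [IsAlgClosed k]
    (A : Over (Spec (CommRingCat.of k))) [GrpObj A] [IsProper A.hom] [Smooth A.hom] [GeometricallyConnected A.hom]
    (L : A.left.Modules) (hLa : CohB1.IsAmple L) :
    (∀ j : ℕ, 0 < j → Subsingleton (Coh.HH A.left L j)) ∧ Nontrivial (Coh.HH A.left L 0) := by
  letI : ∀ Y : Scheme.{u}, PicGrp.Law Y := Groth.Agent.Lib.TensorMod.Invertible.law
  haveI := Groth.Agent.H2.Rigid.GeomIrred.geometricallyIntegral_of_smooth A.hom
  haveI : IsIntegral A.left := GeometricallyIntegral.isIntegral_of_subsingleton A.hom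
  have hv := Groth.Agent.H52.AmpleVanishAV.subsingleton_of_isAmple L hLa
  obtain ⟨g, hg⟩ : ∃ g : ℕ, topologicalKrullDim A.left = g :=
    ⟨_, Groth.Agent.Lib.GenFinite.Basic.topologicalKrullDim_eq_fdelta A.hom⟩
  obtain ⟨i, -, -, hi⟩ := Groth.Agent.H52.IndexThm.exists_index g hg L hLa.1
    ((Groth.Agent.H52.AmpleNondeg.finite_translationFixing A L hLa).subset fun a ha =>
      (Groth.Agent.H3.PicCalc.iso_iff (Groth.Agent.H3.PicCalc.cl_pullback _ (a := PicGrp.cls L hLa.1) rfl)
        (b := PicGrp.cls L hLa.1) rfl).mpr ha)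
  refine ⟨hv, ?_⟩
  obtain rfl | h := Nat.eq_zero_or_pos i
  · exact hi
  · haveI := hv i h
    exact (false_of_nontrivial_of_subsingleton (Coh.HH A.left L i)).elim

end Groth.Agent.S14124
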