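import Groth.Statements.S14128
import Groth.Agent.Lib.HomConj.Minimal
import Groth.Agent.Lib.JacCrit.FlatRegular

set_option autoImplicit false
universe u
open CategoryTheory CategoryTheory.Limits
open LocAlg

namespace Groth.Agent.S14128

/-- Let R be a regular local ring of Krull dimension g and M = (M^0 → M^1 → ⋯ → M^g) a perfect complex
over R, here a cochain complex of finitely generated free R-modules indexed by ℕ with M^i = 0 for i
> g, such that every cohomology module H^i(M) has finite length. Then H^i(M) = 0 for all i < g, so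
that M has cohomology at most in degree g. -/
theorem result (R : Type u) [CommRing R]
    [IsRegularLocalRing R] (g : ℕ) (hg : ringKrullDim R = g) (M : CochainComplex (ModuleCat.{u} R) ℕ)
    (hbd : ∀ i, g < i → IsZero (M.X i)) (hfree : ∀ i, Module.Free R (M.X i) ∧ Module.Finite R (M.X i))
    (hfl : ∀ i, IsFiniteLength R (M.homology i)) (i : ℕ) (hi : i < g) :
    IsZero (M.homology i) := by
  classical
  let σ : ℕ → ℕ := fun j => if j ≤ g then g - j else g + 1
  have hb : ∀ i, ∃ n : ℕ, Nonempty (M.X i ≃ₗ[R] (Fin n → R)) := fun i => by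
    have := (hfree i).1
    have := (hfree i).2
    exact ⟨_, ⟨((Module.Free.chooseBasis R (M.X i)).reindex (Fintype.equivFin _)).equivFun⟩⟩
  choose N he using hb
  have e := fun i => (he i).some
  let T : ∀ j, (Fin (N (σ (j + 1))) → R) →ₗ[R] (Fin (N (σ j)) → R) := fun j =>
    (e (σ j)).toLinearMap ∘ₗ (M.d (σ (j + 1)) (σ j)).hom ∘ₗ (e (σ (j + 1))).symm.toLinearMap
  let G : Lib.HomConj.FCx R := ⟨fun j => N (σ j), fun j => LinearMap.toMatrix' (T j), fun j => by
    have : T j ∘ₗ T (j + 1) = 0 := LinearMap.ext fun v => by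
      have h := ConcreteCategory.congr_hom (M.d_comp_d (σ (j + 1 + 1)) (σ (j + 1)) (σ j))
        ((e (σ (j + 1 + 1))).symm v)
      refine Eq.trans ?_ (map_zero (e (σ j)))
      refine congrArg (e (σ j)) (Eq.trans ?_ h)
      exact congrArg (M.d (σ (j + 1)) (σ j)).hom ((e (σ (j + 1))).symm_apply_apply _)
    rw [← LinearMap.toMatrix'_comp, this, map_zero]⟩
  have hcomm : ∀ j x, Lib.HomConj.act (G.d j) (e (σ (j + 1)) x) = e (σ j) (M.d (σ (j + 1)) (σ j) x) := fun j x => by
    show Lib.HomConj.act (LinearMap.toMatrix' (T j)) _ = _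
    rw [Lib.HomConj.act_eq_mulVec, LinearMap.toMatrix'_mulVec]
    exact congrArg (fun y => e (σ j) (M.d (σ (j + 1)) (σ j) y)) ((e (σ (j + 1))).symm_apply_apply x)
  have hk : ∀ j, g < j → G.n j = 0 := fun j hj => by
    have : Subsingleton (M.X (g + 1)) := ModuleCat.isZero_iff_subsingleton.1 (hbd (g + 1) (by omega))
    have hs : Subsingleton (Fin (N (g + 1)) → R) := (e (g + 1)).symm.injective.subsingleton
    show N (σ j) = 0
    rw [show σ j = g + 1 from if_neg (by omega)]
    by_contra hne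
    exact one_ne_zero (α := R) (congrFun (@Subsingleton.elim _ hs (fun _ => (1 : R)) 0) ⟨0, Nat.pos_of_ne_zero hne⟩)
  have hcyc : ∀ j ≤ g, ∀ z : M.X (σ j), G.Cyc j (e (σ j) z) → M.d (σ j) (σ j + 1) z = 0 := by
    intro j hj z hz
    cases j with
    | zero =>
      have : Subsingleton (M.X (σ 0 + 1)) := ModuleCat.isZero_iff_subsingleton.1
        (hbd _ (by simp [σ]))
      exact Subsingleton.elim _ _
    | succ l =>
      have hz' : Lib.HomConj.act (G.d l) (e (σ (l + 1)) z) = 0 := hz
      rw [hcomm, LinearEquiv.map_eq_zero_iff] at hz'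
      rwa [show σ (l + 1) + 1 = σ l by simp only [σ]; rw [if_pos hj, if_pos (by omega)]; omega]
  have hkills : ∀ (a : R) (j : ℕ), j ≤ g → (∀ h : M.homology (σ j), a • h = 0) → G.Kills R a j := by
    intro a j hj h v hv
    obtain ⟨z, rfl⟩ := (e (σ j)).surjective v
    have h0 := h (Lib.FlatCx.Elem.cls (K := M) (CochainComplex.next ℕ (σ j)) ⟨z, hcyc j hj z hv⟩)
    rw [← map_smul] at h0
    rcases Nat.lt_or_ge j g with hlt | hge
    · rw [Lib.FlatCx.Elem.cls_eq_zero_iff (show (ComplexShape.up ℕ).prev (σ j) = σ (j + 1) from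
        (ComplexShape.up ℕ).prev_eq' (by
          show σ (j + 1) + 1 = σ j
          simp only [σ]; rw [if_pos (show j + 1 ≤ g by omega), if_pos hj]; omega))] at h0
      obtain ⟨y, hy⟩ := h0
      refine ⟨e (σ (j + 1)) y, ?_⟩
      rw [hcomm, ← map_smul]
      exact congrArg (e (σ j)) hy
    · have hσ : σ j = 0 := by simp only [σ]; rw [if_pos hj]; omega
      rw [Lib.FlatCx.Elem.cls_eq_zero_iff (show (ComplexShape.up ℕ).prev (σ j) = 0 by
        rw [hσ]; exact CochainComplex.prev_nat_zero)] at h0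
      rw [M.shape 0 (σ j) (by simp [hσ]), ModuleCat.hom_zero, LinearMap.range_zero, Submodule.mem_bot] at h0
      refine ⟨0, ?_⟩
      rw [map_zero, ← map_smul]
      exact ((LinearEquiv.map_eq_zero_iff _).2 h0).symm
  have hHN : ∀ f ∈ IsLocalRing.maximalIdeal R, G.HN f := fun f hf => by
    have hN : ∀ i, ∃ N : ℕ, ∀ h : M.homology i, f ^ N • h = 0 :=
      fun i => Lib.HomConj.exists_pow_smul_eq_zero (hfl i) hf
    choose P hP using hN
    let Q := (Finset.range (g + 1)).sup P
    refine G.hn_of_pow (k := Q) ⟨g + 1, G.nh_of_kills hk fun j hj => hkills _ j hj fun h => ?_⟩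
    have hle : σ j ≤ g := by simp only [σ]; rw [if_pos hj]; omega
    obtain ⟨c, hc⟩ := Nat.exists_eq_add_of_le (Finset.le_sup (f := P) (Finset.mem_range.2 (Nat.lt_succ_of_le hle)))
    show f ^ Q • h = 0
    rw [show Q = _ from hc, pow_add, mul_comm, mul_smul, hP, smul_zero]
  have hdep : (g : ℕ∞) ≤ LocCoh.depth R R := by
    have h := (Lib.JacCrit.FlatRegular.isCohenMacaulayLocalRing R).supportDim_eq_depth
    rw [Module.supportDim_self_eq_ringKrullDim, hg] at h
    exact (WithBot.coe_inj.1 h).le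
  obtain ⟨l, hl, rfl⟩ : ∃ l, l ≤ g ∧ i = σ l := ⟨g - i, by omega, by simp only [σ]; rw [if_pos (by omega)]; omega⟩
  have hl0 : 0 < l := by
    simp only [σ] at hi; rw [if_pos hl] at hi; omega
  rw [ModuleCat.isZero_iff_subsingleton]
  suffices hz : ∀ h : M.homology (σ l), h = 0 from ⟨fun a b => by rw [hz a, hz b]⟩
  intro h
  obtain ⟨⟨z, hz⟩, rfl⟩ := Lib.FlatCx.Elem.cls_surjective (CochainComplex.next ℕ (σ l)) h
  have hv : G.Cyc l (e (σ l) z) := by
    cases l with
    | zero => trivial
    | succ k =>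
      show Lib.HomConj.act (G.d k) _ = 0
      rw [hcomm, LinearEquiv.map_eq_zero_iff,
        show σ k = σ (k + 1) + 1 by simp only [σ]; rw [if_pos hl, if_pos (by omega)]; omega]
      exact hz
  obtain ⟨w, hw⟩ := Lib.HomConj.Minimal.kills_one_of_lt_depth G g hk hHN hdep l (by omega) _ hv
  rw [one_smul] at hw
  obtain ⟨y, rfl⟩ := (e (σ (l + 1))).surjective w
  rw [hcomm] at hw
  have hy := (e (σ l)).injective hw
  rcases Nat.lt_or_ge l g with hlt | hge
  · exact (Lib.FlatCx.Elem.cls_eq_zero_iff (show (ComplexShape.up ℕ).prev (σ l) = σ (l + 1) from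
      (ComplexShape.up ℕ).prev_eq' (by
        show σ (l + 1) + 1 = σ l
        simp only [σ]; rw [if_pos (show l + 1 ≤ g by omega), if_pos hl]; omega)) _ _).2 ⟨y, hy⟩
  · have hσ : σ (l + 1) = g + 1 := if_neg (by omega)
    have : Subsingleton (M.X (σ (l + 1))) := by
      rw [hσ]; exact ModuleCat.isZero_iff_subsingleton.1 (hbd (g + 1) (by omega))
    rw [show (⟨z, hz⟩ : LinearMap.ker _) = 0 from Subtype.ext (by
      exact hy.symm.trans ((congrArg _ (Subsingleton.elim y 0)).trans (map_zero _))), map_zero]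

end Groth.Agent.S14128
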