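import Groth.Statements.S1413
import Groth.Agent.Lib.Flat55.FlatDescend

set_option autoImplicit false
universe u
open FlatMor

namespace Groth.Agent.S1413

open AlgebraicGeometry CategoryTheory Limits in
/-- Let X → Y → Z be morphisms with X → Y flat and surjective and with the diagonal of X over Z flat.
Then the diagonal of Y over Z is flat. -/
theorem result {X Y Z : Scheme.{u}} (f : X ⟶ Y) (g : Y ⟶ Z) [Flat f] [Surjective f] [Flat (pullback.diagonal (f ≫ g))] :
    Flat (pullback.diagonal g) := by
  let p : pullback (f ≫ g) (f ≫ g) ⟶ pullback g g :=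
    pullback.map _ _ _ _ f f (𝟙 Z) (by simp) (by simp)
  have hp : pullback.diagonal (f ≫ g) ≫ p = f ≫ pullback.diagonal g := by
    apply pullback.hom_ext <;>
      simp only [p, Category.assoc, pullback.map, pullback.lift_fst, pullback.lift_snd,
        pullback.diagonal_fst, pullback.diagonal_snd, pullback.diagonal_fst_assoc,
        pullback.diagonal_snd_assoc, Category.comp_id]
  have : Flat p := by
    exact MorphismProperty.pullbackMap (P := @Flat) (f := f ≫ g) (f' := g) (g := f ≫ g) (g' := g)
      (i₁ := f) (i₂ := f) ‹Flat f› ‹Flat f› rfl rfl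
  have hcomp : Flat (f ≫ pullback.diagonal g) := hp ▸ inferInstance
  exact Lib.Flat55.FlatDescend.flat_of_comp f _

end Groth.Agent.S1413
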