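import Groth.Statements.S14131
import Groth.Agent.H52.MumfordInput
import Groth.Agent.H2.Rigid.GeomIrred
import Groth.Agent.Lib.GenFinite.Basic

set_option autoImplicit false
universe u
open CategoryTheory CategoryTheory.Limits MonoidalCategory CartesianMonoidalCategory MonObj GrpObj AlgebraicGeometry
open AbVar

namespace Groth.Agent.S14131

open Groth.Agent.H3

noncomputable local instance s14131Law (Y : Scheme.{u}) : PicGrp.Law Y := Groth.Agent.Lib.TensorMod.Invertible.law Y


/-- Let k be an algebraically closed field, A an abelian variety over k (a proper smooth k-group scheme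
with geometrically connected fibres) of dimension g, (A^t, φ) a given dual abelian variety of A for
the fppf topology with A^t an abelian variety, L an invertible O_A-module with an inverse L', and Λ
a module on A ×_k A isomorphic to the Mumford module m^*L ⊗ pr_1^*L' ⊗ pr_2^*L', whose class is
assumed algebraically trivial on every geometric fibre of the second projection. Let φ_L = φ(Λ) : A
→ A^t and assume L non-degenerate in the sense that φ_L is finite and flat, of constant rank d. Then
there is a natural number i ≤ g such that H^j(A, L) vanishes for all j ≠ i and the square of dim_k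
H^i(A, L) equals d. (The published statement moreover writes the Fourier–Mukai transform of L as a
vector bundle on A^t placed in degree i; only the cohomological consequences are stated here.) -/
theorem result (k : Type u) [Field k] [IsAlgClosed k]
    (A At : Over (Spec (CommRingCat.of k))) [GrpObj A] [IsProper A.hom] [Smooth A.hom] [GeometricallyConnected A.hom]
    [GrpObj At] [IsProper At.hom] [Smooth At.hom] [GeometricallyConnected At.hom]
    (φ : ∀ T : Over (Spec (CommRingCat.of k)), PicF.Cl (PicF.XT A.hom T) → (T ⟶ At))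
    (hφ : AbDual.IsDualAV Scheme.fppfPrecoverage A At φ)
    (g : ℕ) (hg : topologicalKrullDim ↥A.left = g)
    (L : A.left.Modules) (hL : PicF.IsInvertible L) (L' : A.left.Modules) (hL' : Nonempty (CohB1.tensorMod L L' ≅ Coh.structureModule A.left))
    (Λ : (PicF.XT A.hom A).Modules)
    (hΛ : Nonempty (Λ ≅ CohB1.tensorMod (CohB1.tensorMod ((Scheme.Modules.pullback μ[A].left).obj L)
      ((Scheme.Modules.pullback (fst A A).left).obj L')) ((Scheme.Modules.pullback (snd A A).left).obj L')))
    (hΛ0 : AbDual.IsPicZeroCl A.hom A (PicF.cl Λ))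
    [IsFinite (φ A (PicF.cl Λ)).left] [Flat (φ A (PicF.cl Λ)).left]
    (d : ℕ) (hd : ∀ y : ↥At.left, Scheme.Hom.finrank (φ A (PicF.cl Λ)).left y = d) :
    ∃ i : ℕ, i ≤ g ∧ (∀ j : ℕ, j ≠ i → Subsingleton (Coh.HH A.left L j)) ∧
      @Module.finrank k (Coh.HH A.left L i) _ _ (@Coh.moduleOver k _ A.left ⟨A.hom⟩ L i) ^ 2 = d := by
  haveI := Groth.Agent.H2.Rigid.GeomIrred.geometricallyIntegral_of_smooth A.hom
  haveI := Groth.Agent.H2.Rigid.GeomIrred.geometricallyIntegral_of_smooth At.hom
  haveI : IsCommMonObj A := isCommMonObj_of_isProper_of_geometricallyIntegral A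
  obtain ⟨hL'i, hL'1⟩ := Groth.Agent.H52.MumfordInput.inverse_cls hL hL'
  have hΛi := Groth.Agent.H52.MumfordInput.invertible hL hL'i Λ hΛ
  have hΛs := Groth.Agent.H52.MumfordInput.isLambdaSheaf hL hL'i Λ hΛ hL'1
  haveI : IsFinite (φ A (PicGrp.cls Λ hΛi).1).left := ‹IsFinite (φ A (PicF.cl Λ)).left›
  haveI : Flat (φ A (PicGrp.cls Λ hΛi).1).left := ‹Flat (φ A (PicF.cl Λ)).left›
  have h := Groth.Agent.H52.PoincareRR.euler_sq hφ hL hΛi hΛs hΛ0 g hg d hd
  obtain ⟨i, hi, hv, -⟩ := Groth.Agent.H52.IndexThm.exists_index g hg L hL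
    (Groth.Agent.H52.PoincareRR.finite_fixing hφ hL hΛi hΛs hΛ0)
  refine ⟨i, hi, hv, ?_⟩
  rw [Groth.Agent.H52.PoincareRR.euler_single A.hom L i hv, mul_pow, ← pow_mul,
    Nat.mul_comm i 2, pow_mul, neg_one_sq, one_pow, _root_.one_mul] at h
  exact_mod_cast h

end Groth.Agent.S14131
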