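import Groth.Statements.S14139
import Groth.Agent.Lib.CurveBundle.Ctx
import Groth.Agent.Lib.CurveBundle.SlopeSES

set_option autoImplicit false
universe u
open CategoryTheory CategoryTheory.Limits AlgebraicGeometry
open VBCurve

namespace Groth.Agent.S14139

/-- Let C be a smooth proper geometrically connected curve over a field k (proper, smooth and
geometrically connected over k, of dimension one), and 0 → E₁ → E → E₂ → 0 a short exact sequence of
finite locally free O_C-modules of ranks r₁, r, r₂ ≥ 1 whose slopes are all equal: deg E₁ · r = deg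
E · r₁ and deg E₂ · r = deg E · r₂, the degree of a rank-n locally free module being χ − n·χ(O_C).
Then E is semistable (deg G · r ≤ deg E · r' for every finite locally free submodule G of E of rank
r' ≥ 1) if and only if both E₁ and E₂ are semistable in the same sense. -/
theorem result (k : Type u) [Field k] (X : Scheme.{u}) [X.Over (Spec (CommRingCat.of k))]
    [IsProper (X ↘ Spec (CommRingCat.of k))] [Smooth (X ↘ Spec (CommRingCat.of k))]
    [GeometricallyConnected (X ↘ Spec (CommRingCat.of k))] (hdim : topologicalKrullDim ↥X = 1)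
    (T : ShortComplex X.Modules) (hT : T.ShortExact)
    (r₁ r r₂ : ℕ) (hr₁ : 0 < r₁) (hr : 0 < r) (hr₂ : 0 < r₂)
    (hE₁ : FlatMod.IsFinLocFreeOfRank r₁ T.X₁) (hE : FlatMod.IsFinLocFreeOfRank r T.X₂) (hE₂ : FlatMod.IsFinLocFreeOfRank r₂ T.X₃)
    (hμ₁ : Curv2.deg k X T.X₁ r₁ * (r : ℤ) = Curv2.deg k X T.X₂ r * (r₁ : ℤ))
    (hμ₂ : Curv2.deg k X T.X₃ r₂ * (r : ℤ) = Curv2.deg k X T.X₂ r * (r₂ : ℤ)) :
    (∀ (G : X.Modules) (r' : ℕ) (i : G ⟶ T.X₂), Mono i → 0 < r' → FlatMod.IsFinLocFreeOfRank r' G →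
      Curv2.deg k X G r' * (r : ℤ) ≤ Curv2.deg k X T.X₂ r * (r' : ℤ)) ↔
      ((∀ (G : X.Modules) (r' : ℕ) (i : G ⟶ T.X₁), Mono i → 0 < r' → FlatMod.IsFinLocFreeOfRank r' G →
      Curv2.deg k X G r' * (r₁ : ℤ) ≤ Curv2.deg k X T.X₁ r₁ * (r' : ℤ)) ∧
       (∀ (G : X.Modules) (r' : ℕ) (i : G ⟶ T.X₃), Mono i → 0 < r' → FlatMod.IsFinLocFreeOfRank r' G →
      Curv2.deg k X G r' * (r₂ : ℤ) ≤ Curv2.deg k X T.X₃ r₂ * (r' : ℤ))) := by
  open Groth.Agent.Lib.CurveBundle in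
    have := Groth.Agent.Lib.CurveBundle.Ctx.ofConnected k hdim
    obtain ⟨hc₁, -, e₁, d₁⟩ := Slope.bundle (k := k) hE₁
    obtain ⟨hc, -, e, d⟩ := Slope.bundle (k := k) hE
    obtain ⟨hc₂, -, e₂, d₂⟩ := Slope.bundle (k := k) hE₂
    rw [d₁, d] at hμ₁
    rw [d₂, d] at hμ₂
    rw [← e₁, ← e] at hμ₁
    rw [← e₂, ← e] at hμ₂
    have := hT.mono_f
    have := hT.epi_g
    refine ⟨fun h => ⟨?_, ?_⟩, fun h => ?_⟩
    · exact Slope.isSlopeSemistable hE₁
        (SlopeSES.ss_sub (Slope.ss_of hE h) hc₁ T.f (e.symm ▸ hr) hμ₁)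
    · exact Slope.isSlopeSemistable hE₂
        (SlopeSES.ss_quot (Slope.ss_of hE h) hc hc₂ T.g (e.symm ▸ hr) hμ₂)
    · exact Slope.isSlopeSemistable hE (SlopeSES.ss_ext hT hc₂ (e₁.symm ▸ hr₁) (e₂.symm ▸ hr₂) hμ₁ hμ₂
        (Slope.ss_of hE₁ h.1) (Slope.ss_of hE₂ h.2))

end Groth.Agent.S14139
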