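import Groth.Statements.S14140
import Groth.Agent.H52.PicZeroChar

set_option autoImplicit false
universe u
open CategoryTheory CategoryTheory.Limits MonoidalCategory CartesianMonoidalCategory MonObj GrpObj AlgebraicGeometry
open AbVar

namespace Groth.Agent.S14140

/-- Let k be an algebraically closed field, A an abelian variety over k (a proper smooth k-group scheme
with geometrically connected fibres), L an ample invertible O_A-module with an inverse L' (L ⊗ L' ≅
O_A), and M an invertible O_A-module in Pic⁰(A), meaning that t_x^*M ≅ M for every k-rational point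
x of A, where t_x : A → A is the translation by x (the product of the identity and the constant map
x in the group Hom(A, A)). Then there is a k-rational point x of A with M ≅ t_x^*L ⊗ L'. -/
theorem result (k : Type u) [Field k] [IsAlgClosed k]
    (A : Over (Spec (CommRingCat.of k))) [GrpObj A] [IsProper A.hom] [Smooth A.hom] [GeometricallyConnected A.hom]
    (L L' : A.left.Modules) (hLa : CohB1.IsAmple L) (hLL' : Nonempty (CohB1.tensorMod L L' ≅ Coh.structureModule A.left))
    (M : A.left.Modules) (hM : PicF.IsInvertible M)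
    (hM0 : ∀ x : 𝟙_ (Over (Spec (CommRingCat.of k))) ⟶ A, Nonempty ((Scheme.Modules.pullback (𝟙 A * (toUnit A ≫ x)).left).obj M ≅ M)) :
    ∃ x : 𝟙_ (Over (Spec (CommRingCat.of k))) ⟶ A,
      Nonempty (M ≅ CohB1.tensorMod ((Scheme.Modules.pullback (𝟙 A * (toUnit A ≫ x)).left).obj L) L') := by
  letI : ∀ Y : Scheme.{u}, PicGrp.Law Y := Groth.Agent.Lib.TensorMod.Invertible.law
  haveI := Groth.Agent.H2.Rigid.GeomIrred.geometricallyIntegral_of_smooth A.hom
  obtain ⟨hi, hi'⟩ : PicF.IsInvertible L ∧ PicF.IsInvertible L' :=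
    ⟨hLa.1, Groth.Agent.Lib.TensorMod.TensorInv.isInvertible_of_tensor_iso (Groth.Agent.Lib.TensorMod.Basic.comm L' L ≪≫ hLL'.some)⟩
  let ℓ := PicGrp.cls L hi
  let m := PicGrp.cls M hM
  have h1 : PicGrp.cls L' hi' = ℓ⁻¹ :=
    eq_inv_of_mul_eq_one_right ((Groth.Agent.H3.PicCalc.iso_iff
      (Groth.Agent.H3.PicCalc.cl_tensor (a := ℓ) (b := PicGrp.cls L' hi') rfl rfl)
      (b := (1 : PicLoc.PicSet A.left)) PicGrp.one_val.symm).mp hLL')
  obtain ⟨x, hx⟩ := Groth.Agent.H52.PicZeroTranslate.exists_translate ℓ m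
    (fun a => (Groth.Agent.H3.PicCalc.iso_iff (Groth.Agent.H3.PicCalc.cl_pullback _ (a := m) rfl) (b := m) rfl).mp (hM0 a))
    ((Groth.Agent.H52.AmpleNondeg.finite_translationFixing A L hLa).subset fun a ha =>
      (Groth.Agent.H3.PicCalc.iso_iff (Groth.Agent.H3.PicCalc.cl_pullback _ (a := ℓ) rfl) (b := ℓ) rfl).mpr ha)
  refine ⟨x, (Groth.Agent.H3.PicCalc.iso_iff (a := m) rfl
    (Groth.Agent.H3.PicCalc.cl_tensor (Groth.Agent.H3.PicCalc.cl_pullback _ (a := ℓ) rfl)
      (b := PicGrp.cls L' hi') rfl)).mpr ?_⟩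
  rw [h1]
  exact hx.symm

end Groth.Agent.S14140
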