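import Groth.Statements.S14141
import Groth.Agent.H2.Rigid.Smooth

set_option autoImplicit false
universe u
open CategoryTheory CategoryTheory.Limits AlgebraicGeometry
open AbSch

namespace Groth.Agent.S14141

/-- Let S be a connected Noetherian scheme, f : X → S a proper flat morphism such that for every point s
of S the natural map κ(s) → H^0(X_s, O_{X_s}) on global sections of the fibre is bijective, g : Y →
S a separated morphism and π : X → Y a morphism over S. If for some point s of S the restriction of
π to the fibre X_s is constant, i.e. factors through the projection X_s → Spec κ(s), then π is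
constant over all of S: it factors as f followed by a section S → Y of g. (The published statement
is for arbitrary Noetherian S with the conclusion over the connected component of s; this row
assumes S connected, the reduction made in the first line of the printed proof.) -/
theorem result {X Y S : Scheme.{u}} [IsNoetherian S] [ConnectedSpace ↥S]
    (f : X ⟶ S) [IsProper f] [Flat f]
    (hfib : ∀ s : ↥S, Function.Bijective (algebraMap (S.residueField s) Γ(f.fiber s, ⊤)))
    (g : Y ⟶ S) [IsSeparated g] (π : X ⟶ Y) (hπ : π ≫ g = f) (s : ↥S)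
    (hs : ∃ y : Spec (S.residueField s) ⟶ Y, f.fiberι s ≫ π = f.fiberToSpecResidueField s ≫ y) :
    ∃ σ : S ⟶ Y, σ ≫ g = 𝟙 S ∧ π = f ≫ σ := by
  have hH0 : Groth.Agent.H2.Rigid.H0 f := fun t a => by
    obtain ⟨c, hc⟩ := (hfib t).2 a
    exact ⟨_, hc⟩
  haveI : Surjective f := ⟨fun t => by
    by_contra hne
    have : IsEmpty (f.fiber t) := ⟨fun z => hne ⟨_, (f.range_fiberι t).le ⟨z, rfl⟩⟩⟩
    have : Subsingleton Γ(f.fiber t, ⊤) := by
      refine subsingleton_of_forall_eq 0 fun a => ?_
      exact Groth.Agent.H2.Rigid.eq_zero_of_germ a fun z => isEmptyElim z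
    exact zero_ne_one ((hfib t).1 (Subsingleton.elim (algebraMap _ _ 0) (algebraMap _ _ 1)))⟩
  haveI := Groth.Agent.H2.Rigid.lfp_of_noetherian f
  haveI : UniversallyOpen f := UniversallyOpen.of_flat f
  obtain ⟨y, hy⟩ := hs
  have hu := Groth.Agent.H2.Rigid.constSet_eq_univ f π f.isClosedMap hH0 (𝟙 S) g
    (by rw [hπ, Category.comp_id]) (Groth.Agent.H2.Rigid.subsingleton_of_factor hy)
  have hp := Groth.Agent.H2.Rigid.push_of_flat f hH0
  obtain ⟨k, hk⟩ := hp.exists_factor π f.isClosedMap hu
  exact ⟨k, hp.hom_ext (by rw [reassoc_of% hk, hπ, Category.comp_id]), hk.symm⟩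

end Groth.Agent.S14141
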