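import Groth.Statements.S14143
import Groth.Agent.H52.PicZeroChar

set_option autoImplicit false
universe u
open CategoryTheory CategoryTheory.Limits MonoidalCategory CartesianMonoidalCategory MonObj GrpObj AlgebraicGeometry
open AbVar

namespace Groth.Agent.S14143

/-- Let k be an algebraically closed field, A an abelian variety over k (a proper smooth k-group scheme
with geometrically connected fibres), L an invertible O_A-module which is non-degenerate, i.e. only
finitely many k-rational points x satisfy t_x^*L ≅ L (t_x the translation by x), M an invertible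
O_A-module lying in Pic⁰(A), i.e. t_x^*M ≅ M for every k-rational point x, and L' an O_A-module
isomorphic to L ⊗ M. Then L' ≅ t_x^*L for some k-rational point x of A; consequently L and L' have
isomorphic cohomology and equal index. (The published statement assumes L and L' algebraically
equivalent non-degenerate line bundles and concludes equality of indices; its proof reduces to L' ⊗
L^{-1} ∈ Pic⁰ and proves the displayed isomorphism, which is what is stated here.) -/
theorem result (k : Type u) [Field k] [IsAlgClosed k]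
    (A : Over (Spec (CommRingCat.of k))) [GrpObj A] [IsProper A.hom] [Smooth A.hom] [GeometricallyConnected A.hom]
    (L : A.left.Modules) (hL : PicF.IsInvertible L) (hnd : (Set.Finite {x : 𝟙_ (Over (Spec (CommRingCat.of k))) ⟶ A |
      Nonempty ((Scheme.Modules.pullback (𝟙 A * (toUnit A ≫ x)).left).obj L ≅ L)}))
    (M : A.left.Modules) (hM : PicF.IsInvertible M)
    (hM0 : ∀ x : 𝟙_ (Over (Spec (CommRingCat.of k))) ⟶ A, Nonempty ((Scheme.Modules.pullback (𝟙 A * (toUnit A ≫ x)).left).obj M ≅ M))
    (L' : A.left.Modules) (hL' : Nonempty (L' ≅ CohB1.tensorMod L M)) :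
    ∃ x : 𝟙_ (Over (Spec (CommRingCat.of k))) ⟶ A, Nonempty (L' ≅ (Scheme.Modules.pullback (𝟙 A * (toUnit A ≫ x)).left).obj L) := by
  letI : ∀ Y : Scheme.{u}, PicGrp.Law Y := Groth.Agent.Lib.TensorMod.Invertible.law
  haveI := Groth.Agent.H2.Rigid.GeomIrred.geometricallyIntegral_of_smooth A.hom
  let ℓ := PicGrp.cls L hL
  let m := PicGrp.cls M hM
  obtain ⟨x, hx⟩ := Groth.Agent.H52.PicZeroTranslate.exists_translate ℓ m
    (fun a => (Groth.Agent.H3.PicCalc.iso_iff (Groth.Agent.H3.PicCalc.cl_pullback _ (a := m) rfl) (b := m) rfl).mp (hM0 a))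
    (hnd.subset fun a ha =>
      (Groth.Agent.H3.PicCalc.iso_iff (Groth.Agent.H3.PicCalc.cl_pullback _ (a := ℓ) rfl) (b := ℓ) rfl).mpr ha)
  refine ⟨x, ⟨hL'.some ≪≫ ((Groth.Agent.H3.PicCalc.iso_iff (Groth.Agent.H3.PicCalc.cl_tensor (a := ℓ) (b := m) rfl rfl)
    (Groth.Agent.H3.PicCalc.cl_pullback _ (a := ℓ) rfl)).mpr ?_).some⟩⟩
  rw [← hx]
  exact (_root_.mul_comm _ _).trans (inv_mul_cancel_right _ _)

end Groth.Agent.S14143
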