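import Groth.Statements.S14144
import Groth.Agent.H52.IndexInvariance

set_option autoImplicit false
universe u
open CategoryTheory CategoryTheory.Limits MonoidalCategory CartesianMonoidalCategory MonObj GrpObj AlgebraicGeometry
open AbVar

namespace Groth.Agent.S14144

/-- Let k be an algebraically closed field, A and B abelian varieties over k (proper smooth k-group
schemes with geometrically connected fibres), f : A → B a homomorphism which is an isogeny (finite,
flat and surjective), and L an invertible O_B-module which is non-degenerate: only finitely many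
k-rational points y of B satisfy t_y^*L ≅ L. Then f^*L is non-degenerate on A, and L and f^*L have
the same index: for every j, H^j(B, L) vanishes if and only if H^j(A, f^*L) vanishes. -/
theorem result (k : Type u) [Field k] [IsAlgClosed k]
    (A B : Over (Spec (CommRingCat.of k))) [GrpObj A] [IsProper A.hom] [Smooth A.hom] [GeometricallyConnected A.hom]
    [GrpObj B] [IsProper B.hom] [Smooth B.hom] [GeometricallyConnected B.hom]
    (f : A ⟶ B) [IsMonHom f] [IsFinite f.left] [Flat f.left] [Surjective f.left]
    (L : B.left.Modules) (hL : PicF.IsInvertible L) (hnd : (Set.Finite {x : 𝟙_ (Over (Spec (CommRingCat.of k))) ⟶ B |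
      Nonempty ((Scheme.Modules.pullback (𝟙 B * (toUnit B ≫ x)).left).obj L ≅ L)})) :
    (Set.Finite {x : 𝟙_ (Over (Spec (CommRingCat.of k))) ⟶ A |
      Nonempty ((Scheme.Modules.pullback (𝟙 A * (toUnit A ≫ x)).left).obj ((Scheme.Modules.pullback f.left).obj L) ≅ ((Scheme.Modules.pullback f.left).obj L))}) ∧
      ∀ j : ℕ, Subsingleton (Coh.HH B.left L j) ↔ Subsingleton (Coh.HH A.left ((Scheme.Modules.pullback f.left).obj L) j) := by
  letI : ∀ Y : Scheme.{u}, PicGrp.Law Y := Groth.Agent.Lib.TensorMod.Invertible.law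
  haveI := Groth.Agent.H2.Rigid.GeomIrred.geometricallyIntegral_of_smooth A.hom
  haveI := Groth.Agent.H2.Rigid.GeomIrred.geometricallyIntegral_of_smooth B.hom
  haveI : IsIntegral B.left := GeometricallyIntegral.isIntegral_of_subsingleton B.hom
  let ℓ := PicGrp.cls L hL
  have hnd' := hnd.subset fun a ha =>
    (Groth.Agent.H3.PicCalc.iso_iff (Groth.Agent.H3.PicCalc.cl_pullback _ (a := ℓ) rfl) (b := ℓ) rfl).mpr ha
  have hcl : PicF.cl ((Scheme.Modules.pullback f.left).obj L) = (Groth.Agent.H3.PicCalc.ph f ℓ).1 :=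
    Groth.Agent.H3.PicCalc.cl_pullback f (a := ℓ) rfl
  refine ⟨(Groth.Agent.H52.IndexInvariance.nondeg_pullback f ℓ hnd').subset fun a ha =>
    (Groth.Agent.H3.PicCalc.iso_iff (Groth.Agent.H3.PicCalc.cl_pullback _ hcl) hcl).mp ha, fun j => ?_⟩
  obtain ⟨g, hg⟩ : ∃ g : ℕ, topologicalKrullDim B.left = g :=
    ⟨_, Groth.Agent.Lib.GenFinite.Basic.topologicalKrullDim_eq_fdelta B.hom⟩
  obtain ⟨i, -, hv, hne⟩ := Groth.Agent.H52.IndexThm.exists_index g hg L hL hnd'
  obtain ⟨hv', hne'⟩ := Groth.Agent.H52.IndexInvariance.pullback_index f L hL hnd' i hne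
  by_cases hj : j = i
  · subst hj
    exact iff_of_false (not_subsingleton _) (not_subsingleton _)
  · exact iff_of_true (hv j hj) (hv' j hj)

end Groth.Agent.S14144
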