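import Groth.Statements.S14145
import Groth.Agent.H52.IndexInvariance

set_option autoImplicit false
universe u
open CategoryTheory CategoryTheory.Limits MonoidalCategory CartesianMonoidalCategory MonObj GrpObj AlgebraicGeometry
open AbVar

namespace Groth.Agent.S14145

/-- Let k be an algebraically closed field, A an abelian variety over k (a proper smooth k-group scheme
with geometrically connected fibres) and L an invertible O_A-module which is non-degenerate: only
finitely many k-rational points x satisfy t_x^*L ≅ L. Then for every m ≥ 1 the index of L^{⊗m²}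
equals that of L: for each j, H^j(A, L) vanishes if and only if H^j(A, L^{⊗m²}) vanishes. (The
published statement is for every power L^n, n > 0; the printed proof treats n a perfect square, the
case stated here.) -/
theorem result (k : Type u) [Field k] [IsAlgClosed k]
    (A : Over (Spec (CommRingCat.of k))) [GrpObj A] [IsProper A.hom] [Smooth A.hom] [GeometricallyConnected A.hom]
    (L : A.left.Modules) (hL : PicF.IsInvertible L) (hnd : (Set.Finite {x : 𝟙_ (Over (Spec (CommRingCat.of k))) ⟶ A |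
      Nonempty ((Scheme.Modules.pullback (𝟙 A * (toUnit A ≫ x)).left).obj L ≅ L)}))
    (m : ℕ) (hm : 0 < m) (j : ℕ) :
    Subsingleton (Coh.HH A.left L j) ↔ Subsingleton (Coh.HH A.left (CohB1.tensorPow L (m ^ 2)) j) := by
  letI : ∀ Y : Scheme.{u}, PicGrp.Law Y := Groth.Agent.Lib.TensorMod.Invertible.law
  haveI := Groth.Agent.H2.Rigid.GeomIrred.geometricallyIntegral_of_smooth A.hom
  haveI : IsIntegral A.left := GeometricallyIntegral.isIntegral_of_subsingleton A.hom
  haveI : IsCommMonObj A := isCommMonObj_of_isProper_of_geometricallyIntegral A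
  haveI := Groth.Agent.H52.EulerHomogeneous.isMonHom_pow (A := A) m
  obtain ⟨h1, h2, h3⟩ := Groth.Agent.H4.MulIso.int A (d := (m : ℤ)) (by omega)
  simp only [zpow_natCast] at h1 h2 h3
  haveI := h1; haveI := h2; haveI := h3
  let ℓ := PicGrp.cls L hL
  have hnd' := hnd.subset fun a ha =>
    (Groth.Agent.H3.PicCalc.iso_iff (Groth.Agent.H3.PicCalc.cl_pullback _ (a := ℓ) rfl) (b := ℓ) rfl).mpr ha
  obtain ⟨g, hg⟩ : ∃ g : ℕ, topologicalKrullDim A.left = g :=
    ⟨_, Groth.Agent.Lib.GenFinite.Basic.topologicalKrullDim_eq_fdelta A.hom⟩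
  obtain ⟨i, -, hv, hne⟩ := Groth.Agent.H52.IndexThm.exists_index g hg L hL hnd'
  obtain ⟨hv', hne'⟩ := Groth.Agent.H52.IndexInvariance.pullback_index (𝟙 A ^ m) L hL hnd' i hne
  obtain ⟨x, hx⟩ := Groth.Agent.H52.IndexInvariance.exists_translate_pow ℓ hnd' m hm
  have hL' := Groth.Agent.Lib.TensorMod.Invertible.isInvertible_tensorPow hL (m ^ 2)
  have hcl : PicF.cl (CohB1.tensorPow L (m ^ 2)) = (ℓ ^ (m * m)).1 :=
    pow_two m ▸ Groth.Agent.H52.AmpleVanishAV.cl_pow (a := ℓ) rfl _
  obtain ⟨e₀⟩ := (Groth.Agent.H3.PicCalc.iso_iff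
    (Groth.Agent.H3.PicCalc.cl_pullback (𝟙 A ^ m) (a := ℓ) rfl)
    (Groth.Agent.H3.PicCalc.cl_pullback (Groth.Agent.H52.NondegAmple.tr x) (a := ℓ ^ (m * m)) hcl)).mpr hx.symm
  haveI : IsIso (Groth.Agent.H52.NondegAmple.tr x) := ⟨Groth.Agent.H52.NondegAmple.tr x⁻¹, by
    rw [Groth.Agent.H52.NondegAmple.tr_mul, mul_inv_cancel]; simp [Groth.Agent.H52.NondegAmple.tr], by
    rw [Groth.Agent.H52.NondegAmple.tr_mul, inv_mul_cancel]; simp [Groth.Agent.H52.NondegAmple.tr]⟩
  haveI : IsIso (Groth.Agent.H52.NondegAmple.tr x).left :=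
    inferInstanceAs (IsIso ((Over.forget _).map (Groth.Agent.H52.NondegAmple.tr x)))
  obtain ⟨e₁⟩ := Groth.Agent.S7804.nonempty_of_iso e₀ j
  obtain ⟨e₂⟩ := Groth.Agent.S7804.nonempty_of_isIso (Groth.Agent.H52.NondegAmple.tr x).left A.hom _ hL' j
  rw [(e₂.trans e₁.symm).toEquiv.subsingleton_congr]
  by_cases hj : j = i
  · subst hj
    exact iff_of_false (not_subsingleton _) (not_subsingleton _)
  · exact iff_of_true (hv j hj) (hv' j hj)

end Groth.Agent.S14145
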