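import Groth.Statements.S14148
import Groth.Agent.H21.SuppFinite.QTwist
import Groth.Agent.H21.SuppFinite.AbVar
import Groth.Agent.Lib.VarDim.Basic
import Groth.Agent.Lib.IntTheory.Curves
import Groth.Agent.Lib.Modules.SupportOps
import Groth.Agent.Lib.DerivedOX.Amplitude
import Groth.Agent.H84.TFCurve.PushGeneric
import Groth.Agent.Lib.Normalization.InFieldVariety
import Groth.Agent.Lib.TensorMod.Pullback
-- import your own Groth.Agent.* helpers here

set_option autoImplicit false
universe u
open CategoryTheory CategoryTheory.Limits MonoidalCategory CartesianMonoidalCategory MonObj GrpObj AlgebraicGeometry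
attribute [local instance] HasDerivedCategory.standard
open AbVar

namespace Groth.Agent.S14148

open Groth.Agent.H3 Groth.Agent.H21.SuppFinite
open Groth.Agent.Lib

noncomputable section

local instance (Y : Scheme.{u}) : PicGrp.Law Y := Groth.Agent.Lib.TensorMod.Invertible.law Y

/-- Cohomology sheaves of the tensor product with an invertible module. -/
theorem nonempty_HD_tensor {X : Scheme.{u}} {M : X.Modules} (hM : PicF.IsInvertible M) [DCoh.HasLTensorMod M]
    (G : DCoh.D X) (i : ℤ) :
    Nonempty (DCoh.HD ((DCoh.LTensorMod M).obj G) i ≅ CohB1.tensorMod (DCoh.HD G i) M) := by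
  haveI : (TensorMod.Basic.tensorBy M).IsEquivalence := CurveBundle.Twist.isEquivalence hM
  haveI : (DCoh.tensorRightMod M).IsEquivalence := ‹(TensorMod.Basic.tensorBy M).IsEquivalence›
  let G₀ := DerivedCategory.Q.objPreimage G
  let R := (DerivedOX.KFlat.res X).obj G₀
  haveI : QuasiIso ((DerivedOX.KFlat.aug X).app G₀) := DerivedOX.KFlat.quasiIso_aug G₀
  let eG : DerivedCategory.Q.obj R ≅ G :=
    asIso (DerivedCategory.Q.map ((DerivedOX.KFlat.aug X).app G₀)) ≪≫ DerivedCategory.Q.objObjPreimageIso G
  obtain ⟨b⟩ := DerivedOX.Amplitude.nonempty_ltensor_iso M (DerivedOX.KFlat.isKFlat_res G₀)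
  let H := DerivedCategory.homologyFunctor X.Modules i
  exact ⟨H.mapIso ((DCoh.LTensorMod M).mapIso eG.symm ≪≫ b) ≪≫
    (DerivedCategory.homologyFunctorFactors X.Modules i).app _ ≪≫
    (R.sc i).mapHomologyIso (DCoh.tensorRightMod M) ≪≫
    (DCoh.tensorRightMod M).mapIso
      (((DerivedCategory.homologyFunctorFactors X.Modules i).app R).symm ≪≫ H.mapIso eG)⟩

/-- A closed set which is not finite contains a point with one-dimensional closure. -/
theorem exists_pdim_one {k : Type u} [Field k] {X : Scheme.{u}} (f : X ⟶ Spec (CommRingCat.of k))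
    [LocallyOfFiniteType f] [CompactSpace X] {Z : Set X} (hZ : IsClosed Z) (hinf : ¬ Z.Finite) :
    ∃ z ∈ Z, VarDim.Basic.pdim f z = 1 := by
  haveI : IsLocallyNoetherian X := LocallyOfFiniteType.isLocallyNoetherian f
  haveI : IsNoetherian X := ⟨⟩
  obtain ⟨z, hz, hzc⟩ : ∃ z ∈ Z, ¬ IsClosed ({z} : Set X) := by
    by_contra! hall
    obtain ⟨T, hT, hTc, hTi, hTe⟩ := TopologicalSpace.NoetherianSpace.exists_finite_set_isClosed_irreducible hZ
    refine hinf (hTe ▸ Set.Finite.sUnion hT fun t ht => ?_)
    obtain ⟨w, hη⟩ := QuasiSober.sober (hTi t ht) (hTc t ht)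
    have hηc := hall w (hTe ▸ Set.subset_sUnion_of_mem ht hη.mem)
    rw [← hη.def, hηc.closure_eq]
    exact Set.finite_singleton w
  have key : ∀ (n : ℕ) (z : X), z ∈ Z → VarDim.Basic.pdim f z = n + 1 →
      ∃ w ∈ Z, VarDim.Basic.pdim f w = 1 := by
    intro n
    induction n with
    | zero => exact fun z hz h => ⟨z, hz, h⟩
    | succ n ih =>
      intro z hz h
      have hzc : ¬ IsClosed ({z} : Set X) := fun hc => by
        rw [← VarDim.Basic.pdim_eq_zero_iff f] at hc; omega
      obtain ⟨y, hy, hne⟩ : ∃ y ∈ closure ({z} : Set X), y ≠ z := by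
        by_contra! hh
        exact hzc (closure_eq_iff_isClosed.1 (Set.Subset.antisymm hh subset_closure))
      obtain ⟨w, h1, -, h3⟩ := VarDim.Basic.exists_step_below f (specializes_iff_mem_closure.2 hy) hne.symm
      exact ih w (h1.mem_closed hZ hz) (by omega)
  refine key (VarDim.Basic.pdim f z - 1) z hz ?_
  have : VarDim.Basic.pdim f z ≠ 0 := fun h => hzc ((VarDim.Basic.pdim_eq_zero_iff f z).1 h)
  omega

/-- Let k be an algebraically closed field, A an abelian variety over k (a proper smooth k-group scheme
with geometrically connected fibres), (A^t, φ) a given dual abelian variety for the fppf topology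
with A^t an abelian variety, P an invertible module on A ×_k A^t whose class is a Poincaré class,
and for a k-rational point x of A^t let M_x denote the restriction of P along A = A × {x} → A ×_k
A^t (these are the degree-zero line bundles on A). Let G be an object of D(O_A) which is bounded
with coherent cohomology sheaves and invariant under tensoring with degree-zero line bundles: G ⊗^L
M_x ≅ G for every x (the derived tensor functors are assumed to exist). Then every cohomology sheaf
H^i(G) has finite support. -/
theorem result (k : Type u) [Field k] [IsAlgClosed k]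
    (A At : Over (Spec (CommRingCat.of k))) [GrpObj A] [IsProper A.hom] [Smooth A.hom] [GeometricallyConnected A.hom]
    [GrpObj At] [IsProper At.hom] [Smooth At.hom] [GeometricallyConnected At.hom]
    (φ : ∀ T : Over (Spec (CommRingCat.of k)), PicF.Cl (PicF.XT A.hom T) → (T ⟶ At))
    (hφ : AbDual.IsDualAV Scheme.fppfPrecoverage A At φ)
    (P : (pullback A.hom At.hom).Modules) (hP : PicF.IsInvertible P)
    (hPξ : AbDual.IsPoincareCl A At φ (PicF.cl P))
    [∀ x : 𝟙_ (Over (Spec (CommRingCat.of k))) ⟶ At,
      DCoh.HasLTensorMod ((Scheme.Modules.pullback (CartesianMonoidalCategory.lift (𝟙 A) (toUnit A ≫ x)).left).obj P)]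
    (G : DCoh.D A.left) (hG : DCoh.IsCohD G) (m n : ℤ) (hGm : DerivedCategory.IsGE G m) (hGn : DerivedCategory.IsLE G n)
    (hinv : ∀ x : 𝟙_ (Over (Spec (CommRingCat.of k))) ⟶ At,
      Nonempty ((DCoh.LTensorMod ((Scheme.Modules.pullback (CartesianMonoidalCategory.lift (𝟙 A) (toUnit A ≫ x)).left).obj P)).obj G ≅ G))
    (i : ℤ) : (CohB1.support (DCoh.HD G i)).Finite := by
  by_contra hfin
  haveI := Groth.Agent.H2.Rigid.GeomIrred.geometricallyIntegral_of_smooth A.hom
  haveI := Groth.Agent.H2.Rigid.GeomIrred.geometricallyIntegral_of_smooth At.hom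
  haveI : IsLocallyNoetherian A.left := LocallyOfFiniteType.isLocallyNoetherian A.hom
  haveI : CompactSpace A.left := QuasiCompact.compactSpace_of_compactSpace A.hom
  let F := DCoh.HD G i
  have hF : Coh.IsCoh F := hG i
  haveI := hF.2
  haveI := hF.1
  let ξ : PicLoc.PicSet (A ⊗ At).left := PicGrp.cls P hP
  have hξ : AbDual.IsPoincareCl A At φ ξ.1 := hPξ
  obtain ⟨L, hL⟩ := Groth.Agent.H63.AVProjective.exists_isAmple A
  obtain ⟨z, hz, hz1⟩ := exists_pdim_one A.hom
    (Modules.Support.isClosed_support F) hfin
  let Y := (IntMult.ptIdeal z).subscheme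
  let iY := (IntMult.ptIdeal z).subschemeι
  haveI : AlgebraicGeometry.IsIntegral Y := IntTheory.Curves.isIntegral_ptIdeal z
  letI : Y.Over (Spec (CommRingCat.of k)) := ⟨iY ≫ A.hom⟩
  haveI : IsProper (Y ↘ Spec (CommRingCat.of k)) := inferInstanceAs (IsProper (iY ≫ A.hom))
  haveI : IsLocallyNoetherian Y := LocallyOfFiniteType.isLocallyNoetherian (Y ↘ Spec (CommRingCat.of k))
  haveI : CompactSpace Y := QuasiCompact.compactSpace_of_compactSpace (Y ↘ Spec (CommRingCat.of k))
  haveI : Y.IsSeparated := ⟨by
    rw [← Limits.terminal.comp_from (Y ↘ Spec (CommRingCat.of k))]; infer_instance⟩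
  have hY : topologicalKrullDim Y ≤ 1 := by
    rw [IntTheory.Curves.dim_ptIdeal z,
      VarDim.Basic.topologicalKrullDim_isGenericPoint A.hom (isGenericPoint_closure (x := z)), hz1]
    exact le_rfl
  haveI : QuasiCompact (Y.fromSpecStalk (genericPoint Y)) := quasiCompact_of_compactSpace _
  haveI : QuasiSeparated (Y.fromSpecStalk (genericPoint Y)) := by
    haveI : IsSeparated (Y.fromSpecStalk (genericPoint Y) ≫ terminal.from Y) := inferInstance
    haveI := IsSeparated.of_comp (Y.fromSpecStalk (genericPoint Y)) (terminal.from Y)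
    infer_instance
  haveI := Normalization.InFieldVariety.isFinite_normalizationι k Y
  let ν := Curv2.normalizationι Y
  let C : Over (Spec (CommRingCat.of k)) := Over.mk ((ν ≫ iY) ≫ A.hom)
  let g : C ⟶ A := Over.homMk (ν ≫ iY) rfl
  haveI : AlgebraicGeometry.IsIntegral C.left := Normalization.Basic.isIntegral_normalization Y
  haveI : IsLocallyNoetherian C.left := Normalization.DimOne.isLocallyNoetherian_normalization Y hY
  haveI : IsProper C.hom := inferInstanceAs (IsProper ((ν ≫ iY) ≫ A.hom))
  haveI : GeometricallyIntegral C.hom := Groth.Agent.H52.SimpleAmple.geometricallyIntegral C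
  have hrange : Set.range ⇑g.left = closure ({z} : Set A.left) := by
    have hs : Set.range ⇑ν = Set.univ := Set.range_eq_univ.2 (Normalization.Basic.surjective_normalizationι Y)
    show Set.range ⇑(ν ≫ iY) = _
    rw [Scheme.Hom.comp_base, TopCat.coe_comp, Set.range_comp, hs, Set.image_univ]
    exact Devissage.Closure.range_ptIdeal z
  have hgen : g.left (genericPoint C.left) = z := by
    have hg := (genericPoint_spec C.left).image g.left.continuous
    rw [Set.image_univ, hrange, closure_closure] at hg
    exact hg.eq isGenericPoint_closure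
  have hQne : ¬ Subsingleton (((Scheme.Modules.pullback g.left).obj F).presheaf.stalk (genericPoint C.left)) := by
    show genericPoint C.left ∈ CohB1.support ((Scheme.Modules.pullback g.left).obj F)
    rw [Modules.SupportOps.support_pullback g.left F]
    show g.left (genericPoint C.left) ∈ CohB1.support F
    rw [hgen]
    exact hz
  have hP1 : ∀ y : C.left, IsPrincipalIdealRing (C.left.presheaf.stalk y) :=
    Groth.Agent.H84.TFCurve.PushGeneric.isPrincipal_stalk Y hY
  have hQ : Coh.IsCoh ((Scheme.Modules.pullback g.left).obj F) := Cyc.FP.Stalk.isCoh_pullback g.left hF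
  have hr := (exists_pow_eq_one hP1 hQ hQne (PicLoc.isInvertible_structureModule C.left)
    (TensorMod.Basic.rightUnit _)).2
  have hpow : ∀ x : 𝟙_ (Over (Spec (CommRingCat.of k))) ⟶ At,
      PicCalc.ph g (slice ξ x) ^ Module.finrank (C.left.presheaf.stalk (genericPoint C.left))
        (((Scheme.Modules.pullback g.left).obj F).presheaf.stalk (genericPoint C.left)) = 1 := fun x => by
    let j := (CartesianMonoidalCategory.lift (𝟙 A) (toUnit A ≫ x)).left
    let M := (Scheme.Modules.pullback j).obj P
    have hMi : PicF.IsInvertible M := PicLoc.isInvertible_pullback j hP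
    obtain ⟨e⟩ := hinv x
    obtain ⟨e'⟩ := nonempty_HD_tensor hMi G i
    let ψ : CohB1.tensorMod F M ≅ F := e'.symm ≪≫ (DerivedCategory.homologyFunctor _ i).mapIso e
    have hMC := PicLoc.isInvertible_pullback g.left hMi
    obtain ⟨h1, -⟩ := exists_pow_eq_one hP1 hQ hQne hMC
      ((TensorMod.Pullback.pullbackTensorIso g.left F M).symm ≪≫ (Scheme.Modules.pullback g.left).mapIso ψ)
    have hcls : (PicGrp.cls _ hMC : PicLoc.PicSet C.left) = PicCalc.ph g (slice ξ x) :=
      Subtype.ext (PicCalc.cl_pullback g (a := slice ξ x)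
        (PicCalc.cl_pullback (CartesianMonoidalCategory.lift (𝟙 A) (toUnit A ≫ x)) (a := ξ) rfl))
    rw [← hcls]
    exact h1
  have htriv : ∀ x : 𝟙_ (Over (Spec (CommRingCat.of k))) ⟶ At, PicCalc.ph g (slice ξ x) = 1 := fun x => by
    obtain ⟨y, rfl⟩ := exists_root At x hr
    rw [slice_pow hφ hξ, map_pow, hpow y]
  have hfinpts := finite_points_of_trivial C g hL fun a => by
    obtain ⟨x, hx⟩ := exists_slice_eq_defect hφ hξ hL.1 a
    rw [← hx]
    exact htriv x
  -- the closed points of the curve are images of rational points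
  haveI : JacobsonSpace A.left := LocallyOfFiniteType.jacobsonSpace A.hom
  have hcl : (closure ({z} : Set A.left) ∩ closedPoints A.left).Finite := by
    refine (hfinpts.image GrpQ.MonoClosed.ptOf).subset ?_
    rintro w ⟨hw, hwc⟩
    obtain ⟨c, hc⟩ := GrpQ.MonoClosed.exists_ptOf (X := C) (s := g.left ⁻¹' {w})
      ((IsClosed.preimage g.left.continuous hwc).isLocallyClosed) (hrange.ge hw)
    exact ⟨c ≫ g, ⟨c, rfl⟩, (GrpQ.MonoClosed.ptOf_comp c g).symm.trans hc⟩
  have hzc : IsClosed ({z} : Set A.left) := by
    have h1 := closure_inter_closedPoints (isClosed_closure (s := ({z} : Set A.left)))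
    have hclosed : IsClosed (closure ({z} : Set A.left) ∩ closedPoints A.left) := by
      rw [← Set.biUnion_of_singleton (closure ({z} : Set A.left) ∩ closedPoints A.left)]
      exact hcl.isClosed_biUnion fun w hw => hw.2
    rw [hclosed.closure_eq] at h1
    exact (h1.ge (subset_closure rfl)).2
  rw [← VarDim.Basic.pdim_eq_zero_iff A.hom] at hzc
  omega

end

end Groth.Agent.S14148
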