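import Groth.Statements.S14149
import Groth.Agent.Lib.CurveBundle.Ctx
import Groth.Agent.Lib.CurveBundle.SlopeMax

set_option autoImplicit false
universe u
open CategoryTheory CategoryTheory.Limits AlgebraicGeometry
open VBCurve

namespace Groth.Agent.S14149

/-- Let C be a smooth proper geometrically connected curve over a field k (proper, smooth and
geometrically connected over k, of dimension one) and E a finite locally free O_C-module of rank r ≥
1, the degree of a rank-n locally free module being χ − n·χ(O_C). Then there is a finite locally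
free submodule E₁ of E, of some rank r₁ ≥ 1, such that: the slope of E₁ is maximal among finite
locally free submodules of E of positive rank (deg G · r₁ ≤ deg E₁ · r' for every such G of rank
r'); among submodules attaining that slope E₁ has the largest rank; and E₁ is semistable. (This is
the first step of the Harder–Narasimhan filtration, whose existence and uniqueness is the published
statement; the full filtration is not restated.) -/
theorem result (k : Type u) [Field k] (X : Scheme.{u}) [X.Over (Spec (CommRingCat.of k))]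
    [IsProper (X ↘ Spec (CommRingCat.of k))] [Smooth (X ↘ Spec (CommRingCat.of k))]
    [GeometricallyConnected (X ↘ Spec (CommRingCat.of k))] (hdim : topologicalKrullDim ↥X = 1)
    (r : ℕ) (hr : 0 < r) (E : X.Modules) (hE : FlatMod.IsFinLocFreeOfRank r E) :
    ∃ (E₁ : X.Modules) (r₁ : ℕ) (i₁ : E₁ ⟶ E), Mono i₁ ∧ 0 < r₁ ∧ FlatMod.IsFinLocFreeOfRank r₁ E₁ ∧
      (∀ (G : X.Modules) (r' : ℕ) (j : G ⟶ E), Mono j → 0 < r' → FlatMod.IsFinLocFreeOfRank r' G →
        Curv2.deg k X G r' * (r₁ : ℤ) ≤ Curv2.deg k X E₁ r₁ * (r' : ℤ)) ∧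
      (∀ (G : X.Modules) (r' : ℕ) (j : G ⟶ E), Mono j → 0 < r' → FlatMod.IsFinLocFreeOfRank r' G →
        Curv2.deg k X G r' * (r₁ : ℤ) = Curv2.deg k X E₁ r₁ * (r' : ℤ) → r' ≤ r₁) ∧
      (∀ (G : X.Modules) (r' : ℕ) (i : G ⟶ E₁), Mono i → 0 < r' → FlatMod.IsFinLocFreeOfRank r' G →
      Curv2.deg k X G r' * (r₁ : ℤ) ≤ Curv2.deg k X E₁ r₁ * (r' : ℤ)) := by
  open Groth.Agent.Lib.CurveBundle in
    have := Groth.Agent.Lib.CurveBundle.Ctx.ofConnected k hdim
    obtain ⟨hEc, hET, er, -⟩ := Slope.bundle (k := k) hE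
    obtain ⟨G, i, hi, hG, h0, h1, h2⟩ := SlopeMax.exists_max hEc hET (er.symm ▸ hr)
    obtain ⟨hb, hd⟩ := Slope.sub_bundle (k := k) i hG hET
    refine ⟨G, _, i, hi, h0, hb, ?_, ?_, ?_⟩
    · intro H n j hj _ hH
      obtain ⟨hHc, -, en, edH⟩ := Slope.bundle (k := k) hH
      rw [hd, edH, ← en]
      exact h1 H j hj hHc
    · intro H n j hj _ hH he
      obtain ⟨hHc, -, en, edH⟩ := Slope.bundle (k := k) hH
      rw [hd, edH, ← en] at he
      exact en ▸ h2 H j hj hHc he
    · intro H n j hj _ hH
      obtain ⟨hHc, -, en, edH⟩ := Slope.bundle (k := k) hH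
      rw [hd, edH, ← en]
      exact h1 H (j ≫ i) (mono_comp _ _) hHc

end Groth.Agent.S14149
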