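import Groth.Statements.S1523
import Groth.Agent.Lib.CurveFF.GoodPoints
-- import your own Groth.Agent.* helpers here

set_option autoImplicit false
universe u
open CategoryTheory CategoryTheory.Limits AlgebraicGeometry
open Variety

namespace Groth.Agent.S1523
open Groth.Agent.Lib


/-- On a proper curve over an algebraically closed field there is an invertible module whose H^0 is
one-dimensional and whose H^1 vanishes, and an invertible module whose H^0 and H^1 both vanish. -/
theorem result (k : Type u) [Field k] [IsAlgClosed k] (X : Scheme.{u}) [X.Over (Spec (CommRingCat.of k))]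
    [IsIntegral X] [IsProper (X ↘ (Spec (CommRingCat.of k)))] (hdim : topologicalKrullDim X = 1) :
    (∃ L : X.Modules, PicF.IsInvertible L ∧ Module.finrank k (Coh.HH X L 0) = 1 ∧ Subsingleton (Coh.HH X L 1)) ∧
    (∃ N : X.Modules, PicF.IsInvertible N ∧ Subsingleton (Coh.HH X N 0) ∧ Subsingleton (Coh.HH X N 1)) := by
  have h0 := Curves.GlobalSections.finrank_h0_structure k X
  obtain ⟨L, hL, hLd⟩ := CurveFF.GoodPoints.exists_deg (k := k) hdim (2 * Curv2.genus k X)
  have h1 := Curves.Clifford.subsingleton_one_of_deg k hdim.le h0 hL (by rw [hLd]; push_cast; omega)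
  have hn := Curves.Clifford.hdim_zero_eq_of_deg k hdim.le h0 hL (by rw [hLd]; push_cast; omega)
  have key : ∀ m ≤ Curves.Euler.hdim k X L 0, ∃ N : X.Modules, PicF.IsInvertible N ∧
      Curves.Euler.hdim k X N 0 = m ∧ Curves.Euler.hdim k X N 1 = 0 := by
    intro m hm
    induction hm using Nat.decreasingInduction with
    | self => exact ⟨L, hL, rfl, Module.finrank_zero_of_subsingleton⟩
    | of_succ m _ ih =>
      obtain ⟨N, hN, hN0, hN1⟩ := ih
      obtain ⟨N', hN', e0, e1⟩ := CurveFF.GoodPoints.exists_step (k := k) hdim hN (by omega)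
      exact ⟨N', hN', by omega, e1.trans hN1⟩
  have hsub : ∀ {N : X.Modules}, PicF.IsInvertible N → ∀ i ≤ 1, Curves.Euler.hdim k X N i = 0 →
      Subsingleton (Coh.HH X N i) := fun {N} hN i hi h => by
    interval_cases i
    · haveI := (Curves.Degree.isGood (k := k) hdim.le hN).fin₀
      exact Module.finrank_zero_iff.1 h
    · haveI := (Curves.Degree.isGood (k := k) hdim.le hN).fin₁
      exact Module.finrank_zero_iff.1 h
  obtain ⟨M, hM, hM0, hM1⟩ := key 1 (by rw [hLd] at hn; push_cast at hn; omega)
  obtain ⟨N, hN, hN0, hN1⟩ := key 0 (Nat.zero_le _)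
  exact ⟨⟨M, hM, hM0, hsub hM 1 le_rfl hM1⟩, ⟨N, hN, hsub hN 0 zero_le_one hN0, hsub hN 1 le_rfl hN1⟩⟩

end Groth.Agent.S1523
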