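import Groth.Statements.S14152
import Groth.Agent.S1523
import Groth.Agent.Lib.CurveFF.LineTensor
import Groth.Agent.Lib.FunFld.Rational
-- import your own Groth.Agent.* helpers here

set_option autoImplicit false
universe u
open CategoryTheory CategoryTheory.Limits AlgebraicGeometry
open Curves

namespace Groth.Agent.S14152
open Groth.Agent.Lib
attribute [local instance] Curv2.stalkAlgebra

/-- Let k be an algebraically closed field and C a smooth proper integral curve over k (proper and
smooth over k, integral, of dimension one) of genus g ≥ 1, where g = dim_k H^1(C, O_C). Then for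
every natural number r ≤ g there is an invertible O_C-module L of degree r, the degree being χ(L) −
χ(O_C), with dim_k H^0(C, L) = 1. (The published statement gives a non-empty open set of r-tuples of
points (x_i) with h^0(O(Σ x_i)) = 1 and is placed in a chapter working in characteristic 0; the
existence of one such divisor, stated here, is what the row records, and the printed argument does
not use the characteristic.) -/
theorem result (k : Type u) [Field k] [IsAlgClosed k]
    (X : Scheme.{u}) [X.Over (Spec (CommRingCat.of k))] [IsIntegral X]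
    [IsProper (X ↘ Spec (CommRingCat.of k))] [Smooth (X ↘ Spec (CommRingCat.of k))]
    (hdim : topologicalKrullDim ↥X = 1) (g : ℕ) (hg : Curv2.genus k X = g) (hg1 : 1 ≤ g)
    (r : ℕ) (hr : r ≤ g) :
    ∃ L : X.Modules, PicF.IsInvertible L ∧ Curv2.deg k X L 1 = (r : ℤ) ∧
      Module.finrank k (Coh.HH X L 0) = 1 := by
  have h := CurveFF.curveHyp_of_smooth k hdim
  have h0 := Curves.GlobalSections.finrank_h0_structure k X
  have hK := CurveFF.isFunctionField (k := k) h h0
  classical
  have hKg : _root_.FunFld.genus k X.functionField = g := (CurveFF.genus_eq h h0).symm.trans hg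
  obtain ⟨⟨L₁, hL₁, hl₁, hv₁⟩, -⟩ := Groth.Agent.S1523.result k X hdim
  obtain ⟨R⟩ := CurveFF.LineDiv.nonempty_rep hL₁
  have hd : Curv2.deg k X L₁ 1 = g := by
    have hrr := Curves.Degree.riemann_roch (k := k) hdim.le h0 hL₁
    have : Curves.Euler.hdim k X L₁ 1 = 0 := Module.finrank_zero_of_subsingleton
    change (Module.finrank k _ : ℤ) - _ = _ at hrr
    rw [hl₁, this, hg] at hrr
    omega
  rw [R.deg_eq h hK] at hd
  rw [R.finrank_h0 h hK] at hl₁
  have key : ∀ m : ℕ, m ≤ g → ∃ D : _root_.FunFld.Divisor k X.functionField,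
      0 ≤ D ∧ D.deg = ((g - m : ℕ) : ℤ) ∧ _root_.FunFld.ell D = 1 := by
    intro m hm
    induction m with
    | zero =>
      obtain ⟨F, a, hF, ha, hDF, hFd⟩ := FunFld.SmallGenus.exists_nonneg hK
        (E := R.div h hK) (by omega)
      refine ⟨F, hF, by rw [hFd, hd]; rfl, ?_⟩
      rw [← hl₁, hDF, FunFld.Riemann.ell_add_div hK F ha]
    | succ m ih =>
      obtain ⟨D, hD, hDd, hDl⟩ := ih (by omega)
      obtain ⟨P, hP⟩ : ∃ P, D P ≠ 0 := Finsupp.ne_iff.1 (show D ≠ 0 by
        intro h0'
        subst h0'
        rw [FunFld.Degree.deg_zero] at hDd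
        omega)
      have hP1 : 1 ≤ D P := by
        have := Finsupp.le_def.1 hD P
        simp only [Finsupp.coe_zero, Pi.zero_apply] at this
        omega
      have hnn : 0 ≤ D - Finsupp.single P 1 := Finsupp.le_def.2 fun Q => by
        rw [Finsupp.sub_apply, Finsupp.coe_zero, Pi.zero_apply]
        rcases eq_or_ne Q P with rfl | hQ
        · rw [Finsupp.single_eq_same]; omega
        · rw [Finsupp.single_eq_of_ne hQ, sub_zero]; exact Finsupp.le_def.1 hD Q
      refine ⟨_, hnn, ?_, le_antisymm ?_ ?_⟩
      · rw [FunFld.Degree.deg_sub, FunFld.Degree.deg_single, FunFld.Rational.deg_eq_one hK, hDd]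
        omega
      · haveI := FunFld.Degree.finiteDimensional_L hK D
        rw [← hDl]
        exact Submodule.finrank_mono (FunFld.Degree.L_mono
          (sub_le_self _ (Finsupp.single_nonneg.2 zero_le_one)))
      · haveI := FunFld.Degree.finiteDimensional_L hK (D - Finsupp.single P 1)
        rw [← FunFld.Degree.ell_zero hK]
        exact Submodule.finrank_mono (FunFld.Degree.L_mono hnn)
  obtain ⟨D, -, hDd, hDl⟩ := key (g - r) (by omega)
  obtain ⟨L, S, hS, hSd⟩ := CurveFF.LineDiv.exists_line h hK D
  exact ⟨L, S.inv, by rw [hSd, hDd]; omega, by rw [S.finrank_h0 h hK, hS, hDl]⟩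

end Groth.Agent.S14152
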