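import Groth.Statements.S14153
import Groth.Agent.Lib.H3.TraceLam
import Groth.Agent.Lib.SurfInt.Div
import Groth.Agent.Lib.SurfInt.Mul
import Groth.Agent.H4.SepDivisor
import Groth.Agent.Lib.Regular.UFD
import Groth.Agent.H63.AVTorsPoints
import Groth.Agent.H2.Rigid.GeomIrred

set_option autoImplicit false
universe u
open CategoryTheory CategoryTheory.Limits MonoidalCategory CartesianMonoidalCategory MonObj GrpObj AlgebraicGeometry
open AbVar

namespace Groth.Agent.S14153

/-- Powers of a non-unit are associated only when equal. -/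
theorem eq_of_prime_pow_eq_aux {R : Type*} [CommRing R] [IsDomain R] {t : R} (hu : ¬ IsUnit t) (h0 : t ≠ 0) {n m : ℕ}
    (h : Associated (t ^ n) (t ^ m)) : t ^ n = t ^ m := by
  rw [show n = m from le_antisymm ((pow_dvd_pow_iff h0 hu).1 h.dvd) ((pow_dvd_pow_iff h0 hu).1 h.symm.dvd)]

open Groth.Agent Groth.Agent.H3 Groth.Agent.H3.PicCalc Groth.Agent.Lib Groth.Agent.Lib.H3
open TopologicalSpace

noncomputable local instance (Y : Scheme.{u}) : PicGrp.Law Y := Groth.Agent.Lib.TensorMod.Invertible.law Y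

open Groth.Agent.Lib.Ideal.Prime (stalkIdeal stalkIdeal_eq mem_support_iff_le_prime) in
theorem exists_eq_pow {X : Scheme.{u}} [IsIntegral X] [IsLocallyNoetherian X]
    (hreg : ∀ x : X, IsRegularLocalRing (X.presheaf.stalk x)) (D : X.IdealSheafData)
    (hD : BlowUp.IsEffCartierIdeal D) (hD0 : ∀ x, stalkIdeal D x ≠ ⊥) [IrreducibleSpace D.subscheme] :
    ∃ (n : ℕ) (I : X.IdealSheafData), BlowUp.IsEffCartierIdeal I ∧ D = I ^ n ∧ IsReduced I.subscheme ∧ n ≠ 0 ∧
      genericPoint X ∉ D.support ∧ ∃ ζ : X, ζ ∈ D.support := by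
  let Z : Closeds X := D.support
  have hZi : IsIrreducible (Z : Set X) := by
    have h := (IrreducibleSpace.isIrreducible_univ D.subscheme).image D.subschemeι D.subschemeι.continuous.continuousOn
    rwa [Set.image_univ, D.range_subschemeι] at h
  let ζ := hZi.genericPoint
  have hηs : IsGenericPoint ζ (Z : Set X) := by
    have h := hZi.isGenericPoint_genericPoint_closure
    rwa [Z.isClosed.closure_eq] at h
  have hηZ : ζ ∈ Z := hηs.mem
  obtain ⟨U, hxU, a, ha, hUa⟩ := hD ζ
  haveI : Nonempty U.1 := ⟨⟨ζ, hxU⟩⟩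
  haveI : IsNoetherianRing Γ(X, U.1) := IsLocallyNoetherian.component_noetherian U
  haveI : IsDomain Γ(X, U.1) := IsIntegral.component_integral _
  have ha0 : a ≠ 0 := nonZeroDivisors.ne_zero ha
  have hηmin : (U.2.primeIdealOf ⟨ζ, hxU⟩).asIdeal ∈ (Ideal.span {a}).minimalPrimes := by
    refine ⟨⟨(U.2.primeIdealOf ⟨ζ, hxU⟩).2, hUa ▸ (mem_support_iff_le_prime D U hxU).1 hηZ⟩, fun q hq hle => ?_⟩
    haveI := hq.1
    obtain ⟨y, hy, rfl⟩ := AssPt.Basic.exists_point_of_prime U.2 q
    have hyZ : y ∈ Z := (mem_support_iff_le_prime D U hy).2 (hUa ▸ hq.2)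
    exact (AssPt.Basic.specializes_iff_primeIdealOf U.2 hy hxU).1 (hηs.specializes hyZ)
  have hht : (U.2.primeIdealOf ⟨ζ, hxU⟩).asIdeal.height = 1 := by
    refine le_antisymm (Ideal.height_le_one_of_isPrincipal_of_mem_minimalPrimes _ _ hηmin) ?_
    rw [Order.one_le_iff_ne_zero, Ne, Ideal.height_eq_zero_iff]
    intro h0
    exact ha0 (Ideal.mem_bot.mp (h0.2 ⟨Ideal.isPrime_bot, le_rfl⟩ bot_le
      (hηmin.1.2 (Ideal.mem_span_singleton_self a))))
  have hgen : genericPoint X ∉ Z := fun hg => by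
    have he : ζ = genericPoint X := ((hηs.specializes hg).antisymm (genericPoint_specializes ζ)).eq
    have hmax : ∀ z : X, z ⤳ ζ → z = ζ := fun z hz => by
      rw [he] at hz ⊢
      exact (hz.antisymm (genericPoint_specializes z)).eq
    rw [AssPt.Basic.maximalPoint_iff_minimalPrime U.2 hxU, ← Ideal.height_eq_zero_iff, hht] at hmax
    exact one_ne_zero hmax
  have hdim : ∀ y ∈ Z, (∀ y' ∈ Z, y' ⤳ y → y' = y) → ringKrullDim (X.presheaf.stalk y) = 1 := fun y hy hmax => by
    rw [← hmax ζ hηZ (hηs.specializes hy), Ideal.Prime.ringKrullDim_stalk_eq_height U.2 hxU, hht]; rfl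
  let I := Scheme.IdealSheafData.vanishingIdeal Z
  have hI : BlowUp.IsEffCartierIdeal I := H4.SepDivisor.isEffCartier_vanishingIdeal Z hdim hreg
  haveI : IsReduced I.subscheme := H75.RedSub.isReduced_vanishingIdeal Z
  have hrI : Set.range I.subschemeι = (Z : Set X) := by
    rw [Scheme.IdealSheafData.range_subschemeι, Scheme.IdealSheafData.coe_support_vanishingIdeal]
  haveI : IrreducibleSpace I.subscheme := by
    haveI : PreirreducibleSpace I.subscheme := ⟨by
      intro u v hu hv hu' hv'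
      obtain ⟨u', hu1, rfl⟩ := I.subschemeι.isClosedEmbedding.isInducing.isOpen_iff.1 hu
      obtain ⟨v', hv1, rfl⟩ := I.subschemeι.isClosedEmbedding.isInducing.isOpen_iff.1 hv
      obtain ⟨a, -, ha⟩ := hu'
      obtain ⟨b, -, hb⟩ := hv'
      obtain ⟨y, hy, hyu, hyv⟩ := hZi.2 u' v' hu1 hv1 ⟨_, hrI ▸ ⟨a, rfl⟩, ha⟩ ⟨_, hrI ▸ ⟨b, rfl⟩, hb⟩
      obtain ⟨w, rfl⟩ := (hrI.symm ▸ hy : y ∈ Set.range I.subschemeι)
      exact ⟨w, trivial, hyu, hyv⟩⟩
    obtain ⟨w, -⟩ := (hrI.symm ▸ hηZ : ζ ∈ Set.range I.subschemeι)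
    exact { toNonempty := ⟨w⟩ }
  haveI : IsIntegral I.subscheme := isIntegral_of_irreducibleSpace_of_isReduced _
  have hIsupp : ∀ x : X, x ∈ I.support ↔ x ∈ Z := fun x => Iff.rfl
  -- at every point
  have hloc : ∀ x : X, x ∈ Z → ∃ m : ℕ, stalkIdeal D x = stalkIdeal I x ^ m := fun x hx => by
    haveI := hreg x
    haveI : UniqueFactorizationMonoid (X.presheaf.stalk x) := Regular.UFD.uniqueFactorizationMonoid _
    obtain ⟨V, hxV, e, he, hVe⟩ := hI x
    obtain ⟨W, hxW, c, hc, hWc⟩ := hD x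
    let algx := X.presheaf.algebra_section_stalk ⟨x, hxV⟩
    haveI := V.2.isLocalization_stalk ⟨x, hxV⟩
    let t : X.presheaf.stalk x := X.presheaf.germ V.1 x hxV e
    let b : X.presheaf.stalk x := X.presheaf.germ W.1 x hxW c
    have hIt : stalkIdeal I x = Ideal.span {t} := by
      rw [stalkIdeal_eq I V hxV, hVe, Ideal.map_span, Set.image_singleton]
    have hDb : stalkIdeal D x = Ideal.span {b} := by
      rw [stalkIdeal_eq D W hxW, hWc, Ideal.map_span, Set.image_singleton]
    have hxI : x ∈ I.support := (hIsupp x).2 hx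
    haveI hp := Ideal.Prime.isPrime_ideal I V ⟨x, hxI, hxV⟩
    have hle := (mem_support_iff_le_prime I V hxV).1 hxI
    have hdisj : Disjoint ((V.2.primeIdealOf ⟨x, hxV⟩).asIdeal.primeCompl : Set Γ(X, V.1)) (I.ideal V) :=
      Set.disjoint_left.2 fun z hz hz' => hz (hle hz')
    have ht0 : t ≠ 0 := nonZeroDivisors.ne_zero (Ideal.EffCartier.germ_mem_nonZeroDivisors V.2 he x hxV)
    have htp : Prime t := by
      rw [← Ideal.span_singleton_prime ht0, ← hIt, stalkIdeal_eq I V hxV]
      exact IsLocalization.isPrime_of_isPrime_disjoint _ _ _ hp hdisj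
    have hb0 : b ≠ 0 := fun h0 => hD0 x (by rw [hDb, h0, Ideal.span_singleton_eq_bot])
    have hrad : t ∈ (Ideal.span {b}).radical := by
      rw [Ideal.radical_eq_sInf, Submodule.mem_sInf]
      rintro q ⟨hq, hqp⟩
      haveI := hqp
      let p := Ideal.comap (algebraMap Γ(X, V.1) (X.presheaf.stalk x)) q
      obtain ⟨y, hy, hyp⟩ := AssPt.Basic.exists_point_of_prime V.2 p
      have hyZ : y ∈ Z := (mem_support_iff_le_prime D V hy).2 (by
        rw [hyp]
        intro z hz
        refine hq ?_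
        rw [← hDb, stalkIdeal_eq D V hxV]
        exact Ideal.mem_map_of_mem _ hz)
      have h1 := (mem_support_iff_le_prime I V hy).1 ((hIsupp y).2 hyZ)
      rw [hyp, hVe, Ideal.span_singleton_le_iff_mem] at h1
      exact h1
    obtain ⟨N, hN⟩ := hrad
    rw [Ideal.mem_span_singleton] at hN
    obtain ⟨m, -, hm⟩ := (dvd_prime_pow htp N).1 hN
    exact ⟨m, by rw [hDb, hIt, Ideal.span_singleton_pow, Ideal.span_singleton_eq_span_singleton]; exact hm⟩
  obtain ⟨n, hn⟩ := hloc ζ hηZ
  have hηI : ζ ∈ I.support := (hIsupp ζ).2 hηZ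
  refine ⟨n, I, hI, ModelFibre.StalkIdeal.ext_of_stalkIdeal fun x => ?_, inferInstance, fun h0 => ?_, hgen, ζ, hηZ⟩
  · rw [ModelFibre.StalkIdeal.stalkIdeal_pow]
    by_cases hx : x ∈ Z
    · obtain ⟨m, hm⟩ := hloc x hx
      have hs : ζ ⤳ x := hηs.specializes hx
      have h1 := congrArg (Ideal.map (X.presheaf.stalkSpecializes hs).hom) hm
      rw [Ideal.map_pow, ModelFibre.StalkIdeal.map_stalkSpecializes D hs,
        ModelFibre.StalkIdeal.map_stalkSpecializes I hs, hn] at h1
      obtain ⟨V, hxV, e, he, hVe⟩ := hI ζ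
      let t : X.presheaf.stalk ζ := X.presheaf.germ V.1 ζ hxV e
      have hIt : stalkIdeal I ζ = Ideal.span {t} := by
        rw [stalkIdeal_eq I V hxV, hVe, Ideal.map_span, Set.image_singleton]
      have ht0 : t ≠ 0 := nonZeroDivisors.ne_zero (Ideal.EffCartier.germ_mem_nonZeroDivisors V.2 he ζ hxV)
      have htu : ¬ IsUnit t := fun hu => (ModelFibre.StalkIdeal.stalkIdeal_eq_top_iff I ζ).1
        (by rw [hIt, Ideal.span_singleton_eq_top]; exact hu) hηI
      rw [hIt, Ideal.span_singleton_pow, Ideal.span_singleton_pow, Ideal.span_singleton_eq_span_singleton] at h1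
      have hnm : n = m := pow_injective_of_not_isUnit htu ht0 (eq_of_prime_pow_eq_aux htu ht0 h1)
      rw [hm, hnm]
    · have hxI : x ∉ I.support := fun h => hx ((hIsupp x).1 h)
      rw [(ModelFibre.StalkIdeal.stalkIdeal_eq_top_iff D x).2 hx, (ModelFibre.StalkIdeal.stalkIdeal_eq_top_iff I x).2 hxI,
        Ideal.top_pow]
  · rw [h0, pow_zero, Ideal.one_eq_top, ModelFibre.StalkIdeal.stalkIdeal_eq_top_iff] at hn
    exact hn hηZ

/-- Let k be an algebraically closed field of characteristic 0, A an abelian variety over k (a proper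
smooth k-group scheme with geometrically connected fibres), (A^t, φ) a given dual abelian variety
for the fppf topology with A^t an abelian variety, L an ample invertible O_A-module with an inverse
L', and Λ a module on A ×_k A isomorphic to the Mumford module m^*L ⊗ pr_1^*L' ⊗ pr_2^*L', whose
class is assumed algebraically trivial on every geometric fibre of the second projection. Assume
that φ_L = φ(Λ) : A → A^t is an isomorphism, i.e. L defines a principal polarization, and let s be a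
nonzero global section of L with zero scheme Θ ⊆ A (the theta divisor). If Θ is irreducible then Θ
is reduced. -/
theorem result (k : Type u) [Field k] [IsAlgClosed k] [CharZero k]
    (A At : Over (Spec (CommRingCat.of k))) [GrpObj A] [IsProper A.hom] [Smooth A.hom] [GeometricallyConnected A.hom]
    [GrpObj At] [IsProper At.hom] [Smooth At.hom] [GeometricallyConnected At.hom]
    (φ : ∀ T : Over (Spec (CommRingCat.of k)), PicF.Cl (PicF.XT A.hom T) → (T ⟶ At))
    (hφ : AbDual.IsDualAV Scheme.fppfPrecoverage A At φ)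
    (L : A.left.Modules) (hLa : CohB1.IsAmple L) (L' : A.left.Modules) (hL' : Nonempty (CohB1.tensorMod L L' ≅ Coh.structureModule A.left))
    (Λ : (PicF.XT A.hom A).Modules)
    (hΛ : Nonempty (Λ ≅ CohB1.tensorMod (CohB1.tensorMod ((Scheme.Modules.pullback μ[A].left).obj L)
      ((Scheme.Modules.pullback (fst A A).left).obj L')) ((Scheme.Modules.pullback (snd A A).left).obj L')))
    (hΛ0 : AbDual.IsPicZeroCl A.hom A (PicF.cl Λ))
    [IsIso (φ A (PicF.cl Λ))]
    (s : Coh.structureModule A.left ⟶ L) (hs : s ≠ 0)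
    [IrreducibleSpace ↥(PicF2.zeroScheme L s).subscheme] :
    IsReduced (PicF2.zeroScheme L s).subscheme := by
  haveI := Groth.Agent.H2.Rigid.GeomIrred.geometricallyIntegral_of_smooth A.hom
  haveI := isCommMonObj_of_isProper_of_geometricallyIntegral A
  haveI : IsIntegral A.left := GeometricallyIntegral.isIntegral_of_subsingleton A.hom
  haveI : IsLocallyNoetherian A.left := LocallyOfFiniteType.isLocallyNoetherian A.hom
  have hLi := hLa.1
  have hL'i : PicF.IsInvertible L' :=
    TensorMod.TensorInv.isInvertible_of_tensor_iso (TensorMod.Basic.comm L' L ≪≫ hL'.some)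
  let ℓ := PicGrp.cls L hLi
  have hℓ' : PicGrp.cls L' hL'i = ℓ⁻¹ :=
    eq_inv_of_mul_eq_one_right ((iso_iff (cl_tensor (a := ℓ) (b := PicGrp.cls L' hL'i) rfl rfl)
      (b := (1 : PicLoc.PicSet A.left)) PicGrp.one_val.symm).mp hL')
  have hΛc : PicF.cl Λ = (PicZero.nA ℓ).1 := by
    obtain ⟨e⟩ := hΛ
    refine (Quot.sound ⟨e⟩ : PicF.cl Λ = _).trans ((cl_tensor (cl_tensor (cl_pullback μ[A] (a := ℓ) rfl)
      (cl_pullback (fst A A) (a := PicGrp.cls L' hL'i) rfl))
      (cl_pullback (snd A A) (a := PicGrp.cls L' hL'i) rfl)).trans (congrArg Subtype.val ?_))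
    rw [hℓ', PicZero.nA, map_inv, map_inv, _root_.mul_inv, _root_.mul_assoc]
  obtain ⟨hDc, ⟨eLD⟩, hDs, -⟩ := SurfInt.Div.divisor_spec hLi s hs
  obtain ⟨n, I, hI, hDn, hIred, hn0, hgen, pη, hη⟩ := exists_eq_pow
    (fun x => Cyc.SmoothReg.isRegularLocalRing_stalk A.hom x) (PicF2.zeroScheme L s) hDc (fun x h0 => by
      obtain ⟨e, c, -, -, hc, hD, -⟩ := SurfInt.Div.exists_stalk_zeroScheme hLi s hs x
      rw [hD, Ideal.span_singleton_eq_bot] at h0
      exact hc h0)
  by_cases hn1 : n = 1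
  · rw [hDn, hn1, pow_one]; exact hIred
  exfalso
  let q := PicGrp.cls _ (ClSub.Cartier.isInvertible_idealMod hI)
  have hpow : ∀ m : ℕ, 0 < m → ∀ h : PicF.IsInvertible (_root_.ClSub.idealMod (I ^ m)), PicGrp.cls _ h = q ^ m := by
    intro m hm
    induction m, hm using Nat.le_induction with
    | base => intro h; exact (Subtype.ext (congrArg (fun J => PicF.cl (_root_.ClSub.idealMod J)) (pow_one I)) : PicGrp.cls _ h = q).trans (pow_one q).symm
    | succ m hm ih =>
      intro h
      have hIm := ClSub.Cartier.isInvertible_idealMod (Ideal.EffCartier.isEffCartier_pow hI m)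
      rw [pow_succ q, ← ih hIm]
      refine ((iso_iff (cl_tensor (a := PicGrp.cls _ hIm) (b := q) rfl rfl) (b := PicGrp.cls _ h) rfl).1 ?_).symm
      rw [pow_succ]
      exact SurfInt.Mul.nonempty_idealMod_mul (Ideal.EffCartier.isEffCartier_pow hI m) I
  have hℓ : ℓ = (q⁻¹) ^ n := by
    have hIn := ClSub.Cartier.isInvertible_idealMod (Ideal.EffCartier.isEffCartier_pow hI n)
    rw [inv_pow, ← hpow n (Nat.pos_of_ne_zero hn0) hIn]
    refine eq_inv_of_mul_eq_one_left ?_
    refine (iso_iff (cl_tensor (a := ℓ) (b := PicGrp.cls _ hIn) rfl rfl) (b := (1 : PicLoc.PicSet A.left))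
      PicGrp.one_val.symm).1 ?_
    rw [← hDn]; exact ⟨eLD⟩
  -- no torsion
  have hker : ∀ x : 𝟙_ (Over (Spec (CommRingCat.of k))) ⟶ A, x ^ n = 1 → x = 1 := fun x hx => by
    have h1 : TraceSym.phi x ℓ = 1 := by
      rw [hℓ, map_pow, ← RosatiSq.phi_pow, hx, RosatiPos.phi_one]
    have key : ∀ v : 𝟙_ (Over (Spec (CommRingCat.of k))) ⟶ A, ph (A ◁ v) (PicZero.nA ℓ) =
        ph (fst A (𝟙_ (Over (Spec (CommRingCat.of k))))) (TraceSym.phi v ℓ) := fun v => by
      rw [← TraceLam.phi_eq_slice, ← ph_comp]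
      congr 2
      apply CartesianMonoidalCategory.hom_ext
      · simp [TraceLam.sl]
      · rw [whiskerLeft_snd, Category.assoc, lift_snd, ← Category.assoc, toUnit_unique (fst A _ ≫ toUnit A) (snd A _)]
    have hz : AbDual.IsPicZeroCl A.hom A (PicZero.nA ℓ).1 := hΛc ▸ hΛ0
    have h2 : ph (A ◁ x) (PicZero.nA ℓ) = ph (A ◁ (1 : 𝟙_ (Over (Spec (CommRingCat.of k))) ⟶ A)) (PicZero.nA ℓ) := by
      rw [key, key, h1, RosatiPos.phi_one]
    have h3 := H4.PicZero.phi_natural hφ x hz
    rw [h2, H4.PicZero.phi_natural hφ 1 hz, ← hΛc] at h3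
    exact ((cancel_mono (φ A (PicF.cl Λ))).1 h3).symm
  obtain ⟨g, hg⟩ := H63.AVIsogeny.exists_dim (A := A)
  have hcard := H63.AVTorsPoints.natCard_torsPts A hg (n := n) (by exact_mod_cast hn0)
  haveI : Subsingleton (AbDual.torsPts A n (𝟙_ (Over (Spec (CommRingCat.of k))))) := ⟨fun a b => Subtype.ext (by
    rw [hker a.1 ((AbDual.mem_torsPts ..).1 a.2), hker b.1 ((AbDual.mem_torsPts ..).1 b.2)])⟩
  haveI : Nonempty (AbDual.torsPts A n (𝟙_ (Over (Spec (CommRingCat.of k))))) := ⟨⟨1, one_mem _⟩⟩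
  replace hcard : Nat.card (AbDual.torsPts A n (𝟙_ (Over (Spec (CommRingCat.of k))))) = n ^ (2 * g) := hcard
  rw [Nat.card_unique] at hcard
  have hg0 : g = 0 := by
    rcases Nat.eq_zero_or_pos g with h | h
    · exact h
    · exact absurd hcard.symm (Nat.one_lt_pow (by omega) (by omega)).ne'
  subst hg0
  haveI : Subsingleton (𝟙_ (Over (Spec (CommRingCat.of k))) ⟶ A) := H63.AVIsogeny.subsingleton_pts A hg
  haveI : JacobsonSpace A.left := LocallyOfFiniteType.jacobsonSpace A.hom
  let c₀ : ↥(Spec (CommRingCat.of k)) := IsLocalRing.closedPoint k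
  have hcl : closedPoints A.left ⊆ {η[A].left c₀} := fun z hz => by
    have h := congrArg (fun w : 𝟙_ (Over (Spec (CommRingCat.of k))) ⟶ A => w.left c₀)
      (Subsingleton.elim (Over.homMk (pointOfClosedPoint A.hom z hz) (pointOfClosedPoint_comp A.hom z hz)) η[A])
    exact (pointOfClosedPoint_apply A.hom z hz _).symm.trans h
  obtain ⟨z, hz⟩ : (closedPoints A.left).Nonempty := by
    rw [Set.nonempty_iff_ne_empty]
    intro he
    have h := closure_closedPoints (X := A.left)
    rw [he, closure_empty] at h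
    exact Set.empty_ne_univ h
  have huniv : ({η[A].left c₀} : Set A.left) = Set.univ := by
    refine Set.eq_univ_of_univ_subset ?_
    rw [← closure_closedPoints]
    have h0 : IsClosed ({η[A].left c₀} : Set A.left) := by rw [← hcl hz]; exact hz
    exact h0.closure_subset_iff.2 hcl
  have h1 : genericPoint A.left ∈ ({η[A].left c₀} : Set A.left) := huniv ▸ Set.mem_univ _
  have h2 : pη ∈ ({η[A].left c₀} : Set A.left) := huniv ▸ Set.mem_univ _
  rw [Set.mem_singleton_iff] at h1 h2
  exact hgen (h1.trans h2.symm ▸ hη)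

end Groth.Agent.S14153
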