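import Groth.Statements.S14155
import Groth.Agent.Lib.CurveBundle.GenusOneSplit
import Groth.Agent.Lib.CurveBundle.GenusOneStable
import Groth.Agent.Lib.CurveBundle.Ctx

set_option autoImplicit false
universe u
open CategoryTheory CategoryTheory.Limits AlgebraicGeometry
open VBCurve

namespace Groth.Agent.S14155

/-- Let k be an algebraically closed field, X a smooth proper integral curve over k (proper and smooth
over k, integral, of dimension one) of genus one, i.e. dim_k H^1(X, O_X) = 1 (an elliptic curve once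
a base point is chosen), and F a finite locally free O_X-module of rank r ≥ 1 which is
indecomposable (nonzero, and in any decomposition F ≅ F₁ ⊕ F₂ one summand is zero), of degree d =
χ(F) − r·χ(O_X). Then F is stable — deg G · r < d · r' for every finite locally free submodule G of
F of rank r' ≥ 1 whose inclusion is not an isomorphism — if and only if gcd(d, r) = 1. (The
published corollary also identifies stability with simplicity in two senses; those equivalences are
not restated.) -/
theorem result (k : Type u) [Field k] [IsAlgClosed k]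
    (X : Scheme.{u}) [X.Over (Spec (CommRingCat.of k))] [IsIntegral X]
    [IsProper (X ↘ Spec (CommRingCat.of k))] [Smooth (X ↘ Spec (CommRingCat.of k))]
    (hdim : topologicalKrullDim ↥X = 1) (hg : Curv2.genus k X = 1)
    (r : ℕ) (hr : 0 < r) (F : X.Modules) (hF : FlatMod.IsFinLocFreeOfRank r F)
    (hind : ¬ IsZero F ∧ ∀ (F₁ F₂ : X.Modules), Nonempty (F ≅ F₁ ⊞ F₂) → IsZero F₁ ∨ IsZero F₂) :
    (∀ (G : X.Modules) (r' : ℕ) (i : G ⟶ F), Mono i → 0 < r' → FlatMod.IsFinLocFreeOfRank r' G → (¬ IsIso i) →
      Curv2.deg k X G r' * (r : ℤ) < Curv2.deg k X F r * (r' : ℤ)) ↔ Int.gcd (Curv2.deg k X F r) (r : ℤ) = 1 := by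
  open Groth.Agent.Lib.CurveBundle in
  have hC := Ctx.ofIntegral k hdim
  have h0 := Groth.Agent.Lib.Curves.GlobalSections.finrank_h0_structure k X
  open Groth.Agent.Lib.CurveBundle in
  obtain ⟨A, hA, hA1⟩ := Vanishing.exists_pos_ctx (k := k) hdim
  have hA0 : 0 < Groth.Agent.Lib.CurveBundle.Degree.dg k A := by omega
  obtain ⟨hFc, -, eF, edF⟩ := Groth.Agent.Lib.CurveBundle.Slope.bundle (k := k) hF
  constructor
  · intro h
    rw [edF]
    exact Groth.Agent.Lib.CurveBundle.GenusOneStable.coprime k hA hA0 h0 hg hdim hA1 r hr F hF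
      (Groth.Agent.Lib.CurveBundle.Slope.st_of_proper hF h)
  · intro hgcd G r' i hi hr' hG hniso
    obtain ⟨hGc, -, eG, edG⟩ := Groth.Agent.Lib.CurveBundle.Slope.bundle (k := k) hG
    have hss := Groth.Agent.Lib.CurveBundle.GenusOneSplit.ss_of_indecomposable (k := k) h0 hg hdim hr hF hind.2
    have hle := hss G i hi hGc
    rw [eG, eF, ← edG, ← edF] at hle
    refine hle.lt_of_ne fun heq => hniso ?_
    have hdvd : (r : ℤ) ∣ Curv2.deg k X F r * (r' : ℤ) := ⟨_, by rw [← heq, mul_comm]⟩
    have h1 : (r : ℤ) ∣ (r' : ℤ) := Int.dvd_of_dvd_mul_right_of_gcd_one hdvd (by rw [Int.gcd_comm]; exact hgcd)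
    have h2 : r' ≤ r := by
      rw [← eG, ← eF]; exact Groth.Agent.Lib.CurveBundle.Degree.gr_le_of_mono k i hFc
    have h3 : r' = r := le_antisymm h2 (Nat.le_of_dvd hr' (by exact_mod_cast h1))
    subst h3
    refine Groth.Agent.Lib.CurveBundle.Degree.isIso_of_mono k i hGc hFc (by rw [eG, eF]) ?_
    rw [← edG, ← edF]
    exact mul_right_cancel₀ (by exact_mod_cast hr'.ne') heq

end Groth.Agent.S14155
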