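import Groth.Statements.S14156
import Groth.Agent.Lib.CurveBundle.GenusOneExists

set_option autoImplicit false
universe u
open CategoryTheory CategoryTheory.Limits AlgebraicGeometry
open VBCurve

namespace Groth.Agent.S14156

/-- Let k be an algebraically closed field and X a smooth proper integral curve over k (proper and
smooth over k, integral, of dimension one) of genus one, i.e. dim_k H^1(X, O_X) = 1. Then for every
r ≥ 1 and every integer d there is a finite locally free O_X-module F of rank r and degree d = χ(F)
− r·χ(O_X) which is semistable: deg G · r ≤ d · r' for every finite locally free submodule G of F of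
rank r' ≥ 1. (The published result identifies semistable bundles of a fixed slope with torsion
coherent sheaves, a bundle of rank r and degree d corresponding to a torsion sheaf of length gcd(d,
r); this row states the resulting existence for every rank r ≥ 1 and every degree d; the
classification itself is not restated.) -/
theorem result (k : Type u) [Field k] [IsAlgClosed k]
    (X : Scheme.{u}) [X.Over (Spec (CommRingCat.of k))] [IsIntegral X]
    [IsProper (X ↘ Spec (CommRingCat.of k))] [Smooth (X ↘ Spec (CommRingCat.of k))]
    (hdim : topologicalKrullDim ↥X = 1) (hg : Curv2.genus k X = 1)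
    (r : ℕ) (hr : 0 < r) (d : ℤ) :
    ∃ F : X.Modules, FlatMod.IsFinLocFreeOfRank r F ∧ Curv2.deg k X F r = d ∧
      (∀ (G : X.Modules) (r' : ℕ) (i : G ⟶ F), Mono i → 0 < r' → FlatMod.IsFinLocFreeOfRank r' G →
      Curv2.deg k X G r' * (r : ℤ) ≤ Curv2.deg k X F r * (r' : ℤ)) := by
  open Groth.Agent.Lib.CurveBundle in
  have := Ctx.ofIntegral k hdim
  obtain ⟨F, hF, hFd, hFs⟩ := Groth.Agent.Lib.CurveBundle.GenusOneExists.exists_ss k hdim
    (Groth.Agent.Lib.Curves.GlobalSections.finrank_h0_structure k X) hg r hr d
  refine ⟨F, hF, (Groth.Agent.Lib.CurveBundle.Degree.dg_eq_deg k hF).symm.trans hFd, ?_⟩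
  intro G r' i hi hr' hG
  obtain ⟨hGc, -, eG, edG⟩ := Groth.Agent.Lib.CurveBundle.Slope.bundle (k := k) hG
  obtain ⟨-, -, eF, edF⟩ := Groth.Agent.Lib.CurveBundle.Slope.bundle (k := k) hF
  have := hFs G i hi hGc
  rwa [eG, eF, ← edG, ← edF] at this

end Groth.Agent.S14156
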