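import Groth.Statements.S14159
import Groth.Agent.H4.KerDual.GraphPol
-- import your own Groth.Agent.* helpers here

set_option autoImplicit false
set_option linter.style.haveILetI false
universe u
open CategoryTheory CategoryTheory.Limits MonoidalCategory CartesianMonoidalCategory MonObj AlgebraicGeometry
open AgPol Groth.Agent Groth.Agent.H3 Groth.Agent.H4 Groth.Agent.H4.PicZero Groth.Agent.Lib Groth.Agent.Lib.H3
noncomputable local instance S14159Law (Y : Scheme.{u}) : PicGrp.Law Y := Groth.Agent.Lib.TensorMod.Invertible.law Y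

namespace Groth.Agent.S14159

/-- Let S be a locally Noetherian scheme, A a projective abelian scheme over S of relative dimension g
with commutative group law, (At, φ) a commutative group scheme with data presenting it as the dual
of A for the fppf topology, ξ a Poincaré class on A ×_S At (normalised along the unit section of A)
and lam : A ⟶ At a polarisation. If L is a module on A whose isomorphism class is the pull back of ξ
along the graph (1, lam) : A ⟶ A ×_S At, then lam · lam (twice lam, in the group of A-valued points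
of At) is the homomorphism attached to L through φ. -/
theorem result (S : Scheme.{u}) [IsLocallyNoetherian S] (A At : Over S) [GrpObj A] [IsCommMonObj A]
    [GrpObj At] [IsCommMonObj At] (g : ℕ) (hA : AgPol.IsAbSch A g) (hproj : RelProj.IsProjective A.hom)
    (φ : AgPol.DualMap A At) (hdual : AbDual.IsDualAV Scheme.fppfPrecoverage A At φ)
    (ξ : PicF.Cl (PicF.XT A.hom At)) (hξ : AbDual.IsPoincareCl A At φ ξ)
    (lam : A ⟶ At) (hpol : AgPol.IsPolarization A At φ lam) (L : A.left.Modules)
    (hL : PicF.cl L = PicF.pullCl (pullback.lift (𝟙 A.left) (lam).left ((Category.id_comp A.hom).trans (Over.w (lam)).symm)) ξ) :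
    AgPol.IsLambda A At φ L (lam * lam) := by
  haveI : Smooth A.hom := hA.smooth
  haveI : IsProper A.hom := hA.proper
  haveI : GeometricallyConnected A.hom := hA.geomConnected
  haveI := hpol.1
  obtain ⟨x, hxv, hx0, hxr, hxφ⟩ := PhiInj.exists_poincare hdual hξ
  have hc : AbDual.IsPicZeroCl A.hom A (PicCalc.ph (A ◁ lam) x).1 :=
    isPicZeroCl_ph lam _ (whiskerLeft_snd _ _) hx0
  let c : PicLoc.PicSet (A ⊗ A).left := PicCalc.ph (A ◁ lam) x
  obtain ⟨N, hN, hNc⟩ := PicGrp.exists_eq_cls (c * c)
  have hL' : PicF.cl L = (PicCalc.ph (lift (𝟙 A) lam) x).1 := by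
    rw [hL, PicCalc.ph_val, hxv]
    rfl
  have key := KerDual.graph_lambda hdual hx0 hxr hxφ hpol 1 (fst A A) (snd A A)
  rw [pow_one, lift_fst_snd, PicCalc.ph_id, ← MonObj.mul_eq_mul] at key
  refine ⟨N, hN, ?_, ?_⟩
  · refine (PicCalc.iso_iff (PicCalc.cl_tensor (PicCalc.cl_tensor (a := c * c) (by rw [hNc]; rfl)
      (PicCalc.cl_pullback (fst A A) hL')) (PicCalc.cl_pullback (snd A A) hL'))
      (PicCalc.cl_pullback μ[A] hL')).2 ?_
    rw [← PicCalc.ph_comp, ← PicCalc.ph_comp, ← PicCalc.ph_comp, comp_lift, comp_lift, comp_lift,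
      Category.comp_id, Category.comp_id, Category.comp_id, key]
  · show φ A (PicF.cl N) = _
    rw [show PicF.cl N = (c * c).1 by rw [hNc]; rfl, phi_mul hdual hc hc, hxφ]

end Groth.Agent.S14159
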