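import Groth.Statements.S14160
import Groth.Agent.H4.KerDual.GraphPol
-- import your own Groth.Agent.* helpers here

set_option autoImplicit false
set_option linter.style.haveILetI false
universe u
open CategoryTheory CategoryTheory.Limits MonoidalCategory CartesianMonoidalCategory MonObj AlgebraicGeometry
open AgPol Groth.Agent Groth.Agent.H3 Groth.Agent.H4 Groth.Agent.H4.PicZero Groth.Agent.Lib Groth.Agent.Lib.H3
noncomputable local instance S14160Law (Y : Scheme.{u}) : PicGrp.Law Y := Groth.Agent.Lib.TensorMod.Invertible.law Y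

namespace Groth.Agent.S14160

/-- Let S be a locally Noetherian scheme, A a projective abelian scheme over S of relative dimension g
with commutative group law, (At, φ) a commutative group scheme with data presenting it as the dual
of A for the fppf topology, ξ a Poincaré class on A ×_S At, and k ≥ 1. If lam₁, lam₂ : A ⟶ At are
polarisations such that ξ pulls back to the same class on A along the graphs of lam₁ ^ k and of lam₂
^ k (powers in the group of A-valued points of At), then lam₁ = lam₂. (The published statement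
claims uniqueness among all homomorphisms into the dual; on the square E × E of an elliptic curve
with its product principal polarisation lam₀, the homomorphism α(x, y) = lam₀(y, −x) has lam₀ + α ≠
lam₀ while the graphs of k·lam₀ and k·(lam₀ + α) pull the Poincaré class back to isomorphic sheaves,
so this row asks lam₁, lam₂ to be polarisations, which is the case the printed argument covers; k =
0 is excluded since both pull backs are then along the unit section.) -/
theorem result (S : Scheme.{u}) [IsLocallyNoetherian S] (A At : Over S) [GrpObj A] [IsCommMonObj A]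
    [GrpObj At] [IsCommMonObj At] (g : ℕ) (hA : AgPol.IsAbSch A g) (hproj : RelProj.IsProjective A.hom)
    (φ : AgPol.DualMap A At) (hdual : AbDual.IsDualAV Scheme.fppfPrecoverage A At φ)
    (ξ : PicF.Cl (PicF.XT A.hom At)) (hξ : AbDual.IsPoincareCl A At φ ξ) (k : ℕ) (hk : 1 ≤ k)
    (lam₁ lam₂ : A ⟶ At) (h₁ : AgPol.IsPolarization A At φ lam₁) (h₂ : AgPol.IsPolarization A At φ lam₂)
    (heq : PicF.pullCl (pullback.lift (𝟙 A.left) (lam₁ ^ k).left ((Category.id_comp A.hom).trans (Over.w (lam₁ ^ k)).symm)) ξ = PicF.pullCl (pullback.lift (𝟙 A.left) (lam₂ ^ k).left ((Category.id_comp A.hom).trans (Over.w (lam₂ ^ k)).symm)) ξ) :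
    lam₁ = lam₂ := by
  haveI : Smooth A.hom := hA.smooth
  haveI : IsProper A.hom := hA.proper
  haveI : GeometricallyConnected A.hom := hA.geomConnected
  haveI := H2.Rigid.geometricallyReduced_of_smooth A.hom
  haveI := h₁.1
  haveI := h₂.1
  obtain ⟨x, hxv, hx0, hxr, hxφ⟩ := PhiInj.exists_poincare hdual hξ
  have hc : ∀ l : A ⟶ At, AbDual.IsPicZeroCl A.hom A (PicCalc.ph (A ◁ l) x).1 := fun l =>
    isPicZeroCl_ph l _ (whiskerLeft_snd _ _) hx0
  have hgr : PicCalc.ph (lift (𝟙 A) (lam₁ ^ k)) x = PicCalc.ph (lift (𝟙 A) (lam₂ ^ k)) x := by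
    refine Subtype.ext ?_
    rw [PicCalc.ph_val, PicCalc.ph_val, hxv]
    exact heq
  have hgr' : ∀ {W : Over S} (p : W ⟶ A),
      PicCalc.ph (lift p (p ≫ lam₁ ^ k)) x = PicCalc.ph (lift p (p ≫ lam₂ ^ k)) x := fun p => by
    have h := congrArg (PicCalc.ph p) hgr
    rwa [← PicCalc.ph_comp, ← PicCalc.ph_comp, comp_lift, comp_lift, Category.comp_id] at h
  have e1 := KerDual.graph_lambda hdual hx0 hxr hxφ h₁ k (fst A A) (snd A A)
  have e2 := KerDual.graph_lambda hdual hx0 hxr hxφ h₂ k (fst A A) (snd A A)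
  rw [lift_fst_snd, PicCalc.ph_id] at e1 e2
  rw [hgr', hgr', hgr', e2] at e1
  have e3 := congrArg (fun a : PicLoc.PicSet (A ⊗ A).left => φ A a.1) (mul_right_cancel (mul_right_cancel e1))
  change φ A (_ * _ : PicLoc.PicSet (A ⊗ A).left).1 = φ A (_ * _ : PicLoc.PicSet (A ⊗ A).left).1 at e3
  rw [phi_mul hdual (hc _) (hc _), phi_mul hdual (hc _) (hc _), hxφ, hxφ, ← pow_add, ← pow_add] at e3
  obtain ⟨hfin, hflat, hs⟩ := H4.AbSchMul.zpow A (d := ((k + k : ℕ) : ℤ)) (by omega)
  have e4 : ((𝟙 A : A ⟶ A) ^ ((k + k : ℕ) : ℤ)) ≫ lam₁ = ((𝟙 A : A ⟶ A) ^ ((k + k : ℕ) : ℤ)) ≫ lam₂ := by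
    rw [H4.AbSchMul.zpow_id_comp, H4.AbSchMul.zpow_id_comp, zpow_natCast, zpow_natCast, e3]
  apply Over.OverMorphism.ext
  refine hom_ext_of_fppf fun y => ?_
  obtain ⟨z, hz⟩ := hs.surj y
  exact ⟨_, _, hflat, ⟨z, hz⟩, congrArg Over.Hom.left e4⟩

end Groth.Agent.S14160
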