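import Groth.Statements.S14164
import Groth.Agent.S14124
import Groth.Agent.Lib.Ample.RelAmple
import Groth.Agent.Lib.ExchangeFP29.FieldPoint
import Groth.Agent.H26.FreeCrit
import Groth.Agent.Lib.TensorMod.FPConv
import Groth.Agent.Lib.Exchange.NearFibre
-- import your own Groth.Agent.* helpers here

set_option autoImplicit false
universe u
open CategoryTheory CategoryTheory.Limits MonoidalCategory CartesianMonoidalCategory MonObj AlgebraicGeometry
open AgPol

namespace Groth.Agent.S14164

open CategoryTheory CategoryTheory.Limits AlgebraicGeometry in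
/-- Vanishing on a geometric fibre. -/
theorem vanish {S : Scheme.{u}} (A : Over S) [GrpObj A] {g : ℕ} (hA : AgPol.IsAbSch A g)
    (L : A.left.Modules) (hample : RelAmple.IsRelAmple A.hom L) (K : Type u) [Field K] [IsAlgClosed K]
    (σ : Spec (CommRingCat.of K) ⟶ S) {j : ℕ} (hj : 1 ≤ j) :
    Subsingleton (Coh.HH (pullback A.hom σ) ((Scheme.Modules.pullback (pullback.fst A.hom σ)).obj L) j) := by
  haveI : IsProper A.hom := hA.proper
  haveI : Smooth A.hom := hA.smooth
  haveI : GeometricallyConnected A.hom := hA.geomConnected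
  haveI : IsProper (Red.bc σ A).hom := MorphismProperty.pullback_snd _ _ ‹_›
  haveI : Smooth (Red.bc σ A).hom := MorphismProperty.pullback_snd _ _ ‹_›
  haveI : GeometricallyConnected (Red.bc σ A).hom :=
    inferInstanceAs (GeometricallyConnected (pullback.snd A.hom σ))
  exact (Groth.Agent.S14124.result K (Red.bc σ A) ((Scheme.Modules.pullback (pullback.fst A.hom σ)).obj L)
    ((Groth.Agent.Lib.Ample.RelAmple.isRelAmple_iff_isAmple (pullback.snd A.hom σ)).1
      (Groth.Agent.Lib.Ample.RelAmple.isRelAmple_baseChange A.hom σ hample))).1 j hj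

/-- Let S be a locally Noetherian scheme, A a projective abelian scheme over S of relative dimension g
with structure morphism π, and L an invertible module on A which is ample relative to π. Then R^i
π_* L = 0 for every i ≥ 1 (right derived functors of the direct image on modules), and π_* L is a
finite locally free module on S. -/
theorem result (S : Scheme.{u}) [IsLocallyNoetherian S]
    (A : Over S) [GrpObj A] (g : ℕ) (hA : AgPol.IsAbSch A g) (hproj : RelProj.IsProjective A.hom)
    [HasInjectiveResolutions A.left.Modules]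
    (L : A.left.Modules) (hL : PicF.IsInvertible L) (hample : RelAmple.IsRelAmple A.hom L) :
    (∀ i : ℕ, 1 ≤ i → IsZero ((Coh.Rpush A.hom i).obj L)) ∧
      FlatMod.IsFinLocFree ((Coh.push A.hom).obj L) := by
  haveI : IsProper A.hom := hA.proper
  haveI : Smooth A.hom := hA.smooth
  haveI : GeometricallyConnected A.hom := hA.geomConnected
  have hl : FlatMod.IsFinLocFree L :=
    Groth.Agent.Lib.TensorMod.LocFree.of_rank (Groth.Agent.Lib.TensorMod.LocFree.of_isInvertible hL)
  have hfp : CohB1.IsFP L := Groth.Agent.Lib.TensorMod.FPConv.isFP_of_isFinLocFree hl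
  haveI := Groth.Agent.H26.FreeCrit.isQuasicoherent_of_isFP hfp
  have hfl : FlatMod.IsFlatOver A.hom L := _root_.ZarCoh.Exchange.NearFibre.isFlatOver_of_isFinLocFree A.hom hl
  have hv : ∀ (s : S) (j : ℕ), 1 ≤ j → CohIII.fiberRank A.hom L j s = 0 := by
    intro s j hj
    let K := AlgebraicClosure (S.residueField s)
    let σ : Spec (CommRingCat.of K) ⟶ S :=
      Spec.map (CommRingCat.ofHom (algebraMap (S.residueField s) K)) ≫ S.fromSpecResidueField s
    letI : (pullback A.hom σ).Over (Spec (CommRingCat.of K)) := ⟨pullback.snd A.hom σ⟩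
    haveI : Subsingleton (Coh.HH (pullback A.hom σ) ((Scheme.Modules.pullback (pullback.fst A.hom σ)).obj L) j) :=
      vanish A hA L hample K σ hj
    have h := Groth.Agent.Lib.ExchangeFP29.FieldPoint.finrank_HH_eq A.hom L hfp hfl (pullback.snd A.hom σ) σ
      (pullback.fst A.hom σ) (IsPullback.of_hasPullback A.hom σ) j
    have hs : σ (IsLocalRing.closedPoint K) = s :=
      (Scheme.Hom.comp_apply _ _ _).trans (Scheme.fromSpecResidueField_apply s _)
    rw [hs, Module.finrank_zero_of_subsingleton] at h
    exact h.symm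
  obtain ⟨i⟩ := Groth.Agent.Lib.ExchangeFP29.Main.nonempty_zeroIso A.hom L
  exact ⟨fun j hj => Groth.Agent.Lib.ExchangeFP29.Main.isZero_Rpush A.hom L hfp hfl j fun y => hv y j hj,
    Groth.Agent.Lib.TensorMod.LocFree.of_iso i
      (Groth.Agent.Lib.ExchangeFP29.Main.isFinLocFree_Rpush A.hom L hfp hfl 0 fun y => ⟨hv y 1 le_rfl, Or.inl rfl⟩)⟩

end Groth.Agent.S14164
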