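import Groth.Statements.S14170
import Groth.Agent.Lib.PtReg.Step

set_option autoImplicit false
set_option linter.style.haveILetI false
universe u
open CategoryTheory CategoryTheory.Limits AlgebraicGeometry
open Variety

namespace Groth.Agent.S14170

open Groth.Agent.Lib Groth.Agent.Lib.PtReg in
private theorem mem_maximal {P : Scheme.{u}} {x : P} (hx : IsClosed ({x} : Set P)) (U : P.affineOpens) (hxU : x ∈ U.1)
    {r : Γ(P, U.1)} (hr : r ∈ (ptId hx).ideal U) : ¬ IsUnit (P.presheaf.germ U.1 x hxU r) := fun hu => by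
  rw [Scheme.IdealSheafData.vanishingIdeal_ideal, PrimeSpectrum.mem_vanishingIdeal] at hr
  have h1 := hr (U.2.primeIdealOf ⟨x, hxU⟩) (U.2.fromSpec_primeIdealOf ⟨x, hxU⟩)
  have h2 : U.2.primeIdealOf ⟨x, hxU⟩ ∈ U.2.fromSpec ⁻¹ᵁ P.basicOpen r := by
    show U.2.fromSpec (U.2.primeIdealOf ⟨x, hxU⟩) ∈ P.basicOpen r
    rw [U.2.fromSpec_primeIdealOf]
    exact (P.mem_basicOpen r x hxU).2 hu
  rw [U.2.fromSpec_preimage_basicOpen] at h2
  exact h2 h1

open Groth.Agent.Lib Groth.Agent.Lib.PtReg Groth.Agent.Lib.ProjKoszul.Regularity in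
private theorem reg_pow {k : Type u} [Field k] [IsAlgClosed k] {n : ℕ} {x : CohB1.ProjSpace n k}
    (hx : IsClosed ({x} : Set (CohB1.ProjSpace n k))) (I : (CohB1.ProjSpace n k).IdealSheafData) :
    ∀ (e : ℕ) (P : (CohB1.ProjSpace n k).IdealSheafData) (a : ℤ),
      Reg (ClSub.idealMod (I ⊔ P)) a → Reg (ClSub.idealMod (I ⊔ ptId hx ^ e * P)) (a + e) := by
  intro e
  induction e with
  | zero => intro P a h; simpa using h
  | succ e ih =>
    intro P a h
    have h1 := ih P a h
    rw [pow_succ', mul_assoc, Nat.cast_succ, ← add_assoc]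
    refine reg_step hx ?_ ?_ h1
    · refine sup_le_sup_left ?_ _
      intro U
      rw [Scheme.IdealSheafData.ideal_mul, Pi.mul_apply]
      exact Ideal.mul_le_right
    · intro U
      simp only [Scheme.IdealSheafData.ideal_mul, Scheme.IdealSheafData.ideal_sup, Pi.mul_apply, Pi.sup_apply]
      rw [Ideal.mul_sup]
      exact sup_le_sup_right Ideal.mul_le_right _

/-- Let k be an algebraically closed field of characteristic zero (the published statement is over the
complex numbers; this row allows any algebraically closed field of characteristic zero), N ≥ 0, and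
i : X → P^N_k a closed immersion with X finite as a set, say with t points (a zero-dimensional
closed subscheme supported at t distinct points). Suppose μ : X → ℕ is such that for every point x
the maximal ideal of the local ring O_{X,x} satisfies m_x^(μ(x)+1) = 0 (so μ(x) bounds the largest
exponent with a nonzero power). Then H^1(P^N_k, I_X(j)) = 0 for every integer j ≥ Σ_x μ(x) + t - 1,
where I_X is the ideal sheaf of i viewed as an O-module; and I_X is (Σ_x μ(x) + t)-regular. -/
theorem result (k : Type u) [Field k] [IsAlgClosed k] [CharZero k]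
    (N : ℕ) (X : Scheme.{u}) (i : X ⟶ CohB1.ProjSpace N k) [IsClosedImmersion i] [Finite X]
    (μ : X → ℕ) (hμ : ∀ x : X, IsLocalRing.maximalIdeal (X.presheaf.stalk x) ^ (μ x + 1) = ⊥) :
    (∀ j : ℤ, (∑ᶠ x : X, (μ x : ℤ)) + (Nat.card X : ℤ) - 1 ≤ j →
      Subsingleton (Coh.HH (CohB1.ProjSpace N k)
        (CohB1.tensorMod (ClSub.idealMod i.ker) (Twist.twistProjSpace N k j)) 1)) ∧
    Curv2.IsMRegular k N (ClSub.idealMod i.ker) ((∑ᶠ x : X, (μ x : ℤ)) + (Nat.card X : ℤ)) := by
  classical
  haveI := Fintype.ofFinite X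
  haveI : LocallyOfFiniteType (i ≫ CohB1.ProjSpace.toSpec N k) := by
    haveI : IsProper (CohB1.ProjSpace.toSpec N k) := Lib.ProjSpace.Basic.isProper_toSpec N k
    infer_instance
  haveI : JacobsonSpace X := LocallyOfFiniteType.jacobsonSpace (i ≫ CohB1.ProjSpace.toSpec N k)
  haveI : IsProper (CohB1.ProjSpace N k ↘ Spec (CommRingCat.of k)) := Lib.ProjSpace.Basic.isProper_toSpec N k
  have hc : ∀ y : X, IsClosed ({i y} : Set (CohB1.ProjSpace N k)) := fun y => by
    rw [← Set.image_singleton]
    exact i.isClosedEmbedding.isClosedMap _ (isClosed_discrete _)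
  let f : X → (CohB1.ProjSpace N k).IdealSheafData := fun y => Lib.PtReg.ptId (hc y) ^ (μ y + 1)
  have key : ∀ s : Finset X, Lib.ProjKoszul.Regularity.Reg (ClSub.idealMod (i.ker ⊔ ∏ y ∈ s, f y))
      (∑ y ∈ s, ((μ y : ℤ) + 1)) := fun s => by
    induction s using Finset.induction_on with
    | empty =>
      rw [Finset.prod_empty, Finset.sum_empty,
        show (1 : (CohB1.ProjSpace N k).IdealSheafData) = ⊤ from rfl, sup_top_eq]
      exact Lib.PtReg.reg_top
    | insert y s hy ih =>
      rw [Finset.prod_insert hy, Finset.sum_insert hy, add_comm]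
      have := reg_pow (hc y) i.ker (μ y + 1) _ _ ih
      rwa [Nat.cast_succ] at this
  have hle : ∏ y, f y ≤ i.ker := by
    intro U r hr
    rw [Scheme.Hom.ker_apply, RingHom.mem_ker]
    refine TopCat.Presheaf.section_ext X.sheaf _ _ _ fun y hy => ?_
    show X.presheaf.germ _ y hy (i.app U r) = X.presheaf.germ _ y hy 0
    rw [map_zero, ← Scheme.Hom.germ_stalkMap_apply i U.1 y hy r]
    have hr' : r ∈ (f y).ideal U := by
      rw [← Finset.mul_prod_erase Finset.univ f (Finset.mem_univ y), Scheme.IdealSheafData.ideal_mul,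
        Pi.mul_apply] at hr
      exact Ideal.mul_le_left hr
    let φ := (i.stalkMap y).hom.comp ((CohB1.ProjSpace N k).presheaf.germ U.1 (i y) hy).hom
    have hφ : ((Lib.PtReg.ptId (hc y)).ideal U).map φ ≤ IsLocalRing.maximalIdeal (X.presheaf.stalk y) :=
      Ideal.map_le_iff_le_comap.2 fun v hv => fun hu =>
        mem_maximal (hc y) U hy hv ((isUnit_map_iff (i.stalkMap y).hom _).1 hu)
    have h := Ideal.mem_map_of_mem φ hr'
    rw [Scheme.IdealSheafData.ideal_pow, Pi.pow_apply, Ideal.map_pow] at h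
    have h' := Ideal.pow_right_mono hφ _ h
    rw [hμ y] at h'
    exact h'
  have hsum : (∑ᶠ x : X, (μ x : ℤ)) + (Nat.card X : ℤ) = ∑ y : X, ((μ y : ℤ) + 1) := by
    rw [finsum_eq_sum_of_fintype, Nat.card_eq_fintype_card, Finset.sum_add_distrib]
    simp
  have hreg := key Finset.univ
  rw [sup_of_le_left hle, ← hsum] at hreg
  exact ⟨fun j hj => Lib.ProjKoszul.Regularity.subsingleton_of_le hreg le_rfl (by push_cast; linarith),
    fun q hq _ => hreg q hq⟩

end Groth.Agent.S14170
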