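import Groth.Statements.S14172
import Groth.Agent.Lib.ReesReg.Iso

set_option autoImplicit false
universe u
open CategoryTheory CategoryTheory.Limits AlgebraicGeometry
open Variety

namespace Groth.Agent.S14172

/-- Let k be an algebraically closed field of characteristic zero (the published statement is over the
complex numbers; this row allows any algebraically closed field of characteristic zero), I a
quasi-coherent ideal sheaf on P^n_k, viewed as an O-module, and d an integer such that I(d) = I ⊗
O(d) is generated by its global sections. Then reg(I^p) ≤ d p + e for a suitable integer e and every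
p ≥ 1: the p-th power I^p is m-regular whenever m ≥ d p + e. -/
theorem result (k : Type u) [Field k] [IsAlgClosed k] [CharZero k]
    (n : ℕ) (I : (CohB1.ProjSpace n k).IdealSheafData) (d : ℤ)
    (hd : Curv2.IsGloballyGenerated (CohB1.tensorMod (ClSub.idealMod I) (Twist.twistProjSpace n k d))) :
    ∃ e : ℤ, ∀ p : ℕ, 1 ≤ p → ∀ m : ℤ, d * (p : ℤ) + e ≤ m →
      Curv2.IsMRegular k n (ClSub.idealMod (I ^ p)) m := by
  rcases Nat.eq_zero_or_pos n with rfl | hn
  · exact ⟨0, fun p _ m _ i hi hi' => absurd hi' (by omega)⟩
  obtain ⟨N, f, hf, h₁, h₂⟩ := Lib.ReesReg.Forms.exists_forms hn I d hd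
  obtain ⟨e, he⟩ := Lib.ReesReg.Bound.exists_bound d f hf
  refine ⟨e + n, fun p _ m hm i hi hin => ?_⟩
  obtain ⟨φ⟩ := Lib.ReesReg.Iso.nonempty_iso f hf I h₁ h₂ p
  exact Lib.ProjKoszul.Chase.subsingleton_of_iso k
    (Lib.TensorMod.Basic.tensorIso φ (Iso.refl _)).symm (he p i hi hin _ (by
      have : (i : ℤ) ≤ n := by exact_mod_cast hin
      linarith))

end Groth.Agent.S14172
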