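import Groth.Statements.S14175
-- import your own Groth.Agent.* helpers here

set_option autoImplicit false
universe u v w
open GalCoh

namespace Groth.Agent.S14175

/-- Let G be a finite cyclic group generated by t, let m be a natural number dividing the order of G,
and let ρ be a linear representation of G on a module V over a commutative ring k such that m·V = 0
and every element of G whose m-th power is the identity acts trivially on V. Then evaluating a
crossed homomorphism at t induces a bijection from the first cohomology of G with values in V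
(crossed homomorphisms f, i.e. f(gh) = ρ(g)f(h) + f(g), modulo the principal ones g ↦ ρ(g)x − x)
onto the coinvariants V_G (the quotient of V by the span of all ρ(g)v − v): the class of f(t) in V_G
vanishes exactly when f is principal, and every class of V_G is the class of f(t) for some crossed
homomorphism f. The bijection depends on the choice of the generator t. -/
theorem result
    {k : Type u} {G : Type v} {V : Type w} [CommRing k] [Group G] [Finite G]
    [AddCommGroup V] [Module k V] (ρ : Representation k G V)
    (t : G) (ht : ∀ g : G, g ∈ Subgroup.zpowers t)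
    (m : ℕ) (hm : m ∣ Nat.card G) (htors : ∀ v : V, m • v = 0)
    (htriv : ∀ g : G, g ^ m = 1 → ∀ v : V, ρ g v = v) :
    (∀ f : G → V, (∀ g h : G, f (g * h) = ρ g (f h) + f g) →
        (Representation.Coinvariants.mk ρ (f t) = 0 ↔ ∃ x : V, ∀ g : G, f g = ρ g x - x)) ∧
    (∀ v : V, ∃ f : G → V, (∀ g h : G, f (g * h) = ρ g (f h) + f g) ∧
        Representation.Coinvariants.mk ρ (f t) = Representation.Coinvariants.mk ρ v) := by
  classical
  set N := Nat.card G
  have hord : orderOf t = N := orderOf_eq_card_of_forall_mem_zpowers ht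
  have htN : t ^ N = 1 := hord ▸ pow_orderOf_eq_one t
  have hpow : ∀ g : G, ∃ i : ℕ, g = t ^ i := fun g => by
    obtain ⟨i, hi⟩ := (isOfFinOrder_of_finite t).mem_zpowers_iff_mem_range_orderOf.mp (ht g) |> Finset.mem_image.mp
    exact ⟨i, hi.2.symm⟩
  let S : ℕ → V → V := fun i v => ∑ j ∈ Finset.range i, ρ (t ^ j) v
  have hSadd : ∀ a b v, S (a + b) v = ρ (t ^ a) (S b v) + S a v := fun a b v => by
    simp only [S, map_sum, ← Module.End.mul_apply, ← map_mul, ← pow_add]
    rw [Finset.sum_range_add, add_comm]
  obtain ⟨d, hd⟩ := hm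
  have hper : ∀ v, ρ (t ^ d) v = v := fun v =>
    htriv _ (by rw [← pow_mul, mul_comm, ← hd, htN]) v
  have hperl : ∀ l v, ρ (t ^ (l * d)) v = v := fun l => by
    induction l with
    | zero => simp
    | succ l ih => intro v; rw [Nat.succ_mul, pow_add, map_mul, Module.End.mul_apply, hper, ih]
  have hSN : ∀ v, S N v = 0 := fun v => by
    have h : ∀ l, S (l * d) v = l • S d v := fun l => by
      induction l with
      | zero => simp [S]
      | succ l ih => rw [Nat.succ_mul, hSadd, ih, hperl, succ_nsmul, add_comm]
    rw [hd, h, htors]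
  have hSmod : ∀ a v, S a v = S (a % N) v := fun a v => by
    conv_lhs => rw [← Nat.mod_add_div a N]
    induction a / N with
    | zero => simp
    | succ l ih => rw [Nat.mul_succ, ← add_assoc, hSadd, hSN, map_zero, zero_add, ih]
  have hval : ∀ f : G → V, (∀ g h : G, f (g * h) = ρ g (f h) + f g) → ∀ i, f (t ^ i) = S i (f t) := by
    intro f hf i
    induction i with
    | zero =>
      have := hf 1 1
      simpa [S] using this
    | succ i ih =>
      rw [pow_succ, hf, hSadd, ih]
      simp [S]
  have hker : ∀ y : V, Representation.Coinvariants.mk ρ y = 0 ↔ ∃ x, y = ρ t x - x := by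
    intro y
    constructor
    · intro h
      rw [Representation.Coinvariants.mk_eq_zero] at h
      have hle : Representation.Coinvariants.ker ρ ≤ LinearMap.range (ρ t - 1) := by
        rw [Representation.Coinvariants.ker, Submodule.span_le]
        rintro _ ⟨⟨g, x⟩, rfl⟩
        obtain ⟨i, rfl⟩ := hpow g
        refine ⟨∑ j ∈ Finset.range i, ρ (t ^ j) x, ?_⟩
        simp only [LinearMap.sub_apply, Module.End.one_apply, map_sum, ← Module.End.mul_apply, ← map_mul,
          ← pow_succ', ← Finset.sum_sub_distrib, one_mul]
        rw [Finset.sum_range_sub (fun j => ρ (t ^ j) x) i]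
        simp
      obtain ⟨x, hx⟩ := hle h
      exact ⟨x, hx.symm⟩
    · rintro ⟨x, rfl⟩
      exact Representation.Coinvariants.mk_eq_zero ρ |>.mpr (Submodule.subset_span ⟨⟨t, x⟩, rfl⟩)
  refine ⟨fun f hf => ?_, fun v => ?_⟩
  · rw [hker]
    refine ⟨fun ⟨x, hx⟩ => ⟨x, fun g => ?_⟩, fun ⟨x, hx⟩ => ⟨x, hx t⟩⟩
    obtain ⟨i, rfl⟩ := hpow g
    have hf2 : ∀ g h : G, (fun g => ρ g x - x) (g * h) = ρ g ((fun g => ρ g x - x) h) + (fun g => ρ g x - x) g :=
      fun g h => by simp [map_mul, map_sub]
    rw [hval f hf, hx]
    exact (hval (fun g => ρ g x - x) hf2 i).symm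
  · choose idx hidx using hpow
    have hcl : ∀ g i, g = t ^ i → S (idx g) v = S i v := fun g i h => by
      rw [hSmod, hSmod i]
      congr 1
      exact hord ▸ pow_inj_mod.mp ((hidx g).symm.trans h)
    refine ⟨fun g => S (idx g) v, fun g h => ?_, ?_⟩
    · show S (idx (g * h)) v = ρ g (S (idx h) v) + S (idx g) v
      rw [hcl (g * h) (idx g + idx h) (by rw [pow_add, ← hidx, ← hidx]), hSadd]
      simp only [← hidx]
    · show Representation.Coinvariants.mk ρ (S (idx t) v) = _
      rw [hcl t 1 (pow_one t).symm]
      simp [S]

end Groth.Agent.S14175
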