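import Groth.Statements.S14176
import Mathlib.GroupTheory.Abelianization.Defs
import Mathlib.GroupTheory.Finiteness
import Mathlib.Topology.Algebra.Group.Quotient
import Mathlib.Topology.Algebra.Group.Basic
import Groth.Agent.H80.ZModDual

set_option autoImplicit false
universe u
open Pi1

namespace Groth.Agent.S14176

open W4c1etcurveeff2 in
/-- Let G be a topological group in which some finite subset generates a dense subgroup, let n ≥ 1, and
let S be the closure of the subgroup generated by all n-th powers and all commutators. Write D for
the group of continuous homomorphisms from G to the discrete cyclic group ℤ/n, that is,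
homomorphisms with open kernel (the first cohomology of G with coefficients in the trivial module
ℤ/n), and D^∨ for its ℤ/n-dual, the group of homomorphisms D → ℤ/n. Then: S is carried onto itself
by every group automorphism of G that is a homeomorphism; an element g of G lies in S exactly when
every element of D kills g, and every element of D^∨ is evaluation at some element of G, so that
evaluation identifies G/S with D^∨; and S is the only closed normal subgroup H of G with G/H
isomorphic to D^∨. (The published statement is for a topologically finitely generated group, calls S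
characteristic and does not restrict the competing subgroups H; this row asks the automorphisms to
be homeomorphisms and H to be closed, which is what the argument uses: for the integers with the
p-adic topology times a cyclic group of prime order q ≠ p, the subgroup qℤ × ℤ/q is normal, not
closed, and has quotient isomorphic to D^∨ ≅ ℤ/q, while S = ℤ × 0.) -/
theorem result
    {G : Type u} [Group G] [TopologicalSpace G] [IsTopologicalGroup G]
    (s : Finset G) (hs : Dense ((Subgroup.closure (s : Set G) : Subgroup G) : Set G))
    (n : ℕ) [NeZero n] (S : Subgroup G) (hS : S = powCommClosure G n) :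
    (∀ φ : G ≃* G, Continuous φ → Continuous φ.symm → S.map φ.toMonoidHom = S) ∧
    (∀ g : G, g ∈ S ↔
        ∀ χ : G →* Multiplicative (ZMod n), IsOpen ((χ.ker : Subgroup G) : Set G) → χ g = 1) ∧
    (∀ F : ContChar G n →* Multiplicative (ZMod n), ∃ g : G,
        ∀ χ : ContChar G n, F χ = (χ.1 : G →* Multiplicative (ZMod n)) g) ∧
    (∀ (H : Subgroup G) [H.Normal], IsClosed (H : Set G) →
        Nonempty (G ⧸ H ≃* (ContChar G n →* Multiplicative (ZMod n))) → H = S) := by
  open Groth.Agent.H80 in
  classical
  have hle : Subgroup.closure (Set.range fun g : G => g ^ n) ⊔ commutator G ≤ S :=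
    hS ▸ Subgroup.le_topologicalClosure _
  have hScl : IsClosed (S : Set G) := hS ▸ Subgroup.isClosed_topologicalClosure _
  have hcomm : commutator G ≤ S := le_sup_right.trans hle
  have hnormal : S.Normal := Subgroup.Normal.of_commutator_le G hcomm
  let icg : CommGroup (G ⧸ S) := { (inferInstance : Group (G ⧸ S)) with
    mul_comm := (Subgroup.Normal.quotient_commutative_iff_commutator_le.mpr hcomm).is_comm.comm }
  have hpow : ∀ a : G ⧸ S, a ^ n = 1 := by
    intro a
    obtain ⟨g, rfl⟩ := QuotientGroup.mk_surjective a
    rw [← QuotientGroup.mk_pow, QuotientGroup.eq_one_iff]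
    exact hle (le_sup_left (b := commutator G) (Subgroup.subset_closure ⟨g, rfl⟩))
  let T : Subgroup (G ⧸ S) := Subgroup.closure ((s : Set G).image (QuotientGroup.mk' S))
  have hTfin : Finite T := by
    have : Group.FG T := (Group.fg_iff_subgroup_fg _).mpr ⟨s.image (QuotientGroup.mk' S), by simp [T]⟩
    exact CommGroup.finite_of_fg_torsion T fun x => isOfFinOrder_iff_pow_eq_one.mpr
      ⟨n, Nat.pos_of_ne_zero (NeZero.ne n), Subtype.ext (hpow x)⟩
  have hfinA : Finite (G ⧸ S) := by
    have hTcl : IsClosed ((QuotientGroup.mk' S) ⁻¹' (T : Set (G ⧸ S))) := by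
      have : IsClosed (T : Set (G ⧸ S)) := by
        have : T1Space (G ⧸ S) := by
          haveI : IsClosed (S : Set G) := hScl
          infer_instance
        exact (Set.toFinite (T : Set (G ⧸ S))).isClosed
      exact this.preimage QuotientGroup.continuous_mk
    have huniv : (QuotientGroup.mk' S) ⁻¹' (T : Set (G ⧸ S)) = Set.univ := by
      refine eq_top_iff.mpr (hs.closure_eq.symm.le.trans (closure_minimal ?_ hTcl))
      intro g hg
      have : QuotientGroup.mk' S g ∈ (Subgroup.closure (s : Set G)).map (QuotientGroup.mk' S) :=
        ⟨g, hg, rfl⟩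
      rwa [MonoidHom.map_closure] at this
    refine Finite.of_surjective (fun t : T => (t : G ⧸ S)) fun a => ?_
    obtain ⟨g, rfl⟩ := QuotientGroup.mk_surjective a
    exact ⟨⟨g, (huniv.ge (Set.mem_univ g) : _)⟩, rfl⟩
  have hSfi : S.FiniteIndex := Subgroup.finiteIndex_of_finite_quotient
  have hSopen : IsOpen (S : Set G) := Subgroup.isOpen_of_isClosed_of_finiteIndex _ hScl
  have hlift : ∀ χ : (G ⧸ S) →* Multiplicative (ZMod n),
      IsOpen (((χ.comp (QuotientGroup.mk' S)).ker : Subgroup G) : Set G) := fun χ =>
    Subgroup.isOpen_mono (H₁ := S) (fun g hg => by simp [(QuotientGroup.eq_one_iff g).mpr hg]) hSopen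
  have hpow1 : ∀ x : Multiplicative (ZMod n), x ^ n = 1 := fun x => by
    have h := pow_card_eq_one' (x := x)
    rwa [show Nat.card (Multiplicative (ZMod n)) = n by simp [Nat.card_eq_fintype_card]] at h
  have hker : ∀ χ : G →* Multiplicative (ZMod n), IsOpen ((χ.ker : Subgroup G) : Set G) →
      S ≤ χ.ker := by
    intro χ hχ
    rw [hS]
    refine Subgroup.topologicalClosure_minimal _ (sup_le ?_ ?_) (Subgroup.isClosed_of_isOpen _ hχ)
    · rw [Subgroup.closure_le]
      rintro _ ⟨g, rfl⟩
      change χ (g ^ n) = 1
      rw [map_pow, hpow1]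
    · exact Abelianization.commutator_subset_ker χ
  let D := ContChar G n
  let toD : ((G ⧸ S) →* Multiplicative (ZMod n)) ≃* D :=
    { toFun := fun χ => ⟨χ.comp (QuotientGroup.mk' S), hlift χ⟩
      invFun := fun χ => QuotientGroup.lift S χ.1 (hker χ.1 χ.2)
      left_inv := fun χ => by ext x; rfl
      right_inv := fun χ => Subtype.ext (MonoidHom.ext fun g => rfl)
      map_mul' := fun χ ψ => rfl }
  have hbij := ZModDual.eval_bijective (G ⧸ S) n hpow
  refine ⟨?_, fun g => ⟨fun hg χ hχ => hker χ hχ hg, ?_⟩, ?_, ?_⟩
  · intro φ hφ hφ'
    have hP : (Subgroup.closure (Set.range fun g : G => g ^ n) ⊔ commutator G).map φ.toMonoidHom =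
        Subgroup.closure (Set.range fun g : G => g ^ n) ⊔ commutator G := by
      rw [Subgroup.map_sup]
      congr 1
      · rw [MonoidHom.map_closure]
        congr 1
        ext x
        constructor
        · rintro ⟨_, ⟨g, rfl⟩, rfl⟩
          exact ⟨φ g, by simp⟩
        · rintro ⟨g, rfl⟩
          exact ⟨_, ⟨φ.symm g, rfl⟩, by simp⟩
      · rw [commutator_def, Subgroup.map_commutator,
          Subgroup.map_top_of_surjective φ.toMonoidHom φ.surjective]
    refine SetLike.coe_injective ?_
    let h : G ≃ₜ G := { φ.toEquiv with continuous_toFun := hφ, continuous_invFun := hφ' }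
    have hP' := congrArg (fun T : Subgroup G => (T : Set G)) hP
    rw [Subgroup.coe_map] at hP'
    rw [Subgroup.coe_map, hS]
    change (h : G → G) '' closure _ = closure _
    rw [h.image_closure]
    exact congrArg closure hP'
  · intro hall
    rw [← QuotientGroup.eq_one_iff]
    by_contra hne
    obtain ⟨χ, hχ⟩ := ZModDual.exists_char_ne_one (G ⧸ S) n hpow hne
    exact hχ (hall _ (hlift χ))
  · intro F
    obtain ⟨a, ha⟩ := hbij.surjective (F.comp toD.toMonoidHom)
    obtain ⟨g, rfl⟩ := QuotientGroup.mk_surjective a
    refine ⟨g, fun χ => ?_⟩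
    have := DFunLike.congr_fun ha (toD.symm χ)
    simp only [MonoidHom.comp_apply, MulEquiv.coe_toMonoidHom, MulEquiv.apply_symm_apply] at this
    exact this.symm
  · rintro H hHn hH ⟨e⟩
    let e' : (D →* Multiplicative (ZMod n)) ≃* G ⧸ S :=
      ((MulEquiv.ofBijective _ hbij).trans toD.monoidHomCongrLeft).symm
    have hSH : S ≤ H := by
      rw [hS]
      refine Subgroup.topologicalClosure_minimal _ (sup_le ?_ ?_) hH
      · rw [Subgroup.closure_le]
        rintro _ ⟨g, rfl⟩
        have : (g : G ⧸ H) ^ n = 1 := (e.trans e').injective (by rw [map_pow, map_one, hpow])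
        exact (QuotientGroup.eq_one_iff _).mp (by rw [QuotientGroup.mk_pow]; exact this)
      · rw [← Subgroup.Normal.quotient_commutative_iff_commutator_le]
        exact IsMulCommutative.of_comm fun a b => (e.trans e').injective (by rw [map_mul, map_mul, mul_comm])
    by_contra hne
    have := Subgroup.index_strictAnti (lt_of_le_of_ne hSH (Ne.symm hne))
    have hidx : H.index = S.index := Nat.card_congr (e.trans e').toEquiv
    omega

end Groth.Agent.S14176
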