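import Groth.Statements.S14177
import Mathlib.RingTheory.Smooth.Fiber
import Mathlib.RingTheory.DedekindDomain.Dvr
import Mathlib.RingTheory.DedekindDomain.IntegralClosure
import Mathlib.RingTheory.Discriminant
import Mathlib.RingTheory.Flat.TorsionFree
import Mathlib.RingTheory.Norm.Transitivity
import Mathlib.FieldTheory.Separable

set_option autoImplicit false
universe u v w
open scoped nonZeroDivisors
open EtAlg

namespace Groth.Agent.S14177

variable {A : Type u} {K : Type v} {L : Type w} [CommRing A] [IsDedekindDomain A]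
  [Field K] [Algebra A K] [IsFractionRing A K]
  [Field L] [Algebra K L] [Algebra A L] [IsScalarTower A K L]

theorem exists_local_generator (J : Ideal A) (p : Ideal A) [p.IsMaximal] :
    ∃ j ∈ J, ∃ t ∉ p, ∀ b ∈ J, t * b ∈ Ideal.span {j} := by
  classical
  by_cases hp : p = ⊥
  · -- `A` is a field
    subst hp
    by_cases hJ : J = ⊥
    · exact ⟨0, zero_mem _, 1, by simp, fun b hb => by rw [hJ, Ideal.mem_bot] at hb; simp [hb]⟩
    · obtain ⟨j, hj, hj0⟩ := Submodule.exists_mem_ne_zero_of_ne_bot hJ
      refine ⟨j, hj, 1, by simp, fun b _ => ?_⟩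
      have hu : IsUnit j := by
        by_contra hu
        obtain ⟨m, hm, hjm⟩ := exists_max_ideal_of_mem_nonunits hu
        have := (inferInstance : (⊥ : Ideal A).IsMaximal).eq_of_le hm.ne_top bot_le
        rw [← this, Ideal.mem_bot] at hjm
        exact hj0 hjm
      rw [Ideal.span_singleton_eq_top.2 hu]; trivial
  haveI : IsDiscreteValuationRing (Localization.AtPrime p) :=
    IsLocalization.AtPrime.isDiscreteValuationRing_of_dedekind_domain A hp _
  obtain ⟨z, hz⟩ := (IsPrincipalIdealRing.principal (J.map (algebraMap A (Localization.AtPrime p)))).principal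
  replace hz : J.map (algebraMap A (Localization.AtPrime p)) = Ideal.span {z} := hz
  obtain ⟨⟨⟨j, hj⟩, m⟩, hzm⟩ := (IsLocalization.mem_map_algebraMap_iff p.primeCompl _).1
    (show z ∈ J.map (algebraMap A (Localization.AtPrime p)) from hz ▸ Ideal.mem_span_singleton_self z)
  have hspan : J.map (algebraMap A (Localization.AtPrime p)) =
      (Ideal.span {j}).map (algebraMap A (Localization.AtPrime p)) := by
    rw [hz, Ideal.map_span, Set.image_singleton, Ideal.span_singleton_eq_span_singleton]
    exact ⟨(IsLocalization.map_units (Localization.AtPrime p) m).unit, hzm⟩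
  have key : ∀ b ∈ J, ∃ t ∉ p, t * b ∈ Ideal.span {j} := by
    intro b hb
    obtain ⟨⟨⟨c, hc⟩, d⟩, hd⟩ := (IsLocalization.mem_map_algebraMap_iff p.primeCompl _).1
      (hspan ▸ Ideal.mem_map_of_mem _ hb : algebraMap A (Localization.AtPrime p) b ∈ _)
    rw [← map_mul] at hd
    obtain ⟨e, he⟩ := IsLocalization.exists_of_eq (M := p.primeCompl) hd
    refine ⟨e * d, fun h => ((‹p.IsMaximal›).isPrime.mem_or_mem h).elim e.2 d.2, ?_⟩
    rw [mul_assoc, mul_comm (d : A), he]
    exact Ideal.mul_mem_left _ _ hc
  obtain ⟨s, hs⟩ : J.FG := IsNoetherian.noetherian J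
  choose t ht htm using key
  refine ⟨j, hj, ∏ b ∈ s.attach, t b.1 (hs ▸ Ideal.subset_span b.2), fun h => ?_, fun b hb => ?_⟩
  · obtain ⟨b, -, hb⟩ := (‹p.IsMaximal›).isPrime.prod_mem_iff.1 h
    exact ht _ _ hb
  · rw [← hs] at hb
    induction hb using Submodule.span_induction with
    | mem b hb =>
      rw [← Finset.prod_erase_mul _ _ (Finset.mem_attach s ⟨b, hb⟩), mul_assoc]
      exact Ideal.mul_mem_left _ _ (htm b _)
    | zero => rw [mul_zero]; exact zero_mem _
    | add x y _ _ hx hy => rw [mul_add]; exact add_mem hx hy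
    | smul r x _ hx => rw [smul_eq_mul, mul_left_comm]; exact Ideal.mul_mem_left _ _ hx

theorem exists_local_root (n : ℕ) (hn0 : n ≠ 0) (f : K) (hf : f ≠ 0) (I : FractionalIdeal A⁰ K)
    (hI : FractionalIdeal.spanSingleton A⁰ f = I ^ n) (α : L) (hα : α ^ n = algebraMap K L f)
    (p : Ideal A) [p.IsMaximal] :
    ∃ (t a : A) (β : L) (c : K), t ∉ p ∧ c ≠ 0 ∧ β = algebraMap K L c * α ∧ β ^ n = algebraMap A L a ∧ a ∣ t ^ n ∧
      a ≠ 0 := by
  obtain ⟨d, J, hd, hIJ⟩ := FractionalIdeal.exists_eq_spanSingleton_mul I
  have hdK : algebraMap A K d ≠ 0 := (map_ne_zero_iff _ (IsFractionRing.injective A K)).2 hd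
  have hJn : FractionalIdeal.spanSingleton A⁰ (algebraMap A K d ^ n * f) = ((J ^ n : Ideal A) : FractionalIdeal A⁰ K) := by
    rw [FractionalIdeal.coeIdeal_pow, ← FractionalIdeal.spanSingleton_mul_spanSingleton,
      ← FractionalIdeal.spanSingleton_pow, hI, hIJ, mul_pow, ← mul_assoc, FractionalIdeal.spanSingleton_pow,
      FractionalIdeal.spanSingleton_pow, FractionalIdeal.spanSingleton_mul_spanSingleton, ← mul_pow,
      mul_inv_cancel₀ hdK, one_pow, FractionalIdeal.spanSingleton_one, one_mul]
  obtain ⟨g, hg, hgf⟩ : ∃ g ∈ J ^ n, algebraMap A K g = algebraMap A K d ^ n * f :=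
    (FractionalIdeal.mem_coeIdeal _).1 (hJn ▸ FractionalIdeal.mem_spanSingleton_self _ _)
  have hJg : J ^ n = Ideal.span {g} := by
    refine le_antisymm (fun x hx => ?_) ((Ideal.span_singleton_le_iff_mem _).2 hg)
    have : algebraMap A K x ∈ ((J ^ n : Ideal A) : FractionalIdeal A⁰ K) := (FractionalIdeal.mem_coeIdeal _).2 ⟨x, hx, rfl⟩
    rw [← hJn, FractionalIdeal.mem_spanSingleton] at this
    obtain ⟨c, hc⟩ := this
    exact Ideal.mem_span_singleton'.2 ⟨c, IsFractionRing.injective A K (by rw [map_mul, hgf, ← hc, Algebra.smul_def])⟩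
  have hg0 : g ≠ 0 := fun h => mul_ne_zero (pow_ne_zero n hdK) hf (by rw [← hgf, h, map_zero])
  obtain ⟨j, hj, t, ht, htJ⟩ := exists_local_generator J p
  have hj0 : j ≠ 0 := by
    rintro rfl
    have hJ : J = ⊥ := by
      refine eq_bot_iff.2 fun b hb => ?_
      have := htJ b hb
      rw [Ideal.span_singleton_eq_bot.2 rfl, Ideal.mem_bot, mul_eq_zero] at this
      exact this.resolve_left fun h => ht (h ▸ zero_mem p)
    have hg' := hg
    rw [hJ, ← Ideal.zero_eq_bot, zero_pow hn0, Ideal.zero_eq_bot, Ideal.mem_bot] at hg'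
    exact hg0 hg'
  obtain ⟨c, hc⟩ := Ideal.mem_span_singleton'.1 (hJg ▸ Ideal.pow_mem_pow hj n)
  obtain ⟨e, he⟩ : j ^ n ∣ t ^ n * g := by
    have hle : Ideal.span {t} * J ≤ Ideal.span {j} := Ideal.mul_le.2 fun r hr b hb => by
      obtain ⟨r, rfl⟩ := Ideal.mem_span_singleton'.1 hr
      rw [mul_assoc]; exact Ideal.mul_mem_left _ _ (htJ b hb)
    rw [← Ideal.span_singleton_le_span_singleton, ← Ideal.span_singleton_pow, ← Ideal.span_singleton_mul_span_singleton,
      ← Ideal.span_singleton_pow, ← hJg, ← mul_pow]
    exact Ideal.pow_right_mono hle n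
  have hjK : algebraMap A K j ≠ 0 := (map_ne_zero_iff _ (IsFractionRing.injective A K)).2 hj0
  have hte : c * e = t ^ n := mul_right_cancel₀ (mul_ne_zero hg0 (pow_ne_zero n hj0)) (by
    calc c * e * (g * j ^ n) = (j ^ n * e) * (c * g) := by ring
      _ = t ^ n * g * j ^ n := by rw [he, hc]
      _ = t ^ n * (g * j ^ n) := by ring)
  have htn : t ^ n ≠ 0 := pow_ne_zero n fun h => ht (h ▸ zero_mem p)
  have htK : algebraMap A K t ≠ 0 := (map_ne_zero_iff _ (IsFractionRing.injective A K)).2 fun h => ht (h ▸ zero_mem p)
  refine ⟨t, e, algebraMap K L (algebraMap A K d * algebraMap A K t / algebraMap A K j) * α,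
    algebraMap A K d * algebraMap A K t / algebraMap A K j, ht, div_ne_zero (mul_ne_zero hdK htK) hjK, rfl, ?_,
    Dvd.intro_left c hte, right_ne_zero_of_mul (hte ▸ htn)⟩
  rw [mul_pow, hα, ← map_pow, ← map_mul, IsScalarTower.algebraMap_apply A K L]
  congr 1
  rw [div_pow, mul_pow, div_mul_eq_mul_div, div_eq_iff (pow_ne_zero _ hjK)]
  have := congrArg (algebraMap A K) he
  simp only [map_mul, map_pow, hgf] at this
  linear_combination this

/-- Let A be a Dedekind domain with fraction field K, let n be a natural number invertible in A, let f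
be a nonzero element of K whose principal fractional ideal is the n-th power of a fractional ideal I
(the divisor of f is n times a divisor), and let L = K(α) be a field extension of K generated by a
single element α with α^n = f. Then the integral closure of A in L is finite and étale over A. (The
published statement is for the normalisation of an integral smooth curve over a perfect field in
such an extension of its function field; this row states the same for any Dedekind domain, the case
the local argument covers.) -/
theorem result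
    {A : Type u} {K : Type v} {L : Type w} [CommRing A] [IsDedekindDomain A]
    [Field K] [Algebra A K] [IsFractionRing A K]
    [Field L] [Algebra K L] [Algebra A L] [IsScalarTower A K L]
    (n : ℕ) (hn : IsUnit (n : A)) (f : K) (hf : f ≠ 0)
    (I : FractionalIdeal A⁰ K) (hI : FractionalIdeal.spanSingleton A⁰ f = I ^ n)
    (α : L) (hα : α ^ n = algebraMap K L f) (hgen : IntermediateField.adjoin K {α} = ⊤) :
    Algebra.Etale A (integralClosure A L) ∧ Module.Finite A (integralClosure A L) := by
  classical
  have hn0 : n ≠ 0 := fun h => by rw [h, Nat.cast_zero] at hn; exact not_isUnit_zero hn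
  have hnK : (n : K) ≠ 0 := by rw [← map_natCast (algebraMap A K)]; exact (hn.map _).ne_zero
  have hαi : IsIntegral K α := .of_pow (Nat.pos_of_ne_zero hn0) (hα ▸ isIntegral_algebraMap)
  haveI : FiniteDimensional K L := by
    haveI := IntermediateField.adjoin.finiteDimensional hαi
    exact Module.Finite.equiv ((IntermediateField.equivOfEq hgen).trans IntermediateField.topEquiv).toLinearEquiv
  haveI : Algebra.IsSeparable K L := by
    have hs : IsSeparable K α := Polynomial.Separable.of_dvd (Polynomial.separable_X_pow_sub_C f hnK hf)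
      (minpoly.dvd K α (by simp [hα]))
    haveI := (IntermediateField.isSeparable_adjoin_simple_iff_isSeparable K L).2 hs
    exact AlgEquiv.Algebra.isSeparable ((IntermediateField.equivOfEq hgen).trans IntermediateField.topEquiv)
  let C := integralClosure A L
  haveI : Module.Finite A C := IsIntegralClosure.finite A K L C
  haveI : Module.IsTorsionFree A C := by
    refine Module.isTorsionFree_iff_algebraMap_injective.2 fun a b h => ?_
    have := congrArg (algebraMap C L) h
    rw [← IsScalarTower.algebraMap_apply, ← IsScalarTower.algebraMap_apply, IsScalarTower.algebraMap_apply A K L,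
      IsScalarTower.algebraMap_apply A K L] at this
    exact IsFractionRing.injective A K ((algebraMap K L).injective this)
  haveI : Module.IsTorsionFree A L := Module.isTorsionFree_iff_algebraMap_injective.2 (by
    rw [IsScalarTower.algebraMap_eq A K L]; exact (algebraMap K L).injective.comp (IsFractionRing.injective A K))
  haveI : Algebra.FinitePresentation A C := Algebra.FinitePresentation.of_finiteType.1 inferInstance
  haveI : Algebra.FormallyUnramified A C := by
    rw [Algebra.formallyUnramified_iff]
    let D := KaehlerDifferential.D A C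
    suffices key : ∀ x : C, D x = 0 by
      refine subsingleton_of_forall_eq 0 fun ω => ?_
      have hω : ω ∈ Submodule.span C (Set.range D) := by rw [KaehlerDifferential.span_range_derivation]; trivial
      induction hω using Submodule.span_induction with
      | mem y hy => obtain ⟨x, rfl⟩ := hy; exact key x
      | zero => rfl
      | add y z _ _ hy hz => rw [hy, hz, add_zero]
      | smul c y _ hy => rw [hy, smul_zero]
    intro x
    let ann : Ideal A := LinearMap.ker (LinearMap.toSpanSingleton A _ (D x))
    by_contra hx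
    obtain ⟨p, hp, hle⟩ := Ideal.exists_le_maximal ann fun h => hx (by
      have h1 : (1 : A) ∈ ann := by rw [h]; trivial
      simpa [ann] using h1)
    obtain ⟨t, a, β, c, ht, hc, hβ, hβn, hat, ha0⟩ := exists_local_root n hn0 f hf I hI α hα p
    have hβi : IsIntegral A β := .of_pow (Nat.pos_of_ne_zero hn0) (hβn ▸ isIntegral_algebraMap)
    have hgenβ : IntermediateField.adjoin K {β} = ⊤ := by
      refine top_le_iff.1 (hgen ▸ IntermediateField.adjoin_le_iff.2 (Set.singleton_subset_iff.2 ?_))
      have h1 : β ∈ IntermediateField.adjoin K {β} := IntermediateField.mem_adjoin_simple_self K β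
      have h2 : α = algebraMap K L c⁻¹ * β := by rw [hβ, ← mul_assoc, ← map_mul, inv_mul_cancel₀ hc, map_one, one_mul]
      rw [h2]; exact mul_mem (IntermediateField.algebraMap_mem _ _) h1
    let pb : PowerBasis K L := (IntermediateField.adjoin.powerBasis (Algebra.IsIntegral.isIntegral (R := K) β)).map
      ((IntermediateField.equivOfEq hgenβ).trans IntermediateField.topEquiv)
    have hgenpb : pb.gen = β := by simp [pb]
    have hmem := Algebra.discr_mul_isIntegral_mem_adjoin K (R := A) (B := pb) (hgenpb ▸ hβi) (z := (x : L)) x.2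
    -- the discriminant divides `(n t^n)^d`
    let h := minpoly A β
    have hmon : h.Monic := minpoly.monic hβi
    have hhK : minpoly K β = h.map (algebraMap A K) := minpoly.isIntegrallyClosed_eq_field_fractions' K hβi
    obtain ⟨q, hq⟩ : h ∣ Polynomial.X ^ n - Polynomial.C a := minpoly.isIntegrallyClosed_dvd hβi (by simp [hβn])
    let h' : L := Polynomial.aeval β (Polynomial.derivative h)
    have hint : ∀ P : Polynomial A, IsIntegral A (Polynomial.aeval β P) := fun P => by
      rw [show Polynomial.aeval β P = C.val (Polynomial.aeval (⟨β, hβi⟩ : C) P) from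
        Polynomial.aeval_algHom_apply C.val (⟨β, hβi⟩ : C) P]
      exact (Polynomial.aeval (⟨β, hβi⟩ : C) P).2
    have hder : (n : L) * β ^ (n - 1) = h' * Polynomial.aeval β q := by
      have := congrArg (fun P => Polynomial.aeval β (Polynomial.derivative P)) hq
      simpa [h', h, Polynomial.derivative_X_pow] using this
    obtain ⟨b, hb⟩ := hat
    have hprod : h' * (Polynomial.aeval β q * β * algebraMap A L b) = algebraMap A L ((n : A) * t ^ n) := by
      rw [← mul_assoc, ← mul_assoc, ← hder, mul_assoc (n : L), ← pow_succ,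
        Nat.sub_add_cancel (Nat.one_le_iff_ne_zero.2 hn0), hβn, mul_assoc, ← map_mul, ← hb, map_mul, map_natCast]
    have hw : IsIntegral A (Polynomial.aeval β q * β * algebraMap A L b) :=
      ((hint q).mul hβi).mul isIntegral_algebraMap
    have hdisc : ∃ r : A, algebraMap A K r * Algebra.discr K pb.basis =
        algebraMap A K (((n : A) * t ^ n) ^ Module.finrank K L) := by
      have hnorm : Algebra.norm K h' * Algebra.norm K (Polynomial.aeval β q * β * algebraMap A L b) =
          algebraMap A K ((n : A) * t ^ n) ^ Module.finrank K L := by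
        rw [← map_mul, hprod, IsScalarTower.algebraMap_apply A K L, Algebra.norm_algebraMap]
      obtain ⟨r, hr⟩ := IsIntegrallyClosed.isIntegral_iff.1 (Algebra.isIntegral_norm K hw)
      have hsq : ((-1 : K) ^ (Module.finrank K L * (Module.finrank K L - 1) / 2)) ^ 2 = 1 := by
        rw [← pow_mul, mul_comm, pow_mul, neg_one_sq, one_pow]
      refine ⟨(-1) ^ (Module.finrank K L * (Module.finrank K L - 1) / 2) * r, ?_⟩
      rw [Algebra.discr_powerBasis_eq_norm, hgenpb, hhK, Polynomial.derivative_map, Polynomial.aeval_map_algebraMap,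
        map_pow, ← hnorm, map_mul, map_pow, map_neg, map_one, hr]
      linear_combination (Algebra.norm K h' * Algebra.norm K (Polynomial.aeval β q * β * algebraMap A L b)) * hsq
    obtain ⟨r, hr⟩ := hdisc
    let s : A := ((n : A) * t ^ n) ^ Module.finrank K L
    have hsx : algebraMap A L s * (x : L) ∈ Algebra.adjoin A ({β} : Set L) := by
      rw [hgenpb] at hmem
      have := Subalgebra.smul_mem _ hmem r
      rwa [← algebraMap_smul K r, smul_smul, hr, Algebra.smul_def, ← IsScalarTower.algebraMap_apply] at this
    rw [Algebra.adjoin_singleton_eq_range_aeval] at hsx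
    obtain ⟨g, hg⟩ := hsx
    let βC : C := ⟨β, hβi⟩
    have hgC : Polynomial.aeval βC g = s • x := by
      apply Subtype.ext
      rw [Subalgebra.coe_smul, Algebra.smul_def, ← hg]
      exact (Polynomial.aeval_algHom_apply C.val βC g).symm
    have hDn : ((n : A) * a) • D βC = 0 := by
      have h1 : βC ^ n = algebraMap A C a := Subtype.ext hβn
      have h2 : D (βC ^ n) = 0 := by rw [h1, Derivation.map_algebraMap]
      rw [Derivation.leibniz_pow] at h2
      have h3 := congrArg (βC • ·) h2
      simp only [smul_zero] at h3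
      rw [← Nat.cast_smul_eq_nsmul C n, smul_smul, smul_smul, mul_comm βC (n : C), mul_assoc, ← pow_succ',
        Nat.sub_add_cancel (Nat.one_le_iff_ne_zero.2 hn0), h1] at h3
      rw [← algebraMap_smul C, map_mul, map_natCast]
      exact h3
    have hsD : (((n : A) * a) * s) ∈ ann := by
      show LinearMap.toSpanSingleton A _ (D x) _ = 0
      rw [LinearMap.toSpanSingleton_apply, mul_smul, ← Derivation.map_smul_of_tower (R := A), ← hgC,
        Derivation.map_aeval, smul_comm, hDn, smul_zero]
    rcases hp.isPrime.mem_or_mem (hle hsD) with h1 | h1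
    · rcases hp.isPrime.mem_or_mem h1 with h2 | h2
      · exact hp.ne_top (Ideal.eq_top_of_isUnit_mem _ h2 hn)
      · exact ht (hp.isPrime.mem_of_pow_mem n (hb ▸ p.mul_mem_right b h2))
    · exact (hp.isPrime.mem_or_mem (hp.isPrime.mem_of_pow_mem _ h1)).elim
        (fun h2 => hp.ne_top (Ideal.eq_top_of_isUnit_mem _ h2 hn)) (fun h2 => ht (hp.isPrime.mem_of_pow_mem n h2))
  exact ⟨Algebra.Etale.of_formallyUnramified_of_flat, inferInstance⟩

end Groth.Agent.S14177
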