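import Groth.Statements.S14178
import Mathlib.RingTheory.DedekindDomain.Factorization
import Mathlib.FieldTheory.KummerExtension
-- import your own Groth.Agent.* helpers here

set_option autoImplicit false
universe u v w
open scoped nonZeroDivisors
open EtAlg

namespace Groth.Agent.S14178

open Polynomial in
theorem eq_of_pow_eq {A : Type*} {K : Type*} [CommRing A] [IsDedekindDomain A] [Field K]
    [Algebra A K] [IsFractionRing A K] {J J' : FractionalIdeal A⁰ K} (hJ : J ≠ 0) (hJ' : J' ≠ 0)
    {k : ℕ} (hk : 0 < k) (h : J ^ k = J' ^ k) : J = J' := by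
  rw [← FractionalIdeal.finprod_heightOneSpectrum_factorization' (K := K) hJ,
    ← FractionalIdeal.finprod_heightOneSpectrum_factorization' (K := K) hJ']
  refine finprod_congr fun v => ?_
  congr 1
  have h1 := congrArg (FractionalIdeal.count K v) h
  rw [FractionalIdeal.count_pow, FractionalIdeal.count_pow] at h1
  exact mul_left_cancel₀ (by exact_mod_cast hk.ne') h1

open Polynomial in
theorem coeff_zero_of_dvd {K L : Type*} [Field K] [Field L] [Algebra K L] {n : ℕ} (hn : 0 < n)
    {ζ : K} (hζ : IsPrimitiveRoot ζ n) {f : K} {α : L} (hα : α ^ n = algebraMap K L f)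
    {p : K[X]} (hp : p.Monic) (hdvd : p ∣ X ^ n - C f) :
    ∃ g : K, α ^ p.natDegree = algebraMap K L g := by
  have hζ' := hζ.map_of_injective (algebraMap K L).injective
  have hsplit := X_pow_sub_C_splits_of_isPrimitiveRoot hζ' hα
  have hne : (X ^ n - C (algebraMap K L f)) ≠ 0 := X_pow_sub_C_ne_zero hn _
  have hdvd' : p.map (algebraMap K L) ∣ X ^ n - C (algebraMap K L f) := by
    have := Polynomial.map_dvd (algebraMap K L) hdvd
    simpa using this
  have hs := hsplit.of_dvd hne hdvd'
  have key : ∀ m : Multiset L, (∀ r ∈ m, ∃ s : K, s ≠ 0 ∧ r = algebraMap K L s * α) →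
      ∃ s : K, s ≠ 0 ∧ m.prod = algebraMap K L s * α ^ Multiset.card m := by
    intro m hm
    induction m using Multiset.induction with
    | empty => exact ⟨1, one_ne_zero, by simp⟩
    | cons r m ih =>
      obtain ⟨s, hs0, hs⟩ := ih fun x hx => hm x (Multiset.mem_cons_of_mem hx)
      obtain ⟨t, ht0, rfl⟩ := hm r (Multiset.mem_cons_self r m)
      exact ⟨t * s, mul_ne_zero ht0 hs0,
        by rw [Multiset.prod_cons, hs, Multiset.card_cons, map_mul, pow_succ]; ring⟩
  have hroots : ∀ r ∈ (p.map (algebraMap K L)).roots, ∃ s : K, s ≠ 0 ∧ r = algebraMap K L s * α := by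
    intro r hr
    have hr' : r ∈ nthRoots n (algebraMap K L f) :=
      Multiset.mem_of_le (roots.le_of_dvd hne hdvd') hr
    rw [hζ'.nthRoots_eq hα, Multiset.mem_map] at hr'
    obtain ⟨i, -, rfl⟩ := hr'
    exact ⟨ζ ^ i, pow_ne_zero _ (hζ.ne_zero hn.ne'), by rw [map_pow]⟩
  obtain ⟨s, hs0, hs'⟩ := key _ hroots
  have hc := hs.coeff_zero_eq_prod_roots_of_monic (hp.map _)
  rw [hs', coeff_map, ← hs.natDegree_eq_card_roots, natDegree_map] at hc
  refine ⟨p.coeff 0 / ((-1) ^ p.natDegree * s), ?_⟩
  have h1 : algebraMap K L ((-1) ^ p.natDegree * s) ≠ 0 := by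
    rw [Ne, map_eq_zero]
    exact mul_ne_zero (pow_ne_zero _ (neg_ne_zero.2 one_ne_zero)) hs0
  rw [map_div₀, eq_div_iff h1, hc, map_mul, map_pow, map_neg, map_one]
  ring

open Polynomial in
theorem irreducible_of_class_order {A : Type u} {K : Type v} {L : Type w} [CommRing A]
    [IsDedekindDomain A] [Field K] [Algebra A K] [IsFractionRing A K] [Field L] [Algebra K L]
    {n : ℕ} (hn : 0 < n) {ζ : K} (hζ : IsPrimitiveRoot ζ n) {f : K} (hf : f ≠ 0)
    (I : (FractionalIdeal A⁰ K)ˣ)
    (hI : FractionalIdeal.spanSingleton A⁰ f = (I : FractionalIdeal A⁰ K) ^ n)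
    (hord : orderOf (ClassGroup.mk K I) = n) {α : L} (hα : α ^ n = algebraMap K L f) :
    Irreducible (X ^ n - C f) := by
  classical
  have hint : IsIntegral K α := ⟨X ^ n - C f, monic_X_pow_sub_C _ hn.ne', by simp [hα]⟩
  have hdvd : minpoly K α ∣ X ^ n - C f := minpoly.dvd K α (by simp [hα])
  have hm0 : 0 < (minpoly K α).natDegree := minpoly.natDegree_pos hint
  have hex : ∃ d, 0 < d ∧ ∃ g : K, α ^ d = algebraMap K L g :=
    ⟨_, hm0, coeff_zero_of_dvd hn hζ hα (minpoly.monic hint) hdvd⟩
  set d := Nat.find hex with hd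
  obtain ⟨hd0, g, hg⟩ := Nat.find_spec hex
  rw [← hd] at hd0 hg
  have hα0 : α ≠ 0 := fun h0 => hf ((map_eq_zero (algebraMap K L)).1 (by
    rw [← hα, h0, zero_pow hn.ne']))
  have hg0 : g ≠ 0 := fun h0 => pow_ne_zero d hα0 (by rw [hg, h0, map_zero])
  have hmod : n % d = 0 := by
    by_contra hne
    refine Nat.find_min hex (Nat.mod_lt n hd0) ⟨Nat.pos_of_ne_zero hne, f / g ^ (n / d), ?_⟩
    rw [map_div₀, map_pow, ← hα, ← hg, eq_div_iff (pow_ne_zero _ (pow_ne_zero _ hα0)), ← pow_mul,
      ← pow_add, Nat.mod_add_div]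
  have hk : 0 < n / d := Nat.div_pos (Nat.le_of_dvd hn (Nat.dvd_of_mod_eq_zero hmod)) hd0
  have hfg : g ^ (n / d) = f := by
    apply (algebraMap K L).injective
    rw [map_pow, ← hg, ← pow_mul, Nat.mul_div_cancel' (Nat.dvd_of_mod_eq_zero hmod), hα]
  have hIg : FractionalIdeal.spanSingleton A⁰ g = (I : FractionalIdeal A⁰ K) ^ d := by
    refine eq_of_pow_eq (FractionalIdeal.spanSingleton_ne_zero_iff.2 hg0) (pow_ne_zero _ I.ne_zero) hk ?_
    rw [← pow_mul, Nat.mul_div_cancel' (Nat.dvd_of_mod_eq_zero hmod), ← hI,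
      FractionalIdeal.spanSingleton_pow, hfg]
  have hnd : n ∣ d := by
    rw [← hord, orderOf_dvd_iff_pow_eq_one, ← map_pow, ClassGroup.mk_eq_one_iff]
    refine ⟨⟨g, ?_⟩⟩
    rw [Units.val_pow_eq_pow_val, ← hIg, FractionalIdeal.coe_spanSingleton]
  have hdm : d ≤ (minpoly K α).natDegree :=
    Nat.find_min' hex ⟨hm0, coeff_zero_of_dvd hn hζ hα (minpoly.monic hint) hdvd⟩
  have : minpoly K α = X ^ n - C f :=
    (eq_of_monic_of_dvd_of_natDegree_le (minpoly.monic hint) (monic_X_pow_sub_C _ hn.ne') hdvd
      (by rw [natDegree_X_pow_sub_C]; exact (Nat.le_of_dvd hd0 hnd).trans hdm)).symm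
  exact this ▸ minpoly.irreducible hint

/-- Let A be a Dedekind domain with fraction field K, let n be a natural number invertible in A such
that K contains a primitive n-th root of unity, let f be a nonzero element of K and I an invertible
fractional ideal of A with (f) = I^n whose class in the ideal class group of A has order exactly n
(the divisor of f is n times a divisor whose class has order n), and let L = K(α) be a field
extension of K generated by a single element α with α^n = f. Then L is Galois over K of degree n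
with cyclic Galois group. (The published statement is for an integral smooth curve over a perfect
field containing a primitive n-th root of unity, with the Picard group of the curve in place of the
class group; this row states it for any Dedekind domain.) -/
theorem result
    {A : Type u} {K : Type v} {L : Type w} [CommRing A] [IsDedekindDomain A]
    [Field K] [Algebra A K] [IsFractionRing A K]
    [Field L] [Algebra K L]
    (n : ℕ) (hn : IsUnit (n : A)) (ζ : K) (hζ : IsPrimitiveRoot ζ n) (f : K) (hf : f ≠ 0)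
    (I : (FractionalIdeal A⁰ K)ˣ) (hI : FractionalIdeal.spanSingleton A⁰ f = (I : FractionalIdeal A⁰ K) ^ n)
    (hord : orderOf (ClassGroup.mk K I) = n)
    (α : L) (hα : α ^ n = algebraMap K L f) (hgen : IntermediateField.adjoin K {α} = ⊤) :
    IsGalois K L ∧ IsCyclic (L ≃ₐ[K] L) ∧ Module.finrank K L = n := by
  have hn0 : n ≠ 0 := by
    rintro rfl
    rw [Nat.cast_zero] at hn
    exact not_isUnit_zero hn
  have hn' : 0 < n := Nat.pos_of_ne_zero hn0
  have hne : (primitiveRoots n K).Nonempty := ⟨ζ, (mem_primitiveRoots hn').2 hζ⟩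
  have H := irreducible_of_class_order hn' hζ hf I hI hord hα
  have hint : IsIntegral K α :=
    ⟨Polynomial.X ^ n - Polynomial.C f, Polynomial.monic_X_pow_sub_C _ hn0, by simp [hα]⟩
  haveI : Polynomial.IsSplittingField K L (Polynomial.X ^ n - Polynomial.C f) := by
    constructor
    · rw [Polynomial.map_sub, Polynomial.map_pow, Polynomial.map_C, Polynomial.map_X]
      exact X_pow_sub_C_splits_of_isPrimitiveRoot (hζ.map_of_injective (algebraMap K L).injective) hα
    · rw [eq_top_iff, ← IntermediateField.top_toSubalgebra, ← hgen,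
        IntermediateField.adjoin_simple_toSubalgebra_of_isAlgebraic hint.isAlgebraic]
      apply Algebra.adjoin_mono
      rw [Set.singleton_subset_iff, Polynomial.mem_rootSet_of_ne (Polynomial.X_pow_sub_C_ne_zero hn' f)]
      simp [hα]
  haveI : NeZero n := ⟨hn0⟩
  exact ⟨isGalois_of_isSplittingField_X_pow_sub_C hne H L,
    isCyclic_of_isSplittingField_X_pow_sub_C hne H L, finrank_of_isSplittingField_X_pow_sub_C hne H L⟩

end Groth.Agent.S14178
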