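import Groth.Agent.Lib.NormH2_28.Basic
import Groth.Agent.Lib.GrpSch.NormAct
import Groth.Statements.S14179
-- import your own Groth.Agent.* helpers here

set_option autoImplicit false
universe u
open CategoryTheory CategoryTheory.Limits AlgebraicGeometry
open EtCore

namespace Groth.Agent.S14179

/-- Let k be an algebraically closed field, X an integral curve over k (separated and of finite type
over k, of dimension one) and ν : X^ν ⟶ X its normalization, and let n ≥ 1 be invertible in k. Then
pulling back along ν induces a bijection from H²(X, μ_n) onto H²(X^ν, ν⁻¹μ_n) (étale cohomology;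
ν⁻¹μ_n is the sheaf of n-th roots of unity of X^ν). (The published statement allows any curve over
k; this row takes X integral. Exactness of pullback of abelian sheaves and the quasi-compactness and
quasi-separatedness of Spec K(X) ⟶ X always hold; the binders are only needed to form the map and
the normalization.) -/
theorem result
    (k : Type u) [Field k] [IsAlgClosed k] (X : Scheme.{u}) (f : X ⟶ Spec (CommRingCat.of k))
    [IsSeparated f] [LocallyOfFiniteType f] [QuasiCompact f] [IsIntegral X]
    (hdim : topologicalKrullDim X = 1)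
    [QuasiCompact (X.fromSpecStalk (genericPoint X))] [QuasiSeparated (X.fromSpecStalk (genericPoint X))]
    [PreservesFiniteLimits (EtCoh.pull (Curv2.normalizationι X))]
    (n : ℕ) (hn : 1 ≤ n) (hnk : (n : k) ≠ 0) :
    Function.Bijective (EtCore.Hpull (Curv2.normalizationι X) (EtCoh.mu X n) 2) := by
  haveI : IsIntegral (Over.mk f).left := ‹IsIntegral X›
  haveI : LocallyOfFiniteType (Over.mk f).hom := ‹LocallyOfFiniteType f›
  haveI : QuasiCompact ((Over.mk f).left.fromSpecStalk (genericPoint ↥(Over.mk f).left)) := ‹QuasiCompact (X.fromSpecStalk (genericPoint X))›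
  haveI : QuasiSeparated ((Over.mk f).left.fromSpecStalk (genericPoint ↥(Over.mk f).left)) := ‹QuasiSeparated (X.fromSpecStalk (genericPoint X))›
  obtain ⟨(U : X.Opens), hne, hiso⟩ := Groth.Agent.Lib.GrpSch.NormAct.exists_isIso_restrict (Over.mk f)
  let ν := Curv2.normalizationι X
  haveI : IsIntegralHom ν :=
    inferInstanceAs (IsIntegralHom (X.fromSpecStalk (genericPoint X)).fromNormalization)
  haveI : IsIso (ν ∣_ U) := hiso
  haveI : IsOpenImmersion ((ν ⁻¹ᵁ U).ι ≫ ν) := by
    rw [← morphismRestrict_ι]
    infer_instance
  refine Groth.Agent.Lib.NormH2_28.Basic.bijective_Hpull ν (ν ⁻¹ᵁ U) f hdim.le (fun η hη => ?_) (EtCoh.mu X n)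
  have hU : η ∈ U := by
    rw [irreducibleComponents_eq_singleton, Set.mem_singleton_iff] at hη
    have hs : IsGenericPoint η Set.univ := hη
    exact (hs.mem_open_set_iff U.isOpen).2 (by simpa using hne)
  refine ⟨?_, fun z hz => show ν.base z ∈ U from hz ▸ hU⟩
  rw [← morphismRestrict_ι, Scheme.Hom.comp_base, TopCat.coe_comp, Set.range_comp]
  refine ⟨⟨η, hU⟩, ?_, rfl⟩
  exact (ν ∣_ U).homeomorph.surjective _

end Groth.Agent.S14179
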