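import Groth.Statements.S7657
import Groth.Agent.Lib.Normalization.Basic
import Groth.Agent.Lib.Normalization.Branches
import Mathlib.FieldTheory.SeparableDegree

set_option autoImplicit false
set_option linter.style.haveILetI false
universe u
open CategoryTheory CategoryTheory.Limits AlgebraicGeometry
open Variety

namespace Groth.Agent.S7657

open Groth.Agent.Lib.Normalization.Eval Groth.Agent.Lib.Normalization.Basic
open Groth.Agent.Lib.Normalization.Branches

/-- Two fields generated by the image of a ring with the same kernel are isomorphic over it. -/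
theorem exists_fieldEquiv {R F₁ F₂ : Type u} [CommRing R] [Field F₁] [Field F₂] (f₁ : R →+* F₁)
    (f₂ : R →+* F₂) (hk : RingHom.ker f₁ = RingHom.ker f₂)
    (h₁ : ∀ c, ∃ a b, f₁ b ≠ 0 ∧ c * f₁ b = f₁ a) (h₂ : ∀ c, ∃ a b, f₂ b ≠ 0 ∧ c * f₂ b = f₂ a) :
    ∃ φ : F₁ ≃+* F₂, ∀ r, φ (f₁ r) = f₂ r := by
  letI a₁ : Algebra (R ⧸ RingHom.ker f₁) F₁ := (RingHom.kerLift f₁).toAlgebra
  letI a₂ : Algebra (R ⧸ RingHom.ker f₁) F₂ :=
    (Ideal.Quotient.lift (RingHom.ker f₁) f₂ fun a ha => hk.le ha).toAlgebra
  have : (RingHom.ker f₁).IsPrime := RingHom.ker_isPrime f₁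
  haveI : FaithfulSMul (R ⧸ RingHom.ker f₁) F₁ :=
    (faithfulSMul_iff_algebraMap_injective _ _).2 (RingHom.kerLift_injective f₁)
  haveI : FaithfulSMul (R ⧸ RingHom.ker f₁) F₂ :=
    (faithfulSMul_iff_algebraMap_injective _ _).2
      (RingHom.lift_injective_of_ker_le_ideal _ _ hk.ge)
  haveI : IsFractionRing (R ⧸ RingHom.ker f₁) F₁ := IsFractionRing.of_field _ _ fun c => by
    obtain ⟨a, b, hb, h⟩ := h₁ c
    exact ⟨Ideal.Quotient.mk _ a, Ideal.Quotient.mk _ b, (eq_div_iff hb).2 h⟩
  haveI : IsFractionRing (R ⧸ RingHom.ker f₁) F₂ := IsFractionRing.of_field _ _ fun c => by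
    obtain ⟨a, b, hb, h⟩ := h₂ c
    exact ⟨Ideal.Quotient.mk _ a, Ideal.Quotient.mk _ b, (eq_div_iff hb).2 h⟩
  refine ⟨(IsLocalization.algEquiv (nonZeroDivisors (R ⧸ RingHom.ker f₁)) F₁ F₂).toRingEquiv,
    fun r => ?_⟩
  exact (IsLocalization.algEquiv (nonZeroDivisors (R ⧸ RingHom.ker f₁)) F₁ F₂).commutes
    (Ideal.Quotient.mk _ r)

/-- The embeddings counted by the prelude are the embeddings of residue fields. -/
theorem card_emb {O F E T : Type u} [CommRing O] [Field F] [Field E] [Field T] [Algebra F E]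
    [Algebra.IsAlgebraic F E] [Algebra F T] [IsAlgClosed T] (res : O →+* F)
    (hres : Function.Surjective res) {D : Type u} [CommRing D] (toRes : O →+* D) (φ : D ≃+* E)
    (hφ : φ.toRingHom.comp toRes = (algebraMap F E).comp res) :
    ENat.card {σ : D →+* T // σ.comp toRes = (algebraMap F T).comp res} =
      ENat.card (Field.Emb F E) := by
  refine ENat.card_congr (Equiv.trans ?_ (Field.embEquivOfIsAlgClosed F E T).symm)
  exact
    { toFun := fun σ => AlgHom.mk (σ.1.comp φ.symm.toRingHom) fun c => by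
        obtain ⟨o, rfl⟩ := hres c
        show σ.1 (φ.symm ((algebraMap F E).comp res o)) = (algebraMap F T).comp res o
        rw [← hφ]
        show σ.1 (φ.symm (φ (toRes o))) = _
        rw [φ.symm_apply_apply]
        exact DFunLike.congr_fun σ.2 o
      invFun := fun τ => ⟨τ.toRingHom.comp φ.toRingHom, by
        rw [RingHom.comp_assoc, hφ, ← RingHom.comp_assoc]
        exact RingHom.ext fun o => τ.commutes (res o)⟩
      left_inv := fun σ => Subtype.ext (RingHom.ext fun d => by
        show σ.1 (φ.symm (φ d)) = σ.1 d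
        rw [φ.symm_apply_apply])
      right_inv := fun τ => AlgHom.ext fun d => by
        show τ (φ (φ.symm d)) = τ d
        rw [φ.apply_symm_apply] }

set_option maxHeartbeats 1600000 in
theorem main (X : Scheme.{u}) [IsIntegral X]
    [QuasiCompact (X.fromSpecStalk (genericPoint X))] [QuasiSeparated (X.fromSpecStalk (genericPoint X))]
    (x : X) {U : X.Opens} (hU : IsAffineOpen U) (hxU : x ∈ U) [Nonempty U] :
    ∃ Φ : MaximalSpectrum (CAlg2.normRed (X.presheaf.stalk x)) ≃
        {x' : ↥(Curv2.normalization X) // (Curv2.normalizationι X).base x' = x},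
      ∀ m, ∃ φ : (CAlg2.normRed (X.presheaf.stalk x) ⧸ m.asIdeal) ≃+*
          (Curv2.normalization X).residueField (Φ m).1,
        ∀ o, φ (Brnch.toResidue _ m o) =
          (Curv2.normalizationι X).residueFieldMap (Φ m).1
            ((X.residueFieldCongr (Φ m).2).inv (X.residue x o)) := by
  set ν := Curv2.normalizationι X with hν
  have hV : IsAffineOpen (ν ⁻¹ᵁ U) := isAffineOpen_preimage X hU
  set p := (hU.primeIdealOf ⟨x, hxU⟩).asIdeal with hp
  set O := X.presheaf.stalk x
  letI aAO : Algebra Γ(X, U) O :=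
    TopCat.Presheaf.algebra_section_stalk X.presheaf (⟨x, hxU⟩ : U)
  haveI hloc : IsLocalization.AtPrime O p := hU.isLocalization_stalk ⟨x, hxU⟩
  -- the reduction of the stalk
  have hnil : nilradical O = ⊥ := nilradical_eq_bot_iff.2 inferInstance
  let π : O ≃+* CAlg2.red O := RingEquiv.ofBijective (Ideal.Quotient.mk (nilradical O))
    ⟨(RingHom.injective_iff_ker_eq_bot _).2 (by rw [Ideal.mk_ker, hnil]),
      Ideal.Quotient.mk_surjective⟩
  haveI : IsDomain (CAlg2.red O) := π.symm.injective.isDomain π.symm.toRingHom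
  haveI : IsLocalRing (CAlg2.red O) :=
    IsLocalRing.of_surjective' (Ideal.Quotient.mk (nilradical O)) Ideal.Quotient.mk_surjective
  haveI hlocR : IsLocalization.AtPrime (CAlg2.red O) p :=
    IsLocalization.isLocalization_of_algEquiv p.primeCompl
      (AlgEquiv.ofRingEquiv (f := π) fun a => rfl)
  set L := FractionRing (CAlg2.red O)
  haveI : FaithfulSMul Γ(X, U) L := by
    rw [faithfulSMul_iff_algebraMap_injective, IsScalarTower.algebraMap_eq Γ(X, U) (CAlg2.red O) L]
    exact (IsFractionRing.injective (CAlg2.red O) L).comp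
      (IsLocalization.injective (CAlg2.red O) p.primeCompl_le_nonZeroDivisors)
  haveI : IsFractionRing Γ(X, U) L := IsFractionRing.of_field _ _ fun z => by
    obtain ⟨r₁, r₂, -, rfl⟩ := IsFractionRing.div_surjective (A := CAlg2.red O) z
    obtain ⟨⟨a, s⟩, ha⟩ := IsLocalization.surj p.primeCompl r₁
    obtain ⟨⟨b, t⟩, hb⟩ := IsLocalization.surj p.primeCompl r₂
    refine ⟨a * t, b * s, ?_⟩
    simp only [map_mul, IsScalarTower.algebraMap_apply Γ(X, U) (CAlg2.red O) L, ← ha, ← hb]
    have hs : ∀ u : p.primeCompl, algebraMap (CAlg2.red O) L (algebraMap Γ(X, U) _ u) ≠ 0 := fun u =>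
      ((IsLocalization.map_units (CAlg2.red O) u).map _).ne_zero
    have := hs s
    have := hs t
    rw [mul_right_comm (algebraMap (CAlg2.red O) L r₁), mul_div_mul_right _ _ (hs s),
      mul_div_mul_right _ _ (hs t)]
  haveI := functionField_isFractionRing_of_isAffineOpen X U hU
  let eK : X.functionField ≃ₐ[Γ(X, U)] L :=
    IsLocalization.algEquiv (nonZeroDivisors Γ(X, U)) X.functionField L
  let ε : Γ(Curv2.normalization X, ν ⁻¹ᵁ U) ≃+* integralClosure Γ(X, U) L :=
    (sectionsEquiv X hU).trans (AlgEquiv.mapIntegralClosure eK).toRingEquiv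
  have hε : ∀ a, ε (ν.app U a) = algebraMap _ _ a := fun a => by
    show (AlgEquiv.mapIntegralClosure eK) (sectionsEquiv X hU (ν.app U a)) = _
    rw [sectionsEquiv_app, AlgEquiv.commutes]
  have hεε : ∀ Q : Ideal (integralClosure Γ(X, U) L),
      (Q.comap ε.toRingHom).comap ε.symm.toRingHom = Q := fun Q =>
    Ideal.ext fun z => by
      show ε (ε.symm z) ∈ Q ↔ _
      rw [ε.apply_symm_apply]
  -- maximal ideals upstairs give points
  have hfib : ∀ (y : ↥(Curv2.normalization X)) (hy : y ∈ ν ⁻¹ᵁ U),
      ν y = x ↔ ((hV.primeIdealOf ⟨y, hy⟩).asIdeal.comap ε.symm.toRingHom).comap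
        (algebraMap Γ(X, U) (integralClosure Γ(X, U) L)) = p := by
    intro y hy
    have h1 : ((hV.primeIdealOf ⟨y, hy⟩).asIdeal.comap ε.symm.toRingHom).comap
        (algebraMap Γ(X, U) (integralClosure Γ(X, U) L)) = (hU.primeIdealOf ⟨ν y, hy⟩).asIdeal := by
      ext a
      have ha : ε.symm (algebraMap _ _ a) = ν.app U a :=
        ε.injective (by rw [ε.apply_symm_apply, hε])
      rw [Ideal.mem_comap, Ideal.mem_comap]
      show ε.symm (algebraMap _ _ a) ∈ _ ↔ _
      rw [ha, mem_primeIdealOf_iff]
      refine Iff.trans ?_ (mem_primeIdealOf_iff hU hy a).symm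
      exact (congrArg (· = 0) (Scheme.evaluation_naturality_apply ν y hy a).symm).to_iff.trans
        (map_eq_zero _)
    rw [h1]
    refine ⟨fun h => ?_, fun h => ?_⟩
    · subst h; rfl
    · have h2 := congrArg hU.fromSpec (PrimeSpectrum.ext h :
        hU.primeIdealOf ⟨ν y, hy⟩ = hU.primeIdealOf ⟨x, hxU⟩)
      rwa [hU.fromSpec_primeIdealOf, hU.fromSpec_primeIdealOf] at h2
  let pt : MaximalSpectrum (CAlg2.normRed O) → ↥(Curv2.normalization X) := fun m =>
    hV.fromSpec ⟨(m.asIdeal.comap (incl (A := Γ(X, U)))).comap ε.toRingHom, inferInstance⟩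
  have hptV : ∀ m, pt m ∈ ν ⁻¹ᵁ U := fun m => hV.range_fromSpec.le (Set.mem_range_self _)
  have hptP : ∀ m, (hV.primeIdealOf ⟨pt m, hptV m⟩).asIdeal =
      (m.asIdeal.comap (incl (A := Γ(X, U)))).comap ε.toRingHom := fun m => by
    have h := hV.fromSpec.isOpenEmbedding.injective (hV.fromSpec_primeIdealOf ⟨pt m, hptV m⟩)
    rw [h]
  have hptx : ∀ m, ν.base (pt m) = x := fun m => by
    refine (hfib _ (hptV m)).2 ?_
    rw [hptP, hεε]
    exact comap_incl p m.asIdeal
  have hbij : Function.Bijective fun m =>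
      (⟨pt m, hptx m⟩ : {x' : ↥(Curv2.normalization X) // ν.base x' = x}) := by
    refine ⟨fun m m' h => ?_, fun y => ?_⟩
    · simp only [Subtype.mk.injEq] at h
      have h1 : pt m = pt m' := h
      have h3 : (m.asIdeal.comap (incl (A := Γ(X, U)))).comap ε.toRingHom =
          (m'.asIdeal.comap (incl (A := Γ(X, U)))).comap ε.toRingHom := by
        rw [← hptP, ← hptP]
        congr 2
        exact Subtype.ext h1
      have h4 : m.asIdeal.comap (incl (A := Γ(X, U))) = m'.asIdeal.comap incl := by
        have := congrArg (Ideal.comap ε.symm.toRingHom) h3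
        rwa [hεε, hεε] at this
      exact MaximalSpectrum.ext (comap_incl_injective p h4)
    · obtain ⟨y, hy⟩ := y
      have hyV : y ∈ ν ⁻¹ᵁ U := by
        show ν y ∈ U
        rw [show ν y = x from hy]; exact hxU
      obtain ⟨m, hm, hmQ⟩ := exists_maximal_comap_eq (R := CAlg2.red O) (L := L) p
        ((hV.primeIdealOf ⟨y, hyV⟩).asIdeal.comap ε.symm.toRingHom) ((hfib y hyV).1 hy)
      refine ⟨⟨m, hm⟩, Subtype.ext ?_⟩
      refine (congrArg hV.fromSpec (PrimeSpectrum.ext ?_)).trans (hV.fromSpec_primeIdealOf ⟨y, hyV⟩)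
      show (m.comap incl).comap ε.toRingHom = _
      rw [hmQ, Ideal.comap_comap, ε.symm_toRingHom_comp_toRingHom, Ideal.comap_id]
  refine ⟨Equiv.ofBijective _ hbij, fun m => ?_⟩
  -- the residue fields
  change ∃ φ : (CAlg2.normRed O ⧸ m.asIdeal) ≃+* (Curv2.normalization X).residueField (pt m),
    ∀ o, φ (Brnch.toResidue _ m o) =
      ν.residueFieldMap (pt m) ((X.residueFieldCongr (hptx m)).inv (X.residue x o))
  haveI := m.isMaximal
  letI : Field (CAlg2.normRed O ⧸ m.asIdeal) := Ideal.Quotient.field m.asIdeal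
  let f₁ : Γ(Curv2.normalization X, ν ⁻¹ᵁ U) →+* CAlg2.normRed O ⧸ m.asIdeal :=
    (Ideal.Quotient.mk m.asIdeal).comp ((incl (A := Γ(X, U))).comp ε.toRingHom)
  let f₂ : Γ(Curv2.normalization X, ν ⁻¹ᵁ U) →+* (Curv2.normalization X).residueField (pt m) :=
    ((Curv2.normalization X).evaluation (ν ⁻¹ᵁ U) (pt m) (hptV m)).hom
  have hk : RingHom.ker f₁ = RingHom.ker f₂ := by
    rw [show RingHom.ker f₂ = _ from ker_evaluation hV (hptV m), hptP, ← RingHom.comap_ker,
      Ideal.mk_ker, Ideal.comap_comap]
  obtain ⟨φ, hφ⟩ := exists_fieldEquiv f₁ f₂ hk (fun c => by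
      obtain ⟨b, rfl⟩ := Ideal.Quotient.mk_surjective c
      obtain ⟨s, z, hs, hz⟩ := exists_smul_mem (R := CAlg2.red O) (L := L) p b
      have e1 : f₁ (ν.app U s) =
          Ideal.Quotient.mk m.asIdeal (algebraMap _ _ (algebraMap Γ(X, U) (CAlg2.red O) s)) := by
        show Ideal.Quotient.mk m.asIdeal (incl (ε (ν.app U s))) = _
        rw [hε, incl_algebraMap]
      refine ⟨ε.symm z, ν.app U s, ?_, ?_⟩
      · rw [e1, Ne, Ideal.Quotient.eq_zero_iff_mem]
        exact notMem_of_notMem p m.asIdeal hs
      · rw [e1, ← map_mul, mul_comm, hz]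
        show _ = Ideal.Quotient.mk m.asIdeal (incl (ε (ε.symm z)))
        rw [ε.apply_symm_apply])
    (exists_evaluation_mul_eq hV (hptV m))
  refine ⟨φ, ?_⟩
  have heq : φ.toRingHom.comp (Brnch.toResidue _ m) =
      ((ν.residueFieldMap (pt m)).hom.comp (X.residueFieldCongr (hptx m)).inv.hom).comp
        (X.residue x).hom := by
    refine IsLocalization.ringHom_ext p.primeCompl ?_
    ext a
    have e1 : Brnch.toResidue _ m (algebraMap Γ(X, U) O a) = f₁ (ν.app U a) := by
      show Ideal.Quotient.mk m.asIdeal _ = Ideal.Quotient.mk m.asIdeal (incl (ε (ν.app U a)))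
      rw [hε, incl_algebraMap]
      rfl
    show φ (Brnch.toResidue _ m (algebraMap Γ(X, U) O a)) =
      ν.residueFieldMap (pt m) ((X.residueFieldCongr (hptx m)).inv
        (X.residue x (algebraMap Γ(X, U) O a)))
    rw [e1, hφ]
    show (Curv2.normalization X).evaluation (ν ⁻¹ᵁ U) (pt m) (hptV m) (ν.app U a) = _
    exact (Scheme.evaluation_naturality_apply ν (pt m) (hptV m) a).symm.trans
      (congrArg _ (evaluation_congr (hptx m) hxU a))
  exact fun o => DFunLike.congr_fun heq o
where
  evaluation_congr {X : Scheme.{u}} {U : X.Opens} {y x : X} (h : y = x) (hx : x ∈ U) (a : Γ(X, U)) :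
      X.evaluation U y (h ▸ hx) a =
        (X.residueFieldCongr h).inv (X.residue x (X.presheaf.germ U x hx a)) := by
    subst h
    simp
    rfl

/-- For an integral scheme X with normalization ν : X^ν → X and a point x: (1) X has as many branches at
x as there are points of X^ν lying over x; (2) counted geometrically, the branches of X at x number
Σ_{ν(x') = x} [κ(x') : κ(x)]_s, the separable degree being counted as the number of κ(x)-embeddings
of κ(x') into an algebraic closure. (The published statement allows any scheme each of whose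
quasi-compact opens meets only finitely many irreducible components; this row takes X integral.) -/
theorem result (X : Scheme.{u}) [IsIntegral X]
    [QuasiCompact (X.fromSpecStalk (genericPoint X))] [QuasiSeparated (X.fromSpecStalk (genericPoint X))]
    (x : X) :
    Brnch.numBranchesAt X x =
        ENat.card {x' : ↥(Curv2.normalization X) // (Curv2.normalizationι X).base x' = x} ∧
      Brnch.numGeomBranchesAt X x =
        ∑' x' : {x' : ↥(Curv2.normalization X) // (Curv2.normalizationι X).base x' = x},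
          (letI := ((Curv2.normalizationι X).residueFieldMap x'.1).hom.toAlgebra
           ENat.card (Field.Emb (X.residueField ((Curv2.normalizationι X).base x'.1))
             ((Curv2.normalization X).residueField x'.1))) := by
  obtain ⟨_, ⟨U, hU, rfl⟩, hxU, -⟩ :=
    X.isBasis_affineOpens.exists_subset_of_mem_open (Set.mem_univ x) isOpen_univ
  replace hU : IsAffineOpen U := hU
  haveI : Nonempty U := ⟨⟨x, hxU⟩⟩
  obtain ⟨Φ, hΦ⟩ := main X x hU hxU
  have hfin : (minimalPrimes (X.presheaf.stalk x)).Finite := by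
    rw [show minimalPrimes (X.presheaf.stalk x) = {⊥} from IsDomain.minimalPrimes_eq_singleton_bot _]
    exact Set.finite_singleton _
  refine ⟨?_, ?_⟩
  · rw [Brnch.numBranchesAt, Brnch.numBranches, if_pos hfin, ENat.card_congr Φ]
  · rw [Brnch.numGeomBranchesAt, Brnch.numGeomBranches, if_pos hfin,
      ENat.card_congr (Equiv.sigmaCongrLeft Φ.symm).symm, card_sigma_eq_tsum]
    refine tsum_congr fun x' => ?_
    obtain ⟨m, rfl⟩ := Φ.surjective x'
    rw [Φ.symm_apply_apply]
    obtain ⟨φ, hφ⟩ := hΦ m
    generalize Φ m = z at φ hφ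
    obtain ⟨y, hy⟩ := z
    subst hy
    letI := ((Curv2.normalizationι X).residueFieldMap y).hom.toAlgebra
    haveI : Algebra.IsAlgebraic (X.residueField ((Curv2.normalizationι X).base y))
        ((Curv2.normalization X).residueField y) :=
      isAlgebraic_residue X hU y hxU
    exact card_emb (T := AlgebraicClosure (X.residueField ((Curv2.normalizationι X).base y)))
      (D := CAlg2.normRed (X.presheaf.stalk ((Curv2.normalizationι X).base y)) ⧸ m.asIdeal)
      (X.residue _).hom (X.residue_surjective _) (Brnch.toResidue _ m) φ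
      (RingHom.ext fun o => by
        have h := hφ o
        simp only [Scheme.residueFieldCongr, eqToIso_refl, CategoryTheory.Iso.refl_inv,
          CommRingCat.id_apply] at h
        exact h)
where
  isAlgebraic_residue (X : Scheme.{u}) [IsIntegral X]
      [QuasiCompact (X.fromSpecStalk (genericPoint X))]
      [QuasiSeparated (X.fromSpecStalk (genericPoint X))] {U : X.Opens} (hU : IsAffineOpen U)
      (y : ↥(Curv2.normalization X)) (hy : (Curv2.normalizationι X).base y ∈ U) :
      letI := ((Curv2.normalizationι X).residueFieldMap y).hom.toAlgebra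
      Algebra.IsAlgebraic (X.residueField ((Curv2.normalizationι X).base y))
        ((Curv2.normalization X).residueField y) := by
    letI := ((Curv2.normalizationι X).residueFieldMap y).hom.toAlgebra
    have hV := isAffineOpen_preimage X hU
    have key : ∀ a, IsIntegral (X.residueField ((Curv2.normalizationι X).base y))
        ((Curv2.normalization X).evaluation (Curv2.normalizationι X ⁻¹ᵁ U) y hy a) := fun a => by
      obtain ⟨q, hq, hqa⟩ := (Curv2.normalizationι X).isIntegral_app U hU a
      refine ⟨q.map (X.evaluation U _ hy).hom, hq.map _, ?_⟩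
      rw [Polynomial.eval₂_map, RingHom.algebraMap_toAlgebra, ← CommRingCat.hom_comp,
        Scheme.evaluation_naturality, CommRingCat.hom_comp, ← Polynomial.hom_eval₂, hqa, map_zero]
    refine ⟨fun c => ?_⟩
    obtain ⟨a, b, hb, hc⟩ := exists_evaluation_mul_eq hV (x := y) hy c
    rw [(eq_mul_inv_iff_mul_eq₀ hb).2 hc]
    exact (key a).isAlgebraic.mul (key b).isAlgebraic.inv

end Groth.Agent.S7657
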