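import Groth.Statements.S14180
import Groth.Agent.Lib.NormH50.One
import Groth.Agent.S7657
import Groth.Agent.S14625
import Groth.Agent.Lib.Curves.FrobNode
import Groth.Agent.Lib.Curves.NormGenus
import Groth.Agent.Lib.CurveCompl53.Basic
import Groth.Agent.Lib.Normalization.Basic

set_option autoImplicit false
universe u
open CategoryTheory CategoryTheory.Limits AlgebraicGeometry
open EtCore

namespace Groth.Agent.S14180

attribute [local instance] Curv2.stalkAlgebra Curv2.resAlgebra

/-- Let k be an algebraically closed field and n ≥ 1 an integer invertible in k; let X be an integral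
proper curve over k (separated and of finite type, of dimension one) whose closed points are all
smooth points or nodes, with exactly one node, and let ν : X^ν ⟶ X be its normalization. Then the
pullback map H¹(X, μ_n) → H¹(X^ν, ν⁻¹μ_n) on étale cohomology is surjective and its kernel has
exactly n elements (it is the image of (μ_n(k) × μ_n(k))/μ_n(k)). (The published statement is for
the base change to an algebraic closure of a projective nodal curve with one node over a perfect
field and records the Galois-module structure of the short exact sequence; this row keeps the part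
over the algebraically closed field. Exactness of pullback and the quasi-compactness and
quasi-separatedness of Spec K(X) ⟶ X always hold; the binders only serve to form the map and the
normalization.) -/
theorem result
    (k : Type u) [Field k] [IsAlgClosed k] (X : Scheme.{u}) [X.Over (Spec (CommRingCat.of k))]
    [IsProper (X ↘ Spec (CommRingCat.of k))] [IsIntegral X]
    (hdim : topologicalKrullDim X = 1)
    (hnodal : Curv2.AtWorstNodal k X) (hone : Nat.card {x : X // Curv2.IsNode k X x} = 1)
    [QuasiCompact (X.fromSpecStalk (genericPoint X))] [QuasiSeparated (X.fromSpecStalk (genericPoint X))]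
    [PreservesFiniteLimits (EtCoh.pull (Curv2.normalizationι X))]
    (n : ℕ) (hn : 1 ≤ n) (hnk : (n : k) ≠ 0) :
    Function.Surjective (EtCore.Hpull (Curv2.normalizationι X) (EtCoh.mu X n) 1) ∧
    Nat.card (EtCore.Hpull (Curv2.normalizationι X) (EtCoh.mu X n) 1).ker = n := by
  classical
  let a := X ↘ Spec (CommRingCat.of k)
  haveI : IsLocallyNoetherian X := LocallyOfFiniteType.isLocallyNoetherian a
  obtain ⟨⟨⟨x₀, hnode⟩, huniq⟩⟩ : Nonempty {z : {x : X // Curv2.IsNode k X x} // ∀ w, w = z} := by
    obtain ⟨hs, ⟨z⟩⟩ := Nat.card_eq_one_iff_unique.1 hone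
    exact ⟨⟨z, fun w => hs.elim w z⟩⟩
  obtain ⟨hx₀, -, hn₀⟩ := (Groth.Agent.H25.Node.Sch.isNode_iff k X x₀).1 hnode
  let U : X.Opens := ⟨({x₀} : Set X)ᶜ, hx₀.isOpen_compl⟩
  haveI : IsIso (Curv2.normalizationι X ∣_ U) :=
    Groth.Agent.Lib.CurveCompl53.Basic.isIso_normalizationι_restrict X U fun y hy => by
      by_cases hyc : IsClosed ({y} : Set X)
      · rcases hnodal y hyc with hsm | hnd
        · have hy' : y ∈ (X ↘ Spec (CommRingCat.of k)).smoothLocus :=
            (Groth.Agent.H25.Node.AtWorst.exists_smooth_iff k X y).1 hsm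
          haveI := Groth.Agent.H25.Node.AtWorst.regular_of_smooth k X hy'
          haveI := Groth.Agent.Lib.Regular.Quotient.isDomain (X.presheaf.stalk y)
          exact Groth.Agent.Lib.Regular.UFD.isIntegrallyClosed (X.presheaf.stalk y)
        · exact absurd (congrArg Subtype.val (huniq ⟨y, hnd⟩)) hy
      · have hg : y = genericPoint X := by
          by_contra h
          exact hyc (Groth.Agent.Lib.CDivInt.isClosed_singleton_of_ne_genericPoint hdim.le h)
        subst hg
        exact (inferInstance : IsIntegrallyClosed X.functionField)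
  haveI hres : IsAlgClosed (X.residueField x₀) := by
    haveI : Module.Finite k (IsLocalRing.ResidueField (X.presheaf.stalk x₀)) :=
      RingHom.finite_algebraMap.1 ((Groth.Agent.H25.Node.Sch.isClosed_iff k X x₀).1 hx₀)
    have hk : IsAlgClosed (IsLocalRing.ResidueField (X.presheaf.stalk x₀)) :=
      IsAlgClosed.of_ringEquiv k _ (RingEquiv.ofBijective
        (algebraMap k (IsLocalRing.ResidueField (X.presheaf.stalk x₀)))
        IsAlgClosed.algebraMap_bijective_of_isIntegral)
    exact hk
  haveI : IsFinite (Curv2.normalizationι X) :=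
    Groth.Agent.Lib.Normalization.InFieldVariety.isFinite_normalizationι k X
  haveI : Surjective (Curv2.normalizationι X) :=
    ⟨Groth.Agent.Lib.Normalization.Basic.surjective_normalizationι X⟩
  haveI : EtCoh.BCCont (Curv2.normalizationι X) := inferInstance
  have h2 : Nat.card {y : ↥(Curv2.normalization X) // (Curv2.normalizationι X).base y = x₀} = 2 := by
    obtain ⟨_, ⟨V, hV, rfl⟩, hxV, -⟩ :=
      X.isBasis_affineOpens.exists_subset_of_mem_open (Set.mem_univ x₀) isOpen_univ
    haveI : Nonempty V := ⟨⟨x₀, hxV⟩⟩
    obtain ⟨Φ, -⟩ := Groth.Agent.S7657.main X x₀ (U := V) hV hxV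
    rw [← Nat.card_congr Φ]
    haveI : IsAlgClosed (IsLocalRing.ResidueField (X.presheaf.stalk x₀)) := hres
    haveI : Algebra.IsSeparable k (IsLocalRing.ResidueField (X.presheaf.stalk x₀)) :=
      ((Groth.Agent.H25.Node.Sch.isNode_iff k X x₀).1 hnode).2.1
    haveI : Algebra.FormallyEtale k (IsLocalRing.ResidueField (X.presheaf.stalk x₀)) :=
      Algebra.FormallyEtale.of_isSeparable k _
    have hN := Groth.Agent.H25.NagataStalk.isNagata_stalk a x₀
    have h := (Groth.Agent.H25.Node.Properties.properties k (X.presheaf.stalk x₀) hN hn₀).2.2.2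
    rw [Groth.Agent.Lib.Curves.FrobNode.numGeomBranches_eq] at h
    haveI := hN.1
    rw [Brnch.numBranches, if_pos (minimalPrimes.finite_of_isNoetherianRing (R := X.presheaf.stalk x₀))] at h
    show (ENat.card _).toNat = 2
    rw [h]
    rfl
  obtain ⟨e⟩ := Groth.Agent.S14625.result k
    ⟨inferInstance, Groth.Agent.Lib.EtSite.Sections.isSepClosed_of_ringEquiv (RingEquiv.ofBijective (IsLocalRing.residue k)
      ⟨RingHom.injective _, IsLocalRing.residue_surjective⟩)⟩ n hn (by simpa using (Ne.isUnit hnk)) X a
  haveI : NeZero n := ⟨by omega⟩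
  haveI : Finite (AddCommGrpCat.of (ULift.{u + 1} (ZMod n))) := inferInstanceAs (Finite (ULift.{u + 1} (ZMod n)))
  haveI : IsIntegral (Curv2.normalization X) := inferInstanceAs (IsIntegral (X.fromSpecStalk (genericPoint X)).normalization)
  obtain ⟨hs, hc⟩ := Groth.Agent.Lib.NormH50.One.main (Curv2.normalizationι X) a U x₀ hx₀
    (compl_compl ({x₀} : Set X)).le h2 (AddCommGrpCat.of (ULift.{u + 1} (ZMod n))) (EtCoh.mu X n) e.symm
  refine ⟨hs, hc.trans ?_⟩
  exact (Nat.card_congr Equiv.ulift).trans (Nat.card_zmod n)

end Groth.Agent.S14180
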