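import Groth.Statements.S14181
-- import your own Groth.Agent.* helpers here

set_option autoImplicit false
universe u
open CategoryTheory
open GalCoh

namespace Groth.Agent.S14181

/-- Let G be a group with a finite normal subgroup P, k a commutative ring and A a k-linear
representation of G such that multiplication by the order of P is a bijection of A. Then the
inflation map on 1-cocycles (crossed homomorphisms) Z¹(G/P, A^P) → Z¹(G, A) has a k-linear left
inverse. (The published statement is for the inertia group of a Galois cover of smooth curves at a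
point, its normal Sylow p-subgroup P and a module of n-torsion with n prime to p; the argument uses
only that the order of P acts invertibly, which is the hypothesis taken here.) -/
theorem result
    {k G : Type u} [CommRing k] [Group G] (A : Rep.{u} k G) (P : Subgroup G) [P.Normal] [Finite P]
    (hP : Function.Bijective fun a : A => (Nat.card P : k) • a) :
    ∃ r : ModuleCat.of k (groupCohomology.cocycles₁ A) ⟶
        ModuleCat.of k (groupCohomology.cocycles₁ (A.quotientToInvariants P)),
      (groupCohomology.mapCocycles₁ (QuotientGroup.mk' P) (Rep.ofHom (A.ρ.quotientToInvariants_lift P)) :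
          ModuleCat.of k (groupCohomology.cocycles₁ (A.quotientToInvariants P)) ⟶
            ModuleCat.of k (groupCohomology.cocycles₁ A)) ≫ r = 𝟙 _ := by
  classical
  cases nonempty_fintype P
  let em : A ≃ₗ[k] A := LinearEquiv.ofBijective ((Nat.card P : k) • LinearMap.id) hP
  let u : groupCohomology.cocycles₁ A → A := fun f => em.symm (∑ q : P, f (q : G))
  let f' : groupCohomology.cocycles₁ A → G → A := fun f g => f g + A.ρ g (u f) - u f
  have hcoc : ∀ (f : groupCohomology.cocycles₁ A) (g h : G), f (g * h) = A.ρ g (f h) + f g :=
    fun f => (groupCohomology.mem_cocycles₁_iff (f : G → A)).mp f.2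
  have hmul : ∀ f g h, f' f (g * h) = A.ρ g (f' f h) + f' f g := fun f g h => by
    simp only [f', hcoc, map_mul, Module.End.mul_apply, map_add, map_sub]
    abel
  have hP0 : ∀ f, ∀ p ∈ P, f' f p = 0 := fun f p hp => by
    apply em.injective
    have hs : em (u f) = ∑ q : P, f (q : G) := em.apply_symm_apply _
    have hsum : ∑ q : P, f (p * q) = A.ρ p (em (u f)) + em (f p) := by
      simp only [hcoc, Finset.sum_add_distrib, ← map_sum, Finset.sum_const, Finset.card_univ, hs]
      simp [em, ← Nat.cast_smul_eq_nsmul k, Nat.card_eq_fintype_card]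
    rw [show ∑ q : P, f (p * q) = ∑ q : P, f (q : G) from
      Fintype.sum_equiv (Equiv.mulLeft (⟨p, hp⟩ : P)) _ _ fun q => rfl, ← hs] at hsum
    have hr : ∀ a, em (A.ρ p a) = A.ρ p (em a) := fun a => by simp [em]
    simp only [f', map_add, map_sub, map_zero, hr]
    linear_combination (norm := abel) -hsum
  have hmk : ∀ f (g h : G), (g : G ⧸ P) = (h : G ⧸ P) → f' f g = f' f h := fun f g h e => by
    rw [show h = g * (g⁻¹ * h) by group, hmul, hP0 f _ (QuotientGroup.eq.mp e), map_zero, zero_add]
  have hinv : ∀ f (g : G), f' f g ∈ Representation.invariants (A.ρ.comp P.subtype) := fun f g p => by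
    show A.ρ (p : G) (f' f g) = f' f g
    have h := hmk f ((p : G) * g) g (QuotientGroup.eq.mpr (by
      rw [mul_inv_rev]
      exact (Subgroup.Normal.conj_mem' inferInstance _ (P.inv_mem p.2) g)))
    rwa [hmul, hP0 f _ p.2, add_zero] at h
  let r : groupCohomology.cocycles₁ A →ₗ[k] groupCohomology.cocycles₁ (A.quotientToInvariants P) :=
    { toFun := fun f => ⟨fun q => ⟨f' f q.out, hinv f _⟩, (groupCohomology.mem_cocycles₁_iff _).mpr
        fun q₁ q₂ => by
          induction q₁ using QuotientGroup.induction_on with | _ g₁ =>
          induction q₂ using QuotientGroup.induction_on with | _ g₂ =>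
          refine Subtype.ext ?_
          show f' f ((g₁ * g₂ : G) : G ⧸ P).out = A.ρ g₁ (f' f (g₂ : G ⧸ P).out) + f' f (g₁ : G ⧸ P).out
          rw [hmk f _ (g₁ * g₂) (QuotientGroup.out_eq' _), hmk f _ g₂ (QuotientGroup.out_eq' _),
            hmk f _ g₁ (QuotientGroup.out_eq' _), hmul]⟩
      map_add' := fun f g => by
        refine Subtype.ext (funext fun q => Subtype.ext ?_)
        show f' (f + g) q.out = f' f q.out + f' g q.out
        have ha : ∀ x, ((f + g : groupCohomology.cocycles₁ A)) x = f x + g x := fun x => rfl
        simp only [f', u, ha, Finset.sum_add_distrib, map_add]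
        abel
      map_smul' := fun c f => by
        refine Subtype.ext (funext fun q => Subtype.ext ?_)
        show f' (c • f) q.out = c • f' f q.out
        have ha : ∀ x, ((c • f : groupCohomology.cocycles₁ A)) x = c • f x := fun x => rfl
        simp only [f', u, ha, ← Finset.smul_sum, map_smul, smul_add, smul_sub] }
  refine ⟨ModuleCat.ofHom r, ModuleCat.hom_ext (LinearMap.ext fun x => Subtype.ext (funext fun q => Subtype.ext ?_))⟩
  set y := (groupCohomology.mapCocycles₁ (QuotientGroup.mk' P) (Rep.ofHom (A.ρ.quotientToInvariants_lift P))).hom x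
  show f' y q.out = ((x : G ⧸ P → _) q : A)
  have hy : ∀ g : G, (y : G → A) g = ((x : G ⧸ P → _) (g : G ⧸ P) : A) := fun g => by
    simp [y]; rfl
  have hu : u y = 0 := by
    simp [u, hy, (QuotientGroup.eq_one_iff _).mpr (Subtype.mem _)]
  simp [f', hu, hy]

end Groth.Agent.S14181
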