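import Groth.Statements.S14184
import Groth.Agent.H12.Weil.Main

set_option autoImplicit false
set_option linter.style.haveILetI false
universe u
open CategoryTheory AlgebraicGeometry
open LocSym

namespace Groth.Agent.S14184

/-- Let k be an algebraically closed field and X a smooth proper integral curve over k (structure
morphism c, dimension one); points are k-points and ord_x is the valuation at x. Let n ≥ 1, let Z be
a finite set of points, let f₁, f₂ be nonzero rational functions and D₁, D₁′, D₂ divisors (finitely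
supported integer-valued functions on points) with n·D₁ = div(f₁) + D₁′, D₁′ supported on Z, n·D₂ =
div(f₂), f₂ taking the value 1 at every point of Z, and div(f₁) and D₂ with disjoint supports. Let
v₁(x) ∈ kˣ be the value of f₁ at each point of the support of D₂ and v₂(x) ∈ kˣ the value of f₂ at
each point of the support of D₁. Then the quotient of ∏_x v₁(x)^{D₂(x)} by ∏_x v₂(x)^{D₁(x)} is an
n-th root of unity: its n-th power is 1. (This quotient f₁(D₂)/f₂(D₁) is the generalised Weil
pairing of the classes of (D₁, D₁′, f₁) and D₂; the published statement also normalises f₁, f₂ at a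
base point, which is not needed for this assertion.) -/
theorem result
    (k : Type u) [Field k] [IsAlgClosed k] (X : Scheme.{u}) [IsIntegral X]
    (c : X ⟶ Spec (CommRingCat.of k)) [IsProper c] [Smooth c] (hdim : topologicalKrullDim X = 1)
    (n : ℕ) (hn : 1 ≤ n) (Z : Finset (LocSym.Pt c))
    (f₁ f₂ : X.functionField) (hf₁ : f₁ ≠ 0) (hf₂ : f₂ ≠ 0)
    (D₁ D₁' D₂ : LocSym.Pt c →₀ ℤ)
    (hD₁ : ∀ x : LocSym.Pt c, (n : ℤ) * D₁ x = x.ord f₁ + D₁' x) (hD₁' : D₁'.support ⊆ Z)
    (hD₂ : ∀ x : LocSym.Pt c, (n : ℤ) * D₂ x = x.ord f₂)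
    (hf₂Z : ∀ x ∈ Z, LocSym.HasValueAt x f₂ 1)
    (hdisj : ∀ x : LocSym.Pt c, x.ord f₁ = 0 ∨ D₂ x = 0)
    (v₁ v₂ : LocSym.Pt c → kˣ)
    (hv₁ : ∀ x ∈ D₂.support, LocSym.HasValueAt x f₁ (v₁ x : k))
    (hv₂ : ∀ x ∈ D₁.support, LocSym.HasValueAt x f₂ (v₂ x : k)) :
    ((D₂.prod fun x e => v₁ x ^ e) / (D₁.prod fun x e => v₂ x ^ e)) ^ n = 1 := by
  classical
  open Groth.Agent.H12.Weil Groth.Agent.Lib.SmoothCurve.Curve in
  have key : ∀ x : LocSym.Pt c,
      (((if x ∈ D₂.support then v₁ x ^ D₂ x else 1) / (if x ∈ D₁.support then v₂ x ^ D₁ x else 1)) ^ n : kˣ) =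
        Units.mk0 (Curve.T c x f₁ f₂) (haveI := isDVR c hdim x; Place.T_ne_zero _ hf₁ hf₂) := by
    intro x
    haveI := isDVR c hdim x
    refine Units.ext ?_
    rw [Units.val_mk0, Units.val_pow_eq_pow_val, Units.val_div_eq_div_val, Curve.T]
    by_cases hx : x ∈ D₂.support
    · have hD : D₂ x ≠ 0 := Finsupp.mem_support_iff.1 hx
      have h1 : x.ord f₁ = 0 := (hdisj x).resolve_right hD
      have hx1 : x ∉ D₁.support := fun h => by
        obtain ⟨h0, -, -⟩ := Curve.ord_value_of_hasValueAt c hdim x (v₂ x).ne_zero (hv₂ x h)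
        have := hD₂ x
        rw [h0, mul_eq_zero] at this
        rcases this with h' | h'
        · omega
        · exact hD h'
      rw [if_pos hx, if_neg hx1, Units.val_one, div_one, Units.val_zpow_eq_zpow_val,
        Place.T_of_ord_eq_zero_left _ hf₁ hf₂ h1,
        show Place.value _ (Curve.ev c x) f₁ = (v₁ x : k) from
          ((Curve.hasValueAt_iff c hdim x).1 (hv₁ x hx)).2]
      change _ = _ ^ x.ord f₂
      rw [← hD₂ x, mul_comm, zpow_mul, zpow_natCast]
    · have hD : D₂ x = 0 := Finsupp.notMem_support_iff.1 hx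
      have h2 : x.ord f₂ = 0 := by rw [← hD₂ x, hD, mul_zero]
      rw [if_neg hx, Place.T_of_ord_eq_zero_right _ hf₁ hf₂ h2, Units.val_one]
      change _ = _ ^ (-x.ord f₁)
      by_cases hz : D₁' x = 0
      · by_cases hx1 : x ∈ D₁.support
        · rw [if_pos hx1, show Place.value _ (Curve.ev c x) f₂ = (v₂ x : k) from
              ((Curve.hasValueAt_iff c hdim x).1 (hv₂ x hx1)).2, one_div, Units.val_zpow_eq_zpow_val,
            ← zpow_neg, show x.ord f₁ = (n : ℤ) * D₁ x by rw [hD₁ x, hz, add_zero],
            ← zpow_natCast, ← zpow_mul]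
          congr 1; ring
        · rw [if_neg hx1, Units.val_one, div_one, one_pow,
            show x.ord f₁ = 0 by
              have := hD₁ x
              rw [Finsupp.notMem_support_iff.1 hx1, hz, mul_zero, add_zero] at this
              exact this.symm, neg_zero, zpow_zero]
      · have hxZ : x ∈ Z := hD₁' (Finsupp.mem_support_iff.2 hz)
        rw [show Place.value _ (Curve.ev c x) f₂ = 1 from
          ((Curve.hasValueAt_iff c hdim x).1 (hf₂Z x hxZ)).2, one_zpow]
        by_cases hx1 : x ∈ D₁.support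
        · have e : (v₂ x : k) = 1 := ((Curve.hasValueAt_iff c hdim x).1 (hv₂ x hx1)).2.symm.trans
            ((Curve.hasValueAt_iff c hdim x).1 (hf₂Z x hxZ)).2
          rw [if_pos hx1, Units.val_zpow_eq_zpow_val, e, one_zpow, div_one, one_pow]
        · rw [if_neg hx1, Units.val_one, div_one, one_pow]
  have h1 : (fun x => if x ∈ D₂.support then v₁ x ^ D₂ x else 1).mulSupport ⊆ ↑(D₂.support ∪ D₁.support) := by
    intro x hx
    by_contra h
    simp only [Finset.coe_union, Set.mem_union, Finset.mem_coe, not_or] at h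
    exact hx (if_neg h.1)
  have h2 : (D₂.prod fun x e => v₁ x ^ e) =
      ∏ x ∈ D₂.support ∪ D₁.support, if x ∈ D₂.support then v₁ x ^ D₂ x else 1 := by
    rw [Finset.prod_ite, Finset.prod_const_one, mul_one, Finsupp.prod]
    congr 1
    ext x; simp +contextual
  have h3 : (D₁.prod fun x e => v₂ x ^ e) =
      ∏ x ∈ D₂.support ∪ D₁.support, if x ∈ D₁.support then v₂ x ^ D₁ x else 1 := by
    rw [Finset.prod_ite, Finset.prod_const_one, mul_one, Finsupp.prod]
    congr 1
    ext x; simp +contextual
  rw [h2, h3, ← Finset.prod_div_distrib, ← Finset.prod_pow, Finset.prod_congr rfl fun x _ => key x]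
  refine Units.ext ?_
  rw [Units.coe_prod, Units.val_one, ← Groth.Agent.H12.Weil.Main.reciprocity c hdim hf₁ hf₂,
    finprod_eq_prod_of_mulSupport_subset]
  · rfl
  intro x hx
  by_contra h
  simp only [Finset.coe_union, Set.mem_union, Finset.mem_coe, not_or] at h
  refine hx ?_
  have hk := congrArg Units.val (key x)
  rw [if_neg h.1, if_neg h.2, Units.val_mk0] at hk
  dsimp only
  rw [← hk]
  simp

end Groth.Agent.S14184
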