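import Groth.Statements.S14186
import Groth.Agent.H88.EtMod.CurveSupport
import Groth.Agent.H61.FieldCoh.Devissage

set_option autoImplicit false
universe u
open CategoryTheory CategoryTheory.Limits AlgebraicGeometry
open EtDual

namespace Groth.Agent.S14186

/-- Let k be an algebraically closed field, X an integral curve over k (separated and of finite type
over k, of dimension one), z a closed point of X and j : U ⟶ X an open immersion with image X ∖ {z};
let n ≥ 1 be invertible in k and F a finite locally constant abelian sheaf on the small étale site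
of U killed by n (a lisse sheaf of ℤ/n-modules). Then, for cohomology with support in z: H⁰_z(X,
j_!F) vanishes, H⁰_z(X, j_*F) and H¹_z(X, j_*F) vanish, and H^i_z(X, j_!F) and H^i_z(X, j_*F) vanish
for every i ≥ 3. (The published statement also identifies H¹_z(X, j_!F) with H⁰(z, F) and H²_z(X,
j_!F) with H²_z(X, j_*F); this row states only the vanishing assertions. No regularity of X at z is
assumed.) -/
theorem result
    (k : Type u) [Field k] [IsAlgClosed k] (X : Scheme.{u}) (f : X ⟶ Spec (CommRingCat.of k))
    [IsSeparated f] [LocallyOfFiniteType f] [QuasiCompact f] [IsIntegral X]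
    (hdim : topologicalKrullDim X = 1)
    (z : X) (hz : IsClosed ({z} : Set X))
    {U : Scheme.{u}} (j : U ⟶ X) [IsOpenImmersion j] [EtCoh.BCCont j] [EtShriek.JCont j]
    (hU : Set.range j.base = {z}ᶜ)
    (n : ℕ) (hn : 1 ≤ n) (hnk : (n : k) ≠ 0)
    (F : EtCoh.Ab U) (hF : EtCoh.IsFiniteLocallyConstant F) (hFn : EtCoh.KilledBy n F) :
    Subsingleton ((EtDual.HY j 0).obj ((EtShriek.extZero j).obj F)) ∧
    Subsingleton ((EtDual.HY j 0).obj ((EtCoh.push j).obj F)) ∧
    Subsingleton ((EtDual.HY j 1).obj ((EtCoh.push j).obj F)) ∧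
    (∀ i : ℕ, 3 ≤ i →
      Subsingleton ((EtDual.HY j i).obj ((EtShriek.extZero j).obj F)) ∧
      Subsingleton ((EtDual.HY j i).obj ((EtCoh.push j).obj F))) := by
  have hd : topologicalKrullDim X ≤ 1 := hdim.le
  have hid := Groth.Agent.H61.FieldCoh.nsmul_id_of_killedBy hFn
  haveI : PreservesFiniteLimits (EtCoh.pull j) := inferInstance
  haveI : (EtCoh.push j).Additive := (EtCoh.pullPushAdj j).right_adjoint_additive
  haveI : (EtShriek.extZero j).Additive := (EtShriek.extZeroAdj j).left_adjoint_additive
  have h1 : EtCoh.IsTorsion ((EtShriek.extZero j).obj F) :=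
    Groth.Agent.H61.FieldCoh.isTorsion_of_nsmul_id hn
      (Groth.Agent.H88.EtMod.NoethCurve.map_nsmul_id (EtShriek.extZero j) hid)
  have h2 : EtCoh.IsTorsion ((EtCoh.push j).obj F) :=
    Groth.Agent.H61.FieldCoh.isTorsion_of_nsmul_id hn
      (Groth.Agent.H88.EtMod.NoethCurve.map_nsmul_id (EtCoh.push j) hid)
  exact ⟨Groth.Agent.H88.EtMod.CurveSupport.zero_extZero j F,
    Groth.Agent.H88.EtMod.CurveSupport.le_one_push j F 0 (by norm_num),
    Groth.Agent.H88.EtMod.CurveSupport.le_one_push j F 1 (by norm_num),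
    fun i hi => ⟨Groth.Agent.H88.EtMod.CurveSupport.three_le j f hd h1 i hi,
      Groth.Agent.H88.EtMod.CurveSupport.three_le j f hd h2 i hi⟩⟩

end Groth.Agent.S14186
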