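import Groth.Statements.S14188
import Mathlib.AlgebraicGeometry.Morphisms.SchemeTheoreticallyDominant

set_option autoImplicit false
universe u
open CategoryTheory CategoryTheory.Limits AlgebraicGeometry
open FlatMor

namespace Groth.Agent.S14188

/-- Let T be an integral scheme with generic point η, let Y and Z be schemes flat over T with Z
separated over T, and let ψ : Y_η → Z be a T-morphism from the generic fibre Y_η = Y ×_T Spec
O_{T,η} (equivalently, an η-morphism Y_η → Z_η). Let gr : Y_η → Y ×_T Z be the graph of ψ, the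
morphism whose components are the projection Y_η → Y and ψ, and let Γ ⊆ Y ×_T Z be the
scheme-theoretic image of gr (the schematic closure of the graph). Then ψ extends to a T-morphism φ
: Y → Z, meaning that the composite Y_η → Y → Z is ψ, if and only if the composite of the inclusion
Γ → Y ×_T Z with the first projection is an isomorphism Γ ≅ Y. -/
theorem result (T Y Z : Scheme.{u}) [IsIntegral T]
    (pY : Y ⟶ T) (pZ : Z ⟶ T) [Flat pY] [Flat pZ] [IsSeparated pZ]
    (ψ : pullback pY (T.fromSpecStalk (genericPoint T)) ⟶ Z)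
    (hψ : ψ ≫ pZ = pullback.fst pY (T.fromSpecStalk (genericPoint T)) ≫ pY)
    (gr : pullback pY (T.fromSpecStalk (genericPoint T)) ⟶ pullback pY pZ)
    (hgr₁ : gr ≫ pullback.fst pY pZ = pullback.fst pY (T.fromSpecStalk (genericPoint T)))
    (hgr₂ : gr ≫ pullback.snd pY pZ = ψ) :
    (∃ φ : Y ⟶ Z, φ ≫ pZ = pY ∧ pullback.fst pY (T.fromSpecStalk (genericPoint T)) ≫ φ = ψ) ↔
      IsIso (gr.imageι ≫ pullback.fst pY pZ) := by
  haveI : IsDominant (T.fromSpecStalk (genericPoint T)) := by
    refine ⟨?_⟩
    refine Dense.mono (s₁ := {genericPoint T}) ?_ ?_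
    · rw [Set.singleton_subset_iff]
      rw [Scheme.range_fromSpecStalk]
      exact specializes_rfl
    · rw [dense_iff_closure_eq]
      exact (genericPoint_spec T).def
  haveI : IsSchemeTheoreticallyDominant (T.fromSpecStalk (genericPoint T)) := IsSchemeTheoreticallyDominant.of_isDominant _
  haveI : QuasiCompact (T.fromSpecStalk (genericPoint T)) := by
    constructor
    intro U hU hUc
    rcases U.eq_empty_or_nonempty with h0 | h1
    · simp [h0]
    · have hall : (T.fromSpecStalk (genericPoint T)) ⁻¹' U = Set.univ := by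
        refine Set.eq_univ_of_forall fun y => ?_
        have hy : (T.fromSpecStalk (genericPoint T)) y ⤳ genericPoint T := by
          have := Set.mem_range_self (f := (T.fromSpecStalk (genericPoint T))) y
          rw [Scheme.range_fromSpecStalk] at this
          exact this
        exact hy.mem_open hU ((genericPoint_spec T).mem_open_set_iff hU |>.mpr (by simpa using h1))
      rw [hall]
      exact isCompact_univ
  constructor
  · rintro ⟨φ, hφ, hφψ⟩
    let Γ' : Y ⟶ pullback pY pZ := pullback.lift (𝟙 Y) φ (by simp [hφ])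
    have hΓfst : Γ' ≫ pullback.fst pY pZ = 𝟙 Y := pullback.lift_fst _ _ _
    haveI : IsClosedImmersion (Γ' ≫ pullback.fst pY pZ) := by rw [hΓfst]; infer_instance
    haveI : IsClosedImmersion Γ' := IsClosedImmersion.of_comp Γ' (pullback.fst pY pZ)
    have hgr : gr = pullback.fst pY (T.fromSpecStalk (genericPoint T)) ≫ Γ' := by
      apply pullback.hom_ext
      · rw [hgr₁, Category.assoc, hΓfst, Category.comp_id]
      · rw [hgr₂, Category.assoc, pullback.lift_snd, hφψ]
    have hker : gr.ker = Γ'.ker := by
      rw [hgr, Scheme.Hom.ker_comp, (pullback.fst pY (T.fromSpecStalk (genericPoint T))).ker_eq_bot,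
        Scheme.IdealSheafData.map_bot]
    change IsIso (gr.ker.subschemeι ≫ pullback.fst pY pZ)
    rw [hker]
    haveI : IsIso (Γ'.toImage ≫ Γ'.imageι ≫ pullback.fst pY pZ) := by
      rw [Scheme.Hom.toImage_imageι_assoc, hΓfst]; infer_instance
    exact IsIso.of_isIso_comp_left Γ'.toImage _
  · intro h
    refine ⟨inv (gr.imageι ≫ pullback.fst pY pZ) ≫ gr.imageι ≫ pullback.snd pY pZ, ?_, ?_⟩
    · simp only [Category.assoc]
      rw [← pullback.condition, IsIso.inv_comp_eq, Category.assoc]
    · have h1 : pullback.fst pY (T.fromSpecStalk (genericPoint T)) ≫ inv (gr.imageι ≫ pullback.fst pY pZ) = gr.toImage := by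
        rw [IsIso.comp_inv_eq, Scheme.Hom.toImage_imageι_assoc, hgr₁]
      rw [← Category.assoc, h1, Scheme.Hom.toImage_imageι_assoc, hgr₂]

end Groth.Agent.S14188
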