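import Groth.Statements.S14189
import Groth.Agent.Lib.SchDense.Basic
import Mathlib.AlgebraicGeometry.Sites.Fpqc

set_option autoImplicit false
universe u
open CategoryTheory CategoryTheory.Limits AlgebraicGeometry
open FlatMor

namespace Groth.Agent.S14189

/-- Let T be an integral scheme with generic point η, let Y and Z be schemes flat over T with Z
separated over T, and let ψ : Y_η → Z be a T-morphism from the generic fibre Y_η = Y ×_T Spec
O_{T,η}. Let g : T' → T be flat, surjective and quasi-compact, and let φ' : Y_{T'} → Z_{T'} be a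
T'-morphism which agrees with ψ over T' ×_T η, in the sense that on Y_{T'} ×_Y Y_η = Y ×_T T' ×_T
Spec O_{T,η} the composite of the first projection with φ' and with Z_{T'} → Z equals the composite
of the second projection with ψ. Then ψ extends to a T-morphism φ : Y → Z, one whose composite with
Y_η → Y is ψ. (The published statement is an equivalence and also records that an extension, when it
exists, is unique; the converse direction, that an extension over T base-changes to such a φ' over
any such T', is immediate, and this row states the existence direction only.) -/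
theorem result (T Y Z T' : Scheme.{u}) [IsIntegral T]
    (pY : Y ⟶ T) (pZ : Z ⟶ T) [Flat pY] [Flat pZ] [IsSeparated pZ]
    (ψ : pullback pY (T.fromSpecStalk (genericPoint T)) ⟶ Z)
    (hψ : ψ ≫ pZ = pullback.fst pY (T.fromSpecStalk (genericPoint T)) ≫ pY)
    (g : T' ⟶ T) [Flat g] [Surjective g] [QuasiCompact g]
    (φ' : pullback pY g ⟶ pullback pZ g) (hφ' : φ' ≫ pullback.snd pZ g = pullback.snd pY g)
    (hagree : pullback.fst (pullback.fst pY g) (pullback.fst pY (T.fromSpecStalk (genericPoint T))) ≫ φ' ≫ pullback.fst pZ g =
      pullback.snd (pullback.fst pY g) (pullback.fst pY (T.fromSpecStalk (genericPoint T))) ≫ ψ) :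
    ∃ φ : Y ⟶ Z, φ ≫ pZ = pY ∧ pullback.fst pY (T.fromSpecStalk (genericPoint T)) ≫ φ = ψ := by
  set η := T.fromSpecStalk (genericPoint T) with hη
  letI : Field (T.presheaf.stalk (genericPoint T)) := inferInstanceAs (Field T.functionField)
  haveI : Subsingleton ↥(Spec (T.presheaf.stalk (genericPoint T))) :=
    inferInstanceAs (Subsingleton (PrimeSpectrum (T.presheaf.stalk (genericPoint T))))
  haveI : QuasiCompact η := ⟨fun U _ _ => (Set.subsingleton_of_subsingleton).isCompact⟩
  haveI : IsSchemeTheoreticallyDominant η := by
    rw [isSchemeTheoreticallyDominant_iff_isDominant, isDominant_iff, denseRange_iff_closure_range]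
    refine Set.eq_univ_of_univ_subset ?_
    rw [← genericPoint_closure]
    refine closure_mono (Set.singleton_subset_iff.2 ⟨IsLocalRing.closedPoint _, ?_⟩)
    exact Scheme.fromSpecStalk_closedPoint
  set p := pullback.fst pY g
  let k₁ := pullback.fst p p ≫ φ' ≫ pullback.fst pZ g
  let k₂ := pullback.snd p p ≫ φ' ≫ pullback.fst pZ g
  have hk : φ' ≫ pullback.fst pZ g ≫ pZ = p ≫ pY := by
    rw [pullback.condition, ← Category.assoc, hφ', pullback.condition]
  have hk₁ : k₁ ≫ pZ = pullback.fst p p ≫ p ≫ pY := by simp only [k₁, Category.assoc, hk]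
  have hk₂ : k₂ ≫ pZ = pullback.fst p p ≫ p ≫ pY := by
    simp only [k₂, Category.assoc, hk, ← pullback.condition_assoc]
  have key : k₁ = k₂ := by
    refine Lib.SchDense.Basic.ext_of_std pZ (hk₁.trans hk₂.symm)
      (pullback.fst (pullback.fst p p ≫ p ≫ pY) η) ?_
    set d := pullback.fst (pullback.fst p p ≫ p ≫ pY) η
    let m := pullback.lift (f := pY) (g := η) (d ≫ pullback.fst p p ≫ p) (pullback.snd _ η)
      (by simpa using pullback.condition)
    let e₁ := pullback.lift (f := p) (g := pullback.fst pY η) (d ≫ pullback.fst p p) m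
      (by rw [Category.assoc]; exact (pullback.lift_fst _ _ _).symm)
    let e₂ := pullback.lift (f := p) (g := pullback.fst pY η) (d ≫ pullback.snd p p) m
      (by rw [Category.assoc]; exact (congrArg (d ≫ ·) pullback.condition.symm).trans (pullback.lift_fst _ _ _).symm)
    have h₁ := e₁ ≫= hagree
    have h₂ := e₂ ≫= hagree
    exact ((Category.assoc _ _ _).symm.trans ((pullback.lift_fst_assoc _ _ _ _).symm.trans
        (h₁.trans (pullback.lift_snd_assoc _ _ _ _)))).trans
      ((Category.assoc _ _ _).symm.trans ((pullback.lift_fst_assoc _ _ _ _).symm.trans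
        (h₂.trans (pullback.lift_snd_assoc _ _ _ _)))).symm
  refine ⟨EffectiveEpi.desc p (φ' ≫ pullback.fst pZ g) fun {W} g₁ g₂ h => ?_, ?_, ?_⟩
  · exact ((pullback.lift_fst_assoc g₁ g₂ h _).symm.trans
      (pullback.lift g₁ g₂ h ≫= key)).trans (pullback.lift_snd_assoc g₁ g₂ h _)
  · rw [← cancel_epi p, ← Category.assoc, EffectiveEpi.fac, Category.assoc, hk]
  · haveI : EffectiveEpi (pullback.snd p (pullback.fst pY η)) := inferInstance
    rw [← cancel_epi (pullback.snd p (pullback.fst pY η)), ← pullback.condition_assoc,
      EffectiveEpi.fac, hagree]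

end Groth.Agent.S14189
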