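import Groth.Statements.S14190
import Groth.Agent.Lib.ModelFibre.PicExtend
import Groth.Agent.Lib.SurfInt.Bound
import Groth.Agent.Lib.ModelFibre.RegularExt
-- import your own Groth.Agent.* helpers here

set_option autoImplicit false
set_option linter.style.haveILetI false
universe u
open CategoryTheory CategoryTheory.Limits AlgebraicGeometry Opposite
open Models

namespace Groth.Agent.S14190

open Groth.Agent.Lib TopologicalSpace Opposite
open Groth.Agent.Lib.Curves.LES (mapK δK exactK₂ exactK₃ exactK₁ mapK_comp mapK_id)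

theorem isIso_map_unit {X U : Scheme.{u}} (j : U ⟶ X) [IsOpenImmersion j] (M : X.Modules) :
    IsIso ((Scheme.Modules.restrictFunctor j).map ((Scheme.Modules.restrictAdjunction j).unit.app M)) :=
  IsIso.of_isIso_fac_right ((Scheme.Modules.restrictAdjunction j).left_triangle_components M)

theorem stalkMap_comp_zero {X : Scheme.{u}} {A B C : X.Modules} (φ : A ⟶ B) (ψ : B ⟶ C) (h : φ ≫ ψ = 0)
    (x : X) (v : A.presheaf.stalk x) : RefHull.stalkMapₗ ψ x (RefHull.stalkMapₗ φ x v) = 0 := by
  have h1 := LinearMap.congr_fun (Modules.StalkModule.stalkMapₗ_comp φ ψ x) v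
  rw [h, Modules.StalkModule.stalkMapₗ_zero] at h1
  exact h1.symm

theorem bijective_stalk {X : Scheme.{u}} {U : Scheme.{u}} (j : U ⟶ X) [IsOpenImmersion j] (M : X.Modules) (c : U) :
    Function.Bijective (RefHull.stalkMapₗ ((Scheme.Modules.restrictAdjunction j).unit.app M) (j c)) := by
  set η := (Scheme.Modules.restrictAdjunction j).unit.app M
  haveI : IsIso ((Scheme.Modules.restrictFunctor j).map η) := isIso_map_unit j M
  have hb := (Modules.StalkModule.isIso_iff_stalkMapₗ_bijective ((Scheme.Modules.restrictFunctor j).map η)).1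
    inferInstance c
  have h : ⇑(RefHull.stalkMapₗ η (j c)) =
      Modules.StalkRestrict.restrictStalkAddEquiv j _ c ∘
        RefHull.stalkMapₗ ((Scheme.Modules.restrictFunctor j).map η) c ∘
          (Modules.StalkRestrict.restrictStalkAddEquiv j M c).symm := funext fun v => by
    refine Eq.symm ((ModelFibre.PicExtend.stalkMap_restrict j η c _).trans ?_)
    exact congrArg _ (AddEquiv.apply_symm_apply (Modules.StalkRestrict.restrictStalkAddEquiv j M c) v)
  rw [h]
  exact (AddEquiv.bijective _).comp (hb.comp (AddEquiv.bijective _))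

theorem subsingleton_H1 {R : Type u} [CommRing R] {X : Scheme.{u}} [X.Over (Spec (CommRingCat.of R))]
    [IsNoetherian X] (F : X.Modules) (hF : ∀ x : X, ¬ IsClosed ({x} : Set X) → Subsingleton (F.presheaf.stalk x)) :
    Subsingleton (Coh.HH X F 1) := by
  haveI : NoetherianSpace (X.toTopCat : Type u) := inferInstanceAs (NoetherianSpace X)
  haveI : QuasiSober (X.toTopCat : Type u) := inferInstanceAs (QuasiSober X)
  haveI : T0Space (X.toTopCat : Type u) := inferInstanceAs (T0Space X)
  haveI : TopCat.Sheaf.IsFlasque (X := X.toTopCat) (Coh.toAb F) :=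
    H34.VanishOne.isFlasque_of_isZero_stalk_of_not_isClosed (X := X.toTopCat) _ fun x hx =>
      @AddCommGrpCat.isZero_of_subsingleton _ (hF x hx)
  exact Lib.ZarCoh.Basic.H_flasque (X := X.toTopCat) (Coh.toAb F) 0

theorem bijective_unit {R : Type u} [CommRing R] [IsDomain R] [IsDiscreteValuationRing R]
    {X : Scheme.{u}} [X.Over (Spec (CommRingCat.of R))] [IsProper (X ↘ Spec (CommRingCat.of R))]
    {ω : X.Modules} {tr : Coh.HH X ω 1 →ₗ[R] R} (hω : Canon.IsRDualOver R X 1 ω tr)
    (U : X.Opens) (hcl : ∀ x : X, x ∉ U → IsClosed ({x} : Set X)) :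
    IsIso ((Scheme.Modules.restrictAdjunction U.ι).unit.app ω) := by
  haveI : IsLocallyNoetherian X := LocallyOfFiniteType.isLocallyNoetherian (X ↘ Spec (CommRingCat.of R))
  haveI : CompactSpace X := QuasiCompact.compactSpace_of_compactSpace (X ↘ Spec (CommRingCat.of R))
  haveI : IsNoetherian X := {}
  haveI : IsNoetherian (U : Scheme.{u}) := Devissage.Localization.isNoetherian_open U.ι
  obtain ⟨hq, hbij⟩ := hω
  haveI : ω.IsQuasicoherent := hq
  set G := (Scheme.Modules.pushforward U.ι).obj ((Scheme.Modules.restrictFunctor U.ι).obj ω) with hG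
  set η : ω ⟶ G := (Scheme.Modules.restrictAdjunction U.ι).unit.app ω
  haveI hGq : G.IsQuasicoherent := by
    haveI : Coh.IsQCoh (ω.restrict U.ι) := inferInstance
    exact QCoh.Pushforward.isQCoh_pushforward U.ι (M := ω.restrict U.ι)
  have hstalk : ∀ x : X, x ∈ U → Function.Bijective (RefHull.stalkMapₗ η x) :=
    fun x hx => bijective_stalk U.ι ω ⟨x, hx⟩
  -- mono
  haveI hmono : Mono η := by
    refine Preadditive.mono_of_kernel_zero ?_
    haveI hKq : (kernel η).IsQuasicoherent := QCoh.Closure.isQCoh_kernel η
    have hK : Subsingleton (Coh.HH X (kernel η) 1) := subsingleton_H1 (R := R) _ fun x hx => by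
      have hxU : x ∈ U := not_not.1 fun h => hx (hcl x h)
      refine subsingleton_of_forall_eq 0 fun v => ?_
      have h1 : RefHull.stalkMapₗ η x (RefHull.stalkMapₗ (kernel.ι η) x v) = 0 :=
        stalkMap_comp_zero _ _ (kernel.condition η) x v
      have h2 : RefHull.stalkMapₗ (kernel.ι η) x v = 0 := (hstalk x hxU).1 (h1.trans (map_zero _).symm)
      exact (Modules.Stalk.mono_iff_stalk_injective (kernel.ι η)).1 inferInstance x (h2.trans (map_zero _).symm)
    refine (hbij (kernel η) hKq).1 (LinearMap.ext fun z => ?_)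
    obtain rfl : z = 0 := Subsingleton.elim _ _
    simp
  -- the short exact sequence
  let S : ShortComplex X.Modules := ShortComplex.mk η (cokernel.π η) (cokernel.condition η)
  have hS : S.ShortExact :=
    { exact := ShortComplex.exact_of_g_is_cokernel _ (cokernelIsCokernel η) }
  haveI hQq : (cokernel η).IsQuasicoherent := QCoh.Closure.isQCoh_cokernel η
  have hQstalk : ∀ x : X, x ∈ U → Subsingleton ((cokernel η).presheaf.stalk x) := fun x hxU => by
    refine subsingleton_of_forall_eq 0 fun v => ?_
    obtain ⟨w, rfl⟩ := (Modules.Stalk.epi_iff_stalk_surjective (cokernel.π η)).1 inferInstance x v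
    obtain ⟨a, rfl⟩ := (hstalk x hxU).2 w
    exact stalkMap_comp_zero η (cokernel.π η) (cokernel.condition η) x a
  haveI hQ1 : Subsingleton (Coh.HH X S.X₃ 1) :=
    subsingleton_H1 (R := R) _ fun x hx => hQstalk x (not_not.1 fun h => hx (hcl x h))
  have hsurj : Function.Surjective (mapK R η 1) := fun y =>
    (exactK₂ R hS 1 y).1 (Subsingleton.elim _ _)
  -- the trace kills the kernel
  obtain ⟨π, hπ⟩ := IsDiscreteValuationRing.exists_irreducible R
  have hker : ∀ z, mapK R η 1 z = 0 → tr z = 0 := by
    intro z hz
    obtain ⟨w, rfl⟩ := (exactK₁ R hS 0 1 rfl z).1 hz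
    let s : Γ(cokernel η, ⊤) := Curves.GlobalSections.h0Equiv (cokernel η) w
    let t : Γ(X, ⊤) := ModelFibre.RegularExt.glob (X ↘ Spec (CommRingCat.of R)) π
    haveI : QuasiSeparatedSpace X := quasiSeparatedSpace_of_quasiSeparated (X ↘ Spec (CommRingCat.of R))
    have hDU : X.basicOpen t ≤ U := fun x hx => by
      by_contra hxU
      have hcx : IsClosed ({(X ↘ Spec (CommRingCat.of R)) x} : Set (Spec (CommRingCat.of R))) := by
        have := (X ↘ Spec (CommRingCat.of R)).isClosedMap _ (hcl x hxU)
        rwa [Set.image_singleton] at this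
      have hm := (PrimeSpectrum.isClosed_singleton_iff_isMaximal _).1 hcx
      have hx' : x ∈ X.basicOpen t := hx
      rw [ModelFibre.RegularExt.basicOpen_toGlobal] at hx'
      refine (show π ∉ ((X ↘ Spec (CommRingCat.of R)) x).asIdeal from hx') ?_
      rw [hm.eq_of_le (IsLocalRing.maximalIdeal.isMaximal R).ne_top (IsLocalRing.le_maximalIdeal hm.ne_top),
        hπ.maximalIdeal_eq]
      exact Ideal.mem_span_singleton_self π
    obtain ⟨N, hN⟩ := (QCoh.Localizing.localizes_of_qcqs (cokernel η) (U := (⊤ : X.Opens))
      isCompact_univ (isQuasiSeparated_univ_iff.2 inferInstance) t).sep s (by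
        refine TopCat.Presheaf.section_ext (⟨(cokernel η).presheaf, (cokernel η).isSheaf⟩ :
          TopCat.Sheaf AddCommGrpCat.{u} X.toTopCat) _ _ _ fun x hx => ?_
        exact @Subsingleton.elim _ (hQstalk x (hDU hx)) _ _)
    have hw : (π ^ N) • w = 0 := by
      apply (Curves.GlobalSections.h0Equiv (cokernel η)).injective
      refine ((Curves.GlobalSections.h0Equiv_smul (cokernel η)
        (Coh.toGlobal (X ↘ Spec (CommRingCat.of R)) (π ^ N)) w).trans ?_).trans (map_zero _).symm
      rw [map_pow]
      exact hN
    have h1 : π ^ N * tr (δK R hS 0 1 rfl w) = 0 := by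
      rw [← smul_eq_mul, ← map_smul, ← map_smul, hw, map_zero, map_zero]
    exact (mul_eq_zero.1 h1).resolve_left (pow_ne_zero _ hπ.ne_zero)
  have hle : LinearMap.ker (mapK R η 1) ≤ LinearMap.ker tr := fun z hz => hker z hz
  let t : Coh.HH X G 1 →ₗ[R] R :=
    (LinearMap.ker (mapK R η 1)).liftQ tr hle ∘ₗ
      ((mapK R η 1).quotKerEquivOfSurjective hsurj).symm.toLinearMap
  have ht : ∀ z, t (mapK R η 1 z) = tr z := fun z => by
    show (LinearMap.ker (mapK R η 1)).liftQ tr hle
      (((mapK R η 1).quotKerEquivOfSurjective hsurj).symm (mapK R η 1 z)) = tr z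
    rw [show ((mapK R η 1).quotKerEquivOfSurjective hsurj).symm (mapK R η 1 z) = Submodule.Quotient.mk z from
      (LinearEquiv.symm_apply_eq _).2 rfl, Submodule.liftQ_apply]
  obtain ⟨ψ, hψ⟩ := (hbij G hGq).2 t
  have h1 : η ≫ ψ = 𝟙 ω := (hbij ω hq).1 (LinearMap.ext fun z => by
    show tr (mapK R (η ≫ ψ) 1 z) = tr (mapK R (𝟙 ω) 1 z)
    rw [mapK_comp, mapK_id, LinearMap.id_apply, LinearMap.comp_apply, ← ht z, ← hψ]
    rfl)
  have h2 : ψ ≫ η = 𝟙 G := by
    apply ((Scheme.Modules.restrictAdjunction U.ι).homEquiv _ _).symm.injective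
    simp only [Adjunction.homEquiv_counit]
    congr 1
    haveI : IsIso ((Scheme.Modules.restrictFunctor U.ι).map η) := isIso_map_unit U.ι ω
    rw [← cancel_epi ((Scheme.Modules.restrictFunctor U.ι).map η), ← Functor.map_comp, ← Functor.map_comp,
      reassoc_of% h1, Category.comp_id]
  exact ⟨ψ, h1, h2⟩

/-- Let R be a discrete valuation ring with fraction field K, let C be a proper K-curve which is smooth
of relative dimension 1 and geometrically connected over K, and let X be a model of C over R (flat
and of finite type over R with generic fibre C) which is proper over R and normal; so X is a proper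
relative curve over R, integral of dimension 2. Let (ω, tr) be a 1-dualizing pair for X over R: ω is
a quasi-coherent O_X-module and tr : H¹(X, ω) → R an R-linear map such that φ ↦ tr ∘ H¹(φ) is a
bijection from Hom(F, ω) onto Hom_R(H¹(X, F), R) for every quasi-coherent F (such a pair is a
relative dualizing sheaf of X over R with its trace, and is unique up to isomorphism). Let U ⊆ X be
an open subscheme whose complement is a finite set of closed points of X (these lie in the closed
fibre and have codimension 2). Then the canonical map from ω to the direct image of its restriction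
to U is an isomorphism: for every open V ⊆ X the restriction map ω(V) → ω(V ∩ U) is bijective. (The
published statement is for a relative curve which need not be proper and for the relative dualizing
sheaf of duality theory; this row takes X proper over R, where a 1-dualizing pair in the above
global-sections sense determines that sheaf up to isomorphism.) -/
theorem result (R : Type u) [CommRing R] [IsDomain R] [IsDiscreteValuationRing R]
    (X C : Scheme.{u}) [X.Over (Spec (CommRingCat.of R))]
    (f : C ⟶ Spec (CommRingCat.of (FractionRing R)))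
    [SmoothOfRelativeDimension 1 f] [IsProper f] [GeometricallyConnected f]
    (hX : Models.IsModel R X (X ↘ Spec (CommRingCat.of R)) C f)
    [IsProper (X ↘ Spec (CommRingCat.of R))] (hn : Pi1.IsNormalScheme X)
    (ω : X.Modules) (tr : Coh.HH X ω 1 →ₗ[R] R) (hω : Canon.IsRDualOver R X 1 ω tr)
    (U : X.Opens) (hfin : ((U : Set X)ᶜ).Finite) (hcl : ∀ x : X, x ∉ U → IsClosed ({x} : Set X))
    (V : X.Opens) :
    Function.Bijective (ω.presheaf.map (homOfLE (inf_le_left : V ⊓ U ≤ V)).op).hom := by
  haveI := bijective_unit hω U hcl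
  haveI : IsIso (((Scheme.Modules.restrictAdjunction U.ι).unit.app ω).app V) := inferInstance
  have h := ConcreteCategory.bijective_of_isIso (((Scheme.Modules.restrictAdjunction U.ι).unit.app ω).app V)
  rw [Scheme.Modules.restrictAdjunction_unit_app_app] at h
  have hW : ∀ (W₁ W₂ : X.Opens) (h₁ : W₁ ≤ V) (h₂ : W₂ ≤ V), W₁ = W₂ →
      Function.Bijective (ω.presheaf.map (homOfLE h₁).op).hom → Function.Bijective (ω.presheaf.map (homOfLE h₂).op).hom := by
    rintro W₁ _ h₁ h₂ rfl hb; exact hb
  refine hW _ _ _ _ ?_ h
  rw [Scheme.Hom.image_preimage_eq_opensRange_inf, Scheme.Opens.opensRange_ι, inf_comm]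

end Groth.Agent.S14190
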