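import Groth.Statements.S14191
import Groth.Agent.Lib.ModelFibre.SmoothModel
import Groth.Agent.Lib.ModelFibre.GlobalFun
import Groth.Agent.Lib.QCoh.Closure
import Groth.Agent.Lib.ExtHH.Basic
import Groth.Agent.Lib.Curves.GlobalSections
import Groth.Agent.Lib.ClSub.Quot
import Groth.Agent.Lib.SurfInt.Effective
import Groth.Agent.Lib.Snapper.Twist
import Groth.Agent.H2.Rigid.Smooth
import Groth.Agent.H2.Rigid.H0
import Groth.Agent.Lib.Ample.QAffCrit
import Groth.Agent.S0002

set_option autoImplicit false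
set_option linter.style.haveILetI false
universe u
open CategoryTheory CategoryTheory.Limits AlgebraicGeometry Opposite
open Models

namespace Groth.Agent.S14191

open Groth.Agent.Lib TopologicalSpace Opposite
open Groth.Agent.Lib.Curves.LES (mapK δK exactK₂ exactK₃ exactK₁ mapK_comp mapK_id)
open Groth.Agent.Lib.ExtHH.Basic (η₁ bijective_η₁ homCst subsingleton_ext_injective)

section General

variable {R : Type u} [CommRing R] {X : Scheme.{u}} [X.Over (Spec (CommRingCat.of R))]

theorem extClass_natural {C : Type*} [Category.{u} C] [Abelian C] [HasExt.{u} C] {Y : C}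
    {S S' : ShortComplex C} (hS : S.ShortExact) (hS' : S'.ShortExact) (φ : S ⟶ S') {n n' : ℕ} (h : n + 1 = n')
    (x : CategoryTheory.Abelian.Ext Y S.X₃ n) :
    (x.comp (CategoryTheory.Abelian.Ext.mk₀ φ.τ₃) (add_zero n)).comp hS'.extClass h =
      (x.comp hS.extClass h).comp (CategoryTheory.Abelian.Ext.mk₀ φ.τ₁) (add_zero n') := by
  rw [CategoryTheory.Abelian.Ext.comp_assoc_of_second_deg_zero,
    CategoryTheory.Abelian.Ext.comp_assoc_of_third_deg_zero,
    ShortComplex.ShortExact.extClass_naturality hS hS' φ]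

theorem δK_natural {S S' : ShortComplex X.Modules} (hS : S.ShortExact) (hS' : S'.ShortExact) (φ : S ⟶ S')
    (n n' : ℕ) (h : n + 1 = n') (x : Coh.HH X S.X₃ n) :
    δK R hS' n n' h (mapK R φ.τ₃ n x) = mapK R φ.τ₁ n' (δK R hS n n' h x) :=
  @extClass_natural (Sheaf (Opens.grothendieckTopology X) AddCommGrpCat.{u}) _ _ _ (Curves.LES.cst X)
    (Curves.LES.abSES S) (Curves.LES.abSES S') (Curves.LES.shortExact_abSES hS) (Curves.LES.shortExact_abSES hS')
    ((Curves.LES.F X).mapShortComplex.map φ) n n' h x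

/-- The class `1` in `H⁰(X, O)`. -/
noncomputable def unitClass (X : Scheme.{u}) : Coh.HH X (Coh.structureModule X) 0 :=
  CategoryTheory.Abelian.Ext.mk₀ (η₁ X)

omit [X.Over (Spec (CommRingCat.of R))] in
theorem h0Equiv_unitClass :
    Curves.GlobalSections.h0Equiv (Coh.structureModule X) (unitClass X) =
      (show ((Coh.structureModule X).val.obj (op ⊤) : Type u) from (1 : Γ(X, ⊤))) :=
  (homCst (Coh.toAb (Coh.structureModule X))).apply_symm_apply _

theorem exists_hom {M : X.Modules} (w : Coh.HH X M 0) :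
    ∃ q : Coh.structureModule X ⟶ M, mapK R q 0 (unitClass X) = w := by
  obtain ⟨f, rfl⟩ := (CategoryTheory.Abelian.Ext.mk₀_bijective _ _).2 w
  obtain ⟨q, rfl⟩ := (bijective_η₁ M).2 f
  exact ⟨q, CategoryTheory.Abelian.Ext.mk₀_comp_mk₀ _ _⟩

/-- Classes in `H¹(X, M)` are those of extensions of `O_X` by `M`. -/
theorem exists_extension {M : X.Modules} (hM : M.IsQuasicoherent) (z : Coh.HH X M 1) :
    ∃ (E : X.Modules) (f : M ⟶ E) (g : E ⟶ Coh.structureModule X) (hfg : f ≫ g = 0)
      (hS : (ShortComplex.mk f g hfg).ShortExact), E.IsQuasicoherent ∧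
      δK R hS 0 1 rfl (unitClass X) = z := by
  haveI : M.IsQuasicoherent := hM
  obtain ⟨I⟩ : Nonempty (InjectivePresentation M) := EnoughInjectives.presentation M
  haveI := I.injective
  haveI := I.mono
  let S₀ : ShortComplex X.Modules := ShortComplex.mk I.f (cokernel.π I.f) (cokernel.condition _)
  have hS₀ : S₀.ShortExact := { exact := ShortComplex.exact_cokernel I.f }
  haveI : Subsingleton (Coh.HH X S₀.X₂ 1) := subsingleton_ext_injective I.J 0
  obtain ⟨w, hw⟩ := (exactK₁ R hS₀ 0 1 rfl z).1 (Subsingleton.elim _ _)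
  obtain ⟨q, hq⟩ := exists_hom (R := R) w
  let E := pullback S₀.g q
  let f : M ⟶ E := pullback.lift I.f 0 (by simp [S₀])
  let g : E ⟶ Coh.structureModule X := pullback.snd _ _
  haveI : Mono f := mono_of_mono_fac (pullback.lift_fst I.f 0 _)
  haveI : Epi g := inferInstanceAs (Epi (pullback.snd S₀.g q))
  have hfg : f ≫ g = 0 := pullback.lift_snd _ _ _
  have hker : IsLimit (KernelFork.ofι f hfg) :=
    KernelFork.IsLimit.ofι f hfg
      (fun k hk => hS₀.fIsKernel.lift (KernelFork.ofι (k ≫ pullback.fst S₀.g q) (by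
        rw [Category.assoc, pullback.condition, reassoc_of% hk, zero_comp])))
      (fun k hk => by
        apply pullback.hom_ext
        · rw [Category.assoc, pullback.lift_fst]
          exact hS₀.fIsKernel.fac _ WalkingParallelPair.zero
        · rw [Category.assoc, pullback.lift_snd, comp_zero]
          exact hk.symm)
      (fun k hk m hm => by
        haveI : Mono S₀.f := I.mono
        rw [← cancel_mono S₀.f]
        refine (show m ≫ I.f = k ≫ pullback.fst S₀.g q from ?_).trans
          (hS₀.fIsKernel.fac (KernelFork.ofι (k ≫ pullback.fst S₀.g q) _) WalkingParallelPair.zero).symm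
        rw [← hm, Category.assoc, pullback.lift_fst])
  have hS : (ShortComplex.mk f g hfg).ShortExact :=
    { exact := ShortComplex.exact_of_f_is_kernel _ hker }
  let φ : ShortComplex.mk f g hfg ⟶ S₀ :=
    { τ₁ := 𝟙 M
      τ₂ := pullback.fst _ _
      τ₃ := q
      comm₁₂ := (Category.id_comp _).trans (pullback.lift_fst _ _ _).symm
      comm₂₃ := pullback.condition }
  refine ⟨E, f, g, hfg, hS, ?_, ?_⟩
  · haveI : (ShortComplex.mk f g hfg).X₁.IsQuasicoherent := hM
    haveI : (ShortComplex.mk f g hfg).X₃.IsQuasicoherent := (Snapper.Twist.isCoh_structureModule X).1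
    exact QCoh.Closure.isQCoh_of_extension hS
  · have h := δK_natural (R := R) hS hS₀ φ 0 1 rfl (unitClass X)
    rw [show mapK R φ.τ₃ 0 (unitClass X) = w from hq, hw, show φ.τ₁ = 𝟙 M from rfl, mapK_id] at h
    exact h.symm

variable [IsDomain R] [IsPrincipalIdealRing R]

theorem free_submodule {M : Type u} [AddCommGroup M] [Module R M] [Module.Finite R M] [Module.Free R M]
    (N : Submodule R M) : Module.Free R N := by
  haveI : Module.Finite R N := Module.Finite.iff_fg.2 (IsNoetherian.noetherian N)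
  infer_instance

theorem trace_injective (hglob : Function.Bijective (Coh.toGlobal (X ↘ Spec (CommRingCat.of R))))
    [Module.Finite R (Coh.HH X (Coh.structureModule X) 1)]
    [Module.Free R (Coh.HH X (Coh.structureModule X) 1)]
    {ω : X.Modules} {tr : Coh.HH X ω 1 →ₗ[R] R} (hω : Canon.IsRDualOver R X 1 ω tr) :
    Function.Injective tr := by
  obtain ⟨hq, hbij⟩ := hω
  refine (injective_iff_map_eq_zero tr).2 fun z hz => ?_
  obtain ⟨E, f, g, hfg, hS, hE, hδ⟩ := exists_extension (R := R) hq z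
  set f₁ := mapK R f 1 with hf₁
  set g₁ := mapK R g 1 with hg₁
  have hker : LinearMap.ker f₁ ≤ LinearMap.ker tr := by
    intro y hy
    obtain ⟨x, rfl⟩ := (exactK₁ R hS 0 1 rfl y).1 hy
    letI := Curves.GlobalSections.secModule R (Coh.structureModule X)
    obtain ⟨r, hr⟩ := hglob.2 (Curves.GlobalSections.h0Equiv (Coh.structureModule X) x)
    have hx : x = r • unitClass X := by
      apply (Curves.GlobalSections.h0Linear R (Coh.structureModule X)).injective
      rw [map_smul]
      show Curves.GlobalSections.h0Equiv _ x = r • Curves.GlobalSections.h0Equiv _ (unitClass X)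
      rw [h0Equiv_unitClass, ← hr]
      exact (mul_one (Coh.toGlobal (X ↘ Spec (CommRingCat.of R)) r)).symm
    show tr _ = 0
    rw [hx, map_smul, map_smul]
    have : tr (δK R hS 0 1 rfl (unitClass X)) = 0 := by rw [hδ]; exact hz
    exact (congrArg (r • ·) this).trans (smul_zero r)
  have hexact : LinearMap.ker g₁ = LinearMap.range f₁ := (exactK₂ R hS 1).linearMap_ker_eq
  haveI : Module.Free R (LinearMap.range g₁) := free_submodule _
  obtain ⟨sec, hsec⟩ := Module.projective_lifting_property g₁.rangeRestrict LinearMap.id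
    g₁.surjective_rangeRestrict
  let t₀ : LinearMap.range f₁ →ₗ[R] R :=
    (LinearMap.ker f₁).liftQ tr hker ∘ₗ f₁.quotKerEquivRange.symm.toLinearMap
  have ht₀ : ∀ y, t₀ (f₁.rangeRestrict y) = tr y := fun y => by
    show (LinearMap.ker f₁).liftQ tr hker (f₁.quotKerEquivRange.symm _) = tr y
    rw [show f₁.quotKerEquivRange.symm (f₁.rangeRestrict y) = Submodule.Quotient.mk y from
      (LinearEquiv.symm_apply_eq _).2 rfl, Submodule.liftQ_apply]
  let p : Coh.HH X E 1 →ₗ[R] LinearMap.range f₁ :=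
    (LinearMap.id - sec ∘ₗ g₁.rangeRestrict).codRestrict _ fun v => by
      rw [← hexact, LinearMap.mem_ker]
      show g₁ (v - sec (g₁.rangeRestrict v)) = 0
      rw [map_sub, sub_eq_zero]
      exact (congrArg Subtype.val (LinearMap.congr_fun hsec (g₁.rangeRestrict v))).symm
  obtain ⟨φ, hφ⟩ := (hbij E hE).2 (t₀ ∘ₗ p)
  have hid : f ≫ φ = 𝟙 ω := (hbij ω hq).1 (LinearMap.ext fun y => by
    show tr (mapK R (f ≫ φ) 1 y) = tr (mapK R (𝟙 ω) 1 y)
    rw [mapK_comp, mapK_id, LinearMap.id_apply, LinearMap.comp_apply]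
    refine (show tr (mapK R φ 1 (f₁ y)) = t₀ (p (f₁ y)) from LinearMap.congr_fun hφ (f₁ y)).trans ?_
    have hp : p (f₁ y) = f₁.rangeRestrict y := by
      refine Subtype.ext ?_
      show f₁ y - sec (g₁.rangeRestrict (f₁ y)) = f₁ y
      rw [show g₁.rangeRestrict (f₁ y) = 0 from Subtype.ext ((exactK₂ R hS 1).apply_apply_eq_zero y),
        map_zero, sub_zero]
    rw [hp, ht₀])
  have h0 : f₁ z = 0 := by
    rw [← hδ]
    exact (exactK₁ R hS 0 1 rfl).apply_apply_eq_zero _
  calc z = mapK R (f ≫ φ) 1 z := by rw [hid, mapK_id]; rfl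
    _ = 0 := by rw [mapK_comp, LinearMap.comp_apply, show mapK R f 1 z = 0 from h0, map_zero]

end General

theorem exists_two_closed {K : Type u} [Field K] {C : Scheme.{u}} (f : C ⟶ Spec (CommRingCat.of K))
    [SmoothOfRelativeDimension 1 f] [AlgebraicGeometry.IsIntegral C] :
    ∃ c₁ c₂ : C, c₁ ≠ c₂ ∧ IsClosed ({c₁} : Set C) ∧ IsClosed ({c₂} : Set C) := by
  haveI : Smooth f := SmoothOfRelativeDimension.smooth 1 f
  haveI : JacobsonSpace C := LocallyOfFiniteType.jacobsonSpace f
  have hgen : ¬ IsClosed ({genericPoint C} : Set C) := by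
    intro hcl
    haveI : Subsingleton C := ⟨fun a b => by
      have h : ∀ y : C, y = genericPoint C := fun y =>
        (genericPoint_specializes y).mem_closed hcl rfl
      rw [h a, h b]⟩
    obtain ⟨V, hV, U, hU, hx, e, hs⟩ :=
      SmoothOfRelativeDimension.exists_isStandardSmoothOfRelativeDimension (n := 1) (f := f) (genericPoint C)
    obtain rfl : V = ⊤ := top_le_iff.1 fun y _ => by
      rw [Subsingleton.elim (α := PrimeSpectrum K) y (f (genericPoint C))]
      exact e hx
    haveI : Nonempty U := ⟨⟨_, hx⟩⟩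
    let ψ : K →+* Γ(C, U) := (f.appLE ⊤ U e).hom.comp (Scheme.ΓSpecIso (CommRingCat.of K)).inv.hom
    have hψ : ψ.IsStandardSmoothOfRelativeDimension 1 :=
      RingHom.isStandardSmoothOfRelativeDimension_respectsIso.2 (f.appLE ⊤ U e).hom
        (Scheme.ΓSpecIso (CommRingCat.of K)).symm.commRingCatIsoToRingEquiv hs
    letI := ψ.toAlgebra
    haveI : Algebra.IsStandardSmoothOfRelativeDimension 1 K Γ(C, U) := hψ
    obtain ⟨g, hg⟩ :=
      Algebra.IsStandardSmoothOfRelativeDimension.exists_etale_mvPolynomial (n := 1) K Γ(C, U)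
    haveI : Subsingleton (PrimeSpectrum Γ(C, U)) :=
      ⟨fun a b => hU.fromSpec.isOpenEmbedding.injective (Subsingleton.elim _ _)⟩
    have hfield : IsField Γ(C, U) := by
      by_contra hnf
      obtain ⟨P, hP0, hP⟩ := Ring.not_isField_iff_exists_prime.1 hnf
      exact hP0 (congrArg PrimeSpectrum.asIdeal
        (Subsingleton.elim (⟨P, hP⟩ : PrimeSpectrum Γ(C, U)) ⟨⊥, Ideal.isPrime_bot⟩))
    letI := hfield.toField
    haveI : Algebra.IsStandardSmooth K Γ(C, U) :=
      Algebra.IsStandardSmoothOfRelativeDimension.isStandardSmooth 1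
    haveI : Module.Finite K Γ(C, U) := finite_of_finite_type_of_isJacobsonRing K Γ(C, U)
    letI := g.toRingHom.toAlgebra
    haveI : Algebra.Etale (MvPolynomial (Fin 1) K) Γ(C, U) := hg
    have hinj : Function.Injective g := fun a b hab => by
      by_contra hne
      have hreg : IsSMulRegular Γ(C, U) (a - b) :=
        (IsSMulRegular.of_ne_zero (sub_ne_zero.2 hne)).of_flat
      have h0 : g (a - b) = 0 := by rw [map_sub, hab, sub_self]
      exact one_ne_zero (hreg (a₁ := (1 : Γ(C, U))) (a₂ := 0) (by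
        show g (a - b) * 1 = g (a - b) * 0
        rw [h0, zero_mul, zero_mul]))
    haveI := Module.Finite.of_injective g.toLinearMap hinj
    exact MvPolynomial.transcendental_X K (0 : Fin 1) (IsIntegral.of_finite K _).isAlgebraic
  obtain ⟨c₁, -, hc₁⟩ := nonempty_inter_closedPoints (Z := (Set.univ : Set C)) Set.univ_nonempty
    isClosed_univ.isLocallyClosed
  obtain ⟨c₂, hc₂, hc₂'⟩ := nonempty_inter_closedPoints (Z := ({c₁}ᶜ : Set C))
    ⟨genericPoint C, fun h => hgen (by rw [show genericPoint C = c₁ from h]; exact hc₁)⟩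
    (IsOpen.isLocallyClosed hc₁.isOpen_compl)
  exact ⟨c₁, c₂, fun h => hc₂ h.symm, hc₁, hc₂'⟩

variable {R : Type u} [CommRing R] [IsDomain R] [IsDiscreteValuationRing R] {X C : Scheme.{u}}
  [X.Over (Spec (CommRingCat.of R))] [IsProper (X ↘ Spec (CommRingCat.of R))]

theorem isUnit_germ_glob {Y : Scheme.{u}} (q : Y ⟶ Spec (CommRingCat.of R)) (y : Y) (r : R)
    (hy : (q y).asIdeal = ⊥) (hr : r ≠ 0) : IsUnit (Y.presheaf.germ ⊤ y trivial (Coh.toGlobal q r)) := by
  refine (Scheme.mem_basicOpen Y (Coh.toGlobal q r) y trivial).1 ?_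
  show y ∈ Y.basicOpen (ModelFibre.RegularExt.glob q r)
  rw [ModelFibre.RegularExt.basicOpen_toGlobal]
  show r ∉ (q y).asIdeal
  rw [hy]
  simpa using hr

theorem exists_separating {Z : Scheme.{u}} (q : Z ⟶ Spec (CommRingCat.of R)) [IsProper q] {π : R}
    (hπ : Irreducible π) (z₁ z₂ : Z) (hne : z₁ ≠ z₂) (h₁ : (q z₁).asIdeal = ⊥) (h₂ : (q z₂).asIdeal = ⊥)
    (hall : ∀ y : Z, π ∉ (q y).asIdeal → y = z₁ ∨ y = z₂)
    (hsp : ¬ z₁ ⤳ z₂) (hsp' : ¬ z₂ ⤳ z₁) :
    ∃ s : Γ(Z, ⊤), ∀ (m : ℕ) (r : R),
      ModelFibre.RegularExt.glob q (π ^ m) * s ≠ ModelFibre.RegularExt.glob q r := by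
  haveI : CompactSpace Z := QuasiCompact.compactSpace_of_compactSpace q
  haveI : QuasiSeparatedSpace Z := quasiSeparatedSpace_of_quasiSeparated q
  set t : Γ(Z, ⊤) := ModelFibre.RegularExt.glob q π with ht
  have hD : ∀ y, y ∈ Z.basicOpen t ↔ π ∉ (q y).asIdeal := fun y => by
    rw [ht, ModelFibre.RegularExt.basicOpen_toGlobal]; rfl
  have hm₁ : z₁ ∈ Z.basicOpen t := (hD _).2 (by rw [h₁]; simpa using hπ.ne_zero)
  have hm₂ : z₂ ∈ Z.basicOpen t := (hD _).2 (by rw [h₂]; simpa using hπ.ne_zero)
  let O₁ : Z.Opens := Z.basicOpen t ⊓ ⟨(closure {z₂})ᶜ, isClosed_closure.isOpen_compl⟩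
  let O₂ : Z.Opens := Z.basicOpen t ⊓ ⟨(closure {z₁})ᶜ, isClosed_closure.isOpen_compl⟩
  have hz₁ : z₁ ∈ O₁ := ⟨hm₁, fun h => hsp' (specializes_iff_mem_closure.2 h)⟩
  have hz₂ : z₂ ∈ O₂ := ⟨hm₂, fun h => hsp (specializes_iff_mem_closure.2 h)⟩
  have hdisj : O₁ ⊓ O₂ = ⊥ := le_bot_iff.1 fun y hy => by
    rcases hall y ((hD y).1 hy.1.1) with rfl | rfl
    · exact ((hy.2.2 : y ∉ closure {y}) (subset_closure rfl)).elim
    · exact ((hy.1.2 : y ∉ closure {y}) (subset_closure rfl)).elim
  let W : Bool → Z.Opens := fun b => cond b O₁ O₂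
  let sf : ∀ b, Γ(Z, W b) := fun b => match b with | true => 1 | false => 0
  have hle : ∀ b, W b ≤ Z.basicOpen t := fun b => by cases b <;> exact inf_le_left
  obtain ⟨σ, hσ, -⟩ := TopCat.Sheaf.existsUnique_gluing' Z.sheaf W (Z.basicOpen t)
    (fun b => homOfLE (hle b)) (fun y hy => by
      rcases hall y ((hD y).1 hy) with rfl | rfl
      · exact TopologicalSpace.Opens.mem_iSup.2 ⟨true, hz₁⟩
      · exact TopologicalSpace.Opens.mem_iSup.2 ⟨false, hz₂⟩) sf (fun i j => by
      cases i <;> cases j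
      · rfl
      · haveI : Subsingleton Γ(Z, W false ⊓ W true) := by
          rw [show W false ⊓ W true = ⊥ from (inf_comm _ _).trans hdisj]; infer_instance
        exact Subsingleton.elim (α := Γ(Z, W false ⊓ W true)) _ _
      · haveI : Subsingleton Γ(Z, W true ⊓ W false) := by
          rw [show W true ⊓ W false = ⊥ from hdisj]; infer_instance
        exact Subsingleton.elim (α := Γ(Z, W true ⊓ W false)) _ _
      · rfl)
  have hloc := isLocalization_basicOpen_of_qcqs (X := Z) (U := ⊤) isCompact_univ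
    (isQuasiSeparated_univ_iff.2 inferInstance) t
  obtain ⟨⟨s, ⟨_, n, rfl⟩⟩, hs⟩ := IsLocalization.surj (Submonoid.powers t) (show Γ(Z, Z.basicOpen t) from σ)
  have hres : ∀ (y : Z) (hy : y ∈ Z.basicOpen t) (a : Γ(Z, ⊤)),
      Z.presheaf.germ _ y hy (algebraMap Γ(Z, ⊤) Γ(Z, Z.basicOpen t) a) = Z.presheaf.germ ⊤ y trivial a :=
    fun y hy a => Z.presheaf.germ_res_apply _ y hy a
  have hs' : ∀ (y : Z) (hy : y ∈ Z.basicOpen t),
      Z.presheaf.germ _ y hy σ * Z.presheaf.germ ⊤ y trivial (t ^ n) = Z.presheaf.germ ⊤ y trivial s :=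
    fun y hy => by
      rw [← hres y hy (t ^ n), ← hres y hy s]
      exact (map_mul (Z.presheaf.germ _ y hy).hom _ _).symm.trans (congrArg _ hs)
  have g₁ : Z.presheaf.germ ⊤ z₁ trivial s = Z.presheaf.germ ⊤ z₁ trivial (t ^ n) := by
    rw [← hs' z₁ hm₁, ← Z.presheaf.germ_res_apply (homOfLE (hle true)) z₁ hz₁ σ]
    refine Eq.trans ?_ (one_mul _)
    congr 1
    exact (congrArg (Z.presheaf.germ (W true) z₁ hz₁) (hσ true)).trans (map_one _)
  have g₂ : Z.presheaf.germ ⊤ z₂ trivial s = 0 := by
    rw [← hs' z₂ hm₂, ← Z.presheaf.germ_res_apply (homOfLE (hle false)) z₂ hz₂ σ]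
    refine Eq.trans ?_ (zero_mul (Z.presheaf.germ ⊤ z₂ trivial (t ^ n)))
    congr 1
    exact (congrArg (Z.presheaf.germ (W false) z₂ hz₂) (hσ false)).trans (map_zero _)
  refine ⟨s, fun m r h => ?_⟩
  have e₂ := congrArg (Z.presheaf.germ ⊤ z₂ trivial) h
  rw [map_mul, g₂, mul_zero] at e₂
  have hr : r = 0 := by
    by_contra hr
    exact (isUnit_germ_glob q z₂ r h₂ hr).ne_zero e₂.symm
  subst hr
  have e₁ := congrArg (Z.presheaf.germ ⊤ z₁ trivial) h
  rw [map_mul, g₁, map_zero, map_zero] at e₁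
  refine (IsUnit.mul (isUnit_germ_glob q z₁ (π ^ m) h₁ (pow_ne_zero _ hπ.ne_zero)) ?_).ne_zero e₁
  rw [map_pow]
  exact (isUnit_germ_glob q z₁ π h₁ hπ.ne_zero).pow n

theorem trace_ne_zero (f : C ⟶ Spec (CommRingCat.of (FractionRing R))) (g : C ⟶ X)
    (hg : IsPullback g f (X ↘ Spec (CommRingCat.of R))
      (Spec.map (CommRingCat.ofHom (algebraMap R (FractionRing R)))))
    [SmoothOfRelativeDimension 1 f] [AlgebraicGeometry.IsIntegral C]
    (hglob : Function.Bijective (Coh.toGlobal (X ↘ Spec (CommRingCat.of R))))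
    (hfree : Module.Free R (Coh.HH X (Coh.structureModule X) 1))
    {ω : X.Modules} {tr : Coh.HH X ω 1 →ₗ[R] R} (hω : Canon.IsRDualOver R X 1 ω tr) : tr ≠ 0 := by
  intro h0
  obtain ⟨hq, hbij⟩ := hω
  haveI : IsLocallyNoetherian X := LocallyOfFiniteType.isLocallyNoetherian (X ↘ Spec (CommRingCat.of R))
  have hdual : ∀ F : X.Modules, Coh.IsQCoh F → ∀ l : Coh.HH X F 1 →ₗ[R] R, l = 0 := fun F hF l => by
    obtain ⟨φ, rfl⟩ := (hbij F hF).2 l
    exact LinearMap.ext fun v => LinearMap.congr_fun h0 _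
  haveI := hfree
  haveI : Subsingleton (Coh.HH X (Coh.structureModule X) 1) := by
    refine subsingleton_of_forall_eq 0 fun v => ?_
    refine (Module.Free.chooseBasis R (Coh.HH X (Coh.structureModule X) 1)).repr.injective (Finsupp.ext fun i => ?_)
    rw [map_zero, Finsupp.zero_apply]
    exact LinearMap.congr_fun (hdual _ (Snapper.Twist.isCoh_structureModule X).1
      ((Module.Free.chooseBasis R (Coh.HH X (Coh.structureModule X) 1)).coord i)) v
  obtain ⟨π, hπ⟩ := IsDiscreteValuationRing.exists_irreducible R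
  haveI := ModelFibre.SmoothGeneric.isOpenImmersion_gK hg
  have hrange := ModelFibre.SmoothGeneric.range_gK hg hπ
  obtain ⟨c₁, c₂, hne, hc₁, hc₂⟩ := exists_two_closed f
  set p := X ↘ Spec (CommRingCat.of R) with hp
  have hbot : ∀ c : C, (p (g c)).asIdeal = ⊥ := fun c => by
    have h1 : p (g c) = Spec.map (CommRingCat.ofHom (algebraMap R (FractionRing R))) (f c) := by
      rw [← Scheme.Hom.comp_apply, hg.w, Scheme.Hom.comp_apply]
    rw [h1]
    show Ideal.comap (algebraMap R (FractionRing R)) (f c).asIdeal = ⊥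
    rw [@Ideal.eq_bot_of_prime (FractionRing R) _ (f c).asIdeal (show (f c).asIdeal.IsPrime from PrimeSpectrum.isPrime _)]
    exact (RingHom.injective_iff_ker_eq_bot _).1 (IsFractionRing.injective R (FractionRing R))
  let T : Closeds X := ⟨closure {g c₁, g c₂}, isClosed_closure⟩
  let I := Scheme.IdealSheafData.vanishingIdeal T
  let i := I.subschemeι
  have hi : Set.range i = closure {g c₁, g c₂} := by
    rw [Scheme.IdealSheafData.range_subschemeι, Scheme.IdealSheafData.coe_support_vanishingIdeal]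
    rfl
  obtain ⟨z₁, hz₁⟩ : g c₁ ∈ Set.range i := by rw [hi]; exact subset_closure (Or.inl rfl)
  obtain ⟨z₂, hz₂⟩ : g c₂ ∈ Set.range i := by rw [hi]; exact subset_closure (Or.inr rfl)
  have hginj : Function.Injective g := g.isOpenEmbedding.injective
  have hiinj : Function.Injective i := i.isEmbedding.injective
  have hnsp : ∀ {c c' : C}, IsClosed ({c} : Set C) → g c ⤳ g c' → c' = c := fun hc h =>
    ((g.isOpenEmbedding.isInducing.specializes_iff).1 h).mem_closed hc rfl
  obtain ⟨s, hs⟩ := exists_separating (i ≫ p) hπ z₁ z₂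
    (fun e => hne (hginj (hz₁.symm.trans ((congrArg i e).trans hz₂))))
    (by rw [Scheme.Hom.comp_apply, hz₁]; exact hbot c₁) (by rw [Scheme.Hom.comp_apply, hz₂]; exact hbot c₂)
    (fun y hy => by
      have hy1 : i y ∈ Set.range g := by
        rw [hrange, ModelFibre.RegularExt.basicOpen_toGlobal]
        rw [Scheme.Hom.comp_apply] at hy
        exact hy
      obtain ⟨c, hc⟩ := hy1
      have hy2 : i y ∈ closure ({g c₁} ∪ {g c₂} : Set X) := by
        rw [Set.singleton_union, ← hi]; exact ⟨y, rfl⟩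
      rw [closure_union, ← hc] at hy2
      rcases hy2 with h | h
      · exact Or.inl (hiinj ((hc.symm.trans (congrArg g (hnsp hc₁ (specializes_iff_mem_closure.2 h)))).trans hz₁.symm))
      · exact Or.inr (hiinj ((hc.symm.trans (congrArg g (hnsp hc₂ (specializes_iff_mem_closure.2 h)))).trans hz₂.symm)))
    (fun h => hne (hnsp hc₁ (hz₁ ▸ hz₂ ▸ h.map i.continuous)).symm)
    (fun h => hne (hnsp hc₂ (hz₁ ▸ hz₂ ▸ h.map i.continuous)))
  have hseq := ClSub.Quot.idealSeq_shortExact I
  haveI : Module.Finite R (Coh.HH X (_root_.ClSub.quotMod I) 0) :=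
    Groth.Agent.S0002.result R X _ (SurfInt.Effective.isCoh_quotMod I) 0
  have hsurj : Function.Surjective (δK R hseq 0 1 rfl) := fun v =>
    (exactK₁ R hseq 0 1 rfl v).1 (Subsingleton.elim (α := Coh.HH X (Coh.structureModule X) 1) _ _)
  haveI : Module.Finite R (Coh.HH X (ClSub.Quot.idealSeq I).X₃ 0) :=
    inferInstanceAs (Module.Finite R (Coh.HH X (_root_.ClSub.quotMod I) 0))
  haveI : Module.Finite R (Coh.HH X (_root_.ClSub.idealMod I) 1) := Module.Finite.of_surjective _ hsurj
  have htors : ∀ v : Coh.HH X (_root_.ClSub.idealMod I) 1, ∃ m : ℕ, π ^ m • v = 0 := by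
    intro v
    let N := Submodule.torsion R (Coh.HH X (_root_.ClSub.idealMod I) 1)
    have hv : v ∈ N := by
      rw [← Submodule.Quotient.mk_eq_zero]
      refine (Module.Free.chooseBasis R (_ ⧸ N)).repr.injective (Finsupp.ext fun i => ?_)
      rw [map_zero, Finsupp.zero_apply]
      exact LinearMap.congr_fun (hdual _ (Ample.QAffCrit.isQCoh_idealMod I)
        ((Module.Free.chooseBasis R (_ ⧸ N)).coord i ∘ₗ N.mkQ)) v
    obtain ⟨⟨a, ha⟩, hav⟩ := (Submodule.mem_torsion_iff v).1 hv
    obtain ⟨m, u, rfl⟩ := IsDiscreteValuationRing.eq_unit_mul_pow_irreducible (nonZeroDivisors.ne_zero ha) hπ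
    refine ⟨m, ?_⟩
    have hav' : (↑u * π ^ m) • v = 0 := hav
    rwa [mul_smul, ← Units.smul_def, smul_eq_zero_iff_eq] at hav'
  letI := Curves.GlobalSections.secModule R (_root_.ClSub.quotMod I)
  let e := (Curves.GlobalSections.h0Linear R (_root_.ClSub.quotMod I)).symm
    (show ((_root_.ClSub.quotMod I).val.obj (op ⊤) : Type u) from s)
  let e' : Coh.HH X (ClSub.Quot.idealSeq I).X₃ 0 := e
  obtain ⟨m, hm⟩ := htors (δK R hseq 0 1 rfl e')
  obtain ⟨x, hx⟩ := (exactK₃ R hseq 0 1 rfl _).1
    ((map_smul (δK R hseq 0 1 rfl) (π ^ m) e').trans hm)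
  obtain ⟨r, hr⟩ := hglob.2 (Curves.GlobalSections.h0Equiv (Coh.structureModule X) x)
  refine hs m r ?_
  let Q := _root_.ClSub.quotMod I
  let L : Coh.HH X Q 0 ≃ₗ[R] (Q.val.obj (op ⊤) : Type u) := Curves.GlobalSections.h0Linear R Q
  have hy : L (π ^ m • e) = π ^ m • (show (Q.val.obj (op ⊤) : Type u) from s) :=
    (map_smul L (π ^ m) e).trans (congrArg (π ^ m • ·) (LinearEquiv.apply_symm_apply L _))
  have hx' : L (mapK R (_root_.ClSub.toSubscheme I) 0 x) = L (π ^ m • e) := congrArg L hx
  refine (hx'.trans hy).symm.trans ?_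
  refine (Sheaf.H.equiv₀_naturality (f := Curves.LES.toAbMap (_root_.ClSub.toSubscheme I))
    (hT := isTerminalTop) x).symm.trans ?_
  exact (congrArg (fun a => (_root_.ClSub.toSubscheme I).app ⊤ a) hr.symm).trans rfl

/-- Let R be a discrete valuation ring with fraction field K, let C be a proper K-curve which is smooth
of relative dimension 1 and geometrically connected over K, and let X be a model of C over R (flat
and of finite type over R with generic fibre C) which is proper over R and normal; so X is a proper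
relative curve over R. Let (ω, tr) be a 1-dualizing pair for X over R: ω is a quasi-coherent
O_X-module and tr : H¹(X, ω) → R an R-linear map such that φ ↦ tr ∘ H¹(φ) is a bijection from Hom(F,
ω) onto Hom_R(H¹(X, F), R) for every quasi-coherent F. Suppose that H¹(X, O_X) is a free R-module,
which for such X says that X → Spec R is cohomologically flat in dimension 0. Then H¹(X, ω) is a
free R-module and its rank equals the rank of the free R-module H⁰(X, O_X); that is, H¹(X, ω) is
R-dual to H⁰(X, O_X) up to isomorphism. (The published statement is phrased for the relative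
dualizing sheaf of duality theory and its higher direct image R¹f_*; over the affine base Spec R a
1-dualizing pair in the above global-sections sense determines that sheaf up to isomorphism, and
local freeness of R¹f_* is freeness of H¹.) -/
theorem result (R : Type u) [CommRing R] [IsDomain R] [IsDiscreteValuationRing R]
    (X C : Scheme.{u}) [X.Over (Spec (CommRingCat.of R))]
    (f : C ⟶ Spec (CommRingCat.of (FractionRing R)))
    [SmoothOfRelativeDimension 1 f] [IsProper f] [GeometricallyConnected f]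
    (hX : Models.IsModel R X (X ↘ Spec (CommRingCat.of R)) C f)
    [IsProper (X ↘ Spec (CommRingCat.of R))] (hn : Pi1.IsNormalScheme X)
    (ω : X.Modules) (tr : Coh.HH X ω 1 →ₗ[R] R) (hω : Canon.IsRDualOver R X 1 ω tr)
    (hcf : Module.Free R (Coh.HH X (Coh.structureModule X) 1)) :
    Module.Free R (Coh.HH X ω 1) ∧
      Module.finrank R (Coh.HH X ω 1) = Module.finrank R (Coh.HH X (Coh.structureModule X) 0) := by
  obtain ⟨hflat, -, -, g, hg⟩ := hX
  haveI := hflat
  haveI : Smooth f := SmoothOfRelativeDimension.smooth 1 f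
  haveI : ConnectedSpace C := GeometricallyConnected.geometrically_connectedSpace (f := f)
    (𝟙 (Spec (CommRingCat.of (FractionRing R)))) (𝟙 C) f (IsPullback.of_horiz_isIso ⟨by simp⟩)
  haveI : AlgebraicGeometry.IsIntegral C := ModelFibre.SmoothGeneric.isIntegral_XK f
  haveI : AlgebraicGeometry.IsIntegral X := ModelFibre.SmoothModel.isIntegral (X ↘ Spec (CommRingCat.of R)) f g hg
  haveI : GeometricallyReduced f := Groth.Agent.H2.Rigid.geometricallyReduced_of_smooth f
  have hbc : IsPullback (𝟙 C) f f (𝟙 (Spec (CommRingCat.of (FractionRing R)))) := IsPullback.of_horiz_isIso ⟨by simp⟩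
  have hsurj := (Groth.Agent.H2.Rigid.H0.of_geometrically f).isPullback hbc
  haveI : Nonempty ((⊤ : C.Opens) : Set C) := ⟨⟨genericPoint C, trivial⟩⟩
  have hinj : Function.Injective f.appTop.hom := by
    have h1 : Function.Injective ((Scheme.ΓSpecIso (CommRingCat.of (FractionRing R))).inv ≫ f.appTop).hom :=
      RingHom.injective _
    intro a b h
    have hb := ConcreteCategory.bijective_of_isIso (Scheme.ΓSpecIso (CommRingCat.of (FractionRing R))).inv
    obtain ⟨a', rfl⟩ := hb.2 a
    obtain ⟨b', rfl⟩ := hb.2 b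
    exact congrArg _ (h1 h)
  have hglob := ModelFibre.GlobalFun.bijective_toGlobal (X ↘ Spec (CommRingCat.of R)) f g hg ⟨hinj, hsurj⟩
  haveI : IsLocallyNoetherian X := LocallyOfFiniteType.isLocallyNoetherian (X ↘ Spec (CommRingCat.of R))
  haveI : Module.Finite R (Coh.HH X (Coh.structureModule X) 1) :=
    Groth.Agent.S0002.result R X _ (Snapper.Twist.isCoh_structureModule X) 1
  haveI := hcf
  have htinj := trace_injective hglob hω
  have htne := trace_ne_zero f g hg hglob hcf hω
  let a : R := Submodule.IsPrincipal.generator (LinearMap.range tr)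
  have ha : a ≠ 0 := fun h => htne (LinearMap.range_eq_bot.1 ((Submodule.IsPrincipal.eq_bot_iff_generator_eq_zero _).2 h))
  let e : Coh.HH X ω 1 ≃ₗ[R] R :=
    ((LinearEquiv.ofInjective tr htinj).trans
      (LinearEquiv.ofEq _ _ (Submodule.IsPrincipal.span_singleton_generator (LinearMap.range tr)).symm)).trans
      (LinearEquiv.toSpanNonzeroSingleton R R a ha).symm
  letI := Curves.GlobalSections.secModule R (Coh.structureModule X)
  let L : R →ₗ[R] ((Coh.structureModule X).val.obj (op ⊤) : Type u) :=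
    { toFun := fun r => (show Γ(X, ⊤) from Coh.toGlobal (X ↘ Spec (CommRingCat.of R)) r)
      map_add' := fun r s => map_add (Coh.toGlobal (X ↘ Spec (CommRingCat.of R))) r s
      map_smul' := fun r s => map_mul (Coh.toGlobal (X ↘ Spec (CommRingCat.of R))) r s }
  let e₀ : Coh.HH X (Coh.structureModule X) 0 ≃ₗ[R] R :=
    (Curves.GlobalSections.h0Linear R (Coh.structureModule X)).trans (LinearEquiv.ofBijective L hglob).symm
  exact ⟨Module.Free.of_equiv e.symm, e.finrank_eq.trans e₀.finrank_eq.symm⟩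

end Groth.Agent.S14191
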