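import Groth.Statements.S14192


set_option autoImplicit false
open PowerSeries
open StackCount

namespace Groth.Agent.S14192


open PowerSeries in
/-- `A` has constant term 1 and logarithmic derivative `c`. -/
def LD (A c : PowerSeries ℚ) : Prop :=
  constantCoeff A = 1 ∧ d⁄dX ℚ A = A * c

open PowerSeries in
theorem LD.mul {A B c e : PowerSeries ℚ} (hA : LD A c) (hB : LD B e) : LD (A * B) (c + e) := by
  refine ⟨by rw [map_mul, hA.1, hB.1, _root_.mul_one], ?_⟩
  rw [Derivation.leibniz, hA.2, hB.2]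
  simp only [smul_eq_mul]
  ring

open PowerSeries in
theorem LD.one : LD (1 : PowerSeries ℚ) 0 := ⟨map_one _, by simp⟩

open PowerSeries in
theorem LD.pow {A c : PowerSeries ℚ} (hA : LD A c) : ∀ n : ℕ, LD (A ^ n) ((n : PowerSeries ℚ) * c)
  | 0 => by simpa using LD.one
  | n + 1 => by
      have := (LD.pow hA n).mul hA
      rw [pow_succ, Nat.cast_succ, add_mul, _root_.one_mul]
      exact this

open PowerSeries in
theorem LD.prod {ι' : Type} (s : Finset ι') (A c : ι' → PowerSeries ℚ)
    (h : ∀ i ∈ s, LD (A i) (c i)) : LD (∏ i ∈ s, A i) (∑ i ∈ s, c i) := by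
  classical
  induction s using Finset.induction_on with
  | empty => simpa using LD.one
  | insert a s ha ih =>
      rw [Finset.prod_insert ha, Finset.sum_insert ha]
      exact (h a (Finset.mem_insert_self a s)).mul
        (ih fun i hi => h i (Finset.mem_insert_of_mem hi))

open PowerSeries in
theorem LD.unique {A B c : PowerSeries ℚ} (hA : LD A c) (hB : LD B c) : A = B := by
  have hB0 : constantCoeff B ≠ 0 := by rw [hB.1]; exact one_ne_zero
  have hd : d⁄dX ℚ (A * B⁻¹) = d⁄dX ℚ (1 : PowerSeries ℚ) := by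
    rw [Derivation.leibniz, derivative_inv', hA.2, hB.2, derivative_one]
    simp only [smul_eq_mul]
    calc A * (-B⁻¹ ^ 2 * (B * c)) + B⁻¹ * (A * c) = A * B⁻¹ * c * (1 - B⁻¹ * B) := by ring
      _ = 0 := by rw [PowerSeries.inv_mul_cancel B hB0, sub_self, mul_zero]
  have h : A * B⁻¹ = 1 := derivative.ext hd (by
    rw [map_mul, constantCoeff_inv, hA.1, hB.1, map_one]; norm_num)
  calc A = A * (B⁻¹ * B) := by rw [PowerSeries.inv_mul_cancel B hB0, _root_.mul_one]
    _ = B := by rw [← mul_assoc, h, _root_.one_mul]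

/-- Logarithmic derivative of `1 - a X`. -/
noncomputable def cser (a : ℚ) : PowerSeries ℚ := PowerSeries.mk fun i => -(a ^ (i + 1))

open PowerSeries in
theorem ld_one_sub (a : ℚ) : LD (1 - C a * X) (cser a) := by
  refine ⟨by simp, ?_⟩
  have hd : d⁄dX ℚ (1 - C a * X) = C (-a) := by simp
  rw [hd]
  ext i
  rw [sub_mul, _root_.one_mul, map_sub, mul_assoc, coeff_C_mul]
  cases i with
  | zero => simp [cser]
  | succ i =>
      rw [coeff_succ_X_mul, coeff_C]
      simp [cser]
      ring

open PowerSeries in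
theorem ld_exp_subst (g : PowerSeries ℚ) (hg : constantCoeff g = 0) :
    LD ((exp ℚ).subst g) (d⁄dX ℚ g) := by
  have hs : HasSubst g := HasSubst.of_constantCoeff_zero' hg
  refine ⟨?_, by rw [derivative_subst hs, derivative_exp]⟩
  have h1 : exp ℚ = 1 + (exp ℚ - 1) := by ring
  rw [h1, subst_add hs, map_add]
  have h2 : (1 : PowerSeries ℚ).subst g = 1 := by rw [← coe_substAlgHom hs, map_one]
  rw [h2, map_one]
  have h3 : constantCoeff ((exp ℚ - 1).subst g) = 0 :=
    constantCoeff_subst_eq_zero hg _ (by simp)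
  rw [h3, add_zero]
/-- Let R = Σ_n r_n X^n be a Laurent polynomial with integer coefficients and q > 1 an integer. In the
ring of formal power series in t over ℚ, the exponential of Σ_{v ≥ 1} R(q^v) t^v / v equals the
finite product Π_n (1 - q^n t)^(-r_n). Stated here with denominators cleared: the exponential series
multiplied by Π_{n : r_n > 0} (1 - q^n t)^(r_n) equals Π_{n : r_n < 0} (1 - q^n t)^(-r_n) (each
factor 1 - q^n t is a unit, so this is equivalent). -/
theorem result (R : LaurentPolynomial ℤ) (q : ℤ) (hq : 1 < q) :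
    (PowerSeries.exp ℚ).subst
        (PowerSeries.mk fun v : ℕ => if v = 0 then (0 : ℚ)
          else (R.coeff.sum fun (n : ℤ) (r : ℤ) => (r : ℚ) * (q : ℚ) ^ (n * (v : ℤ))) / (v : ℚ))
      * ∏ n ∈ R.coeff.support, (1 - PowerSeries.C ((q : ℚ) ^ n) * PowerSeries.X) ^ (R.coeff n).toNat
    = ∏ n ∈ R.coeff.support, (1 - PowerSeries.C ((q : ℚ) ^ n) * PowerSeries.X) ^ (-(R.coeff n)).toNat := by
  set g : PowerSeries ℚ := PowerSeries.mk fun v : ℕ => if v = 0 then (0 : ℚ)
    else (R.coeff.sum fun (n : ℤ) (r : ℤ) => (r : ℚ) * (q : ℚ) ^ (n * (v : ℤ))) / (v : ℚ) with hgdef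
  have hE := ld_exp_subst g (by simp [hgdef])
  have hA := LD.prod R.coeff.support _ _ fun n _ => (ld_one_sub ((q : ℚ) ^ n)).pow (R.coeff n).toNat
  have hB := LD.prod R.coeff.support _ _ fun n _ => (ld_one_sub ((q : ℚ) ^ n)).pow (-(R.coeff n)).toNat
  refine LD.unique (hE.mul hA) ?_
  convert hB using 1
  have hdg : PowerSeries.derivative ℚ g
      = ∑ n ∈ R.coeff.support, (-(R.coeff n : ℤ) : PowerSeries ℚ) * cser ((q : ℚ) ^ n) := by
    ext i
    rw [PowerSeries.coeff_derivative, hgdef, PowerSeries.coeff_mk, if_neg i.succ_ne_zero, map_sum,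
      Finsupp.sum]
    rw [show ((i : ℚ) + 1) = ((i + 1 : ℕ) : ℚ) by push_cast; ring, div_mul_cancel₀ _ (by positivity)]
    refine Finset.sum_congr rfl fun n _ => ?_
    rw [← map_intCast (PowerSeries.C (R := ℚ)), ← map_neg, PowerSeries.coeff_C_mul, cser,
      PowerSeries.coeff_mk, zpow_mul, zpow_natCast, neg_mul_neg]
  rw [hdg, ← Finset.sum_add_distrib]
  refine Finset.sum_congr rfl fun n _ => ?_
  rw [← add_mul]
  congr 1
  have h := Int.toNat_sub_toNat_neg (R.coeff n)
  have h' : ((R.coeff n).toNat : ℤ) = R.coeff n + ((-(R.coeff n)).toNat : ℤ) := by omega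
  have h'' := congrArg (Int.cast (R := PowerSeries ℚ)) h'
  push_cast at h''
  rw [h'']
  ring

end Groth.Agent.S14192
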