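import Groth.Statements.S14194
import Groth.Agent.Lib.MatrixChain.Normal
import Mathlib.LinearAlgebra.Matrix.GeneralLinearGroup.Basic

set_option autoImplicit false
universe u
open W4c1btstackcounts
open StackCount

namespace Groth.Agent.S14194

open Module Submodule Groth.Agent.Lib

variable {k : Type u} [Field k] {d : ℕ → ℕ}

/-- The linear maps of a chain of matrices. -/
noncomputable def lin (f : (i : ℕ) → Matrix (Fin (d (i + 1))) (Fin (d i)) k) (i : ℕ) :
    (Fin (d i) → k) →ₗ[k] (Fin (d (i + 1)) → k) := Matrix.toLin' (f i)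

/-- Truncation of a chain to the positions `1, …, r`. -/
noncomputable def trunc (r : ℕ) (f : (i : ℕ) → Matrix (Fin (d (i + 1))) (Fin (d i)) k) (i : ℕ) :
    (Fin (d i) → k) →ₗ[k] (Fin (d (i + 1)) → k) := if 1 ≤ i ∧ i < r then lin f i else 0

theorem iterImage_eq (f : (i : ℕ) → Matrix (Fin (d (i + 1))) (Fin (d i)) k) (i : ℕ) :
    ∀ n, iterImage f i n = LinearMap.range (MatrixChain.comp (V := fun j => Fin (d j) → k) (lin f) i (i + n))
  | 0 => by
    show (⊤ : Submodule k (Fin (d i) → k)) = _
    erw [MatrixChain.comp_self, LinearMap.range_id]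
  | n + 1 => by
    show (iterImage f i n).map (Matrix.toLin' (f (i + n))) = _
    rw [iterImage_eq f i n]
    erw [MatrixChain.comp_succ (V := fun j => Fin (d j) → k) (lin f) (Nat.le_add_right i n),
      LinearMap.range_comp]
    rfl

theorem rankArray_eq (f : (i : ℕ) → Matrix (Fin (d (i + 1))) (Fin (d i)) k) {i j : ℕ} (h : i ≤ j) :
    rankArray f i j = MatrixChain.rk (V := fun j => Fin (d j) → k) (lin f) i j := by
  obtain ⟨n, rfl⟩ := Nat.exists_eq_add_of_le h
  rw [rankArray, if_pos h, Nat.add_sub_cancel_left, iterImage_eq]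
  rfl

theorem rankArray_eq_trunc (f : (i : ℕ) → Matrix (Fin (d (i + 1))) (Fin (d i)) k) {r i j : ℕ}
    (hi : 1 ≤ i) (h : i ≤ j) (hj : j ≤ r) :
    rankArray f i j = MatrixChain.rk (V := fun j => Fin (d j) → k) (trunc r f) i j := by
  rw [rankArray_eq f h]
  unfold MatrixChain.rk
  rw [MatrixChain.comp_congr (V := fun j => Fin (d j) → k) (lin f) (trunc r f) h
    fun l h1 h2 => if_pos ⟨by omega, by omega⟩]

theorem trunc_zero (r : ℕ) (f : (i : ℕ) → Matrix (Fin (d (i + 1))) (Fin (d i)) k) :
    trunc r f 0 = 0 := if_neg (by omega)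

theorem trunc_ge (r : ℕ) (f : (i : ℕ) → Matrix (Fin (d (i + 1))) (Fin (d i)) k) :
    ∀ i, r ≤ i → trunc r f i = 0 := fun _ h => if_neg (by omega)

theorem rankArray_conj (g : (j : ℕ) → Matrix.GeneralLinearGroup (Fin (d j)) k)
    (f : (i : ℕ) → Matrix (Fin (d (i + 1))) (Fin (d i)) k) {i j : ℕ} (h : i ≤ j) :
    rankArray (conj g f) i j = rankArray f i j := by
  rw [rankArray_eq _ h, rankArray_eq _ h]
  let G : ∀ l, (Fin (d l) → k) →ₗ[k] (Fin (d l) → k) := fun l => Matrix.toLin' (g l).1
  let G' : ∀ l, (Fin (d l) → k) →ₗ[k] (Fin (d l) → k) := fun l => Matrix.toLin' ((g l)⁻¹).1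
  have hGG' : ∀ l, (G l).comp (G' l) = LinearMap.id := fun l => by
    simp only [G, G']
    rw [← Matrix.toLin'_mul, ← Units.val_mul, mul_inv_cancel, Units.val_one, Matrix.toLin'_one]
  have hG'G : ∀ l, (G' l).comp (G l) = LinearMap.id := fun l => by
    simp only [G, G']
    rw [← Matrix.toLin'_mul, ← Units.val_mul, inv_mul_cancel, Units.val_one, Matrix.toLin'_one]
  have key : MatrixChain.comp (V := fun l => Fin (d l) → k) (lin (conj g f)) i j =
      (G j).comp ((MatrixChain.comp (V := fun l => Fin (d l) → k) (lin f) i j).comp (G' i)) := by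
    induction j, h using Nat.le_induction with
    | base => rw [MatrixChain.comp_self, MatrixChain.comp_self, LinearMap.id_comp, hGG']
    | succ l hl ih =>
      rw [MatrixChain.comp_succ _ hl, MatrixChain.comp_succ _ hl, ih]
      have : lin (conj g f) l = (G (l + 1)).comp ((lin f l).comp (G' l)) := by
        simp only [lin, conj, Matrix.toLin'_mul, LinearMap.comp_assoc, G, G']
      rw [this]
      refine LinearMap.ext fun x => ?_
      simp only [LinearMap.comp_apply]
      congr 2
      exact LinearMap.congr_fun (hG'G l) _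
  let eG : ∀ l, (Fin (d l) → k) ≃ₗ[k] (Fin (d l) → k) := fun l =>
    LinearEquiv.ofLinearMap (G l) (G' l) (hGG' l) (hG'G l)
  unfold MatrixChain.rk
  rw [key, LinearMap.range_comp]
  have hr : LinearMap.range ((MatrixChain.comp (V := fun l => Fin (d l) → k) (lin f) i j).comp (G' i))
      = LinearMap.range (MatrixChain.comp (V := fun l => Fin (d l) → k) (lin f) i j) :=
    LinearMap.range_comp_of_range_eq_top _ (LinearMap.range_eq_top.2 (eG i).symm.surjective)
  rw [hr]
  exact LinearEquiv.finrank_map_eq (eG j) _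

theorem isRankArray (r : ℕ) (f : (i : ℕ) → Matrix (Fin (d (i + 1))) (Fin (d i)) k) :
    IsRankArray d r (rankArray f) := by
  refine ⟨fun j _ _ => ?_, fun i j _ h2 _ => ?_, fun i j _ h2 _ => ?_, fun i j h1 h2 h3 => ?_⟩
  · rw [rankArray_eq f le_rfl, MatrixChain.rk_self, Module.finrank_fin_fun]
  · rw [rankArray_eq f h2.le, rankArray_eq f h2]
    exact MatrixChain.rk_succ_le _ h2
  · rw [rankArray_eq f h2, rankArray_eq f (h2.trans j.le_succ)]
    exact MatrixChain.rk_le_succ _ h2
  · have := MatrixChain.valid (V := fun l => Fin (d l) → k) (trunc r f) (trunc_zero r f)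
      (trunc_ge r f) (a := rankArray f) (fun i j a b c => (rankArray_eq_trunc f a b c).symm)
      i j (by omega) h2 h3.le
    simp only [MatrixChain.ext] at this
    rw [if_pos (by omega), if_pos (by omega), if_pos (by omega), if_pos (by omega)] at this
    exact this

theorem exists_conj (r : ℕ) (f f' : (i : ℕ) → Matrix (Fin (d (i + 1))) (Fin (d i)) k)
    (h : ∀ i j, 1 ≤ i → i ≤ j → j ≤ r → rankArray f i j = rankArray f' i j) :
    ∃ g : (j : ℕ) → Matrix.GeneralLinearGroup (Fin (d j)) k,
      ∀ i : ℕ, 1 ≤ i → i + 1 ≤ r → conj g f i = f' i := by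
  classical
  obtain ⟨v, hv0, hv, hb⟩ := MatrixChain.exists_normal_form (V := fun l => Fin (d l) → k) (trunc r f)
    (trunc_zero r f) (trunc_ge r f) (a := rankArray f)
    (fun i j a b c => (rankArray_eq_trunc f a b c).symm)
  obtain ⟨v', hv0', hv', hb'⟩ := MatrixChain.exists_normal_form (V := fun l => Fin (d l) → k) (trunc r f')
    (trunc_zero r f') (trunc_ge r f') (a := rankArray f)
    (fun i j a b c => ((h i j a b c).trans (rankArray_eq_trunc f' a b c)).symm)
  let e : ∀ j, (Fin (d j) → k) ≃ₗ[k] (Fin (d j) → k) := fun j =>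
    if hj : 1 ≤ j ∧ j ≤ r then
      (Basis.mk (hb j hj.1 hj.2).1 (hb j hj.1 hj.2).2).equiv
        (Basis.mk (hb' j hj.1 hj.2).1 (hb' j hj.1 hj.2).2) (Equiv.refl _)
    else LinearEquiv.refl k _
  have he : ∀ j, 1 ≤ j → j ≤ r → ∀ t, e j (v j t) = v' j t := by
    intro j h1 h2 t
    by_cases ht : t ∈ MatrixChain.idx r (rankArray f) j
    · simp only [e, dif_pos (And.intro h1 h2)]
      have := Basis.equiv_apply (Basis.mk (hb j h1 h2).1 (hb j h1 h2).2) ⟨t, ht⟩
        (Basis.mk (hb' j h1 h2).1 (hb' j h1 h2).2) (Equiv.refl _)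
      simpa using this
    · rw [hv0 j t ht, hv0' j t ht, map_zero]
  let g : ∀ j, Matrix.GeneralLinearGroup (Fin (d j)) k := fun j =>
    ⟨LinearMap.toMatrix' (e j).toLinearMap, LinearMap.toMatrix' (e j).symm.toLinearMap,
      by rw [← LinearMap.toMatrix'_comp]; simp, by rw [← LinearMap.toMatrix'_comp]; simp⟩
  refine ⟨g, fun i h1 h2 => ?_⟩
  apply Matrix.toLin'.injective
  have hc : Matrix.toLin' (conj g f i) =
      (e (i + 1)).toLinearMap.comp ((lin f i).comp (e i).symm.toLinearMap) := by
    simp only [conj, g, Matrix.toLin'_mul, lin, Matrix.toLin'_toMatrix', LinearMap.comp_assoc,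
      Units.inv_mk]
  rw [hc]
  refine (Basis.mk (hb' i h1 (by omega)).1 (hb' i h1 (by omega)).2).ext fun t => ?_
  simp only [Basis.mk_apply, LinearMap.comp_apply, LinearEquiv.coe_coe]
  rw [← he i h1 (by omega), LinearEquiv.symm_apply_apply]
  have h3 : lin f i (v i t.1) = v (i + 1) t.1 := by
    rw [← hv i t.1 t.2, trunc, if_pos ⟨h1, h2⟩]
  have h4 : lin f' i (v' i t.1) = v' (i + 1) t.1 := by
    rw [← hv' i t.1 t.2, trunc, if_pos ⟨h1, h2⟩]
  rw [h3, he (i + 1) (by omega) h2, ← h4]
  congr 1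
  rw [he i h1 (by omega)]

theorem exists_of_isRankArray (r : ℕ) (a : ℕ → ℕ → ℕ) (ha : IsRankArray d r a) :
    ∃ f : (i : ℕ) → Matrix (Fin (d (i + 1))) (Fin (d i)) k,
      ∀ i j : ℕ, 1 ≤ i → i ≤ j → j ≤ r → rankArray f i j = a i j := by
  classical
  obtain ⟨ha1, ha2, ha3, ha4⟩ := ha
  have hv : MatrixChain.Valid r a := by
    intro p q hp hpq hq
    simp only [MatrixChain.ext]
    split_ifs <;> try omega
    all_goals first
      | (have := ha4 p q (by omega) hpq (by omega); omega)
      | (have := ha3 p q hp hpq (by omega); omega)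
      | (have := ha2 (p - 1) q (by omega) (by omega) hq
         rw [Nat.sub_add_cancel hp] at this
         omega)
  have hcard : ∀ j, 1 ≤ j → j ≤ r → (MatrixChain.idx r a j).card = d j := fun j h1 h2 =>
    (MatrixChain.card_idx hv h1 h2).trans (ha1 j h1 h2)
  let v : ∀ j, (Σ _ : ℕ × ℕ, ℕ) → (Fin (d j) → k) := fun j t =>
    if h : (1 ≤ j ∧ j ≤ r) ∧ t ∈ MatrixChain.idx r a j then
      Pi.single ((Finset.equivFinOfCardEq (hcard j h.1.1 h.1.2)) ⟨t, h.2⟩) (1 : k) else 0
  let L : ∀ i, (Fin (d i) → k) →ₗ[k] (Fin (d (i + 1)) → k) := fun i =>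
    if h : 1 ≤ i ∧ i ≤ r then
      ((Pi.basisFun k (Fin (d i))).reindex (Finset.equivFinOfCardEq (hcard i h.1 h.2)).symm).constr k
        fun t => v (i + 1) t.1
    else 0
  refine ⟨fun i => LinearMap.toMatrix' (L i), fun i j h1 hij hjr => ?_⟩
  rw [rankArray_eq _ hij, show lin (fun l => LinearMap.toMatrix' (L l)) = L from
    funext fun l => Matrix.toLin'_toMatrix' (L l)]
  have hL : ∀ l, 1 ≤ l → l ≤ r → ∀ t, t ∈ MatrixChain.idx r a l → L l (v l t) = v (l + 1) t := by
    intro l a1 a2 t ht
    simp only [L, dif_pos (And.intro a1 a2)]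
    have : v l t = ((Pi.basisFun k (Fin (d l))).reindex
        (Finset.equivFinOfCardEq (hcard l a1 a2)).symm) ⟨t, ht⟩ := by
      simp [v, a1, a2, ht]
    rw [this, Basis.constr_basis]
  have hcomp : ∀ l, i ≤ l → l ≤ r → ∀ t, t ∈ MatrixChain.idx r a i →
      MatrixChain.comp (V := fun l => Fin (d l) → k) L i l (v i t) = v l t := by
    intro l hl
    induction l, hl using Nat.le_induction with
    | base => intro _ t _; rw [MatrixChain.comp_self]; rfl
    | succ l hl ih =>
      intro hlr t ht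
      rw [MatrixChain.comp_succ _ hl, LinearMap.comp_apply, ih (by omega) t ht]
      by_cases htl : t ∈ MatrixChain.idx r a l
      · exact hL l (by omega) (by omega) t htl
      · have h1 : v l t = 0 := dif_neg fun h => htl h.2
        have h2 : v (l + 1) t = 0 := dif_neg fun h => htl <| by
          have a1 := MatrixChain.mem_idx.1 h.2
          have a2 := MatrixChain.mem_idx.1 ht
          exact MatrixChain.mem_idx.2 ⟨⟨a1.1.1, by omega⟩, ⟨by omega, a1.2.1.2⟩, a1.2.2⟩
        rw [h1, h2, map_zero]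
  have hspan : span k (Set.range fun t : MatrixChain.idx r a i => v i t.1) = ⊤ := by
    rw [show (fun t : MatrixChain.idx r a i => v i t.1) = ((Pi.basisFun k (Fin (d i))).reindex
        (Finset.equivFinOfCardEq (hcard i h1 (hij.trans hjr))).symm) by
      funext t; simp [v, h1, hij.trans hjr]]
    exact Basis.span_eq _
  unfold MatrixChain.rk
  rw [LinearMap.range_eq_map, ← hspan, Submodule.map_span]
  let S := (MatrixChain.idx r a i).filter fun t => t ∈ MatrixChain.idx r a j
  have hS : span k (MatrixChain.comp (V := fun l => Fin (d l) → k) L i j ''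
      Set.range fun t : MatrixChain.idx r a i => v i t.1) =
      span k (Set.range fun t : S => v j t.1) := by
    apply le_antisymm <;> rw [span_le]
    · rintro _ ⟨_, ⟨t, rfl⟩, rfl⟩
      simp only [hcomp j hij hjr t.1 t.2]
      by_cases ht : t.1 ∈ MatrixChain.idx r a j
      · exact subset_span ⟨⟨t.1, Finset.mem_filter.2 ⟨t.2, ht⟩⟩, rfl⟩
      · rw [show v j t.1 = 0 from dif_neg fun h => ht h.2]
        exact Submodule.zero_mem _
    · rintro _ ⟨t, rfl⟩
      exact subset_span ⟨_, ⟨⟨t.1, (Finset.mem_filter.1 t.2).1⟩, rfl⟩,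
        hcomp j hij hjr t.1 (Finset.mem_filter.1 t.2).1⟩
  rw [hS]
  have hli : LinearIndependent k fun t : S => v j t.1 := by
    have hj : 1 ≤ j := h1.trans hij
    have : (fun t : S => v j t.1) = (Pi.basisFun k (Fin (d j))) ∘ fun t : S =>
        Finset.equivFinOfCardEq (hcard j hj hjr) ⟨t.1, (Finset.mem_filter.1 t.2).2⟩ := by
      funext t
      simp [v, hj, hjr, (Finset.mem_filter.1 t.2).2]
    rw [this]
    refine (Pi.basisFun k (Fin (d j))).linearIndependent.comp _ fun s t hst => ?_
    exact Subtype.ext (congrArg (fun x => x.1) ((Finset.equivFinOfCardEq (hcard j hj hjr)).injective hst))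
  exact (finrank_span_eq_card hli).trans ((Fintype.card_coe S).trans
    (MatrixChain.card_idx_inter hv h1 hij hjr))

/-- Let k be a field and d_1, …, d_r sizes (given as a function d on the naturals; only d_1, …, d_r
matter). The group Π_j GL_{d_j}(k) acts on chains of matrices f_i of size d_{i+1} × d_i (1 ≤ i < r)
by f_i ↦ g_{i+1} f_i g_i^(-1). Sending a chain to the array a_{i,j} = dim (f_{j-1} ⋯ f_i)(k^{d_i})
(1 ≤ i ≤ j ≤ r) is constant on orbits, takes values in the set of admissible arrays (a_{j,j} = d_j;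
a_{i,j} ≤ a_{i+1,j} for i < j; a_{i,j+1} ≤ a_{i,j} for j < r; a_{i,j} - a_{i-1,j} ≥ a_{i,j+1} -
a_{i-1,j+1} for 1 < i ≤ j < r), separates orbits, and reaches every admissible array: it is a
bijection from the orbit set onto the admissible arrays. (The published statement also asserts that,
when k is Galois over a subfield, the bijection is compatible with the Galois group acting entrywise
on matrices and trivially on arrays; this row omits that clause.) -/
theorem result (k : Type u) [Field k] (d : ℕ → ℕ) (r : ℕ) :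
    (∀ (g : (j : ℕ) → Matrix.GeneralLinearGroup (Fin (d j)) k)
        (f : (i : ℕ) → Matrix (Fin (d (i + 1))) (Fin (d i)) k) (i j : ℕ),
        1 ≤ i → i ≤ j → j ≤ r → rankArray (conj g f) i j = rankArray f i j) ∧
    (∀ f : (i : ℕ) → Matrix (Fin (d (i + 1))) (Fin (d i)) k, IsRankArray d r (rankArray f)) ∧
    (∀ f f' : (i : ℕ) → Matrix (Fin (d (i + 1))) (Fin (d i)) k,
        (∀ i j : ℕ, 1 ≤ i → i ≤ j → j ≤ r → rankArray f i j = rankArray f' i j) →
        ∃ g : (j : ℕ) → Matrix.GeneralLinearGroup (Fin (d j)) k,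
          ∀ i : ℕ, 1 ≤ i → i + 1 ≤ r → conj g f i = f' i) ∧
    (∀ a : ℕ → ℕ → ℕ, IsRankArray d r a →
        ∃ f : (i : ℕ) → Matrix (Fin (d (i + 1))) (Fin (d i)) k,
          ∀ i j : ℕ, 1 ≤ i → i ≤ j → j ≤ r → rankArray f i j = a i j) := by
  exact ⟨fun g f i j _ hij _ => rankArray_conj g f hij, fun f => isRankArray r f,
    fun f f' h => exists_conj r f f' h, fun a ha => exists_of_isRankArray r a ha⟩

end Groth.Agent.S14194
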