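import Groth.Statements.S14196
import Groth.Agent.Lib.QuotSt.Atlas

set_option autoImplicit false
universe u
open CategoryTheory MonoidalCategory CartesianMonoidalCategory AlgebraicGeometry
open StackCount

namespace Groth.Agent.S14196

open AlgSt (QuotObj)
open scoped MonObj
open Lib.QuotSt (trivObj ofPoint point point_π point_φ point_ofPoint isIso_of_base)

theorem exists_section {K : Type u} [Field K] [IsAlgClosed K] {P : Over (Spec (CommRingCat.of K))}
    (h : NonAbH1.IsLocallyTrivialFor Scheme.etalePrecoverage P) :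
    ∃ s : Spec (CommRingCat.of K) ⟶ P.left, s ≫ P.hom = 𝟙 _ := by
  obtain ⟨R, hR, hs⟩ := h
  obtain ⟨I, Y, f, rfl⟩ := R.exists_eq_ofArrows
  obtain ⟨hc, he⟩ := (Scheme.ofArrows_mem_precoverage_iff _).1 hR
  obtain ⟨i, y, -⟩ := hc (IsLocalRing.closedPoint K)
  have : Etale (f i) := he i
  have : LocallyOfFiniteType (f i) := inferInstance
  have : JacobsonSpace (Y i) := LocallyOfFiniteType.jacobsonSpace (f i)
  obtain ⟨c, -, hcl⟩ := nonempty_inter_closedPoints (X := Y i) ⟨y, Set.mem_univ _⟩ isClosed_univ.isLocallyClosed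
  obtain ⟨s, hs'⟩ := hs (f i) ⟨i⟩
  exact ⟨pointOfClosedPoint (f i) c (mem_closedPoints_iff.1 hcl) ≫ s,
    ((Category.assoc _ _ _).trans (congrArg (pointOfClosedPoint (f i) c (mem_closedPoints_iff.1 hcl) ≫ ·) hs')).trans (pointOfClosedPoint_comp _ _ _)⟩

theorem exists_sec {S : Scheme.{u}} {G X : Over S} [GrpObj G] {aX : AlgGrp.Action G X}
    (A : QuotObj Scheme.etalePrecoverage G aX) {K : Type u} [Field K] [IsAlgClosed K]
    (f : Spec (CommRingCat.of K) ⟶ S) (h : A.base = Over.mk f) :
    ∃ s : A.base ⟶ A.P, s ≫ A.π = 𝟙 _ := by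
  obtain ⟨base, P, act, π, cart, loc, φ, eqv⟩ := A
  dsimp only at h ⊢
  subst h
  obtain ⟨s, hs⟩ := exists_section (P := Over.mk π.left) loc
  refine ⟨Over.homMk s ?_, Over.OverMorphism.ext hs⟩
  have hs' : s ≫ π.left = 𝟙 _ := hs
  rw [← Over.w π, ← Category.assoc, hs']; exact Category.id_comp _


/-- Let k be a finite field with algebraic closure k̄, G a smooth affine algebraic group over k acting
on a variety X over k (reduced, of finite type), and [X/G] the quotient stack whose objects over a
k-scheme T are G-torsors P → T, locally trivial for the étale topology and taken to be schemes, with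
a G-equivariant morphism P → X. Write T̄ = Spec k̄ over Spec k. Then: every object of the fibre
category of [X/G] over T̄ admits a section T̄ → P of its torsor; for objects A, B over T̄ with
chosen sections t_A, t_B, A and B are isomorphic in the fibre over T̄ if and only if the k̄-points
t_B φ_B and t_A φ_A of X lie in one G(k̄)-orbit (there is g ∈ G(T̄) with g · (t_A φ_A) = t_B φ_B);
and every k̄-point of X is of the form t φ_A. Hence the isomorphism classes of [X/G](k̄) correspond
bijectively to the G(k̄)-orbits in X(k̄). (The published statement allows any smooth algebraic group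
G; this row takes G affine, so that every torsor is a scheme.) -/
theorem result (k : Type u) [Field k] [Finite k]
    (G : Over (Spec (CommRingCat.of k))) [GrpObj G] [Smooth G.hom] [IsAffineHom G.hom]
    (X : Over (Spec (CommRingCat.of k))) [LocallyOfFiniteType X.hom] [QuasiCompact X.hom]
    [IsReduced X.left] (aX : AlgGrp.Action G X) :
    (∀ A : (AlgSt.QuotObj.forget Scheme.etalePrecoverage G aX).Fiber (Over.mk (Spec.map (CommRingCat.ofHom (algebraMap k (AlgebraicClosure k)))) : Over (Spec (CommRingCat.of k))),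
        ∃ t : (Over.mk (Spec.map (CommRingCat.ofHom (algebraMap k (AlgebraicClosure k)))) : Over (Spec (CommRingCat.of k))) ⟶ A.1.P, t ≫ A.1.π = eqToHom A.2.symm) ∧
    (∀ (A B : (AlgSt.QuotObj.forget Scheme.etalePrecoverage G aX).Fiber (Over.mk (Spec.map (CommRingCat.ofHom (algebraMap k (AlgebraicClosure k)))) : Over (Spec (CommRingCat.of k))))
        (tA : (Over.mk (Spec.map (CommRingCat.ofHom (algebraMap k (AlgebraicClosure k)))) : Over (Spec (CommRingCat.of k))) ⟶ A.1.P) (tB : (Over.mk (Spec.map (CommRingCat.ofHom (algebraMap k (AlgebraicClosure k)))) : Over (Spec (CommRingCat.of k))) ⟶ B.1.P),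
        tA ≫ A.1.π = eqToHom A.2.symm → tB ≫ B.1.π = eqToHom B.2.symm →
        (Nonempty (A ≅ B) ↔
          ∃ g : (Over.mk (Spec.map (CommRingCat.ofHom (algebraMap k (AlgebraicClosure k)))) : Over (Spec (CommRingCat.of k))) ⟶ G,
            CartesianMonoidalCategory.lift g (tA ≫ A.1.φ) ≫ aX.act = tB ≫ B.1.φ)) ∧
    (∀ x : (Over.mk (Spec.map (CommRingCat.ofHom (algebraMap k (AlgebraicClosure k)))) : Over (Spec (CommRingCat.of k))) ⟶ X,
        ∃ (A : (AlgSt.QuotObj.forget Scheme.etalePrecoverage G aX).Fiber (Over.mk (Spec.map (CommRingCat.ofHom (algebraMap k (AlgebraicClosure k)))) : Over (Spec (CommRingCat.of k)))) (t : (Over.mk (Spec.map (CommRingCat.ofHom (algebraMap k (AlgebraicClosure k)))) : Over (Spec (CommRingCat.of k))) ⟶ A.1.P),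
          t ≫ A.1.π = eqToHom A.2.symm ∧ t ≫ A.1.φ = x) := by
  generalize hT : (Over.mk (Spec.map (CommRingCat.ofHom (algebraMap k (AlgebraicClosure k)))) :
    Over (Spec (CommRingCat.of k))) = T
  refine ⟨?_, ?_, ?_⟩
  · rintro ⟨A, rfl⟩
    obtain ⟨s, hs⟩ := exists_sec A _ hT.symm
    exact ⟨s, hs⟩
  · rintro ⟨A, rfl⟩ ⟨B, hB⟩ tA tB hA hB'
    constructor
    · rintro ⟨e⟩
      let m : A ⟶ B := e.hom.1
      have hm : m.base = eqToHom hB.symm := by
        have : (QuotObj.forget Scheme.etalePrecoverage G aX).IsHomLift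
            (𝟙 ((QuotObj.forget Scheme.etalePrecoverage G aX).obj A)) m := e.hom.2
        have h' := IsHomLift.fac' (QuotObj.forget Scheme.etalePrecoverage G aX)
          (𝟙 ((QuotObj.forget Scheme.etalePrecoverage G aX).obj A)) m
        change m.base = _ at h'
        rw [h']
        erw [Category.id_comp]
        exact Category.id_comp _
      have w : (tA ≫ m.top) ≫ B.π = tB ≫ B.π := by
        rw [Category.assoc, m.cart.w, reassoc_of% hA, hm, hB']
        exact Category.id_comp _
      refine ⟨B.cart.lift tB (tA ≫ m.top) w.symm ≫ fst _ _, ?_⟩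
      have e1 := B.cart.lift_fst tB (tA ≫ m.top) w.symm
      have e2 := B.cart.lift_snd tB (tA ≫ m.top) w.symm
      have e3 : B.cart.lift tB (tA ≫ m.top) w.symm =
          lift (B.cart.lift tB (tA ≫ m.top) w.symm ≫ fst _ _) (tA ≫ m.top) :=
        CartesianMonoidalCategory.hom_ext _ _ (by simp) (by rw [e2, lift_snd])
      generalize hl : B.cart.lift tB (tA ≫ m.top) w.symm = l at e1 e2 e3
      conv_rhs => rw [← e1, e3]
      rw [Category.assoc, B.eqv, lift_whiskerLeft_assoc, Category.assoc, m.wφ]
    · rintro ⟨g, hg⟩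
      let s := lift g tA ≫ A.act.act
      have hs : s ≫ A.π = 𝟙 _ := by
        simp only [s, Category.assoc, A.cart.w]
        rw [lift_snd_assoc, hA]; rfl
      have hx : s ≫ A.φ = tB ≫ B.φ := by
        simp only [s, Category.assoc, A.eqv]
        rw [lift_whiskerLeft_assoc]; exact hg
      let a : trivObj Scheme.etalePrecoverage aX (tB ≫ B.φ) ⟶ A :=
        ofPoint (tB ≫ B.φ) (𝟙 _) s hs hx
      let b : trivObj Scheme.etalePrecoverage aX (tB ≫ B.φ) ⟶ B :=
        ofPoint (tB ≫ B.φ) (eqToHom hB.symm) tB hB' rfl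
      have : IsIso a.base := inferInstanceAs (IsIso (𝟙 _))
      have : IsIso b.base := inferInstanceAs (IsIso (eqToHom hB.symm))
      have := isIso_of_base a
      have := isIso_of_base b
      have hbase : (inv a ≫ b).base = eqToHom hB.symm := by
        have h1 : (inv a).base = 𝟙 _ := by
          have := congrArg QuotObj.Hom.base (IsIso.inv_hom_id a)
          change (inv a).base ≫ 𝟙 _ = 𝟙 _ at this
          rwa [Category.comp_id] at this
        rw [QuotObj.comp_base, h1]
        exact Category.id_comp _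
      have hlift : (QuotObj.forget Scheme.etalePrecoverage G aX).IsHomLift
          (𝟙 ((QuotObj.forget Scheme.etalePrecoverage G aX).obj A)) (inv a ≫ b) :=
        IsHomLift.of_fac' (QuotObj.forget Scheme.etalePrecoverage G aX) (𝟙 ((QuotObj.forget Scheme.etalePrecoverage G aX).obj A)) (inv a ≫ b) rfl hB (by
          change (inv a ≫ b).base = _
          rw [hbase]
          exact (eqToHom_trans _ _).symm.trans (congrArg (eqToHom _ ≫ ·) (Category.id_comp _).symm))
      have : IsIso (inv a ≫ b) := inferInstance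
      exact ⟨{ hom := ⟨inv a ≫ b, hlift⟩
               inv := ⟨inv (inv a ≫ b), IsHomLift.lift_id_inv_isIso _ _ _⟩
               hom_inv_id := Functor.Fiber.hom_ext (IsIso.hom_inv_id _)
               inv_hom_id := Functor.Fiber.hom_ext (IsIso.inv_hom_id _) }⟩
  · intro x
    refine ⟨⟨trivObj Scheme.etalePrecoverage aX x, rfl⟩, lift (1 : T ⟶ G) (𝟙 T), ?_, ?_⟩
    · exact lift_snd _ _
    · change lift _ _ ≫ (G ◁ x) ≫ aX.act = x
      rw [lift_whiskerLeft_assoc, Category.id_comp, Lib.QuotSt.Act.one_smul]

end Groth.Agent.S14196
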