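import Groth.Statements.S14197

import Groth.Agent.Lib.GalPts.Over
import Groth.Agent.Lib.QuotSt.Atlas

set_option autoImplicit false
universe u
open CategoryTheory MonoidalCategory CartesianMonoidalCategory AlgebraicGeometry
open StackCount

open Groth.Agent CategoryTheory CategoryTheory.Limits MonoidalCategory CartesianMonoidalCategory

namespace Groth.Agent.S14197

theorem of_model {S : Scheme.{u}} {K : Precoverage Scheme.{u}} {G X : Over S} [GrpObj G] {aX : AlgGrp.Action G X}
    (A B : AlgSt.QuotObj K G aX) (h : A ⟶ B) (t : A.base ⟶ A.P) (ht : t ≫ A.π = 𝟙 _) (s : A.base ⟶ A.base)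
    (hs : s ≫ h.base = h.base) :
    ∃ g : A.base ⟶ G, CartesianMonoidalCategory.lift g (t ≫ A.φ) ≫ aX.act = s ≫ t ≫ A.φ := by
  have hp : (t ≫ h.top) ≫ B.π = h.base := by rw [Category.assoc, h.cart.w, reassoc_of% ht]
  have w : (s ≫ t ≫ h.top) ≫ B.π = (t ≫ h.top) ≫ B.π := by
    rw [Category.assoc, hp, hs]
  refine ⟨B.cart.lift _ _ w ≫ fst G B.P, ?_⟩
  have e1 := B.cart.lift_fst _ _ w
  have e3 : B.cart.lift _ _ w = lift (B.cart.lift _ _ w ≫ fst G B.P) (t ≫ h.top) :=
    CartesianMonoidalCategory.hom_ext _ _ (lift_fst _ _).symm ((B.cart.lift_snd _ _ w).trans (lift_snd _ _).symm)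
  generalize B.cart.lift _ _ w = l at e1 e3
  rw [← h.wφ, ← Category.assoc t, ← Category.assoc s, ← e1]
  conv_rhs => rw [e3]
  simp only [Category.assoc]
  rw [B.eqv, lift_whiskerLeft_assoc, Category.assoc]

theorem to_model {S : Scheme.{u}} {G X : Over S} [GrpObj G] {aX : AlgGrp.Action G X}
    (A B : AlgSt.QuotObj Scheme.etalePrecoverage G aX) (t : A.base ⟶ A.P) (ht : t ≫ A.π = 𝟙 _)
    (p : A.base ⟶ B.P) (hp : p ≫ B.φ = t ≫ A.φ) : ∃ h : A ⟶ B, h.base = p ≫ B.π := by
  let a := Lib.QuotSt.ofPoint (K := Scheme.etalePrecoverage) (t ≫ A.φ) (𝟙 A.base) t ht rfl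
  have : IsIso a.base := inferInstanceAs (IsIso (𝟙 _))
  have := Lib.QuotSt.isIso_of_base a
  let b := Lib.QuotSt.ofPoint (K := Scheme.etalePrecoverage) (t ≫ A.φ) (p ≫ B.π) p rfl hp
  refine ⟨inv a ≫ b, ?_⟩
  have h1 : (inv a).base = 𝟙 _ := by
    have := congrArg AlgSt.QuotObj.Hom.base (IsIso.inv_hom_id a)
    change (inv a).base ≫ 𝟙 _ = 𝟙 _ at this
    rwa [Category.comp_id] at this
  rw [AlgSt.QuotObj.comp_base, h1]
  exact Category.id_comp _

theorem base_eq (k : Type u) [Field k] (k' : Type u) [Field k'] [Algebra k k'] (kb : Type u) [Field kb] [Algebra k kb]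
    [Algebra k' kb] (e : SGA7.pt (K := k) kb ⟶ (Over.map (SGA7.pt (K := k) k').hom).obj (SGA7.pt (K := k') kb))
    (he : e.left = 𝟙 _) {P Z : Over (Spec (CommRingCat.of k'))} (p : SGA7.pt (K := k') kb ⟶ P) (π : P ⟶ Z)
    (hZ : Z = SGA7.pt (K := k') k')
    (hB : (Over.map (SGA7.pt (K := k) k').hom).obj Z = SGA7.pt (K := k) k')
    (ι : SGA7.pt (K := k) kb ⟶ SGA7.pt (K := k) k')
    (hι : ι.left = Spec.map (CommRingCat.ofHom (algebraMap k' kb))) :
    (e ≫ (Over.map (SGA7.pt (K := k) k').hom).map p) ≫ (Over.map (SGA7.pt (K := k) k').hom).map π =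
      ι ≫ eqToHom hB.symm := by
  subst hZ
  rw [Category.assoc, ← Functor.map_comp, ← cancel_mono (eqToHom hB), Category.assoc ι, eqToHom_trans, eqToHom_refl, Category.comp_id]
  apply Over.OverMorphism.ext
  have h3 := Over.w (p ≫ π)
  rw [Lib.GalPts.pt_self_hom] at h3
  have h4 : (p ≫ π).left = Spec.map (CommRingCat.ofHom (algebraMap k' kb)) := (Category.comp_id _).symm.trans h3
  rw [Over.comp_left, Over.comp_left, Over.map_map_left, he, h4, hι, Over.eqToHom_left]
  exact (Category.comp_id _).trans (Category.id_comp _)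

theorem restr_point {k : Type u} [Field k] {k' : Type u} [Field k'] [Algebra k k'] {kb : Type u} [Field kb]
    [Algebra k kb] [Algebra k' kb] {G X : Over (Spec (CommRingCat.of k))} [GrpObj G] {aX : AlgGrp.Action G X}
    (e : SGA7.pt (K := k) kb ⟶ (Over.map (SGA7.pt (K := k) k').hom).obj (SGA7.pt (K := k') kb))
    (he : e.left = 𝟙 _)
    (A' : AlgSt.QuotObj Scheme.etalePrecoverage (Red.bc (SGA7.pt (K := k) k').hom G)
      (Lib.GalPts.Restrict.bcAct (SGA7.pt (K := k) k').hom aX))
    (hA' : A'.base = SGA7.pt (K := k') k') (p : SGA7.pt (K := k') kb ⟶ A'.P)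
    (hB : (Lib.GalPts.Restrict.restrObj (SGA7.pt (K := k) k').hom A').base = SGA7.pt (K := k) k')
    (ι : SGA7.pt (K := k) kb ⟶ SGA7.pt (K := k) k')
    (hι : ι.left = Spec.map (CommRingCat.ofHom (algebraMap k' kb))) :
    (e ≫ (Over.map (SGA7.pt (K := k) k').hom).map p) ≫
        (Lib.GalPts.Restrict.restrObj (SGA7.pt (K := k) k').hom A').π = ι ≫ eqToHom hB.symm :=
  base_eq k k' kb e he p A'.π hA' hB ι hι

theorem to_model' {k : Type u} [Field k] {k' : Type u} [Field k'] [Algebra k k'] {kb : Type u} [Field kb]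
    [Algebra k kb] {G X : Over (Spec (CommRingCat.of k))} [GrpObj G] {aX : AlgGrp.Action G X}
    (A B : AlgSt.QuotObj Scheme.etalePrecoverage G aX) (hA : A.base = SGA7.pt (K := k) kb)
    (hB : B.base = SGA7.pt (K := k) k') (t : SGA7.pt (K := k) kb ⟶ A.P) (ht : t ≫ A.π = eqToHom hA.symm)
    (p : SGA7.pt (K := k) kb ⟶ B.P) (hp : p ≫ B.φ = t ≫ A.φ) (ι : SGA7.pt (K := k) kb ⟶ SGA7.pt (K := k) k')
    (hπ : p ≫ B.π = ι ≫ eqToHom hB.symm) :
    ∃ (B : AlgSt.QuotObj Scheme.etalePrecoverage G aX) (hB : B.base = SGA7.pt (K := k) k') (h : A ⟶ B),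
      h.base = eqToHom hA ≫ ι ≫ eqToHom hB.symm := by
  obtain ⟨h, hh⟩ := to_model A B (eqToHom hA ≫ t) (by rw [Category.assoc, ht, eqToHom_trans, eqToHom_refl])
    (eqToHom hA ≫ p) (by rw [Category.assoc, Category.assoc, hp])
  exact ⟨B, hB, h, by rw [hh, Category.assoc, hπ]⟩

theorem main (k : Type u) [Field k] [Finite k]
    (G : Over (Spec (CommRingCat.of k))) [GrpObj G] [Smooth G.hom] [IsAffineHom G.hom]
    (X : Over (Spec (CommRingCat.of k))) [LocallyOfFiniteType X.hom]
    (aX : AlgGrp.Action G X) (k' : Type u) [Field k'] [Algebra k k'] [FiniteDimensional k k']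
    (kb : Type u) [Field kb] [Algebra k kb] [Algebra k' kb] [IsScalarTower k k' kb] [IsAlgClosed kb]
    [Algebra.IsAlgebraic k kb]
    (A : AlgSt.QuotObj Scheme.etalePrecoverage G aX) (hA : A.base = SGA7.pt (K := k) kb)
    (ι : SGA7.pt (K := k) kb ⟶ SGA7.pt (K := k) k')
    (hι : ι.left = Spec.map (CommRingCat.ofHom (algebraMap k' kb)))
    (t : SGA7.pt (K := k) kb ⟶ A.P) (ht : t ≫ A.π = eqToHom hA.symm) :
    (∃ (B : AlgSt.QuotObj Scheme.etalePrecoverage G aX) (hB : B.base = SGA7.pt (K := k) k') (h : A ⟶ B),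
        h.base = eqToHom hA ≫ ι ≫ eqToHom hB.symm) ↔
    (∀ (σ : kb ≃ₐ[k'] kb) (s : SGA7.pt (K := k) kb ⟶ SGA7.pt (K := k) kb),
        s.left = Spec.map (CommRingCat.ofHom σ.toRingEquiv.toRingHom) →
        ∃ g : SGA7.pt (K := k) kb ⟶ G,
          CartesianMonoidalCategory.lift g (t ≫ A.φ) ≫ aX.act = s ≫ t ≫ A.φ) := by
  constructor
  · rintro ⟨B, hB, h, hh⟩ σ s hs
    obtain ⟨base, P, act, π, cart, loc, φ, eqv⟩ := A
    dsimp only at hA t ht hh ⊢
    subst hA
    rw [eqToHom_refl] at ht
    refine of_model ⟨SGA7.pt (K := k) kb, P, act, π, cart, loc, φ, eqv⟩ B h t ht s ?_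
    rw [hh, eqToHom_refl, Category.id_comp, ← Category.assoc]
    congr 1
    apply Over.OverMorphism.ext
    rw [Over.comp_left, hs, hι, ← Spec.map_comp]
    congr 1
    ext a
    exact σ.commutes a
  · intro H
    haveI : Finite k' := Module.finite_of_finite k
    haveI : Algebra.IsAlgebraic k' kb := Algebra.IsAlgebraic.tower_top (K := k) k'
    haveI : IsAlgClosure k' kb := ⟨inferInstance, inferInstance⟩
    haveI : IsAffineHom (Red.bc (SGA7.pt (K := k) k').hom G).hom :=
      MorphismProperty.of_isPullback (P := @IsAffineHom) (IsPullback.of_hasPullback G.hom (SGA7.pt (K := k) k').hom) inferInstance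
    haveI : LocallyOfFiniteType (Red.bc (SGA7.pt (K := k) k').hom G).hom :=
      MorphismProperty.of_isPullback (P := @LocallyOfFiniteType) (IsPullback.of_hasPullback G.hom (SGA7.pt (K := k) k').hom) inferInstance
    haveI : LocallyOfFiniteType (Red.bc (SGA7.pt (K := k) k').hom X).hom :=
      MorphismProperty.of_isPullback (P := @LocallyOfFiniteType) (IsPullback.of_hasPullback X.hom (SGA7.pt (K := k) k').hom) inferInstance
    have hw : (SGA7.pt (K := k') kb).hom ≫ (SGA7.pt (K := k) k').hom = (SGA7.pt (K := k) kb).hom := by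
      change Spec.map _ ≫ Spec.map _ = Spec.map _
      rw [← Spec.map_comp, ← CommRingCat.ofHom_comp, ← IsScalarTower.algebraMap_eq]
    let e : SGA7.pt (K := k) kb ≅ (Over.map (SGA7.pt (K := k) k').hom).obj (SGA7.pt (K := k') kb) :=
      Over.isoMk (Iso.refl _) ((Category.id_comp _).trans hw)
    let σ : kb ≃ₐ[k'] kb := Lib.GalPts.frob k' kb
    let s : SGA7.pt (K := k) kb ⟶ SGA7.pt (K := k) kb :=
      Over.homMk (Spec.map (CommRingCat.ofHom σ.toRingEquiv.toRingHom)) (by
        rw [← hw, ← Category.assoc]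
        congr 1
        exact SGA7.spec_map_algEquiv_comp σ)
    obtain ⟨g, hg⟩ := H σ s rfl
    let x' := Lib.GalPts.Restrict.sharp (SGA7.pt (K := k) k').hom (e.inv ≫ t ≫ A.φ)
    have hs : (Over.map (SGA7.pt (K := k) k').hom).map (SGA7.specAut σ) ≫ e.inv = e.inv ≫ s := by
      apply Over.OverMorphism.ext
      change Spec.map _ ≫ 𝟙 _ = 𝟙 _ ≫ Spec.map _
      rw [Category.id_comp, Category.comp_id]
      rfl
    obtain ⟨A', hA', F, -, hFx⟩ := Lib.GalPts.exists_framed (aX := Lib.GalPts.Restrict.bcAct (SGA7.pt (K := k) k').hom aX)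
      (Lib.GalPts.Restrict.sharp (SGA7.pt (K := k) k').hom (e.inv ≫ g)) x' (Lib.GalPts.Restrict.flat_injective (SGA7.pt (K := k) k').hom (by
        simp only [x']
        rw [Lib.GalPts.Restrict.flat_bcAct, Lib.GalPts.Restrict.flat_comp, Lib.GalPts.Restrict.flat_sharp,
          Lib.GalPts.Restrict.flat_sharp, ← comp_lift_assoc, hg, ← Category.assoc, hs, Category.assoc]))
    have hB : (Lib.GalPts.Restrict.restrObj (SGA7.pt (K := k) k').hom A').base = SGA7.pt (K := k) k' :=
      (congrArg (Over.map (SGA7.pt (K := k) k').hom).obj hA').trans (Lib.GalPts.map_pt k')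
    refine to_model' A (Lib.GalPts.Restrict.restrObj (SGA7.pt (K := k) k').hom A') hA hB t ht
      (e.hom ≫ (Over.map (SGA7.pt (K := k) k').hom).map F.p) ?_ ι (restr_point e.hom rfl A' hA' F.p hB ι hι)
    change (e.hom ≫ (Over.map (SGA7.pt (K := k) k').hom).map F.p) ≫ Lib.GalPts.Restrict.flat (SGA7.pt (K := k) k').hom A'.φ = t ≫ A.φ
    rw [Category.assoc, ← Lib.GalPts.Restrict.flat_comp, hFx]
    simp [x']

/-- Let k be a finite field with algebraic closure k̄, G a smooth affine algebraic group over k acting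
on a variety X over k, [X/G] the quotient stack of G-torsors (schemes, locally trivial for the étale
topology) with an equivariant morphism to X, and k' ⊆ k̄ a subfield finite over k; write T̄ = Spec
k̄ and T' = Spec k' over Spec k, with ι : T̄ → T' the structure map. Let A be an object of [X/G]
over T̄, t a section of its torsor and x = t φ_A the corresponding k̄-point of X. Then A has a model
over k' — there are an object B of [X/G] over T' and a morphism A → B of [X/G] lying over ι (so A is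
the pull-back of B) — if and only if the G(k̄)-orbit of x is fixed by Gal(k̄/k'): for every
k'-algebra automorphism σ of k̄, with s : T̄ → T̄ the induced morphism, there is g ∈ G(T̄) with g ·
x = s x. (The published statement allows any smooth algebraic group G; this row takes G affine, so
that torsors are schemes. Together with the classification of the isomorphism classes over k̄ by
G(k̄)-orbits of k̄-points, this says that the class of A in G(k̄)∖X(k̄) has a representative defined
over k' exactly when it is Galois-fixed.) -/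
theorem result (k : Type u) [Field k] [Finite k]
    (G : Over (Spec (CommRingCat.of k))) [GrpObj G] [Smooth G.hom] [IsAffineHom G.hom]
    (X : Over (Spec (CommRingCat.of k))) [LocallyOfFiniteType X.hom] [QuasiCompact X.hom]
    [IsReduced X.left] (aX : AlgGrp.Action G X)
    (k' : IntermediateField k (AlgebraicClosure k)) [FiniteDimensional k k']
    (ι : (Over.mk (Spec.map (CommRingCat.ofHom (algebraMap k (AlgebraicClosure k)))) : Over (Spec (CommRingCat.of k))) ⟶ (Over.mk (Spec.map (CommRingCat.ofHom (algebraMap k k'))) : Over (Spec (CommRingCat.of k))))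
    (hι : ι.left = Spec.map (CommRingCat.ofHom (algebraMap k' (AlgebraicClosure k))))
    (A : (AlgSt.QuotObj.forget Scheme.etalePrecoverage G aX).Fiber (Over.mk (Spec.map (CommRingCat.ofHom (algebraMap k (AlgebraicClosure k)))) : Over (Spec (CommRingCat.of k)))) (t : (Over.mk (Spec.map (CommRingCat.ofHom (algebraMap k (AlgebraicClosure k)))) : Over (Spec (CommRingCat.of k))) ⟶ A.1.P) (ht : t ≫ A.1.π = eqToHom A.2.symm) :
    (∃ (B : AlgSt.QuotObj Scheme.etalePrecoverage G aX) (hB : B.base = (Over.mk (Spec.map (CommRingCat.ofHom (algebraMap k k'))) : Over (Spec (CommRingCat.of k))))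
        (h : A.1 ⟶ B), h.base = eqToHom A.2 ≫ ι ≫ eqToHom hB.symm) ↔
    (∀ (σ : AlgebraicClosure k ≃ₐ[k'] AlgebraicClosure k) (s : (Over.mk (Spec.map (CommRingCat.ofHom (algebraMap k (AlgebraicClosure k)))) : Over (Spec (CommRingCat.of k))) ⟶ (Over.mk (Spec.map (CommRingCat.ofHom (algebraMap k (AlgebraicClosure k)))) : Over (Spec (CommRingCat.of k)))),
        s.left = Spec.map (CommRingCat.ofHom σ.toRingEquiv.toRingHom) →
        ∃ g : (Over.mk (Spec.map (CommRingCat.ofHom (algebraMap k (AlgebraicClosure k)))) : Over (Spec (CommRingCat.of k))) ⟶ G,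
          CartesianMonoidalCategory.lift g (t ≫ A.1.φ) ≫ aX.act = s ≫ t ≫ A.1.φ) := by
  haveI : IsAlgClosed (AlgebraicClosure k) := inferInstance
  exact main k G X aX k' (AlgebraicClosure k) A.1 A.2 ι hι t ht

end Groth.Agent.S14197
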