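import Groth.Statements.S14204
import Groth.Agent.Lib.ProjCoh.Coherent
import Groth.Agent.Lib.TensorMod.Pullback
import Mathlib.CategoryTheory.Limits.Shapes.Products

set_option autoImplicit false
universe u
open CategoryTheory CategoryTheory.Limits AlgebraicGeometry
open ASBun

namespace Groth.Agent.S14204

open Groth.Agent.Lib CategoryTheory.Limits

variable {Y : Scheme.{u}}

lemma sum_tensor (A B : Y.Modules) (r : ℕ) :
    Nonempty (CohB1.tensorMod (BrSev.pow A r) B ≅ BrSev.pow (CohB1.tensorMod A B) r) :=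
  ⟨PreservesCoproduct.iso (TensorMod.Basic.tensorBy B) (fun _ : Fin r => A)⟩

lemma sum_sum (A : Y.Modules) (r s : ℕ) :
    Nonempty (BrSev.pow (BrSev.pow A s) r ≅ BrSev.pow A (r * s)) :=
  ⟨
    (sigmaSigmaIso (fun (_ : Fin r) => Fin s) (fun (_ : Fin r) (_ : Fin s) => A)) ≪≫
      Sigma.whiskerEquiv ((Equiv.sigmaEquivProd (Fin r) (Fin s)).trans finProdFinEquiv) (fun _ => Iso.refl A)⟩

lemma tensor_sums (A B : Y.Modules) (r s : ℕ) :
    Nonempty (CohB1.tensorMod (BrSev.pow A r) (BrSev.pow B s) ≅ BrSev.pow (CohB1.tensorMod A B) (r * s)) := by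
  obtain ⟨e1⟩ := sum_tensor A (BrSev.pow B s) r
  obtain ⟨e2⟩ := sum_tensor B A s
  obtain ⟨e3⟩ := sum_sum (CohB1.tensorMod A B) r s
  exact ⟨e1 ≪≫ Sigma.mapIso (fun _ => TensorMod.Basic.comm A _ ≪≫ e2 ≪≫
    Sigma.mapIso (fun _ => TensorMod.Basic.comm B A)) ≪≫ e3⟩

/-- Let X be a scheme over a field k, K a field extension of k, e a K-isomorphism X_K ≅ P^n_K with
O_e(j) the pullback of O(j) along e, and W, W' two O_X-modules with W_K ≅ O_e(j)^{⊕r} and W'_K ≅
O_e(l)^{⊕s} for integers j, l and natural numbers r, s. Then the tensor product W ⊗_{O_X} W'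
satisfies (W ⊗ W')_K ≅ O_e(j + l)^{⊕rs}: the tensor product of absolutely rank-one-isotypical
modules of twisting types O(j) and O(l) is absolutely rank-one-isotypical of type O(j + l), in
particular absolutely split. (The published statement is for the indecomposable modules of types
O(j) and O(l) on a Severi–Brauer variety with K an algebraic closure; the argument uses only the
displayed decompositions.) -/
theorem result (k : Type u) [Field k] {X : Scheme.{u}}
    (f : X ⟶ Spec (CommRingCat.of k)) (n : ℕ)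
    (K : Type u) [Field K] [Algebra k K] (e : BrSev.Splitting f K n) (j l : ℤ) (r s : ℕ)
    (W W' : X.Modules) (hWt : BrSev.IsTwPow e j r W) (hW't : BrSev.IsTwPow e l s W') :
    BrSev.IsTwPow e (j + l) (r * s) (CohB1.tensorMod W W') := by
  obtain ⟨a⟩ := hWt
  obtain ⟨b⟩ := hW't
  obtain ⟨c⟩ := tensor_sums (e.twist j) (e.twist l) r s
  exact ⟨TensorMod.Pullback.pullbackTensorIso (BrSev.proj f K) W W' ≪≫ TensorMod.Basic.tensorIso a b ≪≫ c ≪≫
    Sigma.mapIso (fun _ => (TensorMod.Pullback.pullbackTensorIso e.iso.hom _ _).symm ≪≫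
      (Scheme.Modules.pullback e.iso.hom).mapIso (ProjCoh.Coherent.twTensor j l))⟩

end Groth.Agent.S14204
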