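import Groth.Statements.S14205
import Groth.Agent.Lib.Brauer.Index

set_option autoImplicit false
universe u v
open scoped TensorProduct
open Brauer

namespace Groth.Agent.S14205

/-- Let A be a finite-dimensional central simple algebra over a field k with period p: p is the least
positive integer for which the p-fold tensor power of A over k is a full matrix algebra over k. Then
for every r ≥ 1 the r-fold tensor power of A has period p / gcd(p, r) (the order of the r-th
multiple of an element of order p). -/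
theorem result (k : Type u) [Field k] (A : Type v) [Ring A] [Algebra k A]
    [Algebra.IsCentral k A] [IsSimpleRing A] [FiniteDimensional k A] (p : ℕ)
    (hp : CSAGal.IsPeriod k A p) (r : ℕ) (hr : 0 < r) :
    CSAGal.IsPeriod k (CSAGal.tpow k A r) (p / Nat.gcd p r) := by
  obtain ⟨h1, h2, h3⟩ := Groth.Agent.Lib.Brauer.Index.csa_tpow k A r
  have key : ∀ e, Curves.Splits k (CSAGal.tpow k (CSAGal.tpow k A r) e) k ↔ p / Nat.gcd p r ∣ e :=
      fun e => by
    obtain ⟨i1, i2, i3⟩ := Groth.Agent.Lib.Brauer.Index.csa_tpow k (CSAGal.tpow k A r) e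
    obtain ⟨j1, j2, j3⟩ := Groth.Agent.Lib.Brauer.Index.csa_tpow k A (r * e)
    have hb := Groth.Agent.Lib.Brauer.Index.tpow_mul (k := k) (A := A) r e
    have : p ∣ r * e ↔ p / Nat.gcd p r ∣ e := by
      obtain ⟨g, p', r', hg, hco, hp', hr'⟩ := Nat.exists_coprime' (m := p) (n := r)
        (Nat.gcd_pos_of_pos_right p hr)
      rw [hp', hr', Nat.gcd_mul_right, hco.gcd_eq_one, one_mul, Nat.mul_div_cancel _ hg,
        mul_comm r' g, mul_assoc, mul_comm p' g, Nat.mul_dvd_mul_iff_left hg]
      exact ⟨hco.dvd_of_dvd_mul_left, fun h => Dvd.dvd.mul_left h _⟩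
    rw [← this, ← Groth.Agent.Lib.Brauer.Index.period_dvd hp]
    exact ⟨Groth.Agent.Lib.Brauer.BEq.splits_of_beq hb k,
      Groth.Agent.Lib.Brauer.BEq.splits_of_beq hb.symm k⟩
  have hpos : 0 < p / Nat.gcd p r :=
    Nat.div_pos (Nat.gcd_le_left r hp.1) (Nat.gcd_pos_of_pos_right p hr)
  exact ⟨hpos, (key _).mpr dvd_rfl, fun e h0 hlt hs =>
    absurd (Nat.le_of_dvd h0 ((key e).mp hs)) (not_le.mpr hlt)⟩

end Groth.Agent.S14205
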