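import Groth.Statements.S14211
import Groth.Agent.Lib.Brauer.Quaternion
import Groth.Agent.Lib.Brauer.Period

set_option autoImplicit false
universe u v
open scoped TensorProduct
open Brauer

namespace Groth.Agent.S14211

/-- Let k be a field in which 2 ≠ 0 and A a finite-dimensional central simple k-algebra. Then A has
period 2 and index 2 (its Severi–Brauer variety has type (2, 2, 2m)) if and only if A is isomorphic
over k to a matrix algebra M_m(Q), m ≥ 1, over a quaternion algebra Q = (a, b)_k (the k-algebra with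
basis 1, i, j, ij, i² = a, j² = b, ij = −ji) which is a division ring; moreover such a quaternion
algebra is unique up to k-isomorphism. -/
theorem result (k : Type u) [Field k] (h2 : (2 : k) ≠ 0)
    (A : Type v) [Ring A] [Algebra k A] [Algebra.IsCentral k A] [IsSimpleRing A]
    [FiniteDimensional k A] :
    ((CSAGal.IsPeriod k A 2 ∧ CSAGal.IsIndex k A 2) ↔
      ∃ (a b : k) (m : ℕ), 0 < m ∧ (∀ x : QuaternionAlgebra k a 0 b, x ≠ 0 → IsUnit x) ∧
        Nonempty (A ≃ₐ[k] Matrix (Fin m) (Fin m) (QuaternionAlgebra k a 0 b))) ∧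
    (∀ (a b a' b' : k) (m m' : ℕ),
      (∀ x : QuaternionAlgebra k a 0 b, x ≠ 0 → IsUnit x) →
      (∀ x : QuaternionAlgebra k a' 0 b', x ≠ 0 → IsUnit x) →
      Nonempty (A ≃ₐ[k] Matrix (Fin m) (Fin m) (QuaternionAlgebra k a 0 b)) →
      Nonempty (A ≃ₐ[k] Matrix (Fin m') (Fin m') (QuaternionAlgebra k a' 0 b')) →
      Nonempty (QuaternionAlgebra k a 0 b ≃ₐ[k] QuaternionAlgebra k a' 0 b')) := by
  classical
  constructor
  · constructor
    · rintro ⟨-, hind⟩
      obtain ⟨-, m, D, _, _, _, _, hm, hf, -, ⟨e⟩⟩ := Groth.Agent.Lib.Brauer.Index.isIndex_elim hind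
      obtain ⟨a, b, ⟨f⟩⟩ := Groth.Agent.Lib.Brauer.Quaternion.exists_algEquiv h2
        (show Module.finrank k D = 4 by rw [hf]; norm_num)
      exact ⟨a, b, m, hm, fun x hx => by
        simpa using (isUnit_iff_ne_zero.mpr ((map_ne_zero_iff _ f.injective).mpr hx)).map f.symm,
        ⟨e.trans f.symm.mapMatrix⟩⟩
    · rintro ⟨a, b, m, hm, hQ, ⟨e⟩⟩
      letI : DivisionRing (QuaternionAlgebra k a 0 b) :=
        DivisionRing.ofIsUnitOrEqZero fun x => (em (x = 0)).symm.imp_left (hQ x)
      haveI := Groth.Agent.Lib.Brauer.Quaternion.isCentral a b h2 hQ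
      haveI : Module.Finite k (QuaternionAlgebra k a 0 b) :=
        Module.Finite.of_basis (QuaternionAlgebra.basisOneIJK a 0 b)
      have hind : CSAGal.IsIndex k A 2 := Groth.Agent.Lib.Brauer.Index.isIndex_of_beq two_pos
        (D := QuaternionAlgebra k a 0 b) (by rw [QuaternionAlgebra.finrank_eq_four]; norm_num)
        (Groth.Agent.Lib.Brauer.BEq.of_matrix_equiv hm.ne' e)
      refine ⟨?_, hind⟩
      obtain ⟨p, hp, hdvd⟩ := Groth.Agent.Lib.Brauer.Period.exists_period hind
      rcases (Nat.dvd_prime Nat.prime_two).mp hdvd with rfl | rfl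
      · exfalso
        have hs : Curves.Splits k A k := Groth.Agent.Lib.Brauer.BEq.splits_of_beq_base
          ((Groth.Agent.Lib.Brauer.BEq.of_algEquiv
            (Groth.Agent.Lib.Brauer.TPow.tpowOne k A)).symm.trans
            (Groth.Agent.Lib.Brauer.BEq.of_splits hp.2.1))
        exact absurd ((Groth.Agent.Lib.Brauer.Index.splits_iff_index_one hind).mp hs) (by norm_num)
      · exact hp
  · rintro a b a' b' m m' hQ hQ' ⟨e⟩ ⟨e'⟩
    have hm : ∀ {B : Type u} [Ring B] [Algebra k B] {n : ℕ},
        (A ≃ₐ[k] Matrix (Fin n) (Fin n) B) → n ≠ 0 := by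
      intro B _ _ n f hn
      subst hn
      exact not_subsingleton A f.toEquiv.subsingleton
    letI : DivisionRing (QuaternionAlgebra k a 0 b) :=
      DivisionRing.ofIsUnitOrEqZero fun x => (em (x = 0)).symm.imp_left (hQ x)
    letI : DivisionRing (QuaternionAlgebra k a' 0 b') :=
      DivisionRing.ofIsUnitOrEqZero fun x => (em (x = 0)).symm.imp_left (hQ' x)
    haveI := Groth.Agent.Lib.Brauer.Quaternion.isCentral a b h2 hQ
    haveI : Module.Finite k (QuaternionAlgebra k a 0 b) :=
      Module.Finite.of_basis (QuaternionAlgebra.basisOneIJK a 0 b)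
    haveI : Module.Finite k (QuaternionAlgebra k a' 0 b') :=
      Module.Finite.of_basis (QuaternionAlgebra.basisOneIJK a' 0 b')
    exact Groth.Agent.Lib.Brauer.BEq.divisionRing_equiv
      ((Groth.Agent.Lib.Brauer.BEq.of_matrix_equiv (hm e) e).symm.trans
        (Groth.Agent.Lib.Brauer.BEq.of_matrix_equiv (hm e') e'))

end Groth.Agent.S14211
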