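import Groth.Statements.S14228
import Groth.Agent.H84.RC.Special

set_option autoImplicit false
universe u v w x
open RootCh RootCh.Facet

namespace Groth.Agent.S14228

/-- For a finite reduced crystallographic root system over a linearly ordered field and a facet F, the
corners of F, i.e. the fundamental weights lying in the closure of F, form a linearly independent
set. -/
theorem result {ι : Type u} {R : Type v} {M : Type w} {N : Type x}
    [Field R] [LinearOrder R] [IsStrictOrderedRing R]
    [AddCommGroup M] [Module R M] [AddCommGroup N] [Module R N] [Finite ι]
    (P : RootPairing ι R M N) [P.IsRootSystem] [P.IsCrystallographic] [P.IsReduced] (F : RootCh.Facet P) :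
    LinearIndepOn R (fun m : M => m) F.corners := by
  classical
  obtain ⟨b, hb⟩ := Groth.Agent.H84.RC.cham_nonempty F
  rw [Groth.Agent.H84.RC.corners_eq F hb]
  have hli : LinearIndependent R (RootCh.fundWeight b) := by
    refine Fintype.linearIndependent_iff.mpr fun g hg i => ?_
    have := congrArg (P.coroot' i) hg
    rw [map_zero, map_sum, Finset.sum_eq_single i] at this
    · rwa [map_smul, RootCh.coroot'_fundWeight_self, smul_eq_mul, mul_one] at this
    · intro j _ hne
      rw [map_smul, RootCh.coroot'_fundWeight_of_ne b j i (Ne.symm hne), smul_zero]
    · simp
  exact (hli.linearIndepOn_id).mono (Set.image_subset_range _ _)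

end Groth.Agent.S14228
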