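import Groth.Statements.S14230
import Groth.Agent.H84.RC.Special

set_option autoImplicit false
universe u v w x
open RootCh RootCh.Facet

namespace Groth.Agent.S14230

/-- For a finite reduced crystallographic root system over a linearly ordered field and a facet F, the
vectors of F are exactly the linear combinations of the corners of F in which every corner of F
occurs with a strictly positive coefficient (written with a finitely supported coefficient function
supported inside the set of corners). -/
theorem result {ι : Type u} {R : Type v} {M : Type w} {N : Type x}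
    [Field R] [LinearOrder R] [IsStrictOrderedRing R]
    [AddCommGroup M] [Module R M] [AddCommGroup N] [Module R N] [Finite ι]
    (P : RootPairing ι R M N) [P.IsRootSystem] [P.IsCrystallographic] [P.IsReduced] (F : RootCh.Facet P) :
    F.carrier = {ξ : M | ∃ c : M →₀ R, (c.support : Set M) ⊆ F.corners ∧
      (∀ m ∈ F.corners, 0 < c m) ∧ c.sum (fun m r => r • m) = ξ} := by
  classical
  obtain ⟨b, hb⟩ := Groth.Agent.H84.RC.cham_nonempty F
  have hinj := Groth.Agent.H84.RC.fundWeight_injective b
  let J : Finset b.support := Finset.univ.filter fun i : b.support => F.sgn i = 1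
  have hC : F.corners = ((J.image (RootCh.fundWeight b) : Finset M) : Set M) := by
    rw [Groth.Agent.H84.RC.corners_eq F hb, Finset.coe_image, Finset.coe_filter]
    simp
  ext ξ
  constructor
  · intro hξ
    have hs := congrFun hξ
    refine ⟨∑ i ∈ J, Finsupp.single (RootCh.fundWeight b i) (P.coroot' i ξ), ?_, fun m hm => ?_, ?_⟩
    · intro m hm
      obtain ⟨i, hi, hm'⟩ := Finset.mem_biUnion.mp (Finsupp.support_finsetSum hm)
      rw [Finset.mem_singleton.mp (Finsupp.support_single_subset hm'), hC]
      exact Finset.mem_coe.mpr (Finset.mem_image_of_mem _ hi)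
    · rw [hC, Finset.mem_coe, Finset.mem_image] at hm
      obtain ⟨i, hi, rfl⟩ := hm
      rw [Finsupp.finsetSum_apply, Finset.sum_eq_single_of_mem i hi fun j _ hne =>
        Finsupp.single_eq_of_ne fun e => hne (hinj e).symm, Finsupp.single_eq_same]
      exact sign_eq_one_iff.mp ((hs i).trans (Finset.mem_filter.mp hi).2)
    · rw [← Finsupp.linearCombination_apply R, map_sum]
      simp only [Finsupp.linearCombination_single]
      conv_rhs => rw [Groth.Agent.H84.RC.weight_eq_sum b ξ]
      refine Finset.sum_subset (Finset.filter_subset _ _) fun i _ hi => ?_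
      have : F.sgn i = 0 :=
        (Groth.Agent.H84.RC.sgn_simple F hb i.2).resolve_right fun e => hi (by simp [J, e])
      rw [sign_eq_zero_iff.mp ((hs i).trans this), zero_smul]
  · rintro ⟨c, hc1, hc2, rfl⟩
    rw [hC] at hc1 hc2
    rw [Finsupp.sum_of_support_subset c (Finset.coe_subset.mp hc1) _ (fun m _ => zero_smul R m),
      Finset.sum_image fun i _ j _ h => hinj h]
    let G := RootCh.Facet.ofVec P (∑ i ∈ J, c (RootCh.fundWeight b i) • RootCh.fundWeight b i)
    have hs : ∀ j : b.support, G.sgn j = F.sgn j := fun j => by
      change SignType.sign (P.coroot' j (∑ i ∈ J, c (RootCh.fundWeight b i) • RootCh.fundWeight b i)) = _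
      simp only [map_sum, map_smul, smul_eq_mul, Groth.Agent.H84.RC.coroot'_fundWeight, mul_ite,
        mul_one, mul_zero, Finset.sum_ite_eq]
      split_ifs with h
      · rw [sign_pos (hc2 _ (Finset.mem_coe.mpr (Finset.mem_image_of_mem _ h))),
          (Finset.mem_filter.mp h).2]
      · rw [sign_zero]
        exact ((Groth.Agent.H84.RC.sgn_simple F hb j.2).resolve_right fun e => h (by simp [J, e])).symm
    have hbG : b ∈ G.cham := (Groth.Agent.H84.RC.mem_cham_iff_simple G).mpr fun i hi => by
      rw [hs ⟨i, hi⟩]; exact (Groth.Agent.H84.RC.mem_cham_iff_simple F).mp hb i hi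
    exact congrArg RootCh.Facet.sgn
      (Groth.Agent.H84.RC.facet_eq G hbG hb fun i hi => hs ⟨i, hi⟩)

end Groth.Agent.S14230
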