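import Groth.Statements.S14235
import Groth.Agent.H84.RC.Special

set_option autoImplicit false
universe u v w x
open RootCh

namespace Groth.Agent.S14235

/-- For a finite reduced crystallographic root system over a linearly ordered field and a parabolic set
of roots S, let vert S be the set of fundamental weights whose corresponding fundamental coweight
pairs non-negatively with every root of S. Then there is a unique facet whose set of corners is vert
S, and the parabolic set of roots of this facet (the roots whose sign on it is not negative) is S.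
(Here a parabolic set of roots is a set of roots closed under addition of roots and containing each
root or its negative; the published recall of the notion prints only the second condition, under
which, in type A₂, the set of all roots but the highest would qualify without being the parabolic
set of any facet, and the published proof uses that the set contains the positive roots of some
chamber.) -/
theorem result {ι : Type u} {R : Type v} {M : Type w} {N : Type x}
    [Field R] [LinearOrder R] [IsStrictOrderedRing R]
    [AddCommGroup M] [Module R M] [AddCommGroup N] [Module R N] [Finite ι]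
    (P : RootPairing ι R M N) [P.IsRootSystem] [P.IsCrystallographic] [P.IsReduced] (S : Set ι) (hS : RootCh.IsParabolicSubset P S) :
    ∃ F : RootCh.Facet P,
      (F.corners = {m : M | m ∈ RootCh.fundWeights P ∧ ∀ y : N, RootCh.Corr P m y → ∀ i ∈ S, 0 ≤ P.root' i y} ∧
        F.parab = S) ∧
      ∀ G : RootCh.Facet P,
        G.corners = {m : M | m ∈ RootCh.fundWeights P ∧ ∀ y : N, RootCh.Corr P m y → ∀ i ∈ S, 0 ≤ P.root' i y} →
        G = F := by
  classical
  obtain ⟨F, hF⟩ := Groth.Agent.H84.RC.exists_parab_eq hS
  have hc : F.corners = {m : M | m ∈ RootCh.fundWeights P ∧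
      ∀ y : N, RootCh.Corr P m y → ∀ i ∈ S, 0 ≤ P.root' i y} := by
    rw [← hF]; exact Groth.Agent.H84.RC.corners_eq_setOf F
  refine ⟨F, ⟨hc, hF⟩, fun G hG => ?_⟩
  rw [← hc] at hG
  have h1 : Groth.Agent.H84.RC.killed G = Groth.Agent.H84.RC.killed F := by
    rw [← Groth.Agent.H84.RC.span_corners_eq_killed, hG, Groth.Agent.H84.RC.span_corners_eq_killed]
  obtain ⟨b, hb⟩ := Groth.Agent.H84.RC.cham_nonempty F
  have hbG : b ∈ G.cham := by
    intro ξ hξ i hi
    have hmem : ξ ∈ Groth.Agent.H84.RC.killed G := by
      rw [← Groth.Agent.H84.RC.span_carrier_eq_killed]; exact Submodule.subset_span hξ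
    by_contra hlt
    -- every corner of `G` is dominant for `b`
    obtain ⟨c, hc'⟩ := Groth.Agent.H84.RC.cham_nonempty G
    have h3 : ξ = ∑ j : c.support, P.coroot' j ξ • RootCh.fundWeight c j :=
      Groth.Agent.H84.RC.weight_eq_sum c ξ
    apply hlt
    rw [h3, map_sum]
    refine Finset.sum_nonneg fun j _ => ?_
    rw [map_smul, smul_eq_mul]
    rcases Groth.Agent.H84.RC.sgn_simple G hc' j.2 with e | e
    · rw [Groth.Agent.H84.RC.mem_killed.mp hmem j e, zero_mul]
    · refine mul_nonneg (hc' hξ j j.2) ?_
      have hmemc : RootCh.fundWeight c j ∈ F.corners := by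
        rw [← hG, Groth.Agent.H84.RC.corners_eq G hc']; exact ⟨j, e, rfl⟩
      exact (Groth.Agent.H84.RC.corners_subset_baseCorners F hb hmemc).2 i hi
  refine Groth.Agent.H84.RC.facet_eq G hbG hb fun i hi => ?_
  have hmem : RootCh.fundWeight b ⟨i, hi⟩ ∈ G.corners ↔ RootCh.fundWeight b ⟨i, hi⟩ ∈ F.corners := by
    rw [hG]
  rw [Groth.Agent.H84.RC.corners_eq G hbG, Groth.Agent.H84.RC.corners_eq F hb,
    (Groth.Agent.H84.RC.fundWeight_injective b).mem_set_image,
    (Groth.Agent.H84.RC.fundWeight_injective b).mem_set_image] at hmem
  simp only [Set.mem_ofPred_eq] at hmem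
  rcases Groth.Agent.H84.RC.sgn_simple G hbG hi with e | e <;>
    rcases Groth.Agent.H84.RC.sgn_simple F hb hi with e' | e' <;> simp_all

end Groth.Agent.S14235
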