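import Groth.Statements.S14240
import Groth.Agent.H84.RC.Special

set_option autoImplicit false
universe u v w x
open RootCh

namespace Groth.Agent.S14240

/-- (ii) ⇔ (iv): for a finite reduced crystallographic root system over a linearly ordered field with a
complementary convex solid d (a vector d(b) of N for every Weyl chamber b, subject to (B1): a common
corner of two chambers pairs equally with their d-values, and (B2): across a wall, the root that
changes sign from positive to negative does not pair more with d on the positive side): every
one-dimensional facet F (the span of F has rank one) has degree at most zero, computed at any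
chamber adjacent to F as the sum of ⟨α, d(b)⟩ over the roots α whose sign on F is not negative, if
and only if (Φ, d) is semi-stable, i.e. 0 lies in the convex hull of the d(b). -/
theorem result {ι : Type u} {R : Type v} {M : Type w} {N : Type x}
    [Field R] [LinearOrder R] [IsStrictOrderedRing R]
    [AddCommGroup M] [Module R M] [AddCommGroup N] [Module R N] [Finite ι]
    (P : RootPairing ι R M N) [P.IsRootSystem] [P.IsCrystallographic] [P.IsReduced] (d : P.Base → N) (hd : RootCh.IsCCS d) :
    (∀ (F : RootCh.Facet P) (b : P.Base), F.dim = 1 → b ∈ F.cham → F.deg d b ≤ 0) ↔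
      RootCh.IsSemistable d := by
  classical
  rw [Groth.Agent.H84.RC.semistable_iff hd]
  constructor
  · intro h b w hw
    rw [Groth.Agent.H84.RC.baseCorners_eq] at hw
    obtain ⟨i, rfl⟩ := hw
    have hdim : (Groth.Agent.H84.RC.facetOf b {i}).dim = 1 := by
      rw [Groth.Agent.H84.RC.dim_eq hd _ (Groth.Agent.H84.RC.mem_cham_facetOf b {i}),
        Finset.card_eq_one]
      refine ⟨i, ?_⟩
      ext j
      simp only [Finset.mem_filter, Finset.mem_univ, true_and,
        Groth.Agent.H84.RC.sgn_facetOf_simple, Finset.mem_singleton]
      split_ifs with hj <;> simp [hj]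
    have := h _ b hdim (Groth.Agent.H84.RC.mem_cham_facetOf b {i})
    rw [Groth.Agent.H84.RC.deg_singleton hd] at this
    exact (mul_nonpos_iff_pos_imp_nonpos.mp this).1 (Groth.Agent.H84.RC.coroot'_rho_pos _
      (Groth.Agent.H84.RC.pos_of_mem_facetOf_singleton b i))
  · intro h F b _ hb
    rw [Groth.Agent.H84.RC.deg_eq hd,
      Groth.Agent.H84.RC.killed_expansion F hb (Groth.Agent.H84.RC.rho_mem_killed F)]
    refine Finset.sum_nonpos fun i hi => mul_nonpos_of_nonneg_of_nonpos ?_ ?_
    · exact (Groth.Agent.H84.RC.coroot'_rho_pos F (Finset.mem_filter.mp hi).2).le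
    · exact h b _ (by rw [Groth.Agent.H84.RC.baseCorners_eq]; exact ⟨i, rfl⟩)

end Groth.Agent.S14240
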