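import Groth.Statements.S14244
import Groth.Agent.H84.RC.Special

set_option autoImplicit false
universe u v w x
open RootCh

namespace Groth.Agent.S14244

/-- For a finite reduced crystallographic root system over a linearly ordered field with a complementary
convex solid d (a vector d(b) of N for every Weyl chamber b, subject to (B1): a common corner of two
chambers pairs equally with their d-values, and (B2): across a wall, the root that changes sign from
positive to negative does not pair more with d on the positive side). Let B be a scalar product on N
compatible with the Weyl group: a symmetric bilinear form with B(y, y) > 0 for y ≠ 0 that is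
invariant under every coreflection. If the facet F is special, then the intersection of the
hyperplanes H_m = {y | ⟨m, y⟩ = ⟨m, d(b)⟩, b any chamber with corner m} over the corners m of F with
the span of the dual facet of F is a single point y(F), this point lies in the solid (the convex
hull of all the d(b)), and every other point y of the solid has B(y, y) > B(y(F), y(F)). Here a
facet is special when its dual facet (the corresponding facet of the dual root system, in N) meets
its dual solid, the convex hull of the values of d at the chambers adjacent to it. (The published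
definition of a special facet asks instead that all its numerical invariants be positive and that
the reduced root system with convex solid attached to the facet be semi-stable; it is proved there
to be equivalent to the condition used in this row.) -/
theorem result {ι : Type u} {R : Type v} {M : Type w} {N : Type x}
    [Field R] [LinearOrder R] [IsStrictOrderedRing R]
    [AddCommGroup M] [Module R M] [AddCommGroup N] [Module R N] [Finite ι]
    (P : RootPairing ι R M N) [P.IsRootSystem] [P.IsCrystallographic] [P.IsReduced] (d : P.Base → N) (hd : RootCh.IsCCS d)
    (B : LinearMap.BilinForm R N) (hBs : ∀ y z : N, B y z = B z y) (hBp : ∀ y : N, y ≠ 0 → 0 < B y y)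
    (hBi : ∀ (i : ι) (y z : N), B (P.coreflection i y) (P.coreflection i z) = B y z)
    (F : RootCh.Facet P) (hF : RootCh.IsSpecial d F) :
    ∃ y₀ : N, RootCh.yLocus d F = {y₀} ∧ y₀ ∈ RootCh.solid d ∧
      ∀ y ∈ RootCh.solid d, y ≠ y₀ → B y₀ y₀ < B y y := by
  classical
  obtain ⟨y₀, hc, hs, hloc, -⟩ := Groth.Agent.H84.RC.special_point hd F hF
  refine ⟨y₀, hloc, Groth.Agent.H84.RC.dualSolid_subset_solid F hs, fun y hy hne => ?_⟩
  obtain ⟨ξ, hξ'⟩ := P.toPerfPair.surjective (B y₀)
  have hξ : P.toLinearMap ξ = B y₀ := hξ'
  have hsign : ∀ i, SignType.sign (P.coroot' i ξ) = F.sgn i := by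
    intro i
    have hco : P.coreflection i (P.coroot i) = -P.coroot i := by
      rw [RootPairing.coreflection_apply, RootPairing.root_coroot_two]; module
    have h2 : 2 * P.coroot' i ξ = P.root' i y₀ * B (P.coroot i) (P.coroot i) := by
      have e : B (P.coreflection i y₀) (P.coreflection i (P.coroot i)) = B y₀ (P.coroot i) := hBi i _ _
      rw [hco, RootPairing.coreflection_apply, map_neg, map_sub, map_smul, LinearMap.sub_apply,
        LinearMap.smul_apply, smul_eq_mul] at e
      change 2 * P.toLinearMap ξ (P.coroot i) = _
      rw [hξ]; linarith
    have hne' : P.coroot i ≠ 0 := P.flip.ne_zero i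
    rw [← show SignType.sign (P.root' i y₀) = F.sgn i from congrFun hc i]
    have := congrArg SignType.sign h2
    rwa [sign_mul, sign_mul, sign_pos (two_pos (α := R)), sign_pos (hBp _ hne'), one_mul, mul_one]
      at this
  obtain ⟨b, hb⟩ := Groth.Agent.H84.RC.cham_nonempty F
  have hk : ξ ∈ Groth.Agent.H84.RC.killed F := Groth.Agent.H84.RC.mem_killed.mpr fun l hl =>
    sign_eq_zero_iff.mp ((hsign l).trans hl)
  have hge : B y₀ y₀ ≤ B y₀ y := by
    rw [← hξ, Groth.Agent.H84.RC.killed_expansion F hb hk, Groth.Agent.H84.RC.killed_expansion F hb hk]
    refine Finset.sum_le_sum fun i hi => mul_le_mul_of_nonneg_left ?_ ?_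
    · have hmem : RootCh.fundWeight b i ∈ Groth.Agent.H84.RC.killed F := by
        rw [← Groth.Agent.H84.RC.span_corners_eq_killed, Groth.Agent.H84.RC.corners_eq F hb]
        exact Submodule.subset_span ⟨i, (Finset.mem_filter.mp hi).2, rfl⟩
      rw [Groth.Agent.H84.RC.pairing_dualSolid hd F hs hmem hb]
      exact Groth.Agent.H84.RC.le_solid hd hy
        (by rw [Groth.Agent.H84.RC.baseCorners_eq]; exact ⟨i, rfl⟩)
    · exact (sign_eq_one_iff.mp ((hsign i).trans (Finset.mem_filter.mp hi).2)).le
  have hpos := hBp (y - y₀) (sub_ne_zero.mpr hne)
  simp only [map_sub, LinearMap.sub_apply] at hpos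
  rw [hBs y y₀] at hpos
  linarith

end Groth.Agent.S14244
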