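import Groth.Statements.S14245
import Groth.Agent.H84.RC.Special

set_option autoImplicit false
universe u v w x
open RootCh

namespace Groth.Agent.S14245

/-- For a finite reduced crystallographic root system over a linearly ordered field with a complementary
convex solid d (a vector d(b) of N for every Weyl chamber b, subject to (B1): a common corner of two
chambers pairs equally with their d-values, and (B2): across a wall, the root that changes sign from
positive to negative does not pair more with d on the positive side). Let B be a scalar product on N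
compatible with the Weyl group: a symmetric bilinear form with B(y, y) > 0 for y ≠ 0 that is
invariant under every coreflection. If y₀ is a point of the solid (the convex hull of all the d(b))
with B(y₀, y₀) ≤ B(y, y) for every point y of the solid, and F is the facet whose dual facet
contains y₀, then F is special and the intersection of the hyperplanes H_m over the corners m of F
with the span of the dual facet of F is exactly {y₀}. Here a facet is special when its dual facet
(the corresponding facet of the dual root system, in N) meets its dual solid, the convex hull of the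
values of d at the chambers adjacent to it. (The published definition of a special facet asks
instead that all its numerical invariants be positive and that the reduced root system with convex
solid attached to the facet be semi-stable; it is proved there to be equivalent to the condition
used in this row.) -/
theorem result {ι : Type u} {R : Type v} {M : Type w} {N : Type x}
    [Field R] [LinearOrder R] [IsStrictOrderedRing R]
    [AddCommGroup M] [Module R M] [AddCommGroup N] [Module R N] [Finite ι]
    (P : RootPairing ι R M N) [P.IsRootSystem] [P.IsCrystallographic] [P.IsReduced] (d : P.Base → N) (hd : RootCh.IsCCS d)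
    (B : LinearMap.BilinForm R N) (hBs : ∀ y z : N, B y z = B z y) (hBp : ∀ y : N, y ≠ 0 → 0 < B y y)
    (hBi : ∀ (i : ι) (y z : N), B (P.coreflection i y) (P.coreflection i z) = B y z)
    (y₀ : N) (hy₀ : y₀ ∈ RootCh.solid d) (hmin : ∀ y ∈ RootCh.solid d, B y₀ y₀ ≤ B y y)
    (F : RootCh.Facet P) (hF : y₀ ∈ F.dualCarrier) :
    RootCh.IsSpecial d F ∧ RootCh.yLocus d F = {y₀} := by
  classical
  obtain ⟨ξ, hξ'⟩ := P.toPerfPair.surjective (B y₀)
  have hξ : P.toLinearMap ξ = B y₀ := hξ'
  have hsign : ∀ i, SignType.sign (P.coroot' i ξ) = F.sgn i := by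
    intro i
    have hco : P.coreflection i (P.coroot i) = -P.coroot i := by
      rw [RootPairing.coreflection_apply, RootPairing.root_coroot_two]; module
    have h2 : 2 * P.coroot' i ξ = P.root' i y₀ * B (P.coroot i) (P.coroot i) := by
      have e : B (P.coreflection i y₀) (P.coreflection i (P.coroot i)) = B y₀ (P.coroot i) := hBi i _ _
      rw [hco, RootPairing.coreflection_apply, map_neg, map_sub, map_smul, LinearMap.sub_apply,
        LinearMap.smul_apply, smul_eq_mul] at e
      change 2 * P.toLinearMap ξ (P.coroot i) = _
      rw [hξ]; linarith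
    have hne' : P.coroot i ≠ 0 := P.flip.ne_zero i
    rw [← show SignType.sign (P.root' i y₀) = F.sgn i from congrFun hF i]
    have := congrArg SignType.sign h2
    rwa [sign_mul, sign_mul, sign_pos (two_pos (α := R)), sign_pos (hBp _ hne'), one_mul, mul_one]
      at this
  have hfirst : ∀ y ∈ RootCh.solid d, B y₀ y₀ ≤ B y₀ y := by
    intro y hy
    by_contra h
    push Not at h
    set z := y - y₀ with hz
    have hz0 : B y₀ z < 0 := by rw [hz, map_sub]; linarith
    have hzne : z ≠ 0 := fun e => by rw [e, map_zero] at hz0; exact lt_irrefl _ hz0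
    have hzz := hBp z hzne
    obtain ⟨t, ht0, ht1, ht2⟩ : ∃ t : R, 0 < t ∧ t ≤ 1 ∧ t * B z z ≤ -B y₀ z :=
      ⟨min 1 (-B y₀ z / B z z), lt_min one_pos (div_pos (neg_pos.mpr hz0) hzz), min_le_left _ _,
        (mul_le_mul_of_nonneg_right (min_le_right _ _) hzz.le).trans
          (div_mul_cancel₀ _ hzz.ne').le⟩
    have hmem : y₀ + t • z ∈ RootCh.solid d :=
      (convex_convexHull R _).add_smul_sub_mem hy₀ hy ⟨ht0.le, ht1⟩
    have hm := hmin _ hmem
    simp only [map_add, map_smul, LinearMap.add_apply, LinearMap.smul_apply, smul_eq_mul] at hm
    rw [hBs z y₀] at hm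
    nlinarith
  obtain ⟨b, hb⟩ := Groth.Agent.H84.RC.cham_nonempty F
  have hk : ξ ∈ Groth.Agent.H84.RC.killed F := Groth.Agent.H84.RC.mem_killed.mpr fun l hl =>
    sign_eq_zero_iff.mp ((hsign l).trans hl)
  have heq : ∀ c ∈ F.cham, ∀ i : c.support, F.sgn i = 1 →
      P.toLinearMap (RootCh.fundWeight c i) y₀ = P.toLinearMap (RootCh.fundWeight c i) (d c) := by
    intro c hc
    have h1 := hfirst (d c) (subset_convexHull R _ (Set.mem_range_self c))
    rw [← hξ, Groth.Agent.H84.RC.killed_expansion F hc hk,
      Groth.Agent.H84.RC.killed_expansion F hc hk] at h1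
    have hterm : ∀ i ∈ Finset.univ.filter (fun i : c.support => F.sgn i = 1),
        P.coroot' i ξ * P.toLinearMap (RootCh.fundWeight c i) (d c) ≤
          P.coroot' i ξ * P.toLinearMap (RootCh.fundWeight c i) y₀ := fun i hi =>
      mul_le_mul_of_nonneg_left (Groth.Agent.H84.RC.le_solid hd hy₀
          (by rw [Groth.Agent.H84.RC.baseCorners_eq]; exact ⟨i, rfl⟩))
        (sign_eq_one_iff.mp ((hsign i).trans (Finset.mem_filter.mp hi).2)).le
    have h2 := (Finset.sum_eq_sum_iff_of_le hterm).mp (le_antisymm (Finset.sum_le_sum hterm) h1)
    intro i hi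
    have := h2 i (by simp [hi])
    exact (mul_left_cancel₀ (sign_eq_one_iff.mp ((hsign i).trans hi)).ne' this).symm
  have hds : y₀ ∈ RootCh.dualSolid d F :=
    Groth.Agent.H84.RC.mem_dualSolid_of_forall hd F heq fun c _ i _ =>
      Groth.Agent.H84.RC.le_solid hd hy₀ (by rw [Groth.Agent.H84.RC.baseCorners_eq]; exact ⟨i, rfl⟩)
  exact ⟨⟨y₀, hF, hds⟩, Groth.Agent.H84.RC.yLocus_eq hd F hb (Submodule.subset_span hF)
    fun η hη => Groth.Agent.H84.RC.pairing_dualSolid hd F hds hη hb⟩

end Groth.Agent.S14245
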