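import Groth.Statements.S14253
import Groth.Agent.H98.PerfUH
import Groth.Agent.Lib.Perfection.Morph

set_option autoImplicit false
set_option linter.style.haveILetI false
universe u
open CategoryTheory AlgebraicGeometry
open PerfSch

namespace Groth.Agent.S14253
open CategoryTheory AlgebraicGeometry

/-- A universal homeomorphism f : X ⟶ Y between perfect schemes of prime characteristic p (on every open
of X and of Y, p = 0 in the ring of sections and the p-th power map is bijective) is an isomorphism. -/
theorem result (p : ℕ) [Fact p.Prime] {X Y : Scheme.{u}} (f : X ⟶ Y)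
    (hX : PerfSch.IsPerfect p X) (hY : PerfSch.IsPerfect p Y) (hf : FlatMor.IsUnivHomeo f) : IsIso f := by
  obtain ⟨hc, hi, hs⟩ := Groth.Agent.Lib.Perfection.Morph.props_of_isUnivHomeo hf
  haveI := hc
  haveI := hi
  haveI := hs
  have hhom : IsHomeomorph f.base := isHomeomorph_iff_continuous_isClosedMap_bijective.mpr
    ⟨f.continuous, f.isClosedMap, f.injective, f.surjective⟩
  haveI : IsAffineHom f := isAffineHom_of_isInducing f hhom.isInducing
    hhom.isClosedEmbedding.isClosed_range
  haveI : IsIntegralHom f := IsIntegralHom.iff_universallyClosed_and_isAffineHom.mpr ⟨hc, ‹_›⟩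
  haveI : ∀ U : Y.affineOpens, IsIso (f ∣_ U.1) := by
    intro U
    haveI : IsAffine (U.1 : Scheme.{u}) := U.2
    haveI : IsAffine (f ⁻¹ᵁ U.1 : X.Opens).toScheme := U.2.preimage f
    suffices h : Function.Bijective (f ∣_ U.1).appTop.hom by
      haveI : IsIso (f ∣_ U.1).appTop := (ConcreteCategory.isIso_iff_bijective _).mpr h
      exact (MorphismProperty.arrow_mk_iso_iff (MorphismProperty.isomorphisms Scheme)
        (arrowIsoSpecΓOfIsAffine (f ∣_ U.1))).mpr
          (inferInstanceAs (IsIso (Spec.map (f ∣_ U.1).appTop)))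
    set g := f ∣_ U.1 with hg
    haveI : UniversallyInjective g :=
      IsZariskiLocalAtTarget.restrict (P := @UniversallyInjective) hi _
    haveI : Surjective g := IsZariskiLocalAtTarget.restrict (P := @Surjective) hs _
    letI : Algebra Γ(U.1, ⊤) Γ(f ⁻¹ᵁ U.1, ⊤) := g.appTop.hom.toAlgebra
    have hperf : ∀ {Z : Scheme.{u}} (V : Z.Opens), PerfSch.IsPerfect p Z →
        ((p : Γ(V.toScheme, ⊤)) = 0) ∧ Function.Bijective fun s : Γ(V.toScheme, ⊤) => s ^ p :=
      fun V hZ => hZ _
    haveI : Algebra.IsIntegral Γ(U.1, ⊤) Γ(f ⁻¹ᵁ U.1, ⊤) := by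
      have h : g.appTop.hom.IsIntegral :=
        IsIntegralHom.isIntegral_app (f := g) ⊤ (isAffineOpen_top _)
      exact ⟨h⟩
    have hbij : Function.Bijective (PrimeSpectrum.comap g.appTop.hom) := by
      have hb : Function.Bijective g.base := ⟨g.injective, g.surjective⟩
      have e : (g ≫ (Scheme.isoSpec U.1.toScheme).hom) =
          (Scheme.isoSpec _).hom ≫ Spec.map g.appTop := (Scheme.isoSpec_hom_naturality g).symm
      have h2 : Function.Bijective
          (((Scheme.isoSpec _).hom ≫ Spec.map g.appTop) : _ ⟶ _).base := by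
        rw [← e]
        exact (Scheme.isoSpec U.1.toScheme).hom.homeomorph.bijective.comp hb
      exact (Function.Bijective.of_comp_iff _
        (Scheme.isoSpec (f ⁻¹ᵁ U.1 : X.Opens).toScheme).hom.homeomorph.bijective).mp h2
    refine ⟨fun a b hab => ?_, Groth.Agent.H98.PerfUH.surjective_algebraMap p
      (hperf U.1 hY).1 (hperf U.1 hY).2 (hperf _ hX).2 ?_ hbij⟩
    · have hn : IsNilpotent (a - b) := by
        rw [← mem_nilradical, nilradical_eq_sInf, Ideal.mem_sInf]
        intro P hP
        obtain ⟨⟨Q, hQ⟩, hQP⟩ := hbij.2 ⟨P, hP⟩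
        refine (SetLike.ext_iff.mp (congr_arg PrimeSpectrum.asIdeal hQP) (a - b)).mp ?_
        change g.appTop.hom (a - b) ∈ Q
        rw [map_sub]
        rw [hab, sub_self]
        exact Q.zero_mem
      obtain ⟨n, hn⟩ := hn
      have hb := Groth.Agent.Lib.Perfection.Morph.pow_pp_bijective p (hperf U.1 hY).2 n
      refine sub_eq_zero.mp (hb.1 ?_)
      simp only [zero_pow (pow_ne_zero _ (Fact.out : p.Prime).ne_zero)]
      exact pow_eq_zero_of_le (Nat.lt_pow_self (Fact.out : p.Prime).one_lt).le hn
    · intro K _ ψ₁ ψ₂ h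
      have h2 : ∀ (K : Type u) [Field K], Function.Injective
          (fun k : Spec (.of K) ⟶ (f ⁻¹ᵁ U.1 : X.Opens).toScheme => k ≫ g) :=
        ((tfae_universallyInjective g).out 0 1).mp ‹UniversallyInjective g›
      have h3 := @h2 K _ (Spec.map (CommRingCat.ofHom ψ₁) ≫ (Scheme.isoSpec _).inv)
        (Spec.map (CommRingCat.ofHom ψ₂) ≫ (Scheme.isoSpec _).inv) (by
          simp only [Category.assoc]
          rw [← Scheme.isoSpec_inv_naturality g, ← Spec.map_comp_assoc, ← Spec.map_comp_assoc]
          congr 2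
          exact CommRingCat.hom_ext h)
      rw [cancel_mono, Spec.map_inj] at h3
      exact congr_arg CommRingCat.Hom.hom h3
  exact IsZariskiLocalAtTarget.of_iSup_eq_top (P := MorphismProperty.isomorphisms Scheme)
    _ (iSup_affineOpens_eq_top Y) this

end Groth.Agent.S14253
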