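import Groth.Statements.S14255
import Groth.Agent.Lib.Perfection.Morph
-- import your own Groth.Agent.* helpers here

set_option autoImplicit false
universe u
open FrobAlg

namespace Groth.Agent.S14255

/-- Let p be a prime, φ : A → B a flat map of commutative rings of characteristic p, i : A → A' and j :
B → B' perfect closures (A', B' perfect rings of characteristic p, every element of A' resp. B' has
a p^n-th power in the image of i resp. j, the kernels of i and j consist of nilpotent elements), and
φ' : A' → B' the induced map, φ' ∘ i = j ∘ φ. Then φ' is flat. (The published statement is that the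
perfection of a flat morphism of schemes over the prime field is flat; this row is its affine case,
to which the published proof reduces.) -/
theorem result (p : ℕ) [Fact p.Prime]
    {A B A' B' : Type u} [CommRing A] [CommRing B] [CommRing A'] [CommRing B']
    [CharP A p] [CharP B p] [CharP A' p] [CharP B' p] [PerfectRing A' p] [PerfectRing B' p]
    (φ : A →+* B) (hflat : φ.Flat) (i : A →+* A') (j : B →+* B') [IsPerfectClosure i p] [IsPerfectClosure j p]
    (φ' : A' →+* B') (hφ : φ'.comp i = j.comp φ) : φ'.Flat := by
  have sd : ∀ {R S : Type u} [CommRing R] [CommRing S] (f : R →+* S) [IsPRadical f p],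
      Groth.Agent.Lib.Perfection.Local.SecDesc p (CommRingCat.ofHom f) := fun {R S} _ _ f _ =>
    ⟨fun s => IsPRadical.pow_mem f p s,
      fun r hr => mem_nilradical.1 (pNilradical_le_nilradical (IsPRadical.ker_le f p hr))⟩
  exact Groth.Agent.Lib.Perfection.Morph.flat_of p (φ := CommRingCat.ofHom φ) (ψ := CommRingCat.ofHom φ')
    (α := CommRingCat.ofHom i) (β := CommRingCat.ofHom j)
    (CommRingCat.hom_ext hφ.symm) (PerfectRing.bijective_frobenius (R := A') (p := p))
    (PerfectRing.bijective_frobenius (R := B') (p := p)) (CharP.cast_eq_zero A p) (sd i) (sd j) hflat

end Groth.Agent.S14255
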