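import Groth.Statements.S14257
import Groth.Agent.Lib.RelFrobEtale
import Groth.Agent.Lib.H58PerfClos
-- import your own Groth.Agent.* helpers here

set_option autoImplicit false
universe u
open TensorProduct
open FrobAlg

namespace Groth.Agent.S14257

/-- Let p be a prime, A a commutative ring of characteristic p, B an etale A-algebra of characteristic
p, A → A' and B → B' perfect closures (A', B' perfect rings of characteristic p, every element of A'
resp. B' has a p^n-th power in the image of A resp. B, and the structure maps have kernels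
consisting of nilpotent elements), B' viewed as an A-algebra through B, and φ' : A' → B' a map of
A-algebras. Then the natural map A' ⊗_A B → B', a ⊗ b ↦ φ'(a) b, is bijective. (The published
statement is for an etale morphism X → Y of schemes over the prime field, where X_perf → X ×_Y
Y_perf is an isomorphism; this row is the affine case.) -/
theorem result (p : ℕ) [Fact p.Prime]
    (A B A' B' : Type u) [CommRing A] [CommRing B] [CommRing A'] [CommRing B']
    [CharP A p] [CharP B p] [CharP A' p] [CharP B' p] [PerfectRing A' p] [PerfectRing B' p]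
    [Algebra A B] [Algebra.Etale A B] [Algebra A A'] [Algebra B B'] [Algebra A B'] [IsScalarTower A B B']
    [IsPerfectClosure (algebraMap A A') p] [IsPerfectClosure (algebraMap B B') p]
    (φ' : A' →ₐ[A] B') :
    Function.Bijective (Algebra.TensorProduct.lift φ' (IsScalarTower.toAlgHom A B B')
      (fun a b => Commute.all (φ' a) (IsScalarTower.toAlgHom A B B' b))) := by
  have hp := (Fact.out : p.Prime)
  set f := Algebra.TensorProduct.lift φ' (IsScalarTower.toAlgHom A B B')
      (fun a b => Commute.all (φ' a) (IsScalarTower.toAlgHom A B B' b)) with hf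
  haveI : Nontrivial B' := CharP.nontrivial_of_char_ne_one (v := p) hp.ne_one
  haveI : Nontrivial (A' ⊗[A] B) := f.toRingHom.domain_nontrivial
  haveI hT : CharP (A' ⊗[A] B) p := (CharP.charP_iff_prime_eq_zero hp).2 (by
    rw [← map_natCast (algebraMap A (A' ⊗[A] B)), CharP.cast_eq_zero, map_zero])
  have hrel := Groth.Agent.Lib.RelFrobEtale.bijective_of_etale p (A := A') (B := A' ⊗[A] B)
  let ι : Twist p A' →ₐ[A'] (A' ⊗[A] B) :=
    { (algebraMap A' (A' ⊗[A] B)).comp ((frobeniusEquiv A' p).symm.toRingHom.comp (toTwist p A').symm.toRingHom) with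
      commutes' := fun c => by
        show algebraMap A' (A' ⊗[A] B) ((frobeniusEquiv A' p).symm ((toTwist p A').symm (algebraMap A' (Twist p A') c))) = _
        rw [algebraMap_twist, RingEquiv.symm_apply_apply, ← frobenius_def, frobeniusEquiv_symm_apply_frobenius] }
  let π : BaseChange p A' (A' ⊗[A] B) →ₐ[A'] (A' ⊗[A] B) :=
    Algebra.TensorProduct.lift (AlgHom.id A' _) ι (fun _ _ => Commute.all _ _)
  have hbij : Function.Bijective (frobenius (A' ⊗[A] B) p) := by
    constructor
    · refine (injective_iff_map_eq_zero _).2 fun x hx => ?_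
      rw [frobenius_def] at hx
      have h1 : (x ⊗ₜ[A'] (1 : Twist p A') : BaseChange p A' (A' ⊗[A] B)) = 0 := hrel.1 (by
        rw [Groth.Agent.Lib.RelFrobEtale.relFrob_tmul, map_one, map_one, mul_one, hx, map_zero])
      simpa [π] using congr_arg π h1
    · intro y
      obtain ⟨z, rfl⟩ := hrel.2 y
      induction z using TensorProduct.induction_on with
      | zero => exact ⟨0, by simp⟩
      | tmul t a =>
        refine ⟨t * algebraMap A' _ ((frobeniusEquiv A' p).symm ((toTwist p A').symm a)), ?_⟩
        rw [Groth.Agent.Lib.RelFrobEtale.relFrob_tmul, frobenius_def, mul_pow, ← map_pow, frobeniusEquiv_symm_pow_p]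
      | add x y hx hy =>
        obtain ⟨u, hu⟩ := hx
        obtain ⟨v, hv⟩ := hy
        exact ⟨u + v, by rw [map_add, map_add, hu, hv]⟩
  haveI : PerfectRing (A' ⊗[A] B) p := ⟨hbij⟩
  have hpow : ∀ t : A' ⊗[A] B, ∃ N, ∀ n, N ≤ n → ∃ b : B, (1 : A') ⊗ₜ[A] b = t ^ p ^ n := by
    intro t
    induction t using TensorProduct.induction_on with
    | zero => exact ⟨0, fun n _ => ⟨0, by rw [tmul_zero, zero_pow (pow_ne_zero _ hp.ne_zero)]⟩⟩
    | tmul a b =>
      obtain ⟨m, x, hx⟩ := IsPRadical.pow_mem (algebraMap A A') p a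
      refine ⟨m, fun n hn => ⟨algebraMap A B (x ^ p ^ (n - m)) * b ^ p ^ n, ?_⟩⟩
      rw [Algebra.TensorProduct.tmul_pow, ← Algebra.smul_def, tmul_smul, smul_tmul', Algebra.smul_def,
        mul_one, map_pow, hx, ← pow_mul, ← pow_add, Nat.add_sub_cancel' hn]
    | add x y hx hy =>
      obtain ⟨N, hN⟩ := hx
      obtain ⟨M, hM⟩ := hy
      refine ⟨N + M, fun n hn => ?_⟩
      obtain ⟨b, hb⟩ := hN n (le_of_add_le_left hn)
      obtain ⟨c, hc⟩ := hM n (le_of_add_le_right hn)
      exact ⟨b + c, by rw [tmul_add, hb, hc, add_pow_expChar_pow]⟩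
  have hfb : ∀ b : B, f ((1 : A') ⊗ₜ[A] b) = algebraMap B B' b := fun b => by
    rw [hf, Algebra.TensorProduct.lift_tmul, map_one, one_mul]; rfl
  constructor
  · refine (injective_iff_map_eq_zero f).2 fun t ht => ?_
    obtain ⟨N, hN⟩ := hpow t
    obtain ⟨b, hb⟩ := hN N le_rfl
    have h1 : algebraMap B B' b = 0 := by
      rw [← hfb, hb, map_pow, ht, zero_pow (pow_ne_zero _ hp.ne_zero)]
    have h2 : IsNilpotent (t ^ p ^ N) := hb ▸
      (Groth.Agent.Lib.H58PerfClos.isNilpotent_of_eq_zero p _ h1).map
        (Algebra.TensorProduct.includeRight : B →ₐ[A] A' ⊗[A] B)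
    have h3 : t ∈ pNilradical (A' ⊗[A] B) p := by
      rw [pNilradical_prime hp]
      obtain ⟨m, hm⟩ := h2
      exact mem_nilradical.2 ⟨p ^ N * m, by rw [pow_mul, hm]⟩
    rwa [PerfectRing.pNilradical_eq_bot (A' ⊗[A] B) p, Ideal.mem_bot] at h3
  · intro y
    obtain ⟨n, b, hb⟩ := IsPRadical.pow_mem (algebraMap B B') p y
    obtain ⟨s, hs⟩ := (iterateFrobeniusEquiv (A' ⊗[A] B) p n).surjective ((1 : A') ⊗ₜ[A] b)
    refine ⟨s, (iterateFrobeniusEquiv B' p n).injective ?_⟩
    rw [iterateFrobeniusEquiv_def] at hs ⊢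
    rw [iterateFrobeniusEquiv_def, ← map_pow, hs, hfb, hb]

end Groth.Agent.S14257
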