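import Groth.Statements.S14260
import Groth.Agent.S14255
import Groth.Agent.Lib.H58PerfClos
-- import your own Groth.Agent.* helpers here

set_option autoImplicit false
universe u
open FrobAlg

namespace Groth.Agent.S14260

/-- Let p be a prime, φ : A → B a faithfully flat map of commutative rings of characteristic p, i : A →
A' and j : B → B' perfect closures (A', B' perfect rings of characteristic p, every element of A'
resp. B' has a p^n-th power in the image of i resp. j, the kernels of i and j consist of nilpotent
elements), and φ' : A' → B' the induced map, φ' ∘ i = j ∘ φ. Then φ' is faithfully flat. (The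
published statement is that the perfection of a faithfully flat morphism of schemes over the prime
field is faithfully flat; this row is its affine case, to which the published proof reduces.) -/
theorem result (p : ℕ) [Fact p.Prime]
    {A B A' B' : Type u} [CommRing A] [CommRing B] [CommRing A'] [CommRing B']
    [CharP A p] [CharP B p] [CharP A' p] [CharP B' p] [PerfectRing A' p] [PerfectRing B' p]
    (φ : A →+* B) (hflat : φ.FaithfullyFlat) (i : A →+* A') (j : B →+* B') [IsPerfectClosure i p]
    [IsPerfectClosure j p] (φ' : A' →+* B') (hφ : φ'.comp i = j.comp φ) : φ'.FaithfullyFlat := by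
  rw [RingHom.FaithfullyFlat.iff_flat_and_comap_surjective] at hflat ⊢
  refine ⟨Groth.Agent.S14255.result p φ hflat.1 i j φ' hφ, fun Q => ?_⟩
  obtain ⟨P, hP⟩ := hflat.2 (PrimeSpectrum.comap i Q)
  obtain ⟨P', rfl⟩ := Groth.Agent.Lib.H58PerfClos.comap_surjective p j P
  refine ⟨P', Groth.Agent.Lib.H58PerfClos.comap_injective p i ?_⟩
  rw [← hP, ← PrimeSpectrum.comap_comp_apply, ← PrimeSpectrum.comap_comp_apply, hφ]

end Groth.Agent.S14260
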