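import Groth.Statements.S14262
import Mathlib.RingTheory.Flat.EquationalCriterion
-- import your own Groth.Agent.* helpers here

set_option autoImplicit false
universe u
open FrobAlg

namespace Groth.Agent.S14262

/-- Let p be a prime, A a perfect ring of characteristic p and f ∈ A. The radical of the principal ideal
(f) — equivalently the ideal generated by all p^n-th roots of f, n ≥ 0 — is a flat A-module. -/
theorem result (p : ℕ) [Fact p.Prime] (A : Type u) [CommRing A]
    [CharP A p] [PerfectRing A p] (f : A) :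
    Module.Flat A ((Ideal.span {f}).radical) := by
  have hp := (Fact.out : p.Prime)
  let e : ℕ → (A ≃+* A) := fun n => iterateFrobeniusEquiv A p n
  have he : ∀ n x, e n x = x ^ p ^ n := fun n x => iterateFrobeniusEquiv_def A p n x
  let g : ℕ → A := fun n => (e n).symm f
  have hg : ∀ n, g n ^ p ^ n = f := fun n => by rw [← he, RingEquiv.apply_symm_apply]
  have hsucc : ∀ n, g (n + 1) ^ p = g n := fun n => (e n).injective (by
    rw [he, he, hg, ← pow_mul, ← pow_succ', hg])
  have hmem : ∀ n, g n ∈ (Ideal.span {f}).radical := fun n =>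
    ⟨p ^ n, by rw [hg]; exact Ideal.mem_span_singleton_self f⟩
  have hle : ∀ n k, g (n + k) ∣ g n := fun n k => by
    induction k with
    | zero => rfl
    | succ k ih => exact (dvd_trans ⟨g (n + (k + 1)) ^ (p - 1), by
        rw [← pow_succ', Nat.sub_add_cancel hp.one_le]; exact (hsucc (n + k)).symm⟩ ih)
  have hdvd : ∀ x ∈ (Ideal.span {f}).radical, ∃ n, g n ∣ x := fun x ⟨m, hm⟩ => by
    obtain ⟨c, hc⟩ := Ideal.mem_span_singleton.1 hm
    refine ⟨m, (e m).symm (x ^ (p ^ m - m) * c), (e m).injective ?_⟩
    rw [he, map_mul, he m ((e m).symm f), hg, RingEquiv.apply_symm_apply, mul_left_comm, ← hc,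
      ← pow_add, Nat.sub_add_cancel (Nat.lt_pow_self hp.one_lt).le]
  rw [Module.Flat.iff_forall_isTrivialRelation]
  intro l a x hax
  choose n hn using fun i => hdvd (x i : A) (x i).2
  set N := Finset.univ.sup n
  have hN : ∀ i, g N ∣ (x i : A) := fun i => by
    obtain ⟨k, hk⟩ := Nat.exists_eq_add_of_le (Finset.le_sup (f := n) (Finset.mem_univ i) : n i ≤ N)
    have h1 : N = n i + k := hk
    rw [h1]
    exact dvd_trans (hle (n i) k) (hn i)
  choose y hy using hN
  refine ⟨1, fun i _ => y i * g (N + 1) ^ (p - 1), fun _ => ⟨g (N + 1), hmem _⟩, fun i => ?_, fun _ => ?_⟩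
  · refine Subtype.ext ?_
    rw [Fin.sum_univ_one, SetLike.val_smul, smul_eq_mul, hy, mul_assoc, ← pow_succ,
      Nat.sub_add_cancel hp.one_le, hsucc, mul_comm]
  · have h0 : (∑ i, a i * y i) * g (N + 1) ^ p = 0 := by
      rw [hsucc, Finset.sum_mul]
      have := congr_arg Subtype.val hax
      simp only [AddSubmonoidClass.coe_finsetSum, SetLike.val_smul, smul_eq_mul, ZeroMemClass.coe_zero] at this
      rw [← this]
      exact Finset.sum_congr rfl fun i _ => by rw [hy]; ring
    have h1 : (∑ i, a i * y i) * g (N + 1) = 0 := (injective_frobenius A p) (by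
      rw [frobenius_def, frobenius_def, zero_pow hp.ne_zero, mul_pow,
        ← Nat.sub_add_cancel hp.one_le, pow_succ, mul_assoc, Nat.sub_add_cancel hp.one_le, h0, mul_zero])
    obtain ⟨q, hq⟩ : ∃ q, p - 1 = q + 1 := ⟨p - 2, by have := hp.two_le; omega⟩
    simp only [← mul_assoc, ← Finset.sum_mul]
    rw [hq, pow_succ', ← mul_assoc, h1, zero_mul]

end Groth.Agent.S14262
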