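import Groth.Statements.S14264
import Groth.Agent.Lib.DR.BcRHomCases

set_option autoImplicit false
universe u
open CategoryTheory CategoryTheory.Limits MonoidalCategory
attribute [local instance] HasDerivedCategory.standard
open DTen

open Groth.Agent.Lib.DR.Basic Groth.Agent.Lib.DR.FiniteComplex Groth.Agent.Lib.DR.PseudoCoherent Groth.Agent.Lib.DR.TopCohomology
open Groth.Agent.Lib.DR

namespace Groth.Agent.S14264

/-- For a map of commutative rings `φ : R → R'` and objects `K`, `M` of `D(R)` with `K` perfect, the
base change morphism `RHom_R(K, M) ⊗^L_R R' ⟶ RHom_{R'}(K ⊗^L_R R', M ⊗^L_R R')` in `D(R')` — the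
adjunct, for derived base change, of `RHom_R(K, M) ⟶ RHom_R(K, (M ⊗^L_R R')|_R)` (induced by the
unit) followed by the inverse of the canonical comparison `RHom_{R'}(K ⊗^L_R R', M ⊗^L_R R')|_R ⟶
RHom_R(K, (M ⊗^L_R R')|_R)` — is an isomorphism. The invertibility of that comparison, through which
the morphism is defined, is carried as a hypothesis. (The existence of the derived tensor products
on `D(R)` and `D(R')`, of the internal homs `RHom`, of derived base change and of the
restriction-of-scalars comparison for the derived tensor product, with the invertibility of the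
latter's second leg, are assumed as hypotheses; they hold for every ring map.) -/
theorem result (R R' : Type u) [CommRing R] [CommRing R'] (φ : R →+* R')
    [DTen.HasLTen R] [DTen.HasLTen R'] [DTen.HasRHom R] [DTen.HasRHom R'] [DTen.HasLBase φ]
    [DTen.HasResTen φ] [DTen.ResLegIso φ] (K M : Dual.D R)
    [IsIso (DTen.rhomBC φ K ((DTen.LBase φ).obj M))]
    (hK : DRing.IsPerfect R K) :
    IsIso (DTen.bcRHom φ K M) := by
  obtain ⟨P, S, hP, hS, hp, ⟨eK⟩⟩ := EvalTen.exists_perfect_rep hK
  obtain ⟨X, _, ⟨eM⟩⟩ := DTenBasic.exists_rep M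
  let U := (DTen.resCx φ).obj (𝟙_ (DRing.Cx R'))
  have hq : QuasiIso ((KProjRes.aug R).app U) := KProjRes.quasiIso_aug R U
  have := DTenBasic.isIso_Q_map _ hq
  exact BcRHomCases.isIso_bcRHom_of_model φ ((KProjRes.res R).obj U) P X eK eM (KFlat.isKFlat_res U)
    (asIso (DerivedCategory.Q.map ((KProjRes.aug R).app U)))
    (HomCxFinite.isIso_evalTenCx_of_right _ P X S hS hp)

end Groth.Agent.S14264
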