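import Groth.Statements.S14274
import Groth.Agent.Lib.FlatHartogs.Extend
import Groth.Agent.Lib.TorsorSch.Basic

set_option autoImplicit false
universe u
open scoped CategoryTheory.Obj
open NonAbH1

namespace Groth.Agent.S14274

open AlgebraicGeometry CategoryTheory CategoryTheory.Limits MonoidalCategory

section
variable {X : Scheme.{u}} {U : X.Opens} [QuasiCompact U.ι]
  (hZ : ∀ z : X, z ∉ U → IsRegularLocalRing (X.presheaf.stalk z) ∧ (2 : WithBot ℕ∞) ≤ ringKrullDim (X.presheaf.stalk z))
  {Z Q : Over X} [IsAffineHom Z.hom] [Flat Z.hom] [IsAffineHom Q.hom]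

omit [QuasiCompact U.ι] [IsAffineHom Z.hom] [Flat Z.hom] [IsAffineHom Q.hom] in
theorem map_eq_iff (h : Z ⟶ Q) (h' : (Over.pullback U.ι).obj Z ⟶ (Over.pullback U.ι).obj Q) :
    (Over.pullback U.ι).map h = h' ↔
      (Z.hom ⁻¹ᵁ U).ι ≫ h.left = (pullbackRestrictIsoRestrict Z.hom U).inv ≫ h'.left ≫ pullback.fst Q.hom U.ι := by
  have e : ((Over.pullback U.ι).map h).left ≫ pullback.fst Q.hom U.ι = pullback.fst Z.hom U.ι ≫ h.left :=
    pullback.lift_fst _ _ _
  rw [Iso.eq_inv_comp, ← Category.assoc, pullbackRestrictIsoRestrict_hom_ι, ← e]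
  constructor
  · rintro rfl; rfl
  · intro he
    exact Over.OverMorphism.ext ((cancel_mono (pullback.fst Q.hom U.ι)).1 he)

include hZ in
theorem existsUnique_map (h' : (Over.pullback U.ι).obj Z ⟶ (Over.pullback U.ι).obj Q) :
    ∃! h : Z ⟶ Q, (Over.pullback U.ι).map h = h' := by
  obtain ⟨k, ⟨hk₁, hk₂⟩, huniq⟩ := Groth.Agent.Lib.FlatHartogs.Extend.existsUnique_extend U hZ Z.hom Q.hom
    ((pullbackRestrictIsoRestrict Z.hom U).inv ≫ h'.left ≫ pullback.fst Q.hom U.ι) (by
      have w : h'.left ≫ pullback.snd Q.hom U.ι = pullback.snd Z.hom U.ι := Over.w h'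
      rw [Category.assoc, Category.assoc, pullback.condition, ← Category.assoc h'.left, w, ← pullback.condition,
        pullbackRestrictIsoRestrict_inv_fst_assoc])
  refine ⟨Over.homMk k hk₁, (map_eq_iff _ _).2 hk₂, fun h hh => Over.OverMorphism.ext ?_⟩
  exact huniq h.left ⟨Over.w h, (map_eq_iff h h').1 hh⟩

end

open AlgebraicGeometry CategoryTheory CategoryTheory.Limits MonoidalCategory in
/-- Let X be a scheme, G a finite locally free X-group scheme (finite, flat and locally of finite
presentation over X, not necessarily commutative), and U an open subscheme of X whose inclusion is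
quasi-compact, such that for every point z of X outside U the local ring of X at z is regular of
Krull dimension at least 2. Let Q₁ and Q₂ be fppf G-torsors over X. Then every U-morphism between
their base changes to U that is equivariant for the base-changed group is the base change of a
unique G-equivariant X-morphism Q₁ -> Q₂. (With the essential-surjectivity row this is the statement
that pullback is an equivalence from G-torsors over X to torsors over U under the base change of G.) -/
theorem result {X : Scheme.{u}} (G : Over X) [GrpObj G]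
    [IsFinite G.hom] [Flat G.hom] [LocallyOfFinitePresentation G.hom]
    (U : X.Opens) [QuasiCompact U.ι]
    (hZ : ∀ z : X, z ∉ U → IsRegularLocalRing (X.presheaf.stalk z) ∧ (2 : WithBot ℕ∞) ≤ ringKrullDim (X.presheaf.stalk z))
    (Q₁ Q₂ : Over X) (a₁ : AlgGrp.Action G Q₁) (a₂ : AlgGrp.Action G Q₂)
    (h₁ : NonAbH1.IsTorsorFor Scheme.fppfPrecoverage a₁) (h₂ : NonAbH1.IsTorsorFor Scheme.fppfPrecoverage a₂)
    (h' : (Over.pullback U.ι).obj Q₁ ⟶ (Over.pullback U.ι).obj Q₂)
    (hh' : (Functor.LaxMonoidal.μ (Over.pullback U.ι) G Q₁ ≫ (Over.pullback U.ι).map a₁.act) ≫ h' =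
      ((Over.pullback U.ι).obj G ◁ h') ≫ (Functor.LaxMonoidal.μ (Over.pullback U.ι) G Q₂ ≫ (Over.pullback U.ι).map a₂.act)) :
    ∃! h : Q₁ ⟶ Q₂, a₁.act ≫ h = (G ◁ h) ≫ a₂.act ∧ (Over.pullback U.ι).map h = h' := by
  have t₁ := Groth.Agent.Lib.TorsorSch.Descent.isTorsorFor_mono Scheme.fppfPrecoverage_le_fpqcPrecoverage h₁
  have t₂ := Groth.Agent.Lib.TorsorSch.Descent.isTorsorFor_mono Scheme.fppfPrecoverage_le_fpqcPrecoverage h₂
  have : IsAffineHom Q₁.hom := Groth.Agent.Lib.TorsorSch.Basic.of_hom (P := @IsAffineHom) t₁ inferInstance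
  have : Flat Q₁.hom := Groth.Agent.Lib.TorsorSch.Basic.of_hom (P := @Flat) t₁ inferInstance
  have : IsAffineHom Q₂.hom := Groth.Agent.Lib.TorsorSch.Basic.of_hom (P := @IsAffineHom) t₂ inferInstance
  have : IsAffineHom (G ⊗ Q₁).hom := by
    rw [Over.tensorObj_hom]
    have : IsAffineHom (pullback.fst G.hom Q₁.hom) := MorphismProperty.pullback_fst _ _ ‹_›
    infer_instance
  have : Flat (G ⊗ Q₁).hom := by rw [Over.tensorObj_hom]; infer_instance
  obtain ⟨h, hh, huniq⟩ := existsUnique_map hZ h'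
  refine ⟨h, ⟨?_, hh⟩, fun g hg => huniq g hg.2⟩
  refine (existsUnique_map hZ ((Over.pullback U.ι).map (a₁.act ≫ h))).unique rfl ?_
  rw [← cancel_epi (Functor.LaxMonoidal.μ (Over.pullback U.ι) G Q₁)]
  simp only [Functor.map_comp, hh]
  rw [← Category.assoc _ _ h', hh', ← hh, Functor.LaxMonoidal.μ_natural_right_assoc]

end Groth.Agent.S14274
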