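import Groth.Statements.S14275
import Mathlib.RingTheory.AdicCompletion.Exactness
import Mathlib.RingTheory.AdicCompletion.Functoriality
import Mathlib.RingTheory.Regular.RegularSequence

set_option autoImplicit false
universe u
open CAlg

namespace Groth.Agent.S14275

open AdicCompletion

variable {A : Type u} [CommRing A] {a : A} {M P : Type u} [AddCommGroup M] [Module A M]
  [AddCommGroup P] [Module A P]

/-- The ideal `(a)`. -/
abbrev pI (a : A) : Ideal A := Ideal.span {a}

lemma mem_pow_smul {n : ℕ} {x : M} :
    x ∈ ((pI a) ^ n • ⊤ : Submodule A M) ↔ ∃ z, a ^ n • z = x := by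
  rw [Ideal.span_singleton_pow, Submodule.ideal_span_singleton_smul,
    Submodule.mem_smul_pointwise_iff_exists]
  simp

/-- Multiplication by `r` detects divisibility by powers of `a`, up to a shift. -/
lemma divisible {r : A} (hr : IsSMulRegular M r) {g : M →ₗ[A] P}
    (hexact : ∀ x, g x = 0 ↔ ∃ y, r • y = x) {N : ℕ}
    (hN : ∀ p : P, (∃ m : ℕ, a ^ m • p = 0) → a ^ N • p = 0) {n : ℕ} (hn : N ≤ n) {x : M}
    (hx : r • x ∈ ((pI a) ^ n • ⊤ : Submodule A M)) : x ∈ ((pI a) ^ (n - N) • ⊤ : Submodule A M) := by
  obtain ⟨y, hy⟩ := mem_pow_smul.mp hx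
  have h0 : a ^ n • g y = 0 := by rw [← map_smul, hy]; exact (hexact _).mpr ⟨x, rfl⟩
  obtain ⟨z, hz⟩ := (hexact (a ^ N • y)).mp (by rw [map_smul, hN _ ⟨n, h0⟩])
  refine mem_pow_smul.mpr ⟨z, hr ?_⟩
  show r • a ^ (n - N) • z = r • x
  rw [smul_comm, hz, smul_smul, ← pow_add, Nat.sub_add_cancel hn, hy]

lemma completion_exact {r : A} (hr : IsSMulRegular M r) {g : M →ₗ[A] P}
    (hexact : ∀ x, g x = 0 ↔ ∃ y, r • y = x) (hg : Function.Surjective g) {N : ℕ}
    (hN : ∀ p : P, (∃ m : ℕ, a ^ m • p = 0) → a ^ N • p = 0) :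
    IsSMulRegular (AdicCompletion (pI a) M) r ∧
      ∀ x : AdicCompletion (pI a) M, AdicCompletion.map (pI a) g x = 0 → ∃ y, r • y = x := by
  constructor
  · rw [isSMulRegular_iff_right_eq_zero_of_smul]
    intro x
    induction x using AdicCompletion.induction_on with
    | h b =>
      intro hx
      refine AdicCompletion.mk_zero_of _ _ _ ⟨0, fun n _ => ⟨n + N, by omega, n, le_rfl, ?_⟩⟩
      have h1 : r • (b (n + N)) ∈ ((pI a) ^ (n + N) • ⊤ : Submodule A M) := by
        rw [← Submodule.Quotient.mk_eq_zero]
        simpa [AdicCompletion.val_smul_apply] using congrArg (fun x => x.val (n + N)) hx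
      have h2 := divisible hr hexact hN (Nat.le_add_left N n) h1
      rwa [Nat.add_sub_cancel] at h2
  · intro x
    induction x using AdicCompletion.induction_on with
    | h b =>
      intro hx
      have hb : ∀ n, ∃ y : M, r • y - b n ∈ ((pI a) ^ n • ⊤ : Submodule A M) := by
        intro n
        have h1 : g (b n) ∈ ((pI a) ^ n • ⊤ : Submodule A P) := by
          rw [← Submodule.Quotient.mk_eq_zero]
          simpa using congrArg (fun x => x.val n) hx
        obtain ⟨q, hq⟩ := mem_pow_smul.mp h1
        obtain ⟨z, rfl⟩ := hg q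
        obtain ⟨y, hy⟩ := (hexact (b n - a ^ n • z)).mp (by rw [map_sub, map_smul, hq, sub_self])
        exact ⟨y, mem_pow_smul.mpr ⟨-z, by rw [hy, smul_neg]; abel⟩⟩
      choose y hy using hb
      have hc : ∀ n, y (n + N) ≡ y (n + 1 + N) [SMOD ((pI a) ^ n • ⊤ : Submodule A M)] := by
        intro n
        rw [SModEq.sub_mem]
        have hle : ((pI a) ^ (n + 1 + N) • ⊤ : Submodule A M) ≤ (pI a) ^ (n + N) • ⊤ :=
          Submodule.smul_mono_left (Ideal.pow_le_pow_right (by omega))
        have hbb : b (n + N) - b (n + 1 + N) ∈ ((pI a) ^ (n + N) • ⊤ : Submodule A M) := by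
          rw [← Submodule.Quotient.eq]
          exact AdicCauchySequence.mk_eq_mk (by omega) b |>.symm
        have h1 : r • (y (n + N) - y (n + 1 + N)) ∈ ((pI a) ^ (n + N) • ⊤ : Submodule A M) := by
          rw [smul_sub, show r • y (n + N) - r • y (n + 1 + N) =
            (r • y (n + N) - b (n + N)) - (r • y (n + 1 + N) - b (n + 1 + N)) + (b (n + N) - b (n + 1 + N)) by abel]
          exact add_mem (sub_mem (hy _) (hle (hy _))) hbb
        have h2 := divisible hr hexact hN (Nat.le_add_left N n) h1
        rwa [Nat.add_sub_cancel] at h2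
      refine ⟨AdicCompletion.mk (pI a) M (AdicCauchySequence.mk (pI a) M (fun n => y (n + N)) hc), ?_⟩
      ext n
      suffices h : Submodule.Quotient.mk (p := ((pI a) ^ n • ⊤ : Submodule A M)) (r • y (n + N)) =
          Submodule.Quotient.mk (b n) by simpa [AdicCompletion.val_smul_apply] using h
      rw [← AdicCauchySequence.mk_eq_mk (Nat.le_add_right n N) b, Submodule.Quotient.eq]
      exact Submodule.smul_mono_left (Ideal.pow_le_pow_right (Nat.le_add_right n N)) (hy (n + N))

lemma map_eq_zero_of_mem (J : Ideal A) (x : AdicCompletion (pI a) A)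
    (hx : x ∈ J.map (algebraMap A (AdicCompletion (pI a) A))) :
    AdicCompletion.map (pI a) J.mkQ x = 0 := by
  induction hx using Submodule.span_induction with
  | mem x hx =>
    obtain ⟨j, hj, rfl⟩ := hx
    rw [AdicCompletion.algebraMap_apply, AdicCompletion.map_of]
    have h0 : J.mkQ (algebraMap A A j) = 0 := (Submodule.Quotient.mk_eq_zero J).mpr hj
    rw [h0, _root_.map_zero]
  | zero => exact _root_.map_zero _
  | add x y _ _ hx hy => rw [map_add, hx, hy, add_zero]
  | smul c x _ hx => exact ((LinearMap.map_smul (AdicCompletion.map (pI a) J.mkQ) c x).trans (congrArg (c • ·) hx)).trans (smul_zero c)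


open RingTheory.Sequence in
/-- Let A be a commutative ring, a an element of A with a-adic completion A^, and a_1, ..., a_n a weakly
regular sequence on A such that for each i = 0, ..., n the quotient A/(a_1, ..., a_i) has bounded
a-power torsion (some fixed power of a kills every element killed by a power of a). Then the images
of a_1, ..., a_n form a weakly regular sequence on A^, and the canonical map from A^ to the a-adic
completion of A/(a_1, ..., a_n) is surjective with kernel the ideal generated by the images of a_1,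
..., a_n. -/
theorem result (A : Type u) [CommRing A] (a : A) (rs : List A)
    (hreg : IsWeaklyRegular A rs)
    (hbd : ∀ i ≤ rs.length, ∃ N : ℕ, ∀ x : A ⧸ Ideal.ofList (rs.take i), (∃ m : ℕ, a ^ m • x = 0) → a ^ N • x = 0) :
    IsWeaklyRegular (AdicCompletion (Ideal.span {a}) A)
        (rs.map (algebraMap A (AdicCompletion (Ideal.span {a}) A))) ∧
      Function.Surjective (AdicCompletion.map (Ideal.span {a}) (Ideal.ofList rs).mkQ) ∧
      LinearMap.ker (AdicCompletion.map (Ideal.span {a}) (Ideal.ofList rs).mkQ) =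
        (Ideal.ofList rs).map (algebraMap A (AdicCompletion (Ideal.span {a}) A)) := by
  classical
  set I := Ideal.span ({a} : Set A) with hI
  have hJ : ∀ i, Ideal.ofList ((rs.map (algebraMap A (AdicCompletion I A))).take i) =
      (Ideal.ofList (rs.take i)).map (algebraMap A (AdicCompletion I A)) := by
    intro i
    rw [Ideal.ofList, Ideal.ofList, Ideal.map_span]
    congr 1
    ext x
    simp only [Set.mem_ofPred_eq, List.mem_take_iff_getElem, List.getElem_map, List.length_map, Set.mem_image]
    exact ⟨fun ⟨j, hj, e⟩ => ⟨_, ⟨j, hj, rfl⟩, e⟩, fun ⟨_, ⟨j, hj, rfl⟩, e⟩ => ⟨j, hj, e⟩⟩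
  -- the exactness at the `i`-th step
  have hstep : ∀ i (hi : i < rs.length),
      IsSMulRegular (AdicCompletion I (A ⧸ Ideal.ofList (rs.take i))) rs[i] ∧
      ∀ x : AdicCompletion I (A ⧸ Ideal.ofList (rs.take i)),
        AdicCompletion.map I (Submodule.factor (p := Ideal.ofList (rs.take i)) (p' := Ideal.ofList (rs.take (i + 1)))
          (Ideal.span_mono (List.take_subset_take_left rs (Nat.le_succ i)))) x = 0 → ∃ y, rs[i] • y = x := by
    intro i hi
    obtain ⟨N, hN⟩ := hbd (i + 1) hi
    have h := (isWeaklyRegular_iff_Fin A rs).mp hreg ⟨i, hi⟩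
    rw [smul_eq_mul, Ideal.mul_top] at h
    simp only [Fin.getElem_fin] at h
    refine completion_exact h (fun x => ?_) (Submodule.factor_surjective _) hN
    obtain ⟨x, rfl⟩ := Submodule.Quotient.mk_surjective _ x
    show (Submodule.Quotient.mk x : A ⧸ Ideal.ofList (rs.take (i + 1))) = 0 ↔ _
    rw [Submodule.Quotient.mk_eq_zero, List.take_add_one, List.getElem?_eq_getElem hi,
      Option.toList_some, Ideal.ofList_append, Ideal.ofList_singleton, Submodule.mem_sup]
    constructor
    · rintro ⟨j, hj, _, hq, rfl⟩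
      obtain ⟨c, rfl⟩ := Ideal.mem_span_singleton'.mp hq
      refine ⟨Submodule.Quotient.mk c, ?_⟩
      rw [← Submodule.Quotient.mk_smul, Submodule.Quotient.eq]
      simpa [mul_comm c] using neg_mem hj
    · rintro ⟨y, hy⟩
      obtain ⟨c, rfl⟩ := Submodule.Quotient.mk_surjective _ y
      rw [← Submodule.Quotient.mk_smul, Submodule.Quotient.eq] at hy
      exact ⟨x - rs[i] • c, by simpa using neg_mem hy, c * rs[i],
        Ideal.mem_span_singleton'.mpr ⟨c, rfl⟩, by simp [mul_comm c]⟩
  have hker : ∀ i ≤ rs.length, ∀ x, AdicCompletion.map I (Ideal.ofList (rs.take i)).mkQ x = 0 ↔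
      x ∈ (Ideal.ofList (rs.take i)).map (algebraMap A (AdicCompletion I A)) := by
    intro i
    induction i with
    | zero =>
      intro _ x
      refine ⟨fun hx => ?_, map_eq_zero_of_mem _ x⟩
      have hbij : Function.Bijective (Ideal.ofList (rs.take 0)).mkQ := by
        refine ⟨?_, Submodule.mkQ_surjective _⟩
        rw [← LinearMap.ker_eq_bot, Submodule.ker_mkQ]
        simp
      let e := LinearEquiv.ofBijective _ hbij
      have h := congrArg (AdicCompletion.map I e.symm.toLinearMap) hx
      rw [AdicCompletion.map_comp_apply, _root_.map_zero] at h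
      rw [show e.symm.toLinearMap ∘ₗ (Ideal.ofList (rs.take 0)).mkQ = LinearMap.id from
        LinearMap.ext fun y => e.symm_apply_apply y, AdicCompletion.map_id] at h
      rw [show x = 0 from h]
      exact zero_mem _
    | succ i ih =>
      intro hi x
      refine ⟨fun hx => ?_, map_eq_zero_of_mem _ x⟩
      have hfac : Submodule.factor (p := Ideal.ofList (rs.take i)) (p' := Ideal.ofList (rs.take (i + 1)))
          (Ideal.span_mono (List.take_subset_take_left rs (Nat.le_succ i))) ∘ₗ (Ideal.ofList (rs.take i)).mkQ =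
          (Ideal.ofList (rs.take (i + 1))).mkQ := LinearMap.ext fun y => rfl
      obtain ⟨z, hz⟩ := (hstep i hi).2 (AdicCompletion.map I (Ideal.ofList (rs.take i)).mkQ x) (by
        rw [AdicCompletion.map_comp_apply, hfac]
        exact hx)
      obtain ⟨w, rfl⟩ := AdicCompletion.map_surjective I (Submodule.mkQ_surjective _) z
      have hxw : AdicCompletion.map I (Ideal.ofList (rs.take i)).mkQ (x - rs[i] • w) = 0 := by
        rw [map_sub, LinearMap.map_smul_of_tower, hz, sub_self]
      rw [ih (by omega)] at hxw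
      rw [← sub_add_cancel x (rs[i] • w)]
      refine add_mem (Ideal.map_mono (Ideal.span_mono (List.take_subset_take_left rs (Nat.le_succ i))) hxw) ?_
      rw [Algebra.smul_def]
      refine Ideal.mul_mem_right _ _ (Ideal.mem_map_of_mem _ (Ideal.subset_span ?_))
      exact List.mem_take_iff_getElem.mpr ⟨i, lt_min (Nat.lt_succ_self i) hi, rfl⟩
  refine ⟨?_, AdicCompletion.map_surjective I (Submodule.mkQ_surjective _), ?_⟩
  · rw [isWeaklyRegular_iff_Fin]
    rintro ⟨i, hi⟩
    simp only [List.length_map] at hi
    rw [isSMulRegular_quotient_iff_mem_of_smul_mem, smul_eq_mul, Ideal.mul_top, hJ]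
    intro y hy
    simp only [Fin.getElem_fin, List.getElem_map, smul_eq_mul] at hy
    rw [← hker i hi.le, ← Algebra.smul_def, LinearMap.map_smul_of_tower] at hy
    rw [← hker i hi.le]
    exact (hstep i hi).1.right_eq_zero_of_smul hy
  · have h := hker rs.length le_rfl
    rw [List.take_length] at h
    exact SetLike.ext h


end Groth.Agent.S14275
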