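import Groth.Statements.S14276
import Groth.Agent.Lib.TorsorSch.Basic
import Groth.Agent.Lib.EtaleSection.Sections

set_option autoImplicit false
universe u
open CategoryTheory AlgebraicGeometry
open NonAbH1

namespace Groth.Agent.S14276

/-- Let X be a scheme and G a group scheme over X which is smooth over X. Then every G-torsor for the
fppf topology is locally trivial for the étale topology on X. Here a torsor is an X-scheme with an
action of G which is a pseudo-torsor and acquires sections on the members of some fppf covering
family of X, and the conclusion says that it acquires sections on the members of some étale covering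
family of X. (The published statement is about torsors in the sense of fppf sheaves; this row states
it for torsors that are schemes.) -/
theorem result {X : Scheme.{u}}
    (G : Over X) [GrpObj G] [Smooth G.hom] (P : Over X) (a : AlgGrp.Action G P)
    (h : NonAbH1.IsTorsorFor Scheme.fppfPrecoverage a) :
    NonAbH1.IsLocallyTrivialFor Scheme.etalePrecoverage P := by
  have h' := Groth.Agent.Lib.TorsorSch.Descent.isTorsorFor_mono
    Scheme.fppfPrecoverage_le_fpqcPrecoverage h
  have : Smooth P.hom := Groth.Agent.Lib.TorsorSch.Basic.of_hom (P := @Smooth) h' inferInstance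
  have : Surjective P.hom := Groth.Agent.Lib.TorsorSch.Basic.of_hom (P := @Surjective) h'
    ⟨fun x ↦ ⟨(MonObj.one : MonoidalCategory.tensorUnit (Over X) ⟶ G).left x,
      congr($(Over.w (MonObj.one : MonoidalCategory.tensorUnit (Over X) ⟶ G)) x)⟩⟩
  obtain ⟨S', g, s, _, _, hs⟩ :=
    Groth.Agent.Lib.EtaleSection.Sections.exists_etale_surjective_section P.hom
  refine ⟨Presieve.singleton g,
    (Scheme.singleton_mem_precoverage_iff _ g).mpr ⟨g.surjective, ‹Etale g›⟩, ?_⟩
  rintro _ _ ⟨⟩
  exact ⟨s, hs⟩

end Groth.Agent.S14276
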