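import Groth.Statements.S14277

import Groth.Agent.Lib.GalPts.Count
import Groth.Agent.Lib.GalPts.Over
import Groth.Agent.Lib.GalPts.Mass

set_option autoImplicit false
universe u
open CategoryTheory AlgebraicGeometry
open NonAbH1

namespace Groth.Agent.S14277

open MonoidalCategory CartesianMonoidalCategory MonObj Limits
open Groth.Agent.Lib
open Groth.Agent.Lib.GalPts (toPt toPt_unique ptMap)

theorem surjective_pt {k : Type u} [Field k] (L : Type u) [Field L] [Algebra k L] :
    Surjective (SGA7.pt (K := k) L).hom :=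
  ⟨fun y => ⟨IsLocalRing.closedPoint L, Subsingleton.elim (α := Spec (CommRingCat.of k)) _ _⟩⟩

/-- An fppf torsor over a field has a point over a finite extension inside an algebraic closure. -/
theorem exists_torsor_point {k : Type u} [Field k] (kb : Type u) [Field kb] [Algebra k kb] [IsAlgClosed kb]
    [Algebra.IsAlgebraic k kb] {P : Over (Spec (CommRingCat.of k))}
    (h : IsLocallyTrivialFor Scheme.fppfPrecoverage P) :
    ∃ (E : IntermediateField k kb) (_ : FiniteDimensional k E), Nonempty (SGA7.Pts E P) := by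
  obtain ⟨R, hR, hs⟩ := h
  obtain ⟨I, Y, f, rfl⟩ := R.exists_eq_ofArrows
  obtain ⟨hc, he⟩ := (Scheme.ofArrows_mem_precoverage_iff _).1 hR
  obtain ⟨i, y, -⟩ := hc (IsLocalRing.closedPoint k)
  have : LocallyOfFinitePresentation (f i) := (he i).2
  let Z : Over (Spec (CommRingCat.of k)) := Over.mk (f i)
  have : LocallyOfFiniteType Z.hom := inferInstanceAs (LocallyOfFiniteType (f i))
  let b : Spec (CommRingCat.of kb) ⟶ Spec (CommRingCat.of k) := (SGA7.pt (K := k) kb).hom
  have : Surjective (pullback.fst Z.hom b) :=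
    MorphismProperty.of_isPullback (P := @Surjective) (IsPullback.of_hasPullback Z.hom b).flip (surjective_pt kb)
  have : Nonempty ↥(pullback Z.hom b) := ⟨(this.surj y).choose⟩
  have : JacobsonSpace ↥(pullback Z.hom b) := LocallyOfFiniteType.jacobsonSpace (pullback.snd Z.hom b)
  obtain ⟨c, -, hcl⟩ := nonempty_inter_closedPoints (X := ↥(pullback Z.hom b)) Set.univ_nonempty
    isClosed_univ.isLocallyClosed
  let z : SGA7.Pts kb Z := Over.homMk (pointOfClosedPoint (pullback.snd Z.hom b) c hcl ≫ pullback.fst Z.hom b) (by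
    rw [Category.assoc, pullback.condition, ← Category.assoc, pointOfClosedPoint_comp]
    exact Category.id_comp _)
  obtain ⟨E, hE, zE, -⟩ := GalPts.exists_finite_level z
  obtain ⟨s, hs'⟩ := hs (f i) ⟨i⟩
  exact ⟨E, hE, ⟨zE ≫ Over.homMk s hs'⟩⟩

variable {k : Type u} [Field k] [Finite k] {G : Over (Spec (CommRingCat.of k))} [GrpObj G]

theorem etale_pt (L : Type u) [Field L] [Algebra k L] [FiniteDimensional k L] :
    Etale (SGA7.pt (K := k) L).hom := by
  change Etale (Spec.map (CommRingCat.ofHom (algebraMap k L)))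
  rw [HasRingHomProperty.Spec_iff (P := @Etale), CommRingCat.hom_ofHom, RingHom.etale_algebraMap]
  haveI : Algebra.FormallyEtale k L := Algebra.FormallyEtale.of_isSeparable k L
  exact ⟨inferInstance, Algebra.FinitePresentation.of_finiteType.1 inferInstance⟩

/-- A torsor as an object of `BG` over the base field. -/
noncomputable def toObj (P : TorsorSch G Scheme.fppfPrecoverage) :
    AlgSt.QuotObj Scheme.etalePrecoverage G (AlgSt.trivAction G) where
  base := SGA7.pt (K := k) k
  P := P.X
  act := P.act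
  π := toPt P.X
  φ := toUnit P.X
  eqv := toUnit_unique _ _
  cart := by
    have : IsIso (lift P.act.act (snd G P.X)) := P.isTorsor.1
    refine ⟨⟨toPt_unique _ _⟩, ⟨PullbackCone.IsLimit.mk _
      (fun s => lift s.fst s.snd ≫ inv (lift P.act.act (snd G P.X)))
      (fun s => ?_) (fun s => ?_) fun s m hm1 hm2 => ?_⟩⟩
    · have := congrArg (· ≫ fst P.X P.X) (IsIso.inv_hom_id (lift P.act.act (snd G P.X)))
      simp only [Category.assoc, lift_fst, Category.id_comp] at this
      rw [Category.assoc, this, lift_fst]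
    · have := congrArg (· ≫ snd P.X P.X) (IsIso.inv_hom_id (lift P.act.act (snd G P.X)))
      simp only [Category.assoc, lift_snd, Category.id_comp] at this
      rw [Category.assoc, this, lift_snd]
    · rw [IsIso.eq_comp_inv]
      apply CartesianMonoidalCategory.hom_ext
      · rw [Category.assoc, lift_fst, lift_fst]; exact hm1
      · rw [Category.assoc, lift_snd, lift_snd]; exact hm2
  loc := by
    obtain ⟨E, hE, ⟨q⟩⟩ := exists_torsor_point (AlgebraicClosure k) P.isTorsor.2
    refine ⟨Presieve.ofArrows (fun _ : PUnit.{1} => Spec (CommRingCat.of E)) fun _ => (SGA7.pt (K := k) E).hom,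
      (Scheme.ofArrows_mem_precoverage_iff _).2 ⟨fun z => ⟨⟨⟩, (surjective_pt E).surj z⟩, fun _ => etale_pt E⟩, ?_⟩
    rintro S' f ⟨-⟩
    exact ⟨q.left, congrArg CommaMorphism.left (toPt_unique (q ≫ toPt P.X)
      (Over.homMk (SGA7.pt (K := k) E).hom (by rw [GalPts.pt_self_hom, Category.comp_id])))⟩

/-- An object of `BG` over the base field as a torsor. -/
theorem exists_torsor (A : AlgSt.QuotObj Scheme.etalePrecoverage G (AlgSt.trivAction G))
    (hA : A.base = SGA7.pt (K := k) k) {E : Type u} [Field E] [Algebra k E] [FiniteDimensional k E]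
    (q : SGA7.Pts E A.P) : IsTorsorFor Scheme.fppfPrecoverage A.act := by
  refine ⟨⟨⟨A.cart.lift (fst A.P A.P) (snd A.P A.P) (GalPts.base_subsingleton hA _ _), ?_, ?_⟩⟩, ?_⟩
  · apply A.cart.hom_ext
    · rw [Category.assoc, A.cart.lift_fst, lift_fst, Category.id_comp]
    · rw [Category.assoc, A.cart.lift_snd, lift_snd, Category.id_comp]
  · rw [comp_lift, A.cart.lift_fst, A.cart.lift_snd, lift_fst_snd]
  · have : Etale (SGA7.pt (K := k) E).hom := etale_pt E
    refine ⟨Presieve.ofArrows (fun _ : PUnit.{1} => Spec (CommRingCat.of E)) fun _ => (SGA7.pt (K := k) E).hom,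
      (Scheme.ofArrows_mem_precoverage_iff _).2 ⟨fun z => ⟨⟨⟩, (surjective_pt E).surj z⟩,
        fun _ => ⟨inferInstance, inferInstance⟩⟩, ?_⟩
    rintro S' f ⟨-⟩
    exact ⟨q.left, Over.w q⟩

/-- The point of the fibre of `BG` of a torsor. -/
noncomputable def toFib (P : TorsorSch G Scheme.fppfPrecoverage) :
    (AlgSt.QuotSt Scheme.etalePrecoverage G (AlgSt.trivAction G)).p.Fiber (SGA7.pt (K := k) k) :=
  ⟨toObj P, rfl⟩

omit [Finite k] in
theorem equivIso_ext {P Q : TorsorSch G Scheme.fppfPrecoverage} {a b : EquivIso P.act Q.act}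
    (h : a.iso.hom = b.iso.hom) : a = b := by
  obtain ⟨a, _⟩ := a
  obtain ⟨b, _⟩ := b
  obtain rfl := Iso.ext h
  rfl

/-- Morphisms in the fibre are the equivariant isomorphisms. -/
noncomputable def isoEquivHom (P Q : TorsorSch G Scheme.fppfPrecoverage) :
    EquivIso P.act Q.act ≃ (toFib P ⟶ toFib Q) where
  toFun e :=
    have : IsIso e.iso.hom := inferInstance
    let m : toObj P ⟶ toObj Q :=
      { base := eqToHom (rfl : (toObj P).base = (toObj Q).base), top := e.iso.hom, eqv := e.comm, wφ := toUnit_unique _ _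
        cart := IsPullback.of_horiz_isIso ⟨toPt_unique _ _⟩ }
    ⟨m, (QuotSt.PointCount.base_eq_id (a := toObj P) (b := toObj Q) rfl rfl _).2 rfl⟩
  invFun m :=
    haveI : IsIso m := QuotSt.PointCount.isIso_fiber m
    { iso := ⟨m.1.top, (inv m).1.top, congrArg (fun t : toFib P ⟶ toFib P => t.1.top) (IsIso.hom_inv_id m),
        congrArg (fun t : toFib Q ⟶ toFib Q => t.1.top) (IsIso.inv_hom_id m)⟩
      comm := m.1.eqv }
  left_inv e := equivIso_ext rfl
  right_inv m := Subtype.ext (AlgSt.QuotObj.hom_ext (toPt_unique _ _) rfl)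

/-- The Frobenius on geometric points. -/
noncomputable def frobHom (kb : Type u) [Field kb] [Algebra k kb] [Algebra.IsAlgebraic k kb] :
    SGA7.Pts kb G →* SGA7.Pts kb G :=
  MonoidHom.mk' (fun g => SGA7.specAut (GalPts.frob k kb) ≫ g) fun _ _ => MonObj.comp_mul _ _ _

/-- Let k be a finite field and G a group scheme finite and étale over Spec k. Then the set of
isomorphism classes of G-torsors over Spec k is finite, and the sum over these classes ξ of
1/#Aut(ξ) equals 1, where Aut(ξ) is the (finite) group of G-equivariant automorphisms over k of a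
torsor in the class ξ. A torsor is a k-scheme with an action of G which is a pseudo-torsor and
acquires sections on the members of some fppf covering family of Spec k; for such G these are the
nonempty finite étale pseudo-torsors, and the étale topology gives the same classes. The term of a
class whose automorphism group were infinite would count as 0 by the convention Nat.card = 0. -/
theorem result
    (k : Type u) [Field k] [Finite k]
    (G : Over (Spec (CommRingCat.of k))) [GrpObj G] [IsFinite G.hom] [Etale G.hom] :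
    Finite (NonAbH1.H1Sch G Scheme.fppfPrecoverage) ∧
      ∑ᶠ ξ : NonAbH1.H1Sch G Scheme.fppfPrecoverage,
        ((Nat.card (NonAbH1.EquivIso (Quot.out ξ).act (Quot.out ξ).act) : ℚ))⁻¹ = 1 := by
  classical
  let kb := AlgebraicClosure k
  haveI : LocallyOfFiniteType (𝟙_ (Over (Spec (CommRingCat.of k)))).hom :=
    inferInstanceAs (LocallyOfFiniteType (𝟙 (Spec (CommRingCat.of k))))
  haveI : Finite (SGA7.Pts kb G) := GalPts.finite_pts_of_isFinite kb
  have hfr : ∀ P : TorsorSch G Scheme.fppfPrecoverage, Nonempty (GalPts.Frame kb (toFib P).1) :=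
    fun P => GalPts.exists_frame kb _ rfl
  let F := fun P => (hfr P).some
  let φ := frobHom (G := G) kb
  let r : TorsorSch G Scheme.fppfPrecoverage → GalPts.Mass.Tw φ := fun P => GalPts.Mass.Tw.mk φ (F P).b
  have hiso : ∀ P Q, Nonempty (EquivIso P.act Q.act ≃ {g : SGA7.Pts kb G // g • r Q = r P}) := fun P Q => by
    obtain ⟨e⟩ := GalPts.exists_homEquiv rfl (toFib P) (toFib Q) (F P) (F Q)
    exact ⟨((isoEquivHom P Q).trans e).trans (Equiv.subtypeEquivRight fun g =>
      ⟨fun h => (mul_inv_eq_iff_eq_mul (G := SGA7.Pts kb G)).2 h.1, fun h => ⟨(mul_inv_eq_iff_eq_mul (G := SGA7.Pts kb G)).1 h, toUnit_unique _ _⟩⟩)⟩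
  let Φ : H1Sch G Scheme.fppfPrecoverage → MulAction.orbitRel.Quotient (SGA7.Pts kb G) (GalPts.Mass.Tw φ) :=
    Quot.lift (fun P => Quotient.mk'' (r P)) fun P Q h => by
      obtain ⟨e⟩ := hiso P Q
      obtain ⟨g, hg⟩ := e h.some
      exact Quotient.sound' (MulAction.orbitRel_apply.2 ⟨g, hg⟩)
  let q : H1Sch G Scheme.fppfPrecoverage → GalPts.Mass.Tw φ := fun ξ => r ξ.out
  have hd : ∀ ξ θ (g : SGA7.Pts kb G), g • q ξ = q θ → ξ = θ := fun ξ θ g h => by
    obtain ⟨e⟩ := hiso θ.out ξ.out
    rw [← Quot.out_eq ξ, ← Quot.out_eq θ]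
    exact (Quot.sound ⟨e.symm ⟨g, h⟩⟩).symm
  have hc : ∀ v : GalPts.Mass.Tw φ, ∃ ξ, ∃ g : SGA7.Pts kb G, g • q ξ = v := fun v => by
    obtain ⟨A, hA, Fa, hb, -⟩ := GalPts.exists_framed (kb := kb) (aX := AlgSt.trivAction G) v.val (toUnit _)
      (toUnit_unique _ _)
    haveI := Fa.fd
    obtain ⟨p₀, hp₀⟩ := Fa.level
    let P : TorsorSch G Scheme.fppfPrecoverage := ⟨A.P, A.act, exists_torsor A hA p₀⟩
    obtain ⟨g, hg, -⟩ := GalPts.existsUnique_div hA (F P).p Fa.p
    have h1 : φ g * v.val = (F P).b * g := by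
      refine GalPts.div_cancel hA (q := Fa.p) ?_
      rw [← hb, QuotSt.Act.mul_smul, ← Fa.hp, QuotSt.Act.mul_smul, hg]
      change lift (SGA7.specAut (GalPts.frob k kb) ≫ g) _ ≫ _ = _
      rw [← comp_lift_assoc, hg]
      exact (F P).hp
    have h2 : g • v = r P := (mul_inv_eq_iff_eq_mul (G := SGA7.Pts kb G)).2 h1
    have h3 : Φ (Quot.mk _ P) = Φ (Quot.mk _ (Quot.out (P.cl))) := congrArg Φ (Quot.out_eq P.cl).symm
    obtain ⟨g', hg'⟩ := MulAction.orbitRel_apply.1 (Quotient.exact' h3)
    exact ⟨P.cl, g⁻¹ * g', by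
      rw [mul_smul, inv_smul_eq_iff, h2]
      exact hg'⟩
  haveI : Finite (GalPts.Mass.Tw φ) := inferInstanceAs (Finite (SGA7.Pts kb G))
  haveI hfin : Finite (H1Sch G Scheme.fppfPrecoverage) :=
    Finite.of_injective q fun ξ θ h => hd ξ θ 1 ((one_smul _ _).trans h)
  refine ⟨hfin, ?_⟩
  letI := Fintype.ofFinite (H1Sch G Scheme.fppfPrecoverage)
  rw [finsum_eq_sum_of_fintype]
  have hm := GalPts.Mass.HasMass.of_reps q hd hc fun v => inferInstance
  have hone : (Nat.card (GalPts.Mass.Tw φ) : ℚ) / Nat.card (SGA7.Pts kb G) = 1 :=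
    div_self (Nat.cast_ne_zero.2 (Nat.card_pos (α := SGA7.Pts kb G)).ne')
  refine Eq.trans (Finset.sum_congr rfl fun ξ _ => ?_) ((hm.unique GalPts.Mass.hasMass_of_finite).trans hone)
  obtain ⟨e⟩ := hiso ξ.out ξ.out
  rw [Nat.card_congr e]
  rfl

end Groth.Agent.S14277
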