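import Groth.Statements.S14280
import Groth.Agent.H77.TraceSum


set_option autoImplicit false
universe u
open SpSeq

namespace Groth.Agent.S14280

/-- Let E^{p,q} (p, q ≥ 0) be finite-dimensional complex vector spaces each carrying an endomorphism Φ,
and suppose that for a natural number N and functions a, c ≥ 0 (real) and b, d (natural numbers) one
has E^{p,q} = 0 for q > N, |μ| ≤ a(q)c(p) for every eigenvalue μ of Φ on E^{p,q}, and dim E^{p,q} ≤
b(q)d(p). If Σ_p c(p)d(p) converges then the family of traces tr(Φ | E^{p,q}) is absolutely summable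
over all pairs (p, q). (The published statement takes a and b defined on {0, …, N} only; here they
are functions on all natural numbers, which changes nothing since E^{p,q} = 0 for q > N.) -/
theorem result
    (E : ℕ → ℕ → Type u) [∀ p q, AddCommGroup (E p q)] [∀ p q, Module ℂ (E p q)]
    [∀ p q, FiniteDimensional ℂ (E p q)] (Φ : ∀ p q, E p q →ₗ[ℂ] E p q)
    (N : ℕ) (a c : ℕ → ℝ) (b d : ℕ → ℕ) (ha : ∀ q, 0 ≤ a q) (hc : ∀ p, 0 ≤ c p)
    (h1 : ∀ p q, N < q → Subsingleton (E p q))
    (h2 : ∀ p q (μ : ℂ), Module.End.HasEigenvalue (Φ p q) μ → ‖μ‖ ≤ a q * c p)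
    (h3 : ∀ p q, Module.finrank ℂ (E p q) ≤ b q * d p)
    (hsum : Summable fun p : ℕ => c p * (d p : ℝ)) :
    Summable fun pq : ℕ × ℕ => ‖LinearMap.trace ℂ (E pq.1 pq.2) (Φ pq.1 pq.2)‖ := by
  refine Summable.of_nonneg_of_le (fun _ => norm_nonneg _) (fun pq => ?_)
    ((Groth.Agent.H77.TraceSum.summable_bound N a c b d ha hc hsum).comp_injective Groth.Agent.H77.TraceSum.ι_inj)
  simp only [Function.comp_apply, Groth.Agent.H77.TraceSum.ι, Groth.Agent.H77.TraceSum.rho,
    Groth.Agent.H77.TraceSum.dimB, Int.toNat_natCast, Int.natCast_nonneg, true_and, Nat.cast_le]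
  by_cases hq : pq.2 ≤ N
  · rw [if_pos hq]
    refine (Groth.Agent.Lib.SSAbs.Trace.norm_trace_le _ _ (h2 pq.1 pq.2)).trans ?_
    exact mul_le_mul_of_nonneg_right (Nat.cast_le.2 (h3 pq.1 pq.2)) (mul_nonneg (ha _) (hc _))
  · rw [if_neg hq]
    have := h1 pq.1 pq.2 (not_le.1 hq)
    rw [Subsingleton.elim (Φ pq.1 pq.2) 0, map_zero]
    simp

end Groth.Agent.S14280
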