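import Groth.Statements.S14291
import Groth.Agent.Lib.EllTors.Minimal
-- import your own Groth.Agent.* helpers here

set_option autoImplicit false
universe u
open EllLift

namespace Groth.Agent.S14291

/-- Let R be a Henselian discrete valuation ring with algebraically closed residue field k and fraction
field K, and W an elliptic curve over K (a Weierstrass cubic with unit discriminant) given by an
equation which is minimal with respect to R. If W has a K-rational point of exact order n for some
integer n > 4 whose image in k is non-zero, then W has good or multiplicative (that is, semistable)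
reduction. (The published statement takes R to be the Henselisation of the local ring of a smooth
curve over an algebraically closed field at a closed point, and asks that the n-torsion of the
elliptic curve over R contain the constant group Z/nZ; this row allows any Henselian discrete
valuation ring with algebraically closed residue field and asks for a K-rational point of exact
order n, which over such R is the same condition.) -/
theorem result (R : Type u) [CommRing R] [IsDomain R]
    [IsDiscreteValuationRing R] [HenselianLocalRing R] [IsAlgClosed (IsLocalRing.ResidueField R)]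
    (K : Type u) [Field K] [DecidableEq K] [Algebra R K] [IsFractionRing R K]
    (W : WeierstrassCurve K) [W.IsElliptic] [WeierstrassCurve.IsMinimal R W]
    (n : ℕ) (hn : 4 < n) (hk : (n : IsLocalRing.ResidueField R) ≠ 0)
    (P : W.toAffine.Point) (hP : addOrderOf P = n) :
    W.HasGoodReduction R ∨ W.HasMultiplicativeReduction R := by
  by_contra hred
  rw [not_or] at hred
  have hadd := ((W.hasGoodReduction_or_hasMultiplicativeReduction_or_hasAdditiveReduction
    (R := R)).resolve_left hred.1).resolve_left hred.2
  let v := (IsDiscreteValuationRing.maximalIdeal R).valuation K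
  have hle : ∀ r : R, v (algebraMap R K r) ≤ 1 :=
    fun r => IsDedekindDomain.HeightOneSpectrum.valuation_le_one _ r
  have hlt : ∀ r : R, v (algebraMap R K r) < 1 ↔ IsLocalRing.residue R r = 0 := by
    intro r
    rw [IsLocalRing.residue_eq_zero_iff]
    exact IsDedekindDomain.HeightOneSpectrum.valuation_lt_one_iff_mem _ r
  set Wi := WeierstrassCurve.integralModel R W with hWi
  have hbc : Wi.map (algebraMap R K) = W := WeierstrassCurve.baseChange_integralModel_eq R W
  have hΔ0 : (Wi.map (IsLocalRing.residue R)).Δ = 0 := by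
    rw [WeierstrassCurve.map_Δ, ← hlt, hWi, WeierstrassCurve.integralModel_Δ_eq]
    exact hadd.badReduction
  have hc0 : (Wi.map (IsLocalRing.residue R)).c₄ = 0 := by
    rw [WeierstrassCurve.map_c₄, ← hlt, hWi, WeierstrassCurve.integralModel_c₄_eq]
    exact hadd.additiveReduction
  obtain ⟨r', s', t', e1, e2, e3, e4, e6⟩ :=
    Groth.Agent.EllTors.exists_cusp_form _ hΔ0 hc0
  obtain ⟨r₀, rfl⟩ := IsLocalRing.residue_surjective r'
  obtain ⟨s₀, rfl⟩ := IsLocalRing.residue_surjective s'
  obtain ⟨t₀, rfl⟩ := IsLocalRing.residue_surjective t'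
  set rK := algebraMap R K r₀
  set sK := algebraMap R K s₀
  set tK := algebraMap R K t₀
  set W₁ := Groth.Agent.EllTors.ch rK sK tK • W with hW₁d
  have hW₁ : W₁ = (Groth.Agent.EllTors.ch r₀ s₀ t₀ • Wi).map (algebraMap R K) := by
    rw [← WeierstrassCurve.map_variableChange, hbc, hW₁d]
    simp [Groth.Agent.EllTors.ch, WeierstrassCurve.VariableChange.map, rK, sK, tK]
  have hres : Groth.Agent.EllTors.ch (IsLocalRing.residue R r₀) (IsLocalRing.residue R s₀)
      (IsLocalRing.residue R t₀) • Wi.map (IsLocalRing.residue R) =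
      (Groth.Agent.EllTors.ch r₀ s₀ t₀ • Wi).map (IsLocalRing.residue R) := by
    rw [← WeierstrassCurve.map_variableChange]
    simp [Groth.Agent.EllTors.ch, WeierstrassCurve.VariableChange.map]
  rw [hres] at e1 e2 e3 e4 e6
  have hc : Groth.Agent.EllTors.Cusp v W₁ := by
    rw [hW₁]
    exact ⟨(hlt _).2 e1, (hlt _).2 e2, (hlt _).2 e3, (hlt _).2 e4, (hlt _).2 e6⟩
  have : W₁.IsElliptic := by rw [hW₁d]; infer_instance
  obtain ⟨ϖ, hϖ⟩ := IsDiscreteValuationRing.exists_irreducible R
  set π := algebraMap R K ϖ with hπ
  have hπ0 : π ≠ 0 := (map_ne_zero_iff _ (IsFractionRing.injective R K)).2 hϖ.ne_zero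
  have hϖm : v π < 1 := by
    rw [hπ, hlt, IsLocalRing.residue_eq_zero_iff, hϖ.maximalIdeal_eq]
    exact Ideal.mem_span_singleton_self ϖ
  have hmax : ∀ x : K, v x < 1 → v x ≤ v π := by
    intro x hx
    obtain ⟨a, rfl⟩ := IsDiscreteValuationRing.exists_lift_of_le_one (K := K) hx.le
    have ha : a ∈ IsLocalRing.maximalIdeal R := by
      rw [← IsLocalRing.residue_eq_zero_iff, ← hlt]; exact hx
    rw [hϖ.maximalIdeal_eq, Ideal.mem_span_singleton] at ha
    obtain ⟨b, rfl⟩ := ha
    rw [map_mul, map_mul]
    exact mul_le_of_le_one_right' (hle b)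
  have hn1 : v (n : K) = 1 := by
    refine le_antisymm (Groth.Agent.EllTors.nat_le_one n) (not_lt.1 fun h => hk ?_)
    rw [← map_natCast (IsLocalRing.residue R), ← hlt, map_natCast]
    exact h
  have hord : addOrderOf (Groth.Agent.EllTors.chHom W rK sK tK P) = n := by
    rw [addOrderOf_injective _ ?_, hP]
    rw [injective_iff_map_eq_zero]
    rintro (_ | ⟨a, b, hab⟩) h1
    · rfl
    · exact absurd h1 (WeierstrassCurve.Affine.Point.some_ne_zero _)
  obtain ⟨C, b1, b2, b3, b4, b6, bΔ⟩ :=
    Groth.Agent.EllTors.exists_scaled hc hπ0 hmax hn hn1 hord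
  set T := C * Groth.Agent.EllTors.ch rK sK tK with hT
  have hTW : T • W = C • W₁ := by rw [hT, mul_smul]
  have hint : WeierstrassCurve.IsIntegral R (T • W) := by
    rw [hTW]
    exact WeierstrassCurve.isIntegral_of_exists_lift R
      (IsDiscreteValuationRing.exists_lift_of_le_one b1)
      (IsDiscreteValuationRing.exists_lift_of_le_one b2)
      (IsDiscreteValuationRing.exists_lift_of_le_one b3)
      (IsDiscreteValuationRing.exists_lift_of_le_one b4)
      (IsDiscreteValuationRing.exists_lift_of_le_one b6)
  have hΔ1 : W₁.Δ = W.Δ := by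
    simp [hW₁d, Groth.Agent.EllTors.ch, WeierstrassCurve.variableChange_Δ]
  have hWpos : 0 < v W.Δ := zero_lt_iff.2 (v.ne_zero_iff.2 W.isUnit_Δ.ne_zero)
  have hbig : v W.Δ < v (T • W).Δ := by
    rw [hTW, bΔ, hΔ1, map_mul, map_pow, map_inv₀, inv_pow,
      lt_inv_mul_iff₀ (pow_pos (zero_lt_iff.2 (v.ne_zero_iff.2 hπ0)) 12)]
    exact mul_lt_of_lt_one_left hWpos (pow_lt_one₀ zero_le hϖm (by norm_num))
  have hmaxΔ := (WeierstrassCurve.IsMinimal.val_Δ_maximal (R := R) (W := W)).2 hint
  simp only [← Subtype.coe_le_coe, WeierstrassCurve.valuation_Δ_aux_eq_of_isIntegral,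
    one_smul] at hmaxΔ
  exact (hmaxΔ hbig.le).not_gt hbig

end Groth.Agent.S14291
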