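import Groth.Statements.S14296
import Groth.Agent.Lib.PtDeg.Basic

set_option autoImplicit false
universe u v
open PtDeg

namespace Groth.Agent.S14296

/-- Let G and H be abelian groups, written additively, n an integer such that 2n²·x = 0 for every x in
G, and d : G → H a quadratic map, meaning that d is pointed of degree 2 (d(x+y+z) + d(x) + d(y) +
d(z) = d(x+y) + d(x+z) + d(y+z) for all x, y, z) and even (d(−x) = d(x) for all x). Then d(2n·x) = 0
for every x in G. -/
theorem result {G : Type u} {H : Type v} [AddCommGroup G] [AddCommGroup H]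
    (n : ℤ) (hn : ∀ x : G, (2 * n ^ 2) • x = 0)
    (d : G → H) (hd : ∀ x y z : G, d (x + y + z) + d x + d y + d z = d (x + y) + d (x + z) + d (y + z))
    (heven : ∀ x : G, d (-x) = d x) (x : G) :
    d ((2 * n) • x) = 0 := by
  rw [Lib.PtDeg.Basic.map_zsmul' d hd, heven, ← add_smul]
  have h := (Lib.PtDeg.Basic.zsmul_eq_zero d hd (2 * n ^ 2) hn).1 x
  rw [← h]
  congr 1
  rw [show 2 * n * (2 * n + 1) = n * (2 * n + 1) * 2 by ring,
    show 2 * n * (2 * n - 1) = n * (2 * n - 1) * 2 by ring, Int.mul_ediv_cancel _ two_ne_zero,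
    Int.mul_ediv_cancel _ two_ne_zero]
  ring

end Groth.Agent.S14296
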