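import Groth.Statements.S6021
import Groth.Agent.H30.LocZ.Vanish
import Groth.Agent.H30.LocZ.LES

set_option autoImplicit false
universe u
open CategoryTheory CategoryTheory.Limits TopologicalSpace
open LocCohZ

namespace Groth.Agent.S6021

/-- Consider a topological space X carrying an abelian sheaf F, a closed subset Z whose open complement
is U, and a natural number N > 0. Assume that, for each open V of X and each i < N, restricting
H^i(V, F) → H^i(V ∩ U, F) gives a bijection. Then ℋ^i_Z(F), the local cohomology sheaves, are zero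
for every i ≤ N (no separate injectivity hypothesis in degree N is needed, since it follows
automatically). -/
theorem result {X : TopCat.{u}} (F : CohTop.Ab X) (U : Opens X) (N : ℕ) (hN : 0 < N)
    (h : ∀ (V : Opens X) (i : ℕ), i < N → Function.Bijective (CohTop.res F i (inf_le_left : V ⊓ U ≤ V))) :
    ∀ i : ℕ, i ≤ N → IsZero ((LocCohZ.HZsh U i).obj F) := by
  open Groth.Agent.H30.LocZ in
  obtain ⟨q, rfl⟩ : ∃ q, N = q + 1 := ⟨N - 1, by omega⟩
  intro i hi
  rcases Nat.lt_or_ge i (q + 1) with hi' | hi'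
  · refine (Groth.Agent.H30.LocZ.Vanish.isZero_HZsh_iff U F (q + 1)).2 (fun V j hj => ?_) i hi'
    exact (Groth.Agent.H30.LocZ.LES.subsingleton_HZ_le_iff _ q).2
      ⟨fun k hk => h V k (by omega), (h V q (by omega)).1⟩ j (by omega)
  obtain rfl : i = q + 1 := le_antisymm hi hi'
  refine Groth.Agent.H30.LocZ.Vanish.isZero_HZsh_of_locally U F q fun V ξ x hx => ?_
  obtain ⟨V', hV, hxV, h0⟩ := Groth.Agent.Lib.ZarCoh.Basic.exists_res_eq_zero q F V
    (LocCohZ.toHU F (q + 1) (inf_le_left : V ⊓ U ≤ V) ξ) x hx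
  refine ⟨V', hV, hxV, ?_⟩
  obtain ⟨y, hy⟩ := Groth.Agent.H30.LocZ.LES.exists_delta_of_toHU_eq_zero
    (inf_le_left : V' ⊓ U ≤ V') (LocCohZ.resZ F (q + 1) (inf_le_left : V ⊓ U ≤ V) _
      (inf_le_inf_right U hV) hV ξ)
    ((Groth.Agent.H30.LocZ.LES.toHU_resZ _ _ _ hV ξ).trans h0)
  obtain ⟨z, rfl⟩ := (h V' q (by omega)).2 y
  exact hy.symm.trans (Groth.Agent.H30.LocZ.LES.delta_res _ z)

end Groth.Agent.S6021
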