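import Groth.Statements.S6039
import Groth.Agent.H30.LocZ.DepthStalk
import Groth.Agent.S6020
import Groth.Agent.S6021

set_option autoImplicit false
universe u
open CategoryTheory CategoryTheory.Limits TopologicalSpace AlgebraicGeometry Opposite
open LocCohZ

namespace Groth.Agent.S6039

/-- Let X be a locally Noetherian scheme, Y a closed subset with open complement U and M a coherent
O_X-module. Then depth M_x ≥ 2 for every x ∈ Y if and only if, for every open V of X, the
restriction map Γ(V, M) → Γ(V ∩ U, M) is bijective. -/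
theorem result (X : Scheme.{u}) [IsLocallyNoetherian X] (U : X.Opens)
    (M : X.Modules) (hM : Coh.IsCoh M) :
    (∀ x : X, x ∉ (U : Set X) → (2 : ℕ∞) ≤ LocCoh.depth (X.presheaf.stalk x) (M.presheaf.stalk x)) ↔
      ∀ V : X.Opens, Function.Bijective (M.val.map (homOfLE (inf_le_left : V ⊓ U ≤ V)).op).hom := by
  have key : ∀ V : X.Opens,
      Function.Bijective (M.val.map (homOfLE (inf_le_left : V ⊓ U ≤ V)).op).hom ↔
        Function.Bijective (CohTop.res (X := X.carrier) (Coh.toAb M) 0 (inf_le_left : V ⊓ U ≤ V)) := by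
    intro V
    let e := fun W : Opens X.carrier => Groth.Agent.Lib.Koszul.Stable.Supp.e0 (Coh.toAb M) W
    let f : CohTop.HU (X := X.carrier) (Coh.toAb M) 0 V → CohTop.HU (X := X.carrier) (Coh.toAb M) 0 (V ⊓ U) :=
      fun x => CohTop.res (Coh.toAb M) 0 (inf_le_left : V ⊓ U ≤ V) x
    let g : (Coh.toAb M).obj.obj (op V) → (Coh.toAb M).obj.obj (op (V ⊓ U)) :=
      fun x => ((Coh.toAb M).obj.map (homOfLE (inf_le_left : V ⊓ U ≤ V)).op).hom x
    have hc : e (V ⊓ U) ∘ f = g ∘ e V := funext fun x =>
      Groth.Agent.Lib.Koszul.Stable.Supp.e0_pre (Coh.toAb M) (inf_le_left : V ⊓ U ≤ V) x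
    show Function.Bijective g ↔ Function.Bijective f
    rw [← Function.Bijective.of_comp_iff g (e V).bijective, ← hc,
      Function.Bijective.of_comp_iff' (e (V ⊓ U)).bijective]
  simp only [key]
  refine (Groth.Agent.H30.LocZ.DepthStalk.isZero_HZsh_below_iff U hM 2).symm.trans
    ⟨fun h V => ?_, fun h i hi => ?_⟩
  · exact ((Groth.Agent.S6020.result (X := X.carrier) (Coh.toAb M) U 1).1
      (fun i hi => h i (by omega)) V).1 0 (by omega)
  · exact Groth.Agent.S6021.result (X := X.carrier) (Coh.toAb M) U 1 Nat.one_pos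
      (fun V j hj => by
        obtain rfl : j = 0 := by omega
        exact h V) i (by omega)

end Groth.Agent.S6039
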