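import Groth.Statements.S14298
import Groth.Agent.H52.PushInv
import Groth.Agent.S6039
import Groth.Agent.Lib.AssPt.Basic
import Groth.Agent.Lib.Depth.Basic
import Groth.Agent.Lib.Snapper.Twist
import Groth.Agent.Lib.ParaF.Pair

set_option autoImplicit false
universe u
open Groth.Agent.Lib Groth.Agent.Lib.TensorMod Groth.Agent.Lib.TensorMod.Gen Groth.Agent.Lib.TensorMod.Pullback Groth.Agent.Lib.Ample.GenLocus Groth.Agent.H52
open CategoryTheory CategoryTheory.Limits AlgebraicGeometry
open PicF

namespace Groth.Agent.S14298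

/-- Let φ : X′ → X be a flat and surjective morphism of locally Noetherian schemes, V ⊆ X an open
subscheme which is big, in the sense that the local ring of X at every point outside V has depth at
least 2, and L an invertible O_V-module. Then L extends to an invertible O_X-module (there is an
invertible M on X whose restriction to V is isomorphic to L) if and only if the pullback of L to
φ⁻¹(V) extends to an invertible O_{X′}-module. -/
theorem result {X X' : Scheme.{u}}
    [IsLocallyNoetherian X] [IsLocallyNoetherian X'] (φ : X' ⟶ X) [Flat φ] [Surjective φ]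
    (V : X.Opens) (hV : ∀ x : X, x ∉ V → 2 ≤ LocCoh.depth (X.presheaf.stalk x) (X.presheaf.stalk x))
    (L : (V : Scheme.{u}).Modules) (hL : PicF.IsInvertible L) :
    (∃ M : X.Modules, PicF.IsInvertible M ∧ Nonempty ((Scheme.Modules.pullback V.ι).obj M ≅ L)) ↔
      (∃ M' : X'.Modules, PicF.IsInvertible M' ∧
        Nonempty ((Scheme.Modules.pullback (φ ⁻¹ᵁ V).ι).obj M' ≅ (Scheme.Modules.pullback (φ ∣_ V)).obj L)) := by
  let w := (Scheme.Modules.pullbackCongr (morphismRestrict_ι φ V).symm)
  constructor
  · rintro ⟨M, hM, ⟨e⟩⟩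
    exact ⟨_, PicLoc.isInvertible_pullback φ hM,
      ⟨(Scheme.Modules.pullbackComp _ φ).app M ≪≫ w.app M ≪≫
        ((Scheme.Modules.pullbackComp _ V.ι).app M).symm ≪≫ (Scheme.Modules.pullback _).mapIso e⟩⟩
  · rintro ⟨M', hM', ⟨e⟩⟩
    have hres := (Groth.Agent.S6039.result X V (Coh.structureModule X)
      (Snapper.Twist.isCoh_structureModule X)).1 fun x hx =>
        (Depth.Basic.depth_congr (AssPt.Basic.unitStalkEquiv x)) ▸ hV x hx
    have hf : ∀ W : X.Opens, Function.Bijective (V.ι.app W) := fun W => by
      rw [Scheme.Opens.ι_app]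
      refine (ParaF.ResBij.presheaf_map_bijective_congr (M := Coh.structureModule X) ?_ rfl _ _).1 (hres W)
      rw [V.ι.image_preimage_eq_opensRange_inf, V.opensRange_ι, inf_comm]
    have h := isPullback_morphismRestrict φ V
    have hg := PushInv.exists_gens h hL (fun W _ => hf W) fun x' => by
      obtain ⟨O, e₀, hx, he₀⟩ := isInvertible_iff.1 hM' x'
      exact ⟨O, _, hx, PushInv.isGen_of_iso e (isGen_unitSec _ he₀)⟩
    have := PushInv.isIso_counit V.ι hf hg
    exact ⟨_, PushInv.isInvertible_push V.ι hf hg,
      ⟨asIso ((Scheme.Modules.pullbackPushforwardAdjunction V.ι).counit.app L)⟩⟩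

end Groth.Agent.S14298
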