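import Groth.Statements.S14309
import Mathlib

set_option autoImplicit false
universe u v w x y
open CAlg

namespace Groth.Agent.S14309

/-- Let R be a commutative ring; A, B, C commutative R-algebras; i : A → B and j : A → C jointly
injective R-algebra maps; c a non-zero-divisor of B; u : C → B/(c) a ring map with u ∘ j equal to i
followed by reduction modulo c; ζ in A with i ζ = c and j ζ = 0; η : R[X_σ, Z] → A an R-algebra map
with η(Z) = ζ; a : R[Y_τ] → B a surjective R-algebra map; η_Z : R[X_σ, Z] → R[Y_τ] a surjective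
R-algebra map with a ∘ η_Z = i ∘ η. Fix c̃ in R[Y_τ] with a(c̃) = c, a family (p_h) generating the
kernel of the composite R[X_σ] → R[X_σ, Z] → A → C, a family (q'_h) generating the kernel of a
together with lifts q_h along η_Z, a family (v_h) generating the kernel of η_Z, and elements g'_h of
R[Y_τ] with η_Z(p_h) + g'_h c̃ in the ideal (q'_h), together with lifts g_h along η_Z. Then the
kernel of η is the ideal generated by the elements Z q_h, Z v_h and p_h + Z g_h. (The published
statement is for the rings of cycle classes, with coefficients ℤ[1/6], of a smooth quotient stack, a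
smooth closed substack whose normal bundle has top Chern class c a non-zero-divisor, and the open
complement; this row states the ring-theoretic content for any such square of commutative rings in
which A embeds in B × C.) -/
theorem result
    {R : Type u} [CommRing R] {A : Type v} {B : Type w} {C : Type x}
    [CommRing A] [CommRing B] [CommRing C] [Algebra R A] [Algebra R B] [Algebra R C]
    (i : A →ₐ[R] B) (j : A →ₐ[R] C)
    (hinj : ∀ t : A, i t = 0 → j t = 0 → t = 0)
    (c : B) (hc : c ∈ nonZeroDivisors B) (u : C →+* B ⧸ Ideal.span ({c} : Set B))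
    (hu : ∀ t : A, u (j t) = Ideal.Quotient.mk (Ideal.span ({c} : Set B)) (i t))
    (ζ : A) (hiζ : i ζ = c) (hjζ : j ζ = 0)
    {σ τ ιp ιq ιv : Type y}
    (η : MvPolynomial (Option σ) R →ₐ[R] A) (hη : η (MvPolynomial.X none) = ζ)
    (a : MvPolynomial τ R →ₐ[R] B) (ha : Function.Surjective a)
    (ηZ : MvPolynomial (Option σ) R →ₐ[R] MvPolynomial τ R)
    (hcomm : ∀ t, a (ηZ t) = i (η t)) (hηZ : Function.Surjective ηZ)
    (cZ : MvPolynomial τ R) (hcZ : a cZ = c)
    (p : ιp → MvPolynomial σ R)
    (hp : Ideal.span (Set.range p) =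
      RingHom.ker ((j.comp η).comp (MvPolynomial.rename (Option.some : σ → Option σ))))
    (q' : ιq → MvPolynomial τ R) (hq' : Ideal.span (Set.range q') = RingHom.ker a)
    (q : ιq → MvPolynomial (Option σ) R) (hq : ∀ h, ηZ (q h) = q' h)
    (v : ιv → MvPolynomial (Option σ) R) (hv : Ideal.span (Set.range v) = RingHom.ker ηZ)
    (g' : ιp → MvPolynomial τ R)
    (hg' : ∀ h, ηZ (MvPolynomial.rename (Option.some : σ → Option σ) (p h)) + g' h * cZ ∈
      Ideal.span (Set.range q'))
    (g : ιp → MvPolynomial (Option σ) R) (hg : ∀ h, ηZ (g h) = g' h) :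
    RingHom.ker η = Ideal.span
      (Set.range (fun h : ιq => MvPolynomial.X none * q h) ∪
        Set.range (fun h : ιv => MvPolynomial.X none * v h) ∪
        Set.range (fun h : ιp =>
          MvPolynomial.rename (Option.some : σ → Option σ) (p h) + MvPolynomial.X none * g h)) := by
  classical
  set rn : MvPolynomial σ R →ₐ[R] MvPolynomial (Option σ) R := MvPolynomial.rename (Option.some : σ → Option σ)
  set Z : MvPolynomial (Option σ) R := MvPolynomial.X none
  set J := Ideal.span (Set.range (fun h : ιq => Z * q h) ∪ Set.range (fun h : ιv => Z * v h) ∪ Set.range (fun h : ιp => rn (p h) + Z * g h))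
  have hpk : ∀ h, j (η (rn (p h))) = 0 := fun h => by
    have : p h ∈ RingHom.ker ((j.comp η).comp rn) := hp ▸ Ideal.subset_span ⟨h, rfl⟩
    exact this
  refine le_antisymm (fun t ht => ?_) ?_
  · rw [RingHom.mem_ker] at ht
    have hdec : ∀ t : MvPolynomial (Option σ) R, ∃ t₀ t₁, t = rn t₀ + Z * t₁ := by
      intro t
      induction t using MvPolynomial.induction_on with
      | C r => exact ⟨MvPolynomial.C r, 0, by simp [rn]⟩
      | add a b ha hb =>
        obtain ⟨a₀, a₁, rfl⟩ := ha; obtain ⟨b₀, b₁, rfl⟩ := hb
        exact ⟨a₀ + b₀, a₁ + b₁, by rw [map_add]; ring⟩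
      | mul_X a i ha =>
        obtain ⟨a₀, a₁, rfl⟩ := ha
        cases i with
        | none => exact ⟨0, rn a₀ + Z * a₁, by rw [map_zero]; ring⟩
        | some i => exact ⟨a₀ * MvPolynomial.X i, a₁ * MvPolynomial.X (some i), by simp [rn]; ring⟩
    obtain ⟨t₀, t₁, rfl⟩ := hdec t
    have h0 : t₀ ∈ RingHom.ker ((j.comp η).comp rn) := by
      have := congrArg j ht
      rw [map_add, map_mul, map_add, map_mul, hη, hjζ, zero_mul, add_zero, map_zero] at this
      exact this
    rw [← hp, Finsupp.mem_ideal_span_range_iff_exists_finsupp] at h0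
    obtain ⟨co, hco⟩ := h0
    have hz : ∃ t₂, rn t₀ - Z * t₂ ∈ J := by
      rw [← hco, Finsupp.sum, map_sum]
      refine Finset.induction_on co.support ⟨0, by simp⟩ (fun h s hs ih => ?_)
      obtain ⟨t₂, ht₂⟩ := ih
      refine ⟨t₂ - rn (co h) * g h, ?_⟩
      rw [Finset.sum_insert hs, map_mul]
      have : rn (co h) * (rn (p h) + Z * g h) ∈ J := J.mul_mem_left _ (Ideal.subset_span (Or.inr ⟨h, rfl⟩))
      convert J.add_mem this ht₂ using 1
      ring
    obtain ⟨t₂, ht₂⟩ := hz
    have hJle : ∀ z ∈ J, η z = 0 := by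
      intro z hz
      induction hz using Submodule.span_induction with
      | mem z hz =>
        rcases hz with (⟨h, rfl⟩ | ⟨h, rfl⟩) | ⟨h, rfl⟩
        · refine hinj _ ?_ (by rw [map_mul, map_mul, hη, hjζ, zero_mul])
          have : a (q' h) = 0 := by
            have h2 : q' h ∈ RingHom.ker a := hq' ▸ Ideal.subset_span ⟨h, rfl⟩
            exact h2
          rw [map_mul, map_mul, ← hcomm (q h), hq, this, mul_zero]
        · refine hinj _ ?_ (by rw [map_mul, map_mul, hη, hjζ, zero_mul])
          have : ηZ (v h) = 0 := by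
            have h2 : v h ∈ RingHom.ker ηZ := hv ▸ Ideal.subset_span ⟨h, rfl⟩
            exact h2
          rw [map_mul, map_mul, ← hcomm (v h), this, map_zero, mul_zero]
        · refine hinj _ ?_ (by rw [map_add, map_mul, map_add, map_mul, hη, hjζ, hpk, zero_mul, add_zero])
          have h2 : a (ηZ (rn (p h)) + g' h * cZ) = 0 := by
            have h3 := hg' h
            rw [hq'] at h3
            exact h3
          rw [map_add, map_mul, hcomm, hcZ, ← hg, hcomm] at h2
          rw [map_add, map_mul, map_add, map_mul, hη, hiζ, mul_comm]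
          exact h2
      | zero => simp
      | add a b _ _ ha hb => rw [map_add, ha, hb, add_zero]
      | smul r a _ ha => rw [smul_eq_mul, map_mul, ha, mul_zero]
    have h1 : η (Z * (t₂ + t₁)) = 0 := by
      have := hJle _ ht₂
      rw [map_sub] at this
      rw [map_add] at ht
      rw [mul_add, map_add]
      linear_combination ht - this
    have h3 : ηZ (t₂ + t₁) ∈ Ideal.span (Set.range q') := by
      rw [hq', RingHom.mem_ker, hcomm]
      have := congrArg i h1
      rw [map_mul, map_mul, hη, hiζ, map_zero, mul_comm] at this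
      exact (mem_nonZeroDivisors_iff_right.1 hc) _ this
    rw [show Set.range q' = ηZ '' Set.range q by rw [← Set.range_comp]; exact congrArg Set.range (funext fun h => (hq h).symm),
      ← Ideal.map_span, ← Ideal.mem_comap, Ideal.comap_map_of_surjective' ηZ hηZ, ← hv, ← Ideal.span_union] at h3
    have h4 : Z * (t₂ + t₁) ∈ J := by
      revert h3
      generalize t₂ + t₁ = w
      intro h3
      induction h3 using Submodule.span_induction with
      | mem z hz =>
        rcases hz with ⟨h, rfl⟩ | ⟨h, rfl⟩
        · exact Ideal.subset_span (Or.inl (Or.inl ⟨h, rfl⟩))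
        · exact Ideal.subset_span (Or.inl (Or.inr ⟨h, rfl⟩))
      | zero => simp
      | add a b _ _ ha hb => rw [mul_add]; exact add_mem ha hb
      | smul r a _ ha => rw [smul_eq_mul, mul_left_comm]; exact J.mul_mem_left _ ha
    convert J.add_mem ht₂ h4 using 1
    ring
  · rw [Ideal.span_le]
    intro z hz
    show η z = 0
    rcases hz with (⟨h, rfl⟩ | ⟨h, rfl⟩) | ⟨h, rfl⟩
    · refine hinj _ ?_ (by rw [map_mul, map_mul, hη, hjζ, zero_mul])
      have h2 : q' h ∈ RingHom.ker a := hq' ▸ Ideal.subset_span ⟨h, rfl⟩
      rw [map_mul, map_mul, ← hcomm (q h), hq, RingHom.mem_ker.1 h2, mul_zero]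
    · refine hinj _ ?_ (by rw [map_mul, map_mul, hη, hjζ, zero_mul])
      have h2 : v h ∈ RingHom.ker ηZ := hv ▸ Ideal.subset_span ⟨h, rfl⟩
      rw [map_mul, map_mul, ← hcomm (v h), RingHom.mem_ker.1 h2, map_zero, mul_zero]
    · refine hinj _ ?_ (by rw [map_add, map_mul, map_add, map_mul, hη, hjζ, hpk, zero_mul, add_zero])
      have h2 : a (ηZ (rn (p h)) + g' h * cZ) = 0 := by
        have h3 := hg' h
        rw [hq'] at h3
        exact h3
      rw [map_add, map_mul, hcomm, hcZ, ← hg, hcomm] at h2
      rw [map_add, map_mul, map_add, map_mul, hη, hiζ, mul_comm]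
      exact h2

end Groth.Agent.S14309
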