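import Groth.Statements.S14311
import Groth.Agent.Lib.ArSing99.Plane
-- import your own Groth.Agent.* helpers here

set_option autoImplicit false
universe u
open ArSing

namespace Groth.Agent.S14311

/-- Let k be an algebraically closed field in which 2 ≠ 0, f a polynomial in x = X_0, y = X_1 over k and
a a zero of f in k². Then the gradient and all second partial derivatives of f vanish at a if and
only if the completed local ring k[[x,y]]/(f recentred at a) of the plane curve f = 0 at a is
isomorphic as a k-algebra neither to k[[x,y]]/(y^2 - x^(n+1)) for any natural number n nor to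
k[[x,y]]/(y^2). (Here n = 0, a smooth point, is allowed; with n ≥ 1 only, as in the published
definition of an A-singularity, the equivalence fails at smooth points of the curve. Only 2 ≠ 0 is
assumed of the characteristic; the published setting assumes a characteristic different from 2, 3, 5
and 7.) -/
theorem result
    {k : Type u} [Field k] [IsAlgClosed k] (h2 : (2 : k) ≠ 0) (f : MvPolynomial (Fin 2) k) (a : Fin 2 → k)
    (hfa : MvPolynomial.eval a f = 0) :
    ((∀ i : Fin 2, MvPolynomial.eval a (MvPolynomial.pderiv i f) = 0) ∧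
      ∀ i j : Fin 2, MvPolynomial.eval a (MvPolynomial.pderiv i (MvPolynomial.pderiv j f)) = 0) ↔
    ¬ ((∃ n : ℕ, Nonempty ((MvPowerSeries (Fin 2) k ⧸ Ideal.span
        ({(MvPolynomial.aeval (fun i : Fin 2 => MvPolynomial.X i + MvPolynomial.C (a i)) f).toMvPowerSeries} :
          Set (MvPowerSeries (Fin 2) k))) ≃ₐ[k] ArSing.ring k n)) ∨
        Nonempty ((MvPowerSeries (Fin 2) k ⧸ Ideal.span
        ({(MvPolynomial.aeval (fun i : Fin 2 => MvPolynomial.X i + MvPolynomial.C (a i)) f).toMvPowerSeries} :
          Set (MvPowerSeries (Fin 2) k))) ≃ₐ[k]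
          (MvPowerSeries (Fin 2) k ⧸ Ideal.span ({MvPowerSeries.X 1 ^ 2} : Set (MvPowerSeries (Fin 2) k))))) := by
  haveI : NeZero (2 : k) := ⟨h2⟩
  classical
  generalize hp : MvPolynomial.aeval (fun i : Fin 2 => MvPolynomial.X i + MvPolynomial.C (a i)) f = p
  have hev : ∀ q : MvPolynomial (Fin 2) k, MvPolynomial.constantCoeff
      (MvPolynomial.aeval (fun i : Fin 2 => MvPolynomial.X i + MvPolynomial.C (a i)) q) = MvPolynomial.eval a q := by
    intro q
    induction q using MvPolynomial.induction_on <;> simp_all
  have hd : ∀ (i : Fin 2) (q : MvPolynomial (Fin 2) k), MvPolynomial.pderiv i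
      (MvPolynomial.aeval (fun i : Fin 2 => MvPolynomial.X i + MvPolynomial.C (a i)) q) =
      MvPolynomial.aeval (fun i : Fin 2 => MvPolynomial.X i + MvPolynomial.C (a i)) (MvPolynomial.pderiv i q) := by
    intro i q
    induction q using MvPolynomial.induction_on with
    | C c => simp
    | add u v hu hv => rw [map_add, map_add, hu, hv, map_add, map_add]
    | mul_X u j hu =>
      simp only [map_mul, map_add, MvPolynomial.pderiv_mul, MvPolynomial.aeval_X, hu, MvPolynomial.pderiv_C, add_zero,
        MvPolynomial.pderiv_X, Pi.single_apply]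
      split_ifs <;> simp
  have h0 : MvPowerSeries.constantCoeff (p : MvPowerSeries (Fin 2) k) = 0 := by
    rw [← MvPowerSeries.coeff_zero_eq_constantCoeff_apply, MvPolynomial.coeff_coe, ← hp]
    exact (hev f).trans hfa
  have hz0 : p.coeff 0 = 0 := by
    rw [← MvPolynomial.coeff_coe]; exact h0
  have h1 : ∀ i : Fin 2, MvPolynomial.eval a (MvPolynomial.pderiv i f) = p.coeff (Finsupp.single i 1) := by
    intro i
    rw [← hev, ← hd, hp, MvPolynomial.constantCoeff_eq, MvPolynomial.coeff_pderiv]
    simp
  have h11 : ∀ i j : Fin 2, MvPolynomial.eval a (MvPolynomial.pderiv i (MvPolynomial.pderiv j f)) =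
      p.coeff (Finsupp.single i 1 + Finsupp.single j 1) * (if i = j then 2 else 1) := by
    intro i j
    rw [← hev, ← hd, ← hd, hp, MvPolynomial.constantCoeff_eq, MvPolynomial.coeff_pderiv, MvPolynomial.coeff_pderiv]
    by_cases h : i = j
    · subst h; simp; norm_num
    · simp [h, Finsupp.single_eq_of_ne (Ne.symm h)]
  have key : ((∀ i : Fin 2, MvPolynomial.eval a (MvPolynomial.pderiv i f) = 0) ∧
      ∀ i j : Fin 2, MvPolynomial.eval a (MvPolynomial.pderiv i (MvPolynomial.pderiv j f)) = 0) ↔
      (p : MvPowerSeries (Fin 2) k) ∈ Groth.Agent.Lib.ArSing99.J k ^ 3 := by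
    constructor
    · rintro ⟨ha, hb⟩
      refine Groth.Agent.Lib.ArSing99.mem_of_Z fun d hd => ?_
      rw [MvPolynomial.coeff_coe]
      have hd' : d = Finsupp.single 0 (d 0) + Finsupp.single 1 (d 1) := by ext i; fin_cases i <;> simp
      have hdeg : d 0 + d 1 < 3 := by
        rw [Finsupp.degree_eq_sum, Fin.sum_univ_two] at hd; exact hd
      have hC : ∀ i j : Fin 2, p.coeff (Finsupp.single i 1 + Finsupp.single j 1) = 0 := fun i j => by
        have := hb i j
        rw [h11] at this
        refine (mul_eq_zero.1 this).resolve_right ?_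
        split_ifs <;> simp [h2]
      have hA : ∀ i : Fin 2, p.coeff (Finsupp.single i 1) = 0 := fun i => (h1 i).symm.trans (ha i)
      have hA2 : ∀ i : Fin 2, p.coeff (Finsupp.single i 2) = 0 := fun i => by
        have := hC i i
        rwa [← Finsupp.single_add] at this
      rw [hd']
      rcases (show d 0 = 0 ∨ d 0 = 1 ∨ d 0 = 2 by omega) with e | e | e <;>
        rcases (show d 1 = 0 ∨ d 1 = 1 ∨ d 1 = 2 by omega) with e' | e' | e' <;>
        simp only [e, e'] at hdeg ⊢ <;> first
        | omega
        | (simp [hA, hA2, hC]; done)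
        | (simpa using hz0)
    · intro h
      have hz : ∀ d : Fin 2 →₀ ℕ, d.degree < 3 → p.coeff d = 0 := fun d hd => by
        have := Groth.Agent.Lib.ArSing99.Z_of_mem h d hd
        rwa [MvPolynomial.coeff_coe] at this
      refine ⟨fun i => ?_, fun i j => ?_⟩
      · rw [h1, hz]; simp
      · rw [h11, hz]
        · simp
        · simp [map_add]
  rw [key]
  constructor
  · intro hg h
    rcases h with ⟨n, ⟨e⟩⟩ | he
    · exact (Groth.Agent.Lib.ArSing99.X_sq_not_mem (k := k) n).1 (Groth.Agent.Lib.ArSing99.mem_cube_of_equiv hg e)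
    · exact he.elim fun e => (Groth.Agent.Lib.ArSing99.X_sq_not_mem (k := k) 0).2 (Groth.Agent.Lib.ArSing99.mem_cube_of_equiv hg e)
  · intro h
    by_contra hg
    exact h (Groth.Agent.Lib.ArSing99.normal_form h0 hg)

end Groth.Agent.S14311
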