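import Groth.Statements.S14312
import Groth.Agent.Lib.QuarticSing.Main
-- import your own Groth.Agent.* helpers here

set_option autoImplicit false
universe u
open Curves

namespace Groth.Agent.S14312

/-- Over an algebraically closed field k, a reduced plane quartic — the zero locus in the projective
plane of a square-free homogeneous polynomial f of degree 4 in three variables — has at most 6
singular points, a singular point being a point of the projective plane at which f and its three
first partial derivatives vanish. (No hypothesis on the characteristic of k is imposed here. The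
further assertions describing the quartics with exactly 5 or exactly 6 singular points are not part
of this row.) -/
theorem result
    {k : Type u} [Field k] [IsAlgClosed k] (f : MvPolynomial (Fin 3) k)
    (hf : f.IsHomogeneous 4) (hred : Squarefree f) :
    ∃ s : Finset (Projectivization k (Fin 3 → k)), s.card ≤ 6 ∧
      ∀ p : Projectivization k (Fin 3 → k),
        MvPolynomial.eval p.rep f = 0 →
          (∀ i : Fin 3, MvPolynomial.eval p.rep (MvPolynomial.pderiv i f) = 0) → p ∈ s := by
  classical
  let S : Set (Projectivization k (Fin 3 → k)) :=
    {p | Groth.Agent.QuarticSing.Sing f p.rep}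
  have hbound : ∀ t : Finset (Projectivization k (Fin 3 → k)), (↑t : Set _) ⊆ S → t.card ≤ 6 := by
    intro t ht
    have h := (Groth.Agent.QuarticSing.bound_four (k := k)).card_le (ι := {x // x ∈ t}) hf hred
      (v := fun x => x.1.rep)
      ⟨fun x => x.1.rep_nonzero, fun x y c hc => Subtype.ext (by
        rw [← x.1.mk_rep, ← y.1.mk_rep]
        exact (Projectivization.mk_eq_mk_iff' k _ _ x.1.rep_nonzero y.1.rep_nonzero).2 ⟨c, hc.symm⟩)⟩
      (fun x => ht x.2)
    simpa using h
  have hfin : S.Finite := by
    by_contra hinf
    obtain ⟨t, hts, htc⟩ := Set.Infinite.exists_subset_card_eq hinf 7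
    have := hbound t hts
    omega
  exact ⟨hfin.toFinset, hbound _ (by simp), fun p h0 h1 => hfin.mem_toFinset.2 ⟨h0, h1⟩⟩

end Groth.Agent.S14312
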