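import Groth.Statements.S14313
import Groth.Agent.Lib.SurfInt.NefInt
import Groth.Agent.Lib.SurfInt.AffineBoundary
import Groth.Agent.Lib.RelDiv.Diff
import Groth.Agent.Lib.TensorMod.TensorInv

set_option autoImplicit false
set_option linter.style.haveILetI false
universe u
open CategoryTheory CategoryTheory.Limits AlgebraicGeometry TopologicalSpace
open Groth.Agent.Lib Groth.Agent.Lib.SurfInt

namespace Groth.Agent.S14313

set_option maxHeartbeats 1600000 in
/-- Let k be an algebraically closed field, S a smooth projective surface over k (integral, proper and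
smooth over k, of dimension 2), f : S → C a surjective k-morphism onto a smooth projective curve
(integral, proper and smooth over k, of dimension 1) and F = f⁻¹(p) the fibre over a closed point p,
with O_S(F) a tensor inverse of its ideal sheaf. Let D be a divisor (L = O_S(D) an invertible
module), Z_1 ≥ Z_2 ≥ ⋯ ≥ Z_n ≥ Z_{n+1} = 0 effective Cartier divisors (ideal sheaves I_1 ⊆ I_2 ⊆ ⋯ ⊆
I_{n+1} = O_S) and μ_1 > μ_2 > ⋯ > μ_n > μ_{n+1} = 0 rational numbers such that every N_i = D − Z_i
− μ_i F (1 ≤ i ≤ n + 1) is a nef ℚ-divisor: (D·Γ) − (Z_i·Γ) − μ_i (F·Γ) ≥ 0 for every integral curve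
Γ ⊆ S, where (L·Γ) = χ(O_Γ ⊗ L) − χ(O_Γ) and (Z_i·Γ) = −(I_i·Γ). Put d_i = N_i·F = (D·F) − (Z_i·F) −
μ_i (F·F). Then D² ≥ Σ_{i=1}^{n} (d_i + d_{i+1})(μ_i − μ_{i+1}); here (L·M) = χ(O_S) − χ(L) − χ(M) +
χ(L ⊗ M) for invertible L, M, packaged as FGA.intNum. (Indices run over Fin (n+1), position i
standing for i + 1.) (The published statement is for the chapter's fibration, with connected fibres,
semi-stable and relatively minimal, over an algebraically closed field of positive characteristic;
this row asks only that f be surjective and allows any algebraically closed field.) -/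
theorem result (k : Type u) [Field k] [IsAlgClosed k]
    (S : Scheme.{u}) [S.Over (Spec (CommRingCat.of k))] [IsProper (S ↘ (Spec (CommRingCat.of k)))]
    [Smooth (S ↘ (Spec (CommRingCat.of k)))] [IsIntegral S] (hdim : topologicalKrullDim S = 2)
    (C : Scheme.{u}) [C.Over (Spec (CommRingCat.of k))] [IsProper (C ↘ (Spec (CommRingCat.of k)))]
    [Smooth (C ↘ (Spec (CommRingCat.of k)))] [IsIntegral C] (hdimC : topologicalKrullDim C = 1)
    (f : S ⟶ C) [f.IsOver (Spec (CommRingCat.of k))] [Surjective f]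
    (p : C) (hp : IsClosed ({p} : Set C))
    (LF : S.Modules) (hLF : ClSub.IsInverseOf LF (ClSub.idealMod (f.fiberι p).ker))
    (L : S.Modules) (hL : PicF.IsInvertible L)
    (n : ℕ) (Z : Fin (n + 1) → S.IdealSheafData) (hZ : ∀ i, FGA.IsEffCartier (Z i))
    (hZmono : Monotone Z) (hZlast : Z (Fin.last n) = ⊤)
    (μ : Fin (n + 1) → ℚ) (hμ : StrictAnti μ) (hμlast : μ (Fin.last n) = 0)
    (hnef : ∀ (i : Fin (n + 1)) (Γ : S.IdealSheafData), IsIntegral Γ.subscheme →
      topologicalKrullDim (Γ.support : Set S) = 1 →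
      (0 : ℚ) ≤ ((Curv2.euler k S (CohB1.tensorMod (ClSub.quotMod Γ) L) - Curv2.euler k S (ClSub.quotMod Γ)) : ℚ) + ((Curv2.euler k S (CohB1.tensorMod (ClSub.quotMod Γ) (ClSub.idealMod (Z i))) - Curv2.euler k S (ClSub.quotMod Γ)) : ℚ)
        - μ i * ((Curv2.euler k S (CohB1.tensorMod (ClSub.quotMod Γ) LF) - Curv2.euler k S (ClSub.quotMod Γ)) : ℚ)) :
    (Finset.univ.sum fun i : Fin n =>
        (((FGA.intNum k S 2 ![L, LF] (Coh.structureModule S) : ℚ) + (FGA.intNum k S 2 ![ClSub.idealMod (Z i.castSucc), LF] (Coh.structureModule S) : ℚ) - μ i.castSucc * (FGA.intNum k S 2 ![LF, LF] (Coh.structureModule S) : ℚ))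
          + ((FGA.intNum k S 2 ![L, LF] (Coh.structureModule S) : ℚ) + (FGA.intNum k S 2 ![ClSub.idealMod (Z i.succ), LF] (Coh.structureModule S) : ℚ) - μ i.succ * (FGA.intNum k S 2 ![LF, LF] (Coh.structureModule S) : ℚ)))
        * (μ i.castSucc - μ i.succ)) ≤ (FGA.intNum k S 2 ![L, L] (Coh.structureModule S) : ℚ) := by
  haveI : IsNoetherian S := by
    haveI := LocallyOfFiniteType.isLocallyNoetherian (S ↘ Spec (CommRingCat.of k))
    haveI : CompactSpace S := QuasiCompact.compactSpace_of_compactSpace (S ↘ Spec (CommRingCat.of k))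
    exact ⟨⟩
  haveI : S.IsSeparated := ⟨by
    rw [← Limits.terminal.comp_from (S ↘ Spec (CommRingCat.of k))]; infer_instance⟩
  have hfin := Snapper.Finite.cohFinite k S
  have hreg := NegDef.regular_of_smooth (k := k) (X := S)
  obtain ⟨V, hV, hξ, -⟩ := exists_isAffineOpen_mem_and_subset (X := S) (x := genericPoint S)
    (Opens.mem_top _)
  obtain ⟨I, hI, -, hamp⟩ := AffineBoundary.exists_ample_boundary (k := k) hdim hreg hV hξ
  have hH := hamp _ (TensorMod.Invertible.isInvertible_dual (Effective.isInvertible_idealMod hI))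
    ⟨TensorMod.Basic.comm _ _ ≪≫ TensorMod.Invertible.tensorDualIso (Effective.isInvertible_idealMod hI)⟩
  obtain ⟨eLF⟩ := hLF
  have hLF' : PicF.IsInvertible LF := TensorMod.TensorInv.isInvertible_of_tensor_iso eLF
  have hZI := fun i => Effective.isInvertible_idealMod (hZ i)
  let B : S.Modules → S.Modules → ℚ := fun M P =>
    (FGA.intNum k S 2 ![M, P] (Coh.structureModule S) : ℚ)
  have hsymm : ∀ M P, B M P = B P M := fun M P =>
    congrArg (fun z : ℤ => (z : ℚ)) (Snapper.IntNum.intNum_pair_comm M P _)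
  -- degrees on curves
  have hcurve : ∀ (Γ : S.IdealSheafData), IsIntegral Γ.subscheme →
      topologicalKrullDim (Γ.support : Set S) = 1 → ∀ M : S.Modules, PicF.IsInvertible M →
      ((Curv2.euler k S (CohB1.tensorMod (ClSub.quotMod Γ) M) -
        Curv2.euler k S (ClSub.quotMod Γ) : ℤ) : ℚ) = - B (ClSub.idealMod Γ) M := by
    intro Γ hΓ hΓd M hM
    haveI := hΓ
    have hΓI := Effective.isInvertible_idealMod (NegDef.isEff hfin hdim hreg Γ hΓd)
    have h := Effective.intNum_ideal hfin hdim.le hΓI hM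
    rw [Snapper.Chi.euler_eq_eulerCharLE hdim.le, Snapper.Chi.euler_eq_eulerCharLE hdim.le,
      Snapper.Chi.eulerCharLE_of_iso (TensorMod.Basic.comm (ClSub.quotMod Γ) M) 2]
    simp only [B, h]
    push_cast
    ring
  -- integral representatives of the classes
  have hrep : ∀ i : Fin (n + 1), ∃ (N : S.Modules) (d : ℕ), 0 < d ∧ PicF.IsInvertible N ∧
      ∀ P : S.Modules, PicF.IsInvertible P →
        B N P = (d : ℚ) * (B L P + B (ClSub.idealMod (Z i)) P - μ i * B LF P) := by
    intro i
    have hA := TensorMod.Invertible.isInvertible_tensorMod hL (hZI i)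
    obtain ⟨N, hN, hNP⟩ := NefInt.exists_comb (k := k) hdim hA hLF' ((μ i).den : ℤ) (-(μ i).num)
    refine ⟨N, (μ i).den, (μ i).den_pos, hN, fun P hP => ?_⟩
    have h := congrArg (fun z : ℤ => (z : ℚ)) ((hNP P hP).trans (by
      rw [Snapper.IntNum.intNum_pair_tensor_left hfin hdim.le hL (hZI i) hP
        (Snapper.Twist.isCoh_structureModule S)]))
    push_cast at h
    rw [← Rat.mul_den_eq_num (μ i)] at h
    simp only [B] at h ⊢
    rw [h]
    ring
  choose N d hd hN hNP using hrep
  have hNnef : ∀ (i : Fin (n + 1)) (C : S.IdealSheafData), IsIntegral C.subscheme →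
      topologicalKrullDim (C.support : Set S) = 1 →
        FGA.intNum k S 2 ![ClSub.idealMod C, N i] (Coh.structureModule S) ≤ 0 := by
    intro i C hC hCd
    haveI := hC
    have hCI := Effective.isInvertible_idealMod (NegDef.isEff hfin hdim hreg C hCd)
    have h1 := hnef i C hC hCd
    have e1 := hcurve C hC hCd L hL
    have e2 := hcurve C hC hCd _ (hZI i)
    have e3 := hcurve C hC hCd LF hLF'
    push_cast at e1 e2 e3
    rw [e1, e2, e3] at h1
    have h2 := hNP i _ hCI
    rw [hsymm L, hsymm (ClSub.idealMod (Z i)), hsymm LF, hsymm (N i)] at h2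
    have hd' : (0 : ℚ) < (d i : ℚ) := by exact_mod_cast hd i
    have h3 : B (ClSub.idealMod C) (N i) ≤ 0 := by
      rw [h2]; exact mul_nonpos_of_nonneg_of_nonpos hd'.le (by linarith)
    simp only [B] at h3
    exact_mod_cast h3
  let q : Fin (n + 1) → ℚ := fun i =>
    B L L + B (ClSub.idealMod (Z i)) (ClSub.idealMod (Z i)) + (μ i) ^ 2 * B LF LF +
      2 * B L (ClSub.idealMod (Z i)) - 2 * μ i * B L LF - 2 * μ i * B (ClSub.idealMod (Z i)) LF
  have hq0 : 0 ≤ q 0 := by
    have h := NefInt.sq_nonneg_of_nef hdim (hN 0) hH (hNnef 0)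
    have h' : (0 : ℚ) ≤ B (N 0) (N 0) := by simp only [B]; exact_mod_cast h
    rw [hNP 0 _ (hN 0), hsymm L (N 0), hsymm (ClSub.idealMod (Z 0)) (N 0), hsymm LF (N 0),
      hNP 0 _ hL, hNP 0 _ (hZI 0), hNP 0 _ hLF'] at h'
    have hd' : (0 : ℚ) < (d 0 : ℚ) ^ 2 := by have := hd 0; positivity
    refine nonneg_of_mul_nonneg_right (a := (d 0 : ℚ) ^ 2) (le_of_le_of_eq h' ?_) hd'
    simp only [q]
    rw [hsymm (ClSub.idealMod (Z 0)) L, hsymm LF L, hsymm LF (ClSub.idealMod (Z 0))]
    ring
  have hstep : ∀ i : Fin n,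
      ((B L LF + B (ClSub.idealMod (Z i.castSucc)) LF - μ i.castSucc * B LF LF) +
        (B L LF + B (ClSub.idealMod (Z i.succ)) LF - μ i.succ * B LF LF)) *
          (μ i.castSucc - μ i.succ) ≤ q i.succ - q i.castSucc := by
    intro i
    have hle : Z i.castSucc ≤ Z i.succ := hZmono (Fin.castSucc_lt_succ).le
    obtain ⟨Y, hY⟩ : ∃ Y, Z i.succ * Y = Z i.castSucc := ⟨_, RelDiv.Diff.mul_colon (Effective.isEffCartierIdeal (hZ _)) hle⟩
    have hYc : BlowUp.IsEffCartierIdeal Y :=
      Ideal.EffCartier.isEffCartier_factor_right (hY ▸ Effective.isEffCartierIdeal (hZ _))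
    have hYI := Effective.isInvertible_idealMod hYc
    have hadd : ∀ P, PicF.IsInvertible P → B (ClSub.idealMod (Z i.castSucc)) P =
        B (ClSub.idealMod (Z i.succ)) P + B (ClSub.idealMod Y) P := fun P hP => by
      rw [← hY]
      simp only [B, NegDef.intNum_mul hfin hdim (Effective.isEffCartierIdeal (hZ _)) hYc hP]
      push_cast
      rfl
    have hpos : ∀ j, B (ClSub.idealMod Y) L + B (ClSub.idealMod Y) (ClSub.idealMod (Z j)) -
        μ j * B (ClSub.idealMod Y) LF ≤ 0 := fun j => by
      have h1 := NefInt.nonneg_effective hdim (hN j) (hNnef j) hYc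
      have h2 : B (ClSub.idealMod Y) (N j) ≤ 0 := by simp only [B]; exact_mod_cast h1
      rw [hsymm, hNP j _ hYI, hsymm L, hsymm (ClSub.idealMod (Z j)), hsymm LF] at h2
      exact nonpos_of_mul_nonpos_right h2 (by exact_mod_cast hd j)
    have h1 := hpos i.succ
    have h2 := hpos i.castSucc
    simp only [q]
    rw [hsymm L (ClSub.idealMod (Z i.castSucc)), hsymm L (ClSub.idealMod (Z i.succ))]
    rw [hsymm _ (ClSub.idealMod (Z i.castSucc)), hadd _ hYI] at h2
    rw [hsymm (ClSub.idealMod Y) (ClSub.idealMod (Z i.succ))] at h1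
    have a1 := hadd _ hL
    have a2 := hadd _ hLF'
    have a3 := hadd _ (hZI i.castSucc)
    have a4 : B (ClSub.idealMod (Z i.succ)) (ClSub.idealMod (Z i.castSucc)) =
        B (ClSub.idealMod (Z i.succ)) (ClSub.idealMod (Z i.succ)) +
          B (ClSub.idealMod (Z i.succ)) (ClSub.idealMod Y) := by
      rw [hsymm _ (ClSub.idealMod (Z i.castSucc)), hadd _ (hZI i.succ),
        hsymm (ClSub.idealMod Y) (ClSub.idealMod (Z i.succ))]
    have a5 : B (ClSub.idealMod Y) (ClSub.idealMod (Z i.castSucc)) =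
        B (ClSub.idealMod (Z i.succ)) (ClSub.idealMod Y) +
          B (ClSub.idealMod Y) (ClSub.idealMod Y) := by
      rw [hsymm _ (ClSub.idealMod (Z i.castSucc)), hadd _ hYI]
    rw [a1, a3, a4, a5, a2]
    nlinarith
  have hlast : q (Fin.last n) = B L L := by
    simp only [q, hμlast, hZlast, B]
    rw [Snapper.IntNum.intNum_pair_comm L (ClSub.idealMod (⊤ : S.IdealSheafData)),
      NegDef.intNum_top hfin hdim hL,
      NegDef.intNum_top hfin hdim (Effective.isInvertible_idealMod Ideal.EffCartier.isEffCartier_top)]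
    simp
  have hsum := Finset.sum_le_sum (s := Finset.univ) fun i (_ : i ∈ Finset.univ) => hstep i
  have htel : ∀ (m : ℕ) (g : Fin (m + 1) → ℚ),
      ∑ i : Fin m, (g i.succ - g i.castSucc) = g (Fin.last m) - g 0 := by
    intro m
    induction m with
    | zero => intro g; simp
    | succ m ih =>
      intro g
      rw [Fin.sum_univ_castSucc]
      have := ih fun i => g i.castSucc
      simp only [Fin.succ_castSucc] at this ⊢
      rw [this, Fin.castSucc_zero, Fin.succ_last]
      ring
  rw [htel n q, hlast] at hsum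
  exact le_trans hsum (by linarith)

end Groth.Agent.S14313
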