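import Groth.Statements.S14314
import Groth.Agent.Lib.FibreInt.Basic
import Groth.Agent.Lib.RelDiv.Diff
-- import your own Groth.Agent.* helpers here

set_option autoImplicit false
universe u
open CategoryTheory CategoryTheory.Limits AlgebraicGeometry TopologicalSpace
open Surf

namespace Groth.Agent.S14314

/-- Let k be an algebraically closed field, S a smooth projective surface over k (integral, proper and
smooth over k, of dimension 2), f : S → C a surjective k-morphism onto a smooth projective curve and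
F = f⁻¹(p) the fibre over a closed point p, with O_S(F) a tensor inverse of its ideal sheaf. Let
D_1, D_2 be numerically equivalent divisors (invertible modules L_1, L_2 with (L_1·Γ) = (L_2·Γ) for
every integral curve Γ ⊆ S, where (L·Γ) = χ(O_Γ ⊗ L) − χ(O_Γ)), μ_1 ≥ μ_2 rational numbers and Z_1,
Z_2 effective Cartier divisors with common part Z, that is Z_i = Z + Y_i with Z, Y_1, Y_2 effective
Cartier divisors and Y_1, Y_2 without common component (Y_1 ∩ Y_2 finite); in terms of ideal sheaves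
I_{Z_i} = I_Z · I_{Y_i}. If N_i = D_i − Z_i − μ_i F is nef for i = 1, 2, that is (D_i·Γ) +
(I_{Z_i}·Γ) − μ_i (F·Γ) ≥ 0 for every integral curve Γ, then N = D_2 − Z − μ_2 F is nef. (The
published statement is for the chapter's fibration over an algebraically closed field of positive
characteristic; this row asks only that f be surjective and allows any algebraically closed field.) -/
theorem result (k : Type u) [Field k] [IsAlgClosed k]
    (S : Scheme.{u}) [S.Over (Spec (CommRingCat.of k))] [IsProper (S ↘ (Spec (CommRingCat.of k)))]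
    [Smooth (S ↘ (Spec (CommRingCat.of k)))] [IsIntegral S] (hdim : topologicalKrullDim S = 2)
    (C : Scheme.{u}) [C.Over (Spec (CommRingCat.of k))] [IsProper (C ↘ (Spec (CommRingCat.of k)))]
    [Smooth (C ↘ (Spec (CommRingCat.of k)))] [IsIntegral C] (hdimC : topologicalKrullDim C = 1)
    (f : S ⟶ C) [f.IsOver (Spec (CommRingCat.of k))] [Surjective f]
    (p : C) (hp : IsClosed ({p} : Set C))
    (LF : S.Modules) (hLF : ClSub.IsInverseOf LF (ClSub.idealMod (f.fiberι p).ker))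
    (L₁ L₂ : S.Modules) (hL₁ : PicF.IsInvertible L₁) (hL₂ : PicF.IsInvertible L₂)
    (hnum : ∀ Γ : S.IdealSheafData, IsIntegral Γ.subscheme → topologicalKrullDim (Γ.support : Set S) = 1 →
      (Curv2.euler k S (CohB1.tensorMod (ClSub.quotMod Γ) L₁) - Curv2.euler k S (ClSub.quotMod Γ)) = (Curv2.euler k S (CohB1.tensorMod (ClSub.quotMod Γ) L₂) - Curv2.euler k S (ClSub.quotMod Γ)))
    (μ₁ μ₂ : ℚ) (hμ : μ₂ ≤ μ₁)
    (Z Y₁ Y₂ Z₁ Z₂ : S.IdealSheafData) (hZ : FGA.IsEffCartier Z) (hY₁ : FGA.IsEffCartier Y₁) (hY₂ : FGA.IsEffCartier Y₂)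
    (hZ₁ : Z₁ = Z * Y₁) (hZ₂ : Z₂ = Z * Y₂) (hY : ((Y₁ ⊔ Y₂).support : Set S).Finite)
    (hnef₁ : (∀ Γ : S.IdealSheafData, IsIntegral Γ.subscheme → topologicalKrullDim (Γ.support : Set S) = 1 →
      (0 : ℚ) ≤ ((Curv2.euler k S (CohB1.tensorMod (ClSub.quotMod Γ) L₁) - Curv2.euler k S (ClSub.quotMod Γ)) : ℚ) + ((Curv2.euler k S (CohB1.tensorMod (ClSub.quotMod Γ) (ClSub.idealMod Z₁)) - Curv2.euler k S (ClSub.quotMod Γ)) : ℚ)
        - μ₁ * ((Curv2.euler k S (CohB1.tensorMod (ClSub.quotMod Γ) LF) - Curv2.euler k S (ClSub.quotMod Γ)) : ℚ)))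
    (hnef₂ : (∀ Γ : S.IdealSheafData, IsIntegral Γ.subscheme → topologicalKrullDim (Γ.support : Set S) = 1 →
      (0 : ℚ) ≤ ((Curv2.euler k S (CohB1.tensorMod (ClSub.quotMod Γ) L₂) - Curv2.euler k S (ClSub.quotMod Γ)) : ℚ) + ((Curv2.euler k S (CohB1.tensorMod (ClSub.quotMod Γ) (ClSub.idealMod Z₂)) - Curv2.euler k S (ClSub.quotMod Γ)) : ℚ)
        - μ₂ * ((Curv2.euler k S (CohB1.tensorMod (ClSub.quotMod Γ) LF) - Curv2.euler k S (ClSub.quotMod Γ)) : ℚ))) :
    (∀ Γ : S.IdealSheafData, IsIntegral Γ.subscheme → topologicalKrullDim (Γ.support : Set S) = 1 →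
      (0 : ℚ) ≤ ((Curv2.euler k S (CohB1.tensorMod (ClSub.quotMod Γ) L₂) - Curv2.euler k S (ClSub.quotMod Γ)) : ℚ) + ((Curv2.euler k S (CohB1.tensorMod (ClSub.quotMod Γ) (ClSub.idealMod Z)) - Curv2.euler k S (ClSub.quotMod Γ)) : ℚ)
        - μ₂ * ((Curv2.euler k S (CohB1.tensorMod (ClSub.quotMod Γ) LF) - Curv2.euler k S (ClSub.quotMod Γ)) : ℚ)) := by
  intro Γ hΓ hΓd
  haveI : IsNoetherian S := by
    haveI := LocallyOfFiniteType.isLocallyNoetherian (S ↘ Spec (CommRingCat.of k))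
    haveI : CompactSpace S := QuasiCompact.compactSpace_of_compactSpace (S ↘ Spec (CommRingCat.of k))
    exact ⟨⟩
  haveI := hΓ
  have hfin := Groth.Agent.Lib.Snapper.Finite.cohFinite k S
  have hreg := Groth.Agent.Lib.SurfInt.NegDef.regular_of_smooth (k := k) (X := S)
  obtain ⟨eLF⟩ := hLF
  have hLF' : PicF.IsInvertible LF := Groth.Agent.Lib.TensorMod.TensorInv.isInvertible_of_tensor_iso eLF
  have hΓI := Groth.Agent.Lib.SurfInt.Effective.isInvertible_idealMod
    (Groth.Agent.Lib.SurfInt.NegDef.isEff hfin hdim hreg Γ hΓd)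
  have hZI := Groth.Agent.Lib.SurfInt.Effective.isInvertible_idealMod hZ
  have hcurve : ∀ M : S.Modules, PicF.IsInvertible M →
      ((Curv2.euler k S (CohB1.tensorMod (ClSub.quotMod Γ) M) -
        Curv2.euler k S (ClSub.quotMod Γ) : ℤ) : ℚ) =
        - (FGA.intNum k S 2 ![M, ClSub.idealMod Γ] (Coh.structureModule S) : ℚ) := by
    intro M hM
    have h := Groth.Agent.Lib.SurfInt.Effective.intNum_ideal hfin hdim.le hΓI hM
    rw [Groth.Agent.Lib.Snapper.IntNum.intNum_pair_comm]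
    rw [Groth.Agent.Lib.Snapper.Chi.euler_eq_eulerCharLE hdim.le, Groth.Agent.Lib.Snapper.Chi.euler_eq_eulerCharLE hdim.le,
      Groth.Agent.Lib.Snapper.Chi.eulerCharLE_of_iso (Groth.Agent.Lib.TensorMod.Basic.comm (ClSub.quotMod Γ) M) 2]
    simp only [h]
    push_cast
    ring
  have hY1e := Groth.Agent.Lib.SurfInt.Effective.isEffCartierIdeal hY₁
  have hY2e := Groth.Agent.Lib.SurfInt.Effective.isEffCartierIdeal hY₂
  have hZe := Groth.Agent.Lib.SurfInt.Effective.isEffCartierIdeal hZ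
  have m1 := Groth.Agent.Lib.SurfInt.NegDef.intNum_mul hfin hdim hZe hY1e hΓI
  have m2 := Groth.Agent.Lib.SurfInt.NegDef.intNum_mul hfin hdim hZe hY2e hΓI
  have hZ1I : PicF.IsInvertible (ClSub.idealMod (Z * Y₁)) := by
    obtain ⟨e⟩ := Groth.Agent.Lib.SurfInt.Mul.nonempty_idealMod_mul hZe Y₁
    exact Groth.Agent.Lib.TensorMod.Invertible.isInvertible_of_iso e
      (Groth.Agent.Lib.TensorMod.Invertible.isInvertible_tensorMod hZI
        (Groth.Agent.Lib.SurfInt.Effective.isInvertible_idealMod hY₁))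
  have hZ2I : PicF.IsInvertible (ClSub.idealMod (Z * Y₂)) := by
    obtain ⟨e⟩ := Groth.Agent.Lib.SurfInt.Mul.nonempty_idealMod_mul hZe Y₂
    exact Groth.Agent.Lib.TensorMod.Invertible.isInvertible_of_iso e
      (Groth.Agent.Lib.TensorMod.Invertible.isInvertible_tensorMod hZI
        (Groth.Agent.Lib.SurfInt.Effective.isInvertible_idealMod hY₂))
  have hF := Groth.Agent.Lib.FibreInt.intNum_fibre_nonpos (k := k) hdim hdimC f (Surjective.surj) p hp ⟨eLF⟩ Γ hΓd
  rw [Groth.Agent.Lib.Snapper.IntNum.intNum_pair_comm] at hF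
  have hnot : ¬ (Γ.support : Set S) ⊆ (Y₁.support : Set S) ∨ ¬ (Γ.support : Set S) ⊆ (Y₂.support : Set S) := by
    by_contra h
    push Not at h
    have hf' : (Γ.support : Set S).Finite := hY.subset fun z hz => by
      rw [Scheme.IdealSheafData.support_sup]
      exact ⟨h.1 hz, h.2 hz⟩
    have := Groth.Agent.Lib.SurfInt.Push.dim_subscheme_le_zero k Γ hf'
    rw [Groth.Agent.Lib.SurfInt.Surface.dim_subscheme Γ, hΓd] at this
    exact absurd this (by decide)
  have n1 := hnef₁ Γ hΓ hΓd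
  have n2 := hnef₂ Γ hΓ hΓd
  have hn := hnum Γ hΓ hΓd
  have eL1 := hcurve L₁ hL₁
  have eL2 := hcurve L₂ hL₂
  have eZ := hcurve _ hZI
  have eF := hcurve LF hLF'
  have e1 := hcurve _ hZ1I
  have e2 := hcurve _ hZ2I
  rw [← hZ₁] at e1 m1
  rw [← hZ₂] at e2 m2
  push_cast at eL1 eL2 eZ eF e1 e2
  have hn' : (FGA.intNum k S 2 ![L₁, ClSub.idealMod Γ] (Coh.structureModule S) : ℚ) =
      FGA.intNum k S 2 ![L₂, ClSub.idealMod Γ] (Coh.structureModule S) := by
    have : ((Curv2.euler k S (CohB1.tensorMod (ClSub.quotMod Γ) L₁) - Curv2.euler k S (ClSub.quotMod Γ) : ℤ) : ℚ) =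
      ((Curv2.euler k S (CohB1.tensorMod (ClSub.quotMod Γ) L₂) - Curv2.euler k S (ClSub.quotMod Γ) : ℤ) : ℚ) := by
      rw [hn]
    push_cast at this
    linarith
  rw [eL1, e1, eF] at n1
  rw [eL2, e2, eF] at n2
  rw [eL2, eZ, eF]
  have m1' := congrArg (fun z : ℤ => (z : ℚ)) m1
  have m2' := congrArg (fun z : ℤ => (z : ℚ)) m2
  push_cast at m1' m2'
  have hF' : (FGA.intNum k S 2 ![LF, ClSub.idealMod Γ] (Coh.structureModule S) : ℚ) ≤ 0 := by exact_mod_cast hF
  rcases hnot with h | h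
  · have q := Groth.Agent.Lib.SurfInt.Surface.intNum_nonneg hfin hdim hreg Γ hΓd hY₁ h
    rw [Groth.Agent.Lib.Snapper.IntNum.intNum_pair_comm] at q
    have q' : (0 : ℚ) ≤ FGA.intNum k S 2 ![ClSub.idealMod Y₁, ClSub.idealMod Γ] (Coh.structureModule S) := by
      exact_mod_cast q
    nlinarith
  · have q := Groth.Agent.Lib.SurfInt.Surface.intNum_nonneg hfin hdim hreg Γ hΓd hY₂ h
    rw [Groth.Agent.Lib.Snapper.IntNum.intNum_pair_comm] at q
    have q' : (0 : ℚ) ≤ FGA.intNum k S 2 ![ClSub.idealMod Y₂, ClSub.idealMod Γ] (Coh.structureModule S) := by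
      exact_mod_cast q
    linarith

end Groth.Agent.S14314
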