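import Groth.Statements.S14315
import Groth.Agent.S0220
import Groth.Agent.Lib.JacCrit.OverField
import Groth.Agent.Lib.JacCrit.SmoothNhd
import Groth.Agent.Lib.Flat55.SmoothAt
import Groth.Agent.Lib.GaGmKernel.Main
import Groth.Agent.Lib.RefHull.LocFree
import Groth.Agent.Lib.SmoothCurve.Stalk
-- import your own Groth.Agent.* helpers here

set_option autoImplicit false
set_option linter.style.haveILetI false
universe u
open CategoryTheory CategoryTheory.Limits AlgebraicGeometry TopologicalSpace
open Surf

namespace Groth.Agent.S14315

/-- Let k be an algebraically closed field, S a smooth projective surface over k (integral, proper and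
smooth over k, of dimension 2), f : S → C a surjective k-morphism onto a smooth projective curve C
(integral, proper and smooth over k, of dimension 1), and ψ : C' → C a finite k-morphism from
another smooth projective curve C' which is unramified at every point of C' lying over a point of C
whose fibre of f is not smooth. Then S ×_C C' is smooth over k. (The published statement takes ψ
separable and f the chapter's generically smooth semi-stable fibration with connected fibres over an
algebraically closed field of positive characteristic; this row assumes only f surjective and ψ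
finite, over any algebraically closed field.) -/
theorem result (k : Type u) [Field k] [IsAlgClosed k]
    (S : Scheme.{u}) [S.Over (Spec (CommRingCat.of k))] [IsProper (S ↘ (Spec (CommRingCat.of k)))]
    [Smooth (S ↘ (Spec (CommRingCat.of k)))] [IsIntegral S] (hdim : topologicalKrullDim S = 2)
    (C : Scheme.{u}) [C.Over (Spec (CommRingCat.of k))] [IsProper (C ↘ (Spec (CommRingCat.of k)))]
    [Smooth (C ↘ (Spec (CommRingCat.of k)))] [IsIntegral C] (hdimC : topologicalKrullDim C = 1)
    (f : S ⟶ C) [f.IsOver (Spec (CommRingCat.of k))] [Surjective f]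
    (C' : Scheme.{u}) [C'.Over (Spec (CommRingCat.of k))] [IsProper (C' ↘ (Spec (CommRingCat.of k)))]
    [Smooth (C' ↘ (Spec (CommRingCat.of k)))] [IsIntegral C'] (hdimC' : topologicalKrullDim C' = 1)
    (ψ : C' ⟶ C) [ψ.IsOver (Spec (CommRingCat.of k))] [IsFinite ψ]
    (hψ : ∀ c : C', ¬ Smooth (f.fiberToSpecResidueField (ψ.base c)) →
      ∃ U : C'.Opens, c ∈ U ∧ FormallyUnramified (U.ι ≫ ψ)) :
    Smooth (pullback.snd f ψ ≫ (C' ↘ (Spec (CommRingCat.of k)))) := by
  open Groth.Agent.Lib in
  set pS := S ↘ Spec (CommRingCat.of k)
  set pC := C ↘ Spec (CommRingCat.of k)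
  set pC' := C' ↘ Spec (CommRingCat.of k)
  have hf : f ≫ pC = pS := comp_over f _
  have hψ' : ψ ≫ pC = pC' := comp_over ψ _
  haveI : IsLocallyNoetherian C := LocallyOfFiniteType.isLocallyNoetherian pC
  haveI : LocallyOfFiniteType f := by
    have : LocallyOfFiniteType (f ≫ pC) := hf ▸ inferInstance
    exact locallyOfFiniteType_of_comp f pC
  haveI := Groth.Agent.Lib.JacCrit.OverField.locallyOfFinitePresentation f
  haveI := Groth.Agent.Lib.JacCrit.OverField.locallyOfFinitePresentation ψ
  -- the local rings of the base are principal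
  have hregC : ∀ c : C, IsRegularLocalRing (C.presheaf.stalk c) := fun c =>
    Groth.Agent.Lib.JacCrit.OverField.isRegularLocalRing_stalk c (f := pC)
      (by rw [Scheme.Hom.smoothLocus_eq_top]; trivial)
  have hpid : ∀ c : C, IsPrincipalIdealRing (C.presheaf.stalk c) := fun c => by
    haveI := hregC c
    refine Groth.Agent.Lib.RefHull.LocFree.isPrincipalIdealRing_of_regular _ ?_
    rw [ringKrullDim_stalk_eq_coheight]
    exact (Groth.Agent.Lib.SmoothCurve.Stalk.coheight_le_topologicalKrullDim c).trans hdimC.le
  -- `f` is flat
  have hη : f (genericPoint S) = genericPoint C := by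
    have h := (genericPoint_spec S).image f.continuous
    rw [Set.image_univ, Set.range_eq_univ.mpr f.surjective, closure_univ] at h
    exact h.eq (genericPoint_spec C)
  have hflat : ∀ x : S, (f.stalkMap x).hom.Flat := fun x => by
    haveI := hpid (f x)
    haveI : IsDedekindDomain (C.presheaf.stalk (f x)) := inferInstance
    refine Groth.Agent.Lib.GaGmKernel.flat_of_injective _ ?_
    rw [injective_iff_map_eq_zero]
    intro a ha
    have hsp : genericPoint S ⤳ x := genericPoint_specializes x
    have h1 := ConcreteCategory.congr_hom (Scheme.Hom.stalkSpecializes_stalkMap f (genericPoint S) x hsp) a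
    rw [ConcreteCategory.comp_apply, ConcreteCategory.comp_apply, ha, map_zero] at h1
    letI : Field (C.presheaf.stalk (f (genericPoint S))) :=
      ((hη ▸ Field.toIsField C.functionField : IsField (C.presheaf.stalk (f (genericPoint S))))).toField
    have h2 : C.presheaf.stalkSpecializes (hsp.map f.continuous) a = 0 :=
      (map_eq_zero (f.stalkMap (genericPoint S)).hom).mp h1
    refine (IsFractionRing.injective (C.presheaf.stalk (f x)) C.functionField) ?_
    rw [map_zero]
    have key : ∀ (c : C) (hc : c = genericPoint C) (h : c ⤳ f x),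
        C.presheaf.stalkSpecializes h a = 0 → algebraMap (C.presheaf.stalk (f x)) C.functionField a = 0 := by
      rintro c rfl h h0
      exact h0
    exact key _ hη _ h2
  -- `ψ` is flat
  haveI : Flat ψ := by
    refine Groth.Agent.S0220.result k C' C pC' pC hdimC' hdimC (fun c => ?_) ψ hψ' ?_
    · haveI := hpid c
      exact ⟨inferInstance, inferInstance⟩
    · by_contra hnc
      have hsub : (Set.range ψ.base).Subsingleton := Set.not_nontrivial_iff.mp hnc
      have hfin : Finite C' := by
        obtain ⟨x₀⟩ : Nonempty C' := inferInstance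
        have hu : (ψ.base ⁻¹' {ψ x₀}) = Set.univ :=
          Set.eq_univ_of_forall fun y => hsub ⟨y, rfl⟩ ⟨x₀, rfl⟩
        exact Set.finite_univ_iff.mp (hu ▸ ψ.finite_preimage_singleton (ψ x₀))
      haveI : JacobsonSpace C' := LocallyOfFiniteType.jacobsonSpace pC'
      haveI : DiscreteTopology C' := inferInstance
      have h0 := topologicalKrullDim_zero_of_discreteTopology C'
      rw [hdimC'] at h0
      exact absurd h0 (by norm_num)
  -- smoothness, point by point
  set P := pullback f ψ
  haveI := Groth.Agent.Lib.JacCrit.OverField.locallyOfFinitePresentation (pullback.snd f ψ ≫ pC')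
  rw [← Scheme.Hom.smoothLocus_eq_top_iff]
  refine top_le_iff.mp fun z _ => ?_
  refine (Groth.Agent.Lib.JacCrit.SmoothNhd.exists_smooth_nhd_iff _ z).mp ?_
  by_cases hfib : Smooth (f.fiberToSpecResidueField (ψ (pullback.snd f ψ z)))
  · have hz : f (pullback.fst f ψ z) = ψ (pullback.snd f ψ z) := by
      rw [← Scheme.Hom.comp_apply, pullback.condition, Scheme.Hom.comp_apply]
    obtain ⟨U, hzU, hU⟩ := (Groth.Agent.Lib.JacCrit.SmoothNhd.exists_smooth_nhd_iff f _).mpr
      (Groth.Agent.Lib.Flat55.SmoothAt.mem_smoothLocus_of_fibre f (pullback.fst f ψ z) (hflat _) _ hz hfib)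
    refine ⟨pullback.fst f ψ ⁻¹ᵁ U, hzU, ?_⟩
    have h2 : Smooth ((pullback.fst f ψ ⁻¹ᵁ U).ι ≫ pullback.snd f ψ) :=
      MorphismProperty.of_isPullback
        ((isPullback_morphismRestrict (pullback.fst f ψ) U).paste_vert
          (IsPullback.of_hasPullback f ψ)) hU
    rw [← Category.assoc]
    infer_instance
  · obtain ⟨U, hzU, hU⟩ := hψ _ hfib
    haveI := hU
    haveI : Etale (U.ι ≫ ψ) := Etale.of_formallyUnramified_of_flat _
    refine ⟨pullback.snd f ψ ⁻¹ᵁ U, hzU, ?_⟩
    have h2 : Etale ((pullback.snd f ψ ⁻¹ᵁ U).ι ≫ pullback.fst f ψ) :=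
      MorphismProperty.of_isPullback
        ((isPullback_morphismRestrict (pullback.snd f ψ) U).paste_vert
          (IsPullback.of_hasPullback f ψ).flip) inferInstance
    rw [← hψ', ← pullback.condition_assoc, hf, ← Category.assoc]
    infer_instance

end Groth.Agent.S14315
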