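import Groth.Statements.S14316
import Groth.Agent.Lib.CurveFF.KummerCover
-- import your own Groth.Agent.* helpers here

set_option autoImplicit false
set_option linter.style.haveILetI false
universe u
open CategoryTheory CategoryTheory.Limits AlgebraicGeometry TopologicalSpace
open Curves

namespace Groth.Agent.S14316

/-- Rank-one case. Let k be an algebraically closed field, C a smooth projective curve over k (integral,
proper and smooth over k, of dimension 1), E an invertible O_C-module of positive degree χ(E) −
χ(O_C) > 0, and T ⊆ C a finite set of points. Then there are a smooth projective curve C' over k and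
a finite k-morphism ψ : C' → C which is generically unramified (separable) and unramified at every
point lying over T, such that H⁰(C', ψ^*E) ≠ 0. (This is the rank-one step of the published lemma,
which is stated for locally free E of any rank and positive degree modulo a good base extension for
a fibration over C, the extension being required unramified over the images of the singular fibres;
here that finite set is an arbitrary finite set T. The steps for higher rank are not restated. The
published statement works over an algebraically closed field of positive characteristic; this row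
allows any algebraically closed field.) -/
theorem result (k : Type u) [Field k] [IsAlgClosed k]
    (C : Scheme.{u}) [C.Over (Spec (CommRingCat.of k))] [IsProper (C ↘ (Spec (CommRingCat.of k)))]
    [Smooth (C ↘ (Spec (CommRingCat.of k)))] [IsIntegral C] (hdimC : topologicalKrullDim C = 1)
    (E : C.Modules) (hE : PicF.IsInvertible E) (hdeg : 0 < Curv2.deg k C E 1)
    (T : Set C) (hT : T.Finite) :
    ∃ (C' : Scheme.{u}) (_ : C'.Over (Spec (CommRingCat.of k))) (ψ : C' ⟶ C),
      IsProper (C' ↘ (Spec (CommRingCat.of k))) ∧ Smooth (C' ↘ (Spec (CommRingCat.of k))) ∧ IsIntegral C' ∧ topologicalKrullDim C' = 1 ∧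
      ψ.IsOver (Spec (CommRingCat.of k)) ∧ IsFinite ψ ∧
      (∃ U : C'.Opens, (U : Set C').Nonempty ∧ FormallyUnramified (U.ι ≫ ψ)) ∧
      (∀ c : C', ψ.base c ∈ T → ∃ U : C'.Opens, c ∈ U ∧ FormallyUnramified (U.ι ≫ ψ)) ∧
      Nontrivial (Coh.HH C' ((Scheme.Modules.pullback ψ).obj E) 0) := by
  classical
  have h := Groth.Agent.Lib.CurveFF.curveHyp_of_smooth (k := k) (X := C) hdimC
  have hK := Groth.Agent.Lib.CurveFF.isFunctionField (k := k) h
    (Groth.Agent.Lib.Curves.GlobalSections.finrank_h0_structure k C)
  haveI := Groth.Agent.Lib.Curves.GlobalSections.noetherianSpace_of_proper k C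
  obtain ⟨P, -, hP⟩ := IsClosed.exists_closed_singleton (X := C) isClosed_univ Set.univ_nonempty
  have hPne : P ≠ genericPoint C :=
    Groth.Agent.Lib.SmoothCurve.Stalk.ne_genericPoint_of_isClosed (by rw [hdimC]; exact one_ne_zero) hP
  obtain ⟨C', ψ, hfin, hsurj, hint, hdim', hsm, hT', s, hs⟩ :=
    Groth.Agent.Lib.CurveFF.KummerCover.exists_cover h hK E hE hdeg (insert P (T \ {genericPoint C}))
      ((hT.sdiff).insert P) (by
        rintro t (rfl | ht)
        · exact hPne
        · exact ht.2)
  haveI := hfin
  haveI := hint
  obtain ⟨c₁, hc₁⟩ := hsurj P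
  obtain ⟨U, hcU, hU⟩ := hT' c₁ (by rw [hc₁]; exact Set.mem_insert P _)
  letI : C'.Over (Spec (CommRingCat.of k)) := ⟨ψ ≫ (C ↘ Spec (CommRingCat.of k))⟩
  refine ⟨C', ⟨ψ ≫ (C ↘ Spec (CommRingCat.of k))⟩, ψ,
    (inferInstance : IsProper (ψ ≫ (C ↘ Spec (CommRingCat.of k)))), hsm, hint, hdim', ⟨rfl⟩, hfin,
    ⟨U, ⟨c₁, hcU⟩, hU⟩, fun c hc => ?_, ?_⟩
  · by_cases hcη : ψ.base c = genericPoint C
    · refine ⟨U, ?_, hU⟩
      obtain ⟨y, hy⟩ := hsurj (genericPoint C)
      have hgen : ψ (genericPoint C') = genericPoint C := by
        refine (Specializes.antisymm ?_ (genericPoint_specializes _)).eq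
        rw [← hy]
        exact (genericPoint_specializes y).map ψ.continuous
      rw [← Groth.Agent.Lib.SchTopo.Basic.isIntegralHom_eq_of_specializes ψ (genericPoint_specializes c) (hgen.trans hcη.symm)]
      exact (genericPoint_specializes c₁).mem_open U.2 hcU
    · exact hT' c (Set.mem_insert_of_mem P ⟨hc, hcη⟩)
  · exact ⟨_, 0, fun e => hs (((Groth.Agent.Lib.Curves.GlobalSections.h0Equiv
      ((Scheme.Modules.pullback ψ).obj E)).symm.injective (e.trans (map_zero _).symm)))⟩

end Groth.Agent.S14316
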