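import Groth.Statements.S1432
import Mathlib.AlgebraicGeometry.Morphisms.ClosedImmersion
import Mathlib.AlgebraicGeometry.Morphisms.FlatDescent
import Mathlib.AlgebraicGeometry.Morphisms.Separated

set_option autoImplicit false
universe u
open FlatMor

namespace Groth.Agent.S1432

set_option backward.isDefEq.respectTransparency.types false in
open AlgebraicGeometry CategoryTheory Limits in
/-- For a quasi-compact morphism f : X → Y, being a closed immersion is equivalent to the following
lifting property: for each injective ring map A → B and each commutative square with Spec B → X on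
top and Spec A → Y at the bottom there is a lift Spec A → X making both triangles commute. -/
theorem result {X Y : Scheme.{u}} (f : X ⟶ Y) [QuasiCompact f] :
    IsClosedImmersion f ↔ ∀ (A B : Type u) [CommRing A] [CommRing B] (φ : A →+* B), Function.Injective φ →
      ∀ (a : Spec (CommRingCat.of B) ⟶ X) (b : Spec (CommRingCat.of A) ⟶ Y), Spec.map (CommRingCat.ofHom φ) ≫ b = a ≫ f →
        ∃ l : Spec (CommRingCat.of A) ⟶ X, Spec.map (CommRingCat.ofHom φ) ≫ l = a ∧ l ≫ f = b := by
  constructor
  · intro hf A B _ _ φ hφ a b hab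
    have : IsClosedImmersion (pullback.snd f b) := inferInstance
    let l := pullback.lift a (Spec.map (CommRingCat.ofHom φ)) hab.symm
    have : IsIso (pullback.snd f b) := by
      have : IsAffine (pullback f b) :=
        (IsClosedImmersion.isAffine_surjective_of_isAffine (pullback.snd f b)).1
      refine IsClosedImmersion.isIso_of_injective_of_isAffine ?_
      have h : Function.Injective (Spec.map (CommRingCat.ofHom φ)).appTop := by
        intro x y hxy
        have := congr((Scheme.ΓSpecIso (.of B)).hom $hxy)
        rw [← CommRingCat.comp_apply, ← CommRingCat.comp_apply (Spec.map (CommRingCat.ofHom φ)).appTop,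
          Scheme.ΓSpecIso_naturality] at this
        exact (ConcreteCategory.bijective_of_isIso (Scheme.ΓSpecIso (.of A)).hom).1 (hφ this)
      intro x y hxy
      apply h
      rw [← pullback.lift_snd a (Spec.map (CommRingCat.ofHom φ)) hab.symm, Scheme.Hom.comp_appTop,
        CommRingCat.comp_apply, CommRingCat.comp_apply, hxy]
    refine ⟨inv (pullback.snd f b) ≫ pullback.fst f b, ?_, by
      rw [Category.assoc, pullback.condition, IsIso.inv_hom_id_assoc]⟩
    have hl : Spec.map (CommRingCat.ofHom φ) ≫ inv (pullback.snd f b) = l := by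
      rw [IsIso.comp_inv_eq, pullback.lift_snd]
    rw [← Category.assoc, hl, pullback.lift_fst]
  · intro H
    rw [IsZariskiLocalAtTarget.iff_of_iSup_eq_top (P := @IsClosedImmersion)
      (fun V : Y.affineOpens => (V : Y.Opens)) (iSup_affineOpens_eq_top Y)]
    rintro ⟨V, hV⟩
    have : IsAffine V.toScheme := hV
    have H' : ∀ (A B : Type u) [CommRing A] [CommRing B] (φ : A →+* B), Function.Injective φ →
        ∀ (a : Spec (.of B) ⟶ (f ⁻¹ᵁ V).toScheme) (b : Spec (.of A) ⟶ V.toScheme),
          Spec.map (CommRingCat.ofHom φ) ≫ b = a ≫ (f ∣_ V) →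
          ∃ l, Spec.map (CommRingCat.ofHom φ) ≫ l = a ∧ l ≫ (f ∣_ V) = b := by
      intro A B _ _ φ hφ a b hab
      obtain ⟨l, h1, h2⟩ := H A B φ hφ (a ≫ (f ⁻¹ᵁ V).ι) (b ≫ V.ι) (by
        rw [← Category.assoc, hab, Category.assoc, Category.assoc, morphismRestrict_ι])
      have hr : Set.range l ⊆ Set.range (f ⁻¹ᵁ V).ι := by
        rintro _ ⟨z, rfl⟩
        rw [Scheme.Opens.range_ι]
        show f (l z) ∈ V
        rw [← Scheme.Hom.comp_apply, h2]
        exact (b z).2
      refine ⟨IsOpenImmersion.lift _ l hr, ?_, ?_⟩
      · rw [← cancel_mono (f ⁻¹ᵁ V).ι, Category.assoc, IsOpenImmersion.lift_fac, h1]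
      · rw [← cancel_mono V.ι, Category.assoc, morphismRestrict_ι, IsOpenImmersion.lift_fac_assoc,
          h2]
    let g := f ∣_ V
    show IsClosedImmersion g
    have : CompactSpace (f ⁻¹ᵁ V).toScheme := QuasiCompact.compactSpace_of_compactSpace g
    let 𝒰 := (f ⁻¹ᵁ V).toScheme.affineCover.finiteSubcover
    let W := ∐ 𝒰.X
    have : IsAffine W := inferInstance
    let w : W ⟶ (f ⁻¹ᵁ V).toScheme := Limits.Sigma.desc 𝒰.f
    have hws : Function.Surjective w := by
      intro z
      obtain ⟨i, y, hy⟩ := 𝒰.exists_eq z
      refine ⟨(Limits.Sigma.ι 𝒰.X i) y, ?_⟩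
      rw [← Scheme.Hom.comp_apply]
      simpa [w] using hy
    have : Flat w := IsZariskiLocalAtSource.sigmaDesc (P := @Flat) fun i => inferInstance
    let R := Γ(V.toScheme, ⊤)
    let B := Γ(W, ⊤)
    let ψ : R →+* B := (w ≫ g).appTop.hom
    let A := ψ.range
    let b₀ : Spec (.of A) ⟶ V.toScheme :=
      Spec.map (CommRingCat.ofHom ψ.rangeRestrict) ≫ V.toScheme.isoSpec.inv
    have hb₀ : IsClosedImmersion b₀ := by
      have : IsClosedImmersion (Spec.map (CommRingCat.ofHom ψ.rangeRestrict)) :=
        IsClosedImmersion.spec_of_surjective _ ψ.rangeRestrict_surjective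
      infer_instance
    let a₀ : Spec (.of B) ⟶ (f ⁻¹ᵁ V).toScheme := W.isoSpec.inv ≫ w
    obtain ⟨l, hl₁, hl₂⟩ := H' A B A.subtype Subtype.val_injective a₀ b₀ (by
      simp only [a₀, b₀, ← Spec.map_comp_assoc, Category.assoc]
      have : CommRingCat.ofHom ψ.rangeRestrict ≫ CommRingCat.ofHom A.subtype = (w ≫ g).appTop := by
        ext x; rfl
      rw [this]
      exact Scheme.isoSpec_inv_naturality (w ≫ g))
    have hls : Function.Surjective l := by
      have h3 : Function.Surjective a₀ :=
        hws.comp (Scheme.Hom.homeomorph W.isoSpec.inv).surjective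
      intro z
      obtain ⟨y, hy⟩ := h3 z
      exact ⟨Spec.map (CommRingCat.ofHom A.subtype) y, by rw [← Scheme.Hom.comp_apply, hl₁, hy]⟩
    have hge : Topology.IsClosedEmbedding g := by
      have hb : Topology.IsClosedEmbedding (l ≫ g) := by rw [hl₂]; exact b₀.isClosedEmbedding
      have hli : Function.Injective l := fun p q e =>
        hb.injective (by rw [Scheme.Hom.comp_apply, Scheme.Hom.comp_apply, e])
      have hlo : IsHomeomorph l := by
        refine ⟨l.continuous, fun O hO => ?_, hli, hls⟩
        obtain ⟨O', hO', rfl⟩ := hb.isInducing.isOpen_iff.mp hO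
        have : l '' ((l ≫ g) ⁻¹' O') = g ⁻¹' O' := by
          rw [Scheme.Hom.comp_base, TopCat.coe_comp, Set.preimage_comp,
            Set.image_preimage_eq _ hls]
        rw [this]
        exact hO'.preimage g.continuous
      have : (g : _ → _) = (l ≫ g) ∘ hlo.homeomorph.symm := by
        ext z
        conv_lhs => rw [← hlo.homeomorph.apply_symm_apply z]
        rfl
      rw [this]
      exact hb.comp hlo.homeomorph.symm.isClosedEmbedding
    have : IsAffineHom g := isAffineHom_of_isInducing g hge.isInducing hge.isClosed_range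
    have : IsAffine (f ⁻¹ᵁ V).toScheme := isAffine_of_isAffineHom g
    have : IsClosedImmersion (l ≫ g) := by rw [hl₂]; exact hb₀
    have : IsClosedImmersion l := IsClosedImmersion.of_comp l g
    have : IsIso l := by
      refine IsClosedImmersion.isIso_of_injective_of_isAffine ?_
      have hff : Function.Injective a₀.appTop := by
        have : Surjective a₀ := ⟨hws.comp (Scheme.Hom.homeomorph W.isoSpec.inv).surjective⟩
        have : Flat a₀ := inferInstance
        exact ((Flat.flat_and_surjective_iff_faithfullyFlat_of_isAffine a₀).mp ⟨this, ‹_›⟩).injective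
      intro x y hxy
      apply hff
      rw [← hl₁, Scheme.Hom.comp_appTop, CommRingCat.comp_apply, CommRingCat.comp_apply, hxy]
    rw [show g = inv l ≫ b₀ by rw [← hl₂, IsIso.inv_hom_id_assoc]]
    infer_instance

end Groth.Agent.S1432
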