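import Groth.Statements.S14330
import Groth.Agent.S6039
import Groth.Agent.S5091
import Groth.Agent.S3844
import Groth.Agent.Lib.FEt.DepthTwo
import Groth.Agent.Lib.TensorMod.Gen
import Groth.Agent.H34.UFDExt.Gen
import Groth.Agent.Lib.Ample.GG

set_option autoImplicit false
universe u
open CategoryTheory CategoryTheory.Limits AlgebraicGeometry Opposite
open GrpSch

namespace Groth.Agent.S14330

/-- Let S be a locally Noetherian scheme, f : A → S a smooth morphism, L an invertible O_A-module and V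
an open subscheme of S; for an open W of S consider the restriction of sections of L from f⁻¹(W) to
f⁻¹(W) ∩ f⁻¹(V), that is the component over W of the natural map f_*L → j_*j^*(f_*L), j : V → S the
inclusion. If V is schematically dense in S, all these restrictions are injective. If V is a big
open of S, meaning that the local ring of S at every point outside V has depth at least 2, all these
restrictions are bijective. (The published statement is for a semi-stable group scheme A; its proof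
uses only the smoothness of A over S and the local freeness of L, which are the hypotheses kept
here.) -/
theorem result {S A : Scheme.{u}} [IsLocallyNoetherian S]
    (f : A ⟶ S) [Smooth f] (L : A.Modules) (hL : PicF.IsInvertible L) (V : S.Opens) :
    (CInt.IsSchematicallyDense V →
      ∀ W : S.Opens, Function.Injective (L.val.map (homOfLE (inf_le_left : f ⁻¹ᵁ W ⊓ f ⁻¹ᵁ V ≤ f ⁻¹ᵁ W)).op)) ∧
    ((∀ x : S, x ∉ V → 2 ≤ LocCoh.depth (S.presheaf.stalk x) (S.presheaf.stalk x)) →
      ∀ W : S.Opens, Function.Bijective (L.val.map (homOfLE (inf_le_left : f ⁻¹ᵁ W ⊓ f ⁻¹ᵁ V ≤ f ⁻¹ᵁ W)).op)) := by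
  have : IsLocallyNoetherian A := LocallyOfFiniteType.isLocallyNoetherian f
  have hcoh : Coh.IsCoh L := Lib.Ample.GG.isCoh_of_isInvertible hL
  have heq : ∀ a : A, LocCoh.depth (A.presheaf.stalk a) (L.presheaf.stalk a) =
      LocCoh.depth (A.presheaf.stalk a) (A.presheaf.stalk a) := fun a => by
    obtain ⟨U, e, hx, he⟩ := Lib.TensorMod.Gen.isInvertible_iff.1 hL a
    exact Lib.Depth.Basic.idealDepth_congr _ (LinearEquiv.ofBijective
      (LinearMap.toSpanSingleton _ _ (L.presheaf.germ U a hx e))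
      (H34.UFDExt.Gen.IsGen.stalk_bijective (M := L) (fun W h => he W h) hx)).symm
  constructor
  · intro hV W
    have h1 : ∀ a : A, a ∉ (f ⁻¹ᵁ V : Set A) →
        ((1 : ℕ) : ℕ∞) ≤ LocCoh.depth (A.presheaf.stalk a) (L.presheaf.stalk a) := fun a ha => by
      rw [heq]
      exact_mod_cast (S5091.result A (f ⁻¹ᵁ V)).1 (S3844.result f V hV) a ha
    have h2 := ((H30.LocZ.DepthStalk.isZero_HZsh_below_iff (f ⁻¹ᵁ V) hcoh 1).2 h1)
    have h3 := ((S6020.result (X := A.carrier) (Coh.toAb L) (f ⁻¹ᵁ V) 0).1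
      (fun i hi => h2 i (by omega)) (f ⁻¹ᵁ W)).2
    let e := fun O : TopologicalSpace.Opens A.carrier => Lib.Koszul.Stable.Supp.e0 (Coh.toAb L) O
    intro x y hxy
    obtain ⟨x', rfl⟩ := (e (f ⁻¹ᵁ W)).surjective x
    obtain ⟨y', rfl⟩ := (e (f ⁻¹ᵁ W)).surjective y
    refine congrArg _ (h3 ((e (f ⁻¹ᵁ W ⊓ f ⁻¹ᵁ V)).injective ?_))
    exact (Lib.Koszul.Stable.Supp.e0_pre (Coh.toAb L) (inf_le_left : f ⁻¹ᵁ W ⊓ f ⁻¹ᵁ V ≤ f ⁻¹ᵁ W) x').trans
      (hxy.trans (Lib.Koszul.Stable.Supp.e0_pre (Coh.toAb L) (inf_le_left : f ⁻¹ᵁ W ⊓ f ⁻¹ᵁ V ≤ f ⁻¹ᵁ W) y').symm)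
  · intro hd W
    exact (S6039.result A (f ⁻¹ᵁ V) L hcoh).1
      (fun a ha => (heq a).symm ▸ Lib.FEt.DepthTwo.two_le_depth_of_flat f a (hd _ ha)) (f ⁻¹ᵁ W)

end Groth.Agent.S14330
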