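import Groth.Statements.S14332
import Groth.Agent.Lib.ProjCI.Ident
import Groth.Agent.Lib.ZarCoh.Morph

set_option autoImplicit false
universe u
open CategoryTheory CategoryTheory.Limits AlgebraicGeometry
open Coherent

namespace Groth.Agent.S14332

/-- Let k be a field, r ≤ n, and G_1, …, G_r homogeneous forms of positive degrees in the homogeneous
coordinates of P = P^n_k whose common zero scheme X = V(G_1, …, G_r), with its closed immersion ι :
X → P, has dimension n − r, so that X is a global complete intersection in P. Then H^p(X, ι^*O(i))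
vanishes for every integer i and every p with 0 < p < n − r. -/
theorem result (k : Type u) [Field k] (n r : ℕ) (hr : r ≤ n) (a : Fin r → ℕ) (ha : ∀ j, 1 ≤ a j) (G : ∀ j : Fin r, LefPen.Form n k (a j)) (hdim : topologicalKrullDim ↥(LefPen.ciIdeal G).subscheme = ((n - r : ℕ) : WithBot ℕ∞)) (i : ℤ) (p : ℕ) (hp : 0 < p) (hpn : p < n - r) : Subsingleton (Coh.HH (LefPen.ciIdeal G).subscheme ((Scheme.Modules.pullback (LefPen.ciIdeal G).subschemeι).obj (Twist.twistProjSpace n k i)) p) := by
  let ι := (LefPen.ciIdeal G).subschemeι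
  haveI : IsLocallyNoetherian (LefPen.ciIdeal G).subscheme := LocallyOfFiniteType.isLocallyNoetherian ι
  haveI : ((Scheme.Modules.pullback ι).obj (Twist.twistProjSpace n k i)).IsQuasicoherent :=
    (Groth.Agent.Lib.Cyc.FP.Stalk.isCoh_pullback ι (Groth.Agent.Lib.ProjCoh.Coherent.isCoh_tw i)).1
  obtain ⟨e, -⟩ := Groth.Agent.Lib.ProjCI.Ident.exists_iso (Groth.Agent.Lib.ProjCI.Cone.reg_of_dim ha hr hdim.le) i
  haveI := Groth.Agent.Lib.ProjCI.Cohom.subsingleton_full (Groth.Agent.Lib.ProjCI.Cone.reg_of_dim ha hr hdim.le) i p hp hpn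
  haveI := (Groth.Agent.Lib.Curves.LES.isoK k e p).injective.subsingleton
  exact (Groth.Agent.Lib.ZarCoh.Morph.affineEquiv ι
    ((Scheme.Modules.pullback ι).obj (Twist.twistProjSpace n k i)) p).symm.injective.subsingleton

end Groth.Agent.S14332
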