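import Groth.Statements.S14333
import Groth.Agent.Lib.ProjCI.Ident
import Groth.Agent.Lib.Curves.GlobalSections

set_option autoImplicit false
universe u
open CategoryTheory CategoryTheory.Limits AlgebraicGeometry Opposite
open Coherent

namespace Groth.Agent.S14333

/-- Let k be a field, r ≤ n, and G_1, …, G_r homogeneous forms of positive degrees in the homogeneous
coordinates of P = P^n_k whose common zero scheme X = V(G_1, …, G_r), with its closed immersion ι :
X → P, has dimension n − r, so that X is a global complete intersection in P. Assume n − r ≥ 1. Then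
for every integer i the restriction map H^0(P, O(i)) → H^0(X, ι^*O(i)) is surjective; it is written
here as the map on global sections of the unit O(i) → ι_*ι^*O(i) of the adjunction between ι^* and
ι_*, whose target is the module of global sections of ι^*O(i). -/
theorem result (k : Type u) [Field k] (n r : ℕ) (hr : r ≤ n) (a : Fin r → ℕ) (ha : ∀ j, 1 ≤ a j) (G : ∀ j : Fin r, LefPen.Form n k (a j)) (hdim : topologicalKrullDim ↥(LefPen.ciIdeal G).subscheme = ((n - r : ℕ) : WithBot ℕ∞)) (h1 : 1 ≤ n - r) (i : ℤ) : Function.Surjective (((Scheme.Modules.pullbackPushforwardAdjunction (LefPen.ciIdeal G).subschemeι).unit.app (Twist.twistProjSpace n k i)).val.app (op ⊤)) := by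
  obtain ⟨e, he⟩ := Groth.Agent.Lib.ProjCI.Ident.exists_iso (Groth.Agent.Lib.ProjCI.Cone.reg_of_dim ha hr hdim.le) i
  let u := (Scheme.Modules.pullbackPushforwardAdjunction (LefPen.ciIdeal G).subschemeι).unit.app (Twist.twistProjSpace n k i)
  have hπ : Function.Surjective (Groth.Agent.Lib.Curves.LES.mapK k (Groth.Agent.Lib.ProjCI.Ident.π (Groth.Agent.Lib.ProjCI.Cone.full G) i) 0) := by
    unfold Groth.Agent.Lib.ProjCI.Ident.π
    rw [Groth.Agent.Lib.Curves.LES.mapK_comp, Groth.Agent.Lib.Curves.LES.mapK_comp, LinearMap.coe_comp, LinearMap.coe_comp]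
    exact ((Groth.Agent.Lib.ProjCI.Cohom.surjective_full (Groth.Agent.Lib.ProjCI.Cone.reg_of_dim ha hr hdim.le) h1 i).comp
      (Groth.Agent.Lib.Curves.LES.isoK k (Groth.Agent.Lib.ProjCI.Tilde.botIso (k := k) (n := n) i) 0).surjective).comp
      (Groth.Agent.Lib.Curves.LES.isoK k (Groth.Agent.Lib.ProjCoh.Coherent.twIso (n := n) (R := k) i) 0).surjective
  rw [← he, Groth.Agent.Lib.Curves.LES.mapK_comp, LinearMap.coe_comp] at hπ
  have hu : Function.Surjective (Groth.Agent.Lib.Curves.LES.mapK k u 0) := fun y => by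
    obtain ⟨x, hx⟩ := hπ (Groth.Agent.Lib.Curves.LES.mapK k e.hom 0 y)
    exact ⟨x, (Groth.Agent.Lib.Curves.LES.isoK k e 0).injective hx⟩
  intro y
  obtain ⟨y', rfl⟩ := (Groth.Agent.Lib.Curves.GlobalSections.h0Equiv _).surjective y
  obtain ⟨x, rfl⟩ := hu y'
  exact ⟨Groth.Agent.Lib.Curves.GlobalSections.h0Equiv _ x,
    Sheaf.H.equiv₀_naturality (f := Groth.Agent.Lib.Curves.LES.toAbMap u) (isTerminalTop (α := TopologicalSpace.Opens _)) x⟩

end Groth.Agent.S14333
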