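import Groth.Statements.S14334
import Groth.Agent.Lib.ProjCI.Struct
import Groth.Agent.H34.ZarConn.Main

set_option autoImplicit false
universe u
open CategoryTheory CategoryTheory.Limits AlgebraicGeometry
open Coherent

namespace Groth.Agent.S14334

/-- Let k be a field, r ≤ n, and G_1, …, G_r homogeneous forms of positive degrees in the homogeneous
coordinates of P = P^n_k whose common zero scheme X = V(G_1, …, G_r), with its closed immersion ι :
X → P, has dimension n − r, so that X is a global complete intersection in P. Assume n − r ≥ 1. Then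
X is geometrically connected over k: for every field K and every morphism Spec K → Spec k, the base
change X ×_{Spec k} Spec K is a connected (in particular nonempty) topological space; in particular
X itself is connected. The structure morphism of X is written as ι followed by the structure
morphism of P. -/
theorem result (k : Type u) [Field k] (n r : ℕ) (hr : r ≤ n) (a : Fin r → ℕ) (ha : ∀ j, 1 ≤ a j) (G : ∀ j : Fin r, LefPen.Form n k (a j)) (hdim : topologicalKrullDim ↥(LefPen.ciIdeal G).subscheme = ((n - r : ℕ) : WithBot ℕ∞)) (h1 : 1 ≤ n - r) : GeometricallyConnected ((LefPen.ciIdeal G).subschemeι ≫ CohB1.ProjSpace.toSpec n k) := by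
  let f := (LefPen.ciIdeal G).subschemeι ≫ CohB1.ProjSpace.toSpec n k
  haveI : IsProper (CohB1.ProjSpace.toSpec n k) := Groth.Agent.Lib.ProjSpace.Basic.isProper_toSpec n k
  haveI : IsProper f := inferInstanceAs (IsProper (_ ≫ _))
  haveI : IsLocallyNoetherian (Spec (CommRingCat.of k)) := inferInstance
  have hne : Nonempty (LefPen.ciIdeal G).subscheme := by
    by_contra h
    rw [not_nonempty_iff] at h
    haveI : IsEmpty (TopologicalSpace.IrreducibleCloseds ↥(LefPen.ciIdeal G).subscheme) :=
      ⟨fun Z => h.elim Z.isIrreducible'.nonempty.choose⟩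
    rw [topologicalKrullDim, Order.krullDim_eq_bot] at hdim
    simp at hdim
  refine Groth.Agent.H34.ZarConn.geometricallyConnected f fun U => ?_
  rw [ConcreteCategory.isIso_iff_bijective]
  by_cases hU : U = ⊤
  · subst hU
    refine ⟨?_, Groth.Agent.Lib.ProjCI.Struct.surjective_appTop
      (Groth.Agent.Lib.ProjCI.Cone.reg_of_dim ha hr hdim.le) h1⟩
    haveI := hne
    haveI : Nontrivial Γ((LefPen.ciIdeal G).subscheme, ⊤) := @Scheme.component_nontrivial _ ⊤ ⟨⟨hne.some, trivial⟩⟩
    have hb := ConcreteCategory.bijective_of_isIso (Scheme.ΓSpecIso (CommRingCat.of k)).inv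
    refine (Function.Injective.of_comp_iff' f.appTop hb).1 ?_
    exact RingHom.injective ((Scheme.ΓSpecIso (CommRingCat.of k)).inv ≫ f.appTop).hom
  · have hb : U = ⊥ := by
      refine TopologicalSpace.Opens.ext (Set.eq_empty_iff_forall_notMem.2 fun x hx => hU ?_)
      refine TopologicalSpace.Opens.ext (Set.eq_univ_of_forall fun y => ?_)
      haveI : Subsingleton (Spec (CommRingCat.of k)) := inferInstanceAs (Subsingleton (PrimeSpectrum k))
      rw [Subsingleton.elim y x]
      exact hx
    subst hb
    haveI : Subsingleton Γ(Spec (CommRingCat.of k), ⊥) :=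
      CommRingCat.subsingleton_of_isTerminal (TopCat.Sheaf.isTerminalOfEmpty (Spec (CommRingCat.of k)).sheaf)
    haveI : Subsingleton Γ((LefPen.ciIdeal G).subscheme, f ⁻¹ᵁ ⊥) := by
      rw [show f ⁻¹ᵁ (⊥ : (Spec (CommRingCat.of k)).Opens) = ⊥ from rfl]
      exact CommRingCat.subsingleton_of_isTerminal (TopCat.Sheaf.isTerminalOfEmpty (LefPen.ciIdeal G).subscheme.sheaf)
    exact ⟨Function.injective_of_subsingleton _, Function.surjective_to_subsingleton _⟩

end Groth.Agent.S14334
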