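import Groth.Statements.S14335
import Groth.Agent.Lib.ProjCI.Cone

set_option autoImplicit false
universe u
open CategoryTheory CategoryTheory.Limits AlgebraicGeometry
open Coherent

namespace Groth.Agent.S14335

/-- Let k be a field, r ≤ n, and G_1, …, G_r homogeneous forms of positive degrees in the homogeneous
coordinates of P = P^n_k whose common zero scheme X = V(G_1, …, G_r), with its closed immersion ι :
X → P, has dimension n − r, so that X is a global complete intersection in P. Then X is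
equidimensional: every irreducible component of X, with the subspace topology, has dimension exactly
n − r. -/
theorem result (k : Type u) [Field k] (n r : ℕ) (hr : r ≤ n) (a : Fin r → ℕ) (ha : ∀ j, 1 ≤ a j) (G : ∀ j : Fin r, LefPen.Form n k (a j)) (hdim : topologicalKrullDim ↥(LefPen.ciIdeal G).subscheme = ((n - r : ℕ) : WithBot ℕ∞)) (Z : Set ↥(LefPen.ciIdeal G).subscheme) (hZ : Z ∈ irreducibleComponents ↥(LefPen.ciIdeal G).subscheme) : topologicalKrullDim ↥Z = ((n - r : ℕ) : WithBot ℕ∞) := by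
  classical
  let h := (LefPen.ciIdeal G).subschemeι.isClosedEmbedding.isEmbedding.toHomeomorph.trans
    (Homeomorph.setCongr (((LefPen.ciIdeal G).range_subschemeι).trans (Groth.Agent.Lib.ProjCI.Cone.support_eq G)))
  have hC : h '' Z ∈ irreducibleComponents ↥(Groth.Agent.Lib.ProjCI.Cone.zeros G) := by
    refine ⟨hZ.1.image _ h.continuous.continuousOn, fun W hW hle => ?_⟩
    have hW' : IsIrreducible (h.symm '' W) := hW.image _ h.symm.continuous.continuousOn
    have h2 : h.symm '' W ⊆ Z := hZ.2 hW' (fun z hz => ⟨h z, hle ⟨z, hz, rfl⟩, h.symm_apply_apply z⟩)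
    intro w hw
    exact ⟨h.symm w, h2 ⟨w, hw, rfl⟩, h.apply_symm_apply w⟩
  obtain ⟨x, hx, hmin, -, hdimx⟩ :=
    Groth.Agent.Lib.ProjDim.Topology.component (Groth.Agent.Lib.ProjCI.Cone.isClosed_zeros G) hC
  have hZdim : topologicalKrullDim ↥Z = (Groth.Agent.Lib.ProjDim.Topology.dp x : WithBot ℕ∞) := by
    rw [← hdimx]
    exact (h.image Z).isHomeomorph.topologicalKrullDim_eq _
  rw [hZdim]
  have h1 : Groth.Agent.Lib.ProjDim.Topology.dp x ≤ n - r := Groth.Agent.Lib.ProjCI.Cone.dp_le hdim.le hx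
  let x0 := Groth.Agent.Lib.ProjDim.Topology.mkPt (k := k) (n := n) ⊥ Ideal.isPrime_bot
    (Ideal.IsHomogeneous.bot _) (by rw [Groth.Agent.Lib.ProjDim.Graded.dimQ_bot_poly]; omega)
  have hidl : Groth.Agent.Lib.ProjDim.Topology.idl x0 = ⊥ :=
    Groth.Agent.Lib.ProjDim.Topology.idl_mkPt _ _ _ (by rw [Groth.Agent.Lib.ProjDim.Graded.dimQ_bot_poly]; omega)
  let F : Finset (MvPolynomial (Fin (n + 1)) k) := Finset.univ.image fun l => (G l).1
  have hmem : ∀ y, y ∈ ProjectiveSpectrum.zeroLocus (CohB1.polyGrading n k) (F : Set (MvPolynomial (Fin (n + 1)) k)) ↔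
      y ∈ Groth.Agent.Lib.ProjCI.Cone.zeros G := fun y => by
    refine ⟨fun hy l => hy (Finset.mem_coe.2 (Finset.mem_image.2 ⟨l, Finset.mem_univ _, rfl⟩)), fun hy f hf => ?_⟩
    obtain ⟨l, -, rfl⟩ := Finset.mem_image.1 (Finset.mem_coe.1 hf)
    exact hy l
  have h2 := Groth.Agent.Lib.ProjDim.Cut.dp_le_add_card (x := x0) (y := x) F
    (fun f hf => by
      obtain ⟨l, -, rfl⟩ := Finset.mem_image.1 hf
      exact ⟨a l, Groth.Agent.Lib.ProjCI.Cone.form_isHomogeneous _⟩)
    ⟨Groth.Agent.Lib.ProjDim.Topology.specializes_iff.2 (hidl ▸ bot_le), (hmem x).2 hx⟩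
    (fun z _ hz hzx => hmin z ((hmem z).1 hz) hzx)
  have h3 : F.card ≤ r := Finset.card_image_le.trans (by simp)
  have h4 : Groth.Agent.Lib.ProjDim.Topology.dp x0 + 1 = n + 1 := by
    rw [Groth.Agent.Lib.ProjDim.Topology.dp_add_one, hidl, Groth.Agent.Lib.ProjDim.Graded.dimQ_bot_poly]
  exact_mod_cast (show Groth.Agent.Lib.ProjDim.Topology.dp x = n - r by omega)

end Groth.Agent.S14335
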