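import Groth.Statements.S14338
import Groth.Agent.S14337
import Groth.Agent.Lib.FlatCx.Rank

set_option autoImplicit false
universe u
open CAlg

open Groth.Agent.Lib.FlatCx.Rank

namespace Groth.Agent.S14338

/-- Let B be a Noetherian ring, K and K' finitely generated flat B-modules and φ : K → K' a B-linear
map; for a prime y of B write κ(y) for its residue field and φ_y for the base change κ(y) ⊗ K → κ(y)
⊗ K'. Assume B is reduced and the number dim_{κ(y)} Im(φ_y) is the same for all primes y of B. Then
the cokernel K'/Im φ and the image Im φ are projective (locally free) B-modules. -/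
theorem result (B : Type u) [CommRing B] [IsNoetherianRing B] (K K' : Type u) [AddCommGroup K] [Module B K] [Module.Finite B K] [Module.Flat B K] [AddCommGroup K'] [Module B K'] [Module.Finite B K'] [Module.Flat B K'] (φ : K →ₗ[B] K') [IsReduced B] (hconst : ∃ c : ℕ, ∀ y : PrimeSpectrum B, Module.finrank y.asIdeal.ResidueField ↥(LinearMap.range (φ.baseChange y.asIdeal.ResidueField)) = c) : Module.Projective B (K' ⧸ LinearMap.range φ) ∧ Module.Projective B ↥(LinearMap.range φ) := by
  classical
  haveI : Module.FinitePresentation B K' := Module.finitePresentation_of_finite B K'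
  haveI : Module.Flat B (K' ⧸ LinearMap.range φ) := by
    obtain ⟨c, hc⟩ := hconst
    refine flat_of_fdim_eq_of_le _ fun x y hxy => ?_
    have hadd : ∀ z : PrimeSpectrum B, fdim (K' ⧸ LinearMap.range φ) z + c = fdim K' z := by
      intro z
      let k := z.asIdeal.ResidueField
      let q := (LinearMap.range φ).mkQ.baseChange k
      have hq : Function.Surjective q := (LinearMap.range φ).mkQ.lTensor_surjective k (Submodule.mkQ_surjective _)
      have hex : Function.Exact (φ.baseChange k) q :=
        lTensor_exact k (LinearMap.exact_map_mkQ_range φ) (Submodule.mkQ_surjective _)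
      have h1 := q.finrank_range_add_finrank_ker
      rw [LinearMap.range_eq_top.2 hq, finrank_top, LinearMap.exact_iff.1 hex, hc z] at h1
      exact h1
    have hK : fdim K' x = fdim K' y :=
      ((isLocallyConstant_fdim K').eventually_eq y).filter_mono
        ((PrimeSpectrum.le_iff_specializes x y).1 hxy) |>.self_of_nhds
    have := hadd x
    have := hadd y
    omega
  haveI : Module.FinitePresentation B (K' ⧸ LinearMap.range φ) := Module.finitePresentation_of_finite B _
  have hc : Module.Projective B (K' ⧸ LinearMap.range φ) := Module.Flat.projective_of_finitePresentation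
  exact ⟨hc, (Groth.Agent.S14337.result B K K' φ hc).1⟩

end Groth.Agent.S14338
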