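import Groth.Statements.S14339
import Groth.Agent.Lib.PlaneCurve.NotHyper
import Groth.Agent.Lib.CurveFF.DoubleInvol
import Groth.Agent.Lib.CurveFF.DoublePowers
import Groth.Agent.Lib.CurveFF.Hyp
-- import your own Groth.Agent.* helpers here

set_option autoImplicit false
universe u
open CategoryTheory CategoryTheory.Limits AlgebraicGeometry
open Curves

namespace Groth.Agent.S14339
open Groth.Agent.Lib
attribute [local instance] Curv2.stalkAlgebra

/-- Let k be a field, d ≥ 4, and f a nonzero homogeneous form of degree d in the homogeneous coordinates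
of P^2_k whose plane curve X = V_+(f) is smooth over k. Then X is not hyperelliptic: there is no
morphism φ : X → P^1_k over k which is finite and flat of constant rank 2 (a double cover of the
projective line). -/
theorem result (k : Type u) [Field k] (d : ℕ) (hd : 4 ≤ d) (f : LefPen.Form 2 k d) (hf : f ≠ 0) [Smooth ((LefPen.hypIdeal f).subschemeι ≫ CohB1.ProjSpace.toSpec 2 k)] : ¬ ∃ φ : (LefPen.hypIdeal f).subscheme ⟶ CohB1.ProjSpace 1 k, φ ≫ CohB1.ProjSpace.toSpec 1 k = (LefPen.hypIdeal f).subschemeι ≫ CohB1.ProjSpace.toSpec 2 k ∧ IsFinite φ ∧ Flat φ ∧ ∀ y : ↥(CohB1.ProjSpace 1 k), Scheme.Hom.finrank φ y = 2 := by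
  rintro ⟨φ, hφ, hfin, hflat, hrk⟩
  haveI := hfin
  haveI := hflat
  letI : (PlaneCurve.crv f).Over (Spec (CommRingCat.of k)) :=
    ⟨PlaneCurve.emb f ≫ CohB1.ProjSpace.toSpec 2 k⟩
  haveI := PlaneCurve.isIntegral f (by omega) hf
  haveI : Smooth (PlaneCurve.crv f ↘ Spec (CommRingCat.of k)) :=
    inferInstanceAs (Smooth (PlaneCurve.emb f ≫ CohB1.ProjSpace.toSpec 2 k))
  haveI : IsProper (PlaneCurve.crv f ↘ Spec (CommRingCat.of k)) :=
    inferInstanceAs (IsProper (PlaneCurve.emb f ≫ CohB1.ProjSpace.toSpec 2 k))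
  haveI : IsLocallyNoetherian (CohB1.ProjSpace 1 k) :=
    LocallyOfFiniteType.isLocallyNoetherian (CohB1.ProjSpace.toSpec 1 k)
  haveI : LocallyOfFinitePresentation φ := inferInstance
  have hdim : topologicalKrullDim (PlaneCurve.crv f) = 1 := by
    rw [PlaneCurve.dim_eq_of_cover φ (fun y => by rw [hrk]; norm_num),
      ProjSpace.Dim.topologicalKrullDim_projSpace 1 k, ringKrullDim_eq_zero_of_field]
    simp
  have h := CurveFF.curveHyp_of_smooth k hdim
  have h0 := PlaneCurve.finrank_h0 f rfl (by omega) hf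
  have hK := CurveFF.isFunctionField (k := k) h h0
  have hx := CurveFF.DoubleInvol.finrank_coord φ hφ hdim hrk
  have hxt := Groth.Agent.H81.DoubleCover.transcendental_of_finrank hK hx
  set x := CurveFF.DoubleCover.coord φ 0
    (CurveFF.DoubleCover.generic_mem φ (CurveFF.DoubleCover.generic_eq φ hdim) 0)
  have hg : 1 ≤ _root_.FunFld.genus k (PlaneCurve.crv f).functionField := by
    have hinv : PicF.IsInvertible (Twist.twistProjSpace 2 k 1) :=
      ProjTilde.Invertible.twist_isInvertible_of_cover (fun y => by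
        obtain ⟨c, hc⟩ := ProjMor.Main.cover (ProjMor.Poly.lin_mem 2 k) (ProjMor.Poly.adjoin_lin 2 k) y
        exact ⟨c, c.2, hc⟩) 1
    obtain ⟨R⟩ := CurveFF.LineDiv.nonempty_rep (PicLoc.isInvertible_pullback (PlaneCurve.emb f) hinv)
    obtain ⟨-, -, hgen⟩ := PlaneCurve.numerics f rfl (by omega) hf R h hK
    have hd' : (4 : ℤ) ≤ d := by exact_mod_cast hd
    have : (1 : ℤ) ≤ _root_.FunFld.genus k (PlaneCurve.crv f).functionField := by nlinarith
    exact_mod_cast this
  obtain ⟨m, hm⟩ : ∃ m, _root_.FunFld.genus k (PlaneCurve.crv f).functionField = m + 1 :=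
    ⟨_, (Nat.sub_add_cancel hg).symm⟩
  have htop := PlaneCurve.eq_top_of_canonical f rfl hd hf h hK
    (W₀ := (m : ℤ) • FunFld.Degree.poleDiv (k := k) x)
    (by rw [FunFld.Degree.deg_smul, FunFld.Degree.deg_poleDiv hK hxt, hx, hm]; push_cast; ring)
    (by rw [CurveFF.DoublePowers.ell_smul_poleDiv hK hxt hx (r := m) (by omega), hm])
    (E := IntermediateField.adjoin k ({x} : Set (PlaneCurve.crv f).functionField))
    (fun y hy => CurveFF.DoublePowers.mem_adjoin hK hxt hx (r := m) (by omega) hy)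
  rw [htop, IntermediateField.finrank_top] at hx
  omega

end Groth.Agent.S14339
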