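import Groth.Statements.S1434
-- import your own Groth.Agent.* helpers here

set_option autoImplicit false
universe u
open FlatMor

namespace Groth.Agent.S1434

open AlgebraicGeometry CategoryTheory Limits in
/-- Part (1), for a closed subscheme: let Z ⊂ X be the closed subscheme cut out by an ideal sheaf I and
Z' the one cut out by I², its first order infinitesimal neighbourhood. Given a first order
thickening T → T', a morphism a : T → Z and a morphism b : T' → X compatible with them, there is a
unique morphism T' → Z' through which b factors (compatibility with a is then automatic). -/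
theorem result {X T T' : Scheme.{u}} (I : X.IdealSheafData) (t : T ⟶ T') (ht : MoreMor.IsFirstOrderThickening t)
    (a : T ⟶ I.subscheme) (b : T' ⟶ X) (w : a ≫ I.subschemeι = t ≫ b) :
    ∃! a' : T' ⟶ (I ^ 2).subscheme, a' ≫ (I ^ 2).subschemeι = b := by
  have hk : I ^ 2 ≤ b.ker := by
    have := ht.1.1
    refine Scheme.IdealSheafData.le_ofIdeals_iff.mpr fun U => ?_
    rw [pow_two, Scheme.IdealSheafData.ideal_mul, Pi.mul_apply, Ideal.mul_le]
    have key : ∀ x ∈ I.ideal U, t.app (b ⁻¹ᵁ U) (b.app U x) = 0 := by
      intro x hx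
      have h2 : I ≤ (t ≫ b).ker := by
        rw [← w]
        exact (I.ker_subschemeι).symm.le.trans (a.le_ker_comp I.subschemeι)
      exact (t ≫ b).ideal_ker_le U (h2 U hx)
    intro x hx y hy
    rw [RingHom.mem_ker, map_mul]
    refine TopCat.Sheaf.eq_of_locally_eq' T'.sheaf
      (fun W : {W : T'.affineOpens // (W : T'.Opens) ≤ b ⁻¹ᵁ U} => W.1.1) _ (fun W => homOfLE W.2) ?_ _ _ ?_
    · intro p hp
      obtain ⟨_, ⟨W, hW, rfl⟩, hpW, hle⟩ :=
        T'.isBasis_affineOpens.exists_subset_of_mem_open hp (b ⁻¹ᵁ U).isOpen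
      exact TopologicalSpace.Opens.mem_iSup.mpr ⟨⟨⟨W, hW⟩, hle⟩, hpW⟩
    · rintro ⟨W, hW⟩
      show T'.presheaf.map (homOfLE hW).op (b.app U x * b.app U y) = T'.presheaf.map (homOfLE hW).op 0
      rw [map_zero, map_mul]
      have hsq : RingHom.ker (t.app W).hom * RingHom.ker (t.app W).hom = ⊥ := by
        have := congr(($(ht.2)).ideal W)
        simpa using this
      have hmem : ∀ z ∈ I.ideal U, T'.presheaf.map (homOfLE hW).op (b.app U z) ∈
          RingHom.ker (t.app W).hom := by
        intro z hz
        rw [RingHom.mem_ker, ← CommRingCat.comp_apply, t.naturality, CommRingCat.comp_apply,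
          key z hz, map_zero]
      have h3 := Ideal.mul_mem_mul (hmem x hx) (hmem y hy)
      rw [hsq] at h3
      exact Ideal.mem_bot.mp h3
  refine ⟨IsClosedImmersion.lift (I ^ 2).subschemeι b (by simpa using hk), IsClosedImmersion.lift_fac _ _ _, ?_⟩
  intro y hy
  rw [← cancel_mono (I ^ 2).subschemeι, hy, IsClosedImmersion.lift_fac]

end Groth.Agent.S1434
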