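import Groth.Statements.S14340
import Groth.Agent.Lib.CurveFF.TwistDiv
import Groth.Agent.Lib.CurveFF.DoublePowers
import Groth.Agent.Lib.CurveFF.DoubleInvol
import Groth.Agent.Lib.CurveFF.Consts
import Groth.Agent.Lib.CurveFF.LineTensor
import Groth.Agent.Lib.CurveFF.Hyp
import Groth.Agent.Lib.CurveBundle.SmoothField
-- import your own Groth.Agent.* helpers here

set_option autoImplicit false
universe u
open CategoryTheory CategoryTheory.Limits AlgebraicGeometry
open Curves

namespace Groth.Agent.S14340
open Groth.Agent.Lib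
attribute [local instance] Curv2.stalkAlgebra

/-- Let k be a field and C a smooth proper geometrically connected curve over k (of dimension one) of
genus g = dim_k H^1(C, O_C) ≥ 2 which is hyperelliptic: there is a morphism f : C → P^1_k over k,
finite and flat of constant rank 2; let L = f^*O(1) be its g^1_2. Then for every r with 0 ≤ r ≤ g −
1 the k-vector space H^0(C, L^{⊗r}) has dimension r + 1. (The published statement asserts that the
pullback of sections H^0(P^1_k, O(r)) → H^0(C, L^{⊗r}) is an isomorphism and takes C projective;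
this row states the equivalent dimension count, that map being injective for the dominant f with
source of dimension r + 1, and takes C proper, which for curves over a field is the same.) -/
theorem result (k : Type u) [Field k] (C : Scheme.{u}) [C.Over (Spec (CommRingCat.of k))] [IsProper (C ↘ Spec (CommRingCat.of k))] [Smooth (C ↘ Spec (CommRingCat.of k))] [GeometricallyConnected (C ↘ Spec (CommRingCat.of k))] (hC : topologicalKrullDim C = 1) (g : ℕ) (hg2 : 2 ≤ g) (hg : Curv2.genus k C = g) (f : C ⟶ CohB1.ProjSpace 1 k) (hf : f ≫ CohB1.ProjSpace.toSpec 1 k = C ↘ Spec (CommRingCat.of k)) [IsFinite f] [Flat f] (hrk : ∀ y : ↥(CohB1.ProjSpace 1 k), Scheme.Hom.finrank f y = 2) (r : ℕ) (hr : r + 1 ≤ g) : Module.finrank k (Coh.HH C (CohB1.tensorPow ((Scheme.Modules.pullback f).obj (Twist.twistProjSpace 1 k 1)) r) 0) = r + 1 := by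
  have : Nonempty (Spec (CommRingCat.of k)) := inferInstanceAs (Nonempty (PrimeSpectrum k))
  have : Subsingleton (Spec (CommRingCat.of k)) := inferInstanceAs (Subsingleton (PrimeSpectrum k))
  have : ConnectedSpace C := GeometricallyConnected.connectedSpace_of_subsingleton (C ↘ Spec (CommRingCat.of k))
  haveI : IsIntegral C := CurveBundle.SmoothField.isIntegral k hC.le
  have h := CurveFF.curveHyp_of_smooth k hC
  have h0 := CurveFF.finrank_h0_eq_one k C
  have hK := CurveFF.isFunctionField (k := k) h h0
  rw [CurveFF.genus_eq h h0] at hg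
  have hη := CurveFF.DoubleCover.generic_eq f hC
  have hx := CurveFF.DoubleInvol.finrank_coord f hf hC hrk
  have hxt := Groth.Agent.H81.DoubleCover.transcendental_of_finrank hK hx
  have hinv : PicF.IsInvertible (Twist.twistProjSpace 1 k 1) :=
    ProjTilde.Invertible.twist_isInvertible_of_cover (fun y => by
      obtain ⟨c, hc⟩ := ProjMor.Main.cover (ProjMor.Poly.lin_mem 1 k) (ProjMor.Poly.adjoin_lin 1 k) y
      exact ⟨c, c.2, hc⟩) 1
  obtain ⟨R⟩ := CurveFF.LineDiv.nonempty_rep (PicLoc.isInvertible_pullback f hinv)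
  obtain ⟨a, ha, hR⟩ := CurveFF.TwistDiv.exists_pullback_div h hK f hη R
  let T := CurveFF.LineDiv.trivRep (PicLoc.isInvertible_structureModule C)
  have hT : T.div (k := k) h hK = 0 := by
    ext Q
    obtain ⟨y, rfl⟩ := CurveFF.placeOf_surjective (k := k) h Q
    rw [CurveFF.LineDiv.Rep.div_placeOf, CurveFF.LineDiv.trivRep_e]
    rfl
  have hpow : ∀ m : ℕ, ∃ U : CurveFF.LineDiv.Rep
      (CohB1.tensorPow ((Scheme.Modules.pullback f).obj (Twist.twistProjSpace 1 k 1)) m),
      U.div h hK = (m : ℤ) • R.div h hK := by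
    intro m
    induction m with
    | zero =>
      exact ⟨T, hT.trans (by rw [Nat.cast_zero, zero_smul])⟩
    | succ m ih =>
      obtain ⟨U, hU⟩ := ih
      exact ⟨U.mul R, (U.div_mul h hK R).trans (by rw [hU, Nat.cast_succ, add_smul, one_smul])⟩
  obtain ⟨U, hU⟩ := hpow r
  rw [U.finrank_h0 h hK, hU, hR, smul_add]
  have hpw : (r : ℤ) • _root_.FunFld.div k a = _root_.FunFld.div k (a ^ r) := by
    ext Q
    rw [Finsupp.smul_apply, FunFld.Degree.div_apply hK, FunFld.Degree.div_apply hK,
      FunFld.Place.ord_pow, smul_eq_mul]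
  rw [hpw, FunFld.Riemann.ell_add_div hK _ (pow_ne_zero _ ha)]
  exact CurveFF.DoublePowers.ell_smul_poleDiv hK hxt hx (by omega)

end Groth.Agent.S14340
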