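import Groth.Statements.S14341
import Groth.Agent.Lib.CurveFF.IdealInv
import Groth.Agent.Lib.CurveFF.Consts
import Groth.Agent.Lib.FunFld.SmallGenus
-- import your own Groth.Agent.* helpers here

set_option autoImplicit false
universe u
open CategoryTheory CategoryTheory.Limits AlgebraicGeometry
open Curves

namespace Groth.Agent.S14341
open Groth.Agent.Lib
attribute [local instance] Curv2.stalkAlgebra Curv2.resAlgebra

/-- Let k be a field and X a smooth proper geometrically connected curve over k (of dimension one) of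
genus dim_k H^1(X, O_X) = 1, with a k-rational point O (a closed point with residue field k); for a
k-rational point P write I_P for the ideal sheaf of the reduced point P, an invertible ideal with
inverse O_X(P). Then for every invertible O_X-module L of degree 0 there is exactly one k-rational
point P with L ⊗ I_P ≅ I_O, that is L ≅ O_X(P − O): the map P ↦ O_X(P − O) is a bijection from X(k)
onto the isomorphism classes of invertible modules of degree zero. -/
theorem result (k : Type u) [Field k] (X : Scheme.{u}) [X.Over (Spec (CommRingCat.of k))] [IsProper (X ↘ Spec (CommRingCat.of k))] [Smooth (X ↘ Spec (CommRingCat.of k))] [GeometricallyConnected (X ↘ Spec (CommRingCat.of k))] (hX : topologicalKrullDim X = 1) (hg : Curv2.genus k X = 1) (O : X) (hOc : IsClosed ({O} : Set X)) (hO : Function.Bijective (Curv2.resMap k X O)) (L : X.Modules) (hL : PicF.IsInvertible L) (hdeg : Curv2.deg k X L 1 = 0) : ∃! P : {x : X // IsClosed ({x} : Set X) ∧ Function.Bijective (Curv2.resMap k X x)}, Nonempty (CohB1.tensorMod L (ClSub.idealMod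 (Scheme.IdealSheafData.vanishingIdeal ⟨{P.1}, P.2.1⟩)) ≅ ClSub.idealMod (Scheme.IdealSheafData.vanishingIdeal ⟨{O}, hOc⟩)) := by
  have : Nonempty (Spec (CommRingCat.of k)) := inferInstanceAs (Nonempty (PrimeSpectrum k))
  have : Subsingleton (Spec (CommRingCat.of k)) := inferInstanceAs (Subsingleton (PrimeSpectrum k))
  have : ConnectedSpace X := GeometricallyConnected.connectedSpace_of_subsingleton (X ↘ Spec (CommRingCat.of k))
  have : IsIntegral X := CurveBundle.SmoothField.isIntegral k hX.le
  have h := CurveFF.curveHyp_of_smooth k hX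
  have h0 := CurveFF.finrank_h0_eq_one k X
  have hK := CurveFF.isFunctionField (k := k) h h0
  have hg1 : _root_.FunFld.genus k X.functionField = 1 := (CurveFF.genus_eq h h0).symm.trans hg
  have hrat : ∀ x : CurveFF.CPt X, (CurveFF.placeOf k h x).deg = 1 ↔
      Function.Bijective (Curv2.resMap k X x.1) := fun x => by
    rw [CurveFF.deg_placeOf]
    letI := Curv2.resAlgebra k X x.1
    constructor
    · intro h1
      have : (⊥ : Subalgebra k (X.residueField x.1)) = ⊤ := Subalgebra.bot_eq_top_of_finrank_eq_one h1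
      exact ⟨(Curv2.resMap k X x.1).injective, fun y => Algebra.mem_bot.1 (this ▸ Algebra.mem_top)⟩
    · intro hb
      exact ((LinearEquiv.ofBijective (Algebra.linearMap k (X.residueField x.1)) hb).finrank_eq).symm.trans
        (Module.finrank_self k)
  let o : CurveFF.CPt X := ⟨O, hOc⟩
  have ho : (CurveFF.placeOf k h o).deg = 1 := (hrat o).2 hO
  obtain ⟨R⟩ := CurveFF.LineDiv.nonempty_rep hL
  obtain ⟨IO, hIO⟩ := CurveFF.IdealInv.exists_rep_point h hK o
  let D := R.div h hK + Finsupp.single (CurveFF.placeOf k h o) 1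
  have hDd : D.deg = 1 := by
    rw [FunFld.Degree.deg_add, ← R.deg_eq, hdeg, FunFld.Degree.deg_single, ho]; rfl
  have hDl := FunFld.Weil.ell_eq_of_deg_ge hK (D := D) (by rw [hg1, hDd]; norm_num)
  rw [hg1, hDd] at hDl
  obtain ⟨T, f, hf, hT⟩ := FunFld.SmallGenus.exists_place_of_deg_one hK (E := D) (by omega) hDd
  have hTd : T.deg = 1 := by
    rw [hT, FunFld.Degree.deg_add, FunFld.Degree.deg_single, FunFld.Degree.deg_div hK, one_mul,
      add_zero] at hDd
    exact_mod_cast hDd
  obtain ⟨t, rfl⟩ := CurveFF.placeOf_surjective (k := k) h T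
  obtain ⟨IT, hIT⟩ := CurveFF.IdealInv.exists_rep_point h hK t
  refine ⟨⟨t.1, t.2, (hrat t).1 hTd⟩, ?_, ?_⟩
  · refine CurveFF.LineDiv.nonempty_iso_of_div h hK (R.mul IT) IO hf ?_
    rw [R.div_mul, hIT, hIO]
    have hR : R.div h hK = D - Finsupp.single (CurveFF.placeOf k h o) 1 := (add_sub_cancel_right _ _).symm
    rw [hR, hT]
    abel
  · rintro ⟨P, hPc, hPb⟩ ⟨e⟩
    obtain ⟨IP, hIP⟩ := CurveFF.IdealInv.exists_rep_point h hK ⟨P, hPc⟩
    have hPd := (hrat ⟨P, hPc⟩).2 hPb
    let Q := CurveFF.placeOf k h ⟨P, hPc⟩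
    have hl : _root_.FunFld.ell ((R.mul IP).div h hK - IO.div h hK) = 1 ∧
        ((R.mul IP).div h hK - IO.div h hK).deg = 0 := by
      have hIOinv := IO.inv
      obtain ⟨A, hA, ⟨eA⟩⟩ := TensorMod.Invertible.exists_inverse IO.inv
      obtain ⟨S⟩ := CurveFF.LineDiv.nonempty_rep hA
      obtain ⟨a, ha, hS⟩ := CurveFF.LineDiv.exists_div_inverse h hK h0 IO S ⟨eA⟩
      let U := (R.mul IP).mul S
      have hU : U.div h hK = (R.mul IP).div h hK - IO.div h hK + _root_.FunFld.div k a := by
        rw [CurveFF.LineDiv.Rep.div_mul, hS]; abel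
      let i := TensorMod.Basic.tensorIso e (Iso.refl A) ≪≫ eA
      refine ⟨?_, ?_⟩
      · rw [← FunFld.Riemann.ell_add_div hK _ ha, ← hU, ← U.finrank_h0 h hK, ← h0]
        exact Curves.Euler.hdim_eq_of_iso (k := k) i 0
      · have hdu := U.deg_eq h hK
        rw [Curves.Euler.deg_eq_of_iso i, Curves.Degree.deg_structureModule, hU,
          FunFld.Degree.deg_add, FunFld.Degree.deg_div hK, add_zero] at hdu
        exact hdu.symm
    obtain ⟨b, hb, hbe⟩ := FunFld.SmallGenus.exists_div_of_deg_zero hK
      (E := (R.mul IP).div h hK - IO.div h hK) (by rw [hl.1]; exact one_pos) hl.2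
    have he : (Finsupp.single Q 1 : _root_.FunFld.Divisor k X.functionField) =
        Finsupp.single (CurveFF.placeOf k h t) 1 + _root_.FunFld.div k (f * b⁻¹) := by
      rw [R.div_mul, hIP, hIO] at hbe
      rw [FunFld.Degree.div_mul hK hf (inv_ne_zero hb), FunFld.Degree.div_inv hK, ← hbe]
      have hR : R.div h hK = D - Finsupp.single (CurveFF.placeOf k h o) 1 := (add_sub_cancel_right _ _).symm
      rw [hR, hT]
      abel
    have heq := FunFld.SmallGenus.eq_of_ell_le_one hK
      (FunFld.Rational.ell_single_one_eq_one hK (by omega) hTd).le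
      (Finsupp.single_nonneg.2 zero_le_one) (Finsupp.single_nonneg.2 zero_le_one)
      (mul_ne_zero hf (inv_ne_zero hb)) he
    have hQ := CurveFF.placeOf_injective (k := k) h (Finsupp.single_left_injective one_ne_zero heq)
    exact Subtype.ext (show P = t.1 from congrArg Subtype.val hQ)

end Groth.Agent.S14341
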