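import Groth.Statements.S14345
import Groth.Agent.H25.FittingLoc
import Mathlib.RingTheory.Grassmannian
-- import your own Groth.Agent.* helpers here

set_option autoImplicit false
universe u v
open TensorProduct
open QuotLF

namespace Groth.Agent.S14345

/-- Let R be a commutative ring, M a finitely generated R-module and k ≥ 0. If for an R-algebra A the
module A ⊗_R M admits a quotient that is finite projective of constant rank k (an A-valued point of
the Quot scheme of rank-k locally free quotients of M), then every Fitting ideal Fit_j(M) with j < k
extends to the zero ideal of A; that is, the structure map of the Quot scheme of rank-k locally free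
quotients factors through the closed subscheme cut out by Fit_{k-1}(M). -/
theorem result (R : Type u) [CommRing R]
    (M : Type v) [AddCommGroup M] [Module R M] [Module.Finite R M] (k : ℕ)
    (A : Type u) [CommRing A] [Algebra R A] (N : Module.Grassmannian A (A ⊗[R] M) k)
    (j : ℕ) (hj : j < k) :
    (Fitt.ideal R M j).map (algebraMap R A) = ⊥ := by
  open Groth.Agent.H25.Fitting in
  rw [← ideal_baseChange A j, eq_bot_iff]
  refine le_trans (ideal_le_of_surjective N.toSubmodule.mkQ N.toSubmodule.mkQ_surjective j) fun d hd => ?_
  let J : Ideal A := LinearMap.ker (LinearMap.toSpanSingleton A A d)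
  rw [Ideal.mem_bot]
  suffices J = ⊤ by
    have h1 : (1 : A) ∈ J := this ▸ Submodule.mem_top
    simpa [J] using h1
  by_contra hne
  obtain ⟨p, hp, hle⟩ := Ideal.exists_le_maximal _ hne
  have hrank : Module.finrank (Localization.AtPrime p)
      (LocalizedModule p.primeCompl ((A ⊗[R] M) ⧸ N.toSubmodule)) = k := N.rankAtStalk_eq ⟨p, hp.isPrime⟩
  have : Module.Finite (Localization.AtPrime p) (LocalizedModule p.primeCompl ((A ⊗[R] M) ⧸ N.toSubmodule)) :=
    Module.Finite.of_isLocalizedModule p.primeCompl (LocalizedModule.mkLinearMap p.primeCompl _)
  have : Module.Free (Localization.AtPrime p) (LocalizedModule p.primeCompl ((A ⊗[R] M) ⧸ N.toSubmodule)) :=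
    Module.free_of_flat_of_isLocalRing
  obtain ⟨s, hs, hsd⟩ := exists_mul_eq_zero_of_free (M := (A ⊗[R] M) ⧸ N.toSubmodule) p.primeCompl
    (k := j) (hrank.symm ▸ hj) hd
  exact hs (hle (show s ∈ J by simpa [J] using hsd))

end Groth.Agent.S14345
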