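import Groth.Statements.S14346
import Mathlib.RingTheory.Spectrum.Prime.FreeLocus
import Mathlib.RingTheory.Grassmannian
-- import your own Groth.Agent.* helpers here

set_option autoImplicit false
universe u v
open TensorProduct
open QuotLF

namespace Groth.Agent.S14346

/-- Let R be a commutative ring, M an R-module, k ≥ 0, and A an R-algebra for which A ⊗_R M is finite
projective of constant rank k, i.e. Spec A → Spec R factors through the locally closed stratum where
M is locally free of rank k. Then A ⊗_R M has exactly one rank-k locally free quotient: the zero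
submodule has finite projective quotient of constant rank k, and every submodule with such a
quotient is zero. In other words the Quot scheme of rank-k locally free quotients of M restricted to
that stratum maps isomorphically onto it. -/
theorem result (R : Type u) [CommRing R]
    (M : Type v) [AddCommGroup M] [Module R M] (k : ℕ)
    (A : Type u) [CommRing A] [Algebra R A] [Module.Finite A (A ⊗[R] M)] [Module.Projective A (A ⊗[R] M)]
    (hk : ∀ p : PrimeSpectrum A, Module.rankAtStalk (R := A) (A ⊗[R] M) p = k) :
    (∃ N : Module.Grassmannian A (A ⊗[R] M) k, N.toSubmodule = ⊥) ∧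
      ∀ N : Module.Grassmannian A (A ⊗[R] M) k, N.toSubmodule = ⊥ := by
  refine ⟨⟨⟨⊥, Module.Finite.equiv (Submodule.quotEquivOfEqBot ⊥ rfl).symm,
      Module.Projective.of_equiv (Submodule.quotEquivOfEqBot ⊥ rfl).symm,
      fun p => by rw [Module.rankAtStalk_eq_of_equiv (Submodule.quotEquivOfEqBot ⊥ rfl)]; exact hk p⟩, rfl⟩,
    fun N => ?_⟩
  obtain ⟨K, hKf, hKp, hKr⟩ := N
  show K = ⊥
  obtain ⟨s, hs⟩ := Module.projective_lifting_property K.mkQ LinearMap.id K.mkQ_surjective
  have hs' : ∀ y, K.mkQ (s y) = y := fun y => LinearMap.congr_fun hs y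
  let e : (↥K × ((A ⊗[R] M) ⧸ K)) ≃ₗ[A] (A ⊗[R] M) :=
    LinearEquiv.ofBijective (K.subtype.coprod s) ⟨by
      rintro ⟨⟨a, ha⟩, b⟩ ⟨⟨a', ha'⟩, b'⟩ h
      simp only [LinearMap.coprod_apply, Submodule.subtype_apply] at h
      have hb : b = b' := by
        have := congrArg K.mkQ h
        rwa [map_add, map_add, hs', hs', Submodule.mkQ_apply, Submodule.mkQ_apply,
          (Submodule.Quotient.mk_eq_zero K).mpr ha, (Submodule.Quotient.mk_eq_zero K).mpr ha', zero_add, zero_add] at this
      subst hb
      exact Prod.ext (Subtype.ext (add_right_cancel h)) rfl, fun x => ⟨(⟨x - s (K.mkQ x), by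
        rw [← Submodule.Quotient.mk_eq_zero, ← Submodule.mkQ_apply, map_sub, hs', sub_self]⟩, K.mkQ x), by simp⟩⟩
  have hK1 : Module.Finite A K :=
    Module.Finite.of_surjective ((LinearMap.fst A K _).comp e.symm.toLinearMap) (fun k => ⟨e (k, 0), by simp⟩)
  have hK2 : Module.Projective A K :=
    Module.Projective.of_split (e.toLinearMap.comp (LinearMap.inl A K _))
      ((LinearMap.fst A K _).comp e.symm.toLinearMap) (by ext k; simp)
  have h0 : Module.rankAtStalk (R := A) K = 0 := funext fun p => by
    have h1 : Module.rankAtStalk (R := A) (↥K × ((A ⊗[R] M) ⧸ K)) p = k := by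
      rw [Module.rankAtStalk_eq_of_equiv e]; exact hk p
    rw [Module.rankAtStalk_prod, Pi.add_apply, hKr p] at h1
    simpa using h1
  rw [Submodule.eq_bot_iff]
  intro x hx
  have := Module.rankAtStalk_eq_zero_iff_subsingleton.mp h0
  exact congrArg Subtype.val (Subsingleton.elim (⟨x, hx⟩ : K) 0)

end Groth.Agent.S14346
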