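import Groth.Statements.S14348
import Groth.Agent.H25.QuotBlow.Main

set_option autoImplicit false
universe u
open CategoryTheory CategoryTheory.Limits AlgebraicGeometry TensorProduct
open QuotLF

namespace Groth.Agent.S14348

/-- Let R be a commutative ring, σ : R^m → R^(m+δ) an injective linear map with cokernel M (so M has
homological dimension ≤ 1 and rank δ) and K the cokernel of the dual map (that is, Ext¹(M, R)); let
d ≥ δ; let Y ⊆ Spec R be the closed subscheme cut out by the Fitting ideals Fit_j(M), j < d (the
locus where M has rank at least d), and Z ⊆ Spec R the one cut out by Fit_d(M). Let B₊ and B₋ be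
schemes over Spec R representing, on R-algebras A and naturally in A, the rank-d locally free
quotients of A ⊗_R M and the rank-(d−δ) locally free quotients of A ⊗_R K (the two Quot schemes),
and let Ŷ = B₊ ×_{Spec R} B₋ with its structure map to Spec R. Then the inverse image ideal sheaf of
Z on Ŷ is locally principal; and whenever c : Ŷ → Y factors the structure map through Y, if the
inverse image ideal of Z on Ŷ is the ideal of an effective Cartier divisor then c is a blowing-up of
Y in Z ∩ Y (universal property). This is the local situation, with a chosen two-term resolution, to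
which the global statement for a module of homological dimension ≤ 1 on a connected scheme reduces;
the comparison of the tautological line bundles in the blowing-up assertion and the further
assertions on reducedness and the Cohen–Macaulay property are not stated. -/
theorem result {R : Type u} [CommRing R] (m δ d : ℕ) (hd : δ ≤ d)
    (σ : (Fin m → R) →ₗ[R] (Fin (m + δ) → R)) (hσ : Function.Injective σ)
    (Bp Bm : Over (Spec (CommRingCat.of R)))
    (ep : ∀ A : CommAlgCat.{u} R, (Over.mk (Spec.map (CommRingCat.ofHom (algebraMap R A))) ⟶ Bp) ≃ (Module.Grassmannian.functor (R := R) (M := ((Fin (m + δ) → R) ⧸ LinearMap.range σ)) d).obj A)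
    (hep : ∀ (A A' : CommAlgCat.{u} R) (φ : A ⟶ A') (g : (Over.mk (Spec.map (CommRingCat.ofHom (algebraMap R A))) ⟶ Bp)) (g' : (Over.mk (Spec.map (CommRingCat.ofHom (algebraMap R A'))) ⟶ Bp)),
      g'.left = Spec.map (CommRingCat.ofHom φ.hom.toRingHom) ≫ g.left →
        ep A' g' = (Module.Grassmannian.functor (R := R) (M := ((Fin (m + δ) → R) ⧸ LinearMap.range σ)) d).map φ (ep A g))
    (em : ∀ A : CommAlgCat.{u} R, (Over.mk (Spec.map (CommRingCat.ofHom (algebraMap R A))) ⟶ Bm) ≃ (Module.Grassmannian.functor (R := R) (M := (Module.Dual R (Fin m → R) ⧸ LinearMap.range σ.dualMap)) (d - δ)).obj A)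
    (hem : ∀ (A A' : CommAlgCat.{u} R) (φ : A ⟶ A') (g : (Over.mk (Spec.map (CommRingCat.ofHom (algebraMap R A))) ⟶ Bm)) (g' : (Over.mk (Spec.map (CommRingCat.ofHom (algebraMap R A'))) ⟶ Bm)),
      g'.left = Spec.map (CommRingCat.ofHom φ.hom.toRingHom) ≫ g.left →
        em A' g' = (Module.Grassmannian.functor (R := R) (M := (Module.Dual R (Fin m → R) ⧸ LinearMap.range σ.dualMap)) (d - δ)).map φ (em A g)) :
    Curv2.IsLocPrincipal
        ((Spec.map (CommRingCat.ofHom (Ideal.Quotient.mk (Fitt.ideal R ((Fin (m + δ) → R) ⧸ LinearMap.range σ) d)))).ker.comap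
          (pullback.fst Bp.hom Bm.hom ≫ Bp.hom)) ∧
      ∀ c : pullback Bp.hom Bm.hom ⟶
          Spec (CommRingCat.of (R ⧸ ⨆ j < d, Fitt.ideal R ((Fin (m + δ) → R) ⧸ LinearMap.range σ) j)),
        c ≫ Spec.map (CommRingCat.ofHom (Ideal.Quotient.mk (⨆ j < d, Fitt.ideal R ((Fin (m + δ) → R) ⧸ LinearMap.range σ) j))) =
            pullback.fst Bp.hom Bm.hom ≫ Bp.hom →
          BlowUp.IsEffCartierIdeal
              ((Spec.map (CommRingCat.ofHom (Ideal.Quotient.mk (Fitt.ideal R ((Fin (m + δ) → R) ⧸ LinearMap.range σ) d)))).ker.comap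
                (pullback.fst Bp.hom Bm.hom ≫ Bp.hom)) →
            BlowUp.IsBlowUp c
              (Spec.map (CommRingCat.ofHom (Ideal.Quotient.mk
                ((Fitt.ideal R ((Fin (m + δ) → R) ⧸ LinearMap.range σ) d).map
                  (Ideal.Quotient.mk (⨆ j < d, Fitt.ideal R ((Fin (m + δ) → R) ⧸ LinearMap.range σ) j)))))).ker := by
  exact ⟨Groth.Agent.H25.QuotBlow.Main.isLocPrincipal hd ep em,
    Groth.Agent.H25.QuotBlow.Main.isBlowUp hd ep em hσ⟩

end Groth.Agent.S14348
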