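import Groth.Statements.S14351
import Mathlib.RingTheory.Flat.FaithfullyFlat.Algebra

set_option autoImplicit false
universe u
open CAlg

namespace Groth.Agent.S14351

/-- For ring maps A → B → C with C faithfully flat over B and C faithfully flat over A, the ring B is
faithfully flat over A. -/
theorem result (A B C : Type u) [CommRing A] [CommRing B]
    [CommRing C] [Algebra A B] [Algebra B C] [Algebra A C] [IsScalarTower A B C]
    [Module.FaithfullyFlat B C] [Module.FaithfullyFlat A C] : Module.FaithfullyFlat A B := by
  have hflat : Module.Flat A B := by
    rw [Module.Flat.iff_lTensor_preserves_injective_linearMap]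
    intro N M _ _ _ _ f hf
    have hC : Function.Injective (f.baseChange C) := Module.Flat.lTensor_preserves_injective_linearMap (M := C) f hf
    have hB : Function.Injective ((f.baseChange B).lTensor C) := by
      have key : (TensorProduct.AlgebraTensorModule.cancelBaseChange A B B C M).toLinearMap ∘ₗ
          ((TensorProduct.AlgebraTensorModule.lTensor B C) (f.baseChange B)) =
          ((TensorProduct.AlgebraTensorModule.lTensor B C) f) ∘ₗ
            (TensorProduct.AlgebraTensorModule.cancelBaseChange A B B C N).toLinearMap := by
        ext; simp
      intro a b hab
      apply (TensorProduct.AlgebraTensorModule.cancelBaseChange A B B C N).injective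
      apply hC
      have h1 := LinearMap.congr_fun key a
      have h2 := LinearMap.congr_fun key b
      simp only [LinearMap.comp_apply, LinearEquiv.coe_coe] at h1 h2
      exact (h1.symm.trans (congrArg _ hab)).trans h2
    exact (Module.FaithfullyFlat.lTensor_injective_iff_injective B C (f.baseChange B)).mp hB
  apply Module.FaithfullyFlat.of_comap_surjective
  intro p
  obtain ⟨q, hq⟩ := PrimeSpectrum.comap_surjective_of_faithfullyFlat (A := A) (B := C) p
  refine ⟨PrimeSpectrum.comap (algebraMap B C) q, ?_⟩
  rw [← PrimeSpectrum.comap_comp_apply, ← IsScalarTower.algebraMap_eq]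
  exact hq

end Groth.Agent.S14351
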