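import Groth.Statements.S14353
import Groth.Agent.Lib.FinLenLim.Basic
import Mathlib.CategoryTheory.ConcreteCategory.EpiMono

set_option autoImplicit false
universe u
open CategoryTheory CategoryTheory.Limits CategoryTheory.MonoidalCategory
open CAlg

namespace Groth.Agent.S14353

/-- For a commutative ring R, an inverse system (M_n)_{n ∈ ℕ} of R-modules of finite length and a
finitely presented R-module N, the canonical comparison map (lim_n M_n) ⊗_R N ⟶ lim_n (M_n ⊗_R N) is
an isomorphism. (The published statement takes N = R/I for a finitely generated ideal I; the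
argument covers every finitely presented N, which is the form stated here.) -/
theorem result (R : Type u) [CommRing R]
    (M : ℕᵒᵖ ⥤ ModuleCat.{u} R) (hM : ∀ n : ℕᵒᵖ, IsFiniteLength R (M.obj n))
    (N : Type u) [AddCommGroup N] [Module R N] [Module.FinitePresentation R N] :
    IsIso (limit.post M (tensorRight (ModuleCat.of R N))) := by
  have limMk : ∀ (F : ℕᵒᵖ ⥤ ModuleCat.{u} R) (s : ∀ n : ℕ, F.obj (Opposite.op n)),
      (∀ {m n : ℕ} (h : m ≤ n), (F.map (homOfLE h).op).hom (s n) = s m) →
      ∃ x : (limit F : ModuleCat.{u} R), ∀ n, (limit.π F (Opposite.op n)).hom x = s n := by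
    intro F s hs
    let c : Cone F := Cone.mk (ModuleCat.of R R)
      { app := fun n => ModuleCat.ofHom (LinearMap.toSpanSingleton R _ (s n.unop))
        naturality := fun n m f => by
          refine ModuleCat.hom_ext (LinearMap.ext_ring ?_)
          show LinearMap.toSpanSingleton R _ (s m.unop) 1 = (F.map f).hom (LinearMap.toSpanSingleton R _ (s n.unop) 1)
          rw [LinearMap.toSpanSingleton_apply, LinearMap.toSpanSingleton_apply, one_smul, one_smul]
          exact (hs (leOfHom f.unop)).symm }
    refine ⟨(limit.lift F c).hom (1 : R), fun n => ?_⟩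
    rw [← ModuleCat.comp_apply, limit.lift_π]
    exact LinearMap.toSpanSingleton_apply_one R _ _
  have limExt : ∀ (F : ℕᵒᵖ ⥤ ModuleCat.{u} R) (x y : (limit F : ModuleCat.{u} R)),
      (∀ n : ℕ, (limit.π F (Opposite.op n)).hom x = (limit.π F (Opposite.op n)).hom y) → x = y :=
    fun F x y h => Concrete.limit_ext F x y fun j => h j.unop
  have : ∀ n : ℕ, IsArtinian R (M.obj (Opposite.op n)) := fun n =>
    (isFiniteLength_iff_isNoetherian_isArtinian.mp (hM _)).2
  have htr : ∀ {l m n : ℕ} (h : l ≤ m) (h' : m ≤ n) (x : M.obj (Opposite.op n)),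
      (M.map (homOfLE h).op).hom ((M.map (homOfLE h').op).hom x) = (M.map (homOfLE (h.trans h')).op).hom x := by
    intro l m n h h' x
    rw [← ModuleCat.comp_apply, ← M.map_comp, ← op_comp, homOfLE_comp]
  have hrefl : ∀ (n : ℕ) (x : M.obj (Opposite.op n)), (M.map (homOfLE (le_refl n)).op).hom x = x := by
    intro n x
    rw [Subsingleton.elim (homOfLE (le_refl n)) (𝟙 n), op_id, M.map_id]
    rfl
  obtain ⟨hinj, hsurj⟩ := Groth.Agent.FinLenLim.tensor_bijective (R := R)
    (M := fun n => M.obj (Opposite.op n)) (fun h => (M.map (homOfLE h).op).hom) hrefl htr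
    (L := (limit M : ModuleCat.{u} R)) (fun n => (limit.π M (Opposite.op n)).hom)
    (fun h x => by rw [← ModuleCat.comp_apply, limit.w])
    (fun x hx => limExt M x 0 fun n => by rw [hx n, map_zero])
    (fun s hs => limMk M s hs) N
  have hpost : ∀ (n : ℕ) (z : (tensorRight (ModuleCat.of R N)).obj (limit M)),
      (limit.π (M ⋙ tensorRight (ModuleCat.of R N)) (Opposite.op n)).hom ((limit.post M (tensorRight (ModuleCat.of R N))).hom z) =
        (limit.π M (Opposite.op n)).hom.rTensor N z := by
    intro n z
    rw [← ModuleCat.comp_apply, limit.post_π]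
    rfl
  refine (CategoryTheory.ConcreteCategory.isIso_iff_bijective (C := ModuleCat.{u} R) _).mpr ?_
  refine ⟨fun x y hxy => ?_, fun w => ?_⟩
  · refine sub_eq_zero.mp (hinj (x - y) fun n => ?_)
    rw [map_sub, ← hpost, ← hpost]
    exact sub_eq_zero.mpr (congrArg _ hxy)
  · obtain ⟨z, hz⟩ := hsurj (fun n => (limit.π (M ⋙ tensorRight (ModuleCat.of R N)) (Opposite.op n)).hom w)
      (fun {m n} h => by
        show ((M ⋙ tensorRight (ModuleCat.of R N)).map (homOfLE h).op).hom _ = _
        rw [← ModuleCat.comp_apply, limit.w])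
    exact ⟨z, limExt _ _ _ fun n => (hpost n z).trans (hz n)⟩

end Groth.Agent.S14353
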