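import Groth.Statements.S14354
import Groth.Agent.Lib.CohBasics.Closure
import Groth.Agent.Lib.Modules.Support
import Groth.Agent.Lib.DerivedOX.PullbackStalk

set_option autoImplicit false
universe u
open CategoryTheory CategoryTheory.Limits AlgebraicGeometry Opposite
open Coh

namespace Groth.Agent.S14354

open Groth.Agent.Lib Groth.Agent.Lib.DerivedOX

variable {X : Scheme.{u}} (G : ℕᵒᵖ ⥤ X.Modules) (U : X.Opens)

/-- The transition map on sections. -/
noncomputable def tr {m n : ℕ} (h : m ≤ n) : Γ(G.obj (op n), U) → Γ(G.obj (op m), U) :=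
  fun x => (G.map (homOfLE h).op).app U x

lemma tr_tr {l m n : ℕ} (h : l ≤ m) (h' : m ≤ n) (x : Γ(G.obj (op n), U)) :
    tr G U h (tr G U h' x) = tr G U (h.trans h') x := by
  have he : (homOfLE (h.trans h')).op = (homOfLE h').op ≫ (homOfLE h).op := Subsingleton.elim _ _
  unfold tr
  rw [he, G.map_comp]
  rfl

lemma tr_self {n : ℕ} (x : Γ(G.obj (op n), U)) : tr G U (le_refl n) x = x := by
  have he : (homOfLE (le_refl n)).op = 𝟙 (op n) := Subsingleton.elim _ _
  unfold tr
  rw [he, G.map_id]
  rfl

/-- Sections coming from all later stages extend to compatible families. -/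
theorem exists_family (P : ∀ k, Γ(G.obj (op k), U) → Prop)
    (hstep : ∀ k x, P k x → ∃ y, P (k + 1) y ∧ tr G U (Nat.le_succ k) y = x)
    (e : ℕ) (s : Γ(G.obj (op e), U)) (hs : P e s) :
    ∃ t : ∀ n, Γ(G.obj (op n), U), (∀ m n (h : m ≤ n), tr G U h (t n) = t m) ∧ t e = s := by
  choose nxt hnP hn using hstep
  let x : ∀ j : ℕ, {v : Γ(G.obj (op (e + j)), U) // P (e + j) v} := fun j =>
    Nat.rec (motive := fun j => {v : Γ(G.obj (op (e + j)), U) // P (e + j) v}) ⟨s, hs⟩
      (fun j v => ⟨nxt _ v.1 v.2, hnP _ v.1 v.2⟩) j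
  have hx : ∀ j, tr G U (Nat.le_succ (e + j)) (x (j + 1)).1 = (x j).1 := fun j => hn _ _ _
  have hxx : ∀ i j (h : e + i ≤ e + j), tr G U h (x j).1 = (x i).1 := by
    intro i j
    induction j with
    | zero =>
      intro h
      obtain rfl : i = 0 := by omega
      exact tr_self G U _
    | succ j ih =>
      intro h
      rcases (show i ≤ j ∨ i = j + 1 by omega) with h' | rfl
      · rw [← ih (by omega), ← hx j, tr_tr]
      · exact tr_self G U _
  refine ⟨fun n => tr G U (show n ≤ e + (n - e) by omega) (x (n - e)).1, fun m n h => ?_, ?_⟩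
  · dsimp only
    rw [tr_tr, ← hxx (m - e) (n - e) (by omega), tr_tr]
  · show tr G U (show e ≤ e + (e - e) by omega) (x (e - e)).1 = s
    rw [hxx 0 (e - e) (by omega)]
    rfl

theorem result (X : Scheme.{u}) [IsLocallyNoetherian X]
    (G : ℕᵒᵖ ⥤ X.Modules) (hG : ∀ n : ℕᵒᵖ, Coh.IsCoh (G.obj n))
    (hML : ∀ e : ℕ, ∃ (d : ℕ) (hd : e ≤ d), ∀ (d' : ℕ) (hd' : d ≤ d'),
      imageSubobject (G.map (homOfLE (hd.trans hd')).op) = imageSubobject (G.map (homOfLE hd).op))
    (e : ℕ) : IsClosed (CohB1.support (image (limit.π G (op e)))) := by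
  classical
  choose d hd hst using hML
  let ι : ∀ k, (imageSubobject (G.map (homOfLE (hd k)).op) : X.Modules) ⟶ G.obj (op k) := fun k =>
    (imageSubobject (G.map (homOfLE (hd k)).op)).arrow
  have hcoh : ∀ (a b : ℕ) (h : a ≤ b), Coh.IsCoh (imageSubobject (G.map (homOfLE h).op) : X.Modules) :=
    fun a b h => CohBasics.Closure.isCoh_of_iso ((Abelian.imageIsoImage _) ≪≫ (imageSubobjectIso _).symm)
      (CohBasics.Closure.isCoh_image _ (hG (op b)).1 (hG (op a)))
  -- on affine opens the stable image is the image of every later stage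
  have hlift : ∀ k (U : X.Opens), IsAffineOpen U → ∀ d' (h : d k ≤ d')
      (a : Γ((imageSubobject (G.map (homOfLE (hd k)).op) : X.Modules), U)),
      ∃ z, tr G U ((hd k).trans h) z = (ι k).app U a := by
    intro k U hU d' h a
    let c := Subobject.ofLE _ _ (hst k d' h).ge
    haveI := (hG (op d')).1
    haveI := (hcoh k d' ((hd k).trans h)).1
    haveI : Epi (factorThruImageSubobject (G.map (homOfLE ((hd k).trans h)).op)) := inferInstance
    obtain ⟨z, hz⟩ := QCoh.Closure.sections_surjective_of_epi
      (factorThruImageSubobject (G.map (homOfLE ((hd k).trans h)).op)) hU (c.app U a)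
    refine ⟨z, ?_⟩
    have h1 := congrArg (fun φ => φ.app U z)
      (imageSubobject_arrow_comp (G.map (homOfLE ((hd k).trans h)).op)).symm
    have h2 := congrArg (fun φ => φ.app U a) (Subobject.ofLE_arrow (hst k d' h).ge)
    refine Eq.trans h1 (Eq.trans ?_ h2)
    exact congrArg ((imageSubobject (G.map (homOfLE ((hd k).trans h)).op)).arrow.app U) hz
  have hmem : ∀ k (U : X.Opens) d' (h : d k ≤ d') (z : Γ(G.obj (op d'), U)),
      ∃ a, (ι k).app U a = tr G U ((hd k).trans h) z := fun k U d' h z =>
    ⟨(factorThruImageSubobject (G.map (homOfLE (hd k)).op)).app U (tr G U h z), by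
      refine Eq.trans ?_ (tr_tr G U (hd k) h z)
      exact congrArg (fun φ => φ.app U (tr G U h z))
        (imageSubobject_arrow_comp (G.map (homOfLE (hd k)).op))⟩
  -- `limit.π` factors through the stable image by an epimorphism
  let p : limit G ⟶ (imageSubobject (G.map (homOfLE (hd e)).op) : X.Modules) :=
    limit.π G (op (d e)) ≫ factorThruImageSubobject _
  have hp : p ≫ ι e = limit.π G (op e) := by
    simp only [p, ι, Category.assoc, imageSubobject_arrow_comp]
    exact limit.w G _
  haveI : Epi p := by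
    refine (Modules.Stalk.epi_iff_stalk_surjective p).2 fun x
      (v : (imageSubobject (G.map (homOfLE (hd e)).op) : X.Modules).presheaf.stalk x) => ?_
    obtain ⟨W, hxW, a₀, rfl⟩ := TopCat.Presheaf.exists_germ_eq _ v
    obtain ⟨U, hU, hxU, hUW⟩ := exists_isAffineOpen_mem_and_subset (X := X) (x := x) (U := W) hxW
    obtain ⟨a, ha⟩ : ∃ a, a = (imageSubobject (G.map (homOfLE (hd e)).op) : X.Modules).presheaf.map
        (homOfLE (show U ≤ W from hUW)).op a₀ := ⟨_, rfl⟩
    obtain ⟨t, ht, hte⟩ := exists_family G U (fun k y => ∃ a, (ι k).app U a = y) (fun k y hy => by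
      obtain ⟨a, rfl⟩ := hy
      obtain ⟨z, hz⟩ := hlift k U hU (d k + d (k + 1)) (by omega) a
      obtain ⟨b, hb⟩ := hmem (k + 1) U (d k + d (k + 1)) (by omega) z
      exact ⟨_, ⟨b, hb⟩, (tr_tr G U _ _ z).trans hz⟩) e _ ⟨a, rfl⟩
    let c : Cone G :=
      { pt := FlatGen.gen U
        π :=
        { app := fun n => (FlatGen.genHomEquiv U (G.obj n)).symm (t n.unop)
          naturality := fun n m g => by
            obtain ⟨n⟩ := n
            obtain ⟨m⟩ := m
            have hg : g = (homOfLE (leOfHom g.unop)).op := Subsingleton.elim _ _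
            simp only [Functor.const_obj_obj, Functor.const_obj_map, Category.id_comp]
            refine (FlatGen.genHomEquiv U (G.obj (op m))).injective ?_
            refine (Equiv.apply_symm_apply _ _).trans (Eq.trans ?_ (PullbackStalk.genHomEquiv_comp U _ _).symm)
            refine Eq.trans ?_ (congrArg ((G.map g).app U) (Equiv.apply_symm_apply _ _)).symm
            rw [hg]
            exact (ht m n (leOfHom g.unop)).symm } }
    let σ := FlatGen.genHomEquiv U (limit G) (limit.lift G c)
    refine ⟨(limit G).presheaf.germ U x hxU σ, ?_⟩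
    refine (Modules.StalkModule.stalkMapₗ_germ p hxU σ).trans ?_
    have hσ : (ι e).app U (p.app U σ) = (ι e).app U a := by
      refine Eq.trans (congrArg (fun φ => φ.app U σ) hp) ?_
      refine (PullbackStalk.genHomEquiv_comp U (limit.lift G c) (limit.π G (op e))).symm.trans ?_
      rw [limit.lift_π]
      exact (Equiv.apply_symm_apply _ _).trans hte
    have hinj : Function.Injective ((ι e).app U) :=
      (Modules.Stalk.mono_iff_app_injective (ι e)).1 inferInstance U
    rw [hinj hσ, ha, TopCat.Presheaf.germ_res_apply]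
  haveI : StrongEpi p := strongEpi_of_epi p
  rw [Modules.Support.support_congr (image.isoStrongEpiMono p (ι e) hp).symm]
  haveI := (hcoh e (d e) (hd e)).2
  exact Modules.Support.isClosed_support _

end Groth.Agent.S14354
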