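import Groth.Statements.S14355
import Groth.Agent.Lib.SSAbs.Basic


set_option autoImplicit false
universe v u
open CategoryTheory CategoryTheory.Limits
open SpSeqMor

namespace Groth.Agent.S14355

/-- Let φ : E ⟶ E' be a morphism of E_2-cohomological spectral sequences in an abelian category, with
abutments H and H' whose filtrations are finite in each degree, and f a morphism of abutment data
over φ. Fix integers l and a₀. If E_2^{i, l-i} = 0 for i < a₀, E'_2^{i, l-i} = 0 for i > a₀ and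
φ_2^{a₀, l-a₀} = 0, then f^l : H^l ⟶ H'^l is zero. (The published statement prints the two vanishing
hypotheses at positions (i, l); the argument works on the line of total degree l, at positions (i, l
- i), which is the form stated here.) -/
theorem result (C : Type u) [Category.{v} C] [Abelian C]
    (E E' : E₂CohomologicalSpectralSequence C) (φ : E ⟶ E') (H H' : ℤ → C)
    (a : SpSeq.Abutment E H) (a' : SpSeq.Abutment E' H')
    (ha : ∀ n : ℤ, a.IsFinite n) (ha' : ∀ n : ℤ, a'.IsFinite n)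
    (f : SpSeqMor.AbutHom φ a a') (l a₀ : ℤ)
    (hE : ∀ i : ℤ, i < a₀ → IsZero ((E.page 2 le_rfl).X (i, l - i)))
    (hE' : ∀ i : ℤ, a₀ < i → IsZero ((E'.page 2 le_rfl).X (i, l - i)))
    (hφ : (φ.hom 2 le_rfl).f (a₀, l - a₀) = 0) :
    f.hom l = 0 := by
  open Groth.Agent.Lib.SSAbs.Basic in
  have hg : ∀ (pq : ℤ × ℤ), (φ.hom 2 le_rfl).f pq = 0 → ∀ n, pq.1 + pq.2 = n → (f.fil n).gr pq.1 = 0 := by
    intro pq h0 n hn
    subst hn
    have hk := f.comm pq ((max (a.rk pq) (a'.rk pq) - a.rk pq).toNat) ((max (a.rk pq) (a'.rk pq) - a'.rk pq).toNat)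
      (by have := le_max_left (a.rk pq) (a'.rk pq); have := le_max_right (a.rk pq) (a'.rk pq); omega)
    rw [f_eq_zero φ le_rfl h0 _ ((a'.stat pq).1.trans (self_le_add_nat _ _)), zero_comp, comp_zero, comp_zero] at hk
    exact (cancel_epi (a.β pq).hom).1 (hk.trans comp_zero.symm)
  have ht : a.fil l a₀ = ⊤ := Groth.Agent.Lib.SSAbs.Basic.eq_top_of_isZero (a.anti l) (ha l).1.choose_spec
    fun i hi => Groth.Agent.Lib.SSAbs.Basic.isZero_gr a (i, l - i) l (by simp) le_rfl (hE i hi)
  have hb : a'.fil l (a₀ + 1) = ⊥ := Groth.Agent.Lib.SSAbs.Basic.eq_bot_of_isZero (a'.anti l) (ha' l).2.choose_spec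
    fun i hi => Groth.Agent.Lib.SSAbs.Basic.isZero_gr a' (i, l - i) l (by simp) le_rfl (hE' i (by omega))
  have h1 := hg (a₀, l - a₀) hφ l (by simp)
  have h0 : (a'.fil l (a₀ + 1)).ofLE (a'.fil l a₀) (a'.anti l (Int.le_add_one le_rfl)) = 0 := by
    have : IsZero (a'.fil l (a₀ + 1) : C) := by rw [hb]; exact (isZero_zero C).of_iso Subobject.botCoeIsoZero
    exact this.eq_of_src _ _
  have := cokernel.π_of_zero h0
  have h2 : (f.fil l).lift a₀ ≫ cokernel.π ((a'.fil l (a₀ + 1)).ofLE (a'.fil l a₀) (a'.anti l (Int.le_add_one le_rfl))) = 0 := by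
    have h3 : cokernel.π ((a.filObj l).stepLE (Int.le_add_one (le_refl a₀))) ≫ (f.fil l).gr a₀ = 0 := by
      exact (congrArg _ h1).trans comp_zero
    unfold FilLift.gr at h3
    erw [cokernel.π_desc] at h3
    exact h3
  have h4 : (f.fil l).lift a₀ = 0 := by
    have hm : Mono (cokernel.π ((a'.fil l (a₀ + 1)).ofLE (a'.fil l a₀) (a'.anti l (Int.le_add_one le_rfl)))) :=
      @IsIso.mono_of_iso _ _ _ _ _ this
    exact (@cancel_mono _ _ _ _ _ _ hm _ _).1 (h2.trans zero_comp.symm)
  have h5 := (f.fil l).lift_arrow a₀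
  rw [h4, zero_comp] at h5
  have : IsIso (a.fil l a₀).arrow := by rw [ht]; infer_instance
  exact (cancel_epi (a.fil l a₀).arrow).1 (h5.symm.trans comp_zero.symm)

end Groth.Agent.S14355
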