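import Groth.Statements.S14357
import Groth.Agent.Lib.ProjSpace.Dim
import Mathlib.AlgebraicGeometry.Morphisms.Finite
import Mathlib.AlgebraicGeometry.Artinian
import Mathlib.RingTheory.KrullDimension.Zero

set_option autoImplicit false
universe u
open AlgebraicGeometry
open Proj

namespace Groth.Agent.S14357

/-- For a field k the projective line over k is not an affine scheme. (The projective line is taken here
as Proj of the polynomial ring in two variables over k with its standard grading; the book builds it
by gluing two affine lines and identifies the two constructions later.) -/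
theorem result (k : Type u) [Field k] :
    ¬ IsAffine (CohB1.ProjSpace 1 k) := by
  intro hA
  have := Groth.Agent.Lib.ProjSpace.Basic.isProper_toSpec 1 k
  have hf : IsFinite (CohB1.ProjSpace.toSpec 1 k) :=
    IsFinite.iff_isProper_and_isAffineHom.mpr ⟨inferInstance, inferInstance⟩
  have : IsArtinianRing Γ(Spec (CommRingCat.of k), ⊤) :=
    (Scheme.ΓSpecIso (CommRingCat.of k)).symm.commRingCatIsoToRingEquiv.surjective.isArtinianRing
  have hfin := Scheme.Hom.finite_appTop (CohB1.ProjSpace.toSpec 1 k)
  algebraize [(CohB1.ProjSpace.toSpec 1 k).appTop.hom]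
  have : IsArtinianRing Γ(CohB1.ProjSpace 1 k, ⊤) :=
    IsArtinianRing.of_finite Γ(Spec (CommRingCat.of k), ⊤) _
  have h0 : ringKrullDim Γ(CohB1.ProjSpace 1 k, ⊤) ≤ 0 :=
    (Ring.krullDimLE_iff).mp inferInstance
  have h1 := Groth.Agent.Lib.ProjSpace.Dim.topologicalKrullDim_projSpace_of_field 1 k
  rw [(CohB1.ProjSpace 1 k).isoSpec.hom.homeomorph.isHomeomorph.topologicalKrullDim_eq _] at h1
  erw [PrimeSpectrum.topologicalKrullDim_eq_ringKrullDim] at h1
  rw [h1] at h0
  exact absurd (show (1 : ℕ) ≤ 0 by exact_mod_cast h0) (by omega)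

end Groth.Agent.S14357
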