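import Groth.Statements.S14358
import Mathlib.RingTheory.Ideal.AssociatedPrime.Basic
import Mathlib.RingTheory.Localization.FractionRing

set_option autoImplicit false
universe u
open CAlg

namespace Groth.Agent.S14358

/-- Let A be a Noetherian integral domain with fraction field K and let r ∈ K. Then r belongs to A if
and only if, for every nonzero g ∈ A and every associated prime p of the A-module A/(g), the element
r belongs to the local ring A_p inside K, i.e. s r = a in K for some a ∈ A and some s ∈ A outside p. -/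
theorem result (A K : Type u)
    [CommRing A] [IsDomain A] [IsNoetherianRing A] [Field K] [Algebra A K] [IsFractionRing A K]
    (r : K) :
    r ∈ Set.range (algebraMap A K) ↔
      ∀ g : A, g ≠ 0 → ∀ p ∈ associatedPrimes A (A ⧸ Ideal.span {g}),
        ∃ a s : A, s ∉ p ∧ algebraMap A K s * r = algebraMap A K a := by
  constructor
  · rintro ⟨a, rfl⟩ g hg p hp
    refine ⟨a, 1, fun h => hp.isPrime.ne_top ((Ideal.eq_top_iff_one _).mpr h), ?_⟩
    rw [map_one, one_mul]
  · intro h
    obtain ⟨⟨a, g, hg0⟩, rfl⟩ := IsLocalization.mk'_surjective (nonZeroDivisors A) r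
    have hg : g ≠ 0 := nonZeroDivisors.ne_zero hg0
    by_cases ha : a ∈ Ideal.span {g}
    · obtain ⟨c, rfl⟩ := Ideal.mem_span_singleton'.mp ha
      exact ⟨c, (IsLocalization.mk'_eq_iff_eq_mul.mpr (map_mul (algebraMap A K) c g)).symm⟩
    exfalso
    have hne : (Ideal.Quotient.mk (Ideal.span {g}) a) ≠ 0 := mt Ideal.Quotient.eq_zero_iff_mem.mp ha
    obtain ⟨p, hp, hle⟩ := exists_le_isAssociatedPrime_of_isNoetherianRing A (Ideal.Quotient.mk (Ideal.span {g}) a) hne
    obtain ⟨b, s, hs, hsb⟩ := h g hg p hp
    apply hs (hle ?_)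
    rw [Submodule.mem_colon_singleton, Submodule.mem_bot, Algebra.smul_def, Ideal.Quotient.algebraMap_eq,
      ← map_mul, Ideal.Quotient.eq_zero_iff_mem, Ideal.mem_span_singleton']
    refine ⟨b, IsFractionRing.injective A K ?_⟩
    rw [map_mul, map_mul, ← hsb, mul_assoc, IsLocalization.mk'_spec]

end Groth.Agent.S14358
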