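import Groth.Statements.S14363
import Mathlib.RingTheory.Ideal.AssociatedPrime.Basic

set_option autoImplicit false
universe u
open CAlg

namespace Groth.Agent.S14363

/-- Let A be a Noetherian ring and 0 → M' → M → M'' → 0 a short exact sequence of A-modules. If a prime
p of A is an associated prime of M'' and is not in the support of M', then p is an associated prime
of M. -/
theorem result (A : Type u) [CommRing A] [IsNoetherianRing A]
    (M' M M'' : Type u) [AddCommGroup M'] [Module A M'] [AddCommGroup M] [Module A M]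
    [AddCommGroup M''] [Module A M'']
    (f : M' →ₗ[A] M) (g : M →ₗ[A] M'') (hf : Function.Injective f) (hg : Function.Surjective g)
    (hfg : Function.Exact f g)
    (p : PrimeSpectrum A) (hp : p.asIdeal ∈ associatedPrimes A M'') (hsupp : p ∉ Module.support A M') :
    p.asIdeal ∈ associatedPrimes A M := by
  classical
  have hp' : IsAssociatedPrime p.asIdeal M'' := AssociatedPrimes.mem_iff.mp hp
  obtain ⟨-, x'', hx⟩ := isAssociatedPrime_iff.mp hp'
  obtain ⟨x, rfl⟩ := hg x''
  have hkey : ∀ a ∈ p.asIdeal, ∃ s, s ∉ p.asIdeal ∧ s • a • x = 0 := by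
    intro a ha
    rw [hx, Submodule.mem_colon_singleton, Submodule.mem_bot, ← map_smul, hfg] at ha
    obtain ⟨y, hy⟩ := ha
    obtain ⟨s, hs, hsy⟩ := Module.notMem_support_iff'.mp hsupp y
    exact ⟨s, hs, by rw [← hy, ← map_smul, hsy, map_zero]⟩
  choose! s hs hsx using hkey
  obtain ⟨t, ht⟩ := (IsNoetherian.noetherian p.asIdeal : p.asIdeal.FG)
  have htp : ∀ a ∈ t, a ∈ p.asIdeal := fun a ha => ht ▸ Submodule.subset_span ha
  let σ := ∏ a ∈ t, s a
  have hσ : σ ∉ p.asIdeal := fun h => by
    obtain ⟨a, ha, hmem⟩ := p.2.prod_mem_iff.mp h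
    exact hs a (htp a ha) hmem
  refine AssociatedPrimes.mem_iff.mpr (isAssociatedPrime_iff.mpr ⟨p.2, σ • x, ?_⟩)
  ext r
  rw [Submodule.mem_colon_singleton, Submodule.mem_bot]
  constructor
  · intro hr
    rw [← ht] at hr
    induction hr using Submodule.span_induction with
    | mem a ha =>
      obtain ⟨d, hd⟩ : s a ∣ σ := Finset.dvd_prod_of_mem s ha
      rw [smul_smul, hd, show a * (s a * d) = d * (s a * a) by ring, mul_smul, mul_smul,
        hsx a (htp a ha), smul_zero]
    | zero => simp
    | add a b _ _ ha hb => rw [add_smul, ha, hb, add_zero]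
    | smul c a _ ha => rw [smul_eq_mul, mul_smul, ha, smul_zero]
  · intro hr
    have : r * σ ∈ p.asIdeal := by
      rw [hx, Submodule.mem_colon_singleton, Submodule.mem_bot, ← map_smul, mul_smul, hr, map_zero]
    exact (p.2.mem_or_mem this).resolve_right hσ

end Groth.Agent.S14363
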