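import Groth.Statements.S14364
import Groth.Agent.Lib.DerivedOX.GammaZTriangle
import Groth.Agent.Lib.DerivedOX.PullComp

set_option autoImplicit false
universe u
open CategoryTheory CategoryTheory.Limits AlgebraicGeometry
attribute [local instance] HasDerivedCategory.standard
open CxOX

namespace Groth.Agent.S14364

/-- Let f : X ⟶ Y be a finite-type morphism between Noetherian schemes, U ⊆ Y an open subscheme with
closed complement Z, and Z' = f⁻¹(Z), the closed complement of f⁻¹(U) in X. For every K in D(O_X)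
with quasi-coherent cohomology sheaves, the morphism Rf_*(RΓ_{Z'}(K) ⟶ K) factors through the
canonical morphism RΓ_Z(Rf_* K) ⟶ Rf_* K, and every morphism Rf_* RΓ_{Z'}(K) ⟶ RΓ_Z(Rf_* K) giving
such a factorisation is an isomorphism; this is the isomorphism Rf_* RΓ_{Z'} ≅ RΓ_Z Rf_*.
(Throughout, RΓ with support is the total right derived functor of the sheaf of sections supported
in the closed subset. The published statement derives instead the functor of sections killed by some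
power of a defining ideal; on complexes with quasi-coherent cohomology sheaves over a Noetherian
scheme the two derived functors agree.) -/
theorem result {X Y : Scheme.{u}} [IsNoetherian X] [IsNoetherian Y]
    (f : X ⟶ Y) [LocallyOfFiniteType f] (U : Y.Opens)
    [CxOX.HasRgammaZ U.ι] [CxOX.HasRgammaZ (f ⁻¹ᵁ U).ι] [DCoh.HasRpush f]
    (K : DCoh.D X) (hK : DCoh.IsQCohD K) :
    (∃ α : (DCoh.Rpush f).obj ((CxOX.RgammaZ (f ⁻¹ᵁ U).ι).obj K) ⟶ (CxOX.RgammaZ U.ι).obj ((DCoh.Rpush f).obj K),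
        α ≫ (CxOX.RgammaZToId U.ι).app ((DCoh.Rpush f).obj K) =
          (DCoh.Rpush f).map ((CxOX.RgammaZToId (f ⁻¹ᵁ U).ι).app K)) ∧
    ∀ α : (DCoh.Rpush f).obj ((CxOX.RgammaZ (f ⁻¹ᵁ U).ι).obj K) ⟶ (CxOX.RgammaZ U.ι).obj ((DCoh.Rpush f).obj K),
        α ≫ (CxOX.RgammaZToId U.ι).app ((DCoh.Rpush f).obj K) =
          (DCoh.Rpush f).map ((CxOX.RgammaZToId (f ⁻¹ᵁ U).ι).app K) → IsIso α := by

  have hrest : ∀ G : DCoh.D X, CategoryTheory.Limits.IsZero ((DCoh.restrictD (f ⁻¹ᵁ U).ι).obj G) →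
      CategoryTheory.Limits.IsZero ((DCoh.restrictD U.ι).obj ((DCoh.Rpush f).obj G)) := fun G hG =>
    haveI := Groth.Agent.Lib.DerivedOX.Exists.hasRpush (f ∣_ U)
    (Functor.map_isZero _ hG).of_iso ((Groth.Agent.Lib.DerivedOX.RestrictRpush.restrictD_Rpush_iso f U).app G)
  haveI := Groth.Agent.Lib.DerivedOX.Exists.hasRpush U.ι
  haveI := Groth.Agent.Lib.DerivedOX.Exists.hasRpush (f ⁻¹ᵁ U).ι
  have hA := hrest _ (Groth.Agent.Lib.DerivedOX.GammaZTriangle.isZero_restrict_RgammaZ (f ⁻¹ᵁ U).ι K)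
  refine ⟨(Groth.Agent.Lib.DerivedOX.GammaZTriangle.existsUnique_lift U.ι hA _).exists, fun α hα => ?_⟩
  obtain ⟨R, e, φ, δ, hT⟩ := Groth.Agent.Lib.DerivedOX.GammaZTriangle.exists_triangle (f ⁻¹ᵁ U).ι K
  haveI := Groth.Agent.Lib.DerivedOX.Exists.hasRpush (f ∣_ U)
  haveI := Groth.Agent.Lib.DerivedOX.Exists.hasRpush ((f ⁻¹ᵁ U).ι ≫ f)
  haveI := Groth.Agent.Lib.DerivedOX.Exists.hasRpush ((f ∣_ U) ≫ U.ι)
  have congrIso : ∀ {g g' : (f ⁻¹ᵁ U : AlgebraicGeometry.Scheme.{u}) ⟶ Y} [DCoh.HasRpush g] [DCoh.HasRpush g'],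
      g = g' → Nonempty (DCoh.Rpush g ≅ DCoh.Rpush g') := fun h => by
    subst h; exact ⟨Iso.refl _⟩
  obtain ⟨ec⟩ := congrIso (g := (f ⁻¹ᵁ U).ι ≫ f) (g' := (f ∣_ U) ≫ U.ι) (AlgebraicGeometry.morphismRestrict_ι f U).symm
  exact Groth.Agent.Lib.DerivedOX.GammaZTriangle.isIso_lift U.ι hA ((DCoh.Rpush f).map_distinguished _ hT)
    (((DCoh.Rpush f).mapIso e ≪≫ (Groth.Agent.Lib.DerivedOX.PullComp.rpushCompIso (f ⁻¹ᵁ U).ι f).app _ ≪≫ ec.app _ ≪≫
      ((Groth.Agent.Lib.DerivedOX.PullComp.rpushCompIso (f ∣_ U) U.ι).app _).symm) : _ ≅ (DCoh.Rpush U.ι).obj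
        ((DCoh.Rpush (f ∣_ U)).obj ((DCoh.restrictD (f ⁻¹ᵁ U).ι).obj K))) α hα

end Groth.Agent.S14364
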