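import Groth.Statements.S14365
import Groth.Agent.Lib.DerivedOX.GammaZTriangle
import Groth.Agent.Lib.DerivedOX.BCFlat
import Groth.Agent.Lib.DerivedOX.ProjectionLocal


set_option autoImplicit false
universe u
open CategoryTheory CategoryTheory.Limits AlgebraicGeometry
attribute [local instance] HasDerivedCategory.standard
open CxOX

namespace Groth.Agent.S14365

/-- Let f : X ⟶ Y be a flat morphism of finite type of Noetherian schemes, U ⊆ Y an open subscheme with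
closed complement Z, Z' = f⁻¹(Z) the closed complement of f⁻¹(U), and let the derived pullback Lf^*
: D(O_Y) ⥤ D(O_X) exist. For every K in D(O_Y) with quasi-coherent cohomology sheaves, the morphism
Lf^*(RΓ_Z(K) ⟶ K) factors through the canonical morphism RΓ_{Z'}(Lf^* K) ⟶ Lf^* K, and every
morphism Lf^* RΓ_Z(K) ⟶ RΓ_{Z'}(Lf^* K) giving such a factorisation is an isomorphism; this is the
isomorphism f^* RΓ_Z ≅ RΓ_{Z'} f^* for flat f. (Throughout, RΓ with support is the total right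
derived functor of the sheaf of sections supported in the closed subset. The published statement
derives instead the functor of sections killed by some power of a defining ideal; on complexes with
quasi-coherent cohomology sheaves over a Noetherian scheme the two derived functors agree.) -/
theorem result {X Y : Scheme.{u}} [IsNoetherian X] [IsNoetherian Y]
    (f : X ⟶ Y) [LocallyOfFiniteType f] [Flat f] (U : Y.Opens)
    [CxOX.HasRgammaZ U.ι] [CxOX.HasRgammaZ (f ⁻¹ᵁ U).ι] [DCoh.HasLpull f]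
    (K : DCoh.D Y) (hK : DCoh.IsQCohD K) :
    (∃ β : (DCoh.Lpull f).obj ((CxOX.RgammaZ U.ι).obj K) ⟶ (CxOX.RgammaZ (f ⁻¹ᵁ U).ι).obj ((DCoh.Lpull f).obj K),
        β ≫ (CxOX.RgammaZToId (f ⁻¹ᵁ U).ι).app ((DCoh.Lpull f).obj K) =
          (DCoh.Lpull f).map ((CxOX.RgammaZToId U.ι).app K)) ∧
    ∀ β : (DCoh.Lpull f).obj ((CxOX.RgammaZ U.ι).obj K) ⟶ (CxOX.RgammaZ (f ⁻¹ᵁ U).ι).obj ((DCoh.Lpull f).obj K),
        β ≫ (CxOX.RgammaZToId (f ⁻¹ᵁ U).ι).app ((DCoh.Lpull f).obj K) =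
          (DCoh.Lpull f).map ((CxOX.RgammaZToId U.ι).app K) → IsIso β := by
  haveI : QuasiCompact U.ι := inferInstance
  haveI := Groth.Agent.Lib.DerivedOX.Exists.hasRpush U.ι
  haveI := Groth.Agent.Lib.DerivedOX.Exists.hasRpush (f ⁻¹ᵁ U).ι
  haveI := Groth.Agent.Lib.DerivedOX.Exists.hasRpush f
  haveI := Groth.Agent.Lib.DerivedOX.Exists.hasRpush (f ∣_ U)
  haveI := Groth.Agent.Lib.DerivedOX.LeftExists.hasLpull (f ∣_ U)
  haveI := Groth.Agent.Lib.DerivedOX.LeftExists.hasLpull U.ι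
  haveI := Groth.Agent.Lib.DerivedOX.LeftExists.hasLpull (f ⁻¹ᵁ U).ι
  have hA : Limits.IsZero ((DCoh.restrictD (f ⁻¹ᵁ U).ι).obj ((DCoh.Lpull f).obj ((CxOX.RgammaZ U.ι).obj K))) := by
    obtain ⟨e⟩ := Groth.Agent.Lib.DerivedOX.ProjectionLocal.nonempty_restrict_Lpull f U ((CxOX.RgammaZ U.ι).obj K)
    exact (Functor.map_isZero _ (Groth.Agent.Lib.DerivedOX.GammaZTriangle.isZero_restrict_RgammaZ U.ι K)).of_iso e
  refine ⟨(Groth.Agent.Lib.DerivedOX.GammaZTriangle.existsUnique_lift (f ⁻¹ᵁ U).ι hA _).exists, fun β hβ => ?_⟩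
  obtain ⟨R, e, φ, δ, hT⟩ := Groth.Agent.Lib.DerivedOX.GammaZTriangle.exists_triangle U.ι K
  have hsq := isPullback_morphismRestrict f U
  haveI := Groth.Agent.Lib.DerivedOX.BCFlat.isIso_bcD U.ι f (f ⁻¹ᵁ U).ι (f ∣_ U) hsq.w hsq
    ((DCoh.restrictD U.ι).obj K) (Groth.Agent.Lib.DerivedOX.CompactUnit.isQCohD_restrictD _ hK)
  exact Groth.Agent.Lib.DerivedOX.GammaZTriangle.isIso_lift (f ⁻¹ᵁ U).ι hA ((DCoh.Lpull f).map_distinguished _ hT)
    ((DCoh.Lpull f).mapIso e ≪≫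
      asIso ((Groth.Agent.Lib.DerivedOX.BCSquare.bcD U.ι f (f ⁻¹ᵁ U).ι (f ∣_ U) hsq.w).app ((DCoh.restrictD U.ι).obj K))) β hβ

end Groth.Agent.S14365
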