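import Groth.Statements.S14368
import Groth.Agent.Lib.DerivedOX.GammaZTriangle

set_option autoImplicit false
universe u
open CategoryTheory CategoryTheory.Limits AlgebraicGeometry
attribute [local instance] HasDerivedCategory.standard
open CxOX

namespace Groth.Agent.S14368

open AlgebraicGeometry CategoryTheory.Limits Pretriangulated Groth.Agent.Lib.DerivedOX

/-- The unit is an isomorphism on objects vanishing on `W`. -/
theorem isIso_unit {X Y : Scheme.{u}} (j : X ⟶ Y) [IsOpenImmersion j] (W : Y.Opens)
    (hW : (W : Set Y)ᶜ ⊆ Set.range j.base) [DCoh.HasRpush j]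
    (adj : DCoh.restrictD j ⊣ DCoh.Rpush j) (G : DCoh.D Y)
    (hG : IsZero ((DCoh.restrictD W.ι).obj G)) : IsIso (adj.unit.app G) := by
  obtain ⟨C, g, k, hT⟩ := distinguished_cocone_triangle (adj.unit.app G)
  refine (Triangle.isZero₃_iff_isIso₁ _ hT).1 ?_
  have hc := OpenImm.isIso_counit j adj
  have h1 : IsZero ((DCoh.restrictD j).obj C) :=
    (Triangle.isZero₃_iff_isIso₁ _ ((DCoh.restrictD j).map_distinguished _ hT)).2
      (by
        have hcx : IsIso (adj.counit.app ((DCoh.restrictD j).obj G)) :=
          @NatIso.isIso_app_of_isIso _ _ _ _ _ _ adj.counit hc _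
        refine @IsIso.of_isIso_fac_right _ _ _ _ _ _ _ _ ?_ ?_ (adj.left_triangle_components G)
        · exact hcx
        · exact IsIso.id _)
  have hR : IsZero ((DCoh.restrictD W.ι).obj ((DCoh.Rpush j).obj ((DCoh.restrictD j).obj G))) := by
    haveI := Exists.hasRpush (j ∣_ W)
    refine (Functor.map_isZero _ (OpenSupport.isZero_restrictD_of_support _ _ fun i (w : (j ⁻¹ᵁ W : Scheme.{u})) hw => ?_)).of_iso
      ((RestrictRpush.restrictD_Rpush_iso j W).app _)
    rw [Groth.Agent.Lib.Modules.Support.support_congr (Groth.Agent.Lib.Perfect.Coherent.homologyIso j G i),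
      Groth.Agent.Lib.Modules.Support.support_restrict] at hw
    exact OpenImm.not_mem_support_of_isZero_restrict W.ι hG i ⟨_, w.2⟩ hw
  have h2 : IsZero ((DCoh.restrictD W.ι).obj C) :=
    (Triangle.isZero₃_iff_isIso₁ _ ((DCoh.restrictD W.ι).map_distinguished _ hT)).2
      (OpenSupport.isIso_of_zero _ hG hR)
  refine OpenImm.isZero_of_supports fun i => Set.eq_empty_of_forall_notMem fun y hy => ?_
  by_cases h : y ∈ W
  · exact OpenImm.not_mem_support_of_isZero_restrict W.ι h2 i ⟨y, h⟩ hy
  · obtain ⟨x, hx⟩ := hW h
    exact OpenImm.not_mem_support_of_isZero_restrict j h1 i x (hx.symm ▸ hy)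

end Groth.Agent.S14368

namespace Groth.Agent.S14368

/-- Let j : X ⟶ X̄ be an open immersion of Noetherian schemes and W ⊆ X̄ an open subscheme whose closed
complement Z̄ = X̄ ∖ W is contained in j(X) (so Z̄ = j(Z) for the closed subset Z = X ∖ j⁻¹(W) of X:
this is the situation of a closed subset of X whose image in X̄ is still closed). Let Rj_* exist and
preserve complexes with quasi-coherent cohomology, and let an adjunction j^* ⊣ Rj_* on derived
categories be given. Then for every G in D(O_X̄) with quasi-coherent cohomology sheaves the unit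
RΓ_{Z̄}(G) ⟶ Rj_* j^* RΓ_{Z̄}(G) is an isomorphism; composed with Rj_* of the isomorphism j^*
RΓ_{Z̄} ≅ RΓ_Z j^* it gives the isomorphism ε : RΓ_{Z̄} ≅ Rj_* RΓ_Z j^*. (Throughout, RΓ with
support is the total right derived functor of the sheaf of sections supported in the closed subset.
The published statement derives instead the functor of sections killed by some power of a defining
ideal; on complexes with quasi-coherent cohomology sheaves over a Noetherian scheme the two derived
functors agree.) -/
theorem result {X Xbar : Scheme.{u}} [IsNoetherian Xbar] [IsNoetherian X]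
    (j : X ⟶ Xbar) [IsOpenImmersion j] (W : Xbar.Opens) (hW : (W : Set Xbar)ᶜ ⊆ Set.range j.base)
    [DCoh.HasRpush j] [CxOX.HasRgammaZ W.ι] (hj : DCoh.RpushPreservesQCoh j)
    (adj : DCoh.restrictD j ⊣ DCoh.Rpush j) (G : DCoh.D Xbar) (hG : DCoh.IsQCohD G) :
    IsIso (adj.unit.app ((CxOX.RgammaZ W.ι).obj G)) := by
  exact Groth.Agent.S14368.isIso_unit j W hW adj _
    (Groth.Agent.Lib.DerivedOX.GammaZTriangle.isZero_restrict_RgammaZ W.ι G)

end Groth.Agent.S14368
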