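import Groth.Statements.S14366
import Groth.Agent.S14368
import Groth.Agent.Lib.DerivedOX.GammaZTriangle

set_option autoImplicit false
universe u
open CategoryTheory CategoryTheory.Limits AlgebraicGeometry
attribute [local instance] HasDerivedCategory.standard
open CxOX

namespace Groth.Agent.S14366

open AlgebraicGeometry CategoryTheory.Limits Pretriangulated Groth.Agent.Lib.DerivedOX

/-- An object supported off `T` which receives its identity through `Rj_*` vanishes; dually, units. -/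
theorem isIso_unit {X Y : Scheme.{u}} (j : X ⟶ Y) [IsOpenImmersion j] (U' T : Y.Opens)
    (hT : (T : Set Y) = (U' : Set Y) ∪ Set.range j.base)
    [DCoh.HasRpush j] [CxOX.HasRgammaZ T.ι]
    (adj : DCoh.restrictD j ⊣ DCoh.Rpush j) (G : DCoh.D Y)
    (hG : IsZero ((DCoh.restrictD U'.ι).obj G)) (hΓ : IsZero ((CxOX.RgammaZ T.ι).obj G)) :
    IsIso (adj.unit.app G) := by
  haveI := Exists.hasRpush T.ι
  obtain ⟨C, g, h, hC⟩ := distinguished_cocone_triangle (adj.unit.app G)
  refine (Triangle.isZero₃_iff_isIso₁ _ hC).1 ?_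
  have hjC : IsZero ((DCoh.restrictD j).obj C) :=
    (Triangle.isZero₃_iff_isIso₁ _ ((DCoh.restrictD j).map_distinguished _ hC)).2 (by
      have hc := OpenImm.isIso_counit j adj
      have hcx : IsIso (adj.counit.app ((DCoh.restrictD j).obj G)) :=
        @NatIso.isIso_app_of_isIso _ _ _ _ _ _ adj.counit hc _
      refine @IsIso.of_isIso_fac_right _ _ _ _ _ _ _ _ ?_ ?_ (adj.left_triangle_components G)
      · exact hcx
      · exact IsIso.id _)
  have hjG : IsZero ((DCoh.restrictD U'.ι).obj ((DCoh.Rpush j).obj ((DCoh.restrictD j).obj G))) := by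
    haveI := Exists.hasRpush (j ∣_ U')
    refine (Functor.map_isZero _ (OpenSupport.isZero_restrictD_of_support _ _
      fun i (w : (j ⁻¹ᵁ U' : Scheme.{u})) hw => ?_)).of_iso ((RestrictRpush.restrictD_Rpush_iso j U').app _)
    rw [Groth.Agent.Lib.Modules.Support.support_congr (Groth.Agent.Lib.Perfect.Coherent.homologyIso j G i),
      Groth.Agent.Lib.Modules.Support.support_restrict] at hw
    exact OpenImm.not_mem_support_of_isZero_restrict U'.ι hG i ⟨_, w.2⟩ hw
  have hUC : IsZero ((DCoh.restrictD U'.ι).obj C) :=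
    (Triangle.isZero₃_iff_isIso₁ _ ((DCoh.restrictD U'.ι).map_distinguished _ hC)).2
      (OpenSupport.isIso_of_zero _ hG hjG)
  have hTC : IsZero ((DCoh.restrictD T.ι).obj C) :=
    OpenSupport.isZero_restrictD_of_support _ _ fun i (w : (T : Scheme.{u})) hw => by
      have hw2 : T.ι.base w ∈ (U' : Set Y) ∪ Set.range j.base := by rw [← hT]; exact w.2
      rcases hw2 with h2 | ⟨x, hx⟩
      · exact OpenImm.not_mem_support_of_isZero_restrict U'.ι hUC i ⟨_, h2⟩ hw
      · exact OpenImm.not_mem_support_of_isZero_restrict j hjC i x (hx.symm ▸ hw)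
  obtain ⟨R, e, φ, δ, hR⟩ := GammaZTriangle.exists_triangle T.ι G
  haveI : IsIso φ := (Triangle.isZero₁_iff_isIso₂ _ hR).1 hΓ
  have h0 : h = 0 := OpenImm.eq_zero_of_isZero_restrict T.ι hTC
    ((shiftFunctor (DCoh.D Y) (1 : ℤ)).mapIso (asIso φ ≪≫ e) ≪≫
      ((DCoh.Rpush T.ι).commShiftIso (1 : ℤ)).symm.app _) h
  obtain ⟨(s : C ⟶ (DCoh.Rpush j).obj ((DCoh.restrictD j).obj G)), (hs : 𝟙 C = s ≫ g)⟩ :=
    Triangle.coyoneda_exact₂ _ (rot_of_distTriang _ hC) (𝟙 C) (by
      change 𝟙 C ≫ h = 0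
      rw [h0, comp_zero])
  have hs0 : s = 0 := OpenImm.eq_zero_of_isZero_restrict j hjC (Iso.refl _) s
  rw [IsZero.iff_id_eq_zero]
  change 𝟙 C = 0
  rw [hs, hs0, zero_comp]

end Groth.Agent.S14366

namespace Groth.Agent.S14366

/-- Let j : X ⟶ X̄ be an open immersion of Noetherian schemes, U ⊆ X an open subscheme with closed
complement Z, U' ⊆ X̄ the open complement of the closure Z̄ of j(Z) in X̄, and T = U' ∪ j(X), the
open complement of the closed subset Z̄ ∖ j(X). Let Rj_* exist and preserve complexes with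
quasi-coherent cohomology, and let an adjunction j^* ⊣ Rj_* between D(O_X̄) and D(O_X) be given.
Then Rj_* and j^* are inverse equivalences between the objects of D_qc(O_X) whose cohomology sheaves
are supported on Z and the objects of D_qc(O_X̄) whose cohomology sheaves are supported on Z̄ and on
which RΓ_{Z̄ ∖ j(X)} vanishes: for F in the first class, Rj_* F has cohomology supported on Z̄ and
RΓ_{Z̄ ∖ j(X)}(Rj_* F) is zero; the counit j^* Rj_* F ⟶ F is an isomorphism for every F; and for G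
in the second class the unit G ⟶ Rj_* j^* G is an isomorphism and j^* G is in the first class.
(Throughout, RΓ with support is the total right derived functor of the sheaf of sections supported
in the closed subset. The published statement derives instead the functor of sections killed by some
power of a defining ideal; on complexes with quasi-coherent cohomology sheaves over a Noetherian
scheme the two derived functors agree.) -/
theorem result {X Xbar : Scheme.{u}} [IsNoetherian Xbar] [IsNoetherian X]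
    (j : X ⟶ Xbar) [IsOpenImmersion j] (U : X.Opens) (U' T : Xbar.Opens)
    (hU' : (U' : Set Xbar) = (closure (j.base '' ((U : Set X)ᶜ)))ᶜ)
    (hT : (T : Set Xbar) = (U' : Set Xbar) ∪ Set.range j.base)
    [DCoh.HasRpush j] [CxOX.HasRgammaZ T.ι] (hj : DCoh.RpushPreservesQCoh j)
    (adj : DCoh.restrictD j ⊣ DCoh.Rpush j) :
    (∀ F : DCoh.D X, DCoh.IsQCohD F → CxOX.IsSuppD U.ι F →
        CxOX.IsSuppD U'.ι ((DCoh.Rpush j).obj F) ∧ IsZero ((CxOX.RgammaZ T.ι).obj ((DCoh.Rpush j).obj F))) ∧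
    (∀ F : DCoh.D X, IsIso (adj.counit.app F)) ∧
    (∀ G : DCoh.D Xbar, DCoh.IsQCohD G → CxOX.IsSuppD U'.ι G → IsZero ((CxOX.RgammaZ T.ι).obj G) →
        IsIso (adj.unit.app G) ∧ DCoh.IsQCohD ((DCoh.restrictD j).obj G) ∧ CxOX.IsSuppD U.ι ((DCoh.restrictD j).obj G)) := by
  have hU : ∀ x : X, x ∉ U → j.base x ∉ U' := fun x hx h => by
    have h' : j.base x ∈ (U' : Set Xbar) := h
    rw [hU'] at h'
    exact h' (subset_closure ⟨x, hx, rfl⟩)
  have hjT : ∀ x : X, j.base x ∈ T := fun x => by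
    show j.base x ∈ (T : Set Xbar)
    rw [hT]
    exact Or.inr ⟨x, rfl⟩
  haveI := Groth.Agent.Lib.DerivedOX.Exists.hasRpush T.ι
  refine ⟨fun F _ hF => ⟨?_, ?_⟩, fun F => ?_, fun G hGq hG hΓ => ⟨?_, ?_, ?_⟩⟩
  · haveI := Groth.Agent.Lib.DerivedOX.Exists.hasRpush (j ∣_ U')
    refine (Groth.Agent.Lib.DerivedOX.OpenImm.isSuppD_iff U'.ι _).2
      (((DCoh.Rpush (j ∣_ U')).map_isZero ?_).of_iso
        ((Groth.Agent.Lib.DerivedOX.RestrictRpush.restrictD_Rpush_iso j U').app _))
    refine Groth.Agent.Lib.DerivedOX.OpenSupport.isZero_restrictD_of_support (j ⁻¹ᵁ U').ι F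
      fun i (w : (j ⁻¹ᵁ U' : AlgebraicGeometry.Scheme.{u})) hw => ?_
    exact hF i hw ⟨⟨_, not_not.1 fun hn => hU _ hn w.2⟩, rfl⟩
  · have hΓF := Groth.Agent.Lib.DerivedOX.GammaZTriangle.isZero_restrict_RgammaZ T.ι ((DCoh.Rpush j).obj F)
    have hj' : CategoryTheory.Limits.IsZero ((DCoh.restrictD j).obj
        ((CxOX.RgammaZ T.ι).obj ((DCoh.Rpush j).obj F))) :=
      Groth.Agent.Lib.DerivedOX.OpenSupport.isZero_restrictD_of_support j _ fun i x hx =>
        Groth.Agent.Lib.DerivedOX.OpenImm.not_mem_support_of_isZero_restrict T.ι hΓF i ⟨_, hjT x⟩ hx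
    rw [CategoryTheory.Limits.IsZero.iff_id_eq_zero]
    refine (Groth.Agent.Lib.DerivedOX.GammaZTriangle.existsUnique_lift T.ι hΓF
      ((CxOX.RgammaZToId T.ι).app ((DCoh.Rpush j).obj F))).unique (CategoryTheory.Category.id_comp _) ?_
    rw [CategoryTheory.Limits.zero_comp]
    exact (Groth.Agent.Lib.DerivedOX.OpenImm.eq_zero_of_isZero_restrict j hj' (CategoryTheory.Iso.refl _) _).symm
  · exact @CategoryTheory.NatIso.isIso_app_of_isIso _ _ _ _ _ _ adj.counit
      (Groth.Agent.Lib.DerivedOX.OpenImm.isIso_counit j adj) F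
  · exact Groth.Agent.S14366.isIso_unit j U' T hT adj G
      ((Groth.Agent.Lib.DerivedOX.OpenImm.isSuppD_iff U'.ι G).1 hG) hΓ
  · exact fun i => haveI := hGq i
      Groth.Agent.Lib.CohBasics.Closure.isQCoh_of_iso
        (Groth.Agent.Lib.Perfect.Coherent.homologyIso j G i).symm
  · intro i x hx
    rw [Groth.Agent.Lib.Modules.Support.support_congr (Groth.Agent.Lib.Perfect.Coherent.homologyIso j G i),
      Groth.Agent.Lib.Modules.Support.support_restrict] at hx
    rintro ⟨u, hu⟩
    subst hu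
    have h2 : j.base (U.ι.base u) ∈ (U' : Set Xbar)ᶜ := fun h' => hG i hx ⟨⟨_, h'⟩, rfl⟩
    rw [hU', compl_compl] at h2
    have hop : IsOpen (j.base '' (U : Set X)) := j.isOpenEmbedding.isOpenMap _ U.2
    obtain ⟨z, ⟨v, hv, rfl⟩, ⟨v', hv', hvv⟩⟩ := mem_closure_iff.1 h2 _ hop ⟨_, u.2, rfl⟩
    exact hv' (j.isOpenEmbedding.injective hvv ▸ hv)

end Groth.Agent.S14366
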