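import Groth.Statements.S14367
import Groth.Agent.Lib.DerivedOX.GammaZTriangle
import Groth.Agent.Lib.DerivedOX.ProjectionLocal
import Groth.Agent.S1118
import Groth.Agent.Lib.DerivedOX.TensorTri


set_option autoImplicit false
universe u
open CategoryTheory CategoryTheory.Limits AlgebraicGeometry
attribute [local instance] HasDerivedCategory.standard
open CxOX

namespace Groth.Agent.S14367

/-- Let X be a Noetherian scheme, U ⊆ X an open subscheme with closed complement Z, F an object of
D(O_X) and E a cochain complex of O_X-modules, both with quasi-coherent cohomology sheaves vanishing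
outside a bounded range of degrees, and let the derived functor − ⊗^L E on D(O_X) exist. Then the
morphism (RΓ_Z(F)) ⊗^L E ⟶ F ⊗^L E induced by RΓ_Z(F) ⟶ F factors through the canonical morphism
RΓ_Z(F ⊗^L E) ⟶ F ⊗^L E, and every morphism (RΓ_Z(F)) ⊗^L E ⟶ RΓ_Z(F ⊗^L E) giving such a
factorisation is an isomorphism; this is the isomorphism RΓ_Z(F) ⊗^L E ≅ RΓ_Z(F ⊗^L E) (the
companion isomorphism F ⊗^L RΓ_Z(E) ≅ RΓ_Z(F ⊗^L E) differs from it by the symmetry of ⊗^L).
(Throughout, RΓ with support is the total right derived functor of the sheaf of sections supported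
in the closed subset. The published statement derives instead the functor of sections killed by some
power of a defining ideal; on complexes with quasi-coherent cohomology sheaves over a Noetherian
scheme the two derived functors agree.) -/
theorem result {X : Scheme.{u}} [IsNoetherian X] (U : X.Opens) [CxOX.HasRgammaZ U.ι]
    (F : DCoh.D X) (hF : DCoh.IsQCohD F) (a b : ℤ) (hFa : DerivedCategory.IsGE F a) (hFb : DerivedCategory.IsLE F b)
    (E : CochainComplex X.Modules ℤ) (hE : DCoh.IsQCohD (DCoh.toD X E))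
    (a' b' : ℤ) (hEa : DerivedCategory.IsGE (DCoh.toD X E) a') (hEb : DerivedCategory.IsLE (DCoh.toD X E) b')
    [DCoh.HasLTensorCx E] :
    (∃ φ : (DCoh.LTensorCx E).obj ((CxOX.RgammaZ U.ι).obj F) ⟶ (CxOX.RgammaZ U.ι).obj ((DCoh.LTensorCx E).obj F),
        φ ≫ (CxOX.RgammaZToId U.ι).app ((DCoh.LTensorCx E).obj F) =
          (DCoh.LTensorCx E).map ((CxOX.RgammaZToId U.ι).app F)) ∧
    ∀ φ : (DCoh.LTensorCx E).obj ((CxOX.RgammaZ U.ι).obj F) ⟶ (CxOX.RgammaZ U.ι).obj ((DCoh.LTensorCx E).obj F),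
        φ ≫ (CxOX.RgammaZToId U.ι).app ((DCoh.LTensorCx E).obj F) =
          (DCoh.LTensorCx E).map ((CxOX.RgammaZToId U.ι).app F) → IsIso φ := by
  haveI := Groth.Agent.Lib.DerivedOX.Exists.hasRpush U.ι
  haveI := Groth.Agent.Lib.DerivedOX.LeftExists.hasLpull U.ι
  have hA := Groth.Agent.Lib.DerivedOX.ProjectionLocal.isZero_restrict_LTensor U.ι E
    (Groth.Agent.Lib.DerivedOX.GammaZTriangle.isZero_restrict_RgammaZ U.ι F)
  refine ⟨(Groth.Agent.Lib.DerivedOX.GammaZTriangle.existsUnique_lift U.ι hA _).exists, fun φ hφ => ?_⟩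
  obtain ⟨R, e, a, δ, hT⟩ := Groth.Agent.Lib.DerivedOX.GammaZTriangle.exists_triangle U.ι F
  let M := DerivedCategory.Q.objPreimage ((DCoh.Lpull U.ι).obj (DCoh.toD X E))
  haveI := Groth.Agent.Lib.DerivedOX.LeftExists.hasLTensorCx M
  obtain ⟨p⟩ := S1118.result U.ι ((DCoh.restrictD U.ι).obj F)
    (Groth.Agent.Lib.DerivedOX.CompactUnit.isQCohD_restrictD _ hF) E hE M ⟨DerivedCategory.Q.objObjPreimageIso _⟩
  obtain ⟨δ', hT'⟩ := Groth.Agent.Lib.DerivedOX.TensorTri.exists_dist E _ hT
  exact Groth.Agent.Lib.DerivedOX.GammaZTriangle.isIso_lift U.ι hA hT'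
    ((DCoh.LTensorCx E).mapIso e ≪≫ p) φ hφ

end Groth.Agent.S14367
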