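import Groth.Statements.S14369
import Groth.Agent.Lib.VarDim.Irreducible
-- import your own Groth.Agent.* helpers here

set_option autoImplicit false
universe u
open CategoryTheory CategoryTheory.Limits AlgebraicGeometry
open Variety

namespace Groth.Agent.S14369

open Groth.Agent.Lib.VarDim.Basic Groth.Agent.Lib.VarDim.Fibre Groth.Agent.Lib.VarDim.Semicont Groth.Agent.Lib.VarDim.Irreducible in
/-- Let k be an algebraically closed field, X and Y schemes of finite type over k with Y irreducible,
and f : X → Y a k-morphism whose underlying continuous map is closed. Suppose that for some natural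
number d the fibre of f over every closed point y of Y (the subspace of points mapping to y) is
irreducible of dimension d. Then X is irreducible and dim X = d + dim Y. (The published statement is
for varieties, i.e. reduced separated schemes; this row assumes neither.) -/
theorem result (k : Type u) [Field k] [IsAlgClosed k]
    {X Y : Scheme.{u}} (qX : X ⟶ Spec (CommRingCat.of k)) (qY : Y ⟶ Spec (CommRingCat.of k))
    [LocallyOfFiniteType qX] [QuasiCompact qX] [LocallyOfFiniteType qY] [QuasiCompact qY]
    (f : X ⟶ Y) (hf : f ≫ qY = qX) [IrreducibleSpace ↥Y] (hcl : IsClosedMap f.base) (d : ℕ)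
    (hirr : ∀ y : ↥Y, IsClosed ({y} : Set ↥Y) → IsIrreducible (f.base ⁻¹' {y}))
    (hdim : ∀ y : ↥Y, IsClosed ({y} : Set ↥Y) → topologicalKrullDim ↥(f.base ⁻¹' {y}) = d) :
    IrreducibleSpace ↥X ∧ topologicalKrullDim ↥X = d + topologicalKrullDim ↥Y := by
  haveI : CompactSpace ↥X := QuasiCompact.compactSpace_of_compactSpace qX
  haveI : IsLocallyNoetherian X := LocallyOfFiniteType.isLocallyNoetherian qX
  haveI : AlgebraicGeometry.IsNoetherian X := ⟨⟩
  haveI : TopologicalSpace.NoetherianSpace ↥X := inferInstance
  have H := fibresIrred_of qX f d hirr hdim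
  obtain ⟨z, hz, hzη⟩ := exists_dominant qX qY f H
  obtain ⟨U, hU, hzU, hUs⟩ := exists_open_subset_closure hz
  obtain ⟨hd, hfull⟩ := component qX qY f hf H hU hzU hUs
  haveI : JacobsonSpace ↥X := LocallyOfFiniteType.jacobsonSpace qX
  have himg : f.base '' closure {z} = Set.univ := by
    refine Set.eq_univ_of_univ_subset ?_
    rw [← (genericPoint_spec ↥Y).def]
    exact (hcl _ isClosed_closure).closure_subset_iff.2
      (Set.singleton_subset_iff.2 ⟨z, subset_closure rfl, hzη⟩)
  have hsub : closedPoints ↥X ⊆ closure {z} := fun x hx => by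
    have hy := isClosed_apply qX qY f hf hx
    obtain ⟨x₁, hx₁, hx₁y⟩ := himg.ge (Set.mem_univ (f x))
    exact specializes_iff_mem_closure.1
      (hfull (f x) hy x₁ (specializes_iff_mem_closure.2 hx₁) hx₁y x rfl)
  have huniv : closure ({z} : Set ↥X) = Set.univ := by
    refine Set.eq_univ_of_univ_subset ?_
    rw [← closure_closedPoints (X := ↥X)]
    exact closure_minimal hsub isClosed_closure
  haveI hirrX : IrreducibleSpace ↥X :=
    (irreducibleSpace_def _).2 (by rw [Set.top_eq_univ, ← huniv]; exact isIrreducible_singleton.closure)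
  refine ⟨hirrX, ?_⟩
  rw [topologicalKrullDim_scheme_eq, topologicalKrullDim_isGenericPoint qX (ξ := z) huniv,
    topologicalKrullDim_irreducibleSpace qY, hd, hzη, Nat.cast_add, add_comm]

end Groth.Agent.S14369
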