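import Groth.Statements.S14370
import Groth.Agent.Lib.VarDim.Irreducible
-- import your own Groth.Agent.* helpers here

set_option autoImplicit false
universe u
open CategoryTheory CategoryTheory.Limits AlgebraicGeometry
open Variety

namespace Groth.Agent.S14370

open Groth.Agent.Lib.VarDim.Basic Groth.Agent.Lib.VarDim.Fibre Groth.Agent.Lib.VarDim.Semicont Groth.Agent.Lib.VarDim.Irreducible in
/-- Let k be an algebraically closed field, X and Y schemes of finite type over k with Y irreducible,
and f : X → Y a k-morphism. Suppose that X is pure-dimensional (every irreducible component of X has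
dimension dim X) and that for some natural number d the fibre of f over every closed point y of Y
(the subspace of points mapping to y) is irreducible of dimension d. Then X is irreducible and dim X
= d + dim Y. (The published statement is for varieties, i.e. reduced separated schemes; this row
assumes neither.) -/
theorem result (k : Type u) [Field k] [IsAlgClosed k]
    {X Y : Scheme.{u}} (qX : X ⟶ Spec (CommRingCat.of k)) (qY : Y ⟶ Spec (CommRingCat.of k))
    [LocallyOfFiniteType qX] [QuasiCompact qX] [LocallyOfFiniteType qY] [QuasiCompact qY]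
    (f : X ⟶ Y) (hf : f ≫ qY = qX) [IrreducibleSpace ↥Y]
    (hpure : ∀ Z ∈ irreducibleComponents (↥X), topologicalKrullDim ↥Z = topologicalKrullDim ↥X) (d : ℕ)
    (hirr : ∀ y : ↥Y, IsClosed ({y} : Set ↥Y) → IsIrreducible (f.base ⁻¹' {y}))
    (hdim : ∀ y : ↥Y, IsClosed ({y} : Set ↥Y) → topologicalKrullDim ↥(f.base ⁻¹' {y}) = d) :
    IrreducibleSpace ↥X ∧ topologicalKrullDim ↥X = d + topologicalKrullDim ↥Y := by
  haveI : CompactSpace ↥X := QuasiCompact.compactSpace_of_compactSpace qX
  haveI : IsLocallyNoetherian X := LocallyOfFiniteType.isLocallyNoetherian qX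
  haveI : AlgebraicGeometry.IsNoetherian X := ⟨⟩
  haveI : TopologicalSpace.NoetherianSpace ↥X := inferInstance
  have H := fibresIrred_of qX f d hirr hdim
  haveI : JacobsonSpace ↥X := LocallyOfFiniteType.jacobsonSpace qX
  obtain ⟨z, hz, hzη⟩ := exists_dominant qX qY f H
  obtain ⟨U, hU, hzU, hUs⟩ := exists_open_subset_closure hz
  obtain ⟨hd, -⟩ := component qX qY f hf H hU hzU hUs
  have hzC : closure {z} ∈ irreducibleComponents ↥X :=
    Groth.Agent.Lib.Cyc.FieldDim.closure_mem_irreducibleComponents z hz
  have hX : topologicalKrullDim ↥X = ((pdim qY (genericPoint ↥Y) + d : ℕ) : WithBot ℕ∞) := by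
    rw [← hpure _ hzC, topologicalKrullDim_isGenericPoint qX (ξ := z) isGenericPoint_closure, hd, hzη]
  have hall : ∀ C ∈ irreducibleComponents ↥X, C = closure {z} := by
    intro C hC
    obtain ⟨w, hw, hwmax, hwdim, -, -⟩ := component_facts qX qY f hf H hC
    have h1 := hpure C hC
    rw [hwdim, hX] at h1
    have h2 : pdim qY (genericPoint ↥Y) + d = pdim qY (f w) + d := by exact_mod_cast h1.symm
    have h3 : genericPoint ↥Y = f w :=
      eq_of_pdim_le qY (genericPoint_specializes _) (by omega)
    rw [← hw.def, dominant_unique qX qY f hf H hz hwmax hzη h3.symm]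
  have huniv : closure ({z} : Set ↥X) = Set.univ := by
    refine Set.eq_univ_of_forall fun x => ?_
    rw [← hall _ (irreducibleComponent_mem_irreducibleComponents x)]
    exact mem_irreducibleComponent
  haveI hirrX : IrreducibleSpace ↥X :=
    (irreducibleSpace_def _).2 (by rw [Set.top_eq_univ, ← huniv]; exact isIrreducible_singleton.closure)
  refine ⟨hirrX, ?_⟩
  rw [hX, topologicalKrullDim_irreducibleSpace qY, Nat.cast_add, add_comm]

end Groth.Agent.S14370
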