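import Groth.Statements.S14371
import Groth.Agent.Lib.Regular.Adapted

set_option autoImplicit false
universe u
open CAlg

namespace Groth.Agent.S14371

/-- Let R be a regular local ring of dimension n with maximal ideal m and residue field κ, and I, J
ideals of R such that R/I and R/J are regular local rings of dimensions a and b (two subvarieties
smooth at the point). Suppose the quotient R/(I + J) is local with cotangent space m/(m² + I + J) of
dimension a + b − n over κ (the tangent spaces of the two subvarieties meet in the expected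
dimension, i.e. they intersect transversally at the point). Then R/(I + J) is a regular local ring
of dimension a + b − n; in particular I + J is a prime ideal. (The published statement is about the
local rings of a smooth variety over an algebraically closed field at a point where two smooth
closed subvarieties meet transversally, and also states the resulting equalities of tangent spaces
and of ideals; this row is the local-ring form, for an arbitrary regular local ring.) -/
theorem result {R : Type u} [CommRing R] [IsRegularLocalRing R]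
    (I J : Ideal R) [IsRegularLocalRing (R ⧸ I)] [IsRegularLocalRing (R ⧸ J)] [IsLocalRing (R ⧸ (I ⊔ J))]
    (n a b : ℕ) (hn : ringKrullDim R = n) (ha : ringKrullDim (R ⧸ I) = a) (hb : ringKrullDim (R ⧸ J) = b)
    (ht : Module.finrank (IsLocalRing.ResidueField (R ⧸ (I ⊔ J))) (IsLocalRing.CotangentSpace (R ⧸ (I ⊔ J))) + n = a + b) :
    IsRegularLocalRing (R ⧸ (I ⊔ J)) ∧ ringKrullDim (R ⧸ (I ⊔ J)) = ((a + b - n : ℕ) : WithBot ℕ∞) := by
  classical
  have hsp : ∀ (A : Type u) [CommRing A] [IsRegularLocalRing A] (m : ℕ), ringKrullDim A = m →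
      (IsLocalRing.maximalIdeal A).spanFinrank = m := fun A _ _ m hm => by
    have h := IsRegularLocalRing.spanFinrank_maximalIdeal (R := A)
    rw [hm] at h
    exact_mod_cast h
  obtain ⟨s, t, hs, -, hlen, hta⟩ := Lib.Regular.Adapted.exists_adapted n R (hsp R n hn) J
  rw [hsp _ b hb] at hta
  have hc : (IsLocalRing.maximalIdeal (R ⧸ (I ⊔ J))).spanFinrank = a + b - n := by
    rw [IsLocalRing.spanFinrank_maximalIdeal_eq_finrank_cotangentSpace]
    omega
  have hIK : I ≤ (I ⊔ J) := le_sup_left
  set π := Ideal.Quotient.mk I with hπ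
  let F : Finset (R ⧸ I) := (s.map π).toFinset
  have hF : Ideal.span (F : Set (R ⧸ I)) = J.map π := by
    rw [← hs, Ideal.map_ofList, Ideal.ofList]
    congr 1
    exact Set.ext fun r => List.mem_toFinset
  have hsub : (F : Set (R ⧸ I)) ⊆ Ring.jacobson (R ⧸ I) := by
    rw [IsLocalRing.ringJacobson_eq_maximalIdeal]
    intro r hr
    have hJ : J ≠ ⊤ := fun h => not_subsingleton (R ⧸ J) (Ideal.Quotient.subsingleton_iff.mpr h)
    have h1 : r ∈ J.map π := hF ▸ Ideal.subset_span hr
    rw [Lib.Regular.Quotient.maximalIdeal_quotient]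
    exact Ideal.map_mono (IsLocalRing.le_maximalIdeal hJ) h1
  have h1 := ringKrullDim_le_ringKrullDim_quotient_add_card F hsub
  rw [hF, ha] at h1
  have e : ((R ⧸ I) ⧸ J.map π) ≃+* R ⧸ (I ⊔ J) := DoubleQuot.quotQuotEquivQuotSup I J
  rw [ringKrullDim_eq_of_ringEquiv e] at h1
  have hcard : F.card ≤ n - b := by
    refine (List.toFinset_card_le _).trans ?_
    rw [List.length_map]
    omega
  have h2 : ringKrullDim (R ⧸ (I ⊔ J)) ≤ ((a + b - n : ℕ) : WithBot ℕ∞) :=
    hc ▸ ringKrullDim_le_spanFinrank_maximalIdeal (R ⧸ (I ⊔ J))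
  have h3 : ((a + b - n : ℕ) : WithBot ℕ∞) ≤ ringKrullDim (R ⧸ (I ⊔ J)) := by
    refine (ENat.WithBot.add_le_add_natCast_right_iff (c := F.card)).mp (le_trans ?_ h1)
    norm_cast
    omega
  exact ⟨.of_spanFinrank_maximalIdeal_le _ (hc ▸ h3), le_antisymm h2 h3⟩

end Groth.Agent.S14371
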