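import Groth.Statements.S14372
import Groth.Agent.H83.Elem.CommonZero
import Mathlib.RingTheory.MvPolynomial.EulerIdentity
import Groth.Agent.H83.Cubic.LineExist

set_option autoImplicit false
universe u
open Fano

namespace Groth.Agent.S14372

/-- Over an algebraically closed field k of arbitrary characteristic, let f be a homogeneous form of
degree d ≥ 2 in n + 1 variables and U a linear subspace of k^(n+1) on which f vanishes, such that at
every nonzero vector of U some partial derivative of f does not vanish (the hypersurface f = 0 in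
P^n contains the r-plane P(U), r + 1 = dim U, and is smooth at every point of it). Then 2 · dim U ≤
n + 1, i.e. r ≤ (n − 1)/2. (The published statement assumes the hypersurface smooth everywhere; this
row assumes smoothness only along P(U).) -/
theorem result (k : Type u) [Field k] [IsAlgClosed k]
    (n d : ℕ) (hd : 2 ≤ d) (f : MvPolynomial (Fin (n + 1)) k) (hf : f.IsHomogeneous d)
    (U : Submodule k (Fin (n + 1) → k)) (hU : ∀ u ∈ U, MvPolynomial.eval u f = 0)
    (hsm : ∀ u ∈ U, u ≠ 0 → ∃ i : Fin (n + 1), MvPolynomial.eval u (MvPolynomial.pderiv i f) ≠ 0) :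
    2 * Module.finrank k ↥U ≤ n + 1 := by
  classical
  by_contra hlt
  push Not at hlt
  obtain ⟨W, hW⟩ := U.exists_isCompl
  have hdim := Submodule.finrank_add_eq_of_isCompl hW
  rw [Module.finrank_fintype_fun_eq_card, Fintype.card_fin] at hdim
  let b := Module.finBasis k ↥U
  let w := Module.finBasis k ↥W
  let L : Fin (n + 1) → MvPolynomial (Fin (Module.finrank k ↥U)) k := fun i =>
    ∑ j, MvPolynomial.C ((b j : Fin (n + 1) → k) i) * MvPolynomial.X j
  let P : Fin (Module.finrank k ↥W) → MvPolynomial (Fin (Module.finrank k ↥U)) k := fun l =>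
    ∑ i, MvPolynomial.C ((w l : Fin (n + 1) → k) i) * MvPolynomial.aeval L (MvPolynomial.pderiv i f)
  have hev : ∀ x (i : Fin (n + 1)), MvPolynomial.eval x (MvPolynomial.aeval L (MvPolynomial.pderiv i f)) =
      MvPolynomial.eval ((∑ j, x j • b j : ↥U) : Fin (n + 1) → k) (MvPolynomial.pderiv i f) := by
    intro x i
    rw [← MvPolynomial.aeval_eq_eval, ← AlgHom.comp_apply, MvPolynomial.comp_aeval,
      MvPolynomial.aeval_eq_eval]
    congr 2
    funext e
    simp [L, MvPolynomial.aeval_eq_eval, mul_comm]
  obtain ⟨x, hx, hzero⟩ := Groth.Agent.H83.Elem.exists_common_zero P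
    (by rw [Fintype.card_fin]; omega) (fun l => by
      simp only [P, map_sum, map_mul, MvPolynomial.eval_C]
      refine Finset.sum_eq_zero fun i _ => mul_eq_zero_of_right _ ?_
      rw [hev]
      simp only [Pi.zero_apply, zero_smul, Finset.sum_const_zero, ZeroMemClass.coe_zero]
      exact Groth.Agent.H83.Elem.eval_zero_of_isHomogeneous hf.pderiv (by omega))
  set u : ↥U := ∑ j, x j • b j with hu
  have hu0 : (u : Fin (n + 1) → k) ≠ 0 := fun h =>
    hx (funext (Fintype.linearIndependent_iff.1 b.linearIndependent x (Subtype.ext h)))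
  let D : (Fin (n + 1) → k) →ₗ[k] k :=
    ∑ i, MvPolynomial.eval (u : Fin (n + 1) → k) (MvPolynomial.pderiv i f) • LinearMap.proj i
  have hDU : U ≤ LinearMap.ker D := by
    intro v hv
    set γ : Fin (n + 1) → Polynomial k := fun e =>
      Polynomial.C ((u : Fin (n + 1) → k) e) + Polynomial.C (v e) * Polynomial.X
    have hz : MvPolynomial.aeval γ f = 0 := Polynomial.funext fun t => by
      rw [Groth.Agent.H83.LineExist.eval_aeval_poly, Polynomial.eval_zero]
      have : (fun e => (γ e).eval t) = (u : Fin (n + 1) → k) + t • v := funext fun e => by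
        simp [γ, mul_comm t]
      rw [this]
      exact hU _ (U.add_mem u.2 (U.smul_mem t hv))
    have h := congrArg (fun P => (Polynomial.derivative P).eval 0) hz
    simp only [Groth.Agent.H83.LineExist.derivative_aeval, Polynomial.eval_finsetSum,
      Polynomial.eval_mul, Groth.Agent.H83.LineExist.eval_aeval_poly, map_zero,
      Polynomial.eval_zero] at h
    rw [LinearMap.mem_ker, ← h]
    simp only [D, LinearMap.sum_apply, LinearMap.smul_apply, LinearMap.proj_apply, smul_eq_mul]
    refine Finset.sum_congr rfl fun e _ => ?_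
    have h0 : (fun e => (γ e).eval 0) = (u : Fin (n + 1) → k) := funext fun e => by simp [γ]
    rw [h0, mul_comm]
    congr 1
    simp [γ]
  have hDW : W ≤ LinearMap.ker D := by
    intro v hv
    have : ∀ l, D (w l) = 0 := fun l => by
      rw [← hzero l]
      simp [P, D, hev, ← hu, mul_comm]
    have h2 : D.comp W.subtype = 0 := w.ext fun l => by simpa using this l
    exact LinearMap.congr_fun h2 ⟨v, hv⟩
  obtain ⟨i, hi⟩ := hsm u u.2 hu0
  have := (sup_le hDU hDW) (hW.sup_eq_top ▸ Submodule.mem_top : (Pi.single i 1 : Fin (n + 1) → k) ∈ U ⊔ W)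
  exact hi (by simpa [D, Pi.single_apply] using this)

end Groth.Agent.S14372
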