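import Groth.Statements.S14373
import Groth.Agent.Lib.PolyFun45.Sing

set_option autoImplicit false
universe u
open Fano

namespace Groth.Agent.S14373

/-- Over an algebraically closed field k of arbitrary characteristic, let d ≥ 2 and let U be a linear
subspace of k^(n+1) with 2 · dim U ≤ n + 1 (an r-plane P(U) in P^n with r ≤ (n − 1)/2). Let W be the
linear space of degree-d forms in n + 1 variables vanishing on U (hypersurfaces of degree d
containing P(U)). Then a general member G of W defines a smooth hypersurface: for G outside the zero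
set of some nonzero polynomial function on W, at every nonzero vector where G vanishes some partial
derivative of G is nonzero. -/
theorem result (k : Type u) [Field k] [IsAlgClosed k]
    (n d : ℕ) (hd : 2 ≤ d) (U : Submodule k (Fin (n + 1) → k)) (hU : 2 * Module.finrank k ↥U ≤ n + 1)
    (W : Submodule k (LefPen.Form n k d)) (hW : ∀ G : LefPen.Form n k d, G ∈ W ↔ ∀ u ∈ U, MvPolynomial.eval u G.1 = 0) :
    LefPen.IsGeneric k {G : ↥W | ∀ v : Fin (n + 1) → k, v ≠ 0 → MvPolynomial.eval v G.1.1 = 0 →
      ∃ i : Fin (n + 1), MvPolynomial.eval v (MvPolynomial.pderiv i G.1.1) ≠ 0} := by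
  classical
  obtain ⟨S, A, hScard, hA⟩ := Lib.PolyFun45.Sing.exists_frame U
  obtain ⟨g, hg0, hg⟩ := Lib.PolyFun45.Sing.exists_avoid_sing (k := k) (d := d) hd S
    (hScard.symm ▸ hU)
  let σA := Lib.PolyFun45.Sing.subst A.toLinearMap
  let σB := Lib.PolyFun45.Sing.subst A.symm.toLinearMap
  have hAB : ∀ F, σB (σA F) = F := fun F => MvPolynomial.funext fun y => by
    simp [σA, σB, Lib.PolyFun45.Sing.eval_subst]
  have hBA : ∀ F, σA (σB F) = F := fun F => MvPolynomial.funext fun y => by
    simp [σA, σB, Lib.PolyFun45.Sing.eval_subst]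
  have hsub : ∀ (c : H83.LineExist.Idx n d → k) (y : Fin (n + 1) → k), (∀ i ∉ S, y i = 0) →
      (∀ e, Lib.PolyFun45.Sing.In S e → c e = 0) → MvPolynomial.eval y (H83.LineExist.form c) = 0 := by
    intro c y hy hc
    rw [H83.LineExist.form, map_sum]
    refine Finset.sum_eq_zero fun e _ => ?_
    rw [MvPolynomial.eval_monomial]
    by_cases he : Lib.PolyFun45.Sing.In S e
    · rw [hc e he, zero_mul]
    · simp only [Lib.PolyFun45.Sing.In, not_forall] at he
      obtain ⟨i, hi, hei⟩ := he
      exact mul_eq_zero_of_right _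
        (Finset.prod_eq_zero (Finsupp.mem_support_iff.2 hei) (by simp [hy i hi, zero_pow hei]))
  have hvan : ∀ G : ↥W, ∀ e : H83.LineExist.Idx n d, Lib.PolyFun45.Sing.In S e →
      MvPolynomial.coeff e.1 (σA G.1.1) = 0 := by
    intro G e he
    set c : H83.LineExist.Idx n d → k := fun e => MvPolynomial.coeff e.1 (σA G.1.1)
    have hc : H83.LineExist.form c = σA G.1.1 := H83.LineExist.form_coeff
      (Lib.PolyFun45.Sing.subst_isHomogeneous _ ((MvPolynomial.mem_homogeneousSubmodule _ _).1 G.1.2))
    let q : MvPolynomial (Fin (n + 1)) k :=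
      H83.LineExist.form fun e => if Lib.PolyFun45.Sing.In S e then c e else 0
    have hq : q = 0 := MvPolynomial.funext fun x => by
      rw [map_zero]
      let y : Fin (n + 1) → k := fun i => if i ∈ S then x i else 0
      have h0 : MvPolynomial.eval y (H83.LineExist.form c) = 0 := by
        rw [hc, Lib.PolyFun45.Sing.eval_subst]
        exact (hW G.1).1 G.2 _ ((hA y).2 fun i hi => if_neg hi)
      rw [← h0]
      simp only [q, H83.LineExist.form, map_sum]
      refine Finset.sum_congr rfl fun e _ => ?_
      rw [MvPolynomial.eval_monomial, MvPolynomial.eval_monomial]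
      by_cases hin : Lib.PolyFun45.Sing.In S e
      · rw [if_pos hin]
        congr 1
        refine Finsupp.prod_congr fun i hi => ?_
        simp only [y]
        rw [if_pos (by_contra fun h => Finsupp.mem_support_iff.1 hi (hin i h))]
      · rw [if_neg hin, zero_mul]
        simp only [Lib.PolyFun45.Sing.In, not_forall] at hin
        obtain ⟨i, hi, hei⟩ := hin
        exact (mul_eq_zero_of_right _
          (Finset.prod_eq_zero (Finsupp.mem_support_iff.2 hei) (by simp [y, hi, zero_pow hei]))).symm
    have h := congrArg (MvPolynomial.coeff e.1) hq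
    rw [H83.LineExist.coeff_form, if_pos he, MvPolynomial.coeff_zero] at h
    exact h
  let ext : ({e : H83.LineExist.Idx n d // ¬ Lib.PolyFun45.Sing.In S e} → k) → H83.LineExist.Idx n d → k :=
    fun c e => if h : Lib.PolyFun45.Sing.In S e then 0 else c ⟨e, h⟩
  let mkG : ({e : H83.LineExist.Idx n d // ¬ Lib.PolyFun45.Sing.In S e} → k) → ↥W := fun c =>
    ⟨⟨σB (H83.LineExist.form (ext c)), (MvPolynomial.mem_homogeneousSubmodule _ _).2
      (Lib.PolyFun45.Sing.subst_isHomogeneous _ (H83.LineExist.form_isHomogeneous _))⟩,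
      (hW _).2 fun u hu => by
        rw [Lib.PolyFun45.Sing.eval_subst]
        exact hsub _ _ ((hA _).1 (by simpa using hu)) fun e he => dif_pos he⟩
  let φ : ↥W ≃ₗ[k] ({e : H83.LineExist.Idx n d // ¬ Lib.PolyFun45.Sing.In S e} → k) :=
    { toFun := fun G e => MvPolynomial.coeff e.1.1 (σA G.1.1)
      map_add' := fun G H => by funext e; simp
      map_smul' := fun a G => by funext e; simp
      invFun := mkG
      left_inv := fun G => Subtype.ext (Subtype.ext (by
        show σB (H83.LineExist.form _) = G.1.1
        conv_rhs => rw [← hAB G.1.1]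
        congr 1
        have hG := Lib.PolyFun45.Sing.subst_isHomogeneous A.toLinearMap
          ((MvPolynomial.mem_homogeneousSubmodule _ _).1 G.1.2)
        conv_rhs => rw [← H83.LineExist.form_coeff hG]
        congr 1
        funext e
        by_cases he : Lib.PolyFun45.Sing.In S e
        · simp only [ext, dif_pos he]; exact (hvan G e he).symm
        · simp only [ext, dif_neg he]; rfl))
      right_inv := fun c => funext fun e => by
        show MvPolynomial.coeff e.1.1 (σA (σB (H83.LineExist.form (ext c)))) = c e
        rw [hBA, H83.LineExist.coeff_form]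
        exact dif_neg e.2 }
  refine Lib.PolyFun45.Basic.isGeneric_of φ hg0 fun G hG v hv hvG => ?_
  by_contra hcon
  push Not at hcon
  have hform := H83.LineExist.form_coeff (Lib.PolyFun45.Sing.subst_isHomogeneous A.toLinearMap
    ((MvPolynomial.mem_homogeneousSubmodule _ _).1 G.1.2))
  refine hG (hg (fun e => MvPolynomial.coeff e.1 (σA G.1.1)) (hvan G) (A.symm v)
    (by simpa using hv) ?_ fun i => ?_)
  · rw [hform, Lib.PolyFun45.Sing.eval_subst]
    simpa using hvG
  · rw [hform, Lib.PolyFun45.Sing.pderiv_subst, map_sum]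
    refine Finset.sum_eq_zero fun j _ => ?_
    rw [map_mul, Lib.PolyFun45.Sing.eval_subst]
    exact mul_eq_zero_of_right _ (by simpa using hcon j)

end Groth.Agent.S14373
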