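import Groth.Statements.S14374
import Groth.Agent.Lib.LefPen45.Discriminant


set_option autoImplicit false
universe u
open Fano

namespace Groth.Agent.S14374

/-- Over an algebraically closed field k of arbitrary characteristic, let n ≥ 1 and d ≥ 2, and call a
degree-d form G in n + 1 variables singular when there is a nonzero vector v with G(v) = 0 and all
partial derivatives ∂G/∂x_i(v) = 0 (the hypersurface G = 0 in P^n has a singular point, or G = 0).
Then the singular forms are exactly the zero set of one irreducible polynomial function Δ on the
vector space of degree-d forms: the locus of singular hypersurfaces is an irreducible hypersurface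
in the parameter space. (The published statement concerns the reduced hypersurfaces in the
projective space of degree-d forms, where the singular ones form an irreducible closed subset of
codimension one, and allows every positive degree; for d = 1 no hyperplane is singular, so this row
assumes d ≥ 2, and it is stated on the affine space of all forms.) -/
theorem result (k : Type u) [Field k] [IsAlgClosed k]
    (n d : ℕ) (hn : 1 ≤ n) (hd : 2 ≤ d) :
    ∃ Δ : ↥(Algebra.adjoin k (Set.range (fun l : Module.Dual k (LefPen.Form n k d) => (l : LefPen.Form n k d → k)))),
      Irreducible Δ ∧ ∀ G : LefPen.Form n k d,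
        (∃ v : Fin (n + 1) → k, v ≠ 0 ∧ MvPolynomial.eval v G.1 = 0 ∧
          ∀ i : Fin (n + 1), MvPolynomial.eval v (MvPolynomial.pderiv i G.1) = 0) ↔ Δ.1 G = 0 := by
  obtain ⟨Δ, hirr, hiff⟩ :=
    Groth.Agent.Lib.LefPen45.Discriminant.exists_irreducible (k := k) hn hd
  refine ⟨Groth.Agent.Lib.PolyFun45.Basic.polyEquiv Groth.Agent.Lib.PolyFun45.Forms.coef Δ,
    hirr.map _, fun G => ?_⟩
  exact (hiff G).trans (iff_of_eq (congrArg (· = 0)
    (Groth.Agent.Lib.PolyFun45.Basic.polyEquiv_apply Groth.Agent.Lib.PolyFun45.Forms.coef Δ G).symm))


end Groth.Agent.S14374
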