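import Groth.Statements.S14375
import Groth.Agent.Lib.GeomConn.SepClosed
import Mathlib.AlgebraicGeometry.Geometrically.Irreducible
import Mathlib.AlgebraicGeometry.Morphisms.UniversallyOpen
-- import your own Groth.Agent.* helpers here

set_option autoImplicit false
universe u
open CategoryTheory CategoryTheory.Limits AlgebraicGeometry
open Variety

namespace Groth.Agent.S14375

/-- Let k be an algebraically closed field, F an irreducible scheme of finite type over k, and f : X → Y
a k-morphism of schemes of finite type over k with Y irreducible which is locally trivial with fibre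
F: every point of Y has an open neighbourhood V such that f⁻¹(V) is isomorphic over V to V ×_k F.
Then X is irreducible. (The published statement is for varieties, i.e. reduced separated schemes;
this row assumes neither.) -/
theorem result (k : Type u) [Field k] [IsAlgClosed k]
    {X Y F : Scheme.{u}} (qX : X ⟶ Spec (CommRingCat.of k)) (qY : Y ⟶ Spec (CommRingCat.of k))
    (qF : F ⟶ Spec (CommRingCat.of k))
    [LocallyOfFiniteType qX] [QuasiCompact qX] [LocallyOfFiniteType qY] [QuasiCompact qY]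
    [LocallyOfFiniteType qF] [QuasiCompact qF] [IrreducibleSpace ↥F] [IrreducibleSpace ↥Y]
    (f : X ⟶ Y) (hf : f ≫ qY = qX)
    (htriv : ∀ y : ↥Y, ∃ V : Y.Opens, y ∈ V ∧
      ∃ e : (↑(f ⁻¹ᵁ V) : Scheme.{u}) ≅ pullback (V.ι ≫ qY) qF, e.hom ≫ pullback.fst (V.ι ≫ qY) qF = f ∣_ V) :
    IrreducibleSpace ↥X := by
  haveI hGI : GeometricallyIrreducible qF := by
    refine ⟨geometrically_iff_of_commRing_of_isClosedUnderIsomorphisms.mpr fun L _ _ => ?_⟩
    haveI := Groth.Agent.Lib.GeomConn.SepClosed.geometricallyIrreducible_specMap k L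
    infer_instance
  have hloc : ∀ y : ↥Y, ∃ V : Y.Opens, y ∈ V ∧ IsOpenMap (f ∣_ V).base ∧
      (∀ v : ↥V, IsIrreducible ((f ∣_ V).base ⁻¹' {v})) := by
    intro y
    obtain ⟨V, hyV, e, he⟩ := htriv y
    refine ⟨V, hyV, ?_, fun v => ?_⟩
    · rw [← he]; exact (e.hom ≫ pullback.fst (V.ι ≫ qY) qF).isOpenMap
    · rw [← he]
      exact ((pullback.fst (V.ι ≫ qY) qF).isIrreducible_preimage
        (pullback.fst (V.ι ≫ qY) qF).isOpenMap isIrreducible_singleton).preimage
          e.hom.isOpenEmbedding (by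
            obtain ⟨p, hp⟩ := (pullback.fst (V.ι ≫ qY) qF).surjective v
            obtain ⟨x, hx⟩ := e.hom.surjective p
            exact ⟨p, hp, x, hx⟩)
  choose V hV hopen hfib using hloc
  have hmap : IsOpenMap f.base := by
    intro U hU
    rw [isOpen_iff_forall_mem_open]
    rintro _ ⟨x, hx, rfl⟩
    refine ⟨(V (f x)).ι '' ((f ∣_ V (f x)) '' ((f ⁻¹ᵁ V (f x)).ι ⁻¹' U)), ?_,
      (V (f x)).ι.isOpenEmbedding.isOpenMap _ (hopen _ _ (hU.preimage (Scheme.Hom.continuous _))),
      ⟨_, ⟨⟨x, hV (f x)⟩, hx, rfl⟩, ?_⟩⟩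
    · rintro _ ⟨_, ⟨a, ha, rfl⟩, rfl⟩
      refine ⟨_, ha, ?_⟩
      rw [← Scheme.Hom.comp_apply, ← Scheme.Hom.comp_apply, morphismRestrict_ι]
    · change ((f ∣_ V (f x)) ≫ (V (f x)).ι) ⟨x, hV (f x)⟩ = _
      rw [morphismRestrict_ι]
      rfl
  have hfibX : ∀ y : ↥Y, IsIrreducible (f.base ⁻¹' {y}) := by
    intro y
    have := (hfib y ⟨y, hV y⟩).image (f ⁻¹ᵁ V y).ι (Scheme.Hom.continuous _).continuousOn
    convert this using 1
    ext x
    constructor
    · intro hx
      have hxV : f x ∈ V y := by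
        have : f x = y := hx
        rw [this]; exact hV y
      refine ⟨⟨x, hxV⟩, ?_, rfl⟩
      refine (V y).ι.isOpenEmbedding.injective ?_
      change ((f ∣_ V y) ≫ (V y).ι) ⟨x, hxV⟩ = y
      rw [morphismRestrict_ι]
      exact hx
    · rintro ⟨a, ha, rfl⟩
      show f ((f ⁻¹ᵁ V y).ι a) = y
      rw [← Scheme.Hom.comp_apply, ← morphismRestrict_ι, Scheme.Hom.comp_apply]
      exact congrArg (V y).ι ha
  rw [irreducibleSpace_def]
  have := (IrreducibleSpace.isIrreducible_univ ↥Y).preimage_of_isPreirreducible_fiber f.base hmap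
    (fun y => (hfibX y).isPreirreducible) ?_
  · simpa using this
  · obtain ⟨x, hx⟩ := (hfibX (genericPoint ↥Y)).nonempty
    exact ⟨_, trivial, x, hx⟩

end Groth.Agent.S14375
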