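import Groth.Statements.S14378
import Groth.Agent.Lib.VarDim.Irreducible
-- import your own Groth.Agent.* helpers here

set_option autoImplicit false
universe u
open CategoryTheory CategoryTheory.Limits AlgebraicGeometry
open Variety

namespace Groth.Agent.S14378

open Groth.Agent.Lib.VarDim.Basic Groth.Agent.Lib.VarDim.Fibre Groth.Agent.Lib.VarDim.Semicont Groth.Agent.Lib.VarDim.Irreducible in
/-- Let k be an algebraically closed field, X and Y schemes of finite type over k with Y irreducible,
and f : X → Y a k-morphism such that for some natural number d the fibre of f over every closed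
point of Y (the subspace of points mapping to it) is irreducible of dimension d. Then (i) exactly
one irreducible component of X has dense image in Y, and (ii) each irreducible component Z of X is
made up of whole fibres — if Z meets the fibre over a closed point then it contains it — and dim Z =
d + dim f(Z)‾, the dimension of the closure of its image. (The published assertions are for
varieties, i.e. reduced separated schemes; this row assumes neither.) -/
theorem result (k : Type u) [Field k] [IsAlgClosed k]
    {X Y : Scheme.{u}} (qX : X ⟶ Spec (CommRingCat.of k)) (qY : Y ⟶ Spec (CommRingCat.of k))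
    [LocallyOfFiniteType qX] [QuasiCompact qX] [LocallyOfFiniteType qY] [QuasiCompact qY]
    (f : X ⟶ Y) (hf : f ≫ qY = qX) [IrreducibleSpace ↥Y] (d : ℕ)
    (hirr : ∀ y : ↥Y, IsClosed ({y} : Set ↥Y) → IsIrreducible (f.base ⁻¹' {y}))
    (hdim : ∀ y : ↥Y, IsClosed ({y} : Set ↥Y) → topologicalKrullDim ↥(f.base ⁻¹' {y}) = d) :
    (∃! Z : Set ↥X, Z ∈ irreducibleComponents ↥X ∧ Dense (f.base '' Z)) ∧
      ∀ Z ∈ irreducibleComponents ↥X,
        (∀ y : ↥Y, IsClosed ({y} : Set ↥Y) → (f.base ⁻¹' {y} ∩ Z).Nonempty → f.base ⁻¹' {y} ⊆ Z) ∧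
        topologicalKrullDim ↥Z = d + topologicalKrullDim ↥(closure (f.base '' Z)) := by
  haveI : CompactSpace ↥X := QuasiCompact.compactSpace_of_compactSpace qX
  haveI : IsLocallyNoetherian X := LocallyOfFiniteType.isLocallyNoetherian qX
  haveI : AlgebraicGeometry.IsNoetherian X := ⟨⟩
  haveI : TopologicalSpace.NoetherianSpace ↥X := inferInstance
  have H := fibresIrred_of qX f d hirr hdim
  obtain ⟨z, hz, hzη⟩ := exists_dominant qX qY f H
  have hdense : ∀ (C : Set ↥X) (w : ↥X), IsGenericPoint w C →
      (Dense (f.base '' C) ↔ f w = genericPoint ↥Y) := by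
    intro C w hw
    have e : closure (f.base '' C) = closure {f w} := (hw.image f.continuous).def.symm
    rw [dense_iff_closure_eq, e]
    constructor
    · intro h
      have h' : f w ⤳ genericPoint ↥Y := specializes_iff_mem_closure.2 (by rw [h]; trivial)
      exact (h'.antisymm (genericPoint_specializes _)).eq
    · intro h; rw [h]; exact (genericPoint_spec ↥Y).def
  refine ⟨⟨closure {z}, ⟨Groth.Agent.Lib.Cyc.FieldDim.closure_mem_irreducibleComponents z hz,
    (hdense _ z isGenericPoint_closure).2 hzη⟩, ?_⟩, fun Z hZ => ?_⟩
  · rintro C ⟨hC, hCd⟩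
    obtain ⟨w, hw, hwmax, -, -, -⟩ := component_facts qX qY f hf H hC
    rw [← hw.def, dominant_unique qX qY f hf H hwmax hz ((hdense C w hw).1 hCd) hzη]
  · obtain ⟨w, hw, -, hdimZ, hdimC, hfull⟩ := component_facts qX qY f hf H hZ
    refine ⟨hfull, ?_⟩
    rw [hdimZ, hdimC, Nat.cast_add, add_comm]

end Groth.Agent.S14378
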