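import Groth.Statements.S14379
import Mathlib.RingTheory.KrullDimension.Polynomial
import Mathlib.RingTheory.KrullDimension.Field
import Mathlib.RingTheory.MvPolynomial.Tower
import Mathlib.RingTheory.FiniteStability
import Groth.Agent.Lib.Dim.Integral

set_option autoImplicit false
open scoped TensorProduct
universe u
open CAlg

namespace Groth.Agent.S14379

section
open MvPolynomial

theorem elim_step {F A : Type*} [Field F] [CommRing A] [Algebra F A] {σ : Type*} [Fintype σ]
    (w : σ → A) (w0 : A) (P : MvPolynomial (Option σ) F) (hP : P ≠ 0)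
    (hev : aeval (fun o => Option.elim o w0 w) P = 0) (e : σ → ℕ) (he0 : ∀ i, e i ≠ 0)
    (he : Set.InjOn (fun α : Option σ →₀ ℕ => α none + ∑ i, e i * α (some i))
      (P.support : Set (Option σ →₀ ℕ))) :
    (aeval (fun i => w i - w0 ^ e i) : MvPolynomial σ F →ₐ[F] A).toRingHom.IsIntegralElem w0 := by
  classical
  set ψ : MvPolynomial σ F →ₐ[F] A := aeval (fun i => w i - w0 ^ e i) with hψ
  let img : Option σ → Polynomial (MvPolynomial σ F) := fun o =>
    Option.elim o Polynomial.X (fun i => Polynomial.X ^ e i + Polynomial.C (X i))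
  let Φ : MvPolynomial (Option σ) F →ₐ[F] Polynomial (MvPolynomial σ F) := aeval img
  have hmonic : ∀ o, (img o).Monic := by
    rintro (_ | i)
    · exact Polynomial.monic_X
    · exact Polynomial.monic_X_pow_add_C _ (he0 i)
  have hdeg : ∀ o, (img o).natDegree = Option.elim o 1 e := by
    rintro (_ | i)
    · exact Polynomial.natDegree_X
    · exact Polynomial.natDegree_X_pow_add_C
  let D : (Option σ →₀ ℕ) → ℕ := fun α => α none + ∑ i, e i * α (some i)
  have hmono : ∀ α c, Φ (monomial α c) = Polynomial.C (C c) * ∏ o, img o ^ α o := by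
    intro α c
    rw [show Φ (monomial α c) = _ from aeval_monomial _ _ _,
      Finsupp.prod_fintype _ _ (fun o => pow_zero _)]
    rfl
  have hpm : ∀ α : Option σ →₀ ℕ, (∏ o, img o ^ α o).Monic :=
    fun α => Polynomial.monic_prod_of_monic _ _ fun o _ => (hmonic o).pow _
  have hpd : ∀ α : Option σ →₀ ℕ, (∏ o, img o ^ α o).natDegree = D α := by
    intro α
    rw [Polynomial.natDegree_prod_of_monic _ _ fun o _ => (hmonic o).pow _]
    simp only [(hmonic _).natDegree_pow, hdeg, Fintype.sum_option, D, Option.elim_none,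
      Option.elim_some, mul_one]
    congr 1
    exact Finset.sum_congr rfl fun i _ => by ring
  obtain ⟨α0, hα0, hmax⟩ := P.support.exists_max_image D (support_nonempty.mpr hP)
  have hc : coeff α0 P ≠ 0 := mem_support_iff.mp hα0
  let q := Polynomial.C (C (coeff α0 P)⁻¹) * Φ P
  have hle : ∀ α ∈ P.support, (Φ (monomial α (coeff α P))).natDegree ≤ D α := by
    intro α _
    rw [hmono]
    exact (Polynomial.natDegree_C_mul_le _ _).trans (hpd α).le
  have hsum : Φ P = ∑ α ∈ P.support, Φ (monomial α (coeff α P)) := by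
    rw [← map_sum]
    congr 1
    exact as_sum P
  have h1 : (Φ P).natDegree ≤ D α0 := by
    rw [hsum]
    exact Polynomial.natDegree_sum_le_of_forall_le _ _
      fun α hα => (hle α hα).trans (hmax α hα)
  have h2 : (Φ P).coeff (D α0) = C (coeff α0 P) := by
    rw [hsum, Polynomial.finsetSum_coeff, Finset.sum_eq_single α0]
    · rw [hmono, Polynomial.coeff_C_mul, ← hpd α0, (hpm α0).coeff_natDegree, mul_one]
    · intro α hα hne
      apply Polynomial.coeff_eq_zero_of_natDegree_lt
      refine lt_of_le_of_lt (hle α hα) (lt_of_le_of_ne (hmax α hα) ?_)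
      exact fun h => hne (he hα hα0 h)
    · exact fun h => (h hα0).elim
  refine ⟨q, ?_, ?_⟩
  · refine Polynomial.monic_of_natDegree_le_of_coeff_eq_one (D α0)
      ((Polynomial.natDegree_C_mul_le _ _).trans h1) ?_
    rw [Polynomial.coeff_C_mul, h2, ← map_mul, inv_mul_cancel₀ hc, map_one]
  · have : Polynomial.eval₂ ψ.toRingHom w0 (Φ P) = aeval (fun o => Option.elim o w0 w) P := by
      let E : Polynomial (MvPolynomial σ F) →+* A := Polynomial.eval₂RingHom ψ.toRingHom w0
      change E (Φ P) = _
      have : E.comp Φ.toRingHom =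
          (aeval (fun o => Option.elim o w0 w) : MvPolynomial (Option σ) F →ₐ[F] A).toRingHom := by
        apply MvPolynomial.ringHom_ext
        · intro r
          simp [E, Φ, ψ, IsScalarTower.algebraMap_apply F (MvPolynomial σ F)]
        · rintro (_ | i) <;> simp [E, Φ, ψ, img]
      exact RingHom.congr_fun this P
    rw [Polynomial.eval₂_mul, this, hev, mul_zero]

theorem digits_inj {M B N : ℕ} (hN : 1 ≤ N) {a b : ℕ} {v w : Fin M → ℕ} (ha : a < B) (hb : b < B)
    (hv : ∀ i, v i < B) (hw : ∀ i, w i < B)
    (h : a + ∑ i : Fin M, N * B ^ (i.val + 1) * v i =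
      b + ∑ i : Fin M, N * B ^ (i.val + 1) * w i) : a = b ∧ v = w := by
  have key : ∀ u : Fin M → ℕ, ∑ i : Fin M, N * B ^ (i.val + 1) * u i =
      (N * B) * ∑ i : Fin M, u i * B ^ i.val := by
    intro u
    rw [Finset.mul_sum]
    exact Finset.sum_congr rfl fun i _ => by ring
  rw [key, key] at h
  have hNB : B ≤ N * B := Nat.le_mul_of_pos_left B hN
  have hm := congrArg (· % (N * B)) h
  simp only [Nat.add_mul_mod_self_left, Nat.mod_eq_of_lt (lt_of_lt_of_le ha hNB),
    Nat.mod_eq_of_lt (lt_of_lt_of_le hb hNB)] at hm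
  subst hm
  refine ⟨rfl, ?_⟩
  have h' := Nat.eq_of_mul_eq_mul_left (lt_of_lt_of_le (by omega : 0 < B) hNB)
    (Nat.add_left_cancel h)
  have := (finFunctionFinEquiv (m := B) (n := M)).injective (a₁ := fun i => ⟨v i, hv i⟩)
    (a₂ := fun i => ⟨w i, hw i⟩)
    (Fin.ext (by simpa [finFunctionFinEquiv_apply] using h'))
  funext i
  exact congrArg Fin.val (congrFun this i)

theorem integral_step {F A : Type*} [Field F] [CommRing A] [Algebra F A] {j : ℕ}
    (v : Fin (j + 1) → A)
    (hv : (aeval v : MvPolynomial (Fin (j + 1)) F →ₐ[F] A).toRingHom.IsIntegral)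
    (P : MvPolynomial (Fin (j + 1)) F) (hP : P ≠ 0) (hev : aeval v P = 0)
    (B N : ℕ) (hB : P.totalDegree < B) (hN : 1 ≤ N) :
    (aeval (fun i : Fin j => v i.castSucc - v (Fin.last j) ^ (N * B ^ (i.val + 1))) :
      MvPolynomial (Fin j) F →ₐ[F] A).toRingHom.IsIntegral := by
  classical
  let e : Fin j → ℕ := fun i => N * B ^ (i.val + 1)
  let eqv : Fin (j + 1) ≃ Option (Fin j) := finSuccEquivLast
  let P' : MvPolynomial (Option (Fin j)) F := rename eqv P
  have hP' : P' ≠ 0 := fun h => hP (rename_injective _ eqv.injective (h.trans (map_zero _).symm))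
  have hev' : aeval (fun o => Option.elim o (v (Fin.last j)) fun i => v i.castSucc) P' = 0 := by
    rw [show P' = rename eqv P from rfl, aeval_rename]
    have hfn : ((fun o => Option.elim o (v (Fin.last j)) fun i => v i.castSucc) ∘ eqv) = v := by
      funext i
      induction i using Fin.lastCases with
      | last => simp [eqv]
      | cast i => simp [eqv]
    rw [hfn]; exact hev
  have hB' : P'.totalDegree < B := lt_of_le_of_lt (totalDegree_rename_le _ P) hB
  have hlt : ∀ α ∈ P'.support, ∀ o, α o < B := fun α hα o =>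
    lt_of_le_of_lt ((monomial_le_degreeOf o hα).trans (degreeOf_le_totalDegree P' o)) hB'
  have hB0 : B ≠ 0 := by omega
  have he : Set.InjOn (fun α : Option (Fin j) →₀ ℕ => α none + ∑ i, e i * α (some i))
      (P'.support : Set (Option (Fin j) →₀ ℕ)) := by
    intro α hα β hβ h
    obtain ⟨h0, h1⟩ := digits_inj hN (hlt α hα none) (hlt β hβ none)
      (fun i => hlt α hα (some i)) (fun i => hlt β hβ (some i)) h
    ext o
    rcases o with _ | i
    · exact h0
    · exact congrFun h1 i
  have hint := elim_step (fun i : Fin j => v i.castSucc) (v (Fin.last j)) P' hP' hev' e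
    (fun i => Nat.mul_ne_zero (by omega) (pow_ne_zero _ hB0)) he
  intro a
  set ψ : MvPolynomial (Fin j) F →ₐ[F] A :=
    aeval (fun i : Fin j => v i.castSucc - v (Fin.last j) ^ e i) with hψ
  letI := ψ.toRingHom.toAlgebra
  let C' := integralClosure (MvPolynomial (Fin j) F) A
  have hmem : ∀ p : MvPolynomial (Fin (j + 1)) F, aeval v p ∈ C' := by
    intro p
    induction p using MvPolynomial.induction_on with
    | C r =>
      rw [aeval_C]
      have : algebraMap F A r = algebraMap (MvPolynomial (Fin j) F) A (C r) := by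
        rw [RingHom.algebraMap_toAlgebra]
        exact (aeval_C (fun i : Fin j => v i.castSucc - v (Fin.last j) ^ e i) r).symm
      rw [this]
      exact isIntegral_algebraMap
    | add p q hp hq => rw [map_add]; exact C'.add_mem hp hq
    | mul_X p i hp =>
      rw [map_mul, aeval_X]
      refine C'.mul_mem hp ?_
      have h0 : v (Fin.last j) ∈ C' := hint
      induction i using Fin.lastCases with
      | last => exact h0
      | cast i =>
        have h1 : v i.castSucc - v (Fin.last j) ^ e i ∈ C' := by
          have : v i.castSucc - v (Fin.last j) ^ e i =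
              algebraMap (MvPolynomial (Fin j) F) A (X i) := by
            rw [RingHom.algebraMap_toAlgebra]
            exact (aeval_X (fun i : Fin j => v i.castSucc - v (Fin.last j) ^ e i) i).symm
          rw [this]
          exact isIntegral_algebraMap
        simpa using C'.add_mem h1 (C'.pow_mem h0 (e i))
  let g : MvPolynomial (Fin (j + 1)) F →+* C' :=
    (aeval v : MvPolynomial (Fin (j + 1)) F →ₐ[F] A).toRingHom.codRestrict C' hmem
  obtain ⟨q, hq1, hq2⟩ := hv a
  have ha : IsIntegral C' a := by
    refine ⟨q.map g, hq1.map g, ?_⟩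
    rw [Polynomial.eval₂_map]
    exact hq2
  exact isIntegral_trans a ha

theorem exists_relation {F A : Type*} [Field F] [CommRing A] [Algebra F A] {j d : ℕ}
    (hd : d < j) (hA : ringKrullDim A ≤ d) (v : Fin j → A)
    (hv : (aeval v : MvPolynomial (Fin j) F →ₐ[F] A).toRingHom.IsIntegral) :
    ∃ P : MvPolynomial (Fin j) F, P ≠ 0 ∧ aeval v P = 0 := by
  by_contra h
  push Not at h
  set ψ : MvPolynomial (Fin j) F →ₐ[F] A := aeval v
  letI := ψ.toRingHom.toAlgebra
  haveI : Algebra.IsIntegral (MvPolynomial (Fin j) F) A := ⟨hv⟩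
  haveI : FaithfulSMul (MvPolynomial (Fin j) F) A :=
    (faithfulSMul_iff_algebraMap_injective _ _).mpr ((injective_iff_map_eq_zero _).mpr
      fun p hp => by_contra fun hne => h p hne hp)
  rw [Groth.Agent.Lib.Dim.Integral.ringKrullDim_eq_of_isIntegral (R := MvPolynomial (Fin j) F),
    MvPolynomial.ringKrullDim_of_isNoetherianRing, ringKrullDim_eq_zero_of_field, zero_add,
    Nat.card_eq_fintype_card, Fintype.card_fin] at hA
  exact absurd (Nat.cast_le.mp hA) (not_le.mpr hd)

theorem main_induction {R : Type*} [CommRing R] {F₁ A₁ F₂ A₂ : Type*}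
    [Field F₁] [CommRing A₁] [Algebra F₁ A₁] [Field F₂] [CommRing A₂] [Algebra F₂ A₂]
    (f₁ : R →+* A₁) (f₂ : R →+* A₂) (d : ℕ) (h₁ : ringKrullDim A₁ ≤ d) (h₂ : ringKrullDim A₂ ≤ d)
    (N : ℕ) (hN : 1 ≤ N) (M : ℕ) (hM : d ≤ M) (u : Fin M → R)
    (hu₁ : (aeval (fun i => f₁ (u i)) : MvPolynomial (Fin M) F₁ →ₐ[F₁] A₁).toRingHom.IsIntegral)
    (hu₂ : (aeval (fun i => f₂ (u i)) : MvPolynomial (Fin M) F₂ →ₐ[F₂] A₂).toRingHom.IsIntegral) :
    ∃ y : Fin d → R, (∀ i, y i ∈ Subring.closure (Set.range fun r : R => r ^ N)) ∧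
      (aeval (fun i => f₁ (u (Fin.castLE hM i) + y i)) :
        MvPolynomial (Fin d) F₁ →ₐ[F₁] A₁).toRingHom.IsIntegral ∧
      (aeval (fun i => f₂ (u (Fin.castLE hM i) + y i)) :
        MvPolynomial (Fin d) F₂ →ₐ[F₂] A₂).toRingHom.IsIntegral := by
  induction M with
  | zero =>
    obtain rfl : d = 0 := Nat.le_zero.mp hM
    exact ⟨0, fun i => i.elim0, by simpa using hu₁, by simpa using hu₂⟩
  | succ j ih =>
    rcases hM.eq_or_lt with rfl | hlt
    · exact ⟨0, fun i => Subring.zero_mem _, by simpa using hu₁, by simpa using hu₂⟩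
    · obtain ⟨P₁, hP₁, he₁⟩ := exists_relation hlt h₁ _ hu₁
      obtain ⟨P₂, hP₂, he₂⟩ := exists_relation hlt h₂ _ hu₂
      let B := P₁.totalDegree + P₂.totalDegree + 1
      let z := u (Fin.last j)
      let e : Fin j → ℕ := fun i => N * B ^ (i.val + 1)
      have s₁ := integral_step _ hu₁ P₁ hP₁ he₁ B N (by omega) hN
      have s₂ := integral_step _ hu₂ P₂ hP₂ he₂ B N (by omega) hN
      have hj : d ≤ j := Nat.lt_succ_iff.mp hlt
      obtain ⟨y, hy, t₁, t₂⟩ := ih hj (fun i => u i.castSucc - z ^ e i)
        (by convert s₁ using 4; simp [z, e]) (by convert s₂ using 4; simp [z, e])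
      refine ⟨fun i => y i - z ^ e (Fin.castLE hj i), fun i => ?_, ?_, ?_⟩
      · refine Subring.sub_mem _ (hy i) (Subring.subset_closure ⟨z ^ B ^ ((Fin.castLE hj i).val + 1), ?_⟩)
        simp [e, ← pow_mul, mul_comm]
      · have heq : (fun i => f₁ (u (Fin.castLE hM i) + (y i - z ^ e (Fin.castLE hj i)))) =
            fun i => f₁ (u (Fin.castLE hj i).castSucc - z ^ e (Fin.castLE hj i) + y i) := by
          funext i
          have : Fin.castLE hM i = (Fin.castLE hj i).castSucc := rfl
          rw [this]; congr 1; ring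
        rw [heq]; exact t₁
      · have heq : (fun i => f₂ (u (Fin.castLE hM i) + (y i - z ^ e (Fin.castLE hj i)))) =
            fun i => f₂ (u (Fin.castLE hj i).castSucc - z ^ e (Fin.castLE hj i) + y i) := by
          funext i
          have : Fin.castLE hM i = (Fin.castLE hj i).castSucc := rfl
          rw [this]; congr 1; ring
        rw [heq]; exact t₂

theorem base_integral {V R F : Type*} [CommRing V] [CommRing R] [Algebra V R] [Field F]
    [Algebra V F] {σ τ : Type*} (z : σ → R)
    (hz : Function.Surjective (aeval z : MvPolynomial σ V →ₐ[V] R)) (v : τ → R) (ι : σ → τ)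
    (hι : ∀ s, v (ι s) = z s) :
    (aeval (fun i => Algebra.TensorProduct.includeRight (R := V) (A := F) (v i)) :
      MvPolynomial τ F →ₐ[F] TensorProduct V F R).toRingHom.IsIntegral := by
  apply RingHom.isIntegral_of_surjective
  set ψ : MvPolynomial τ F →ₐ[F] TensorProduct V F R :=
    aeval (fun i => Algebra.TensorProduct.includeRight (R := V) (A := F) (v i))
  intro t
  induction t using TensorProduct.induction_on with
  | zero => exact ⟨0, map_zero _⟩
  | add a b ha hb =>
    obtain ⟨a, rfl⟩ := ha; obtain ⟨b, rfl⟩ := hb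
    exact ⟨a + b, map_add _ _ _⟩
  | tmul c r =>
    obtain ⟨p, rfl⟩ := hz r
    refine ⟨C c * rename ι (map (algebraMap V F) p), ?_⟩
    have : ψ (rename ι (map (algebraMap V F) p)) = (1 : F) ⊗ₜ[V] (aeval z p) := by
      rw [show ψ = _ from rfl, aeval_rename, MvPolynomial.aeval_map_algebraMap]
      have h2 := comp_aeval_apply (f := z)
        (φ := Algebra.TensorProduct.includeRight (R := V) (A := F) (B := R)) p
      rw [Algebra.TensorProduct.includeRight_apply] at h2
      rw [h2]
      simp [Function.comp_def, hι]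
    change ψ (C c * _) = _
    rw [map_mul, this, show ψ (C c) = algebraMap F _ c from aeval_C _ c,
      Algebra.TensorProduct.algebraMap_apply, Algebra.TensorProduct.tmul_mul_tmul,
      Algebra.algebraMap_self, RingHom.id_apply, mul_one, one_mul]

theorem finite_of_integral {F A : Type*} [Field F] [CommRing A] [Algebra F A]
    [Algebra.FiniteType F A] {d : ℕ} (v : Fin d → A)
    (h : (aeval v : MvPolynomial (Fin d) F →ₐ[F] A).toRingHom.IsIntegral) :
    (aeval v : MvPolynomial (Fin d) F →ₐ[F] A).toRingHom.Finite := by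
  refine RingHom.IsIntegral.to_finite h (RingHom.FiniteType.of_comp_finiteType
    (f := algebraMap F (MvPolynomial (Fin d) F)) ?_)
  rw [AlgHom.toRingHom_eq_coe, AlgHom.comp_algebraMap]
  exact RingHom.finiteType_algebraMap.mpr ‹_›

end


/-- Let V be a discrete valuation ring with residue field k and fraction field K, let R be a flat
V-algebra of finite type such that both fibre rings k ⊗_V R and K ⊗_V R have Krull dimension at most
d, let x_1, …, x_d be elements of R and let N ≥ 1 be an integer. Then there are elements y_1, …, y_d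
of the subring of R generated by the N-th powers of elements of R such that, setting f_i = x_i +
y_i, the fibre ring k ⊗_V R is finite over the polynomial ring k[T_1, …, T_d] via T_i ↦ 1 ⊗ f_i and
K ⊗_V R is finite over K[T_1, …, T_d] via T_i ↦ 1 ⊗ f_i; in other words the morphism (f_1, …, f_d)
to affine d-space over V is finite on both fibres. -/
theorem result (V : Type u) [CommRing V] [IsDomain V]
    [IsDiscreteValuationRing V] (R : Type u) [CommRing R] [Algebra V R] [Module.Flat V R]
    [Algebra.FiniteType V R] (d : ℕ)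
    (hs : ringKrullDim (IsLocalRing.ResidueField V ⊗[V] R) ≤ d)
    (hη : ringKrullDim (FractionRing V ⊗[V] R) ≤ d)
    (x : Fin d → R) (N : ℕ) (hN : 1 ≤ N) :
    ∃ y : Fin d → R, (∀ i, y i ∈ Subring.closure (Set.range fun r : R => r ^ N)) ∧
      (MvPolynomial.aeval (fun i => (1 : IsLocalRing.ResidueField V) ⊗ₜ[V] (x i + y i)) :
          MvPolynomial (Fin d) (IsLocalRing.ResidueField V) →ₐ[IsLocalRing.ResidueField V]
            IsLocalRing.ResidueField V ⊗[V] R).toRingHom.Finite ∧
      (MvPolynomial.aeval (fun i => (1 : FractionRing V) ⊗ₜ[V] (x i + y i)) :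
          MvPolynomial (Fin d) (FractionRing V) →ₐ[FractionRing V] FractionRing V ⊗[V] R).toRingHom.Finite := by
  obtain ⟨n, φ, hφ⟩ := Algebra.FiniteType.iff_quotient_mvPolynomial''.mp
    (inferInstance : Algebra.FiniteType V R)
  let z : Fin n → R := fun i => φ (MvPolynomial.X i)
  have hz : Function.Surjective (MvPolynomial.aeval z : MvPolynomial (Fin n) V →ₐ[V] R) := by
    rw [show (MvPolynomial.aeval z : MvPolynomial (Fin n) V →ₐ[V] R) = φ from
      (MvPolynomial.aeval_unique φ).symm]
    exact hφ
  have hx : ∀ i, Fin.append x z (Fin.natAdd d i) = z i := Fin.append_right x z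
  obtain ⟨y, hy, t₁, t₂⟩ := main_induction
    (Algebra.TensorProduct.includeRight (R := V) (A := IsLocalRing.ResidueField V) (B := R)).toRingHom
    (Algebra.TensorProduct.includeRight (R := V) (A := FractionRing V) (B := R)).toRingHom
    d hs hη N hN (d + n) (Nat.le_add_right d n) (Fin.append x z)
    (base_integral z hz (Fin.append x z) (Fin.natAdd d) hx)
    (base_integral z hz (Fin.append x z) (Fin.natAdd d) hx)
  refine ⟨y, hy, finite_of_integral _ ?_, finite_of_integral _ ?_⟩
  · convert t₁ using 4
    rw [show Fin.castLE (Nat.le_add_right d n) = Fin.castAdd n from rfl, Fin.append_left]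
    rfl
  · convert t₂ using 4
    rw [show Fin.castLE (Nat.le_add_right d n) = Fin.castAdd n from rfl, Fin.append_left]
    rfl

end Groth.Agent.S14379
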