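import Groth.Statements.S14387
import Groth.Agent.Lib.MilnorFibre.Noetherian
import Groth.Agent.Lib.Henselian.Permanence

set_option autoImplicit false
open scoped TensorProduct
universe u
open Hensel

namespace Groth.Agent.S14387

/-- Let V be a strictly henselian discrete valuation ring (henselian with separably closed residue field
k) of characteristic zero with k perfect, L an algebraically closed field algebraic over the
fraction field of V, given as a V-algebra into which V embeds, A a V-algebra of finite type, 𝔭 a
prime ideal of A lying in the closed fibre (it contains the maximal ideal of V), and B a strict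
henselization of the local ring A_𝔭. Then the spectrum of L ⊗_V B, which is the algebraic Milnor
fibre of Spec A → Spec V at a geometric point over 𝔭, has finitely many connected components; being
affine it is also quasi-compact and quasi-separated. (The published statement is for a scheme of
finite type over a henselian discrete valuation ring; this row states the affine case over a
strictly henselian V, to which it reduces.) -/
theorem result (V : Type u) [CommRing V] [IsDomain V]
    [IsDiscreteValuationRing V] [HenselianLocalRing V] [IsSepClosed (IsLocalRing.ResidueField V)]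
    [PerfectField (IsLocalRing.ResidueField V)] [CharZero V]
    (L : Type u) [Field L] [IsAlgClosed L] [Algebra V L] [FaithfulSMul V L] [Algebra.IsAlgebraic V L]
    (A : Type u) [CommRing A] [Algebra V A] [Algebra.FiniteType V A]
    (𝔭 : Ideal A) [𝔭.IsPrime] (h𝔭 : (IsLocalRing.maximalIdeal V).map (algebraMap V A) ≤ 𝔭)
    (B : Type u) [CommRing B] [IsLocalRing B] [Algebra (Localization.AtPrime 𝔭) B]
    [IsLocalHom (algebraMap (Localization.AtPrime 𝔭) B)]
    [Hensel.IsStrictHenselization (Localization.AtPrime 𝔭) B]
    [Algebra V B] [IsScalarTower V (Localization.AtPrime 𝔭) B] :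
    Finite (ConnectedComponents (PrimeSpectrum (L ⊗[V] B))) := by
  haveI : IsNoetherianRing A := Algebra.FiniteType.isNoetherianRing V A
  haveI : IsNoetherianRing (Localization.AtPrime 𝔭) :=
    IsLocalization.isNoetherianRing 𝔭.primeCompl (Localization.AtPrime 𝔭) inferInstance
  haveI : IsNoetherianRing B :=
    (Groth.Agent.Lib.Henselian.Permanence.strict_isNoetherianRing_iff (Localization.AtPrime 𝔭) B).mp
      inferInstance
  haveI : IsNoetherianRing (L ⊗[V] B) :=
    Groth.Agent.Lib.MilnorFibre.isNoetherianRing V L B (Ideal.map_le_iff_le_comap.mpr fun v hv => by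
      rw [Ideal.mem_comap, IsScalarTower.algebraMap_apply V (Localization.AtPrime 𝔭) B,
        IsScalarTower.algebraMap_apply V A (Localization.AtPrime 𝔭)]
      exact map_nonunit (algebraMap (Localization.AtPrime 𝔭) B) _
        ((IsLocalization.AtPrime.to_map_mem_maximal_iff (Localization.AtPrime 𝔭) 𝔭 _).mpr
          (h𝔭 (Ideal.mem_map_of_mem _ hv))))
  have hfin : (irreducibleComponents (PrimeSpectrum (L ⊗[V] B))).Finite :=
    TopologicalSpace.NoetherianSpace.finite_irreducibleComponents
  haveI := hfin.to_subtype
  refine Finite.of_surjective
    (fun C : irreducibleComponents (PrimeSpectrum (L ⊗[V] B)) =>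
      ((C.2.1.1.some : PrimeSpectrum (L ⊗[V] B)) : ConnectedComponents (PrimeSpectrum (L ⊗[V] B)))) ?_
  intro c
  obtain ⟨x, rfl⟩ := ConnectedComponents.surjective_coe c
  refine ⟨⟨irreducibleComponent x, irreducibleComponent_mem_irreducibleComponents x⟩,
    ConnectedComponents.coe_eq_coe'.mpr ?_⟩
  exact (isIrreducible_irreducibleComponent.isConnected.2.subset_connectedComponent
    mem_irreducibleComponent) (Set.Nonempty.some_mem _)

end Groth.Agent.S14387
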