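import Groth.Statements.S14397
import Mathlib

set_option autoImplicit false
universe u
open DualGr

namespace Groth.Agent.S14397

/-- Let (V, E) with endpoint map E → V × V be a finite multigraph (loops and parallel edges allowed; the
order of the two endpoints is an auxiliary orientation), and let D_1, …, D_n be finite sets of edges
such that every edge lies outside at least one D_i. For each i let Γ_i be the multigraph obtained by
contracting the edges of D_i, and let H₁(Γ, ℤ) → H₁(Γ_i, ℤ) be the map of cycle lattices (integer
edge vectors with zero boundary) given by restriction to the surviving edges. Then the map H₁(Γ, ℤ)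
→ ⊕_i H₁(Γ_i, ℤ) has torsion-free cokernel. (The published statement is about the connected labelled
dual graph of the closed fibre of a nodal curve, smooth outside a normal crossing divisor with
components D_1, …, D_n, over a Noetherian regular strictly local base; Γ_i is the dual graph of the
fibre over the generic point of D_i, the lattices are identified with the character groups of the
toric parts of the Picard schemes of these fibres, and the map is the generization map of character
groups; this row states the assertion about cycle lattices, for any finite multigraph, which is what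
the argument establishes.) -/
theorem result
    {V E : Type u} [Fintype V] [Fintype E] [DecidableEq V] [DecidableEq E]
    (ends : E → V × V) {n : ℕ} (D : Fin n → Finset E) (hcover : ∀ e : E, ∃ i : Fin n, e ∉ D i) :
    IsAddTorsionFree (((i : Fin n) → ↥(DualGr.cycleLattice (DualGr.ctrEnds ends (D i)))) ⧸
      LinearMap.range (LinearMap.pi fun i : Fin n => DualGr.genMap ends (D i))) := by
  classical
  set G := LinearMap.pi fun i : Fin n => DualGr.genMap ends (D i)
  have sat : ∀ (m : ℕ), m ≠ 0 → ∀ y, m • y ∈ LinearMap.range G → y ∈ LinearMap.range G := by
    intro m hm y hy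
    obtain ⟨x, hx⟩ := hy
    have hxy : ∀ (i : Fin n) (e : DualGr.CtrEdge (D i)), (x : E → ℤ) e.1 = (m : ℤ) * (y i : DualGr.CtrEdge (D i) → ℤ) e := fun i e => by
      have := congrArg (fun z : ↥(DualGr.cycleLattice (DualGr.ctrEnds ends (D i))) => (z : DualGr.CtrEdge (D i) → ℤ) e) (congrFun hx i)
      simpa [G, DualGr.genMap, DualGr.resE] using this
    choose ι hι using hcover
    let z : E → ℤ := fun e => (y (ι e) : DualGr.CtrEdge (D (ι e)) → ℤ) ⟨e, hι e⟩
    have hz : (x : E → ℤ) = (m : ℤ) • z := funext fun e => hxy (ι e) ⟨e, hι e⟩
    have hzc : z ∈ DualGr.cycleLattice ends := by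
      have : DualGr.boundaryHom ends (x : E → ℤ) = 0 := x.2
      rw [hz, map_smul, smul_eq_zero] at this
      exact this.resolve_left (by exact_mod_cast hm)
    refine ⟨⟨z, hzc⟩, funext fun i => Subtype.ext (funext fun e => ?_)⟩
    have h1 : (m : ℤ) * z e.1 = (m : ℤ) * (y i : DualGr.CtrEdge (D i) → ℤ) e := by
      rw [← hxy i e, hz]; rfl
    exact mul_left_cancel₀ (by exact_mod_cast hm) h1
  refine ⟨fun m hm a b hab => ?_⟩
  obtain ⟨a, rfl⟩ := Submodule.mkQ_surjective _ a
  obtain ⟨b, rfl⟩ := Submodule.mkQ_surjective _ b
  simp only [← map_nsmul] at hab
  rw [Submodule.mkQ_apply, Submodule.mkQ_apply, Submodule.Quotient.eq, ← nsmul_sub] at hab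
  rw [Submodule.mkQ_apply, Submodule.mkQ_apply, Submodule.Quotient.eq]
  exact sat m hm _ hab

end Groth.Agent.S14397
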