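import Groth.Statements.S14400
import Groth.Agent.Lib.GalDescent.SplitCover
import Groth.Agent.Lib.GeomConn.Galois
-- import your own Groth.Agent.* helpers here

set_option autoImplicit false
universe u
open CategoryTheory CategoryTheory.Limits AlgebraicGeometry
open Desc

namespace Groth.Agent.S14400

/-- Let K/k be a finite Galois extension of fields, X and Y schemes over k with base changes X_K and
Y_K, and g : X_K ⟶ Y_K a morphism over Spec K. Then g is the base change of a k-morphism f : X ⟶ Y
(that is, g followed by the projection Y_K ⟶ Y is the projection X_K ⟶ X followed by f) if and only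
if g commutes with the action of every k-automorphism σ of K on X_K and on Y_K (the identity on X,
resp. Y, and Spec σ on the factor Spec K). In other words the image of the k-morphisms X ⟶ Y among
the K-morphisms X_K ⟶ Y_K is exactly the set of Galois-invariant ones. -/
theorem result (k : Type u) [Field k] (K : Type u) [Field K]
    [Algebra k K] [FiniteDimensional k K] [IsGalois k K]
    (X Y : Scheme.{u}) [X.Over (Spec (CommRingCat.of k))] [Y.Over (Spec (CommRingCat.of k))]
    (g : Curv2.bc k X K ⟶ Curv2.bc k Y K) (hg : g ≫ Curv2.bcSnd k Y K = Curv2.bcSnd k X K) :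
    (∃ f : X ⟶ Y, f ≫ (Y ↘ Spec (CommRingCat.of k)) = X ↘ Spec (CommRingCat.of k) ∧
        g ≫ Curv2.bcFst k Y K = Curv2.bcFst k X K ≫ f) ↔
      ∀ σ : K ≃ₐ[k] K, Curv2.galAct k X K σ ≫ g = g ≫ Curv2.galAct k Y K σ := by
  constructor
  · rintro ⟨f, -, hf⟩ σ
    apply pullback.hom_ext
    · rw [Category.assoc, Category.assoc, Groth.Agent.Lib.GeomConn.Galois.galAct_fst, hf]
      exact Groth.Agent.Lib.GeomConn.Galois.galAct_fst_assoc k X K σ f
    · rw [Category.assoc, Category.assoc, Groth.Agent.Lib.GeomConn.Galois.galAct_snd, hg,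
        ← Category.assoc, hg, Groth.Agent.Lib.GeomConn.Galois.galAct_snd]
  · intro h
    let X' : Over (Spec (CommRingCat.of k)) := Over.mk (X ↘ Spec (CommRingCat.of k))
    obtain ⟨f, hf⟩ := Groth.Agent.Lib.GalDescent.SplitCover.exists_desc K X' (g ≫ Curv2.bcFst k Y K) (fun σ => by
      change Curv2.galAct k X K σ ≫ g ≫ Curv2.bcFst k Y K = g ≫ Curv2.bcFst k Y K
      rw [reassoc_of% (h σ), Groth.Agent.Lib.GeomConn.Galois.galAct_fst])
    refine ⟨f, Groth.Agent.Lib.GalDescent.SplitCover.hom_ext K X' ?_, hf.symm⟩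
    change Curv2.bcFst k X K ≫ f ≫ _ = Curv2.bcFst k X K ≫ _
    change Curv2.bcFst k X K ≫ f = g ≫ Curv2.bcFst k Y K at hf
    rw [reassoc_of% hf]
    simp only [pullback.condition]
    rw [reassoc_of% hg]

end Groth.Agent.S14400
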