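import Groth.Statements.S14404
import Groth.Agent.Lib.Flat55.FlatEquidim

set_option autoImplicit false
universe u
open CategoryTheory AlgebraicGeometry
open FlatMor

namespace Groth.Agent.S14404

/-- Let k be a field, X and Y irreducible schemes of finite type over k and f : X ⟶ Y a flat k-morphism.
Then dim Y ≤ dim X, and for every point y of Y every irreducible component Z of the scheme-theoretic
fibre of f over y has dim Z + dim Y = dim X; that is, every non-empty fibre has all its irreducible
components of dimension dim X − dim Y. -/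
theorem result (k : Type u) [Field k]
    {X Y : Scheme.{u}} (qX : X ⟶ Spec (CommRingCat.of k)) (qY : Y ⟶ Spec (CommRingCat.of k))
    [LocallyOfFiniteType qX] [QuasiCompact qX] [LocallyOfFiniteType qY] [QuasiCompact qY]
    [IrreducibleSpace X] [IrreducibleSpace Y] (f : X ⟶ Y) (hf : f ≫ qY = qX) [Flat f] :
    topologicalKrullDim Y ≤ topologicalKrullDim X ∧
      ∀ (y : Y), ∀ Z ∈ irreducibleComponents (f.fiber y : Type u),
        topologicalKrullDim Z + topologicalKrullDim Y = topologicalKrullDim X := by
  have : LocallyOfFiniteType f :=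
    Groth.Agent.Lib.VarDim.Irreducible.locallyOfFiniteType qX qY f hf
  open Groth.Agent.Lib.VarDim.Basic Groth.Agent.Lib.Flat55.FlatEquidim in
  have hη : f.base (genericPoint X) = genericPoint Y :=
    eq_genericPoint_of_isMax (isMax_apply f isMax_genericPoint)
  open Groth.Agent.Lib.VarDim.Basic Groth.Agent.Lib.Flat55.FlatEquidim in
  have hdim : pdim qX (genericPoint X) =
      pdim qY (genericPoint Y) + tdAt f (genericPoint X) := by
    rw [Groth.Agent.Lib.VarDim.Fibre.pdim_eq_add qX qY f hf, hη]
  open Groth.Agent.Lib.VarDim.Basic Groth.Agent.Lib.Flat55.FlatEquidim in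
  have hfib : ∀ x, IsMaxFib f x → tdAt f x = tdAt f (genericPoint X) :=
    (forall_isMax_iff f qX qY hf _ _ (fun y hy => by rw [eq_genericPoint_of_isMax hy])).1
      fun z hz => by rw [eq_genericPoint_of_isMax hz, hdim]
  rw [Groth.Agent.Lib.VarDim.Basic.topologicalKrullDim_irreducibleSpace qX,
    Groth.Agent.Lib.VarDim.Basic.topologicalKrullDim_irreducibleSpace qY, hdim, Nat.cast_add]
  refine ⟨by exact_mod_cast Nat.le_add_right _ _, fun y Z hZ => ?_⟩
  rw [(Groth.Agent.Lib.Flat55.FlatEquidim.forall_fibre_component_iff f _).2 hfib y Z hZ, add_comm]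

end Groth.Agent.S14404
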