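import Groth.Statements.S14405
import Mathlib.Algebra.Polynomial.Eval.Degree
import Mathlib.Algebra.Polynomial.Degree.Lemmas
import Mathlib.Algebra.Polynomial.Degree.Operations
import Mathlib.Algebra.Polynomial.Coeff
import Mathlib.Algebra.Polynomial.Monic
import Mathlib.Tactic.LinearCombination

set_option autoImplicit false
open Polynomial
open HilbNum

namespace Groth.Agent.S14405

open Polynomial in
theorem exists_antidiff : ∀ (d : ℕ) (Q : ℚ[X]), Q.natDegree ≤ d →
    ∃ P : ℚ[X], P.natDegree ≤ d + 1 ∧ P - P.comp (X - 1) = Q := by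
  have e : (X - 1 : ℚ[X]) = X - C 1 := by simp
  have hdeg : ∀ d : ℕ, ((X - 1 : ℚ[X]) ^ (d + 1)).natDegree = d + 1 := fun d => by
    rw [natDegree_pow, e, natDegree_X_sub_C, mul_one]
  have hX : ∀ d : ℕ, ((X : ℚ[X]) ^ (d + 1) - (X - 1 : ℚ[X]) ^ (d + 1)).natDegree ≤ d ∧
      ((X : ℚ[X]) ^ (d + 1) - (X - 1 : ℚ[X]) ^ (d + 1)).coeff d = d + 1 := by
    intro d
    constructor
    · refine natDegree_le_iff_coeff_eq_zero.mpr fun N hN => ?_
      rcases eq_or_lt_of_le (Nat.succ_le_of_lt hN) with rfl | hl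
      · have h1 : ((X - 1 : ℚ[X]) ^ (d + 1)).coeff (d + 1) = 1 := by
          have := ((monic_X_sub_C (1 : ℚ)).pow (d + 1)).coeff_natDegree
          rwa [← e, hdeg] at this
        simp [h1]
      · rw [coeff_sub, coeff_X_pow, if_neg (by omega), coeff_eq_zero_of_natDegree_lt (by rw [hdeg]; omega)]
        simp
    · rw [coeff_sub, coeff_X_pow, if_neg (by omega)]
      rw [show (X - 1 : ℚ[X]) = X + C (-1) by simp [sub_eq_add_neg]]
      rw [coeff_X_add_C_pow]
      simp
  intro d
  induction d with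
  | zero =>
    intro Q hQ
    rw [eq_C_of_natDegree_le_zero hQ]
    refine ⟨C (Q.coeff 0) * X, (natDegree_C_mul_le _ _).trans natDegree_X_le, ?_⟩
    simp; ring
  | succ d ih =>
    intro Q hQ
    set c := Q.coeff (d + 1) / ((d : ℚ) + 2) with hc
    have hR : (Q - C c * (X ^ (d + 2) - (X - 1) ^ (d + 2))).natDegree ≤ d := by
      refine natDegree_le_iff_coeff_eq_zero.mpr fun N hN => ?_
      rcases eq_or_lt_of_le (Nat.succ_le_of_lt hN) with rfl | hl
      · rw [coeff_sub, coeff_C_mul, (hX (d + 1)).2]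
        push_cast
        rw [show (d : ℚ) + 1 + 1 = d + 2 by ring, hc, div_mul_cancel₀ _ (by positivity), sub_self]
      · rw [coeff_sub, coeff_C_mul, coeff_eq_zero_of_natDegree_lt (lt_of_le_of_lt hQ hl),
          coeff_eq_zero_of_natDegree_lt (lt_of_le_of_lt (hX (d + 1)).1 hl)]
        simp
    obtain ⟨P, hP1, hP2⟩ := ih _ hR
    refine ⟨P + C c * X ^ (d + 2), natDegree_add_le_of_degree_le (hP1.trans (by omega))
      (natDegree_C_mul_X_pow_le _ _), ?_⟩
    rw [add_comp, mul_comp, C_comp, pow_comp, X_comp]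
    linear_combination hP2

/-- Let φ be a function from the integers to the rationals and Q a nonzero polynomial with rational
coefficients of degree d such that φ(m) - φ(m-1) = Q(m) for every integer m. Then there is a
polynomial P with rational coefficients, of degree d + 1, such that φ(m) = P(m) for every integer m.
(The explicit form of P in the binomial basis is not part of this statement.) -/
theorem result (φ : ℤ → ℚ) (d : ℕ) (Q : ℚ[X]) (hQ : Q ≠ 0)
    (hd : Q.natDegree = d) (h : ∀ m : ℤ, φ m - φ (m - 1) = Q.eval (m : ℚ)) :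
    ∃ P : ℚ[X], P.natDegree = d + 1 ∧ ∀ m : ℤ, φ m = P.eval (m : ℚ) := by
  obtain ⟨P₀, hP₀d, hP₀⟩ := exists_antidiff d Q hd.le
  have hper : ∀ m : ℤ, φ m - P₀.eval (m : ℚ) = φ 0 - P₀.eval 0 := by
    have hs : ∀ m : ℤ, φ m - P₀.eval (m : ℚ) = φ (m - 1) - P₀.eval ((m : ℚ) - 1) := by
      intro m
      have := h m
      rw [← hP₀] at this
      simp at this
      linear_combination this
    intro m
    induction m using Int.induction_on with
    | zero => simp
    | succ i ih => rw [hs]; simpa using ih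
    | pred i ih => rw [hs] at ih; simpa using ih
  refine ⟨P₀ + C (φ 0 - P₀.eval 0), ?_, fun m => by simp [← hper m]⟩
  rw [natDegree_add_C]
  refine le_antisymm hP₀d (not_lt.mp fun hlt => ?_)
  have hc : Q.coeff d = 0 := by
    rw [← hP₀, coeff_sub, sub_eq_zero]
    rcases eq_or_lt_of_le (Nat.lt_succ_iff.mp hlt) with he | hl
    · have := leadingCoeff_comp (p := P₀) (q := X - C (1:ℚ)) (by rw [natDegree_X_sub_C]; exact one_ne_zero)
      rw [leadingCoeff, natDegree_comp, natDegree_X_sub_C, mul_one, (monic_X_sub_C (1:ℚ)).leadingCoeff,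
        one_pow, mul_one, leadingCoeff, he] at this
      simpa using this.symm
    · rw [coeff_eq_zero_of_natDegree_lt hl, coeff_eq_zero_of_natDegree_lt]
      rw [natDegree_comp]
      simpa [show (X - 1 : ℚ[X]) = X - C 1 by simp] using hl
  exact hQ (leadingCoeff_eq_zero.mp (by rw [leadingCoeff, hd]; exact hc))

end Groth.Agent.S14405
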