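import Groth.Statements.S14408
import Groth.Agent.Lib.UnifReg.Slope

set_option autoImplicit false
universe u
open CategoryTheory CategoryTheory.Limits AlgebraicGeometry
open HilbNum

namespace Groth.Agent.S14408

/-- Let k be an algebraically closed field, n a positive integer, F a nonzero coherent O-module on
projective n-space P over k (quasi-coherent of finite type), and P_F a polynomial with rational
coefficients such that P_F(m) = χ(F(m)) = Σ_{j ≤ n} (-1)^j dim_k H^j(P, F ⊗ O(m)) for every integer
m. Then the degree of P_F equals the dimension of the support of F (the closed set of points where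
the stalk of F is nonzero, with the subspace topology). The existence of such a polynomial is not
part of this statement; it enters through the hypothesis on P_F. -/
theorem result (k : Type u) [Field k] [IsAlgClosed k] (n : ℕ) (hn : 0 < n)
    (F : (CohB1.ProjSpace n k).Modules) (hF : Coh.IsCoh F) (hF0 : ¬ IsZero F) (P : Polynomial ℚ)
    (hP : ∀ m : ℤ,
      ((Finset.range (n + 1)).sum fun j => (-1 : ℚ) ^ j *
        (Module.finrank k (Coh.HH (CohB1.ProjSpace n k) (CohB1.tensorMod F (Twist.twistProjSpace n k m)) j) : ℚ)) =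
      P.eval (m : ℚ)) :
    topologicalKrullDim ↥(CohB1.support F) = (P.natDegree : WithBot ℕ∞) := by
  classical
  haveI : Infinite k := inferInstance
  haveI := Groth.Agent.Lib.UnifReg.Step.isNoetherian_proj n k
  let st := CohB1.ProjSpace n k ↘ Spec (CommRingCat.of k)
  haveI : IsProper st := Groth.Agent.Lib.ProjSpace.Basic.isProper_toSpec n k
  haveI := hF.2
  have hT : IsClosed (CohB1.support F) := Groth.Agent.Lib.Modules.Support.isClosed_support F
  have hQ : ∀ t : ℤ, (Groth.Agent.Lib.UnifReg.Step.chi F t : ℚ) = P.eval (t : ℚ) := fun t => by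
    rw [← hP t]
    unfold Groth.Agent.Lib.UnifReg.Step.chi FGA.eulerCharLE
    push_cast
    rfl
  have hne : (CohB1.support F).Nonempty := by
    by_contra h
    exact hF0 (Groth.Agent.Lib.Modules.Stalk.isZero_iff_stalk_subsingleton.2 fun x => by
      by_contra hx
      exact h ⟨x, fun h' => hx h'⟩)
  let S : Set ℕ := Groth.Agent.Lib.VarDim.Basic.pdim st '' CohB1.support F
  have hbdd : BddAbove S := ⟨n, by
    rintro _ ⟨x, hx, rfl⟩
    have h := Groth.Agent.Lib.VarDim.Basic.pdim_le_topologicalKrullDim_scheme st x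
    rw [Groth.Agent.Lib.ProjSpace.Dim.topologicalKrullDim_projSpace_of_field] at h
    exact_mod_cast h⟩
  obtain ⟨x, hx, hxD⟩ := Nat.sSup_mem (hne.image _) hbdd
  have hmax : ∀ y ∈ CohB1.support F, Groth.Agent.Lib.VarDim.Basic.pdim st y ≤
      Groth.Agent.Lib.VarDim.Basic.pdim st x := fun y hy => hxD ▸ le_csSup hbdd ⟨y, hy, rfl⟩
  rw [Groth.Agent.Lib.VarDim.Basic.topologicalKrullDim_eq st hT.isLocallyClosed hx hmax]
  have hup : P.degree < ((Groth.Agent.Lib.VarDim.Basic.pdim st x + 1 : ℕ) : WithBot ℕ) :=
    Groth.Agent.Lib.UnifReg.Slope.degree_lt_of_suppLT _ F P hF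
      (fun y hy => Nat.lt_succ_of_le (hmax y hy)) hQ
  have hlo : ¬ P.degree < ((Groth.Agent.Lib.VarDim.Basic.pdim st x : ℕ) : WithBot ℕ) := fun h =>
    lt_irrefl _ (Groth.Agent.Lib.UnifReg.Degree.suppLT_of_chi _ F P hF hQ h x hx)
  have hP0 : P ≠ 0 := by
    rintro rfl
    exact hlo (Polynomial.degree_zero.trans_lt (WithBot.bot_lt_coe _))
  rw [Polynomial.degree_eq_natDegree hP0, Nat.cast_lt] at hup hlo
  rw [show P.natDegree = Groth.Agent.Lib.VarDim.Basic.pdim st x by omega]

end Groth.Agent.S14408
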