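import Groth.Statements.S14410
-- import your own Groth.Agent.* helpers here

set_option autoImplicit false
universe u
open CategoryTheory TopologicalSpace
open CohTop

namespace Groth.Agent.S14410

/-- Let X be a topological space and 0 → F₁ → F₂ → F₃ → 0 a short exact sequence of sheaves of abelian
groups on X. If F₁ and F₃ are flasque (every restriction map is surjective), then F₂ is flasque.
(The published statement is for O_X-modules on a ringed space and is an equivalence; this row states
the implication from the outer terms to the middle term, for the underlying abelian sheaves.) -/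
theorem result (X : TopCat.{u})
    (S : ShortComplex (TopCat.Sheaf AddCommGrpCat.{u} X)) (hS : S.ShortExact)
    [S.X₁.IsFlasque] [S.X₃.IsFlasque] : S.X₂.IsFlasque := by
  refine ⟨fun {U V} i => (AddCommGrpCat.epi_iff_surjective _).mpr fun s => ?_⟩
  obtain ⟨c, hc⟩ := (AddCommGrpCat.epi_iff_surjective (S.X₃.obj.map i)).mp inferInstance (S.g.hom.app V s)
  obtain ⟨b, hb⟩ := (AddCommGrpCat.epi_iff_surjective _).mp
    (TopCat.Sheaf.IsFlasque.epi_of_shortExact (U := U.unop) hS) c
  have h0 : S.g.hom.app V (s - S.X₂.obj.map i b) = 0 := by
    rw [map_sub, NatTrans.naturality_apply, ← hc, sub_eq_zero]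
    exact congrArg _ hb.symm
  obtain ⟨a, ha⟩ := TopCat.Sheaf.sections_exact_of_left_exact hS.1 hS.2 (U := V.unop) _ h0
  obtain ⟨a', ha'⟩ := (AddCommGrpCat.epi_iff_surjective (S.X₁.obj.map i)).mp inferInstance a
  refine ⟨b + S.f.hom.app U a', ?_⟩
  rw [map_add, ← NatTrans.naturality_apply, ha']
  exact (congrArg (S.X₂.obj.map i b + ·) ha).trans (add_sub_cancel _ _)

end Groth.Agent.S14410
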