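import Groth.Statements.S14413
import Mathlib.Algebra.Homology.Augment
import Mathlib.CategoryTheory.Abelian.Projective.Ext
-- import your own Groth.Agent.* helpers here

set_option autoImplicit false
universe u
open CategoryTheory CategoryTheory.Limits
open CAlg

namespace Groth.Agent.S14413

theorem exists_resolution (R : Type u) [CommRing R] (d : ℕ) :
    ∀ M : ModuleCat.{u} R, HasProjectiveDimensionLE M d →
      ∃ P : ProjectiveResolution M, ∀ i : ℕ, d < i → IsZero (P.complex.X i) := by
  induction d with
  | zero =>
    intro M hM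
    have : Projective M := (projective_iff_hasProjectiveDimensionLE_zero M).mpr hM
    refine ⟨ProjectiveResolution.self M, fun i hi => ?_⟩
    obtain ⟨j, rfl⟩ := Nat.exists_eq_succ_of_ne_zero hi.ne'
    exact HomologicalComplex.isZero_single_obj_X (ComplexShape.down ℕ) 0 M (j + 1) (by simp)
  | succ d ih =>
    intro M hM
    let S : ShortComplex (ModuleCat.{u} R) :=
      ShortComplex.mk (Limits.kernel.ι (Projective.π M)) (Projective.π M) (Limits.kernel.condition _)
    have hS : S.ShortExact := { exact := ShortComplex.exact_kernel _ }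
    obtain ⟨Q, hQ⟩ := ih S.X₁ ((hS.hasProjectiveDimensionLT_X₃_iff d (Projective.projective_over M)).mp hM)
    obtain ⟨ε, hε⟩ : ∃ ε : Q.complex.X 0 ⟶ S.X₁, ε = Q.π.f 0 := ⟨Q.π.f 0, rfl⟩
    have wε : Q.complex.d 1 0 ≫ ε = 0 := hε ▸ Q.complex_d_comp_π_f_zero
    have hεe : Epi ε := by rw [hε]; exact (inferInstance : Epi (Q.π.f 0))
    have hεex : (ShortComplex.mk (Q.complex.d 1 0) ε wε).Exact := by
      subst hε
      exact ShortComplex.exact_of_g_is_cokernel _ Q.isColimitCokernelCofork
    have w : Q.complex.d 1 0 ≫ ε ≫ S.f = 0 := by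
      rw [← Category.assoc, wε, zero_comp]
    let C := Q.complex.augment (ε ≫ S.f) w
    have hg : C.d 1 0 ≫ S.g = 0 := by
      show (ε ≫ S.f) ≫ S.g = 0
      rw [Category.assoc, S.zero, comp_zero]
    have hproj : ∀ n, Projective (C.X n) := by
      intro n
      cases n with
      | zero => exact Projective.projective_over M
      | succ n => exact Q.projective n
    have hq : QuasiIso ((C.toSingle₀Equiv M).symm ⟨S.g, hg⟩) := by
      refine ⟨fun n => ?_⟩
      cases n with
      | zero =>
        rw [ChainComplex.quasiIsoAt₀_iff, ShortComplex.quasiIso_iff_of_zeros' _ (C.shape 0 0 (by simp)) rfl rfl]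
        have h0 : (ShortComplex.mk (ε ≫ S.f) S.g (by rw [Category.assoc, S.zero, comp_zero])).Exact := by
          let φ : ShortComplex.mk (ε ≫ S.f) S.g (by rw [Category.assoc, S.zero, comp_zero]) ⟶ S :=
            ShortComplex.homMk ε (𝟙 _) (𝟙 _) (Category.comp_id _).symm (by simp)
          have : Epi φ.τ₁ := hεe
          have : IsIso φ.τ₂ := inferInstanceAs (IsIso (𝟙 _))
          have : Mono φ.τ₃ := inferInstanceAs (Mono (𝟙 _))
          exact (ShortComplex.exact_iff_of_epi_of_isIso_of_mono φ).mpr hS.exact
        have hsg : ((C.toSingle₀Equiv M).symm ⟨S.g, hg⟩).f 0 = S.g := by simp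
        refine (ShortComplex.exact_and_epi_g_iff_of_iso ?_).2 ⟨h0, hS.epi_g⟩
        exact ShortComplex.isoMk (Iso.refl _) (Iso.refl _) (Iso.refl _)
          ((Category.id_comp _).trans (Category.comp_id _).symm)
          ((Category.id_comp _).trans (hsg.trans (Category.comp_id _).symm))
      | succ n =>
        rw [quasiIsoAt_iff_exactAt' _ _ (ChainComplex.exactAt_succ_single_obj M n),
          HomologicalComplex.exactAt_iff' _ (n + 2) (n + 1) n (by simp) (by simp)]
        cases n with
        | zero =>
          have : Mono S.f := hS.mono_f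
          let φ : ShortComplex.mk (Q.complex.d 1 0) ε wε ⟶ C.sc' 2 1 0 :=
            ShortComplex.homMk (𝟙 _) (𝟙 _) S.f ((Category.id_comp _).trans (Category.comp_id _).symm) (Category.id_comp _)
          have : Epi φ.τ₁ := inferInstanceAs (Epi (𝟙 _))
          have : IsIso φ.τ₂ := inferInstanceAs (IsIso (𝟙 _))
          have : Mono φ.τ₃ := hS.mono_f
          exact (ShortComplex.exact_iff_of_epi_of_isIso_of_mono φ).mp hεex
        | succ n => exact Q.exact_succ n
    refine ⟨{ complex := C, π := (C.toSingle₀Equiv M).symm ⟨S.g, hg⟩, quasiIso := hq, projective := hproj }, fun i hi => ?_⟩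
    obtain ⟨j, rfl⟩ := Nat.exists_eq_succ_of_ne_zero (Nat.ne_of_gt (lt_of_le_of_lt (Nat.zero_le _) hi))
    exact hQ j (by omega)

/-- Let R be a commutative ring, M an R-module and d ≥ 0. Then M has projective dimension at most d in
the sense that Ext^i_R(M, N) = 0 for every i > d and every R-module N (Mathlib's Ext-vanishing
definition) if and only if M has a projective resolution of length at most d, i.e. a projective
resolution P whose terms P_i are zero for all i > d (the definition of pd_R(M) ≤ d by resolutions). -/
theorem result (R : Type u) [CommRing R]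
    (M : ModuleCat.{u} R) (d : ℕ) :
    HasProjectiveDimensionLE M d ↔
      ∃ P : ProjectiveResolution M, ∀ i : ℕ, d < i → IsZero (P.complex.X i) := by
  refine ⟨exists_resolution R d M, fun ⟨P, hP⟩ => ?_⟩
  refine HasProjectiveDimensionLT.mk fun i hi Y e => ?_
  obtain ⟨f, hf, rfl⟩ := P.extMk_surjective e (i + 1) rfl
  obtain rfl : f = 0 := (hP i (by omega)).eq_of_src _ _
  simp

end Groth.Agent.S14413
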