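import Groth.Statements.S14414
import Groth.Agent.H25.TorLES
-- import your own Groth.Agent.* helpers here

set_option autoImplicit false
universe u
open CategoryTheory CategoryTheory.Limits
open CAlg

namespace Groth.Agent.S14414

/-- Let R be a commutative ring and N an R-module of projective dimension at most q, in the sense that
Ext^i_R(N, N′) = 0 for all i > q and all N′ (equivalently, N has a projective resolution of length
at most q). Then for every R-module M and every i > q, Tor_i^R(M, N) — the value at N of the i-th
left derived functor of M ⊗_R (-) — is zero. -/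
theorem result (R : Type u) [CommRing R]
    (M N : ModuleCat.{u} R) (q : ℕ) [HasProjectiveDimensionLE N q] (i : ℕ) (hi : q < i) :
    IsZero (((CategoryTheory.Tor (ModuleCat.{u} R) i).obj M).obj N) := by
  induction q generalizing N i with
  | zero =>
    have : Projective N := (projective_iff_hasProjectiveDimensionLE_zero N).mpr ‹_›
    obtain ⟨j, rfl⟩ := Nat.exists_eq_succ_of_ne_zero hi.ne'
    exact CategoryTheory.isZero_Tor_succ_of_projective _ M N j
  | succ q ih =>
    obtain ⟨j, rfl⟩ := Nat.exists_eq_succ_of_ne_zero (Nat.ne_of_gt (lt_of_le_of_lt (Nat.zero_le _) hi))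
    let S : ShortComplex (ModuleCat.{u} R) :=
      ShortComplex.mk (Limits.kernel.ι (Projective.π N)) (Projective.π N) (Limits.kernel.condition _)
    have hS : S.ShortExact := { exact := ShortComplex.exact_kernel _ }
    have : HasProjectiveDimensionLE S.X₁ q :=
      (hS.hasProjectiveDimensionLT_X₃_iff q (Projective.projective_over N)).mp ‹_›
    exact Groth.Agent.H25.TorLES.isZero_right hS j
      (CategoryTheory.isZero_Tor_succ_of_projective _ M S.X₂ j) (ih S.X₁ j (by omega))

end Groth.Agent.S14414
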