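import Groth.Statements.S14416
import Groth.Agent.H20.LocalSurj
import Mathlib.LinearAlgebra.FiniteDimensional.Lemmas
import Mathlib.LinearAlgebra.Dimension.FreeAndStrongRankCondition

set_option autoImplicit false
universe u
open scoped TensorProduct
open CAlg

namespace Groth.Agent.S14416

/-- Let B → A be a ring map with A a finitely generated B-module such that for every prime ideal p of B
the fibre κ(p) ⊗_B A has dimension at most one over the residue field κ(p). Then B → A is
surjective. In scheme language: a finite morphism whose degree at every point of the target is 0 or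
1 is a closed immersion. (The published statement assumes the two schemes Noetherian; that
hypothesis plays no role and is dropped here.) -/
theorem result
    (B A : Type u) [CommRing B] [CommRing A] [Algebra B A] [Module.Finite B A]
    (h : ∀ p : PrimeSpectrum B,
      Module.finrank p.asIdeal.ResidueField (p.asIdeal.ResidueField ⊗[B] A) ≤ 1) :
    Function.Surjective (algebraMap B A) := by
  let φ : B →ₗ[B] A := Algebra.linearMap B A
  suffices Subsingleton (A ⧸ LinearMap.range φ) from
    LinearMap.range_eq_top.mp (Submodule.Quotient.subsingleton_iff.mp this)
  rw [← Module.support_eq_empty_iff (R := B)]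
  refine Set.eq_empty_of_forall_notMem fun p => ?_
  rw [← Groth.Agent.H20.LocalSurj.surjective_lTensor_residueField_iff φ p]
  set K := p.asIdeal.ResidueField
  intro y
  by_cases hn : Subsingleton (K ⊗[B] A)
  · exact ⟨0, Subsingleton.elim _ _⟩
  rw [not_subsingleton_iff_nontrivial] at hn
  have hspan : (Submodule.span K {(1 : K ⊗[B] A)}) = ⊤ := by
    refine Submodule.eq_top_of_finrank_eq ?_
    rw [finrank_span_singleton one_ne_zero]
    exact le_antisymm Module.finrank_pos (h p)
  obtain ⟨c, rfl⟩ := Submodule.mem_span_singleton.mp (hspan ▸ Submodule.mem_top : y ∈ Submodule.span K {(1 : K ⊗[B] A)})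
  exact ⟨c ⊗ₜ 1, by simp [φ, Algebra.TensorProduct.one_def, TensorProduct.smul_tmul']⟩

end Groth.Agent.S14416
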