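import Groth.Statements.S14417
import Mathlib

set_option autoImplicit false
universe u
open CategoryTheory AlgebraicGeometry
open Variety

namespace Groth.Agent.S14417
open TensorProduct
theorem rank_kaehler_eq_trdeg {K L : Type u} [Field K] [Field L] [Algebra K L] [CharZero K]
    [Algebra.EssFiniteType K L] : Module.rank L (Ω[L⁄K]) = Algebra.trdeg K L := by
  obtain ⟨s, hs, H⟩ := exists_isTranscendenceBasis_and_isSeparable_of_perfectField K L
  let v : (↑(s : Set L) : Type u) → L := Subtype.val
  have hb : AlgebraicIndependent K v := hs.1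
  haveI : Algebra.IsSeparable (IntermediateField.adjoin K (Set.range v)) L := by
    convert! H <;> simp [v]
  open scoped IntermediateField.algebraAdjoinAdjoin in
  haveI hA : Algebra.FormallyEtale (Algebra.adjoin K (Set.range v)) L := by
    haveI : Algebra.FormallyEtale (IntermediateField.adjoin K (Set.range v)) L :=
      Algebra.FormallyEtale.of_isSeparable _ L
    haveI : Algebra.FormallyEtale (Algebra.adjoin K (Set.range v)) (IntermediateField.adjoin K (Set.range v)) :=
      .of_isLocalization (nonZeroDivisors _)
    exact .comp _ (IntermediateField.adjoin K (Set.range v)) _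
  let P := MvPolynomial (↑(s : Set L) : Type u) K
  let A' := Algebra.adjoin K (Set.range v)
  letI : Algebra P A' := hb.aevalEquiv.toAlgHom.toRingHom.toAlgebra
  letI : Algebra P L := ((algebraMap A' L).comp (algebraMap P A')).toAlgebra
  haveI : IsScalarTower P A' L := IsScalarTower.of_algebraMap_eq' rfl
  haveI : IsScalarTower K P A' := IsScalarTower.of_algebraMap_eq fun k => (hb.aevalEquiv.commutes k).symm
  haveI : IsScalarTower K P L := IsScalarTower.of_algebraMap_eq fun k => by
    rw [IsScalarTower.algebraMap_apply P A' L, ← IsScalarTower.algebraMap_apply K P A',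
      ← IsScalarTower.algebraMap_apply K A' L]
  haveI : Algebra.FormallyEtale P A' :=
    .of_equiv (AlgEquiv.ofRingEquiv (f := hb.aevalEquiv.toRingEquiv) fun _ => rfl : P ≃ₐ[P] A')
  haveI : Algebra.FormallyEtale P L := .comp P A' L
  rw [← (KaehlerDifferential.tensorKaehlerEquivOfFormallyEtale K P L).rank_eq,
    ← ((KaehlerDifferential.mvPolynomialBasis K _).baseChange L).mk_eq_rank'', ← hs.cardinalMk_eq_trdeg]
  rfl

theorem relative_dimension {A B K L : Type u} [CommRing A] [CommRing B] [IsDomain B] [Field K] [Field L]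
    [CharZero K] [Algebra A B] [Algebra.FinitePresentation A B] [Algebra B L] [IsFractionRing B L]
    [Algebra A K] [Algebra.FormallyEtale A K] [Algebra A L] [IsScalarTower A B L]
    [Algebra K L] [IsScalarTower A K L] (n : ℕ) (hn : Algebra.trdeg K L = n) :
    ∃ g : B, g ≠ 0 ∧ Algebra.IsStandardSmoothOfRelativeDimension n A (Localization.Away g) := by
  haveI : Algebra.EssFiniteType B L := Algebra.EssFiniteType.of_isLocalization L (nonZeroDivisors B)
  haveI : Algebra.EssFiniteType A L := Algebra.EssFiniteType.comp A B L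
  haveI : Algebra.EssFiniteType K L := Algebra.EssFiniteType.of_comp A K L
  haveI : Algebra.FormallySmooth A L := Algebra.FormallySmooth.comp A K L
  have hM : (⊥ : Ideal B).primeCompl = nonZeroDivisors B := Submonoid.ext fun x => by
    rw [mem_nonZeroDivisors_iff_ne_zero]
    show x ∉ (⊥ : Ideal B) ↔ _
    rw [Ideal.mem_bot]
  haveI : IsLocalization (⊥ : Ideal B).primeCompl L := by rw [hM]; infer_instance
  haveI : Algebra.IsSmoothAt A (⊥ : Ideal B) :=
    Algebra.FormallySmooth.of_equiv
      (((IsLocalization.algEquiv (⊥ : Ideal B).primeCompl (Localization.AtPrime (⊥ : Ideal B)) L).symm).restrictScalars A)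
  obtain ⟨g, hg, hs⟩ := Algebra.IsSmoothAt.exists_notMem_isStandardSmooth A (⊥ : Ideal B)
  have hg0 : g ≠ 0 := fun h => hg (h ▸ zero_mem _)
  refine ⟨g, hg0, ?_⟩
  let C := Localization.Away g
  haveI := hs
  have hu : IsUnit (algebraMap B L g) :=
    ((map_ne_zero_iff _ (IsFractionRing.injective B L)).mpr hg0).isUnit
  letI : Algebra C L := (IsLocalization.Away.lift g hu).toAlgebra
  haveI : IsScalarTower B C L := IsScalarTower.of_algebraMap_eq fun b => (IsLocalization.Away.lift_eq g hu b).symm
  haveI : IsScalarTower A C L := IsScalarTower.of_algebraMap_eq fun a => by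
    rw [IsScalarTower.algebraMap_apply A B C, ← IsScalarTower.algebraMap_apply B C L, ← IsScalarTower.algebraMap_apply A B L]
  haveI : Nontrivial C := RingHom.domain_nontrivial (algebraMap C L)
  haveI : Algebra.FormallyEtale B L := .of_isLocalization (nonZeroDivisors B)
  haveI : Algebra.FormallyEtale B C := .of_isLocalization (Submonoid.powers g)
  haveI : Algebra.FormallyEtale C L := Algebra.FormallyEtale.of_restrictScalars (R := B)
  rw [Algebra.IsStandardSmoothOfRelativeDimension.iff_of_isStandardSmooth]
  have h2 : Module.rank L (Ω[L⁄A]) = Module.rank C (Ω[C⁄A]) := by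
    rw [← (KaehlerDifferential.tensorKaehlerEquivOfFormallyEtale A C L).rank_eq, Module.rank_baseChange,
      Cardinal.lift_id]
  have h3 : Module.rank L (Ω[L⁄A]) = Module.rank L (Ω[L⁄K]) := by
    haveI : Subsingleton (L ⊗[K] Ω[K⁄A]) := by
      haveI : Subsingleton (Ω[K⁄A]) := Algebra.FormallyUnramified.subsingleton_kaehlerDifferential
      infer_instance
    have hinj : Function.Injective (KaehlerDifferential.map A K L L) := by
      rw [injective_iff_map_eq_zero]
      intro x hx
      obtain ⟨y, rfl⟩ := (KaehlerDifferential.exact_mapBaseChange_map A K L x).mp hx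
      rw [Subsingleton.elim y 0, map_zero]
    exact (LinearEquiv.ofBijective (KaehlerDifferential.map A K L L)
      ⟨hinj, KaehlerDifferential.map_surjective A K L⟩).rank_eq
  rw [← h2, h3, rank_kaehler_eq_trdeg, hn]


/-- Generic smoothness on the source: let π : X → Y be a dominant morphism of finite type between
integral Noetherian schemes, sending the generic point of X to that of Y, such that the function
field K(Y) (equivalently K(X)) has characteristic zero, and let n be the transcendence degree of
K(X) over K(Y). Then there is a nonempty (equivalently dense) open subscheme U of X on which π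
restricts to a smooth morphism U → Y of relative dimension n. -/
theorem result
    (X Y : Scheme.{u}) [IsIntegral X] [IsIntegral Y] [IsNoetherian X] [IsNoetherian Y]
    (π : X ⟶ Y) [LocallyOfFiniteType π] [QuasiCompact π]
    (hdom : π.base (genericPoint X) = genericPoint Y) [CharZero Y.functionField]
    (n : ℕ) (hn : @Algebra.trdeg (Y.presheaf.stalk (π.base (genericPoint X))) X.functionField _ _
      (π.stalkMap (genericPoint X)).hom.toAlgebra = n) :
    ∃ U : X.Opens, (U : Set X).Nonempty ∧ SmoothOfRelativeDimension n (U.ι ≫ π) := by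
  set ξ := genericPoint X with hξdef
  obtain ⟨U, hU, hηU, -⟩ := exists_isAffineOpen_mem_and_subset (X := Y) (x := π ξ) (U := ⊤) trivial
  obtain ⟨V, hV, hξV, hVU⟩ := exists_isAffineOpen_mem_and_subset (X := X) (x := ξ) (U := π ⁻¹ᵁ U) hηU
  haveI : Nonempty V := ⟨⟨ξ, hξV⟩⟩
  let K := Y.presheaf.stalk (π ξ)
  let e := (Y.presheaf.stalkCongr (Inseparable.of_eq hdom)).commRingCatIsoToRingEquiv
  have hK : IsField K := e.toMulEquiv.isField (Field.toIsField Y.functionField)
  letI : Field K := hK.toField
  haveI : CharZero K := charZero_of_injective_ringHom (f := e.symm.toRingHom) e.symm.injective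
  letI : Algebra Γ(Y, U) K := Y.presheaf.algebra_section_stalk ⟨π ξ, hηU⟩
  haveI := hU.isLocalization_stalk ⟨π ξ, hηU⟩
  haveI : Algebra.FormallyEtale Γ(Y, U) K :=
    .of_isLocalization (hU.primeIdealOf ⟨π ξ, hηU⟩).asIdeal.primeCompl
  letI : Algebra Γ(Y, U) Γ(X, V) := (π.appLE U V hVU).hom.toAlgebra
  letI : Algebra Γ(X, V) X.functionField := X.presheaf.algebra_section_stalk ⟨ξ, hξV⟩
  haveI : IsFractionRing Γ(X, V) X.functionField := functionField_isFractionRing_of_isAffineOpen X V hV
  letI : Algebra Γ(Y, U) X.functionField :=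
    ((algebraMap Γ(X, V) X.functionField).comp (π.appLE U V hVU).hom).toAlgebra
  haveI : IsScalarTower Γ(Y, U) Γ(X, V) X.functionField := IsScalarTower.of_algebraMap_eq' rfl
  letI : Algebra K X.functionField := (π.stalkMap ξ).hom.toAlgebra
  haveI : IsScalarTower Γ(Y, U) K X.functionField := IsScalarTower.of_algebraMap_eq fun a => by
    show (X.presheaf.germ V ξ hξV) (π.appLE U V hVU a) = π.stalkMap ξ (Y.presheaf.germ U (π ξ) hηU a)
    rw [Scheme.Hom.germ_stalkMap_apply, Scheme.Hom.appLE, ConcreteCategory.comp_apply,
      TopCat.Presheaf.germ_res_apply]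
  haveI : IsNoetherianRing Γ(Y, U) := IsLocallyNoetherian.component_noetherian ⟨U, hU⟩
  haveI : Algebra.FiniteType Γ(Y, U) Γ(X, V) := π.finiteType_appLE hU hV hVU
  haveI : Algebra.FinitePresentation Γ(Y, U) Γ(X, V) := Algebra.FinitePresentation.of_finiteType.mp ‹_›
  obtain ⟨g, hg, hs⟩ := relative_dimension (A := Γ(Y, U)) (B := Γ(X, V)) (K := K) (L := X.functionField) n hn
  refine ⟨X.basicOpen g, Set.nonempty_iff_ne_empty.mpr fun h => hg ((basicOpen_eq_bot_iff g).mp (TopologicalSpace.Opens.ext h)), ?_⟩
  have hle : X.basicOpen g ≤ π ⁻¹ᵁ U := (X.basicOpen_le g).trans hVU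
  have hψ : RingHom.IsStandardSmoothOfRelativeDimension n (π.appLE U (X.basicOpen g) hle).hom := by
    haveI := hV.isLocalization_basicOpen g
    let ε := IsLocalization.algEquiv (Submonoid.powers g) (Localization.Away g) Γ(X, X.basicOpen g)
    have h1 : RingHom.IsStandardSmoothOfRelativeDimension n (algebraMap Γ(Y, U) (Localization.Away g)) :=
      (RingHom.isStandardSmoothOfRelativeDimension_algebraMap n).mpr hs
    have h2 : (π.appLE U (X.basicOpen g) hle).hom =
        ε.toRingEquiv.toRingHom.comp (algebraMap Γ(Y, U) (Localization.Away g)) := by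
      ext a
      show π.appLE U (X.basicOpen g) hle a = ε (algebraMap Γ(Y, U) (Localization.Away g) a)
      rw [IsScalarTower.algebraMap_apply Γ(Y, U) Γ(X, V) (Localization.Away g), AlgEquiv.commutes]
      exact (congr($(Scheme.Hom.appLE_map π hVU (homOfLE (X.basicOpen_le g)).op).hom a)).symm
    rw [h2]
    exact RingHom.isStandardSmoothOfRelativeDimension_respectsIso.1 _ _ h1
  haveI : SmoothOfRelativeDimension n (Spec.map (π.appLE U (X.basicOpen g) hle)) :=
    (HasRingHomProperty.Spec_iff (P := @SmoothOfRelativeDimension n)).mpr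
      (RingHom.locally_of RingHom.isStandardSmoothOfRelativeDimension_respectsIso _ hψ)
  rw [← (hV.basicOpen g).isoSpec_hom_fromSpec, Category.assoc, ← hU.SpecMap_appLE_fromSpec π (hV.basicOpen g) hle]
  haveI h5 : SmoothOfRelativeDimension (0 + (n + 0))
      ((hV.basicOpen g).isoSpec.hom ≫ Spec.map (π.appLE U (X.basicOpen g) hle) ≫ hU.fromSpec) := inferInstance
  simpa using h5

end Groth.Agent.S14417
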