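import Groth.Statements.S14418
import Mathlib.RingTheory.Ideal.AssociatedPrime.Finiteness
import Mathlib.RingTheory.Nakayama
import Mathlib.Algebra.Homology.ShortComplex.ModuleCat
import Mathlib.RingTheory.Noetherian.Basic
import Mathlib.RingTheory.LocalRing.MaximalIdeal.Basic
import Mathlib.Algebra.Category.ModuleCat.Basic

set_option autoImplicit false
universe u
open CategoryTheory
open CAlg

namespace Groth.Agent.S14418

/-- Let B → A be a local homomorphism of Noetherian local rings, n the maximal ideal of B, and T an
additive functor from B-modules to A-modules which is B-linear (T applied to multiplication by b ∈ B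
is multiplication by the image of b in A), carries finitely generated B-modules to finitely
generated A-modules, and is half-exact on finitely generated modules (every short exact sequence of
finitely generated B-modules goes to a sequence exact at its middle term). If T(B/n) = 0 then T(N) =
0 for every finitely generated B-module N. (The published statement takes T defined on finitely
generated modules only; here T is defined on all B-modules while every hypothesis and the conclusion
concern finitely generated modules.) -/
theorem result {B A : Type u} [CommRing B] [CommRing A]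
    [IsNoetherianRing B] [IsLocalRing B] [IsNoetherianRing A] [IsLocalRing A] [Algebra B A]
    [IsLocalHom (algebraMap B A)] (T : ModuleCat.{u} B ⥤ ModuleCat.{u} A) [T.Additive]
    (hlin : ∀ (N : ModuleCat.{u} B) (b : B),
      T.map (ModuleCat.ofHom (b • (LinearMap.id : N →ₗ[B] N))) =
        ModuleCat.ofHom (algebraMap B A b • (LinearMap.id : T.obj N →ₗ[A] T.obj N)))
    (hfin : ∀ N : ModuleCat.{u} B, Module.Finite B N → Module.Finite A (T.obj N))
    (hex : ∀ S : ShortComplex (ModuleCat.{u} B), S.ShortExact → Module.Finite B S.X₁ →
      Module.Finite B S.X₂ → Module.Finite B S.X₃ → (S.map T).Exact)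
    (h0 : Limits.IsZero (T.obj (ModuleCat.of B (B ⧸ IsLocalRing.maximalIdeal B))))
    (N : ModuleCat.{u} B) [Module.Finite B N] : Limits.IsZero (T.obj N) := by
  suffices H : ∀ (I : Ideal B) (M : Type u) [AddCommGroup M] [Module B M] [Module.Finite B M],
      (∀ b ∈ I, ∀ m : M, b • m = 0) → Limits.IsZero (T.obj (ModuleCat.of B M)) from
    H ⊥ N (fun b hb m => by rw [(Submodule.mem_bot B).1 hb, zero_smul])
  intro I
  induction I using IsWellFounded.induction (α := Ideal B) (· > ·) with
  | _ I ih =>
    intro M _ _ hfinM
    refine IsNoetherianRing.induction_on_isQuotientEquivQuotientPrime B hfinM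
      (motive := fun M _ _ _ => (∀ b ∈ I, ∀ m : M, b • m = 0) → Limits.IsZero (T.obj (ModuleCat.of B M)))
      ?_ ?_ ?_
    · intro M _ _ _ _ _
      exact T.map_isZero (ModuleCat.isZero_of_subsingleton _)
    · intro M _ _ _ p e hI
      haveI hp : p.1.IsPrime := p.2
      refine Limits.IsZero.of_iso ?_ (T.mapIso e.toModuleIso)
      have hle : I ≤ p.1 := fun b hb => by
        have := congrArg e (hI b hb (e.symm (Submodule.Quotient.mk 1)))
        rw [map_smul, map_zero, LinearEquiv.apply_symm_apply, ← Submodule.Quotient.mk_smul,
          smul_eq_mul, mul_one, Submodule.Quotient.mk_eq_zero] at this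
        exact this
      have hann : ∀ b ∈ p.1, ∀ m : B ⧸ p.1, b • m = 0 := fun b hb m => by
        obtain ⟨m, rfl⟩ := Submodule.Quotient.mk_surjective _ m
        rw [← Submodule.Quotient.mk_smul, Submodule.Quotient.mk_eq_zero]
        exact Ideal.mul_mem_right _ _ hb
      rcases hle.lt_or_eq with hlt | heq
      · exact ih p.1 hlt _ hann
      by_cases hmax : p.1 = IsLocalRing.maximalIdeal B
      · rw [hmax]; exact h0
      obtain ⟨x, hxn, hxp⟩ : ∃ x ∈ IsLocalRing.maximalIdeal B, x ∉ p.1 :=
        SetLike.not_le_iff_exists.1 fun h => hmax ((le_antisymm (IsLocalRing.le_maximalIdeal hp.ne_top) h))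
      let μ : (B ⧸ p.1) →ₗ[B] (B ⧸ p.1) := x • LinearMap.id
      have hμi : Function.Injective μ := by
        rw [injective_iff_map_eq_zero]
        intro m hm
        obtain ⟨m, rfl⟩ := Submodule.Quotient.mk_surjective _ m
        simp only [μ, LinearMap.smul_apply, LinearMap.id_apply, ← Submodule.Quotient.mk_smul,
          Submodule.Quotient.mk_eq_zero] at hm ⊢
        exact (hp.mem_or_mem hm).resolve_left hxp
      let S := ShortComplex.moduleCatMk μ (LinearMap.range μ).mkQ
        (LinearMap.ext fun m => (Submodule.Quotient.mk_eq_zero _).2 ⟨m, rfl⟩)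
      have hS : S.ShortExact :=
        { exact := (ShortComplex.ShortExact.moduleCat_exact_iff_function_exact S).2 (LinearMap.exact_map_mkQ_range μ)
          mono_f := (ModuleCat.mono_iff_injective _).2 hμi
          epi_g := (ModuleCat.epi_iff_surjective _).2 (Submodule.mkQ_surjective _) }
      have hQ : Limits.IsZero (T.obj (ModuleCat.of B ((B ⧸ p.1) ⧸ LinearMap.range μ))) := by
        refine ih (I ⊔ Ideal.span {x}) ?_ _ ?_
        · refine lt_of_le_of_ne le_sup_left fun h => hxp ?_
          rw [← heq, h]
          exact Ideal.mem_sup_right (Ideal.mem_span_singleton_self x)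
        · intro b hb q
          obtain ⟨q, rfl⟩ := Submodule.Quotient.mk_surjective _ q
          obtain ⟨b₁, hb₁, b₂, hb₂, rfl⟩ := Submodule.mem_sup.1 hb
          obtain ⟨c, rfl⟩ := Ideal.mem_span_singleton'.1 hb₂
          rw [← Submodule.Quotient.mk_smul, add_smul, hann b₁ (heq ▸ hb₁) q, zero_add, mul_smul,
            Submodule.Quotient.mk_eq_zero]
          exact Submodule.smul_mem _ c ⟨q, rfl⟩
      have hT := hex S hS (inferInstanceAs (Module.Finite B (B ⧸ p.1))) (inferInstanceAs (Module.Finite B (B ⧸ p.1))) (inferInstanceAs (Module.Finite B ((B ⧸ p.1) ⧸ LinearMap.range μ)))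
      haveI := ModuleCat.subsingleton_of_isZero hQ
      have hsurj : Function.Surjective (T.map (ModuleCat.ofHom μ)).hom := by
        intro y
        haveI : Subsingleton (S.map T).X₃ := ModuleCat.subsingleton_of_isZero hQ
        exact ((ShortComplex.moduleCat_exact_iff _).1 hT) y (Subsingleton.elim _ _)
      rw [hlin (ModuleCat.of B (B ⧸ p.1)) x] at hsurj
      have hfinT : Module.Finite A (T.obj (ModuleCat.of B (B ⧸ p.1))) := hfin _ inferInstance
      have htop : (⊤ : Submodule A (T.obj (ModuleCat.of B (B ⧸ p.1)))) ≤
          IsLocalRing.maximalIdeal A • ⊤ := fun y _ => by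
        obtain ⟨z, rfl⟩ := hsurj y
        exact Submodule.smul_mem_smul ((IsLocalRing.mem_maximalIdeal _).2 (map_nonunit _ x hxn)) trivial
      have := Submodule.eq_bot_of_le_smul_of_le_jacobson_bot _ _ Module.Finite.fg_top htop
        (IsLocalRing.maximalIdeal_le_jacobson _)
      haveI := subsingleton_of_bot_eq_top this.symm
      haveI : Subsingleton (T.obj (ModuleCat.of B (B ⧸ p.1))) := (Submodule.subsingleton_iff A).1 ‹_›
      exact ModuleCat.isZero_of_subsingleton _
    · intro N₁ _ _ _ N₂ _ _ _ N₃ _ _ _ f g hf hg hfg h1 h3 hI
      let S := ShortComplex.moduleCatMk f g hfg.linearMap_comp_eq_zero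
      have hS : S.ShortExact :=
        { exact := (ShortComplex.ShortExact.moduleCat_exact_iff_function_exact S).2 hfg
          mono_f := (ModuleCat.mono_iff_injective _).2 hf
          epi_g := (ModuleCat.epi_iff_surjective _).2 hg }
      refine (hex S hS ‹_› ‹_› ‹_›).isZero_of_both_zeros ?_ ?_
      · exact (h1 fun b hb m => hf (by rw [map_smul, map_zero]; exact hI b hb _)).eq_of_src _ _
      · refine (h3 fun b hb m => ?_).eq_of_tgt _ _
        obtain ⟨m, rfl⟩ := hg m
        rw [← map_smul, hI b hb m, map_zero]

end Groth.Agent.S14418
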