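import Groth.Statements.S14421
import Mathlib.Algebra.Category.ModuleCat.Abelian
import Mathlib.Algebra.Homology.HomologicalComplexAbelian
import Mathlib.CategoryTheory.Abelian.Refinements


set_option autoImplicit false
universe u v
open CategoryTheory
open HomAlg

namespace Groth.Agent.S14421

/-- Let φ : K → J be a morphism of cochain complexes of modules over a ring which is surjective in
degree p − 1. Then the map induced on cohomology in degree p is surjective if and only if the map
induced on cocycles in degree p is surjective. (Stated for cochain complexes indexed by the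
integers; the published statement is for three-term complexes in degrees p − 1, p, p + 1, which
embed as such complexes.) -/
theorem result {R : Type u} [Ring R]
    (K J : CochainComplex (ModuleCat.{v} R) ℤ) (φ : K ⟶ J) (p : ℤ) [Epi (φ.f (p - 1))] :
    Epi (HomologicalComplex.homologyMap φ p) ↔ Epi (HomologicalComplex.cyclesMap φ p) := by
  constructor
  · intro h
    rw [epi_iff_surjective_up_to_refinements]
    intro T z
    obtain ⟨T₁, π₁, hπ₁, q₁, hq₁⟩ := surjective_up_to_refinements_of_epi
      (HomologicalComplex.homologyMap φ p) (z ≫ J.homologyπ p)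
    obtain ⟨T₂, π₂, hπ₂, k₂, hk₂⟩ := surjective_up_to_refinements_of_epi (K.homologyπ p) q₁
    have hzero : (π₂ ≫ π₁ ≫ z - k₂ ≫ HomologicalComplex.cyclesMap φ p) ≫ J.homologyπ p = 0 := by
      rw [Preadditive.sub_comp, Category.assoc, Category.assoc, hq₁, Category.assoc,
        ← HomologicalComplex.homologyπ_naturality, reassoc_of% hk₂, sub_self]
    have hex : (ShortComplex.mk (J.toCycles (p - 1) p) (J.homologyπ p) (J.toCycles_comp_homologyπ _ _)).Exact :=
      ShortComplex.exact_of_g_is_cokernel _ (J.homologyIsCokernel (p - 1) p (by simp))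
    obtain ⟨T₃, π₃, hπ₃, j₃, hj₃⟩ := hex.exact_up_to_refinements _ hzero
    obtain ⟨T₄, π₄, hπ₄, i₄, hi₄⟩ := surjective_up_to_refinements_of_epi (φ.f (p - 1)) j₃
    refine ⟨T₄, π₄ ≫ π₃ ≫ π₂ ≫ π₁, inferInstance,
      π₄ ≫ π₃ ≫ k₂ + i₄ ≫ K.toCycles (p - 1) p, ?_⟩
    have hnat : K.toCycles (p - 1) p ≫ HomologicalComplex.cyclesMap φ p = φ.f (p - 1) ≫ J.toCycles (p - 1) p := by
      rw [← cancel_mono (J.iCycles p)]
      simp
    dsimp at hj₃ hi₄ ⊢
    have h5 := π₄ ≫= hj₃
    rw [Preadditive.comp_sub, Preadditive.comp_sub, reassoc_of% hi₄, ← hnat] at h5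
    simp only [Category.assoc, Preadditive.add_comp]
    rw [← h5, add_sub_cancel]
  · intro h
    have h2 : Epi (K.homologyπ p ≫ HomologicalComplex.homologyMap φ p) := by
      rw [HomologicalComplex.homologyπ_naturality]
      infer_instance
    exact epi_of_epi (K.homologyπ p) (HomologicalComplex.homologyMap φ p)

end Groth.Agent.S14421
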