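import Groth.Statements.S14423
import Groth.Agent.Lib.Tor.TorOneKer
import Mathlib

set_option autoImplicit false
set_option backward.isDefEq.respectTransparency false
universe u
open CategoryTheory
open CAlg

namespace Groth.Agent.S14423

open DirectSum

theorem mem_smul_ker {S : Type u} [CommRing S] (I : Ideal S) {F M : Type u} [AddCommGroup F] [Module S F]
    [Module.Flat S F] [AddCommGroup M] [Module S M] (π : F →ₗ[S] M) (hπ : Function.Surjective π)
    (h : Limits.IsZero (((Tor (ModuleCat.{u} S) 1).obj (ModuleCat.of S M)).obj (ModuleCat.of S (S ⧸ I))))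
    (v : F) (hv : v ∈ LinearMap.ker π) (hvI : v ∈ I • (⊤ : Submodule S F)) :
    v ∈ I • LinearMap.ker π := by
  let ι := ModuleCat.ofHom (LinearMap.ker π).subtype
  obtain ⟨e⟩ := Groth.Agent.Lib.Tor.TorOneKer.torOne_iso_ker ι (ModuleCat.ofHom π)
    Subtype.val_injective hπ (LinearMap.exact_subtype_ker_map π) (ModuleCat.of S (S ⧸ I))
  haveI : Subsingleton (LinearMap.ker (LinearMap.rTensor (S ⧸ I) (LinearMap.ker π).subtype)) :=
    ModuleCat.subsingleton_of_isZero (h.of_iso e.symm)
  have h0 : LinearMap.rTensor (S ⧸ I) (LinearMap.ker π).subtype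
      (⟨v, hv⟩ ⊗ₜ (Ideal.Quotient.mk I 1)) = 0 := by
    rw [LinearMap.rTensor_tmul]
    apply (TensorProduct.tensorQuotEquivQuotSMul F I).injective
    rw [TensorProduct.tensorQuotEquivQuotSMul_tmul_mk, map_zero, one_smul,
      Submodule.Quotient.mk_eq_zero, Submodule.subtype_apply]
    exact hvI
  have h1 : (⟨v, hv⟩ : LinearMap.ker π) ⊗ₜ[S] (Ideal.Quotient.mk I 1) = 0 :=
    congrArg Subtype.val (Subsingleton.elim
      (⟨_, LinearMap.mem_ker.mpr h0⟩ : LinearMap.ker (LinearMap.rTensor (S ⧸ I) (LinearMap.ker π).subtype)) 0)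
  have h2 := congrArg (TensorProduct.tensorQuotEquivQuotSMul (LinearMap.ker π) I) h1
  rw [TensorProduct.tensorQuotEquivQuotSMul_tmul_mk, map_zero, one_smul,
    Submodule.Quotient.mk_eq_zero] at h2
  have h3 := Submodule.mem_map_of_mem (f := (LinearMap.ker π).subtype) h2
  rwa [Submodule.map_smul'', Submodule.map_top, Submodule.range_subtype] at h3

theorem exists_minimal_generators {R : Type*} [CommRing R] {σ : Type*} [SetLike σ R]
    [AddSubmonoidClass σ R] (𝒜 : ℕ → σ) [GradedRing 𝒜]
    {M : Type*} [AddCommGroup M] [Module R M] [Module.Finite R M]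
    {τ : Type*} [SetLike τ M] [AddSubmonoidClass τ M] (ℳ : ℕ → τ) [DirectSum.Decomposition ℳ]
    [SetLike.GradedSMul 𝒜 ℳ]
    (hunit : ∀ a : R, (decompose 𝒜 a 0 : R) ≠ 0 → IsUnit (decompose 𝒜 a 0 : R)) :
    ∃ n, ∃ (x : Fin n → M) (d : Fin n → ℕ), (∀ i, x i ∈ ℳ (d i)) ∧
      Submodule.span R (Set.range x) = ⊤ ∧
      ∀ c, Fintype.linearCombination R x c = 0 → ∀ i, (decompose 𝒜 (c i) 0 : R) = 0 := by
  classical
  -- minimal homogeneous generators
  have hgen : ∃ n : ℕ, ∃ (x : Fin n → M) (d : Fin n → ℕ), (∀ i, x i ∈ ℳ (d i)) ∧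
      Submodule.span R (Set.range x) = ⊤ := by
    obtain ⟨S, hS⟩ := Module.Finite.fg_top (R := R) (M := M)
    let T : Finset (ℕ × M) := S.biUnion fun m =>
      (decompose ℳ m).support.image fun j => (j, (decompose ℳ m j : M))
    refine ⟨Fintype.card T, fun i => ((Fintype.equivFin T).symm i).1.2,
      fun i => ((Fintype.equivFin T).symm i).1.1, fun i => ?_, ?_⟩
    · obtain ⟨m, -, hm⟩ := Finset.mem_biUnion.mp ((Fintype.equivFin T).symm i).2
      obtain ⟨j, -, hj⟩ := Finset.mem_image.mp hm
      simp only []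
      rw [← hj]
      exact (decompose ℳ m j).2
    · rw [eq_top_iff, ← hS, Submodule.span_le]
      intro m hm
      rw [SetLike.mem_coe, ← DirectSum.sum_support_decompose ℳ m]
      refine sum_mem fun j hj => Submodule.subset_span ?_
      exact ⟨Fintype.equivFin T ⟨(j, (decompose ℳ m j : M)), Finset.mem_biUnion.mpr
        ⟨m, hm, Finset.mem_image.mpr ⟨j, hj, rfl⟩⟩⟩, by simp⟩
  obtain ⟨x, d, hxd, hspan⟩ := Nat.find_spec hgen
  refine ⟨Nat.find hgen, x, d, hxd, hspan, ?_⟩
  intro c hc j
  by_contra hne
  have hu : IsUnit (decompose 𝒜 (c j) 0 : R) := hunit _ hne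
  have hdec : ∀ (a : R) (i : Fin (Nat.find hgen)) (g : ℕ),
      (decompose ℳ (a • x i) g : M) = (if d i ≤ g then (decompose 𝒜 a (g - d i) : R) else 0) • x i := by
    intro a i g
    induction a using DirectSum.Decomposition.inductionOn 𝒜 with
    | zero => simp
    | @homogeneous e a =>
      have hmem : (a : R) • x i ∈ ℳ (e + d i) := SetLike.GradedSMul.smul_mem a.2 (hxd i)
      by_cases hg : e + d i = g
      · subst hg
        rw [decompose_of_mem_same ℳ hmem, if_pos (Nat.le_add_left _ _), Nat.add_sub_cancel,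
          decompose_of_mem_same 𝒜 a.2]
      · rw [decompose_of_mem_ne ℳ hmem hg]
        split_ifs with hle
        · rw [decompose_of_mem_ne 𝒜 a.2 (by omega), zero_smul]
        · rw [zero_smul]
    | add u v hu hv =>
      simp only [add_smul, decompose_add, DirectSum.add_apply, AddMemClass.coe_add, hu, hv]
      split_ifs <;> simp [add_smul]
  have h := congrArg (fun m => (decompose ℳ m (d j) : M)) hc
  simp only [Fintype.linearCombination_apply, decompose_sum, decompose_zero, DirectSum.zero_apply,
    ZeroMemClass.coe_zero] at h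
  erw [DFinsupp.finset_sum_apply] at h
  rw [AddSubmonoidClass.coe_finset_sum] at h
  simp only [hdec] at h
  rw [← Finset.add_sum_erase _ _ (Finset.mem_univ j), if_pos le_rfl, Nat.sub_self] at h
  have hmem : x j ∈ Submodule.span R (x '' {i | i ≠ j}) := by
    rw [← Submodule.smul_mem_iff_of_isUnit _ hu, eq_neg_of_add_eq_zero_left h]
    exact neg_mem (sum_mem fun i hi => Submodule.smul_mem _ _
      (Submodule.subset_span ⟨i, (Finset.mem_erase.mp hi).1, rfl⟩))
  obtain ⟨n, hn⟩ : ∃ n, Nat.find hgen = n + 1 :=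
    ⟨Nat.find hgen - 1, by have := j.pos; omega⟩
  refine Nat.find_min hgen (show n < Nat.find hgen by omega)
    ⟨fun i => x (Fin.cast hn.symm ((Fin.cast hn j).succAbove i)),
      fun i => d (Fin.cast hn.symm ((Fin.cast hn j).succAbove i)), fun i => hxd _, ?_⟩
  refine top_unique (hspan.ge.trans (Submodule.span_le.mpr ?_))
  have key : ∀ i, i ≠ j → x i ∈ Submodule.span R
      (Set.range fun i => x (Fin.cast hn.symm ((Fin.cast hn j).succAbove i))) := by
    intro i hi
    obtain ⟨e, he⟩ := Fin.exists_succAbove_eq (x := Fin.cast hn i) (y := Fin.cast hn j)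
      (fun h' => hi (Fin.cast_injective hn h'))
    exact Submodule.subset_span ⟨e, by simp only []; rw [he]; rfl⟩
  rintro _ ⟨i, rfl⟩
  by_cases hi : i = j
  · subst hi
    exact Submodule.span_le.mpr (by rintro _ ⟨l, hl, rfl⟩; exact key l hl) hmem
  · exact key i hi


/-- Graded freeness criterion: let k be a field, S = k[x_0, …, x_n] with its standard grading by degree,
and M a finitely generated graded S-module. If Tor_1^S(M, k) = 0, where k = S/S_+ (S modulo the
ideal of polynomials with zero constant term) and Tor_1^S(M, ·) is the first left derived functor of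
M ⊗_S ·, then M is free with a basis of homogeneous elements, i.e. M is isomorphic as a graded
module to a finite direct sum of shifted copies S(−d_i). (Here the module is graded in non-negative
degrees; the published statement allows any integer degrees.) -/
theorem result (k : Type u) [Field k] (n : ℕ)
    (M : Type u) [AddCommGroup M] [Module (MvPolynomial (Fin (n + 1)) k) M]
    [Module.Finite (MvPolynomial (Fin (n + 1)) k) M]
    (ℳ : ℕ → AddSubgroup M)
    [SetLike.GradedSMul (MvPolynomial.homogeneousSubmodule (Fin (n + 1)) k) ℳ]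
    [DirectSum.Decomposition ℳ]
    (h : Limits.IsZero (((Tor (ModuleCat.{u} (MvPolynomial (Fin (n + 1)) k)) 1).obj
      (ModuleCat.of (MvPolynomial (Fin (n + 1)) k) M)).obj
      (ModuleCat.of (MvPolynomial (Fin (n + 1)) k)
        (MvPolynomial (Fin (n + 1)) k ⧸
          RingHom.ker (MvPolynomial.constantCoeff : MvPolynomial (Fin (n + 1)) k →+* k))))) :
    ∃ (ι : Type u) (b : Module.Basis ι (MvPolynomial (Fin (n + 1)) k) M),
      ∀ i, SetLike.IsHomogeneousElem ℳ (b i) := by
  classical
  letI := MvPolynomial.gradedAlgebra (σ := Fin (n + 1)) (R := k)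
  let S := MvPolynomial (Fin (n + 1)) k
  let 𝒜 := MvPolynomial.homogeneousSubmodule (Fin (n + 1)) k
  let I : Ideal S := RingHom.ker (MvPolynomial.constantCoeff : MvPolynomial (Fin (n + 1)) k →+* k)
  have hdec0 : ∀ a : S, (decompose 𝒜 a 0 : S) = MvPolynomial.C (MvPolynomial.constantCoeff a) :=
    fun a => by
      erw [MvPolynomial.decomposition.decompose'_apply, MvPolynomial.homogeneousComponent_zero]
      rfl
  obtain ⟨N, x, d, hxd, hspan, hrel⟩ := exists_minimal_generators 𝒜 ℳ (fun a ha => by
    rw [hdec0] at ha ⊢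
    exact (IsUnit.mk0 _ fun h0 => ha (by rw [h0, map_zero])).map MvPolynomial.C)
  let π : (Fin N → S) →ₗ[S] M := Fintype.linearCombination S x
  have hπ : Function.Surjective π := by
    rw [← LinearMap.range_eq_top, Fintype.range_linearCombination, hspan]
  have hKI : LinearMap.ker π ≤ I • LinearMap.ker π := by
    intro v hv
    refine mem_smul_ker I π hπ h v hv ?_
    have hI : ∀ i, v i ∈ I := fun i => by
      rw [RingHom.mem_ker]
      have := hrel v hv i
      rw [hdec0] at this
      exact MvPolynomial.C_injective _ _ (by rw [this, map_zero])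
    rw [pi_eq_sum_univ' v]
    exact sum_mem fun i _ => Submodule.smul_mem_smul (hI i) trivial
  obtain ⟨r, hr, hrK⟩ := Submodule.exists_sub_one_mem_and_smul_eq_zero_of_fg_of_le_smul I
    (LinearMap.ker π) (IsNoetherian.noetherian _) hKI
  have hr0 : r ≠ 0 := by
    rintro rfl
    simp [I, RingHom.mem_ker] at hr
  have hinj : Function.Injective π := by
    rw [← LinearMap.ker_eq_bot, Submodule.eq_bot_iff]
    intro v hv
    funext i
    exact (mul_eq_zero.mp (congrFun (hrK v hv) i)).resolve_left hr0
  let b : Module.Basis (Fin N) S M :=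
    (Pi.basisFun S (Fin N)).map (LinearEquiv.ofBijective π ⟨hinj, hπ⟩)
  refine ⟨ULift.{u} (Fin N), b.reindex Equiv.ulift.symm, fun i => ⟨d i.down, ?_⟩⟩
  have : b.reindex Equiv.ulift.symm i = x i.down := by
    simp [b, π, Fintype.linearCombination_apply, Pi.basisFun_apply, Pi.single_apply]
  rw [this]
  exact hxd _

end Groth.Agent.S14423
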