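import Groth.Statements.S14430
import Groth.Agent.Lib.Devissage.LocFreeK0
import Groth.Agent.S1109
import Groth.Agent.S10829
import Groth.Agent.Lib.Cyc.SmoothReg
import Groth.Agent.Lib.Cyc.TorPD
import Groth.Agent.Lib.UnifReg.Step

set_option autoImplicit false
universe u
open CategoryTheory CategoryTheory.Limits AlgebraicGeometry
open KZero

namespace Groth.Agent.S14430

/-- Let k be an algebraically closed field and X a smooth quasi-projective variety over k — here a
k-scheme smooth over k admitting an immersion into some P^N_k over k. Write K^0(X) for the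
Grothendieck group of finite locally free O_X-modules and K_0(X) for that of coherent O_X-modules
(K_0 of the corresponding full subcategories of O_X-modules, with relations from short exact
sequences all of whose terms lie in the subcategory). Then there is a homomorphism K^0(X) → K_0(X)
sending the class of each finite locally free E to its class as a coherent module (the canonical
one, determined by this), and it is bijective. (The published statement is for smooth
quasi-projective varieties; this row takes a k-scheme smooth over k with an immersion into some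
P^N_k, reduced since smooth; irreducibility is not assumed.) -/
theorem result (k : Type u) [Field k] [IsAlgClosed k] (N : ℕ)
    (X : Scheme.{u}) [X.Over (Spec (CommRingCat.of k))] [Smooth (X ↘ Spec (CommRingCat.of k))]
    (ι : X ⟶ CohB1.ProjSpace N k) [IsImmersion ι] (hι : ι ≫ CohB1.ProjSpace.toSpec N k = X ↘ Spec (CommRingCat.of k)) :
    ∃ α : KZero.K0sub (fun M : X.Modules => FlatMod.IsFinLocFree M) →+ KZero.K0sub (fun M : X.Modules => Coh.IsCoh M),
      (∀ E : X.Modules, FlatMod.IsFinLocFree E →
        α (KZero.clSub (fun M : X.Modules => FlatMod.IsFinLocFree M) E) = KZero.clSub (fun M : X.Modules => Coh.IsCoh M) E) ∧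
      Function.Bijective α := by
  haveI : IsLocallyNoetherian X :=
    LocallyOfFiniteType.isLocallyNoetherian (X ↘ Spec (CommRingCat.of k))
  haveI : AlgebraicGeometry.IsNoetherian (CohB1.ProjSpace N k) :=
    Groth.Agent.Lib.UnifReg.Step.isNoetherian_proj N k
  haveI : TopologicalSpace.NoetherianSpace X :=
    Topology.IsInducing.noetherianSpace ι.isEmbedding.isInducing
  haveI : AlgebraicGeometry.IsNoetherian X := {}
  haveI : (CohB1.ProjSpace N k).IsSeparated :=
    ⟨by
      rw [← terminal.comp_from (CohB1.ProjSpace.toSpec N k)]
      infer_instance⟩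
  haveI : X.IsSeparated := ⟨by
    rw [← terminal.comp_from ι]
    infer_instance⟩
  have hreg : ∀ x : X, IsRegularLocalRing (X.presheaf.stalk x) := fun x =>
    Groth.Agent.Lib.Cyc.SmoothReg.isRegularLocalRing_stalk (X ↘ Spec (CommRingCat.of k)) x
  have hd : ∀ (x : X) (M : X.Modules), Coh.IsCoh M → Groth.Agent.Lib.Devissage.LocFreeK0.PD M x N := by
    intro x M hM
    haveI := hreg x
    haveI : Module.Finite (X.presheaf.stalk x) (M.presheaf.stalk x) :=
      Groth.Agent.Lib.RefHull.LocFree.finite_stalk hM x
    refine Groth.Agent.Lib.Regular.PD.pdle_mono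
      (Groth.Agent.Lib.Regular.Serre.pdle_all (R := X.presheaf.stalk x) (M.presheaf.stalk x)) ?_
    have h1 := IsRegularLocalRing.spanFinrank_maximalIdeal (R := X.presheaf.stalk x)
    have h2 := (Groth.Agent.Lib.Cyc.TorPD.ringKrullDim_stalk_le x).trans
      ((ι.isEmbedding.isInducing.topologicalKrullDim_le).trans (Groth.Agent.S10829.result k N).le)
    rw [← h1] at h2
    exact_mod_cast h2
  have hres : PerfAux.HasResolutionProperty X :=
    Groth.Agent.S1109.result X hreg fun U V hU hV => hU.inf hV
  have hle : ∀ M : X.Modules, FlatMod.IsFinLocFree M → Coh.IsCoh M := fun M hM =>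
    Groth.Agent.Lib.Devissage.LocFreeK0.isCoh_of_locFree hM
  exact ⟨_, fun E hE => Groth.Agent.Lib.KRes.KSub.mapSub_cl (𝟭 X.Modules) hle hE,
    Groth.Agent.Lib.Devissage.LocFreeK0.bijective N hd hres hle⟩

end Groth.Agent.S14430
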