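import Groth.Statements.S14431
import Groth.Agent.H26.GenBertini


set_option autoImplicit false
universe u
open CategoryTheory CategoryTheory.Limits AlgebraicGeometry
open Variety

namespace Groth.Agent.S14431
open Groth.Agent.H26

/-- Let k be an algebraically closed field of characteristic zero, X an integral k-scheme of finite type
which is smooth over k, L an invertible O_X-module and s_0, …, s_m global sections of L (morphisms
O_X → L) generating L, i.e. their zero schemes have empty intersection (the sum of their zero ideal
sheaves is the unit ideal). Then the members of the linear system spanned by the s_i corresponding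
to a nonempty Zariski-open set of parameters are smooth: there is a nonzero polynomial p in m + 1
variables over k such that for every c ∈ k^{m+1} with p(c) ≠ 0 the zero scheme of the section Σ c_i
s_i is smooth over k (equivalently, the corresponding divisor is reduced with smooth support). (The
published statement is for varieties, which are separated; this row does not assume X separated.) -/
theorem result (k : Type u) [Field k] [IsAlgClosed k] [CharZero k]
    (X : Scheme.{u}) [X.Over (Spec (CommRingCat.of k))] [IsIntegral X]
    [Smooth (X ↘ Spec (CommRingCat.of k))] [QuasiCompact (X ↘ Spec (CommRingCat.of k))]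
    (L : X.Modules) (hL : FlatMod.IsFinLocFreeOfRank 1 L) (m : ℕ)
    (s : Fin (m + 1) → (Coh.structureModule X ⟶ L))
    (hgen : ⨆ i : Fin (m + 1), PicF2.zeroScheme L (s i) = ⊤) :
    ∃ p : MvPolynomial (Fin (m + 1)) k, p ≠ 0 ∧ ∀ c : Fin (m + 1) → k, MvPolynomial.eval c p ≠ 0 →
      Smooth ((PicF2.zeroScheme L (∑ i : Fin (m + 1), Formal.smulMod k (Coh.structureModule X) (c i) ≫ s i)).subschemeι ≫
        (X ↘ Spec (CommRingCat.of k))) := by
  have hL' := Groth.Agent.Lib.TensorMod.LocFree.isInvertible_of_rank_one hL
  obtain ⟨q, hq0, hq⟩ := JetBertiniScheme.exists_poly_scheme s 0 hL' fun F => by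
    letI := JetBertiniScheme.algΓ (k := k) F.V.1
    haveI := JetBertiniScheme.smooth_algΓ (k := k) F.V.2
    haveI : Algebra.FiniteType k Γ(X, F.V.1) := inferInstance
    refine GenBertini.exists_poly_ring (k := k) _ _ ?_
    have h := congrArg (fun I : X.IdealSheafData => I.ideal F.V) hgen
    simp only [Scheme.IdealSheafData.ideal_iSup, iSup_apply, Scheme.IdealSheafData.ideal_top,
      Pi.top_apply, ZeroFrame.zeroScheme_ideal_eq hL'] at h
    rw [← Set.iUnion_singleton_eq_range, Ideal.span, Submodule.span_iUnion]
    exact h
  exact ⟨q, hq0, fun c hc => zero_add (∑ i : Fin (m + 1), Formal.smulMod k (Coh.structureModule X) (c i) ≫ s i) ▸ hq c hc⟩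

end Groth.Agent.S14431
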