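import Groth.Statements.S14434
import Groth.Agent.Lib.Tor.Balance
import Mathlib.Algebra.Homology.Augment

set_option autoImplicit false
universe u
open CAlg
open CategoryTheory CategoryTheory.Limits

namespace Groth.Agent.S14434

/-- Let R be a commutative ring, M an R-module and x ∈ R a non-zero-divisor on R and on M. Then
Tor_i^R(M, R/(x)) = 0 for all i ≥ 1 (Tor computed as the left derived functors of the tensor product
on R-modules). -/
theorem result {R : Type u} [CommRing R] (M : Type u) [AddCommGroup M] [Module R M]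
    (x : R) (hxR : IsSMulRegular R x) (hxM : IsSMulRegular M x) (i : ℕ) (hi : 1 ≤ i) :
    Subsingleton (DRing.Tor R i M (R ⧸ Ideal.span {x})) := by
  let B : ModuleCat.{u} R := ModuleCat.of R (R ⧸ Ideal.span {x})
  let C : ChainComplex (ModuleCat.{u} R) ℕ := (ChainComplex.single₀ _).obj (ModuleCat.of R R)
  let m : C.X 0 ⟶ ModuleCat.of R R := ModuleCat.ofHom (LinearMap.lsmul R R x)
  have w : C.d 1 0 ≫ m = 0 := by simp [C]; exact zero_comp
  let P : ChainComplex (ModuleCat.{u} R) ℕ := C.augment m w
  have hzero : ∀ k, IsZero (P.X (k + 2)) := fun k =>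
    HomologicalComplex.isZero_single_obj_X (ComplexShape.down ℕ) 0 (ModuleCat.of R R) (k + 1) (by simp)
  have hflat : ∀ k, Module.Flat R (P.X k) := by
    intro k
    match k with
    | 0 => exact inferInstanceAs (Module.Flat R R)
    | 1 => exact inferInstanceAs (Module.Flat R R)
    | k + 2 =>
      have := ModuleCat.subsingleton_of_isZero (hzero k)
      infer_instance
  have hexact : ∀ k, P.ExactAt (k + 1) := by
    intro k
    match k with
    | 0 =>
      rw [HomologicalComplex.exactAt_iff' _ 2 1 0 (by simp) (by simp),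
        ShortComplex.moduleCat_exact_iff_ker_sub_range]
      intro (z : R) hz
      change x • z = 0 at hz
      have : z = 0 := hxR (hz.trans (smul_zero x).symm)
      exact this ▸ Submodule.zero_mem _
    | k + 1 => exact HomologicalComplex.ExactAt.of_isZero (hzero k)
  let ε : P.X 0 ⟶ B := ModuleCat.ofHom (Ideal.span {x}).mkQ
  have hw : P.d 1 0 ≫ ε = 0 := by
    ext
    exact Ideal.Quotient.eq_zero_iff_mem.2 (Ideal.mem_span_singleton'.2 ⟨1, by change 1 * x = x • (1 : R); simp⟩)
  have hex : (ShortComplex.mk _ _ hw).Exact :=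
    (ShortComplex.moduleCat_exact_iff_ker_sub_range _).2 fun (z : R) hz => by
      obtain ⟨a, ha⟩ := Ideal.mem_span_singleton'.1 (Ideal.Quotient.eq_zero_iff_mem.1 hz)
      exact ⟨a, by change x • a = z; rw [smul_eq_mul, mul_comm, ha]⟩
  have e := (Groth.Agent.Lib.Tor.Balance.torFlipIso (ModuleCat.of R M) B i) ≪≫
    ((Groth.Agent.Lib.Tor.Balance.torIsoOfFlatResolution P hflat hexact ε hw
      ((ModuleCat.epi_iff_surjective ε).2 (Submodule.mkQ_surjective _)) hex i).app (ModuleCat.of R M)).symm
  refine ModuleCat.subsingleton_of_isZero (IsZero.of_iso ?_ e)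
  apply HomologicalComplex.ExactAt.isZero_homology
  obtain ⟨k, rfl⟩ : ∃ k, i = k + 1 := ⟨i - 1, by omega⟩
  match k with
  | 0 =>
    rw [HomologicalComplex.exactAt_iff' _ 2 1 0 (by simp) (by simp),
      ShortComplex.moduleCat_exact_iff_ker_sub_range]
    intro (z : TensorProduct R R M) hz
    change LinearMap.rTensor M (LinearMap.lsmul R R x) z = 0 at hz
    obtain ⟨y, rfl⟩ := (TensorProduct.lid R M).symm.surjective z
    rw [TensorProduct.lid_symm_apply, LinearMap.rTensor_tmul] at hz
    have h1 := congrArg (TensorProduct.lid R M) hz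
    simp only [LinearMap.lsmul_apply, smul_eq_mul, mul_one, TensorProduct.lid_tmul, map_zero] at h1
    have : y = 0 := hxM (h1.trans (smul_zero x).symm)
    subst this
    exact ⟨0, (map_zero _).trans (by simp; rfl)⟩
  | k + 1 =>
    exact HomologicalComplex.ExactAt.of_isZero ((MonoidalCategory.tensorRight (ModuleCat.of R M)).map_isZero (hzero k))

end Groth.Agent.S14434
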