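import Groth.Statements.S14438
import Groth.Agent.H24.SemilocalLength
import Mathlib.LinearAlgebra.Dimension.Constructions
import Mathlib.LinearAlgebra.TensorProduct.Quotient
import Mathlib.RingTheory.Artinian.Ring
import Mathlib.RingTheory.Ideal.GoingUp
import Mathlib.RingTheory.TensorProduct.Free
import Mathlib.RingTheory.TensorProduct.Finite

set_option autoImplicit false
universe u
open CAlg

namespace Groth.Agent.S14438

/-- Let (A, m) be a local ring, B a commutative A-algebra which is free of finite rank d as an A-module,
and assume that for every maximal ideal n of B containing mB the induced map of residue fields A/m →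
B/n is bijective (as for the points of a fibre of a finite flat morphism of varieties over an
algebraically closed field). Then the multiplicities of the points of the fibre add up to the
degree: the sum over all such n of the length of the B_n-module (B/mB)_n equals d. -/
theorem result (A B : Type u) [CommRing A] [IsLocalRing A] [CommRing B] [Algebra A B]
    [Module.Free A B] [Module.Finite A B] (d : ℕ) (hd : Module.finrank A B = d)
    (hres : ∀ (n : Ideal B) [n.IsMaximal] (h : Ideal.map (algebraMap A B) (IsLocalRing.maximalIdeal A) ≤ n),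
      Function.Bijective (Ideal.quotientMap n (algebraMap A B) (Ideal.map_le_iff_le_comap.mp h))) :
    finsum (fun n : {n : MaximalSpectrum B // Ideal.map (algebraMap A B) (IsLocalRing.maximalIdeal A) ≤ n.asIdeal} =>
      Module.length (Localization.AtPrime n.1.asIdeal)
        (LocalizedModule n.1.asIdeal.primeCompl (B ⧸ Ideal.map (algebraMap A B) (IsLocalRing.maximalIdeal A)))) = (d : ℕ∞) := by
  classical
  let mA := IsLocalRing.maximalIdeal A
  let J : Ideal B := Ideal.map (algebraMap A B) mA
  haveI : Algebra.IsIntegral A B := Algebra.IsIntegral.of_finite A B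
  have hover : ∀ n : MaximalSpectrum B, n.asIdeal.comap (algebraMap A B) = mA := fun n => by
    haveI := n.isMaximal
    exact IsLocalRing.eq_maximalIdeal (Ideal.isMaximal_comap_of_isIntegral_of_isMaximal n.asIdeal)
  have hle : ∀ n : MaximalSpectrum B, J ≤ n.asIdeal := fun n => Ideal.map_le_iff_le_comap.2 (hover n).ge
  -- the fibre
  let k := A ⧸ mA
  letI : Field k := Ideal.Quotient.field mA
  let e : (TensorProduct A k B) ≃ₗ[A] B ⧸ J :=
    (TensorProduct.quotTensorEquivQuotSMul B mA).trans
      ((Submodule.quotEquivOfEq _ _ (Ideal.smul_top_eq_map mA)).trans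
        (Submodule.Quotient.restrictScalarsEquiv A J))
  haveI : Module.Finite k (TensorProduct A k B) := Module.Finite.base_change A k B
  have hlen : Module.length A (B ⧸ J) = (d : ℕ∞) := by
    rw [← e.length_eq, Module.length_eq_of_surjective (R := k) (S := A) (M := TensorProduct A k B)
      Ideal.Quotient.mk_surjective, Module.length_eq_finrank, Module.finrank_baseChange, hd]
  have hfl : IsFiniteLength A (B ⧸ J) := Module.length_ne_top_iff.1 (by rw [hlen]; exact ENat.coe_ne_top d)
  obtain ⟨hN, hA⟩ := isFiniteLength_iff_isNoetherian_isArtinian.1 hfl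
  haveI : IsArtinianRing (B ⧸ J) := isArtinian_of_tower A hA
  haveI : Finite (MaximalSpectrum B) := by
    refine Finite.of_surjective (fun m : MaximalSpectrum (B ⧸ J) =>
      (⟨m.asIdeal.comap (Ideal.Quotient.mk J),
        Ideal.comap_isMaximal_of_surjective (H := m.isMaximal) _ Ideal.Quotient.mk_surjective⟩ : MaximalSpectrum B)) ?_
    intro n
    haveI := n.isMaximal
    exact ⟨⟨n.asIdeal.map (Ideal.Quotient.mk J), Ideal.IsMaximal.map_of_surjective_of_ker_le
      Ideal.Quotient.mk_surjective (by rw [Ideal.mk_ker]; exact hle n)⟩, MaximalSpectrum.ext (by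
      show Ideal.comap _ (Ideal.map _ n.asIdeal) = n.asIdeal
      rw [Ideal.comap_map_quotientMk, sup_eq_right.2 (hle n)])⟩
  have hbij : ∀ n : MaximalSpectrum B,
      Function.Bijective (algebraMap (A ⧸ n.asIdeal.comap (algebraMap A B)) (B ⧸ n.asIdeal)) := fun n => by
    haveI := n.isMaximal
    have h1 := hres n.asIdeal (hle n)
    refine ⟨Ideal.quotientMap_injective, fun y => ?_⟩
    obtain ⟨x, hx⟩ := h1.2 y
    obtain ⟨a, rfl⟩ := Ideal.Quotient.mk_surjective x
    exact ⟨Ideal.Quotient.mk _ a, hx⟩
  have hfin : ∀ n : MaximalSpectrum B,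
      Module.Finite (A ⧸ n.asIdeal.comap (algebraMap A B)) (B ⧸ n.asIdeal) := fun n =>
    Module.Finite.of_surjective (Algebra.linearMap _ _) (hbij n).2
  have hrank : ∀ n : MaximalSpectrum B,
      Module.finrank (A ⧸ n.asIdeal.comap (algebraMap A B)) (B ⧸ n.asIdeal) = 1 := fun n => by
    haveI : Nontrivial (A ⧸ n.asIdeal.comap (algebraMap A B)) := Ideal.Quotient.nontrivial_iff.2 (by
      rw [hover n]; exact (IsLocalRing.maximalIdeal.isMaximal A).ne_top)
    rw [← (LinearEquiv.ofBijective (Algebra.linearMap _ _) (hbij n)).finrank_eq, Module.finrank_self]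
  have hflB : IsFiniteLength B (B ⧸ J) := isFiniteLength_iff_isNoetherian_isArtinian.2
    ⟨isNoetherian_of_tower A hN, isArtinian_of_tower A hA⟩
  rw [← hlen, Groth.Agent.H24.SemilocalLength.length_eq_total hover hfin _ hflB,
    Groth.Agent.H24.SemilocalLength.total]
  simp only [hrank, Nat.cast_one, one_mul]
  exact finsum_comp_equiv (Equiv.subtypeUnivEquiv hle)
    (f := fun n : MaximalSpectrum B => Module.length (Localization.AtPrime n.asIdeal)
      (LocalizedModule n.asIdeal.primeCompl (B ⧸ J)))

end Groth.Agent.S14438
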