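import Groth.Statements.S1444
import Groth.Agent.Lib.Amp36.Chart

set_option autoImplicit false
universe u
open FlatMor

namespace Groth.Agent.S1444

open AlgebraicGeometry CategoryTheory Limits in
/-- Let f : X → Y be proper with Y affine, all fibres of f of dimension at most 1, and H¹(X_y, O_{X_y})
= 0 for every point y of Y. Then H¹(X, F) = 0 for every quasi-coherent O_X-module F which is
globally generated (a quotient of a direct sum of copies of the structure sheaf). -/
theorem result {X Y : Scheme.{u}} (f : X ⟶ Y) [IsProper f] [IsAffine Y]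
    (hdim : ∀ y : Y, topologicalKrullDim ↑(f.fiber y) ≤ 1) (hH1 : ∀ y : Y, Subsingleton (Coh.HH (f.fiber y) (Coh.structureModule (f.fiber y)) 1))
    (F : X.Modules) (hF : Coh.IsQCoh F) (ι : Type u) (e : (∐ fun _ : ι => Coh.structureModule X) ⟶ F) [Epi e] :
    Subsingleton (Coh.HH X F 1) := by
  let hW : IsAffineOpen (⊤ : Y.Opens) := isAffineOpen_top Y
  letI := Groth.Agent.Lib.Amp36.Chart.ov f hW
  haveI := Groth.Agent.Lib.Amp36.Chart.isProper_ov f hW
  have hd : ∀ t ∈ (⊤ : Y.Opens), topologicalKrullDim ↥(f.fiber t) ≤ ((1 : ℕ) : WithBot ℕ∞) :=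
    fun t _ => hdim t
  let j := (f ⁻¹ᵁ (⊤ : Y.Opens)).ι
  let O' := Groth.Agent.Lib.Amp36.Chart.O₁ (f ⁻¹ᵁ (⊤ : Y.Opens)).toScheme
  let A := Γ(Y, ⊤)
  let T := CohIII.tensorAFunctor A O'
  haveI : PreservesColimitsOfSize.{u, u} T :=
    Groth.Agent.Lib.Amp36.TopDegree.preservesColimits_tensorA A O'
  haveI : PreservesColimitsOfShape (Discrete ι) (Scheme.Modules.restrictFunctor j) :=
    (Scheme.Modules.restrictAdjunction j).leftAdjoint_preservesColimits.preservesColimitsOfShape
  let M : ModuleCat.{u} A := ∐ fun _ : ι => ModuleCat.of A A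
  let i : T.obj M ≅ (∐ fun _ : ι => Coh.structureModule X).restrict j :=
    PreservesCoproduct.iso T (fun _ : ι => ModuleCat.of A A) ≪≫
      Sigma.mapIso (fun _ => ZarCoh.Exchange.Main.oneIso A O' ≪≫
        (Scheme.Modules.restrictUnitIso j).symm) ≪≫
      (PreservesCoproduct.iso (Scheme.Modules.restrictFunctor j) _).symm
  haveI : Epi ((Scheme.Modules.restrictFunctor j).map e) :=
    haveI := (Scheme.Modules.restrictAdjunction j).leftAdjoint_preservesColimits
    inferInstance
  let e' : T.obj M ⟶ F.restrict j := i.hom ≫ (Scheme.Modules.restrictFunctor j).map e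
  haveI : Epi e' := epi_comp _ _
  haveI : Subsingleton (Coh.HH (f ⁻¹ᵁ (⊤ : Y.Opens)).toScheme (T.obj M) 1) :=
    Groth.Agent.Lib.Amp36.Chart.zero_all f hW 1 hd (fun t _ => hH1 t) M
  haveI : SheafOfModules.IsQuasicoherent (R := (f ⁻¹ᵁ (⊤ : Y.Opens)).toScheme.ringCatSheaf)
      (F.restrict j) :=
    haveI : F.IsQuasicoherent := hF
    inferInstance
  have hsurj := Groth.Agent.Lib.FibreVanish36.Finite.hm_surjective e' 1
    (Groth.Agent.Lib.Amp36.Chart.van f hW 1 hd 1 le_rfl _
      (haveI := Groth.Agent.Lib.Amp36.TopDegree.isQCoh_G A O' M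
       Groth.Agent.Lib.QCoh.Closure.isQCoh_kernel _))
  haveI := hsurj.subsingleton
  exact (Groth.Agent.Lib.Amp36.Chart.nonempty_top j (Scheme.Opens.opensRange_ι _) F 1).some.toEquiv.symm.subsingleton

end Groth.Agent.S1444
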