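import Groth.Statements.S14442

set_option autoImplicit false
universe u
open GrNak

namespace Groth.Agent.S14442

/-- Let R be a commutative ℕ-graded ring with irrelevant ideal R_+ = ⊕_{i>0} R_i, M an ℕ-graded R-module
and N a graded submodule of M (closed under taking homogeneous components). If M = R_+ M + N then N
= M. (The published statement is for finitely generated ℤ-graded modules over a graded quotient of a
polynomial ring, whose degrees are then bounded below; stated here for non-negatively graded modules
over any ℕ-graded commutative ring, where the same lowest-degree argument applies without finite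
generation.) -/
theorem result {R : Type u} [CommRing R] {σ : Type u} [SetLike σ R] [AddSubmonoidClass σ R]
    (𝒜 : ℕ → σ) [GradedRing 𝒜]
    {M : Type u} [AddCommGroup M] [Module R M] {τ : Type u} [SetLike τ M] [AddSubmonoidClass τ M]
    (ℳ : ℕ → τ) [DirectSum.Decomposition ℳ] [SetLike.GradedSMul 𝒜 ℳ]
    (N : Submodule R M) (hN : ∀ x ∈ N, ∀ i : ℕ, (DirectSum.decompose ℳ x i : M) ∈ N)
    (h : (HomogeneousIdeal.irrelevant 𝒜).toIdeal • (⊤ : Submodule R M) ⊔ N = ⊤) :
    N = ⊤ := by
  classical
  refine top_unique fun x _ => ?_
  rw [← DirectSum.sum_support_decompose ℳ x]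
  refine N.sum_mem fun n _ => ?_
  suffices main : ∀ (n : ℕ) (a : M), a ∈ ℳ n → a ∈ N from main n _ (DirectSum.decompose ℳ x n).2
  intro n
  induction n using Nat.strong_induction_on with
  | _ n ih =>
    intro a ha
    have hcomp : ∀ y ∈ (HomogeneousIdeal.irrelevant 𝒜).toIdeal • (⊤ : Submodule R M), (DirectSum.decompose ℳ y n : M) ∈ N := by
      intro y hy
      refine Submodule.smul_induction_on hy (fun r hr m hm => ?_) (fun u v hu hv => by
        rw [DirectSum.decompose_add, DirectSum.add_apply, AddMemClass.coe_add]; exact N.add_mem hu hv)
      · rw [← DirectSum.sum_support_decompose 𝒜 r, Finset.sum_smul, DirectSum.decompose_sum]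
        erw [DFinsupp.finset_sum_apply]
        rw [AddSubmonoidClass.coe_finset_sum]
        refine N.sum_mem fun i hi => ?_
        have hi0 : i ≠ 0 := fun h0 => DFinsupp.mem_support_toFun _ _ |>.1 hi (Subtype.ext (by
          have := (HomogeneousIdeal.mem_irrelevant_iff 𝒜 r).1 hr
          rw [GradedRing.proj_apply] at this
          rw [h0, this]; rfl))
        clear hm
        induction m using DirectSum.Decomposition.inductionOn ℳ with
        | zero => simp
        | add u v hu hv => rw [smul_add, DirectSum.decompose_add, DirectSum.add_apply, AddMemClass.coe_add]; exact N.add_mem hu hv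
        | @homogeneous l m =>
          have hmem : (DirectSum.decompose 𝒜 r i : R) • (m : M) ∈ ℳ (i + l) := SetLike.GradedSMul.smul_mem (DirectSum.decompose 𝒜 r i).2 m.2
          by_cases hil : i + l = n
          · subst hil
            rw [DirectSum.decompose_of_mem_same ℳ hmem]
            exact N.smul_mem _ (ih l (by omega) _ m.2)
          · rw [DirectSum.decompose_of_mem_ne ℳ hmem hil]; exact N.zero_mem
    obtain ⟨y, hy, z, hz, rfl⟩ := Submodule.mem_sup.1 (h ▸ Submodule.mem_top (x := a))
    rw [← DirectSum.decompose_of_mem_same ℳ ha, DirectSum.decompose_add, DirectSum.add_apply, AddMemClass.coe_add]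
    exact N.add_mem (hcomp y hy) (hN z hz n)

end Groth.Agent.S14442
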