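import Groth.Statements.S14443
import Groth.Agent.Lib.FittSheaf.Omega
import Groth.Agent.Lib.GeomConn.Residue
import Groth.Agent.Lib.Kaehler.Chart
import Groth.Agent.Lib.StalkLoc.Basic
import Groth.Agent.Lib.Cyc.DimFun
import Groth.Agent.Lib.Cyc.FieldDim
import Groth.Agent.Lib.VarDim.Basic
import Mathlib.AlgebraicGeometry.IdealSheaf.Subscheme
import Mathlib.AlgebraicGeometry.Noetherian
import Mathlib.FieldTheory.IsAlgClosed.Basic
import Mathlib.RingTheory.Ideal.KrullsHeightTheorem
import Mathlib.Algebra.Module.SpanRankOperations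
import Groth.Agent.H75.RedSub

set_option autoImplicit false
universe u
open CategoryTheory CategoryTheory.Limits AlgebraicGeometry
attribute [local instance] FixPt.fiberModule
open Variety

namespace Groth.Agent.S14443

open TopologicalSpace IsLocalRing Groth.Agent.Lib

variable {k : Type u} [Field k] [IsAlgClosed k]

/-- At a closed point the stalk is the constants plus the maximal ideal. -/
theorem exists_const {X : Scheme.{u}} [X.Over (Spec (CommRingCat.of k))]
    [LocallyOfFiniteType (X ↘ Spec (CommRingCat.of k))] {x : X} (hx : IsClosed ({x} : Set X))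
    (a : X.presheaf.stalk x) :
    ∃ c : k, a - Curv2.stalkMap k X x c ∈ maximalIdeal (X.presheaf.stalk x) := by
  haveI : IsClosedImmersion (X.fromSpecResidueField x) :=
    IsClosedImmersion.of_isPreimmersion _ (by rw [Scheme.range_fromSpecResidueField]; exact hx)
  let φ : k →+* X.residueField x := Curv2.resMap k X x
  have h1 : LocallyOfFiniteType (Spec.map (CommRingCat.ofHom φ)) := by
    rw [GeomConn.Residue.specMap_resMap k X x]; infer_instance
  have h2 : φ.FiniteType := (HasRingHomProperty.Spec_iff (P := @LocallyOfFiniteType)).mp h1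
  letI : Algebra k (X.residueField x) := φ.toAlgebra
  haveI : Algebra.FiniteType k (X.residueField x) := h2
  haveI : Module.Finite k (X.residueField x) := finite_of_finite_type_of_isJacobsonRing k (X.residueField x)
  obtain ⟨c, hc⟩ := (IsAlgClosed.algebraMap_bijective_of_isIntegral (k := k) (K := X.residueField x)).2
    (X.residue x a)
  refine ⟨c, ?_⟩
  rw [← IsLocalRing.residue_eq_zero_iff, map_sub, sub_eq_zero]
  exact hc.symm

/-- A function vanishing at the image point dies on a reduced scheme mapped to that point. -/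
theorem stalkMap_eq_zero {Z Y : Scheme.{u}} [IsReduced Z] (g : Z ⟶ Y) (z : Z)
    (hg : ∀ w, g w = g z) {V : Y.Opens} (hV : g z ∈ V) (b : Γ(Y, V))
    (hb : Y.presheaf.germ V (g z) hV b ∈ maximalIdeal (Y.presheaf.stalk (g z))) :
    g.stalkMap z (Y.presheaf.germ V (g z) hV b) = 0 := by
  rw [Scheme.Hom.germ_stalkMap_apply]
  have h0 : Z.basicOpen (g.app V b) = ⊥ := by
    rw [← Scheme.preimage_basicOpen]
    ext w
    refine ⟨fun hw => ?_, fun hw => hw.elim⟩
    have h1 : g z ∈ Y.basicOpen b := hg w ▸ hw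
    exact absurd ((Y.mem_basicOpen b (g z) hV).1 h1) ((mem_maximalIdeal _).1 hb)
  rw [(basicOpen_eq_bot_iff _).1 h0, map_zero]

/-- Let k be an algebraically closed field, f : X → Y a morphism of k-schemes of finite type, x a closed
point of X and Z an irreducible closed subset of the fibre f⁻¹(f(x)) passing through x, of dimension
r. Then dim_k (Ω_{X/Y})_(x) ≥ r, where (Ω_{X/Y})_(x) = Ω_{X/Y,x} ⊗ k(x) is the fibre of the sheaf of
relative differentials at x, a vector space over k(x) = k (x is closed and k algebraically closed),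
regarded as a k-module through k → O_{X,x}. (The published statement is for varieties, i.e. X and Y
reduced and separated; this row assumes neither. Since X is locally of finite type over a field it
is locally Noetherian, so f is quasi-separated; the argument, T_x Z ⊆ ker(df_x) and dim T_x Z ≥ dim
Z, uses neither reducedness nor separatedness.) -/
theorem result (k : Type u) [Field k] [IsAlgClosed k]
    {X Y : Scheme.{u}} [X.Over (Spec (CommRingCat.of k))] [Y.Over (Spec (CommRingCat.of k))]
    [LocallyOfFiniteType (X ↘ Spec (CommRingCat.of k))] [QuasiCompact (X ↘ Spec (CommRingCat.of k))]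
    [LocallyOfFiniteType (Y ↘ Spec (CommRingCat.of k))] [QuasiCompact (Y ↘ Spec (CommRingCat.of k))]
    (f : X ⟶ Y) (hf : f ≫ (Y ↘ Spec (CommRingCat.of k)) = X ↘ Spec (CommRingCat.of k))
    (x : X) (hx : IsClosed ({x} : Set X)) (Z : Set X) (hZ : IsIrreducible Z) (hZc : IsClosed Z) (hxZ : x ∈ Z)
    (hZf : Z ⊆ f.base ⁻¹' {f.base x}) (r : ℕ) (hr : topologicalKrullDim ↥Z = (r : WithBot ℕ∞)) :
    r ≤ Module.finrank k (FixPt.fiber (Omega.sheaf f) x) := by
  let qX := X ↘ Spec (CommRingCat.of k)
  let qY := Y ↘ Spec (CommRingCat.of k)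
  haveI : LocallyOfFiniteType (f ≫ (Y ↘ Spec (CommRingCat.of k))) := by rw [hf]; infer_instance
  haveI : LocallyOfFiniteType f := locallyOfFiniteType_of_comp f (Y ↘ Spec (CommRingCat.of k))
  haveI : IsLocallyNoetherian X := LocallyOfFiniteType.isLocallyNoetherian qX
  haveI : QuasiSeparated (f ≫ (Y ↘ Spec (CommRingCat.of k))) := by rw [hf]; infer_instance
  haveI : QuasiSeparated f := QuasiSeparated.of_comp f (Y ↘ Spec (CommRingCat.of k))
  let Zc : Closeds X := ⟨Z, hZc⟩
  let Z' := (Scheme.IdealSheafData.vanishingIdeal Zc).subscheme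
  let ι : Z' ⟶ X := (Scheme.IdealSheafData.vanishingIdeal Zc).subschemeι
  haveI : IsReduced Z' := Groth.Agent.H75.RedSub.isReduced_vanishingIdeal _
  have hrange : Set.range ι = Z := by
    simp [ι, Z', Scheme.IdealSheafData.range_subschemeι, Scheme.IdealSheafData.coe_support_vanishingIdeal, Zc]
  obtain ⟨z, rfl⟩ : ∃ z, ι z = x := by
    have : x ∈ Set.range ι := hrange.symm ▸ hxZ
    exact this
  haveI : IrreducibleSpace ↥Z' := by
    have e : ↥Z' ≃ₜ ↥Z := ι.isClosedEmbedding.isEmbedding.toHomeomorph.trans (Homeomorph.setCongr hrange)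
    haveI : IrreducibleSpace ↥Z := Subtype.irreducibleSpace hZ
    exact e.symm.surjective.irreducibleSpace e.symm.continuous
  -- dimension of the local ring of `Z`
  let R := Z'.presheaf.stalk z
  haveI : IsLocallyNoetherian Z' := LocallyOfFiniteType.isLocallyNoetherian (ι ≫ qX)
  haveI : IsNoetherianRing R := inferInstanceAs (IsNoetherianRing (Z'.presheaf.stalk z))
  have hrR : (r : WithBot ℕ∞) ≤ ringKrullDim R := by
    have h := Cyc.DimFun.ringKrullDim_stalk (Cyc.FieldDim.isDimFun_fdelta (ι ≫ qX)) z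
    rw [VarDim.Basic.fdelta_eq, VarDim.Basic.fdelta_eq] at h
    have hz : VarDim.Basic.pdim (ι ≫ qX) z = 0 := (VarDim.Basic.pdim_eq_zero_iff _ z).2 (by
      have : IsClosed (ι ⁻¹' {ι z}) := hx.preimage ι.continuous
      rwa [show ι ⁻¹' {ι z} = {z} from Set.ext fun w => ι.isClosedEmbedding.injective.eq_iff] at this)
    rw [hz] at h
    have hd : topologicalKrullDim ↥Z' = (r : WithBot ℕ∞) := by
      rw [← hr]
      exact IsHomeomorph.topologicalKrullDim_eq _
        ((ι.isClosedEmbedding.isEmbedding.toHomeomorph.trans (Homeomorph.setCongr hrange)).isHomeomorph)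
    rw [VarDim.Basic.topologicalKrullDim_irreducibleSpace (K := k) (ι ≫ qX)] at hd
    have hd' : VarDim.Basic.pdim (ι ≫ qX) (genericPoint ↥Z') = r := by exact_mod_cast hd
    rw [h, hd']
    simp
  -- constants
  let O := X.presheaf.stalk (ι z)
  let ρ : k →+* O := Curv2.stalkMap k X (ι z)
  let π : O →+* R := (ι.stalkMap z).hom
  have hπs : Function.Surjective π := ι.stalkMap_surjective z
  have hπm : ∀ a ∈ maximalIdeal O, π a ∈ maximalIdeal R := fun a ha =>
    map_nonunit π a ha
  choose c0 hc0 using fun a : O => exists_const (k := k) hx a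
  have huniq : ∀ (a : O) (c : k), a - ρ c ∈ maximalIdeal O → c = c0 a := by
    intro a c hc
    by_contra hne
    refine (maximalIdeal O).ne_top_iff_one.1 (maximalIdeal.isMaximal O).ne_top ?_
    have hu : IsUnit (ρ (c - c0 a)) := (sub_ne_zero.2 hne).isUnit.map ρ
    have hmem : ρ (c - c0 a) ∈ maximalIdeal O := by
      rw [map_sub, show ρ c - ρ (c0 a) = (a - ρ (c0 a)) - (a - ρ c) by ring]
      exact sub_mem (hc0 a) hc
    exact absurd hu ((mem_maximalIdeal _).1 hmem)
  let C := CotangentSpace R
  let δ : O → C := fun a => (maximalIdeal R).toCotangent ⟨π (a - ρ (c0 a)), hπm _ (hc0 a)⟩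
  have hδ : ∀ (a : O) (c : k) (h : a - ρ c ∈ maximalIdeal O),
      δ a = (maximalIdeal R).toCotangent ⟨π (a - ρ c), hπm _ h⟩ := fun a c h => by
    obtain rfl := huniq a c h
    rfl
  letI : Module O C := Module.compHom C π
  have hmC : ∀ a ∈ maximalIdeal O, ∀ v : C, a • v = 0 := by
    intro a ha v
    obtain ⟨w, rfl⟩ := (maximalIdeal R).toCotangent_surjective v
    show π a • (maximalIdeal R).toCotangent w = 0
    rw [← LinearMap.map_smul, Ideal.toCotangent_eq_zero, pow_two]
    exact Ideal.mul_mem_mul (hπm a ha) w.2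
  have hadd : ∀ a b, δ (a + b) = δ a + δ b := fun a b => by
    have hh : a + b - ρ (c0 a + c0 b) ∈ maximalIdeal O := by
      rw [map_add, show a + b - (ρ (c0 a) + ρ (c0 b)) = (a - ρ (c0 a)) + (b - ρ (c0 b)) by ring]
      exact add_mem (hc0 a) (hc0 b)
    rw [hδ (a + b) (c0 a + c0 b) hh, ← map_add]
    congr 1
    exact Subtype.ext (by simp [map_sub, map_add]; ring)
  have hleib : ∀ a b, δ (a * b) = a • δ b + b • δ a := fun a b => by
    have hab : a * b - ρ (c0 a * c0 b) ∈ maximalIdeal O := by
      rw [map_mul, show a * b - ρ (c0 a) * ρ (c0 b) = a * (b - ρ (c0 b)) + ρ (c0 b) * (a - ρ (c0 a)) by ring]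
      exact add_mem (Ideal.mul_mem_left _ _ (hc0 b)) (Ideal.mul_mem_left _ _ (hc0 a))
    rw [hδ _ _ hab]
    show _ = π a • δ b + π b • δ a
    show _ = π a • (maximalIdeal R).toCotangent _ + π b • (maximalIdeal R).toCotangent _
    rw [← map_smul, ← map_smul, ← map_add, Ideal.toCotangent_eq, pow_two]
    have hmul := Ideal.mul_mem_mul (hπm _ (hc0 a)) (hπm _ (hc0 b))
    refine (Ideal.neg_mem_iff _).1 ?_
    convert hmul using 1
    simp only [Submodule.coe_add, SetLike.val_smul, smul_eq_mul, map_sub, map_mul]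
    ring
  -- the chart
  obtain ⟨V, U, hV, hU, hxU, e⟩ := Kaehler.Chart.exists_chart f (ι z)
  haveI := Kaehler.Finite.isQuasicoherent (Kaehler.DOmega.isUniversal_dOmega f)
  haveI := Kaehler.ToSect.isIso_toSect f hU hV e
  letI : Algebra Γ(Y, V) Γ(X, U) := (f.appLE V U e).hom.toAlgebra
  let E : Ω[Γ(X, U)⁄Γ(Y, V)] ≃ₗ[Γ(X, U)] Γ(Omega.sheaf f, U) :=
    (asIso (OmAff.toSect f V U e)).toLinearEquiv
  letI : Algebra Γ(X, U) O := TopCat.Presheaf.algebra_section_stalk X.presheaf ⟨ι z, hxU⟩
  letI : Algebra Γ(Y, V) O := ((algebraMap Γ(X, U) O).comp (algebraMap Γ(Y, V) Γ(X, U))).toAlgebra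
  haveI : IsScalarTower Γ(Y, V) Γ(X, U) O := IsScalarTower.of_algebraMap_eq' rfl
  haveI := hU.isLocalization_stalk ⟨ι z, hxU⟩
  let p := (hU.primeIdealOf ⟨ι z, hxU⟩).asIdeal.primeCompl
  letI := StalkLoc.Basic.moduleSections (Omega.sheaf f) hxU
  haveI := StalkLoc.Basic.isScalarTower_sections (Omega.sheaf f) hxU
  haveI := StalkLoc.Basic.isLocalizedModule_germ (M := Omega.sheaf f) hU hxU
  letI : Module Γ(X, U) C := Module.compHom C (π.comp (algebraMap Γ(X, U) O))
  haveI : IsScalarTower Γ(X, U) O C := ⟨fun s a v => by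
    show π (algebraMap Γ(X, U) O s * a) • v = π (algebraMap Γ(X, U) O s) • π a • v
    rw [map_mul, mul_smul]⟩
  letI : Module Γ(Y, V) C := Module.compHom C (π.comp (algebraMap Γ(Y, V) O))
  haveI : IsScalarTower Γ(Y, V) O C := ⟨fun s a v => by
    show π (algebraMap Γ(Y, V) O s * a) • v = π (algebraMap Γ(Y, V) O s) • π a • v
    rw [map_mul, mul_smul]⟩
  -- functions from the base are constants on `Z`
  have hconst : ∀ a : Γ(Y, V), δ (algebraMap Γ(Y, V) O a) = 0 := by
    intro a
    have hgerm : algebraMap Γ(Y, V) O a = f.stalkMap (ι z) (Y.presheaf.germ V (f (ι z)) (e hxU) a) := by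
      refine ((Scheme.Hom.germ_stalkMap_apply f V (ι z) (e hxU) a).trans ?_).symm
      exact (TopCat.Presheaf.germ_res_apply X.presheaf (homOfLE e) (ι z) hxU (f.app V a)).symm
    set c := c0 (algebraMap Γ(Y, V) O a) with hcdef
    let cV : Γ(Y, V) := Y.presheaf.map (homOfLE le_top).op (Coh.toGlobal qY c)
    have hcV : f.stalkMap (ι z) (Y.presheaf.germ V (f (ι z)) (e hxU) cV) = ρ c := by
      rw [TopCat.Presheaf.germ_res_apply]
      refine (Scheme.Hom.germ_stalkMap_apply f ⊤ (ι z) trivial _).trans ?_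
      have h : f.appTop (Coh.toGlobal qY c) = Coh.toGlobal qX c := by
        show _ = Coh.toGlobal (X ↘ Spec (CommRingCat.of k)) c
        rw [← hf]; rfl
      exact congrArg (X.presheaf.germ ⊤ (ι z) trivial) h
    have hm : algebraMap Γ(Y, V) O a - ρ c ∈ maximalIdeal O := hc0 _
    have hb : Y.presheaf.germ V (f (ι z)) (e hxU) (a - cV) ∈ maximalIdeal (Y.presheaf.stalk (f (ι z))) := by
      refine (mem_maximalIdeal _).2 fun hu => (mem_maximalIdeal _).1 hm ?_
      have := hu.map (f.stalkMap (ι z)).hom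
      rwa [map_sub, map_sub, hcV, ← hgerm] at this
    have hg : ∀ w, (ι ≫ f) w = (ι ≫ f) z := fun w => by
      have h1 : ∀ v, ι v ∈ f.base ⁻¹' {f.base (ι z)} := fun v => hZf (hrange ▸ Set.mem_range_self v)
      exact (h1 w).trans (h1 z).symm
    have h0 := stalkMap_eq_zero (ι ≫ f) z hg (e hxU) (a - cV) hb
    rw [Scheme.Hom.stalkMap_comp] at h0
    replace h0 : π (f.stalkMap (ι z) (Y.presheaf.germ V (f (ι z)) (e hxU) (a - cV))) = 0 := h0
    rw [map_sub, map_sub, hcV] at h0
    rw [hδ _ c hm, Ideal.toCotangent_eq_zero]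
    show π (algebraMap Γ(Y, V) O a - ρ c) ∈ _
    rw [show π (algebraMap Γ(Y, V) O a - ρ c) = 0 by rw [hgerm]; exact h0]
    exact zero_mem _
  let D : Derivation Γ(Y, V) O C := Derivation.mk'
    { toFun := δ
      map_add' := hadd
      map_smul' := fun s a => by
        rw [Algebra.smul_def, hleib, hconst, smul_zero, add_zero, RingHom.id_apply]
        rfl }
    hleib
  let ψ : Ω[O⁄Γ(Y, V)] →ₗ[O] C := D.liftKaehlerDifferential
  have hψs : Function.Surjective ψ := by
    intro v
    obtain ⟨⟨w, hw⟩, rfl⟩ := (maximalIdeal R).toCotangent_surjective v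
    obtain ⟨a, rfl⟩ := hπs w
    have ha : a - ρ 0 ∈ maximalIdeal O := by
      rw [map_zero, sub_zero]
      by_contra hna
      exact (mem_maximalIdeal _).1 hw ((notMem_maximalIdeal.1 hna).map π)
    refine ⟨KaehlerDifferential.D _ _ a, ?_⟩
    rw [D.liftKaehlerDifferential_comp_D]
    show δ a = _
    rw [hδ a 0 ha]
    congr 1
    exact Subtype.ext (by simp)
  let e2 : (Omega.sheaf f).presheaf.stalk (ι z) ≃ₗ[Γ(X, U)] Ω[O⁄Γ(Y, V)] :=
    IsLocalizedModule.linearEquiv p (StalkLoc.Basic.germₗ (Omega.sheaf f) hxU)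
      ((KaehlerDifferential.map Γ(Y, V) Γ(Y, V) Γ(X, U) O).comp E.symm.toLinearMap)
  let Φ : (Omega.sheaf f).presheaf.stalk (ι z) →ₗ[O] C :=
    ((ψ.restrictScalars Γ(X, U)).comp e2.toLinearMap).extendScalarsOfIsLocalization p O
  have hΦs : Function.Surjective Φ := hψs.comp e2.surjective
  have hker : maximalIdeal O • (⊤ : Submodule O ((Omega.sheaf f).presheaf.stalk (ι z))) ≤ LinearMap.ker Φ :=
    Submodule.smul_le.2 fun a ha n _ => by
      rw [LinearMap.mem_ker, map_smul]; exact hmC a ha _
  let Ψ : FixPt.fiber (Omega.sheaf f) (ι z) →ₗ[O] C := Submodule.liftQ _ Φ hker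
  have hΨs : Function.Surjective Ψ := fun v => by
    obtain ⟨w, rfl⟩ := hΦs v
    exact ⟨Submodule.Quotient.mk w, rfl⟩
  letI : Module k C := Module.compHom C (π.comp ρ)
  let Ψk : FixPt.fiber (Omega.sheaf f) (ι z) →ₗ[k] C :=
    { toFun := Ψ
      map_add' := map_add Ψ
      map_smul' := fun c v => Ψ.map_smul (ρ c) v }
  haveI : (Omega.sheaf f).IsQuasicoherent := (FittSheaf.qcoh_ft_omega f).1
  haveI := (FittSheaf.qcoh_ft_omega f).2
  haveI : Module.Finite Γ(X, U) Γ(Omega.sheaf f, U) := CohBasics.Affine.finite_sections hU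
  haveI : Module.Finite O ((Omega.sheaf f).presheaf.stalk (ι z)) := FittSheaf.finite_stalk (F := Omega.sheaf f) hU hxU
  haveI : Module.Finite k (FixPt.fiber (Omega.sheaf f) (ι z)) := by
    obtain ⟨n, g, hg⟩ := Module.Finite.exists_fin (R := O) (M := FixPt.fiber (Omega.sheaf f) (ι z))
    refine Module.Finite.of_fg_top ?_ |> fun h => h
    refine Submodule.fg_def.2 ⟨Set.range g, Set.finite_range g, eq_top_iff.2 fun v _ => ?_⟩
    have hv : v ∈ Submodule.span O (Set.range g) := hg ▸ Submodule.mem_top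
    induction hv using Submodule.span_induction with
    | mem w hw => exact Submodule.subset_span hw
    | zero => exact zero_mem _
    | add a b _ _ ha hb => exact add_mem (ha trivial) (hb trivial)
    | smul a w _ hw =>
      have h0 : ∀ m ∈ maximalIdeal O, m • w = (0 : FixPt.fiber (Omega.sheaf f) (ι z)) := by
        intro m hm
        obtain ⟨w', rfl⟩ := Submodule.Quotient.mk_surjective _ w
        rw [← Submodule.Quotient.mk_smul, Submodule.Quotient.mk_eq_zero]
        exact Submodule.smul_mem_smul hm trivial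
      have : a • w = ρ (c0 a) • w := by
        rw [← sub_eq_zero, ← sub_smul]; exact h0 _ (hc0 a)
      rw [this]
      exact Submodule.smul_mem _ (c0 a) (hw trivial)
  -- count
  have hC : Module.finrank (ResidueField R) C ≤ Module.finrank k (FixPt.fiber (Omega.sheaf f) (ι z)) := by
    let b := Module.finBasis k (FixPt.fiber (Omega.sheaf f) (ι z))
    have hspan : Submodule.span (ResidueField R) (Set.range fun i => Ψ (b i)) = ⊤ := by
      rw [eq_top_iff]
      intro v _
      obtain ⟨w, rfl⟩ := hΨs v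
      change Ψk w ∈ _
      rw [← b.sum_repr w, map_sum]
      refine Submodule.sum_mem _ fun i _ => ?_
      rw [map_smul]
      show residue R (π (ρ (b.repr w i))) • Ψ (b i) ∈ _
      exact Submodule.smul_mem _ _ (Submodule.subset_span ⟨i, rfl⟩)
    have h := finrank_range_le_card (R := ResidueField R) (b := fun i => Ψ (b i))
    rw [Set.finrank, hspan, finrank_top, Fintype.card_fin] at h
    exact h
  have h1 := ringKrullDim_le_spanFinrank_maximalIdeal (R := R)
  rw [IsLocalRing.spanFinrank_maximalIdeal_eq_finrank_cotangentSpace] at h1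
  have h2 : r ≤ Module.finrank (ResidueField R) C := by exact_mod_cast hrR.trans h1
  exact h2.trans hC

end Groth.Agent.S14443
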