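import Groth.Statements.S14447

import Mathlib.CategoryTheory.Limits.Preserves.Shapes.BinaryProducts
import Mathlib.CategoryTheory.Limits.Constructions.FiniteProductsOfBinaryProducts
import Mathlib.CategoryTheory.Limits.Types.Products
import Mathlib.CategoryTheory.Limits.Preserves.Shapes.Terminal

set_option autoImplicit false
universe w v u
open AlgGrp

namespace Groth.Agent.S14447

open CategoryTheory CategoryTheory.Limits in
theorem isIso_comparison {C : Type u} [Category.{v} C] [Limits.HasFiniteProducts C] [Limits.HasCoproducts.{w} C]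
    (h : ∀ (I : Type w) (U : C), IsIso (Limits.Sigma.desc fun i : I =>
      Limits.prod.lift (Limits.terminal.from U ≫ Limits.Sigma.ι (fun _ : I => ⊤_ C) i) (𝟙 U)))
    (I J : Type w) : IsIso (Limits.prodComparison (Limits.sigmaConst.{w}.obj (⊤_ C)) I J) := by
  let F := Limits.sigmaConst.{w}.obj (⊤_ C)
  let e : (I ⨯ J : Type w) ≅ (I × J : Type w) := Limits.Types.binaryProductIso I J
  let D : (∐ fun _ : I => ∐ fun _ : J => ⊤_ C) ⟶ ∐ fun _ : (I ⨯ J : Type w) => ⊤_ C :=
    Limits.Sigma.desc fun i => Limits.Sigma.desc fun j =>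
      Limits.Sigma.ι (fun _ : (I ⨯ J : Type w) => ⊤_ C) (e.inv (i, j))
  let D' : (∐ fun _ : (I ⨯ J : Type w) => ⊤_ C) ⟶ ∐ fun _ : I => ∐ fun _ : J => ⊤_ C :=
    Limits.Sigma.desc fun q => Limits.Sigma.ι (fun _ : J => ⊤_ C) (e.hom q).2 ≫
      Limits.Sigma.ι (fun _ : I => ∐ fun _ : J => ⊤_ C) (e.hom q).1
  haveI : IsIso D := by
    refine ⟨D', ?_, ?_⟩
    · refine Limits.Sigma.hom_ext _ _ fun i => Limits.Sigma.hom_ext _ _ fun j => ?_
      simp [D, D']
    · refine Limits.Sigma.hom_ext _ _ fun q => ?_
      simp [D, D']
  haveI := h I (∐ fun _ : J => ⊤_ C)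
  refine @IsIso.of_isIso_fac_left _ _ _ _ _ D (Limits.prodComparison F I J) _ ‹_› ‹_› ?_
  refine Limits.Sigma.hom_ext _ _ fun i => Limits.Sigma.hom_ext _ _ fun j => ?_
  apply Limits.prod.hom_ext
  · simp [D, F, Limits.prodComparison, Limits.sigmaConst, e, Limits.Types.binaryProductIso_inv_comp_fst_apply, Limits.terminal.hom_ext (Limits.terminal.from (⊤_ C)) (𝟙 _)]
  · simp [D, F, Limits.prodComparison, Limits.sigmaConst, e, Limits.Types.binaryProductIso_inv_comp_snd_apply, Limits.terminal.hom_ext (Limits.terminal.from (⊤_ C)) (𝟙 _)]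

open CategoryTheory CategoryTheory.Limits in
/-- Let C be a category with finite products and with all coproducts indexed by sets, and assume that
for every set I and every object U the canonical arrow ∐_{i∈I} U → (∐_{i∈I} pt) × U, whose i-th
component pairs U → pt → ∐_{i∈I} pt (i-th coprojection) with the identity of U, is an isomorphism.
Then the discrete-object functor from sets to C, I ↦ ∐_{i∈I} pt, preserves finite products. (Sets
are the types of one fixed universe, the one indexing the coproducts. The published statement asks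
only for the coproducts of copies of one object; this row assumes that C has all coproducts indexed
by sets, which Mathlib's discrete-object functor sigmaConst requires.) -/
theorem result {C : Type u} [Category.{v} C]
    [HasFiniteProducts C] [HasCoproducts.{w} C]
    (h : ∀ (I : Type w) (U : C), IsIso (Sigma.desc fun i : I =>
      prod.lift (terminal.from U ≫ Sigma.ι (fun _ : I => ⊤_ C) i) (𝟙 U))) :
    PreservesFiniteProducts (sigmaConst.{w}.obj (⊤_ C)) := by
  let F := sigmaConst.{w}.obj (⊤_ C)
  haveI : IsIso (terminalComparison F) := by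
    let p : (⊤_ (Type w)) := Types.terminalIso.inv PUnit.unit
    haveI : Subsingleton (⊤_ (Type w)) := Types.terminalIso.toEquiv.subsingleton
    refine ⟨Sigma.ι (fun _ : (⊤_ (Type w)) => ⊤_ C) p, ?_, terminal.hom_ext _ _⟩
    refine Sigma.hom_ext _ _ fun q => ?_
    obtain rfl : q = p := Subsingleton.elim _ _
    rw [← Category.assoc, terminal.hom_ext (Sigma.ι (fun _ : (⊤_ (Type w)) => ⊤_ C) p ≫ terminalComparison F) (𝟙 _)]
    simp
    exact (Category.comp_id _).symm
  haveI := preservesTerminal_of_iso F (asIso (terminalComparison F))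
  haveI := preservesLimitsOfShape_pempty_of_preservesTerminal F
  haveI : ∀ I J : Type w, PreservesLimit (pair I J) F := fun I J =>
    haveI := isIso_comparison h I J
    PreservesLimitPair.of_iso_prod_comparison F I J
  haveI : PreservesLimitsOfShape (Discrete WalkingPair) F :=
    ⟨fun {K} => preservesLimit_of_iso_diagram F (diagramIsoPair K).symm⟩
  exact .of_preserves_binary_and_terminal F

end Groth.Agent.S14447
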