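import Groth.Statements.S14448

set_option autoImplicit false
set_option linter.style.haveILetI false
universe u
open Coherent

namespace Groth.Agent.S14448

open CategoryTheory in
theorem key {A B C P Q R : Type*} [Category A] [Category B] [Category C] [Category P] [Category Q] [Category R]
    {fp : B ⥤ A} {fl : A ⥤ B} (af : fp ⊣ fl) {gp : C ⥤ B} {gl : B ⥤ C} (ag : gp ⊣ gl)
    {hp : C ⥤ A} {hl : A ⥤ C} (ah : hp ⊣ hl)
    {sp : Q ⥤ P} {sl : P ⥤ Q} (as' : sp ⊣ sl) {tp : R ⥤ Q} {tl : Q ⥤ R} (at' : tp ⊣ tl)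
    {up : R ⥤ P} {ul : P ⥤ R} (au : up ⊣ ul)
    (x : A ⥤ P) (y : B ⥤ Q) (z : C ⥤ R)
    (e : gp ⋙ fp ≅ hp) (e' : tp ⋙ sp ≅ up) (p : fl ⋙ gl ⟶ hl) (p' : sl ⋙ tl ⟶ ul)
    (he : ∀ M, ah.unit.app M = ag.unit.app M ≫ gl.map (af.unit.app (gp.obj M)) ≫ p.app _ ≫ hl.map (e.hom.app M))
    (he' : ∀ M, au.unit.app M = at'.unit.app M ≫ tl.map (as'.unit.app (tp.obj M)) ≫ p'.app _ ≫ ul.map (e'.hom.app M))
    (c : fl ⋙ y ⟶ x ⋙ sl) (d : gl ⋙ z ⟶ y ⋙ tl) (w : hl ⋙ z ⟶ x ⋙ ul)
    (hc : ∀ M, z.map (p.app M) ≫ w.app M = d.app (fl.obj M) ≫ tl.map (c.app M) ≫ p'.app (x.obj M))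
    (L : C) :
    e'.hom.app (z.obj L) ≫
        (au.homEquiv (z.obj L) (x.obj (hp.obj L))).symm (z.map (ah.unit.app L) ≫ w.app (hp.obj L)) =
      sp.map ((at'.homEquiv (z.obj L) (y.obj (gp.obj L))).symm (z.map (ag.unit.app L) ≫ d.app (gp.obj L))) ≫
        (as'.homEquiv (y.obj (gp.obj L)) (x.obj (fp.obj (gp.obj L)))).symm
          (y.map (af.unit.app (gp.obj L)) ≫ c.app (fp.obj (gp.obj L))) ≫ x.map (e.hom.app L) := by
  generalize hb : (at'.homEquiv (z.obj L) (y.obj (gp.obj L))).symm (z.map (ag.unit.app L) ≫ d.app (gp.obj L)) = b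
  generalize hb2 : (as'.homEquiv (y.obj (gp.obj L)) (x.obj (fp.obj (gp.obj L)))).symm
          (y.map (af.unit.app (gp.obj L)) ≫ c.app (fp.obj (gp.obj L))) = b2
  rw [Equiv.symm_apply_eq, Adjunction.homEquiv_unit] at hb hb2
  rw [← cancel_epi (e'.inv.app (z.obj L)), e'.inv_hom_id_app_assoc, Equiv.symm_apply_eq,
    Adjunction.homEquiv_unit, he' (z.obj L), he L]
  simp only [Category.assoc, ← ul.map_comp, Iso.hom_inv_id_app_assoc]
  erw [← p'.naturality (sp.map b ≫ b2 ≫ x.map (e.hom.app L))]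
  simp only [Functor.comp_map, Functor.map_comp, Category.assoc]
  rw [← tl.map_comp_assoc (as'.unit.app (tp.obj (z.obj L)))]
  erw [← as'.unit.naturality b]
  simp only [Functor.id_map, Functor.map_comp, Category.assoc]
  rw [← reassoc_of% hb, ← tl.map_comp_assoc (as'.unit.app _), ← hb2, tl.map_comp, Category.assoc]
  erw [← d.naturality_assoc (af.unit.app (gp.obj L))]
  erw [w.naturality (e.hom.app L)]
  erw [reassoc_of% (hc (fp.obj (gp.obj L)))]
  simp only [Functor.comp_map, Functor.comp_obj]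
  erw [← p'.naturality (x.map (e.hom.app L))]
  rfl

open AlgebraicGeometry CategoryTheory Scheme.Modules in
theorem unitComp {X Y Z : Scheme.{u}} (f : X ⟶ Y) (g : Y ⟶ Z) (M : Z.Modules) :
    (pullbackPushforwardAdjunction (f ≫ g)).unit.app M =
      (pullbackPushforwardAdjunction g).unit.app M ≫
        (pushforward g).map ((pullbackPushforwardAdjunction f).unit.app ((pullback g).obj M)) ≫
          (pushforwardComp f g).hom.app _ ≫ (pushforward (f ≫ g)).map ((pullbackComp f g).hom.app M) := by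
  have h := unit_conjugateEquiv ((pullbackPushforwardAdjunction g).comp (pullbackPushforwardAdjunction f))
    (pullbackPushforwardAdjunction (f ≫ g)) (pullbackComp f g).inv M
  rw [conjugateEquiv_pullbackComp_inv, Adjunction.comp_unit_app] at h
  have h2 := congrArg (fun k => k ≫ (pushforward (f ≫ g)).map ((pullbackComp f g).hom.app M)) h
  simp only [Category.assoc, ← Functor.map_comp, Iso.inv_hom_id_app] at h2
  refine Eq.trans ?_ h2.symm
  simp

open AlgebraicGeometry CategoryTheory Scheme.Modules in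
/-- Take two commutative squares of schemes side by side, f : X → Y over φ : U → V (vertical maps ξ : X
→ U and η : Y → V, f ≫ η = ξ ≫ φ) and g : Y → Z over ψ : V → W (vertical map ζ : Z → W, g ≫ ζ = η ≫
ψ), and an O_Z-module L. For a commutative square the base change map β_{f,φ}(M) : φ^* η_* M → ξ_*
f^* M is the adjoint of η_*(unit) : η_* M → η_* f_* f^* M = φ_* ξ_* f^* M, and α denotes the
composition isomorphisms of module pullbacks. Then the composite of α_{φ,ψ}(ζ_* L) : φ^* ψ^* ζ_* L →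
(φ ≫ ψ)^* ζ_* L with β_{f ≫ g, φ ≫ ψ}(L) equals the composite of φ^* β_{g,ψ}(L), β_{f,φ}(g^* L) and
ξ_* α_{f,g}(L), as maps φ^* ψ^* ζ_* L → ξ_* (f ≫ g)^* L. No cartesian or finiteness hypothesis is
made; the outer square is used through any proof hw of its commutativity. -/
theorem result {X Y Z U V W : Scheme.{u}} (f : X ⟶ Y) (g : Y ⟶ Z)
    (ξ : X ⟶ U) (η : Y ⟶ V) (ζ : Z ⟶ W) (φ : U ⟶ V) (ψ : V ⟶ W)
    (h₁ : f ≫ η = ξ ≫ φ) (h₂ : g ≫ ζ = η ≫ ψ) (hw : (f ≫ g) ≫ ζ = ξ ≫ (φ ≫ ψ)) (L : Z.Modules) :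
    (pullbackComp φ ψ).hom.app ((pushforward ζ).obj L) ≫
        (((pullbackPushforwardAdjunction (φ ≫ ψ)).homEquiv ((pushforward ζ).obj L)
            ((pushforward ξ).obj ((pullback (f ≫ g)).obj L))).symm
          ((pushforward ζ).map ((pullbackPushforwardAdjunction (f ≫ g)).unit.app L) ≫
            (pushforwardComp (f ≫ g) ζ).hom.app ((pullback (f ≫ g)).obj L) ≫
            (pushforwardCongr hw).hom.app ((pullback (f ≫ g)).obj L) ≫
            (pushforwardComp ξ (φ ≫ ψ)).inv.app ((pullback (f ≫ g)).obj L))) =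
      (pullback φ).map (((pullbackPushforwardAdjunction ψ).homEquiv ((pushforward ζ).obj L)
            ((pushforward η).obj ((pullback g).obj L))).symm
          ((pushforward ζ).map ((pullbackPushforwardAdjunction g).unit.app L) ≫
            (pushforwardComp g ζ).hom.app ((pullback g).obj L) ≫
            (pushforwardCongr h₂).hom.app ((pullback g).obj L) ≫
            (pushforwardComp η ψ).inv.app ((pullback g).obj L))) ≫
        (((pullbackPushforwardAdjunction φ).homEquiv ((pushforward η).obj ((pullback g).obj L))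
            ((pushforward ξ).obj ((pullback f).obj ((pullback g).obj L)))).symm
          ((pushforward η).map ((pullbackPushforwardAdjunction f).unit.app ((pullback g).obj L)) ≫
            (pushforwardComp f η).hom.app ((pullback f).obj ((pullback g).obj L)) ≫
            (pushforwardCongr h₁).hom.app ((pullback f).obj ((pullback g).obj L)) ≫
            (pushforwardComp ξ φ).inv.app ((pullback f).obj ((pullback g).obj L)))) ≫
        (pushforward ξ).map ((pullbackComp f g).hom.app L) := by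
  refine key (pullbackPushforwardAdjunction f) (pullbackPushforwardAdjunction g)
    (pullbackPushforwardAdjunction (f ≫ g)) (pullbackPushforwardAdjunction φ)
    (pullbackPushforwardAdjunction ψ) (pullbackPushforwardAdjunction (φ ≫ ψ))
    (pushforward ξ) (pushforward η) (pushforward ζ)
    (pullbackComp f g) (pullbackComp φ ψ) (pushforwardComp f g).hom (pushforwardComp φ ψ).hom
    (unitComp f g) (unitComp φ ψ)
    ((pushforwardComp f η).hom ≫ (pushforwardCongr h₁).hom ≫ (pushforwardComp ξ φ).inv)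
    ((pushforwardComp g ζ).hom ≫ (pushforwardCongr h₂).hom ≫ (pushforwardComp η ψ).inv)
    ((pushforwardComp (f ≫ g) ζ).hom ≫ (pushforwardCongr hw).hom ≫ (pushforwardComp ξ (φ ≫ ψ)).inv)
    (fun M => ?_) L
  ext U : 1
  simp
  exact (congrArg M.presheaf.map (Subsingleton.elim _ _)).trans (M.presheaf.map_comp _ _)

end Groth.Agent.S14448
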