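import Groth.Statements.S14449
import Groth.Agent.Lib.EtSite.Immersion
import Groth.Agent.Lib.EtSite.Pull
import Groth.Agent.Lib.EtSite.ClosedComplement
import Groth.Agent.Lib.EtRad.Push
-- import your own Groth.Agent.* helpers here

set_option autoImplicit false
universe u
open CategoryTheory CategoryTheory.Limits AlgebraicGeometry
open EtCore

namespace Groth.Agent.S14449

open Groth.Agent.Lib.EtSite

variable {X Z U : Scheme.{u}} (i : Z ⟶ X) [IsClosedImmersion i] (j : U ⟶ X) [IsOpenImmersion j]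

theorem isIso_counit_i : IsIso (EtCoh.pullPushAdj i).counit :=
  Immersion.isIso_counit_of_isClosedImmersion i (A := AddCommGrpCat.{u + 1})

theorem isIso_counit_j : IsIso (EtCoh.pullPushAdj j).counit :=
  Immersion.isIso_counit_of_isOpenImmersion j (A := AddCommGrpCat.{u + 1})

theorem isIso_pull_unit {A B : Scheme.{u}} (k : A ⟶ B) (h : IsIso (EtCoh.pullPushAdj k).counit)
    (G : EtCoh.Ab B) : IsIso ((EtCoh.pull k).map ((EtCoh.pullPushAdj k).unit.app G)) :=
  ⟨(EtCoh.pullPushAdj k).counit.app _, (EtCoh.pullPushAdj k).left_triangle_components G,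
    (cancel_mono ((EtCoh.pullPushAdj k).counit.app ((EtCoh.pull k).obj G))).1
      ((Category.assoc _ _ _).trans ((_ ≫= (EtCoh.pullPushAdj k).left_triangle_components G).trans
        ((Category.comp_id _).trans (Category.id_comp _).symm)))⟩

variable {i j}

theorem isIso_stalk_map {A B : Scheme.{u}} (k : A ⟶ B) {Ω : Type u} [Field Ω] [IsSepClosed Ω]
    (ξ : Spec (CommRingCat.of Ω) ⟶ A) {F G : EtCoh.Ab B} {φ : F ⟶ G}
    (h : IsIso ((EtCoh.pull k).map φ)) : IsIso ((EtCoh.stalk (ξ ≫ k)).map φ) := by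
  have : IsIso ((EtCoh.pull k ⋙ EtCoh.stalk ξ).map φ) := inferInstanceAs (IsIso ((EtCoh.stalk ξ).map ((EtCoh.pull k).map φ)))
  exact (NatIso.isIso_map_iff (Pull.stalkPull k ξ) φ).1 this

theorem isIso_pull_map {A B : Scheme.{u}} (k : A ⟶ B) {F G : EtCoh.Ab B} (φ : F ⟶ G)
    (h : ∀ a : A, IsIso ((EtCoh.stalk (Push.algPoint A a ≫ k)).map φ)) :
    IsIso ((EtCoh.pull k).map φ) := by
  refine Stalk.isIso_of_stalks _ fun a => ⟨_, inferInstance, inferInstance, Push.algPoint A a,
    Push.algPoint_apply _ _ _, ?_⟩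
  have : IsIso ((EtCoh.pull k ⋙ EtCoh.stalk (Push.algPoint A a)).map φ) :=
    (NatIso.isIso_map_iff (Pull.stalkPull k (Push.algPoint A a)) φ).2 (h a)
  exact (ConcreteCategory.isIso_iff_bijective _).1 this

theorem of_fac {C : Type*} [Category C] {A B D : C} {a : A ⟶ B} {b : B ⟶ D} {c : A ⟶ D} (hb : IsIso b)
    (hc : IsIso c) (w : a ≫ b = c) : IsIso a := IsIso.of_isIso_fac_right w

variable (i j)
variable (hZU : Set.range j.base = (Set.range i.base)ᶜ)

include hZU in
theorem isZero_stalk_push {Ω : Type u} [Field Ω] [IsSepClosed Ω] (ζ : Spec (CommRingCat.of Ω) ⟶ U)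
    (G : EtCoh.Ab Z) : IsZero ((EtCoh.stalk (ζ ≫ j)).obj ((EtCoh.push i).obj G)) := by
  refine Groth.Agent.Lib.EtRad.Push.isZero_stalk_push i G _ fun h => ?_
  have : j.base (ζ.base default) ∈ Set.range j.base := ⟨_, rfl⟩
  rw [hZU] at this
  exact this h

/-- The Cartesian square of the glueing. -/
theorem isPullback_stalk {P : EtCoh.Ab X} {G : EtCoh.Ab Z} {H : EtCoh.Ab U}
    {φ : G ⟶ (EtCoh.pull i).obj ((EtCoh.push j).obj H)}
    {p₁ : P ⟶ (EtCoh.push i).obj G} {p₂ : P ⟶ (EtCoh.push j).obj H}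
    (sq : IsPullback p₁ p₂ ((EtCoh.push i).map φ) ((EtCoh.pullPushAdj i).unit.app _))
    {Ω : Type u} [Field Ω] [IsSepClosed Ω] (ζ : Spec (CommRingCat.of Ω) ⟶ X) :
    IsPullback ((EtCoh.stalk ζ).map p₁) ((EtCoh.stalk ζ).map p₂)
      ((EtCoh.stalk ζ).map ((EtCoh.push i).map φ))
      ((EtCoh.stalk ζ).map ((EtCoh.pullPushAdj i).unit.app _)) := sq.map _

include hZU in
theorem isPullback_unit (F : EtCoh.Ab X) :
    IsPullback ((EtCoh.pullPushAdj i).unit.app F) ((EtCoh.pullPushAdj j).unit.app F)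
      ((EtCoh.push i).map ((EtCoh.pull i).map ((EtCoh.pullPushAdj j).unit.app F)))
      ((EtCoh.pullPushAdj i).unit.app ((EtCoh.push j).obj ((EtCoh.pull j).obj F))) := by
  let f := (EtCoh.push i).map ((EtCoh.pull i).map ((EtCoh.pullPushAdj j).unit.app F))
  let g := (EtCoh.pullPushAdj i).unit.app ((EtCoh.push j).obj ((EtCoh.pull j).obj F))
  have hc : (EtCoh.pullPushAdj i).unit.app F ≫ f = (EtCoh.pullPushAdj j).unit.app F ≫ g :=
    ((EtCoh.pullPushAdj i).unit.naturality _).symm
  have : IsIso (pullback.lift ((EtCoh.pullPushAdj i).unit.app F) ((EtCoh.pullPushAdj j).unit.app F) hc) := by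
    refine Stalk.isIso_of_stalks _ fun x => ?_
    by_cases hz : x ∈ Set.range i.base
    · obtain ⟨z, rfl⟩ := hz
      refine ⟨_, inferInstance, inferInstance, Push.algPoint Z z ≫ i,
        congrArg i.base (Push.algPoint_apply _ _ _), (ConcreteCategory.isIso_iff_bijective _).1 ?_⟩
      let ζ := Push.algPoint Z z ≫ i
      have sq := isPullback_stalk i j (IsPullback.of_hasPullback f g) ζ
      have hu : ∀ M, IsIso ((EtCoh.stalk ζ).map ((EtCoh.pullPushAdj i).unit.app M)) := fun M =>
        isIso_stalk_map i _ (isIso_pull_unit i (isIso_counit_i i) M)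
      have : IsIso ((EtCoh.stalk ζ).map (pullback.fst f g)) :=
        @IsPullback.isIso_fst_of_isIso _ _ _ _ _ _ _ _ _ _ sq (hu _)
      refine of_fac (b := (EtCoh.stalk ζ).map (pullback.fst f g)) ‹_› (hu F) ?_
      exact ((EtCoh.stalk ζ).map_comp _ _).symm.trans (congrArg _ (pullback.lift_fst _ _ hc))
    · obtain ⟨v, rfl⟩ : x ∈ Set.range j.base := by rw [hZU]; exact hz
      refine ⟨_, inferInstance, inferInstance, Push.algPoint U v ≫ j,
        congrArg j.base (Push.algPoint_apply _ _ _), (ConcreteCategory.isIso_iff_bijective _).1 ?_⟩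
      let ζ := Push.algPoint U v ≫ j
      have sq := isPullback_stalk i j (IsPullback.of_hasPullback f g) ζ
      have hu : IsIso ((EtCoh.stalk ζ).map ((EtCoh.pullPushAdj j).unit.app F)) :=
        isIso_stalk_map j _ (isIso_pull_unit j (isIso_counit_j j) F)
      have hz0 : ∀ G, IsZero ((EtCoh.stalk ζ).obj ((EtCoh.push i).obj G)) := fun G =>
        isZero_stalk_push i j hZU _ G
      have hf : IsIso ((EtCoh.stalk ζ).map f) :=
        ⟨⟨(hz0 _).to_ _, (hz0 _).eq_of_src _ _, (hz0 _).eq_of_src _ _⟩⟩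
      have : IsIso ((EtCoh.stalk ζ).map (pullback.snd f g)) :=
        @IsPullback.isIso_snd_of_isIso _ _ _ _ _ _ _ _ _ _ sq hf
      refine of_fac (b := (EtCoh.stalk ζ).map (pullback.snd f g)) ‹_› hu ?_
      exact ((EtCoh.stalk ζ).map_comp _ _).symm.trans (congrArg _ (pullback.lift_snd _ _ hc))
  exact IsPullback.of_iso_pullback ⟨hc⟩ (asIso (pullback.lift _ _ hc)) (pullback.lift_fst _ _ _)
    (pullback.lift_snd _ _ _)

theorem homEquiv_map {A B : Scheme.{u}} (k : A ⟶ B) {F G : EtCoh.Ab B} (φ : F ⟶ G) :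
    φ ≫ (EtCoh.pullPushAdj k).unit.app G =
      (EtCoh.pullPushAdj k).unit.app F ≫ (EtCoh.push k).map ((EtCoh.pull k).map φ) :=
  ((EtCoh.pullPushAdj k).unit.naturality φ)

/-- Let X be a scheme, i : Z ⟶ X a closed immersion and j : U ⟶ X an open immersion whose image is the
complement of the image of i. Then the functor from abelian sheaves on the small étale site of X to
the category of triples (G on Z, H on U, φ : G ⟶ i⁻¹ j_* H), sending F to (i⁻¹ F, j⁻¹ F, i⁻¹ of the
unit F ⟶ j_* j⁻¹ F), is an equivalence of categories. The category of triples is the comma category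
of the identity functor of Ab(Z) over j_* ⋙ i⁻¹. -/
theorem result {X Z U : Scheme.{u}}
    (i : Z ⟶ X) [IsClosedImmersion i] (j : U ⟶ X) [IsOpenImmersion j]
    (hZU : Set.range j.base = (Set.range i.base)ᶜ) :
    (EtCore.recollTriple i j).IsEquivalence := by
  have hfull : (EtCore.recollTriple i j).Full := ⟨fun {F G} ψ => by
    have hcompat : ψ.left ≫ (EtCoh.pull i).map ((EtCoh.pullPushAdj j).unit.app G) =
        (EtCoh.pull i).map ((EtCoh.pullPushAdj j).unit.app F) ≫
          (EtCoh.pull i).map ((EtCoh.push j).map ψ.right) := ψ.w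
    let sq := isPullback_unit i j hZU G
    let a := (EtCoh.pullPushAdj i).unit.app F ≫ (EtCoh.push i).map ψ.left
    let b := (EtCoh.pullPushAdj j).unit.app F ≫ (EtCoh.push j).map ψ.right
    refine ⟨sq.lift a b ?_, CommaMorphism.ext ?_ ?_⟩
    · refine (Category.assoc _ _ _).trans ((_ ≫= (((EtCoh.push i).map_comp _ _).symm.trans
        (congrArg (EtCoh.push i).map (hcompat.trans ((EtCoh.pull i).map_comp _ _).symm)))).trans ?_)
      exact (homEquiv_map i b).symm
    · refine ((EtCoh.pullPushAdj i).homEquiv _ _).injective ?_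
      rw [Adjunction.homEquiv_unit, Adjunction.homEquiv_unit]
      exact (homEquiv_map i _).symm.trans (sq.lift_fst _ _ _)
    · refine ((EtCoh.pullPushAdj j).homEquiv _ _).injective ?_
      rw [Adjunction.homEquiv_unit, Adjunction.homEquiv_unit]
      exact (homEquiv_map j _).symm.trans (sq.lift_snd _ _ _)⟩
  have hfaith : (EtCore.recollTriple i j).Faithful := ⟨fun {F G} φ φ' h => by
    refine (isPullback_unit i j hZU G).hom_ext ?_ ?_
    · exact (homEquiv_map i φ).trans ((congrArg (fun m => (EtCoh.pullPushAdj i).unit.app F ≫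
        (EtCoh.push i).map m) (congrArg CommaMorphism.left h)).trans (homEquiv_map i φ').symm)
    · exact (homEquiv_map j φ).trans ((congrArg (fun m => (EtCoh.pullPushAdj j).unit.app F ≫
        (EtCoh.push j).map m) (congrArg CommaMorphism.right h)).trans (homEquiv_map j φ').symm)⟩
  have hess : (EtCore.recollTriple i j).EssSurj := ⟨fun T => by
    let G := T.left
    let H := T.right
    let φ : G ⟶ (EtCoh.pull i).obj ((EtCoh.push j).obj H) := T.hom
    let f := (EtCoh.push i).map φ
    let g := (EtCoh.pullPushAdj i).unit.app ((EtCoh.push j).obj H)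
    let P := pullback f g
    have := isIso_counit_i i
    have := isIso_counit_j j
    have h₁ : IsIso ((EtCoh.pull i).map (pullback.fst f g)) := isIso_pull_map i _ fun z => by
      have sq := isPullback_stalk i j (IsPullback.of_hasPullback f g) (Push.algPoint Z z ≫ i)
      exact @IsPullback.isIso_fst_of_isIso _ _ _ _ _ _ _ _ _ _ sq
        (isIso_stalk_map i (Push.algPoint Z z) (isIso_pull_unit i (isIso_counit_i i) ((EtCoh.push j).obj H)))
    have h₂ : IsIso ((EtCoh.pull j).map (pullback.snd f g)) := isIso_pull_map j _ fun x => by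
      have sq := isPullback_stalk i j (IsPullback.of_hasPullback f g) (Push.algPoint U x ≫ j)
      have hz0 := fun G => isZero_stalk_push i j hZU (Push.algPoint U x) G
      have : IsIso ((EtCoh.stalk (Push.algPoint U x ≫ j)).map f) :=
        ⟨⟨(hz0 _).to_ _, (hz0 _).eq_of_src _ _, (hz0 _).eq_of_src _ _⟩⟩
      exact sq.isIso_snd_of_isIso
    let α : (EtCoh.pull i).obj P ⟶ G := ((EtCoh.pullPushAdj i).homEquiv _ _).symm (pullback.fst f g)
    let β : (EtCoh.pull j).obj P ⟶ H := ((EtCoh.pullPushAdj j).homEquiv _ _).symm (pullback.snd f g)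
    have hα : IsIso α :=
      have h : IsIso ((EtCoh.pull i).map (pullback.fst f g) ≫ (EtCoh.pullPushAdj i).counit.app _) :=
        IsIso.comp_isIso' h₁ inferInstance
      (congrArg (fun m => IsIso m) ((EtCoh.pullPushAdj i).homEquiv_counit _ _ _)).mpr h
    have hβ : IsIso β :=
      have h : IsIso ((EtCoh.pull j).map (pullback.snd f g) ≫ (EtCoh.pullPushAdj j).counit.app _) :=
        IsIso.comp_isIso' h₂ inferInstance
      (congrArg (fun m => IsIso m) ((EtCoh.pullPushAdj j).homEquiv_counit _ _ _)).mpr h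
    refine ⟨P, ⟨Comma.isoMk (@asIso _ _ _ _ α hα) (@asIso _ _ _ _ β hβ) ?_⟩⟩
    change α ≫ φ = (EtCoh.pull i).map ((EtCoh.pullPushAdj j).unit.app P) ≫
      (EtCoh.pull i).map ((EtCoh.push j).map β)
    refine Eq.trans ?_ ((EtCoh.pull i).map_comp _ _)
    refine Eq.trans ?_ (congrArg (EtCoh.pull i).map
      (((EtCoh.pullPushAdj j).homEquiv_unit _ _ _).symm.trans (Equiv.apply_symm_apply _ _)).symm)
    refine ((EtCoh.pullPushAdj i).homEquiv _ _).injective ?_
    refine ((EtCoh.pullPushAdj i).homEquiv_naturality_right _ _).trans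
      ((congrArg (· ≫ f) (Equiv.apply_symm_apply _ _)).trans ?_)
    refine ((pullback.condition (f := f) (g := g)).trans (homEquiv_map i _)).trans ?_
    exact ((EtCoh.pullPushAdj i).homEquiv_unit _ _ _).symm⟩
  exact { full := hfull, faithful := hfaith, essSurj := hess }

end Groth.Agent.S14449
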