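import Groth.Statements.S14453
import Groth.Agent.Lib.EtSite.Basic
import Groth.Agent.Lib.EtJ.Supp
import Mathlib.AlgebraicGeometry.Limits
import Mathlib.AlgebraicGeometry.Morphisms.UnderlyingMap
-- import your own Groth.Agent.* helpers here

set_option autoImplicit false
universe w u
open CategoryTheory AlgebraicGeometry
open EtCore

namespace Groth.Agent.S14453

open Groth.Agent.Lib.EtSite.Basic CategoryTheory.Limits Opposite

variable {X : Scheme.{u}} {F : X.Etaleᵒᵖ ⥤ Type w}

theorem etale_left {U V : X.Etale} (f : V ⟶ U) : Etale f.left :=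
  have : Etale U.hom := U.prop
  have : Etale (f.left ≫ U.hom) := by rw [show f.left ≫ U.hom = V.hom from Over.w f.hom]; exact V.prop
  Etale.of_comp f.left U.hom

theorem mem_zar_iff {U : X.Etale} (R : Sieve U) :
    R ∈ X.smallGrothendieckTopology (P := @IsOpenImmersion) U ↔
      ∀ u : U.left, ∃ (V : X.Etale) (f : V ⟶ U) (v : V.left),
        R f ∧ IsOpenImmersion f.left ∧ f.left.base v = u := by
  rw [Scheme.smallGrothendieckTopology_eq_toGrothendieck_smallPretopology (P := @IsOpenImmersion)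
    (Q := @Etale) (hPQ := fun {A B} f h => by
      have := h
      exact (inferInstance : Etale f))]
  exact Scheme.mem_toGrothendieck_smallPretopology U R

theorem zar_sep (hZ : Presieve.IsSheaf (X.smallGrothendieckTopology (P := @IsOpenImmersion)) F)
    {U : X.Etale} {s t : F.obj (op U)}
    (h : ∀ u : U.left, ∃ (V : X.Etale) (a : V ⟶ U), IsOpenImmersion a.left ∧
      (∃ v, a.left.base v = u) ∧ F.map a.op s = F.map a.op t) : s = t := by
  choose V a ha hv he using h
  choose v hv using hv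
  refine ((Presieve.isSheafFor_iff_generate _).2 (hZ (Sieve.ofArrows V a) ((mem_zar_iff _).2
    fun u => ⟨V u, a u, v u, Sieve.ofArrows_mk _ _ u, ha u, hv u⟩))).isSeparatedFor.ext ?_
  rintro W b ⟨u⟩
  exact he u

theorem zar_glue (hZ : Presieve.IsSheaf (X.smallGrothendieckTopology (P := @IsOpenImmersion)) F)
    {U : X.Etale} {ι : Type*} {V : ι → X.Etale} (a : ∀ i, V i ⟶ U) (ha : ∀ i, IsOpenImmersion (a i).left)
    (hcov : ∀ u : U.left, ∃ i v, (a i).left.base v = u) (x : ∀ i, F.obj (op (V i)))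
    (hx : ∀ (i j : ι) (Z : X.Etale) (p : Z ⟶ V i) (q : Z ⟶ V j), p ≫ a i = q ≫ a j →
      F.map p.op (x i) = F.map q.op (x j)) :
    ∃ s : F.obj (op U), ∀ i, F.map (a i).op s = x i := by
  have hS : Presieve.IsSheafFor F (Presieve.ofArrows V a) :=
    (Presieve.isSheafFor_iff_generate _).2 (hZ _ ((mem_zar_iff _).2 fun u => by
      obtain ⟨i, v, hv⟩ := hcov u
      exact ⟨V i, a i, v, ⟨_, 𝟙 _, a i, Presieve.ofArrows.mk i, Category.id_comp _⟩, ha i, hv⟩))
  rw [Presieve.isSheafFor_arrows_iff] at hS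
  obtain ⟨s, hs, -⟩ := hS x fun i j Z p q h => hx i j Z p q h
  exact ⟨s, hs⟩

/-- An affine open piece around a point. -/
theorem exists_affine (U : X.Etale) (u : U.left) :
    ∃ (W : X.Etale) (o : W ⟶ U), IsAffine W.left ∧ IsOpenImmersion o.left ∧ ∃ w, o.left.base w = u := by
  obtain ⟨_, ⟨O, hO, rfl⟩, hu, -⟩ := U.left.isBasis_affineOpens.exists_subset_of_mem_open
    (Set.mem_univ u) isOpen_univ
  have : Etale U.hom := U.prop
  exact ⟨MorphismProperty.Over.mk ⊤ ((Scheme.Opens.ι O) ≫ U.hom) (show Etale _ from inferInstance),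
    MorphismProperty.Over.homMk (Scheme.Opens.ι O) rfl, hO, (inferInstance : IsOpenImmersion (Scheme.Opens.ι O)), ⟨u, hu⟩, rfl⟩

/-- A finite affine refinement of a covering of an affine object, assembled into one surjection. -/
theorem exists_sigma {U : X.Etale} [IsAffine U.left] {R : Sieve U} (hR : R ∈ X.smallEtaleTopology U) :
    ∃ (n : Type u) (_ : Finite n) (V : n → X.Etale) (g : ∀ k, V k ⟶ U) (P : X.Etale) (f : P ⟶ U)
      (o : ∀ k, V k ⟶ P), (∀ k, o k ≫ f = g k) ∧ (∀ k, R (g k)) ∧ IsAffine P.left ∧ Surjective f.left ∧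
      (∀ k, IsOpenImmersion (o k).left) ∧ (∀ x : P.left, ∃ k v, (o k).left.base v = x) ∧
      (∀ k l v v', (o k).left.base v = (o l).left.base v' → k = l) := by
  choose Z a ha z hz using (mem_topology_iff R).1 hR
  choose W o' hW ho w hw using fun u => exists_affine (Z u) (z u)
  have hopen : ∀ u, IsOpen (Set.range (o' u ≫ a u).left.base) := fun u =>
    (Groth.Agent.Lib.EtJ.Supp.isOpenMap_left (o' u ≫ a u)).isOpen_range
  obtain ⟨t, ht⟩ := isCompact_univ.elim_finite_subcover _ hopen fun u _ =>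
    Set.mem_iUnion.2 ⟨u, w u, (congrArg (a u).left.base (hw u)).trans (hz u)⟩
  let n := {u : U.left // u ∈ t}
  let V : n → X.Etale := fun k => W k.1
  let g : ∀ k, V k ⟶ U := fun k => o' k.1 ≫ a k.1
  have hPe : Etale (Sigma.desc fun k => (V k).hom) :=
    IsZariskiLocalAtSource.sigmaDesc (P := @Etale) fun k => (V k).prop
  let P : X.Etale := MorphismProperty.Over.mk ⊤ (Sigma.desc fun k => (V k).hom) hPe
  let f : P ⟶ U := MorphismProperty.Over.homMk (Sigma.desc fun k => (g k).left) (by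
    refine Sigma.hom_ext _ _ fun k => ?_
    refine (Category.assoc _ _ _).symm.trans ((congrArg (· ≫ U.hom) (Sigma.ι_desc _ k)).trans ?_)
    exact (Over.w (g k).hom).trans (Sigma.ι_desc (fun k => (V k).hom) k).symm)
  let o : ∀ k, V k ⟶ P := fun k =>
    MorphismProperty.Over.homMk (Sigma.ι (fun k => (V k).left) k) (Sigma.ι_desc _ k)
  have : ∀ k, IsAffine ((fun k => (V k).left) k) := fun k => hW k.1
  have hcov : ∀ x : P.left, ∃ k v, (o k).left.base v = x := fun x =>
    ⟨_, (sigmaOpenCover (fun k => (V k).left)).exists_eq x |>.choose_spec⟩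
  refine ⟨n, inferInstance, V, g, P, f, o, fun k => MorphismProperty.Over.Hom.ext (Sigma.ι_desc _ k),
    fun k => R.downward_closed (ha k.1) _, (inferInstance : IsAffine (∐ fun k => (V k).left)),
    ⟨fun x => ?_⟩, fun k => (inferInstance : IsOpenImmersion (Sigma.ι (fun k => (V k).left) k)),
    hcov, fun k l v v' he => ?_⟩
  · obtain ⟨u, hu⟩ := Set.mem_iUnion.1 (ht (Set.mem_univ x))
    obtain ⟨hu', y, hy⟩ := Set.mem_iUnion.1 hu
    exact ⟨(o ⟨u, hu'⟩).left.base y,
      (congrArg (fun m => m.base y) (Sigma.ι_desc (fun k => (g k).left) ⟨u, hu'⟩)).trans hy⟩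
  · by_contra hne
    exact Set.disjoint_left.1 (TopologicalSpace.Opens.coe_disjoint.2
      (disjoint_opensRange_sigmaι (fun k => (V k).left) k l hne)) ⟨v, rfl⟩ ⟨v', he.symm⟩

variable (hZ : Presieve.IsSheaf (X.smallGrothendieckTopology (P := @IsOpenImmersion)) F)
  (hA : ∀ (U V : X.Etale) [IsAffine U.left] [IsAffine V.left] (f : V ⟶ U) [Surjective f.left],
    Presieve.IsSheafFor F (Presieve.singleton f))

include hZ hA in
theorem sep {U : X.Etale} {R : Sieve U} (hR : R ∈ X.smallEtaleTopology U) {s t : F.obj (op U)}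
    (h : ∀ (Z : X.Etale) (g : Z ⟶ U), R g → F.map g.op s = F.map g.op t) : s = t := by
  refine zar_sep hZ fun u => ?_
  obtain ⟨W, o, hW, ho, hw⟩ := exists_affine U u
  refine ⟨W, o, ho, hw, ?_⟩
  obtain ⟨n, _, V, g, P, f, ι, hι, hRg, hP, hf, hoi, hcov, -⟩ :=
    exists_sigma (X.smallEtaleTopology.pullback_stable o hR)
  refine (hA W P f).isSeparatedFor.ext ?_
  rintro Y b ⟨⟩
  refine zar_sep hZ fun x => ?_
  obtain ⟨k, v, hv⟩ := hcov x
  refine ⟨V k, ι k, hoi k, ⟨v, hv⟩, ?_⟩
  have := h _ _ (hRg k)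
  simp only [← Functor.map_comp_apply, ← op_comp, hι] at this ⊢
  rw [← Category.assoc, hι]
  exact this

include hZ hA in
theorem glue {U : X.Etale} {R : Sieve U} (hR : R ∈ X.smallEtaleTopology U)
    (x : Presieve.FamilyOfElements F (R : Presieve U)) (hx : x.Compatible) :
    ∃ s, x.IsAmalgamation s := by
  have hc : ∀ {Y₁ Y₂ Z : X.Etale} (g₁ : Z ⟶ Y₁) (g₂ : Z ⟶ Y₂) (f₁ : Y₁ ⟶ U) (f₂ : Y₂ ⟶ U)
      (h₁ : R f₁) (h₂ : R f₂), g₁ ≫ f₁ = g₂ ≫ f₂ → F.map g₁.op (x f₁ h₁) = F.map g₂.op (x f₂ h₂) :=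
    fun g₁ g₂ f₁ f₂ h₁ h₂ e => hx g₁ g₂ h₁ h₂ e
  choose W o hW ho w hw using exists_affine U
  have loc : ∀ u, ∃ s : F.obj (op (W u)), ∀ (Z : X.Etale) (g : Z ⟶ W u) (hg : R (g ≫ o u)),
      F.map g.op s = x (g ≫ o u) hg := by
    intro u
    have := hW u
    obtain ⟨n, _, V, g, P, f, ι, hι, hRg, hP, hf, hoi, hcov, hinj⟩ :=
      exists_sigma (X.smallEtaleTopology.pullback_stable (o u) hR)
    obtain ⟨s, hs⟩ := zar_glue hZ ι hoi hcov (fun k => x (g k ≫ o u) (hRg k)) fun i j Z p q e => by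
      refine hc _ _ _ _ _ _ ?_
      rw [← hι i, ← hι j]
      simp only [← Category.assoc, e]
    have key : ∀ (Z : X.Etale) (p : Z ⟶ P) (hp : R (p ≫ f ≫ o u)),
        F.map p.op s = x (p ≫ f ≫ o u) hp := by
      intro Z p hp
      have hmem : Sieve.pullback p (Sieve.ofArrows V ι) ∈ X.smallEtaleTopology Z :=
        X.smallEtaleTopology.pullback_stable p (ofArrows_mem V ι hcov)
      refine sep hZ hA hmem fun Z' q hq => ?_
      obtain ⟨k, r, hr⟩ := (Sieve.mem_ofArrows_iff _ _ _).1 hq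
      rw [← Functor.map_comp_apply, ← op_comp, hr, op_comp, Functor.map_comp_apply, hs]
      refine hc _ _ _ _ _ _ ?_
      rw [← hι k]
      simp only [← Category.assoc]
      rw [hr]
    obtain ⟨t, ht, -⟩ := (hA (W u) P f) (fun Y b hb => F.map (eqToHom (by cases hb; rfl)).op s)
      (fun {Y₁ Y₂ Z} g₁ g₂ f₁ f₂ h₁ h₂ e => by
        cases h₁
        cases h₂
        simp only [eqToHom_refl, op_id, Functor.map_id_apply]
        refine sep hZ hA (X.smallEtaleTopology.pullback_stable (g₁ ≫ f ≫ o u) hR) fun Z' q hq => ?_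
        have hq' : R ((q ≫ g₁) ≫ f ≫ o u) := by rw [Category.assoc]; exact hq
        have hq'' : R ((q ≫ g₂) ≫ f ≫ o u) := by
          have h' : (q ≫ g₂) ≫ f ≫ o u = (q ≫ g₁) ≫ f ≫ o u := by
            simp only [Category.assoc, reassoc_of% e]
          rwa [h']
        rw [← Functor.map_comp_apply, ← Functor.map_comp_apply, ← op_comp, ← op_comp,
          key _ _ hq', key _ _ hq'']
        congr 1
        simp only [Category.assoc, reassoc_of% e])
    have ht' : F.map f.op t = s := by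
      refine (ht f (Presieve.singleton_self f)).trans ?_
      simp only [eqToHom_refl, op_id, Functor.map_id_apply]
    refine ⟨t, fun Z a ha => sep hZ hA
      (X.smallEtaleTopology.pullback_stable a (ofArrows_mem (fun _ : PUnit.{1} => P) (fun _ => f)
        fun y => ⟨⟨⟩, hf.1 y⟩)) fun Z' q hq => ?_⟩
    obtain ⟨-, r, hr⟩ := (Sieve.mem_ofArrows_iff _ _ _).1 hq
    have hr' : R (r ≫ f ≫ o u) := by
      rw [← Category.assoc, ← hr, Category.assoc]
      exact R.downward_closed ha q
    rw [← Functor.map_comp_apply, ← op_comp, hr, op_comp, Functor.map_comp_apply, ht', key _ _ hr']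
    refine Eq.trans ?_ (hc q (𝟙 _) _ _ ha hr' ?_).symm
    · simp
    · rw [Category.id_comp, ← Category.assoc r, ← hr, Category.assoc]
  choose s hs using loc
  obtain ⟨t, ht⟩ := zar_glue hZ o ho (fun v => ⟨v, w v, hw v⟩) s fun i j Z p q e => by
    refine sep hZ hA (X.smallEtaleTopology.pullback_stable (p ≫ o i) hR) fun Z' r hr => ?_
    have hr₁ : R ((r ≫ p) ≫ o i) := by rw [Category.assoc]; exact hr
    have hr₂ : R ((r ≫ q) ≫ o j) := by rw [Category.assoc, ← e]; exact hr
    rw [← Functor.map_comp_apply, ← Functor.map_comp_apply, ← op_comp, ← op_comp,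
      hs _ _ _ hr₁, hs _ _ _ hr₂]
    congr 1
    simp only [Category.assoc, e]
  refine ⟨t, fun Y b hb => sep hZ hA
    (X.smallEtaleTopology.pullback_stable b (ofArrows_mem W o fun v => ⟨v, w v, hw v⟩))
    fun Z' q hq => ?_⟩
  obtain ⟨k, r, hr⟩ := (Sieve.mem_ofArrows_iff _ _ _).1 hq
  have hr' : R (r ≫ o k) := by rw [← hr]; exact R.downward_closed hb q
  rw [← Functor.map_comp_apply, ← op_comp, hr, op_comp, Functor.map_comp_apply, ht, hs _ _ _ hr']
  refine Eq.trans ?_ (hc q (𝟙 _) _ _ hb hr' ?_).symm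
  · simp
  · rw [Category.id_comp, hr]

/-- Let X be a scheme and F a presheaf of sets on the small étale site of X. Then F is an étale sheaf if
and only if F is a sheaf for the Zariski topology on the same category (coverings are jointly
surjective families of open immersions between étale X-schemes) and, for every morphism f : V ⟶ U of
étale X-schemes with U and V affine and f surjective, F satisfies the sheaf condition for the single
arrow f. -/
theorem result (X : Scheme.{u})
    (F : X.Etaleᵒᵖ ⥤ Type w) :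
    Presieve.IsSheaf X.smallEtaleTopology F ↔
      Presieve.IsSheaf (X.smallGrothendieckTopology (P := @IsOpenImmersion)) F ∧
        ∀ (U V : X.Etale) [IsAffine U.left] [IsAffine V.left] (f : V ⟶ U) [Surjective f.left],
          Presieve.IsSheafFor F (Presieve.singleton f) := by
  refine ⟨fun h => ⟨fun {U} R hR => h R ?_, fun U V _ _ f hf => ?_⟩, fun h => ?_⟩
  · refine (mem_topology_iff R).2 fun u => ?_
    obtain ⟨V, f, v, hf, -, hv⟩ := (mem_zar_iff R).1 hR u
    exact ⟨V, f, hf, v, hv⟩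
  · rw [Presieve.isSheafFor_iff_generate]
    exact h _ ((mem_topology_iff _).2 fun u =>
      ⟨V, f, Sieve.le_generate _ _ _ (Presieve.singleton_self f), hf.1 u⟩)
  · intro U R hR
    rw [← Presieve.isSeparatedFor_and_exists_isAmalgamation_iff_isSheafFor]
    exact ⟨fun x t₁ t₂ h₁ h₂ => sep h.1 h.2 hR fun Z g hg => (h₁ g hg).trans (h₂ g hg).symm,
      fun x hx => glue h.1 h.2 hR x hx⟩

end Groth.Agent.S14453
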