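import Groth.Statements.S14455
import Groth.Agent.Lib.Zeta.Ext
import Groth.Agent.Lib.Zeta.Rescale

set_option autoImplicit false
universe u
open CategoryTheory AlgebraicGeometry
open Zeta

namespace Groth.Agent.S14455

/-- For a scheme X of finite type over a finite field k with q elements, the zeta function of the affine
line over X (a k-scheme through X) is obtained from that of X by the substitution t ↦ qt, that is
Z(𝔸¹_X, t) = Z(X, qt) in ℚ⟦t⟧. (The published statement is the equality ζ(𝔸¹_X, s) = ζ(X, s − 1) of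
zeta functions in the variable s; under the substitution t = q^(−s), which turns ζ(Y, s) into Z(Y,
t) for every Y of finite type over k, it is the identity stated here.) -/
theorem result {k : Type u} [Field k] [Finite k] {X : Scheme.{u}}
    (f : X ⟶ Spec (CommRingCat.of k)) [LocallyOfFiniteType f] [QuasiCompact f] :
    Zeta.zetaFun ((𝔸(PUnit.{u + 1}; X) ↘ X) ≫ f) =
      PowerSeries.rescale (Nat.card k : ℚ) (Zeta.zetaFun f) := by
  rw [Groth.Agent.Lib.Zeta.ZetaFun.zetaFun_eq, Groth.Agent.Lib.Zeta.ZetaFun.zetaFun_eq,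
    ← Groth.Agent.Lib.Zeta.ExpSeries.coe_rescale_expS _
      (Groth.Agent.Lib.Zeta.ZetaFun.constantCoeff_logZeta f)]
  congr 1
  ext m
  rw [PowerSeries.coeff_rescale, Zeta.logZeta, Zeta.logZeta, PowerSeries.coeff_mk,
    PowerSeries.coeff_mk, ← mul_div_assoc]
  congr 1
  rcases eq_or_ne m 0 with rfl | hm
  · simp [Zeta.nPts]
  rw [Groth.Agent.Lib.Zeta.Ext.nPts_eq_of_points ((𝔸(PUnit.{u + 1}; X) ↘ X) ≫ f) (m := m)
    (c := Nat.card k ^ m * Zeta.nPts f m) ?_ hm]
  · push_cast; ring
  intro K _ _ _ hK
  rw [← hK, ← Groth.Agent.Lib.Zeta.Points.pointCount_eq_nPts f K, ← Module.natCard_eq_pow_finrank,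
    mul_comm, SgaExt.pointCount, SgaExt.pointCount, ← Nat.card_prod]
  exact Nat.card_congr
    { toFun := fun g => (⟨g.1 ≫ (𝔸(PUnit.{u + 1}; X) ↘ X), by rw [Category.assoc]; exact g.2⟩,
        (Scheme.ΓSpecIso (CommRingCat.of K)).hom (g.1.appTop (AffineSpace.coord X PUnit.unit)))
      invFun := fun p => ⟨AffineSpace.homOfVector p.1.1
          (fun _ => (Scheme.ΓSpecIso (CommRingCat.of K)).inv p.2), by
        rw [AffineSpace.homOfVector_over_assoc]; exact p.1.2⟩
      left_inv := fun g => Subtype.ext (AffineSpace.hom_ext (by simp) (fun i => by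
        rw [AffineSpace.homOfVector_appTop_coord]; simp))
      right_inv := fun p => Prod.ext (Subtype.ext (by simp)) (by
        simp only [AffineSpace.homOfVector_appTop_coord]; simp) }

end Groth.Agent.S14455
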