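import Groth.Statements.S14456
import Mathlib.RingTheory.Filtration
import Mathlib.RingTheory.TensorProduct.Finite
import Mathlib.RingTheory.Flat.Tensor

set_option autoImplicit false
universe u
open CAlg

namespace Groth.Agent.S14456
open scoped TensorProduct Pointwise

/-- Take a local homomorphism A → B between Noetherian local rings, M a finitely generated B-module and
f an element of the maximal ideal of B. If M/f^(n+1)M is flat over A for every n ≥ 0, then M is flat
over A. -/
theorem result {A B : Type u} [CommRing A] [CommRing B]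
    [IsNoetherianRing A] [IsNoetherianRing B] [IsLocalRing A] [IsLocalRing B] [Algebra A B]
    [IsLocalHom (algebraMap A B)] (M : Type u) [AddCommGroup M] [Module B M] [Module A M]
    [IsScalarTower A B M] [Module.Finite B M] (f : B) (hf : f ∈ IsLocalRing.maximalIdeal B)
    (hflat : ∀ n : ℕ, Module.Flat A (M ⧸ (Ideal.span {f ^ (n + 1)} • (⊤ : Submodule B M)))) :
    Module.Flat A M := by
  refine Module.Flat.iff_lTensor_injective.mpr ?_
  intro J _
  rw [injective_iff_map_eq_zero]
  intro x hx
  have : Module.Finite B (M ⊗[A] J) :=
    Module.Finite.equiv (TensorProduct.AlgebraTensorModule.cancelBaseChange A B B M J)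
  have hfjac : Ideal.span {f} ≤ (⊥ : Ideal B).jacobson :=
    ((Ideal.span_singleton_le_iff_mem _).mpr hf).trans (IsLocalRing.maximalIdeal_le_jacobson _)
  have hmem : x ∈ (⨅ n : ℕ, Ideal.span {f} ^ n • ⊤ : Submodule B (M ⊗[A] J)) := by
    rw [Submodule.mem_iInf]
    intro n
    set N := Ideal.span {f ^ (n + 1)} • (⊤ : Submodule B M)
    let π : M →ₗ[A] M ⧸ N := N.mkQ.restrictScalars A
    let μ : M →ₗ[A] M := (LinearMap.lsmul B M (f ^ (n + 1))).restrictScalars A
    have hex : Function.Exact μ π := by
      intro y
      constructor
      · intro hy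
        have hy' : y ∈ N := (Submodule.Quotient.mk_eq_zero _).mp hy
        rw [show N = f ^ (n + 1) • (⊤ : Submodule B M) from Submodule.ideal_span_singleton_smul _ _] at hy'
        obtain ⟨z, -, hz⟩ := (Submodule.mem_smul_pointwise_iff_exists _ _ _).mp hy'
        exact ⟨z, hz⟩
      · rintro ⟨z, rfl⟩
        exact (Submodule.Quotient.mk_eq_zero _).mpr
          (Submodule.smul_mem_smul (Ideal.mem_span_singleton_self _) Submodule.mem_top)
    have h0 : π.rTensor J x = 0 := by
      have hinj := (Module.Flat.iff_lTensor_injective.mp (hflat n)) (Ideal.fg_of_isNoetherianRing J)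
      refine hinj ?_
      rw [map_zero, ← LinearMap.comp_apply, LinearMap.lTensor_comp_rTensor,
        ← LinearMap.rTensor_comp_lTensor, LinearMap.comp_apply]
      erw [hx]
      exact map_zero _
    obtain ⟨y, rfl⟩ := (rTensor_exact J hex N.mkQ_surjective x).mp h0
    have hy : μ.rTensor J y = f ^ (n + 1) • y := by
      clear hx h0
      induction y using TensorProduct.induction_on with
      | zero => simp
      | tmul a b => rfl
      | add a b ha hb => rw [map_add, smul_add, ha, hb]
    rw [hy, Ideal.span_singleton_pow]
    exact Submodule.smul_mem_smul (Ideal.mem_span_singleton'.mpr ⟨f, by rw [pow_succ']⟩) Submodule.mem_top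
  rwa [Ideal.iInf_pow_smul_eq_bot_of_le_jacobson _ hfjac, Submodule.mem_bot] at hmem

end Groth.Agent.S14456
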