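import Groth.Statements.S14458
import Groth.Agent.H22.NilLocal

set_option autoImplicit false
universe u
open CAlg

namespace Groth.Agent.S14458

open TensorProduct in
/-- Let R be an Artinian local ring with residue field k and M an R-module, not necessarily finitely
generated. If M ⊗_R k = 0 then M = 0. -/
theorem result {R : Type u} [CommRing R]
    [IsArtinianRing R] [IsLocalRing R] (M : Type u) [AddCommGroup M] [Module R M]
    (h : Subsingleton ((IsLocalRing.ResidueField R) ⊗[R] M)) : Subsingleton M := by
  have := h
  have : Subsingleton ((R ⧸ IsLocalRing.maximalIdeal R) ⊗[R] M) := h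
  exact H22.Nil.subsingleton_of_tensor (H22.NilLocal.isNilpotent_maximal (A := R))

end Groth.Agent.S14458
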