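import Groth.Statements.S1446
import Groth.Agent.Lib.RelAss.Affine
import Groth.Agent.Lib.RelAss.Base

set_option autoImplicit false
universe u
open FlatMor

namespace Groth.Agent.S1446

open AlgebraicGeometry CategoryTheory Limits in
/-- Let f : X → S be locally of finite type, F a quasi-coherent O_X-module of finite type, and ξ a point
of the relative assassin of F with closure Z. Then there is a nonempty subset V of Z, open in Z,
such that for every point x of V, if x is a generic point of an irreducible component of the fibre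
of V through x then x lies in the relative assassin of F. -/
theorem result {X S : Scheme.{u}} (f : X ⟶ S) [LocallyOfFiniteType f]
    (F : X.Modules) (hF : Coh.IsCoh F) (ξ : X) (hξ : ξ ∈ MoreMor.relAss f F) :
    ∃ V : Set ↑X, V ⊆ closure {ξ} ∧ IsOpen (Subtype.val ⁻¹' V : Set ↑(closure ({ξ} : Set ↑X))) ∧ V.Nonempty ∧
      ∀ (x : X) (hx : x ∈ V), (∃ C ∈ irreducibleComponents ↑(V ∩ f ⁻¹' {f x}), IsGenericPoint (⟨x, hx, rfl⟩ : ↑(V ∩ f ⁻¹' {f x})) C) →
        x ∈ MoreMor.relAss f F := by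
  haveI := hF.1
  haveI := hF.2
  obtain ⟨W, hW, hξW, -⟩ := exists_isAffineOpen_mem_and_subset (U := (⊤ : S.Opens)) (x := f ξ) trivial
  obtain ⟨U, hU, hξU, e⟩ := exists_isAffineOpen_mem_and_subset (U := f ⁻¹ᵁ W) (x := ξ) hξW
  let _ := (f.appLE W U e).hom.toAlgebra
  haveI : Algebra.FiniteType Γ(S, W) Γ(X, U) := f.finiteType_appLE hW hU e
  haveI : Module.Finite Γ(X, U) Γ(F, U) := Lib.CohBasics.Affine.finite_sections hU
  haveI := Lib.RelAss.Affine.liesOver_primeIdealOf f hW hU e hξU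
  obtain ⟨g, hg, H⟩ := Lib.RelAss.Base.exists_open_minimal _ _
    ((Lib.RelAss.Affine.mem_relAss_iff f hW hU e F hξU).1 hξ)
  refine ⟨closure {ξ} ∩ ((U : Set X) ∩ f ⁻¹' (S.basicOpen g : Set S)), Set.inter_subset_left, ?_,
    ⟨ξ, subset_closure rfl, hξU, (Lib.RelAss.Affine.mem_basicOpen_iff hW (e hξU) g).2 hg⟩, fun x hx hgen => ?_⟩
  · rw [Set.preimage_inter, Subtype.coe_preimage_self, Set.univ_inter]
    exact (U.isOpen.inter ((S.basicOpen g).isOpen.preimage f.continuous)).preimage continuous_subtype_val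
  obtain ⟨C, hC, hxC⟩ := hgen
  have hξx : ξ ⤳ x := specializes_iff_mem_closure.2 hx.1
  have hxg : g ∉ (hW.primeIdealOf ⟨f x, e hx.2.1⟩).asIdeal :=
    (Lib.RelAss.Affine.mem_basicOpen_iff hW (e hx.2.1) g).1 hx.2.2
  have hle := (Lib.RelAss.Affine.specializes_iff hW (e hξU) (e hx.2.1)).1 (hξx.map f.continuous)
  haveI := Lib.RelAss.Affine.liesOver_primeIdealOf f hW hU e hx.2.1
  refine (Lib.RelAss.Affine.mem_relAss_iff f hW hU e F hx.2.1).2
    ((H _ hle hxg).2 _ ((Lib.RelAss.Affine.specializes_iff hU hξU hx.2.1).1 hξx) fun P₂ hP₂ hP₂q hPle hle₂ => ?_)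
  haveI := hP₂
  obtain ⟨y, hy, hyx, hyP⟩ := Lib.RelAss.Affine.exists_point f hW hU e (e hx.2.1) P₂ hP₂q
  subst hyP
  have hξy : ξ ⤳ y := (Lib.RelAss.Affine.specializes_iff hU hξU hy).2 hPle
  have hyV : y ∈ closure {ξ} ∩ ((U : Set X) ∩ f ⁻¹' (S.basicOpen g : Set S)) :=
    ⟨hξy.mem_closure, hy, by rw [Set.mem_preimage, hyx]; exact hx.2.2⟩
  let x' : ↑((closure {ξ} ∩ ((U : Set X) ∩ f ⁻¹' (S.basicOpen g : Set S))) ∩ f ⁻¹' {f x}) := ⟨x, hx, rfl⟩
  let y' : ↑((closure {ξ} ∩ ((U : Set X) ∩ f ⁻¹' (S.basicOpen g : Set S))) ∩ f ⁻¹' {f x}) := ⟨y, hyV, hyx⟩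
  have hyx' : y' ⤳ x' :=
    Topology.IsInducing.subtypeVal.specializes_iff.1 ((Lib.RelAss.Affine.specializes_iff hU hy hx.2.1).2 hle₂)
  have hxy' : x' ⤳ y' := by
    have hsub : C ≤ closure {y'} := by
      rw [← hxC.def]
      exact closure_minimal (Set.singleton_subset_iff.2 hyx'.mem_closure) isClosed_closure
    have := hC.2 isIrreducible_singleton.closure hsub (subset_closure rfl)
    rw [← hxC.def] at this
    exact specializes_iff_mem_closure.2 this
  exact (Lib.RelAss.Affine.specializes_iff hU hx.2.1 hy).1 (Topology.IsInducing.subtypeVal.specializes_iff.2 hxy')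

end Groth.Agent.S1446
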