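import Groth.Statements.S14460
import Groth.Agent.Lib.FEt.FullyFaithful
import Mathlib.AlgebraicGeometry.Morphisms.UniversallyInjective
import Mathlib.AlgebraicGeometry.Morphisms.FlatMono

set_option autoImplicit false
universe u
open CategoryTheory CategoryTheory.Limits AlgebraicGeometry
open Pi1

namespace Groth.Agent.S14460

/-- Let Y → X be finite étale with Y nonempty and all geometric fibres of the same cardinality n, and
let a finite group G act on Y over X without fixed points (no point of Y with values in a field is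
fixed by a non-identity element). Then G has at most n elements, and it has exactly n elements if
and only if the morphism from the disjoint union of copies of Y indexed by G to Y ×_X Y, given on
the copy indexed by g by the identity and g, is an isomorphism. (For Y empty the bound fails, since
every finite group acts without fixed points on the empty cover, whose fibres have cardinality 0;
this row assumes Y nonempty.) -/
theorem result {X : Scheme.{u}} (Y : FEt.Cat X)
    [Nonempty ↥Y.left] (n : ℕ)
    (hn : ∀ (Ω : Type u) [Field Ω] [IsSepClosed Ω] (ξ : Spec (CommRingCat.of Ω) ⟶ X), Nat.card (FEt.fiberObj ξ Y) = n)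
    (G : Type u) [Group G] [Finite G] (ρ : G →* Aut Y)
    (hfree : ∀ g : G, g ≠ 1 → ∀ (K : Type u) [Field K] (y : Spec (CommRingCat.of K) ⟶ Y.left),
      y ≫ (ρ g).hom.left ≠ y) :
    Nat.card G ≤ n ∧
      (Nat.card G = n ↔ IsIso (Limits.Sigma.desc fun g : G =>
        pullback.lift (𝟙 Y.left) (ρ g).hom.left
          ((Category.id_comp Y.hom).trans (Over.w (ρ g).hom.hom).symm) : (∐ fun _ : G => Y.left) ⟶ pullback Y.hom Y.hom)) := by
  have hc : ∀ g : G, (ρ g).hom.left ≫ Y.hom = Y.hom := fun g => Over.w (ρ g).hom.hom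
  have hmul : ∀ g g' : G, (ρ (g * g')).hom.left = (ρ g').hom.left ≫ (ρ g).hom.left := fun g g' => by
    rw [map_mul]; rfl
  have hinv : ∀ g : G, (ρ g).hom.left ≫ (ρ g⁻¹).hom.left = 𝟙 _ := fun g => by
    rw [← hmul, inv_mul_cancel, map_one]; rfl
  have key : ∀ (K : Type u) [Field K] (y : Spec (CommRingCat.of K) ⟶ Y.left) (g g' : G),
      y ≫ (ρ g).hom.left = y ≫ (ρ g').hom.left → g = g' := fun K _ y g g' h => by
    by_contra hne
    refine hfree (g'⁻¹ * g) (fun h1 => hne (inv_mul_eq_one.mp h1).symm) K y ?_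
    rw [hmul, ← Category.assoc, h, Category.assoc, hinv, Category.comp_id]
  let orb : ∀ {Ω : Type u} [Field Ω] {ξ : Spec (CommRingCat.of Ω) ⟶ X}, FEt.fiberObj ξ Y → G →
      FEt.fiberObj ξ Y := fun s g => ⟨s.1 ≫ (ρ g).hom.left, by rw [Category.assoc, hc]; exact s.2⟩
  have horb : ∀ {Ω : Type u} [Field Ω] {ξ : Spec (CommRingCat.of Ω) ⟶ X} (s : FEt.fiberObj ξ Y),
      Function.Injective (orb s) := fun s g g' h => key _ s.1 g g' (congrArg Subtype.val h)
  obtain ⟨y₀⟩ := (inferInstance : Nonempty Y.left)
  let pt := Groth.Agent.Lib.FEt.FullyFaithful.geomPt (X := Y.left) y₀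
  let s₀ : FEt.fiberObj (pt ≫ Y.hom) Y := ⟨pt, rfl⟩
  have hfin := Groth.Agent.Lib.FEt.Fiber.finite_fiberObj (pt ≫ Y.hom) Y
  refine ⟨(hn (AlgebraicClosure (Y.left.residueField y₀)) (pt ≫ Y.hom)) ▸ Nat.card_le_card_of_injective (orb s₀) (horb s₀), ?_⟩
  let D : (∐ fun _ : G => Y.left) ⟶ pullback Y.hom Y.hom := Limits.Sigma.desc fun g : G =>
    pullback.lift (𝟙 Y.left) (ρ g).hom.left ((Category.id_comp Y.hom).trans (hc g).symm)
  change _ ↔ IsIso D
  have hι : ∀ g : G, Sigma.ι (fun _ : G => Y.left) g ≫ D =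
      pullback.lift (𝟙 Y.left) (ρ g).hom.left ((Category.id_comp Y.hom).trans (hc g).symm) :=
    fun g => Sigma.ι_desc _ g
  have hfac : ∀ (K : Type u) [Field K] (a : Spec (CommRingCat.of K) ⟶ ∐ fun _ : G => Y.left),
      ∃ (g : G) (y : Spec (CommRingCat.of K) ⟶ Y.left), y ≫ Sigma.ι (fun _ : G => Y.left) g = a := by
    intro K _ a
    obtain ⟨g, y, hy⟩ := (sigmaOpenCover fun _ : G => Y.left).exists_eq (Groth.Agent.Lib.FEt.Fiber.point a)
    have hr : Set.range a.base ⊆ Set.range (Sigma.ι (fun _ : G => Y.left) g).base := by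
      rintro _ ⟨t, rfl⟩
      exact ⟨y, hy.trans (Groth.Agent.Lib.FEt.Fiber.base_eq_point a t).symm⟩
    exact ⟨g, IsOpenImmersion.lift _ a hr, IsOpenImmersion.lift_fac _ _ _⟩
  have het : Etale Y.hom := Y.prop.2
  have hfst : D ≫ pullback.fst Y.hom Y.hom = Sigma.desc fun _ : G => 𝟙 Y.left :=
    Sigma.hom_ext _ _ fun g => by rw [← Category.assoc, hι, pullback.lift_fst, Sigma.ι_desc]
  have : Etale (D ≫ pullback.fst Y.hom Y.hom) := by
    rw [hfst]
    have : IsZariskiLocalAtSource (@Etale : MorphismProperty Scheme.{u}) :=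
      HasRingHomProperty.instIsZariskiLocalAtSource (Q := RingHom.Etale)
    exact IsZariskiLocalAtSource.sigmaDesc (P := @Etale) fun _ => inferInstance
  have : Etale D := Etale.of_comp D (pullback.fst Y.hom Y.hom)
  have : UniversallyInjective D := by
    refine ((tfae_universallyInjective D).out 0 1).mpr fun K (_ : Field K) a b hab => ?_
    obtain ⟨g, y, rfl⟩ := hfac K a
    obtain ⟨g', y', rfl⟩ := hfac K b
    simp only [Category.assoc, hι] at hab
    have h1 := congrArg (· ≫ pullback.fst Y.hom Y.hom) hab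
    have h2 := congrArg (· ≫ pullback.snd Y.hom Y.hom) hab
    simp only [Category.assoc, pullback.lift_fst, pullback.lift_snd, Category.comp_id] at h1 h2
    subst h1
    rw [key K y g g' h2]
  have : Surjective (pullback.diagonal D) := (UniversallyInjective.iff_diagonal D).mp ‹_›
  have : IsIso (pullback.diagonal D) := ((isIso_iff_isOpenImmersion_and_surjective _).mpr ⟨inferInstance, inferInstance⟩)
  have : Mono D := (pullback.isIso_diagonal_iff D).mp ‹_›
  have hlfp : LocallyOfFinitePresentation D := inferInstance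
  have : IsOpenImmersion D := IsOpenImmersion.of_flat_of_mono D
  constructor
  · intro hcard
    have : Surjective D := ⟨fun z => by
      let p := Groth.Agent.Lib.FEt.FullyFaithful.geomPt z
      let ξ := p ≫ pullback.fst Y.hom Y.hom ≫ Y.hom
      let s : FEt.fiberObj ξ Y := ⟨p ≫ pullback.fst Y.hom Y.hom, Category.assoc _ _ _⟩
      let t : FEt.fiberObj ξ Y := ⟨p ≫ pullback.snd Y.hom Y.hom, by
        rw [Category.assoc, ← pullback.condition]⟩
      have := Groth.Agent.Lib.FEt.Fiber.finite_fiberObj ξ Y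
      obtain ⟨g, hg⟩ := ((Nat.bijective_iff_injective_and_card (orb s)).mpr
        ⟨horb s, hcard.trans (hn _ ξ).symm⟩).2 t
      have hp : s.1 ≫ Sigma.ι (fun _ : G => Y.left) g ≫ D = p := by
        rw [hι]
        refine pullback.hom_ext ?_ ?_
        · rw [Category.assoc, pullback.lift_fst, Category.comp_id]
        · rw [Category.assoc, pullback.lift_snd]
          exact congrArg Subtype.val hg
      refine ⟨(s.1 ≫ Sigma.ι (fun _ : G => Y.left) g).base (IsLocalRing.closedPoint _), ?_⟩
      have := congrArg (fun f => Groth.Agent.Lib.FEt.Fiber.point f) hp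
      rw [Groth.Agent.Lib.FEt.FullyFaithful.point_geomPt] at this
      exact this⟩
    exact (isIso_iff_isOpenImmersion_and_surjective D).mpr ⟨inferInstance, inferInstance⟩
  · intro hD
    rw [← hn _ (pt ≫ Y.hom)]
    refine Nat.card_eq_of_bijective (orb s₀) ⟨horb s₀, fun t => ?_⟩
    let q := pullback.lift s₀.1 t.1 (s₀.2.trans t.2.symm)
    obtain ⟨g, y, hy⟩ := hfac _ (q ≫ inv D)
    have hq : y ≫ pullback.lift (𝟙 Y.left) (ρ g).hom.left
        ((Category.id_comp Y.hom).trans (hc g).symm) = q := by
      rw [← hι, ← Category.assoc, hy, Category.assoc, IsIso.inv_hom_id, Category.comp_id]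
    have h1 := congrArg (· ≫ pullback.fst Y.hom Y.hom) hq
    have h2 := congrArg (· ≫ pullback.snd Y.hom Y.hom) hq
    simp only [q, Category.assoc, pullback.lift_fst, pullback.lift_snd, Category.comp_id] at h1 h2
    exact ⟨g, Subtype.ext (by rw [← h2, h1])⟩

end Groth.Agent.S14460
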