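import Groth.Statements.S1447
import Groth.Agent.Lib.FibreDeg.Strat
import Groth.Agent.Lib.FEt.AppBijective

set_option autoImplicit false
universe u
open FlatMor

namespace Groth.Agent.S1447

open CategoryTheory CategoryTheory.Limits AlgebraicGeometry Groth.Agent.Lib Groth.Agent.Lib.FibreDeg

open AlgebraicGeometry CategoryTheory Limits in
theorem fd_of_rank_le {K : Type u} [Field K] {T : Scheme.{u}} (p : T ⟶ Spec (CommRingCat.of K))
    [LocallyQuasiFinite p] [IsSeparated p] [LocallyOfFiniteType p] (n : ℕ)
    (hn : letI := BddFib.secAlgebra (CommRingCat.of K) p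
      Module.rank K (Γ(T, ⊤) : Type u) ≤ (n : Cardinal.{u})) : Basic.FD p n := by
  classical
  letI := BddFib.secAlgebra (CommRingCat.of K) p
  have : Subsingleton (Spec (CommRingCat.of K)) := inferInstanceAs (Subsingleton (PrimeSpectrum K))
  have : DiscreteTopology T := by
    have h := (p.isDiscrete_preimage_singleton (IsLocalRing.closedPoint K)).to_subtype
    have hu : (p ⁻¹' {IsLocalRing.closedPoint K} : Set T) = Set.univ := Set.eq_univ_of_forall fun x => Subsingleton.elim (α := PrimeSpectrum K) _ _
    exact ((Homeomorph.setCongr hu).trans (Homeomorph.Set.univ T)).discreteTopology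
  have hcard : ∀ D : Finset T, D.card ≤ n := by
    intro D
    choose e he he' using fun d : D => FEt.AppBijective.exists_idempotent_of_isClopen (Z := T) (C := {d.1}) (isClopen_discrete _)
    have key : ∀ d d' : D, T.Γevaluation d'.1 (e d) = if d = d' then 1 else 0 := by
      intro d d'
      have hid : IsIdempotentElem ((T.Γevaluation d'.1).hom (e d)) := (he d).map (T.Γevaluation d'.1).hom
      have hmem : d'.1 ∈ T.basicOpen (e d) ↔ d = d' := by
        show d'.1 ∈ (T.basicOpen (e d) : Set T) ↔ _
        rw [he', Set.mem_singleton_iff, Subtype.ext_iff, eq_comm]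
      have hmem : T.Γevaluation d'.1 (e d) ≠ 0 ↔ d = d' := (T.evaluation_ne_zero_iff_mem_basicOpen (U := ⊤) d'.1 trivial (e d)).trans hmem
      split_ifs with h
      · exact (IsIdempotentElem.iff_eq_zero_or_one.1 hid).resolve_left (hmem.2 h)
      · exact not_not.1 fun hne => h (hmem.1 hne)
    have hli : LinearIndependent K (M := (Γ(T, ⊤) : Type u)) e := by
      rw [Fintype.linearIndependent_iff]
      intro c hc d'
      have h := congrArg (T.Γevaluation d'.1).hom hc
      simp only [map_sum, map_zero, Algebra.smul_def, map_mul] at h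
      rw [Finset.sum_eq_single d' (fun d _ hd => by
        show _ * T.Γevaluation d'.1 (e d) = 0
        rw [key, if_neg hd, mul_zero]) (by simp)] at h
      change _ * T.Γevaluation d'.1 (e d') = 0 at h
      rw [key, if_pos rfl, mul_one] at h
      exact ((T.Γevaluation d'.1).hom.comp (algebraMap K (Γ(T, ⊤) : Type u))).injective (h.trans (map_zero _).symm)
    have := hli.cardinal_le_rank.trans hn
    rw [Cardinal.mk_fintype, Fintype.card_coe] at this
    exact_mod_cast this
  have : Finite T := by
    by_contra h
    have : Infinite T := not_finite_iff_infinite.1 h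
    obtain ⟨D, hD⟩ := Infinite.exists_subset_card_eq T (n + 1)
    have := hcard D
    omega
  have : CompactSpace T := Finite.compactSpace
  have : IsFinite p := IsFinite.of_locallyQuasiFinite p
  rw [← Basic.finiteOfDegLE_iff]
  have hfd : Basic.FD p (p.finrank (IsLocalRing.closedPoint K)) := ⟨inferInstance, fun s => (congrArg p.finrank (Subsingleton.elim _ _)).le⟩
  obtain ⟨hA, hF, -⟩ := (Basic.finiteOfDegLE_iff p _).2 hfd
  exact ⟨hA, hF, Module.finrank_le_of_rank_le hn⟩

/-- For a separated, flat, locally quasi-finite morphism f : X → S which is locally of finite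
presentation, assume the fibres of f over all field-valued points have rank (of their ring of global
functions) at most n. Then there is a function deg : S → ℕ bounded by n with every sublevel set {deg
≤ r} closed (equivalently a chain of closed subsets ∅ ⊂ Z_0 ⊂ ... ⊂ Z_n = S with strata {deg = r})
such that for every morphism g : T → S and every r, deg ∘ g is constant with value r exactly when
the base change of f along g is finite locally free of degree r. -/
theorem result {X S : Scheme.{u}} (f : X ⟶ S) [Flat f] [LocallyOfFinitePresentation f] [IsSeparated f] [LocallyQuasiFinite f]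
    (n : ℕ) (hn : ∀ (K : Type u) [Field K] (g : Spec (CommRingCat.of K) ⟶ S), (letI := ((Scheme.ΓSpecIso (CommRingCat.of K)).inv ≫ (pullback.snd f g).appTop).hom.toAlgebra
        Module.rank K (Γ(pullback f g, ⊤) : Type u)) ≤ (n : Cardinal.{u})) :
    ∃ deg : ↑S → ℕ, (∀ s, deg s ≤ n) ∧ (∀ r : ℕ, IsClosed {s : ↑S | deg s ≤ r}) ∧
      ∀ (T : Scheme.{u}) (g : T ⟶ S) (r : ℕ), Mor2.IsFinLocFreeOfDeg r (pullback.snd f g) ↔ ∀ t : T, deg (g t) = r := by
  have hfd : ∀ s : S, Basic.FD (f.fiberToSpecResidueField s) n := fun s =>
    have : LocallyQuasiFinite (f.fiberToSpecResidueField s) := inferInstanceAs (LocallyQuasiFinite (pullback.snd f (S.fromSpecResidueField s)))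
    have : IsSeparated (f.fiberToSpecResidueField s) := inferInstanceAs (IsSeparated (pullback.snd f (S.fromSpecResidueField s)))
    have : LocallyOfFiniteType (f.fiberToSpecResidueField s) := inferInstanceAs (LocallyOfFiniteType (pullback.snd f (S.fromSpecResidueField s)))
    fd_of_rank_le (K := S.residueField s) (f.fiberToSpecResidueField s) n (hn (S.residueField s) (S.fromSpecResidueField s))
  have hf : Strat.FiniteFibres f := fun s => (hfd s).1
  refine ⟨Strat.deg f, fun s => (hfd s).2 _, fun r => ?_, fun T g r => ?_⟩
  · rw [← isOpen_compl_iff]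
    convert Strat.isOpen_le_deg hf (r + 1) using 1
    ext s
    simp only [Set.mem_compl_iff, Set.mem_ofPred_eq, not_le]
    rfl
  · have sq := IsPullback.of_hasPullback f g
    have hg : Strat.FiniteFibres (pullback.snd f g) := Strat.finiteFibres_baseChange sq hf
    constructor
    · rintro ⟨⟨h1, h2, h3⟩, hr⟩ t
      rw [← Strat.deg_baseChange sq hf t, Strat.deg_eq_finrank]
      exact hr t
    · intro hr
      have : LocallyQuasiFinite (pullback.snd f g) := inferInstance
      exact Strat.isFinLocFree_of_deg_eq hg fun t => (Strat.deg_baseChange sq hf t).trans (hr t)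

end Groth.Agent.S1447
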