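import Groth.Statements.S14471
import Groth.Agent.Lib.CurveFF.ValueCount
import Groth.Agent.Lib.CurveFF.LineDiv
import Groth.Agent.Lib.CurveFF.Hyp
import Groth.Agent.Lib.SmoothCurve.Curve
import Mathlib.RingTheory.OrderOfVanishing.Noetherian
-- import your own Groth.Agent.* helpers here

set_option autoImplicit false
universe u
open CategoryTheory CategoryTheory.Limits AlgebraicGeometry
open Curves

namespace Groth.Agent.S14471
open Groth.Agent.Lib
attribute [local instance] Curv2.stalkAlgebra

/-- Let k be an algebraically closed field, C a smooth proper curve over k (proper and smooth over k,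
integral, of dimension one), (L, s_0, …, s_r) a linear series g^r_d on C (L an invertible module of
degree d with k-linearly independent global sections s_0, …, s_r spanning a subspace V of Γ(C, L))
and p a closed point of C. For a nonzero σ ∈ V write ord_p σ for the length of the O_{C,p}-module
L_p/(σ_p), the order of vanishing of σ at p. Then σ ↦ ord_p σ takes exactly r + 1 distinct values on
V minus 0. (The published statement is for a smooth projective curve over the complex numbers and a
complex point p; this row states it over any algebraically closed field.) -/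
theorem result (k : Type u) [Field k] [IsAlgClosed k]
    (C : Scheme.{u}) [C.Over (Spec (CommRingCat.of k))] (hC : Curve.IsSmoothProperCurve k C (C ↘ (Spec (CommRingCat.of k))))
    (L : C.Modules) (d r : ℕ) (s : Fin (r + 1) → LinSer.Sect C L) (hL : LinSer.IsLinSer k C L d r s)
    (p : C) (hp : IsClosed ({p} : Set C)) :
    Set.ncard ((fun c : Fin (r + 1) → k =>
        Module.length (C.presheaf.stalk p)
          (↥(L.presheaf.stalk p) ⧸ Submodule.span (C.presheaf.stalk p)
            {(L.presheaf.germ ⊤ p trivial) (∑ i, (Coh.toGlobal (C ↘ Spec (CommRingCat.of k)) (c i)) • s i)})) ''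
        {c : Fin (r + 1) → k | c ≠ 0}) = r + 1 := by
  classical
  obtain ⟨hprop, hsm, hint, hdim⟩ := hC
  haveI := hprop
  haveI := hsm
  haveI := hint
  have h := CurveFF.curveHyp_of_smooth k hdim
  haveI := h.dvr p hp
  obtain ⟨R⟩ := CurveFF.LineDiv.nonempty_rep hL.1
  let O := C.presheaf.stalk p
  let e : O ≃ₗ[O] L.presheaf.stalk p :=
    LinearEquiv.ofBijective (LinearMap.toSpanSingleton O _ (R.gen p))
      ⟨(injective_iff_map_eq_zero _).2 fun a ha => R.gen_free ha,
        fun v => R.gen_span p v⟩
  let σ : (Fin (r + 1) → k) → L.presheaf.stalk p := fun c =>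
    L.presheaf.germ ⊤ p trivial (∑ i, (Coh.toGlobal (C ↘ Spec (CommRingCat.of k)) (c i)) • s i)
  have hlin : ∀ c, σ c = ∑ i, algebraMap k O (c i) • L.presheaf.germ ⊤ p trivial (s i) := fun c => by
    refine (map_sum _ _ _).trans (Finset.sum_congr rfl fun i _ => ?_)
    exact Modules.StalkModule.germ_smul (M := L) (U := ⊤) (x := p) trivial _ _
  let T : (Fin (r + 1) → k) →ₗ[k] O :=
    { toFun := fun c => e.symm (σ c)
      map_add' := fun c c' => by
        rw [hlin, hlin, hlin, ← map_add, ← Finset.sum_add_distrib]
        exact congrArg _ (Finset.sum_congr rfl fun i _ => by rw [Pi.add_apply, map_add, add_smul])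
      map_smul' := fun a c => by
        rw [hlin, hlin, RingHom.id_apply]
        refine Eq.trans ?_ (Algebra.smul_def a _).symm
        refine Eq.trans ?_ (map_smul e.symm (algebraMap k O a) _)
        rw [Finset.smul_sum]
        exact congrArg _ (Finset.sum_congr rfl fun i _ => by
          rw [Pi.smul_apply, smul_eq_mul, map_mul, mul_smul]) }
  have hinj : Function.Injective T := by
    refine (injective_iff_map_eq_zero _).2 fun c hc => hL.2.2 c ?_
    have h0 : σ c = 0 := e.symm.injective (hc.trans (map_zero e.symm).symm)
    let t : Γ(L, ⊤) := ∑ i, (Coh.toGlobal (C ↘ Spec (CommRingCat.of k)) (c i)) • s i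
    refine TopCat.Presheaf.section_ext (⟨L.presheaf, L.isSheaf⟩ : TopCat.Sheaf Ab C.toTopCat) ⊤ t 0
      fun x _ => R.pr_injective x ?_
    have h1 := congrArg (R.pr p) h0
    rw [map_zero] at h1
    exact (((R.pr_germ (U := ⊤) (x := x) trivial t).trans
      ((R.pr_germ (U := ⊤) (x := p) trivial t).symm)).trans h1).trans
      (((congrArg (R.pr x) (map_zero _))).trans (map_zero _)).symm
  have hlen : ∀ c, Module.length O (L.presheaf.stalk p ⧸ Submodule.span O {σ c}) =
      IsDiscreteValuationRing.addVal O (T c) := fun c => by
    rw [← Ring.ord_eq_addVal]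
    refine (LinearEquiv.length_eq (Submodule.Quotient.equiv (Ideal.span {T c}) _ e ?_)).symm
    show Submodule.map e.toLinearMap (Submodule.span O {T c}) = _
    rw [Submodule.map_span, Set.image_singleton]
    congr 2
    exact e.apply_symm_apply _
  obtain ⟨-, hn⟩ := CurveFF.ValueCount.ncard_values (k := k) (O := O) (fun a => by
      obtain ⟨c, hc⟩ := SmoothCurve.Curve.residue_stalkConst_surjective
        (C ↘ Spec (CommRingCat.of k)) hp (C.residue p a)
      refine ⟨c, ?_⟩
      rw [← IsLocalRing.residue_eq_zero_iff, map_sub, sub_eq_zero]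
      exact hc.symm) (r + 1) (LinearMap.range T)
    (by rw [LinearMap.finrank_range_of_inj hinj, Module.finrank_fin_fun])
  refine (congrArg Set.ncard ?_).trans hn
  ext x
  constructor
  · rintro ⟨c, hc, rfl⟩
    exact ⟨T c, ⟨⟨c, rfl⟩, fun h0 => hc (hinj (h0.trans (map_zero T).symm))⟩, (hlen c).symm⟩
  · rintro ⟨v, ⟨⟨c, rfl⟩, hv⟩, rfl⟩
    exact ⟨c, fun h0 => hv (by rw [h0, map_zero]), hlen c⟩

end Groth.Agent.S14471
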