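import Groth.Statements.S14472
import Groth.Agent.H58Stack.Main
-- import your own Groth.Agent.* helpers here

set_option autoImplicit false
universe u
open CategoryTheory CategoryTheory.Limits AlgebraicGeometry
open Curves

namespace Groth.Agent.S14472

/-- Let p : S' → S be flat, surjective and locally of finite presentation (an fppf cover), and let D be
a descent datum relative to p, in functor-of-points form, on an S'-scheme C → S' which is proper and
smooth with geometrically connected fibres of dimension one and genus g ≠ 1 (g the dimension of H¹
of the structure sheaf of each fibre over its residue field). Then D is effective: D is isomorphic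
to the canonical descent datum of some scheme over S. (This is the effectivity half of the statement
that families of smooth genus-g curves, g ≠ 1, form a stack for the fppf topology; the other half,
that isomorphisms between two families form a sheaf, is not restated.) -/
theorem result {S' S : Scheme.{u}} (p : S' ⟶ S)
    [Flat p] [Surjective p] [LocallyOfFinitePresentation p] (D : Desc.SchDD p)
    [IsProper D.obj.hom] [Smooth D.obj.hom] [GeometricallyConnected D.obj.hom]
    (hdim : ∀ s : S', topologicalKrullDim ↥(D.obj.hom.fiber s) = 1) (g : ℕ) (hg : g ≠ 1)
    (hgen : ∀ s : S', letI : (D.obj.hom.fiber s).Over (Spec (S'.residueField s)) := ⟨D.obj.hom.fiberToSpecResidueField s⟩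
      Curv2.genus (S'.residueField s) (D.obj.hom.fiber s) = g) :
    ∃ W : Over S, Nonempty ((Desc.toDD p).obj W ≅ D) := by
  obtain ⟨U, q, H⟩ := Groth.Agent.H58Stack.exists_isDescended p D
    (Groth.Agent.H58Stack.canAmple_of_curve D.obj.hom hdim hg hgen)
  exact H.exists_iso

end Groth.Agent.S14472
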