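import Groth.Statements.S14473
import Groth.Agent.Lib.CurveFF.GenusOneInvol
import Groth.Agent.Lib.CurveFF.DoubleSep
import Groth.Agent.Lib.CurveFF.DoubleInvol
import Groth.Agent.Lib.CurveFF.Hyp
-- import your own Groth.Agent.* helpers here

set_option autoImplicit false
universe u
open CategoryTheory CategoryTheory.Limits AlgebraicGeometry
open Curves

namespace Groth.Agent.S14473
open Groth.Agent.Lib
attribute [local instance] Curv2.stalkAlgebra

/-- Let k be an algebraically closed field and C a smooth proper connected curve over k (proper and
smooth over k, integral, of dimension one) of genus 1, the genus being the dimension of H¹(C, O_C).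
Then the group of k-automorphisms of C is infinite: there are infinitely many automorphisms of the
scheme C over Spec k. -/
theorem result (k : Type u) [Field k] [IsAlgClosed k]
    (C : Scheme.{u}) [C.Over (Spec (CommRingCat.of k))] (hC : Curve.IsSmoothProperCurve k C (C ↘ (Spec (CommRingCat.of k))))
    (hg : Curv2.genus k C = 1) :
    Infinite {e : C ≅ C // e.hom ≫ (C ↘ (Spec (CommRingCat.of k))) = C ↘ (Spec (CommRingCat.of k))} := by
  obtain ⟨hp, hs, hi, hdim⟩ := hC
  haveI := hp
  haveI := hs
  haveI := hi
  have h := CurveFF.curveHyp_of_smooth k hdim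
  have h0 := Curves.GlobalSections.finrank_h0_structure k C
  have hK := CurveFF.isFunctionField (k := k) h h0
  have hg' : _root_.FunFld.genus k C.functionField = 1 := (CurveFF.genus_eq h h0).symm.trans hg
  -- double covers are separable
  have hsep : ∀ t : C.functionField,
      Module.finrank (IntermediateField.adjoin k ({t} : Set C.functionField)) C.functionField = 2 →
        Algebra.IsSeparable (IntermediateField.adjoin k ({t} : Set C.functionField)) C.functionField := by
    intro t h2
    obtain ⟨f, hf, hfin, hη, hm, hcoord⟩ :=
      CurveFF.exists_toP1 h (Groth.Agent.H81.DoubleCover.transcendental_of_finrank hK h2)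
    haveI := hfin
    haveI : Flat f := CurveFF.DoubleCover.flat f hη
    obtain ⟨hd, -⟩ := CurveFF.DoubleCover.degree_transfer f hf hm
    have hfr : ∀ y, f.finrank y = 2 := fun y =>
      (CurveFF.DoubleCover.finrank_eq f hη y).trans (by rw [← hd, hcoord]; exact h2)
    haveI := Curves.GlobalSections.noetherianSpace_of_proper k C
    have := CurveFF.isSeparable_double f hf hdim hη hfr 1 le_rfl hg
    subst hcoord
    exact this
  haveI : Infinite (_root_.FunFld.Place k C.functionField) := by
    refine Infinite.of_not_fintype fun hF => ?_
    obtain ⟨P, hP⟩ := FunFld.LinSer.Basic.exists_place_notMem hK (@Finset.univ _ hF)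
    exact hP (@Finset.mem_univ _ hF P)
  haveI : Infinite (CurveFF.CPt C) :=
    Infinite.of_injective _ (CurveFF.placeEquiv (k := k) h).symm.injective
  obtain ⟨P⟩ : Nonempty (CurveFF.CPt C) := inferInstance
  choose σ h1 h2 h3 h4 using fun Q => CurveFF.GenusOneInvol.exists_swap h hK hg' hsep P Q
  refine Infinite.of_injective (fun Q : CurveFF.CPt C => ⟨σ Q, h1 Q⟩) fun a b e => Subtype.ext ?_
  have e' : σ a = σ b := congrArg Subtype.val e
  rw [← h3 a, ← h3 b, e']

end Groth.Agent.S14473
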