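import Groth.Statements.S14474
import Groth.Agent.H25.Morse.Locus

set_option autoImplicit false
set_option linter.style.haveILetI false
universe u
open CategoryTheory CategoryTheory.Limits AlgebraicGeometry
open Curves

namespace Groth.Agent.S14474

/-- Let π : C → S be a proper, flat morphism of finite presentation all of whose fibres have every
irreducible component of dimension one (every geometric fibre is a curve). Then the set of points s
of S such that the fibre C_s, as a scheme over κ(s), has at-worst-nodal singularities (each closed
point has a smooth open neighbourhood or is a node) is open in S. -/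
theorem result {C S : Scheme.{u}} (π : C ⟶ S)
    [IsProper π] [Flat π] [LocallyOfFinitePresentation π]
    (hfib : ∀ s : S, ∀ Z ∈ irreducibleComponents (↥(π.fiber s) : Type u), topologicalKrullDim Z = 1) :
    IsOpen {s : S | letI : (π.fiber s).Over (Spec (S.residueField s)) := ⟨π.fiberToSpecResidueField s⟩
      Curv2.AtWorstNodal (S.residueField s) (π.fiber s)} := by
  have hclosed : IsClosed (π '' ((H25.Morse.Locus.nodalLocus π : Set C)ᶜ)) :=
    π.isClosedMap _ (H25.Morse.Locus.nodalLocus π).2.isClosed_compl
  convert hclosed.isOpen_compl using 1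
  ext s
  let k : Type u := S.residueField s
  let F := π.fiber s
  letI : F.Over (Spec (CommRingCat.of k)) := ⟨π.fiberToSpecResidueField s⟩
  haveI : LocallyOfFiniteType (π.fiberToSpecResidueField s) :=
    inferInstanceAs (LocallyOfFiniteType (pullback.snd π (S.fromSpecResidueField s)))
  constructor
  · rintro hn ⟨x, hx, rfl⟩
    refine hx (H25.Morse.Locus.of_good π x ⊤ trivial ?_)
    exact H25.Morse.Locus.Good.etale ⟨hfib (π x), hn⟩ (⊤ : (π.fiber (π x)).Opens).ι rfl
  · intro hs
    have hW := H25.Morse.Locus.good_of_isNodalFamily π _ (H25.Morse.Locus.isNodalFamily_nodalLocus π) s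
    let O := (π.fiberι s) ⁻¹ᵁ H25.Morse.Locus.nodalLocus π
    have hO : O = ⊤ := top_le_iff.1 fun z _ => by
      by_contra hz
      refine hs ⟨π.fiberι s z, hz, ?_⟩
      have := π.range_fiberι s ▸ Set.mem_range_self (f := π.fiberι s) z
      exact this
    haveI : IsIso O.ι := by rw [hO]; exact inferInstanceAs (IsIso F.topIso.hom)
    haveI : LocallyOfFiniteType (O.ι ≫ π.fiberToSpecResidueField s) := inferInstance
    exact (H25.Morse.Locus.Good.etale (r := π.fiberToSpecResidueField s) hW (inv O.ι)
      (IsIso.inv_hom_id_assoc _ _)).2

end Groth.Agent.S14474
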