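import Groth.Statements.S14475
import Groth.Agent.H20.HyperTor.Smooth
import Groth.Agent.H20.HyperTor.Tor
import Mathlib.LinearAlgebra.ExteriorPower.Basic
import Mathlib.RingTheory.LocalRing.ResidueField.Ideal
import Mathlib.LinearAlgebra.Matrix.ToLin
import Mathlib.LinearAlgebra.Matrix.Determinant.Basic

set_option autoImplicit false
universe u
open CategoryTheory CategoryTheory.Limits KaehlerDifferential
open LocInt

namespace Groth.Agent.S14475

/-- The ideal of `B` generated by the values at `g` of the linear forms on `Ω[B⁄A]`. -/
noncomputable def jac (A : Type u) {B : Type u} [CommRing A] [CommRing B] [Algebra A B] (g : B) : Ideal B :=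
  LinearMap.range (LinearMap.applyₗ (KaehlerDifferential.D A B g) : ((Ω[B⁄A]) →ₗ[B] B) →ₗ[B] B)

open TensorProduct in
theorem annihilator_exterior_le {A B R : Type u} [CommRing A] [CommRing B] [CommRing R]
    [Algebra A B] [Algebra B R] [Algebra A R] [IsScalarTower A B R] [Algebra.Smooth A B] (n : ℕ)
    (hn : ∀ p : PrimeSpectrum B, Module.rankAtStalk (Ω[B⁄A]) p = n)
    (g : B) (hsurj : Function.Surjective (algebraMap B R))
    (hker : RingHom.ker (algebraMap B R) = Ideal.span {g}) :
    (⋀[R]^n (Ω[R⁄A])).annihilator ≤ (jac A g).map (algebraMap B R) := by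
  classical
  intro r hr
  set J := (jac A g).map (algebraMap B R) with hJ
  by_contra hrJ
  have hne : J.colon {r} ≠ ⊤ := fun h => hrJ (by
    have h1 := h ▸ (Submodule.mem_top : (1 : R) ∈ (⊤ : Ideal R))
    simpa [Submodule.mem_colon_singleton] using h1)
  obtain ⟨𝔪, h𝔪, hle⟩ := Ideal.exists_le_maximal _ hne
  haveI := h𝔪.isPrime
  let P : Ideal B := 𝔪.comap (algebraMap B R)
  -- `n` forms and `n` differentials with unit determinant at `P`
  obtain ⟨φ, e, hdet⟩ : ∃ (φ : Fin n → (Ω[B⁄A] →ₗ[B] B)) (e : Fin n → Ω[B⁄A]),
      (Matrix.of fun i k => φ i (e k)).det ∉ P := by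
    let K := P.ResidueField
    haveI : Module.Finite B (Ω[B⁄A]) := inferInstance
    haveI : Module.Projective B (Ω[B⁄A]) := inferInstance
    have hr' : Module.finrank K (K ⊗[B] Ω[B⁄A]) = n := by
      have hP := hn ⟨P, inferInstance⟩
      rw [Module.rankAtStalk_eq] at hP
      exact hP
    obtain ⟨sec, hsec⟩ := Module.projective_def'.1 (inferInstance : Module.Projective B (Ω[B⁄A]))
    obtain ⟨s, hs, hsp, hli⟩ : ∃ s : Fin n → Ω[B⁄A], True ∧ True ∧
        LinearIndependent K (fun k => (1 : K) ⊗ₜ[B] s k) := by
      have hspan : Submodule.span K (Set.range fun x : Ω[B⁄A] => (1 : K) ⊗ₜ[B] x) = ⊤ := by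
        rw [eq_top_iff]
        intro z _
        induction z using TensorProduct.induction_on with
        | zero => exact zero_mem _
        | add a b ha hb => exact add_mem (ha trivial) (hb trivial)
        | tmul c x =>
          rw [show c ⊗ₜ[B] x = c • ((1 : K) ⊗ₜ[B] x) by rw [TensorProduct.smul_tmul', smul_eq_mul, mul_one]]
          exact Submodule.smul_mem _ _ (Submodule.subset_span ⟨x, rfl⟩)
      obtain ⟨t, htsub, hts, hti⟩ := exists_linearIndependent K (Set.range fun x : Ω[B⁄A] => (1 : K) ⊗ₜ[B] x)
      rw [hspan] at hts
      let b := Module.Basis.mk hti (by rw [Subtype.range_coe_subtype]; exact hts.ge)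
      let b' := Module.finBasisOfFinrankEq K (K ⊗[B] Ω[B⁄A]) hr'
      let σ : Fin n ≃ t := b'.indexEquiv b
      choose x hx using fun k => htsub (σ k).2
      refine ⟨x, trivial, trivial, ?_⟩
      rw [show (fun k => (1 : K) ⊗ₜ[B] x k) = (fun a : t => (a : K ⊗[B] Ω[B⁄A])) ∘ σ from funext hx]
      exact hti.comp σ σ.injective
    let u := Finset.univ.biUnion fun k => (sec (s k)).support
    let N : Matrix u (Fin n) K := Matrix.of fun w k => algebraMap B K (sec (s k) w.1)
    obtain ⟨l, hl⟩ := (Matrix.toLin' N).exists_leftInverse_of_injective (LinearMap.ker_eq_bot'.2 fun c hc => by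
      -- the vector with coordinates `c` vanishes in `K ⊗ Ω`
      have hzero : ∑ k, c k • ((1 : K) ⊗ₜ[B] s k) = 0 := by
        have hinj : Function.Injective (sec.baseChange K) :=
          Function.LeftInverse.injective (g := (Finsupp.linearCombination B id).baseChange K) fun z => by
            rw [← LinearMap.comp_apply, ← LinearMap.baseChange_comp, hsec, LinearMap.baseChange_id]; rfl
        refine hinj ((TensorProduct.finsuppScalarRight B K K (Ω[B⁄A])).injective ?_)
        rw [map_zero, map_zero]
        ext w
        rw [map_sum, map_sum, Finsupp.finsetSum_apply, Finsupp.zero_apply]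
        simp only [map_smul, LinearMap.baseChange_tmul, Finsupp.smul_apply,
          TensorProduct.finsuppScalarRight_apply_tmul_apply, smul_eq_mul, Algebra.smul_def, mul_one]
        by_cases hw : w ∈ u
        · refine Eq.trans ?_ (congrFun hc ⟨w, hw⟩)
          simp only [Matrix.toLin'_apply, Matrix.mulVec, dotProduct, N, Matrix.of_apply]
          exact Finset.sum_congr rfl fun k _ => mul_comm _ _
        · refine Finset.sum_eq_zero fun k _ => ?_
          rw [Finsupp.notMem_support_iff.1 fun h => hw (Finset.mem_biUnion.2 ⟨k, Finset.mem_univ _, h⟩),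
            map_zero, mul_zero]
      exact funext fun k => Fintype.linearIndependent_iff.1 hli c hzero k)
    have hN : LinearMap.toMatrix' l * N = 1 := by
      rw [← LinearMap.toMatrix'_id, ← hl, LinearMap.toMatrix'_comp, LinearMap.toMatrix'_toLin']
    haveI : P.IsMaximal := Ideal.comap_isMaximal_of_surjective _ hsurj
    choose b hb using fun a : K => Ideal.algebraMap_residueField_surjective P a
    refine ⟨fun i => ∑ w : u, b (LinearMap.toMatrix' l i w) • (Finsupp.lapply w.1 ∘ₗ sec), s, fun hd => ?_⟩
    have h1 : algebraMap B K (Matrix.of fun i k =>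
        (∑ w : u, b (LinearMap.toMatrix' l i w) • (Finsupp.lapply w.1 ∘ₗ sec)) (s k)).det = 1 := by
      rw [RingHom.map_det, RingHom.mapMatrix_apply, ← Matrix.det_one (n := Fin n), ← hN]
      congr 1
      ext i k
      simp [Matrix.mul_apply, N]
      exact Finset.sum_congr rfl fun w _ => by erw [hb]
    rw [← Ideal.algebraMap_residueField_eq_zero (I := P)] at hd
    exact one_ne_zero (h1.symm.trans hd)
  -- the forms descend to `Ω[R⁄A]`
  have hgJ : ∀ f : Ω[B⁄A] →ₗ[B] B, algebraMap B R (f (KaehlerDifferential.D A B g)) ∈ J := fun f =>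
    Ideal.mem_map_of_mem _ ⟨f, rfl⟩
  let M' := R ⧸ J
  let q : B →+* M' := (Ideal.Quotient.mk J).comp (algebraMap B R)
  have hφ : ∀ i, ∃ f : Ω[R⁄A] →ₗ[R] M', ∀ b : B, f (KaehlerDifferential.D A R (algebraMap B R b)) =
      q (φ i (KaehlerDifferential.D A B b)) := by
    intro i
    choose sec hsec using hsurj
    have hwd : ∀ b₁ b₂ : B, algebraMap B R b₁ = algebraMap B R b₂ →
        q (φ i (KaehlerDifferential.D A B b₁)) = q (φ i (KaehlerDifferential.D A B b₂)) := fun b₁ b₂ h => by
      obtain ⟨c, hc⟩ := Ideal.mem_span_singleton.1 (hker ▸ RingHom.mem_ker.2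
        (by rw [map_sub, h, sub_self] : algebraMap B R (b₁ - b₂) = 0))
      rw [← sub_eq_zero, ← map_sub, ← map_sub, ← map_sub, hc, Derivation.leibniz, map_add, map_smul, map_smul,
        map_add, smul_eq_mul, smul_eq_mul, map_mul, map_mul,
        show q g = 0 from Ideal.Quotient.eq_zero_iff_mem.2 ((RingHom.mem_ker.1 (hker ▸ Ideal.mem_span_singleton_self g)) ▸ zero_mem _),
        show q (φ i (KaehlerDifferential.D A B g)) = 0 from Ideal.Quotient.eq_zero_iff_mem.2 (hgJ _)]
      simp
    let δ : Derivation A R M' := Derivation.mk'
      { toFun := fun r => q (φ i (KaehlerDifferential.D A B (sec r)))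
        map_add' := fun x y => by
          rw [hwd (sec (x + y)) (sec x + sec y) (by simp [hsec]), map_add, map_add, map_add]
        map_smul' := fun a x => by
          rw [hwd (sec (a • x)) (a • sec x) (by
            rw [hsec, Algebra.smul_def, Algebra.smul_def, map_mul, hsec, ← IsScalarTower.algebraMap_apply]),
            Derivation.map_smul, LinearMap.map_smul_of_tower, RingHom.id_apply, Algebra.smul_def, Algebra.smul_def,
            map_mul]
          congr 1
          simp only [q, RingHom.comp_apply, ← IsScalarTower.algebraMap_apply]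
          rfl }
      fun x y => by
        simp only [LinearMap.coe_mk, AddHom.coe_mk]
        rw [hwd (sec (x * y)) (sec x * sec y) (by simp [hsec]), Derivation.leibniz, map_add, map_smul, map_smul,
          map_add, smul_eq_mul, smul_eq_mul, map_mul, map_mul]
        simp only [q, RingHom.comp_apply, hsec, Algebra.smul_def, Ideal.Quotient.algebraMap_eq]
        rfl
    refine ⟨δ.liftKaehlerDifferential, fun b => ?_⟩
    rw [Derivation.liftKaehlerDifferential_comp_D]
    exact hwd _ _ (hsec _)
  choose f hf using hφ
  have hfe : ∀ i (x : Ω[B⁄A]), f i (KaehlerDifferential.map A A B R x) = q (φ i x) := by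
    intro i x
    have hx : x ∈ Submodule.span B (Set.range (KaehlerDifferential.D A B)) :=
      KaehlerDifferential.span_range_derivation A B ▸ Submodule.mem_top
    induction hx using Submodule.span_induction with
    | mem x hx => obtain ⟨b, rfl⟩ := hx; rw [KaehlerDifferential.map_D]; exact hf i b
    | zero => simp
    | add x y _ _ hx hy => simp only [map_add, hx, hy]
    | smul c x _ hx =>
      rw [LinearMap.map_smul (KaehlerDifferential.map A A B R), ← algebraMap_smul R c, LinearMap.map_smul, hx,
        LinearMap.map_smul, smul_eq_mul, map_mul, Algebra.smul_def]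
      rfl
  let D0 : MultilinearMap R (fun _ : Fin n => Ω[R⁄A]) M' :=
    { toFun := fun w => (Matrix.of fun k i => f i (w k)).det
      map_update_add' := @fun hdec w k x y => by
        obtain rfl := Subsingleton.elim hdec (instDecidableEqFin n)
        have h : ∀ v, (Matrix.of fun l i => f i (Function.update w k v l)) =
            Matrix.updateRow (Matrix.of fun l i => f i (w l)) k (fun i => f i v) := fun v => by
          ext l i
          by_cases hl : l = k <;> simp [hl, Matrix.updateRow_apply]
        simp only [h]
        refine Eq.trans ?_ (Matrix.det_updateRow_add _ _ _ _)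
        congr 2
        funext i
        simp
      map_update_smul' := @fun hdec w k c x => by
        obtain rfl := Subsingleton.elim hdec (instDecidableEqFin n)
        have h : ∀ v, (Matrix.of fun l i => f i (Function.update w k v l)) =
            Matrix.updateRow (Matrix.of fun l i => f i (w l)) k (fun i => f i v) := fun v => by
          ext l i
          by_cases hl : l = k <;> simp [hl, Matrix.updateRow_apply]
        simp only [h, Algebra.smul_def c]
        refine Eq.trans ?_ (Matrix.det_updateRow_smul _ _ _ _)
        congr 2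
        funext i
        simp [Algebra.smul_def] }
  let D1 : (Ω[R⁄A]) [⋀^Fin n]→ₗ[R] M' :=
    { D0 with
      map_eq_zero_of_eq' := fun w k l h hkl => Matrix.det_zero_of_row_eq hkl (funext fun i => congrArg (f i) h) }
  let E := exteriorPower.alternatingMapLinearEquiv D1
  let z : ⋀[R]^n (Ω[R⁄A]) := exteriorPower.ιMulti R n (fun k => KaehlerDifferential.map A A B R (e k))
  have hz : r • z = 0 := Module.mem_annihilator.1 hr z
  have hd : E z = q (Matrix.of fun i k => φ i (e k)).det := by
    rw [exteriorPower.alternatingMapLinearEquiv_apply_ιMulti]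
    change (Matrix.of fun k i => f i (KaehlerDifferential.map A A B R (e k))).det = _
    rw [RingHom.map_det, RingHom.mapMatrix_apply, ← Matrix.det_transpose]
    congr 1
    ext i k
    simp [hfe]
  have h0 : r • E z = 0 := by rw [← map_smul, hz, map_zero]
  rw [hd] at h0
  have hmem : algebraMap B R (Matrix.of fun i k => φ i (e k)).det ∈ J.colon {r} := by
    rw [Submodule.mem_colon_singleton, smul_eq_mul, mul_comm, ← Ideal.Quotient.eq_zero_iff_mem, map_mul]
    exact h0
  exact hdet (hle hmem)

/-- Let A → B be a smooth ring map with Ω_{B/A} of rank n at every prime of B, g ∈ B a nonzerodivisor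
and R = B/gB, so that Spec R is a hypersurface of virtual relative dimension n - 1 over Spec A. Let
M be an R-module of flat dimension at most m over A (Tor^A_i(M, P) = 0 for i > m and every A-module
P) and N an R-module. Then for q ≥ m + n the module Tor^R_q(M, N) (Mathlib's Tor on R-modules,
left-derived in the second variable) is annihilated by the annihilator ideal of the n-th exterior
power of Ω_{R/A}, i.e. it is a module over the closed subscheme Z defined by that ideal. (The
published statement is for a scheme that is locally such a hypersurface, an arbitrary module over it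
of tor-dimension at most m over the base, and a bounded complex on a scheme over it; this row is the
affine case with a single module on the hypersurface itself.) -/
theorem result (A B R : Type u) [CommRing A] [CommRing B] [CommRing R]
    [Algebra A B] [Algebra B R] [Algebra A R] [IsScalarTower A B R] [Algebra.Smooth A B] (n : ℕ)
    (hn : ∀ p : PrimeSpectrum B, Module.rankAtStalk (Ω[B⁄A]) p = n)
    (g : B) (hg : IsSMulRegular B g) (hsurj : Function.Surjective (algebraMap B R))
    (hker : RingHom.ker (algebraMap B R) = Ideal.span {g})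
    (m : ℕ) (M N : ModuleCat.{u} R)
    (hM : ∀ (P : ModuleCat.{u} A) (i : ℕ), m < i →
      IsZero (((Tor (ModuleCat.{u} A) i).obj ((ModuleCat.restrictScalars (algebraMap A R)).obj M)).obj P))
    (q : ℕ) (hq : m + n ≤ q) :
    (⋀[R]^n (Ω[R⁄A])).annihilator ≤ Module.annihilator R (((Tor (ModuleCat.{u} R) q).obj M).obj N) := by
  letI : Module B M := Module.compHom M (algebraMap B R)
  haveI : IsScalarTower B R M := IsScalarTower.of_algebraMap_smul fun _ _ => rfl
  letI : Module B N := Module.compHom N (algebraMap B R)
  haveI : IsScalarTower B R N := IsScalarTower.of_algebraMap_smul fun _ _ => rfl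
  letI : Module A M := Module.compHom M (algebraMap A R)
  haveI : IsScalarTower A B M := IsScalarTower.of_algebraMap_smul fun a x => by
    change algebraMap B R (algebraMap A B a) • x = algebraMap A R a • x
    rw [← IsScalarTower.algebraMap_apply]
  have hFD : Groth.Agent.H20.HyperTor.FD B (m + n) M := Groth.Agent.H20.HyperTor.fd_smooth A B n hn M m
    (Groth.Agent.H20.HyperTor.fd_of_torLE m M fun P i hi => hM P (i + 1) (by omega))
  obtain ⟨L, hL⟩ := Groth.Agent.H20.HyperTor.exists_tor_equiv hsurj hker M N
  obtain ⟨e⟩ := hL q
  refine (annihilator_exterior_le n hn g hsurj hker).trans (Ideal.map_le_iff_le_comap.2 ?_)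
  rintro _ ⟨φ, rfl⟩
  rw [Ideal.mem_comap, Module.mem_annihilator]
  intro x
  apply e.injective
  rw [map_smul, map_zero]
  exact L.smul_H hker hg M hFD (φ.compDer (KaehlerDifferential.D A B)) q (by omega) (e x)

end Groth.Agent.S14475
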