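import Groth.Statements.S14477
import Groth.Agent.H20.FinitePrimesBasis
import Mathlib.LinearAlgebra.ExteriorPower.Basic
import Mathlib.LinearAlgebra.Determinant
import Mathlib.RingTheory.Kaehler.Basic
import Mathlib.RingTheory.Smooth.Basic
import Mathlib.RingTheory.Support
import Mathlib.RingTheory.Ideal.Colon

set_option autoImplicit false
universe u
open KaehlerDifferential
open LocInt

namespace Groth.Agent.S14477

theorem exists_local {B M : Type u} [CommRing B] [AddCommGroup M] [Module B M] [Module.Finite B M]
    [Module.Projective B M] (n : ℕ) (p : PrimeSpectrum B)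
    (hp : Module.rankAtStalk (R := B) M p = n) :
    ∃ (s : Fin n → M) (c : B) (ψ : M →ₗ[B] (Fin n → B)), c ∉ p.asIdeal ∧
      (∀ j, ψ (s j) = c • Pi.single j 1) ∧ ∀ x : M, c • x ∈ Submodule.span B (Set.range s) := by
  classical
  haveI : Nontrivial B := p.nontrivial
  obtain ⟨s, hs⟩ := Groth.Agent.H20.FinitePrimesBasis.exists_generators_atPrime n p hp
  let S := p.asIdeal.primeCompl
  let φ := Fintype.linearCombination B s
  haveI : Module.Free (Localization.AtPrime p.asIdeal) (LocalizedModule S M) :=
    Module.free_of_flat_of_isLocalRing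
  have hb : Function.Bijective (LocalizedModule.map S φ) := by
    haveI : Module.Free (Localization.AtPrime p.asIdeal) (LocalizedModule S (Fin n → B)) :=
      Module.free_of_flat_of_isLocalRing
    refine OrzechProperty.bijective_of_surjective_of_finrank_le _ hs ?_
    change Module.rankAtStalk (R := B) (Fin n → B) p ≤ Module.rankAtStalk (R := B) M p
    rw [hp, Module.rankAtStalk_eq_finrank_of_free]
    simp
  let e := LinearEquiv.ofBijective _ hb
  haveI : Module.FinitePresentation B M := Module.finitePresentation_of_projective B M
  obtain ⟨ψ₀, s₀, H⟩ := Module.FinitePresentation.exists_lift_of_isLocalizedModule S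
    (LocalizedModule.mkLinearMap S (Fin n → B))
    ((e.symm.toLinearMap.restrictScalars B).comp (LocalizedModule.mkLinearMap S M))
  have hu : ∀ j, ∃ u : S, u • (ψ₀ (s j) - (s₀ : B) • Pi.single j 1) = 0 := by
    intro j
    refine (IsLocalizedModule.eq_zero_iff S (LocalizedModule.mkLinearMap S (Fin n → B))).mp ?_
    rw [map_sub, sub_eq_zero, LinearMap.map_smul]
    have h1 := LinearMap.congr_fun H (s j)
    refine h1.trans ?_
    change (s₀ : B) • e.symm (LocalizedModule.mkLinearMap S M (s j)) = _
    congr 1
    rw [LinearEquiv.symm_apply_eq]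
    change _ = LocalizedModule.map S φ (LocalizedModule.mk (Pi.single j 1) 1)
    rw [LocalizedModule.map_mk, Fintype.linearCombination_apply_single, one_smul]
    rfl
  choose u hu using hu
  have hN : p ∉ Module.support B (M ⧸ LinearMap.range φ) := by
    rw [← Groth.Agent.H20.LocalSurj.surjective_localized_atPrime_iff]
    exact hs
  rw [Module.support_eq_zeroLocus, PrimeSpectrum.mem_zeroLocus, Set.not_subset] at hN
  obtain ⟨c₁, hc₁, hc₁p⟩ := hN
  let U : B := ∏ j, (u j : B)
  have hU : U ∈ S := prod_mem fun j _ => (u j).2
  refine ⟨s, c₁ * (U * s₀), (c₁ * U) • ψ₀, mul_mem (s := S) hc₁p (mul_mem hU s₀.2), fun j => ?_, fun x => ?_⟩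
  · have h := hu j
    rw [Submonoid.smul_def, smul_sub, sub_eq_zero] at h
    have hUj : U = (∏ k ∈ Finset.univ.erase j, (u k : B)) * u j :=
      (Finset.prod_erase_mul _ _ (Finset.mem_univ j)).symm
    rw [LinearMap.smul_apply, hUj, ← mul_assoc, mul_smul, h, ← mul_smul, ← mul_smul]
    congr 1
    ring
  · have h : c₁ • (Submodule.Quotient.mk x : M ⧸ LinearMap.range φ) = 0 :=
      Module.mem_annihilator.mp hc₁ _
    rw [← Submodule.Quotient.mk_smul, Submodule.Quotient.mk_eq_zero, Fintype.range_linearCombination] at h
    rw [mul_comm, mul_smul]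
    exact Submodule.smul_mem _ _ h

theorem eq_top_of_forall {R : Type u} [CommRing R] (A : Ideal R)
    (h : ∀ P : Ideal R, P.IsMaximal → ∃ t ∈ A, t ∉ P) : A = ⊤ := by
  by_contra hne
  obtain ⟨P, hP, hle⟩ := Ideal.exists_le_maximal A hne
  obtain ⟨t, ht, htP⟩ := h P hP
  exact htP (hle ht)

open KaehlerDifferential in
theorem descend (A B R : Type u) [CommRing A] [CommRing B] [CommRing R]
    [Algebra A B] [Algebra B R] [Algebra A R] [IsScalarTower A B R]
    (g : B) (hsurj : Function.Surjective (algebraMap B R))
    (hker : RingHom.ker (algebraMap B R) = Ideal.span {g})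
    (I : Ideal R) (χ : Ω[B⁄A] →ₗ[B] B) (hχ : algebraMap B R (χ (D A B g)) ∈ I) :
    ∃ χ' : Ω[R⁄A] →ₗ[R] R ⧸ I, ∀ x, χ' (KaehlerDifferential.map A A B R x) =
      Ideal.Quotient.mk I (algebraMap B R (χ x)) := by
  let q : Ω[B⁄A] →ₗ[B] R ⧸ I :=
    ((Ideal.Quotient.mkₐ R I).toLinearMap.restrictScalars B).comp ((Algebra.linearMap B R).comp χ)
  have hq : ∀ x, q x = Ideal.Quotient.mk I (algebraMap B R (χ x)) := fun _ => rfl
  let q' := LinearMap.liftBaseChange R q
  let μ := mapBaseChange A B R
  have hμ : Function.Surjective μ := mapBaseChange_surjective A B R hsurj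
  have hle : LinearMap.ker μ ≤ LinearMap.ker q' := by
    intro z hz
    obtain ⟨w, rfl⟩ := (exact_kerCotangentToTensor_mapBaseChange A B R hsurj z).mp hz
    obtain ⟨⟨b, hb⟩, rfl⟩ := Ideal.toCotangent_surjective _ w
    rw [LinearMap.mem_ker, kerCotangentToTensor_toCotangent, LinearMap.liftBaseChange_tmul, one_smul]
    change q (D A B b) = 0
    rw [hker, Ideal.mem_span_singleton'] at hb
    obtain ⟨a, rfl⟩ := hb
    have hg0 : algebraMap B R g = 0 := RingHom.mem_ker.mp (hker ▸ Ideal.mem_span_singleton_self g)
    rw [hq, Derivation.leibniz, map_add, map_smul, map_smul, smul_eq_mul, smul_eq_mul, map_add,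
      map_mul, map_mul, hg0, zero_mul, add_zero, Ideal.Quotient.eq_zero_iff_mem]
    exact I.mul_mem_left _ hχ
  refine ⟨(Submodule.liftQ _ q' hle).comp (μ.quotKerEquivOfSurjective hμ).symm.toLinearMap, fun x => ?_⟩
  have hx : KaehlerDifferential.map A A B R x = μ (1 ⊗ₜ[B] x) := by
    rw [mapBaseChange_tmul, one_smul]
  rw [hx, LinearMap.comp_apply, LinearEquiv.coe_coe, ← μ.quotKerEquivOfSurjective_apply_mk hμ,
    LinearEquiv.symm_apply_apply, Submodule.liftQ_apply, LinearMap.liftBaseChange_tmul, one_smul, hq]

/-- Let A → B be a smooth ring map with Ω_{B/A} of rank n at every prime of B, g ∈ B a nonzerodivisor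
and R = B/gB, a hypersurface of virtual relative dimension n - 1 over A; let J ⊆ R be the
annihilator of the n-th exterior power of Ω_{R/A} and Z = Spec R/J. Then J is the ideal of R
generated by the classes of the elements φ(dg), φ ranging over the B-linear forms on Ω_{B/A}; where
Ω_{B/A} is free on dt_1, …, dt_n this says that Z is cut out by the partial derivatives ∂g/∂t_1, …,
∂g/∂t_n. In particular every φ(dg) vanishes in R/J; since Ω_{B/A} is finite projective this says
that dg ⊗ 1 = 0 in Ω_{B/A} ⊗_B R/J, i.e. the map from the conormal module gB/g²B ⊗ R/J to Ω_{B/A}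
⊗_B R/J induced by d vanishes, and with the cotangent complex of R over A represented by the
two-term complex (gB/g²B → Ω_{B/A} ⊗_B R) this is the statement that the canonical map from L_Z =
L_1 i^* L_{R/A} to the conormal module restricted to Z is an isomorphism. (The published statement
also asserts that, for a regular immersion of any codimension into a smooth scheme, this map from
L_Z is a locally split injection; that part is not stated here. The published statement is the
isomorphism alone, which amounts to the inclusion of the ideal generated by the φ(dg) in J; this row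
states the equality, whose other inclusion is the local description of Z by the partial derivatives
given with the definition of Z.) -/
theorem result (A B R : Type u) [CommRing A] [CommRing B] [CommRing R]
    [Algebra A B] [Algebra B R] [Algebra A R] [IsScalarTower A B R] [Algebra.Smooth A B] (n : ℕ)
    (hn : ∀ p : PrimeSpectrum B, Module.rankAtStalk (Ω[B⁄A]) p = n)
    (g : B) (hg : IsSMulRegular B g) (hsurj : Function.Surjective (algebraMap B R))
    (hker : RingHom.ker (algebraMap B R) = Ideal.span {g}) :
    (⋀[R]^n (Ω[R⁄A])).annihilator =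
      Ideal.span (Set.range fun φ : Ω[B⁄A] →ₗ[B] B => algebraMap B R (φ (KaehlerDifferential.D A B g))) := by
  classical
  let M := Ω[B⁄A]
  let F := Ω[R⁄A]
  let D := KaehlerDifferential.D A B
  let π : M →ₗ[B] F := KaehlerDifferential.map A A B R
  have hπ : Function.Surjective π := KaehlerDifferential.map_surjective_of_surjective A A B R hsurj
  set I : Ideal R := Ideal.span (Set.range fun φ : M →ₗ[B] B => algebraMap B R (φ (D g))) with hI
  have hg0 : algebraMap B R g = 0 := RingHom.mem_ker.mp (hker ▸ Ideal.mem_span_singleton_self g)
  have hloc : ∀ P : Ideal R, P.IsMaximal → ∃ (s : Fin n → M) (c : B) (ψ : M →ₗ[B] (Fin n → B)),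
      algebraMap B R c ∉ P ∧ (∀ j, ψ (s j) = c • Pi.single j 1) ∧
        ∀ x : M, c • x ∈ Submodule.span B (Set.range s) := by
    intro P hP
    let p : PrimeSpectrum B := ⟨P.comap (algebraMap B R), inferInstance⟩
    obtain ⟨s, c, ψ, h1, h2⟩ := exists_local (M := M) n p (hn p)
    exact ⟨s, c, ψ, h1, h2⟩
  refine le_antisymm (fun r hr => ?_) ?_
  · have : (I.colon (Ideal.span {r} : Ideal R)) = ⊤ := by
      refine eq_top_of_forall _ fun P hP => ?_
      obtain ⟨s, c, ψ, hc, hψ, -⟩ := hloc P hP
      choose χ hχ using fun i : Fin n => descend A B R g hsurj hker I ((LinearMap.proj i).comp ψ)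
        (Ideal.subset_span ⟨(LinearMap.proj i).comp ψ, rfl⟩)
      let q : F →ₗ[R] (Fin n → R ⧸ I) := LinearMap.pi χ
      let Dt : F [⋀^Fin n]→ₗ[R] (R ⧸ I) :=
        { toMultilinearMap := ((Matrix.detRowAlternating (n := Fin n) (R := R ⧸ I)).toMultilinearMap.restrictScalars
            R).compLinearMap fun _ => q
          map_eq_zero_of_eq' := fun v k l h hkl => Matrix.detRowAlternating.map_eq_zero_of_eq _ (by
            simp only [h]) hkl }
      have hD : Dt (fun j => π (s j)) = Ideal.Quotient.mk I (algebraMap B R c) ^ n := by
        change Matrix.det (Matrix.of fun k => q (π (s k))) = _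
        have : (Matrix.of fun k => q (π (s k))) =
            Matrix.diagonal (fun _ : Fin n => Ideal.Quotient.mk I (algebraMap B R c)) := by
          ext k j
          change χ j (π (s k)) = _
          rw [hχ]
          change Ideal.Quotient.mk I (algebraMap B R (ψ (s k) j)) = _
          rw [hψ]
          by_cases h : k = j
          · subst h; simp
          · simp [Matrix.diagonal_apply_ne _ h, Pi.single_eq_of_ne (Ne.symm h)]
        rw [this, Matrix.det_diagonal, Finset.prod_const, Finset.card_univ, Fintype.card_fin]
      have h0 := congrArg (exteriorPower.alternatingMapLinearEquiv Dt)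
        (Module.mem_annihilator.mp hr (exteriorPower.ιMulti R n fun j => π (s j)))
      rw [map_smul, map_zero, exteriorPower.alternatingMapLinearEquiv_apply_ιMulti, hD, ← map_pow,
        Algebra.smul_def, Ideal.Quotient.algebraMap_eq, ← map_mul, Ideal.Quotient.eq_zero_iff_mem] at h0
      refine ⟨algebraMap B R c ^ n, ?_, fun h => hc (hP.isPrime.mem_of_pow_mem _ h)⟩
      rw [Submodule.mem_colon]
      intro x hx
      obtain ⟨a, rfl⟩ := Ideal.mem_span_singleton'.mp hx
      rw [smul_eq_mul, show algebraMap B R c ^ n * (a * r) = a * (r * algebraMap B R c ^ n) by ring]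
      exact I.mul_mem_left _ h0
    have h1 : (1 : R) ∈ I.colon (Ideal.span {r} : Ideal R) := this ▸ Submodule.mem_top
    simpa using Submodule.mem_colon.mp h1 r (Ideal.mem_span_singleton_self r)
  · rw [hI, Ideal.span_le]
    rintro _ ⟨φ, rfl⟩
    rw [SetLike.mem_coe, Module.mem_annihilator]
    set r := algebraMap B R (φ (D g)) with hr
    suffices h : ∀ y : Fin n → F, r • exteriorPower.ιMulti R n y = 0 by
      intro z
      have hz : z ∈ Submodule.span R (Set.range (exteriorPower.ιMulti R n (M := F))) := by
        rw [exteriorPower.ιMulti_span]; exact Submodule.mem_top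
      refine Submodule.span_induction ?_ (by simp) (fun x y _ _ hx hy => by
        rw [smul_add, hx, hy, add_zero]) (fun a x _ hx => by rw [smul_comm, hx, smul_zero]) hz
      rintro _ ⟨y, rfl⟩
      exact h y
    intro y
    have : (LinearMap.ker (LinearMap.toSpanSingleton R _ (r • exteriorPower.ιMulti R n y)) : Ideal R) = ⊤ := by
      refine eq_top_of_forall _ fun P hP => ?_
      obtain ⟨s, c, ψ, hc, -, hspan⟩ := hloc P hP
      refine ⟨algebraMap B R c ^ (n + 1), ?_, fun h => hc (hP.isPrime.mem_of_pow_mem _ h)⟩
      rw [LinearMap.mem_ker, LinearMap.toSpanSingleton_apply]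
      let e : Fin n → F := fun j => π (s j)
      have hcy : ∀ j, ∃ x : Fin n → R, algebraMap B R c • y j = Fintype.linearCombination R e x := by
        intro j
        obtain ⟨m, hm⟩ := hπ (y j)
        obtain ⟨b, hb⟩ := (Submodule.mem_span_range_iff_exists_fun B).mp (hspan m)
        refine ⟨fun i => algebraMap B R (b i), ?_⟩
        rw [← hm, algebraMap_smul, ← map_smul, ← hb, map_sum, Fintype.linearCombination_apply]
        simp only [map_smul, algebraMap_smul, e]
      choose x hx using hcy
      -- the key relation
      obtain ⟨v, hv⟩ := (Submodule.mem_span_range_iff_exists_fun B).mp (hspan (D g))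
      have hrel : ∑ j, algebraMap B R (v j) • e j = 0 := by
        simp only [e, algebraMap_smul, ← map_smul, ← map_sum, hv]
        show KaehlerDifferential.map A A B R (c • KaehlerDifferential.D A B g) = 0
        rw [map_smul, KaehlerDifferential.map_D, hg0, map_zero, smul_zero]
      let w := exteriorPower.ιMulti R n e
      have hvi : ∀ i, algebraMap B R (v i) • w = 0 := by
        intro i
        have h1 : algebraMap B R (v i) • w =
            exteriorPower.ιMulti R n (Function.update e i (algebraMap B R (v i) • e i)) := by
          rw [AlternatingMap.map_update_smul, Function.update_eq_self]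
        have h2 : algebraMap B R (v i) • e i = -∑ j ∈ Finset.univ.erase i, algebraMap B R (v j) • e j := by
          have := hrel
          rw [← Finset.add_sum_erase _ _ (Finset.mem_univ i)] at this
          exact eq_neg_of_add_eq_zero_left this
        rw [h1, h2, ← Finset.sum_neg_distrib, AlternatingMap.map_update_sum]
        refine Finset.sum_eq_zero fun j hj => ?_
        rw [← neg_smul, AlternatingMap.map_update_smul,
          AlternatingMap.map_update_self _ _ (Finset.ne_of_mem_erase hj).symm, smul_zero]
      have hw : (algebraMap B R c * r) • w = 0 := by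
        have h1 : c * φ (D g) = ∑ i, v i * φ (s i) := by
          rw [← smul_eq_mul, ← map_smul, ← hv, map_sum]
          simp only [map_smul, smul_eq_mul]
        rw [hr, ← map_mul, h1, map_sum, Finset.sum_smul]
        refine Finset.sum_eq_zero fun i _ => ?_
        rw [map_mul, mul_comm, mul_smul, hvi, smul_zero]
      have hzero : (algebraMap B R c * r) •
          (exteriorPower.ιMulti R n (M := F)).compLinearMap (Fintype.linearCombination R e) = 0 := by
        refine Module.Basis.ext_alternating (Pi.basisFun R (Fin n)) fun u hu => ?_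
        let σ : Equiv.Perm (Fin n) := Equiv.ofBijective u (Finite.injective_iff_bijective.mp hu)
        rw [AlternatingMap.smul_apply, AlternatingMap.compLinearMap_apply, AlternatingMap.zero_apply]
        have : (fun j => Fintype.linearCombination R e (Pi.basisFun R (Fin n) (u j))) = e ∘ σ := by
          funext j
          rw [Pi.basisFun_apply, Fintype.linearCombination_apply_single, one_smul]
          rfl
        rw [this, AlternatingMap.map_perm, smul_comm]
        rw [show (algebraMap B R c * r) • exteriorPower.ιMulti R n e = 0 from hw, smul_zero]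
      have h2 : (algebraMap B R c ^ n) • exteriorPower.ιMulti R n y =
          exteriorPower.ιMulti R n (fun j => Fintype.linearCombination R e (x j)) := by
        simp only [← hx]
        rw [← AlternatingMap.coe_multilinearMap, MultilinearMap.map_smul_univ, Finset.prod_const,
          Finset.card_univ, Fintype.card_fin]
      rw [pow_succ', mul_smul, smul_comm (algebraMap B R c ^ n) r, h2, ← mul_smul]
      exact DFunLike.congr_fun hzero x
    have h1 : (1 : R) ∈ (LinearMap.ker (LinearMap.toSpanSingleton R _ (r • exteriorPower.ιMulti R n y)) : Ideal R) :=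
      this ▸ Submodule.mem_top
    rwa [LinearMap.mem_ker, LinearMap.toSpanSingleton_apply, one_smul] at h1

end Groth.Agent.S14477
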