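import Groth.Statements.S14478
import Mathlib.LinearAlgebra.Dual.Lemmas
import Mathlib.LinearAlgebra.Projection
import Mathlib.LinearAlgebra.FiniteDimensional.Lemmas

set_option autoImplicit false
universe u
open CharCyc

namespace Groth.Agent.S14478

/-- Let V be a finite-dimensional vector space over a field k, let W = V × V^∨ with V^∨ the dual space,
and let T ⊆ W be a subspace with dim T = dim V; put V₁ = V ∩ T, where V sits in W as V × 0. Then
there is a complement V₂ of V₁ in V with the following property: for every injective linear map A₁ :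
V₁ → V₁^∨, the map A : V → V^∨ extending A₁ by zero along the decompositions V = V₁ ⊕ V₂ and V^∨ =
V₁^∨ ⊕ V₂^∨ (so A v = A₁(p v) ∘ p, with p : V → V₁ the projection along V₂) has graph Γ ⊆ W with Γ ∩
T = 0. -/
theorem result (k V : Type u) [Field k] [AddCommGroup V] [Module k V]
    [FiniteDimensional k V] (T : Submodule k (V × Module.Dual k V))
    (hT : Module.finrank k T = Module.finrank k V) :
    ∃ (V₂ : Submodule k V) (h : IsCompl (T.comap (LinearMap.inl k V (Module.Dual k V))) V₂),
      ∀ A₁ : T.comap (LinearMap.inl k V (Module.Dual k V)) →ₗ[k]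
          Module.Dual k (T.comap (LinearMap.inl k V (Module.Dual k V))),
        Function.Injective A₁ →
          LinearMap.graph ((Submodule.projectionOnto _ V₂ h).dualMap ∘ₗ A₁ ∘ₗ
              Submodule.projectionOnto _ V₂ h) ⊓ T = ⊥ := by
  set V₁ := T.comap (LinearMap.inl k V (Module.Dual k V)) with hV₁
  set T₂ := T.map (LinearMap.snd k V (Module.Dual k V)) with hT₂
  set W := T₂.dualCoannihilator with hW
  have key : ∀ d (A B : Submodule k V), Module.finrank k A = Module.finrank k B →
      Module.finrank k V = Module.finrank k A + d → ∃ C, IsCompl A C ∧ IsCompl B C := by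
    intro d
    induction d with
    | zero =>
      intro A B hAB hA
      have h1 : A = ⊤ := Submodule.eq_top_of_finrank_eq (by omega)
      have h2 : B = ⊤ := Submodule.eq_top_of_finrank_eq (by omega)
      exact ⟨⊥, h1 ▸ isCompl_top_bot, h2 ▸ isCompl_top_bot⟩
    | succ d ih =>
      intro A B hAB hA
      obtain ⟨v, hvA, hvB⟩ : ∃ v, v ∉ A ∧ v ∉ B := by
        obtain ⟨a, ha⟩ : ∃ a, a ∉ A := by
          by_contra hc; push Not at hc
          rw [(Submodule.eq_top_iff'.2 hc), finrank_top] at hA; omega
        obtain ⟨b, hb⟩ : ∃ b, b ∉ B := by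
          by_contra hc; push Not at hc
          rw [(Submodule.eq_top_iff'.2 hc), finrank_top] at hAB; omega
        by_cases ha' : a ∈ B
        · by_cases hb' : b ∈ A
          · exact ⟨a + b, fun h => ha (by simpa using A.sub_mem h hb'), fun h => hb (by simpa using B.sub_mem h ha')⟩
          · exact ⟨b, hb', hb⟩
        · exact ⟨a, ha, ha'⟩
      have hv : v ≠ 0 := fun h => hvA (h ▸ A.zero_mem)
      have f1 : ∀ S : Submodule k V, v ∉ S → Module.finrank k ↥(S ⊔ k ∙ v) = Module.finrank k S + 1 := fun S hS => by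
        have := Submodule.finrank_sup_add_finrank_inf_eq S (k ∙ v)
        rw [(Submodule.disjoint_span_singleton' hv).2 hS |>.eq_bot, finrank_bot, finrank_span_singleton hv] at this
        omega
      obtain ⟨C, hCA, hCB⟩ := ih (A ⊔ k ∙ v) (B ⊔ k ∙ v) (by rw [f1 A hvA, f1 B hvB, hAB]) (by rw [f1 A hvA]; omega)
      have g : ∀ S : Submodule k V, v ∉ S → IsCompl (S ⊔ k ∙ v) C → IsCompl S (k ∙ v ⊔ C) := fun S hS h =>
        ⟨Disjoint.disjoint_sup_right_of_disjoint_sup_left ((Submodule.disjoint_span_singleton' hv).2 hS) h.disjoint,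
          by rw [codisjoint_iff, ← sup_assoc]; exact h.sup_eq_top⟩
      exact ⟨k ∙ v ⊔ C, g A hvA hCA, g B hvB hCB⟩
  have hdim : Module.finrank k V₁ + Module.finrank k T₂ = Module.finrank k T := by
    let φ := (LinearMap.snd k V (Module.Dual k V)).comp T.subtype
    have h1 := LinearMap.finrank_range_add_finrank_ker (K := k) (V := ↥T) (V₂ := Module.Dual k V) φ
    have h2 : LinearMap.range φ = T₂ := by rw [LinearMap.range_comp, Submodule.range_subtype]
    let e : V₁ ≃ₗ[k] LinearMap.ker φ :=
      { toFun := fun v => ⟨⟨(v.1, 0), v.2⟩, rfl⟩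
        map_add' := fun a b => by ext <;> simp
        map_smul' := fun c a => by ext <;> simp
        invFun := fun t => ⟨t.1.1.1, by
          have h := t.1.2
          have e : t.1.1 = (t.1.1.1, 0) := Prod.ext rfl t.2
          rw [e] at h; exact h⟩
        left_inv := fun v => rfl
        right_inv := fun t => by
          refine Subtype.ext (Subtype.ext (Prod.ext rfl t.2.symm)) }
    rw [h2, ← e.finrank_eq] at h1
    omega
  have hWdim : Module.finrank k W = Module.finrank k V₁ := by
    have := Subspace.finrank_add_finrank_dualCoannihilator_eq T₂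
    rw [← hW] at this
    omega
  obtain ⟨V₂, h1, h2⟩ := key (Module.finrank k V - Module.finrank k V₁) V₁ W hWdim.symm
    (by have := Submodule.finrank_le V₁; omega)
  refine ⟨V₂, h1, fun A₁ hA => ?_⟩
  rw [Submodule.eq_bot_iff]
  rintro ⟨v, φ⟩ ⟨hg, hv⟩
  rw [SetLike.mem_coe, LinearMap.mem_graph_iff] at hg
  simp only at hg
  have hφ2 : ∀ b ∈ V₂, φ b = 0 := fun b hb => by
    rw [hg, LinearMap.comp_apply, LinearMap.dualMap_apply, (Submodule.projectionOnto_apply_eq_zero_iff h1).2 hb, map_zero] 
  have hφW : ∀ b ∈ W, φ b = 0 := fun b hb => by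
    rw [hW, Submodule.mem_dualCoannihilator] at hb
    exact hb φ ⟨(v, φ), hv, rfl⟩
  have hφ : φ = 0 := by
    ext x
    obtain ⟨a, ha, b, hb, rfl⟩ := Submodule.mem_sup.1 (h2.sup_eq_top.ge (Submodule.mem_top : x ∈ ⊤))
    simp [hφW a ha, hφ2 b hb]
  have hv1 : v ∈ V₁ := by rw [hφ] at hv; exact hv
  have : Submodule.projectionOnto V₁ V₂ h1 v = 0 := by
    apply hA
    rw [map_zero]
    ext a
    have e := LinearMap.congr_fun (hg.symm.trans hφ) (a : V)
    simpa [LinearMap.dualMap_apply, Submodule.projectionOnto_apply_left] using e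
  have hv2 : v ∈ V₂ := (Submodule.projectionOnto_apply_eq_zero_iff h1).1 this
  have : v = 0 := by simpa using h1.disjoint.le_bot ⟨hv1, hv2⟩
  simp [this, hφ]

end Groth.Agent.S14478
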