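import Groth.Statements.S14479
import Mathlib.LinearAlgebra.Matrix.BilinearForm
import Mathlib.LinearAlgebra.Matrix.Block
import Mathlib.Algebra.CharP.Two

set_option autoImplicit false
universe u
open CharCyc

namespace Groth.Agent.S14479

/-- Let V be a finite-dimensional vector space over a field k. If dim V is even or the characteristic of
k is different from 2, there is a bilinear form B on V such that the bilinear form (v, w) ↦ B(v, w)
+ B(w, v) (B plus its transpose, as a map V → V^∨) is nondegenerate. -/
theorem result (k V : Type u) [Field k] [AddCommGroup V] [Module k V]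
    [FiniteDimensional k V] (h : Even (Module.finrank k V) ∨ ringChar k ≠ 2) :
    ∃ B : LinearMap.BilinForm k V, (B + B.flip).Nondegenerate := by
  suffices H : ∀ (ι : Type) [Fintype ι] [DecidableEq ι] (_ : Module.Basis ι k V) (M : Matrix ι ι k),
      (M + M.transpose).det ≠ 0 → ∃ B : LinearMap.BilinForm k V, (B + B.flip).Nondegenerate by
    obtain he | hc := h
    · obtain ⟨m, hm⟩ := he
      refine H (Fin m ⊕ Fin m) ((Module.finBasisOfFinrankEq k V hm).reindex finSumFinEquiv.symm)
        (Matrix.fromBlocks 0 1 0 0) ?_
      refine (Matrix.isUnit_iff_isUnit_det _).1 (IsUnit.of_mul_eq_one _ (?_ : _ * (Matrix.fromBlocks 0 1 1 0) = 1)) |>.ne_zero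
      simp [Matrix.fromBlocks_transpose, Matrix.fromBlocks_add, Matrix.fromBlocks_multiply, Matrix.fromBlocks_one]
    · refine H (Fin (Module.finrank k V)) (Module.finBasis k V) 1 ?_
      rw [Matrix.transpose_one, ← two_smul k (1 : Matrix (Fin _) (Fin _) k), Matrix.det_smul, Matrix.det_one, mul_one]
      exact pow_ne_zero _ (Ring.two_ne_zero hc)
  intro ι _ _ b M hM
  refine ⟨Matrix.toBilin b M, ?_⟩
  refine LinearMap.BilinForm.nondegenerate_of_det_ne_zero _ b ?_
  convert hM
  ext i j
  simp [LinearMap.BilinForm.toMatrix_apply, LinearMap.flip_apply, Matrix.toBilin_apply, Finsupp.single_apply]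

end Groth.Agent.S14479
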