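import Groth.Statements.S14480
import Groth.Agent.H75.VarDimX.Basic

set_option autoImplicit false
universe u
open CategoryTheory AlgebraicGeometry
open CharCyc

namespace Groth.Agent.S14480

open TopologicalSpace Groth.Agent.H75 Groth.Agent.Lib.Cyc Groth.Agent.Lib.VarDim.Basic Groth.Agent.Lib.VarDim.Fibre

/-- Let k be a field, let π : C → X be a morphism between k-schemes of finite type, and let n be a
natural number. For j ≥ 0 let B_j ⊆ X be the set of points x whose fibre π⁻¹(x) has dimension at
least j (so B_0 is the image of π). Then dim C ≤ n if and only if, for every j, the closure of B_j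
in X has dimension at most n − j. Dimensions are topological Krull dimensions with the empty space
of dimension ⊥, and the inequality is written additively as dim cl(B_j) + j ≤ n. -/
theorem result (k : Type u) [Field k] (C X : Scheme.{u})
    (q : X ⟶ Spec (CommRingCat.of k)) (π : C ⟶ X)
    [LocallyOfFiniteType q] [CompactSpace X] [LocallyOfFiniteType π] [CompactSpace C] (n : ℕ) :
    topologicalKrullDim C ≤ n ↔
      ∀ j : ℕ, topologicalKrullDim (closure {x : X | (j : WithBot ℕ∞) ≤ topologicalKrullDim (π.fiber x)}) +
        (j : WithBot ℕ∞) ≤ n := by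
  haveI : IsLocallyNoetherian X := LocallyOfFiniteType.isLocallyNoetherian q
  haveI : QuasiCompact π := quasiCompact_of_compactSpace π
  let qC := π ≫ q

  constructor
  · intro h j
    show topologicalKrullDim ↥(closure (VarDimX.stratum π j)) + _ ≤ _
    refine (VarDimX.add_nat_le_iff q isClosed_closure.isLocallyClosed j n).2 fun x hx => ?_
    obtain ⟨w, hw, hj⟩ := VarDimX.exists_of_mem_closure_stratum π hx
    have h1 := (topologicalKrullDim_scheme_le_iff qC _).1 h w
    have h2 : pdim qC w ≤ n := by exact_mod_cast h1
    have h3 := pdim_eq_add qC q π rfl w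
    have h4 := pdim_le q hw
    omega
  · intro h
    refine (topologicalKrullDim_scheme_le_iff qC _).2 fun c => ?_
    have h1 := (VarDimX.add_nat_le_iff q isClosed_closure.isLocallyClosed _ n).1 (h (tdAt π c)) (π.base c)
      (subset_closure ((VarDimX.mem_stratum_iff π).2 ⟨c, rfl, le_rfl⟩))
    rw [pdim_eq_add qC q π rfl c]
    exact_mod_cast h1

end Groth.Agent.S14480
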