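import Groth.Statements.S14481
import Groth.Agent.H75.VarDimX.Basic

set_option autoImplicit false
universe u
open CategoryTheory AlgebraicGeometry
open CharCyc

namespace Groth.Agent.S14481

open TopologicalSpace Groth.Agent.H75 Groth.Agent.Lib.Cyc Groth.Agent.Lib.VarDim.Basic Groth.Agent.Lib.VarDim.Fibre

/-- First equivalence: let k be a field, let π : C → X be a morphism between k-schemes of finite type
such that every irreducible component of C has dimension n, and let ι : W → X be a regular immersion
of codimension c. The following are equivalent: (a) ι meets C properly, that is, whenever P is an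
irreducible component of C and Q is an irreducible component of P ×_X W (the subspace P ∩ π⁻¹(ι(W))
of C), one has dim Q = dim P − c; (b) dim C ×_X W ≤ n − c (the subspace π⁻¹(ι(W)) of C). Dimensions
are written additively: dim Q + c = n and dim π⁻¹(ι(W)) + c ≤ n, the empty space having dimension ⊥.
(Stated for each of the four kinds of regular immersion of codimension c — regular, Koszul-regular,
H₁-regular, quasi-regular; the published statement does not distinguish kinds.) -/
theorem result (k : Type u) [Field k] (C X W : Scheme.{u})
    (q : X ⟶ Spec (CommRingCat.of k)) (π : C ⟶ X) (ι : W ⟶ X)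
    [LocallyOfFiniteType q] [CompactSpace X] [LocallyOfFiniteType π] [CompactSpace C]
    (κ : RegImm.Kind) (n c : ℕ) (hι : RegImm.IsRegularImmersionOfCodim κ c ι)
    (hC : ∀ P ∈ irreducibleComponents (C : Type u), topologicalKrullDim P = n) :
    (∀ P ∈ irreducibleComponents (C : Type u), ∀ Q ∈ irreducibleComponents (P ∩ π ⁻¹' Set.range ι : Set C),
        topologicalKrullDim Q + (c : WithBot ℕ∞) = n) ↔
      topologicalKrullDim (π ⁻¹' Set.range ι : Set C) + (c : WithBot ℕ∞) ≤ n := by
  haveI : IsLocallyNoetherian X := LocallyOfFiniteType.isLocallyNoetherian q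
  haveI : QuasiCompact π := quasiCompact_of_compactSpace π
  let qC := π ≫ q

  haveI : IsImmersion ι := hι.1
  have hS : IsLocallyClosed (π.base ⁻¹' Set.range ι.base) := ι.isLocallyClosed_range.preimage π.continuous
  constructor
  · intro h
    refine (VarDimX.add_nat_le_iff qC hS c n).2 fun x hx => ?_
    have hP := irreducibleComponent_mem_irreducibleComponents x
    have hT : IsLocallyClosed (irreducibleComponent x ∩ π.base ⁻¹' Set.range ι.base) :=
      isClosed_irreducibleComponent.isLocallyClosed.inter hS
    let x' : (irreducibleComponent x ∩ π.base ⁻¹' Set.range ι.base : Set C) := ⟨x, mem_irreducibleComponent, hx⟩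
    have hQ := irreducibleComponent_mem_irreducibleComponents x'
    obtain ⟨ζ, -, -, hsp, hdim⟩ := VarDimX.exists_component qC hT hQ
    have h1 := h _ hP _ hQ
    rw [hdim] at h1
    have h2 : pdim qC ζ + c = n := by exact_mod_cast h1
    have h3 : pdim qC x ≤ pdim qC ζ := pdim_le qC (hsp x' mem_irreducibleComponent)
    omega
  · intro h P hP Q hQ
    have hPc := isClosed_of_mem_irreducibleComponents P hP
    obtain ⟨ξ, hξ⟩ := QuasiSober.sober hP.1 hPc
    have hξn : pdim qC ξ = n := by
      have := hC P hP
      rw [topologicalKrullDim_isGenericPoint qC hξ] at this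
      exact_mod_cast this
    have hT : IsLocallyClosed (P ∩ π.base ⁻¹' Set.range ι.base) := hPc.isLocallyClosed.inter hS
    obtain ⟨ζ, hζ, hmax, -, hdim⟩ := VarDimX.exists_component qC hT hQ
    rw [hdim]
    have h1 := (VarDimX.add_nat_le_iff qC hS c n).1 h ζ hζ.2
    have h2 := VarDimX.pdim_le_add_of_maximal qC π ι hι (hξ.specializes hζ.1) hζ.2
      (fun z hξz hzζ hz => hmax z ⟨hξz.mem_closed hPc hξ.mem, hz⟩ hzζ)
    have h3 : pdim qC ζ + c = n := by omega
    exact_mod_cast h3

end Groth.Agent.S14481
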