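import Groth.Statements.S14482
import Groth.Agent.H75.VarDimX.Basic

set_option autoImplicit false
universe u
open CategoryTheory AlgebraicGeometry
open CharCyc

namespace Groth.Agent.S14482

open TopologicalSpace Groth.Agent.H75 Groth.Agent.Lib.Cyc Groth.Agent.Lib.VarDim.Basic Groth.Agent.Lib.VarDim.Fibre

/-- Second assertion: let k be a field, let π : C → X be a morphism between k-schemes of finite type
such that every irreducible component of C has dimension n, let ι : W → X be a regular immersion of
codimension c, and for j ≥ 0 let B_j ⊆ X be the set of points whose fibre under π has dimension at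
least j. Assume that every B_j is closed in X. Then dim B_j + j ≤ n for every j, and the condition
dim π⁻¹(ι(W)) + c ≤ n (that is, dim C ×_X W ≤ n − c) holds if and only if dim ι⁻¹(B_j) + c + j ≤ n
for every j (that is, ι meets the sequence (B_j) n-semi-properly). Dimensions are topological Krull
dimensions of subspaces, the empty space having dimension ⊥. (Stated for each of the four kinds of
regular immersion of codimension c — regular, Koszul-regular, H₁-regular, quasi-regular; the
published statement does not distinguish kinds.) -/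
theorem result (k : Type u) [Field k] (C X W : Scheme.{u})
    (q : X ⟶ Spec (CommRingCat.of k)) (π : C ⟶ X) (ι : W ⟶ X)
    [LocallyOfFiniteType q] [CompactSpace X] [LocallyOfFiniteType π] [CompactSpace C]
    (κ : RegImm.Kind) (n c : ℕ) (hι : RegImm.IsRegularImmersionOfCodim κ c ι)
    (hC : ∀ P ∈ irreducibleComponents (C : Type u), topologicalKrullDim P = n)
    (hB : ∀ j : ℕ, IsClosed {x : X | (j : WithBot ℕ∞) ≤ topologicalKrullDim (π.fiber x)}) :
    (∀ j : ℕ, topologicalKrullDim {x : X | (j : WithBot ℕ∞) ≤ topologicalKrullDim (π.fiber x)} + (j : WithBot ℕ∞) ≤ n) ∧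
      (topologicalKrullDim (π ⁻¹' Set.range ι : Set C) + (c : WithBot ℕ∞) ≤ n ↔
        ∀ j : ℕ, topologicalKrullDim (ι ⁻¹' {x : X | (j : WithBot ℕ∞) ≤ topologicalKrullDim (π.fiber x)} : Set W) + (c : WithBot ℕ∞) + (j : WithBot ℕ∞) ≤ n) := by
  haveI : IsLocallyNoetherian X := LocallyOfFiniteType.isLocallyNoetherian q
  haveI : QuasiCompact π := quasiCompact_of_compactSpace π
  let qC := π ≫ q

  haveI : IsImmersion ι := hι.1
  have hS : IsLocallyClosed (π.base ⁻¹' Set.range ι.base) := ι.isLocallyClosed_range.preimage π.continuous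
  have hdimC : ∀ x : C, pdim qC x ≤ n := fun x => by
    have hP := irreducibleComponent_mem_irreducibleComponents x
    obtain ⟨ξ, hξ⟩ := QuasiSober.sober hP.1 isClosed_irreducibleComponent
    have := hC _ hP
    rw [topologicalKrullDim_isGenericPoint qC hξ] at this
    have h2 : pdim qC ξ = n := by exact_mod_cast this
    have := pdim_le qC (hξ.specializes (mem_irreducibleComponent (x := x)))
    omega
  refine ⟨fun j => ?_, ?_⟩
  · refine (VarDimX.add_nat_le_iff q (hB j).isLocallyClosed j n).2 fun x hx => ?_
    obtain ⟨w, rfl, hj⟩ := (VarDimX.mem_stratum_iff π).1 hx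
    have := pdim_eq_add qC q π rfl w
    have := hdimC w
    omega
  rw [VarDimX.add_nat_le_iff qC hS c n]
  constructor
  · intro h j
    rw [add_assoc, ← Nat.cast_add]
    refine (VarDimX.add_nat_le_iff (ι ≫ q) ((hB j).preimage ι.continuous).isLocallyClosed (c + j) n).2 fun w hw => ?_
    rw [VarDimX.pdim_comp_preimmersion]
    obtain ⟨x, hx, hj⟩ := (VarDimX.mem_stratum_iff π).1 hw
    have h1 := h x ⟨w, hx.symm⟩
    have := pdim_eq_add qC q π rfl x
    rw [hx] at this
    omega
  · intro h x hx
    obtain ⟨w, hw⟩ := hx
    have h1 := h (tdAt π x)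
    rw [add_assoc, ← Nat.cast_add] at h1
    have h2 := (VarDimX.add_nat_le_iff (ι ≫ q) ((hB (tdAt π x)).preimage ι.continuous).isLocallyClosed
      (c + tdAt π x) n).1 h1 w (show ι.base w ∈ VarDimX.stratum π (tdAt π x) from
        hw.symm ▸ (VarDimX.mem_stratum_iff π).2 ⟨x, rfl, le_rfl⟩)
    rw [VarDimX.pdim_comp_preimmersion, hw] at h2
    have := pdim_eq_add qC q π rfl x
    omega

end Groth.Agent.S14482
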