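import Groth.Statements.S14483
import Groth.Agent.H75.VarDimX.Basic

set_option autoImplicit false
universe u
open CategoryTheory CategoryTheory.Limits AlgebraicGeometry
open CharCyc

namespace Groth.Agent.S14483

open TopologicalSpace Groth.Agent.H75 Groth.Agent.Lib.Cyc Groth.Agent.Lib.VarDim.Basic Groth.Agent.Lib.VarDim.Fibre
open CategoryTheory.Limits

/-- Let k be a field and let f : X → S be a morphism between separated k-schemes of finite type. Two
closed subsets Y, Z of X are said to well intersect with respect to f when dim(Y ×_S Z ∖ Y ×_X Z) ≤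
dim Y + dim Z − dim S; here Y ×_S Z ∖ Y ×_X Z is taken as the subspace of X ×_S X of points whose
two projections lie in Y and in Z and which are not in the image of the diagonal, and the inequality
is written additively as dim(Y ×_S Z ∖ Y ×_X Z) + dim S ≤ dim Y + dim Z (topological Krull
dimensions, the empty space having dimension ⊥). Let Y ⊆ X be closed and irreducible with dim Y <
dim S, and suppose that the pair Y, Y well intersects with respect to f. Then Y → S is generically
radicial onto its image: there is an open subset V of X meeting Y such that f is injective on V ∩ Y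
and, at every point of V ∩ Y, the residue field extension induced by f is purely inseparable. -/
theorem result (k : Type u) [Field k] (X S : Scheme.{u})
    (q : S ⟶ Spec (CommRingCat.of k)) (f : X ⟶ S)
    [LocallyOfFiniteType q] [CompactSpace S] [IsSeparated q] [LocallyOfFiniteType f] [CompactSpace X] [IsSeparated f]
    (Y : Set X) (hYc : IsClosed Y) (hYi : IsIrreducible Y)
    (hWI : topologicalKrullDim {p : ↥(pullback f f) | pullback.fst f f p ∈ Y ∧ pullback.snd f f p ∈ Y ∧ p ∉ Set.range (pullback.diagonal f)} + topologicalKrullDim S ≤ topologicalKrullDim Y + topologicalKrullDim Y)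
    (hYS : topologicalKrullDim Y < topologicalKrullDim S) :
    ∃ V : Set X, IsOpen V ∧ (V ∩ Y).Nonempty ∧ Set.InjOn f.base (V ∩ Y) ∧
      ∀ x ∈ V ∩ Y, (f.residueFieldMap x).hom.IsPurelyInseparable := by
  haveI : IsLocallyNoetherian S := LocallyOfFiniteType.isLocallyNoetherian q
  let qX := f ≫ q
  let qP := pullback.fst f f ≫ qX
  have hE : ∀ A B : Set X, IsClosed A → IsClosed B → IsLocallyClosed
      {p : ↥(pullback f f) | pullback.fst f f p ∈ A ∧ pullback.snd f f p ∈ B ∧ p ∉ Set.range (pullback.diagonal f)} := by
    intro A B hA hB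
    rw [show {p : ↥(pullback f f) | pullback.fst f f p ∈ A ∧ pullback.snd f f p ∈ B ∧ p ∉ Set.range (pullback.diagonal f)} =
      ((pullback.fst f f).base ⁻¹' A ∩ (pullback.snd f f).base ⁻¹' B) ∩ (Set.range (pullback.diagonal f).base)ᶜ from
        Set.ext fun p => and_assoc.symm]
    exact ((hA.preimage (pullback.fst f f).continuous).inter (hB.preimage (pullback.snd f f).continuous)).isLocallyClosed.inter
      (pullback.diagonal f).isClosedEmbedding.isClosed_range.isOpen_compl.isLocallyClosed
  have hdiag : ∀ p : ↥(pullback f f), p ∈ Set.range (pullback.diagonal f) → pullback.fst f f p = pullback.snd f f p := by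
    rintro _ ⟨w, rfl⟩
    rw [← Scheme.Hom.comp_apply, ← Scheme.Hom.comp_apply, pullback.diagonal_fst, pullback.diagonal_snd]
  obtain ⟨η, hη⟩ := QuasiSober.sober hYi hYc

  rw [topologicalKrullDim_isGenericPoint qX hη] at hWI hYS
  let E : Set ↥(pullback f f) :=
    {p | pullback.fst f f p ∈ Y ∧ pullback.snd f f p ∈ Y ∧ p ∉ Set.range (pullback.diagonal f)}
  have hηE : η ∉ closure ((pullback.fst f f).base '' E) := by
    intro hcl
    haveI : QuasiCompact f := quasiCompact_of_compactSpace f
    haveI : CompactSpace ↥(pullback f f) := QuasiCompact.compactSpace_of_compactSpace (pullback.fst f f)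
    haveI : IsLocallyNoetherian (pullback f f) := LocallyOfFiniteType.isLocallyNoetherian qP
    let O : (pullback f f).Opens := ⟨(Set.range (pullback.diagonal f).base)ᶜ, (pullback.diagonal f).isClosedEmbedding.isClosed_range.isOpen_compl⟩
    haveI : IsLocallyNoetherian X := LocallyOfFiniteType.isLocallyNoetherian qX
    haveI : QuasiCompact (O.ι ≫ pullback.fst f f) := by
      haveI : IsNoetherian (pullback f f) := ⟨⟩
      haveI : CompactSpace ↥(O : Scheme.{u}) := isCompact_iff_compactSpace.1 (TopologicalSpace.NoetherianSpace.isCompact (O : Set ↥(pullback f f)))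
      exact quasiCompact_of_compactSpace _
    let T : Set ↥(O : Scheme.{u}) := O.ι.base ⁻¹' ((pullback.fst f f).base ⁻¹' Y ∩ (pullback.snd f f).base ⁻¹' Y)
    have hT : IsClosed T := ((hYc.preimage (pullback.fst f f).continuous).inter (hYc.preimage (pullback.snd f f).continuous)).preimage O.ι.continuous
    have himg : (pullback.fst f f).base '' E ⊆ (O.ι ≫ pullback.fst f f).base '' T := by
      rintro _ ⟨p, hp, rfl⟩
      exact ⟨⟨p, hp.2.2⟩, ⟨hp.1, hp.2.1⟩, rfl⟩
    obtain ⟨p, hp, hpη⟩ := VarDimX.exists_specializes_of_mem_closure_image _ hT (closure_mono himg hcl)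
    have hpE : O.ι p ∈ E := ⟨hp.1, hp.2, p.2⟩
    have he : (pullback.fst f f).base (O.ι p) = η := ((hη.specializes hpE.1).antisymm (by rw [Scheme.Hom.comp_apply] at hpη; exact hpη)).eq.symm
    have hη_le : pdim qX η ≤ pdim qP (O.ι p) := he ▸ pdim_apply_le qP qX (pullback.fst f f) rfl (O.ι p)
    exact VarDimX.arith (pdim_le_topologicalKrullDim qP (hE Y Y hYc hYc) hpE) hWI hYS hη_le
  refine ⟨(closure ((pullback.fst f f).base '' E))ᶜ, isClosed_closure.isOpen_compl, ⟨η, hηE, hη.mem⟩, ?_, ?_⟩
  · rintro x ⟨hxV, hxY⟩ x' ⟨-, hx'Y⟩ he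
    by_contra hne
    obtain ⟨p, h1, h2⟩ := Scheme.Pullback.exists_preimage_pullback x x' he
    exact hxV (subset_closure ⟨p, ⟨h1 ▸ hxY, h2 ▸ hx'Y, fun hd => hne (by rw [← h1, ← h2, hdiag p hd])⟩, h1⟩)
  · rintro x ⟨hxV, hxY⟩
    letI := (f.residueFieldMap x).hom.toAlgebra
    show IsPurelyInseparable (S.residueField (f.base x)) (X.residueField x)
    haveI : Nonempty (X.residueField x →+* AlgebraicClosure (X.residueField x)) := ⟨algebraMap _ _⟩
    refine IsPurelyInseparable.of_injective_comp_algebraMap _ _ (AlgebraicClosure (X.residueField x)) fun g₁ g₂ hg => ?_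
    let L : CommRingCat.{u} := CommRingCat.of (AlgebraicClosure (X.residueField x))
    let a₁ : Spec L ⟶ X := Spec.map (CommRingCat.ofHom g₁) ≫ X.fromSpecResidueField x
    let a₂ : Spec L ⟶ X := Spec.map (CommRingCat.ofHom g₂) ≫ X.fromSpecResidueField x
    have hcomp : a₁ ≫ f = a₂ ≫ f := by
      simp only [a₁, a₂, Category.assoc, ← Scheme.Hom.SpecMap_residueFieldMap_fromSpecResidueField]
      rw [← Spec.map_comp_assoc, ← Spec.map_comp_assoc]
      congr 2
      exact CommRingCat.hom_ext hg
    obtain ⟨pt⟩ : Nonempty ↥(Spec L) := inferInstance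
    let l : Spec L ⟶ pullback f f := pullback.lift a₁ a₂ hcomp
    have h1 : pullback.fst f f (l pt) = x := by
      rw [← Scheme.Hom.comp_apply, pullback.lift_fst, Scheme.Hom.comp_apply, Scheme.fromSpecResidueField_apply]
    have h2 : pullback.snd f f (l pt) = x := by
      rw [← Scheme.Hom.comp_apply, pullback.lift_snd, Scheme.Hom.comp_apply, Scheme.fromSpecResidueField_apply]
    have hd : l pt ∈ Set.range (pullback.diagonal f) := by
      by_contra hd
      exact hxV (subset_closure ⟨l pt, ⟨h1 ▸ hxY, h2 ▸ hxY, hd⟩, h1⟩)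
    haveI : Surjective (pullback.fst l (pullback.diagonal f)) := ⟨fun z => by
      obtain ⟨w, hw⟩ := hd
      obtain ⟨r, hr, -⟩ := Scheme.Pullback.exists_preimage_pullback (f := l) (g := pullback.diagonal f) z w
        (by rw [hw, Subsingleton.elim z pt])
      exact ⟨r, hr⟩⟩
    haveI := isIso_of_isClosedImmersion_of_surjective (pullback.fst l (pullback.diagonal f))
    have hl : l = (inv (pullback.fst l (pullback.diagonal f)) ≫ pullback.snd l (pullback.diagonal f)) ≫ pullback.diagonal f := by
      rw [Category.assoc, ← pullback.condition, IsIso.inv_hom_id_assoc]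
    have heq : a₁ = a₂ := by
      refine (pullback.lift_fst a₁ a₂ hcomp).symm.trans (Eq.trans ?_ (pullback.lift_snd a₁ a₂ hcomp))
      show l ≫ _ = l ≫ _
      simp only [hl, Category.assoc, pullback.diagonal_fst, pullback.diagonal_snd]
    have := Spec.map_injective ((cancel_mono _).1 heq)
    exact congrArg CommRingCat.Hom.hom this

end Groth.Agent.S14483
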