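import Groth.Statements.S14484
import Groth.Agent.H75.VarDimX.Basic

set_option autoImplicit false
universe u
open CategoryTheory CategoryTheory.Limits AlgebraicGeometry
open CharCyc

namespace Groth.Agent.S14484

open TopologicalSpace Groth.Agent.H75 Groth.Agent.Lib.Cyc Groth.Agent.Lib.VarDim.Basic Groth.Agent.Lib.VarDim.Fibre
open CategoryTheory.Limits

/-- Let k be a field and let f : X → S be a morphism between separated k-schemes of finite type. Two
closed subsets Y, Z of X are said to well intersect with respect to f when dim(Y ×_S Z ∖ Y ×_X Z) ≤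
dim Y + dim Z − dim S; here Y ×_S Z ∖ Y ×_X Z is taken as the subspace of X ×_S X of points whose
two projections lie in Y and in Z and which are not in the image of the diagonal, and the inequality
is written additively as dim(Y ×_S Z ∖ Y ×_X Z) + dim S ≤ dim Y + dim Z (topological Krull
dimensions, the empty space having dimension ⊥). Let Y, Z ⊆ X be closed irreducible subsets that
well intersect with respect to f, with dim Y < dim S and dim Z < dim S, and assume Y ⊄ Z. Then f(Y)
is not contained in the closure of f(Y) ∩ f(Z); in particular f(Y) ⊄ f(Z). -/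
theorem result (k : Type u) [Field k] (X S : Scheme.{u})
    (q : S ⟶ Spec (CommRingCat.of k)) (f : X ⟶ S)
    [LocallyOfFiniteType q] [CompactSpace S] [IsSeparated q] [LocallyOfFiniteType f] [CompactSpace X] [IsSeparated f]
    (Y Z : Set X) (hYc : IsClosed Y) (hYi : IsIrreducible Y) (hZc : IsClosed Z) (hZi : IsIrreducible Z)
    (hWI : topologicalKrullDim {p : ↥(pullback f f) | pullback.fst f f p ∈ Y ∧ pullback.snd f f p ∈ Z ∧ p ∉ Set.range (pullback.diagonal f)} + topologicalKrullDim S ≤ topologicalKrullDim Y + topologicalKrullDim Z)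
    (hYS : topologicalKrullDim Y < topologicalKrullDim S) (hZS : topologicalKrullDim Z < topologicalKrullDim S)
    (hYZ : ¬ Y ⊆ Z) :
    ¬ (f.base '' Y ⊆ closure (f.base '' Y ∩ f.base '' Z)) ∧ ¬ (f.base '' Y ⊆ f.base '' Z) := by
  haveI : IsLocallyNoetherian S := LocallyOfFiniteType.isLocallyNoetherian q
  let qX := f ≫ q
  let qP := pullback.fst f f ≫ qX
  have hE : ∀ A B : Set X, IsClosed A → IsClosed B → IsLocallyClosed
      {p : ↥(pullback f f) | pullback.fst f f p ∈ A ∧ pullback.snd f f p ∈ B ∧ p ∉ Set.range (pullback.diagonal f)} := by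
    intro A B hA hB
    rw [show {p : ↥(pullback f f) | pullback.fst f f p ∈ A ∧ pullback.snd f f p ∈ B ∧ p ∉ Set.range (pullback.diagonal f)} =
      ((pullback.fst f f).base ⁻¹' A ∩ (pullback.snd f f).base ⁻¹' B) ∩ (Set.range (pullback.diagonal f).base)ᶜ from
        Set.ext fun p => and_assoc.symm]
    exact ((hA.preimage (pullback.fst f f).continuous).inter (hB.preimage (pullback.snd f f).continuous)).isLocallyClosed.inter
      (pullback.diagonal f).isClosedEmbedding.isClosed_range.isOpen_compl.isLocallyClosed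
  have hdiag : ∀ p : ↥(pullback f f), p ∈ Set.range (pullback.diagonal f) → pullback.fst f f p = pullback.snd f f p := by
    rintro _ ⟨w, rfl⟩
    rw [← Scheme.Hom.comp_apply, ← Scheme.Hom.comp_apply, pullback.diagonal_fst, pullback.diagonal_snd]
  obtain ⟨η, hη⟩ := QuasiSober.sober hYi hYc

  obtain ⟨ζ, hζ⟩ := QuasiSober.sober hZi hZc
  rw [topologicalKrullDim_isGenericPoint qX hη, topologicalKrullDim_isGenericPoint qX hζ] at hWI
  rw [topologicalKrullDim_isGenericPoint qX hζ] at hZS
  have key : ¬ (f.base '' Y ⊆ closure (f.base '' Y ∩ f.base '' Z)) := by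
    intro hsub
    let T : Set ↥(pullback f f) := (pullback.fst f f).base ⁻¹' Y ∩ (pullback.snd f f).base ⁻¹' Z
    have hT : IsClosed T := (hYc.preimage (pullback.fst f f).continuous).inter (hZc.preimage (pullback.snd f f).continuous)
    haveI : QuasiCompact f := quasiCompact_of_compactSpace f
    have himg : f.base '' Y ∩ f.base '' Z ⊆ (pullback.fst f f ≫ f).base '' T := by
      rintro _ ⟨⟨y, hy, rfl⟩, ⟨z, hz, he⟩⟩
      obtain ⟨p, h1, h2⟩ := Scheme.Pullback.exists_preimage_pullback y z he.symm
      exact ⟨p, ⟨show pullback.fst f f p ∈ Y from h1 ▸ hy, show pullback.snd f f p ∈ Z from h2 ▸ hz⟩,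
        by rw [Scheme.Hom.comp_apply, h1]⟩
    obtain ⟨p, hp, hpη⟩ := VarDimX.exists_specializes_of_mem_closure_image (pullback.fst f f ≫ f) hT
      (closure_mono himg (hsub ⟨η, hη.mem, rfl⟩))
    have h2 : f.base η ⤳ f.base (pullback.fst f f p) := (hη.specializes hp.1).map f.continuous
    have h3 : f.base η = f.base (pullback.fst f f p) := (h2.antisymm (by rw [Scheme.Hom.comp_apply] at hpη; exact hpη)).eq
    have h4 : f.base η = f.base (pullback.snd f f p) := by
      rw [h3, ← Scheme.Hom.comp_apply, pullback.condition, Scheme.Hom.comp_apply]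
    obtain ⟨r, hr1, hr2⟩ := Scheme.Pullback.exists_preimage_pullback η (pullback.snd f f p) h4
    have hrE : r ∈ {p : ↥(pullback f f) | pullback.fst f f p ∈ Y ∧ pullback.snd f f p ∈ Z ∧ p ∉ Set.range (pullback.diagonal f)} := by
      refine ⟨hr1 ▸ hη.mem, hr2 ▸ hp.2, fun hd => hYZ ?_⟩
      have := hdiag r hd
      rw [hr1, hr2] at this
      rw [← hη.def]
      exact closure_minimal (Set.singleton_subset_iff.2 (this ▸ hp.2)) hZc
    have hle := pdim_le_topologicalKrullDim qP (hE Y Z hYc hZc) hrE
    have hη_le : pdim qX η ≤ pdim qP r := by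
      have := pdim_apply_le qP qX (pullback.fst f f) rfl r
      rwa [hr1] at this
    exact VarDimX.arith hle hWI hZS hη_le
  exact ⟨key, fun hsub => key fun s hs => subset_closure ⟨hs, hsub hs⟩⟩

end Groth.Agent.S14484
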