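import Groth.Statements.S14485
import Groth.Agent.H75.VarDimX.Basic

set_option autoImplicit false
universe u
open CategoryTheory CategoryTheory.Limits AlgebraicGeometry
open CharCyc

namespace Groth.Agent.S14485

open TopologicalSpace Groth.Agent.H75 Groth.Agent.Lib.Cyc Groth.Agent.Lib.VarDim.Basic Groth.Agent.Lib.VarDim.Fibre
open CategoryTheory.Limits

/-- Let k be a field and let f : X → S be a morphism between separated k-schemes of finite type. Two
closed subsets Y, Z of X are said to well intersect with respect to f when dim(Y ×_S Z ∖ Y ×_X Z) ≤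
dim Y + dim Z − dim S; here Y ×_S Z ∖ Y ×_X Z is taken as the subspace of X ×_S X of points whose
two projections lie in Y and in Z and which are not in the image of the diagonal, and the inequality
is written additively as dim(Y ×_S Z ∖ Y ×_X Z) + dim S ≤ dim Y + dim Z (topological Krull
dimensions, the empty space having dimension ⊥). Let Y, Z ⊆ X be closed subsets, and let g : S' → S
be faithfully flat with every fibre of dimension d (relative constant dimension d), where S' is
again a separated k-scheme of finite type. Write f' : X' = X ×_S S' → S' for the base change and Y',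
Z' ⊆ X' for the preimages of Y, Z. Then well-intersection of Y, Z with respect to f is equivalent to
well-intersection of Y', Z' with respect to f'. -/
theorem result (k : Type u) [Field k] (X S S' : Scheme.{u})
    (q : S ⟶ Spec (CommRingCat.of k)) (f : X ⟶ S) (g : S' ⟶ S)
    [LocallyOfFiniteType q] [CompactSpace S] [IsSeparated q] [LocallyOfFiniteType f] [CompactSpace X] [IsSeparated f]
    [LocallyOfFiniteType g] [CompactSpace S'] [IsSeparated g] [Flat g] [Surjective g]
    (d : ℕ) (hd : ∀ s : S, topologicalKrullDim (g.fiber s) = d)
    (Y Z : Set X) (hYc : IsClosed Y) (hZc : IsClosed Z) :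
    (topologicalKrullDim {p : ↥(pullback f f) | pullback.fst f f p ∈ Y ∧ pullback.snd f f p ∈ Z ∧ p ∉ Set.range (pullback.diagonal f)} + topologicalKrullDim S ≤ topologicalKrullDim Y + topologicalKrullDim Z) ↔
      (topologicalKrullDim {p : ↥(pullback (pullback.snd f g) (pullback.snd f g)) | pullback.fst (pullback.snd f g) (pullback.snd f g) p ∈ ((pullback.fst f g) ⁻¹' Y) ∧ pullback.snd (pullback.snd f g) (pullback.snd f g) p ∈ ((pullback.fst f g) ⁻¹' Z) ∧ p ∉ Set.range (pullback.diagonal (pullback.snd f g))} + topologicalKrullDim S' ≤ topologicalKrullDim ((pullback.fst f g) ⁻¹' Y) + topologicalKrullDim ((pullback.fst f g) ⁻¹' Z)) := by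
  let qX := f ≫ q
  let qP := pullback.fst f f ≫ qX
  let qS' := g ≫ q
  let a := pullback.fst f g
  let b := pullback.snd f g
  let qX' := a ≫ qX
  let qP' := pullback.fst b b ≫ qX'
  have hd' : VarDimX.FibDim g d := VarDimX.fibDim_of_fiber g d hd
  have sqX : IsPullback b a g f := (IsPullback.of_hasPullback f g).flip
  have hda : VarDimX.FibDim a d := hd'.baseChange sqX
  have hs : ((pullback.snd b b ≫ a) : pullback b b ⟶ X) ≫ f = pullback.snd b b ≫ b ≫ g := by
    simp only [a, b, Category.assoc, pullback.condition]
  let r : pullback b b ⟶ pullback f f := pullback.lift (pullback.fst b b ≫ a) (pullback.snd b b ≫ a) (by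
    rw [hs, Category.assoc, show a ≫ f = b ≫ g from pullback.condition, ← Category.assoc, pullback.condition, Category.assoc])
  have h1 : IsPullback (pullback.snd b b ≫ a) (pullback.fst b b) f (b ≫ g) :=
    IsPullback.paste_horiz (IsPullback.of_hasPullback b b).flip sqX.flip |>.of_iso (Iso.refl _) (Iso.refl _) (Iso.refl _) (Iso.refl _)
      (by simp) (by simp) (by simp) (by simp)
  have hsq : IsPullback (pullback.fst b b) r a (pullback.fst f f) := by
    refine (IsPullback.of_right ?_ ?_ (IsPullback.of_hasPullback f f).flip).flip
    · rw [show r ≫ pullback.snd f f = pullback.snd b b ≫ a from pullback.lift_snd _ _ _,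
        show a ≫ f = b ≫ g from pullback.condition]
      exact h1
    · exact pullback.lift_fst _ _ _
  have hdr : VarDimX.FibDim r d := hda.baseChange hsq
  have hclY' := hYc.preimage a.continuous
  have hclZ' := hZc.preimage a.continuous
  let E : Set ↥(pullback f f) :=
    {p | pullback.fst f f p ∈ Y ∧ pullback.snd f f p ∈ Z ∧ p ∉ Set.range (pullback.diagonal f)}
  have hE : IsLocallyClosed E := by
    rw [show E = ((pullback.fst f f).base ⁻¹' Y ∩ (pullback.snd f f).base ⁻¹' Z) ∩ (Set.range (pullback.diagonal f).base)ᶜ from
        Set.ext fun p => and_assoc.symm]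
    exact ((hYc.preimage (pullback.fst f f).continuous).inter (hZc.preimage (pullback.snd f f).continuous)).isLocallyClosed.inter
      (pullback.diagonal f).isClosedEmbedding.isClosed_range.isOpen_compl.isLocallyClosed
  have hEeq : {p : ↥(pullback b b) | pullback.fst b b p ∈ a ⁻¹' Y ∧ pullback.snd b b p ∈ a ⁻¹' Z ∧
      p ∉ Set.range (pullback.diagonal b)} = r.base ⁻¹' E := by
    have e1 : ∀ p, pullback.fst f f (r p) = a (pullback.fst b b p) := fun p => by
      rw [← Scheme.Hom.comp_apply, pullback.lift_fst, Scheme.Hom.comp_apply]
    have e2 : ∀ p, pullback.snd f f (r p) = a (pullback.snd b b p) := fun p => by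
      rw [← Scheme.Hom.comp_apply, pullback.lift_snd, Scheme.Hom.comp_apply]
    have e3 : ∀ p, r p ∈ Set.range (pullback.diagonal f) ↔ p ∈ Set.range (pullback.diagonal b) := by
      intro p
      constructor
      · rintro ⟨x, hx⟩
        obtain ⟨w, hw, -⟩ := Scheme.Pullback.exists_preimage_pullback (f := r) (g := pullback.diagonal f) p x hx.symm
        have hc := pullback.condition (f := r) (g := pullback.diagonal f)
        have ea : (pullback.fst r (pullback.diagonal f) ≫ pullback.fst b b) ≫ a = (pullback.fst r (pullback.diagonal f) ≫ pullback.snd b b) ≫ a := by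
          have t1 := congrArg (· ≫ pullback.fst f f) hc
          have t2 := congrArg (· ≫ pullback.snd f f) hc
          simp only [r, Category.assoc, pullback.lift_fst, pullback.lift_snd, pullback.diagonal_fst, pullback.diagonal_snd] at t1 t2 ⊢
          rw [t1, t2]
        have eb : (pullback.fst r (pullback.diagonal f) ≫ pullback.fst b b) ≫ b = (pullback.fst r (pullback.diagonal f) ≫ pullback.snd b b) ≫ b := by
          simp only [Category.assoc, pullback.condition]
        have e : pullback.fst r (pullback.diagonal f) ≫ pullback.fst b b = pullback.fst r (pullback.diagonal f) ≫ pullback.snd b b :=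
          pullback.hom_ext ea eb
        have e' : pullback.fst r (pullback.diagonal f) = (pullback.fst r (pullback.diagonal f) ≫ pullback.fst b b) ≫ pullback.diagonal b := by
          apply pullback.hom_ext <;> simp only [Category.assoc, pullback.diagonal_fst, pullback.diagonal_snd, Category.comp_id]
          exact e.symm
        refine ⟨(pullback.fst r (pullback.diagonal f) ≫ pullback.fst b b) w, ?_⟩
        rw [← Scheme.Hom.comp_apply, ← e']
        exact hw
      · rintro ⟨x, rfl⟩
        refine ⟨a x, ?_⟩
        have e : pullback.diagonal b ≫ r = a ≫ pullback.diagonal f := by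
          apply pullback.hom_ext <;>
            simp only [r, Category.assoc, pullback.lift_fst, pullback.lift_snd, pullback.diagonal_fst, pullback.diagonal_snd, Category.comp_id] <;>
            simp only [← Category.assoc, pullback.diagonal_fst, pullback.diagonal_snd, Category.id_comp]
        rw [← Scheme.Hom.comp_apply, ← e, Scheme.Hom.comp_apply]
    ext p
    simp only [E, Set.mem_setOf_eq, Set.mem_preimage, e1, e2, e3]
  rw [hEeq, VarDimX.topologicalKrullDim_preimage r qP' qP (by simp only [r, qP', qP, qX', pullback.lift_fst_assoc, Category.assoc]) hdr hE,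
    VarDimX.topologicalKrullDim_preimage a qX' qX rfl hda hYc.isLocallyClosed,
    VarDimX.topologicalKrullDim_preimage a qX' qX rfl hda hZc.isLocallyClosed,
    topologicalKrullDim_scheme_eq (X := S')]
  rw [show (Set.univ : Set S') = g.base ⁻¹' Set.univ from rfl,
    VarDimX.topologicalKrullDim_preimage g qS' q rfl hd' isClosed_univ.isLocallyClosed,
    ← topologicalKrullDim_scheme_eq (X := S)]
  rw [add_add_add_comm _ (d : WithBot ℕ∞), add_add_add_comm _ (d : WithBot ℕ∞), ← Nat.cast_add,
    VarDimX.add_nat_cancel]

end Groth.Agent.S14485
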