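import Groth.Statements.S14486
import Groth.Agent.Lib.SurfRR.K3

set_option autoImplicit false
universe u
open CategoryTheory CategoryTheory.Limits AlgebraicGeometry
open Surf

namespace Groth.Agent.S14486

/-- Let k be an algebraically closed field and X a projective K3 surface over k: an integral scheme of
dimension two with all local rings regular, admitting a closed immersion into some P^n_k over k,
whose structure sheaf O_X is a second exterior power of Ω_{X/k} (the canonical sheaf is trivial) and
with H^1(X, O_X) = 0. Let C be a nonsingular curve of genus g on X: an integral closed subscheme of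
dimension one with all local rings regular, with ideal sheaf I ⊆ O_X and g = dim_k H^1(C, O_C); let
M be an inverse of I for the tensor product (M = O_X(C)). Then C² = 2g - 2 and h^0(X, O_X(C)) = g +
1. Writing (L·L') for the intersection number χ(O_X) - χ(L) - χ(L') + χ(L ⊗ L') of two invertible
modules (packaged as FGA.intNum), C² = (I·I), so the assertion reads (I·I) = 2g - 2 and dim_k H^0(X,
M) = g + 1. (A K3 surface is only required to be proper; this row assumes the projective embedding.) -/
theorem result (k : Type u) [Field k] [IsAlgClosed k] (X : Scheme.{u})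
    [X.Over (Spec (CommRingCat.of k))] [IsIntegral X] (hdim : topologicalKrullDim X = 2)
    (hreg : ∀ x : X, IsRegularLocalRing (X.presheaf.stalk x))
    (hproj : ∃ (n : ℕ) (ι : X ⟶ CohB1.ProjSpace n k), IsClosedImmersion ι ∧
      ι ≫ CohB1.ProjSpace.toSpec n k = (X ↘ (Spec (CommRingCat.of k))))
    (hK : ExtPow.IsExtPow 2 (Omega.sheaf (X ↘ (Spec (CommRingCat.of k)))) (Coh.structureModule X))
    (hH1 : Subsingleton (Coh.HH X (Coh.structureModule X) 1))
    (C : Scheme.{u}) (i : C ⟶ X) [IsClosedImmersion i] [IsIntegral C] (hC : topologicalKrullDim C = 1)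
    (hCreg : ∀ c : C, IsRegularLocalRing (C.presheaf.stalk c))
    (M : X.Modules) (hM : ClSub.IsInverseOf M (ClSub.idealMod i.ker)) :
    letI : C.Over (Spec (CommRingCat.of k)) := ⟨i ≫ (X ↘ (Spec (CommRingCat.of k)))⟩
    FGA.intNum k X 2 ![ClSub.idealMod i.ker, ClSub.idealMod i.ker] (Coh.structureModule X) =
        2 * (Curv2.genus k C : ℤ) - 2 ∧
      Module.finrank k (Coh.HH X M 0) = Curv2.genus k C + 1 := by
  letI : C.Over (Spec (CommRingCat.of k)) := ⟨i ≫ (X ↘ (Spec (CommRingCat.of k)))⟩
  obtain ⟨n, ι, hc, hι⟩ := hproj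
  haveI := hc
  haveI : IsProper (X ↘ Spec (CommRingCat.of k)) := by rw [← hι]; infer_instance
  haveI := Lib.SurfRR.Regular.smoothOfRelativeDimension_two (k := k) hdim hreg
  haveI : Smooth (X ↘ Spec (CommRingCat.of k)) :=
    SmoothOfRelativeDimension.smooth 2 (X ↘ Spec (CommRingCat.of k))
  haveI := Lib.Curves.GlobalSections.isNoetherian_of_proper k X
  haveI : IsProper (C ↘ Spec (CommRingCat.of k)) :=
    inferInstanceAs (IsProper (i ≫ (X ↘ Spec (CommRingCat.of k))))
  haveI : IsIso i.toImage := inferInstance
  haveI : IsIntegral i.image :=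
    haveI : Nonempty i.image := ⟨i.toImage (Classical.arbitrary C)⟩
    isIntegral_of_isOpenImmersion (CategoryTheory.inv i.toImage)
  haveI : IsIntegral i.ker.subscheme := ‹IsIntegral i.image›
  have hsupp : topologicalKrullDim (i.ker.support : Set X) = 1 := by
    rw [← Lib.SurfInt.Surface.dim_subscheme, ← hC]
    exact (IsHomeomorph.topologicalKrullDim_eq _
      (Scheme.homeoOfIso (asIso i.toImage)).isHomeomorph).symm
  have hI := Lib.SurfInt.Effective.isInvertible_idealMod
    (Lib.SurfInt.Curve.isEffCartier (X ↘ Spec (CommRingCat.of k)) hdim hreg i.ker hsupp)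
  have hfin := Lib.Snapper.Finite.cohFinite k X
  have hA := Lib.SurfRR.Adjunction.adjunction i hfin hdim.le hI
    (Lib.SurfRR.Proper.riemannRoch hdim hK hI)
  rw [Lib.Curves.Degree.euler_structureModule (k := k) hC.le
    (Lib.Curves.GlobalSections.finrank_h0_structure k C),
    Lib.Snapper.IntNum.intNum_pair_comm (ClSub.idealMod i.ker) (Coh.structureModule X),
    Lib.Snapper.IntNum.intNum_pair (Coh.structureModule X), Lib.Snapper.IntNum.sym_structure] at hA
  refine ⟨by linarith, ?_⟩
  obtain ⟨e⟩ := hM
  have hMi : PicF.IsInvertible M := Lib.TensorMod.TensorInv.isInvertible_of_tensor_iso e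
  have hχ := Lib.SurfRR.K3.two_mul_euler hdim hK hH1 hMi
  have e' := Lib.TensorMod.Basic.comm (ClSub.idealMod i.ker) M ≪≫ e
  rw [Lib.Snapper.IntNum.intNum_pair_inverse hfin hdim.le hI hMi e' hMi
      (Lib.Snapper.Twist.isCoh_structureModule X),
    Lib.Snapper.IntNum.intNum_pair_comm (ClSub.idealMod i.ker) M,
    Lib.Snapper.IntNum.intNum_pair_inverse hfin hdim.le hI hMi e' hI
      (Lib.Snapper.Twist.isCoh_structureModule X)] at hχ
  have hz : ∀ p q : ℕ, p + q = 2 → q ≤ 1 → Module.finrank k (Coh.HH X M p) = 0 := by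
    intro p q hpq hq
    rw [Lib.SurfRR.Duality.finrank_duality hdim hK hMi e hpq,
      (Lib.Curves.LES.isoK k (Lib.TensorMod.Basic.rightUnit (ClSub.idealMod i.ker)) q).finrank_eq]
    interval_cases q
    · haveI := Lib.SurfRR.K3.subsingleton_h0_idealMod (k := k) hdim i.ker hsupp
      exact Module.finrank_zero_of_subsingleton
    · haveI := Lib.SurfRR.K3.subsingleton_h1_idealMod (k := k) hdim i.ker hsupp hH1
      exact Module.finrank_zero_of_subsingleton
  simp only [FGA.eulerCharLE, Finset.sum_range_succ, Finset.sum_range_zero,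
    hz 1 1 rfl le_rfl, hz 2 0 rfl zero_le_one] at hχ
  push_cast at hχ
  omega

end Groth.Agent.S14486

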