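import Groth.Statements.S14498
import Mathlib.CategoryTheory.Abelian.Refinements


set_option autoImplicit false
universe v u
open AbDiag

namespace Groth.Agent.S14498

open CategoryTheory CategoryTheory.Limits in
/-- In an abelian category, let 0 → F → W → E' → 0 (maps a, b) and 0 → E → W → F' → G → G' → 0 (maps c,
d, e, g) be exact sequences such that the composite F → W → F' is a monomorphism. Then the composite
E → W → E' is a monomorphism, and there is a short exact sequence 0 → Coker(E → E') → Coker(F → F')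
→ Ker(G → G') → 0 whose first map is induced by d (through the quotient map b) and whose second map
is induced by e. -/
theorem result
    {V : Type u} [Category.{v} V] [Abelian V] {F W E' E F' G G' : V}
    (a : F ⟶ W) (b : W ⟶ E') (c : E ⟶ W) (d : W ⟶ F') (e : F' ⟶ G) (g : G ⟶ G')
    [Mono a] [Epi b] (wab : a ≫ b = 0) (hab : (ShortComplex.mk a b wab).Exact)
    [Mono c] (wcd : c ≫ d = 0) (hcd : (ShortComplex.mk c d wcd).Exact)
    (wde : d ≫ e = 0) (hde : (ShortComplex.mk d e wde).Exact)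
    (weg : e ≫ g = 0) (heg : (ShortComplex.mk e g weg).Exact) [Epi g]
    (hmono : Mono (a ≫ d)) :
    Mono (c ≫ b) ∧
      ∃ (φ : cokernel (c ≫ b) ⟶ cokernel (a ≫ d)) (ψ : cokernel (a ≫ d) ⟶ kernel g)
        (w : φ ≫ ψ = 0),
        b ≫ cokernel.π (c ≫ b) ≫ φ = d ≫ cokernel.π (a ≫ d) ∧
        cokernel.π (a ≫ d) ≫ ψ ≫ kernel.ι g = e ∧
        (ShortComplex.mk φ ψ w).ShortExact := by
  have hcb : Mono (c ≫ b) := Preadditive.mono_of_cancel_zero _ fun {T} z hz => by
    obtain ⟨T', π, hπ, w, hw⟩ := hab.exact_up_to_refinements (z ≫ c) (by simpa using hz)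
    dsimp at w hw
    have h0 : w ≫ a ≫ d = 0 := by rw [← reassoc_of% hw, wcd, comp_zero, comp_zero]
    rw [zero_of_comp_mono (a ≫ d) h0, zero_comp] at hw
    rw [← cancel_epi π, ← cancel_mono c, comp_zero, zero_comp, Category.assoc, hw]
  have hb : IsColimit (CokernelCofork.ofπ b wab) := hab.gIsCokernel
  let φ₀ : E' ⟶ cokernel (a ≫ d) := hb.desc (CokernelCofork.ofπ (d ≫ cokernel.π (a ≫ d)) (by simp [← Category.assoc]))
  have hφ₀ : b ≫ φ₀ = d ≫ cokernel.π (a ≫ d) := hb.fac _ WalkingParallelPair.one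
  let φ : cokernel (c ≫ b) ⟶ cokernel (a ≫ d) := cokernel.desc _ φ₀ (by
    rw [Category.assoc, hφ₀, reassoc_of% wcd, zero_comp])
  let ψ : cokernel (a ≫ d) ⟶ kernel g := kernel.lift g (cokernel.desc _ e (by rw [Category.assoc, wde, comp_zero]))
    (by rw [← cancel_epi (cokernel.π (a ≫ d))]; simp [weg])
  have hφ : b ≫ cokernel.π (c ≫ b) ≫ φ = d ≫ cokernel.π (a ≫ d) := by simp [φ, hφ₀]
  have hψ : cokernel.π (a ≫ d) ≫ ψ ≫ kernel.ι g = e := by simp [ψ]
  have w : φ ≫ ψ = 0 := by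
    rw [← cancel_epi (cokernel.π (c ≫ b)), ← cancel_epi b, ← cancel_mono (kernel.ι g)]
    simp only [Category.assoc, reassoc_of% hφ, hψ, wde, comp_zero, zero_comp]
  refine ⟨hcb, φ, ψ, w, hφ, hψ, ?_⟩
  have hadπ : (ShortComplex.mk (a ≫ d) (cokernel.π (a ≫ d)) (cokernel.condition _)).Exact :=
    ShortComplex.exact_of_g_is_cokernel _ (cokernelIsCokernel _)
  have hmφ : Mono φ := Preadditive.mono_of_cancel_zero _ fun {T} z hz => by
    obtain ⟨T₁, π₁, hπ₁, y, hy⟩ := surjective_up_to_refinements_of_epi (b ≫ cokernel.π (c ≫ b)) z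
    obtain ⟨T₂, π₂, hπ₂, v', hv⟩ := hadπ.exact_up_to_refinements (y ≫ d) (by
      simp only [Category.assoc, ← hφ]
      have h0 := hy =≫ φ
      simp only [Category.assoc, hz, comp_zero] at h0
      exact h0.symm)
    dsimp at v' hv
    obtain ⟨T₃, π₃, hπ₃, s, hs⟩ := hcd.exact_up_to_refinements (π₂ ≫ y - v' ≫ a) (by simp [hv])
    dsimp at s hs
    rw [← cancel_epi (π₃ ≫ π₂ ≫ π₁), comp_zero, Category.assoc, Category.assoc, hy]
    have := hs =≫ (b ≫ cokernel.π (c ≫ b))
    simpa [reassoc_of% wab, ← Category.assoc c b] using this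
  have heψ : Epi ψ := by
    rw [epi_iff_surjective_up_to_refinements]
    intro T z
    obtain ⟨T₁, π₁, hπ₁, f', hf'⟩ := heg.exact_up_to_refinements (z ≫ kernel.ι g) (by simp)
    dsimp at f' hf'
    refine ⟨T₁, π₁, hπ₁, f' ≫ cokernel.π (a ≫ d), ?_⟩
    rw [← cancel_mono (kernel.ι g), Category.assoc, hf', Category.assoc, Category.assoc, hψ]
  refine ShortComplex.ShortExact.mk' ?_ hmφ heψ
  rw [ShortComplex.exact_iff_exact_up_to_refinements]
  intro T z hz
  dsimp at z hz
  obtain ⟨T₁, π₁, hπ₁, f', hf'⟩ := surjective_up_to_refinements_of_epi (cokernel.π (a ≫ d)) z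
  obtain ⟨T₂, π₂, hπ₂, w', hw'⟩ := hde.exact_up_to_refinements f' (by
    dsimp
    have h0 := hf' =≫ (ψ ≫ kernel.ι g)
    simp only [Category.assoc, hψ, reassoc_of% hz, zero_comp, comp_zero] at h0
    exact h0.symm)
  dsimp at w' hw'
  refine ⟨T₂, π₂ ≫ π₁, inferInstance, w' ≫ b ≫ cokernel.π (c ≫ b), ?_⟩
  dsimp
  simp only [Category.assoc, hφ, hf', reassoc_of% hw']

end Groth.Agent.S14498
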