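import Groth.Statements.S14503
import Groth.Agent.H15.LatticeDist
import Mathlib.RingTheory.Norm.Basic
import Mathlib.RingTheory.Localization.Module

set_option autoImplicit false
universe u
open IntTh

namespace Groth.Agent.S14503

/-- Let A ⊆ B be a module-finite extension of domains with A Noetherian local of Krull dimension one, K
⊆ L their fraction fields, and r ∈ B nonzero. Then B/rB has finite length as an A-module and
length_A(B/rB) equals the order at the closed point of A of the norm N_{L/K}(r), i.e.
length_A(A/(a)) − length_A(A/(b)) for N_{L/K}(r) = a/b. -/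
theorem result (A : Type u) [CommRing A] [IsDomain A]
    [IsNoetherianRing A] [IsLocalRing A] (hA : ringKrullDim A = 1) (B : Type u) [CommRing B]
    [IsDomain B] [Algebra A B] (hinj : Function.Injective (algebraMap A B)) [Module.Finite A B]
    (K L : Type u) [Field K] [Field L] [Algebra A K] [IsFractionRing A K] [Algebra B L]
    [IsFractionRing B L] [Algebra K L] [Algebra A L] [IsScalarTower A B L] [IsScalarTower A K L]
    [FiniteDimensional K L] (r : B) (hr : r ≠ 0) :
    Module.length A (B ⧸ Ideal.span {r}) < ⊤ ∧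
      ((Module.length A (B ⧸ Ideal.span {r})).toNat : ℤ) =
        CycAlg.ordFrac A K (Algebra.norm K (algebraMap B L r)) := by
  have : Ring.KrullDimLE 1 A := Ring.krullDimLE_iff.2 hA.le
  have hinjBL : Function.Injective (algebraMap B L) := IsFractionRing.injective B L
  have : FaithfulSMul A B := (faithfulSMul_iff_algebraMap_injective A B).2 hinj
  let ι : B →ₗ[A] L := (IsScalarTower.toAlgHom A B L).toLinearMap
  let M : Submodule A L := LinearMap.range ι
  have hM : Submodule.IsLattice K M := by
    refine ⟨?_, ?_⟩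
    · rw [show M = (⊤ : Submodule A B).map ι from (Submodule.map_top _).symm]
      exact Module.Finite.fg_top.map ι
    · rw [eq_top_iff]
      intro x _
      obtain ⟨b, s, hs, rfl⟩ := IsFractionRing.div_surjective B x
      have : Algebra.IsIntegral A B := Algebra.IsIntegral.of_finite A B
      obtain ⟨a, t, ha, hat⟩ : ∃ (a : A) (t : B), a ≠ 0 ∧ algebraMap A B a = s * t := by
        have hs0 : s ≠ 0 := nonZeroDivisors.ne_zero hs
        obtain ⟨a, ha, ha'⟩ := Submodule.exists_mem_ne_zero_of_ne_bot
          (Ideal.comap_ne_bot_of_integral_mem (R := A) hs0 (Ideal.mem_span_singleton_self s) (Algebra.IsIntegral.isIntegral s))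
        obtain ⟨t, ht⟩ := Ideal.mem_span_singleton'.1 ha
        exact ⟨a, t, ha', by rw [← ht]; ring⟩
      have haK : algebraMap A K a ≠ 0 := (map_ne_zero_iff _ (IsFractionRing.injective A K)).2 ha
      have key : algebraMap B L b / algebraMap B L s = (algebraMap A K a)⁻¹ • ι (b * t) := by
        rw [eq_inv_smul_iff₀ haK, Algebra.smul_def, ← IsScalarTower.algebraMap_apply,
          IsScalarTower.algebraMap_apply A B L, hat, map_mul]
        have : algebraMap B L s ≠ 0 := (map_ne_zero_iff _ hinjBL).2 (nonZeroDivisors.ne_zero hs)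
        simp only [ι, AlgHom.toLinearMap_apply, IsScalarTower.coe_toAlgHom', map_mul]
        field_simp
      rw [key]
      exact Submodule.smul_mem _ _ (Submodule.subset_span ⟨_, rfl⟩)
  have hrL : algebraMap B L r ≠ 0 := (map_ne_zero_iff _ hinjBL).2 hr
  let φ : L ≃ₗ[K] L := LinearEquiv.ofBijective (LinearMap.mulLeft K (algebraMap B L r))
    ⟨mul_right_injective₀ hrL, fun y => ⟨y / algebraMap B L r, by simp [mul_div_cancel₀ _ hrL]⟩⟩
  have hφ : φ.toLinearMap = LinearMap.mulLeft K (algebraMap B L r) := rfl
  have hle : M.map (φ.toLinearMap.restrictScalars A) ≤ M := by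
    rintro _ ⟨_, ⟨b, rfl⟩, rfl⟩
    exact ⟨r * b, by simp [ι, hφ]⟩
  have hlatt := H15.LatticeDist.isLattice_map K M φ.toLinearMap φ.surjective
  have e : (B ⧸ Ideal.span {r}) ≃ₗ[A] (↥M ⧸ (M.map (φ.toLinearMap.restrictScalars A)).submoduleOf M) := by
    refine (Submodule.Quotient.restrictScalarsEquiv A (Ideal.span {r})).symm.trans
      (Submodule.Quotient.equiv _ _ (LinearEquiv.ofInjective ι hinjBL) ?_)
    ext ⟨y, hy⟩
    constructor
    · rintro ⟨b, hb, hby⟩
      obtain ⟨c, rfl⟩ := Ideal.mem_span_singleton'.1 hb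
      refine ⟨ι c, ⟨c, rfl⟩, ?_⟩
      have h2 := congrArg Subtype.val hby
      simp only [LinearEquiv.coe_coe, LinearEquiv.ofInjective_apply] at h2
      refine Eq.trans ?_ h2
      show φ.toLinearMap (ι c) = ι (c * r)
      simp [ι, hφ, mul_comm]
    · rintro ⟨_, ⟨c, rfl⟩, hcy⟩
      refine ⟨c * r, Ideal.mul_mem_left _ c (Ideal.mem_span_singleton_self r), Subtype.ext ?_⟩
      simp only [LinearEquiv.coe_coe, LinearEquiv.ofInjective_apply]
      refine Eq.trans ?_ hcy
      show ι (c * r) = φ.toLinearMap (ι c)
      simp [ι, hφ, mul_comm]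
  refine ⟨?_, ?_⟩
  · rw [e.length_eq]
    exact H15.LatticeDist.rlen_lt_top K hA.le M _
  · rw [e.length_eq, Algebra.norm_apply]
    have h1 := H15.LatticeDist.shift_eq_ordFrac (A := A) (K := K) hA.le M φ
    rw [H15.LatticeDist.shift, H15.LatticeDist.dist_of_le hle] at h1
    exact h1.trans (by rw [hφ]; rfl)

end Groth.Agent.S14503
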