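import Groth.Statements.S14504
import Mathlib
-- import your own Groth.Agent.* helpers here

set_option autoImplicit false
universe u
open IntTh

namespace Groth.Agent.S14504


theorem card_filter_lt {d : ℕ} (J : Fin d → ℕ) (hJ : StrictMono J) (i : Fin d) (m : ℕ) (hi : J i < m) :
    (i : ℕ) + 1 ≤ (Finset.univ.filter fun s => J s < m).card := by
  refine le_trans ?_ (Finset.card_le_card (s := Finset.Iic i) fun s hs =>
    Finset.mem_filter.mpr ⟨Finset.mem_univ _, lt_of_le_of_lt (hJ.monotone (Finset.mem_Iic.mp hs)) hi⟩)
  rw [Fin.card_Iic]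

open Classical in
theorem exists_minor {K : Type*} [Field K] {n d : ℕ} (A : Matrix (Fin d) (Fin n) K)
    (hA : LinearIndependent K (fun i : Fin d => A i)) (S : Set (Fin n)) :
    ∃ J : Fin d → Fin n, StrictMono J ∧ (A.submatrix id J).det ≠ 0 ∧
      Module.finrank K (Submodule.span K (A.col '' S)) ≤ (Finset.univ.filter fun s => J s ∈ S).card := by
  classical
  obtain ⟨T, hTS, -, hTspan, hT⟩ := exists_linearIndepOn_extension (K := K) (v := A.col)
    (linearIndepOn_empty K A.col) (Set.empty_subset S)
  obtain ⟨U, -, hTU, hUspan, hU⟩ := exists_linearIndepOn_extension (K := K) (v := A.col) hT (Set.subset_univ T)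
  have htop : Submodule.span K (Set.range A.col) = ⊤ := by
    apply Submodule.eq_top_of_finrank_eq
    rw [← Matrix.rank_eq_finrank_span_cols, Matrix.rank_eq_finrank_span_row, Module.finrank_fin_fun]
    exact (finrank_span_eq_card hA).trans (Fintype.card_fin d)
  have hUtop : Submodule.span K (A.col '' U) = ⊤ := by
    rw [← top_le_iff, ← htop, Submodule.span_le, ← Set.image_univ]
    exact hUspan
  have hUcard : U.toFinset.card = d := by
    have h1 : LinearIndependent K (fun x : U => A.col x) := hU
    have h2 := finrank_span_eq_card h1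
    rw [show (Set.range fun x : U => A.col x) = A.col '' U from Set.image_eq_range _ _ |>.symm, hUtop, finrank_top,
      Module.finrank_fin_fun] at h2
    rw [Set.toFinset_card]
    exact h2.symm
  refine ⟨fun s => U.toFinset.orderEmbOfFin hUcard s, fun a b h => (U.toFinset.orderEmbOfFin hUcard).strictMono h, ?_, ?_⟩
  · rw [← isUnit_iff_ne_zero, ← Matrix.isUnit_iff_isUnit_det, ← Matrix.linearIndependent_cols_iff_isUnit]
    exact hU.comp (fun s => (⟨U.toFinset.orderEmbOfFin hUcard s, Set.mem_toFinset.mp (Finset.orderEmbOfFin_mem _ _ _)⟩ : U))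
      (fun a b h => (U.toFinset.orderEmbOfFin hUcard).injective (by simpa using congrArg Subtype.val h))
  · have hle : Submodule.span K (A.col '' S) ≤ Submodule.span K (A.col '' T) := Submodule.span_le.mpr hTspan
    refine (Submodule.finrank_mono hle).trans ?_
    rw [Set.image_eq_range]
    refine (finrank_range_le_card fun x : T => A.col x).trans ?_
    rw [← Finset.card_image_of_injective (f := fun s => U.toFinset.orderEmbOfFin hUcard s) _ (U.toFinset.orderEmbOfFin hUcard).injective,
      ← Set.toFinset_card T]
    refine Finset.card_le_card fun x hx => ?_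
    rw [Set.mem_toFinset] at hx
    obtain ⟨s, hs⟩ : x ∈ Set.range (U.toFinset.orderEmbOfFin hUcard) := by
      rw [Finset.range_orderEmbOfFin]; simpa using hTU hx
    exact Finset.mem_image.mpr ⟨s, by simp [hs, hTS hx], hs⟩


/-- Let K be a field, d ≤ n, λ = (λ₁ ≥ ⋯ ≥ λ_d) a non-increasing sequence of natural numbers, d_i = n −
d + i − λ_i, and V_j ⊆ K^n the span of the first j standard basis vectors. For a d × n matrix A over
K with linearly independent rows spanning the subspace W: one has dim(W ∩ V_{d_i}) ≥ i for every i =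
1, …, d if and only if every d × d minor of A taken on strictly increasing columns j₁ < ⋯ < j_d
(1-indexed) with j_i > d_i for some i vanishes. (Indices are 0-based in the formal statement: row i
: Fin d stands for i + 1 and column l : Fin n for l + 1.) -/
theorem result (K : Type u) [Field K] (n d : ℕ)
    (hdn : d ≤ n) (V : ℕ → Submodule K (Fin n → K))
    (hV : ∀ (j : ℕ) (v : Fin n → K), v ∈ V j ↔ ∀ l : Fin n, j ≤ (l : ℕ) → v l = 0)
    (lam : Fin d → ℕ) (hlam : Antitone lam) (A : Matrix (Fin d) (Fin n) K)
    (hA : LinearIndependent K (fun i : Fin d => A i)) :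
    (∀ i : Fin d, (i : ℕ) + 1 ≤
        Module.finrank K ↥(Submodule.span K (Set.range fun i : Fin d => A i) ⊓
          V (n - d + ((i : ℕ) + 1) - lam i))) ↔
      ∀ J : Fin d → Fin n, StrictMono J →
        (∃ i : Fin d, n - d + ((i : ℕ) + 1) - lam i < (J i : ℕ) + 1) →
          (A.submatrix id J).det = 0 := by
  classical
  set W := Submodule.span K (Set.range fun i : Fin d => A i) with hW
  have hWd : Module.finrank K W = d := (finrank_span_eq_card hA).trans (Fintype.card_fin d)
  constructor
  · intro hdim J hJ ⟨i, hi⟩
    set m := n - d + ((i : ℕ) + 1) - lam i with hm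
    have hJi : m ≤ (J i : ℕ) := by omega
    -- restriction to the first `i` selected coordinates
    let π : ↥(W ⊓ V m) →ₗ[K] (Fin (i : ℕ) → K) :=
      LinearMap.pi fun s => (LinearMap.proj (J ⟨s, s.2.trans i.2⟩)).comp (W ⊓ V m).subtype
    have hker : LinearMap.ker π ≠ ⊥ := LinearMap.ker_ne_bot_of_finrank_lt (by
      rw [Module.finrank_fin_fun]; exact hdim i)
    obtain ⟨⟨w, hwW, hwV⟩, hw, hw0⟩ := Submodule.exists_mem_ne_zero_of_ne_bot hker
    obtain ⟨c, hc⟩ := (Submodule.mem_span_range_iff_exists_fun K).mp hwW
    rw [← Matrix.exists_vecMul_eq_zero_iff]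
    refine ⟨c, fun h => hw0 (Subtype.ext ?_), funext fun s => ?_⟩
    · show w = 0
      rw [← hc, h]; simp
    · have h1 : Matrix.vecMul c (A.submatrix id J) s = w (J s) := by
        simp [← hc, Matrix.vecMul, dotProduct, Finset.sum_apply]
      rw [h1]
      rcases lt_or_ge (s : ℕ) (i : ℕ) with h | h
      · exact congrFun (LinearMap.mem_ker.mp hw) ⟨s, h⟩
      · refine (hV m w).mp hwV (J s) (hJi.trans ?_)
        exact hJ.monotone (Fin.le_def.mpr h)
  · intro hdet i
    set m := n - d + ((i : ℕ) + 1) - lam i with hm
    by_contra hlt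
    push_neg at hlt
    obtain ⟨J, hJ, hJdet, hJcard'⟩ := exists_minor A hA {l : Fin n | m ≤ (l : ℕ)}
    have hJcard : Module.finrank K (Submodule.span K (A.col '' {l : Fin n | m ≤ (l : ℕ)})) ≤
        (Finset.univ.filter fun s => J s ∈ {l : Fin n | m ≤ (l : ℕ)}).card := by
      convert hJcard' using 3
    -- the rank of the columns beyond `m`
    let π : W →ₗ[K] ({l : Fin n // m ≤ (l : ℕ)} → K) :=
      LinearMap.pi fun l => (LinearMap.proj l.1).comp W.subtype
    have hk : LinearMap.ker π = (V m).comap W.subtype := by
      ext w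
      simp [π, funext_iff, hV]
    have hkd : Module.finrank K (LinearMap.ker π) = Module.finrank K ↥(W ⊓ V m) := by
      rw [hk, ← Submodule.map_comap_subtype]
      exact (Submodule.equivMapOfInjective W.subtype W.injective_subtype _).finrank_eq
    have hrn := LinearMap.finrank_range_add_finrank_ker π
    have hrange : Module.finrank K (LinearMap.range π) = Module.finrank K (Submodule.span K (A.col '' {l : Fin n | m ≤ (l : ℕ)})) := by
      set M : Matrix (Fin d) {l : Fin n // m ≤ (l : ℕ)} K := A.submatrix id Subtype.val with hM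
      have h1 : LinearMap.range π = Submodule.span K (Set.range M.row) := by
        rw [LinearMap.range_eq_map, ← Submodule.map_subtype_top W] at *
        rw [show (⊤ : Submodule K W) = Submodule.span K (Set.range fun r : Fin d => (⟨A r, Submodule.subset_span ⟨r, rfl⟩⟩ : W)) from
          (Submodule.map_injective_of_injective W.injective_subtype (by
            rw [Submodule.map_span, ← Set.range_comp, Submodule.map_subtype_top]; rfl)),
          Submodule.map_span, ← Set.range_comp]
        rfl
      rw [h1, ← Matrix.rank_eq_finrank_span_row, Matrix.rank_eq_finrank_span_cols]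
      rw [Set.image_eq_range]
      rfl
    have h2 : (Finset.univ.filter fun s => J s ∈ {l : Fin n | m ≤ (l : ℕ)}).card + ((i : ℕ) + 1) ≤ d ∨ m ≤ (J i : ℕ) := by
      by_cases h : m ≤ (J i : ℕ)
      · exact Or.inr h
      · left
        have := card_filter_lt (fun s => (J s : ℕ)) (fun a b hab => hJ hab) i m (by omega)
        have hpart := Finset.card_filter_add_card_filter_not (s := (Finset.univ : Finset (Fin d))) (fun s => J s ∈ {l : Fin n | m ≤ (l : ℕ)})
        rw [Finset.card_univ, Fintype.card_fin] at hpart
        simp only [Set.mem_setOf_eq, not_le] at hpart ⊢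
        omega
    rcases h2 with h | h
    · omega
    · exact hJdet (hdet J hJ ⟨i, by omega⟩)

end Groth.Agent.S14504
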