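import Groth.Statements.S14505
import Mathlib
-- import your own Groth.Agent.* helpers here

set_option autoImplicit false
universe u
open IntTh

namespace Groth.Agent.S14505


open PowerSeries in
theorem coeff_lin_prod {R : Type*} [CommRing R] {ι : Type*} (s : Finset ι) (a : ι → R) :
    ∀ m, s.card < m → coeff m (∏ i ∈ s, (1 + C (a i) * X : PowerSeries R)) = 0 := by
  classical
  induction s using Finset.induction_on with
  | empty => intro m hm; simp only [Finset.prod_empty, coeff_one]; rw [if_neg (by simp at hm; omega)]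
  | insert b t hb ih =>
    intro m hm
    rw [Finset.card_insert_of_notMem hb] at hm
    obtain ⟨m, rfl⟩ : ∃ m', m = m' + 1 := ⟨m - 1, by omega⟩
    rw [Finset.prod_insert hb, add_mul, one_mul, map_add, mul_assoc, coeff_C_mul, coeff_succ_X_mul,
      ih _ (by omega), ih _ (by omega)]
    simp

open PowerSeries in
theorem coeff_mul_eq_zero_of_lt {R : Type*} [CommRing R] {f g : PowerSeries R} {a b : ℕ}
    (hf : ∀ m, a < m → coeff m f = 0) (hg : ∀ m, b < m → coeff m g = 0) {m : ℕ} (hm : a + b < m) :
    coeff m (f * g) = 0 := by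
  rw [coeff_mul]
  refine Finset.sum_eq_zero fun p hp => ?_
  replace hp := Finset.HasAntidiagonal.mem_antidiagonal.mp hp
  rcases le_or_gt p.1 a with h | h
  · rw [hg p.2 (by omega), mul_zero]
  · rw [hf p.1 h, zero_mul]

open PowerSeries in
theorem lin_mul_geom {R : Type*} [CommRing R] (a : R) :
    (1 + C a * X) * PowerSeries.mk (fun m => (-a) ^ m) = (1 : PowerSeries R) := by
  ext m
  cases m with
  | zero => simp
  | succ m =>
    rw [add_mul, one_mul, map_add, mul_assoc, coeff_C_mul, coeff_succ_X_mul, coeff_mk, coeff_mk, coeff_one,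
      if_neg (by omega), pow_succ]
    ring

open PowerSeries in
theorem coeff_prod_geom {R : Type*} [CommRing R] (a : R) : ∀ (e : ℕ) (β : Fin e → R) (m : ℕ),
    coeff (e + m) ((∏ j, (1 + C (β j) * X)) * PowerSeries.mk (fun n => (-a) ^ n)) = (-a) ^ m * ∏ j, (β j - a) := by
  intro e
  induction e with
  | zero => intro β m; simp
  | succ e ih =>
    intro β m
    rw [Fin.prod_univ_succ, Fin.prod_univ_succ, mul_assoc, add_mul, one_mul, map_add, mul_assoc (C (β 0)),
      coeff_C_mul]
    rw [show e + 1 + m = e + (m + 1) by omega, ih, show e + (m + 1) = (e + m) + 1 by omega, coeff_succ_X_mul, ih,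
      pow_succ]
    ring


/-- Let R be a commutative ring, α₁, …, α_d, β₁, …, β_e ∈ R, b(t) = ∏ (1 + β_j t), and for k = 1, …, d
let P_k(t) = b(t)/∏_{i ≤ k} (1 + α_i t) ∈ R⟦t⟧, each factor 1 + α_i t being inverted by its
geometric series; write (P_k)_m for the coefficient of t^m, with (P_k)_m = 0 for m < 0. Then ∏_{i,j}
(β_j − α_i) = det((P_i)_{e+j−i})_{1 ≤ i,j ≤ d}, the d × d determinant whose i-th row is built from
the coefficients of the i-th partial quotient. (Rows and columns are 0-based in the formal
statement, which does not change j − i; the row of index i inverts the factors of index at most i.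
The companion form with every row built from the full quotient b/a is stated separately.) -/
theorem result (R : Type u) [CommRing R] (d e : ℕ)
    (α : Fin d → R) (β : Fin e → R) :
    ∏ i : Fin d, ∏ j : Fin e, (β j - α i) =
      (Matrix.of fun i j : Fin d =>
        if (i : ℕ) ≤ e + (j : ℕ) then
          PowerSeries.coeff (e + (j : ℕ) - (i : ℕ))
            ((∏ j : Fin e, (1 + PowerSeries.C (β j) * PowerSeries.X)) *
              ∏ l : Fin d, if l ≤ i then PowerSeries.mk (fun m => (-α l) ^ m) else 1)
        else 0).det := by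
  classical
  open PowerSeries in
  set b : PowerSeries R := ∏ j : Fin e, (1 + PowerSeries.C (β j) * PowerSeries.X) with hb
  set G : Fin d → PowerSeries R := fun l => PowerSeries.mk (fun m => (-α l) ^ m) with hG
  set L : Fin d → PowerSeries R := fun l => 1 + PowerSeries.C (α l) * PowerSeries.X with hL
  set Q : Fin d → PowerSeries R := fun k => PowerSeries.X ^ (k : ℕ) * (b * ∏ l : Fin d, if l ≤ k then G l else 1) with hQ
  set A : Fin d → PowerSeries R := fun j => ∏ l : Fin d, if l < j then L l else 1 with hA
  have hM : ∀ k j : Fin d, (if (k : ℕ) ≤ e + (j : ℕ) then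
      PowerSeries.coeff (e + (j : ℕ) - (k : ℕ)) (b * ∏ l : Fin d, if l ≤ k then G l else 1) else 0) =
      PowerSeries.coeff (e + (j : ℕ)) (Q k) := fun k j => (PowerSeries.coeff_X_pow_mul' _ _ _).symm
  set M : Matrix (Fin d) (Fin d) R := Matrix.of fun k j => PowerSeries.coeff (e + (j : ℕ)) (Q k) with hMdef
  set U : Matrix (Fin d) (Fin d) R := Matrix.of fun l j =>
    if (l : ℕ) ≤ (j : ℕ) then PowerSeries.coeff ((j : ℕ) - (l : ℕ)) (A j) else 0 with hU
  rw [show (Matrix.of fun i j : Fin d => if (i : ℕ) ≤ e + (j : ℕ) then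
      PowerSeries.coeff (e + (j : ℕ) - (i : ℕ)) (b * ∏ l : Fin d, if l ≤ i then PowerSeries.mk (fun m => (-α l) ^ m) else 1) else 0)
      = M from Matrix.ext fun k j => hM k j]
  have hA0 : ∀ j, PowerSeries.coeff 0 (A j) = 1 := by
    intro j
    rw [PowerSeries.coeff_zero_eq_constantCoeff_apply, hA, map_prod]
    refine Finset.prod_eq_one fun l _ => ?_
    split_ifs <;> simp [hL]
  have hAdeg : ∀ j : Fin d, ∀ m, (j : ℕ) < m → PowerSeries.coeff m (A j) = 0 := by
    intro j m hm
    rw [hA]
    simp only
    rw [← Finset.prod_filter]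
    refine coeff_lin_prod _ α m (lt_of_le_of_lt ?_ hm)
    rw [show (Finset.univ.filter fun l : Fin d => l < j) = Finset.Iio j by ext; simp, Fin.card_Iio]
  have hUdet : U.det = 1 := by
    rw [Matrix.det_of_isUpperTriangular (fun i j hij => by simp only [hU, Matrix.of_apply]; exact if_neg (not_le.mpr (Fin.lt_def.mp (show j < i from hij))))]
    exact Finset.prod_eq_one fun i _ => by simp [hU, hA0]
  have hMU : ∀ k j : Fin d, (M * U) k j = PowerSeries.coeff (e + (j : ℕ)) (Q k * A j) := by
    intro k j
    rw [Matrix.mul_apply, PowerSeries.coeff_mul]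
    simp only [hMdef, hU, Matrix.of_apply, mul_ite, mul_zero]
    rw [← Finset.sum_filter]
    symm
    rw [← Finset.sum_subset (s₁ := ((Finset.univ.filter fun l : Fin d => (l : ℕ) ≤ (j : ℕ)).image
      fun l : Fin d => (e + (l : ℕ), (j : ℕ) - (l : ℕ))))]
    · rw [Finset.sum_image]
      intro x _ y _ hxy
      simp only [Prod.mk.injEq] at hxy
      exact Fin.ext (by omega)
    · intro p hp
      obtain ⟨l, hl, rfl⟩ := Finset.mem_image.mp hp
      have := (Finset.mem_filter.mp hl).2
      rw [Finset.HasAntidiagonal.mem_antidiagonal]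
      omega
    · intro p hp hnot
      replace hp := Finset.HasAntidiagonal.mem_antidiagonal.mp hp
      by_cases h2 : p.2 ≤ (j : ℕ)
      · exfalso
        apply hnot
        refine Finset.mem_image.mpr ⟨⟨(j : ℕ) - p.2, by omega⟩, Finset.mem_filter.mpr ⟨Finset.mem_univ _, by simp⟩, ?_⟩
        exact Prod.ext (by simp only; omega) (by simp only; omega)
      · rw [hAdeg j p.2 (by omega), mul_zero]
  have hdet : M.det = (M * U).det := by rw [Matrix.det_mul, hUdet, mul_one]
  rw [hdet, Matrix.det_of_isLowerTriangular]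
  · refine Finset.prod_congr rfl fun k _ => ?_
    rw [hMU, hQ]
    simp only
    rw [mul_assoc, mul_assoc, hA]
    simp only
    rw [← Finset.prod_mul_distrib, Finset.prod_eq_single k (fun l _ hl => ?_) (fun h => absurd (Finset.mem_univ k) h)]
    · rw [if_pos le_rfl, if_neg (lt_irrefl k), mul_one, PowerSeries.coeff_X_pow_mul]
      simpa using (coeff_prod_geom (α k) e β 0).symm
    · rcases lt_or_gt_of_ne hl with h | h
      · rw [if_pos h.le, if_pos h, mul_comm]
        exact lin_mul_geom (α l)
      · rw [if_neg (not_le.mpr h), if_neg (not_lt.mpr h.le), mul_one]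
  · intro k j hkj
    have hkj' : (k : ℕ) < (j : ℕ) := hkj
    rw [hMU, hQ]
    simp only
    rw [mul_assoc, mul_assoc, hA]
    simp only
    rw [← Finset.prod_mul_distrib]
    rw [Finset.prod_congr rfl (g := fun l : Fin d => if l ∈ Finset.Ioo k j then L l else 1) (fun l _ => ?_)]
    · rw [Finset.prod_ite_mem, Finset.univ_inter, PowerSeries.coeff_X_pow_mul', if_pos (by omega)]
      refine coeff_mul_eq_zero_of_lt (coeff_lin_prod Finset.univ β) (coeff_lin_prod (Finset.Ioo k j) α) ?_
      rw [Finset.card_univ, Fintype.card_fin, Fin.card_Ioo]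
      omega
    · simp only [Finset.mem_Ioo]
      rcases le_or_gt l k with h | h
      · rw [if_pos h, if_pos (lt_of_le_of_lt h (Fin.lt_def.mpr hkj')), if_neg (fun h' => not_lt.mpr h h'.1), mul_comm]
        exact lin_mul_geom (α l)
      · rw [if_neg (not_le.mpr h), one_mul]
        simp [h]

end Groth.Agent.S14505
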