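import Groth.Statements.S14509

set_option autoImplicit false
open IntTh

namespace Groth.Agent.S14509

/-- Let f(t) ∈ ℚ⟦t⟧ be the Todd series, characterised by f(t)·(e^t − 1) = t·e^t, i.e. f(t) = t/(1 −
e^(−t)). Then for every m ∈ ℤ and n ∈ ℕ the coefficient of t^n in e^(mt)·f(t)^(n+1) is the binomial
coefficient C(m+n, n), understood as the polynomial (m+n)(m+n−1)⋯(m+1)/n! in m (so for all integers
m). (The published statement is the Hirzebruch–Riemann–Roch formula χ(E) = ∫ ch(E)·td for vector
bundles on projective n-space; this row is the identity of formal power series to which its proof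
reduces it for E = O(m): the degree-n part of ch(O(m))·td(P^n) = e^(mζ)(ζ/(1 − e^(−ζ)))^(n+1)
against χ(P^n, O(m)) = C(m+n, n).) -/
theorem result (f : PowerSeries ℚ)
    (hf : f * (PowerSeries.exp ℚ - 1) = PowerSeries.X * PowerSeries.exp ℚ) (m : ℤ) (n : ℕ) :
    PowerSeries.coeff n (PowerSeries.rescale (m : ℚ) (PowerSeries.exp ℚ) * f ^ (n + 1)) =
      ((Ring.choose (m + n : ℤ) n : ℤ) : ℚ) := by
  have key : f ^ 2 = f * (1 + PowerSeries.X) - PowerSeries.X * PowerSeries.derivative ℚ f := by
    have hd := congrArg (PowerSeries.derivative ℚ) hf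
    simp only [Derivation.leibniz, map_sub, PowerSeries.derivative_X, PowerSeries.derivative_exp, Derivation.map_one_eq_zero,
      sub_zero, smul_eq_mul] at hd
    have he : PowerSeries.exp ℚ ≠ 0 := fun h => by simpa using congrArg PowerSeries.constantCoeff h
    refine mul_left_cancel₀ he ?_
    linear_combination f * hd - PowerSeries.derivative ℚ f * hf
  have f0 : PowerSeries.constantCoeff f = 1 := by
    have h := congrArg (PowerSeries.coeff 1) hf
    rw [PowerSeries.coeff_mul, Finset.Nat.sum_antidiagonal_eq_sum_range_succ_mk] at h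
    simp [Finset.sum_range_succ, PowerSeries.coeff_exp] at h
    simpa using h
  induction n with
  | zero =>
    rw [pow_one, PowerSeries.coeff_zero_eq_constantCoeff_apply, map_mul, f0, mul_one, ← PowerSeries.coeff_zero_eq_constantCoeff_apply,
      PowerSeries.coeff_rescale, PowerSeries.coeff_exp]
    simp
  | succ n ih =>
    set E := PowerSeries.rescale (m : ℚ) (PowerSeries.exp ℚ)
    set a := PowerSeries.coeff n (E * f ^ (n + 1))
    have hE : PowerSeries.derivative ℚ E = (m : ℚ) • E := by
      ext i
      simp [E, PowerSeries.coeff_derivative, PowerSeries.coeff_rescale, PowerSeries.coeff_exp, Nat.factorial_succ]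
      field_simp
      ring
    have hg := congrArg (PowerSeries.coeff n) (Derivation.leibniz (PowerSeries.derivative ℚ) E (f ^ (n + 1)))
    rw [Derivation.leibniz_pow, PowerSeries.coeff_derivative, hE, Nat.add_sub_cancel] at hg
    simp only [smul_eq_mul, nsmul_eq_mul, map_add, mul_smul_comm, PowerSeries.coeff_smul] at hg
    have h2 : PowerSeries.coeff (n + 1) (E * f ^ (n + 1 + 1)) =
        PowerSeries.coeff (n + 1) (E * f ^ (n + 1)) + a - PowerSeries.coeff n (E * f ^ n * PowerSeries.derivative ℚ f) := by
      rw [show E * f ^ (n + 1 + 1) = E * f ^ n * f ^ 2 by ring, key,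
        show E * f ^ n * (f * (1 + PowerSeries.X) - PowerSeries.X * PowerSeries.derivative ℚ f) = E * f ^ (n + 1) +
          PowerSeries.X * (E * f ^ (n + 1)) - PowerSeries.X * (E * f ^ n * PowerSeries.derivative ℚ f) by ring,
        map_sub, map_add, PowerSeries.coeff_succ_X_mul, PowerSeries.coeff_succ_X_mul]
    rw [show E * (((n + 1 : ℕ) : PowerSeries ℚ) * (f ^ n * PowerSeries.derivative ℚ f)) =
        PowerSeries.C ((n : ℚ) + 1) * (E * f ^ n * PowerSeries.derivative ℚ f) by push_cast; rw [map_add, map_natCast, map_one]; ring,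
      PowerSeries.coeff_C_mul, mul_comm (f ^ (n + 1)) E] at hg
    change (_ : ℚ) = _ + _ * a at hg
    have hch : ∀ x : ℤ, ((n : ℤ) + 1) * Ring.choose (x + 1) (n + 1) = (x + 1) * Ring.choose x n := by
      intro x
      have h1 := Ring.descPochhammer_eq_factorial_smul_choose (x + 1) (n + 1)
      have h2 := Ring.descPochhammer_eq_factorial_smul_choose x n
      rw [← Polynomial.eval_eq_smeval] at h1 h2
      rw [descPochhammer_succ_left, Polynomial.eval_mul, Polynomial.eval_comp] at h1
      simp [h2, Nat.factorial_succ] at h1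
      refine mul_left_cancel₀ (show (n.factorial : ℤ) ≠ 0 by exact_mod_cast n.factorial_ne_zero) ?_
      linear_combination -h1
    have hc := congrArg (fun z : ℤ => (z : ℚ)) (hch (m + n : ℤ))
    rw [h2, show (m + ((n + 1 : ℕ) : ℤ)) = m + n + 1 by push_cast; ring]
    simp only [Int.cast_mul, Int.cast_add, Int.cast_natCast, Int.cast_one, Int.cast_ofNat, Nat.cast_add, Nat.cast_one] at hc
    have hn : ((n : ℚ) + 1) ≠ 0 := by positivity
    refine mul_left_cancel₀ hn ?_
    linear_combination hg - hc + (m + n + 1 : ℚ) * ih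

end Groth.Agent.S14509
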