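import Groth.Statements.S14506
import Groth.Agent.S14509
import Mathlib.NumberTheory.Bernoulli
import Mathlib.Algebra.Ring.GeomSum

set_option autoImplicit false
open IntTh

namespace Groth.Agent.S14506

/-- A formal power series f(t) ∈ ℚ⟦t⟧ satisfies, for every n ≥ 0, that the coefficient of t^n in
f(t)^(n+1) is 1, if and only if f(t)·(e^t − 1) = t·e^t, that is f(t) = t/(1 − e^(−t)) = 1 + t/2 +
t²/12 − ⋯. (The published statement is the existence and uniqueness of the Todd class of vector
bundles normalised by multiplicativity, td(O) = 1 and the Riemann–Roch identity for the structure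
sheaf of every projective space; this row is the power-series fact its proof establishes: the
normalisation forces exactly these coefficient conditions on the one-variable series.) -/
theorem result (f : PowerSeries ℚ) :
    (∀ n : ℕ, PowerSeries.coeff n (f ^ (n + 1)) = 1) ↔
      f * (PowerSeries.exp ℚ - 1) = PowerSeries.X * PowerSeries.exp ℚ := by
  constructor
  · intro h
    let B := bernoulli'PowerSeries ℚ
    have hB : B * (PowerSeries.exp ℚ - 1) = PowerSeries.X * PowerSeries.exp ℚ := bernoulli'PowerSeries_mul_exp_sub_one ℚ
    have hBc : ∀ n, PowerSeries.coeff n (B ^ (n + 1)) = 1 := fun n => by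
      have := Groth.Agent.S14509.result B hB 0 n
      simpa [Ring.choose_natCast] using this
    suffices f = B by rw [this]; exact hB
    ext n
    induction n using Nat.strong_induction_on with
    | _ n ih =>
      have f0 : PowerSeries.constantCoeff f = 1 := by simpa [PowerSeries.coeff_zero_eq_constantCoeff] using h 0
      have B0 : PowerSeries.constantCoeff B = 1 := by simpa [PowerSeries.coeff_zero_eq_constantCoeff] using hBc 0
      obtain ⟨d, hd⟩ := (PowerSeries.X_pow_dvd_iff (φ := f - B) (n := n)).2 fun i hi => by rw [map_sub, ih i hi, sub_self]
      have hg := congrArg (PowerSeries.coeff n) (geom_sum₂_mul f B (n + 1))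
      rw [map_sub, h n, hBc n, sub_self, hd, mul_left_comm, PowerSeries.coeff_X_pow_mul', if_pos le_rfl, Nat.sub_self,
        PowerSeries.coeff_zero_eq_constantCoeff, map_mul, map_sum] at hg
      simp [f0, B0] at hg
      have hd0 := congrArg (PowerSeries.coeff n) hd
      rw [PowerSeries.coeff_X_pow_mul', if_pos le_rfl, Nat.sub_self, map_sub, PowerSeries.coeff_zero_eq_constantCoeff] at hd0
      rcases hg with h1 | h1
      · exact absurd h1 (by positivity)
      · linarith
  · intro hf n
    have := Groth.Agent.S14509.result f hf 0 n
    simpa [Ring.choose_natCast] using this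

end Groth.Agent.S14506
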