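import Groth.Statements.S14507
import Groth.Agent.Lib.Bott.Dim
import Groth.Agent.Lib.Snapper.Chi
import Groth.Agent.Lib.Perfect.Coherent

set_option autoImplicit false
set_option linter.style.haveILetI false
universe u
open CategoryTheory CategoryTheory.Limits AlgebraicGeometry TopologicalSpace
open IntTh

namespace Groth.Agent.S14507

open Groth.Agent.Lib Groth.Agent.Lib.Bott Groth.Agent.Lib.TensorMod.Basic

theorem chi_pow (k : Type u) [Field k] (n p : ℕ) (hp : p ≤ n) (L : (CohB1.ProjSpace n k).Modules)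
    (hL : ExtPow.IsExtPow p (Euler.ΩP n k) L) :
    FGA.eulerCharLE k (CohB1.ProjSpace n k) L n = (-1 : ℤ) ^ p := by
  unfold FGA.eulerCharLE
  rw [Finset.sum_eq_single p]
  · obtain ⟨e⟩ := Coh.nonempty_diag p hp L hL
    rw [e.finrank_eq, Module.finrank_self, Nat.cast_one, mul_one]
  · intro q _ hq
    haveI := Coh.subsingleton_zero p L hL q (Or.inl (Ne.symm hq))
    rw [Module.finrank_zero_of_subsingleton, Nat.cast_zero, mul_zero]
  · exact fun h => absurd (Finset.mem_range.2 (by omega)) h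

theorem not_epi (k : Type u) [Field k] (n : ℕ)
    (ξ : Euler.ΩP n k ⟶ Coh.structureModule (CohB1.ProjSpace n k)) : ¬ Epi ξ := by
  intro hξ
  haveI := ProjSpace.Basic.isProper_toSpec n k
  haveI : IsLocallyNoetherian (CohB1.ProjSpace n k) :=
    LocallyOfFiniteType.isLocallyNoetherian (CohB1.ProjSpace.toSpec n k)
  haveI : IsProper (CohB1.ProjSpace n k ↘ Spec (CommRingCat.of k)) :=
    inferInstanceAs (IsProper (CohB1.ProjSpace.toSpec n k))
  haveI : NoetherianSpace (CohB1.ProjSpace n k) :=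
    Curves.GlobalSections.noetherianSpace_of_proper k (CohB1.ProjSpace n k)
  have hdim : topologicalKrullDim (CohB1.ProjSpace n k) ≤ (n : WithBot ℕ∞) :=
    (ProjSpace.Dim.topologicalKrullDim_projSpace_of_field n k).le
  have hfin := Snapper.Finite.cohFinite k (CohB1.ProjSpace n k)
  have hΩ := Perfect.Coherent.isCoh_of_isFinLocFree (TensorMod.LocFree.of_rank (Euler.rank_omega n k))
  have hcoh : ∀ p L, ExtPow.IsExtPow p (Euler.ΩP n k) L → Coh.IsCoh L := fun p L hL =>
    Perfect.Coherent.isCoh_of_isFinLocFree (GrassGen.ExtPowFree.isFinLocFree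
      (TensorMod.LocFree.of_rank (Euler.rank_omega n k)) hL)
  let K := kernel ξ
  have hS : (ShortComplex.mk (kernel.ι ξ) ξ (kernel.condition ξ)).ShortExact :=
    { exact := ShortComplex.exact_kernel ξ }
  have hK : Coh.IsCoh K := CohBasics.Closure.isCoh_kernel ξ hΩ RefHull.Reflexive.isCoh_structure.1
  haveI : (kernel ξ).IsQuasicoherent := hK.1
  haveI := Euler.isQCoh_omega n k
  choose Kp hKp using fun p => FundLocal.ExtPowExists.exists_isExtPow (kernel ξ) p
  have step : ∀ p, Coh.IsCoh (Kp p) → ∀ L, ExtPow.IsExtPow (p + 1) (Euler.ΩP n k) L →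
      Coh.IsCoh (Kp (p + 1)) ∧
      FGA.eulerCharLE k (CohB1.ProjSpace n k) L n = FGA.eulerCharLE k (CohB1.ProjSpace n k) (Kp (p + 1)) n +
        FGA.eulerCharLE k (CohB1.ProjSpace n k) (Kp p) n ∧ (IsZero L → IsZero (Kp p)) := by
    intro p hp L hL
    obtain ⟨T, hT, h1, h2, h3⟩ := WedgeSES.exists_shortExact (kernel.condition ξ) hS (hKp (p + 1)) hL (hKp p)
    haveI := hT.mono_f
    haveI := hT.epi_g
    have c3 : Coh.IsCoh T.X₃ := h3 ▸ hp
    have c2 : Coh.IsCoh T.X₂ := h2 ▸ hcoh _ L hL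
    have c1 : Coh.IsCoh T.X₁ := CohBasics.Closure.isCoh_of_iso
      (hT.fIsKernel.conePointUniqueUpToIso (kernelIsKernel T.g)).symm
      (CohBasics.Closure.isCoh_kernel T.g c2 c3.1)
    refine ⟨h1 ▸ c1, ?_, fun hz => ?_⟩
    · rw [← h1, ← h2, ← h3]
      exact Snapper.Chi.eulerCharLE_add hfin hdim hT c1 c2 c3
    · rw [← h3]
      rw [← h2] at hz
      exact IsZero.of_epi T.g hz
  obtain ⟨e0⟩ := FreePow.nonempty_iso_zero (hKp 0)
  have main : ∀ p, p ≤ n → Coh.IsCoh (Kp p) ∧
      FGA.eulerCharLE k (CohB1.ProjSpace n k) (Kp p) n = (-1 : ℤ) ^ p * (p + 1) := by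
    intro p
    induction p with
    | zero =>
      intro _
      refine ⟨CohBasics.Closure.isCoh_of_iso e0 RefHull.Reflexive.isCoh_structure, ?_⟩
      obtain ⟨L, hL⟩ := Coh.exists_pow n k 0
      obtain ⟨e⟩ := FreePow.nonempty_iso_zero hL
      rw [Snapper.Chi.eulerCharLE_of_iso (e0.symm ≪≫ e) n, chi_pow k n 0 (Nat.zero_le _) L hL]
      simp
    | succ p ih =>
      intro hp
      obtain ⟨hc, hχ⟩ := ih (by omega)
      obtain ⟨L, hL⟩ := Coh.exists_pow n k (p + 1)
      obtain ⟨h1, h2, -⟩ := step p hc L hL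
      refine ⟨h1, ?_⟩
      rw [chi_pow k n (p + 1) hp L hL, hχ] at h2
      rw [pow_succ] at h2 ⊢
      push_cast
      linarith
  obtain ⟨hc, hχ⟩ := main n le_rfl
  obtain ⟨L, hL⟩ := Coh.exists_pow n k (n + 1)
  obtain ⟨-, -, h3⟩ := step n hc L hL
  rw [Snapper.Chi.eulerCharLE_isZero (h3 (FreePow.isZero (Euler.rank_omega n k) (by omega) hL))] at hχ
  rcases neg_one_pow_eq_or ℤ n with h | h <;> rw [h] at hχ <;> linarith

/-- Let k be a field, n ≥ 0, P = P^n_k and Ω = Ω_{P/k} its sheaf of differentials (the conormal sheaf of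
the diagonal). Every global vector field on P, that is every O_P-linear map ξ : Ω → O_P (a global
section of the tangent sheaf, the dual of Ω), vanishes at some point: there is x ∈ P such that ξ
maps every local section of Ω over an open neighbourhood of x to a function whose germ at x lies in
the maximal ideal of O_{P,x}. -/
theorem result (k : Type u) [Field k] (n : ℕ)
    (ξ : Omega.sheaf (CohB1.ProjSpace.toSpec n k) ⟶ Coh.structureModule (CohB1.ProjSpace n k)) :
    ∃ x : ↥(CohB1.ProjSpace n k), ∀ (U : (CohB1.ProjSpace n k).Opens) (hx : x ∈ U)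
      (s : Γ(Omega.sheaf (CohB1.ProjSpace.toSpec n k), U)),
      (CohB1.ProjSpace n k).presheaf.germ U x hx (OmegaSh.fnSect (CohB1.ProjSpace n k) U (ξ.app U s)) ∈
        IsLocalRing.maximalIdeal ((CohB1.ProjSpace n k).presheaf.stalk x) := by
  by_contra hne
  push Not at hne
  refine not_epi k n ξ ((Modules.Stalk.epi_iff_stalk_surjective ξ).2 fun x => ?_)
  obtain ⟨U, hx, s, hs⟩ := hne x
  have hu : IsUnit ((CohB1.ProjSpace n k).presheaf.germ U x hx
      (OmegaSh.fnSect (CohB1.ProjSpace n k) U (ξ.app U s))) := by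
    simpa [mem_nonunits_iff] using hs
  intro y
  obtain ⟨W, hxW, m, rfl⟩ := TopCat.Presheaf.exists_germ_eq (Coh.structureModule (CohB1.ProjSpace n k)).presheaf y
  let V := (CohB1.ProjSpace n k).basicOpen (OmegaSh.fnSect (CohB1.ProjSpace n k) U (ξ.app U s)) ⊓ W
  have hxV : x ∈ V := ⟨((CohB1.ProjSpace n k).mem_basicOpen _ x hx).2 hu, hxW⟩
  have hVU : V ≤ U := inf_le_left.trans ((CohB1.ProjSpace n k).basicOpen_le _)
  let a : Γ(CohB1.ProjSpace n k, V) := TensorMod.Dual.rf hVU (OmegaSh.fnSect (CohB1.ProjSpace n k) U (ξ.app U s))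
  have ha : IsUnit a := by
    have := RingedSpace.isUnit_res_basicOpen (CohB1.ProjSpace n k).toRingedSpace
      (OmegaSh.fnSect (CohB1.ProjSpace n k) U (ξ.app U s))
    have h2 := this.map ((CohB1.ProjSpace n k).presheaf.map (homOfLE (inf_le_left : V ≤ _)).op).hom
    convert h2 using 1
    exact (TensorMod.Dual.rf_rf _ _ _).symm
  let m' : Γ(CohB1.ProjSpace n k, V) := TensorMod.Dual.rf (inf_le_right : V ≤ W) m
  refine ⟨(Euler.ΩP n k).presheaf.germ V x hxV ((m' * ↑ha.unit⁻¹) • TensorMod.Dual.rs _ hVU s), ?_⟩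
  refine (Modules.Stalk.stalkFunctor_map_germ x ξ hxV _).trans ?_
  rw [Scheme.Modules.Hom.app_smul, Modules.TensorSec.app_rs]
  show (Coh.structureModule (CohB1.ProjSpace n k)).presheaf.germ V x hxV
    ((m' * ↑ha.unit⁻¹) * a : Γ(CohB1.ProjSpace n k, V)) = _
  rw [mul_assoc, IsUnit.val_inv_mul, mul_one]
  exact TopCat.Presheaf.germ_res_apply (Coh.structureModule (CohB1.ProjSpace n k)).presheaf _ x hxV m

end Groth.Agent.S14507
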