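import Groth.Statements.S14508
import Groth.Agent.Lib.Cyc.CH.DetFilt

set_option autoImplicit false
universe u
open CategoryTheory CategoryTheory.Limits AlgebraicGeometry
open IntTh

namespace Groth.Agent.S14508

/-- Let X be a locally Noetherian scheme whose local rings are universally catenary, δ a dimension
function on X, E a finite locally free O_X-module of rank r + 1, (p : P → X, O_P(1), q) its
projective bundle given by the universal property, p proper, δP the induced dimension function on P,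
α a k-cycle on X and γ a tuple representing (c_0(E) ∩ α, …, c_{r+1}(E) ∩ α) through the
projective-bundle relation. Let L be an (r+1)-st exterior power of E (det E) and s a choice of
nonzero rational sections of L at all points. Then γ_1 ∼_rat c_1(L) ∩ α as (k − 1)-cycles, the right
side being the cycle of the divisors of the sections s along the components of α. (The published
statement is for vector bundles of any rank on separated schemes of finite type over a field; this
row takes E of rank r + 1 ≥ 1 on a locally Noetherian scheme with universally catenary local rings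
and a dimension function δ; in rank 0 both sides vanish.) -/
theorem result (X : Scheme.{u}) (δ : X → ℤ) (hX : Cyc.IsSetup X δ)
    (E : X.Modules) (r : ℕ) (hE : FlatMod.IsFinLocFreeOfRank (r + 1) E)
    (P : Scheme.{u}) (p : P ⟶ X) (O1 : P.Modules) (q : (Scheme.Modules.pullback p).obj E ⟶ O1)
    (hP : KRR.IsProjBundle p E O1 q) [IsProper p] (δP : P → ℤ) (hPs : Cyc.IsSetup P δP)
    (hδ : Cyc.DeltaCompat p δP δ) (k : ℤ) (α : AlgebraicCycle X ℤ) (hα : α ∈ Cyc.Zk X δ k)
    (γ : Fin (r + 2) → AlgebraicCycle X ℤ) (hγ : Cyc.IsChernCap p δ δP O1 (r + 1) k α γ)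
    (L : X.Modules) (hL : ExtPow.IsExtPow (r + 1) E L)
    (s : (ξ : X) → Cyc.secFibre L ξ) (hs : ∀ ξ, s ξ ≠ 0)
    (β : AlgebraicCycle X ℤ) (hβ : ⇑β = Cyc.c1CapFun δ L ⇑α s) :
    Cyc.RatEquiv δ (k - 1) (γ 1) β := by
  haveI := hX.1
  obtain ⟨c, hc, e⟩ := Lib.Cyc.CH.exists_isChern hX hE hP hPs hδ
  obtain ⟨A⟩ := Lib.Cyc.CH.nonempty_detAtlas_of_isExtPow hE hL
  have hinv := A.isInvertible
  obtain ⟨C, l, hinj, hl, hlen⟩ := hc.exists_split_one hX
  obtain ⟨A'⟩ := A.nonempty_pullback C.g (Lib.TensorMod.LocFree.rank_pullback C.g hE)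
  obtain ⟨A''⟩ := hl.nonempty_detAtlas
  rw [hlen] at A''
  obtain ⟨eL⟩ := A'.nonempty_iso A''
  obtain ⟨β', hβm, e1, e2⟩ := Lib.Cyc.CH.exists_c1 hX.2.2 hinv hα s hs
  have hβe : β = β' := Function.locallyFinsuppWithin.ext fun z => congrFun (hβ.trans e1.symm) z
  subst hβe
  have m1 : γ 1 ∈ Cyc.Zk X δ (k - 1) := by simpa using hγ.2.1 1
  rw [← Lib.Cyc.CH.cls_eq_iff hX.2.2 m1 hβm, ← e2]
  refine ((Lib.Cyc.CH.cls_congr (by simp) rfl).trans (e hγ hα 1)).trans ?_
  refine C.pl_cls_eq hinj ?_
  rw [hc.pl_eq C hl hlen, C.pl_c1 hinv,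
    show ((1 : Fin (r + 2)) : ℕ) = 1 from rfl, Lib.Cyc.CH.Sym.esymm_one,
    ← Lib.Cyc.CH.root_detList C.hY.2.2 C.hY hl.inv,
    ← Lib.Cyc.CH.root_congr C.hY.2.2 (PicLoc.isInvertible_pullback C.g hinv)
      (Lib.Cyc.CH.isInvertible_detList hl.inv) eL, Lib.Cyc.CH.coe_root,
    Lib.Cyc.CH.c1o_eq C.δY C.hY.2.2 (PicLoc.isInvertible_pullback C.g hinv)]

end Groth.Agent.S14508
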