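import Groth.Statements.S14511
import Mathlib.Algebra.MvPolynomial.Degrees
import Mathlib.Data.Finset.Powerset
import Mathlib.Algebra.BigOperators.Ring.Finset

set_option autoImplicit false
universe u
open CAlgX

namespace Groth.Agent.S14511

theorem monomial_sum {R : Type u} [CommRing R] {r : ℕ} (co : (Fin r →₀ ℕ) → R) (d : Fin r →₀ ℕ)
    (hd : d.sum (fun _ e => e) ≤ r) :
    (∑ J : Finset (Fin r), (-1 : R) ^ J.card *
      (co d * ∏ i ∈ d.support, (if i ∈ J then (-1 : R) else 0) ^ d i)) =
      if d = ∑ i : Fin r, Finsupp.single i 1 then co d else 0 := by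
  classical
  let g : Fin r → R := fun i => if d i = 0 then 1 else (-1) ^ d i
  let h : Fin r → R := fun i => if d i = 0 then 1 else 0
  have hJ : ∀ J : Finset (Fin r), (-1 : R) ^ J.card *
      (co d * ∏ i ∈ d.support, (if i ∈ J then (-1 : R) else 0) ^ d i) =
      co d * ((∏ i ∈ J, -g i) * ∏ i ∈ Finset.univ \ J, h i) := by
    intro J
    rw [Finset.prod_neg, mul_left_comm]
    congr 1
    rw [mul_assoc]
    congr 1
    have hg : ∏ i ∈ J, g i = ∏ i ∈ J, (if i ∈ J then g i else h i) :=
      Finset.prod_congr rfl fun i hi => by simp [hi]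
    have hh : ∏ i ∈ Finset.univ \ J, h i = ∏ i ∈ Finset.univ \ J, (if i ∈ J then g i else h i) :=
      Finset.prod_congr rfl fun i hi => by simp [(Finset.mem_sdiff.1 hi).2]
    rw [hg, hh, mul_comm, Finset.prod_sdiff (Finset.subset_univ J)]
    refine Finset.prod_subset (Finset.subset_univ _) ?_ |>.trans (Finset.prod_congr rfl ?_)
    · intro i _ hi
      simp [Finsupp.notMem_support_iff.1 hi]
    · intro i _
      by_cases h0 : d i = 0 <;> by_cases hJ : i ∈ J <;> simp [g, h, h0, hJ]
  simp only [hJ, ← Finset.mul_sum]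
  rw [← Finset.powerset_univ, ← Finset.prod_add]
  split_ifs with hd1
  · have hone : ∀ i, d i = 1 := fun i => by
      simp [hd1, Finsupp.finset_sum_apply, Finsupp.single_apply]
    simp [g, h, hone]
  · suffices ∃ i, d i = 0 by
      obtain ⟨i, hi⟩ := this
      rw [Finset.prod_eq_zero (Finset.mem_univ i) (by simp [g, h, hi]), mul_zero]
    by_contra hne
    simp only [not_exists] at hne
    apply hd1
    have hsum : ∑ i : Fin r, d i ≤ r := by
      rwa [Finsupp.sum_fintype _ _ (fun _ => rfl)] at hd
    have hone : ∀ i ∈ Finset.univ, (1 : ℕ) = d i := by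
      rw [← Finset.sum_eq_sum_iff_of_le fun i _ => Nat.one_le_iff_ne_zero.2 (hne i)]
      refine le_antisymm (Finset.sum_le_sum fun i _ => Nat.one_le_iff_ne_zero.2 (hne i)) ?_
      simpa using hsum
    ext i
    rw [← hone i (Finset.mem_univ i)]
    simp [Finsupp.finset_sum_apply, Finsupp.single_apply]


/-- Let R be a commutative ring and P ∈ R[x_1, …, x_r] a polynomial of total degree at most r. Then the
coefficient of the monomial x_1 ⋯ x_r in P equals Σ_J (−1)^{|J|} P(δ_J), the sum over all subsets J
⊆ {1, …, r} (the empty one included), where δ_J is the point with coordinate −1 at the indices in J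
and 0 at the others. -/
theorem result (R : Type u) [CommRing R] (r : ℕ)
    (P : MvPolynomial (Fin r) R) (hP : P.totalDegree ≤ r) :
    MvPolynomial.coeff (∑ i : Fin r, Finsupp.single i 1) P =
      ∑ J : Finset (Fin r), (-1 : R) ^ J.card * MvPolynomial.eval (fun j => if j ∈ J then (-1 : R) else 0) P := by
  classical
  conv_rhs =>
    arg 2; ext J
    rw [MvPolynomial.eval_eq, Finset.mul_sum]
  rw [Finset.sum_comm]
  have key : ∀ d ∈ P.support,
      (∑ J : Finset (Fin r), (-1 : R) ^ J.card *
        (P.coeff d * ∏ i ∈ d.support, (if i ∈ J then (-1 : R) else 0) ^ d i)) =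
        if d = ∑ i : Fin r, Finsupp.single i 1 then P.coeff d else 0 := by
    intro d hd
    exact monomial_sum P.coeff d ((Finset.le_sup (f := fun s => s.sum fun _ e => e) hd).trans hP)
  rw [Finset.sum_congr rfl key, Finset.sum_ite_eq']
  split_ifs with h
  · rfl
  · exact MvPolynomial.notMem_support_iff.1 h

end Groth.Agent.S14511
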