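import Groth.Statements.S14513
import Groth.Agent.Lib.CurveFF.Hyp
import Groth.Agent.Lib.Curves.TraceBound
-- import your own Groth.Agent.* helpers here

set_option autoImplicit false
universe u
open CategoryTheory CategoryTheory.Limits AlgebraicGeometry
open Curves

namespace Groth.Agent.S14513
open Groth.Agent.Lib
attribute [local instance] Curv2.stalkAlgebra


/-- Let k be an algebraically closed field and f : X → Y a finite, separable morphism of smooth
projective curves over k (X, Y integral, proper and smooth over k, of dimension one; f sends the
generic point to the generic point and the extension K(X)/K(Y) is separable). If X and Y have the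
same genus g = dim_k H^1(O) and g ≥ 2, then f is an isomorphism. (The published statement also
asserts g(X) ≥ g(Y) and that equality holds exactly when f is an isomorphism, both curves are
projective lines, or both have genus one; this row states the equality case for genus at least two.) -/
theorem result (k : Type u) [Field k] [IsAlgClosed k]
    (X : Scheme.{u}) [X.Over (Spec (CommRingCat.of k))] [IsIntegral X] [IsProper (X ↘ (Spec (CommRingCat.of k)))] [Smooth (X ↘ (Spec (CommRingCat.of k)))] (hdimX : topologicalKrullDim X = 1)
    (Y : Scheme.{u}) [Y.Over (Spec (CommRingCat.of k))] [IsIntegral Y] [IsProper (Y ↘ (Spec (CommRingCat.of k)))] [Smooth (Y ↘ (Spec (CommRingCat.of k)))] (hdimY : topologicalKrullDim Y = 1)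
    (f : X ⟶ Y) [IsFinite f] (hf : f ≫ (Y ↘ (Spec (CommRingCat.of k))) = (X ↘ (Spec (CommRingCat.of k))))
    (e : f (genericPoint X) = genericPoint Y)
    (hg : Curv2.genus k X = Curv2.genus k Y) (h2 : 2 ≤ Curv2.genus k Y) :
    letI := ((Y.presheaf.stalkSpecializes (specializes_of_eq e) ≫ f.stalkMap (genericPoint X)).hom).toAlgebra
    Algebra.IsSeparable Y.functionField X.functionField → IsIso f := by
  letI := ((Y.presheaf.stalkSpecializes (specializes_of_eq e) ≫ f.stalkMap (genericPoint X)).hom).toAlgebra
  intro hsep
  have h := CurveFF.curveHyp_of_smooth k hdimY
  haveI := Curves.TraceBound.curveCtx (k := k) hdimY.le fun y => by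
    rcases SmoothCurve.Curve.eq_genericPoint_or_isClosed h.dim y with rfl | hy
    · letI := (Field.toIsField Y.functionField).toField
      exact inferInstanceAs (IsPrincipalIdealRing Y.functionField)
    · haveI := h.dvr y hy
      infer_instance
  obtain ⟨-, -, -, hpos, he⟩ := Curves.TraceBound.euler_eq f hf e
  have hd := Curves.TraceBound.dg_nonpos f hf e hsep
  rw [Curves.Degree.euler_structureModule hdimY.le (Curves.GlobalSections.finrank_h0_structure k Y),
    Curves.Degree.euler_structureModule hdimX.le (Curves.GlobalSections.finrank_h0_structure k X), hg] at he
  apply Curves.TraceBound.isIso_of_gr_one (k := k) f e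
  nlinarith

end Groth.Agent.S14513
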