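import Groth.Statements.S14514
import Groth.Agent.Lib.VarDim.Fibre
-- import your own Groth.Agent.* helpers here

set_option autoImplicit false
universe u
open CategoryTheory CategoryTheory.Limits AlgebraicGeometry
open Variety

namespace Groth.Agent.S14514

set_option backward.isDefEq.respectTransparency.types false in
open Groth.Agent.Lib.VarDim.Basic Groth.Agent.Lib.VarDim.Fibre in
/-- Let k be an algebraically closed field and f : X → Y a morphism of algebraic varieties over k (X, Y
reduced, separated and of finite type over k) such that Y is irreducible and the image f(X) is dense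
in Y. Then X contains an irreducible closed subset Z with dim Z = dim Y such that f(Z) is dense in
Y. -/
theorem result (k : Type u) [Field k] [IsAlgClosed k]
    (X Y : Scheme.{u}) [X.Over (Spec (CommRingCat.of k))] [Y.Over (Spec (CommRingCat.of k))]
    [IsReduced X] [IsSeparated (X ↘ (Spec (CommRingCat.of k)))] [LocallyOfFiniteType (X ↘ (Spec (CommRingCat.of k)))] [QuasiCompact (X ↘ (Spec (CommRingCat.of k)))]
    [IsReduced Y] [IsSeparated (Y ↘ (Spec (CommRingCat.of k)))] [LocallyOfFiniteType (Y ↘ (Spec (CommRingCat.of k)))] [QuasiCompact (Y ↘ (Spec (CommRingCat.of k)))] [IrreducibleSpace Y]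
    (f : X ⟶ Y) (hf : f ≫ (Y ↘ (Spec (CommRingCat.of k))) = (X ↘ (Spec (CommRingCat.of k)))) [IsDominant f] :
    ∃ Z : Set X, IsClosed Z ∧ IsIrreducible Z ∧ topologicalKrullDim ↥Z = topologicalKrullDim Y ∧
      Dense (f '' Z) := by
  set η := genericPoint ↥Y
  set qY := Y ↘ Spec (CommRingCat.of k)
  set qX := X ↘ Spec (CommRingCat.of k)
  haveI : LocallyOfFiniteType f := by
    haveI : LocallyOfFiniteType (f ≫ qY) := by rw [hf]; infer_instance
    exact locallyOfFiniteType_of_comp f qY
  haveI : QuasiCompact f := by
    haveI : CompactSpace ↥X := QuasiCompact.compactSpace_of_compactSpace qX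
    haveI : IsLocallyNoetherian Y := LocallyOfFiniteType.isLocallyNoetherian qY
    exact quasiCompact_of_compactSpace f
  obtain ⟨x₀, hx₀⟩ := exists_eq_of_maximal f (f.denseRange η)
    fun y' hy' => (hy'.antisymm (genericPoint_specializes y')).eq
  haveI : LocallyOfFiniteType (X := f.fiber η) (Y := Spec (CommRingCat.of (Y.residueField η)))
      (f.fiberToSpecResidueField η) :=
    inferInstanceAs (LocallyOfFiniteType (pullback.snd f (Y.fromSpecResidueField η)))
  obtain ⟨w₀, -⟩ := Groth.Agent.Lib.Cyc.FieldDim.exists_fiberι_eq f x₀ η hx₀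
  haveI : JacobsonSpace ↥(f.fiber η) :=
    LocallyOfFiniteType.jacobsonSpace (f.fiberToSpecResidueField η)
  obtain ⟨w, -, hw⟩ := nonempty_inter_closedPoints (Z := (Set.univ : Set ↥(f.fiber η)))
    ⟨w₀, trivial⟩ isClosed_univ.isLocallyClosed
  set x := f.fiberι η w
  have hx : f x = η := Groth.Agent.Lib.Cyc.FieldDim.apply_fiberι f η w
  have h0 : tdAt f x = 0 := by
    have h1 := (pdim_eq_zero_iff (K := Y.residueField η) (f.fiberToSpecResidueField η) w).2 hw
    have e := congrArg Cardinal.toNat (Groth.Agent.Lib.Cyc.FieldDim.trdegAt_fiber f η w)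
    change _ = tdAt f x at e
    rw [← e]; exact h1
  refine ⟨closure {x}, isClosed_closure, isIrreducible_singleton.closure, ?_, ?_⟩
  · rw [topologicalKrullDim_isGenericPoint qX (ξ := x) isGenericPoint_closure,
      topologicalKrullDim_irreducibleSpace qY, pdim_eq_add qX qY f hf x, h0, add_zero, hx]
  · refine dense_iff_closure_eq.2 (Set.univ_subset_iff.1 ?_)
    rw [← (genericPoint_spec ↥Y).def]
    exact closure_mono (Set.singleton_subset_iff.2 ⟨x, subset_closure rfl, hx⟩)

end Groth.Agent.S14514
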