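import Groth.Statements.S14519
import Groth.Agent.Lib.CurveMaps.Basic
import Groth.Agent.H26.BirationalZMT

set_option autoImplicit false
universe u
open CategoryTheory CategoryTheory.Limits AlgebraicGeometry
open Curves

namespace Groth.Agent.S14519

/-- Let k be an algebraically closed field and f : X → Y a birational morphism over k between smooth
curves (X, Y integral, separated, of finite type and smooth over k, of dimension one; f sends the
generic point of X to that of Y and the induced map of function fields K(Y) → K(X) is bijective).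
Then f is an open immersion. -/
theorem result (k : Type u) [Field k] [IsAlgClosed k]
    (X Y : Scheme.{u}) [X.Over (Spec (CommRingCat.of k))] [Y.Over (Spec (CommRingCat.of k))]
    [IsIntegral X] [IsSeparated (X ↘ (Spec (CommRingCat.of k)))] [LocallyOfFiniteType (X ↘ (Spec (CommRingCat.of k)))] [QuasiCompact (X ↘ (Spec (CommRingCat.of k)))] [Smooth (X ↘ (Spec (CommRingCat.of k)))] (hdimX : topologicalKrullDim X = 1)
    [IsIntegral Y] [IsSeparated (Y ↘ (Spec (CommRingCat.of k)))] [LocallyOfFiniteType (Y ↘ (Spec (CommRingCat.of k)))] [QuasiCompact (Y ↘ (Spec (CommRingCat.of k)))] [Smooth (Y ↘ (Spec (CommRingCat.of k)))] (hdimY : topologicalKrullDim Y = 1)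
    (f : X ⟶ Y) (hf : f ≫ (Y ↘ (Spec (CommRingCat.of k))) = (X ↘ (Spec (CommRingCat.of k))))
    (e : f (genericPoint X) = genericPoint Y)
    (hbir : Function.Bijective (Y.presheaf.stalkSpecializes (specializes_of_eq e) ≫ f.stalkMap (genericPoint X)).hom) :
    IsOpenImmersion f := by
  have hN : ∀ y : Y, IsIntegrallyClosed (Y.presheaf.stalk y) := fun y => by
    rcases Groth.Agent.Lib.SmoothCurve.Curve.eq_genericPoint_or_isClosed hdimY y with h | h
    · subst h
      change IsIntegrallyClosed Y.functionField
      infer_instance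
    · have := Groth.Agent.Lib.SmoothCurve.Stalk.isDiscreteValuationRing_stalk (Y ↘ (Spec (CommRingCat.of k))) hdimY.le h
        (Groth.Agent.Lib.SmoothCurve.Stalk.ne_genericPoint_of_isClosed (by rw [hdimY]; exact one_ne_zero) h)
      infer_instance
  have : QuasiSeparatedSpace Y := quasiSeparatedSpace_of_quasiSeparated (Y ↘ (Spec (CommRingCat.of k)))
  have : LocallyQuasiFinite f := Groth.Agent.Lib.CurveMaps.Basic.locallyQuasiFinite _ _ f hdimX hdimY hf e
  have : LocallyOfFiniteType (f ≫ (Y ↘ (Spec (CommRingCat.of k)))) := hf ▸ inferInstance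
  have : LocallyOfFiniteType f := locallyOfFiniteType_of_comp f (Y ↘ (Spec (CommRingCat.of k)))
  have : IsSeparated (f ≫ (Y ↘ (Spec (CommRingCat.of k)))) := hf ▸ inferInstance
  have : IsSeparated f := IsSeparated.of_comp f (Y ↘ (Spec (CommRingCat.of k)))
  refine Groth.Agent.H26.BirationalZMT.isOpenImmersion f e ?_ hN
  have : IsIso (Y.presheaf.stalkSpecializes (specializes_of_eq e) ≫ f.stalkMap (genericPoint X)) :=
    (ConcreteCategory.isIso_iff_bijective _).mpr hbir
  have : IsIso (Y.presheaf.stalkSpecializes (specializes_of_eq e)) := by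
    exact ⟨Y.presheaf.stalkSpecializes (specializes_of_eq e.symm), by
      rw [TopCat.Presheaf.stalkSpecializes_comp, TopCat.Presheaf.stalkSpecializes_refl], by
      rw [TopCat.Presheaf.stalkSpecializes_comp, TopCat.Presheaf.stalkSpecializes_refl]⟩
  exact IsIso.of_isIso_comp_left (Y.presheaf.stalkSpecializes (specializes_of_eq e)) (f.stalkMap (genericPoint X))

end Groth.Agent.S14519
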