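import Groth.Statements.S14520
import Groth.Agent.Lib.SurfFactor85.Euler
import Groth.Agent.Lib.SurfFactor85.Mult
import Groth.Agent.Lib.SurfInt.PushIso
import Groth.Agent.Lib.Curves.Degree
-- import your own Groth.Agent.* helpers here

set_option autoImplicit false
universe u
open CategoryTheory CategoryTheory.Limits AlgebraicGeometry
open Surf

namespace Groth.Agent.S14520

open Groth.Agent.Lib
open Groth.Agent.Lib.Ideal.Prime (stalkIdeal stalkIdeal_eq gen gen_mem gen_specializes)

theorem stalkIdeal_gen {X : Scheme.{u}} (I : X.IdealSheafData) [IsIntegral I.subscheme] :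
    stalkIdeal I (gen I) = IsLocalRing.maximalIdeal (X.presheaf.stalk (gen I)) := by
  obtain ⟨U, hU, hxU, -⟩ :=
    exists_isAffineOpen_mem_and_subset (show gen I ∈ (⊤ : X.Opens) from trivial)
  rw [stalkIdeal_eq I ⟨U, hU⟩ hxU, ← Ideal.Prime.primeIdealOf_gen I ⟨U, hU⟩ hxU]
  letI := X.presheaf.algebra_section_stalk (U := U) ⟨_, hxU⟩
  haveI : IsLocalization.AtPrime (X.presheaf.stalk (gen I)) (hU.primeIdealOf ⟨gen I, hxU⟩).asIdeal :=
    hU.isLocalization_stalk ⟨_, hxU⟩
  exact IsLocalization.AtPrime.map_eq_maximalIdeal _ (X.presheaf.stalk (gen I))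

theorem euler_quot_ker {k : Type u} [Field k] {X C : Scheme.{u}} [X.Over (Spec (CommRingCat.of k))]
    (i : C ⟶ X) [IsClosedImmersion i] :
    letI : C.Over (Spec (CommRingCat.of k)) := ⟨i ≫ (X ↘ Spec (CommRingCat.of k))⟩
    Curv2.euler k X (_root_.ClSub.quotMod i.ker) = Curv2.euler k C (Coh.structureModule C) := by
  letI : C.Over (Spec (CommRingCat.of k)) := ⟨i ≫ (X ↘ Spec (CommRingCat.of k))⟩
  letI : i.image.Over (Spec (CommRingCat.of k)) := SurfInt.Surface.overSub (k := k) i.ker
  haveI : IsIso i.toImage := inferInstance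
  let φ : C ⟶ i.image := i.toImage
  have hφ : φ ≫ (i.image ↘ Spec (CommRingCat.of k)) = C ↘ Spec (CommRingCat.of k) :=
    i.toImage_imageι_assoc _
  haveI := TensorMod.QCohInv.isQCoh_structureModule C
  haveI := SurfInt.PushIso.isIso_unitToPush φ
  have e := @asIso _ _ _ _ (_root_.ClSub.unitToPush φ) (SurfInt.PushIso.isIso_unitToPush φ)
  exact (SurfInt.Surface.euler_quot (k := k) i.ker).trans
    ((Curves.Euler.euler_eq_of_iso e).trans (SurfInt.Push.euler_push φ hφ (Coh.structureModule C)))

theorem le_of_mul {X : Scheme.{u}} (E F : X.IdealSheafData) : E * F ≤ E ∧ E * F ≤ F :=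
  ⟨fun U => by rw [Scheme.IdealSheafData.ideal_mul, Pi.mul_apply]; exact _root_.Ideal.mul_le_left,
    fun U => by rw [Scheme.IdealSheafData.ideal_mul, Pi.mul_apply]; exact _root_.Ideal.mul_le_right⟩

theorem exists_decomp {k : Type u} [Field k] {Y : Scheme.{u}} [Y.Over (Spec (CommRingCat.of k))]
    [IsProper (Y ↘ Spec (CommRingCat.of k))] [IsIntegral Y] (hdim : topologicalKrullDim Y = 2)
    (hreg : ∀ y : Y, IsRegularLocalRing (Y.presheaf.stalk y)) (μ : Fin 2 → Y.IdealSheafData)
    {G : Y.IdealSheafData} (hG : BlowUp.IsEffCartierIdeal G)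
    (hall : ∀ (E : Y.IdealSheafData) [IsIntegral E.subscheme],
      topologicalKrullDim (E.support : Set Y) = 1 → (E.support : Set Y) ⊆ G.support → ∃ j, E = μ j) :
    ∃ γ : Fin 2 → ℕ, G = ∏ j, μ j ^ γ j := by
  classical
  haveI := Curves.GlobalSections.isNoetherian_of_proper k Y
  refine SurfInt.Mul.induction (Y ↘ Spec (CommRingCat.of k)) hdim hreg
    (P := fun G => (∀ (E : Y.IdealSheafData) [IsIntegral E.subscheme],
        topologicalKrullDim (E.support : Set Y) = 1 → (E.support : Set Y) ⊆ G.support → ∃ j, E = μ j) →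
      ∃ γ : Fin 2 → ℕ, G = ∏ j, μ j ^ γ j)
    (fun _ => ⟨0, (Finset.prod_eq_one fun j _ => pow_zero (μ j)).symm⟩)
    (fun E hint F hEd _ ih hm => ?_) hG hall
  haveI := hint
  obtain ⟨j₀, hj₀⟩ := hm E hEd (Scheme.IdealSheafData.support_antitone (le_of_mul E F).1)
  obtain ⟨γ, hγ⟩ := ih fun E' _ hd hs =>
    hm E' hd (hs.trans (Scheme.IdealSheafData.support_antitone (le_of_mul E F).2))
  refine ⟨γ + Pi.single j₀ 1, ?_⟩
  simp only [Pi.add_apply, pow_add, Finset.prod_mul_distrib]
  rw [Finset.prod_eq_single (f := fun j => μ j ^ (Pi.single j₀ 1 : Fin 2 → ℕ) j) j₀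
    (fun j _ hj => by rw [Pi.single_eq_of_ne hj, pow_zero])
    (fun h => absurd (Finset.mem_univ j₀) h), Pi.single_eq_same, pow_one, ← hγ, ← hj₀, mul_comm]

theorem euler_eq {k : Type u} [Field k] [IsAlgClosed k] {X : Scheme.{u}} [X.Over (Spec (CommRingCat.of k))]
    [IsProper (X ↘ Spec (CommRingCat.of k))] [IsIntegral X] (hdim : topologicalKrullDim X = 2)
    (C : Scheme.{u}) [c : C.Over (Spec (CommRingCat.of k))] [IsIntegral C] (hdC : topologicalKrullDim C = 1)
    (j : C ⟶ X) [IsClosedImmersion j] (hj : j ≫ (X ↘ Spec (CommRingCat.of k)) = C ↘ Spec (CommRingCat.of k))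
    (hI : BlowUp.IsEffCartierIdeal j.ker) :
    FGA.eulerCharLE k X (_root_.ClSub.idealMod j.ker) 2 =
      FGA.eulerCharLE k X (Coh.structureModule X) 2 - (1 - (Curv2.genus k C : ℤ)) := by
  haveI := Curves.GlobalSections.isNoetherian_of_proper k X
  obtain rfl : c = ⟨j ≫ (X ↘ Spec (CommRingCat.of k))⟩ := by
    obtain ⟨g⟩ := c
    exact congrArg _ hj.symm
  letI : C.Over (Spec (CommRingCat.of k)) := ⟨j ≫ (X ↘ Spec (CommRingCat.of k))⟩
  haveI : IsProper (C ↘ Spec (CommRingCat.of k)) :=
    inferInstanceAs (IsProper (j ≫ (X ↘ (Spec (CommRingCat.of k)))))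
  have hd2 : topologicalKrullDim X ≤ ((2 : ℕ) : WithBot ℕ∞) := by exact_mod_cast hdim.le
  have h := SurfInt.Effective.chi_quot (k := k) (Snapper.Finite.cohFinite k X) hd2
    (SurfInt.Effective.isInvertible_idealMod hI)
  have h2 := euler_quot_ker (k := k) j
  rw [Curves.Degree.euler_structureModule (k := k) hdC.le
    (Curves.GlobalSections.finrank_h0_structure k C)] at h2
  simp only [Snapper.Chi.euler_eq_eulerCharLE hd2] at h2
  linarith

/-- Let k be an algebraically closed field, X a smooth projective surface over k (integral, smooth over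
k, of dimension two, with a closed immersion over k into some projective space), P a closed point of
X with ideal m_P, f : X' → X the blow-up of X at P (universal property), and C ⊆ X a curve (an
integral closed subscheme of dimension one, closed immersion j) of multiplicity m = ord_P(C) at P:
the ideal of C is contained in m_P^m and not in m_P^{m+1}. Let C' ⊆ X' be the strict transform of C:
an integral closed subscheme of dimension one (closed immersion j') whose generic point is mapped by
f to the generic point of C. Then p_a(C') = p_a(C) − m(m−1)/2, written 2 p_a(C') + m(m−1) = 2 p_a(C)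
with p_a = dim_k H^1(O). -/
theorem result (k : Type u) [Field k] [IsAlgClosed k]
    (X : Scheme.{u}) [X.Over (Spec (CommRingCat.of k))] [IsIntegral X] [Smooth (X ↘ (Spec (CommRingCat.of k)))] (hdim : topologicalKrullDim X = 2)
    (hprojX : ∃ (N : ℕ) (ι : X ⟶ CohB1.ProjSpace N k), IsClosedImmersion ι ∧ ι ≫ CohB1.ProjSpace.toSpec N k = (X ↘ (Spec (CommRingCat.of k))))
    (P : X) (hP : IsClosed ({P} : Set X))
    (X' : Scheme.{u}) (f : X' ⟶ X) (hf : BlowUp.IsBlowUp f (Scheme.IdealSheafData.vanishingIdeal ⟨{P}, hP⟩))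
    (C : Scheme.{u}) [C.Over (Spec (CommRingCat.of k))] [IsIntegral C] (hdimC : topologicalKrullDim C = 1)
    (j : C ⟶ X) [IsClosedImmersion j] (hj : j ≫ (X ↘ (Spec (CommRingCat.of k))) = (C ↘ (Spec (CommRingCat.of k))))
    (m : ℕ) (hm : j.ker ≤ Scheme.IdealSheafData.vanishingIdeal ⟨{P}, hP⟩ ^ m)
    (hm' : ¬ j.ker ≤ Scheme.IdealSheafData.vanishingIdeal ⟨{P}, hP⟩ ^ (m + 1))
    (C' : Scheme.{u}) [C'.Over (Spec (CommRingCat.of k))] [IsIntegral C'] (hdimC' : topologicalKrullDim C' = 1)
    (j' : C' ⟶ X') [IsClosedImmersion j'] (hj' : j' ≫ f ≫ (X ↘ (Spec (CommRingCat.of k))) = (C' ↘ (Spec (CommRingCat.of k))))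
    (hgen : f (j' (genericPoint C')) = j (genericPoint C)) :
    2 * Curv2.genus k C' + m * (m - 1) = 2 * Curv2.genus k C := by
  classical
  obtain ⟨N, ι, hc, hι⟩ := hprojX
  haveI := hc
  haveI : IsProper (X ↘ Spec (CommRingCat.of k)) := by rw [← hι]; infer_instance
  haveI := Curves.GlobalSections.isNoetherian_of_proper k X
  letI : X'.Over (Spec (CommRingCat.of k)) := ⟨f ≫ (X ↘ (Spec (CommRingCat.of k)))⟩
  have hreg := SurfInt.NegDef.regular_of_smooth (k := k) (X := X)
  haveI := hreg P
  have hPd : ringKrullDim (X.presheaf.stalk P) = 2 :=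
    PointBlow96.stalk_dim hdim hP (X ↘ Spec (CommRingCat.of k))
  haveI := PointBlow96.isProper_blowUp hP hf
  haveI : IsProper (X' ↘ Spec (CommRingCat.of k)) :=
    inferInstanceAs (IsProper (f ≫ (X ↘ (Spec (CommRingCat.of k)))))
  haveI := Curves.GlobalSections.isNoetherian_of_proper k X'
  haveI := PointBlow96.isIntegral_X k hdim hP (σ := f) rfl hf
  have hdim' : topologicalKrullDim X' = 2 := PointBlow96.dim_X k hdim hP (σ := f) rfl hf
  set J := Scheme.IdealSheafData.vanishingIdeal (⟨{P}, hP⟩ : TopologicalSpace.Closeds X) with hJ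
  set Ω : X.Opens := ⟨{P}ᶜ, hP.isOpen_compl⟩
  have hΩ : J.support.compl = Ω := TopologicalSpace.Opens.ext (by
    show (J.support : Set X)ᶜ = ({P} : Set X)ᶜ
    rw [hJ, Scheme.IdealSheafData.coe_support_vanishingIdeal]; rfl)
  haveI hfΩ : IsIso (f ∣_ Ω) := hΩ ▸ Ideal.BlowUp.isIso_off_center hf
  have hreg' : ∀ x : X', IsRegularLocalRing (X'.presheaf.stalk x) := fun x => by
    by_cases hx : f x = P
    · exact SurfFactor85.Iso.isRegularLocalRing_blowUp_stalk f P hP hPd hf x hx
    · haveI := SurfFactor85.Iso.isIso_stalkMap_of_restrict f Ω x hx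
      haveI := hreg (f x)
      exact IsRegularLocalRing.of_ringEquiv
        (RingEquiv.ofBijective (f.stalkMap x).hom (ConcreteCategory.bijective_of_isIso _))
  have hsub : ∀ {Z W : Scheme.{u}} (g : Z ⟶ W) [IsClosedImmersion g] [IsIntegral Z],
      IsIntegral g.ker.subscheme := fun g _ _ => by
    haveI : IsIso g.toImage := inferInstance
    haveI : Nonempty g.image := ⟨g.toImage (Classical.arbitrary _)⟩
    exact isIntegral_of_isOpenImmersion (CategoryTheory.inv g.toImage)
  have hsd : ∀ {Z W : Scheme.{u}} (g : Z ⟶ W) [IsClosedImmersion g],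
      topologicalKrullDim Z = 1 → topologicalKrullDim (g.ker.support : Set W) = 1 := fun g _ h => by
    haveI : IsIso g.toImage := inferInstance
    rw [← SurfInt.Surface.dim_subscheme, ← h]
    exact (IsHomeomorph.topologicalKrullDim_eq _
      (Scheme.homeoOfIso (asIso g.toImage)).isHomeomorph).symm
  haveI := hsub j
  haveI := hsub j'
  have hCd := hsd j hdimC
  have hC'd := hsd j' hdimC'
  have hC : BlowUp.IsEffCartierIdeal j.ker :=
    SurfInt.Curve.isEffCartier (X ↘ Spec (CommRingCat.of k)) hdim hreg j.ker hCd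
  have hC' : BlowUp.IsEffCartierIdeal j'.ker :=
    SurfInt.Curve.isEffCartier (X' ↘ Spec (CommRingCat.of k)) hdim' hreg' j'.ker hC'd
  set E := BlowUp.exceptional f J with hE
  haveI hEi : IsIntegral E.subscheme := by
    obtain ⟨-, K, hK, e, -⟩ := SurfFactor85.Seq.isExcCurve f P hP hPd hf
    haveI := hK
    haveI : IsIntegral (CohB1.ProjSpace 1 K) := inferInstance
    haveI : Nonempty E.subscheme := ⟨e.hom (Classical.arbitrary _)⟩
    exact isIntegral_of_isOpenImmersion e.inv
  have hEs : ∀ y : X', y ∈ E.support ↔ f y = P := fun y => by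
    rw [hE, BlowUp.exceptional, Scheme.IdealSheafData.support_comap]
    exact Iff.of_eq (congrArg (fun s : Set X => f y ∈ s)
      (Flat55.ContractionUniversal.support_vanishingIdeal_point P hP))
  obtain ⟨hirr, hchain⟩ := Flat55.ContractionUniversal.fibre_irreducible f P hP hPd hf
  -- generic points
  have hg0 : ∀ {Z W : Scheme.{u}} (g : Z ⟶ W) [IsClosedImmersion g] [IsIntegral Z]
      [IsIntegral g.ker.subscheme], gen g.ker = g (genericPoint Z) := fun g _ _ _ => by
    refine ((gen_specializes g.ker (by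
      rw [← SetLike.mem_coe, Scheme.Hom.support_ker]; exact subset_closure ⟨_, rfl⟩)).antisymm ?_).eq
    have hg := gen_mem g.ker
    rw [← SetLike.mem_coe, Scheme.Hom.support_ker,
      g.isClosedEmbedding.isClosed_range.closure_eq] at hg
    obtain ⟨w, hw⟩ := hg
    rw [← hw]
    exact (genericPoint_specializes w).map g.continuous
  have hfg : f (gen j'.ker) = gen j.ker := by rw [hg0 j', hg0 j]; exact hgen
  have hclosed : ∀ (D : Scheme.{u}) [IsIntegral D] (z : D), topologicalKrullDim D ≤ 1 → z ≠ genericPoint D →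
      IsClosed ({z} : Set D) := fun D _ z h hz => by
    refine closure_eq_iff_isClosed.1 (Set.Subset.antisymm (fun w hw => ?_) subset_closure)
    by_contra hne
    have hzw : z ⤳ w := specializes_iff_mem_closure.2 hw
    have lt_of : ∀ {p q : D}, p ⤳ q → p ≠ q → q < p := fun {p q} h hne =>
      lt_of_le_not_ge h fun h' => hne (h.antisymm h').eq
    have h1 := Order.coheight_add_one_le (lt_of (genericPoint_specializes z) (Ne.symm hz))
    have h2 := Order.coheight_add_one_le (lt_of hzw (Ne.symm hne))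
    have h4 : (2 : ℕ∞) ≤ Order.coheight w :=
      calc (2 : ℕ∞) = 0 + 1 + 1 := by norm_num
        _ ≤ Order.coheight (genericPoint D) + 1 + 1 := by gcongr; exact zero_le
        _ ≤ Order.coheight z + 1 := by gcongr
        _ ≤ Order.coheight w := h2
    have h5 := (WithBot.coe_le_coe.mpr h4).trans
      ((SmoothCurve.Stalk.coheight_le_topologicalKrullDim w).trans h)
    norm_cast at h5
  have hPne : gen j.ker ≠ P := fun h => by
    have hall : ∀ c ∈ (j.ker.support : Set X), c = P := fun c hc =>
      h ▸ ((gen_specializes j.ker hc).mem_closed (show IsClosed ({gen j.ker} : Set X) from h ▸ hP) rfl)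
    haveI : Subsingleton (j.ker.support : Set X) := ⟨fun a b => Subtype.ext ((hall _ a.2).trans (hall _ b.2).symm)⟩
    have h0 := topologicalKrullDim_zero_of_discreteTopology (j.ker.support : Set X)
    rw [hCd] at h0
    exact absurd h0 (by decide)
  have hg'E : gen j'.ker ∉ E.support := fun h => hPne (hfg ▸ (hEs _).1 h)
  have hinj : ∀ a b : X', f a ≠ P → f a = f b → a = b := fun a b ha hab => by
    have h : ∀ w, Ω.ι ((f ∣_ Ω) w) = f w.1 := fun w =>
      congrArg (fun g : ((f ⁻¹ᵁ Ω : X'.Opens) : Scheme.{u}) ⟶ X => g w) (morphismRestrict_ι f Ω)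
    have hb : f b ≠ P := hab ▸ ha
    exact congrArg Subtype.val ((f ∣_ Ω).homeomorph.injective (a₁ := ⟨a, ha⟩) (a₂ := ⟨b, hb⟩)
      (Ω.ι.isOpenEmbedding.injective ((h ⟨a, ha⟩).trans (hab.trans (h ⟨b, hb⟩).symm))))
  set A := j.ker.comap f with hA
  have hAc : BlowUp.IsEffCartierIdeal A := Ideal.BlowUp.isEffCartier_comap_blowUp hf hC
  obtain ⟨γ, hγ⟩ := exists_decomp (k := k) hdim' hreg' ![j'.ker, E] hAc
    fun D _ hDd hsubD => by
      have hgD := hsubD (gen_mem D)
      rw [hA, Scheme.IdealSheafData.support_comap] at hgD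
      by_cases hD : f (gen D) = P
      · refine ⟨1, ?_⟩
        refine SurfInt.Curve.eq_of_gen_eq D E ?_
        have hgE : f (gen E) = P := (hEs _).1 (gen_mem E)
        have hne : ¬ IsClosed ({gen D} : Set X') := fun hcl => by
          have hall : ∀ c ∈ (D.support : Set X'), c = gen D := fun c hc =>
            (gen_specializes D hc).mem_closed hcl rfl
          haveI : Subsingleton (D.support : Set X') := ⟨fun a b => Subtype.ext ((hall _ a.2).trans (hall _ b.2).symm)⟩
          have h0 := topologicalKrullDim_zero_of_discreteTopology (D.support : Set X')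
          rw [hDd] at h0
          exact absurd h0 (by decide)
        obtain ⟨r, hr, hrne⟩ : ∃ r, gen D ⤳ r ∧ r ≠ gen D := by
          by_contra hcon
          push Not at hcon
          refine hne (closure_eq_iff_isClosed.1 (Set.Subset.antisymm (fun r hr => hcon r ?_) subset_closure))
          exact specializes_iff_mem_closure.2 hr
        have hrP : f r = P := by
          have := (hr.map f.continuous).mem_closed hP hD
          exact this
        rcases hchain (gen E) (gen D) r hgE hrP (gen_specializes E ((hEs _).2 hD)) hr with h | h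
        · exact h.symm
        · exact absurd h.symm hrne
      · refine ⟨0, SurfInt.Curve.eq_of_gen_eq D j'.ker ?_⟩
        refine hinj _ _ hD ?_
        rw [hfg]
        by_contra hne
        have hmem : f (gen D) ∈ (j.ker.support : Set X) := hgD
        rw [Scheme.Hom.support_ker, j.isClosedEmbedding.isClosed_range.closure_eq] at hmem
        obtain ⟨w, hw⟩ := hmem
        have hcw : IsClosed ({w} : Set C) := hclosed C w hdimC.le fun h => hne (by
          rw [← hw, h, hg0 j])
        have hcl : IsClosed ({f (gen D)} : Set X) := by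
          rw [← hw, ← Set.image_singleton]
          exact j.isClosedEmbedding.isClosedMap _ hcw
        have hall : ∀ c ∈ (D.support : Set X'), c = gen D := fun c hc =>
          (hinj _ _ hD (((gen_specializes D hc).map f.continuous).mem_closed hcl rfl).symm).symm
        haveI : Subsingleton (D.support : Set X') := ⟨fun a b => Subtype.ext ((hall _ a.2).trans (hall _ b.2).symm)⟩
        have h0 := topologicalKrullDim_zero_of_discreteTopology (D.support : Set X')
        rw [hDd] at h0
        exact absurd h0 (by decide)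
  simp only [Fin.prod_univ_two, Matrix.cons_val_zero, Matrix.cons_val_one] at hγ
  -- multiplicity one along the strict transform
  have hγ0 : γ 0 = 1 := by
    haveI : IsIso (f.stalkMap (gen j'.ker)) :=
      SurfFactor85.Iso.isIso_stalkMap_of_restrict f Ω _ (show f (gen j'.ker) ∈ Ω from fun h => hPne (hfg ▸ h))
    set M := IsLocalRing.maximalIdeal (X'.presheaf.stalk (gen j'.ker)) with hM
    have hl : stalkIdeal A (gen j'.ker) = M := by
      rw [hA, CartierDescent.stalkIdeal_comap]
      have h1 : stalkIdeal j.ker (f (gen j'.ker)) = IsLocalRing.maximalIdeal _ := by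
        rw [hfg]; exact stalkIdeal_gen j.ker
      rw [h1]
      exact IsLocalRing.map_maximalIdeal_of_surjective _
        (ConcreteCategory.bijective_of_isIso (f.stalkMap (gen j'.ker))).2
    have hEtop : ∀ n : ℕ, stalkIdeal (E ^ n) (gen j'.ker) = ⊤ := fun n => by
      rcases n with _ | n
      · rw [pow_zero, Scheme.IdealSheafData.one_eq_top]
        exact SurfFactor85.Mult.stalkIdeal_eq_top' (by rw [Scheme.IdealSheafData.support_top]; exact fun h => h)
      · rw [SurfInt.JPow.stalkIdeal_pow, SurfFactor85.Mult.stalkIdeal_eq_top' hg'E, _root_.Ideal.top_pow]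
    rw [hγ, SurfInt.Mul.stalkIdeal_mul, hEtop, _root_.Ideal.mul_top] at hl
    have hMne : M ≠ ⊤ := (IsLocalRing.maximalIdeal.isMaximal _).ne_top
    obtain h0 | h1 | h2 : γ 0 = 0 ∨ γ 0 = 1 ∨ 2 ≤ γ 0 := by omega
    · exfalso
      rw [h0, pow_zero, Scheme.IdealSheafData.one_eq_top, SurfFactor85.Mult.stalkIdeal_eq_top' (by rw [Scheme.IdealSheafData.support_top]; exact fun h => h)] at hl
      exact hMne hl.symm
    · exact h1
    · exfalso
      obtain ⟨n, hn⟩ : ∃ n, γ 0 = n + 1 + 1 := ⟨γ 0 - 2, by omega⟩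
      rw [hn, SurfInt.JPow.stalkIdeal_pow, stalkIdeal_gen j'.ker, ← hM] at hl
      have hbot : M = ⊥ := Submodule.eq_bot_of_le_smul_of_le_jacobson_bot M M (IsNoetherian.noetherian M)
        (by rw [smul_eq_mul, ← pow_two]; exact hl.ge.trans (_root_.Ideal.pow_le_pow_right (by omega)))
        (IsLocalRing.maximalIdeal_le_jacobson _)
      obtain ⟨U, hU, e, he, hUe⟩ := hC' (gen j'.ker)
      have hs := stalkIdeal_gen j'.ker
      rw [stalkIdeal_eq _ U hU, hUe, _root_.Ideal.map_span, Set.image_singleton, ← hM, hbot,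
        _root_.Ideal.span_singleton_eq_bot] at hs
      exact nonZeroDivisors.ne_zero (Ideal.EffCartier.germ_mem_nonZeroDivisors U.2 he _ hU) hs
  rw [hγ0, pow_one] at hγ
  have hJm : A ≤ E ^ m := by
    rw [hA, hE, BlowUp.exceptional, ← Ideal.Comap.comap_pow]
    exact Scheme.IdealSheafData.comap_mono f hm
  have hnot := SurfFactor85.Mult.not_comap_le f P hP hPd hf hC m hm hm'
  have hγ1 : γ 1 = m := by
    rcases lt_trichotomy (γ 1) m with h | h | h
    · exfalso
      have hgE' : gen E ∉ j'.ker.support := fun hmem => hg'E (by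
        rw [Ideal.Prime.gen_eq_of_gen_mem E hf.1 hC' hmem]; exact gen_mem E)
      obtain ⟨n, rfl⟩ : ∃ n, m = n + 1 := ⟨m - 1, by omega⟩
      have h1 := SurfFactor85.Mult.stalkIdeal_mono hJm (gen E)
      rw [hγ, SurfInt.Mul.stalkIdeal_mul, SurfFactor85.Mult.stalkIdeal_eq_top' hgE', _root_.Ideal.top_mul,
        SurfInt.JPow.stalkIdeal_pow] at h1
      obtain ⟨U, hU, e, he, hUe⟩ := hf.1 (gen E)
      have hs : stalkIdeal E (gen E) = _root_.Ideal.span {X'.presheaf.germ U.1 (gen E) hU e} := by
        rw [stalkIdeal_eq _ U hU, hUe, _root_.Ideal.map_span, Set.image_singleton]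
      have hd := Ideal.EffCartier.germ_mem_nonZeroDivisors U.2 he (gen E) hU
      set d := X'.presheaf.germ U.1 (gen E) hU e
      have hdu : ¬ IsUnit d := fun hu => by
        have ht := stalkIdeal_gen E
        rw [hs, _root_.Ideal.span_singleton_eq_top.2 hu] at ht
        exact (IsLocalRing.maximalIdeal.isMaximal _).ne_top ht.symm
      have hmem : d ^ γ 1 ∈ _root_.Ideal.span {d ^ (n + 1)} := by
        rw [← _root_.Ideal.span_singleton_pow, ← hs]
        refine h1 ?_
        rcases Nat.eq_zero_or_pos (γ 1) with h0 | h0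
        · rw [h0, pow_zero, pow_zero, Scheme.IdealSheafData.one_eq_top,
            SurfFactor85.Mult.stalkIdeal_eq_top' (by rw [Scheme.IdealSheafData.support_top]; exact fun h => h)]
          trivial
        · obtain ⟨q, hq⟩ : ∃ q, γ 1 = q + 1 := ⟨γ 1 - 1, by omega⟩
          rw [hq, SurfInt.JPow.stalkIdeal_pow, hs, _root_.Ideal.span_singleton_pow]
          exact _root_.Ideal.mem_span_singleton_self _
      rw [_root_.Ideal.mem_span_singleton] at hmem
      exact absurd ((pow_dvd_pow_iff (nonZeroDivisors.ne_zero hd) hdu).1 hmem) (by omega)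
    · exact h
    · exfalso
      refine hnot ?_
      rw [← hA, hγ]
      refine SurfFactor85.Mult.le_of_stalk fun y => ?_
      obtain ⟨q, hq⟩ : ∃ q, γ 1 = q + 1 := ⟨γ 1 - 1, by omega⟩
      rw [hq, SurfInt.Mul.stalkIdeal_mul, SurfInt.JPow.stalkIdeal_pow, SurfInt.JPow.stalkIdeal_pow]
      exact _root_.Ideal.mul_le_right.trans (_root_.Ideal.pow_le_pow_right (by omega))
  rw [hγ1] at hγ
  have key := SurfFactor85.Euler.two_mul_chi_strict k hdim hreg hP (σ := f) rfl hf hC hC' m
    (by rw [← hA, hγ])
  have hO := PointBlow96.eulerCharLE_structure k hdim hreg hP (σ := f) rfl hf 2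
  have e1 := euler_eq (k := k) hdim C hdimC j hj hC
  have e2 := euler_eq (k := k) hdim' C' hdimC' j' hj' hC'
  have hz : (2 * Curv2.genus k C' + m * (m - 1) : ℤ) = 2 * Curv2.genus k C := by linarith
  rcases Nat.eq_zero_or_pos m with h0 | h0
  · subst h0; push_cast at hz; omega
  · have hc : ((m * (m - 1) : ℕ) : ℤ) = (m : ℤ) * ((m : ℤ) - 1) := by
      rw [Nat.cast_mul, Nat.cast_sub h0, Nat.cast_one]
    omega

end Groth.Agent.S14520
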