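import Groth.Statements.S14523
import Mathlib

set_option autoImplicit false
universe u
open CategoryTheory CategoryTheory.Limits AlgebraicGeometry
open Variety

namespace Groth.Agent.S14523

theorem valuationRing_of_dim_le_one {O : Type u} [CommRing O] [IsDomain O] [IsLocalRing O] [IsNoetherianRing O]
    [IsIntegrallyClosed O] (h : ringKrullDim O ≤ 1) : ValuationRing O := by
  haveI : Ring.KrullDimLE 1 O := Ring.krullDimLE_iff.mpr h
  haveI : Ring.DimensionLEOne O := ⟨fun {p} hp0 hp => Ring.krullDimLE_one_iff_of_noZeroDivisors.mp ‹_› p hp0 hp⟩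
  haveI : IsDedekindDomain O := { }
  haveI : IsPrincipalIdealRing O := IsPrincipalIdealRing.of_finite_maximals
    ((Set.finite_singleton (IsLocalRing.maximalIdeal O)).subset fun I hI => IsLocalRing.eq_maximalIdeal hI)
  exact ValuationRing.iff_local_bezout_domain.mpr ⟨inferInstance, inferInstance⟩


/-- Let k be an algebraically closed field and f : X → Y a proper, birational morphism over k of
irreducible varieties (X, Y integral, separated and of finite type over k; f restricts to an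
isomorphism over some nonempty open subset of Y), with Y normal (all local rings integrally closed).
Let U ⊆ Y be the largest open subset over which f is an isomorphism (the domain of f^{-1}). Then
codim_Y(Y ∖ U) ≥ 2: for every point y of Y whose local ring has Krull dimension at most one, f
restricts to an isomorphism over some open neighbourhood of y. -/
theorem result (k : Type u) [Field k] [IsAlgClosed k]
    (X Y : Scheme.{u}) [X.Over (Spec (CommRingCat.of k))] [Y.Over (Spec (CommRingCat.of k))]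
    [IsIntegral X] [IsSeparated (X ↘ (Spec (CommRingCat.of k)))] [LocallyOfFiniteType (X ↘ (Spec (CommRingCat.of k)))] [QuasiCompact (X ↘ (Spec (CommRingCat.of k)))]
    [IsIntegral Y] [IsSeparated (Y ↘ (Spec (CommRingCat.of k)))] [LocallyOfFiniteType (Y ↘ (Spec (CommRingCat.of k)))] [QuasiCompact (Y ↘ (Spec (CommRingCat.of k)))] (hY : ∀ y : Y, IsIntegrallyClosed (Y.presheaf.stalk y))
    (f : X ⟶ Y) (hf : f ≫ (Y ↘ (Spec (CommRingCat.of k))) = (X ↘ (Spec (CommRingCat.of k)))) [IsProper f]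
    (hbir : ∃ V : Y.Opens, (V : Set Y).Nonempty ∧ IsIso (f ∣_ V))
    (y : Y) (hy : ringKrullDim (Y.presheaf.stalk y) ≤ 1) :
    ∃ V : Y.Opens, y ∈ V ∧ IsIso (f ∣_ V) := by
  haveI : IsLocallyNoetherian Y := LocallyOfFiniteType.isLocallyNoetherian (Y ↘ (Spec (CommRingCat.of k)))
  haveI : IsIntegrallyClosed (Y.presheaf.stalk y) := hY y
  haveI : ValuationRing (Y.presheaf.stalk y) := valuationRing_of_dim_le_one hy
  obtain ⟨V, hVne, hV⟩ := hbir
  haveI := hV
  have hηV : genericPoint Y ∈ V := ((genericPoint_spec Y).mem_open_set_iff V.isOpen).mpr (by simpa using hVne)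
  let g : V.toScheme ⟶ X := inv (f ∣_ V) ≫ (f ⁻¹ᵁ V).ι
  have hg : g ≫ f = V.ι := by
    show (inv (f ∣_ V) ≫ (f ⁻¹ᵁ V).ι) ≫ f = V.ι
    rw [Category.assoc, IsIso.inv_comp_eq, morphismRestrict_ι]
  let S : ValuativeCommSq f :=
    { R := Y.presheaf.stalk y
      commRing := (Y.presheaf.stalk y).commRing
      domain := inferInstance
      valuationRing := inferInstance
      K := Y.functionField
      i₁ := V.fromSpecStalkOfMem (genericPoint Y) hηV ≫ g
      i₂ := Y.fromSpecStalk y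
      commSq := ⟨by
        rw [Category.assoc, hg, Scheme.Opens.fromSpecStalkOfMem_ι]
        exact (Scheme.SpecMap_stalkSpecializes_fromSpecStalk (X := Y) (x := genericPoint Y) (y := y) ((genericPoint_spec Y).specializes trivial)).symm⟩ }
  have hex : ValuativeCriterion.Existence f := by
    have := (UniversallyClosed.eq_valuativeCriterion ▸ (inferInstance : UniversallyClosed f) :
      (ValuativeCriterion.Existence ⊓ @QuasiCompact) f)
    exact this.1
  obtain ⟨⟨φ, -, hφ⟩⟩ := (hex S).exists_lift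
  obtain ⟨U, hyU, s, -, hs⟩ := spread_out_of_isGermInjective' (sX := 𝟙 Y) (sY := f) (x := y) φ
    (by rw [Category.comp_id]; exact hφ)
  rw [Category.comp_id] at hs
  refine ⟨U, hyU, ?_⟩
  have hsub : Set.range s.base ⊆ Set.range (f ⁻¹ᵁ U).ι.base := by
    rintro _ ⟨a, rfl⟩
    rw [Scheme.Opens.range_ι]
    show f.base (s.base a) ∈ U
    rw [← Scheme.Hom.comp_apply, hs]
    exact a.2
  let s' := IsOpenImmersion.lift (f ⁻¹ᵁ U).ι s hsub
  have hs' : s' ≫ (f ⁻¹ᵁ U).ι = s := IsOpenImmersion.lift_fac _ _ _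
  refine ⟨⟨s', ?_, ?_⟩⟩
  · rw [← cancel_mono (f ⁻¹ᵁ U).ι, Category.assoc, hs', Category.id_comp]
    have hover : ((f ∣_ U) ≫ s) ≫ f = (f ⁻¹ᵁ U).ι ≫ f := by
      rw [Category.assoc, hs, morphismRestrict_ι]
    let W : X.Opens := f ⁻¹ᵁ U ⊓ f ⁻¹ᵁ V
    rcases isEmpty_or_nonempty ↥(f ⁻¹ᵁ U) with hE | ⟨⟨x₀⟩⟩
    · haveI : IsEmpty ↑(f ⁻¹ᵁ U).toScheme := hE
      exact isInitialOfIsEmpty.hom_ext _ _
    haveI : Nonempty ↑(f ⁻¹ᵁ U).toScheme := ⟨x₀⟩
    haveI : IsIntegral (f ⁻¹ᵁ U).toScheme := isIntegral_of_isOpenImmersion (f ⁻¹ᵁ U).ι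
    haveI : IsDominant (X.homOfLE (inf_le_left : W ≤ f ⁻¹ᵁ U)) := by
      refine ⟨(X.homOfLE (inf_le_left : W ≤ f ⁻¹ᵁ U)).isOpenEmbedding.isOpen_range.dense ?_⟩
      obtain ⟨v, hv⟩ := hVne
      obtain ⟨a, ha⟩ : ∃ a : X, f.base a ∈ V :=
        ⟨g.base ⟨v, hv⟩, by show (g ≫ f).base ⟨v, hv⟩ ∈ V; rw [hg]; exact hv⟩
      obtain ⟨w, hw1, hw2⟩ := nonempty_preirreducible_inter (X := X) (s := ((f ⁻¹ᵁ U : X.Opens) : Set X)) (t := ((f ⁻¹ᵁ V : X.Opens) : Set X)) (f ⁻¹ᵁ U).isOpen (f ⁻¹ᵁ V).isOpen ⟨(x₀ : X), x₀.2⟩ ⟨a, ha⟩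
      exact ⟨_, ⟨(⟨w, hw1, hw2⟩ : W), rfl⟩⟩
    refine ext_of_isDominant_of_isSeparated f hover (X.homOfLE (inf_le_left : W ≤ f ⁻¹ᵁ U)) ?_
    rw [Scheme.homOfLE_ι]
    have hr : ∀ m : W.toScheme ⟶ X, m ≫ f = W.ι ≫ f → Set.range m.base ⊆ Set.range (f ⁻¹ᵁ V).ι.base := by
      intro m hm
      rintro _ ⟨a, rfl⟩
      rw [Scheme.Opens.range_ι]
      show f.base (m.base a) ∈ V
      rw [← Scheme.Hom.comp_apply, hm, Scheme.Hom.comp_apply]
      exact a.2.2
    have h1 : (X.homOfLE (inf_le_left : W ≤ f ⁻¹ᵁ U) ≫ (f ∣_ U) ≫ s) ≫ f = W.ι ≫ f := by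
      rw [Category.assoc, hover, ← Category.assoc, Scheme.homOfLE_ι]
    rw [← IsOpenImmersion.lift_fac (f ⁻¹ᵁ V).ι _ (hr _ h1), ← IsOpenImmersion.lift_fac (f ⁻¹ᵁ V).ι W.ι (hr _ rfl)]
    congr 1
    rw [← cancel_mono (f ∣_ V), ← cancel_mono V.ι, Category.assoc, Category.assoc, morphismRestrict_ι,
      IsOpenImmersion.lift_fac_assoc, IsOpenImmersion.lift_fac_assoc, h1]
  · rw [← cancel_mono U.ι, Category.assoc, morphismRestrict_ι, ← Category.assoc, hs', hs, Category.id_comp]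

end Groth.Agent.S14523
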