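import Groth.Statements.S14525
import Groth.Agent.Lib.SurfInt.Growth
import Groth.Agent.Lib.Curves.GlobalSections

set_option autoImplicit false
universe u
open CategoryTheory CategoryTheory.Limits AlgebraicGeometry
open Surf

namespace Groth.Agent.S14525

/-- Let k be an algebraically closed field, X a smooth projective surface over k (integral, smooth over
k, of dimension two, with a closed immersion over k into some projective space), L an invertible
O_X-module with tensor inverse L' such that (L·L) > 0, and M an ample invertible module with tensor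
inverse M'; intersection numbers are the alternating Euler-characteristic sums in the inverses (the
prelude's FGA.intNum, so (L·L) is computed in L', L' and (L·M) in L', M'). Then (L·M) ≠ 0; if (L·M)
> 0 there is c > 0 with dim_k H^0(X, L^{⊗m}) > c·m² for all large m, and if (L·M) < 0 the same holds
for L' in place of L. -/
theorem result (k : Type u) [Field k] [IsAlgClosed k]
    (X : Scheme.{u}) [X.Over (Spec (CommRingCat.of k))] [IsIntegral X] [Smooth (X ↘ (Spec (CommRingCat.of k)))] (hdim : topologicalKrullDim X = 2)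
    (hprojX : ∃ (N : ℕ) (ι : X ⟶ CohB1.ProjSpace N k), IsClosedImmersion ι ∧ ι ≫ CohB1.ProjSpace.toSpec N k = (X ↘ (Spec (CommRingCat.of k))))
    (L L' : X.Modules) (hL : PicF.IsInvertible L) (hLL' : ClSub.IsInverseOf L L')
    (hpos : 0 < FGA.intNum k X 2 ![L', L'] (Coh.structureModule X))
    (M M' : X.Modules) (hM : CohB1.IsAmple M) (hMM' : ClSub.IsInverseOf M M') :
    FGA.intNum k X 2 ![L', M'] (Coh.structureModule X) ≠ 0 ∧
    (0 < FGA.intNum k X 2 ![L', M'] (Coh.structureModule X) →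
      ∃ c : ℚ, 0 < c ∧ ∃ m₀ : ℕ, ∀ m : ℕ, m₀ ≤ m →
        c * (m : ℚ) ^ 2 < (Module.finrank k (Coh.HH X (CohB1.tensorPow L m) 0) : ℚ)) ∧
    (FGA.intNum k X 2 ![L', M'] (Coh.structureModule X) < 0 →
      ∃ c : ℚ, 0 < c ∧ ∃ m₀ : ℕ, ∀ m : ℕ, m₀ ≤ m →
        c * (m : ℚ) ^ 2 < (Module.finrank k (Coh.HH X (CohB1.tensorPow L' m) 0) : ℚ)) := by
  obtain ⟨N, ι, hι, hιs⟩ := hprojX
  haveI := hι
  haveI := Lib.SurfInt.ProjSurf.isProper ι hιs
  haveI := Lib.Curves.GlobalSections.isNoetherian_of_proper k X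
  obtain ⟨eL⟩ := hLL'
  obtain ⟨eM⟩ := hMM'
  have hL' : PicF.IsInvertible L' :=
    Lib.TensorMod.TensorInv.isInvertible_of_tensor_iso (Lib.TensorMod.Basic.comm _ _ ≪≫ eL)
  have hM' : PicF.IsInvertible M' :=
    Lib.TensorMod.TensorInv.isInvertible_of_tensor_iso (Lib.TensorMod.Basic.comm _ _ ≪≫ eM)
  have hfin := Lib.Snapper.Finite.cohFinite k X
  have hreg := Lib.SurfInt.NegDef.regular_of_smooth (k := k) (X := X)
  have hO := Lib.Snapper.Twist.isCoh_structureModule X
  have hLneg : ∀ P : X.Modules, PicF.IsInvertible P → FGA.intNum k X 2 ![L', P] (Coh.structureModule X) =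
      - FGA.intNum k X 2 ![L, P] (Coh.structureModule X) := fun P hP =>
    Lib.Snapper.IntNum.intNum_pair_inverse hfin hdim.le hL hL' eL hP hO
  have hMneg : ∀ P : X.Modules, PicF.IsInvertible P → FGA.intNum k X 2 ![P, M'] (Coh.structureModule X) =
      - FGA.intNum k X 2 ![P, M] (Coh.structureModule X) := fun P hP => by
    rw [Lib.Snapper.IntNum.intNum_pair_comm P M', Lib.Snapper.IntNum.intNum_pair_comm P M,
      Lib.Snapper.IntNum.intNum_pair_inverse hfin hdim.le hM.1 hM' eM hP hO]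
  have hLL : FGA.intNum k X 2 ![L', L'] (Coh.structureModule X) =
      FGA.intNum k X 2 ![L, L] (Coh.structureModule X) := by
    rw [hLneg L' hL', Lib.Snapper.IntNum.intNum_pair_comm L L', hLneg L hL, neg_neg]
  have hLM : FGA.intNum k X 2 ![L', M'] (Coh.structureModule X) =
      FGA.intNum k X 2 ![L, M] (Coh.structureModule X) := by
    rw [hMneg L' hL', hLneg M hM.1, neg_neg]
  have main : ∀ A : X.Modules, PicF.IsInvertible A → 0 < FGA.intNum k X 2 ![A, A] (Coh.structureModule X) →
      0 < FGA.intNum k X 2 ![A, M] (Coh.structureModule X) →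
      ∃ c : ℚ, 0 < c ∧ ∃ m₀ : ℕ, ∀ m : ℕ, m₀ ≤ m →
        c * (m : ℚ) ^ 2 < (Module.finrank k (Coh.HH X (CohB1.tensorPow A m) 0) : ℚ) := by
    intro A hA hAA hAM
    obtain ⟨m₀, hm₀⟩ := Lib.SurfInt.Growth.exists_growth hdim hreg hM hA hAM hAA
    refine ⟨(FGA.intNum k X 2 ![A, A] (Coh.structureModule X) : ℚ) / 4,
      div_pos (Int.cast_pos.mpr hAA) four_pos, m₀, fun m hm => ?_⟩
    have h := hm₀ m hm
    rw [div_mul_eq_mul_div, div_lt_iff₀ (by norm_num : (0 : ℚ) < 4), mul_comm _ (4 : ℚ)]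
    exact_mod_cast h
  refine ⟨fun h0 => ?_, fun h => main L hL (hLL ▸ hpos) (hLM ▸ h), fun h => main L' hL' hpos ?_⟩
  · have := Lib.SurfInt.Hodge.intNum_self_nonpos hfin hdim hreg hL hM (hLM ▸ h0)
    linarith
  · rw [hLneg M hM.1]
    linarith

end Groth.Agent.S14525
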