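import Groth.Statements.S14535

import Groth.Agent.Lib.GrpSch.TorsorPoint
import Groth.Agent.H60.AffQuot.Action
import Groth.Agent.Lib.GrpQ.Affinization
import Groth.Agent.Lib.TorsorSch.Basic
import Groth.Agent.Lib.Tori.AffineDescent
import Groth.Agent.H1.Hopf

set_option autoImplicit false
universe u
open CategoryTheory MonoidalCategory CartesianMonoidalCategory MonObj GrpObj AlgebraicGeometry
open PrincBund

namespace Groth.Agent.S14535

open MonoidalCategory CartesianMonoidalCategory MonObj Limits TensorProduct CoactBr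
open Groth.Agent Groth.Agent.Lib

variable {k : Type u} [Field k]

/-- An affine scheme over a field is a spectrum. -/
theorem exists_eX (Y : Over (Spec (CommRingCat.of k))) [IsAffine Y.left] :
    ∃ (R : Type u) (_ : CommRing R) (_ : Algebra k R), Nonempty (Y ≅ sp k R) := by
  let φ : CommRingCat.of k ⟶ Γ(Y.left, ⊤) := (Scheme.ΓSpecIso (CommRingCat.of k)).inv ≫ Y.hom.appTop
  letI : Algebra k Γ(Y.left, ⊤) := φ.hom.toAlgebra
  refine ⟨Γ(Y.left, ⊤), inferInstance, inferInstance, ⟨Over.isoMk Y.left.isoSpec ?_⟩⟩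
  change Y.left.isoSpec.hom ≫ Spec.map φ = Y.hom
  rw [Spec.map_comp, Scheme.isoSpec_hom, ← Category.assoc, ← Scheme.toSpecΓ_naturality, Category.assoc]
  rw [show (Spec (CommRingCat.of k)).toSpecΓ ≫ Spec.map (Scheme.ΓSpecIso (CommRingCat.of k)).inv = 𝟙 _ by
    rw [← Spec.map_id]; simp [← Spec.map_comp]]
  exact Category.comp_id _

/-- A pseudo-torsor with a point in a field under an affine group is affine and nonempty. -/
theorem isAffine_torsor {G P : Over (Spec (CommRingCat.of k))} [GrpObj G] [IsAffine G.left]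
    (a : AlgGrp.Action G P) (hP : NonAbH1.IsTorsorFor Scheme.fpqcPrecoverage a) :
    IsAffine P.left ∧ Nonempty ↥P.left := by
  obtain ⟨hp, R, hR, hs⟩ := hP
  obtain ⟨S', f, hf, y⟩ : ∃ (S' : Scheme.{u}) (f : S' ⟶ Spec (CommRingCat.of k)), R f ∧ Nonempty ↥S' := by
    obtain ⟨I, Y, f, rfl⟩ := R.exists_eq_ofArrows
    obtain ⟨i, y, -⟩ := ((Scheme.ofArrows_mem_precoverage_iff (P := @Flat)).1 hR.2).1 (IsLocalRing.closedPoint k)
    exact ⟨Y i, f i, ⟨i⟩, ⟨y⟩⟩
  obtain ⟨y⟩ := y
  obtain ⟨s, hs'⟩ := hs f hf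
  let T : Over (Spec (CommRingCat.of k)) := Over.mk (S'.fromSpecResidueField y ≫ f)
  haveI : IsAffine T.left := inferInstanceAs (IsAffine (Spec _))
  let sT : T ⟶ P := Over.homMk (S'.fromSpecResidueField y ≫ s) (by
    change (S'.fromSpecResidueField y ≫ s) ≫ P.hom = S'.fromSpecResidueField y ≫ f
    rw [Category.assoc, hs'])
  have hiso := TorsorSch.Basic.isIso_triv a hp sT
  haveI : IsAffine (G ⊗ T).left := GrpQ.Affinization.isAffine_tensor G T
  haveI : IsAffine (P ⊗ T).left := by
    haveI := hiso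
    haveI : IsIso (inv (TorsorSch.Basic.triv a sT)).left := inferInstanceAs (IsIso ((Over.forget _).map (inv (TorsorSch.Basic.triv a sT))))
    exact IsAffine.of_isIso (inv (TorsorSch.Basic.triv a sT)).left
  haveI : Surjective T.hom :=
    ⟨fun z => ⟨IsLocalRing.closedPoint (S'.residueField y), Subsingleton.elim (α := Spec (CommRingCat.of k)) _ _⟩⟩
  haveI : Flat T.hom := by
    obtain ⟨φ, hφ⟩ := Spec.map_surjective (R := CommRingCat.of k) (S := S'.residueField y) T.hom
    rw [← hφ, HasRingHomProperty.Spec_iff (P := @Flat)]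
    letI := φ.hom.toAlgebra
    exact (inferInstance : Module.Flat k (S'.residueField y))
  refine ⟨?_, ⟨s y⟩⟩
  haveI : IsAffine (pullback P.hom T.hom) := ‹IsAffine (P ⊗ T).left›
  exact Tori.AffineDescent.isAffine_of_isPullback (IsPullback.of_hasPullback P.hom T.hom)

variable {A : Type u} [CommRing A] [HopfAlgebra k A] {G X : Over (Spec (CommRingCat.of k))} [GrpObj G]
  (e : G ≅ sp k A) [IsMonHom e.hom] {R : Type u} [CommRing R] [Algebra k R] (eX : X ≅ sp k R)
  (a : AlgGrp.Action G X)

theorem isIso_pairPt : IsIso (lift (H60.AffQuot.xPt eX (Algebra.TensorProduct.includeLeft : R →ₐ[k] R ⊗[k] R))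
    (H60.AffQuot.xPt eX Algebra.TensorProduct.includeRight)) := by
  letI : (algSpec (CommRingCat.of k)).Braided := braidedAlgSpec
  have h : lift (pt (Algebra.TensorProduct.includeLeft : R →ₐ[k] R ⊗[k] R)) (pt Algebra.TensorProduct.includeRight) ≫
      Functor.LaxMonoidal.μ (algSpec (CommRingCat.of k)) (Opposite.op (.of k R)) (Opposite.op (.of k R)) = 𝟙 _ := by
    rw [lift_pt_pt, Algebra.TensorProduct.lift_includeLeft_includeRight, pt_id]
  have h' : lift (H60.AffQuot.xPt eX (Algebra.TensorProduct.includeLeft : R →ₐ[k] R ⊗[k] R))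
      (H60.AffQuot.xPt eX Algebra.TensorProduct.includeRight) =
      lift (pt (Algebra.TensorProduct.includeLeft : R →ₐ[k] R ⊗[k] R))
        (pt Algebra.TensorProduct.includeRight) ≫ (eX.inv ⊗ₘ eX.inv) := by
    rw [lift_map]
    rfl
  rw [h']
  haveI : IsIso (lift (pt (Algebra.TensorProduct.includeLeft : R →ₐ[k] R ⊗[k] R))
      (pt Algebra.TensorProduct.includeRight)) := by
    rw [show lift (pt (Algebra.TensorProduct.includeLeft : R →ₐ[k] R ⊗[k] R))
      (pt Algebra.TensorProduct.includeRight) = (Functor.Monoidal.μIso (algSpec (CommRingCat.of k))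
        (Opposite.op (CommAlgCat.of k R)) (Opposite.op (CommAlgCat.of k R))).inv from
      (Iso.comp_hom_eq_id _).1 h]
    exact Iso.isIso_inv _
  infer_instance

theorem bijective_shear (hp : NonAbH1.IsPseudoTorsorSch a) :
    Function.Bijective (GrpSch.TorsorPoint.shear (H60.AffQuot.coact e eX a)) := by
  let ρ := H60.AffQuot.coact e eX a
  let q := lift (H60.AffQuot.xPt eX (Algebra.TensorProduct.includeLeft : R →ₐ[k] R ⊗[k] R))
    (H60.AffQuot.xPt eX Algebra.TensorProduct.includeRight)
  haveI : IsIso q := isIso_pairPt eX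
  haveI : IsIso (lift a.act (snd G X)) := hp
  have h1 : pt (GrpSch.TorsorPoint.shear ρ) ≫ q = H60.AffQuot.prodPt e eX ≫ lift a.act (snd G X) := by
    rw [comp_lift, comp_lift, H60.AffQuot.pt_xPt, H60.AffQuot.pt_xPt]
    congr 1
    · rw [H60.AffQuot.prodPt, H60.AffQuot.act_rule, Algebra.TensorProduct.lift_includeLeft_includeRight,
        AlgHom.id_comp]
      congr 1
      ext r
      exact GrpSch.TorsorPoint.shear_tmul_one ρ r
    · rw [H60.AffQuot.prodPt, lift_snd]
      congr 1
      ext r
      change GrpSch.TorsorPoint.shear ρ ((1 : R) ⊗ₜ[k] r) = _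
      rw [GrpSch.TorsorPoint.shear_tmul, map_one, _root_.one_mul]
      rfl
  haveI : IsIso (pt (GrpSch.TorsorPoint.shear ρ) ≫ q) := h1 ▸ inferInstance
  haveI : IsIso (pt (GrpSch.TorsorPoint.shear ρ)) := IsIso.of_isIso_comp_right _ q
  obtain ⟨ψ, hψ⟩ := H60.AffQuot.exists_pt (inv (pt (GrpSch.TorsorPoint.shear ρ)))
  have e1 : ψ.comp (GrpSch.TorsorPoint.shear ρ) = AlgHom.id k _ := pt_injective (by
    rw [pt_comp, hψ, IsIso.inv_hom_id, pt_id])
  have e2 : (GrpSch.TorsorPoint.shear ρ).comp ψ = AlgHom.id k _ := pt_injective (by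
    rw [pt_comp, hψ, IsIso.hom_inv_id, pt_id])
  exact Function.bijective_iff_has_inverse.2
    ⟨ψ, fun z => AlgHom.congr_fun e1 z, fun z => AlgHom.congr_fun e2 z⟩

/-- Let k be an algebraically closed field and G an affine group scheme over k, not necessarily of
finite type. Then every principal G-bundle over Spec k, that is every k-scheme with a G-action which
is a pseudo-torsor and acquires sections on the members of some fpqc covering family of Spec k, is
trivial: it has a k-point. -/
theorem result (k : Type u) [Field k] [IsAlgClosed k]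
    (G : Over (Spec (CommRingCat.of k))) [GrpObj G] [IsAffine G.left]
    (P : Over (Spec (CommRingCat.of k))) (a : AlgGrp.Action G P)
    (hP : NonAbH1.IsTorsorFor Scheme.fpqcPrecoverage a) :
    Nonempty (𝟙_ (Over (Spec (CommRingCat.of k))) ⟶ P) := by
  obtain ⟨hA, hne⟩ := isAffine_torsor a hP
  obtain ⟨H, _, _, e, he⟩ := Groth.Agent.H1.Hopf.exists_iso G
  haveI : IsMonHom e.hom := he
  obtain ⟨R, _, _, ⟨eX⟩⟩ := exists_eX P
  haveI : Nontrivial R := by
    obtain ⟨p⟩ := hne
    exact PrimeSpectrum.nontrivial (R := R) (eX.hom.left p)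
  have hco : (Algebra.TensorProduct.map (AlgHom.id k H) (Groth.Agent.H60.AffQuot.coact e eX a)).comp
      (Groth.Agent.H60.AffQuot.coact e eX a) = (Algebra.TensorProduct.assoc k k k H H R).toAlgHom.comp
      ((Algebra.TensorProduct.map (Bialgebra.comulAlgHom k H) (AlgHom.id k R)).comp
        (Groth.Agent.H60.AffQuot.coact e eX a)) := by
    rw [Groth.Agent.H60.AffQuot.coact_coassoc, ← AlgHom.comp_assoc]
    congr 1
    refine Algebra.TensorProduct.ext' fun h r => ?_
    simp only [Algebra.TensorProduct.lift_tmul, AlgHom.comp_apply, Algebra.TensorProduct.map_tmul, AlgHom.id_apply]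
    generalize Bialgebra.comulAlgHom k H h = t
    induction t using TensorProduct.induction_on with
    | zero => simp
    | tmul c d => simp [Algebra.TensorProduct.tmul_mul_tmul]
    | add p q hp hq => simp only [map_add, TensorProduct.add_tmul, add_mul, hp, hq]
  obtain ⟨χ⟩ := GrpSch.TorsorPoint.exists_point (Groth.Agent.H60.AffQuot.coact e eX a) hco
    (bijective_shear e eX a hP.1)
  let q : 𝟙_ (Over (Spec (CommRingCat.of k))) ⟶ sp k R := Over.homMk (Spec.map (CommRingCat.ofHom χ.toRingHom)) (by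
    change Spec.map _ ≫ Spec.map _ = 𝟙 (Spec (CommRingCat.of k))
    rw [← Spec.map_comp, ← CommRingCat.ofHom_comp, show χ.toRingHom.comp (algebraMap k R) = RingHom.id k from
      χ.comp_algebraMap, CommRingCat.ofHom_id, Spec.map_id])
  exact ⟨q ≫ eX.inv⟩

end Groth.Agent.S14535
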