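import Groth.Statements.S14536
import Mathlib
import Groth.Agent.H83.HopfPts.Scheme

set_option autoImplicit false
universe u
open CategoryTheory MonoidalCategory CartesianMonoidalCategory MonObj GrpObj AlgebraicGeometry
open PrincBund

namespace Groth.Agent.S14536

/-- Let k be an algebraically closed field and h : G → G' a homomorphism of affine group schemes over k
(not necessarily of finite type) which is surjective on underlying spaces. Then h is surjective on
k-points: every k-point of G' is the image of a k-point of G. -/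
theorem result (k : Type u) [Field k] [IsAlgClosed k]
    (G G' : Over (Spec (CommRingCat.of k))) [GrpObj G] [GrpObj G'] [IsAffine G.left] [IsAffine G'.left]
    (h : G ⟶ G') [IsMonHom h] (hs : Surjective h.left) (x : 𝟙_ (Over (Spec (CommRingCat.of k))) ⟶ G') :
    ∃ g : 𝟙_ (Over (Spec (CommRingCat.of k))) ⟶ G, g ≫ h = x := by
  classical
  obtain ⟨C, _, _, e, he⟩ := H1.Hopf.exists_iso G
  obtain ⟨A, _, _, e', he'⟩ := H1.Hopf.exists_iso G'
  let j : Lib.GrpQ.AffQ.sp k C ⟶ Lib.GrpQ.AffQ.sp k A := e.inv ≫ h ≫ e'.hom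
  haveI : IsMonHom e.inv := inferInstance
  haveI : IsMonHom j := inferInstance
  obtain ⟨φ, hφ⟩ := Lib.GrpQ.DomFlat.exists_bialgHom (k := k) j
  have hj : Surjective (Spec.map (CommRingCat.ofHom (φ : A →+* C))) := by
    rw [← Lib.GrpQ.AffQ.homOfBialgHom_left φ, hφ]
    show Surjective (e.inv.left ≫ h.left ≫ e'.hom.left)
    infer_instance
  obtain ⟨ψ, hψ⟩ := H83.HopfPts.exists_pt (x ≫ e'.hom)
  have hker : ∀ a ∈ RingHom.ker (φ : A →ₐ[k] C).rangeRestrict, ψ a = 0 := by
    intro a ha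
    obtain ⟨Q, hQ⟩ := hj.surj ⟨RingHom.ker ψ, RingHom.ker_isPrime ψ⟩
    have : (⟨RingHom.ker ψ, RingHom.ker_isPrime ψ⟩ : PrimeSpectrum A).asIdeal = Q.asIdeal.comap (φ : A →+* C) := by
      rw [← hQ]; rfl
    have ha' : φ a = 0 := congrArg Subtype.val (RingHom.mem_ker.mp ha)
    have : a ∈ RingHom.ker ψ := by
      rw [show RingHom.ker ψ = Q.asIdeal.comap (φ : A →+* C) from this, Ideal.mem_comap]
      show φ a ∈ Q.asIdeal
      rw [ha']; exact zero_mem _
    exact RingHom.mem_ker.mp this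
  have hsurj : Function.Surjective (φ : A →ₐ[k] C).rangeRestrict := AlgHom.rangeRestrict_surjective _
  let g₀ : (φ : A →ₐ[k] C).range →ₐ[k] k :=
    (Ideal.Quotient.liftₐ _ ψ hker).comp (Ideal.quotientKerAlgEquivOfSurjective hsurj).symm.toAlgHom
  have hg₀ : ∀ a, g₀ ((φ : A →ₐ[k] C).rangeRestrict a) = ψ a := by
    intro a
    show Ideal.Quotient.liftₐ _ ψ hker ((Ideal.quotientKerAlgEquivOfSurjective hsurj).symm _) = ψ a
    rw [Ideal.quotientKerAlgEquivOfSurjective_symm_apply]
    rfl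
  obtain ⟨g, hg⟩ := H83.HopfPts.exists_extension (Lib.HopfTransfer.isHopfSubalgebra_range φ) g₀
  refine ⟨H83.HopfPts.pt g ≫ e.inv, ?_⟩
  rw [← cancel_mono e'.hom, Category.assoc, Category.assoc, show e.inv ≫ h ≫ e'.hom = j from rfl, ← hψ, ← hφ]
  apply Over.OverMorphism.ext
  rw [Over.comp_left, Lib.GrpQ.AffQ.homOfBialgHom_left, H83.HopfPts.pt_left, H83.HopfPts.pt_left]
  refine (Spec.map_comp _ _).symm.trans (congrArg Spec.map ?_)
  ext a
  exact (hg ⟨φ a, a, rfl⟩).trans (hg₀ a)

end Groth.Agent.S14536
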