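import Groth.Statements.S14537
import Mathlib
import Groth.Agent.H83.HopfPts.Scheme

set_option autoImplicit false
universe u
open CategoryTheory MonoidalCategory CartesianMonoidalCategory MonObj GrpObj AlgebraicGeometry
open PrincBund

namespace Groth.Agent.S14537

/-- Let k be an algebraically closed field and G an affine group scheme over k, not necessarily of
finite type. Then the set of k-rational points of G is dense in the underlying space of G. -/
theorem result (k : Type u) [Field k] [IsAlgClosed k]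
    (G : Over (Spec (CommRingCat.of k))) [GrpObj G] [IsAffine G.left] :
    Dense {x : ↥G.left | ∃ g : 𝟙_ (Over (Spec (CommRingCat.of k))) ⟶ G, g.left.base (IsLocalRing.closedPoint k) = x} := by
  classical
  obtain ⟨A, _, _, e, he⟩ := H1.Hopf.exists_iso G
  let eh : G.left ≅ Spec (CommRingCat.of A) := (Over.forget _).mapIso e
  have hd : Dense {y : PrimeSpectrum A | ∃ g : A →ₐ[k] k, y.asIdeal = RingHom.ker g} := by
    rw [dense_iff_inter_open]
    intro U hU hne
    obtain ⟨y, hy⟩ := hne
    obtain ⟨_, ⟨f, rfl⟩, hyf, hfU⟩ := PrimeSpectrum.isTopologicalBasis_basic_opens.exists_subset_of_mem_open hy hU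
    have hnil : ¬ IsNilpotent f := fun ⟨n, hn⟩ => hyf (y.isPrime.mem_of_pow_mem n (hn ▸ zero_mem _))
    obtain ⟨g, hg⟩ := H83.HopfPts.exists_point_ne_zero (k := k) hnil
    exact ⟨⟨RingHom.ker g, RingHom.ker_isPrime g⟩, hfU (fun h => hg (RingHom.mem_ker.mp h)), g, rfl⟩
  have hc : Continuous eh.inv.base := eh.inv.continuous
  have hs : Function.Surjective eh.inv.base := eh.inv.surjective
  refine Dense.mono ?_ (hs.denseRange.dense_image hc hd)
  rintro _ ⟨y, ⟨g, hg⟩, rfl⟩
  refine ⟨H83.HopfPts.pt g ≫ e.inv, ?_⟩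
  show (e.inv.left).base ((Spec.map (CommRingCat.ofHom g.toRingHom)).base (IsLocalRing.closedPoint k)) = eh.inv.base y
  congr 1
  refine PrimeSpectrum.ext ?_
  rw [hg]
  ext a
  show g a ∈ IsLocalRing.maximalIdeal k ↔ g a = 0
  rw [IsLocalRing.maximalIdeal_eq_bot, Ideal.mem_bot]

end Groth.Agent.S14537
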