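import Groth.Statements.S14538

import Groth.Agent.Lib.GrpSch.FGDense
import Groth.Agent.H1.Hopf

set_option autoImplicit false
universe u
open CategoryTheory MonoidalCategory CartesianMonoidalCategory MonObj GrpObj AlgebraicGeometry
open PrincBund

namespace Groth.Agent.S14538

/-- Let k be an algebraically closed field of characteristic 0 and G an affine group scheme of finite
type over k. Then the group G(k) of k-rational points has a finitely generated subgroup whose points
are dense in the underlying space of G. -/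
theorem result (k : Type u) [Field k] [IsAlgClosed k] [CharZero k]
    (G : Over (Spec (CommRingCat.of k))) [GrpObj G] [IsAffine G.left] [LocallyOfFiniteType G.hom] :
    ∃ Φ : Subgroup (𝟙_ (Over (Spec (CommRingCat.of k))) ⟶ G), Φ.FG ∧
      Dense {x : ↥G.left | ∃ g ∈ Φ, g.left.base (IsLocalRing.closedPoint k) = x} := by
  obtain ⟨A, _, _, e, he⟩ := H1.Hopf.exists_iso G
  have hlft : LocallyOfFiniteType ((Spec (CommRingCat.of A)).asOver (Spec (CommRingCat.of k))).hom := by
    rw [← Over.w e.inv]; infer_instance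
  have := H1.Hopf.finiteType_of_locallyOfFiniteType hlft
  obtain ⟨Φ, hΦ, hd⟩ := Lib.GrpSch.FGDense.exists_fg_dense (k := k) (A := A)
  have hS : Spec.map (CommRingCat.ofHom (algebraMap k k)) = 𝟙 (Spec (CommRingCat.of k)) := by
    rw [Algebra.algebraMap_self, show CommRingCat.ofHom (RingHom.id k) = 𝟙 (CommRingCat.of k) from rfl,
      Spec.map_id]
  let u : 𝟙_ (Over (Spec (CommRingCat.of k))) ⟶
      (Spec (CommRingCat.of k)).asOver (Spec (CommRingCat.of k)) :=
    Over.homMk (𝟙 _) (by
      show 𝟙 _ ≫ Spec.map (CommRingCat.ofHom (algebraMap k k)) = 𝟙 _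
      rw [hS]; simp)
  have : IsMonHom e.inv := inferInstance
  let q : Lib.GrpSch.HopfPts.Pts k A →* (𝟙_ (Over (Spec (CommRingCat.of k))) ⟶ G) :=
    MonoidHom.mk' (fun g => u ≫ Spec.mapMulEquiv g ≫ e.inv) fun g h => by
      rw [map_mul, MonObj.mul_comp, MonObj.comp_mul]
  refine ⟨Φ.map q, ?_, ?_⟩
  · obtain ⟨S, hSf, hSfin⟩ := (Subgroup.fg_iff _).1 hΦ
    exact (Subgroup.fg_iff _).2 ⟨q '' S, by rw [← MonoidHom.map_closure, hSf], hSfin.image q⟩
  let f := e.inv.left
  have hsurj : Function.Surjective f.base := fun x =>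
    ⟨e.hom.left.base x, by rw [← Scheme.Hom.comp_apply, ← Over.comp_left, e.hom_inv_id]; rfl⟩
  have hd' := (hsurj.denseRange).dense_image f.continuous hd
  refine hd'.mono ?_
  rintro _ ⟨_, ⟨g, hg, rfl⟩, rfl⟩
  refine ⟨q g, ⟨g, hg, rfl⟩, ?_⟩
  show f.base ((Spec.map (CommRingCat.ofHom g.ofConv.toRingHom)).base (IsLocalRing.closedPoint k)) = _
  congr 1
  refine PrimeSpectrum.ext (Ideal.ext fun a => ?_)
  show g.ofConv a ∈ IsLocalRing.maximalIdeal k ↔ g.ofConv a = 0
  rw [IsLocalRing.maximalIdeal_eq_bot]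
  exact Ideal.mem_bot

end Groth.Agent.S14538
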