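import Groth.Statements.S14539
import Mathlib
import Groth.Agent.H83.HopfPts.Points

set_option autoImplicit false
universe u v w
open TensorProduct
open PrincBund

namespace Groth.Agent.S14539

/-- Let k be an algebraically closed field of characteristic 0, A a commutative Hopf algebra over k (the
coordinate ring of an affine group scheme G over k, not necessarily of finite type) and V a right
A-comodule, of any dimension. If a k-subspace W of V is mapped into itself by the action of every
k-rational point of G (every k-algebra homomorphism A → k, acting on V through the coaction), then W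
is a subcomodule of V. -/
theorem result (k : Type u) (A : Type v) [Field k] [IsAlgClosed k]
    [CharZero k] [CommRing A] [HopfAlgebra k A]
    (V : Type w) [AddCommGroup V] [Module k V] [HopfRep.Comod k A V] (W : Submodule k V)
    (hW : ∀ g : A →ₐ[k] k, W.map (HopfRep.Comod.act k A V g) ≤ W) :
    HopfRep.IsSubcomod (k := k) (A := A) W := by
  classical
  haveI : IsReduced A := H83.HopfPts.isReduced (k := k)
  intro w hw
  generalize hx : HopfRep.Comod.coact (k := k) (A := A) w = x
  rw [← LinearMap.exact_iff.mp (rTensor_exact A (LinearMap.exact_subtype_mkQ W) W.mkQ_surjective), LinearMap.mem_ker]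
  let b := Module.Free.chooseBasis k (V ⧸ W)
  apply (TensorProduct.equivFinsuppOfBasisLeft b).injective
  rw [map_zero]
  ext i
  by_contra hne
  obtain ⟨g, hg⟩ := H83.HopfPts.exists_point_ne_zero (k := k)
    (a := TensorProduct.equivFinsuppOfBasisLeft b (W.mkQ.rTensor A x) i)
    (fun hnil => hne (hnil.eq_zero.trans Finsupp.zero_apply.symm))
  apply hg
  have key : ∀ z : (V ⧸ W) ⊗[k] A,
      g (TensorProduct.equivFinsuppOfBasisLeft b z i) = b.coord i (TensorProduct.rid k (V ⧸ W) (g.toLinearMap.lTensor (V ⧸ W) z)) := by
    intro z
    induction z using TensorProduct.induction_on with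
    | zero => simp
    | tmul q a => simp [mul_comm]
    | add p q hp hq => simp [hp, hq]
  have hq : ∀ y : V ⊗[k] A, TensorProduct.rid k (V ⧸ W) (g.toLinearMap.lTensor (V ⧸ W) (W.mkQ.rTensor A y)) =
      W.mkQ (TensorProduct.rid k V (g.toLinearMap.lTensor V y)) := by
    intro y
    induction y using TensorProduct.induction_on with
    | zero => simp
    | tmul q a => simp
    | add p q hp hq => simp [hp, hq]
  have hmem : TensorProduct.rid k V (g.toLinearMap.lTensor V x) ∈ W := by
    have := hW g ⟨w, hw, rfl⟩
    rw [← hx]
    exact this
  rw [key, hq, Submodule.mkQ_apply, (Submodule.Quotient.mk_eq_zero W).mpr hmem, map_zero]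

end Groth.Agent.S14539
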