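import Groth.Statements.S14540
import Groth.Agent.Lib.TorsPush.AffinePush
-- import your own Groth.Agent.* helpers here

set_option autoImplicit false
universe u
open CategoryTheory MonoidalCategory CartesianMonoidalCategory MonObj GrpObj AlgebraicGeometry
open PrincBund

namespace Groth.Agent.S14540

/-- Let X be a scheme, J and J' group schemes affine over X, with no flatness or finiteness condition, u
: J → J' a homomorphism and P a J-torsor for the fpqc topology. Then the push forward of P along u
exists: there is a J'-torsor P' for the fpqc topology together with an X-morphism P → P' compatible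
with u. -/
theorem result {X : Scheme.{u}}
    {J J' : Over X} [GrpObj J] [GrpObj J'] [IsAffineHom J.hom] [IsAffineHom J'.hom]
    (u : J ⟶ J') [IsMonHom u] (P : NonAbH1.TorsorSch J Scheme.fpqcPrecoverage) :
    ∃ P' : NonAbH1.TorsorSch J' Scheme.fpqcPrecoverage,
      NonAbH1.IsPushforwardAlongSch u P.act P'.act := by
  obtain ⟨W, s, hW⟩ := Groth.Agent.Lib.TorsPush.AffinePush.exists_cover_section P.isTorsor.2
  obtain ⟨Q, a', f, h1, h2⟩ :=
    Groth.Agent.Lib.TorsPush.AffinePush.exists_pushforward P.act u P.isTorsor.1 s hW
  exact ⟨⟨Q, a', h1⟩, f, h2⟩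

end Groth.Agent.S14540
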