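import Groth.Statements.S14541

import Groth.Agent.Lib.TorsorSch.Basic

set_option autoImplicit false
universe u
open CategoryTheory MonoidalCategory CartesianMonoidalCategory MonObj GrpObj AlgebraicGeometry
open PrincBund

open CategoryTheory MonoidalCategory CartesianMonoidalCategory MonObj AlgebraicGeometry

namespace Groth.Agent.S14541

open Groth.Agent.Lib.GrpSch Groth.Agent.Lib.TorsorSch.Basic

variable {S : Scheme.{u}}

/-- Morphisms of schemes over `S` glue uniquely along an fpqc covering of `S`. -/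
theorem exists_glue {Y W : Over S} {κ : Type (u+1)} (T : κ → Scheme.{u}) (g : ∀ i, T i ⟶ S)
    (hg : Presieve.ofArrows T g ∈ Scheme.fpqcPrecoverage S) (Φ : ∀ i, Y ⊗ Over.mk (g i) ⟶ W)
    (hΦ : ∀ (i j) (U : Over S) (x : U ⟶ Y ⊗ Over.mk (g i)) (x' : U ⟶ Y ⊗ Over.mk (g j)),
      x ≫ fst _ _ = x' ≫ fst _ _ → x ≫ Φ i = x' ≫ Φ j) :
    ∃! Ψ : Y ⟶ W, ∀ i, fst Y (Over.mk (g i)) ≫ Ψ = Φ i := by
  have hcov : Presieve.ofArrows (fun i ↦ (Y ⊗ Over.mk (g i)).left)
      (fun i ↦ (fst Y (Over.mk (g i))).left) ∈ Scheme.fpqcPrecoverage Y.left :=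
    Precoverage.mem_coverings_of_isPullback g hg Y.hom _
      (fun i ↦ (snd Y (Over.mk (g i))).left) fun i ↦ isPullback_left Y (Over.mk (g i))
  have hsheaf : Presieve.IsSheafFor (yoneda.obj W.left)
      (Presieve.ofArrows (fun i ↦ (Y ⊗ Over.mk (g i)).left)
        (fun i ↦ (fst Y (Over.mk (g i))).left)) := by
    exact (GrothendieckTopology.Subcanonical.isSheaf_of_isRepresentable
      (J := Scheme.fpqcTopology) (yoneda.obj W.left)).isSheafFor _
      (Precoverage.generate_mem_toGrothendieck hcov)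
  rw [Presieve.isSheafFor_arrows_iff] at hsheaf
  obtain ⟨ψ, hψ, huniq⟩ := hsheaf (fun i ↦ (Φ i).left) (by
    intro i j Z gi gj h
    have h' : gi ≫ (fst Y (Over.mk (g i))).left = gj ≫ (fst Y (Over.mk (g j))).left := h
    let xi : Over.mk (gi ≫ (Y ⊗ Over.mk (g i)).hom) ⟶ Y ⊗ Over.mk (g i) := Over.homMk gi rfl
    let xj : Over.mk (gi ≫ (Y ⊗ Over.mk (g i)).hom) ⟶ Y ⊗ Over.mk (g j) := Over.homMk gj (by
      change gj ≫ (Y ⊗ Over.mk (g j)).hom = gi ≫ (Y ⊗ Over.mk (g i)).hom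
      rw [← Over.w (fst Y (Over.mk (g i))), ← Over.w (fst Y (Over.mk (g j))), ← Category.assoc,
        ← Category.assoc, h'])
    exact congrArg CommaMorphism.left (hΦ i j _ xi xj (Over.OverMorphism.ext h')))
  have hψi : ∀ i, (fst Y (Over.mk (g i))).left ≫ ψ = (Φ i).left := hψ
  have hw : ψ ≫ W.hom = Y.hom := by
    have hS : Presieve.IsSeparatedFor (yoneda.obj S)
        (Presieve.ofArrows (fun i ↦ (Y ⊗ Over.mk (g i)).left)
          (fun i ↦ (fst Y (Over.mk (g i))).left)) := by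
      refine Presieve.IsSheafFor.isSeparatedFor ?_
      exact (GrothendieckTopology.Subcanonical.isSheaf_of_isRepresentable
        (J := Scheme.fpqcTopology) (yoneda.obj S)).isSheafFor _
        (Precoverage.generate_mem_toGrothendieck hcov)
    have hi : ∀ i, (fst Y (Over.mk (g i))).left ≫ ψ ≫ W.hom =
        (fst Y (Over.mk (g i))).left ≫ Y.hom := fun i ↦ by
      rw [← Category.assoc, hψi, Over.w, Over.w]
    exact hS.ext fun Z f hf ↦ by
      obtain ⟨i⟩ := hf
      exact hi i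
  refine ⟨Over.homMk ψ hw, fun i ↦ Over.OverMorphism.ext (hψi i), fun Ψ hΨ ↦ ?_⟩
  exact Over.OverMorphism.ext (huniq Ψ.left fun i ↦ congrArg CommaMorphism.left (hΨ i))

theorem eq_of_cover {Y W : Over S} {κ : Type (u+1)} (T : κ → Scheme.{u}) (g : ∀ i, T i ⟶ S)
    (hg : Presieve.ofArrows T g ∈ Scheme.fpqcPrecoverage S) {f f' : Y ⟶ W}
    (h : ∀ i, fst Y (Over.mk (g i)) ≫ f = fst Y (Over.mk (g i)) ≫ f') : f = f' :=
  (exists_glue T g hg (fun i ↦ fst Y (Over.mk (g i)) ≫ f) (fun i j U x x' e ↦ by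
    rw [← Category.assoc, ← Category.assoc, e])).unique (fun _ ↦ rfl) (fun i ↦ (h i).symm)

variable {G X : Over S} [GrpObj G]

theorem act_cancel {a : AlgGrp.Action G X} (ha : NonAbH1.IsPseudoTorsorSch a) {U : Over S}
    {g g' : U ⟶ G} {x : U ⟶ X} (h : lift g x ≫ a.act = lift g' x ≫ a.act) : g = g' := by
  haveI : IsIso (lift a.act (snd G X)) := ha
  have : lift g x = lift g' x := (cancel_mono (lift a.act (snd G X))).mp <| by
    apply CartesianMonoidalCategory.hom_ext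
    · simpa using h
    · simp
  simpa using congr($this ≫ fst G X)

theorem exists_act {a : AlgGrp.Action G X} (ha : NonAbH1.IsPseudoTorsorSch a) {U : Over S}
    (x y : U ⟶ X) : ∃ g : U ⟶ G, lift g x ≫ a.act = y := by
  haveI : IsIso (lift a.act (snd G X)) := ha
  set z := lift y x ≫ inv (lift a.act (snd G X))
  have hz : z ≫ lift a.act (snd G X) = lift y x := by
    rw [Category.assoc, IsIso.inv_hom_id, Category.comp_id]
  have h1 : z ≫ a.act = y := by simpa using congr($hz ≫ fst X X)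
  have h2 : z ≫ snd G X = x := by simpa using congr($hz ≫ snd X X)
  refine ⟨z ≫ fst G X, ?_⟩
  have : lift (z ≫ fst G X) x = z := by
    apply CartesianMonoidalCategory.hom_ext <;> simp [h2]
  rw [this, h1]

/-- Let X be a scheme, J, J' and J'' group schemes affine over X, with no flatness or finiteness
condition, u : J → J' and v : J' → J'' homomorphisms, P a J-torsor, P' a J'-torsor and P'' a
J''-torsor, all for the fpqc topology, q' : P → P' an X-morphism compatible with u and q'' : P → P''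
an X-morphism compatible with the composite homomorphism J → J' → J''. Then there is exactly one
X-morphism r : P' → P'' compatible with v whose composite with q' is q''. Taking v to be the
identity, the push forward of a torsor along u is unique up to unique isomorphism. -/
theorem result {X : Scheme.{u}}
    {J J' J'' : Over X} [GrpObj J] [GrpObj J'] [GrpObj J''] [IsAffineHom J.hom] [IsAffineHom J'.hom]
    [IsAffineHom J''.hom] (u : J ⟶ J') [IsMonHom u] (v : J' ⟶ J'') [IsMonHom v] {P P' P'' : Over X}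
    (a : AlgGrp.Action J P) (a' : AlgGrp.Action J' P') (a'' : AlgGrp.Action J'' P'')
    (hP : NonAbH1.IsTorsorFor Scheme.fpqcPrecoverage a)
    (hP' : NonAbH1.IsTorsorFor Scheme.fpqcPrecoverage a')
    (hP'' : NonAbH1.IsTorsorFor Scheme.fpqcPrecoverage a'')
    (q' : P ⟶ P') (hq' : a.act ≫ q' = lift (fst J P ≫ u) (snd J P ≫ q') ≫ a'.act)
    (q'' : P ⟶ P'') (hq'' : a.act ≫ q'' = lift (fst J P ≫ u ≫ v) (snd J P ≫ q'') ≫ a''.act) :
    ∃! r : P' ⟶ P'', a'.act ≫ r = lift (fst J' P' ≫ v) (snd J' P' ≫ r) ≫ a''.act ∧ q' ≫ r = q'' := by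
  obtain ⟨⟨ha, R, hR, hs⟩, ha', ha''⟩ := And.intro hP (And.intro hP'.1 hP''.1)
  obtain ⟨κ, T, g, rfl⟩ := R.exists_eq_ofArrows
  have hs' : ∀ i, ∃ s : Over.mk (g i) ⟶ P, True := fun i ↦
    let ⟨s, hsw⟩ := hs (g i) (Presieve.ofArrows.mk i)
    ⟨Over.homMk s hsw, trivial⟩
  choose s _ using hs'
  -- consistency
  have key : ∀ (U : Over X) (p p' : U ⟶ P) (j j' : U ⟶ J'),
      lift j (p ≫ q') ≫ a'.act = lift j' (p' ≫ q') ≫ a'.act →
      lift (j ≫ v) (p ≫ q'') ≫ a''.act = lift (j' ≫ v) (p' ≫ q'') ≫ a''.act := by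
    intro U p p' j j' h
    obtain ⟨w, rfl⟩ := exists_act ha p p'
    have e' : (lift w p ≫ a.act) ≫ q' = lift (w ≫ u) (p ≫ q') ≫ a'.act := by
      rw [Category.assoc, hq', comp_lift_assoc, lift_fst_assoc, lift_snd_assoc]
    have e'' : (lift w p ≫ a.act) ≫ q'' = lift (w ≫ u ≫ v) (p ≫ q'') ≫ a''.act := by
      rw [Category.assoc, hq'', comp_lift_assoc, lift_fst_assoc, lift_snd_assoc]
    rw [e', ← act_mul] at h
    have hj := act_cancel ha' h
    rw [e'', ← act_mul, hj, MonObj.mul_comp, Category.assoc]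
  -- the local pieces
  haveI hiso : ∀ i, IsIso (triv a' (s i ≫ q')) := fun i ↦ isIso_triv a' ha' _
  let c : ∀ i, P' ⊗ Over.mk (g i) ⟶ J' := fun i ↦ inv (triv a' (s i ≫ q')) ≫ fst J' _
  have hc : ∀ (i) {U : Over X} (x : U ⟶ P' ⊗ Over.mk (g i)),
      lift (x ≫ c i) ((x ≫ snd _ _ ≫ s i) ≫ q') ≫ a'.act = x ≫ fst _ _ := by
    intro i U x
    have h1 : inv (triv a' (s i ≫ q')) ≫ (J' ◁ (s i ≫ q')) ≫ a'.act = fst _ _ := by
      rw [IsIso.inv_comp_eq, triv_fst]
    have h2 : inv (triv a' (s i ≫ q')) ≫ snd J' _ = snd P' (Over.mk (g i)) := by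
      rw [IsIso.inv_comp_eq, triv_snd]
    have h3 : (x ≫ inv (triv a' (s i ≫ q'))) ≫ (J' ◁ (s i ≫ q')) =
        lift (x ≫ c i) ((x ≫ snd _ _ ≫ s i) ≫ q') := by
      apply CartesianMonoidalCategory.hom_ext
      · simp [c]
      · simp [reassoc_of% h2]
    rw [← h3, ← h1]
    simp only [Category.assoc]
  let Φ : ∀ i, P' ⊗ Over.mk (g i) ⟶ P'' := fun i ↦
    lift (c i ≫ v) ((snd _ _ ≫ s i) ≫ q'') ≫ a''.act
  have hΦx : ∀ (i) {U : Over X} (x : U ⟶ P' ⊗ Over.mk (g i)),
      x ≫ Φ i = lift ((x ≫ c i) ≫ v) ((x ≫ snd _ _ ≫ s i) ≫ q'') ≫ a''.act := by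
    intro i U x
    simp only [Φ, comp_lift_assoc, Category.assoc]
  obtain ⟨r, hr, hru⟩ := exists_glue T g hR Φ fun i j U x x' e ↦ by
    rw [hΦx, hΦx]
    exact key U _ _ _ _ (by rw [hc, hc, e])
  have hpt : ∀ (U : Over X) (j : U ⟶ J') (p : U ⟶ P),
      (lift j (p ≫ q') ≫ a'.act) ≫ r = lift (j ≫ v) (p ≫ q'') ≫ a''.act := by
    intro U j p
    refine eq_of_cover T g hR fun i ↦ ?_
    let y := fst U (Over.mk (g i)) ≫ (lift j (p ≫ q') ≫ a'.act)
    let x : U ⊗ Over.mk (g i) ⟶ P' ⊗ Over.mk (g i) := lift y (snd _ _)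
    have hx : x ≫ fst _ _ = y := lift_fst _ _
    calc fst U (Over.mk (g i)) ≫ (lift j (p ≫ q') ≫ a'.act) ≫ r
        = (x ≫ fst _ _) ≫ r := by rw [hx]; simp only [y, Category.assoc]
      _ = x ≫ Φ i := by rw [Category.assoc, hr i]
      _ = lift ((fst _ _ ≫ j) ≫ v) ((fst _ _ ≫ p) ≫ q'') ≫ a''.act := by
        rw [hΦx]
        refine key _ _ _ _ _ ?_
        rw [hc, hx]
        simp only [y, comp_lift_assoc, Category.assoc]
      _ = _ := by simp only [comp_lift_assoc, Category.assoc]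
  refine ⟨r, ⟨?_, ?_⟩, ?_⟩
  · refine eq_of_cover T g hR fun i ↦ ?_
    let j₀ : (J' ⊗ P') ⊗ Over.mk (g i) ⟶ J' := fst _ _ ≫ fst _ _
    let x : (J' ⊗ P') ⊗ Over.mk (g i) ⟶ P' ⊗ Over.mk (g i) := snd J' P' ▷ _
    have e : fst (J' ⊗ P') (Over.mk (g i)) ≫ snd J' P' =
        lift (x ≫ c i) ((x ≫ snd _ _ ≫ s i) ≫ q') ≫ a'.act := by
      rw [hc]; simp [x]
    rw [← Category.assoc, ← Category.assoc, comp_lift, ← Category.assoc, ← Category.assoc]
    have e2 : fst (J' ⊗ P') (Over.mk (g i)) ≫ a'.act =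
        lift (j₀ * (x ≫ c i)) ((x ≫ snd _ _ ≫ s i) ≫ q') ≫ a'.act := by
      rw [act_mul, ← e]
      simp only [j₀]
      rw [← comp_lift_assoc, lift_fst_snd, Category.id_comp]
    rw [e2, hpt, MonObj.mul_comp, act_mul, e, hpt]
  · have h := hpt P 1 (𝟙 P)
    rw [MonObj.one_comp, act_one, act_one, Category.id_comp, Category.id_comp] at h
    exact h
  · rintro r' ⟨h1, h2⟩
    refine hru r' fun i ↦ ?_
    have e : fst P' (Over.mk (g i)) =
        lift (c i) ((snd _ _ ≫ s i) ≫ q') ≫ a'.act := by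
      simpa using (hc i (𝟙 _)).symm
    rw [e, Category.assoc, h1, comp_lift_assoc, lift_fst_assoc, lift_snd_assoc, Category.assoc,
      Category.assoc, h2]
    simp only [Φ, c, Category.assoc]

end Groth.Agent.S14541
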