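import Groth.Statements.S14545

import Groth.Agent.Lib.GrpQ.ThirdIso
import Groth.Agent.Lib.GrpQ.FlatHom
import Groth.Agent.H63.GrpSmooth
import Groth.Agent.Lib.Tori.AffineDescent
import Groth.Agent.Lib.GrpQ.Affinization

set_option autoImplicit false
universe u
open CategoryTheory MonoidalCategory CartesianMonoidalCategory MonObj GrpObj AlgebraicGeometry
open PrincBund

namespace Groth.Agent.S14545

open MonoidalCategory CartesianMonoidalCategory MonObj GrpObj Limits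
open Groth.Agent Groth.Agent.Lib Groth.Agent.Lib.GrpQ.FfMono Groth.Agent.Lib.GrpQ.ThirdIso

/-- An fppf cover. -/
def Cov {S : Scheme.{u}} {X Y : Over S} (f : X ⟶ Y) : Prop :=
  Flat f.left ∧ Surjective f.left ∧ LocallyOfFinitePresentation f.left

theorem Cov.comp {S : Scheme.{u}} {X Y Z : Over S} {f : X ⟶ Y} {g : Y ⟶ Z} (hf : Cov f) (hg : Cov g) :
    Cov (f ≫ g) := by
  obtain ⟨_, _, _⟩ := hf
  obtain ⟨_, _, _⟩ := hg
  exact ⟨inferInstanceAs (Flat (f.left ≫ g.left)), inferInstanceAs (Surjective (f.left ≫ g.left)),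
    inferInstanceAs (LocallyOfFinitePresentation (f.left ≫ g.left))⟩

theorem cov_of_isQuotient {S : Scheme.{u}} {H G Q : Over S} [GrpObj G] [GrpObj H] {i : H ⟶ G} {q : G ⟶ Q}
    (hq : RedSub.IsQuotient i q) : Cov q := ⟨hq.2.1, hq.1, hq.2.2.1⟩

/-- Let k be a field of characteristic 0 and G an affine group scheme of finite type over k; let G' be a
closed subgroup of G and G₀ a closed normal subgroup of G with quotient q₁ : G → G₁ (so G₁ = G/G₀),
let G₀' = G₀ ∩ G' and let G₁' be the image of G' in G₁, a closed subgroup of G₁ through which G' →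
G₁ factors by a surjective morphism. Suppose that the quotients G₀/G₀' and G₁/G₁' (fppf quotient
sheaves represented by schemes) are affine. Then every scheme Q representing the quotient G/G' is
affine. -/
theorem result (k : Type u) [Field k] [CharZero k]
    (G : Over (Spec (CommRingCat.of k))) [GrpObj G] [IsAffine G.left] [LocallyOfFiniteType G.hom]
    (G' : Over (Spec (CommRingCat.of k))) [GrpObj G'] (i' : G' ⟶ G) [IsMonHom i'] (hi' : IsClosedImmersion i'.left)
    (G₀ : Over (Spec (CommRingCat.of k))) [GrpObj G₀] (i₀ : G₀ ⟶ G) [IsMonHom i₀] (hi₀ : IsClosedImmersion i₀.left)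
    (hn : AlgGrp.IsNormalHom i₀)
    (G₁ : Over (Spec (CommRingCat.of k))) [GrpObj G₁] (q₁ : G ⟶ G₁) [IsMonHom q₁] (hq₁ : RedSub.IsQuotient i₀ q₁)
    (G₀' : Over (Spec (CommRingCat.of k))) [GrpObj G₀'] (j : G₀' ⟶ G₀) [IsMonHom j] (j' : G₀' ⟶ G')
    (hj : IsPullback j j' i₀ i')
    (G₁' : Over (Spec (CommRingCat.of k))) [GrpObj G₁'] (i₁' : G₁' ⟶ G₁) [IsMonHom i₁'] (hi₁' : IsClosedImmersion i₁'.left)
    (p : G' ⟶ G₁') (hp : p ≫ i₁' = i' ≫ q₁) (hps : Surjective p.left)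
    (Qa : Over (Spec (CommRingCat.of k))) (qa : G₀ ⟶ Qa) (hqa : RedSub.IsQuotient j qa) (ha : IsAffine Qa.left)
    (Qb : Over (Spec (CommRingCat.of k))) (qb : G₁ ⟶ Qb) (hqb : RedSub.IsQuotient i₁' qb) (hb : IsAffine Qb.left)
    (Q : Over (Spec (CommRingCat.of k))) (q : G ⟶ Q) (hq : RedSub.IsQuotient i' q) :
    IsAffine Q.left := by
  classical
  haveI := hi'; haveI := hi₀; haveI := hi₁'
  haveI := ha; haveI := hb
  obtain ⟨fq₁, sq₁, lq₁⟩ := cov_of_isQuotient hq₁
  obtain ⟨fqb, sqb, lqb⟩ := cov_of_isQuotient hqb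
  obtain ⟨fqa, sqa, lqa⟩ := cov_of_isQuotient hqa
  obtain ⟨fq, sq, lq⟩ := cov_of_isQuotient hq
  haveI : QuasiCompact G.hom := inferInstance
  haveI : LocallyOfFiniteType G'.hom := by rw [← Over.w i']; infer_instance
  haveI : QuasiCompact G'.hom := by rw [← Over.w i']; infer_instance
  haveI : LocallyOfFiniteType G₁.hom :=
    H14.FppfDesc.Scheme.locallyOfFiniteType_of_comp q₁.left G₁.hom (by rw [Over.w q₁]; infer_instance)
  haveI : QuasiCompact G₁.hom := by
    haveI : CompactSpace ↥G.left := QuasiCompact.compactSpace_of_compactSpace G.hom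
    haveI : CompactSpace ↥G₁.left := q₁.left.surjective.compactSpace q₁.left.continuous
    exact (quasiCompact_iff_compactSpace G₁.hom).2 inferInstance
  haveI : LocallyOfFiniteType G₁'.hom := by rw [← Over.w i₁']; infer_instance
  haveI : QuasiCompact G₁'.hom := by rw [← Over.w i₁']; infer_instance
  haveI : Smooth G₁'.hom := H63.GrpSmooth.smooth_of_charZero G₁'
  haveI : Mono i₁' := by
    haveI : Mono i₁'.left := inferInstance
    exact (Over.forget _).mono_of_mono_map ‹_›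
  haveI : Mono i₀ := by
    haveI : Mono i₀.left := inferInstance
    exact (Over.forget _).mono_of_mono_map ‹_›
  haveI : IsMonHom p := by
    constructor <;> rw [← cancel_mono i₁']
    · rw [Category.assoc, hp, ← Category.assoc, IsMonHom.one_hom (f := i'), IsMonHom.one_hom (f := i₁'),
        IsMonHom.one_hom (f := q₁)]
    · rw [Category.assoc, Category.assoc, hp, IsMonHom.mul_hom (f := i₁'), ← Category.assoc μ[G'],
        IsMonHom.mul_hom (f := i'), Category.assoc, IsMonHom.mul_hom (f := q₁), ← Category.assoc,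
        ← Category.assoc, MonoidalCategory.tensorHom_comp_tensorHom, MonoidalCategory.tensorHom_comp_tensorHom, hp]
  haveI := hps
  haveI : Flat p.left := GrpQ.flat_of_surjective_of_smooth p
  haveI : LocallyOfFinitePresentation p.left := by
    haveI : IsLocallyNoetherian G₁'.left := LocallyOfFiniteType.isLocallyNoetherian G₁'.hom
    haveI : LocallyOfFiniteType (p.left ≫ G₁'.hom) := by rw [Over.w p]; infer_instance
    haveI : LocallyOfFiniteType p.left := locallyOfFiniteType_of_comp p.left G₁'.hom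
    infer_instance
  -- the map to the quotient of `G₁`
  obtain ⟨Φ, hΦ⟩ := exists_desc_over q (q₁ ≫ qb) fun Z x y hxy => by
    obtain ⟨m, hm⟩ := (rel_iff hq x y).1 hxy
    rw [← Category.assoc, ← Category.assoc]
    refine (rel_iff hqb _ _).2 ⟨m ≫ p, ?_⟩
    rw [hm, MonObj.mul_comp, Category.assoc, ← hp, Category.assoc]
  let qb' : G ⟶ Qb := q₁ ≫ qb
  have hcov : Cov qb' := (cov_of_isQuotient hq₁).comp (cov_of_isQuotient hqb)
  obtain ⟨fqb', sqb', lqb'⟩ := hcov
  -- the map from `G ⊗ Qa`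
  have hidem : Cov (𝟙 G ⊗ₘ qa) := ⟨GrpSch.tensorHom_left_of (P := @Flat) (𝟙 G) qa (inferInstanceAs (Flat (𝟙 G.left))) fqa,
    GrpSch.tensorHom_left_of (P := @Surjective) (𝟙 G) qa (inferInstanceAs (Surjective (𝟙 G.left))) sqa,
    GrpSch.tensorHom_left_of (P := @LocallyOfFinitePresentation) (𝟙 G) qa
      (inferInstanceAs (LocallyOfFinitePresentation (𝟙 G.left))) lqa⟩
  obtain ⟨_, _, _⟩ := hidem
  obtain ⟨ψ, hψ⟩ := exists_desc_over (𝟙 G ⊗ₘ qa) ((fst G G₀ * (snd G G₀ ≫ i₀)) ≫ q) fun Z x y hxy => by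
    have h1 := congrArg (· ≫ fst G Qa) hxy
    have h2 := congrArg (· ≫ snd G Qa) hxy
    simp only [Category.assoc, tensorHom_fst, tensorHom_snd, Category.comp_id] at h1 h2
    obtain ⟨l, hl⟩ := (rel_iff hqa (x ≫ snd _ _) (y ≫ snd _ _)).1 (by rw [Category.assoc, Category.assoc, h2])
    rw [← Category.assoc, ← Category.assoc]
    refine (rel_iff hq _ _).2 ⟨l ≫ j', ?_⟩
    rw [MonObj.comp_mul, MonObj.comp_mul, ← h1, ← Category.assoc y, hl, MonObj.mul_comp, Category.assoc l j,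
      hj.w, _root_.mul_assoc]
    simp only [Category.assoc]
  have hψ' : ∀ {T : Over (Spec (CommRingCat.of k))} (g : T ⟶ G) (h : T ⟶ G₀),
      lift g (h ≫ qa) ≫ ψ = (g * (h ≫ i₀)) ≫ q := fun g h => by
    have := congrArg (lift g h ≫ ·) hψ
    simp only [lift_map_assoc, Category.comp_id] at this
    rw [this, ← Category.assoc, MonObj.comp_mul, lift_fst, lift_snd_assoc]
  have hrel₁ : ∀ {T : Over (Spec (CommRingCat.of k))} (g : T ⟶ G) (h : T ⟶ G₀),
      (g * (h ≫ i₀)) ≫ q₁ = g ≫ q₁ := fun g h => ((rel_iff hq₁ g _).2 ⟨h, rfl⟩).symm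
  have hw : ψ ≫ Φ = fst G Qa ≫ qb' := cancel_over (𝟙 G ⊗ₘ qa) (by
    rw [reassoc_of% hψ, hΦ, ← Category.assoc, hrel₁, ← Category.assoc (𝟙 G ⊗ₘ qa), tensorHom_fst, Category.comp_id,
      Category.assoc])
  -- uniqueness
  have huniq : ∀ {T : Over (Spec (CommRingCat.of k))} (n n' : T ⟶ G ⊗ Qa), n ≫ fst G Qa = n' ≫ fst G Qa →
      n ≫ ψ = n' ≫ ψ → n = n' := by
    intro T n n' h1 h2
    obtain ⟨T₁, c₁, h, hh, _, _, _⟩ := exists_lift qa (n ≫ snd G Qa)
    obtain ⟨T₂, c₂, h', hh', _, _, _⟩ := exists_lift qa (c₁ ≫ n' ≫ snd G Qa)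
    let g := c₂ ≫ c₁ ≫ n ≫ fst G Qa
    have e1 : c₂ ≫ c₁ ≫ n = lift g ((c₂ ≫ h) ≫ qa) := by
      apply CartesianMonoidalCategory.hom_ext
      · simp only [g, Category.assoc, lift_fst]
      · simp only [Category.assoc, lift_snd, hh]
    have e2 : c₂ ≫ c₁ ≫ n' = lift g (h' ≫ qa) := by
      apply CartesianMonoidalCategory.hom_ext
      · simp only [g, Category.assoc, lift_fst, h1]
      · simp only [Category.assoc, lift_snd, hh']
    obtain ⟨m, hm⟩ := (rel_iff hq _ _).1 (show (g * ((c₂ ≫ h) ≫ i₀)) ≫ q = (g * (h' ≫ i₀)) ≫ q by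
      rw [← hψ', ← hψ', ← e1, ← e2]
      simp only [Category.assoc, h2])
    rw [_root_.mul_assoc, mul_left_cancel_iff] at hm
    have hm' : ((c₂ ≫ h)⁻¹ * h') ≫ i₀ = m ≫ i' := by
      rw [MonObj.mul_comp, GrpObj.inv_comp, hm, inv_mul_cancel_left]
    have h4 : (c₂ ≫ h) ≫ qa = h' ≫ qa := (rel_iff hqa _ _).2
      ⟨hj.lift _ _ hm', by rw [hj.lift_fst, mul_inv_cancel_left]⟩
    exact cancel_over c₁ (cancel_over c₂ (by rw [e1, e2, h4]))
  -- existence
  have hex : ∀ {T : Over (Spec (CommRingCat.of k))} (x : T ⟶ Q) (g : T ⟶ G), x ≫ Φ = g ≫ qb' →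
      ∃ n : T ⟶ G ⊗ Qa, n ≫ ψ = x ∧ n ≫ fst G Qa = g := by
    intro T x g hxg
    obtain ⟨T₁, c₁, g', hg', _, _, _⟩ := exists_lift q x
    obtain ⟨n₁, hn₁⟩ := (rel_iff hqb (g' ≫ q₁) ((c₁ ≫ g) ≫ q₁)).1 (by
      rw [Category.assoc, Category.assoc]
      calc g' ≫ q₁ ≫ qb = g' ≫ q ≫ Φ := by rw [hΦ]
        _ = c₁ ≫ g ≫ qb' := by rw [reassoc_of% hg', hxg]
        _ = (c₁ ≫ g) ≫ q₁ ≫ qb := (Category.assoc _ _ _).symm)
    obtain ⟨T₂, c₂, m, hm, _, _, _⟩ := exists_lift p n₁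
    let c := c₂ ≫ c₁
    obtain ⟨_, _, _⟩ : Cov c := Cov.comp (f := c₂) (g := c₁) ⟨‹_›, ‹_›, ‹_›⟩ ⟨‹_›, ‹_›, ‹_›⟩
    have h1 : (c ≫ g) ≫ q₁ = ((c₂ ≫ g') * (m ≫ i')) ≫ q₁ := by
      rw [MonObj.mul_comp, Category.assoc m, ← hp, reassoc_of% hm, Category.assoc c, Category.assoc c₂ c₁,
        ← Category.assoc c₁, hn₁, MonObj.comp_mul, Category.assoc c₂ g']
    obtain ⟨h, hh⟩ := (rel_iff hq₁ _ _).1 h1
    let n' : T₂ ⟶ G ⊗ Qa := lift (c ≫ g) (h ≫ qa)
    have hn'1 : n' ≫ fst G Qa = c ≫ g := lift_fst _ _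
    have hn'2 : n' ≫ ψ = c ≫ x := by
      rw [hψ', ← hh, ← (rel_iff hq (c₂ ≫ g') _).2 ⟨m, rfl⟩, Category.assoc, hg', Category.assoc]
    obtain ⟨n, hn⟩ := exists_desc_over c n' fun W y z e => huniq _ _
      (by rw [Category.assoc, Category.assoc, hn'1, reassoc_of% e])
      (by rw [Category.assoc, Category.assoc, hn'2, reassoc_of% e])
    exact ⟨n, cancel_over c (by rw [reassoc_of% hn, hn'2]), cancel_over c (by rw [reassoc_of% hn, hn'1])⟩
  have sqr : IsPullback ψ (fst G Qa) Φ qb' := ⟨⟨hw⟩, ⟨PullbackCone.IsLimit.mk _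
    (fun s => (hex s.fst s.snd s.condition).choose) (fun s => (hex s.fst s.snd s.condition).choose_spec.1)
    (fun s => (hex s.fst s.snd s.condition).choose_spec.2)
    (fun s m h1 h2 => huniq _ _ (h2.trans (hex s.fst s.snd s.condition).choose_spec.2.symm)
      (h1.trans (hex s.fst s.snd s.condition).choose_spec.1.symm))⟩⟩
  haveI : IsAffine (G ⊗ Qa).left := GrpQ.Affinization.isAffine_tensor G Qa
  haveI : IsAffine ((Over.forget (Spec (CommRingCat.of k))).obj Qb) := hb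
  haveI : IsAffine ((Over.forget (Spec (CommRingCat.of k))).obj G) := inferInstanceAs (IsAffine G.left)
  haveI : IsAffine ((Over.forget (Spec (CommRingCat.of k))).obj (G ⊗ Qa)) := inferInstanceAs (IsAffine (G ⊗ Qa).left)
  haveI : Flat ((Over.forget (Spec (CommRingCat.of k))).map qb') := fqb'
  haveI : Surjective ((Over.forget (Spec (CommRingCat.of k))).map qb') := sqb'
  exact Tori.AffineDescent.isAffine_of_isPullback (sqr.map (Over.forget _))

end Groth.Agent.S14545
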