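import Groth.Statements.S14546

import Groth.Agent.Lib.GrpSch.Basic
import Mathlib

set_option autoImplicit false
universe u
open CategoryTheory MonoidalCategory CartesianMonoidalCategory MonObj GrpObj AlgebraicGeometry
open PrincBund

open CategoryTheory CategoryTheory.Limits MonoidalCategory CartesianMonoidalCategory AlgebraicGeometry

namespace Groth.Agent.S14546

open scoped TensorProduct

section Algebra

variable {k : Type u} [CommRing k] {R : Type u} [CommRing R] [Algebra k R] {n : ℕ}

/-- Coordinates in the base change of a finite free algebra. -/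
noncomputable def coord (b : Module.Basis (Fin n) k R) {C : Type u} [CommRing C] [Algebra k C]
    (x : C ⊗[k] R) (i : Fin n) : C :=
  (Algebra.TensorProduct.basis C b).repr x i

theorem coord_ext (b : Module.Basis (Fin n) k R) {C : Type u} [CommRing C] [Algebra k C]
    {x y : C ⊗[k] R} (h : ∀ i, coord b x i = coord b y i) : x = y :=
  (Algebra.TensorProduct.basis C b).repr.injective (Finsupp.ext h)

theorem coord_map (b : Module.Basis (Fin n) k R) {C D : Type u} [CommRing C] [Algebra k C]
    [CommRing D] [Algebra k D] (φ : C →ₐ[k] D) (x : C ⊗[k] R) (i : Fin n) :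
    coord b (Algebra.TensorProduct.map φ (AlgHom.id k R) x) i = φ (coord b x i) := by
  induction x with
  | zero => simp [coord]
  | add x y hx hy => simp only [coord, map_add, Finsupp.add_apply] at *; rw [hx, hy]
  | tmul c r => simp [coord]

theorem coord_sum (b : Module.Basis (Fin n) k R) {C : Type u} [CommRing C] [Algebra k C]
    (c : Fin n → C) (i : Fin n) : coord b (∑ j, c j ⊗ₜ[k] b j) i = c i := by
  classical
  simp [coord, map_sum, Finsupp.single_apply]

theorem exists_universal (b : Module.Basis (Fin n) k R) (A : Type u) [CommRing A] [Algebra k A] :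
    ∃ (W : Type u) (_ : CommRing W) (_ : Algebra k W) (U : A →ₐ[k] W ⊗[k] R),
      (∀ (C : Type u) [CommRing C] [Algebra k C] (f : A →ₐ[k] C ⊗[k] R),
        ∃! φ : W →ₐ[k] C, (Algebra.TensorProduct.map φ (AlgHom.id k R)).comp U = f) ∧
      (Algebra.FiniteType k A → Algebra.FiniteType k W) := by
  classical
  let W₀ := MvPolynomial (A × Fin n) k
  let u₀ : A → W₀ ⊗[k] R := fun a => ∑ j, MvPolynomial.X (a, j) ⊗ₜ[k] b j
  let rel : Set (W₀ ⊗[k] R) :=
    (Set.range fun p : A × A => u₀ (p.1 + p.2) - (u₀ p.1 + u₀ p.2)) ∪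
    ((Set.range fun p : A × A => u₀ (p.1 * p.2) - u₀ p.1 * u₀ p.2) ∪
    Set.range fun r : k => u₀ (algebraMap k A r) - algebraMap k (W₀ ⊗[k] R) r)
  let J : Ideal W₀ := Ideal.span (Set.range fun p : rel × Fin n => coord b p.1.1 p.2)
  let π := Ideal.Quotient.mkₐ k J
  let Pm := Algebra.TensorProduct.map π (AlgHom.id k R)
  have hPm : ∀ {x y}, x - y ∈ rel → Pm x = Pm y := by
    intro x y h
    rw [← sub_eq_zero, ← map_sub]
    refine coord_ext b fun i => ?_
    rw [coord_map]
    refine Eq.trans ?_ (show (0 : W₀ ⧸ J) = coord b 0 i by simp [coord])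
    exact Ideal.Quotient.eq_zero_iff_mem.2 (Ideal.subset_span ⟨(⟨_, h⟩, i), rfl⟩)
  have hadd : ∀ p q, Pm (u₀ (p + q)) = Pm (u₀ p) + Pm (u₀ q) := fun p q => by
    rw [← map_add]; exact hPm (Or.inl ⟨(p, q), rfl⟩)
  have hmul : ∀ p q, Pm (u₀ (p * q)) = Pm (u₀ p) * Pm (u₀ q) := fun p q => by
    rw [← map_mul]; exact hPm (Or.inr (Or.inl ⟨(p, q), rfl⟩))
  have halg : ∀ r, Pm (u₀ (algebraMap k A r)) = algebraMap k _ r := fun r =>
    (hPm (Or.inr (Or.inr ⟨r, rfl⟩))).trans (Pm.commutes r)
  let U : A →ₐ[k] (W₀ ⧸ J) ⊗[k] R :=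
    { toFun := fun a => Pm (u₀ a)
      map_one' := by rw [← map_one (algebraMap k A)]; exact (halg 1).trans (map_one _)
      map_mul' := hmul
      map_zero' := by rw [← map_zero (algebraMap k A)]; exact (halg 0).trans (map_zero _)
      map_add' := hadd
      commutes' := halg }
  have hU : ∀ a i, coord b (U a) i = π (MvPolynomial.X (a, i)) := fun a i => by
    change coord b (Pm (u₀ a)) i = _
    rw [coord_map, coord_sum]
  refine ⟨W₀ ⧸ J, inferInstance, inferInstance, U, fun C _ _ f => ?_, fun hA => ?_⟩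
  · let φ₀ : W₀ →ₐ[k] C := MvPolynomial.aeval fun p => coord b (f p.1) p.2
    let Φ₀ := Algebra.TensorProduct.map φ₀ (AlgHom.id k R)
    have h₀ : ∀ a, Φ₀ (u₀ a) = f a := fun a => coord_ext b fun i => by
      rw [coord_map, coord_sum, MvPolynomial.aeval_X]
    have hJ : ∀ x ∈ J, φ₀ x = 0 := by
      intro x hx
      induction hx using Submodule.span_induction with
      | mem x hx =>
        obtain ⟨⟨⟨y, hy⟩, i⟩, rfl⟩ := hx
        change φ₀ (coord b y i) = 0
        rw [← coord_map]
        have : Φ₀ y = 0 := by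
          rcases hy with ⟨⟨p, q⟩, rfl⟩ | ⟨⟨p, q⟩, rfl⟩ | ⟨r, rfl⟩
          · simp only [map_sub, map_add, h₀]; exact sub_self _
          · simp only [map_sub, map_mul, h₀]; exact sub_self _
          · simp only [map_sub, h₀, AlgHom.commutes, sub_self]
        rw [this]; simp [coord]
      | zero => exact map_zero _
      | add x y _ _ hx hy => rw [map_add, hx, hy, add_zero]
      | smul r x _ hx => rw [smul_eq_mul, map_mul, hx, mul_zero]
    refine ⟨Ideal.Quotient.liftₐ J φ₀ hJ, AlgHom.ext fun a => coord_ext b fun i => ?_, fun φ hφ => ?_⟩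
    · rw [AlgHom.comp_apply, coord_map, hU]
      change φ₀ _ = _
      rw [MvPolynomial.aeval_X]
    · refine Ideal.Quotient.algHom_ext _ (MvPolynomial.algHom_ext fun p => ?_)
      change φ (π (MvPolynomial.X (p.1, p.2))) = φ₀ (MvPolynomial.X p)
      rw [MvPolynomial.aeval_X, ← hU, ← coord_map, ← hφ]
      rfl
  · obtain ⟨s, hs⟩ := hA.out
    let t : Finset (W₀ ⧸ J) := (s ×ˢ (Finset.univ : Finset (Fin n))).image fun p => π (MvPolynomial.X p)
    let W' := Algebra.adjoin k (t : Set (W₀ ⧸ J))
    let V := Algebra.TensorProduct.map W'.val (AlgHom.id k R)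
    have hle : (⊤ : Subalgebra k A) ≤ V.range.comap U := by
      rw [← hs]
      refine Algebra.adjoin_le fun a ha => ?_
      refine ⟨∑ j, (⟨π (MvPolynomial.X (a, j)), Algebra.subset_adjoin ?_⟩ : W') ⊗ₜ[k] b j, ?_⟩
      · exact Finset.mem_image.2 ⟨(a, j), Finset.mem_product.2 ⟨ha, Finset.mem_univ j⟩, rfl⟩
      · refine coord_ext b fun i => ?_
        change coord b (V _) i = coord b (U a) i
        rw [coord_map, coord_sum, hU]
        rfl
    have hX : ∀ p, π (MvPolynomial.X p) ∈ W' := by
      rintro ⟨a, i⟩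
      obtain ⟨y, hy⟩ := hle (Algebra.mem_top (x := a))
      rw [← hU, ← show V y = U a from hy, coord_map]
      exact (coord b y i).2
    refine ⟨⟨t, eq_top_iff.2 fun w _ => ?_⟩⟩
    obtain ⟨w, rfl⟩ := Ideal.Quotient.mk_surjective w
    induction w using MvPolynomial.induction_on with
    | C r => exact W'.algebraMap_mem r
    | add p q hp hq => rw [map_add]; exact W'.add_mem (hp trivial) (hq trivial)
    | mul_X p v hp => rw [map_mul]; exact W'.mul_mem (hp trivial) (hX v)

theorem equivFinsupp_map {k C M N : Type u} [CommRing k] [AddCommGroup C] [Module k C]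
    [AddCommGroup M] [Module k M] [AddCommGroup N] [Module k N] {β : Type*} [DecidableEq β]
    (ℬ : Module.Basis β k C) (g : M →ₗ[k] N) (x : C ⊗[k] M) (i : β) :
    TensorProduct.equivFinsuppOfBasisLeft ℬ (g.lTensor C x) i =
      g (TensorProduct.equivFinsuppOfBasisLeft ℬ x i) := by
  induction x with
  | zero => simp
  | add x y hx hy => simp only [map_add, Finsupp.add_apply, hx, hy]
  | tmul c m => simp

end Algebra

section Geometry

variable {k : Type u} [Field k]

/-- The structure map on sections. -/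
noncomputable abbrev str (X : Over (Spec (CommRingCat.of k))) (W : X.left.Opens) :
    CommRingCat.of k ⟶ Γ(X.left, W) :=
  (Scheme.ΓSpecIso (CommRingCat.of k)).inv ≫ X.hom.appLE ⊤ W le_top

@[reducible] noncomputable def alg (X : Over (Spec (CommRingCat.of k))) (W : X.left.Opens) :
    Algebra k Γ(X.left, W) :=
  (str X W).hom.toAlgebra

attribute [local instance] alg

/-- Pullback of functions along a morphism over `k`. -/
noncomputable def pull {X Y : Over (Spec (CommRingCat.of k))} (f : X ⟶ Y) (V : Y.left.Opens)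
    (W : X.left.Opens) (e : W ≤ f.left ⁻¹ᵁ V) : Γ(Y.left, V) →ₐ[k] Γ(X.left, W) :=
  { (f.left.appLE V W e).hom with
    commutes' := fun r => by
      change (((Scheme.ΓSpecIso (CommRingCat.of k)).inv ≫ Y.hom.appLE ⊤ V le_top) ≫ f.left.appLE V W e) r = _
      rw [Category.assoc, Scheme.Hom.appLE_comp_appLE]
      simp only [Over.w]
      rfl }

theorem pull_comp {X Y Z : Over (Spec (CommRingCat.of k))} (f : X ⟶ Y) (g : Y ⟶ Z) (U V W) (e₁ e₂ e₃) :
    (pull f V W e₂).comp (pull g U V e₁) = pull (f ≫ g) U W e₃ := AlgHom.ext fun a => by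
  change (g.left.appLE U V e₁ ≫ f.left.appLE V W e₂) a = (f ≫ g).left.appLE U W e₃ a
  rw [Scheme.Hom.appLE_comp_appLE]
  simp only [Over.comp_left]

variable (X T : Over (Spec (CommRingCat.of k)))

/-- The comparison map for the sections of a product. -/
noncomputable def mu (W : X.left.Opens) :
    Γ(T.left, ⊤) ⊗[k] Γ(X.left, W) →ₐ[k] Γ((X ⊗ T).left, (fst X T).left ⁻¹ᵁ W) :=
  Algebra.TensorProduct.productMap (pull (snd X T) ⊤ _ le_top) (pull (fst X T) W _ le_rfl)

/-- Restriction of functions. -/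
noncomputable def res {W W' : X.left.Opens} (h : W' ≤ W) : Γ(X.left, W) →ₐ[k] Γ(X.left, W') :=
  pull (𝟙 X) W W' h

theorem res_eq {W W' : X.left.Opens} (h : W' ≤ W) (a : Γ(X.left, W)) :
    res X h a = X.left.presheaf.map (homOfLE h).op a := by
  change (Scheme.Hom.appLE (𝟙 X.left) W W' h) a = _
  simp [Scheme.Hom.appLE]
  rfl

theorem res_mu {W W' : X.left.Opens} (h : W' ≤ W) (x : Γ(T.left, ⊤) ⊗[k] Γ(X.left, W)) :
    (X ⊗ T).left.presheaf.map (homOfLE ((fst X T).left.preimage_mono h)).op (mu X T W x) =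
      mu X T W' ((res X h).toLinearMap.lTensor _ x) := by
  induction x with
  | zero => simp only [map_zero]
  | add x y hx hy => simp only [map_add, hx, hy]
  | tmul c m =>
    simp only [LinearMap.lTensor_tmul, AlgHom.toLinearMap_apply, mu, Algebra.TensorProduct.productMap_apply_tmul,
      map_mul]
    congr 1
    · exact congr($((snd X T).left.appLE_map (V' := (fst X T).left ⁻¹ᵁ W') le_top
        (homOfLE ((fst X T).left.preimage_mono h)).op) c)
    · change ((fst X T).left.appLE W _ le_rfl ≫ _) m =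
        (((𝟙 X : X ⟶ X).left.appLE W W' h) ≫ (fst X T).left.appLE W' _ le_rfl) m
      rw [Scheme.Hom.appLE_map, Scheme.Hom.appLE_comp_appLE]
      simp only [← Over.comp_left, Category.comp_id]

theorem mu_bijective_affine [IsAffine T.left] {W : X.left.Opens} (hW : IsAffineOpen W) :
    Function.Bijective (mu X T W) := by
  have H := (Groth.Agent.Lib.GrpSch.isPullback_left X T)
  have hi := isIso_pushoutSection_of_isAffineOpen H (US := ⊤) (UT := ⊤) (UX := W)
    (UY := (fst X T).left ⁻¹ᵁ W) le_top le_top (by simp) (isAffineOpen_top _) (isAffineOpen_top _) hW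
  have hp := (isIso_pushoutSection_iff _ _ _ _).1 hi
  have hp' : IsPushout (str T ⊤) (str X W)
      ((snd X T).left.appLE ⊤ ((fst X T).left ⁻¹ᵁ W) le_top)
      ((fst X T).left.appLE W ((fst X T).left ⁻¹ᵁ W) le_rfl) := by
    refine (hp.flip).of_iso (Scheme.ΓSpecIso (CommRingCat.of k)) (Iso.refl _) (Iso.refl _) (Iso.refl _)
      ?_ ?_ ?_ ?_ <;> simp [str]
  have ht : IsPushout (str T ⊤) (str X W)
      (CommRingCat.ofHom (S := Γ(T.left, ⊤) ⊗[k] Γ(X.left, W)) Algebra.TensorProduct.includeLeftRingHom)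
      (CommRingCat.ofHom (Algebra.TensorProduct.includeRight.toRingHom)) :=
    CommRingCat.isPushout_tensorProduct k Γ(T.left, ⊤) Γ(X.left, W)
  let θ := (ht.isoIsPushout _ _ hp').commRingCatIsoToRingEquiv
  have hθ : ∀ x, mu X T W x = θ x := by
    intro x
    induction x with
    | zero => rw [map_zero, map_zero]
    | add x y hx hy => rw [map_add, map_add, hx, hy]
    | tmul c m =>
      rw [mu, Algebra.TensorProduct.productMap_apply_tmul, ← _root_.mul_one c, ← _root_.one_mul m,
        ← Algebra.TensorProduct.tmul_mul_tmul, map_mul θ, _root_.mul_one, _root_.one_mul]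
      congr 1
      · exact congr($(IsPushout.inl_isoIsPushout_hom _ _ ht hp') c).symm
      · exact congr($(IsPushout.inr_isoIsPushout_hom _ _ ht hp') m).symm
  exact (funext hθ : (mu X T W : _ → _) = θ) ▸ θ.bijective

theorem mu_injective [IsAffine T.left] (W : X.left.Opens) : Function.Injective (mu X T W) := by
  classical
  rw [injective_iff_map_eq_zero]
  intro x hx
  let ℬ := Module.Free.chooseBasis k Γ(T.left, ⊤)
  refine (TensorProduct.equivFinsuppOfBasisLeft ℬ).injective ?_
  rw [map_zero]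
  refine Finsupp.ext fun i => ?_
  refine X.left.sheaf.eq_of_locally_eq' (fun V : {V : X.left.Opens // IsAffineOpen V ∧ V ≤ W} => V.1) W
    (fun V => homOfLE V.2.2) ?_ _ _ fun V => ?_
  · intro y hy
    obtain ⟨V, hV, hyV, hVW⟩ := exists_isAffineOpen_mem_and_subset hy
    exact TopologicalSpace.Opens.mem_iSup.2 ⟨⟨V, hV, hVW⟩, hyV⟩
  · have h1 := res_mu X T V.2.2 x
    rw [hx, map_zero, ← map_zero (mu X T V.1)] at h1
    have h2 := (mu_bijective_affine X T V.2.1).1 h1
    have h3 := equivFinsupp_map ℬ (res X V.2.2).toLinearMap x i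
    rw [← h2, map_zero, AlgHom.toLinearMap_apply, res_eq] at h3
    exact h3.symm.trans (map_zero _).symm

theorem mu_bijective [CompactSpace ↥X.left] [IsAffine T.left] : Function.Bijective (mu X T ⊤) := by
  classical
  refine ⟨mu_injective X T ⊤, fun y => ?_⟩
  obtain ⟨I, hI, hcov⟩ := isCompact_iff_finite_and_eq_biUnion_affineOpens.mp
    (show IsCompact ((⊤ : X.left.Opens) : Set X.left) from isCompact_univ)
  haveI := hI.to_subtype
  haveI := Fintype.ofFinite I
  let ℬ := Module.Free.chooseBasis k Γ(T.left, ⊤)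
  let E := fun W : X.left.Opens => (TensorProduct.equivFinsuppOfBasisLeft ℬ :
    Γ(T.left, ⊤) ⊗[k] Γ(X.left, W) ≃ₗ[k] (_ →₀ Γ(X.left, W)))
  choose x hx using fun W : I => (mu_bijective_affine X T W.1.2).2
    ((X ⊗ T).left.presheaf.map (homOfLE ((fst X T).left.preimage_mono (le_top : W.1.1 ≤ ⊤))).op y)
  have hcov' : (⊤ : X.left.Opens) ≤ ⨆ W : I, W.1.1 :=
    hcov.le.trans (iSup₂_le fun W hW => le_iSup_of_le ⟨W, hW⟩ le_rfl)
  have hglue : ∀ i, ∃ m : Γ(X.left, ⊤), ∀ W : I,
      X.left.presheaf.map (homOfLE (le_top : W.1.1 ≤ ⊤)).op m = E _ (x W) i := by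
    intro i
    obtain ⟨m, hm, -⟩ := X.left.sheaf.existsUnique_gluing' (fun W : I => W.1.1) ⊤
      (fun W => homOfLE le_top) hcov' (fun W => E _ (x W) i) (fun W W' => by
        have e : (res X (inf_le_left : W.1.1 ⊓ W'.1.1 ≤ W.1.1)).toLinearMap.lTensor _ (x W) =
            (res X (inf_le_right : W.1.1 ⊓ W'.1.1 ≤ W'.1.1)).toLinearMap.lTensor _ (x W') := by
          apply mu_injective X T
          rw [← res_mu, ← res_mu, hx, hx, ← CommRingCat.comp_apply, ← CommRingCat.comp_apply,
            ← Functor.map_comp, ← Functor.map_comp]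
          rfl
        have := congrArg (fun z => E _ z i) e
        simp only [E, equivFinsupp_map, AlgHom.toLinearMap_apply, res_eq] at this
        exact this)
    exact ⟨m, hm⟩
  choose m hm using hglue
  let m' := Finsupp.indicator (Finset.univ.biUnion fun W : I => (E _ (x W)).support) fun i _ => m i
  have hm' : ∀ W : I, (res X (le_top : W.1.1 ≤ ⊤)).toLinearMap.lTensor _ ((E ⊤).symm m') = x W := by
    intro W
    refine (E _).injective (Finsupp.ext fun i => ?_)
    simp only [E, equivFinsupp_map, AlgHom.toLinearMap_apply, res_eq, LinearEquiv.apply_symm_apply]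
    rw [Finsupp.indicator_apply]
    split_ifs with h
    · exact hm i W
    · simp only [Finset.mem_biUnion, Finset.mem_univ, true_and, not_exists, Finsupp.mem_support_iff, not_not] at h
      rw [map_zero]
      exact (h W).symm
  refine ⟨(E ⊤).symm m', (X ⊗ T).left.sheaf.eq_of_locally_eq' (fun W : I => (fst X T).left ⁻¹ᵁ W.1.1) _
    (fun W => homOfLE ((fst X T).left.preimage_mono le_top)) ?_ _ _ fun W => ?_⟩
  · rw [← Scheme.Hom.preimage_iSup]
    exact (fst X T).left.preimage_mono hcov'
  · exact (res_mu X T _ _).trans ((congrArg _ (hm' W)).trans (hx W))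

/-- Morphisms over `k` into an affine scheme are maps of algebras. -/
theorem existsUnique_hom {Y Z : Over (Spec (CommRingCat.of k))} [IsAffine Z.left]
    (f : Γ(Z.left, ⊤) →ₐ[k] Γ(Y.left, ⊤)) : ∃! h : Y ⟶ Z, pull h ⊤ ⊤ le_top = f := by
  have key : ∀ h : Y.left ⟶ Z.left, h.appLE ⊤ ⊤ le_top = h.appTop := fun h => by
    simp [Scheme.Hom.appLE]
  let h₀ := Y.left.toSpecΓ ≫ Spec.map (CommRingCat.ofHom f.toRingHom) ≫ Z.left.isoSpec.inv
  have h₀top : h₀.appTop = CommRingCat.ofHom f.toRingHom := by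
    have hi : Z.left.isoSpec.inv.appTop = (Scheme.ΓSpecIso Γ(Z.left, ⊤)).inv := by
      have e : Z.left.isoSpec.hom.appTop = (Scheme.ΓSpecIso Γ(Z.left, ⊤)).hom := Scheme.toSpecΓ_appTop _
      haveI : IsIso Z.left.isoSpec.hom.appTop := by rw [e]; infer_instance
      rw [← cancel_mono Z.left.isoSpec.hom.appTop, ← Scheme.Hom.comp_appTop, Iso.hom_inv_id, e,
        Iso.inv_hom_id]
      simp
    simp only [h₀, Scheme.Hom.comp_appTop, hi, Scheme.toSpecΓ_appTop, Category.assoc]
    rw [← Scheme.ΓSpecIso_inv_naturality_assoc, Iso.inv_hom_id, Category.comp_id]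
  have hw : h₀ ≫ Z.hom = Y.hom := by
    refine ext_of_isAffine ?_
    rw [Scheme.Hom.comp_appTop, h₀top, ← cancel_epi (Scheme.ΓSpecIso (CommRingCat.of k)).inv]
    ext r
    have := f.commutes r
    change f.toRingHom (str Z ⊤ r) = str Y ⊤ r at this
    simpa [str, Scheme.Hom.appLE] using this
  refine ⟨Over.homMk h₀ hw, AlgHom.ext fun a => ?_, fun h hh => Over.OverMorphism.ext (ext_of_isAffine ?_)⟩
  · change (h₀.appLE ⊤ ⊤ le_top) a = f a
    rw [key, h₀top]
    rfl
  · change h.left.appTop = h₀.appTop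
    rw [h₀top, ← key]
    ext a
    exact AlgHom.congr_fun hh a

theorem mu_natural {T' : Over (Spec (CommRingCat.of k))} (g : T' ⟶ T)
    (x : Γ(T.left, ⊤) ⊗[k] Γ(X.left, ⊤)) :
    pull (X ◁ g) ((fst X T).left ⁻¹ᵁ ⊤) ((fst X T').left ⁻¹ᵁ ⊤) le_top (mu X T ⊤ x) =
      mu X T' ⊤ (Algebra.TensorProduct.map (pull g ⊤ ⊤ le_top) (AlgHom.id k _) x) := by
  induction x with
  | zero => simp only [map_zero]
  | add x y hx hy => simp only [map_add, hx, hy]
  | tmul c m =>
    simp only [mu, Algebra.TensorProduct.map_tmul, Algebra.TensorProduct.productMap_apply_tmul, map_mul,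
      AlgHom.id_apply]
    congr 1
    · rw [← AlgHom.comp_apply, ← AlgHom.comp_apply, pull_comp _ _ _ _ _ _ _ le_top,
        pull_comp _ _ _ _ _ _ _ le_top]
      simp only [whiskerLeft_snd]
    · rw [← AlgHom.comp_apply, pull_comp _ _ _ _ _ _ _ le_top]
      simp only [whiskerLeft_fst]

end Geometry

/-- Let k be a field of characteristic 0, X a quasi-compact k-scheme whose ring of global functions is
finite-dimensional over k, and Z an affine k-scheme. Then the functor on k-schemes S ↦ Hom_k(X ×_k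
S, Z) is representable by an affine k-scheme M: there is a universal k-morphism X ×_k M → Z through
which every k-morphism X ×_k S → Z factors by a unique S → M; and M is of finite type over k if Z
is. (The published statement is about the scheme of invariant cross-sections of an affine scheme
under a transitive affine groupoid over a pregroupoid H, with a finiteness hypothesis on H; this row
is the case of the trivial groupoid, where the representing scheme is the scheme of k-morphisms from
X to Z and that hypothesis reads: X quasi-compact with finite-dimensional global functions.) -/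
theorem result (k : Type u) [Field k] [CharZero k]
    (X : Over (Spec (CommRingCat.of k))) [CompactSpace ↥X.left]
    (hfin : (X.hom.appTop.hom.comp (Scheme.ΓSpecIso (CommRingCat.of k)).inv.hom).Finite)
    (Z : Over (Spec (CommRingCat.of k))) [IsAffine Z.left] :
    ∃ (M : Over (Spec (CommRingCat.of k))) (_ : IsAffine M.left) (ev : X ⊗ M ⟶ Z),
      (∀ (S : Over (Spec (CommRingCat.of k))) (f : X ⊗ S ⟶ Z), ∃! g : S ⟶ M, (X ◁ g) ≫ ev = f) ∧
      (LocallyOfFiniteType Z.hom → LocallyOfFiniteType M.hom) := by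
  letI := fun (Y : Over (Spec (CommRingCat.of k))) (W : Y.left.Opens) => alg Y W
  haveI : Module.Finite k Γ(X.left, ⊤) := by
    have e : str X ⊤ = CommRingCat.ofHom (X.hom.appTop.hom.comp (Scheme.ΓSpecIso (CommRingCat.of k)).inv.hom) := by
      simp [str, Scheme.Hom.appLE]
    change (algebraMap k Γ(X.left, ⊤)).Finite at *
    rw [RingHom.algebraMap_toAlgebra, e]
    exact hfin
  let b := Module.finBasis k Γ(X.left, ⊤)
  obtain ⟨W, _, _, U, hU, hWft⟩ := exists_universal b Γ(Z.left, ⊤)
  let M : Over (Spec (CommRingCat.of k)) := Over.mk (Spec.map (CommRingCat.ofHom (algebraMap k W)))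
  have hstr : str M ⊤ = CommRingCat.ofHom (algebraMap k W) ≫ (Scheme.ΓSpecIso (CommRingCat.of W)).inv := by
    simp [str, M, Scheme.Hom.appLE]
  let e : W ≃ₐ[k] Γ(M.left, ⊤) :=
    { (Scheme.ΓSpecIso (CommRingCat.of W)).symm.commRingCatIsoToRingEquiv with
      commutes' := fun r => (congr($hstr r)).symm }
  haveI : IsAffine M.left := inferInstanceAs (IsAffine (Spec (CommRingCat.of W)))
  let toTop : ∀ (T : Over (Spec (CommRingCat.of k))),
      Γ((X ⊗ T).left, (fst X T).left ⁻¹ᵁ ⊤) →ₐ[k] Γ((X ⊗ T).left, ⊤) := fun T =>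
    pull (𝟙 _) _ ⊤ le_top
  have htoTop : ∀ T, Function.Bijective (toTop T) := fun T => by
    have : ⇑(toTop T) = id := funext fun a => by simp [toTop, pull, Scheme.Hom.appLE]; rfl
    rw [this]
    exact Function.bijective_id
  obtain ⟨ev, hev, -⟩ := existsUnique_hom (Y := X ⊗ M) (Z := Z)
    (((toTop M).comp (mu X M ⊤)).comp ((Algebra.TensorProduct.map e.toAlgHom (AlgHom.id k _)).comp U))
  -- the affine case
  have haff : ∀ (T : Over (Spec (CommRingCat.of k))) [IsAffine T.left] (f : X ⊗ T ⟶ Z),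
      ∃! g : T ⟶ M, (X ◁ g) ≫ ev = f := by
    intro T _ f
    let mue : Γ(T.left, ⊤) ⊗[k] Γ(X.left, ⊤) ≃ₐ[k] Γ((X ⊗ T).left, ⊤) :=
      AlgEquiv.ofBijective ((toTop T).comp (mu X T ⊤)) ((htoTop T).comp (mu_bijective X T))
    have key : ∀ g : T ⟶ M, (X ◁ g) ≫ ev = f ↔
        (Algebra.TensorProduct.map ((pull g ⊤ ⊤ le_top).comp e.toAlgHom) (AlgHom.id k _)).comp U =
          mue.symm.toAlgHom.comp (pull f ⊤ ⊤ le_top) := by
      intro g
      have h1 : pull ((X ◁ g) ≫ ev) ⊤ ⊤ le_top = mue.toAlgHom.comp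
          ((Algebra.TensorProduct.map ((pull g ⊤ ⊤ le_top).comp e.toAlgHom) (AlgHom.id k _)).comp U) := by
        rw [← pull_comp (X ◁ g) ev ⊤ ⊤ ⊤ le_top le_top le_top, hev]
        refine AlgHom.ext fun a => ?_
        simp only [AlgHom.comp_apply]
        set x := U a
        have e1 : ∀ y, pull (X ◁ g) ⊤ ⊤ le_top (toTop M y) =
            toTop T (pull (X ◁ g) ((fst X M).left ⁻¹ᵁ ⊤) ((fst X T).left ⁻¹ᵁ ⊤) le_top y) := fun y => by
          rw [← AlgHom.comp_apply, ← AlgHom.comp_apply, pull_comp _ _ _ _ _ _ _ le_top,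
            pull_comp _ _ _ _ _ _ _ le_top]
          simp only [Category.comp_id, Category.id_comp]
        rw [e1, mu_natural]
        change toTop T (mu X T ⊤ _) = toTop T (mu X T ⊤ _)
        congr 2
        rw [← AlgHom.comp_apply, ← Algebra.TensorProduct.map_comp, AlgHom.id_comp]
      constructor
      · rintro rfl
        refine AlgHom.ext fun a => ?_
        rw [h1]
        simp
      · intro h
        refine (existsUnique_hom (pull f ⊤ ⊤ le_top)).unique ?_ rfl
        rw [h1, h]
        refine AlgHom.ext fun a => ?_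
        simp
    obtain ⟨φ, hφ, hφu⟩ := hU _ (mue.symm.toAlgHom.comp (pull f ⊤ ⊤ le_top))
    obtain ⟨g, hg, hgu⟩ := existsUnique_hom (Y := T) (Z := M) (φ.comp e.symm.toAlgHom)
    refine ⟨g, (key g).2 ?_, fun g' hg' => hgu g' ?_⟩
    · have h2 : (pull g ⊤ ⊤ le_top).comp e.toAlgHom = φ := by
        rw [hg]
        exact AlgHom.ext fun a => by simp
      rw [h2]
      exact hφ
    · have := hφu _ ((key g').1 hg')
      rw [← this]
      exact AlgHom.ext fun a => by simp
  refine ⟨M, inferInstance, ev, fun T f => ?_, fun hZ => ?_⟩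
  · let 𝒰 := T.left.affineCover
    let O : ∀ j, Over (Spec (CommRingCat.of k)) := fun j => Over.mk (𝒰.f j ≫ T.hom)
    let inc : ∀ j, O j ⟶ T := fun j => Over.homMk (𝒰.f j) rfl
    haveI : ∀ j, IsAffine (O j).left := fun j => inferInstanceAs (IsAffine (𝒰.X j))
    choose g hg hgu using fun j => haff (O j) ((X ◁ inc j) ≫ f)
    have agree : ∀ i j, pullback.fst (𝒰.f i) (𝒰.f j) ≫ (g i).left =
        pullback.snd (𝒰.f i) (𝒰.f j) ≫ (g j).left := by
      intro i j
      refine (pullback (𝒰.f i) (𝒰.f j)).affineCover.hom_ext _ _ fun l => ?_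
      let c := (pullback (𝒰.f i) (𝒰.f j)).affineCover.f l
      let Q : Over (Spec (CommRingCat.of k)) := Over.mk (c ≫ pullback.fst _ _ ≫ 𝒰.f i ≫ T.hom)
      haveI : IsAffine Q.left :=
        inferInstanceAs (IsAffine ((pullback (𝒰.f i) (𝒰.f j)).affineCover.X l))
      let qi : Q ⟶ O i := Over.homMk (c ≫ pullback.fst _ _) (Category.assoc _ _ _)
      let qj : Q ⟶ O j := Over.homMk (c ≫ pullback.snd _ _) (by
        change (c ≫ pullback.snd _ _) ≫ 𝒰.f j ≫ T.hom = c ≫ pullback.fst _ _ ≫ 𝒰.f i ≫ T.hom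
        rw [Category.assoc, ← Category.assoc (pullback.snd _ _), ← pullback.condition, Category.assoc])
      have hq : qi ≫ inc i = qj ≫ inc j := Over.OverMorphism.ext (by
        change (c ≫ pullback.fst _ _) ≫ 𝒰.f i = (c ≫ pullback.snd _ _) ≫ 𝒰.f j
        rw [Category.assoc, Category.assoc, pullback.condition])
      have := (haff Q ((X ◁ (qi ≫ inc i)) ≫ f)).unique
        (y₁ := qi ≫ g i) (y₂ := qj ≫ g j)
        (by rw [whiskerLeft_comp, whiskerLeft_comp, Category.assoc, Category.assoc, hg])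
        (by rw [hq, whiskerLeft_comp, whiskerLeft_comp, Category.assoc, Category.assoc, hg])
      simpa [qi, qj, c] using congrArg CommaMorphism.left this
    let g₀ := 𝒰.glueMorphisms (fun j => (g j).left) agree
    have hg₀ : g₀ ≫ M.hom = T.hom := 𝒰.hom_ext _ _ fun j => by
      rw [← Category.assoc, Scheme.Cover.ι_glueMorphisms, Over.w]
      rfl
    have hincg : ∀ j, inc j ≫ Over.homMk g₀ hg₀ = g j := fun j =>
      Over.OverMorphism.ext (𝒰.ι_glueMorphisms _ agree j)
    have hext : ∀ {Z' : Over (Spec (CommRingCat.of k))} (a c : X ⊗ T ⟶ Z'),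
        (∀ j, (X ◁ inc j) ≫ a = (X ◁ inc j) ≫ c) → a = c := fun a c h => by
      haveI : ∀ j, IsOpenImmersion (X ◁ inc j).left := fun j =>
        Groth.Agent.Lib.GrpSch.whiskerLeft_left_of (P := @IsOpenImmersion) X (inc j)
          (inferInstanceAs (IsOpenImmersion (𝒰.f j)))
      let 𝒲 : Scheme.OpenCover (X ⊗ T).left :=
        Scheme.Cover.mkOfCovers 𝒰.I₀ (fun j => (X ⊗ O j).left) (fun j => (X ◁ inc j).left) (fun y => by
          obtain ⟨j, z, hz⟩ := 𝒰.exists_eq ((snd X T).left y)
          obtain ⟨w, hw, -⟩ := Scheme.exists_preimage_of_isPullback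
            (Groth.Agent.Lib.GrpSch.isPullback_whiskerLeft X (inc j)) y z hz.symm
          exact ⟨j, w, hw⟩) inferInstance
      exact Over.OverMorphism.ext (𝒲.hom_ext _ _ fun j => congrArg CommaMorphism.left (h j))
    refine ⟨Over.homMk g₀ hg₀, hext _ _ fun j => ?_, fun g' hg' => ?_⟩
    · rw [← Category.assoc, ← whiskerLeft_comp, hincg, hg]
    · refine Over.OverMorphism.ext (𝒰.hom_ext _ _ fun j => ?_)
      have := hgu j (inc j ≫ g') (by change (X ◁ (inc j ≫ g')) ≫ ev = _; rw [whiskerLeft_comp, Category.assoc, hg'])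
      exact (congrArg CommaMorphism.left this).trans (congrArg CommaMorphism.left (hincg j)).symm
  · have h := HasRingHomProperty.appLE @LocallyOfFiniteType Z.hom hZ ⟨⊤, isAffineOpen_top _⟩
      ⟨⊤, isAffineOpen_top _⟩ le_top
    have h' : (str Z ⊤).hom.FiniteType := by
      refine RingHom.FiniteType.comp h ?_
      exact RingHom.FiniteType.of_surjective _ (ConcreteCategory.bijective_of_isIso
        (Scheme.ΓSpecIso (CommRingCat.of k)).inv).2
    haveI : Algebra.FiniteType k Γ(Z.left, ⊤) := h'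
    refine (HasRingHomProperty.Spec_iff (P := @LocallyOfFiniteType)).2 ?_
    rw [CommRingCat.hom_ofHom, RingHom.finiteType_algebraMap]
    exact hWft ‹_›

end Groth.Agent.S14546
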