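import Groth.Statements.S14547
import Groth.Agent.Lib.TorsorSch.Classes

set_option autoImplicit false
universe u
open CategoryTheory MonoidalCategory CartesianMonoidalCategory MonObj GrpObj AlgebraicGeometry
open PrincBund

namespace Groth.Agent.S14547

/-- Let f : X' → X be a faithfully flat quasi-compact morphism of schemes, J a group scheme affine over
X with an action a on an X-scheme P, and a' the induced action of the base change J' = J ×_X X' on
P' = P ×_X X'. Then P with a is a J-torsor for the fpqc topology if and only if P' with a' is a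
J'-torsor for the fpqc topology. (The published statement allows any morphism X' → X that is
covering for the fpqc topology, and an action of a pregroupoid; this row is the case of a faithfully
flat quasi-compact X' → X and the trivial pregroupoid.) -/
theorem result {X X' : Scheme.{u}} (f : X' ⟶ X)
    [Flat f] [Surjective f] [QuasiCompact f]
    {J P : Over X} [GrpObj J] [IsAffineHom J.hom] (a : AlgGrp.Action J P)
    (a' : AlgGrp.Action (Red.bc f J) (Red.bc f P))
    (ha' : Functor.LaxMonoidal.μ (Over.pullback f) J P ≫ (Over.pullback f).map a.act = a'.act) :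
    NonAbH1.IsTorsorFor Scheme.fpqcPrecoverage a ↔ NonAbH1.IsTorsorFor Scheme.fpqcPrecoverage a' := by
  have hbc : a' = a.bc f := AlgGrp.Action.ext' ha'.symm
  subst hbc
  refine ⟨fun h ↦ NonAbH1.isTorsorFor_bc f _ h, fun ⟨hp, R, hR, hs⟩ ↦ ⟨?_, ?_⟩⟩
  · have : IsIso (lift a.act (snd J P)).left := by
      refine Groth.Agent.Lib.TorsorSch.Descent.of_presieve
        (P := MorphismProperty.isomorphisms Scheme.{u}) f.singleton_mem_fpqcPrecoverage _ ?_
      rintro _ _ ⟨⟩
      have hk : (lift a.act (snd J P) ▷ Over.mk f).left =
          ((Over.pullback f).map (lift a.act (snd J P))).left := by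
        apply (Groth.Agent.Lib.GrpSch.isPullback_left (P ⊗ P) (Over.mk f)).hom_ext
        · rw [← Over.comp_left, whiskerRight_fst]
          exact (Limits.pullback.lift_fst _ _ _).symm
        · rw [← Over.comp_left, whiskerRight_snd]
          exact (Limits.pullback.lift_snd _ _ _).symm
      have key : lift (a.bc f).act (snd _ _) ≫ Functor.LaxMonoidal.μ (Over.pullback f) P P =
          Functor.LaxMonoidal.μ (Over.pullback f) J P ≫
            (Over.pullback f).map (lift a.act (snd J P)) := by
        rw [← Functor.Monoidal.lift_μ, comp_lift_assoc, Functor.Monoidal.μ_snd,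
          AlgGrp.Action.bc_act]
      have : IsIso (lift (a.bc f).act (snd (Red.bc f J) (Red.bc f P))) := hp
      have : IsIso (Functor.LaxMonoidal.μ (Over.pullback f) J P ≫
          (Over.pullback f).map (lift a.act (snd J P))) := by rw [← key]; infer_instance
      have : IsIso ((Over.pullback f).map (lift a.act (snd J P))) :=
        IsIso.of_isIso_comp_left (Functor.LaxMonoidal.μ (Over.pullback f) J P) _
      change IsIso (lift a.act (snd J P) ▷ Over.mk f).left
      rw [hk]
      exact (inferInstance :
        IsIso ((Over.forget X').map ((Over.pullback f).map (lift a.act (snd J P)))))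
    exact (isIso_iff_of_reflects_iso (lift a.act (snd J P)) (Over.forget X)).mp this
  · obtain ⟨𝒰, rfl⟩ := Precoverage.mem_iff_exists_zeroHypercover.mp hR
    refine ⟨_, Precoverage.comp_mem_coverings (J := Scheme.fpqcPrecoverage)
      (fun (_ : PUnit.{1}) ↦ f) (by rw [Presieve.ofArrows_pUnit]; exact f.singleton_mem_fpqcPrecoverage)
      (fun _ i ↦ 𝒰.f i) (fun _ ↦ 𝒰.mem₀), ?_⟩
    rintro _ _ ⟨⟨_, i⟩⟩
    obtain ⟨s, hsi⟩ := hs _ (Presieve.ofArrows.mk i)
    refine ⟨s ≫ Limits.pullback.fst P.hom f, ?_⟩
    rw [Category.assoc, Limits.pullback.condition, ← Category.assoc]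
    exact congrArg (· ≫ f) hsi

end Groth.Agent.S14547
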