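import Groth.Statements.S14549
import Groth.Agent.Lib.ZarCoh.AffineBC
import Groth.Agent.Lib.Modules.TensorSec
import Mathlib.CategoryTheory.Limits.Shapes.Diagonal
import Mathlib.AlgebraicGeometry.Morphisms.Etale
import Mathlib.AlgebraicGeometry.Morphisms.Finite

set_option autoImplicit false
universe u
open CategoryTheory MonoidalCategory CartesianMonoidalCategory MonObj GrpObj AlgebraicGeometry
open PrincBund

namespace Groth.Agent.S14549

section Helpers

open TopologicalSpace Opposite CategoryTheory.Limits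
open Groth.Agent.Lib Groth.Agent.Lib.Modules.TensorSec
open Groth.Agent.Lib.TensorMod.Dual (rs rf rs_rs rs_self rs_smul)

variable {P : Scheme.{u}}

theorem sec_subsingleton (M : P.Modules) {O : P.Opens} (hO : O ≤ ⊥) : Subsingleton Γ(M, O) :=
  ⟨fun s t => section_ext M s t fun _ hx => absurd (hO hx) id⟩

/-- A map which is bijective on one part of a clopen decomposition, with target zero on the other
part, is a split epimorphism. -/
theorem isSplitEpi_of_clopen {G H : P.Modules} (ε : G ⟶ H) (D C : P.Opens) (hcov : ⊤ ≤ D ⊔ C)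
    (hdisj : D ⊓ C ≤ ⊥) (hD : ∀ O ≤ D, Function.Bijective (ε.app O))
    (hC : ∀ O ≤ C, Subsingleton Γ(H, O)) : IsSplitEpi ε := by
  have hmem : ∀ x : P, x ∈ D ∨ x ∈ C := fun x => hcov (Opens.mem_top x)
  have huniq : ∀ (O : P.Opens) (x x' : Γ(G, O)),
      rs G (inf_le_left : O ⊓ C ≤ O) x = rs G inf_le_left x' → ε.app O x = ε.app O x' → x = x' := by
    intro O x x' h1 h2
    refine section_ext G x x' fun p hp => ?_
    rcases hmem p with hD' | hC'
    · refine ⟨O ⊓ D, inf_le_left, ⟨hp, hD'⟩, (hD _ inf_le_right).1 ?_⟩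
      rw [app_rs, app_rs, h2]
    · exact ⟨O ⊓ C, inf_le_left, ⟨hp, hC'⟩, h1⟩
  have hex : ∀ (O : P.Opens) (y : Γ(H, O)), ∃ x : Γ(G, O),
      rs G (inf_le_left : O ⊓ C ≤ O) x = 0 ∧ ε.app O x = y := by
    intro O y
    obtain ⟨x₀, hx₀⟩ := (hD _ (inf_le_right : O ⊓ D ≤ D)).2 (rs H inf_le_left y)
    let W : Bool → P.Opens := fun b => cond b (O ⊓ D) (O ⊓ C)
    have hW : ∀ b, W b ≤ O := by intro b; cases b <;> exact inf_le_left
    let sf : ∀ b, Γ(G, W b) := fun b => match b with
      | true => x₀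
      | false => 0
    obtain ⟨x, hx, -⟩ := TopCat.Sheaf.existsUnique_gluing'
      (⟨G.presheaf, G.isSheaf⟩ : TopCat.Sheaf AddCommGrpCat.{u} P) W O (fun b => homOfLE (hW b))
      (fun p hp => by
        rcases hmem p with h | h
        · exact Opens.mem_iSup.2 ⟨true, hp, h⟩
        · exact Opens.mem_iSup.2 ⟨false, hp, h⟩)
      sf (fun a b => by
        cases a <;> cases b
        · rfl
        · exact (sec_subsingleton G (le_trans
            (le_inf (inf_le_right.trans inf_le_right) (inf_le_left.trans inf_le_right)) hdisj)).elim _ _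
        · exact (sec_subsingleton G (le_trans
            (le_inf (inf_le_left.trans inf_le_right) (inf_le_right.trans inf_le_right)) hdisj)).elim _ _
        · rfl)
    refine ⟨x, hx false, section_ext H _ _ fun p hp => ?_⟩
    rcases hmem p with h | h
    · refine ⟨O ⊓ D, inf_le_left, ⟨hp, h⟩, ?_⟩
      rw [← app_rs ε (inf_le_left : O ⊓ D ≤ O) x, show rs G inf_le_left x = x₀ from hx true, hx₀]
    · exact ⟨O ⊓ C, inf_le_left, ⟨hp, h⟩, (hC _ inf_le_right).elim _ _⟩
  choose σ hσ0 hσ using hex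
  have hres : ∀ {O O' : P.Opens} (h : O' ≤ O) (y : Γ(H, O)),
      σ O' (rs H h y) = rs G h (σ O y) := by
    intro O O' h y
    refine huniq O' _ _ ?_ ?_
    · rw [hσ0, rs_rs, ← rs_rs G (inf_le_left : O ⊓ C ≤ O) (le_inf (inf_le_left.trans h) inf_le_right),
        hσ0]
      exact (map_zero _).symm
    · rw [hσ, app_rs, hσ]
  let s : H ⟶ G := ⟨PresheafOfModules.homMk
    { app := fun O => AddCommGrpCat.ofHom
        { toFun := fun y : Γ(H, O.unop) => σ O.unop y
          map_zero' := huniq _ _ _ ((hσ0 _ _).trans (map_zero _).symm) ((hσ _ _).trans (map_zero _).symm)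
          map_add' := fun y y' => huniq _ _ _
            ((hσ0 _ _).trans (((rs_add _ _ _ _).trans
              ((congrArg₂ (· + ·) (hσ0 _ y) (hσ0 _ y')).trans (add_zero _))).symm))
            ((hσ _ _).trans (((map_add _ _ _).trans (congrArg₂ (· + ·) (hσ _ y) (hσ _ y'))).symm)) }
      naturality := fun {O O'} i => by
        ext y
        exact hres i.unop.le y }
    (fun O r y => by
      refine huniq O.unop _ _ ?_ ?_
      · show rs G _ (σ O.unop _) = rs G _ ((show Γ(P, O.unop) from r) • σ O.unop y)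
        exact (hσ0 _ _).trans (((rs_smul G _ _ _).trans
          ((congrArg (_ • ·) (hσ0 _ y)).trans (smul_zero _))).symm)
      · show ε.app O.unop (σ O.unop _) = ε.app O.unop ((show Γ(P, O.unop) from r) • σ O.unop y)
        exact (hσ _ _).trans (((ε.app_smul _ _).trans (congrArg (_ • ·) (hσ _ y))).symm))⟩
  refine IsSplitEpi.mk' ⟨s, Scheme.Modules.hom_ext _ _ fun O => ?_⟩
  ext y
  exact hσ O y

theorem bijective_restrict_unit_app {U : Scheme.{u}} (f : U ⟶ P) [IsOpenImmersion f] (M : P.Modules)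
    {W : P.Opens} (hW : W ≤ f.opensRange) :
    Function.Bijective (((Scheme.Modules.restrictAdjunction f).unit.app M).app W) := by
  have h : f ''ᵁ (f ⁻¹ᵁ W) = W := by
    rw [Scheme.Hom.image_preimage_eq_opensRange_inf, inf_eq_right.2 hW]
  refine Function.bijective_iff_has_inverse.2
    ⟨rs _ h.ge, fun m => ?_, fun m => ?_⟩
  · change rs M h.ge (rs M (f.image_preimage_le W) m) = m
    rw [rs_rs]
    exact rs_self M _ _
  · change rs M (f.image_preimage_le W) (rs M h.ge m) = m
    erw [rs_rs]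
    exact rs_self M _ _

variable {X X' : Scheme.{u}}

/-- Modules through a section of a morphism. -/
noncomputable def secIso (d : X' ⟶ P) (q : P ⟶ X') (h : d ≫ q = 𝟙 X') :
    𝟭 X'.Modules ≅ Scheme.Modules.pushforward d ⋙ Scheme.Modules.pushforward q :=
  (Scheme.Modules.pushforwardId X').symm ≪≫ Scheme.Modules.pushforwardCongr h.symm ≪≫
    (Scheme.Modules.pushforwardComp d q).symm

theorem secIso_hom_app (d : X' ⟶ P) (q : P ⟶ X') (h : d ≫ q = 𝟙 X') (V : X'.Modules)
    (O : X'.Opens) (hle : d ⁻¹ᵁ (q ⁻¹ᵁ O) ≤ O) (n : Γ(V, O)) :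
    ((secIso d q h).hom.app V).app O n = rs V hle n := by
  simp [secIso]; rfl

theorem secIso_inv_app (d : X' ⟶ P) (q : P ⟶ X') (h : d ≫ q = 𝟙 X') (V : X'.Modules)
    (O : X'.Opens) (hle : O ≤ d ⁻¹ᵁ (q ⁻¹ᵁ O)) (n : Γ(V, d ⁻¹ᵁ (q ⁻¹ᵁ O))) :
    ((secIso d q h).inv.app V).app O n = rs V hle n := by
  simp [secIso]; rfl

/-- The restriction of sections of the pullback to the diagonal. -/
theorem exists_diag (d : X' ⟶ P) [IsOpenImmersion d] (q : P ⟶ X') (h : d ≫ q = 𝟙 X')
    (V : X'.Modules) :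
    ∃ ε : (Scheme.Modules.pullback q).obj V ⟶ (Scheme.Modules.pushforward d).obj V,
      (Scheme.Modules.pullbackPushforwardAdjunction q).homEquiv _ _ ε = (secIso d q h).hom.app V ∧
      ∀ O ≤ d.opensRange, Function.Bijective (ε.app O) := by
  let adj := (Scheme.Modules.pullbackPushforwardAdjunction q).comp (Scheme.Modules.restrictAdjunction d)
  let Φ := secIso d q h
  let θ := (adj.homEquiv V V).symm (Φ.hom.app V)
  let ψ := adj.unit.app V ≫ Φ.inv.app _
  haveI : IsIso θ := by
    refine ⟨ψ, (adj.homEquiv _ _).injective ?_, ?_⟩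
    · have hn : Φ.hom.app V ≫
          (Scheme.Modules.pushforward d ⋙ Scheme.Modules.pushforward q).map ψ =
            ψ ≫ Φ.hom.app _ := (Φ.hom.naturality ψ).symm
      rw [Adjunction.homEquiv_naturality_right, Equiv.apply_symm_apply, hn, Adjunction.homEquiv_id]
      simp [ψ]
    · have hn : Φ.inv.app _ ≫ θ =
          (Scheme.Modules.pushforward d ⋙ Scheme.Modules.pushforward q).map θ ≫ Φ.inv.app V :=
        (Φ.inv.naturality θ).symm
      simp only [ψ]
      refine (Category.assoc _ _ _).trans ((congrArg (_ ≫ ·) hn).trans ?_)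
      rw [← Category.assoc, ← Adjunction.homEquiv_unit, Equiv.apply_symm_apply]
      exact Φ.hom_inv_id_app V
  let ε := (Scheme.Modules.restrictAdjunction d).homEquiv _ _ θ
  refine ⟨ε, ?_, fun O hO => ?_⟩
  · simp [adj, Adjunction.comp_homEquiv, ε, θ, Φ]
  · have e : ε = (Scheme.Modules.restrictAdjunction d).unit.app _ ≫
        (Scheme.Modules.pushforward d).map θ := Adjunction.homEquiv_unit ..
    rw [e]
    exact (ConcreteCategory.bijective_of_isIso (θ.app (d ⁻¹ᵁ O))).comp
      (bijective_restrict_unit_app d _ hO)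

theorem main (p : X' ⟶ X) [IsFinite p] [Etale p] (V : X'.Modules) [V.IsQuasicoherent] :
    IsSplitEpi ((Scheme.Modules.pullbackPushforwardAdjunction p).counit.app V) := by
  let Δ := CategoryTheory.Limits.pullback.diagonal p
  let q₁ := pullback.fst p p
  let q₂ := pullback.snd p p
  have h₁ : Δ ≫ q₁ = 𝟙 X' := CategoryTheory.Limits.pullback.diagonal_fst p
  have h₂ : Δ ≫ q₂ = 𝟙 X' := CategoryTheory.Limits.pullback.diagonal_snd p
  have sq : IsPullback q₁ q₂ p p := IsPullback.of_hasPullback p p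
  obtain ⟨ε, hε, hbij⟩ := exists_diag Δ q₁ h₁ V
  let C : (pullback p p).Opens := ⟨(Set.range Δ)ᶜ, Δ.isClosedEmbedding.isClosed_range.isOpen_compl⟩
  haveI : IsSplitEpi ε := by
    refine isSplitEpi_of_clopen ε Δ.opensRange C (fun x _ => ?_) (fun x hx => ?_) hbij fun O hO => ?_
    · exact (em (x ∈ Set.range Δ)).imp id id
    · exact hx.2 hx.1
    · refine sec_subsingleton V (O := Δ ⁻¹ᵁ O) fun x hx => ?_
      exact hO hx ⟨x, rfl⟩
  let r := (Scheme.Modules.pushforward q₂).map ε ≫ (secIso Δ q₂ h₂).inv.app V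
  haveI : IsIso (ZarCoh.AffineBC.bc sq V) := ZarCoh.AffineBC.isIso_bc sq V
  have key : (Scheme.Modules.pullbackPushforwardAdjunction p).counit.app V =
      ZarCoh.AffineBC.bc sq V ≫ r := by
    let adjp := Scheme.Modules.pullbackPushforwardAdjunction p
    refine (adjp.homEquiv _ _).injective ?_
    rw [Adjunction.homEquiv_naturality_right, ZarCoh.AffineBC.bc, Equiv.apply_symm_apply,
      Adjunction.homEquiv_unit, Adjunction.right_triangle_components]
    refine Scheme.Modules.hom_ext _ _ fun U => ?_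
    ext n
    let G := (Scheme.Modules.pullback q₁).obj V
    have hn := congrArg (fun φ : V ⟶ _ => φ.app (p ⁻¹ᵁ U) n)
      ((Adjunction.homEquiv_unit ..).symm.trans hε)
    change ε.app (q₁ ⁻¹ᵁ (p ⁻¹ᵁ U))
      (((Scheme.Modules.pullbackPushforwardAdjunction q₁).unit.app V).app (p ⁻¹ᵁ U) n) = _ at hn
    have hle : q₂ ⁻¹ᵁ (p ⁻¹ᵁ U) ≤ q₁ ⁻¹ᵁ (p ⁻¹ᵁ U) := le_of_eq (by
      rw [← Scheme.Hom.comp_preimage, ← Scheme.Hom.comp_preimage, sq.w])
    have hle₂ : p ⁻¹ᵁ U ≤ Δ ⁻¹ᵁ (q₂ ⁻¹ᵁ (p ⁻¹ᵁ U)) := le_of_eq (by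
      rw [← Scheme.Hom.comp_preimage, h₂]; rfl)
    change n = rs V hle₂ (ε.app _ (rs G hle
      (((Scheme.Modules.pullbackPushforwardAdjunction q₁).unit.app V).app (p ⁻¹ᵁ U) n)))
    have hle₁ : Δ ⁻¹ᵁ (q₁ ⁻¹ᵁ (p ⁻¹ᵁ U)) ≤ p ⁻¹ᵁ U := le_of_eq (by
      rw [← Scheme.Hom.comp_preimage, h₁]; rfl)
    have e2 := (app_rs ε hle _).trans
      (congrArg (rs _ hle) (hn.trans (secIso_hom_app Δ q₁ h₁ V _ hle₁ n)))
    refine Eq.trans ?_ (congrArg (fun z => rs V hle₂ z) e2).symm
    exact ((congrArg (fun z => rs V hle₂ z) (rs_rs V hle₁ (Δ.preimage_mono hle) n)).trans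
      ((rs_rs V ((Δ.preimage_mono hle).trans hle₁) hle₂ n).trans (rs_self V _ n))).symm
  rw [key]
  haveI : IsSplitEpi r := IsSplitEpi.mk'
    ⟨(secIso Δ q₂ h₂).hom.app V ≫ (Scheme.Modules.pushforward q₂).map (section_ ε), by
      simp only [r, Category.assoc]
      rw [← Functor.map_comp_assoc, IsSplitEpi.id, CategoryTheory.Functor.map_id, Category.id_comp,
        Iso.hom_inv_id_app]⟩
  infer_instance

end Helpers

/-- Let p : X' → X be a finite étale morphism of schemes and V' a quasi-coherent O_{X'}-module. Then V'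
is a direct summand of p^* p_* V': the counit p^* p_* V' → V' of the adjunction between pullback and
pushforward of modules along p is a split epimorphism. (The published statement is for modules under
a pregroupoid H over X acting compatibly on X'; this row is the case of the trivial pregroupoid.) -/
theorem result {X X' : Scheme.{u}} (p : X' ⟶ X) [IsFinite p] [Etale p]
    (V' : X'.Modules) (hV' : Coh.IsQCoh V') :
    IsSplitEpi ((Scheme.Modules.pullbackPushforwardAdjunction p).counit.app V') := by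
  haveI : V'.IsQuasicoherent := hV'
  exact main p V' 

end Groth.Agent.S14549
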