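import Groth.Statements.S14556
import Groth.Agent.Lib.GaGmExt.HUZero
import Groth.Agent.Lib.GaGmExt.RestrPts
-- import your own Groth.Agent.* helpers here

set_option autoImplicit false
universe u
open TateGlob

namespace Groth.Agent.S14556

open CategoryTheory AlgebraicGeometry in
/-- Let K be a global function field with finite constant field Fq (every element of K having finitely
many poles), A_K its ring of adeles, S a finite nonempty set of places, O_S the ring of S-integers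
and 𝒢 a flat, separated commutative O_S-group scheme of finite type. Then the map H^0(A_K, 𝒢) → ∏_v
H^0(K_v, 𝒢) induced by the projections A_K → K_v is injective, and its image consists of the
restricted product of the H^0(K_v, 𝒢), taken relative to the images of H^0(O_v, 𝒢) → H^0(K_v, 𝒢), v
∉ S: the families almost all of whose components come from O_v. Here H^0 is the degree-0 cohomology
of the sheaf of points of 𝒢 on the big fppf site of Spec O_S, restricted to Spec A_K, Spec K_v and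
Spec O_v. -/
theorem result (Fq : Type u) [Field Fq] [Finite Fq] (K : Type u) [Field K] [Algebra (RatFunc Fq) K] [FunctionField Fq K]
    [Algebra Fq K] [IsScalarTower Fq (RatFunc Fq) K] [AdFn.HasFinitePoles Fq K]
    (S : Set (FunFld.Place Fq K)) (hS : S.Finite) (hne : S.Nonempty)
    (𝒢 : Over (Spec (CommRingCat.of (AdFn.SInt S)))) [GrpObj 𝒢] [IsCommMonObj 𝒢]
    [Flat 𝒢.hom] [IsSeparated 𝒢.hom] [LocallyOfFiniteType 𝒢.hom] [QuasiCompact 𝒢.hom] :
    Function.Injective (AdFn.locProdS Scheme.fppfPrecoverage S (CGrpSh.pts Scheme.fppfPrecoverage 𝒢) 0) ∧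
      Set.range (AdFn.locProdS Scheme.fppfPrecoverage S (CGrpSh.pts Scheme.fppfPrecoverage 𝒢) 0) =
        Set.range (fun y : AdFn.LocRP Scheme.fppfPrecoverage S (CGrpSh.pts Scheme.fppfPrecoverage 𝒢) 0 => (⇑y : (v : FunFld.Place Fq K) → AdFn.HLocS Scheme.fppfPrecoverage S (CGrpSh.pts Scheme.fppfPrecoverage 𝒢) 0 v)) := by
  classical
  open Groth.Agent.Lib.GaGmExt in
  let P := Scheme.fppfPrecoverage.{u}
  let F := CGrpSh.pts P 𝒢
  let A := AdFn.AdeleRing Fq K
  letI hF : ∀ v : FunFld.Place Fq K, Field (AdFn.Kv v) := fun v => inferInstance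
  let φ : AdFn.SInt S →+* A := AdFn.SInt.toAd S
  let π : ∀ v : FunFld.Place Fq K, A →+* AdFn.Kv v := fun v => AdFn.AdeleRing.proj v
  have hπ : ∀ a, (∀ v, π v a = 0) → a = 0 := fun a ha => Subtype.ext (funext ha)
  let pt : ∀ {T : Over (Spec (CommRingCat.of (AdFn.SInt S)))}, BigSite.HU P F 0 T → (T.left ⟶ 𝒢.left) :=
    fun {T} x => ((Groth.Agent.Lib.GaGmExt.HUZero.σ P F x) :
      ULift.{u + 1} (Additive (Groth.Agent.Lib.GaGmExt.LocChar.top' T ⟶ 𝒢))).down.toMul.left
  have pt_w : ∀ {T : Over (Spec (CommRingCat.of (AdFn.SInt S)))} (x : BigSite.HU P F 0 T),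
      pt x ≫ 𝒢.hom = T.hom := fun {T} x => (Over.w _).trans (Category.id_comp _)
  have pt_inj : ∀ {T : Over (Spec (CommRingCat.of (AdFn.SInt S)))} (x y : BigSite.HU P F 0 T),
      pt x = pt y → x = y := fun x y h => (Groth.Agent.Lib.GaGmExt.HUZero.σ_bijective P F).1
        (ULift.ext _ _ (congrArg Additive.ofMul (Over.OverMorphism.ext h)))
  have pt_surj : ∀ {T : Over (Spec (CommRingCat.of (AdFn.SInt S)))} (f : T.left ⟶ 𝒢.left),
      f ≫ 𝒢.hom = T.hom → ∃ x : BigSite.HU P F 0 T, pt x = f := fun {T} f hf => by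
    obtain ⟨x, hx⟩ := (Groth.Agent.Lib.GaGmExt.HUZero.σ_bijective (T := T) P F).2
      (ULift.up (Additive.ofMul (Over.homMk f (hf.trans (Category.id_comp _).symm) :
        Groth.Agent.Lib.GaGmExt.LocChar.top' T ⟶ 𝒢)))
    exact ⟨x, congrArg (fun z : ULift.{u + 1} (Additive (Groth.Agent.Lib.GaGmExt.LocChar.top' T ⟶ 𝒢)) =>
      z.down.toMul.left) hx⟩
  have pt_res : ∀ {T T' : Over (Spec (CommRingCat.of (AdFn.SInt S)))} (g : T' ⟶ T)
      (x : BigSite.HU P F 0 T), pt (HRes.resHU P F 0 g x) = g.left ≫ pt x := fun g x =>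
    congrArg (fun z : ULift.{u + 1} (Additive (Groth.Agent.Lib.GaGmExt.LocChar.top' _ ⟶ 𝒢)) => z.down.toMul.left)
      (Groth.Agent.Lib.GaGmExt.HUZero.σ_resHU P g F x)
  refine ⟨fun x y hxy => pt_inj x y ?_, Set.ext fun p => ⟨?_, ?_⟩⟩
  · refine Groth.Agent.Lib.GaGmExt.RestrPts.ext_of_forall 𝒢.hom π hπ _ _ ((pt_w x).trans (pt_w y).symm) fun v => ?_
    exact (pt_res (AdFn.adProjSHom S v) x).symm.trans ((congrArg pt (congrFun hxy v)).trans (pt_res _ y))
  · rintro ⟨x, rfl⟩
    have hev := Groth.Agent.Lib.GaGmExt.RestrPts.eventually_integral 𝒢.hom φ π (fun v => AdFn.Ov v)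
      (fun a => a.2) (by
        filter_upwards [hS.compl_mem_cofinite] with v hv r
        exact ((AdFn.SInt.toOv S hv) r).2) (pt x) (pt_w x)
    refine ⟨⟨AdFn.locProdS P S F 0 x, ?_⟩, rfl⟩
    filter_upwards [hev, hS.compl_mem_cofinite] with v hq hv
    obtain ⟨q, hq₁, hq₂⟩ := hq
    change _ ∈ AdFn.locSub P S F 0 v
    rw [AdFn.locSub, iSup_pos (show v ∉ S from hv)]
    obtain ⟨y, hy⟩ := pt_surj (T := AdFn.specOf (AdFn.SInt.toOv S hv)) q
      (hq₁ (AdFn.SInt.toOv S hv) (RingHom.ext fun _ => rfl))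
    refine ⟨y, pt_inj _ _ ((pt_res (AdFn.intResHom S hv) y).trans ?_)⟩
    rw [hy]
    exact hq₂.trans (pt_res (AdFn.adProjSHom S v) x).symm
  · rintro ⟨y, rfl⟩
    obtain ⟨x₀, hx₁, hx₂⟩ := Groth.Agent.Lib.GaGmExt.RestrPts.exists_point 𝒢.hom φ π (fun v => AdFn.Ov v)
      (fun a ha => ⟨⟨a, ha⟩, fun _ => rfl⟩) hπ (fun v => pt (y v))
      (fun v => (pt_w (y v)).trans rfl) (by
        filter_upwards [y.2, hS.compl_mem_cofinite] with v hy hv
        change _ ∈ AdFn.locSub P S F 0 v at hy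
        rw [AdFn.locSub, iSup_pos (show v ∉ S from hv)] at hy
        obtain ⟨z, hz⟩ := hy
        exact ⟨pt z, (pt_res (AdFn.intResHom S hv) z).symm.trans (congrArg pt hz)⟩)
    obtain ⟨x, hx⟩ := pt_surj (T := AdFn.specOf (AdFn.SInt.toAd S)) x₀ hx₁
    refine ⟨x, funext fun v => pt_inj _ _ ((pt_res (AdFn.adProjSHom S v) x).trans ?_)⟩
    rw [hx]
    exact hx₂ v

end Groth.Agent.S14556
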