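import Groth.Statements.S1458
import Mathlib.RingTheory.FinitePresentation
import Mathlib.RingTheory.Finiteness.ModuleFinitePresentation
import Mathlib.Algebra.Module.FinitePresentation
import Mathlib.LinearAlgebra.TensorProduct.RightExactness
import Mathlib.Algebra.MvPolynomial.Eval

set_option autoImplicit false
universe u
open TensorProduct MvPolynomial

namespace Groth.Agent.S1458

open TensorProduct in
set_option maxHeartbeats 1000000 in
/-- Let A → B be a finite ring map of finite presentation. Then there are a finitely presented A-algebra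
A_u and an idempotent e_u of B ⊗_A A_u such that for every A-algebra A' and every idempotent e of B
⊗_A A' there is an A-algebra map A_u → A' whose induced map B ⊗ A_u → B ⊗ A' sends e_u to e. -/
theorem result {A B : Type u} [CommRing A] [CommRing B] [Algebra A B] [Module.Finite A B] [Algebra.FinitePresentation A B] :
    ∃ (Au : Type u) (_ : CommRing Au) (_ : Algebra A Au) (eu : B ⊗[A] Au), Algebra.FinitePresentation A Au ∧ IsIdempotentElem eu ∧
      ∀ (A' : Type u) [CommRing A'] [Algebra A A'] (e : B ⊗[A] A'), IsIdempotentElem e →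
        ∃ φ : Au →ₐ[A] A', Algebra.TensorProduct.map (AlgHom.id A B) φ eu = e := by
  classical
  have : Module.FinitePresentation A B := Module.FinitePresentation.of_finite_of_finitePresentation A B
  obtain ⟨n, p, hp⟩ := Module.Finite.exists_fin' A B
  obtain ⟨k, q, hq⟩ := Submodule.fg_iff_exists_fin_generating_family.1
    (Module.FinitePresentation.fg_ker p hp)
  let b : Fin n → B := fun i => p (Pi.single i 1)
  choose μ hμ using fun i j => hp (b i * b j)
  have hb : ∀ v : Fin n → A, p v = ∑ l, v l • b l := fun v => by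
    conv_lhs => rw [pi_eq_sum_univ' v]
    simp [b, map_sum, map_smul]
  let c : Fin n → MvPolynomial (Fin n ⊕ Fin k) A := fun l =>
    (∑ i, ∑ j, C (μ i j l) * (X (.inl i) * X (.inl j))) - X (.inl l)
  let I : Ideal (MvPolynomial (Fin n ⊕ Fin k) A) :=
    Ideal.span (Set.range fun l => c l - ∑ j, C (q j l) * X (.inr j))
  let Au := MvPolynomial (Fin n ⊕ Fin k) A ⧸ I
  let π : MvPolynomial (Fin n ⊕ Fin k) A →ₐ[A] Au := Ideal.Quotient.mkₐ A I
  let eu : B ⊗[A] Au := ∑ i, b i ⊗ₜ π (X (.inl i))
  -- the square of a combination of the generators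
  have hsq : ∀ {T : Type u} [CommRing T] [Algebra A T] (τ : Fin n → T),
      (∑ i, b i ⊗ₜ[A] τ i) * (∑ i, b i ⊗ₜ[A] τ i) - ∑ i, b i ⊗ₜ[A] τ i =
        ∑ l, b l ⊗ₜ[A] ((∑ i, ∑ j, μ i j l • (τ i * τ j)) - τ l) := by
    intro T _ _ τ
    simp only [TensorProduct.tmul_sub, Finset.sum_sub_distrib, TensorProduct.tmul_sum]
    refine congrArg (· - _) ?_
    rw [Finset.sum_mul_sum]
    conv_rhs => rw [Finset.sum_comm]; arg 2; ext i; rw [Finset.sum_comm]
    refine Finset.sum_congr rfl fun i _ => Finset.sum_congr rfl fun j _ => ?_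
    rw [Algebra.TensorProduct.tmul_mul_tmul, ← hμ i j, hb, TensorProduct.sum_tmul]
    refine Finset.sum_congr rfl fun l _ => ?_
    rw [TensorProduct.smul_tmul]
  have hqb : ∀ j, ∑ l, q j l • b l = 0 := fun j => by
    rw [← hb]
    exact hq.le (Submodule.subset_span ⟨j, rfl⟩)
  refine ⟨Au, inferInstance, inferInstance, eu, ?_, ?_, ?_⟩
  · exact Algebra.FinitePresentation.quotient (Submodule.fg_span (Set.finite_range _))
  · show eu * eu = eu
    rw [← sub_eq_zero, hsq]
    have hrel : ∀ l, (∑ i, ∑ j, μ i j l • (π (X (.inl i)) * π (X (.inl j)))) - π (X (.inl l)) =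
        ∑ j, q j l • π (X (.inr j)) := by
      intro l
      have h0 : π (c l - ∑ j, C (q j l) * X (.inr j)) = 0 :=
        Ideal.Quotient.eq_zero_iff_mem.2 (Ideal.subset_span ⟨l, rfl⟩)
      rw [map_sub, sub_eq_zero] at h0
      have hsd : ∀ (a : A) (y : Au), a • y = algebraMap A Au a * y := fun a y => Algebra.smul_def a y
      simpa [c, hsd, ← MvPolynomial.algebraMap_eq] using h0
    simp only [hrel, TensorProduct.tmul_sum]
    rw [Finset.sum_comm]
    refine Finset.sum_eq_zero fun j _ => ?_
    simp only [TensorProduct.tmul_smul, TensorProduct.smul_tmul', ← TensorProduct.sum_tmul, hqb,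
      TensorProduct.zero_tmul]
  · intro A' _ _ e he
    obtain ⟨w, hw⟩ := LinearMap.rTensor_surjective A' hp e
    let Φ : (Fin n → A) ⊗[A] A' →ₗ[A] (Fin n → A') := LinearMap.pi fun l =>
      (TensorProduct.lid A A').toLinearMap.comp ((LinearMap.proj l).rTensor A')
    have hΦ : ∀ v a l, Φ (v ⊗ₜ a) l = v l • a := fun v a l => by simp [Φ]
    let τ : Fin n → A' := Φ w
    have hτ : ∀ z, p.rTensor A' z = ∑ i, b i ⊗ₜ[A] Φ z i := by
      intro z
      induction z using TensorProduct.induction_on with
      | zero => simp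
      | add x y hx hy => simp only [map_add, hx, hy, Pi.add_apply, TensorProduct.tmul_add, Finset.sum_add_distrib]
      | tmul v a =>
        rw [LinearMap.rTensor_tmul, hb, TensorProduct.sum_tmul]
        refine Finset.sum_congr rfl fun i _ => ?_
        rw [hΦ, TensorProduct.smul_tmul]
    have he' : e = ∑ i, b i ⊗ₜ[A] τ i := hw ▸ hτ w
    let cτ : Fin n → A' := fun l => (∑ i, ∑ j, μ i j l • (τ i * τ j)) - τ l
    have hker : p.rTensor A' (∑ l, Pi.single l 1 ⊗ₜ cτ l) = 0 := by
      rw [map_sum]
      simp only [LinearMap.rTensor_tmul]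
      show ∑ l, b l ⊗ₜ[A] cτ l = 0
      rw [← hsq, ← he', sub_eq_zero]
      exact he
    have hex : Function.Exact (Fintype.linearCombination A q) p := by
      rw [LinearMap.exact_iff, Fintype.range_linearCombination]
      exact hq.symm
    obtain ⟨z, hz⟩ := ((rTensor_exact A' hex hp) _).1 hker
    let Ψ : (Fin k → A) ⊗[A] A' →ₗ[A] (Fin k → A') := LinearMap.pi fun j =>
      (TensorProduct.lid A A').toLinearMap.comp ((LinearMap.proj j).rTensor A')
    let σ : Fin k → A' := Ψ z
    have hkey : ∀ z l, Φ ((Fintype.linearCombination A q).rTensor A' z) l = ∑ j, q j l • Ψ z j := by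
      intro z l
      induction z using TensorProduct.induction_on with
      | zero => simp
      | add x y hx hy => simp only [map_add, Pi.add_apply, hx, hy, smul_add, Finset.sum_add_distrib]
      | tmul v a =>
        rw [LinearMap.rTensor_tmul, hΦ]
        simp [Ψ, Fintype.linearCombination_apply, Finset.sum_apply, Finset.sum_smul, smul_smul, mul_comm]
    have hc : ∀ l, cτ l = ∑ j, q j l • σ j := fun l => by
      rw [← hkey, hz]
      simp [hΦ, map_sum, Finset.sum_apply, Pi.single_apply]
    let φ₀ : MvPolynomial (Fin n ⊕ Fin k) A →ₐ[A] A' := aeval (Sum.elim τ σ)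
    have hI : I ≤ RingHom.ker φ₀ := by
      rw [Ideal.span_le]
      rintro _ ⟨l, rfl⟩
      rw [SetLike.mem_coe, RingHom.mem_ker, map_sub, sub_eq_zero]
      have h1 := hc l
      simp only [cτ, Algebra.smul_def] at h1
      simp only [φ₀, c, map_sub, map_sum, map_mul, aeval_C, aeval_X, Sum.elim_inl, Sum.elim_inr]
      exact h1
    let φ : Au →ₐ[A] A' := Ideal.Quotient.liftₐ I φ₀ hI
    refine ⟨φ, ?_⟩
    rw [he', map_sum]
    refine Finset.sum_congr rfl fun i _ => ?_
    rw [Algebra.TensorProduct.map_tmul]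
    show b i ⊗ₜ[A] φ₀ (X (.inl i)) = _
    simp [φ₀]

end Groth.Agent.S1458
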