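import Groth.Statements.S14580
import Groth.Agent.Lib.GrpQ.AntiAffSmooth
import Groth.Agent.Lib.GrpQ.KerRho


set_option autoImplicit false
universe u
open CategoryTheory MonoidalCategory CartesianMonoidalCategory MonObj GrpObj AlgebraicGeometry CategoryTheory.Limits
open AlgGrp

namespace Groth.Agent.S14580

/-- Let k be a field, G a proper k-group scheme of finite type and N ⊆ G the kernel of the affinization
morphism G → Spec O(G), i.e. the fibre over the image of the unit section (the largest anti-affine
subgroup scheme of G). Then the image of N in G is the connected component of the identity: as N is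
smooth, N is the reduced neutral component G⁰_red, which is therefore a smooth connected algebraic
group. -/
theorem result (k : Type u) [Field k]
    (G : Over (Spec (CommRingCat.of k))) [GrpObj G] [IsProper G.hom] (t : ↥((𝟙_ (Over (Spec (CommRingCat.of k)))).left)) :
    Set.range ⇑(pullback.fst G.left.toSpecΓ (η[G].left ≫ G.left.toSpecΓ)).base = connectedComponent ((η[G]).left.base t) := by
  obtain ⟨_, _⟩ := Groth.Agent.Lib.GrpQ.Affinization.exists_grp G
  let ρ := Groth.Agent.Lib.GrpQ.Affinization.rho G
  let A := Groth.Agent.Lib.GrpQ.Affinization.aff G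
  have hsep := Groth.Agent.Lib.GrpSch.isSeparated_of_field A
  obtain ⟨hs, -, hlft⟩ := Groth.Agent.Lib.GrpQ.Affinization.rho_faithfullyFlat G
  have : Surjective ρ.left := hs
  have : IsFinite A.hom := by
    rw [IsFinite.iff_isProper_and_isAffineHom]
    refine ⟨?_, inferInstance⟩
    have : IsProper (ρ.left ≫ A.hom) := by rw [Over.w]; infer_instance
    have : UniversallyClosed A.hom := UniversallyClosed.of_comp_surjective ρ.left A.hom
    exact { }
  have : Finite A.left := by
    have h := Scheme.Hom.finite_preimage_singleton A.hom (IsLocalRing.closedPoint k)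
    have hu : A.hom ⁻¹' {IsLocalRing.closedPoint k} = Set.univ :=
      Set.eq_univ_of_forall fun x => Subsingleton.elim (α := Spec (CommRingCat.of k)) _ _
    exact Set.finite_univ_iff.1 (hu ▸ h)
  have hdisc : DiscreteTopology A.left := by
    have : JacobsonSpace A.left := LocallyOfFiniteType.jacobsonSpace A.hom
    infer_instance
  have hη : η[A].left = η[G].left ≫ G.left.toSpecΓ := by
    rw [← IsMonHom.one_hom (f := ρ)]
    rfl
  have hrange : Set.range (pullback.fst G.left.toSpecΓ (η[G].left ≫ G.left.toSpecΓ)) = ρ.left ⁻¹' {ρ.left (η[G].left t)} := by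
    rw [Scheme.Pullback.range_fst]
    congr 1
    ext x
    exact ⟨fun ⟨s, hs⟩ => by rw [← hs, Subsingleton.elim (α := Spec (CommRingCat.of k)) s t]; rfl, fun hx => ⟨t, hx.symm⟩⟩
  obtain ⟨N, _, i, hi, hcl, hK, -⟩ := Groth.Agent.Lib.GrpQ.exists_kernel ρ
  have : LocallyOfFiniteType N.hom := by rw [← Over.w i]; infer_instance
  have : QuasiCompact N.hom := by rw [← Over.w i]; infer_instance
  have := Groth.Agent.Lib.GrpQ.KerRho.isIso_appTop_kernel i hK
  have hc := Groth.Agent.Lib.GrpQ.AntiAff.connectedSpace (X := N)
    (ConcreteCategory.bijective_of_isIso ((Scheme.ΓSpecIso (CommRingCat.of k)).inv ≫ N.hom.appTop))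
  have sq : IsPullback i.left (toUnit N).left G.left.toSpecΓ (η[G].left ≫ G.left.toSpecΓ) := by
    have := hK.map (Over.forget _)
    rw [← hη]
    exact this
  have : ConnectedSpace ↥(pullback G.left.toSpecΓ (η[G].left ≫ G.left.toSpecΓ)) :=
    sq.isoPullback.hom.homeomorph.connectedSpace_iff.1 hc
  have hconn : _root_.IsPreconnected (ρ.left ⁻¹' {ρ.left (η[G].left t)}) := by
    rw [← hrange]
    exact (isConnected_range (Scheme.Hom.continuous _)).isPreconnected
  refine hrange.trans (subset_antisymm (hconn.subset_connectedComponent rfl) ?_)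
  exact IsClopen.connectedComponent_subset ((isClopen_discrete _).preimage ρ.left.continuous) rfl

end Groth.Agent.S14580
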