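import Groth.Statements.S14583
import Groth.Agent.Lib.GrpQ.FrobQ
import Groth.Agent.Lib.GrpQ.AntiAffSub
import Mathlib.FieldTheory.PurelyInseparable.Exponent

set_option autoImplicit false
universe u
open CategoryTheory MonoidalCategory CartesianMonoidalCategory MonObj GrpObj AlgebraicGeometry CategoryTheory.Limits
open AlgGrp

namespace Groth.Agent.S14583

open Groth.Agent.Lib Groth.Agent.Lib.GrpQ

/-- The `p ^ n`-th power map on an affine spectrum. -/
theorem frobN_Spec (p : ℕ) [Fact p.Prime] (R : Type u) [CommRing R] [FrobSch.IsCharP (Spec (CommRingCat.of R)) p]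
    (n : ℕ) (φ : R →+* R) (hφ : ∀ x, φ x = x ^ p ^ n) :
    FrobQ.frobN p (Spec (CommRingCat.of R)) n = Spec.map (CommRingCat.ofHom φ) := by
  refine ext_of_isAffine ?_
  ext s
  have h1 : (FrobQ.frobN p (Spec (CommRingCat.of R)) n).appTop s = s ^ p ^ n := by
    have := FrobQ.frobN_appLE p (Spec (CommRingCat.of R)) n ⊤ le_rfl s
    simpa [Scheme.Hom.appTop, Scheme.Hom.appLE] using this
  refine h1.trans ?_
  apply (Scheme.ΓSpecIso (CommRingCat.of R)).commRingCatIsoToRingEquiv.injective
  have h := ConcreteCategory.congr_hom (Scheme.ΓSpecIso_naturality (CommRingCat.ofHom φ)) s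
  refine Eq.trans (map_pow _ _ _) ?_
  exact (hφ _).symm.trans h.symm

/-- Descent of a closed subgroup through a pair of maps whose composites act as the identity on points. -/
theorem exists_of_natural {S S' : Scheme.{u}} (a : S' ⟶ S) (b : S ⟶ S')
    (Φ : ∀ X : Over S, X.left ⟶ X.left)
    (hnat : ∀ {X Y : Over S} (f : X ⟶ Y), Φ X ≫ f.left = f.left ≫ Φ Y)
    (hpt : ∀ (X : Over S) (x : X.left), Φ X x = x)
    (hS : Φ (Over.mk (𝟙 S)) = b ≫ a) (hS' : Φ (Over.mk a) = a ≫ b)
    (G : Over S) [GrpObj G] (H' : Over S') [GrpObj H'] (h' : H' ⟶ Red.bc a G) [IsMonHom h']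
    [IsClosedImmersion h'.left] :
    ∃ (H : Over S) (_ : GrpObj H) (h : H ⟶ G), IsMonHom h ∧ IsClosedImmersion h.left ∧
      ∃ g : H' ⟶ Red.bc a H, g ≫ (Over.pullback a).map h = h' ∧ Surjective g.left := by
  have hb : ∀ T : Over S, Φ T ≫ T.hom = T.hom ≫ b ≫ a := fun T => by
    have h := hnat (Over.homMk T.hom (Category.comp_id _) : T ⟶ Over.mk (𝟙 S))
    simpa [hS] using h
  let q : ∀ T : Over S, T.left ⟶ pullback T.hom a := fun T =>
    pullback.lift (Φ T) (T.hom ≫ b) (by rw [hb, Category.assoc])
  let F : ∀ T : Over S, T ⟶ (Over.pullback b).obj ((Over.pullback a).obj T) := fun T =>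
    Over.homMk (pullback.lift (q T) T.hom (pullback.lift_snd _ _ _)) (pullback.lift_snd _ _ _)
  have hF : ∀ {A B : Over S} (f : A ⟶ B),
      f ≫ F B = F A ≫ (Over.pullback b).map ((Over.pullback a).map f) := by
    intro A B f
    refine Over.OverMorphism.ext (pullback.hom_ext ?_ ?_)
    · simp [F]
      erw [pullback.lift_fst, pullback.lift_fst, pullback.lift_fst_assoc]
      refine pullback.hom_ext ?_ ?_
      · simp only [q, Category.assoc]
        erw [pullback.lift_fst, pullback.lift_fst, pullback.lift_fst_assoc]
        exact (hnat f).symm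
      · simp only [q, Category.assoc]
        erw [pullback.lift_snd, pullback.lift_snd, pullback.lift_snd]
        exact Over.w_assoc f b
    · simp [F]
      erw [pullback.lift_snd, pullback.lift_snd, pullback.lift_snd]
      exact Over.w f
  have : IsMonHom (F G) := by
    have hmul : ∀ {T : Over S} (x y : T ⟶ G), (x * y) ≫ F G = (x ≫ F G) * (y ≫ F G) := fun x y => by
      rw [hF, hF x, hF y, Functor.map_mul, Functor.map_mul, MonObj.comp_mul]
    have hone : (1 : 𝟙_ (Over S) ⟶ G) ≫ F G = 1 := by
      rw [hF, Functor.map_one, Functor.map_one, MonObj.comp_one]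
    refine ⟨?_, ?_⟩
    · have h := hone
      rw [Hom.one_def, Hom.one_def, toUnit_unique (toUnit _) (𝟙 _), Category.id_comp, Category.id_comp] at h
      exact h
    · have h := hmul (fst G G) (snd G G)
      rw [Hom.mul_def, lift_fst_snd, Category.id_comp] at h
      rw [h, Hom.mul_def, ← lift_fst_comp_snd_comp]
  let A : (Over.pullback b).obj H' ⟶ (Over.pullback b).obj ((Over.pullback a).obj G) := (Over.pullback b).map h'
  have : IsMonHom A := GrpSch.isMonHom_bc_map b h'
  have : IsClosedImmersion A.left := GrpSch.bc_map_left_of (P := @IsClosedImmersion) b h' inferInstance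
  obtain ⟨P, _, i, p, hi, hp, hic, hsq, hw, hfac⟩ := AntiAffSub.exists_preimage (F G) A
  refine ⟨P, inferInstance, i, hi, hic, ?_⟩
  let T : Over S := Over.mk (H'.hom ≫ a)
  let x : T ⟶ G := Over.homMk (h'.left ≫ pullback.fst G.hom a) (by
    simp only [T, Over.mk_hom, Category.assoc, pullback.condition]
    rw [← Category.assoc]
    exact congrArg (· ≫ a) (Over.w h'))
  have hT : Φ T ≫ H'.hom = T.hom ≫ b := by
    have h := hnat (Over.homMk H'.hom rfl : T ⟶ Over.mk a)
    simpa [hS', T] using h
  let y : T ⟶ (Over.pullback b).obj H' :=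
    Over.homMk (pullback.lift (Φ T) T.hom hT) (pullback.lift_snd _ _ _)
  have hxy : x ≫ F G = y ≫ A := by
    refine Over.OverMorphism.ext (pullback.hom_ext ?_ ?_)
    · refine Eq.trans (b := x.left ≫ q G) ?_ ?_
      · exact (Category.assoc _ _ _).trans (congrArg (x.left ≫ ·) (pullback.lift_fst _ _ _))
      refine Eq.trans (b := Φ T ≫ h'.left) ?_ ?_
      · refine pullback.hom_ext ?_ ?_
        · simp only [q, Category.assoc]
          erw [pullback.lift_fst]
          exact (hnat x).symm
        · simp only [q, Category.assoc]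
          erw [pullback.lift_snd]
          rw [Over.w_assoc x b]
          refine hT.symm.trans ?_
          exact congrArg (Φ T ≫ ·) (Over.w h').symm
      · refine Eq.symm ((Category.assoc _ _ _).trans ?_)
        refine (congrArg (y.left ≫ ·) (pullback.lift_fst _ _ _)).trans ?_
        exact (Category.assoc _ _ _).symm.trans (congrArg (· ≫ h'.left) (pullback.lift_fst _ _ _))
    · simp [F, A, y]
      erw [pullback.lift_snd, pullback.lift_snd, pullback.lift_snd]
      exact Over.w x
  obtain ⟨z, hz, hz'⟩ := hfac T x y hxy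
  let g : H' ⟶ (Over.pullback a).obj P :=
    Over.homMk (pullback.lift z.left H'.hom (Over.w z)) (pullback.lift_snd _ _ _)
  have hg : g ≫ (Over.pullback a).map i = h' := by
    refine Over.OverMorphism.ext (pullback.hom_ext ?_ ?_)
    · simp [g]
      erw [pullback.lift_fst, pullback.lift_fst_assoc]
      exact congrArg Over.Hom.left hz
    · simp [g]
      erw [pullback.lift_snd, pullback.lift_snd]
      exact (Over.w h').symm
  refine ⟨g, hg, ⟨fun v => ?_⟩⟩
  let y1 := ((Over.pullback a).map i).left v
  let pr : pullback G.hom a ⟶ G.left := pullback.fst G.hom a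
  have hq : pr ≫ q G = Φ (Over.mk (pr ≫ G.hom)) := by
    let W : Over S := Over.mk (pr ≫ G.hom)
    refine pullback.hom_ext ?_ ?_
    · simp only [q, Category.assoc]
      erw [pullback.lift_fst]
      exact (hnat (Over.homMk pr rfl : W ⟶ G)).symm
    · have h := hnat (Over.homMk (pullback.snd G.hom a) pullback.condition.symm : W ⟶ Over.mk a)
      simp [hS'] at h
      simp only [q, Category.assoc]
      erw [pullback.lift_snd]
      refine Eq.trans ?_ h.symm
      exact (pullback.condition_assoc b).trans (by simp)
  let w : P.left := pullback.fst P.hom a v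
  have hw1 : i.left w = pr y1 := by
    have h : ((Over.pullback a).map i).left ≫ pr = pullback.fst P.hom a ≫ i.left := pullback.lift_fst _ _ _
    exact (congrArg (fun f : _ ⟶ G.left => f v) h).symm
  have hw2 : pullback.fst _ b ((F G).left (i.left w)) = q G (i.left w) := by
    have h : (F G).left ≫ pullback.fst _ b = q G := pullback.lift_fst _ _ _
    exact congrArg (fun f : G.left ⟶ _ => f (i.left w)) h
  have hw3 : h'.left (pullback.fst H'.hom b (p.left w)) = q G (i.left w) := by
    rw [← hw2]
    have h : A.left ≫ pullback.fst _ b = pullback.fst H'.hom b ≫ h'.left := pullback.lift_fst _ _ _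
    have h2 := congrArg Over.Hom.left hw
    refine (congrArg (fun f : ((Over.pullback b).obj H').left ⟶ _ => f (p.left w)) h).symm.trans ?_
    exact congrArg (fun f : P.left ⟶ _ => pullback.fst _ b (f w)) h2.symm
  have hy1 : q G (i.left w) = y1 := by
    rw [hw1]
    exact (congrArg (fun f : pullback G.hom a ⟶ _ => f y1) hq).trans (hpt (Over.mk (pr ≫ G.hom)) y1)
  have : IsClosedImmersion ((Over.pullback a).map i).left := GrpSch.bc_map_left_of (P := @IsClosedImmersion) a i hic
  refine ⟨pullback.fst H'.hom b (p.left w), ((Over.pullback a).map i).left.injective ?_⟩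
  refine Eq.trans ?_ (hw3.trans hy1)
  exact congrArg (fun f : H' ⟶ _ => f.left (pullback.fst H'.hom b (p.left w))) hg

/-- Let k ⊆ K be a finite purely inseparable field extension, G a k-group scheme of finite type and h' :
H' → G_K a closed subgroup scheme of the base change of G to K. Then there is a closed subgroup
scheme h : H → G over k such that H' factors through the base change H_K → G_K by a morphism H' →
H_K which is surjective. (The published statement concludes that H' ⊆ H_K with H_K/H' finite; the
subgroup H produced by its proof, a Frobenius pull-back, has H_K with the same underlying space as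
H', which is the form stated here.) -/
theorem result (k K : Type u) [Field k] [Field K] [Algebra k K]
    [Module.Finite k K] [IsPurelyInseparable k K]
    (G : Over (Spec (CommRingCat.of k))) [GrpObj G] [LocallyOfFiniteType G.hom] [QuasiCompact G.hom]
    (H' : Over (Spec (CommRingCat.of K))) [GrpObj H']
    (h' : H' ⟶ Red.bc (Spec.map (CommRingCat.ofHom (algebraMap k K))) G) [IsMonHom h'] [IsClosedImmersion h'.left] :
    ∃ (H : Over (Spec (CommRingCat.of k))) (_ : GrpObj H) (h : H ⟶ G), IsMonHom h ∧ IsClosedImmersion h.left ∧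
      ∃ g : H' ⟶ Red.bc (Spec.map (CommRingCat.ofHom (algebraMap k K))) H, g ≫ (Over.pullback (Spec.map (CommRingCat.ofHom (algebraMap k K)))).map h = h' ∧ Surjective g.left := by
  obtain ⟨p, _⟩ := ExpChar.exists k
  let n := IsPurelyInseparable.exponent k K
  let ψ : K →+* k := IsPurelyInseparable.iterateFrobenius k K p (le_refl n)
  let b := Spec.map (CommRingCat.ofHom ψ)
  rcases ‹ExpChar k p› with _ | ⟨hp⟩
  · refine exists_of_natural _ b (fun X => 𝟙 X.left) (fun f => by simp) (fun _ _ => rfl) ?_ ?_ G H' h'
    · have : ψ.comp (algebraMap k K) = RingHom.id k := RingHom.ext fun x => by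
        simp [ψ, IsPurelyInseparable.iterateFrobenius_algebraMap]
      simp only [b, ← Spec.map_comp, ← CommRingCat.ofHom_comp, this]
      exact (Spec.map_id _).symm
    · have : (algebraMap k K).comp ψ = RingHom.id K := RingHom.ext fun x => by
        simp [ψ, IsPurelyInseparable.algebraMap_iterateFrobenius]
      simp only [b, ← Spec.map_comp, ← CommRingCat.ofHom_comp, this]
      exact (Spec.map_id _).symm
  · have : Fact p.Prime := ⟨hp⟩
    have hchar : ∀ T : Over (Spec (CommRingCat.of k)), FrobSch.IsCharP T.left p := fun T =>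
      FrobSch.IsCharP.of_hom T.hom p
    refine exists_of_natural _ b (fun X => FrobQ.frobN p X.left n)
      (fun f => FrobQ.frobN_comp p f.left n) (fun X x => FrobQ.frobN_apply p X.left n x) ?_ ?_ G H' h'
    · refine (frobN_Spec p k n (ψ.comp (algebraMap k K)) fun x =>
        by simp [ψ, IsPurelyInseparable.iterateFrobenius_algebraMap]).trans ?_
      rw [CommRingCat.ofHom_comp, Spec.map_comp]
    · have : FrobSch.IsCharP (Spec (CommRingCat.of K)) p :=
        FrobSch.IsCharP.of_hom (Spec.map (CommRingCat.ofHom (algebraMap k K))) p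
      refine (frobN_Spec p K n ((algebraMap k K).comp ψ) fun x =>
        IsPurelyInseparable.algebraMap_iterateFrobenius k p (le_refl n) x).trans ?_
      rw [CommRingCat.ofHom_comp, Spec.map_comp]

end Groth.Agent.S14583
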