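import Groth.Statements.S14596
import Groth.Agent.Lib.FinQuot.Discrete
import Groth.Agent.Lib.FinCond.Components
import Groth.Agent.Lib.Flat55.FibreTransfer

set_option autoImplicit false
universe u
open CategoryTheory MonoidalCategory CartesianMonoidalCategory MonObj GrpObj AlgebraicGeometry CategoryTheory.Limits
open AlgGrp

set_option backward.isDefEq.respectTransparency false
set_option linter.style.haveILetI false
namespace Groth.Agent.S14596

/-- Let k be a perfect field, G a k-group scheme of finite type and r₀ : G⁰_red → G the reduced neutral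
component of G, i.e. a homomorphism and closed immersion from a reduced k-group scheme whose image
is the connected component of the identity. Then the homogeneous space G/G⁰_red is finite, and
G⁰_red is the smallest closed subgroup scheme H of G such that G/H is finite: every such H contains
G⁰_red. -/
theorem result (k : Type u) [Field k] [PerfectField k]
    (G G₀ : Over (Spec (CommRingCat.of k))) [GrpObj G] [GrpObj G₀] [LocallyOfFiniteType G.hom] [QuasiCompact G.hom]
    [LocallyOfFiniteType G₀.hom] [QuasiCompact G₀.hom]
    (r₀ : G₀ ⟶ G) [IsMonHom r₀] [IsClosedImmersion r₀.left] [IsReduced G₀.left] (t : ↥((𝟙_ (Over (Spec (CommRingCat.of k)))).left))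
    (hr₀ : Set.range ⇑r₀.left.base = connectedComponent ((η[G]).left.base t)) :
    (∀ (X : Over (Spec (CommRingCat.of k))) (a : AlgGrp.Action G X) (o : 𝟙_ (Over (Spec (CommRingCat.of k))) ⟶ X), AGF.IsQuotient r₀ X a o → IsFinite X.hom) ∧
    ∀ (H : Over (Spec (CommRingCat.of k))) [GrpObj H] (h : H ⟶ G) [IsMonHom h] [IsClosedImmersion h.left]
      (X : Over (Spec (CommRingCat.of k))) (a : AlgGrp.Action G X) (o : 𝟙_ (Over (Spec (CommRingCat.of k))) ⟶ X),
      AGF.IsQuotient h X a o → IsFinite X.hom → ∃ g : G₀ ⟶ H, g ≫ h = r₀ := by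
  haveI : IsLocallyNoetherian G.left := LocallyOfFiniteType.isLocallyNoetherian G.hom
  haveI : LocallyConnectedSpace G.left :=
    Groth.Agent.Lib.FinCond.locallyConnectedSpace_of_locally_noetherian fun x =>
      Groth.Agent.Lib.FinCond.locally_noetherian G.left x
  refine ⟨fun X a o hq => ?_, fun H _ h _ _ X a o hq hfin => ?_⟩
  · obtain ⟨hlft, hflat, hsurj, hsq⟩ := hq
    haveI := hflat
    haveI := hsurj
    haveI := hlft
    let π : G ⟶ X := a.orbitMap o
    haveI : LocallyOfFinitePresentation π.left :=
      Groth.Agent.Lib.Flat55.FibreTransfer.locallyOfFinitePresentation_of_comp (g := X.hom)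
        (by rw [Over.w π]; infer_instance) inferInstance
    haveI : UniversallyOpen π.left := inferInstance
    let b : G ⊗ G₀ ⟶ G := (G ◁ r₀) ≫ μ[G]
    let e : G ⊗ G ≅ G ⊗ G :=
      { hom := lift (fst G G) μ[G]
        inv := lift (fst G G) ((fst G G)⁻¹ * snd G G)
        hom_inv_id := by
          apply CartesianMonoidalCategory.hom_ext
          · simp
          · rw [Category.assoc, lift_snd, MonObj.comp_mul, GrpObj.comp_inv, lift_fst, lift_snd,
              MonObj.mul_eq_mul, inv_mul_cancel_left, Category.id_comp]
        inv_hom_id := by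
          apply CartesianMonoidalCategory.hom_ext
          · simp
          · rw [Category.assoc, lift_snd, MonObj.mul_eq_mul, MonObj.comp_mul, lift_fst, lift_snd,
              mul_inv_cancel_left, Category.id_comp] }
    have hl : lift (fst G G₀) b = (G ◁ r₀) ≫ e.hom := by
      apply CartesianMonoidalCategory.hom_ext <;> simp [b, e]
    haveI : IsIso e.hom.left := ((Over.forget _).mapIso e).isIso_hom
    have hopen : IsOpen (Set.range (lift (fst G G₀) b).left) := by
      rw [hl, Over.comp_left, Scheme.Hom.comp_base, TopCat.coe_comp, Set.range_comp]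
      refine e.hom.left.isOpenEmbedding.isOpenMap _ ?_
      rw [← id_tensorHom, Over.tensorHom_left]
      erw [Scheme.Pullback.range_map]
      refine (IsOpen.preimage (Scheme.Hom.continuous _) ?_).inter (IsOpen.preimage (Scheme.Hom.continuous _) ?_)
      · convert isOpen_univ using 1; exact Set.eq_univ_of_forall fun y => ⟨y, rfl⟩
      · rw [hr₀]; exact isOpen_connectedComponent
    have hD := Groth.Agent.Lib.FinQuot.Discrete.isOpen_range_diagonal G.hom X.hom π.left (Over.w π)
      (fst G G₀).left b.left (hsq.map (Over.forget _)) (lift (fst G G₀) b).left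
      (congrArg Over.Hom.left (lift_fst (fst G G₀) b)) (congrArg Over.Hom.left (lift_snd (fst G G₀) b)) hopen
    haveI := Groth.Agent.Lib.FinQuot.Discrete.discreteTopology X.hom hD
    haveI : CompactSpace G.left := QuasiCompact.compactSpace_of_compactSpace G.hom
    haveI : CompactSpace X.left := π.left.surjective.compactSpace π.left.continuous
    haveI : IsLocallyNoetherian X.left := LocallyOfFiniteType.isLocallyNoetherian X.hom
    haveI : QuasiCompact X.hom := by rw [quasiCompact_iff_compactSpace]; infer_instance
    haveI : Finite X.left := finite_of_compact_of_discrete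
    haveI : LocallyQuasiFinite X.hom :=
      locallyQuasiFinite_iff_finite_preimage_singleton.mpr fun _ => Set.toFinite _
    exact IsFinite.of_locallyQuasiFinite X.hom
  · obtain ⟨hlft, hflat, hsurj, hsq⟩ := hq
    haveI := hfin
    haveI : Finite X.left := (Set.finite_univ_iff.mp (by
      simpa using X.hom.finite_preimage (s := Set.univ) Set.finite_univ))
    haveI : IsLocallyArtinian X.left := .of_locallyQuasiFinite X.hom
    have h1 : (1 : 𝟙_ (Over (Spec (CommRingCat.of k))) ⟶ G) ≫ a.orbitMap o = o := by
      have h := congrArg (lift (1 : 𝟙_ (Over (Spec (CommRingCat.of k))) ⟶ 𝟙_ _) o ≫ ·) a.one_act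
      rw [AlgGrp.Action.orbitMap, ← Category.assoc, comp_lift, Category.comp_id, ← Category.assoc,
        toUnit_unique (1 ≫ toUnit G) (𝟙 _), Category.id_comp]
      simp only [← Category.assoc, lift_whiskerRight] at h
      rw [leftUnitor_hom, lift_snd] at h
      rw [show (1 : 𝟙_ (Over (Spec (CommRingCat.of k))) ⟶ G) = η[G] by
        rw [Hom.one_def, toUnit_unique (toUnit (𝟙_ _)) (𝟙 _), Category.id_comp]]
      rw [toUnit_unique (1 : 𝟙_ (Over (Spec (CommRingCat.of k))) ⟶ 𝟙_ _) (𝟙 _), Category.id_comp] at h
      exact h
    let φ : G₀ ⟶ X := r₀ ≫ a.orbitMap o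
    haveI : IsClosedImmersion o.left := by
      haveI : IsClosedImmersion (o.left ≫ X.hom) := by rw [Over.w o]; exact inferInstanceAs (IsClosedImmersion (𝟙 _))
      exact IsClosedImmersion.of_comp o.left X.hom
    have hconst : Set.range φ.left ⊆ Set.range o.left := by
      have hc : _root_.IsPreconnected (Set.range r₀.left) := by
        rw [hr₀]; exact isPreconnected_connectedComponent
      have himg := hc.image _ (a.orbitMap o).left.continuous.continuousOn
      have hη : (a.orbitMap o).left (η[G].left t) ∈ Set.range o.left := by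
        refine ⟨t, ?_⟩
        rw [← Scheme.Hom.comp_apply, ← Over.comp_left]
        conv_lhs => rw [← h1, Hom.one_def, toUnit_unique (toUnit (𝟙_ _)) (𝟙 _), Category.id_comp]
      have hmem : (a.orbitMap o).left (η[G].left t) ∈ (a.orbitMap o).left '' Set.range r₀.left :=
        ⟨_, by rw [hr₀]; exact mem_connectedComponent, rfl⟩
      rw [show φ.left = r₀.left ≫ (a.orbitMap o).left from rfl, Scheme.Hom.comp_base, TopCat.coe_comp,
        Set.range_comp]
      intro y hy
      rwa [himg.subsingleton hy hmem]
    haveI : Surjective (Limits.pullback.snd o.left φ.left) := ⟨fun y => by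
      obtain ⟨z, hz⟩ := hconst ⟨y, rfl⟩
      obtain ⟨w, -, hw⟩ := Scheme.Pullback.exists_preimage_pullback z y hz
      exact ⟨w, hw⟩⟩
    haveI : IsIso (Limits.pullback.snd o.left φ.left) := isIso_of_isClosedImmersion_of_surjective _
    have hz : (inv (Limits.pullback.snd o.left φ.left) ≫ Limits.pullback.fst o.left φ.left) ≫ o.left = φ.left := by
      rw [Category.assoc, Limits.pullback.condition, IsIso.inv_hom_id_assoc]
    have hzh : inv (Limits.pullback.snd o.left φ.left) ≫ Limits.pullback.fst o.left φ.left = G₀.hom := by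
      have hz' := hz =≫ X.hom
      rw [Category.assoc, Over.w o, Over.w φ] at hz'
      exact (Category.comp_id _).symm.trans hz'
    rw [hzh] at hz
    have hφ : φ = toUnit G₀ ≫ o := Over.OverMorphism.ext (by rw [← hz, Over.comp_left, Over.toUnit_left])
    have h11 : (1 : G₀ ⟶ G) ≫ a.orbitMap o = toUnit G₀ ≫ o := by
      rw [← MonObj.comp_one (toUnit G₀), Category.assoc, h1]
    have hcond : (1 : G₀ ⟶ G) ≫ a.orbitMap o = r₀ ≫ a.orbitMap o := h11.trans hφ.symm
    refine ⟨hsq.lift 1 r₀ hcond ≫ snd G H, ?_⟩
    have e : hsq.lift 1 r₀ hcond = lift 1 (hsq.lift 1 r₀ hcond ≫ snd G H) := by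
      apply CartesianMonoidalCategory.hom_ext
      · rw [lift_fst, hsq.lift_fst]
      · rw [lift_snd]
    have hs := hsq.lift_snd 1 r₀ hcond
    rw [e, lift_whiskerLeft_assoc, ← Hom.mul_def, _root_.one_mul] at hs
    exact hs

end Groth.Agent.S14596
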