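import Groth.Statements.S14597
import Groth.Agent.Lib.GrpQ.AffKer


set_option autoImplicit false
universe u
open CategoryTheory MonoidalCategory CartesianMonoidalCategory MonObj GrpObj AlgebraicGeometry CategoryTheory.Limits
open AlgGrp

namespace Groth.Agent.S14597

/-- Let k be a field, G a k-group scheme of finite type acting on a separated, integral, locally
Noetherian k-scheme X and fixing a rational point x. Let n : N → G be the kernel of the action, i.e.
the closed subgroup scheme whose points with values in a k-scheme T are the T-points of G acting as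
the identity on X_T, and let q : G → Q be a flat surjective homomorphism of k-group schemes of
finite type with kernel N. Then Q is affine. (The published statement is for an irreducible locally
Noetherian X and the quotient C_G(x)/Ker of the stabiliser of x; restricting the action to the
stabiliser gives the case stated, and X is taken reduced here because the published proof uses that
the infinitesimal neighbourhoods of x are schematically dense in X.) -/
theorem result (k : Type u) [Field k]
    (G X : Over (Spec (CommRingCat.of k))) [GrpObj G] [LocallyOfFiniteType G.hom] [QuasiCompact G.hom]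
    [IsSeparated X.hom] [IsIntegral X.left] [IsLocallyNoetherian X.left]
    (a : AlgGrp.Action G X) (x : 𝟙_ (Over (Spec (CommRingCat.of k))) ⟶ X) (hx : a.IsFixedPt x)
    (N : Over (Spec (CommRingCat.of k))) [GrpObj N] (n : N ⟶ G) [IsMonHom n] [IsClosedImmersion n.left]
    (hN : ∀ (T : Over (Spec (CommRingCat.of k))) (g : T ⟶ G), (∃ m : T ⟶ N, m ≫ n = g) ↔
      ∀ (T' : Over (Spec (CommRingCat.of k))) (t : T' ⟶ T) (y : T' ⟶ X), lift (t ≫ g) y ≫ a.act = y)
    (Q : Over (Spec (CommRingCat.of k))) [GrpObj Q] [LocallyOfFiniteType Q.hom] [QuasiCompact Q.hom]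
    (q : G ⟶ Q) [IsMonHom q] [Surjective q.left] [Flat q.left] (hq : AlgGrp.IsKernel n q) :
    IsAffine Q.left := by
  refine Groth.Agent.Lib.GrpQ.AffKer.isAffine_quotient q fun T g hg => ?_
  obtain ⟨A, _, _, _, j, e, hj, he⟩ := Groth.Agent.Lib.GrpQ.InfAgree.exists_chart X x
  have key := Groth.Agent.Lib.GrpQ.InfAgree.eq_of_agreeInf e j
    (Groth.Agent.Lib.GrpQ.AffKer.agreeInf_act a e j (by rw [he]; exact hx) g hg)
  obtain ⟨m, rfl⟩ := (hN T g).2 fun T' t y => by
    have h := congrArg (lift t y ≫ ·) key
    simp only [← Category.assoc, lift_whiskerRight, lift_snd] at h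
    exact h
  rw [Category.assoc, Groth.Agent.Lib.GrpQ.kernel_comp hq, MonObj.comp_one]

end Groth.Agent.S14597
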