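import Groth.Statements.S14599
import Groth.Agent.Lib.SemiAbQuot.Basic
import Groth.Agent.Lib.IsogLaw.TorusIff
import Groth.Agent.H52.AVHomPointed
import Groth.Agent.H4.HomImage
import Groth.Agent.H4.IdealAcc

set_option autoImplicit false
set_option linter.style.haveILetI false
set_option backward.isDefEq.respectTransparency false
universe u
open CategoryTheory MonoidalCategory CartesianMonoidalCategory MonObj GrpObj AlgebraicGeometry CategoryTheory.Limits
open AlgGrp
open Groth.Agent.Lib Groth.Agent.Lib.GrpQ Groth.Agent.H63.GrpIdentity Groth.Agent.H63.GrpIrred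

namespace Groth.Agent.S14599

/-- Let k be a field and G a smooth connected k-group scheme of finite type. Then G has a smallest
normal subgroup scheme N whose quotient is an abelian variety, N is connected, and the quotient
homomorphism α : G → G/N is universal: there are a connected closed normal subgroup scheme i : N →
G, a proper smooth connected k-group scheme A and a flat surjective homomorphism α : G → A with
kernel N such that every k-morphism from G to a proper smooth connected k-group scheme sending e to
e factors uniquely through α, and every flat surjective homomorphism from G onto a proper smooth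
connected k-group scheme kills N. -/
theorem result (k : Type u) [Field k]
    (G : Over (Spec (CommRingCat.of k))) [GrpObj G] [Smooth G.hom] [QuasiCompact G.hom] [ConnectedSpace ↥G.left] :
    ∃ (N : Over (Spec (CommRingCat.of k))) (_ : GrpObj N) (i : N ⟶ G) (A : Over (Spec (CommRingCat.of k))) (_ : GrpObj A) (α : G ⟶ A),
      IsMonHom i ∧ IsClosedImmersion i.left ∧ AlgGrp.IsNormalHom i ∧ ConnectedSpace ↥N.left ∧
      IsProper A.hom ∧ Smooth A.hom ∧ ConnectedSpace ↥A.left ∧ IsMonHom α ∧ Surjective α.left ∧ Flat α.left ∧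
      AlgGrp.IsKernel i α ∧
      (∀ (B : Over (Spec (CommRingCat.of k))) [GrpObj B] [IsProper B.hom] [Smooth B.hom] [ConnectedSpace ↥B.left] (f : G ⟶ B),
        η[G] ≫ f = η[B] → ∃! g : A ⟶ B, α ≫ g = f) ∧
      (∀ (B : Over (Spec (CommRingCat.of k))) [GrpObj B] [IsProper B.hom] [Smooth B.hom] [ConnectedSpace ↥B.left] (q : G ⟶ B)
        [IsMonHom q] [Surjective q.left] [Flat q.left], i ≫ q = 1) := by
  classical
  haveI : IsSeparated G.hom := GrpSch.isSeparated_of_field G
  haveI : IsLocallyNoetherian G.left := LocallyOfFiniteType.isLocallyNoetherian G.hom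
  haveI : CompactSpace G.left := QuasiCompact.compactSpace_of_compactSpace G.hom
  haveI : GeometricallyReduced G.hom := GrpSch.geometricallyReduced_of_smooth_field G.hom
  haveI : GeometricallyIntegral G.hom := Groth.Agent.H4.HomImage.geometricallyIntegral_of_connected G
  let P : G.left.IdealSheafData → Prop := fun I => ∃ (N : Over (Spec (CommRingCat.of k))) (_ : GrpObj N) (i : N ⟶ G)
      (A : Over (Spec (CommRingCat.of k))) (_ : GrpObj A) (α : G ⟶ A),
      IsMonHom i ∧ IsClosedImmersion i.left ∧ AlgGrp.IsNormalHom i ∧ ConnectedSpace N.left ∧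
      IsProper A.hom ∧ Smooth A.hom ∧ ConnectedSpace A.left ∧ IsMonHom α ∧ Surjective α.left ∧ Flat α.left ∧
      AlgGrp.IsKernel i α ∧ i.left.ker = I
  have hne : {I | P I}.Nonempty := by
    refine ⟨_, G, inferInstance, 𝟙 G, 𝟙_ _, inferInstance, toUnit G, inferInstance,
      by rw [Over.id_left]; infer_instance, fun T g x => ⟨g * (x ≫ 𝟙 G) * g⁻¹, (Category.comp_id _).symm⟩,
      inferInstance, inferInstanceAs (IsProper (𝟙 (Spec (CommRingCat.of k)))),
      inferInstanceAs (Smooth (𝟙 (Spec (CommRingCat.of k)))),
      inferInstanceAs (ConnectedSpace (Spec (CommRingCat.of k))), ?_, ?_, ?_, ?_, rfl⟩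
    · exact Groth.Agent.H87.HomDS.isMonHom_of_points _ fun X a b => toUnit_unique _ _
    · exact ⟨fun x => ⟨η[G].left x, Subsingleton.elim (α := Spec (CommRingCat.of k)) _ _⟩⟩
    · exact inferInstanceAs (Flat G.hom)
    · exact GrpQ.isKernel_of _ (toUnit_unique _ _) fun T x _ => ⟨x, Category.comp_id x⟩
  haveI := Groth.Agent.H4.IdealAcc.wellFoundedGT G.left
  obtain ⟨I, ⟨N, gN, i, A, gA, α, hi, hic, hin, hNc, hAp, hAs, hAc, hα, hαs, hαf, hK, hI⟩, hmax⟩ :=
    (wellFounded_gt (α := G.left.IdealSheafData)).has_min {I | P I} hne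
  haveI := hi; haveI := hic; haveI := hNc; haveI := hAp; haveI := hAs; haveI := hAc
  haveI := hα; haveI := hαs; haveI := hαf
  have hcov : GrpQ.IsCover α := GrpQ.isCover_hom α
  have key : ∀ (B : Over (Spec (CommRingCat.of k))) [GrpObj B] [IsProper B.hom] [Smooth B.hom]
      [ConnectedSpace ↥B.left] (f : G ⟶ B) [IsMonHom f], i ≫ f = 1 := by
    intro B _ _ _ _ f _
    haveI : IsProper (A ⊗ B).hom := inferInstanceAs (IsProper (pullback.fst A.hom B.hom ≫ A.hom))
    let d : G ⟶ A ⊗ B := lift α f
    haveI : IsMonHom d := Groth.Agent.H87.HomDS.isMonHom_of_points _ fun X a b => by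
      apply CartesianMonoidalCategory.hom_ext <;> simp [d, MonObj.mul_comp]
    obtain ⟨C, _, p, c, hpm, hcm, hpc, hcc, hps, hpf, hpl, hCs, hCc, hCq⟩ := SemiAbIsog.Image.exists_image_smooth d
    haveI := hpm; haveI := hcm; haveI := hcc; haveI := hps; haveI := hpf; haveI := hpl; haveI := hCs
    haveI := hCc; haveI := hCq
    haveI : IsProper C.hom := by rw [← Over.w c]; infer_instance
    obtain ⟨K, _, κ, hκ, hκc, hKp, hKn⟩ := GrpQ.exists_kernel p
    haveI := hκ; haveI := hκc
    haveI : LocallyOfFiniteType K.hom := by rw [← Over.w κ]; infer_instance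
    haveI : QuasiCompact K.hom := by rw [← Over.w κ]; infer_instance
    letI := idGrp K
    haveI := isMonHom_idHom K
    haveI : IsClosedImmersion (idHom K).left := isClosedImmersion_idIncl K
    haveI : Flat (idHom K).left := flat_idIncl K
    haveI : IsLocallyNoetherian K.left := LocallyOfFiniteType.isLocallyNoetherian K.hom
    haveI : IsOpenImmersion (idHom K).left := IsOpenImmersion.of_flat_of_mono _
    haveI : LocallyOfFiniteType (idObj K).hom := by rw [← Over.w (idHom K)]; infer_instance
    haveI : QuasiCompact (idObj K).hom := by rw [← Over.w (idHom K)]; infer_instance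
    have hrange : Set.range (idHom K).left = Groth.Agent.H63.GrpComponent.comp0 K := range_idIncl K
    haveI : ConnectedSpace (idObj K).left := by
      haveI : PreconnectedSpace (idObj K).left := ⟨by
        rw [← (idHom K).left.isClosedEmbedding.isEmbedding.isInducing.isPreconnected_image, Set.image_univ,
          hrange]
        exact isIrreducible_irreducibleComponent.2.isPreconnected⟩
      exact { toNonempty := ⟨unitPt (idObj K)⟩ }
    let h : idObj K ⟶ G := idHom K ≫ κ
    haveI : IsClosedImmersion h.left := by simp only [h, Over.comp_left]; infer_instance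
    haveI : IsMonHom h := inferInstance
    haveI : Mono h := Over.mono_of_mono_left h
    have hhp : h ≫ p = 1 := by simp only [h, Category.assoc, GrpQ.kernel_comp hKp, MonObj.comp_one]
    -- normality
    have hnorm : AlgGrp.IsNormalHom h := by
      haveI : ConnectedSpace (G ⊗ idObj K).left :=
        Groth.Agent.S5342.result k G.left (idObj K).left G.hom (idObj K).hom η[G].left (Over.w η[G])
      obtain ⟨n, hn⟩ := (GrpQ.mem_kernel hKp (fst G (idObj K) * (snd G (idObj K) ≫ h) * (fst G (idObj K))⁻¹)).2 (by
        rw [MonObj.mul_comp _ _ p, MonObj.mul_comp _ _ p, GrpObj.inv_comp _ p, Category.assoc, hhp,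
          MonObj.comp_one, _root_.mul_one, mul_inv_cancel])
      haveI := GrpQ.kernel_mono hKp
      let e₀ : 𝟙_ (Over (Spec (CommRingCat.of k))) ⟶ G ⊗ idObj K := lift η[G] η[idObj K]
      have he₀ : e₀ ≫ n = η[K] := by
        rw [← cancel_mono κ, Category.assoc, hn]
        simp only [e₀, MonObj.comp_mul, GrpObj.comp_inv, lift_fst, lift_snd_assoc, IsMonHom.one_hom]
        group
      have hop : IsClopen (Set.range (idHom K).left) :=
        ⟨(idHom K).left.isClosedEmbedding.isClosed_range, (idHom K).left.isOpenEmbedding.isOpen_range⟩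
      have hsub : ∀ t, n.left t ∈ Groth.Agent.H63.GrpComponent.comp0 K := by
        rw [← hrange]
        intro t
        refine ((hop.preimage n.left.continuous).eq_univ ⟨e₀.left (IsLocalRing.closedPoint k), ?_⟩).ge (Set.mem_univ t)
        rw [Set.mem_preimage, ← Scheme.Hom.comp_apply, ← Over.comp_left, he₀, hrange]
        exact mem_irreducibleComponent
      obtain ⟨n₂, hn₂⟩ := exists_lift K n hsub
      intro T g x
      refine ⟨lift g x ≫ n₂, ?_⟩
      rw [Category.assoc, show n₂ ≫ h = n ≫ κ by simp only [h, ← Category.assoc, hn₂], hn]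
      simp only [MonObj.comp_mul, GrpObj.comp_inv, lift_fst, lift_snd_assoc]
    haveI : Flat (idObj K).hom := SpHomog.flat_to_field _
    obtain ⟨Q, _, q, hq, hqf, hqs, hql, hqK, -, -, hQsm⟩ := Groth.Agent.S3030.result k (idObj K) G h hnorm
    haveI := hq; haveI := hqf; haveI := hqs; haveI := hql
    haveI : Smooth Q.hom := hQsm inferInstance
    haveI : QuasiCompact (q.left ≫ Q.hom) := by rw [Over.w]; infer_instance
    haveI : QuasiCompact Q.hom := Transfer.quasiCompact_of_comp_surjective q.left Q.hom
    haveI : ConnectedSpace Q.left := q.left.surjective.connectedSpace q.left.continuous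
    obtain ⟨t, htm, ht⟩ := CommAlgGrp.exists_desc_of_kernel q hqK p hhp
    haveI := htm
    haveI : Surjective t.left := by
      haveI : Surjective (q.left ≫ t.left) := by rw [← Over.comp_left, ht]; infer_instance
      exact Surjective.of_comp q.left t.left
    haveI : IsSeparated C.hom := GrpSch.isSeparated_of_field C
    obtain ⟨N', _, n₀, hn₀m, hn₀c, hKt, -⟩ := GrpQ.exists_kernel t
    haveI := hn₀m; haveI := hn₀c
    haveI : LocallyOfFiniteType N'.hom := by rw [← Over.w n₀]; infer_instance
    haveI : QuasiCompact N'.hom := by rw [← Over.w n₀]; infer_instance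
    obtain ⟨ψ, hψ⟩ := (GrpQ.mem_kernel hKt (κ ≫ q)).2 (by rw [Category.assoc, ht, GrpQ.kernel_comp hKp])
    haveI := GrpQ.kernel_mono hKt
    have hpb : IsPullback κ ψ q n₀ := by
      refine IsPullback.of_bot ?_ hψ.symm hKt
      rw [ht, toUnit_unique (ψ ≫ toUnit N') (toUnit K)]
      exact hKp
    have sqψ := hpb.map (Over.forget _)
    haveI : Surjective ψ.left := MorphismProperty.of_isPullback (P := @Surjective) sqψ hqs
    haveI : Flat ψ.left := MorphismProperty.of_isPullback (P := @Flat) sqψ hqf
    haveI : LocallyOfFinitePresentation ψ.left :=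
      MorphismProperty.of_isPullback (P := @LocallyOfFinitePresentation) sqψ hql
    haveI : UniversallyOpen ψ.left := inferInstance
    haveI : IsFinite N'.hom := by
      refine SemiAbQuot.isFinite_of_isolated_unit N' ?_
      have e : idHom K ≫ ψ = toUnit (idObj K) ≫ η[N'] := by
        rw [← cancel_mono n₀, Category.assoc, hψ, ← Category.assoc, Category.assoc (toUnit (idObj K)),
          IsMonHom.one_hom, ← Hom.one_def]
        exact GrpQ.kernel_comp hqK
      have heq : ψ.left '' Set.range (idHom K).left = {unitPt N'} := by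
        refine Set.Subset.antisymm ?_ (Set.singleton_subset_iff.2 ⟨_, ⟨unitPt (idObj K), rfl⟩, ?_⟩)
        · rintro _ ⟨_, ⟨y, rfl⟩, rfl⟩
          rw [← Scheme.Hom.comp_apply, ← Over.comp_left, e, Over.comp_left, Scheme.Hom.comp_apply]
          exact congrArg η[N'].left (Subsingleton.elim (α := Spec (CommRingCat.of k)) _ _)
        · rw [← Scheme.Hom.comp_apply, ← Over.comp_left, e, Over.comp_left, Scheme.Hom.comp_apply]
          exact congrArg η[N'].left (Subsingleton.elim (α := Spec (CommRingCat.of k)) _ _)
      rw [← heq]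
      exact ψ.left.isOpenMap _ (idHom K).left.isOpenEmbedding.isOpen_range
    haveI : Flat t.left := GrpQ.flat_of_surjective_of_smooth t
    haveI : QuasiCompact t.left := GrpQ.quasiCompact_left t
    haveI : IsFinite t.left := IsogLaw.isFinite_of_kernel t hKt
    haveI : IsProper Q.hom := by rw [← Over.w t]; infer_instance
    have hhd : h ≫ α = 1 ∧ h ≫ f = 1 := by
      have hd : h ≫ d = 1 := by rw [← hpc, ← Category.assoc, hhp, MonObj.one_comp]
      constructor
      · rw [← lift_fst α f, ← Category.assoc, hd, MonObj.one_comp]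
      · rw [← lift_snd α f, ← Category.assoc, hd, MonObj.one_comp]
    obtain ⟨u, hu⟩ := (GrpQ.mem_kernel hK h).2 hhd.1
    have hle : i.left.ker ≤ h.left.ker := by
      rw [show h.left = u.left ≫ i.left by rw [← Over.comp_left, hu]]
      exact Scheme.Hom.le_ker_comp _ _
    have hPh : P h.left.ker := ⟨idObj K, inferInstance, h, Q, inferInstance, q, inferInstance, inferInstance, hnorm,
      inferInstance, inferInstance, inferInstance, inferInstance, hq, hqs, hqf, hqK, rfl⟩
    have heq : h.left.ker = i.left.ker := by
      by_contra hne'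
      exact hmax _ hPh (hI ▸ lt_of_le_of_ne hle (Ne.symm hne'))
    obtain ⟨w, hw⟩ : ∃ w : N ⟶ idObj K, w ≫ h = i := by
      refine ⟨Over.homMk (IsClosedImmersion.lift h.left i.left heq.le) ?_, Over.OverMorphism.ext
        (IsClosedImmersion.lift_fac _ _ _)⟩
      rw [← Over.w h, ← Category.assoc, IsClosedImmersion.lift_fac, Over.w i]
    rw [← hw, Category.assoc, hhd.2, MonObj.comp_one]
  refine ⟨N, gN, i, A, gA, α, hi, hic, hin, hNc, hAp, hAs, hAc, hα, hαs, hαf, hK, ?_, ?_⟩
  · intro B _ _ _ _ f hf
    haveI : IsMonHom f := Groth.Agent.H52.AffToAV.isMonHom_of_pointed f hf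
    haveI : LocallyOfFinitePresentation α.left := by
      haveI : IsLocallyNoetherian A.left := LocallyOfFiniteType.isLocallyNoetherian A.hom
      haveI := GrpQ.locallyOfFiniteType_left α
      infer_instance
    obtain ⟨g, -, hg⟩ := CommAlgGrp.exists_desc_of_kernel α hK f (key B f)
    exact ⟨g, hg, fun g' hg' => GrpQ.cancel_cover hcov (hg'.trans hg.symm)⟩
  · intro B _ _ _ _ q _ _ _
    exact key B q

end Groth.Agent.S14599
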