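import Groth.Statements.S14602
import Groth.Agent.Lib.SemiAbExt.Largest

set_option autoImplicit false
universe u
open CategoryTheory MonoidalCategory CartesianMonoidalCategory MonObj GrpObj AlgebraicGeometry CategoryTheory.Limits
open AlgGrp

set_option backward.isDefEq.respectTransparency false
set_option linter.style.haveILetI false
set_option maxHeartbeats 800000
namespace Groth.Agent.S14602

/-- Let k be a field and G a commutative k-group scheme of finite type. Then G has a largest
semi-abelian subvariety: a closed subgroup scheme s : S → G which is an extension of a proper smooth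
connected k-group scheme by a torus, through which every other such closed subgroup scheme of G
factors; and (G/S)_sab is trivial: for every flat surjective homomorphism q : G → Q of k-group
schemes of finite type with kernel S, every semi-abelian closed subgroup scheme of Q is the trivial
group. -/
theorem result (k : Type u) [Field k]
    (G : Over (Spec (CommRingCat.of k))) [GrpObj G] [IsCommMonObj G] [LocallyOfFiniteType G.hom] [QuasiCompact G.hom] :
    ∃ (S : Over (Spec (CommRingCat.of k))) (_ : GrpObj S) (s : S ⟶ G), IsMonHom s ∧ IsClosedImmersion s.left ∧ (∃ (T : Over (Spec (CommRingCat.of k))) (_ : GrpObj T) (i : T ⟶ S) (A : Over (Spec (CommRingCat.of k))) (_ : GrpObj A) (q : S ⟶ A),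
        IsMonHom i ∧ IsClosedImmersion i.left ∧ Red.IsTorus T ∧ IsMonHom q ∧ Surjective q.left ∧ Flat q.left ∧
        AlgGrp.IsKernel i q ∧ IsProper A.hom ∧ Smooth A.hom ∧ ConnectedSpace ↥A.left) ∧
      (∀ (S' : Over (Spec (CommRingCat.of k))) [GrpObj S'] (s' : S' ⟶ G) [IsMonHom s'] [IsClosedImmersion s'.left],
        (∃ (T : Over (Spec (CommRingCat.of k))) (_ : GrpObj T) (i : T ⟶ S') (A : Over (Spec (CommRingCat.of k))) (_ : GrpObj A) (q : S' ⟶ A),
        IsMonHom i ∧ IsClosedImmersion i.left ∧ Red.IsTorus T ∧ IsMonHom q ∧ Surjective q.left ∧ Flat q.left ∧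
        AlgGrp.IsKernel i q ∧ IsProper A.hom ∧ Smooth A.hom ∧ ConnectedSpace ↥A.left) → ∃ g : S' ⟶ S, g ≫ s = s') ∧
      (∀ (Q : Over (Spec (CommRingCat.of k))) [GrpObj Q] [LocallyOfFiniteType Q.hom] [QuasiCompact Q.hom] (q : G ⟶ Q) [IsMonHom q]
        [Surjective q.left] [Flat q.left], AlgGrp.IsKernel s q →
        ∀ (S'' : Over (Spec (CommRingCat.of k))) [GrpObj S''] (s'' : S'' ⟶ Q) [IsMonHom s''] [IsClosedImmersion s''.left],
          (∃ (T : Over (Spec (CommRingCat.of k))) (_ : GrpObj T) (i : T ⟶ S'') (A : Over (Spec (CommRingCat.of k))) (_ : GrpObj A) (q : S'' ⟶ A),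
        IsMonHom i ∧ IsClosedImmersion i.left ∧ Red.IsTorus T ∧ IsMonHom q ∧ Surjective q.left ∧ Flat q.left ∧
        AlgGrp.IsKernel i q ∧ IsProper A.hom ∧ Smooth A.hom ∧ ConnectedSpace ↥A.left) → IsIso η[S'']) := by
  obtain ⟨S, _, s, ⟨hs, hsc, hSA⟩, hmax⟩ := Groth.Agent.Lib.SemiAbExt.exists_largest_SA (G := G)
  haveI := hs; haveI := hsc
  refine ⟨S, inferInstance, s, hs, hsc, hSA, fun S' _ s' _ _ h => hmax S' s' h, ?_⟩
  intro Q _ _ _ q _ _ _ hK S'' _ s'' _ _ h''
  haveI := Groth.Agent.Lib.SemiAbExt.lfp_of_hom q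
  haveI : IsCommMonObj Q := Groth.Agent.Lib.CommAlgGrp.isCommMonObj_of_cover q
  haveI : LocallyOfFiniteType S''.hom := by rw [← Over.w s'']; infer_instance
  haveI : QuasiCompact S''.hom := by rw [← Over.w s'']; infer_instance
  obtain ⟨hSs, hSc, -⟩ := Groth.Agent.Lib.SemiAbExt.IsSA.props (G := S'') h''
  haveI := hSs; haveI := hSc
  obtain ⟨R, _, _, b, hb, hbf, hbs, hbl, hbK, hRl, hRq⟩ := Groth.Agent.Lib.CommAlgGrp.exists_quotient s''
  haveI := hb; haveI := hRl
  haveI : IsSeparated R.hom := Groth.Agent.Lib.GrpSch.isSeparated_of_field R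
  obtain ⟨P, _, w, hw, hwc, hKP, -⟩ := Groth.Agent.Lib.GrpQ.exists_kernel (q := q ≫ b)
  haveI := hw; haveI := hwc
  haveI : Mono w := Over.mono_of_mono_left w
  haveI : Mono s'' := Over.mono_of_mono_left s''
  haveI : Mono s := Over.mono_of_mono_left s
  haveI : LocallyOfFiniteType P.hom := by rw [← Over.w w]; infer_instance
  haveI : QuasiCompact P.hom := by rw [← Over.w w]; infer_instance
  haveI : IsCommMonObj P := Groth.Agent.Lib.CommAlgGrp.isCommMonObj_of_mono w
  obtain ⟨p, hp⟩ := (Groth.Agent.Lib.GrpQ.mem_kernel hbK (w ≫ q)).2 (by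
    rw [Category.assoc, Groth.Agent.Lib.GrpQ.kernel_comp hKP])
  haveI : IsMonHom p := Groth.Agent.Lib.CommAlgGrp.isMonHom_of_comp_mono s'' (w ≫ q) p hp
  haveI : Surjective p.left := by
    obtain ⟨X, c, g, hg, _, _, _⟩ := Groth.Agent.Lib.GrpQ.ThirdIso.exists_lift q s''
    obtain ⟨v, hv⟩ := (Groth.Agent.Lib.GrpQ.mem_kernel hKP g).2 (by
      rw [← Category.assoc, hg, Category.assoc, Groth.Agent.Lib.GrpQ.kernel_comp hbK, MonObj.comp_one])
    refine Groth.Agent.Lib.SemiAbExt.surjective_of_lift p c v ?_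
    rw [← cancel_mono s'', Category.assoc, hp, ← Category.assoc, hv, hg]
  haveI : Flat p.left := Groth.Agent.Lib.GrpQ.flat_of_surjective_of_smooth p
  obtain ⟨j, hj⟩ := (Groth.Agent.Lib.GrpQ.mem_kernel hKP s).2 (by
    rw [← Category.assoc, Groth.Agent.Lib.GrpQ.kernel_comp hK, MonObj.one_comp])
  haveI : IsMonHom j := Groth.Agent.Lib.CommAlgGrp.isMonHom_of_comp_mono w s j hj
  haveI : IsClosedImmersion j.left := by
    haveI : IsClosedImmersion (j.left ≫ w.left) := by rw [← Over.comp_left, hj]; infer_instance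
    exact IsClosedImmersion.of_comp j.left w.left
  haveI : Mono j := Over.mono_of_mono_left j
  have hKj : AlgGrp.IsKernel j p := Groth.Agent.Lib.GrpQ.isKernel_of j
    (by rw [← cancel_mono s'', Category.assoc, hp, reassoc_of% hj, Groth.Agent.Lib.GrpQ.kernel_comp hK, MonObj.one_comp])
    (fun T x hx => by
      obtain ⟨t, ht⟩ := (Groth.Agent.Lib.GrpQ.mem_kernel hK (x ≫ w)).2 (by
        rw [Category.assoc, ← hp, ← Category.assoc, hx, MonObj.one_comp])
      exact ⟨t, by rw [← cancel_mono w, Category.assoc, hj, ht]⟩)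
  have hP : Groth.Agent.Lib.SemiAbExt.IsSA P := Groth.Agent.Lib.SemiAbExt.IsSA.ext' j p hKj hSA h''
  obtain ⟨g, hg⟩ := hmax P w hP
  have hp1 : p = 1 := by
    rw [← cancel_mono s'', hp, ← hg, Category.assoc, Groth.Agent.Lib.GrpQ.kernel_comp hK, MonObj.comp_one,
      MonObj.one_comp]
  haveI : Epi p := Groth.Agent.H87.CentralExt.epi_of_cover p
  have hid : (𝟙 S'' : S'' ⟶ S'') = toUnit S'' ≫ η[S''] := by
    rw [← cancel_epi p, Category.comp_id, hp1, ← Hom.one_def, MonObj.comp_one]
  exact ⟨toUnit S'', toUnit_unique _ _, hid.symm⟩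

end Groth.Agent.S14602
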