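import Groth.Statements.S14606
import Mathlib
-- import your own Groth.Agent.* helpers here

set_option autoImplicit false
universe u
open FrobAlg

namespace Groth.Agent.S14606

/-- Let k be a field of characteristic p > 0 and R a finitely generated commutative k-algebra. The
scheme-theoretic image of the n-th relative Frobenius morphism of Spec R is the spectrum of the
k-subalgebra k[R^(p^n)] generated by all p^n-th powers; for n large enough this image is
geometrically reduced: there is an n such that k[R^(p^n)] is a geometrically reduced k-algebra.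
(Stated in affine, ring-theoretic form.) -/
theorem result (k : Type u) [Field k] (p : ℕ) [Fact p.Prime] [CharP k p]
    (R : Type u) [CommRing R] [Algebra k R] [Algebra.FiniteType k R] :
    ∃ n : ℕ, Algebra.IsGeometricallyReduced k ↥(Algebra.adjoin k (Set.range (fun x : R => x ^ (p ^ n)))) := by
  classical
  let K := AlgebraicClosure k
  have hp := (Fact.out : p.Prime)
  have : CharP K p := charP_of_injective_algebraMap (algebraMap k K).injective p
  let RK := TensorProduct k K R
  have : IsNoetherianRing RK := Algebra.FiniteType.isNoetherianRing K RK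
  obtain ⟨N, hN⟩ := IsNoetherianRing.isNilpotent_nilradical RK
  refine ⟨N, ?_⟩
  have hnil : ∀ x : RK, IsNilpotent x → x ^ p ^ N = 0 := by
    intro x hx
    have h1 : x ^ N ∈ nilradical RK ^ N := Ideal.pow_mem_pow (mem_nilradical.2 hx) N
    rw [hN] at h1
    exact pow_eq_zero_of_le (Nat.lt_pow_self hp.one_lt).le h1
  rw [Algebra.isGeometricallyReduced_field_iff]
  set S := Algebra.adjoin k (Set.range fun x : R => x ^ p ^ N)
  let ψ : TensorProduct k K S →ₐ[k] RK := Algebra.TensorProduct.map (AlgHom.id k K) S.val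
  have hψ : Function.Injective ψ :=
    Module.Flat.lTensor_preserves_injective_linearMap S.val.toLinearMap Subtype.val_injective
  have hpowsub : ∀ x y : RK, (x + y) ^ p ^ N = x ^ p ^ N + y ^ p ^ N := by
    intro x y
    rcases subsingleton_or_nontrivial RK with h | h
    · exact Subsingleton.elim _ _
    · have : CharP RK p := charP_of_injective_algebraMap (algebraMap K RK).injective p
      exact add_pow_char_pow x y p N
  have hscal : ∀ c : K, ∃ w : RK, c ⊗ₜ[k] (1 : R) = w ^ p ^ N := by
    intro c
    obtain ⟨d, hd⟩ := IsAlgClosed.exists_pow_nat_eq c (pow_pos hp.pos N)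
    exact ⟨d ⊗ₜ[k] (1 : R), by rw [Algebra.TensorProduct.tmul_pow, one_pow, hd]⟩
  have hR : ∀ s ∈ S, ∃ w : RK, (1 : K) ⊗ₜ[k] s = w ^ p ^ N := by
    intro s hs
    induction hs using Algebra.adjoin_induction with
    | mem z hz =>
      obtain ⟨r, rfl⟩ := hz
      exact ⟨(1 : K) ⊗ₜ[k] r, by rw [Algebra.TensorProduct.tmul_pow, one_pow]⟩
    | algebraMap c =>
      obtain ⟨w, hw⟩ := hscal (algebraMap k K c)
      refine ⟨w, ?_⟩
      rw [← hw, Algebra.algebraMap_eq_smul_one, Algebra.algebraMap_eq_smul_one, TensorProduct.smul_tmul]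
    | add a b _ _ ha hb =>
      obtain ⟨u, hu⟩ := ha
      obtain ⟨v, hv⟩ := hb
      exact ⟨u + v, by rw [TensorProduct.tmul_add, hu, hv, hpowsub]⟩
    | mul a b _ _ ha hb =>
      obtain ⟨u, hu⟩ := ha
      obtain ⟨v, hv⟩ := hb
      exact ⟨u * v, by rw [mul_pow, ← hu, ← hv, Algebra.TensorProduct.tmul_mul_tmul, one_mul]⟩
  have himg : ∀ z, ∃ w : RK, ψ z = w ^ p ^ N := by
    intro z
    induction z using TensorProduct.induction_on with
    | zero => exact ⟨0, by rw [map_zero, zero_pow (pow_ne_zero N hp.ne_zero)]⟩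
    | tmul c s =>
      obtain ⟨u, hu⟩ := hscal c
      obtain ⟨v, hv⟩ := hR _ s.2
      exact ⟨u * v, by rw [mul_pow, ← hu, ← hv, Algebra.TensorProduct.tmul_mul_tmul, mul_one, one_mul]; rfl⟩
    | add a b ha hb =>
      obtain ⟨u, hu⟩ := ha
      obtain ⟨v, hv⟩ := hb
      exact ⟨u + v, by rw [map_add, hu, hv, hpowsub]⟩
  refine ⟨fun z hz => hψ ?_⟩
  obtain ⟨w, hw⟩ := himg z
  rw [map_zero, hw]
  refine hnil w ?_
  obtain ⟨m, hm⟩ := hz.map ψ
  exact ⟨p ^ N * m, by rw [pow_mul, ← hw, hm]⟩

end Groth.Agent.S14606
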