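import Groth.Statements.S14607
import Groth.Agent.H24.AffSpPic.Main
import Groth.Agent.H24.Swan.Seminormal
import Groth.Agent.Lib.Seminormal.Basic

set_option autoImplicit false
universe u
open CategoryTheory AlgebraicGeometry CategoryTheory.Limits
open PicF

namespace Groth.Agent.S14607

open Groth.Agent.H24 Groth.Agent.Lib.TensorMod
open scoped TensorProduct

lemma pullCl_comp {A B C : Scheme.{u}} (g : A ⟶ B) (h : B ⟶ C) (c : PicF.Cl C) :
    PicF.pullCl g (PicF.pullCl h c) = PicF.pullCl (g ≫ h) c := by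
  induction c using Quot.ind with
  | mk M => exact Quot.sound ⟨(Scheme.Modules.pullbackComp g h).app M⟩

lemma pullCl_id {A : Scheme.{u}} (c : PicF.Cl A) : PicF.pullCl (𝟙 A) c = c := by
  induction c using Quot.ind with
  | mk M => exact Quot.sound ⟨(Scheme.Modules.pullbackId A).app M⟩

lemma inv_pullback {Y Z : Scheme.{u}} (g : Y ⟶ Z) {M : Z.Modules} (hM : PicF.IsInvertible M) :
    PicF.IsInvertible ((Scheme.Modules.pullback g).obj M) :=
  LocFree.isInvertible_of_rank_one (LocFree.rank_pullback g (LocFree.of_isInvertible hM))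

lemma free_punit (O : Type u) [CommRing O] [IsLocalRing O] (h : HTop.IsSeminormalRing O) (M : Type u)
    [AddCommGroup M] [Module (MvPolynomial PUnit.{u + 1} O) M] [Module.Invertible (MvPolynomial PUnit.{u + 1} O) M] :
    Nonempty (M ≃ₗ[MvPolynomial PUnit.{u + 1} O] MvPolynomial PUnit.{u + 1} O) := by
  let e := (MvPolynomial.uniqueAlgEquiv O PUnit.{u + 1}).toRingEquiv
  letI := e.toRingHom.toAlgebra
  let ψ : MvPolynomial PUnit.{u + 1} O ≃ₐ[MvPolynomial PUnit.{u + 1} O] Polynomial O :=
    AlgEquiv.ofRingEquiv (f := e) fun _ => rfl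
  haveI := Swan.free_of_seminormal_local h (Polynomial O ⊗[MvPolynomial PUnit.{u + 1} O] M)
  obtain ⟨t⟩ := Module.Invertible.free_iff_linearEquiv.mp this
  exact ⟨(TensorProduct.lid _ M).symm ≪≫ₗ TensorProduct.congr ψ.toLinearEquiv (LinearEquiv.refl _ M) ≪≫ₗ
    t.restrictScalars _ ≪≫ₗ ψ.symm.toLinearEquiv⟩

lemma seminormal_stalk {X : Scheme.{u}} (hX : HTop.IsSeminormal X) (x : X) :
    HTop.IsSeminormalRing (X.presheaf.stalk x) := by
  obtain ⟨U, hx, hU⟩ := hX x
  letI : Algebra Γ(X, U) (X.presheaf.stalk x) := (X.presheaf.germ U.1 x hx).hom.toAlgebra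
  haveI : IsLocalization.AtPrime (X.presheaf.stalk x) (U.2.primeIdealOf ⟨x, hx⟩).asIdeal :=
    U.2.isLocalization_stalk ⟨x, hx⟩
  exact Groth.Agent.Lib.Seminormal.Basic.isSeminormalRing_of_isLocalization
    (U.2.primeIdealOf ⟨x, hx⟩).asIdeal.primeCompl hU

lemma descend {X : Scheme.{u}} [IsReduced X] (hX : HTop.IsSeminormal X)
    (L : (𝔸(PUnit.{u + 1}; X)).Modules) (hL : PicF.IsInvertible L) :
    ∃ M : X.Modules, PicF.IsInvertible M ∧
      Nonempty ((Scheme.Modules.pullback (𝔸(PUnit.{u + 1}; X) ↘ X)).obj M ≅ L) := by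
  let p := 𝔸(PUnit.{u + 1}; X) ↘ X
  let s := AffSpPic.zeroSec PUnit.{u + 1} X
  let M := (Scheme.Modules.pullback s).obj L
  have hM : PicF.IsInvertible M := inv_pullback s hL
  obtain ⟨M', hM', ⟨j⟩⟩ := Invertible.exists_inverse hM
  have hp' := inv_pullback p hM'
  have i : (Scheme.Modules.pullback s).obj (CohB1.tensorMod L ((Scheme.Modules.pullback p).obj M')) ≅
      Coh.structureModule X :=
    Pullback.pullbackTensorIso s _ _ ≪≫ Basic.tensorIso (Iso.refl M)
      ((Scheme.Modules.pullbackComp s p).app M' ≪≫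
        (Scheme.Modules.pullbackCongr (AffSpPic.zeroSec_over _)).app M' ≪≫
        (Scheme.Modules.pullbackId X).app M') ≪≫ j
  obtain ⟨t⟩ := AffSpPic.trivial_of_zeroSec _ _ (Invertible.isInvertible_tensorMod hL hp')
    (fun x N _ _ _ => free_punit _ (seminormal_stalk hX x) N) i
  exact ⟨M, hM, ⟨(Invertible.cancelRight hp' (t ≪≫ (PicLoc.pullbackStructureIso p).symm ≪≫
    (Scheme.Modules.pullback p).mapIso j.symm ≪≫ Pullback.pullbackTensorIso p M M')).symm⟩⟩

/-- Let k be a field and X an integral, separated k-scheme of finite type which is seminormal, in the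
sense that every point has an affine open neighbourhood whose ring of functions is seminormal (x³ =
y² implies x = a² and y = a³ for exactly one a). Then the pull-back along the first projection X ×
A¹ → X induces a bijection from the isomorphism classes of invertible O_X-modules onto those of
invertible modules on X × A¹, i.e. Pic(X) → Pic(X × A¹) is an isomorphism. (This is the assertion
established in the course of the published proof, which deduces from it that the Picard variety of a
geometrically semi-normal proper variety is semi-abelian; semi-normality is taken in the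
ring-theoretic form used by the cited input on Picard groups of polynomial rings.) -/
theorem result (k : Type u) [Field k]
    (X : Scheme.{u}) (f : X ⟶ Spec (CommRingCat.of k)) [IsIntegral X] [IsSeparated f] [LocallyOfFiniteType f] [QuasiCompact f]
    (hX : HTop.IsSeminormal X) :
    Set.BijOn (PicF.pullCl (pullback.fst f (𝔸(PUnit.{u + 1}; Spec (CommRingCat.of k)) ↘ Spec (CommRingCat.of k))))
      {c : PicF.Cl X | PicF.IsInvertibleCl c}
      {c : PicF.Cl (pullback f (𝔸(PUnit.{u + 1}; Spec (CommRingCat.of k)) ↘ Spec (CommRingCat.of k))) | PicF.IsInvertibleCl c} := by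
  let q := 𝔸(PUnit.{u + 1}; Spec (CommRingCat.of k)) ↘ Spec (CommRingCat.of k)
  let sq := (AffineSpace.isPullback_map (n := PUnit.{u + 1}) f).flip
  let θ : 𝔸(PUnit.{u + 1}; X) ≅ pullback f q := sq.isoPullback
  have hθ : θ.hom ≫ pullback.fst f q = 𝔸(PUnit.{u + 1}; X) ↘ X := sq.isoPullback_hom_fst
  have hθ' : θ.inv ≫ (𝔸(PUnit.{u + 1}; X) ↘ X) = pullback.fst f q := by
    rw [← hθ, Iso.inv_hom_id_assoc]
  refine ⟨?_, ?_, ?_⟩
  · rintro c ⟨M, rfl, hM⟩
    exact ⟨_, rfl, inv_pullback _ hM⟩
  · intro c _ d _ hcd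
    have h := congrArg (PicF.pullCl (AffSpPic.zeroSec PUnit.{u + 1} X ≫ θ.hom)) hcd
    rwa [pullCl_comp, pullCl_comp, Category.assoc, hθ, AffSpPic.zeroSec_over, pullCl_id, pullCl_id] at h
  · rintro d ⟨L, rfl, hL⟩
    obtain ⟨M, hM, ⟨e⟩⟩ := descend hX _ (inv_pullback θ.hom hL)
    refine ⟨PicF.cl M, ⟨M, rfl, hM⟩, Quot.sound ⟨?_⟩⟩
    exact (Scheme.Modules.pullbackCongr hθ'.symm).app M ≪≫ ((Scheme.Modules.pullbackComp _ _).app M).symm ≪≫
      (Scheme.Modules.pullback θ.inv).mapIso e ≪≫ (Scheme.Modules.pullbackComp θ.inv θ.hom).app L ≪≫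
      (Scheme.Modules.pullbackCongr θ.inv_hom_id).app L ≪≫ (Scheme.Modules.pullbackId _).app L

end Groth.Agent.S14607
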