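import Groth.Statements.S14608
import Mathlib.RingTheory.LocalRing.Module
import Mathlib.RingTheory.Flat.Localization
import Mathlib.RingTheory.Localization.BaseChange
import Mathlib.RingTheory.LocalRing.ResidueField.Ideal
import Mathlib.LinearAlgebra.TensorProduct.RightExactness

set_option autoImplicit false
universe u v w
open CAlg

namespace Groth.Agent.S14608

open TensorProduct in
theorem local_tfae {R : Type u} [CommRing R] [IsLocalRing R] {K M B F C : Type w}
    [AddCommGroup K] [Module R K] [AddCommGroup M] [Module R M] [AddCommGroup B] [Module R B]
    [AddCommGroup F] [Module R F] [AddCommGroup C] [Module R C]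
    [Module.Finite R M] [Module.Finite R B] [Module.Finite R F] [Module.Free R F]
    (f : K →ₗ[R] M) (g : M →ₗ[R] B) (ι : B →ₗ[R] F) (q : F →ₗ[R] C)
    (hf : Function.Injective f) (hfg : Function.Exact f g) (hg : Function.Surjective g)
    (hι : Function.Injective ι) (hιq : Function.Exact ι q) (hq : Function.Surjective q) :
    let k := IsLocalRing.ResidueField R
    (Function.Exact (f.lTensor k) ((ι ∘ₗ g).lTensor k) ↔ Module.Free R C) ∧
      (Module.Free R C → Function.Injective (f.lTensor k) ∧ Module.Free R B) := by
  intro k
  have h1 : Function.Exact (f.lTensor k) (g.lTensor k) := lTensor_exact k hfg hg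
  have h2 : Function.Surjective (g.lTensor k) := LinearMap.lTensor_surjective k hg
  have hA : Function.Exact (f.lTensor k) ((ι ∘ₗ g).lTensor k) ↔ Function.Injective (ι.lTensor k) := by
    rw [LinearMap.lTensor_comp]
    constructor
    · intro h
      rw [injective_iff_map_eq_zero]
      intro y hy
      obtain ⟨x, rfl⟩ := h2 y
      exact (h1 x).2 ((h x).1 hy)
    · intro h x
      rw [LinearMap.comp_apply, map_eq_zero_iff _ h]
      exact h1 x
  have hinj : Module.Free R C → ∃ l, l ∘ₗ ι = LinearMap.id := by
    intro _
    exact ((Function.Exact.split_tfae hιq hι hq).out 0 1).mp (Module.projective_lifting_property q LinearMap.id hq)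
  refine ⟨⟨fun h => Module.free_of_lTensor_residueField_injective ι q hq hιq (hA.1 h), fun h => hA.2 ?_⟩, fun h => ?_⟩
  · obtain ⟨l, hl⟩ := hinj h
    exact (IsLocalRing.split_injective_iff_lTensor_residueField_injective ι).1 ⟨l, hl⟩
  · obtain ⟨l, hl⟩ := hinj h
    have : Module.Projective R B := Module.Projective.of_split ι l hl
    obtain ⟨l', hl'⟩ := ((Function.Exact.split_tfae hfg hf hg).out 0 1).mp
      (Module.projective_lifting_property g LinearMap.id hg)
    refine ⟨Function.HasLeftInverse.injective ⟨l'.lTensor k, fun x => ?_⟩, Module.free_of_flat_of_isLocalRing⟩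
    rw [← LinearMap.comp_apply, ← LinearMap.lTensor_comp, hl', LinearMap.lTensor_id, LinearMap.id_apply]

open TensorProduct in
theorem cancel_natural {A R k : Type u} [CommRing A] [CommRing R] [Algebra A R] [CommRing k] [Algebra R k] [Algebra A k]
    [IsScalarTower A R k] {N N' : Type w} [AddCommGroup N] [Module A N] [AddCommGroup N'] [Module A N']
    (f : N →ₗ[A] N') (z : k ⊗[R] (R ⊗[A] N)) :
    TensorProduct.AlgebraTensorModule.cancelBaseChange A R R k N' ((f.baseChange R).lTensor k z) =
      f.lTensor k (TensorProduct.AlgebraTensorModule.cancelBaseChange A R R k N z) := by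
  induction z using TensorProduct.induction_on with
  | zero => simp
  | add x y hx hy => simp only [map_add, hx, hy]
  | tmul a w =>
    induction w using TensorProduct.induction_on with
    | zero => simp
    | add x y hx hy => simp only [TensorProduct.tmul_add, map_add, hx, hy]
    | tmul r n => simp

open TensorProduct in
/-- Let A be a Noetherian ring, M a finitely generated A-module, F a finitely generated free A-module, δ
: M → F an A-linear map and p a prime of A with residue field κ(p). The following are equivalent:
(a) the natural map (ker δ) ⊗ κ(p) → ker(δ ⊗ κ(p)) is surjective (its image is the whole kernel);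
(b) that map is bijective; (c) (F / im δ) localized at p is a free module over the local ring A_p.
Moreover, if these hold then (im δ) localized at p is free over A_p. (The published statement takes
M to be the cokernel of a map of finitely generated free modules; over a Noetherian ring this is
every finitely generated M, which is what this row takes.) -/
theorem result (A : Type u) [CommRing A] [IsNoetherianRing A]
    (M : Type v) (F : Type v) [AddCommGroup M] [Module A M] [Module.Finite A M]
    [AddCommGroup F] [Module A F] [Module.Finite A F] [Module.Free A F]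
    (δ : M →ₗ[A] F) (p : Ideal A) [p.IsPrime] :
    [ Function.Exact (LinearMap.lTensor p.ResidueField (LinearMap.ker δ).subtype)
        (LinearMap.lTensor p.ResidueField δ),
      Function.Exact (LinearMap.lTensor p.ResidueField (LinearMap.ker δ).subtype)
        (LinearMap.lTensor p.ResidueField δ) ∧
        Function.Injective (LinearMap.lTensor p.ResidueField (LinearMap.ker δ).subtype),
      Module.Free (Localization.AtPrime p)
        (LocalizedModule p.primeCompl (F ⧸ LinearMap.range δ)) ].TFAE ∧
    (Function.Exact (LinearMap.lTensor p.ResidueField (LinearMap.ker δ).subtype)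
        (LinearMap.lTensor p.ResidueField δ) →
      Module.Free (Localization.AtPrime p)
        (LocalizedModule p.primeCompl (LinearMap.range δ))) := by
  let R := Localization.AtPrime p
  have : Module.Flat A R := IsLocalization.flat _ p.primeCompl
  let f := (LinearMap.ker δ).subtype
  let g := δ.rangeRestrict
  let ι := (LinearMap.range δ).subtype
  let q := (LinearMap.range δ).mkQ
  have hfg : Function.Exact f g := fun x =>
    ⟨fun h => ⟨⟨x, by simpa [g, LinearMap.mem_ker] using congrArg Subtype.val h⟩, rfl⟩,
      by rintro ⟨y, rfl⟩; exact Subtype.ext y.2⟩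
  have key := local_tfae (f.baseChange R) (g.baseChange R) (ι.baseChange R) (q.baseChange R)
    (Module.Flat.lTensor_preserves_injective_linearMap f Subtype.val_injective) (Module.Flat.lTensor_exact R hfg)
    (LinearMap.lTensor_surjective R δ.surjective_rangeRestrict)
    (Module.Flat.lTensor_preserves_injective_linearMap ι Subtype.val_injective)
    (Module.Flat.lTensor_exact R (LinearMap.exact_subtype_mkQ _))
    (LinearMap.lTensor_surjective R (LinearMap.range δ).mkQ_surjective)
  rw [← LinearMap.baseChange_comp, show ι ∘ₗ g = δ from LinearMap.subtype_comp_codRestrict _ _ _] at key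
  let eK := TensorProduct.AlgebraTensorModule.cancelBaseChange A R R p.ResidueField (LinearMap.ker δ)
  let eM := TensorProduct.AlgebraTensorModule.cancelBaseChange A R R p.ResidueField M
  let eF := TensorProduct.AlgebraTensorModule.cancelBaseChange A R R p.ResidueField F
  have nf := cancel_natural (R := R) (k := p.ResidueField) f
  have nd := cancel_natural (R := R) (k := p.ResidueField) δ
  have hE : Function.Exact (f.lTensor p.ResidueField) (δ.lTensor p.ResidueField) ↔
      Function.Exact ((f.baseChange R).lTensor p.ResidueField) ((δ.baseChange R).lTensor p.ResidueField) := by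
    constructor
    · intro h x
      rw [← map_eq_zero_iff _ eF.injective, show eF _ = _ from nd x, h (eM x)]
      constructor
      · rintro ⟨y, hy⟩
        obtain ⟨y', rfl⟩ := eK.surjective y
        exact ⟨y', eM.injective ((nf y').trans hy)⟩
      · rintro ⟨y, rfl⟩
        exact ⟨eK y, (nf y).symm⟩
    · intro h x
      obtain ⟨x', rfl⟩ := eM.surjective x
      rw [← show eF _ = _ from nd x', map_eq_zero_iff _ eF.injective, h x']
      constructor
      · rintro ⟨y, rfl⟩
        exact ⟨eK y, (nf y).symm⟩
      · rintro ⟨y, hy⟩
        obtain ⟨y', rfl⟩ := eK.surjective y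
        exact ⟨y', eM.injective ((nf y').trans hy)⟩
  have hI : Function.Injective ((f.baseChange R).lTensor p.ResidueField) →
      Function.Injective (f.lTensor p.ResidueField) := by
    intro h x y hxy
    obtain ⟨x', rfl⟩ := eK.surjective x
    obtain ⟨y', rfl⟩ := eK.surjective y
    rw [← show eM _ = _ from nf x', ← show eM _ = _ from nf y'] at hxy
    rw [h (eM.injective hxy)]
  let eC := LocalizedModule.equivTensorProduct p.primeCompl (F ⧸ LinearMap.range δ)
  let eB := LocalizedModule.equivTensorProduct p.primeCompl (LinearMap.range δ)
  refine ⟨?_, fun h => ?_⟩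
  · tfae_have 2 → 1 := fun h => h.1
    tfae_have 1 → 3 := fun h => by
      have := key.1.1 (hE.1 h)
      exact Module.Free.of_equiv eC.symm
    tfae_have 3 → 2 := fun h => by
      have hC : Module.Free R (TensorProduct A R (F ⧸ LinearMap.range δ)) := Module.Free.of_equiv eC
      exact ⟨hE.2 (key.1.2 hC), hI (key.2 hC).1⟩
    tfae_finish
  · have hC := key.1.1 (hE.1 h)
    have := (key.2 hC).2
    exact Module.Free.of_equiv eB.symm

end Groth.Agent.S14608
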