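import Groth.Statements.S14609
import Groth.Agent.Lib.FlatCx.FibreRank
open Groth.Agent.Lib.FlatCx Filter Topology

set_option autoImplicit false
universe u v
open CAlg

namespace Groth.Agent.S14609

open TensorProduct in
/-- Let A be a Noetherian ring, M a finitely generated A-module, F a finitely generated free A-module
and δ : M → F an A-linear map. Then the function on Spec A sending a prime p with residue field κ(p)
to the κ(p)-dimension of the kernel of δ ⊗ κ(p) : M ⊗ κ(p) → F ⊗ κ(p) is upper semicontinuous. -/
theorem result (A : Type u) [CommRing A]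
    [IsNoetherianRing A] (M : Type v) (F : Type v) [AddCommGroup M] [Module A M] [Module.Finite A M]
    [AddCommGroup F] [Module A F] [Module.Finite A F] [Module.Free A F] (δ : M →ₗ[A] F) :
    UpperSemicontinuous (fun x : PrimeSpectrum A =>
      Module.finrank x.asIdeal.ResidueField
        (LinearMap.ker (δ.baseChange x.asIdeal.ResidueField))) := by
  intro x c hc
  have h1 := FibreRank.upperSemicontinuous_finrank (A := A) M x _ (Nat.lt_succ_self _)
  have h2 := FibreRank.upperSemicontinuous_finrank (A := A) (F ⧸ LinearMap.range δ) x _ (Nat.lt_succ_self _)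
  haveI : Nontrivial A := ⟨⟨0, 1, fun h => x.isPrime.ne_top
    ((Ideal.eq_top_iff_one _).2 (h ▸ zero_mem _))⟩⟩
  filter_upwards [h1, h2] with y e1 e2
  have ey := FibreRank.finrank_range_add δ y.asIdeal.ResidueField
  have ex := FibreRank.finrank_range_add δ x.asIdeal.ResidueField
  have ey2 := LinearMap.finrank_range_add_finrank_ker (δ.baseChange y.asIdeal.ResidueField)
  have ex2 := LinearMap.finrank_range_add_finrank_ker (δ.baseChange x.asIdeal.ResidueField)
  have fy : Module.finrank y.asIdeal.ResidueField (y.asIdeal.ResidueField ⊗[A] F) = Module.finrank A F :=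
    Module.finrank_baseChange
  have fx : Module.finrank x.asIdeal.ResidueField (x.asIdeal.ResidueField ⊗[A] F) = Module.finrank A F :=
    Module.finrank_baseChange
  simp only at hc ⊢
  omega

end Groth.Agent.S14609
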