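import Groth.Statements.S1461
import Groth.Agent.H69.FibreLoci.Approx
import Groth.Agent.S9735
-- import your own Groth.Agent.* helpers here

set_option autoImplicit false
universe u
open FlatMor

namespace Groth.Agent.S1461
open CategoryTheory CategoryTheory.Limits
set_option backward.isDefEq.respectTransparency false

open AlgebraicGeometry CategoryTheory Limits in
/-- Let f : X → S be a morphism of finite presentation between affine schemes whose fibres are
geometrically reduced. Then f is the base change of a morphism of finite type f₀ : X₀ → S₀ between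
affine schemes with S₀ of finite type over ℤ, where f₀ can be chosen with the same property. -/
theorem result {X S : Scheme.{u}} (f : X ⟶ S) [IsAffine X] [IsAffine S] [LocallyOfFinitePresentation f] [GeometricallyReduced f] :
    ∃ (X₀ S₀ : Scheme.{u}) (f₀ : X₀ ⟶ S₀) (g : S ⟶ S₀) (g' : X ⟶ X₀), IsAffine X₀ ∧ IsAffine S₀ ∧ IsPullback g' f f₀ g ∧
      Algebra.FiniteType ℤ Γ(S₀, ⊤) ∧ LocallyOfFiniteType f₀ ∧ GeometricallyReduced f₀ := by
  obtain ⟨X₀, S₀, f₀, g, g', h1, h2, h3, h4, h5, h6⟩ := Groth.Agent.H69.FibreLoci.Approx.exists_model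
    (fun f y => GeometricallyReduced (f.fiberToSpecResidueField y))
    (fun f f' g' g _ sq y' => Set.ext_iff.1 (Groth.Agent.S9735.result f g f' g' sq) y')
    (fun f _ _ _ => Groth.Agent.H69.FibreLoci.GR.isLocallyConstructible f) f (fun s => inferInstance)
  refine ⟨X₀, S₀, f₀, g, g', h1, h2, h3, h4, h5, ?_⟩
  rw [GeometricallyReduced.eq_geometrically, geometrically_iff_forall_fiberToSpecResidueField,
    ← GeometricallyReduced.eq_geometrically]
  exact h6

end Groth.Agent.S1461
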