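import Groth.Statements.S14610
import Groth.Agent.H48.FibreRankU
import Mathlib.Tactic.Linarith

set_option autoImplicit false
universe u v
open CAlg

namespace Groth.Agent.S14610

section
open LinearMap TensorProduct Module

variable {R : Type*} [CommRing R] {M : Type*} [AddCommGroup M] [Module R M] [Module.Finite R M]

theorem exists_open_finrank_le (p : PrimeSpectrum R) :
    ∃ U : Set (PrimeSpectrum R), IsOpen U ∧ p ∈ U ∧ ∀ q ∈ U,
      finrank q.asIdeal.ResidueField (q.asIdeal.ResidueField ⊗[R] M) ≤
        finrank p.asIdeal.ResidueField (p.asIdeal.ResidueField ⊗[R] M) := by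
  classical
  let k := p.asIdeal.ResidueField
  have hspan : Submodule.span k (Set.range fun m : M => (1 : k) ⊗ₜ[R] m) = ⊤ := by
    refine eq_top_iff.2 fun x _ => ?_
    induction x with
    | zero => exact zero_mem _
    | add x y hx hy => exact add_mem (hx trivial) (hy trivial)
    | tmul a m =>
      rw [show a ⊗ₜ[R] m = a • ((1 : k) ⊗ₜ[R] m) by simp [smul_tmul']]
      exact Submodule.smul_mem _ _ (Submodule.subset_span ⟨m, rfl⟩)
  let b := Module.Basis.ofSpan hspan.ge
  have : Finite _ := Module.Finite.finite_basis b
  let n := Module.finrank k (k ⊗[R] M)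
  let b' := b.reindex ((Finite.equivFin _).trans (finCongr (by
    rw [← Module.finrank_eq_nat_card_basis b])) : _ ≃ Fin n)
  have hb : ∀ i, ∃ m : M, (1 : k) ⊗ₜ[R] m = b' i := by
    intro i
    simp only [b', Module.Basis.reindex_apply, b]
    exact Module.Basis.ofSpan_subset hspan.ge (Set.mem_range_self _)
  choose v hv using hb
  let φ : (Fin n → R) →ₗ[R] M := Fintype.linearCombination R v
  have hp : p ∉ Module.support R (M ⧸ range φ) := by
    rw [Module.mem_support_iff_nontrivial_residueField_tensorProduct, not_nontrivial_iff_subsingleton]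
    refine subsingleton_of_forall_eq 0 fun x => ?_
    obtain ⟨y, rfl⟩ := lTensor_surjective k (range φ).mkQ_surjective x
    have hle : Submodule.span k (Set.range b') ≤
        ker ((range φ).mkQ.baseChange k) := by
      rw [Submodule.span_le]
      rintro _ ⟨i, rfl⟩
      rw [← hv i, SetLike.mem_coe, LinearMap.mem_ker, baseChange_tmul]
      have : (range φ).mkQ (v i) = 0 := (Submodule.Quotient.mk_eq_zero _).2
        ⟨Pi.single i 1, by simp [φ, Fintype.linearCombination_apply_single]⟩
      rw [this, tmul_zero]
    rw [b'.span_eq] at hle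
    exact hle Submodule.mem_top
  refine ⟨(Module.support R (M ⧸ range φ))ᶜ, ?_, hp, fun q hq => ?_⟩
  · rw [Module.support_eq_zeroLocus]
    exact (PrimeSpectrum.isClosed_zeroLocus _).isOpen_compl
  · rw [Set.mem_compl_iff, Module.mem_support_iff_nontrivial_residueField_tensorProduct,
      not_nontrivial_iff_subsingleton] at hq
    have := hq
    let kq := q.asIdeal.ResidueField
    have hsurj : Function.Surjective (φ.baseChange kq) := by
      intro x
      have hex := _root_.lTensor_exact kq (LinearMap.exact_map_mkQ_range φ)
        (range φ).mkQ_surjective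
      obtain ⟨y, hy⟩ := (hex x).mp (Subsingleton.elim _ _)
      exact ⟨y, hy⟩
    have : Nontrivial R := q.nontrivial
    have h0 : finrank kq (kq ⊗[R] (Fin n → R)) = n := by
      rw [Module.finrank_baseChange, Module.finrank_fin_fun]
    have h1 := LinearMap.finrank_range_le (φ.baseChange kq)
    rw [LinearMap.range_eq_top.mpr hsurj, finrank_top, h0] at h1
    exact h1

theorem finrank_coker_add {F : Type*} [AddCommGroup F] [Module R F] [Module.Finite R F]
    [Module.Free R F] (δ : M →ₗ[R] F) (p : PrimeSpectrum R) :
    finrank p.asIdeal.ResidueField (p.asIdeal.ResidueField ⊗[R] (F ⧸ range δ)) +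
      finrank p.asIdeal.ResidueField (p.asIdeal.ResidueField ⊗[R] M) =
    finrank R F + finrank p.asIdeal.ResidueField (ker (δ.baseChange p.asIdeal.ResidueField)) := by
  let k := p.asIdeal.ResidueField
  have hex := _root_.lTensor_exact k (LinearMap.exact_map_mkQ_range δ) (range δ).mkQ_surjective
  have hsurj : Function.Surjective ((range δ).mkQ.baseChange k) :=
    lTensor_surjective k (range δ).mkQ_surjective
  have hker : ker ((range δ).mkQ.baseChange k) = range (δ.baseChange k) := by
    ext x
    exact (hex x)
  have h1 := LinearMap.finrank_range_add_finrank_ker ((range δ).mkQ.baseChange k)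
  rw [LinearMap.range_eq_top.mpr hsurj, finrank_top, hker] at h1
  have h2 := LinearMap.finrank_range_add_finrank_ker (δ.baseChange k)
  have : Nontrivial R := p.nontrivial
  have h3 : finrank k (k ⊗[R] F) = finrank R F := Module.finrank_baseChange
  simp only [k] at h1 h2 h3 ⊢
  linarith

theorem exists_leftInverse_subtype {F : Type*} [AddCommGroup F] [Module R F] (S : Submodule R F)
    [Module.Projective R (F ⧸ S)] : ∃ r : F →ₗ[R] S, r ∘ₗ S.subtype = LinearMap.id := by
  obtain ⟨s, hs⟩ := Module.projective_lifting_property S.mkQ (LinearMap.id) S.mkQ_surjective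
  have hmem : ∀ x, (LinearMap.id - s ∘ₗ S.mkQ : F →ₗ[R] F) x ∈ S := fun x => by
    rw [← Submodule.Quotient.mk_eq_zero]
    have := LinearMap.congr_fun hs (S.mkQ x)
    simp only [LinearMap.comp_apply, LinearMap.id_apply, Submodule.mkQ_apply] at this
    simp [this]
  refine ⟨(LinearMap.id - s ∘ₗ S.mkQ).codRestrict S hmem, ?_⟩
  · ext x
    have : S.mkQ (x : F) = 0 := (Submodule.Quotient.mk_eq_zero S).mpr x.2
    simp [this]

end

open TensorProduct in
/-- Let A be a reduced Noetherian ring, M a finitely generated A-module, F a finitely generated free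
A-module and δ : M → F an A-linear map such that the function p ↦ dim_{κ(p)} ker(δ ⊗ κ(p)) is
locally constant on Spec A. Then M, ker δ and coker δ = F / im δ are projective A-modules, and for
every A-module N the natural map (ker δ) ⊗ N → M ⊗ N is injective with image equal to the kernel of
δ ⊗ N. -/
theorem result (A : Type u) [CommRing A]
    [IsNoetherianRing A] [IsReduced A] (M : Type v) (F : Type v) [AddCommGroup M] [Module A M]
    [Module.Finite A M] [AddCommGroup F] [Module A F] [Module.Finite A F] [Module.Free A F]
    (δ : M →ₗ[A] F)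
    (h : IsLocallyConstant (fun x : PrimeSpectrum A =>
      Module.finrank x.asIdeal.ResidueField
        (LinearMap.ker (δ.baseChange x.asIdeal.ResidueField)))) :
    Module.Projective A M ∧ Module.Projective A (LinearMap.ker δ) ∧
      Module.Projective A (F ⧸ LinearMap.range δ) ∧
      ∀ (N : Type v) [AddCommGroup N] [Module A N],
        Function.Injective (LinearMap.rTensor N (LinearMap.ker δ).subtype) ∧
        Function.Exact (LinearMap.rTensor N (LinearMap.ker δ).subtype) (LinearMap.rTensor N δ) := by
  have hC : Module.Finite A (F ⧸ LinearMap.range δ) := inferInstance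
  let cdim := fun x : PrimeSpectrum A => Module.finrank x.asIdeal.ResidueField
    (x.asIdeal.ResidueField ⊗[A] (F ⧸ LinearMap.range δ))
  let mdim := fun x : PrimeSpectrum A => Module.finrank x.asIdeal.ResidueField
    (x.asIdeal.ResidueField ⊗[A] M)
  have hloc : IsLocallyConstant cdim ∧ IsLocallyConstant mdim := by
    have key : ∀ p, ∃ U : Set (PrimeSpectrum A), IsOpen U ∧ p ∈ U ∧
        ∀ q ∈ U, cdim q = cdim p ∧ mdim q = mdim p := by
      intro p
      obtain ⟨U₁, hU₁, hp₁, h₁⟩ := exists_open_finrank_le (M := M) p
      obtain ⟨U₂, hU₂, hp₂, h₂⟩ := exists_open_finrank_le (M := F ⧸ LinearMap.range δ) p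
      refine ⟨U₁ ∩ U₂ ∩ {q | _}, (hU₁.inter hU₂).inter (h.isOpen_fiber _), ⟨⟨hp₁, hp₂⟩, rfl⟩, ?_⟩
      rintro q ⟨⟨hq₁, hq₂⟩, hq₃⟩
      have e1 := finrank_coker_add δ p
      have e2 := finrank_coker_add δ q
      have l1 := h₁ q hq₁
      have l2 := h₂ q hq₂
      simp only [Set.mem_setOf_eq] at hq₃
      constructor <;> simp only [cdim, mdim] <;> omega
    constructor <;> rw [IsLocallyConstant.iff_exists_open] <;> intro p <;>
      obtain ⟨U, hU, hp, hq⟩ := key p
    · exact ⟨U, hU, hp, fun q h' => (hq q h').1⟩
    · exact ⟨U, hU, hp, fun q h' => (hq q h').2⟩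
  have hPM : Module.Projective A M := Groth.Agent.H48.FibreRankU.projective_of_locallyConstant hloc.2
  have hPC : Module.Projective A (F ⧸ LinearMap.range δ) :=
    Groth.Agent.H48.FibreRankU.projective_of_locallyConstant hloc.1
  obtain ⟨r, hr⟩ := exists_leftInverse_subtype (LinearMap.range δ)
  have hPR : Module.Projective A (LinearMap.range δ) :=
    Module.Projective.of_split (LinearMap.range δ).subtype r hr
  have : Module.Projective A (M ⧸ LinearMap.ker δ) :=
    Module.Projective.of_equiv δ.quotKerEquivRange.symm
  obtain ⟨r', hr'⟩ := exists_leftInverse_subtype (LinearMap.ker δ)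
  refine ⟨hPM, Module.Projective.of_split (LinearMap.ker δ).subtype r' hr', hPC, fun N _ _ => ⟨?_, ?_⟩⟩
  · refine Function.LeftInverse.injective (g := LinearMap.rTensor N r') fun x => ?_
    rw [← LinearMap.comp_apply, ← LinearMap.rTensor_comp, hr', LinearMap.rTensor_id]
    rfl
  · have hex : Function.Exact (LinearMap.ker δ).subtype δ.rangeRestrict := by
      intro x
      rw [Subtype.ext_iff]
      simp
    have hex' := rTensor_exact N hex δ.surjective_rangeRestrict
    have hinj : Function.Injective (LinearMap.rTensor N (LinearMap.range δ).subtype) := by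
      refine Function.LeftInverse.injective (g := LinearMap.rTensor N r) fun x => ?_
      rw [← LinearMap.comp_apply, ← LinearMap.rTensor_comp, hr, LinearMap.rTensor_id]
      rfl
    intro x
    have hfac : LinearMap.rTensor N δ x =
        LinearMap.rTensor N (LinearMap.range δ).subtype (LinearMap.rTensor N δ.rangeRestrict x) := by
      rw [← LinearMap.comp_apply, ← LinearMap.rTensor_comp]
      rfl
    rw [hfac, map_eq_zero_iff _ hinj]
    exact hex' x

end Groth.Agent.S14610
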