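import Groth.Statements.S14611
import Groth.Agent.Lib.FlatCx.ProjCoker
import Groth.Agent.Lib.FlatCx.Above

set_option autoImplicit false
universe u
open FlatCx

namespace Groth.Agent.S14611

open CategoryTheory CategoryTheory.Limits in
/-- Let A be a Noetherian ring, Q a cochain complex whose terms are finitely generated projective
A-modules, and d an integer such that H^p(Q) = 0 for every p < d and H^p(Q ⊗_A A/m) = 0 for every p
< d and every maximal ideal m of A. Then Q^d / im(Q^{d-1} → Q^d), the degree-d term of the
truncation τ_{≥ d} Q, is a projective A-module, so that τ_{≥ d} Q is again a complex of projective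
modules. (The published statement also asserts that Q → τ_{≥ d} Q is a quasi-isomorphism when H^p(Q)
= 0 for p < d; this row omits that clause.) -/
theorem result (A : Type u) [CommRing A] [IsNoetherianRing A]
    (Q : CochainComplex (ModuleCat.{u} A) ℤ)
    (hQ : ∀ i, Module.Finite A (Q.X i) ∧ Module.Projective A (Q.X i)) (d : ℤ)
    (h1 : ∀ p < d, IsZero (Q.homology p))
    (h2 : ∀ (m : Ideal A) [m.IsMaximal], ∀ p < d,
      IsZero ((CohIII.tensorObj Q (ModuleCat.of A (A ⧸ m))).homology p)) :
    Module.Projective A (Q.opcycles d) := by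
  open Groth.Agent.Lib.FlatCx CategoryTheory in
  have hpn : (ComplexShape.up ℤ).prev d = d - 1 := Above.prev_up (by omega)
  have := (hQ d).1
  have := (hQ d).2
  have h := ProjCoker.projective_coker (Q.d (d - 2) (d - 1)).hom (Q.d (d - 1) d).hom
    (by rw [← ModuleCat.hom_comp, Q.d_comp_d]; rfl) (fun m _ => ?_)
  · let e := (Q.sc d).moduleCatOpcyclesIso.toLinearEquiv ≪≫ₗ
      Submodule.quotEquivOfEq _ (LinearMap.range (Q.d (d - 1) d).hom) (by
        show LinearMap.range (Q.d ((ComplexShape.up ℤ).prev d) d).hom = _
        rw [hpn])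
    exact Module.Projective.of_equiv e.symm
  · have hz := (Elem.isZero_homology_iff (K := CohIII.tensorObj Q (ModuleCat.of A (A ⧸ m)))
      (Above.prev_up (by omega : d - 2 + 1 = d - 1)) (Above.next_up (by omega : d - 1 + 1 = d))).1
        (h2 m (d - 1) (by omega))
    intro y
    refine ⟨fun hy => hz y hy, ?_⟩
    rintro ⟨x, rfl⟩
    rw [← LinearMap.rTensor_comp_apply, ← ModuleCat.hom_comp, Q.d_comp_d, ModuleCat.hom_zero,
      LinearMap.rTensor_zero, LinearMap.zero_apply]

end Groth.Agent.S14611
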