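import Groth.Statements.S14614
import Mathlib.AlgebraicGeometry.Morphisms.FlatMono
import Mathlib.AlgebraicGeometry.Morphisms.ClosedImmersion
import Mathlib.RingTheory.Filtration
import Mathlib.RingTheory.HopkinsLevitzki

set_option autoImplicit false
universe u
open Mor

namespace Groth.Agent.S14614

open AlgebraicGeometry CategoryTheory in
theorem bijective_stalkMap {S Z : Scheme.{u}} [IsLocallyNoetherian S] (i : Z ⟶ S) [IsClosedImmersion i]
    (h : ∀ (A : Type u) [CommRing A] [IsArtinianRing A] [IsLocalRing A] (g : Spec (CommRingCat.of A) ⟶ S),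
      (∃ t : Spec (CommRingCat.of (IsLocalRing.ResidueField A)) ⟶ Z,
          t ≫ i = Spec.map (CommRingCat.ofHom (IsLocalRing.residue A)) ≫ g) →
        ∃ g' : Spec (CommRingCat.of A) ⟶ Z, g' ≫ i = g) (z : Z) :
    Function.Bijective (i.stalkMap z).hom := by
  refine ⟨(injective_iff_map_eq_zero _).2 fun a ha => ?_, i.stalkMap_surjective z⟩
  let O := S.presheaf.stalk (i z)
  let m := IsLocalRing.maximalIdeal O
  have key : ∀ n : ℕ, a ∈ m ^ n := fun n => by
    rcases n with _ | n
    · simp
    let A : Type u := O ⧸ m ^ (n + 1)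
    haveI : Nontrivial A := Ideal.Quotient.nontrivial_iff.2 fun htop =>
      (IsLocalRing.maximalIdeal.isMaximal O).ne_top (top_le_iff.1 (htop ▸ Ideal.pow_le_self n.succ_ne_zero))
    haveI : IsLocalRing A := IsLocalRing.of_surjective' (Ideal.Quotient.mk _) Ideal.Quotient.mk_surjective
    haveI : IsArtinianRing A :=
      (isArtinianRing_iff_isNilpotent_maximalIdeal A).2 ⟨n + 1, by
        rw [← IsLocalRing.map_maximalIdeal_of_surjective (Ideal.Quotient.mk (m ^ (n + 1))) Ideal.Quotient.mk_surjective,
          ← Ideal.map_pow, Ideal.map_quotient_self]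
        rfl⟩
    let mk : S.presheaf.stalk (i z) ⟶ CommRingCat.of A := CommRingCat.ofHom (Ideal.Quotient.mk (m ^ (n + 1)))
    haveI : IsLocalHom mk.hom := Function.Surjective.isLocalHom _ Ideal.Quotient.mk_surjective
    haveI : IsLocalHom ((IsLocalRing.residue A).comp mk.hom) := inferInstance
    have hψ : Function.Bijective (i.residueFieldMap z).hom := by
      refine ⟨RingHom.injective _, fun y => ?_⟩
      obtain ⟨b, rfl⟩ := Z.residue_surjective z y
      obtain ⟨c, rfl⟩ := i.stalkMap_surjective z b
      exact ⟨S.residue (i z) c, congr($(Scheme.residue_residueFieldMap i z) c)⟩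
    haveI : IsIso (i.residueFieldMap z) := (ConcreteCategory.isIso_iff_bijective _).2 hψ
    let r : S.residueField (i z) ⟶ CommRingCat.of (IsLocalRing.ResidueField A) :=
      S.descResidueField (mk ≫ CommRingCat.ofHom (IsLocalRing.residue A))
    obtain ⟨g', hg'⟩ := h A (Spec.map mk ≫ S.fromSpecStalk (i z))
      ⟨Spec.map (inv (i.residueFieldMap z) ≫ r) ≫ Z.fromSpecResidueField z, by
        rw [Category.assoc, ← i.SpecMap_residueFieldMap_fromSpecResidueField, ← Spec.map_comp_assoc,
          IsIso.hom_inv_id_assoc, Scheme.descResidueField_fromSpecResidueField, Spec.map_comp_assoc]⟩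
    have hw : g' (IsLocalRing.closedPoint A) = z := by
      apply i.isClosedEmbedding.injective
      rw [← Scheme.Hom.comp_apply, hg', Scheme.Hom.comp_apply]
      show S.fromSpecStalk (i z) (Spec.map mk (IsLocalRing.closedPoint A)) = i z
      rw [show Spec.map mk (IsLocalRing.closedPoint A) = IsLocalRing.closedPoint (S.presheaf.stalk (i z)) from
        IsLocalRing.comap_closedPoint mk.hom, Scheme.fromSpecStalk_closedPoint]
    obtain ⟨v, hv⟩ : ∃ v : Z.presheaf.stalk z ⟶ CommRingCat.of A, Spec.map v ≫ Z.fromSpecStalk z = g' :=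
      hw ▸ ⟨_, Scheme.Spec_stalkClosedPointTo_fromSpecStalk g'⟩
    rw [← hv, Category.assoc, ← Scheme.SpecMap_stalkMap_fromSpecStalk, ← Spec.map_comp_assoc,
      cancel_mono, Spec.map_inj] at hg'
    have hmk : mk a = 0 := by
      rw [← hg', ConcreteCategory.comp_apply]
      exact (congrArg v.hom ha).trans (map_zero _)
    exact Ideal.Quotient.eq_zero_iff_mem.1 hmk
  rw [← Ideal.mem_bot, ← Ideal.iInf_pow_eq_bot_of_isLocalRing m (IsLocalRing.maximalIdeal.isMaximal O).ne_top]
  exact Ideal.mem_iInf.2 key

open CategoryTheory AlgebraicGeometry in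
/-- Let S be a locally Noetherian scheme and i : Z → S a closed immersion with the following property:
for every Artinian local ring A with residue field k and every morphism g : Spec A → S, if the
restriction Spec k → Spec A → S of g factors through i then so does g. Then i is also an open
immersion, i.e. the closed subscheme Z is open in S as a subscheme. (The published hypothesis is an
equivalence; its other direction always holds, so this row assumes only the implication.) -/
theorem result (S : Scheme.{u}) [IsLocallyNoetherian S]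
    {Z : Scheme.{u}} (i : Z ⟶ S) [IsClosedImmersion i]
    (h : ∀ (A : Type u) [CommRing A] [IsArtinianRing A] [IsLocalRing A] (g : Spec (CommRingCat.of A) ⟶ S),
      (∃ t : Spec (CommRingCat.of (IsLocalRing.ResidueField A)) ⟶ Z,
          t ≫ i = Spec.map (CommRingCat.ofHom (IsLocalRing.residue A)) ≫ g) →
        ∃ g' : Spec (CommRingCat.of A) ⟶ Z, g' ≫ i = g) :
    IsOpenImmersion i := by
  have hb : ∀ z : Z, Function.Bijective (i.stalkMap z).hom := bijective_stalkMap i h
  haveI : Flat i := Flat.of_stalkMap i fun z => RingHom.Flat.of_bijective (hb z)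
  haveI : LocallyOfFinitePresentation i := LocallyOfFinitePresentation.iff_locallyOfFiniteType.mpr inferInstance
  exact IsOpenImmersion.of_flat_of_mono i

end Groth.Agent.S14614
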