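import Groth.Statements.S14617


set_option autoImplicit false
universe u
open Formal2

namespace Groth.Agent.S14617

/-- Let 0 → (G'_n) → (G_n) → (G''_n) → 0 be a short exact sequence of inverse systems of abelian groups
indexed by ℕ: maps u_n : G'_n → G_n and v_n : G_n → G''_n commuting with the transition maps, with
u_n injective, v_n surjective and ker v_n = im u_n for every n. Writing lim and lim¹ for the kernel
and cokernel of (x_n) ↦ (x_n − t_n(x_{n+1})) on the product, there is an exact sequence 0 → lim G' →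
lim G → lim G'' → lim¹ G' → lim¹ G → lim¹ G'' → 0 in which the four outer maps are the ones induced
by u and v on products and the connecting map δ sends a compatible sequence (z_n) to the class of
the unique (w_n) with u_n(w_n) = y_n − t_n(y_{n+1}), for any levelwise lift (y_n) of (z_n). -/
theorem result (G' G G'' : ℕ → Type u)
    [∀ n, AddCommGroup (G' n)] [∀ n, AddCommGroup (G n)] [∀ n, AddCommGroup (G'' n)]
    (t' : ∀ n, G' (n + 1) →+ G' n) (t : ∀ n, G (n + 1) →+ G n) (t'' : ∀ n, G'' (n + 1) →+ G'' n)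
    (u : ∀ n, G' n →+ G n) (v : ∀ n, G n →+ G'' n)
    (hu : ∀ n x, t n (u (n + 1) x) = u n (t' n x)) (hv : ∀ n x, t'' n (v (n + 1) x) = v n (t n x))
    (hinj : ∀ n, Function.Injective (u n)) (hsurj : ∀ n, Function.Surjective (v n))
    (hex : ∀ n, (v n).ker = (u n).range) :
    ∃ (α : Formal2.limZero G' t' →+ Formal2.limZero G t) (β : Formal2.limZero G t →+ Formal2.limZero G'' t'')
      (δ : Formal2.limZero G'' t'' →+ Formal2.limOne G' t')
      (ε : Formal2.limOne G' t' →+ Formal2.limOne G t) (ζ : Formal2.limOne G t →+ Formal2.limOne G'' t''),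
      (∀ (x : Formal2.limZero G' t') (n : ℕ), (α x : ∀ n, G n) n = u n ((x : ∀ n, G' n) n)) ∧
      (∀ (x : Formal2.limZero G t) (n : ℕ), (β x : ∀ n, G'' n) n = v n ((x : ∀ n, G n) n)) ∧
      (∀ (z : Formal2.limZero G'' t'') (y : ∀ n, G n) (w : ∀ n, G' n),
          (∀ n, v n (y n) = (z : ∀ n, G'' n) n) → (∀ n, u n (w n) = Formal2.towerDiff G t y n) →
            δ z = (QuotientAddGroup.mk w : Formal2.limOne G' t')) ∧
      (∀ y : ∀ n, G' n, ε (QuotientAddGroup.mk y : Formal2.limOne G' t') =
          (QuotientAddGroup.mk (fun n => u n (y n)) : Formal2.limOne G t)) ∧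
      (∀ y : ∀ n, G n, ζ (QuotientAddGroup.mk y : Formal2.limOne G t) =
          (QuotientAddGroup.mk (fun n => v n (y n)) : Formal2.limOne G'' t'')) ∧
      Function.Injective α ∧ α.range = β.ker ∧ β.range = δ.ker ∧ δ.range = ε.ker ∧ ε.range = ζ.ker ∧
      Function.Surjective ζ := by
  classical
  have hu' : ∀ (y : ∀ n, G' n) (n : ℕ),
      Formal2.towerDiff G t (fun m => u m (y m)) n = u n (Formal2.towerDiff G' t' y n) := fun y n => by
    change u n (y n) - t n (u (n + 1) (y (n + 1))) = u n (y n - t' n (y (n + 1)))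
    rw [hu, map_sub]
  have hv' : ∀ (y : ∀ n, G n) (n : ℕ),
      Formal2.towerDiff G'' t'' (fun m => v m (y m)) n = v n (Formal2.towerDiff G t y n) := fun y n => by
    change v n (y n) - t'' n (v (n + 1) (y (n + 1))) = v n (y n - t n (y (n + 1)))
    rw [hv, map_sub]
  let U : (∀ n, G' n) →+ (∀ n, G n) :=
    AddMonoidHom.mk' (fun y n => u n (y n)) fun a b => funext fun n => map_add _ _ _
  let V : (∀ n, G n) →+ (∀ n, G'' n) :=
    AddMonoidHom.mk' (fun y n => v n (y n)) fun a b => funext fun n => map_add _ _ _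
  have hUV : ∀ y : ∀ n, G n, V y = 0 → ∃ w, U w = y := fun y hy => by
    have : ∀ n, ∃ w, u n w = y n := fun n => by
      have : y n ∈ (v n).ker := congrFun hy n
      rw [hex] at this
      exact this
    choose w hw using this
    exact ⟨w, funext hw⟩
  have hVU : ∀ y, V (U y) = 0 := fun y => funext fun n => by
    have : u n (y n) ∈ (v n).ker := by rw [hex]; exact ⟨_, rfl⟩
    exact this
  have hUinj : Function.Injective U := fun a b e => funext fun n => hinj n (congrFun e n)
  have hUD : ∀ y, U (Formal2.towerDiff G' t' y) = Formal2.towerDiff G t (U y) := fun y =>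
    funext fun n => (hu' y n).symm
  have hVD : ∀ y, V (Formal2.towerDiff G t y) = Formal2.towerDiff G'' t'' (V y) := fun y =>
    funext fun n => (hv' y n).symm
  let α : Formal2.limZero G' t' →+ Formal2.limZero G t :=
    (U.comp (Formal2.limZero G' t').subtype).codRestrict _ fun x => by
      change Formal2.towerDiff G t (U (x : ∀ n, G' n)) = 0
      rw [← hUD, show Formal2.towerDiff G' t' (x : ∀ n, G' n) = 0 from x.2, map_zero]
  let β : Formal2.limZero G t →+ Formal2.limZero G'' t'' :=
    (V.comp (Formal2.limZero G t).subtype).codRestrict _ fun x => by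
      change Formal2.towerDiff G'' t'' (V (x : ∀ n, G n)) = 0
      rw [← hVD, show Formal2.towerDiff G t (x : ∀ n, G n) = 0 from x.2, map_zero]
  have hlift : ∀ z : Formal2.limZero G'' t'', ∃ (y : ∀ n, G n) (w : ∀ n, G' n),
      V y = z ∧ U w = Formal2.towerDiff G t y := fun z => by
    choose y hy using fun n => hsurj n ((z : ∀ n, G'' n) n)
    have hy' : V y = z := funext hy
    obtain ⟨w, hw⟩ := hUV (Formal2.towerDiff G t y) (by rw [hVD, hy']; exact z.2)
    exact ⟨y, w, hy', hw⟩
  choose Y W hY hW using hlift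
  have hwd : ∀ (z : Formal2.limZero G'' t'') (y : ∀ n, G n) (w : ∀ n, G' n),
      V y = z → U w = Formal2.towerDiff G t y →
        (QuotientAddGroup.mk (W z) : Formal2.limOne G' t') = QuotientAddGroup.mk w := fun z y w hy hw => by
    obtain ⟨d, hd⟩ := hUV (y - Y z) (by rw [map_sub, hy, hY, sub_self])
    rw [QuotientAddGroup.eq]
    refine ⟨d, hUinj ?_⟩
    rw [hUD, hd, map_add, map_neg, map_sub, ← hw, ← hW, sub_eq_neg_add]
  let δ : Formal2.limZero G'' t'' →+ Formal2.limOne G' t' :=
    AddMonoidHom.mk' (fun z => QuotientAddGroup.mk (W z)) fun a b => by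
      rw [← QuotientAddGroup.mk_add]
      refine hwd (a + b) (Y a + Y b) (W a + W b) ?_ ?_
      · rw [map_add, hY, hY]; rfl
      · rw [map_add, map_add, hW, hW]
  let ε : Formal2.limOne G' t' →+ Formal2.limOne G t :=
    QuotientAddGroup.map _ _ U (by
      rintro _ ⟨y, rfl⟩
      exact ⟨U y, (hUD y).symm⟩)
  let ζ : Formal2.limOne G t →+ Formal2.limOne G'' t'' :=
    QuotientAddGroup.map _ _ V (by
      rintro _ ⟨y, rfl⟩
      exact ⟨V y, (hVD y).symm⟩)
  have hα : ∀ x, (α x : ∀ n, G n) = U (x : ∀ n, G' n) := fun x => rfl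
  have hβ : ∀ x, (β x : ∀ n, G'' n) = V (x : ∀ n, G n) := fun x => rfl
  refine ⟨α, β, δ, ε, ζ, fun _ _ => rfl, fun _ _ => rfl, fun z y w hy hw => hwd z y w (funext hy)
    (funext hw), fun _ => rfl, fun _ => rfl, fun a b e => Subtype.ext (hUinj (congrArg Subtype.val e)),
    ?_, ?_, ?_, ?_, ?_⟩
  · ext y
    constructor
    · rintro ⟨x, rfl⟩
      exact Subtype.ext (hVU _)
    · intro hy
      obtain ⟨w, hw⟩ := hUV (y : ∀ n, G n) (congrArg Subtype.val hy)
      refine ⟨⟨w, hUinj ?_⟩, Subtype.ext hw⟩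
      rw [hUD, hw, map_zero]
      exact y.2
  · ext z
    constructor
    · rintro ⟨x, rfl⟩
      refine (hwd (β x) (x : ∀ n, G n) 0 (hβ x).symm ?_).trans (QuotientAddGroup.mk_zero _)
      rw [map_zero]
      exact (x.2 : Formal2.towerDiff G t (x : ∀ n, G n) = 0).symm
    · intro hz
      obtain ⟨d, hd⟩ := (QuotientAddGroup.eq_zero_iff _).mp (hz : δ z = 0)
      refine ⟨⟨Y z - U d, ?_⟩, Subtype.ext ?_⟩
      · change Formal2.towerDiff G t (Y z - U d) = 0
        rw [map_sub, ← hUD, hd, hW, sub_self]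
      · change V (Y z - U d) = _
        rw [map_sub, hVU, sub_zero, hY]
  · ext q
    constructor
    · rintro ⟨z, rfl⟩
      exact (QuotientAddGroup.eq_zero_iff _).mpr ⟨Y z, (hW z).symm⟩
    · intro hq
      obtain ⟨w, rfl⟩ := QuotientAddGroup.mk_surjective q
      obtain ⟨y, hy⟩ := (QuotientAddGroup.eq_zero_iff _).mp (hq : ε (QuotientAddGroup.mk w) = 0)
      exact ⟨⟨V y, (hVD y).symm.trans ((congrArg V hy).trans (hVU w))⟩, hwd _ y w rfl hy.symm⟩
  · ext q
    constructor
    · rintro ⟨p, rfl⟩
      obtain ⟨w, rfl⟩ := QuotientAddGroup.mk_surjective p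
      change (QuotientAddGroup.mk (V (U w)) : Formal2.limOne G'' t'') = 0
      rw [hVU, QuotientAddGroup.mk_zero]
    · intro hq
      obtain ⟨y, rfl⟩ := QuotientAddGroup.mk_surjective q
      obtain ⟨c, hc⟩ := (QuotientAddGroup.eq_zero_iff _).mp (hq : ζ (QuotientAddGroup.mk y) = 0)
      choose c' hc' using fun n => hsurj n (c n)
      obtain ⟨w, hw⟩ := hUV (y - Formal2.towerDiff G t c') (by
        rw [map_sub, hVD, show V c' = c from funext hc', hc, sub_self])
      refine ⟨QuotientAddGroup.mk w, ?_⟩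
      change (QuotientAddGroup.mk (U w) : Formal2.limOne G t) = QuotientAddGroup.mk y
      rw [QuotientAddGroup.eq, hw]
      exact ⟨c', by abel⟩
  · intro q
    obtain ⟨c, rfl⟩ := QuotientAddGroup.mk_surjective q
    choose c' hc' using fun n => hsurj n (c n)
    exact ⟨QuotientAddGroup.mk c', congrArg QuotientAddGroup.mk (funext hc')⟩

end Groth.Agent.S14617
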