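import Groth.Statements.S14618
import Groth.Agent.S10858
import Groth.Agent.Lib.Modules.Free

set_option autoImplicit false
set_option linter.style.haveILetI false
universe u
open FlatMor

namespace Groth.Agent.S14618

section
open CategoryTheory CategoryTheory.Limits AlgebraicGeometry
open Groth.Agent.Lib Groth.Agent.Lib.Modules
open scoped TensorProduct

variable {X : Scheme.{u}} {F V : X.Modules} (u : F ⟶ V)

/-- The pullback of `u` along `a` is a split monomorphism. -/
abbrev Sp {T : Scheme.{u}} (a : T ⟶ X) : Prop := IsSplitMono ((Scheme.Modules.pullback a).map u)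

theorem splitMono_of_natIso {C D : Type*} [Category C] [Category D] {G H : C ⥤ D} (e : G ≅ H)
    {A B : C} (v : A ⟶ B) (h : IsSplitMono (G.map v)) : IsSplitMono (H.map v) :=
  IsSplitMono.mk' ⟨e.inv.app B ≫ retraction (G.map v) ≫ e.hom.app A, by
    rw [← Category.assoc (H.map v), e.inv.naturality v, Category.assoc, IsSplitMono.id_assoc,
      Iso.inv_hom_id_app]⟩

theorem mono_of_natIso {C D : Type*} [Category C] [Category D] {G H : C ⥤ D} (e : G ≅ H)
    {A B : C} (v : A ⟶ B) (h : Mono (G.map v)) : Mono (H.map v) := by
  rw [← NatIso.naturality_1 e v]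
  infer_instance

theorem sp_comp {T T' : Scheme.{u}} {a : T ⟶ X} (h : T' ⟶ T) {b : T' ⟶ X} (e : h ≫ a = b)
    (H : Sp u a) : Sp u b :=
  splitMono_of_natIso (Scheme.Modules.pullbackComp h a ≪≫ Scheme.Modules.pullbackCongr e) u
    (haveI := H; inferInstanceAs (IsSplitMono ((Scheme.Modules.pullback h).map
      ((Scheme.Modules.pullback a).map u))))

/-- Being locally split is stable under pullback. -/
theorem locSplit_pullback {T : Scheme.{u}} (g : T ⟶ X)
    (h : ∀ x : X, ∃ U : X.Opens, x ∈ U ∧ Sp u U.ι) (t : T) :
    ∃ U : T.Opens, t ∈ U ∧ IsSplitMono ((Scheme.Modules.pullback U.ι).map ((Scheme.Modules.pullback g).map u)) := by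
  obtain ⟨U, hx, hU⟩ := h (g t)
  exact ⟨g ⁻¹ᵁ U, hx, splitMono_of_natIso (Scheme.Modules.pullbackComp _ g).symm u
    (sp_comp u (g ∣_ U) (morphismRestrict_ι g U) hU)⟩

/-- If the pullback along `g` is locally split, `u` is injective at the points in the image of `g`. -/
theorem mono_residue {T : Scheme.{u}} (g : T ⟶ X)
    (h : ∀ t : T, ∃ U : T.Opens, t ∈ U ∧
      IsSplitMono ((Scheme.Modules.pullback U.ι).map ((Scheme.Modules.pullback g).map u)))
    (t : T) : Mono ((Scheme.Modules.pullback (X.fromSpecResidueField (g t))).map u) := by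
  obtain ⟨U, ht, hU⟩ := h t
  let l := IsOpenImmersion.lift U.ι (T.fromSpecResidueField t) (by
    rintro _ ⟨z, rfl⟩
    rw [Scheme.fromSpecResidueField_apply, Scheme.Opens.range_ι]
    exact ht)
  let j := Spec.map (g.residueFieldMap t)
  let rx := X.fromSpecResidueField (g t)
  have e : l ≫ U.ι ≫ g = j ≫ rx := by
    have hl : l ≫ U.ι = T.fromSpecResidueField t := IsOpenImmersion.lift_fac _ _ _
    rw [← Category.assoc, hl]
    exact (Scheme.Hom.SpecMap_residueFieldMap_fromSpecResidueField g t).symm
  have hs : IsSplitMono ((Scheme.Modules.pullback j).map ((Scheme.Modules.pullback rx).map u)) :=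
    splitMono_of_natIso (Scheme.Modules.pullbackComp j rx).symm u
      (sp_comp u l e (splitMono_of_natIso (Scheme.Modules.pullbackComp U.ι g) u hU))
  let v := (Scheme.Modules.pullback rx).map u
  haveI : Mono ((Scheme.Modules.pullback j).map v) := hs.mono
  refine (StalkModule.mono_iff_stalkMapₗ_injective v).2 fun y => ?_
  let z : Spec (T.residueField t) := IsLocalRing.closedPoint (T.residueField t)
  haveI : Subsingleton (Spec (X.residueField (g t))) :=
    inferInstanceAs (Subsingleton (PrimeSpectrum (X.residueField (g t))))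
  obtain rfl : y = j.base z := Subsingleton.elim _ _
  let A := (Spec (X.residueField (g t))).presheaf.stalk (j.base z)
  let B := (Spec (T.residueField t)).presheaf.stalk z
  haveI : AlgebraicGeometry.IsReduced (Spec (X.residueField (g t))) := inferInstance
  letI : Field A := (ModelFibre.MaxPoint.isField_stalk fun _ _ => Subsingleton.elim _ _).toField
  let φ : A →+* B := (j.stalkMap z).hom
  letI : Algebra A B := φ.toAlgebra
  haveI : IsIso (DerivedOX.PullbackStalk.comparison j z) := DerivedOX.PullbackStalk.isIso_comparison j z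
  have hb : Function.Injective ((Scheme.Modules.pullback j ⋙ StalkModule.stalkModFunctor _ z).map v) :=
    (StalkModule.mono_iff_stalkMapₗ_injective _).1 ‹_› z
  have hc := (ConcreteCategory.bijective_of_isIso
    ((DerivedOX.PullbackStalk.comparison j z).app ((Scheme.Modules.pullback rx).obj F))).1
  let l := StalkModule.stalkMapₗ v (j.base z)
  have hinj : Function.Injective (l.lTensor B) := fun a b hab => hc (hb (by
    have e := fun q => ConcreteCategory.congr_hom
      ((DerivedOX.PullbackStalk.comparison j z).naturality v) q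
    exact (e a).symm.trans
      ((congrArg ((DerivedOX.PullbackStalk.comparison j z).app ((Scheme.Modules.pullback rx).obj V)) hab).trans
        (e b))))
  haveI : Nontrivial B := inferInstance
  have halg : Function.Injective (Algebra.linearMap A B) := φ.injective
  intro a b hab
  have h2 := hinj (a₁ := (1 : B) ⊗ₜ a) (a₂ := (1 : B) ⊗ₜ b) (by
    rw [LinearMap.lTensor_tmul, LinearMap.lTensor_tmul, hab])
  have h3 := Module.Flat.rTensor_preserves_injective_linearMap
    (M := ((Scheme.Modules.pullback rx).obj F).presheaf.stalk (j.base z)) (Algebra.linearMap A B) halg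
  apply (TensorProduct.lid A _).symm.injective
  apply h3
  simpa using h2

/-- Injectivity on all fibres gives local splittings. -/
theorem locSplit_of_mono_residue [SheafOfModules.IsFiniteType (R := X.ringCatSheaf) F]
    (hV : FlatMod.IsFinLocFree V)
    (h : ∀ x : X, Mono ((Scheme.Modules.pullback (X.fromSpecResidueField x)).map u)) (x : X) :
    ∃ U : X.Opens, x ∈ U ∧ Sp u U.ι := by
  obtain ⟨hm, hc⟩ := S10858.mono_and_locFree hV u (S10858.split_at hV u h)
  obtain ⟨U, n, hx, ⟨e⟩⟩ := hc x
  haveI := hm
  haveI : PreservesColimitsOfSize.{0, 0} (Scheme.Modules.restrictFunctor U.ι) :=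
    (Scheme.Modules.restrictAdjunction U.ι).leftAdjoint_preservesColimits
  obtain ⟨W, hxW, hW⟩ := Free.exists_lift ((Scheme.Modules.restrictFunctor U.ι).map (cokernel.π u))
    e.inv ⟨x, hx⟩
  obtain ⟨ψ, hψ⟩ := hW W.ι W.ι_image_top.le
  let R := Scheme.Modules.restrictFunctor U.ι ⋙ Scheme.Modules.restrictFunctor W.ι
  haveI : PreservesColimitsOfSize.{0, 0} (Scheme.Modules.restrictFunctor W.ι) :=
    (Scheme.Modules.restrictAdjunction W.ι).leftAdjoint_preservesColimits
  haveI : PreservesFiniteColimits R := by
    haveI : PreservesColimitsOfSize.{0, 0} R := comp_preservesColimits _ _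
    exact PreservesColimitsOfSize.preservesFiniteColimits R
  haveI : R.PreservesZeroMorphisms := Functor.preservesZeroMorphisms_comp _ _
  let S := (ShortComplex.mk u (cokernel.π u) (cokernel.condition u))
  haveI : Mono (S.map R).f := inferInstanceAs
    (Mono ((Scheme.Modules.restrictFunctor W.ι).map ((Scheme.Modules.restrictFunctor U.ι).map u)))
  let sec : R.obj (cokernel u) ⟶ R.obj V := (Scheme.Modules.restrictFunctor W.ι).map e.hom ≫ ψ
  have hsec : sec ≫ R.map (cokernel.π u) = 𝟙 _ := by
    simp only [sec, R, Functor.comp_map, Category.assoc]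
    refine (congrArg ((Scheme.Modules.restrictFunctor W.ι).map e.hom ≫ ·) hψ).trans ?_
    rw [← Functor.map_comp, e.hom_inv_id, CategoryTheory.Functor.map_id]
    rfl
  have hex : (S.map R).Exact :=
    (S.map R).exact_of_g_is_cokernel
      (CokernelCofork.mapIsColimit _ (cokernelIsCokernel u) R)
  let σ := ShortComplex.Splitting.ofExactOfSection (S.map R) hex sec hsec inferInstance
  have hR : IsSplitMono (R.map u) := IsSplitMono.mk' ⟨σ.r, σ.f_r⟩
  let j : (W : Scheme.{u}) ⟶ X := W.ι ≫ U.ι
  have hj : Sp u j := splitMono_of_natIso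
    ((Scheme.Modules.restrictFunctorComp W.ι U.ι).symm ≪≫ Scheme.Modules.restrictFunctorIsoPullback j) u hR
  refine ⟨j.opensRange, ⟨⟨⟨x, hx⟩, hxW⟩, rfl⟩, sp_comp u j.isoOpensRange.inv ?_ hj⟩
  exact j.isoOpensRange_inv_comp

end

open CategoryTheory CategoryTheory.Limits AlgebraicGeometry in
/-- Let f : X → S be a morphism of schemes and u : F → V a morphism of O_X-modules with F quasi-coherent
of finite type and V finite locally free. The following are equivalent: (a) u is a locally split
monomorphism, i.e. every point of X has an open neighbourhood U such that the restriction of u to U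
has a left inverse; (b) for every point s of S the pullback of u to the fibre X_s = X ×_S Spec κ(s)
is a locally split monomorphism on X_s; (c) for every point s of S the pullback of u to the
geometric fibre X ×_S Spec k̄, k̄ an algebraic closure of κ(s), is a locally split monomorphism.
Restrictions to opens and to fibres are written as module pullbacks along the corresponding
immersions/projections. (In the published statement X and S are schemes in a terminology where
schemes are separated preschemes; the proof is local on X and on S, so this row assumes no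
separatedness.) -/
theorem result {X S : Scheme.{u}} (f : X ⟶ S) {F V : X.Modules} (u : F ⟶ V)
    (hF : Coh.IsQCoh F) (hFt : CohB1.IsFT F) (hV : FlatMod.IsFinLocFree V) :
    [ ∀ x : X, ∃ U : X.Opens, x ∈ U ∧
        ∃ r : (Scheme.Modules.pullback U.ι).obj V ⟶ (Scheme.Modules.pullback U.ι).obj F,
          (Scheme.Modules.pullback U.ι).map u ≫ r = 𝟙 _,
      ∀ (s : S) (x : f.fiber s), ∃ U : (f.fiber s).Opens, x ∈ U ∧
        ∃ r : (Scheme.Modules.pullback U.ι).obj ((Scheme.Modules.pullback (f.fiberι s)).obj V) ⟶
            (Scheme.Modules.pullback U.ι).obj ((Scheme.Modules.pullback (f.fiberι s)).obj F),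
          (Scheme.Modules.pullback U.ι).map ((Scheme.Modules.pullback (f.fiberι s)).map u) ≫ r = 𝟙 _,
      ∀ (s : S) (x : ↑(pullback f (Spec.map (CommRingCat.ofHom (algebraMap (S.residueField s)
            (AlgebraicClosure (S.residueField s)))) ≫ S.fromSpecResidueField s))),
        ∃ U : Scheme.Opens _, x ∈ U ∧
        ∃ r : (Scheme.Modules.pullback U.ι).obj ((Scheme.Modules.pullback (pullback.fst f
              (Spec.map (CommRingCat.ofHom (algebraMap (S.residueField s) (AlgebraicClosure (S.residueField s)))) ≫
                S.fromSpecResidueField s))).obj V) ⟶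
            (Scheme.Modules.pullback U.ι).obj ((Scheme.Modules.pullback (pullback.fst f
              (Spec.map (CommRingCat.ofHom (algebraMap (S.residueField s) (AlgebraicClosure (S.residueField s)))) ≫
                S.fromSpecResidueField s))).obj F),
          (Scheme.Modules.pullback U.ι).map ((Scheme.Modules.pullback (pullback.fst f
              (Spec.map (CommRingCat.ofHom (algebraMap (S.residueField s) (AlgebraicClosure (S.residueField s)))) ≫
                S.fromSpecResidueField s))).map u) ≫ r = 𝟙 _ ].TFAE := by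
  haveI : SheafOfModules.IsFiniteType (R := X.ringCatSheaf) F := hFt
  have toA : (∀ x : X, Mono ((Scheme.Modules.pullback (X.fromSpecResidueField x)).map u)) →
      ∀ x : X, ∃ U : X.Opens, x ∈ U ∧
        ∃ r : (Scheme.Modules.pullback U.ι).obj V ⟶ (Scheme.Modules.pullback U.ι).obj F,
          (Scheme.Modules.pullback U.ι).map u ≫ r = 𝟙 _ := fun h x => by
    obtain ⟨U, hx, hU⟩ := locSplit_of_mono_residue u hV h x
    haveI := hU
    exact ⟨U, hx, retraction _, IsSplitMono.id _⟩
  have ofA : (∀ x : X, ∃ U : X.Opens, x ∈ U ∧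
        ∃ r : (Scheme.Modules.pullback U.ι).obj V ⟶ (Scheme.Modules.pullback U.ι).obj F,
          (Scheme.Modules.pullback U.ι).map u ≫ r = 𝟙 _) →
      ∀ {T : Scheme.{u}} (g : T ⟶ X) (t : T), ∃ W : T.Opens, t ∈ W ∧
        ∃ r : (Scheme.Modules.pullback W.ι).obj ((Scheme.Modules.pullback g).obj V) ⟶
            (Scheme.Modules.pullback W.ι).obj ((Scheme.Modules.pullback g).obj F),
          (Scheme.Modules.pullback W.ι).map ((Scheme.Modules.pullback g).map u) ≫ r = 𝟙 _ :=
    fun h T g t => by
      obtain ⟨W, ht, hW⟩ := locSplit_pullback u g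
        (fun x => let ⟨U, hx, r, hr⟩ := h x; ⟨U, hx, IsSplitMono.mk' ⟨r, hr⟩⟩) t
      haveI := hW
      exact ⟨W, ht, retraction _, IsSplitMono.id _⟩
  have res : ∀ {T : Scheme.{u}} (g : T ⟶ X), (∀ t : T, ∃ W : T.Opens, t ∈ W ∧
        ∃ r : (Scheme.Modules.pullback W.ι).obj ((Scheme.Modules.pullback g).obj V) ⟶
            (Scheme.Modules.pullback W.ι).obj ((Scheme.Modules.pullback g).obj F),
          (Scheme.Modules.pullback W.ι).map ((Scheme.Modules.pullback g).map u) ≫ r = 𝟙 _) →
      ∀ t : T, Mono ((Scheme.Modules.pullback (X.fromSpecResidueField (g t))).map u) :=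
    fun g h t => mono_residue u g
      (fun t => let ⟨U, hx, r, hr⟩ := h t; ⟨U, hx, IsSplitMono.mk' ⟨r, hr⟩⟩) t
  tfae_have 1 → 2 := fun h s => ofA h (f.fiberι s)
  tfae_have 1 → 3 := fun h s => ofA h (pullback.fst f _)
  tfae_have 2 → 1 := fun h => toA fun x => by
    obtain ⟨t, ht⟩ : x ∈ Set.range (f.fiberι (f x)) := by
      rw [Scheme.Hom.range_fiberι]; rfl
    exact ht ▸ res (f.fiberι (f x)) (h (f x)) t
  tfae_have 3 → 1 := fun h => toA fun x => by
    obtain ⟨t, ht⟩ : x ∈ Set.range (pullback.fst f (Spec.map (CommRingCat.ofHom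
        (algebraMap (S.residueField (f x)) (AlgebraicClosure (S.residueField (f x))))) ≫
        S.fromSpecResidueField (f x))) := by
      rw [Scheme.Pullback.range_fst]
      let m := Spec.map (CommRingCat.ofHom
        (algebraMap (S.residueField (f x)) (AlgebraicClosure (S.residueField (f x)))))
      let z := IsLocalRing.closedPoint (AlgebraicClosure (S.residueField (f x)))
      exact ⟨z, (Scheme.Hom.comp_apply m (S.fromSpecResidueField (f x)) z).trans
        (Scheme.fromSpecResidueField_apply (f x) (m z))⟩
    exact ht ▸ res _ (h (f x)) t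
  tfae_finish

end Groth.Agent.S14618
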