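import Groth.Statements.S14619
import Groth.Agent.Lib.Exchange.Proper
import Groth.Agent.Lib.Exchange.Fibre
import Groth.Agent.Lib.Amp36.Trunc
-- import your own Groth.Agent.* helpers here

set_option autoImplicit false
universe u
open Coherent

namespace Groth.Agent.S14619

/-- Restriction of scalars of the ring itself. -/
noncomputable def resSelf (A B : Type u) [CommRing A] [CommRing B] [Algebra A B] :
    B ≃ₗ[A] ((ZarCoh.Exchange.ExtScalars.res (A := A) (B := B)).obj (ModuleCat.of B B)) where
  toFun x := x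
  invFun x := x
  left_inv _ := rfl
  right_inv _ := rfl
  map_add' _ _ := rfl
  map_smul' a x := (Algebra.smul_def a x).trans rfl

open CategoryTheory CategoryTheory.Limits AlgebraicGeometry in
/-- Let A be a Noetherian ring, X a proper scheme over Spec A and F a coherent O_X-module flat over Spec
A. Suppose H^p(X, F) = 0 for all p > d and H^p(X_y, F|X_y) = 0 for every point y of Spec A and every
p < d'. Then there is a cochain complex L of finitely generated projective A-modules, with L^i = 0
unless d' ≤ i ≤ d and with L = 0 when all H^p(X, F) vanish, such that for every A-algebra B and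
every p the cohomology H^p(X ×_A Spec B, ξ^*F) of the pulled-back module is isomorphic to H^p(L ⊗_A
B). Only the existence of these isomorphisms of abelian groups is asserted (no naturality in B). -/
theorem result (A : Type u) [CommRing A] [IsNoetherianRing A] (X : Scheme.{u}) [X.Over (Spec (CommRingCat.of A))]
    [IsProper (X ↘ Spec (CommRingCat.of A))] (F : X.Modules) (hF : Coh.IsCoh F)
    (hfl : FlatMod.IsFlatOver (X ↘ Spec (CommRingCat.of A)) F) (d' d : ℕ)
    (hd : ∀ p : ℕ, d < p → Subsingleton (Coh.HH X F p))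
    (hd' : ∀ (y : ↑(Spec (CommRingCat.of A))) (p : ℕ), p < d' →
      Subsingleton (CohIII.fiberH (X ↘ Spec (CommRingCat.of A)) F y p)) :
    ∃ L : CochainComplex (ModuleCat.{u} A) ℤ,
      (∀ i, Module.Finite A (L.X i) ∧ Module.Projective A (L.X i)) ∧
      (∀ i : ℤ, i < (d' : ℤ) ∨ (d : ℤ) < i → IsZero (L.X i)) ∧
      ((∀ p : ℕ, Subsingleton (Coh.HH X F p)) → ∀ i, IsZero (L.X i)) ∧
      ∀ (B : Type u) [CommRing B] [Algebra A B] (p : ℕ),
        Nonempty (Coh.HH (pullback (X ↘ Spec (CommRingCat.of A)) (Spec.map (CommRingCat.ofHom (algebraMap A B))))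
            ((Scheme.Modules.pullback (pullback.fst (X ↘ Spec (CommRingCat.of A))
              (Spec.map (CommRingCat.ofHom (algebraMap A B))))).obj F) p ≃+
          CohIII.T L (p : ℤ) (ModuleCat.of A B)) := by
  classical
  let pX := X ↘ Spec (CommRingCat.of A)
  haveI : F.IsQuasicoherent := hF.1
  obtain ⟨b, L, hb, hLf, hneg, hiso⟩ :=
    ZarCoh.Exchange.Main.exists_rep A F hfl (ZarCoh.Exchange.Proper.finite_HH A F hF)
  have hfin : ∀ i, Module.Finite A (L.X i) := fun i => (hLf i).1
  have hflat : ∀ i, Module.Flat A (L.X i) := fun i => haveI := (hLf i).2; inferInstance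
  let D : ℤ := if (∀ p : ℕ, Subsingleton (Coh.HH X F p)) then -1 else (d : ℤ)
  have hhi : ∀ i, D < i → Groth.Agent.Lib.Amp36.TZero L i A := fun i hi => by
    refine Groth.Agent.Lib.Amp36.tZero_of_isZero_T L i A ?_
    rcases lt_or_ge i 0 with h | h
    · exact hneg i h _
    · obtain ⟨p, rfl⟩ := Int.eq_ofNat_of_zero_le h
      have hp : Subsingleton (Coh.HH X F p) := by
        by_cases hall : ∀ p : ℕ, Subsingleton (Coh.HH X F p)
        · exact hall p
        · refine hd p ?_
          simp only [D, if_neg hall] at hi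
          omega
      haveI : Subsingleton (CohIII.T L (p : ℤ) (ModuleCat.of A A)) :=
        ((ZarCoh.Exchange.Main.addEquivApp A F (hiso p).some (ModuleCat.of A A)).trans
          (Groth.Agent.Lib.Curves.LES.isoK A (ZarCoh.Exchange.Main.oneIso A F) p).toAddEquiv).toEquiv.subsingleton
      exact ModuleCat.isZero_of_subsingleton _
  have hfib : ∀ i, i < (d' : ℤ) → ∀ x : PrimeSpectrum A,
      Groth.Agent.Lib.Amp36.TZero L i x.asIdeal.ResidueField := fun i hi x => by
    refine Groth.Agent.Lib.Amp36.tZero_of_isZero_T L i _ ?_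
    rcases lt_or_ge i 0 with h | h
    · exact hneg i h _
    · obtain ⟨p, rfl⟩ := Int.eq_ofNat_of_zero_le h
      let k := x.asIdeal.ResidueField
      letI : (pX.fiber x).Over (Spec (CommRingCat.of k)) :=
        ⟨pX.fiberToSpecResidueField x ≫ Spec.map (Scheme.Spec.residueFieldIso (CommRingCat.of A) x).inv⟩
      obtain ⟨β⟩ := ZarCoh.Exchange.BaseChange.nonempty_baseChange_iso (A := A) (A' := k)
        (ZarCoh.Exchange.Fibre.isPullback_fiber pX x) F p
      haveI : Subsingleton (Coh.HH (pX.fiber x) ((Scheme.Modules.pullback (pX.fiberι x)).obj F) p) :=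
        hd' x p (by omega)
      let e1 : (CohIII.TFun L (p : ℤ)).obj ((ZarCoh.Exchange.ExtScalars.res (A := A) (B := k)).obj (ModuleCat.of k k)) ≃+
          Coh.HH (pX.fiber x) ((Scheme.Modules.pullback (pX.fiberι x)).obj F) p :=
        ((ZarCoh.Exchange.Main.addEquivApp A F (hiso p).some _).trans
          (β.app (ModuleCat.of k k)).addCommGroupIsoToAddEquiv.symm).trans
          (Groth.Agent.Lib.Curves.LES.isoK k (ZarCoh.Exchange.Main.oneIso k ((Scheme.Modules.pullback (pX.fiberι x)).obj F)) p).toAddEquiv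
      haveI := e1.toEquiv.subsingleton
      exact (ModuleCat.isZero_of_subsingleton _).of_iso ((CohIII.TFun L (p : ℤ)).mapIso
        (resSelf A k).toModuleIso)
  obtain ⟨L', hL', hz, hT⟩ := Groth.Agent.Lib.Amp36.exists_trunc L (d' : ℤ) D hfin hflat b hb hhi hfib
  refine ⟨L', hL', fun i hi => hz i ?_, fun hall i => hz i ?_, fun B _ _ p => ?_⟩
  · refine hi.imp_right fun h => ?_
    by_cases hall : ∀ p : ℕ, Subsingleton (Coh.HH X F p)
    · simp only [D, if_pos hall]; omega
    · simp only [D, if_neg hall]; exact h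
  · simp only [D, if_pos hall]
    omega
  · letI : (pullback pX (Spec.map (CommRingCat.ofHom (algebraMap A B)))).Over (Spec (CommRingCat.of B)) :=
      ⟨pullback.snd pX (Spec.map (CommRingCat.ofHom (algebraMap A B)))⟩
    obtain ⟨β⟩ := ZarCoh.Exchange.BaseChange.nonempty_baseChange_iso (A := A) (A' := B)
      (IsPullback.of_hasPullback pX (Spec.map (CommRingCat.ofHom (algebraMap A B)))) F p
    let M := (ZarCoh.Exchange.ExtScalars.res (A := A) (B := B)).obj (ModuleCat.of B B)
    refine ⟨AddEquiv.trans ?_ (((hT (p : ℤ) (ModuleCat.of A B)).some).toLinearEquiv.toAddEquiv.symm)⟩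
    refine AddEquiv.trans ?_
      ((CohIII.TFun L (p : ℤ)).mapIso (resSelf A B).toModuleIso).symm.toLinearEquiv.toAddEquiv
    exact ((Groth.Agent.Lib.Curves.LES.isoK B (ZarCoh.Exchange.Main.oneIso B ((Scheme.Modules.pullback
        (pullback.fst pX (Spec.map (CommRingCat.ofHom (algebraMap A B))))).obj F)) p).toAddEquiv.symm.trans
      (β.app (ModuleCat.of B B)).addCommGroupIsoToAddEquiv).trans
        (ZarCoh.Exchange.Main.addEquivApp A F (hiso p).some M).symm

end Groth.Agent.S14619
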