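import Groth.Statements.S14621
import Groth.Agent.Lib.ToposFin.Filtered
import Groth.Agent.Lib.ToposFin.Site

set_option autoImplicit false
open CategoryTheory CategoryTheory.Limits
universe u
open CohSite

namespace Groth.Agent.S14621

/-- Let C be a small category with pullbacks and J a Grothendieck topology on C in which every object is
quasi-compact in the site sense (every covering sieve contains finitely many morphisms which already
generate a covering sieve). Then for every small filtered category I the inclusion of sheaves of
sets on (C, J) into presheaves preserves colimits of shape I: filtered colimits of sheaves are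
computed objectwise. (Only sheaves of sets are stated; the same holds for sheaves of abelian groups
or modules. All pullbacks in C are assumed.) -/
theorem result {C : Type u} [SmallCategory C]
    [HasPullbacks C] (J : GrothendieckTopology C) (hJ : ∀ U : C, ToposFin.IsQCSite J U)
    (I : Type u) [SmallCategory I] [IsFiltered I] :
    PreservesColimitsOfShape I (sheafToPresheaf J (Type u)) := by
  have : ∀ D : I ⥤ Sheaf J (Type u), ∀ U : C, PreservesColimit D
      (coyoneda.obj (Opposite.op (ToposFin.eps J U))) := fun D U => by
    have : IsIso (colimit.post D (coyoneda.obj (Opposite.op (ToposFin.eps J U)))) :=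
      (isIso_iff_bijective _).2 (Groth.TFin.coherent_bijective D (Groth.TFin.gen_eps hJ) (Groth.TFin.coherent_eps hJ U))
    exact preservesColimit_of_isIso_post _ _
  refine preservesColimitsOfShape_of_evaluation _ I fun U => ⟨fun {D} => ?_⟩
  have := this D U.unop
  let e : coyoneda.obj (Opposite.op (ToposFin.eps J U.unop)) ≅
      sheafToPresheaf J (Type u) ⋙ (evaluation Cᵒᵖ (Type u)).obj U :=
    NatIso.ofComponents (fun F => (Groth.CanonSheaf.pt U.unop F).toIso) (fun {F G} g => by
      ext φ
      exact Groth.CanonSheaf.pt_comp φ g)
  exact preservesColimit_of_natIso D e

end Groth.Agent.S14621
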