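import Groth.Statements.S14624
import Groth.Agent.H60.FPColim
import Groth.Agent.H20.IndPresentation

set_option autoImplicit false
open CategoryTheory CategoryTheory.Limits
universe u
open Hensel

namespace Groth.Agent.S14624

private theorem transfer {D : Type*} [Category D] (F : D ⥤ Type u) {P0 B C T A0 : D} (s : P0 ⟶ A0)
    (r : A0 ⟶ T) (v1 : P0 ⟶ B) (v : B ⟶ C) (w : C ⟶ T) (h : s ≫ r = v1 ≫ v ≫ w)
    (ζ : F.obj P0) (η : F.obj B) (ξ : F.obj C) (h1 : F.map v1 ζ = η) (h2 : F.map v η = ξ) :
    F.map r (F.map s ζ) = F.map w ξ := by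
  subst h1; subst h2
  simp only [← ConcreteCategory.comp_apply, ← F.map_comp, h, Category.assoc]

/-- Let A be a commutative ring, m a proper ideal of A and Â the m-adic completion. Assume the
approximation property for polynomial systems: whenever finitely many polynomials over A in finitely
many variables have a common zero â in Â, then for every c there is a common zero a in A which
agrees with â in A/m^c. Let F be a functor from A-algebras (commutative rings under A) to sets which
preserves filtered colimits, c a natural number and ξ ∈ F(Â). Then there is η ∈ F(A) whose image in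
F(A/m^c) equals the image of ξ; here π is the A-algebra map Â → A/m^c (pinned by its underlying ring
map) and ρ the A-algebra map A → A/m^c. (The published statement takes for A the henselization at a
prime ideal of an algebra of finite type over a field or over an excellent discrete valuation ring,
for which the approximation property of polynomial systems is quoted; this row carries that property
as a hypothesis and draws the published conclusion for functors.) -/
theorem result (A : Type u) [CommRing A]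
    (m : Ideal A) (hm : m ≠ ⊤)
    (hAP : ∀ (k l c : ℕ) (f : Fin l → MvPolynomial (Fin k) A) (â : Fin k → AdicCompletion m A),
      (∀ i, MvPolynomial.aeval â (f i) = 0) →
      ∃ a : Fin k → A, (∀ i, MvPolynomial.eval a (f i) = 0) ∧
        ∀ j, Ideal.Quotient.mk (m ^ c) (a j) = AdicCompletion.evalₐ m c (â j))
    (F : Under (CommRingCat.of A) ⥤ Type u)
    (hF : ∀ (J : Type u) [SmallCategory J] [IsFiltered J], PreservesColimitsOfShape J F)
    (c : ℕ)
    (π : Under.mk (CommRingCat.ofHom (algebraMap A (AdicCompletion m A))) ⟶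
      Under.mk (CommRingCat.ofHom (algebraMap A (A ⧸ m ^ c))))
    (hπ : π.right = CommRingCat.ofHom
      (AdicCompletion.evalₐ m c : AdicCompletion m A →ₐ[A] A ⧸ m ^ c).toRingHom)
    (ρ : Under.mk (𝟙 (CommRingCat.of A)) ⟶ Under.mk (CommRingCat.ofHom (algebraMap A (A ⧸ m ^ c))))
    (ξ : F.obj (Under.mk (CommRingCat.ofHom (algebraMap A (AdicCompletion m A))))) :
    ∃ η : F.obj (Under.mk (𝟙 (CommRingCat.of A))), F.map ρ η = F.map π ξ := by
  classical
  obtain ⟨⟨B, hB⟩, η', hη'⟩ := Groth.Agent.H60.FPColim.exists_mem (C := AdicCompletion m A) F hF ξ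
  obtain ⟨k, g, hg⟩ := Algebra.FiniteType.iff_quotient_mvPolynomial''.mp ((Subalgebra.fg_iff_finiteType B).mp hB)
  -- a solution of all equations of `B` congruent to the given point
  have hsol : ∀ (s : Finset (MvPolynomial (Fin k) A)), (∀ p ∈ s, g p = 0) → ∃ a : Fin k → A,
      (∀ p ∈ s, MvPolynomial.eval a p = 0) ∧
        ∀ j, Ideal.Quotient.mk (m ^ c) (a j) = AdicCompletion.evalₐ m c (g (MvPolynomial.X j) : AdicCompletion m A) := by
    intro s hs
    obtain ⟨a, ha, ha'⟩ := hAP k s.card c (fun i => (s.equivFin.symm i).1)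
      (fun j => (g (MvPolynomial.X j) : AdicCompletion m A)) (fun i => by
        have h1 : MvPolynomial.aeval (fun j => (g (MvPolynomial.X j) : AdicCompletion m A)) = B.val.comp g :=
          MvPolynomial.algHom_ext fun i => by simp
        rw [h1, AlgHom.comp_apply, hs _ (s.equivFin.symm i).2, map_zero])
    exact ⟨a, fun p hp => by simpa using ha (s.equivFin ⟨p, hp⟩), ha'⟩
  -- `B` is the colimit of finitely presented algebras
  let K := {p : MvPolynomial (Fin k) A // g p = 0}
  let P : Finset K → Type u := fun s => MvPolynomial (Fin k) A ⧸ Ideal.span (Subtype.val '' (s : Set K))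
  let fP : ∀ i j : Finset K, i ≤ j → (P i →ₐ[A] P j) := fun i j h =>
    Ideal.Quotient.factorₐ A (Ideal.span_mono (Set.image_mono (Finset.coe_subset.mpr h)))
  let gP : ∀ i : Finset K, P i →ₐ[A] B := fun i => Ideal.Quotient.liftₐ _ g (fun x hx => by
    refine (Ideal.span_le (I := RingHom.ker g)).mpr ?_ hx
    rintro _ ⟨p, -, rfl⟩
    exact p.2)
  have hf₁ : ∀ i x, fP i i le_rfl x = x := fun i x => by
    obtain ⟨x, rfl⟩ := Ideal.Quotient.mk_surjective x; rfl
  have hf₂ : ∀ i j l (h : i ≤ j) (h' : j ≤ l) x, fP j l h' (fP i j h x) = fP i l (h.trans h') x := fun i j l h h' x => by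
    obtain ⟨x, rfl⟩ := Ideal.Quotient.mk_surjective x; rfl
  have hgP : ∀ i j (h : i ≤ j) x, gP j (fP i j h x) = gP i x := fun i j h x => by
    obtain ⟨x, rfl⟩ := Ideal.Quotient.mk_surjective x; rfl
  obtain ⟨hc⟩ := Groth.Agent.H20.IndPresentation.exists_isColimit P fP hf₁ hf₂ gP hgP
    (fun b => by
      obtain ⟨x, hx⟩ := hg b
      exact ⟨∅, Ideal.Quotient.mk _ x, hx⟩)
    (fun i x hx => by
      obtain ⟨x, rfl⟩ := Ideal.Quotient.mk_surjective x
      refine ⟨insert ⟨x, hx⟩ i, Finset.subset_insert _ _, ?_⟩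
      exact Ideal.Quotient.eq_zero_iff_mem.mpr (Ideal.subset_span ⟨⟨x, hx⟩, by simp, rfl⟩))
  haveI := hF (Finset K)
  obtain ⟨i, ζ, hζ⟩ := Types.jointly_surjective _ (isColimitOfPreserves F hc) η'
  -- the approximation
  obtain ⟨a, ha, ha'⟩ := hsol (i.image Subtype.val) (fun p hp => by
    obtain ⟨q, -, rfl⟩ := Finset.mem_image.mp hp
    exact q.2)
  let σ : P i →ₐ[A] A := Ideal.Quotient.liftₐ _ (MvPolynomial.aeval a) (fun x hx => by
    refine (Ideal.span_le (I := RingHom.ker (MvPolynomial.aeval a))).mpr ?_ hx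
    rintro _ ⟨p, hp, rfl⟩
    rw [SetLike.mem_coe, RingHom.mem_ker, MvPolynomial.aeval_eq_eval]
    exact ha _ (Finset.mem_image_of_mem _ hp))
  let hσ : Groth.Agent.H60.FPColim.ob (A := A) (P i) ⟶ Under.mk (𝟙 (CommRingCat.of A)) :=
    Under.homMk (CommRingCat.ofHom σ.toRingHom) (by ext r; exact σ.commutes r)
  refine ⟨F.map hσ ζ, ?_⟩
  have hmor : hσ ≫ ρ = (Groth.Agent.H20.IndPresentation.cocone P fP hf₁ hf₂ gP hgP).ι.app i ≫
      Groth.Agent.H60.FPColim.hom B.val ≫ π := by
    have hρ : ∀ r : A, ρ.right.hom r = Ideal.Quotient.mk (m ^ c) r := fun r =>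
      congrArg (fun f : CommRingCat.of A ⟶ CommRingCat.of (A ⧸ m ^ c) => f.hom r) (Under.w ρ)
    have hπ' : ∀ z : AdicCompletion m A, π.right.hom z = AdicCompletion.evalₐ m c z := fun z => by
      rw [hπ]; rfl
    have h1 : (Ideal.Quotient.mkₐ A (m ^ c)).comp (MvPolynomial.aeval a) =
        (AdicCompletion.evalₐ m c).comp (B.val.comp g) := MvPolynomial.algHom_ext fun j => by simp [ha']
    ext x
    obtain ⟨x, rfl⟩ := Ideal.Quotient.mk_surjective x
    exact (hρ _).trans ((AlgHom.congr_fun h1 x).trans (hπ' _).symm)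
  exact transfer F _ _ _ _ _ hmor ζ η' ξ hζ hη'

end Groth.Agent.S14624
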