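import Groth.Statements.S14626
import Groth.Agent.Lib.CechPsh.Comap
-- import your own Groth.Agent.* helpers here

set_option autoImplicit false
open CategoryTheory CategoryTheory.Limits AlgebraicGeometry
universe u
open EtBase

namespace Groth.Agent.S14626

/-- For the direct image along a morphism of schemes on small étale sites; take a morphism of schemes f
: X → Y and an abelian étale sheaf F on X which is flasque in the Čech sense, i.e. for every étale U
over X and every jointly surjective family of étale U-schemes the Čech cohomology groups of F in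
positive degrees vanish. Then the direct image f_*F is flasque in the same sense on Y. The finite
products of the over categories (the fibre products entering the Čech complexes) are carried as
instance hypotheses. -/
theorem result {X Y : Scheme.{u}} (f : X ⟶ Y)
    [∀ U : X.Etale, HasFiniteProducts (Over U)] [∀ V : Y.Etale, HasFiniteProducts (Over V)]
    (F : EtCoh.Ab X)
    (hF : ∀ (U : X.Etale) (ι : Type (u + 1)) (Uf : ι → Over U),
      (∀ x : ↥(U.left), ∃ (i : ι) (y : ↥((Uf i).left.left)), (Uf i).hom.left.base y = x) →
      ∀ p : ℕ, 0 < p → IsZero (EtCech.cechH Uf F.obj p))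
    (V : Y.Etale) (ι : Type (u + 1)) (Vf : ι → Over V)
    (hV : ∀ x : ↥(V.left), ∃ (i : ι) (y : ↥((Vf i).left.left)), (Vf i).hom.left.base y = x)
    (p : ℕ) (hp : 0 < p) :
    IsZero (EtCech.cechH Vf ((EtCoh.push f).obj F).obj p) := by
  obtain ⟨q, rfl⟩ := Nat.exists_eq_succ_of_ne_zero hp.ne'
  have := Groth.Agent.Lib.CechPsh.Comap.preservesFiniteProducts_post (EtCoh.bc f) (U := V)
  refine Groth.Agent.Lib.CechPsh.Comap.isZero_cechH (EtCoh.bc f) Vf F.obj q
    (hF _ _ _ (fun x => ?_) (q + 1) hp)
  obtain ⟨i, y, hy⟩ := hV ((pullback.fst V.hom f).base x)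
  let g := (Vf i).hom
  let t : (Vf i).left.left ⟶ V.left := g.left
  let p : pullback (Vf i).left.hom f ⟶ (Vf i).left.left := pullback.fst _ _
  have hw : t ≫ V.hom = (Vf i).left.hom := Over.w g.hom
  obtain ⟨z, hz₁, hz₂⟩ := Scheme.Pullback.exists_preimage_pullback
    (f := t) (g := pullback.fst V.hom f) y x hy
  let l : pullback t (pullback.fst V.hom f) ⟶ pullback (Vf i).left.hom f :=
    pullback.lift (pullback.fst _ _) (pullback.snd _ _ ≫ pullback.snd V.hom f) (by
      rw [← hw, pullback.condition_assoc, pullback.condition, Category.assoc])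
  refine ⟨i, l.base z, ?_⟩
  have hl : l ≫ (((Over.post (EtCoh.bc f)).obj (Vf i)).hom).left = pullback.snd _ _ := by
    refine pullback.hom_ext ?_ ?_
    · refine (Category.assoc _ _ _).trans ((congrArg (l ≫ ·) (pullback.lift_fst _ _ _)).trans ?_)
      exact (Category.assoc _ _ _).symm.trans
        ((congrArg (· ≫ t) (pullback.lift_fst _ _ _)).trans pullback.condition)
    · refine (Category.assoc _ _ _).trans ((congrArg (l ≫ ·) (pullback.lift_snd _ _ _)).trans ?_)
      exact pullback.lift_snd _ _ _
  exact (congrArg (fun m => m.base z) hl).trans hz₂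

end Groth.Agent.S14626
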