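import Groth.Statements.S14628
import Groth.Agent.Lib.CechPsh.LongExact
import Groth.Agent.Lib.EtSite.Basic
import Mathlib.CategoryTheory.Sites.LocallySurjective
-- import your own Groth.Agent.* helpers here

set_option autoImplicit false
open CategoryTheory CategoryTheory.Limits AlgebraicGeometry
universe u
open EtBase

namespace Groth.Agent.S14628

/-- On the small étale site of a scheme, let 0 → F' → F → F'' → 0 be a short exact sequence of abelian
étale sheaves on a scheme X. If F' and F are flasque in the Čech sense (for every étale U over X and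
every jointly surjective family of étale U-schemes, Čech cohomology in positive degrees vanishes),
then so is F''. The finite products of the over categories (the fibre products entering the Čech
complexes) are carried as instance hypotheses. -/
theorem result {X : Scheme.{u}}
    [∀ U : X.Etale, HasFiniteProducts (Over U)] (S : ShortComplex (EtCoh.Ab X)) (hS : S.ShortExact)
    (h1 : (∀ (U : X.Etale) (ι : Type (u + 1)) (Uf : ι → Over U),
      (∀ x : ↥(U.left), ∃ (i : ι) (y : ↥((Uf i).left.left)), (Uf i).hom.left.base y = x) →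
      ∀ p : ℕ, 0 < p → IsZero (EtCech.cechH Uf S.X₁.obj p)))
    (h2 : (∀ (U : X.Etale) (ι : Type (u + 1)) (Uf : ι → Over U),
      (∀ x : ↥(U.left), ∃ (i : ι) (y : ↥((Uf i).left.left)), (Uf i).hom.left.base y = x) →
      ∀ p : ℕ, 0 < p → IsZero (EtCech.cechH Uf S.X₂.obj p)))
    (U : X.Etale) (ι : Type (u + 1)) (Uf : ι → Over U)
    (hU : ∀ x : ↥(U.left), ∃ (i : ι) (y : ↥((Uf i).left.left)), (Uf i).hom.left.base y = x)
    (p : ℕ) (hp : 0 < p) :
    IsZero (EtCech.cechH Uf S.X₃.obj p) := by
  obtain ⟨q, rfl⟩ := Nat.exists_eq_succ_of_ne_zero hp.ne'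
  have := hS.epi_g
  have hl := fun W => Groth.Agent.Lib.CechPsh.ShortExact.app_left_exact hS W
  refine Groth.Agent.Lib.CechPsh.LongExact.isZero_cechH_right Uf S.f.hom S.g.hom
    (fun W => (hl W).2.1) (fun W => (hl W).1) (fun W => (hl W).2.2) (fun n i s => ?_) (q + 1)
    (h2 U ι Uf hU (q + 1) hp) (h1 U ι Uf hU (q + 2) (Nat.succ_pos _))
  have hls : Sheaf.IsLocallySurjective S.g :=
    (Sheaf.isLocallySurjective_iff_epi' (φ := S.g)).2 inferInstance
  let W := (Groth.Agent.Lib.CechPsh.Vanish.prd Uf i).left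
  have hT : Presheaf.imageSieve S.g.hom s ∈ X.smallEtaleTopology W :=
    Presheaf.imageSieve_mem X.smallEtaleTopology S.g.hom s
  let κ := Σ V : X.Etale, {a : V ⟶ W // Presheaf.imageSieve S.g.hom s a}
  let Y : κ → Over W := fun a => Over.mk a.2.1
  have hcov : ∀ x : ↥(W.left), ∃ (a : κ) (y : ↥((Y a).left.left)), (Y a).hom.left.base y = x := by
    intro x
    obtain ⟨V, a, ha, y, hy⟩ := (Groth.Agent.Lib.EtSite.Basic.mem_topology_iff _).1 hT x
    exact ⟨⟨V, a, ha⟩, y, hy⟩
  exact Groth.Agent.Lib.CechPsh.Surj.exists_lift Y X.smallEtaleTopology S.f.hom S.g.hom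
    S.X₂.property S.X₃.property (fun W => (hl W).1) (fun W => (hl W).2.1) (fun W => (hl W).2.2)
    (Groth.Agent.Lib.EtSite.Basic.ofArrows_mem _ _ hcov) (h1 W κ Y hcov 1 Nat.one_pos) s
    (fun a => a.2.2)

end Groth.Agent.S14628
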