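import Groth.Statements.S1463
import Groth.Agent.H69.FibreLoci.Approx
import Groth.Agent.S9765
import Groth.Agent.S1339
import Groth.Agent.H46.GeomSpread.Fibre
-- import your own Groth.Agent.* helpers here

set_option autoImplicit false
universe u
open FlatMor

namespace Groth.Agent.S1463
open CategoryTheory CategoryTheory.Limits
set_option backward.isDefEq.respectTransparency false

open AlgebraicGeometry CategoryTheory Limits in
/-- Let f : X → S be a morphism of finite presentation between affine schemes whose fibres are
geometrically connected. Then f is the base change of a morphism of finite type f₀ : X₀ → S₀ between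
affine schemes with S₀ of finite type over ℤ, where f₀ can be chosen with the same property. -/
theorem result {X S : Scheme.{u}} (f : X ⟶ S) [IsAffine X] [IsAffine S] [LocallyOfFinitePresentation f] [GeometricallyConnected f] :
    ∃ (X₀ S₀ : Scheme.{u}) (f₀ : X₀ ⟶ S₀) (g : S ⟶ S₀) (g' : X ⟶ X₀), IsAffine X₀ ∧ IsAffine S₀ ∧ IsPullback g' f f₀ g ∧
      Algebra.FiniteType ℤ Γ(S₀, ⊤) ∧ LocallyOfFiniteType f₀ ∧ GeometricallyConnected f₀ := by
  obtain ⟨X₀, S₀, f₀, g, g', h1, h2, h3, h4, h5, h6⟩ := Groth.Agent.H69.FibreLoci.Approx.exists_model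
    (fun f y => GeometricallyConnected (f.fiberToSpecResidueField y))
    (fun f f' g' g _ sq y' => Set.ext_iff.1 (Groth.Agent.S9765.result f g f' g' sq) y')
    (fun f _ _ _ => by
      simp only [Groth.Agent.H46.GeomSpread.geometricallyConnected_iff_count]
      exact Groth.Agent.S1339.result f 1) f (fun s => inferInstance)
  exact ⟨X₀, S₀, f₀, g, g', h1, h2, h3, h4, h5, (GeometricallyConnected.iff_geometricallyConnected_fiber f₀).2 h6⟩

end Groth.Agent.S1463
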