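import Groth.Statements.S14631
import Groth.Agent.Lib.EtSite.Fiber

set_option autoImplicit false
open CategoryTheory AlgebraicGeometry
universe u
open EtBase

namespace Groth.Agent.S14631

/-- Let X be a quasi-separated scheme and U an étale X-scheme. Then there is a jointly surjective family
of étale U-schemes each of which is quasi-compact and quasi-separated, hence of finite presentation,
over X. (Sheaves on the small étale site are therefore determined by their values on étale X-schemes
of finite presentation; that equivalence is not stated here.) -/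
theorem result (X : Scheme.{u})
    [QuasiSeparatedSpace ↥X] (U : X.Etale) :
    ∃ (ι : Type u) (V : ι → Over U), (∀ i, QuasiCompact (V i).left.hom ∧ QuasiSeparated (V i).left.hom) ∧
      ∀ x : ↥(U.left), ∃ (i : ι) (y : ↥((V i).left.left)), (V i).hom.left.base y = x := by
  let hom : U.left ⟶ X := U.hom
  have hE : Etale hom := U.prop
  let V : U.left.affineOpens → Over U := fun W =>
    Over.mk (Y := (MorphismProperty.Over.mk ⊤ (W.1.ι ≫ hom) inferInstance : X.Etale))
      (MorphismProperty.Over.homMk W.1.ι rfl)
  refine ⟨U.left.affineOpens, V, fun W => ?_, fun x => ?_⟩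
  · have : IsAffine (W.1 : Scheme.{u}) := W.2
    exact ⟨inferInstanceAs (QuasiCompact (W.1.ι ≫ hom)), inferInstanceAs (QuasiSeparated (W.1.ι ≫ hom))⟩
  · obtain ⟨W, hW, hxW, -⟩ := exists_isAffineOpen_mem_and_subset (x := x) (U := (⊤ : U.left.Opens)) trivial
    exact ⟨⟨W, hW⟩, ⟨x, hxW⟩, rfl⟩

end Groth.Agent.S14631
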