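import Groth.Statements.S14634

import Groth.Agent.Lib.GrpSch.Basic
import Groth.Agent.Lib.GrpSch.ConnFibre
import Groth.Agent.H2.Rigid.GeomIrred
import Groth.Agent.H56.DimBaseChange
import Groth.Agent.H63.GrpdImage

set_option autoImplicit false
universe u
open CategoryTheory MonoidalCategory CartesianMonoidalCategory MonObj GrpObj AlgebraicGeometry CategoryTheory.Limits
open AlgGrp

namespace Groth.Agent.S14634

open Groth.Agent.Lib

/-- A strict chain of three points gives dimension at least two. -/
theorem two_le_dim {Y : Type u} [TopologicalSpace Y] [T0Space Y] {a b c : Y}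
    (hab : a ⤳ b) (hab' : a ≠ b) (hbc : b ⤳ c) (hbc' : b ≠ c) :
    (2 : WithBot ℕ∞) ≤ topologicalKrullDim Y := by
  let cl : Y → TopologicalSpace.IrreducibleCloseds Y :=
    fun y => ⟨closure {y}, isIrreducible_singleton.closure, isClosed_closure⟩
  have hlt : ∀ {p q : Y}, p ⤳ q → p ≠ q → cl q < cl p := by
    intro p q h hne
    refine lt_of_le_of_ne ?_ fun e => hne ?_
    · exact specializes_iff_closure_subset.1 h
    · exact ((inseparable_iff_closure_eq.2 (congrArg SetLike.coe e)).eq).symm
  let s : LTSeries (TopologicalSpace.IrreducibleCloseds Y) :=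
    ((RelSeries.singleton _ (cl c)).snoc (cl b) (hlt hbc hbc')).snoc (cl a) (by simpa using hlt hab hab')
  have := Order.LTSeries.length_le_krullDim s
  simpa [s, RelSeries.snoc, RelSeries.singleton, topologicalKrullDim] using this

theorem dim_subsingleton {Y : Type u} [TopologicalSpace Y] [Subsingleton Y] :
    topologicalKrullDim Y ≤ 0 := by
  haveI : Subsingleton (TopologicalSpace.IrreducibleCloseds Y) := ⟨fun a b => by
    apply SetLike.coe_injective
    rw [Subsingleton.eq_univ_of_nonempty a.isIrreducible.nonempty,
      Subsingleton.eq_univ_of_nonempty b.isIrreducible.nonempty]⟩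
  exact Order.krullDim_nonpos_of_subsingleton

/-- Over a field k, let G be a smooth connected k-group scheme of finite type acting on a curve C, i.e.
a separated, geometrically integral k-scheme of finite type of dimension 1. Then C is almost
homogeneous under G, meaning that the graph morphism G × C → C × C, (g, x) ↦ (x, g·x), is dominant,
if and only if the action is not the trivial one (the action morphism is not the second projection). -/
theorem result (k : Type u) [Field k]
    (G C : Over (Spec (CommRingCat.of k))) [GrpObj G] [Smooth G.hom] [QuasiCompact G.hom] [ConnectedSpace ↥G.left]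
    [IsSeparated C.hom] [LocallyOfFiniteType C.hom] [QuasiCompact C.hom] [GeometricallyIntegral C.hom] (hdim : topologicalKrullDim ↥C.left = 1)
    (a : AlgGrp.Action G C) :
    IsDominant (CartesianMonoidalCategory.lift (CartesianMonoidalCategory.snd G C) a.act).left ↔
      a.act ≠ CartesianMonoidalCategory.snd G C := by

  haveI : GeometricallyConnected G.hom :=
    GrpSch.geometricallyConnected_of_section G.hom η[G].left (Over.w η[G]) fun s => by
      have hr : Set.range (G.hom.fiberι s) = Set.univ := by
        rw [G.hom.range_fiberι]
        exact Set.eq_univ_of_forall fun x => Subsingleton.elim (α := PrimeSpectrum k) _ _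
      haveI : Nonempty (G.hom.fiber s) := by
        obtain ⟨a, -⟩ : Classical.arbitrary G.left ∈ Set.range (G.hom.fiberι s) := hr ▸ Set.mem_univ _
        exact ⟨a⟩
      haveI : PreconnectedSpace (G.hom.fiber s) := ⟨by
        rw [← (G.hom.fiberι s).isEmbedding.isInducing.isPreconnected_image, Set.image_univ, hr]
        exact isPreconnected_univ⟩
      exact ⟨inferInstance⟩
  haveI := H2.Rigid.GeomIrred.geometricallyIntegral_of_smooth G.hom
  haveI : IsIntegral G.left := H2.Rigid.GeomIrred.isIntegral_of_smooth G.hom
  haveI : IsIntegral C.left := GeometricallyIntegral.isIntegral_of_subsingleton C.hom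
  haveI : UniversallyOpen G.hom := inferInstance
  haveI : UniversallyOpen C.hom := inferInstance
  haveI : Flat C.hom := inferInstance
  haveI : IsLocallyNoetherian C.left := LocallyOfFiniteType.isLocallyNoetherian C.hom
  haveI : IsIntegral (G ⊗ C).left := inferInstanceAs (IsIntegral (pullback G.hom C.hom))
  haveI : IsIntegral (C ⊗ C).left := inferInstanceAs (IsIntegral (pullback C.hom C.hom))
  set Γ := lift (snd G C) a.act with hΓ
  set D := lift (𝟙 C) (𝟙 C) with hD
  haveI : IsClosedImmersion D.left := by
    have e : D.left = pullback.diagonal C.hom := by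
      apply pullback.hom_ext
      · rw [pullback.diagonal_fst]; simp [hD]; exact pullback.lift_fst _ _ _
      · rw [pullback.diagonal_snd]; simp [hD]; exact pullback.lift_snd _ _ _
    rw [e]; infer_instance
  have hDfst : ∀ c, (fst C C).left (D.left c) = c := fun c => by
    rw [← Scheme.Hom.comp_apply, ← Over.comp_left, lift_fst]; rfl
  set gc := genericPoint ↥C.left with hgc
  -- the fibre of the first projection over the generic point is a curve
  have hfib : topologicalKrullDim ↥((fst C C).left.fiber gc) = 1 := by
    rw [← hdim]
    exact H56.DimBaseChange.topologicalKrullDim_baseChange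
      (C.left.fromSpecResidueField gc ≫ C.hom) C.hom ((fst C C).left.fiberToSpecResidueField gc)
      ((fst C C).left.fiberι gc ≫ (snd C C).left)
      ((IsPullback.of_hasPullback (fst C C).left (C.left.fromSpecResidueField gc)).paste_horiz
        (GrpSch.isPullback_left C C).flip
      )
  have hemb := (fst C C).left.fiberι gc |>.isEmbedding
  constructor
  · intro hd he
    have hle : Set.range Γ.left ⊆ Set.range D.left := by
      rintro _ ⟨z, rfl⟩
      refine ⟨(snd G C).left z, ?_⟩
      rw [← Scheme.Hom.comp_apply, ← Over.comp_left, show snd G C ≫ D = Γ from by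
        apply CartesianMonoidalCategory.hom_ext <;> simp [hΓ, hD, he]]
    have huniv : Set.range D.left = Set.univ := Set.eq_univ_of_univ_subset
      ((hd.1.closure_range.symm.subset).trans
        (closure_minimal hle D.left.isClosedEmbedding.isClosed_range))
    haveI : Subsingleton ↥((fst C C).left.fiber gc) := ⟨fun p q => by
      apply hemb.injective
      obtain ⟨c, hc⟩ : ((fst C C).left.fiberι gc p) ∈ Set.range D.left := huniv ▸ Set.mem_univ _
      obtain ⟨c', hc'⟩ : ((fst C C).left.fiberι gc q) ∈ Set.range D.left := huniv ▸ Set.mem_univ _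
      have h1 : ∀ r, (fst C C).left ((fst C C).left.fiberι gc r) = gc := fun r => by
        have : (fst C C).left.fiberι gc r ∈ (fst C C).left ⁻¹' {gc} := by
          rw [← Scheme.Hom.range_fiberι]; exact ⟨r, rfl⟩
        exact this
      have e1 : c = gc := by rw [← hDfst c, hc, h1]
      have e2 : c' = gc := by rw [← hDfst c', hc', h1]
      rw [← hc, ← hc', e1, e2]⟩
    have := dim_subsingleton (Y := ↥((fst C C).left.fiber gc))
    rw [hfib] at this
    exact absurd this (by decide)
  · intro hne
    have hirr : IsIrreducible (closure (Set.range Γ.left)) := by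
      rw [← Set.image_univ]
      exact ((IrreducibleSpace.isIrreducible_univ _).image _ Γ.left.continuous.continuousOn).closure
    set ζ := hirr.genericPoint with hζdef
    have hζ : closure ({ζ} : Set ↥(C ⊗ C).left) = closure (Set.range Γ.left) :=
      (hirr.isGenericPoint_genericPoint isClosed_closure).def
    have hDle : Set.range D.left ⊆ Set.range Γ.left := by
      rintro _ ⟨c, rfl⟩
      refine ⟨(lift (1 : C ⟶ G) (𝟙 C)).left c, ?_⟩
      rw [← Scheme.Hom.comp_apply, ← Over.comp_left, show lift (1 : C ⟶ G) (𝟙 C) ≫ Γ = D from by
        apply CartesianMonoidalCategory.hom_ext <;> simp [hΓ, hD, GrpSch.act_one]]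
    set δ := D.left gc with hδdef
    set ξ := genericPoint ↥(C ⊗ C).left with hξdef
    have h1 : ξ ⤳ ζ := genericPoint_specializes _
    have h2 : ζ ⤳ δ := by
      rw [specializes_iff_mem_closure, hζ]
      exact subset_closure (hDle ⟨gc, rfl⟩)
    have hζδ : ζ ≠ δ := by
      intro he
      refine hne ?_
      have hsub : Set.range Γ.left ⊆ Set.range D.left := by
        refine subset_closure.trans ?_
        rw [← hζ, he]
        exact closure_minimal (by simp [hδdef]) D.left.isClosedEmbedding.isClosed_range
      obtain ⟨l, hl⟩ := H63.GrpdImage.exists_factor_of_reduced Γ.left D.left hsub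
      have hf : Γ.left ≫ (fst C C).left = Γ.left ≫ (snd C C).left := by
        rw [← hl, Category.assoc, Category.assoc, ← Over.comp_left, ← Over.comp_left, lift_fst, lift_snd]
      rw [← Over.comp_left, ← Over.comp_left, hΓ, lift_fst, lift_snd] at hf
      exact (Over.OverMorphism.ext hf).symm
    have hξζ : ξ = ζ := by
      by_contra h12
      have hg : ∀ z, ξ ⤳ z → z ⤳ δ → (fst C C).left z = gc := by
        intro z _ hz
        have h : (fst C C).left z ⤳ gc := hDfst gc ▸ hz.map (fst C C).left.continuous
        exact (h.antisymm (genericPoint_specializes _)).eq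
      have hr : ∀ z, (fst C C).left z = gc → ∃ p, (fst C C).left.fiberι gc p = z := fun z hz => by
        have : z ∈ Set.range ((fst C C).left.fiberι gc) := by
          rw [Scheme.Hom.range_fiberι]; exact hz
        exact this
      obtain ⟨pa, hpa⟩ := hr ξ (hg ξ specializes_rfl (h1.trans h2))
      obtain ⟨pb, hpb⟩ := hr ζ (hg ζ h1 h2)
      obtain ⟨pc, hpc⟩ := hr δ (hDfst gc)
      have := two_le_dim (a := pa) (b := pb) (c := pc)
        (hemb.isInducing.specializes_iff.1 (by rw [hpa, hpb]; exact h1))
        (fun e => h12 (by rw [← hpa, e, hpb]))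
        (hemb.isInducing.specializes_iff.1 (by rw [hpb, hpc]; exact h2))
        (fun e => hζδ (by rw [← hpb, e, hpc]))
      rw [hfib] at this
      exact absurd this (by decide)
    refine ⟨dense_iff_closure_eq.2 ?_⟩
    rw [← hζ, ← hξζ]
    exact genericPoint_closure _


end Groth.Agent.S14634
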