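import Groth.Statements.S14636

import Groth.Agent.Lib.GrpSch.NormAct

set_option autoImplicit false
universe u
open CategoryTheory MonoidalCategory CartesianMonoidalCategory MonObj GrpObj AlgebraicGeometry CategoryTheory.Limits
open AlgGrp

namespace Groth.Agent.S14636

open Groth.Agent.Lib

/-- Over a field k, let G be a smooth connected k-group scheme of finite type acting on a variety X (a
separated, geometrically integral k-scheme of finite type), let ν : X̃ → X be the normalization of
X, and let G act on X̃ so that ν is equivariant (such an action exists and is unique). Then X is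
almost homogeneous, i.e. the graph morphism G × X → X × X, (g, x) ↦ (x, g·x), is dominant, if and
only if X̃ is almost homogeneous for the lifted action. (The quasi-compactness and
quasi-separatedness binders on the morphism from the generic point always hold; they are only needed
to form the normalization.) -/
theorem result (k : Type u) [Field k]
    (G X : Over (Spec (CommRingCat.of k))) [GrpObj G] [Smooth G.hom] [QuasiCompact G.hom] [ConnectedSpace ↥G.left]
    [IsSeparated X.hom] [LocallyOfFiniteType X.hom] [QuasiCompact X.hom] [GeometricallyIntegral X.hom] [IsIntegral X.left] [QuasiCompact (X.left.fromSpecStalk (genericPoint ↥X.left))] [QuasiSeparated (X.left.fromSpecStalk (genericPoint ↥X.left))]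
    (a : AlgGrp.Action G X)
    (b : AlgGrp.Action G (Over.mk (Curv2.normalizationι X.left ≫ X.hom)))
    (hb : (G ◁ (Over.homMk (Curv2.normalizationι X.left) rfl : Over.mk (Curv2.normalizationι X.left ≫ X.hom) ⟶ X)) ≫ a.act =
      b.act ≫ Over.homMk (Curv2.normalizationι X.left) rfl) :
    IsDominant (CartesianMonoidalCategory.lift (CartesianMonoidalCategory.snd G X) a.act).left ↔
      IsDominant (CartesianMonoidalCategory.lift
        (CartesianMonoidalCategory.snd G (Over.mk (Curv2.normalizationι X.left ≫ X.hom))) b.act).left := by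

  obtain ⟨U, hUne, hUiso⟩ := GrpSch.NormAct.exists_isIso_restrict X
  set n : Over.mk (Curv2.normalizationι X.left ≫ X.hom) ⟶ X := Over.homMk (Curv2.normalizationι X.left) rfl with hn
  haveI : IsIso (n.left ∣_ U) := hUiso
  haveI hint : IsIntegralHom n.left := inferInstanceAs (IsIntegralHom (Curv2.normalizationι X.left))
  haveI hsur : Surjective n.left := ⟨Normalization.Basic.surjective_normalizationι X.left⟩
  haveI : Surjective (G ◁ n).left := GrpSch.whiskerLeft_left_of (P := @Surjective) G n hsur
  haveI : Surjective (n ⊗ₘ n).left := GrpSch.tensorHom_left_of (P := @Surjective) n n hsur hsur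
  haveI : IsIntegralHom (n ⊗ₘ n).left := GrpSch.tensorHom_left_of (P := @IsIntegralHom) n n hint hint
  set Γa := lift (snd G X) a.act with hΓa
  set Γb := lift (snd G (Over.mk (Curv2.normalizationι X.left ≫ X.hom))) b.act with hΓb
  have hw : Γb.left ≫ (n ⊗ₘ n).left = (G ◁ n).left ≫ Γa.left := by
    rw [← Over.comp_left, ← Over.comp_left]
    congr 1
    apply CartesianMonoidalCategory.hom_ext
    · simp [hΓa, hΓb]
    · simp [hΓa, hΓb, hb]
  constructor
  · intro ha
    haveI : IsIntegral (Over.mk (Curv2.normalizationι X.left ≫ X.hom)).left := inferInstanceAs (IsIntegral (Curv2.normalization X.left))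
    haveI : LocallyOfFiniteType n.left := by
      letI : X.left.Over (Spec (CommRingCat.of k)) := ⟨X.hom⟩
      haveI : LocallyOfFiniteType (X.left ↘ Spec (CommRingCat.of k)) := ‹LocallyOfFiniteType X.hom›
      haveI := Normalization.InFieldVariety.isFinite_normalizationι k X.left
      exact inferInstanceAs (LocallyOfFiniteType (Curv2.normalizationι X.left))
    haveI : LocallyOfFiniteType (Over.mk (Curv2.normalizationι X.left ≫ X.hom)).hom := inferInstanceAs (LocallyOfFiniteType (n.left ≫ X.hom))
    haveI : LocallyOfFinitePresentation (Over.mk (Curv2.normalizationι X.left ≫ X.hom)).hom :=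
      inferInstance
    haveI : UniversallyOpen (Over.mk (Curv2.normalizationι X.left ≫ X.hom)).hom := inferInstance
    have hVd : Dense ((n.left ⁻¹ᵁ U : (Over.mk (Curv2.normalizationι X.left ≫ X.hom)).left.Opens) : Set ↥(Over.mk (Curv2.normalizationι X.left ≫ X.hom)).left) := by
      obtain ⟨x, hx⟩ := hUne
      obtain ⟨y, rfl⟩ := n.left.surjective x
      exact (n.left ⁻¹ᵁ U).isOpen.dense ⟨y, hx⟩
    have hO : Dense (((fst (Over.mk (Curv2.normalizationι X.left ≫ X.hom)) (Over.mk (Curv2.normalizationι X.left ≫ X.hom))).left ⁻¹' (n.left ⁻¹' U)) ∩ ((snd (Over.mk (Curv2.normalizationι X.left ≫ X.hom)) (Over.mk (Curv2.normalizationι X.left ≫ X.hom))).left ⁻¹' (n.left ⁻¹' U))) := by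
      refine Dense.inter_of_isOpen_left ?_ ?_
        (((n.left ⁻¹ᵁ U).isOpen).preimage (fst (Over.mk (Curv2.normalizationι X.left ≫ X.hom)) (Over.mk (Curv2.normalizationι X.left ≫ X.hom))).left.continuous)
      · haveI : UniversallyOpen (fst (Over.mk (Curv2.normalizationι X.left ≫ X.hom)) (Over.mk (Curv2.normalizationι X.left ≫ X.hom))).left := GrpSch.fst_left_of (P := @UniversallyOpen) (Over.mk (Curv2.normalizationι X.left ≫ X.hom)) ‹_›
        exact hVd.preimage (fst (Over.mk (Curv2.normalizationι X.left ≫ X.hom)) (Over.mk (Curv2.normalizationι X.left ≫ X.hom))).left.isOpenMap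
      · haveI : UniversallyOpen (snd (Over.mk (Curv2.normalizationι X.left ≫ X.hom)) (Over.mk (Curv2.normalizationι X.left ≫ X.hom))).left := GrpSch.snd_left_of (P := @UniversallyOpen) (Over.mk (Curv2.normalizationι X.left ≫ X.hom)) ‹_›
        exact hVd.preimage (snd (Over.mk (Curv2.normalizationι X.left ≫ X.hom)) (Over.mk (Curv2.normalizationι X.left ≫ X.hom))).left.isOpenMap
    refine ⟨dense_iff_inter_open.2 fun W hWo hWne => ?_⟩
    obtain ⟨w, hwW, hwO⟩ := hO.inter_open_nonempty W hWo hWne
    set O := ((fst (Over.mk (Curv2.normalizationι X.left ≫ X.hom)) (Over.mk (Curv2.normalizationι X.left ≫ X.hom))).left ⁻¹' (n.left ⁻¹' U)) ∩ ((snd (Over.mk (Curv2.normalizationι X.left ≫ X.hom)) (Over.mk (Curv2.normalizationι X.left ≫ X.hom))).left ⁻¹' (n.left ⁻¹' U)) with hOdef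
    have hOo : IsOpen O := (((n.left ⁻¹ᵁ U).isOpen).preimage (fst (Over.mk (Curv2.normalizationι X.left ≫ X.hom)) (Over.mk (Curv2.normalizationι X.left ≫ X.hom))).left.continuous).inter
      (((n.left ⁻¹ᵁ U).isOpen).preimage (snd (Over.mk (Curv2.normalizationι X.left ≫ X.hom)) (Over.mk (Curv2.normalizationι X.left ≫ X.hom))).left.continuous)
    have hfst : ∀ z, (fst X X).left ((n ⊗ₘ n).left z) = n.left ((fst (Over.mk (Curv2.normalizationι X.left ≫ X.hom)) (Over.mk (Curv2.normalizationι X.left ≫ X.hom))).left z) := fun z => by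
      rw [← Scheme.Hom.comp_apply, ← Over.comp_left, tensorHom_fst, Over.comp_left, Scheme.Hom.comp_apply]
    have hsnd : ∀ z, (snd X X).left ((n ⊗ₘ n).left z) = n.left ((snd (Over.mk (Curv2.normalizationι X.left ≫ X.hom)) (Over.mk (Curv2.normalizationι X.left ≫ X.hom))).left z) := fun z => by
      rw [← Scheme.Hom.comp_apply, ← Over.comp_left, tensorHom_snd, Over.comp_left, Scheme.Hom.comp_apply]
    have hC : IsClosed ((n ⊗ₘ n).left '' (W ∩ O)ᶜ) :=
      (n ⊗ₘ n).left.isClosedMap _ (hWo.inter hOo).isClosed_compl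
    obtain ⟨z, hz, p, rfl⟩ := dense_iff_inter_open.1 ha.1 _ hC.isOpen_compl
      ⟨(n ⊗ₘ n).left w, by
        rintro ⟨z, hz, hzw⟩
        refine hz ?_
        rw [← GrpSch.NormAct.tensorHom_eq n (U := U) (y := w) (y' := z) ?_ ?_ hzw.symm]
        · exact ⟨hwW, hwO⟩
        · rw [hfst]; exact hwO.1
        · rw [hsnd]; exact hwO.2⟩
    obtain ⟨q, rfl⟩ := (G ◁ n).left.surjective p
    refine ⟨Γb.left q, ?_, q, rfl⟩
    by_contra h
    refine hz ⟨Γb.left q, fun h' => h h'.1, ?_⟩
    rw [← Scheme.Hom.comp_apply, ← Scheme.Hom.comp_apply, hw]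
  · intro hb'
    refine ⟨?_⟩
    have h1 : DenseRange (Γb.left ≫ (n ⊗ₘ n).left) := by
      rw [Scheme.Hom.comp_base]
      exact (n ⊗ₘ n).left.surjective.denseRange.comp hb'.1 (n ⊗ₘ n).left.continuous
    rw [hw] at h1
    exact h1.mono (by rintro _ ⟨x, rfl⟩; exact ⟨(G ◁ n).left x, rfl⟩)


end Groth.Agent.S14636
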