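import Groth.Statements.S14637


set_option autoImplicit false
universe u
open CategoryTheory MonoidalCategory CartesianMonoidalCategory MonObj GrpObj AlgebraicGeometry CategoryTheory.Limits
open AlgGrp

namespace Groth.Agent.S14637


theorem exists_monomial {R : Type*} [CommRing R] [IsDomain R] {u : LaurentPolynomial R} (hu : IsUnit u) :
    ∃ (a : R) (m : ℤ), u = LaurentPolynomial.C a * LaurentPolynomial.T m := by
  obtain ⟨v, hv⟩ := hu.exists_right_inv
  obtain ⟨n, p, hp⟩ := u.exists_T_pow
  obtain ⟨m, q, hq⟩ := v.exists_T_pow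
  have h1 : p * q = Polynomial.X ^ (n + m) := Polynomial.toLaurent_injective (by
    rw [map_mul, hp, hq, Polynomial.toLaurent_X_pow, Nat.cast_add, LaurentPolynomial.T_add,
      _root_.mul_mul_mul_comm, hv, _root_.one_mul])
  obtain ⟨i, -, hi⟩ := (dvd_prime_pow Polynomial.prime_X _).1 (Dvd.intro q h1)
  obtain ⟨w, hw⟩ := hi.symm
  obtain ⟨a, -, ha⟩ := Polynomial.isUnit_iff.1 w.isUnit
  refine ⟨a, (i : ℤ) - n, ?_⟩
  have h2 : u * LaurentPolynomial.T (n : ℤ) = LaurentPolynomial.C a * LaurentPolynomial.T (i : ℤ) := by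
    rw [← hp, ← hw, ← ha, map_mul, Polynomial.toLaurent_X_pow, Polynomial.toLaurent_C, _root_.mul_comm]
  calc u = u * LaurentPolynomial.T (n : ℤ) * LaurentPolynomial.T (-(n : ℤ)) := by
        rw [_root_.mul_assoc, ← LaurentPolynomial.T_add, add_neg_cancel, LaurentPolynomial.T_zero, _root_.mul_one]
    _ = _ := by rw [h2, _root_.mul_assoc, ← LaurentPolynomial.T_add, sub_eq_add_neg]

theorem laurent_hom_ext {R S : Type*} [CommRing R] [CommRing S] {f g : LaurentPolynomial R →+* S}
    (hC : ∀ a, f (LaurentPolynomial.C a) = g (LaurentPolynomial.C a))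
    (hT : f (LaurentPolynomial.T 1) = g (LaurentPolynomial.T 1)) : f = g := by
  have hTn : ∀ n : ℤ, f (LaurentPolynomial.T n) = g (LaurentPolynomial.T n) := by
    have hu : IsUnit (g (LaurentPolynomial.T 1)) := (LaurentPolynomial.isUnit_T 1).map g
    intro n
    induction n using Int.induction_on with
    | zero => simp
    | succ i hi => rw [LaurentPolynomial.T_add, map_mul, map_mul, hi, hT]
    | pred i hi =>
      refine hu.mul_right_cancel ?_
      conv_lhs => rw [← hT]
      rw [← map_mul, ← map_mul, ← LaurentPolynomial.T_add, sub_add_cancel, hi]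
  refine RingHom.ext fun p => ?_
  induction p using LaurentPolynomial.induction_on' with
  | add p q hp hq => rw [map_add, map_add, hp, hq]
  | C_mul_T n a => rw [map_mul, map_mul, hC, hTn]

theorem C_inj {R : Type*} [CommRing R] {a b : R}
    (h : LaurentPolynomial.C a = LaurentPolynomial.C b) : a = b := by
  simpa [LaurentPolynomial.eval₂_C] using congrArg (LaurentPolynomial.eval₂ (RingHom.id R) 1) h

/-- The ring map of global functions of a morphism to an affine scheme. -/
noncomputable def rg {A : Type u} [CommRing A] {X : Scheme.{u}} (p : X ⟶ Spec (CommRingCat.of A)) :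
    A →+* Γ(X, ⊤) := ((Scheme.ΓSpecIso (CommRingCat.of A)).inv ≫ p.appTop).hom

/-- The morphism to an affine scheme of a ring map. -/
noncomputable def toSp {A : Type u} [CommRing A] {X : Scheme.{u}} (φ : A →+* Γ(X, ⊤)) :
    X ⟶ Spec (CommRingCat.of A) := X.toSpecΓ ≫ Spec.map (CommRingCat.ofHom φ)

theorem rg_toSp {A : Type u} [CommRing A] {X : Scheme.{u}} (φ : A →+* Γ(X, ⊤)) : rg (toSp φ) = φ := by
  rw [rg, toSp, Scheme.Hom.comp_appTop, Scheme.toSpecΓ_appTop, ← Category.assoc,
    ← Scheme.ΓSpecIso_inv_naturality]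
  simp

theorem rg_inj {A : Type u} [CommRing A] {X : Scheme.{u}} {p q : X ⟶ Spec (CommRingCat.of A)}
    (h : rg p = rg q) : p = q := by
  refine ext_of_isAffine ?_
  rw [← cancel_epi (Scheme.ΓSpecIso (CommRingCat.of A)).inv]
  exact CommRingCat.hom_ext h

theorem rg_comp {A : Type u} [CommRing A] {X Y : Scheme.{u}} (f : Y ⟶ X)
    (p : X ⟶ Spec (CommRingCat.of A)) : rg (f ≫ p) = f.appTop.hom.comp (rg p) := rfl

theorem rg_specMap {A B : Type u} [CommRing A] [CommRing B] {X : Scheme.{u}}
    (p : X ⟶ Spec (CommRingCat.of B)) (φ : A →+* B) :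
    rg (p ≫ Spec.map (CommRingCat.ofHom φ)) = (rg p).comp φ := by
  rw [rg, Scheme.Hom.comp_appTop, ← Category.assoc, ← Scheme.ΓSpecIso_inv_naturality]
  rfl

section
variable {k : Type u} [Field k] {G : Over (Spec (CommRingCat.of k))} [GrpObj G]
  (e : G.left ≅ Spec (CommRingCat.of (LaurentPolynomial k)))
  (he : e.hom ≫ Spec.map (CommRingCat.ofHom (algebraMap k (LaurentPolynomial k))) = G.hom)

/-- The T-coordinate of a point. -/
noncomputable def tc {S : Over (Spec (CommRingCat.of k))} (g : S ⟶ G) : Γ(S.left, ⊤) :=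
  rg (g.left ≫ e.hom) (LaurentPolynomial.T 1)

include he in
theorem rg_C {S : Over (Spec (CommRingCat.of k))} (g : S ⟶ G) (a : k) :
    rg (g.left ≫ e.hom) (LaurentPolynomial.C a) = rg S.hom a := by
  have h := congrArg (fun r => r a) (rg_specMap (g.left ≫ e.hom) (algebraMap k (LaurentPolynomial k)))
  simp only [Category.assoc, he, Over.w, RingHom.comp_apply] at h
  rw [h, LaurentPolynomial.algebraMap_apply]
  simp

include he in
theorem tc_inj {S : Over (Spec (CommRingCat.of k))} {g h : S ⟶ G} (hgh : tc e g = tc e h) : g = h :=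
  Over.OverMorphism.ext ((cancel_mono e.hom).mp
    (rg_inj (laurent_hom_ext (fun a => by rw [rg_C e he, rg_C e he]) hgh)))

theorem tc_comp {S S' : Over (Spec (CommRingCat.of k))} (s : S' ⟶ S) (g : S ⟶ G) :
    tc e (s ≫ g) = s.left.appTop (tc e g) := rfl

theorem tc_isUnit {S : Over (Spec (CommRingCat.of k))} (g : S ⟶ G) : IsUnit (tc e g) :=
  (LaurentPolynomial.isUnit_T 1).map _

include he in
theorem exists_pt {S : Over (Spec (CommRingCat.of k))} {v : Γ(S.left, ⊤)} (hv : IsUnit v) :
    ∃ g : S ⟶ G, tc e g = v := by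
  let φ := LaurentPolynomial.eval₂ (rg S.hom) hv.unit
  refine ⟨Over.homMk (toSp φ ≫ e.inv) ?_, ?_⟩
  · rw [← he, Category.assoc, Iso.inv_hom_id_assoc]
    refine rg_inj ?_
    rw [rg_specMap, rg_toSp]
    ext a
    simp [φ, LaurentPolynomial.eval₂_C]
  · simp [tc, rg_toSp, φ]

end
/-- Over a field k, the only structure of algebraic group on the punctured affine line Spec k[T, T⁻¹]
with unit element the point T = 1 is the multiplicative group. Precisely: let G be a k-group scheme
and e an isomorphism of k-schemes from the underlying scheme of G to Spec k[T, T⁻¹] under which the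
unit section has T-coordinate 1; then for every k-scheme S and all S-valued points g, h of G, the
T-coordinate of g · h (the pull-back of the global function T along the point composed with e) is
the product of the T-coordinates of g and of h. -/
theorem result (k : Type u) [Field k]
    (G : Over (Spec (CommRingCat.of k))) [GrpObj G]
    (e : G.left ≅ Spec (CommRingCat.of (LaurentPolynomial k)))
    (he : e.hom ≫ Spec.map (CommRingCat.ofHom (algebraMap k (LaurentPolynomial k))) = G.hom)
    (hunit : ((η[G]).left ≫ e.hom).appTop.hom ((Scheme.ΓSpecIso (CommRingCat.of (LaurentPolynomial k))).inv.hom (LaurentPolynomial.T 1)) = 1)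
    (S : Over (Spec (CommRingCat.of k))) (g h : S ⟶ G) :
    ((g * h).left ≫ e.hom).appTop.hom ((Scheme.ΓSpecIso (CommRingCat.of (LaurentPolynomial k))).inv.hom (LaurentPolynomial.T 1)) =
      (g.left ≫ e.hom).appTop.hom ((Scheme.ΓSpecIso (CommRingCat.of (LaurentPolynomial k))).inv.hom (LaurentPolynomial.T 1)) * (h.left ≫ e.hom).appTop.hom ((Scheme.ΓSpecIso (CommRingCat.of (LaurentPolynomial k))).inv.hom (LaurentPolynomial.T 1)) := by
  change tc e (g * h) = tc e g * tc e h
  -- the universal pair of points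
  let S₀ : Over (Spec (CommRingCat.of k)) :=
    Over.mk (Spec.map (CommRingCat.ofHom (algebraMap k (LaurentPolynomial (LaurentPolynomial k)))))
  let j : (LaurentPolynomial (LaurentPolynomial k)) ≃+* Γ(S₀.left, ⊤) := (Scheme.ΓSpecIso (CommRingCat.of (LaurentPolynomial (LaurentPolynomial k)))).commRingCatIsoToRingEquiv.symm
  have hstr : ∀ a : k, rg S₀.hom a = j (LaurentPolynomial.C (LaurentPolynomial.C a)) := by
    intro a
    have h1 := congrArg (fun r => r a) (rg_specMap (𝟙 (Spec (CommRingCat.of (LaurentPolynomial (LaurentPolynomial k))))) (algebraMap k (LaurentPolynomial (LaurentPolynomial k))))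
    simp [rg, S₀, j] at h1 ⊢
    exact h1
  obtain ⟨g₀, hg₀⟩ := exists_pt e he (S := S₀)
    (((LaurentPolynomial.isUnit_T (R := k) 1).map (LaurentPolynomial.C (R := LaurentPolynomial k))).map j)
  obtain ⟨h₀, hh₀⟩ := exists_pt e he (S := S₀) ((LaurentPolynomial.isUnit_T (R := LaurentPolynomial k) 1).map j)
  -- the classifying morphism of a pair
  have key : ∀ (S : Over (Spec (CommRingCat.of k))) (x y : S ⟶ G),
      ∃ s : S ⟶ S₀, s ≫ g₀ = x ∧ s ≫ h₀ = y ∧
        s.left.appTop.hom.comp (j : (LaurentPolynomial (LaurentPolynomial k)) →+* Γ(S₀.left, ⊤)) =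
          LaurentPolynomial.eval₂ (LaurentPolynomial.eval₂ (rg S.hom) (tc_isUnit e x).unit)
            (tc_isUnit e y).unit := by
    intro S x y
    let φ := LaurentPolynomial.eval₂ (LaurentPolynomial.eval₂ (rg S.hom) (tc_isUnit e x).unit)
            (tc_isUnit e y).unit
    have hw : toSp φ ≫ S₀.hom = S.hom := by
      refine rg_inj ?_
      rw [show S₀.hom = Spec.map (CommRingCat.ofHom (algebraMap k (LaurentPolynomial (LaurentPolynomial k)))) from rfl, rg_specMap, rg_toSp]
      ext a
      simp [φ]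
    let s : S ⟶ S₀ := Over.homMk (toSp φ) hw
    have hcomp : s.left.appTop.hom.comp (j : (LaurentPolynomial (LaurentPolynomial k)) →+* Γ(S₀.left, ⊤)) = φ := by
      change rg (toSp φ) = φ
      exact rg_toSp φ
    have happ : ∀ b : (LaurentPolynomial (LaurentPolynomial k)), s.left.appTop (j b) = φ b := fun b => RingHom.congr_fun hcomp b
    refine ⟨s, tc_inj e he ?_, tc_inj e he ?_, hcomp⟩
    · rw [tc_comp, hg₀, happ]; simp [φ]
    · rw [tc_comp, hh₀, happ]; simp [φ]
  have hu := (tc_isUnit e (g₀ * h₀)).map j.symm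
  obtain ⟨a, n, han⟩ := exists_monomial hu
  have ha : IsUnit a := by
    have h1 := hu.map (LaurentPolynomial.eval₂ (RingHom.id (LaurentPolynomial k)) 1)
    simpa only [han, map_mul, LaurentPolynomial.eval₂_C, LaurentPolynomial.eval₂_T, one_zpow,
      Units.val_one, _root_.mul_one, RingHom.id_apply] using h1
  obtain ⟨c, m, hcm⟩ := exists_monomial ha
  have hval : ∀ (S : Over (Spec (CommRingCat.of k))) (x y : S ⟶ G),
      tc e (x * y) = rg S.hom c * ((tc_isUnit e x).unit ^ m : Γ(S.left, ⊤)ˣ) *
        ((tc_isUnit e y).unit ^ n : Γ(S.left, ⊤)ˣ) := by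
    intro S x y
    obtain ⟨s, hx, hy, hs⟩ := key S x y
    rw [show x * y = s ≫ (g₀ * h₀) by rw [MonObj.comp_mul, hx, hy], tc_comp,
      ← j.apply_symm_apply (tc e (g₀ * h₀)), han, hcm]
    rw [show ∀ b : (LaurentPolynomial (LaurentPolynomial k)), s.left.appTop (j b) = (s.left.appTop.hom.comp (j : (LaurentPolynomial (LaurentPolynomial k)) →+* Γ(S₀.left, ⊤))) b
      from fun _ => rfl, hs]
    simp only [map_mul, LaurentPolynomial.eval₂_C, LaurentPolynomial.eval₂_T]
  have hone : ∀ S : Over (Spec (CommRingCat.of k)), tc e (1 : S ⟶ G) = 1 := by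
    intro S
    rw [show (1 : S ⟶ G) = toUnit S ≫ η[G] from rfl, tc_comp]
    have : tc e η[G] = 1 := hunit
    rw [this, map_one]
  have hunit1 : ∀ S : Over (Spec (CommRingCat.of k)), (tc_isUnit e (1 : S ⟶ G)).unit = 1 :=
    fun S => Units.ext (by rw [IsUnit.unit_spec]; exact hone S)
  -- exponents and coefficient
  have h11 := hval S₀ 1 1
  rw [hunit1, one_zpow, one_zpow, Units.val_one, _root_.mul_one,
    _root_.mul_one, hone, hstr] at h11
  have hc : c = 1 := C_inj (C_inj
    (j.injective (by simpa using h11.symm)))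
  have hT : ∀ (z : Γ(S₀.left, ⊤)ˣ) (w : (LaurentPolynomial (LaurentPolynomial k))), (z : Γ(S₀.left, ⊤)) = j w → ∀ (wz : ℤ → (LaurentPolynomial (LaurentPolynomial k))),
      wz 0 = 1 → (∀ l, wz (l + 1) = wz l * w) → ∀ l : ℤ, ((z ^ l : Γ(S₀.left, ⊤)ˣ) : Γ(S₀.left, ⊤)) = j (wz l) := by
    intro z w hz wz h0 hs l
    induction l using Int.induction_on with
    | zero => simp [h0]
    | succ i hi => rw [zpow_add_one, Units.val_mul, hi, hz, hs, map_mul]
    | pred i hi =>
      rw [zpow_sub_one, Units.val_mul, hi, Units.mul_inv_eq_iff_eq_mul, hz, ← map_mul, ← hs,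
        sub_add_cancel]
  have hm : m = 1 := by
    have h1 := hval S₀ g₀ 1
    rw [_root_.mul_one, hunit1, one_zpow, Units.val_one, _root_.mul_one, hc, map_one,
      _root_.one_mul, hT _ _ (by rw [IsUnit.unit_spec, hg₀])
      (fun l => LaurentPolynomial.C (LaurentPolynomial.T l)) (by simp)
      (fun l => by rw [← map_mul, ← LaurentPolynomial.T_add]) m, hg₀] at h1
    have h2 := congrArg (fun p : LaurentPolynomial k => p.coeff m)
      (C_inj (j.injective h1))
    by_contra hne
    simp [LaurentPolynomial.T, Finsupp.single_apply, Ne.symm hne, -LaurentPolynomial.single_eq_C_mul_T] at h2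
  have hn : n = 1 := by
    have h1 := hval S₀ 1 h₀
    rw [_root_.one_mul, hunit1, one_zpow, Units.val_one, hc, map_one,
      _root_.one_mul, _root_.one_mul, hT _ _ (by rw [IsUnit.unit_spec, hh₀])
      (fun l => LaurentPolynomial.T l) (by simp)
      (fun l => by rw [← LaurentPolynomial.T_add]) n, hh₀] at h1
    have h2 := congrArg (fun p : LaurentPolynomial (LaurentPolynomial k) => p.coeff n) (j.injective h1)
    by_contra hne
    simp [LaurentPolynomial.T, Finsupp.single_apply, Ne.symm hne, -LaurentPolynomial.single_eq_C_mul_T] at h2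
  rw [hval S g h, hc, hm, hn, zpow_one, zpow_one, map_one, _root_.one_mul, IsUnit.unit_spec,
    IsUnit.unit_spec]

end Groth.Agent.S14637
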