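import Groth.Statements.S14639

import Mathlib.LinearAlgebra.Dual.Lemmas

set_option autoImplicit false
universe u
open Polynomial
open AlgGrp

namespace Groth.Agent.S14639


section
variable {k : Type u} [Field k] {N : ℕ}

/-- The class of the variable. -/
noncomputable abbrev uu (k : Type u) [Field k] (N : ℕ) : AdjoinRoot ((X : k[X]) ^ (N + 1)) :=
  AdjoinRoot.root _

theorem uu_pow : uu k N ^ (N + 1) = 0 := by
  have h := AdjoinRoot.aeval_eq (f := (X : k[X]) ^ (N + 1)) (X ^ (N + 1))
  rwa [AdjoinRoot.mk_self, map_pow, aeval_X] at h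

/-- The inverse of `1 + T u`, as a polynomial in `T`. -/
noncomputable def W (k : Type u) [Field k] (N : ℕ) : (AdjoinRoot ((X : k[X]) ^ (N + 1)))[X] :=
  ∑ i ∈ Finset.range (N + 1), (Polynomial.C (-uu k N) * Polynomial.X) ^ i

theorem W_eval (a : k) :
    (W k N).eval (algebraMap k _ a) * (1 + algebraMap k _ a * uu k N) = 1 := by
  rw [W, eval_finset_sum]
  simp only [eval_pow, eval_mul, eval_C, eval_X]
  have h := geom_sum_mul_neg (-uu k N * algebraMap k _ a) (N + 1)
  rw [mul_pow, neg_pow, uu_pow, mul_zero, zero_mul, sub_zero] at h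
  calc _ = (∑ i ∈ Finset.range (N + 1), (-uu k N * algebraMap k _ a) ^ i) *
        (1 - -uu k N * algebraMap k _ a) := by ring
    _ = 1 := h

theorem W_coeff_zero : (W k N).coeff 0 = 1 := by
  rw [W, finset_sum_coeff, Finset.sum_eq_single 0]
  · simp
  · intro i _ hi
    rw [mul_pow, ← C_pow, coeff_C_mul, coeff_X_pow, if_neg (Ne.symm hi), mul_zero]
  · simp

theorem u_mul_W_coeff_one : uu k N * (W k N).coeff 1 = -(uu k N) ^ 2 := by
  rw [W, finset_sum_coeff]
  rcases Nat.eq_zero_or_pos N with h | h
  · subst h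
    have h0 : uu k 0 = 0 := by simpa using uu_pow (k := k) (N := 0)
    simp [h0]
  rw [Finset.sum_eq_single 1]
  · rw [mul_pow, ← C_pow, coeff_C_mul, coeff_X_pow, if_pos rfl]; ring
  · intro i _ hi
    rw [mul_pow, ← C_pow, coeff_C_mul, coeff_X_pow, if_neg (Ne.symm hi), mul_zero]
  · intro hh; exfalso; apply hh; simp; omega

theorem pow_coeff {R : Type*} [CommRing R] (P : R[X]) (h : P.coeff 0 = 1) (j : ℕ) :
    (P ^ j).coeff 0 = 1 ∧ (P ^ j).coeff 1 = j * P.coeff 1 := by
  induction j with
  | zero => simp [coeff_one]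
  | succ j ih =>
    rw [pow_succ, mul_coeff_zero, mul_coeff_one, ih.1, ih.2, h]
    refine ⟨_root_.one_mul _, ?_⟩
    push_cast; ring

/-- The family of substitutions, applied to a polynomial. -/
noncomputable def fam (p : k[X]) : (AdjoinRoot ((X : k[X]) ^ (N + 1)))[X] :=
  aeval (Polynomial.C (uu k N) * W k N) p

theorem fam_coeff_one (p : k[X]) :
    (fam (N := N) p).coeff 1 = -(uu k N ^ 2 * aeval (uu k N) (derivative p)) := by
  induction p using Polynomial.induction_on' with
  | add p q hp hq => simp only [fam, map_add, coeff_add] at hp hq ⊢; rw [hp, hq]; ring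
  | monomial j c =>
    rw [fam, aeval_monomial, derivative_monomial, aeval_monomial, IsScalarTower.algebraMap_apply k
      (AdjoinRoot ((X : k[X]) ^ (N + 1))) (AdjoinRoot ((X : k[X]) ^ (N + 1)))[X],
      ← Polynomial.C_eq_algebraMap, mul_pow, ← C_pow, coeff_C_mul, coeff_C_mul,
      (pow_coeff _ W_coeff_zero j).2, map_mul, map_natCast]
    rcases j with _ | j
    · simp
    · simp only [Nat.add_sub_cancel]
      linear_combination (algebraMap k (AdjoinRoot ((X : k[X]) ^ (N + 1))) c * ((j + 1 : ℕ) : AdjoinRoot ((X : k[X]) ^ (N + 1))) * uu k N ^ j) * u_mul_W_coeff_one (k := k) (N := N)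

/-- A stable subalgebra is stable under `-u² d/du`. -/
theorem deriv_mem [CharZero k] (A : Subalgebra k (AdjoinRoot ((Polynomial.X : Polynomial k) ^ (N + 1))))
    (hA : ∀ (a : k) (σ : AdjoinRoot ((Polynomial.X : Polynomial k) ^ (N + 1)) →ₐ[k] AdjoinRoot ((Polynomial.X : Polynomial k) ^ (N + 1))),
      σ (AdjoinRoot.root ((Polynomial.X : Polynomial k) ^ (N + 1))) * (1 + algebraMap k (AdjoinRoot ((Polynomial.X : Polynomial k) ^ (N + 1))) a * AdjoinRoot.root ((Polynomial.X : Polynomial k) ^ (N + 1))) = AdjoinRoot.root ((Polynomial.X : Polynomial k) ^ (N + 1)) →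
        A.map σ ≤ A)
    (p : k[X]) (hp : aeval (uu k N) p ∈ A) :
    uu k N ^ 2 * aeval (uu k N) (derivative p) ∈ A := by
  have hev : ∀ a : k, (fam (N := N) p).eval (algebraMap k _ a) ∈ A := by
    intro a
    have hz : aeval (uu k N * (W k N).eval (algebraMap k _ a)) ((X : k[X]) ^ (N + 1)) = 0 := by
      rw [map_pow, aeval_X, mul_pow, uu_pow, zero_mul]
    let σ : AdjoinRoot ((X : k[X]) ^ (N + 1)) →ₐ[k] AdjoinRoot ((X : k[X]) ^ (N + 1)) :=
      AdjoinRoot.liftAlgHom _ (Algebra.ofId k _) _ hz
    have hσu : σ (uu k N) = uu k N * (W k N).eval (algebraMap k _ a) :=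
      AdjoinRoot.liftAlgHom_root _ _ _ hz
    have h1 := hA a σ (by
      show σ (uu k N) * _ = uu k N
      rw [hσu, mul_assoc, W_eval, _root_.mul_one]) ⟨_, hp, rfl⟩
    convert h1 using 1
    have h2 : σ (aeval (uu k N) p) = aeval (σ (uu k N)) p := (aeval_algHom_apply σ _ p).symm
    refine Eq.trans ?_ h2.symm
    rw [hσu, fam]
    have h3 := (aeval_algHom_apply
      ((Polynomial.aeval (R := AdjoinRoot ((X : k[X]) ^ (N + 1))) (algebraMap k (AdjoinRoot ((X : k[X]) ^ (N + 1))) a)).restrictScalars k)
      (Polynomial.C (uu k N) * W k N) p).symm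
    simpa using h3
  by_contra hne
  have hne' : (fam (N := N) p).coeff 1 ∉ Subalgebra.toSubmodule A := fun h => hne (by
    rw [fam_coeff_one] at h; simpa using A.neg_mem h)
  obtain ⟨φ, hφ, hφA⟩ := Submodule.exists_dual_map_eq_bot_of_notMem hne' inferInstance
  let Q : k[X] := ∑ i ∈ Finset.range ((fam (N := N) p).natDegree + 2),
    Polynomial.C (φ ((fam (N := N) p).coeff i)) * X ^ i
  haveI : Infinite k := Infinite.of_injective (Nat.cast : ℕ → k) Nat.cast_injective
  have hQ : Q = 0 := Polynomial.funext fun a => by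
    rw [eval_zero]
    have : Q.eval a = φ ((fam (N := N) p).eval (algebraMap k _ a)) := by
      conv_rhs => rw [eval_eq_sum_range' (p := fam (N := N) p) (n := (fam (N := N) p).natDegree + 2) (by omega), map_sum]
      simp only [Q, eval_finset_sum, eval_mul, eval_C, eval_pow, eval_X]
      refine Finset.sum_congr rfl fun i _ => ?_
      rw [← map_pow, _root_.mul_comm ((fam p).coeff i), ← Algebra.smul_def, map_smul, smul_eq_mul,
        _root_.mul_comm]
    rw [this]
    have hm : φ ((fam (N := N) p).eval (algebraMap k _ a)) ∈ (Subalgebra.toSubmodule A).map φ :=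
      Submodule.mem_map_of_mem (hev a)
    rwa [hφA, Submodule.mem_bot] at hm
  apply hφ
  have h1 := congrArg (fun r => r.coeff 1) hQ
  simp only [Q, finset_sum_coeff, coeff_C_mul, coeff_X_pow, coeff_zero] at h1
  rwa [Finset.sum_eq_single 1 (fun i _ hi => by rw [if_neg (Ne.symm hi), mul_zero]) (by simp),
    if_pos rfl, _root_.mul_one] at h1

end
/-- Classification of the subalgebras of a truncated polynomial ring that are stable under the unipotent
substitutions, which is the algebraic step behind the classification of curves almost homogeneous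
under the additive group in characteristic zero. Let k be a field of characteristic zero, N ≥ 0 and
R = k[u]/(u^(N+1)). The additive group acts on R through the substitutions u ↦ u/(1 + a u), a in k.
If A is a k-subalgebra of R stable under all these substitutions (stated for every k-algebra
endomorphism σ of R with σ(u)(1 + a u) = u for some a in k), then there is an integer n with 1 ≤ n ≤
N + 1 such that A = k ⊕ (u^n): as a k-subspace, A is the span of 1 plus the ideal generated by u^n.
(In positive characteristic p and for N ≥ p + 1, the subalgebra generated by u^p is stable and not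
of this form.) -/
theorem result (k : Type u) [Field k] [CharZero k]
    (N : ℕ) (A : Subalgebra k (AdjoinRoot ((Polynomial.X : Polynomial k) ^ (N + 1))))
    (hA : ∀ (a : k) (σ : AdjoinRoot ((Polynomial.X : Polynomial k) ^ (N + 1)) →ₐ[k] AdjoinRoot ((Polynomial.X : Polynomial k) ^ (N + 1))),
      σ (AdjoinRoot.root ((Polynomial.X : Polynomial k) ^ (N + 1))) * (1 + algebraMap k (AdjoinRoot ((Polynomial.X : Polynomial k) ^ (N + 1))) a * AdjoinRoot.root ((Polynomial.X : Polynomial k) ^ (N + 1))) = AdjoinRoot.root ((Polynomial.X : Polynomial k) ^ (N + 1)) →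
        A.map σ ≤ A) :
    ∃ n : ℕ, 1 ≤ n ∧ n ≤ N + 1 ∧
      Subalgebra.toSubmodule A =
        Submodule.span k {1} ⊔ (Ideal.span {AdjoinRoot.root ((Polynomial.X : Polynomial k) ^ (N + 1)) ^ n}).restrictScalars k := by
  classical
  set u := uu k N with hu
  show ∃ n : ℕ, 1 ≤ n ∧ n ≤ N + 1 ∧ _ = Submodule.span k {1} ⊔ (Ideal.span {u ^ n}).restrictScalars k
  -- exponents occurring in `A`
  let S : ℕ → Prop := fun m => 1 ≤ m ∧
    (m = N + 1 ∨ ∃ q : k[X], q.coeff 0 ≠ 0 ∧ u ^ m * aeval u q ∈ A)
  have hstep : ∀ m, S m → m ≤ N → S (m + 1) := by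
    rintro m ⟨hm, hm' | ⟨q, hq, hmem⟩⟩ hle
    · omega
    refine ⟨by omega, Or.inr ⟨(m : k[X]) * q + X * derivative q, ?_, ?_⟩⟩
    · simp [hq, show m ≠ 0 by omega]
    · have h1 := deriv_mem A hA (X ^ m * q) (by rw [map_mul, map_pow, aeval_X]; exact hmem)
      convert h1 using 1
      rw [derivative_mul, derivative_X_pow, ← hu]
      simp only [map_add, map_mul, map_pow, map_natCast, aeval_X]
      obtain ⟨m', rfl⟩ : ∃ m', m = m' + 1 := ⟨m - 1, by omega⟩
      simp only [Nat.add_sub_cancel]
      ring
  have hN : S (N + 1) := ⟨by omega, Or.inl rfl⟩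
  have hex : ∃ m, S m := ⟨_, hN⟩
  refine ⟨Nat.find hex, (Nat.find_spec hex).1, Nat.find_le hN, ?_⟩
  set n := Nat.find hex with hn
  have hall : ∀ j, n ≤ j → j ≤ N + 1 → S j := by
    intro j hj
    induction j, hj using Nat.le_induction with
    | base => exact fun _ => Nat.find_spec hex
    | succ j _ ih => exact fun hle => hstep j (ih (by omega)) (by omega)
  have hideal : ∀ d j, n ≤ j → j + d = N + 1 → ∀ r, u ^ j * r ∈ A := by
    intro d
    induction d with
    | zero =>
      intro j _ hjd r
      rw [show j = N + 1 by omega, hu, uu_pow, zero_mul]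
      exact A.zero_mem
    | succ d ih =>
      intro j hj hjd r
      obtain ⟨-, hj' | ⟨q, hq, hmem⟩⟩ := hall j hj (by omega)
      · omega
      have hnext := ih (j + 1) (by omega) (by omega)
      have hq' : aeval u q = u * aeval u q.divX + algebraMap k _ (q.coeff 0) := by
        conv_lhs => rw [← X_mul_divX_add q]
        rw [map_add, map_mul, aeval_X, aeval_C]
      have huj : u ^ j ∈ A := by
        have h1 : algebraMap k _ (q.coeff 0) * u ^ j ∈ A := by
          have h2 := A.sub_mem hmem (hnext (aeval u q.divX))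
          rwa [hq', mul_add, ← mul_assoc, ← pow_succ, add_sub_cancel_left, _root_.mul_comm] at h2
        rw [← Algebra.smul_def] at h1
        simpa [smul_smul, hq] using A.smul_mem h1 (q.coeff 0)⁻¹
      obtain ⟨p, rfl⟩ := AdjoinRoot.mk_surjective r
      rw [← AdjoinRoot.aeval_eq, ← X_mul_divX_add p]
      rw [map_add, map_mul, aeval_X, aeval_C, mul_add, ← mul_assoc, ← pow_succ,
        _root_.mul_comm (u ^ j), ← Algebra.smul_def]
      exact A.add_mem (hnext _) (A.smul_mem huj _)
  apply le_antisymm
  · intro f hf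
    obtain ⟨p, rfl⟩ := AdjoinRoot.mk_surjective f
    rw [Subalgebra.mem_toSubmodule, ← AdjoinRoot.aeval_eq] at hf
    rw [← AdjoinRoot.aeval_eq]
    have h1 : (algebraMap k _ (p.coeff 0)) ∈ Submodule.span k {(1 : AdjoinRoot ((X : k[X]) ^ (N + 1)))} :=
      Submodule.mem_span_singleton.mpr ⟨p.coeff 0, by rw [Algebra.algebraMap_eq_smul_one]⟩
    have hsplit : aeval u p = algebraMap k _ (p.coeff 0) + u * aeval u p.divX := by
      conv_lhs => rw [← X_mul_divX_add p]
      rw [map_add, map_mul, aeval_X, aeval_C]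
      exact add_comm _ _
    have hrest : u * aeval u p.divX ∈ A := by
      have h2 := A.sub_mem hf (A.algebraMap_mem (p.coeff 0))
      rwa [show aeval (AdjoinRoot.root _) p = _ from hsplit, add_sub_cancel_left] at h2
    rw [hsplit]
    refine Submodule.add_mem_sup h1 ?_
    rw [Submodule.restrictScalars_mem, Ideal.mem_span_singleton]
    by_cases h0 : X * p.divX = 0
    · have : u * aeval u p.divX = 0 := by simpa using congrArg (aeval u) h0
      rw [this]; exact dvd_zero _
    obtain ⟨q, hq, hnd⟩ := exists_eq_pow_rootMultiplicity_mul_and_not_dvd _ h0 0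
    rw [map_zero, sub_zero] at hq hnd
    set m := (X * p.divX).rootMultiplicity 0 with hm
    have heq : u * aeval u p.divX = u ^ m * aeval u q := by
      simpa using congrArg (aeval u) hq
    rw [X_dvd_iff] at hnd
    have hm1 : 1 ≤ m := by
      rw [hm, Nat.one_le_iff_ne_zero, ← Nat.pos_iff_ne_zero, rootMultiplicity_pos h0]
      simp
    rcases le_or_gt n m with hnm | hnm
    · rw [heq]; exact Dvd.dvd.mul_right (pow_dvd_pow u hnm) _
    · exact absurd ⟨hm1, Or.inr ⟨q, hnd, heq ▸ hrest⟩⟩ (Nat.find_min hex hnm)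
  · refine sup_le ?_ ?_
    · rw [Submodule.span_le, Set.singleton_subset_iff]
      exact A.one_mem
    · intro f hf
      rw [Submodule.restrictScalars_mem, Ideal.mem_span_singleton] at hf
      obtain ⟨r, rfl⟩ := hf
      exact hideal (N + 1 - n) n le_rfl (by have := Nat.find_le (h := hex) hN; omega) r

end Groth.Agent.S14639
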