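import Groth.Statements.S14640

import Groth.Agent.Lib.GrpSch.Basic
import Mathlib.AlgebraicGeometry.Morphisms.QuasiFinite

set_option autoImplicit false
universe u
open CategoryTheory MonoidalCategory CartesianMonoidalCategory MonObj GrpObj AlgebraicGeometry CategoryTheory.Limits
open AlgGrp

namespace Groth.Agent.S14640

open Groth.Agent.Lib

/-- A dominant morphism from a Noetherian scheme hits the generic point. -/
theorem exists_eq_genericPoint {A B : Scheme.{u}} (f : A ⟶ B) [CompactSpace ↥A] [IsLocallyNoetherian A]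
    [IrreducibleSpace ↥B] [IsDominant f] : ∃ a, f a = genericPoint ↥B := by
  haveI : IsNoetherian A := ⟨⟩
  have hfin : (irreducibleComponents ↥A).Finite := TopologicalSpace.NoetherianSpace.finite_irreducibleComponents
  have hcl : (Set.univ : Set ↥B) ⊆ ⋃ C ∈ irreducibleComponents ↥A, closure (f '' C) := by
    refine (f.denseRange.closure_range.symm.subset).trans (closure_minimal ?_ ?_)
    · rintro _ ⟨a, rfl⟩
      exact Set.mem_biUnion (irreducibleComponent_mem_irreducibleComponents a)
        (subset_closure ⟨a, mem_irreducibleComponent, rfl⟩)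
    · exact hfin.isClosed_biUnion fun C _ => isClosed_closure
  obtain ⟨C, hC, hgen⟩ : ∃ C ∈ irreducibleComponents ↥A, genericPoint ↥B ∈ closure (f '' C) := by
    obtain ⟨C, hC, h⟩ := Set.mem_iUnion₂.1 (hcl (Set.mem_univ (genericPoint ↥B)))
    exact ⟨C, hC, h⟩
  have hirr : IsIrreducible C := hC.1
  set c := hirr.genericPoint
  have hcC : closure {c} = closure C := (hirr.isGenericPoint_genericPoint_closure).def
  refine ⟨c, ?_⟩
  have h1 : f c ⤳ genericPoint ↥B := by
    rw [specializes_iff_mem_closure]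
    refine closure_minimal ?_ isClosed_closure hgen
    rintro _ ⟨x, hx, rfl⟩
    have : c ⤳ x := specializes_iff_mem_closure.2 (hcC ▸ subset_closure hx)
    exact specializes_iff_mem_closure.1 (this.map f.continuous)
  exact (h1.antisymm (genericPoint_specializes _)).eq

/-- The range of a base change. -/
theorem range_of_isPullback {P A B C : Scheme.{u}} {p : P ⟶ A} {q : P ⟶ B} {f : A ⟶ C} {g : B ⟶ C}
    (h : IsPullback p q f g) : Set.range p = f ⁻¹' Set.range g := by
  ext a
  constructor
  · rintro ⟨r, rfl⟩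
    exact ⟨q r, by rw [← Scheme.Hom.comp_apply, ← Scheme.Hom.comp_apply, h.w]⟩
  · rintro ⟨b, hb⟩
    obtain ⟨r, hr, -⟩ := Scheme.Pullback.exists_preimage_pullback a b hb.symm
    exact ⟨h.isoPullback.inv r, by rw [← Scheme.Hom.comp_apply, h.isoPullback_inv_fst, hr]⟩

/-- An open subset of a Jacobson space containing all closed points is everything. -/
theorem eq_univ_of_closed {A : Type u} [TopologicalSpace A] [JacobsonSpace A] {U : Set A} (hU : IsOpen U)
    (h : ∀ x : A, IsClosed {x} → x ∈ U) : U = Set.univ := by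
  rw [← Set.compl_empty_iff]
  by_contra hne
  obtain ⟨x, hx, hxc⟩ := nonempty_inter_closedPoints (Set.nonempty_iff_ne_empty.2 hne)
    hU.isClosed_compl.isLocallyClosed
  exact hx (h x hxc)

/-- A morphism from a reduced scheme lifts along an immersion containing its image. -/
theorem exists_lift_of_isReduced {W S T : Scheme.{u}} (e : W ⟶ S) [IsPreimmersion e] [IsReduced T]
    (φ : T ⟶ S) (h : Set.range φ ⊆ Set.range e) : ∃ g : T ⟶ W, g ≫ e = φ := by
  have hr : Set.range (pullback.snd e φ) = Set.univ := by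
    rw [Scheme.Pullback.range_snd]
    exact Set.eq_univ_of_forall fun t => h ⟨t, rfl⟩
  haveI : IsClosedImmersion (pullback.snd e φ) :=
    IsClosedImmersion.of_isPreimmersion _ (hr ▸ isClosed_univ)
  haveI : Surjective (pullback.snd e φ) := ⟨Set.range_eq_univ.1 hr⟩
  haveI : IsIso (pullback.snd e φ) := isIso_of_isClosedImmersion_of_surjective _
  refine ⟨inv (pullback.snd e φ) ≫ pullback.fst e φ, ?_⟩
  rw [Category.assoc, pullback.condition, IsIso.inv_hom_id_assoc]

section
variable {k : Type u} [Field k] {X : Over (Spec (CommRingCat.of k))}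

/-- The generic point of the fibre over a field valued point. -/
noncomputable def xi [GeometricallyIntegral X.hom] {T : Over (Spec (CommRingCat.of k))}
    [IsIntegral (T ⊗ X).left] (x : T ⟶ X) : ↥(X ⊗ X).left :=
  (x ▷ X).left (genericPoint ↥(T ⊗ X).left)

/-- The spectrum of the residue field at a point. -/
noncomputable abbrev pt (x : ↥X.left) : Over (Spec (CommRingCat.of k)) :=
  Over.mk (X.left.fromSpecResidueField x ≫ X.hom)

/-- The inclusion of a point. -/
noncomputable abbrev ptIncl (x : ↥X.left) : pt x ⟶ X := Over.homMk (X.left.fromSpecResidueField x) rfl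

instance isIntegral_pt (x : ↥X.left) : IsIntegral (pt x).left :=
  inferInstanceAs (IsIntegral (Spec (X.left.residueField x)))

instance isLocallyNoetherian_pt (x : ↥X.left) : IsLocallyNoetherian (pt x).left :=
  inferInstanceAs (IsLocallyNoetherian (Spec (X.left.residueField x)))

instance subsingleton_pt (x : ↥X.left) : Subsingleton ↥(pt x).left :=
  inferInstanceAs (Subsingleton (PrimeSpectrum (X.left.residueField x)))

instance nonempty_pt (x : ↥X.left) : Nonempty ↥(pt x).left :=
  inferInstanceAs (Nonempty (PrimeSpectrum (X.left.residueField x)))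

theorem ptIncl_apply (x : ↥X.left) (s : ↥(pt x).left) : (ptIncl x).left s = x := by
  have : (ptIncl x).left s ∈ Set.range (X.left.fromSpecResidueField x) := ⟨s, rfl⟩
  rw [Scheme.range_fromSpecResidueField] at this
  exact this

end

theorem isIntegral_tensor {k : Type u} [Field k] {X : Over (Spec (CommRingCat.of k))}
    [GeometricallyIntegral X.hom] [LocallyOfFiniteType X.hom]
    (T : Over (Spec (CommRingCat.of k))) [IsIntegral T.left] [IsLocallyNoetherian T.left] :
    IsIntegral (T ⊗ X).left := by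
  haveI : UniversallyOpen X.hom := inferInstance
  exact inferInstanceAs (IsIntegral (pullback T.hom X.hom))

variable {k : Type u} [Field k] {G G0 X : Over (Spec (CommRingCat.of k))} [GrpObj G] [GrpObj G0]
  [LocallyOfFiniteType G.hom] [LocallyOfFiniteType X.hom] [GeometricallyIntegral X.hom]

/-- If the graph of `G` hits the generic point of the fibre over `x`, so does the graph of `G°`. -/
theorem xi_mem_range (i : G0 ⟶ G) [IsMonHom i] [IsOpenImmersion i.left] (a : AlgGrp.Action G X)
    (a0 : AlgGrp.Action G0 X) (ha0 : a0.act = (i ▷ X) ≫ a.act) (x : ↥X.left)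
    [IsIntegral (pt x ⊗ X).left]
    (h : xi (ptIncl x) ∈ Set.range (lift (snd G X) a.act).left) :
    xi (ptIncl x) ∈ Set.range (lift (snd G0 X) a0.act).left := by
  haveI : JacobsonSpace ↥G.left := LocallyOfFiniteType.jacobsonSpace G.hom
  obtain ⟨z, hz⟩ := h
  -- a translate of `G°` by a closed point through the first coordinate of `z`
  let Ψ : ∀ c : ↥G.left, pt c ⊗ G0 ⟶ G := fun c => (ptIncl c ⊗ₘ i) ≫ μ[G]
  have hop : ∀ c : ↥G.left, IsClosed {c} → IsOpen (Set.range (Ψ c).left) := fun c hc => by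
    let σ : pt c ⊗ G ≅ pt c ⊗ G :=
      { hom := lift (fst _ _) ((fst _ _ ≫ ptIncl c) * snd _ _)
        inv := lift (fst _ _) ((fst _ _ ≫ ptIncl c)⁻¹ * snd _ _)
        hom_inv_id := by
          ext <;> simp [MonObj.comp_mul, GrpObj.comp_inv]
        inv_hom_id := by
          ext <;> simp [MonObj.comp_mul, GrpObj.comp_inv] }
    have e : Ψ c = (pt c ◁ i) ≫ σ.hom ≫ snd _ _ := by
      simp only [Ψ, σ, lift_snd, MonObj.comp_mul, whiskerLeft_fst_assoc, whiskerLeft_snd]
      rw [Hom.mul_def]
      congr 1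
    haveI : IsFinite (pt c).hom := by
      show IsFinite (G.left.fromSpecResidueField c ≫ G.hom)
      rw [isClosed_singleton_iff_isClosedImmersion] at hc
      rw [isFinite_iff_locallyOfFiniteType_of_jacobsonSpace]
      infer_instance
    haveI : UniversallyOpen (pt c).hom := inferInstance
    haveI : UniversallyOpen (snd (pt c) G).left := GrpSch.snd_left_of (P := @UniversallyOpen) G ‹_›
    haveI : IsOpenImmersion (pt c ◁ i).left :=
      GrpSch.whiskerLeft_left_of (P := @IsOpenImmersion) _ i ‹_›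
    haveI : IsIso σ.hom.left := ((Over.forget _).mapIso σ).isIso_hom
    have : IsOpenMap (Ψ c).left := by
      rw [e, Over.comp_left, Over.comp_left, Scheme.Hom.comp_base, Scheme.Hom.comp_base]
      exact ((snd (pt c) G).left.isOpenMap.comp σ.hom.left.homeomorph.isOpenMap).comp
        (pt c ◁ i).left.isOpenMap
    exact this.isOpen_range
  have hcov : (⋃ c ∈ {c : ↥G.left | IsClosed {c}}, Set.range (Ψ c).left) = Set.univ := by
    refine eq_univ_of_closed (isOpen_biUnion fun c hc => hop c hc) fun c hc =>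
      Set.mem_biUnion (x := c) hc ?_
    obtain ⟨s⟩ : Nonempty ↥(pt c).left := inferInstance
    refine ⟨(lift (𝟙 (pt c)) (1 : pt c ⟶ G0)).left s, ?_⟩
    rw [← Scheme.Hom.comp_apply, ← Over.comp_left, show lift (𝟙 (pt c)) (1 : pt c ⟶ G0) ≫ Ψ c = ptIncl c from by
      simp only [Ψ, lift_map_assoc, Category.id_comp, MonObj.one_comp]
      rw [← Hom.mul_def, _root_.mul_one]]
    exact ptIncl_apply c s
  obtain ⟨c, hc, p, hp⟩ := Set.mem_iUnion₂.1 (hcov.symm ▸ Set.mem_univ ((fst G X).left z))
  haveI : IsFinite (pt c).hom := by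
    show IsFinite (G.left.fromSpecResidueField c ≫ G.hom)
    have hc' : IsClosed {c} := hc
    rw [isClosed_singleton_iff_isClosedImmersion] at hc'
    rw [isFinite_iff_locallyOfFiniteType_of_jacobsonSpace]
    infer_instance
  -- lift `z` to `(S × G°) × X`
  obtain ⟨r, hr, -⟩ : ∃ r : ↥((pt c ⊗ G0) ⊗ X).left, (Ψ c ▷ X).left r = z ∧ True := by
    have hmem : z ∈ Set.range (Ψ c ▷ X).left := by
      rw [range_of_isPullback (GrpSch.isPullback_whiskerRight (Ψ c) X)]
      exact ⟨p, hp⟩
    obtain ⟨r, hr⟩ := hmem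
    exact ⟨r, hr, trivial⟩
  let gS : (pt c) ⊗ (X ⊗ X) ⟶ G := fst _ _ ≫ ptIncl c
  let θ : (pt c) ⊗ (X ⊗ X) ⟶ (pt c) ⊗ (X ⊗ X) :=
    lift (fst _ _) (lift (snd _ _ ≫ fst X X) (lift gS (snd _ _ ≫ snd X X) ≫ a.act))
  let θinv : (pt c) ⊗ (X ⊗ X) ⟶ (pt c) ⊗ (X ⊗ X) :=
    lift (fst _ _) (lift (snd _ _ ≫ fst X X) (lift gS⁻¹ (snd _ _ ≫ snd X X) ≫ a.act))
  have hθ : θ ≫ θinv = 𝟙 _ := by
    have h := GrpSch.act_inv_act a gS (snd (pt c) (X ⊗ X) ≫ snd X X)
    apply CartesianMonoidalCategory.hom_ext
    · simp [θ, θinv]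
    · apply CartesianMonoidalCategory.hom_ext
      · simp [θ, θinv]
      · simp [θ, θinv, gS, comp_lift_assoc, GrpObj.comp_inv] at h ⊢
        exact h
  let η0 : ((pt c) ⊗ G0) ⊗ X ⟶ (pt c) ⊗ (X ⊗ X) :=
    lift (fst _ _ ≫ fst _ _) ((snd (pt c) G0 ▷ X) ≫ lift (snd G0 X) a0.act)
  have hfac : η0 ≫ θ ≫ snd _ _ = (Ψ c ▷ X) ≫ lift (snd G X) a.act := by
    have h := GrpSch.act_mul a (fst ((pt c) ⊗ G0) X ≫ fst (pt c) G0 ≫ ptIncl c)
      (fst ((pt c) ⊗ G0) X ≫ snd (pt c) G0 ≫ i) (snd ((pt c) ⊗ G0) X)
    simp only [θ, lift_snd, comp_lift]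
    apply CartesianMonoidalCategory.hom_ext
    · simp [η0]
    · simp only [η0, gS, Ψ, comp_lift, lift_snd, lift_fst_assoc, lift_snd_assoc,
        Category.assoc, comp_lift_assoc, ha0]
      have e2 : (snd (pt c) G0 ▷ X) ≫ (i ▷ X) = lift (fst ((pt c) ⊗ G0) X ≫ snd (pt c) G0 ≫ i) (snd ((pt c) ⊗ G0) X) := by
        ext <;> simp
      have e3 : ((ptIncl c ⊗ₘ i) ≫ μ[G]) ▷ X = lift ((fst ((pt c) ⊗ G0) X ≫ fst (pt c) G0 ≫ ptIncl c) *
          (fst ((pt c) ⊗ G0) X ≫ snd (pt c) G0 ≫ i)) (snd ((pt c) ⊗ G0) X) := by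
        apply CartesianMonoidalCategory.hom_ext
        · rw [whiskerRight_fst, lift_fst, ← MonObj.comp_mul]
          congr 1
        · simp
      rw [reassoc_of% e2, e3, h]
  set u := η0.left r with hu
  set d := (snd (pt c) (X ⊗ X)).left u with hd
  have hθu : (snd (pt c) (X ⊗ X)).left (θ.left u) = xi (ptIncl x) := by
    rw [← hz, ← hr, hu, ← Scheme.Hom.comp_apply, ← Scheme.Hom.comp_apply, ← Over.comp_left,
      ← Over.comp_left, hfac, Over.comp_left, Scheme.Hom.comp_apply]
  have hd0 : d ∈ Set.range (lift (snd G0 X) a0.act).left := by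
    refine ⟨(snd (pt c) G0 ▷ X).left r, ?_⟩
    rw [hd, hu, ← Scheme.Hom.comp_apply, ← Scheme.Hom.comp_apply, ← Over.comp_left, ← Over.comp_left]
    simp [η0]
  -- points of the fibre over `x` are specializations of its generic point
  have hfst : ∀ e, (fst X X).left ((ptIncl x ▷ X).left e) = x := fun e => by
    rw [← Scheme.Hom.comp_apply, ← Over.comp_left, whiskerRight_fst, Over.comp_left, Scheme.Hom.comp_apply]
    exact ptIncl_apply x _
  have hfib : ∀ e, (fst X X).left e = x → xi (ptIncl x) ⤳ e := fun e he => by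
    have hmem : e ∈ Set.range (ptIncl x ▷ X).left := by
      rw [range_of_isPullback (GrpSch.isPullback_whiskerRight (ptIncl x) X)]
      show (fst X X).left e ∈ Set.range (X.left.fromSpecResidueField x)
      rw [Scheme.range_fromSpecResidueField]
      exact he
    obtain ⟨e', rfl⟩ := hmem
    exact (genericPoint_specializes e').map (ptIncl x ▷ X).left.continuous
  have hpres : ∀ w, (fst X X).left ((snd (pt c) (X ⊗ X)).left (θ.left w)) =
      (fst X X).left ((snd (pt c) (X ⊗ X)).left w) := fun w => by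
    simp only [← Scheme.Hom.comp_apply, ← Over.comp_left]
    simp [θ]
  have hdx : (fst X X).left d = x := by
    rw [hd, ← hpres, hθu]; exact hfst _
  haveI : LocallyQuasiFinite (pt c).hom := inferInstance
  haveI : Flat (pt c).hom := inferInstance
  haveI : Flat (snd (pt c) (X ⊗ X)).left := GrpSch.snd_left_of (P := @Flat) _ ‹_›
  haveI : LocallyQuasiFinite (snd (pt c) (X ⊗ X)).left :=
    GrpSch.snd_left_of (P := @LocallyQuasiFinite) _ ‹_›
  obtain ⟨u', hu'u, hu'⟩ := Flat.generalizingMap (snd (pt c) (X ⊗ X)).left (hfib d hdx)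
  have h1 : (snd (pt c) (X ⊗ X)).left (θ.left u') = xi (ptIncl x) := by
    have ha : (snd (pt c) (X ⊗ X)).left (θ.left u') ⤳ xi (ptIncl x) := by
      rw [← hθu]
      exact (hu'u.map θ.left.continuous).map (snd (pt c) (X ⊗ X)).left.continuous
    refine (ha.antisymm (hfib _ ?_)).eq
    rw [hpres, hu']
    exact hfst _
  have h2 : θ.left u' = θ.left u := by
    have hdisc := (snd (pt c) (X ⊗ X)).left.isDiscrete_preimage_singleton (xi (ptIncl x))
    have := hdisc.to_subtype
    exact congrArg Subtype.val ((Topology.IsInducing.subtypeVal.specializes_iff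
      (x := (⟨θ.left u', h1⟩ : (snd (pt c) (X ⊗ X)).left ⁻¹' {xi (ptIncl x)}))
      (y := ⟨θ.left u, hθu⟩)).1 (hu'u.map θ.left.continuous)).eq
  have h3 : u' = u := by
    have hi : ∀ w, θinv.left (θ.left w) = w := fun w => by
      rw [← Scheme.Hom.comp_apply, ← Over.comp_left, hθ]; rfl
    rw [← hi u', h2, hi u]
  rw [← hu', h3]
  exact hd0

/-- If the graph hits all generic points of fibres, it is surjective. -/
theorem surjective_of_xi (a0 : AlgGrp.Action G0 X)
    (h : ∀ (x : ↥X.left) [IsIntegral (pt x ⊗ X).left], xi (ptIncl x) ∈ Set.range (lift (snd G0 X) a0.act).left) :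
    Surjective (lift (snd G0 X) a0.act).left := by
  set Γ := lift (snd G0 X) a0.act with hΓ
  refine ⟨fun z => ?_⟩
  haveI := isIntegral_tensor (X := X) (pt z)
  set w := genericPoint ↥(pt z ⊗ X).left with hw
  have key : ∀ pr : X ⊗ X ⟶ X, ((ptIncl z ≫ pr) ▷ X).left w ∈ Set.range Γ.left := by
    intro pr
    let s : ↥(pt z).left := Classical.arbitrary _
    let y := (ptIncl z ≫ pr).left s
    haveI := isIntegral_tensor (X := X) (pt y)
    haveI : Subsingleton ↥(pt z).left := inferInstanceAs (Subsingleton (PrimeSpectrum _))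
    obtain ⟨ρ, hρ⟩ : ∃ ρ : pt z ⟶ pt y, ρ ≫ ptIncl y = ptIncl z ≫ pr := by
      obtain ⟨ρ, hρ⟩ := exists_lift_of_isReduced (X.left.fromSpecResidueField y)
        (ptIncl z ≫ pr).left (by
          rintro _ ⟨s', rfl⟩
          rw [Scheme.range_fromSpecResidueField, Subsingleton.elim s' s]
          rfl)
      exact ⟨Over.homMk ρ (by
        show ρ ≫ X.left.fromSpecResidueField y ≫ X.hom = _
        rw [reassoc_of% hρ, Over.w]), Over.OverMorphism.ext hρ⟩
    haveI : Subsingleton ↥(pt y).left := inferInstanceAs (Subsingleton (PrimeSpectrum _))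
    haveI : Flat ρ.left := inferInstance
    haveI : Surjective ρ.left := ⟨fun t => ⟨s, Subsingleton.elim _ _⟩⟩
    haveI : Surjective (ρ ▷ X).left := GrpSch.whiskerRight_left_of (P := @Surjective) ρ X ‹_›
    have hgen : (ρ ▷ X).left w = genericPoint ↥(pt y ⊗ X).left := by
      refine ((genericPoint_spec _).eq ?_).symm
      have := (genericPoint_spec ↥(pt z ⊗ X).left).image (ρ ▷ X).left.continuous
      rwa [Set.image_univ, (ρ ▷ X).left.surjective.range_eq, closure_univ] at this
    rw [← hρ, MonoidalCategory.comp_whiskerRight, Over.comp_left, Scheme.Hom.comp_apply, hgen]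
    exact h y
  obtain ⟨p, hp⟩ := key (fst X X)
  obtain ⟨q, hq⟩ := key (snd X X)
  set jx := ((ptIncl z ≫ fst X X) ▷ X).left with hjx
  set jy := ((ptIncl z ≫ snd X X) ▷ X).left with hjy
  obtain ⟨r, -, hr⟩ := Scheme.Pullback.exists_preimage_pullback (f := Γ.left) (g := jx) p w hp
  obtain ⟨t, -, ht⟩ := Scheme.Pullback.exists_preimage_pullback (f := Γ.left)
    (g := pullback.snd Γ.left jx ≫ jy) q r (by rw [Scheme.Hom.comp_apply, hr]; exact hq)
  let Q : Over (Spec (CommRingCat.of k)) :=
    Over.mk (pullback.snd Γ.left (pullback.snd Γ.left jx ≫ jy) ≫ pullback.snd Γ.left jx ≫ (pt z ⊗ X).hom)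
  let π : Q ⟶ pt z ⊗ X :=
    Over.homMk (pullback.snd Γ.left (pullback.snd Γ.left jx ≫ jy) ≫ pullback.snd Γ.left jx) (Category.assoc _ _ _)
  let A : Q ⟶ G0 ⊗ X :=
    Over.homMk (pullback.snd Γ.left (pullback.snd Γ.left jx ≫ jy) ≫ pullback.fst Γ.left jx) (by
      refine (Category.assoc _ _ _).trans (congrArg (_ ≫ ·) ?_)
      calc pullback.fst Γ.left jx ≫ (G0 ⊗ X).hom = pullback.fst Γ.left jx ≫ Γ.left ≫ (X ⊗ X).hom :=
            congrArg (_ ≫ ·) (Over.w Γ).symm
        _ = pullback.snd Γ.left jx ≫ jx ≫ (X ⊗ X).hom := pullback.condition_assoc _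
        _ = _ := congrArg (_ ≫ ·) (Over.w _))
  let B : Q ⟶ G0 ⊗ X :=
    Over.homMk (pullback.fst Γ.left (pullback.snd Γ.left jx ≫ jy)) (by
      show _ ≫ (G0 ⊗ X).hom = Q.hom
      calc pullback.fst Γ.left (pullback.snd Γ.left jx ≫ jy) ≫ (G0 ⊗ X).hom
          = pullback.fst Γ.left (pullback.snd Γ.left jx ≫ jy) ≫ Γ.left ≫ (X ⊗ X).hom :=
            congrArg (_ ≫ ·) (Over.w Γ).symm
        _ = pullback.snd Γ.left (pullback.snd Γ.left jx ≫ jy) ≫ (pullback.snd Γ.left jx ≫ jy) ≫ (X ⊗ X).hom :=
            pullback.condition_assoc _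
        _ = _ := congrArg (_ ≫ ·) ((Category.assoc _ _ _).trans (congrArg (_ ≫ ·) (Over.w _))))
  have hA : A ≫ Γ = π ≫ ((ptIncl z ≫ fst X X) ▷ X) := by
    refine Over.OverMorphism.ext ?_
    show (_ ≫ pullback.fst Γ.left jx) ≫ Γ.left = (_ ≫ _) ≫ jx
    rw [Category.assoc, Category.assoc, pullback.condition]
  have hB : B ≫ Γ = π ≫ ((ptIncl z ≫ snd X X) ▷ X) := by
    refine Over.OverMorphism.ext ?_
    show pullback.fst Γ.left _ ≫ Γ.left = (_ ≫ _) ≫ jy
    rw [Category.assoc, pullback.condition]
  have hA1 := congrArg (· ≫ fst X X) hA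
  have hA2 := congrArg (· ≫ snd X X) hA
  have hB1 := congrArg (· ≫ fst X X) hB
  have hB2 := congrArg (· ≫ snd X X) hB
  simp only [hΓ, Category.assoc, lift_fst, lift_snd, whiskerRight_fst, whiskerRight_snd] at hA1 hA2 hB1 hB2
  set ga := A ≫ fst G0 X
  set gb := B ≫ fst G0 X
  set x' := π ≫ fst (pt z) X ≫ ptIncl z ≫ fst X X
  set y' := π ≫ fst (pt z) X ≫ ptIncl z ≫ snd X X
  have hAl : A = lift ga x' := by ext <;> simp [ga, x', hA1]
  have hBl : B = lift gb y' := by ext <;> simp [gb, y', hB1]
  have hxy : lift (gb⁻¹ * ga) x' ≫ a0.act = y' := by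
    rw [GrpSch.act_mul, ← hAl, hA2, ← hB2, hBl, GrpSch.act_inv_act]
  have hz : lift (gb⁻¹ * ga) x' ≫ Γ = π ≫ fst (pt z) X ≫ ptIncl z := by
    apply CartesianMonoidalCategory.hom_ext <;> simp [hΓ, hxy, x', y']
  refine ⟨(lift (gb⁻¹ * ga) x').left t, ?_⟩
  rw [← Scheme.Hom.comp_apply, ← Over.comp_left, hz, ← Category.assoc, Over.comp_left, Scheme.Hom.comp_apply]
  exact ptIncl_apply z _

/-- Over a field k, let G be a smooth k-group scheme of finite type acting on a variety X (a separated,
geometrically integral k-scheme of finite type), and let i : G° → G be its identity component: a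
homomorphism which is an open immersion from a connected k-group scheme whose image is the connected
component of the unit element of G. Let G° act on X through i. Then X is homogeneous under G (the
graph morphism G × X → X × X, (g, x) ↦ (x, g·x), is surjective) if and only if it is homogeneous
under G°, and X is almost homogeneous under G (the graph morphism is dominant) if and only if it is
almost homogeneous under G°. -/
theorem result (k : Type u) [Field k]
    (G G0 X : Over (Spec (CommRingCat.of k))) [GrpObj G] [Smooth G.hom] [QuasiCompact G.hom]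
    [GrpObj G0] (i : G0 ⟶ G) [IsMonHom i] [IsOpenImmersion i.left] [ConnectedSpace ↥G0.left]
    (hi : Set.range i.left.base = connectedComponent ((η[G]).left.base (IsLocalRing.closedPoint k)))
    [IsSeparated X.hom] [LocallyOfFiniteType X.hom] [QuasiCompact X.hom] [GeometricallyIntegral X.hom]
    (a : AlgGrp.Action G X) (a0 : AlgGrp.Action G0 X) (ha0 : a0.act = (i ▷ X) ≫ a.act) :
    (Surjective (CartesianMonoidalCategory.lift (CartesianMonoidalCategory.snd G X) a.act).left ↔
      Surjective (CartesianMonoidalCategory.lift (CartesianMonoidalCategory.snd G0 X) a0.act).left) ∧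
    (IsDominant (CartesianMonoidalCategory.lift (CartesianMonoidalCategory.snd G X) a.act).left ↔
      IsDominant (CartesianMonoidalCategory.lift (CartesianMonoidalCategory.snd G0 X) a0.act).left) := by

  haveI : LocallyOfFiniteType G0.hom := by rw [← Over.w i]; infer_instance
  haveI : IsIntegral X.left := GeometricallyIntegral.isIntegral_of_subsingleton X.hom
  haveI : IsLocallyNoetherian X.left := LocallyOfFiniteType.isLocallyNoetherian X.hom
  haveI := isIntegral_tensor (X := X) X
  have hfac : lift (snd G0 X) a0.act = (i ▷ X) ≫ lift (snd G X) a.act := by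
    apply CartesianMonoidalCategory.hom_ext <;> simp [ha0]
  have hsub : Set.range (lift (snd G0 X) a0.act).left ⊆ Set.range (lift (snd G X) a.act).left := by
    rintro _ ⟨w, rfl⟩
    exact ⟨(i ▷ X).left w, by rw [← Scheme.Hom.comp_apply, ← Over.comp_left, hfac]⟩
  refine ⟨⟨fun hG => surjective_of_xi a0 fun x _ =>
    xi_mem_range i a a0 ha0 x (hG.surj _), fun h0 => ⟨fun z => hsub (h0.surj z)⟩⟩,
    ⟨fun hG => ?_, fun h0 => ⟨h0.1.mono hsub⟩⟩⟩
  haveI : QuasiCompact (G ⊗ X).hom := by
    rw [← Over.w (snd G X)]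
    exact MorphismProperty.comp_mem _ _ _ (GrpSch.snd_left_of (P := @QuasiCompact) X ‹_›) ‹_›
  haveI : LocallyOfFiniteType (G ⊗ X).hom := by
    rw [← Over.w (snd G X)]
    exact MorphismProperty.comp_mem _ _ _ (GrpSch.snd_left_of (P := @LocallyOfFiniteType) X inferInstance) ‹_›
  haveI : IsLocallyNoetherian (G ⊗ X).left := LocallyOfFiniteType.isLocallyNoetherian (G ⊗ X).hom
  haveI : CompactSpace ↥(G ⊗ X).left := QuasiCompact.compactSpace_of_compactSpace (G ⊗ X).hom
  obtain ⟨p, hp⟩ := exists_eq_genericPoint (lift (snd G X) a.act).left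
  set eta := genericPoint ↥X.left with heta
  haveI := isIntegral_tensor (X := X) (pt eta)
  have hxi : xi (ptIncl eta) = genericPoint ↥(X ⊗ X).left := by
    have he : (fst X X).left (genericPoint ↥(X ⊗ X).left) = eta := by
      have hd : eta ⤳ (fst X X).left (genericPoint ↥(X ⊗ X).left) := genericPoint_specializes _
      obtain ⟨q, hq⟩ := (GrpSch.fst_left_of (P := @Surjective) X (Y := X) inferInstance).surj eta
      have := (genericPoint_specializes q).map (fst X X).left.continuous
      rw [hq] at this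
      exact (this.antisymm hd).eq
    have hmem : genericPoint ↥(X ⊗ X).left ∈ Set.range (ptIncl eta ▷ X).left := by
      rw [range_of_isPullback (GrpSch.isPullback_whiskerRight (ptIncl eta) X)]
      show (fst X X).left _ ∈ Set.range (X.left.fromSpecResidueField eta)
      rw [Scheme.range_fromSpecResidueField]
      exact he
    obtain ⟨e, he'⟩ := hmem
    refine (Specializes.antisymm ?_ (genericPoint_specializes _)).eq
    rw [← he']
    exact (genericPoint_specializes e).map (ptIncl eta ▷ X).left.continuous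
  obtain ⟨q, hq⟩ := xi_mem_range i a a0 ha0 eta ⟨p, hp.trans hxi.symm⟩
  refine ⟨dense_iff_closure_eq.2 (Set.eq_univ_of_univ_subset ?_)⟩
  rw [← (genericPoint_spec ↥(X ⊗ X).left).def]
  exact closure_mono (Set.singleton_subset_iff.2 ⟨q, hq.trans hxi⟩)


end Groth.Agent.S14640
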