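import Groth.Statements.S14641

import Groth.Agent.Lib.GrpSch.Basic

set_option autoImplicit false
universe u
open CategoryTheory MonoidalCategory CartesianMonoidalCategory MonObj GrpObj AlgebraicGeometry CategoryTheory.Limits
open AlgGrp

open Groth.Agent.Lib.GrpSch

namespace Groth.Agent.S14641

theorem inv_inv' {S : Scheme.{u}} {T G : Over S} [GrpObj G] (g : T ⟶ G) : g⁻¹⁻¹ = g := _root_.inv_inv g

theorem exists_core {S : Scheme.{u}} {G H Q N : Over S} [GrpObj G] [GrpObj H] (i : H ⟶ G)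
    (a : AlgGrp.Action G Q) (o : 𝟙_ (Over S) ⟶ Q) (sq : IsPullback (fst G H) ((G ◁ i) ≫ μ[G]) (a.orbitMap o) (a.orbitMap o))
    (cov : ∀ (T : Over S) (x : T ⟶ Q), ∃ (T' : Over S) (c : T' ⟶ T) (_ : Epi c) (g : T' ⟶ G), g ≫ a.orbitMap o = c ≫ x)
    [GrpObj N] (n : N ⟶ G)
    (hN : ∀ (T : Over S) (g : T ⟶ G),
      (∃ m : T ⟶ N, m ≫ n = g) ↔
        ∀ (T' : Over S) (s : T' ⟶ T) (x : T' ⟶ Q), CartesianMonoidalCategory.lift (s ≫ g) x ≫ a.act = x) :
    AlgGrp.IsNormalHom n ∧ (∃ f : N ⟶ H, f ≫ i = n) ∧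
      ∀ (N' : Over S) [GrpObj N'] (n' : N' ⟶ G),
        AlgGrp.IsNormalHom n' → (∃ f : N' ⟶ H, f ≫ i = n') → ∃ f' : N' ⟶ N, f' ≫ n = n' := by
  have act1 : ∀ {T : Over S} (m : T ⟶ N) (x : T ⟶ Q), lift (m ≫ n) x ≫ a.act = x := fun {T} m x => by
    simpa using (hN T (m ≫ n)).1 ⟨m, rfl⟩ T (𝟙 T) x
  have fixH : ∀ {T : Over S} (h : T ⟶ H), lift (h ≫ i) (toUnit T ≫ o) ≫ a.act = toUnit T ≫ o := fun {T} h => by
    have h1 := congrArg (lift (1 : T ⟶ G) h ≫ ·) sq.w
    simp only [Category.assoc, lift_fst_assoc, lift_whiskerLeft_assoc] at h1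
    rw [← Category.assoc, ← Hom.mul_def, _root_.one_mul, comp_orbit, comp_orbit, act_one] at h1
    exact h1.symm
  refine ⟨fun T g m => ?_, ?_, fun N' _ n' hn' ⟨f, hf⟩ => ?_⟩
  · obtain ⟨m', hm'⟩ := (hN T (g * (m ≫ n) * g⁻¹)).2 fun T' s x => by
      rw [MonObj.comp_mul, MonObj.comp_mul, GrpObj.comp_inv, act_mul, act_mul, ← Category.assoc, act1,
        act_act_inv]
    exact ⟨m', hm'.symm⟩
  · have hw : (1 : N ⟶ G) ≫ a.orbitMap o = n ≫ a.orbitMap o := by
      rw [comp_orbit, comp_orbit, act_one]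
      exact (by simpa using act1 (𝟙 N) (toUnit N ≫ o) : lift n (toUnit N ≫ o) ≫ a.act = toUnit N ≫ o).symm
    refine ⟨sq.lift 1 n hw ≫ snd G H, ?_⟩
    have h1 := sq.lift_fst 1 n hw
    have h2 := sq.lift_snd 1 n hw
    generalize sq.lift 1 n hw = l at h1 h2 ⊢
    rw [show (G ◁ i) ≫ μ[G] = fst G H * (snd G H ≫ i) by rw [Hom.mul_def]; congr 1,
      MonObj.comp_mul, h1, _root_.one_mul, ← Category.assoc] at h2
    exact h2
  · refine (hN N' n').2 fun T' s x => ?_
    obtain ⟨T'', c, hc, g, hg⟩ := cov T' x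
    rw [← cancel_epi c, comp_lift_assoc, ← hg, comp_orbit]
    obtain ⟨m, hm⟩ := hn' T'' g⁻¹ (c ≫ s)
    rw [inv_inv'] at hm
    have h3 : (c ≫ s ≫ n') * g = g * (m ≫ n') := by
      rw [← hm]; simp [← _root_.mul_assoc]
    rw [← act_mul, h3, act_mul, ← hf, ← Category.assoc m f i, fixH]

/-- Over a field k, let G be a k-group scheme of finite type, i : H → G a closed subgroup scheme, and
(Q, o) the quotient G/H: a k-scheme with a G-action and a rational point o exhibiting it as the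
quotient (orbit map flat and surjective, G × H ≅ G ×_Q G). Let n : N → G be a closed subgroup scheme
which is the kernel of the action of G on Q, i.e. for every k-scheme T, a T-point g of G factors
through N exactly when g acts as the identity on Q_T (on all points of Q over T-schemes). Then N is
normal in G and contained in H, and N is the largest such subgroup: every closed subgroup scheme N'
of G which is normal in G and factors through H factors through N. -/
theorem result (k : Type u) [Field k]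
    (G H Q N : Over (Spec (CommRingCat.of k))) [GrpObj G] [LocallyOfFiniteType G.hom] [QuasiCompact G.hom]
    [GrpObj H] (i : H ⟶ G) [IsMonHom i] [IsClosedImmersion i.left]
    (a : AlgGrp.Action G Q) (o : 𝟙_ (Over (Spec (CommRingCat.of k))) ⟶ Q) (hQ : AGF.IsQuotient i Q a o)
    [GrpObj N] (n : N ⟶ G) [IsMonHom n] [IsClosedImmersion n.left]
    (hN : ∀ (T : Over (Spec (CommRingCat.of k))) (g : T ⟶ G),
      (∃ m : T ⟶ N, m ≫ n = g) ↔
        ∀ (T' : Over (Spec (CommRingCat.of k))) (s : T' ⟶ T) (x : T' ⟶ Q),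
          CartesianMonoidalCategory.lift (s ≫ g) x ≫ a.act = x) :
    AlgGrp.IsNormalHom n ∧ (∃ f : N ⟶ H, f ≫ i = n) ∧
      ∀ (N' : Over (Spec (CommRingCat.of k))) [GrpObj N'] (n' : N' ⟶ G) [IsMonHom n'] [IsClosedImmersion n'.left],
        AlgGrp.IsNormalHom n' → (∃ f : N' ⟶ H, f ≫ i = n') → ∃ f' : N' ⟶ N, f' ≫ n = n' := by
  obtain ⟨-, hflat, hsurj, sq⟩ := hQ
  haveI := hflat
  haveI := hsurj
  refine ⟨(exists_core i a o sq ?_ n hN).1, (exists_core i a o sq ?_ n hN).2.1, fun N' _ n' _ _ hn' hf =>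
    (exists_core i a o sq ?_ n hN).2.2 N' n' hn' hf⟩
  all_goals
    intro T x
    let T' : Over (Spec (CommRingCat.of k)) := Over.mk (Limits.pullback.fst x.left (a.orbitMap o).left ≫ T.hom)
    let c : T' ⟶ T := Over.homMk (Limits.pullback.fst _ _)
    haveI : Epi c.left := Flat.epi_of_flat_of_surjective (Limits.pullback.fst x.left (a.orbitMap o).left)
    refine ⟨T', c, (Over.forget _).epi_of_epi_map (f := c) ‹_›, Over.homMk (Limits.pullback.snd _ _) ?_,
      Over.OverMorphism.ext Limits.pullback.condition.symm⟩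
    change _ = Limits.pullback.fst x.left (a.orbitMap o).left ≫ T.hom
    rw [← Over.w x, ← Over.w (a.orbitMap o), Limits.pullback.condition_assoc]

end Groth.Agent.S14641
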