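import Groth.Statements.S14643

import Groth.Agent.Lib.GrpSch.Basic
import Mathlib.AlgebraicGeometry.Sites.Fpqc

set_option autoImplicit false
universe u
open CategoryTheory MonoidalCategory CartesianMonoidalCategory MonObj GrpObj AlgebraicGeometry CategoryTheory.Limits
open AlgGrp

open Groth.Agent.Lib.GrpSch

namespace Groth.Agent.S14643

theorem flat_surjective_epi {S : Scheme.{u}} {A B : Over S} (f : A ⟶ B) [Flat f.left] [Surjective f.left] : Epi f :=
  haveI : Epi f.left := Flat.epi_of_flat_of_surjective f.left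
  Over.epi_of_epi_left f

/-- Over a field k, let G be a smooth k-group scheme of finite type acting on a variety X (a separated,
geometrically integral k-scheme of finite type). Let n : N → G be the kernel of the action: a closed
subgroup scheme such that, for every k-scheme T, a T-point of G factors through N exactly when it
acts as the identity on all points of X over T-schemes. Let π : G → Q be a homomorphism onto a
k-group scheme of finite type which is flat and surjective with kernel N (the quotient G/N). Then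
there is a unique action of Q on X inducing the given one along π; this action of Q is faithful (a
T-point of Q acting as the identity on all points of X over T-schemes is the unit); and X is
homogeneous under G (surjective graph morphism (g, x) ↦ (x, g·x)) if and only if it is homogeneous
under Q, and almost homogeneous under G (dominant graph morphism) if and only if it is almost
homogeneous under Q. -/
theorem result (k : Type u) [Field k]
    (G N Q X : Over (Spec (CommRingCat.of k))) [GrpObj G] [Smooth G.hom] [QuasiCompact G.hom]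
    [IsSeparated X.hom] [LocallyOfFiniteType X.hom] [QuasiCompact X.hom] [GeometricallyIntegral X.hom] (a : AlgGrp.Action G X)
    [GrpObj N] (n : N ⟶ G) [IsMonHom n] [IsClosedImmersion n.left]
    (hN : ∀ (T : Over (Spec (CommRingCat.of k))) (g : T ⟶ G),
      (∃ m : T ⟶ N, m ≫ n = g) ↔
        ∀ (T' : Over (Spec (CommRingCat.of k))) (s : T' ⟶ T) (x : T' ⟶ X), CartesianMonoidalCategory.lift (s ≫ g) x ≫ a.act = x)
    [GrpObj Q] [LocallyOfFiniteType Q.hom] [QuasiCompact Q.hom] (π : G ⟶ Q) [IsMonHom π] [Flat π.left] [Surjective π.left]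
    (hker : AlgGrp.IsKernel n π) :
    (∃! b : AlgGrp.Action Q X, (π ▷ X) ≫ b.act = a.act) ∧
    ∀ b : AlgGrp.Action Q X, (π ▷ X) ≫ b.act = a.act →
      (∀ (T : Over (Spec (CommRingCat.of k))) (q : T ⟶ Q),
        (∀ (T' : Over (Spec (CommRingCat.of k))) (s : T' ⟶ T) (x : T' ⟶ X), CartesianMonoidalCategory.lift (s ≫ q) x ≫ b.act = x) → q = 1) ∧
      (Surjective (CartesianMonoidalCategory.lift (CartesianMonoidalCategory.snd G X) a.act).left ↔
        Surjective (CartesianMonoidalCategory.lift (CartesianMonoidalCategory.snd Q X) b.act).left) ∧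
      (IsDominant (CartesianMonoidalCategory.lift (CartesianMonoidalCategory.snd G X) a.act).left ↔
        IsDominant (CartesianMonoidalCategory.lift (CartesianMonoidalCategory.snd Q X) b.act).left) := by
  haveI : IsSeparated Q.hom := isSeparated_of_field Q
  have hG : ∀ {T : Over (Spec (CommRingCat.of k))} (g g' : T ⟶ G), g ≫ π = g' ≫ π →
      ∀ (T' : Over (Spec (CommRingCat.of k))) (s : T' ⟶ T) (x : T' ⟶ X),
        lift (s ≫ g) x ≫ a.act = lift (s ≫ g') x ≫ a.act := by
    intro T g g' h T' s x
    have h1 : (g⁻¹ * g') ≫ π = toUnit T ≫ η[Q] := by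
      rw [MonObj.mul_comp, GrpObj.inv_comp, h, inv_mul_cancel, Hom.one_def]
    have h2 := (hN T (g⁻¹ * g')).1 ⟨hker.lift _ _ h1, hker.lift_fst _ _ h1⟩ T' s x
    rw [MonObj.comp_mul, GrpObj.comp_inv] at h2
    conv_lhs => rw [← h2]
    rw [← act_mul, _root_.mul_inv_cancel_left]
  haveI : Flat (π ▷ X).left := whiskerRight_left_of (P := @Flat) π X ‹_›
  haveI : Surjective (π ▷ X).left := whiskerRight_left_of (P := @Surjective) π X ‹_›
  haveI : QuasiCompact π.left := by
    haveI : QuasiCompact (π.left ≫ Q.hom) := by rw [Over.w]; infer_instance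
    exact QuasiCompact.of_comp π.left Q.hom
  haveI : QuasiCompact (π ▷ X).left := whiskerRight_left_of (P := @QuasiCompact) π X ‹_›
  haveI : Epi (π ▷ X) := flat_surjective_epi _
  have hd : ∀ {Z : Scheme.{u}} (g1 g2 : Z ⟶ (G ⊗ X).left), g1 ≫ (π ▷ X).left = g2 ≫ (π ▷ X).left →
      g1 ≫ a.act.left = g2 ≫ a.act.left := by
    intro Z g1 g2 h
    let Zo : Over (Spec (CommRingCat.of k)) := Over.mk (g1 ≫ (G ⊗ X).hom)
    let p1 : Zo ⟶ G ⊗ X := Over.homMk g1
    let p2 : Zo ⟶ G ⊗ X := Over.homMk g2 (by
      change g2 ≫ (G ⊗ X).hom = g1 ≫ (G ⊗ X).hom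
      rw [← Over.w (π ▷ X), reassoc_of% h])
    have h' : p1 ≫ (π ▷ X) = p2 ≫ (π ▷ X) := Over.OverMorphism.ext h
    have hx : p1 ≫ snd G X = p2 ≫ snd G X := by
      simpa using congrArg (· ≫ snd Q X) h'
    have hg : (p1 ≫ fst G X) ≫ π = (p2 ≫ fst G X) ≫ π := by
      simpa using congrArg (· ≫ fst Q X) h'
    have key := hG _ _ hg Zo (𝟙 _) (p1 ≫ snd G X)
    rw [Category.id_comp, Category.id_comp, ← comp_lift, lift_fst_snd, Category.comp_id, hx, ← comp_lift,
      lift_fst_snd, Category.comp_id] at key
    exact congrArg CommaMorphism.left key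
  let b₀ : Q ⊗ X ⟶ X := Over.homMk (EffectiveEpi.desc (π ▷ X).left a.act.left hd) (by
    haveI : Epi (π ▷ X).left := Flat.epi_of_flat_of_surjective _
    rw [← cancel_epi (π ▷ X).left, ← Category.assoc, EffectiveEpi.fac, Over.w, Over.w])
  have hb₀ : (π ▷ X) ≫ b₀ = a.act := Over.OverMorphism.ext (EffectiveEpi.fac _ _ hd)
  have lift_eq : ∀ {T : Over (Spec (CommRingCat.of k))} (g : T ⟶ G) (x : T ⟶ X),
      lift (g ≫ π) x ≫ b₀ = lift g x ≫ a.act := fun g x => by
    rw [← hb₀, lift_whiskerRight_assoc]
  -- lifting points of `Q` to `G` after a flat surjective base change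
  have hlift : ∀ {T : Over (Spec (CommRingCat.of k))} (q : T ⟶ Q), ∃ (T' : Over (Spec (CommRingCat.of k))) (c : T' ⟶ T)
      (_ : Epi c) (g : T' ⟶ G), g ≫ π = c ≫ q := by
    intro T q
    let T' : Over (Spec (CommRingCat.of k)) := Over.mk (Limits.pullback.fst q.left π.left ≫ T.hom)
    let c : T' ⟶ T := Over.homMk (Limits.pullback.fst _ _)
    haveI : Flat c.left := MorphismProperty.pullback_fst (P := @Flat) q.left π.left ‹_›
    haveI : Surjective c.left := MorphismProperty.pullback_fst (P := @Surjective) q.left π.left ‹_›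
    refine ⟨T', c, flat_surjective_epi c, Over.homMk (Limits.pullback.snd _ _) ?_,
      Over.OverMorphism.ext Limits.pullback.condition.symm⟩
    change _ = Limits.pullback.fst q.left π.left ≫ T.hom
    rw [← Over.w q, ← Over.w π, Limits.pullback.condition_assoc]
  let b : AlgGrp.Action Q X := actionMk b₀
    (fun T x => by
      rw [← MonObj.one_comp π, lift_eq, act_one])
    (fun T q q' x => by
      obtain ⟨T₁, c₁, hc₁, g, hg⟩ := hlift q
      obtain ⟨T₂, c₂, hc₂, g', hg'⟩ := hlift (c₁ ≫ q')
      rw [← cancel_epi c₁, ← cancel_epi c₂]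
      simp only [comp_lift_assoc, MonObj.comp_mul]
      rw [← hg, ← hg', ← Category.assoc c₂ g π, ← MonObj.mul_comp, lift_eq, lift_eq, lift_eq, act_mul])
  refine ⟨⟨b, hb₀, fun b' hb' => action_ext ((cancel_epi (π ▷ X)).1 (hb'.trans hb₀.symm))⟩, fun b' hb' => ⟨?_, ?_, ?_⟩⟩
  · intro T q h
    obtain ⟨T', c, hc, g, hg⟩ := hlift q
    rw [← cancel_epi c, MonObj.comp_one, ← hg]
    obtain ⟨m, rfl⟩ := (hN T' g).2 fun T'' s x => by
      have h1 := h T'' (s ≫ c) x
      rw [Category.assoc, ← hg, ← Category.assoc s g π, ← lift_whiskerRight_assoc, hb'] at h1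
      exact h1
    rw [Category.assoc, hker.w, ← Category.assoc, toUnit_unique (m ≫ toUnit N) (toUnit T'), Hom.one_def]
  all_goals
    have e : lift (snd G X) a.act = (π ▷ X) ≫ lift (snd Q X) b'.act := by
      rw [comp_lift, whiskerRight_snd, hb']
    rw [e, Over.comp_left]
  · exact ⟨fun _ => Surjective.of_comp (π ▷ X).left _, fun _ => inferInstance⟩
  · exact ⟨fun _ => IsDominant.of_comp (π ▷ X).left _, fun _ => inferInstance⟩

end Groth.Agent.S14643
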