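import Groth.Statements.S14646
import Groth.Agent.H24.P1Complement

set_option autoImplicit false
universe u
open CategoryTheory CategoryTheory.Limits AlgebraicGeometry
open AlgGrp

namespace Groth.Agent.S14646

open Groth.Agent.Lib.ProjSpace Groth.Agent.Lib.H75.REq.Proj Groth.Agent.H24.P1Complement

lemma decompose {K : Type u} [Field K] {X : Scheme.{u}} (g : Spec (CommRingCat.of K) ⟶ X) :
    ∀ P : X, g (IsLocalRing.closedPoint K) = P →
      ∃ e : X.residueField P ⟶ CommRingCat.of K, g = Spec.map e ≫ X.fromSpecResidueField P := by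
  rintro P rfl
  exact ⟨_, (Scheme.descResidueField_stalkClosedPointTo_fromSpecResidueField K X g).symm⟩

lemma subsingleton_preimage (k : Type u) [Field k] (P : ↥(CohB1.ProjSpace 1 k))
    (hpi : letI := ((CohB1.ProjSpace.toSpec 1 k).residueFieldMap P).hom.toAlgebra
      IsPurelyInseparable ↑((Spec (CommRingCat.of k)).residueField ((CohB1.ProjSpace.toSpec 1 k) P)) ↑((CohB1.ProjSpace 1 k).residueField P))
    (K : Type u) [Field K] [Algebra k K] [IsAlgClosed K] (Q₁ Q₂ : CohB1.ProjSpace 1 K)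
    (h₁ : IsClosed ({Q₁} : Set (CohB1.ProjSpace 1 K))) (h₂ : IsClosed ({Q₂} : Set (CohB1.ProjSpace 1 K)))
    (e₁ : BaseChange.projMap 1 (algebraMap k K) Q₁ = P) (e₂ : BaseChange.projMap 1 (algebraMap k K) Q₂ = P) :
    Q₁ = Q₂ := by
  letI := ((CohB1.ProjSpace.toSpec 1 k).residueFieldMap P).hom.toAlgebra
  haveI := hpi
  obtain ⟨i, c, -, g₁, hg₁, rfl⟩ := exists_point h₁
  obtain ⟨i', c', -, g₂, hg₂, rfl⟩ := exists_point h₂
  have sq := BaseChange.isPullback_projMap (n := 1) (algebraMap k K)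
  obtain ⟨ε₁, hε₁⟩ := decompose (g₁ ≫ BaseChange.projMap 1 (algebraMap k K)) P e₁
  obtain ⟨ε₂, hε₂⟩ := decompose (g₂ ≫ BaseChange.projMap 1 (algebraMap k K)) P e₂
  have key : ∀ (g : Spec (CommRingCat.of K) ⟶ CohB1.ProjSpace 1 K)
      (ε : (CohB1.ProjSpace 1 k).residueField P ⟶ CommRingCat.of K),
      g ≫ CohB1.ProjSpace.toSpec 1 K = 𝟙 _ →
      g ≫ BaseChange.projMap 1 (algebraMap k K) = Spec.map ε ≫ (CohB1.ProjSpace 1 k).fromSpecResidueField P →
      Spec.map ((CohB1.ProjSpace.toSpec 1 k).residueFieldMap P ≫ ε) ≫ (Spec (CommRingCat.of k)).fromSpecResidueField _ =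
        Spec.map (CommRingCat.ofHom (algebraMap k K)) := by
    intro g ε hg hε
    rw [Spec.map_comp, Category.assoc, Scheme.Hom.SpecMap_residueFieldMap_fromSpecResidueField,
      ← Category.assoc, ← hε, Category.assoc, sq.w, ← Category.assoc, hg, Category.id_comp]
  have hε : ε₁ = ε₂ := by
    have := (key g₁ ε₁ hg₁ hε₁).trans (key g₂ ε₂ hg₂ hε₂).symm
    rw [cancel_mono] at this
    have h' := congrArg CommRingCat.Hom.hom (Spec.map_injective this)
    exact CommRingCat.hom_ext (eq_of_isPurelyInseparable ε₁.hom ε₂.hom h')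
  have : g₁ = g₂ := sq.hom_ext (by rw [hε₁, hε₂, hε]) (hg₁.trans hg₂.symm)
  rw [this]

lemma preimage_eq_singleton (k : Type u) [Field k] (P : ↥(CohB1.ProjSpace 1 k))
    (hP : IsClosed ({P} : Set ↥(CohB1.ProjSpace 1 k)))
    (hpi : letI := ((CohB1.ProjSpace.toSpec 1 k).residueFieldMap P).hom.toAlgebra
      IsPurelyInseparable ↑((Spec (CommRingCat.of k)).residueField ((CohB1.ProjSpace.toSpec 1 k) P)) ↑((CohB1.ProjSpace 1 k).residueField P))
    (K : Type u) [Field K] [Algebra k K] [IsAlgClosed K] :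
    ∃ Q : CohB1.ProjSpace 1 K, IsClosed ({Q} : Set (CohB1.ProjSpace 1 K)) ∧
      (BaseChange.projMap 1 (algebraMap k K)) ⁻¹' {P} = {Q} := by
  set pr := BaseChange.projMap 1 (algebraMap k K)
  haveI : Surjective (Spec.map (CommRingCat.ofHom (algebraMap k K))) :=
    ⟨fun _ => ⟨IsLocalRing.closedPoint K, Subsingleton.elim (α := PrimeSpectrum k) _ _⟩⟩
  haveI : Surjective pr :=
    MorphismProperty.of_isPullback (BaseChange.isPullback_projMap (n := 1) (algebraMap k K)).flip inferInstance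
  haveI : JacobsonSpace (CohB1.ProjSpace 1 K) := LocallyOfFiniteType.jacobsonSpace (CohB1.ProjSpace.toSpec 1 K)
  have hZ : IsClosed (pr ⁻¹' {P}) := hP.preimage pr.continuous
  have hne : (pr ⁻¹' {P}).Nonempty := by
    obtain ⟨z, hz⟩ := pr.surjective P
    exact ⟨z, hz⟩
  have hd : closure (pr ⁻¹' {P} ∩ closedPoints (CohB1.ProjSpace 1 K)) = pr ⁻¹' {P} :=
    closure_inter_closedPoints hZ
  obtain ⟨Q, hQ, hQc⟩ : (pr ⁻¹' {P} ∩ closedPoints (CohB1.ProjSpace 1 K)).Nonempty := by
    rw [← closure_nonempty_iff, hd]; exact hne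
  refine ⟨Q, hQc, ?_⟩
  have hs : pr ⁻¹' {P} ∩ closedPoints (CohB1.ProjSpace 1 K) = {Q} := by
    refine Set.eq_singleton_iff_unique_mem.2 ⟨⟨hQ, hQc⟩, fun y hy => ?_⟩
    exact subsingleton_preimage k P hpi K y Q hy.2 hQc hy.1 hQ
  rw [hs] at hd
  exact hd.symm.trans hQc.closure_eq

/-- Over a field k, let P be a closed point of the projective line P¹_k whose residue field κ(P) is
purely inseparable over k, and let C = P¹_k ∖ {P} be its open complement. Then C is a form of the
affine line: for an algebraic closure K of k, the base change C ×_k Spec K is isomorphic over K to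
Spec K[T]. (The published statement assumes moreover that k is imperfect and [κ(P) : k] ≥ 3; this
row assumes only that κ(P) is purely inseparable over k.) -/
theorem result (k : Type u) [Field k]
    (P : ↥(CohB1.ProjSpace 1 k)) (hP : IsClosed ({P} : Set ↥(CohB1.ProjSpace 1 k)))
    (hpi : letI := ((CohB1.ProjSpace.toSpec 1 k).residueFieldMap P).hom.toAlgebra
      IsPurelyInseparable ↑((Spec (CommRingCat.of k)).residueField ((CohB1.ProjSpace.toSpec 1 k) P)) ↑((CohB1.ProjSpace 1 k).residueField P))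
    (K : Type u) [Field K] [Algebra k K] [IsAlgClosure k K] :
    ∃ e : pullback (@Scheme.Opens.ι (CohB1.ProjSpace 1 k) ⟨{P}ᶜ, hP.isOpen_compl⟩ ≫ CohB1.ProjSpace.toSpec 1 k) (Spec.map (CommRingCat.ofHom (algebraMap k K))) ≅
        Spec (CommRingCat.of (Polynomial K)),
      e.hom ≫ Spec.map (CommRingCat.ofHom (algebraMap K (Polynomial K))) = pullback.snd _ _ := by
  haveI : IsAlgClosed K := IsAlgClosure.isAlgClosed k
  obtain ⟨Q, hQc, hQ⟩ := preimage_eq_singleton k P hP hpi K
  obtain ⟨i, c, hform, -⟩ := exists_point hQc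
  obtain ⟨ψ, hψ⟩ := form_chart (K := K) i c
  set pr := BaseChange.projMap 1 (algebraMap k K)
  let U : (CohB1.ProjSpace 1 k).Opens := ⟨{P}ᶜ, hP.isOpen_compl⟩
  have hU : pr ⁻¹ᵁ U = Proj.basicOpen (CohB1.polyGrading 1 K) (form K i c) := by
    apply TopologicalSpace.Opens.ext
    refine Set.ext fun y => Iff.trans ?_ (hform y).symm
    show pr y ∈ ({P}ᶜ : Set _) ↔ _
    exact not_congr (Set.ext_iff.1 hQ y)
  have hsq : IsPullback (pr ∣_ U) ((pr ⁻¹ᵁ U).ι ≫ CohB1.ProjSpace.toSpec 1 K) (U.ι ≫ CohB1.ProjSpace.toSpec 1 k)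
      (Spec.map (CommRingCat.ofHom (algebraMap k K))) :=
    (isPullback_morphismRestrict pr U).paste_vert (BaseChange.isPullback_projMap (n := 1) (algebraMap k K))
  let a : Spec (CommRingCat.of (AwayL 1 (form K i c))) ⟶ CohB1.ProjSpace 1 K :=
    Proj.awayι (CohB1.polyGrading 1 K) (form K i c) (m := 1) (isHomogeneous_form K i c) one_pos
  haveI : IsOpenImmersion a := by
    show IsOpenImmersion (Proj.awayι (CohB1.polyGrading 1 K) (form K i c) (m := 1) (isHomogeneous_form K i c) one_pos)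
    have hm : form K i c ∈ CohB1.polyGrading 1 K 1 := isHomogeneous_form K i c
    exact inferInstanceAs (IsOpenImmersion
      ((Proj.basicOpenIsoSpec (CohB1.polyGrading 1 K) (form K i c) hm one_pos).inv ≫ (Proj.basicOpen (CohB1.polyGrading 1 K) (form K i c)).ι))
  have hr : Set.range (pr ⁻¹ᵁ U).ι = Set.range a := by
    rw [Scheme.Opens.range_ι, hU, ← Scheme.Hom.coe_opensRange]
    exact congrArg SetLike.coe (Proj.opensRange_awayι _ _ _ _).symm
  let ε : Spec (CommRingCat.of (AwayL 1 (form K i c))) ≅ Spec (CommRingCat.of (Polynomial K)) :=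
    Scheme.Spec.mapIso ψ.toCommRingCatIso.op
  refine ⟨hsq.isoPullback.symm ≪≫ IsOpenImmersion.isoOfRangeEq (pr ⁻¹ᵁ U).ι a hr ≪≫ ε, ?_⟩
  have hε : ε.hom ≫ Spec.map (CommRingCat.ofHom (algebraMap K (Polynomial K))) =
      a ≫ CohB1.ProjSpace.toSpec 1 K := by
    refine Eq.trans ?_ (awayι_toSpec (isHomogeneous_form K i c)).symm
    rw [← hψ]
    show Spec.map _ ≫ _ = _
    rw [← Spec.map_comp]
    rfl
  simp only [Iso.trans_hom, Iso.symm_hom, Category.assoc, hε]
  rw [IsOpenImmersion.isoOfRangeEq_hom_fac_assoc]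
  exact hsq.isoPullback_inv_snd

end Groth.Agent.S14646
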