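import Groth.Statements.S14647
import Groth.Agent.H48.ProjLineJet

set_option autoImplicit false
universe u
open CategoryTheory CategoryTheory.Limits AlgebraicGeometry
open AlgGrp

namespace Groth.Agent.S14647

/-- Over a field k, let P be a closed point of the projective line P¹_k whose residue field κ(P) is
purely inseparable over k with [κ(P) : k] ≥ 3 (this forces k to be imperfect). Then the centraliser
of P (with its reduced structure) in the automorphism group of P¹ is infinitesimal; on geometric
points: for an algebraic closure K of k, every automorphism φ of P¹_k ×_k Spec K over Spec K which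
induces the identity on the closed subscheme Spec κ(P) ×_k Spec K — meaning φ ∘ z = z for every
scheme T and every T-point z of P¹_k ×_k Spec K whose image in P¹_k factors through Spec κ(P) → P¹_k
— is the identity. -/
theorem result (k : Type u) [Field k]
    (P : ↥(CohB1.ProjSpace 1 k))
    (hpi : letI := ((CohB1.ProjSpace.toSpec 1 k).residueFieldMap P).hom.toAlgebra
      IsPurelyInseparable ↑((Spec (CommRingCat.of k)).residueField ((CohB1.ProjSpace.toSpec 1 k) P)) ↑((CohB1.ProjSpace 1 k).residueField P))
    (hdeg : letI := ((CohB1.ProjSpace.toSpec 1 k).residueFieldMap P).hom.toAlgebra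
      3 ≤ Module.finrank ↑((Spec (CommRingCat.of k)).residueField ((CohB1.ProjSpace.toSpec 1 k) P)) ↑((CohB1.ProjSpace 1 k).residueField P))
    (K : Type u) [Field K] [Algebra k K] [IsAlgClosure k K]
    (φ : pullback (CohB1.ProjSpace.toSpec 1 k) (Spec.map (CommRingCat.ofHom (algebraMap k K))) ≅ pullback (CohB1.ProjSpace.toSpec 1 k) (Spec.map (CommRingCat.ofHom (algebraMap k K))))
    (hφ : φ.hom ≫ pullback.snd (CohB1.ProjSpace.toSpec 1 k) (Spec.map (CommRingCat.ofHom (algebraMap k K))) = pullback.snd (CohB1.ProjSpace.toSpec 1 k) (Spec.map (CommRingCat.ofHom (algebraMap k K))))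
    (hfix : ∀ (T : Scheme.{u}) (z : T ⟶ pullback (CohB1.ProjSpace.toSpec 1 k) (Spec.map (CommRingCat.ofHom (algebraMap k K)))) (w : T ⟶ Spec ((CohB1.ProjSpace 1 k).residueField P)),
      z ≫ pullback.fst (CohB1.ProjSpace.toSpec 1 k) (Spec.map (CommRingCat.ofHom (algebraMap k K))) = w ≫ (CohB1.ProjSpace 1 k).fromSpecResidueField P → z ≫ φ.hom = z) :
    φ.hom = 𝟙 _ := by
  classical
  let f := CohB1.ProjSpace.toSpec 1 k
  let s := f P
  letI a₀ := (f.residueFieldMap P).hom.toAlgebra
  haveI := hpi
  let b : k →+* ↑((Spec (CommRingCat.of k)).residueField s) :=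
    (Spec.preimage ((Spec (CommRingCat.of k)).fromSpecResidueField s)).hom
  have hb : Function.Surjective b := by
    haveI : IsClosedImmersion ((Spec (CommRingCat.of k)).fromSpecResidueField s) := by
      refine IsClosedImmersion.of_isPreimmersion _ ?_
      have : Set.range ((Spec (CommRingCat.of k)).fromSpecResidueField s) = Set.univ := by
        refine Set.eq_univ_of_forall fun y => ?_
        rw [Scheme.range_fromSpecResidueField]
        exact Subsingleton.elim (α := PrimeSpectrum k) y s
      rw [this]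
      exact isClosed_univ
    haveI : IsClosedImmersion (Spec.map (Spec.preimage ((Spec (CommRingCat.of k)).fromSpecResidueField s))) := by
      rw [Spec.map_preimage]; infer_instance
    exact Groth.Agent.H48.ProjLineJet.surjective_of_isClosedImmersion _
  let ρ : k →+* ↑((CohB1.ProjSpace 1 k).residueField P) := (f.residueFieldMap P).hom.comp b
  have hρ : Spec.map (CommRingCat.ofHom ρ) = (CohB1.ProjSpace 1 k).fromSpecResidueField P ≫ f := by
    rw [← f.SpecMap_residueFieldMap_fromSpecResidueField P, show CommRingCat.ofHom ρ =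
      Spec.preimage ((Spec (CommRingCat.of k)).fromSpecResidueField s) ≫ f.residueFieldMap P from rfl,
      Spec.map_comp, Spec.map_preimage]
  letI a₁ : Algebra k ↑((CohB1.ProjSpace 1 k).residueField P) := ρ.toAlgebra
  let eb : k ≃+* ↑((Spec (CommRingCat.of k)).residueField s) := RingEquiv.ofBijective b ⟨b.injective, hb⟩
  have hfin : 3 ≤ Module.finrank k ↑((CohB1.ProjSpace 1 k).residueField P) := by
    rw [Algebra.finrank_eq_of_equiv_equiv eb (RingEquiv.refl _) (RingHom.ext fun x => rfl)]
    exact hdeg
  haveI : IsPurelyInseparable k ↑((CohB1.ProjSpace 1 k).residueField P) := by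
    obtain ⟨q, hq⟩ := ExpChar.exists k
    haveI := hq
    haveI : ExpChar ↑((Spec (CommRingCat.of k)).residueField s) q :=
      expChar_of_injective_ringHom b.injective q
    rw [isPurelyInseparable_iff_pow_mem k q]
    intro x
    obtain ⟨n, y, hy⟩ := (isPurelyInseparable_iff_pow_mem ↑((Spec (CommRingCat.of k)).residueField s) q).mp hpi x
    obtain ⟨z, rfl⟩ := hb y
    exact ⟨n, z, hy⟩
  haveI : FiniteDimensional k ↑((CohB1.ProjSpace 1 k).residueField P) := Module.finite_of_finrank_pos (by omega)
  obtain ⟨i, hi⟩ := Groth.Agent.Lib.ProjSpace.Basic.exists_mem_opensRange_chartι 1 k P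
  let β := IsOpenImmersion.lift (Groth.Agent.Lib.ProjSpace.Basic.chartι k i)
    ((CohB1.ProjSpace 1 k).fromSpecResidueField P) (by
      rw [Scheme.range_fromSpecResidueField, Set.singleton_subset_iff]
      exact hi)
  have hβ : β ≫ Groth.Agent.Lib.ProjSpace.Basic.chartι k i = (CohB1.ProjSpace 1 k).fromSpecResidueField P :=
    IsOpenImmersion.lift_fac _ _ _
  have hπC : (Spec.preimage β).hom.comp MvPolynomial.C = ρ := by
    have e : CommRingCat.ofHom MvPolynomial.C ≫ Spec.preimage β = CommRingCat.ofHom ρ := by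
      apply Spec.map_injective
      rw [Spec.map_comp, Spec.map_preimage, hρ, ← hβ, Category.assoc,
        Groth.Agent.Lib.ProjSpace.Basic.chartι_toSpec]
    exact congrArg CommRingCat.Hom.hom e
  let π : MvPolynomial (Fin 1) k →ₐ[k] ↑((CohB1.ProjSpace 1 k).residueField P) :=
    { (Spec.preimage β).hom with commutes' := fun r => RingHom.congr_fun hπC r }
  have hπ : Function.Surjective π := by
    haveI : Mono (β ≫ Groth.Agent.Lib.ProjSpace.Basic.chartι k i) := by rw [hβ]; infer_instance
    haveI : Mono β := mono_of_mono β (Groth.Agent.Lib.ProjSpace.Basic.chartι k i)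
    haveI : Mono (Spec.map (Spec.preimage β)) := by rw [Spec.map_preimage]; infer_instance
    haveI : IsFinite (Spec.map (Spec.preimage β)) := by
      rw [IsFinite.SpecMap_iff]
      exact RingHom.Finite.of_comp_finite (f := (MvPolynomial.C : k →+* MvPolynomial (Fin 1) k)) (by
        rw [hπC]; exact RingHom.finite_algebraMap.mpr inferInstance)
    haveI : IsClosedImmersion (Spec.map (Spec.preimage β)) :=
      (IsClosedImmersion.iff_isFinite_and_mono _).mpr ⟨inferInstance, inferInstance⟩
    exact Groth.Agent.H48.ProjLineJet.surjective_of_isClosedImmersion _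
  haveI : IsAlgClosed K := IsAlgClosure.isAlgClosed k
  obtain ⟨h, x₀, hx₀⟩ := Groth.Agent.H48.ProjLineJet.exists_jet_hom (K := K) _ hfin π hπ
  obtain ⟨c, hc⟩ := Groth.Agent.Lib.GrassRep.exists_grass_iso_projSpace K 1
  let I := (Groth.Agent.Lib.ProjSpace.BaseChange.isPullback_projMap 1 (algebraMap k K)).isoPullback
  let E : Groth.Agent.Lib.SBAut.ProjAut.Gn K 1 ≅
      Over.mk (pullback.snd (CohB1.ProjSpace.toSpec 1 k) (Spec.map (CommRingCat.ofHom (algebraMap k K)))) :=
    Over.isoMk (c ≪≫ I) (by
      simp only [Iso.trans_hom, Over.mk_hom, Category.assoc]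
      rw [IsPullback.isoPullback_hom_snd]
      exact hc)
  let Φ : Over.mk (pullback.snd (CohB1.ProjSpace.toSpec 1 k) (Spec.map (CommRingCat.ofHom (algebraMap k K)))) ≅
      Over.mk (pullback.snd (CohB1.ProjSpace.toSpec 1 k) (Spec.map (CommRingCat.ofHom (algebraMap k K)))) :=
    Over.isoMk φ hφ
  let w : Spec (CommRingCat.of (Groth.Agent.H48.ProjLineJet.A K 3)) ⟶
      Spec ((CohB1.ProjSpace 1 k).residueField P) := Spec.map (CommRingCat.ofHom h.toRingHom)
  let z : Spec (CommRingCat.of (Groth.Agent.H48.ProjLineJet.A K 3)) ⟶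
      pullback (CohB1.ProjSpace.toSpec 1 k) (Spec.map (CommRingCat.ofHom (algebraMap k K))) :=
    pullback.lift (w ≫ (CohB1.ProjSpace 1 k).fromSpecResidueField P)
      (Spec.map (CommRingCat.ofHom (algebraMap K (Groth.Agent.H48.ProjLineJet.A K 3)))) (by
        rw [Category.assoc, ← hρ, ← Spec.map_comp, ← Spec.map_comp]
        congr 1
        ext r
        exact (h.commutes r).trans (IsScalarTower.algebraMap_apply k K _ r))
  have hz1 : z ≫ pullback.fst _ _ = w ≫ (CohB1.ProjSpace 1 k).fromSpecResidueField P := pullback.lift_fst _ _ _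
  let p : Groth.Agent.Lib.GrassRep.pt K (Groth.Agent.H48.ProjLineJet.A K 3) ⟶ Groth.Agent.Lib.SBAut.ProjAut.Gn K 1 :=
    Over.homMk (U := Groth.Agent.Lib.GrassRep.pt K (Groth.Agent.H48.ProjLineJet.A K 3))
      (V := Over.mk (pullback.snd (CohB1.ProjSpace.toSpec 1 k) (Spec.map (CommRingCat.ofHom (algebraMap k K))))) z (pullback.lift_snd _ _ _) ≫ E.inv
  have hp : p ≫ (E ≪≫ Φ ≪≫ E.symm).hom = p := by
    simp only [p, Iso.trans_hom, Iso.symm_hom, Category.assoc, Iso.inv_hom_id_assoc]
    refine Eq.trans ?_ rfl
    rw [← Category.assoc]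
    congr 1
    exact Over.OverMorphism.ext (hfix _ z w hz1)
  have hid := Groth.Agent.H48.ProjLineJet.eq_id_of_fix (E ≪≫ Φ ≪≫ E.symm) p hp (by
    intro e
    refine hx₀ ?_
    rw [AlgHom.comp_id] at e
    have e' := congrArg (fun m => (m ≫ E.hom.left) ≫ pullback.fst _ _) e
    simp only [p, Category.assoc, Over.comp_left, Over.homMk_left] at e'
    have hh : E.inv.left ≫ E.hom.left = 𝟙 _ := congrArg CommaMorphism.left E.inv_hom_id
    simp only [reassoc_of% hh] at e'
    rw [hz1] at e'
    simp only [← Category.assoc] at e'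
    rw [cancel_mono] at e'
    simp only [w, Groth.Agent.Lib.GrassRep.Sp, ← Spec.map_comp, Category.assoc] at e'
    exact (congrArg (fun m => m.hom x₀) (Spec.map_injective e')).symm)
  have hΦ : Φ.hom = 𝟙 _ := by
    have e : E.hom ≫ Φ.hom ≫ E.inv = 𝟙 _ := congrArg Iso.hom hid
    rw [← cancel_epi E.hom, Category.comp_id, ← cancel_mono E.inv, Category.assoc, e, E.hom_inv_id]
  exact congrArg CommaMorphism.left hΦ

end Groth.Agent.S14647
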