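import Groth.Statements.S14648

import Groth.Agent.Lib.GrpSch.NormAct

set_option autoImplicit false
universe u
open CategoryTheory MonoidalCategory CartesianMonoidalCategory MonObj GrpObj AlgebraicGeometry CategoryTheory.Limits
open AlgGrp

namespace Groth.Agent.S14648

open Groth.Agent.Lib

/-- Over a field k, let G be a smooth connected k-group scheme of finite type acting on a variety X (a
separated, geometrically integral k-scheme of finite type), let ν : X̃ → X be the normalization of X
and let G act on X̃ so that ν is equivariant (such a lifted action exists and is unique; here it is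
given). Then the commutative square with the action maps G × X̃ → X̃ and G × X → X as horizontal
sides and id_G × ν, ν as vertical sides is cartesian, and the two actions have the same kernel: for
every k-scheme T, a T-point g of G acts as the identity on all points of X over T-schemes if and
only if it acts as the identity on all points of X̃ over T-schemes. (The quasi-compactness and
quasi-separatedness binders on the morphism from the generic point always hold; they are only needed
to form the normalization.) -/
theorem result (k : Type u) [Field k]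
    (G X : Over (Spec (CommRingCat.of k))) [GrpObj G] [Smooth G.hom] [QuasiCompact G.hom] [ConnectedSpace ↥G.left]
    [IsSeparated X.hom] [LocallyOfFiniteType X.hom] [QuasiCompact X.hom] [GeometricallyIntegral X.hom] [IsIntegral X.left] [QuasiCompact (X.left.fromSpecStalk (genericPoint ↥X.left))] [QuasiSeparated (X.left.fromSpecStalk (genericPoint ↥X.left))]
    (a : AlgGrp.Action G X) (b : AlgGrp.Action G (Over.mk (Curv2.normalizationι X.left ≫ X.hom)))
    (hb : (G ◁ (Over.homMk (Curv2.normalizationι X.left) rfl : Over.mk (Curv2.normalizationι X.left ≫ X.hom) ⟶ X)) ≫ a.act = b.act ≫ Over.homMk (Curv2.normalizationι X.left) rfl) :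
    IsPullback b.act (G ◁ (Over.homMk (Curv2.normalizationι X.left) rfl : Over.mk (Curv2.normalizationι X.left ≫ X.hom) ⟶ X)) (Over.homMk (Curv2.normalizationι X.left) rfl : Over.mk (Curv2.normalizationι X.left ≫ X.hom) ⟶ X) a.act ∧
    ∀ (T : Over (Spec (CommRingCat.of k))) (g : T ⟶ G),
      (∀ (T' : Over (Spec (CommRingCat.of k))) (s : T' ⟶ T) (x : T' ⟶ X), CartesianMonoidalCategory.lift (s ≫ g) x ≫ a.act = x) ↔
      (∀ (T' : Over (Spec (CommRingCat.of k))) (s : T' ⟶ T) (y : T' ⟶ Over.mk (Curv2.normalizationι X.left ≫ X.hom)), CartesianMonoidalCategory.lift (s ≫ g) y ≫ b.act = y) := by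

  obtain ⟨U, hUne, hUiso⟩ := GrpSch.NormAct.exists_isIso_restrict X
  set n : Over.mk (Curv2.normalizationι X.left ≫ X.hom) ⟶ X := Over.homMk (Curv2.normalizationι X.left) rfl with hn
  haveI : IsIso (n.left ∣_ U) := hUiso
  have hsq : ∀ (T : Over (Spec (CommRingCat.of k))), IsPullback (snd T (Over.mk (Curv2.normalizationι X.left ≫ X.hom))) (T ◁ n) n (snd T X) := fun T =>
    IsPullback.of_map (Over.forget _) (whiskerLeft_snd _ _).symm (GrpSch.isPullback_whiskerLeft T n).flip
  refine ⟨?_, fun T g => ?_⟩
  · have hw : (GrpSch.shear b).hom ≫ (G ◁ n) = (G ◁ n) ≫ (GrpSch.shear a).hom := by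
      apply CartesianMonoidalCategory.hom_ext
      · simp [GrpSch.shear_hom_fst]
      · rw [Category.assoc, Category.assoc, whiskerLeft_snd, GrpSch.shear_hom_snd, hb,
          GrpSch.shear_hom_snd_assoc]
    have h0 : IsPullback (GrpSch.shear b).hom (G ◁ n) (G ◁ n) (GrpSch.shear a).hom :=
      IsPullback.of_horiz_isIso ⟨hw⟩
    have h1 := h0.paste_horiz (hsq G)
    rwa [GrpSch.shear_hom_snd, GrpSch.shear_hom_snd] at h1
  · haveI : LocallyOfFiniteType n.left := by
      letI : X.left.Over (Spec (CommRingCat.of k)) := ⟨X.hom⟩
      haveI : LocallyOfFiniteType (X.left ↘ Spec (CommRingCat.of k)) := ‹LocallyOfFiniteType X.hom›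
      haveI := Normalization.InFieldVariety.isFinite_normalizationι k X.left
      exact inferInstanceAs (LocallyOfFiniteType (Curv2.normalizationι X.left))
    haveI : IsLocallyNoetherian X.left := LocallyOfFiniteType.isLocallyNoetherian X.hom
    haveI : IsLocallyNoetherian (Over.mk (Curv2.normalizationι X.left ≫ X.hom)).left :=
      LocallyOfFiniteType.isLocallyNoetherian n.left
    haveI : IsIntegral (Over.mk (Curv2.normalizationι X.left ≫ X.hom)).left :=
      inferInstanceAs (IsIntegral (Curv2.normalization X.left))
    haveI : IsIntegralHom n.left := inferInstanceAs (IsIntegralHom (Curv2.normalizationι X.left))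
    let V := n.left ⁻¹ᵁ U
    have hVne : (V : Set ↥(Over.mk (Curv2.normalizationι X.left ≫ X.hom)).left).Nonempty := by
      obtain ⟨x, hx⟩ := hUne
      obtain ⟨y, rfl⟩ := Normalization.Basic.surjective_normalizationι X.left x
      exact ⟨y, hx⟩
    haveI : IsDominant V.ι := ⟨by
      rw [DenseRange, Scheme.Opens.range_ι]; exact V.isOpen.dense hVne⟩
    haveI : IsSchemeTheoreticallyDominant V.ι := .of_isDominant _
    haveI : IsDominant n.left := ⟨(Normalization.Basic.surjective_normalizationι X.left).denseRange⟩
    haveI : IsSchemeTheoreticallyDominant n.left := .of_isDominant _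
    haveI hflat : ∀ (Z : Over (Spec (CommRingCat.of k))), Flat Z.hom := fun Z => inferInstance
    haveI hflat' : ∀ (Z : Over (Spec (CommRingCat.of k))), Flat (snd T Z).left := fun Z =>
      GrpSch.snd_left_of (P := @Flat) Z (hflat T)
    haveI : IsSeparated (Over.mk (Curv2.normalizationι X.left ≫ X.hom)).hom :=
      inferInstanceAs (IsSeparated (Curv2.normalizationι X.left ≫ X.hom))
    constructor
    · intro hX T' s y
      have key : ((g ▷ (Over.mk (Curv2.normalizationι X.left ≫ X.hom))) ≫ b.act) ≫ n = snd _ _ ≫ n := by
        rw [Category.assoc, ← hb, ← whisker_exchange_assoc]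
        have := hX (T ⊗ X) (fst T X) (snd T X)
        have e : lift (fst T X ≫ g) (snd T X) = g ▷ X := by ext <;> simp
        rw [e] at this
        rw [this, whiskerLeft_snd]
      set φ := (g ▷ (Over.mk (Curv2.normalizationι X.left ≫ X.hom))) ≫ b.act with hφ
      suffices h : φ = snd _ _ by
        have := congrArg (fun m => lift s y ≫ m) h
        simpa [hφ, lift_whiskerRight_assoc] using this
      let jV : Over.mk (V.ι ≫ (Over.mk (Curv2.normalizationι X.left ≫ X.hom)).hom) ⟶
          Over.mk (Curv2.normalizationι X.left ≫ X.hom) := Over.homMk V.ι rfl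
      haveI : IsSchemeTheoreticallyDominant jV.left := ‹IsSchemeTheoreticallyDominant V.ι›
      haveI : QuasiCompact jV.left := inferInstanceAs (QuasiCompact V.ι)
      haveI : IsSchemeTheoreticallyDominant (T ◁ jV).left :=
        .of_isPullback (GrpSch.isPullback_whiskerLeft T jV).flip
      ext1
      refine SchDense.Basic.ext_of_std (Over.mk (Curv2.normalizationι X.left ≫ X.hom)).hom
        (by rw [Over.w φ, Over.w (snd T _)]) (T ◁ jV).left ?_
      have hsmall : IsPullback (n.left ⁻¹ᵁ U).ι (n.left ∣_ U) n.left U.ι :=
        (isPullback_morphismRestrict n.left U).flip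
      have e2 : ((T ◁ jV).left ≫ (snd T _).left) = (snd T _).left ≫ V.ι := by
        rw [← Over.comp_left, whiskerLeft_snd]; rfl
      have en : ((T ◁ jV).left ≫ φ.left) ≫ n.left = ((T ◁ jV).left ≫ (snd T _).left) ≫ n.left := by
        rw [Category.assoc, Category.assoc]; congr 1; rw [← Over.comp_left, key, Over.comp_left]
      have hrange : Set.range ((T ◁ jV).left ≫ φ.left) ⊆ Set.range V.ι := by
        rintro _ ⟨z, rfl⟩
        rw [Scheme.Opens.range_ι]
        show n.left (((T ◁ jV).left ≫ φ.left) z) ∈ U
        rw [← Scheme.Hom.comp_apply, en, e2, Scheme.Hom.comp_apply]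
        exact ((snd T _).left z).2
      have hl := IsOpenImmersion.lift_fac V.ι _ hrange
      rw [← hl, e2]
      congr 1
      refine (cancel_mono ((n.left ∣_ U) ≫ U.ι)).1 ?_
      rw [morphismRestrict_ι, ← Category.assoc, ← Category.assoc, hl, en, e2]
    · intro hY T' s x
      set φ := (g ▷ X) ≫ a.act with hφ
      suffices h : φ = snd _ _ by
        have := congrArg (fun m => lift s x ≫ m) h
        simpa [hφ, lift_whiskerRight_assoc] using this
      have key : (T ◁ n) ≫ φ = (T ◁ n) ≫ snd T X := by
        rw [hφ, whisker_exchange_assoc, hb]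
        have := hY (T ⊗ Over.mk (Curv2.normalizationι X.left ≫ X.hom)) (fst _ _) (snd _ _)
        have e : lift (fst T (Over.mk (Curv2.normalizationι X.left ≫ X.hom)) ≫ g) (snd _ _) =
            g ▷ Over.mk (Curv2.normalizationι X.left ≫ X.hom) := by ext <;> simp
        rw [e] at this
        rw [reassoc_of% this, whiskerLeft_snd]
      haveI : IsSchemeTheoreticallyDominant (T ◁ n).left :=
        .of_isPullback (GrpSch.isPullback_whiskerLeft T n).flip
      ext1
      refine SchDense.Basic.ext_of_std X.hom (by rw [Over.w φ, Over.w (snd T _)]) (T ◁ n).left ?_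
      rw [← Over.comp_left, ← Over.comp_left, key]


end Groth.Agent.S14648
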