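import Groth.Statements.S14652
import Mathlib

set_option autoImplicit false
set_option backward.isDefEq.respectTransparency false
universe u
open FiltBl

namespace Groth.Agent.S14652

open Polynomial

variable {A : Type*} [CommRing A] (w : AddValuation A (WithTop ℤ)) (p : ℤ)

/-- Gauss-type threshold condition. -/
def Thr (f : A[X]) (m : ℤ) : Prop := ∀ l : ℕ, ((m + l * p : ℤ) : WithTop ℤ) ≤ w (f.coeff l)

/-- `k` is the first index at which the threshold is attained. -/
def Exact' (f : A[X]) (m : ℤ) (k : ℕ) : Prop :=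
  Thr w p f m ∧ w (f.coeff k) = ((m + k * p : ℤ) : WithTop ℤ) ∧
    ∀ l < k, ((m + l * p : ℤ) : WithTop ℤ) < w (f.coeff l)

theorem Thr.mul {f g : A[X]} {m n : ℤ} (hf : Thr w p f m) (hg : Thr w p g n) : Thr w p (f * g) (m + n) := by
  intro l
  rw [coeff_mul]
  refine w.map_le_sum fun ij h => ?_
  rw [Finset.HasAntidiagonal.mem_antidiagonal] at h
  rw [w.map_mul, show m + n + (l : ℤ) * p = (m + ij.1 * p) + (n + ij.2 * p) by rw [← h]; push_cast; ring,
    WithTop.coe_add]
  exact add_le_add (hf _) (hg _)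

theorem Thr.zero (m : ℤ) : Thr w p 0 m := fun l => by simp

theorem Thr.sum {ι : Type*} (s : Finset ι) (F : ι → A[X]) {m : ℤ} (h : ∀ i ∈ s, Thr w p (F i) m) :
    Thr w p (∑ i ∈ s, F i) m := fun l => by
  rw [finsetSum_coeff]; exact w.map_le_sum fun i hi => h i hi l

theorem Thr.mono {f : A[X]} {m n : ℤ} (hf : Thr w p f m) (h : n ≤ m) : Thr w p f n := fun l =>
  le_trans (WithTop.coe_le_coe.mpr (by linarith)) (hf l)

theorem Thr.one : Thr w p (1 : A[X]) 0 := fun l => by
  rw [coeff_one]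
  split_ifs with h
  · subst h; simp
  · simp

theorem Thr.pow {f : A[X]} {m : ℤ} (hf : Thr w p f m) (j : ℕ) : Thr w p (f ^ j) (j * m) := by
  induction j with
  | zero => simpa using Thr.one w p
  | succ j ih =>
    rw [pow_succ, show ((j + 1 : ℕ) : ℤ) * m = j * m + m by push_cast; ring]
    exact ih.mul w p hf

theorem Exact'.mul {f g : A[X]} {m n : ℤ} {a b : ℕ} (hf : Exact' w p f m a) (hg : Exact' w p g n b) :
    Exact' w p (f * g) (m + n) (a + b) := by
  classical
  have hlt : ∀ ij : ℕ × ℕ, ij.1 < a ∨ ij.2 < b →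
      ((m + n + ((ij.1 + ij.2 : ℕ) : ℤ) * p : ℤ) : WithTop ℤ) < w (f.coeff ij.1 * g.coeff ij.2) := by
    intro ij h
    rw [w.map_mul, show m + n + ((ij.1 + ij.2 : ℕ) : ℤ) * p = (m + ij.1 * p) + (n + ij.2 * p) by
      push_cast; ring, WithTop.coe_add]
    rcases h with h | h
    · exact WithTop.add_lt_add_of_lt_of_le WithTop.coe_ne_top (hf.2.2 _ h) (hg.1 _)
    · exact WithTop.add_lt_add_of_le_of_lt WithTop.coe_ne_top (hf.1 _) (hg.2.2 _ h)
  refine ⟨hf.1.mul w p hg.1, ?_, fun l hl => ?_⟩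
  · have hmem : (a, b) ∈ Finset.HasAntidiagonal.antidiagonal (a + b) := Finset.HasAntidiagonal.mem_antidiagonal.mpr rfl
    have hab : w (f.coeff a * g.coeff b) = ((m + n + ((a + b : ℕ) : ℤ) * p : ℤ) : WithTop ℤ) := by
      rw [w.map_mul, hf.2.1, hg.2.1, ← WithTop.coe_add]
      congr 1
      push_cast; ring
    rw [coeff_mul, ← Finset.add_sum_erase _ _ hmem, w.map_add_eq_of_lt_left, hab]
    rw [hab]
    refine w.map_lt_sum WithTop.coe_ne_top fun ij hij => ?_
    obtain ⟨hne, hij⟩ := Finset.mem_erase.mp hij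
    rw [Finset.HasAntidiagonal.mem_antidiagonal] at hij
    rw [← hij]
    refine hlt ij ?_
    by_contra hcon
    exact hne (Prod.ext (by omega) (by omega))
  · rw [coeff_mul]
    refine w.map_lt_sum WithTop.coe_ne_top fun ij hij => ?_
    rw [Finset.HasAntidiagonal.mem_antidiagonal] at hij
    rw [← hij]
    exact hlt ij (by omega)

theorem Exact'.one : Exact' w p (1 : A[X]) 0 0 :=
  ⟨Thr.one w p, by simp, fun l hl => absurd hl (Nat.not_lt_zero l)⟩

theorem Exact'.pow {f : A[X]} {m : ℤ} {k : ℕ} (hf : Exact' w p f m k) (j : ℕ) :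
    Exact' w p (f ^ j) (j * m) (j * k) := by
  induction j with
  | zero => simpa using Exact'.one w p
  | succ j ih =>
    rw [pow_succ, show ((j + 1 : ℕ) : ℤ) * m = j * m + m by push_cast; ring, add_mul, one_mul]
    exact ih.mul w p hf

theorem exists_exact {f : A[X]} (h : ¬ Thr w p f 0) : ∃ m k, m < 0 ∧ Exact' w p f m k := by
  classical
  obtain ⟨l₀, hl₀⟩ := not_forall.mp h
  let S := (f.support ∪ {l₀}).filter fun l => w (f.coeff l) ≠ ⊤
  let φ : ℕ → ℤ := fun l => (w (f.coeff l)).untopD 0 - l * p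
  have hS : ∀ l ∈ S, w (f.coeff l) = ((φ l + l * p : ℤ) : WithTop ℤ) := by
    intro l hl
    obtain ⟨c, hc⟩ := WithTop.ne_top_iff_exists.mp (Finset.mem_filter.mp hl).2
    simp [φ, ← hc]
  have hnot : ∀ l, l ∉ S → w (f.coeff l) = ⊤ := by
    intro l hl
    by_contra hne
    refine hl (Finset.mem_filter.mpr ⟨Finset.mem_union_left _ (mem_support_iff.mpr fun h0 => hne ?_), hne⟩)
    rw [h0, w.map_zero]
  have hl₀S : l₀ ∈ S := by
    refine Finset.mem_filter.mpr ⟨Finset.mem_union_right _ (Finset.mem_singleton_self _), fun h0 => hl₀ ?_⟩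
    rw [h0]; exact le_top
  obtain ⟨k₁, hk₁, hmin⟩ := Finset.exists_min_image S φ ⟨l₀, hl₀S⟩
  let T := S.filter fun l => φ l = φ k₁
  have hT : T.Nonempty := ⟨k₁, Finset.mem_filter.mpr ⟨hk₁, rfl⟩⟩
  obtain ⟨hkS, hkφ⟩ := Finset.mem_filter.mp (Finset.min'_mem T hT)
  refine ⟨φ k₁, T.min' hT, lt_of_le_of_lt (hmin _ hl₀S) ?_, fun l => ?_, by rw [hS _ hkS, hkφ], fun l hl => ?_⟩
  · rw [hS _ hl₀S, not_le, WithTop.coe_lt_coe] at hl₀
    linarith
  · by_cases hlS : l ∈ S
    · rw [hS _ hlS, WithTop.coe_le_coe]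
      linarith [hmin _ hlS]
    · rw [hnot _ hlS]; exact le_top
  · by_cases hlS : l ∈ S
    · rw [hS _ hlS, WithTop.coe_lt_coe]
      rcases (hmin _ hlS).lt_or_eq with h' | h'
      · linarith
      · exact absurd (Finset.min'_le T l (Finset.mem_filter.mpr ⟨hlS, h'.symm⟩)) (not_le.mpr hl)
    · rw [hnot _ hlS]; exact WithTop.coe_lt_top _

/-- Integral elements satisfy the threshold. -/
theorem thr_of_isIntegral [Nontrivial A] (R : Subalgebra A A[X]) (hR : ∀ g ∈ R, Thr w p g 0) {f : A[X]}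
    (hf : IsIntegral R f) : Thr w p f 0 := by
  by_contra h
  obtain ⟨m, k, hm, hex⟩ := exists_exact w p h
  obtain ⟨P, hP, hPf⟩ := hf
  rw [eval₂_eq_sum_range, Finset.sum_range_succ, hP.coeff_natDegree, map_one, one_mul,
    add_eq_zero_iff_neg_eq] at hPf
  set N := P.natDegree
  have hN := (hex.pow w p N).2.1
  rcases Nat.eq_zero_or_pos N with h0 | hpos
  · rw [h0] at hPf
    simp at hPf
  · have hthr : Thr w p (-(∑ j ∈ Finset.range N, algebraMap R A[X] (P.coeff j) * f ^ j)) ((N - 1 : ℤ) * m) := by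
      rw [← Finset.sum_neg_distrib]
      refine Thr.sum w p _ _ fun j hj l => ?_
      rw [coeff_neg, w.map_neg]
      have hj' : (j : ℤ) ≤ N - 1 := by rw [Finset.mem_range] at hj; omega
      refine ((hR _ (P.coeff j).2).mul w p (hex.1.pow w p j)).mono w p ?_ l
      nlinarith
    have := hthr (N * k)
    rw [hPf, hN, WithTop.coe_le_coe] at this
    nlinarith


/-- Let A be a Noetherian integrally closed domain with fraction field K, let v_1, …, v_s be finitely
many valuations on K with values in ℤ ∪ {∞} (written additively) that are non-negative on A, and let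
r_i = p_i / q_i be positive rationals (p_i, q_i positive integers). Let F be the filtration of
ideals of A given by F^k = {x ∈ A | q_i · v_i(x) ≥ k · p_i for every i}. Then the Rees algebra ⊕_{k
≥ 0} F^k X^k ⊆ A[X] is an integrally closed domain (it need not be Noetherian). -/
theorem result (A K : Type u) [CommRing A] [IsDomain A]
    [IsNoetherianRing A] [IsIntegrallyClosed A] [Field K] [Algebra A K] [IsFractionRing A K]
    (ι : Type) [Finite ι] (v : ι → AddValuation K (WithTop ℤ))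
    (hv : ∀ (i : ι) (x : A), 0 ≤ v i (algebraMap A K x)) (p q : ι → ℕ) (hp : ∀ i, 0 < p i)
    (hq : ∀ i, 0 < q i) (𝓕 : FiltBl.IdealFiltration A)
    (hF : ∀ (k : ℕ) (x : A), x ∈ 𝓕.F k ↔
      ∀ i, ((k * p i : ℕ) : WithTop ℤ) ≤ (q i : WithTop ℤ) * v i (algebraMap A K x)) :
    IsIntegrallyClosed 𝓕.rees := by
  classical
  -- scaled valuations
  have hmul : ∀ (n : ℕ), 0 < n → ∀ x : WithTop ℤ, (n : WithTop ℤ) * x = n • x := by
    intro n hn x
    induction x with
    | top =>
      rw [WithTop.mul_top (Nat.cast_ne_zero.mpr hn.ne')]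
      obtain ⟨j, rfl⟩ := Nat.exists_eq_succ_of_ne_zero hn.ne'
      rw [succ_nsmul, WithTop.add_top]
    | coe z => rw [← WithTop.coe_natCast, ← WithTop.coe_mul, ← WithTop.coe_nsmul, nsmul_eq_mul]
  let φ : ι → (WithTop ℤ →+ WithTop ℤ) := fun i => nsmulAddMonoidHom (q i)
  have hφtop : ∀ i, φ i ⊤ = ⊤ := fun i => by
    show q i • (⊤ : WithTop ℤ) = ⊤
    rw [← hmul _ (hq i), WithTop.mul_top (Nat.cast_ne_zero.mpr (hq i).ne')]
  let w : ι → AddValuation A (WithTop ℤ) := fun i =>
    ((v i).map (φ i) (hφtop i) (fun a b h => nsmul_le_nsmul_right h (q i))).comap (algebraMap A K)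
  have hw : ∀ i (x : A), w i x = (q i : WithTop ℤ) * v i (algebraMap A K x) :=
    fun i x => (hmul _ (hq i) _).symm
  have hmem : ∀ g : Polynomial A, g ∈ 𝓕.rees ↔ ∀ i, Thr (w i) (p i) g 0 := by
    intro g
    show (∀ l, g.coeff l ∈ 𝓕.F l) ↔ _
    simp only [hF, Thr, hw, zero_add]
    constructor
    · intro h i l
      have := h l i
      rwa [← WithTop.coe_natCast, Nat.cast_mul] at this
    · intro h l i
      have := h i l
      rwa [← WithTop.coe_natCast, Nat.cast_mul]
  rw [isIntegrallyClosed_iff (FractionRing 𝓕.rees)]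
  intro z hz
  let j : FractionRing 𝓕.rees →+* FractionRing (Polynomial A) :=
    IsLocalization.lift (g := (algebraMap (Polynomial A) (FractionRing (Polynomial A))).comp 𝓕.rees.val.toRingHom)
      (M := nonZeroDivisors 𝓕.rees) (fun y => by
        refine IsUnit.mk0 _ ?_
        rw [RingHom.comp_apply, map_ne_zero_iff _ (IsFractionRing.injective _ _)]
        exact fun h => nonZeroDivisors.ne_zero y.2 (Subtype.ext h))
  have hj : ∀ r : 𝓕.rees, j (algebraMap _ _ r) = algebraMap (Polynomial A) (FractionRing (Polynomial A)) r :=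
    fun r => IsLocalization.lift_eq _ r
  obtain ⟨P, hP, hPz⟩ := hz
  have hz' : IsIntegral (Polynomial A) (j z) := by
    refine ⟨P.map 𝓕.rees.val.toRingHom, hP.map _, ?_⟩
    have hcomp : j.comp (algebraMap 𝓕.rees (FractionRing 𝓕.rees)) =
        (algebraMap (Polynomial A) (FractionRing (Polynomial A))).comp 𝓕.rees.val.toRingHom :=
      RingHom.ext hj
    rw [Polynomial.eval₂_map, ← hcomp, ← Polynomial.hom_eval₂, hPz, map_zero]
  obtain ⟨f, hf⟩ := IsIntegrallyClosed.isIntegral_iff.mp hz'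
  have hfint : IsIntegral 𝓕.rees f := by
    refine ⟨P, hP, IsFractionRing.injective (Polynomial A) (FractionRing (Polynomial A)) ?_⟩
    rw [Polynomial.hom_eval₂, map_zero, hf]
    have hcomp : j.comp (algebraMap 𝓕.rees (FractionRing 𝓕.rees)) =
        (algebraMap (Polynomial A) (FractionRing (Polynomial A))).comp (algebraMap 𝓕.rees (Polynomial A)) :=
      RingHom.ext hj
    rw [← hcomp, ← Polynomial.hom_eval₂, hPz, map_zero]
  have hfR : f ∈ 𝓕.rees := (hmem f).mpr fun i =>
    thr_of_isIntegral (w i) (p i) 𝓕.rees (fun g hg => (hmem g).mp hg i) hfint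
  exact ⟨⟨f, hfR⟩, j.injective ((hj _).trans hf)⟩

end Groth.Agent.S14652
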