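import Groth.Statements.S14654
import Groth.Agent.H80.ProjStalkDepth

set_option autoImplicit false
set_option backward.isDefEq.respectTransparency false
universe u
open FiltBl

namespace Groth.Agent.S14654

/-- A subring all of whose ideals are contracted from an integrally closed domain is integrally
closed. -/
theorem of_contracted_aux {R S K L : Type u} [CommRing R] [IsDomain R] [CommRing S] [IsDomain S]
    [IsIntegrallyClosed S] [Field K] [Algebra R K] [IsFractionRing R K] [Field L] [Algebra S L]
    [IsFractionRing S L] (f : R →+* S) (hf : Function.Injective f)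
    (hc : ∀ (I : Ideal R) (c : R), f c ∈ I.map f → c ∈ I) {x : K} (hx : IsIntegral R x) :
    ∃ r, algebraMap R K r = x := by
  obtain ⟨a, b, hb, rfl⟩ := IsFractionRing.div_surjective (A := R) x
  have hb0 : b ≠ 0 := nonZeroDivisors.ne_zero hb
  have hg : Function.Injective ((algebraMap S L).comp f) := (IsFractionRing.injective S L).comp hf
  let g : K →+* L := IsFractionRing.lift hg
  have hga : ∀ r, g (algebraMap R K r) = algebraMap S L (f r) :=
    fun r => IsFractionRing.lift_algebraMap hg r
  have h1 : IsIntegral S (g (algebraMap R K a / algebraMap R K b)) := by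
    obtain ⟨q, hq, hq0⟩ := hx
    refine ⟨q.map f, hq.map f, ?_⟩
    have h2 : g.comp (algebraMap R K) = (algebraMap S L).comp f := RingHom.ext hga
    rw [Polynomial.eval₂_map, ← h2, ← Polynomial.hom_eval₂, hq0, map_zero]
  obtain ⟨y, hy⟩ := IsIntegrallyClosed.isIntegral_iff.mp h1
  have hfb : algebraMap S L (f b) ≠ 0 :=
    (map_ne_zero_iff _ (IsFractionRing.injective S L)).mpr ((map_ne_zero_iff _ hf).mpr hb0)
  rw [map_div₀ g, hga, hga, eq_div_iff hfb, ← map_mul] at hy
  have hay : f a ∈ (Ideal.span {b}).map f := by
    rw [← IsFractionRing.injective S L hy]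
    exact Ideal.mul_mem_left _ y (Ideal.mem_map_of_mem f (Ideal.mem_span_singleton_self b))
  obtain ⟨r, rfl⟩ := Ideal.mem_span_singleton'.mp (hc _ a hay)
  exact ⟨r, by rw [map_mul, mul_div_assoc,
    div_self ((map_ne_zero_iff _ (IsFractionRing.injective R K)).mpr hb0), mul_one]⟩

theorem of_contracted {R S : Type u} [CommRing R] [CommRing S] [IsDomain S] [IsIntegrallyClosed S]
    (f : R →+* S) (hf : Function.Injective f)
    (hc : ∀ (I : Ideal R) (c : R), f c ∈ I.map f → c ∈ I) :
    IsDomain R ∧ IsIntegrallyClosed R := by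
  have : IsDomain R := hf.isDomain f
  exact ⟨this, (isIntegrallyClosed_iff (FractionRing R)).mpr fun {x} hx =>
    of_contracted_aux (L := FractionRing S) f hf hc hx⟩

open AlgebraicGeometry in
/-- Let A be a Noetherian ℕ-graded commutative ring which is normal, i.e. every localization of A at a
prime ideal is an integrally closed domain. Then the scheme Proj A is normal: every local ring of
Proj A is an integrally closed domain. -/
theorem result (A : Type u) [CommRing A] [IsNoetherianRing A]
    (𝒜 : ℕ → AddSubgroup A) [GradedRing 𝒜]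
    (hA : ∀ (p : Ideal A) [p.IsPrime], IsDomain (Localization.AtPrime p) ∧
      IsIntegrallyClosed (Localization.AtPrime p))
    (x : Proj 𝒜) :
    IsDomain ((Proj 𝒜).presheaf.stalk x) ∧ IsIntegrallyClosed ((Proj 𝒜).presheaf.stalk x) := by
  let p := x.asHomogeneousIdeal.toIdeal
  have := (hA p).1
  have := (hA p).2
  let E := (Proj.stalkIso 𝒜 x).commRingCatIsoToRingEquiv
  exact of_contracted (Groth.Agent.H80.ProjStalkDepth.φ 𝒜 p E)
    (Groth.Agent.H80.ProjStalkDepth.φ_injective 𝒜 p E)
    (fun I c h => Groth.Agent.H80.ProjStalkDepth.contracted 𝒜 p E I c h)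

end Groth.Agent.S14654
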