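import Groth.Statements.S14655
import Groth.Agent.H80.ProjStalkDepth

set_option autoImplicit false
set_option backward.isDefEq.respectTransparency false
universe u
open FiltBl

namespace Groth.Agent.S14655

open AlgebraicGeometry in
/-- Let A be a Noetherian ℕ-graded commutative ring which is a Cohen–Macaulay ring. Then the scheme Proj
A is Cohen–Macaulay: every local ring of Proj A is a Cohen–Macaulay local ring. -/
theorem result (A : Type u) [CommRing A]
    (𝒜 : ℕ → AddSubgroup A) [GradedRing 𝒜] [LocCoh.IsCohenMacaulayRing A] (x : Proj 𝒜) :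
    LocCoh.IsCohenMacaulayLocalRing ((Proj 𝒜).presheaf.stalk x) := by
  obtain ⟨d, f, hd, hf, hfp⟩ := Groth.Agent.H80.ProjStalkDepth.exists_deg 𝒜
    x.asHomogeneousIdeal.toIdeal x.not_irrelevant_le
  exact Groth.Agent.H80.ProjStalkDepth.isCohenMacaulayLocalRing 𝒜 _ (Proj.stalkIso 𝒜 x).commRingCatIsoToRingEquiv hd hf hfp x.asHomogeneousIdeal.isHomogeneous

end Groth.Agent.S14655
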