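import Groth.Statements.S14658
import Groth.Agent.Lib.Regular.Quotient
import Groth.Agent.Lib.Regular.Serre
import Mathlib.RingTheory.RegularLocalRing.Polynomial
import Mathlib.Algebra.Polynomial.Laurent
import Mathlib.RingTheory.GradedAlgebra.Basic
import Mathlib.RingTheory.AdjoinRoot
import Mathlib.RingTheory.IntegralClosure.IsIntegralClosure.Basic

set_option autoImplicit false
universe u
open FiltBl

namespace Groth.Agent.S14658

open DirectSum

variable {R : Type u} [CommRing R] (𝒜 : ℤ → AddSubgroup R) [GradedRing 𝒜]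

/-- A ring homomorphism given on homogeneous pieces. -/
noncomputable def homOfPieces {X : Type*} [CommRing X] (f : ∀ n, 𝒜 n →+ X)
    (h1 : f 0 ⟨1, SetLike.one_mem_graded 𝒜⟩ = 1)
    (hmul : ∀ {n l} (a : 𝒜 n) (b : 𝒜 l),
      f (n + l) ⟨(a : R) * b, SetLike.mul_mem_graded a.2 b.2⟩ = f n a * f l b) : R →+* X :=
  (DirectSum.toSemiring f h1 hmul).comp (decomposeRingEquiv 𝒜).toRingHom

theorem homOfPieces_apply {X : Type*} [CommRing X] (f : ∀ n, 𝒜 n →+ X)
    (h1 : f 0 ⟨1, SetLike.one_mem_graded 𝒜⟩ = 1)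
    (hmul : ∀ {n l} (a : 𝒜 n) (b : 𝒜 l),
      f (n + l) ⟨(a : R) * b, SetLike.mul_mem_graded a.2 b.2⟩ = f n a * f l b) {n : ℤ} (a : 𝒜 n) :
    homOfPieces 𝒜 f h1 hmul (a : R) = f n a := by
  change DirectSum.toAddMonoid f (decompose 𝒜 (a : R)) = f n a
  rw [decompose_coe, toAddMonoid_of]

theorem ext_pieces {X : Type*} [CommRing X] (f g : R →+* X)
    (h : ∀ (n : ℤ) (a : R), a ∈ 𝒜 n → f a = g a) : f = g := by
  refine RingHom.ext fun x => ?_
  induction x using Decomposition.inductionOn 𝒜 with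
  | zero => simp
  | homogeneous m => exact h _ _ m.2
  | add m m' hm hm' => rw [map_add, map_add, hm, hm']

theorem isRegularRing_laurent (T : Type u) [CommRing T] [IsRegularRing T] :
    IsRegularRing (LaurentPolynomial T) := by
  have := IsLocalization.isNoetherianRing (Submonoid.powers (Polynomial.X : Polynomial T))
    (LaurentPolynomial T) inferInstance
  refine isRegularRing_iff.2 fun q hq => ?_
  let q' := q.comap (algebraMap (Polynomial T) (LaurentPolynomial T))
  have : IsLocalization.AtPrime (Localization.AtPrime q) q' :=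
    IsLocalization.isLocalization_isLocalization_atPrime_isLocalization
      (Submonoid.powers (Polynomial.X : Polynomial T)) (Localization.AtPrime q) q
  have := isRegularRing_iff.1 (inferInstance : IsRegularRing (Polynomial T)) q'
  exact IsRegularLocalRing.of_ringEquiv
    (IsLocalization.algEquiv q'.primeCompl (Localization.AtPrime q') (Localization.AtPrime q)).toRingEquiv

variable (N : ℕ) (t : R)

theorem isIntegralElem_of_pow {A B : Type*} [CommRing A] [CommRing B] (f : A →+* B) {x : B} {n : ℕ} (hn : 0 < n)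
    (h : f.IsIntegralElem (x ^ n)) : f.IsIntegralElem x := by
  letI := f.toAlgebra
  exact IsIntegral.of_pow (R := A) hn h

theorem zpow_mem (ht : t ∈ 𝒜 (N : ℤ)) (u : Rˣ) (hu : (u : R) = t) (z : ℤ) :
    ((u ^ z : Rˣ) : R) ∈ 𝒜 (z * N) := by
  have hneg : ((u⁻¹ : Rˣ) : R) ∈ 𝒜 (-(N : ℤ)) := by
    have h := coe_decompose_mul_add_of_left_mem 𝒜 (i := (N : ℤ)) (j := -(N : ℤ)) (b := ((u⁻¹ : Rˣ) : R))
      (show (u : R) ∈ 𝒜 N by rw [hu]; exact ht)
    rw [Units.mul_inv, add_neg_cancel, decompose_of_mem_same 𝒜 (SetLike.one_mem_graded 𝒜)] at h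
    have h2 : ((decompose 𝒜 ((u⁻¹ : Rˣ) : R) (-(N : ℤ))) : R) = ((u⁻¹ : Rˣ) : R) := by
      rw [← Units.inv_mul_cancel_left u ((decompose 𝒜 ((u⁻¹ : Rˣ) : R) (-(N : ℤ))) : R), ← h, mul_one]
    rw [← h2]
    exact SetLike.coe_mem _
  induction z using Int.induction_on with
  | zero => simpa using SetLike.one_mem_graded 𝒜
  | succ i ih =>
    rw [zpow_add_one, Units.val_mul, add_mul, one_mul]
    exact SetLike.mul_mem_graded ih (hu ▸ ht)
  | pred i ih =>
    rw [zpow_sub_one, Units.val_mul, sub_mul, one_mul, sub_eq_add_neg]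
    exact SetLike.mul_mem_graded ih hneg

variable [IsLocalRing (GrLC.deg0 𝒜)]

/-- The residue of `a t ^ (-n / N)` for `N ∣ n`, zero otherwise. -/
theorem exists_residue_hom (hN : 0 < N) (ht : t ∈ 𝒜 (N : ℤ)) (u : Rˣ) (hu : (u : R) = t)
    (hm : ∀ (i j : ℤ), 0 < i → 0 < j → i + j = (N : ℤ) → ∀ a ∈ 𝒜 i, ∀ b ∈ 𝒜 j,
      ∃ c : GrLC.deg0 𝒜, c ∈ IsLocalRing.maximalIdeal (GrLC.deg0 𝒜) ∧ a * b = (c : R) * t) :
    ∃ (e : R →+* IsLocalRing.ResidueField (GrLC.deg0 𝒜)) (D : R →+ IsLocalRing.ResidueField (GrLC.deg0 𝒜)),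
      (∀ x y, D (x * y) = D x * e y + e x * D y) ∧ D (t - 1) = 1 ∧ e (t - 1) = 0 ∧
      (∀ c : GrLC.deg0 𝒜, e (c : R) = IsLocalRing.residue (GrLC.deg0 𝒜) c) := by
  classical
  let R0 := GrLC.deg0 𝒜
  let k := IsLocalRing.ResidueField R0
  have hz := zpow_mem 𝒜 N t ht u hu
  have hmem : ∀ {n : ℤ}, (N : ℤ) ∣ n → ∀ a : 𝒜 n, (a : R) * ((u ^ (-(n / N)) : Rˣ) : R) ∈ 𝒜 0 := by
    intro n hn a
    have := SetLike.mul_mem_graded a.2 (hz (-(n / N)))
    rwa [neg_mul, Int.ediv_mul_cancel hn, add_neg_cancel] at this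
  let red : ∀ {n : ℤ}, (N : ℤ) ∣ n → 𝒜 n → R0 := fun hn a => ⟨_, hmem hn a⟩
  let π : ∀ n, 𝒜 n →+ k := fun n =>
    if hn : (N : ℤ) ∣ n then
      { toFun := fun a => IsLocalRing.residue R0 (red hn a)
        map_zero' := by
          rw [← map_zero (IsLocalRing.residue R0)]
          congr 1; ext; simp [red]
        map_add' := fun a b => by
          rw [← map_add]
          congr 1; ext; simp [red, add_mul] }
    else 0
  have hπ : ∀ {n : ℤ} (hn : (N : ℤ) ∣ n) (a : 𝒜 n), π n a = IsLocalRing.residue R0 (red hn a) := fun hn a => by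
    simp [π, dif_pos hn]
  have hπ' : ∀ {n : ℤ} (hn : ¬ (N : ℤ) ∣ n) (a : 𝒜 n), π n a = 0 := fun hn a => by simp [π, dif_neg hn]
  have h1 : π 0 ⟨1, SetLike.one_mem_graded 𝒜⟩ = 1 := by
    rw [hπ (dvd_zero _), ← map_one (IsLocalRing.residue R0)]
    congr 1; ext; simp [red]
  have hN' : (N : ℤ) ≠ 0 := by omega
  have hmul : ∀ {n l} (a : 𝒜 n) (b : 𝒜 l),
      π (n + l) ⟨(a : R) * b, SetLike.mul_mem_graded a.2 b.2⟩ = π n a * π l b := by
    intro n l a b
    by_cases hnl : (N : ℤ) ∣ n + l
    · by_cases hn : (N : ℤ) ∣ n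
      · have hl : (N : ℤ) ∣ l := (Int.dvd_add_right hn).1 hnl
        rw [hπ hnl, hπ hn, hπ hl, ← map_mul]
        congr 1; ext
        simp only [red, MulMemClass.coe_mul]
        rw [Int.add_ediv_of_dvd_left hn, neg_add, zpow_add, Units.val_mul]
        ring
      · have hl : ¬ (N : ℤ) ∣ l := fun hl => hn ((Int.dvd_add_left hl).1 hnl)
        rw [hπ hnl, hπ' hn, zero_mul]
        rw [IsLocalRing.residue_eq_zero_iff]
        have hi0 : 0 < n % N := lt_of_le_of_ne (Int.emod_nonneg n hN')
          (fun h => hn (Int.dvd_of_emod_eq_zero h.symm))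
        have hi1 : n % N < N := Int.emod_lt_of_pos n (by omega)
        have hj0 : 0 < l % N := lt_of_le_of_ne (Int.emod_nonneg l hN')
          (fun h => hl (Int.dvd_of_emod_eq_zero h.symm))
        have hj1 : l % N < N := Int.emod_lt_of_pos l (by omega)
        have e1 := Int.emod_add_mul_ediv n N
        have e2 := Int.emod_add_mul_ediv l N
        obtain ⟨q, hq⟩ := hnl
        have hs : n % N + l % N = N * (q - n / N - l / N) := by rw [mul_sub, mul_sub, ← hq]; linarith
        have hq1 : q - n / N - l / N = 1 := by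
          rcases lt_trichotomy (q - n / N - l / N) 1 with h | h | h
          · exfalso; nlinarith
          · exact h
          · exfalso; nlinarith
        rw [hq1, mul_one] at hs
        have ha : (a : R) * ((u ^ (-(n / N)) : Rˣ) : R) ∈ 𝒜 (n % N) := by
          have := SetLike.mul_mem_graded a.2 (hz (-(n / N)))
          rwa [show n + -(n / N) * N = n % N by linarith] at this
        have hb : (b : R) * ((u ^ (-(l / N)) : Rˣ) : R) ∈ 𝒜 (l % N) := by
          have := SetLike.mul_mem_graded b.2 (hz (-(l / N)))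
          rwa [show l + -(l / N) * N = l % N by linarith] at this
        obtain ⟨c, hc, hc'⟩ := hm _ _ hi0 hj0 hs _ ha _ hb
        convert hc using 1
        ext
        simp only [red]
        have hdiv : (n + l) / (N : ℤ) = n / N + l / N + 1 := by
          rw [show n + l = (N : ℤ) * (n / N + l / N + 1) by rw [hq, show q = n / N + l / N + 1 by omega],
            Int.mul_ediv_cancel_left _ hN']
        rw [hdiv, show -(n / (N : ℤ) + l / N + 1) = -(n / (N : ℤ)) + -(l / N) + (-1) by ring, zpow_add, zpow_add,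
          Units.val_mul, Units.val_mul,
          show (a : R) * b * (((u ^ (-(n / (N : ℤ))) : Rˣ) : R) * ((u ^ (-(l / (N : ℤ))) : Rˣ) : R) * ((u ^ (-1 : ℤ) : Rˣ) : R)) =
            ((a : R) * ((u ^ (-(n / (N : ℤ))) : Rˣ) : R)) * ((b : R) * ((u ^ (-(l / (N : ℤ))) : Rˣ) : R)) * ((u ^ (-1 : ℤ) : Rˣ) : R) by ring,
          hc', ← hu, zpow_neg_one, mul_assoc, Units.mul_inv, mul_one]
    · rw [hπ' hnl]
      by_cases hn : (N : ℤ) ∣ n
      · rw [hπ' (fun hl => hnl (dvd_add hn hl)) b, mul_zero]
      · rw [hπ' hn, zero_mul]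
  let e := homOfPieces 𝒜 π h1 hmul
  let d : ∀ n, 𝒜 n →+ k := fun n => (AddMonoidHom.mulLeft ((n / (N : ℤ) : ℤ) : k)).comp (π n)
  let D : R →+ k := (DirectSum.toAddMonoid d).comp (decomposeRingEquiv 𝒜).toRingHom.toAddMonoidHom
  have he : ∀ {n : ℤ} (a : 𝒜 n), e (a : R) = π n a := fun a => homOfPieces_apply 𝒜 π h1 hmul a
  have hD : ∀ {n : ℤ} (a : 𝒜 n), D (a : R) = ((n / (N : ℤ) : ℤ) : k) * π n a := fun {n} a => by
    change DirectSum.toAddMonoid d (decompose 𝒜 (a : R)) = _
    rw [decompose_coe, toAddMonoid_of]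
    rfl
  refine ⟨e, D, ?_, ?_, ?_, ?_⟩
  · intro x
    induction x using Decomposition.inductionOn 𝒜 with
    | zero => intro y; simp
    | add x x' hx hx' =>
      intro y; rw [add_mul, map_add, hx, hx', map_add, map_add]; ring
    | @homogeneous n a =>
      intro y
      induction y using Decomposition.inductionOn 𝒜 with
      | zero => simp
      | add y y' hy hy' => rw [mul_add, map_add, hy, hy', map_add, map_add]; ring
      | @homogeneous l b =>
        have := hD (⟨(a : R) * b, SetLike.mul_mem_graded a.2 b.2⟩ : 𝒜 (n + l))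
        simp only at this
        rw [this, hmul, hD, hD, he, he]
        by_cases hn : (N : ℤ) ∣ n
        · rw [Int.add_ediv_of_dvd_left hn, Int.cast_add]; ring
        · rw [hπ' hn]; ring
  · have h := hD (⟨t, ht⟩ : 𝒜 (N : ℤ))
    have h' := hD (⟨1, SetLike.one_mem_graded 𝒜⟩ : 𝒜 0)
    simp only at h h'
    rw [map_sub, h, h', h1, hπ (dvd_refl _), Int.ediv_self hN']
    have : red (dvd_refl _) (⟨t, ht⟩ : 𝒜 (N : ℤ)) = 1 := by
      ext; simp [red, Int.ediv_self hN', ← hu]
    simp [this]
  · have h := he (⟨t, ht⟩ : 𝒜 (N : ℤ))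
    simp only at h
    rw [map_sub, map_one, h, hπ (dvd_refl _)]
    have : red (dvd_refl _) (⟨t, ht⟩ : 𝒜 (N : ℤ)) = 1 := by
      ext; simp [red, Int.ediv_self hN', ← hu]
    simp [this]
  · intro c
    have h := he (⟨(c : R), c.2⟩ : 𝒜 0)
    simp only at h
    rw [h, hπ (dvd_zero _)]
    congr 1; ext; simp [red]

theorem regular_quotient [IsNoetherianRing R]
    (hreg : ∀ (p : Ideal R) [p.IsPrime], IsRegularLocalRing (Localization.AtPrime p))
    (hN : 0 < N) (ht : t ∈ 𝒜 (N : ℤ)) (u : Rˣ) (hu : (u : R) = t)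
    (hm : ∀ (i j : ℤ), 0 < i → 0 < j → i + j = (N : ℤ) → ∀ a ∈ 𝒜 i, ∀ b ∈ 𝒜 j,
      ∃ c : GrLC.deg0 𝒜, c ∈ IsLocalRing.maximalIdeal (GrLC.deg0 𝒜) ∧ a * b = (c : R) * t) :
    IsRegularLocalRing (R ⧸ Ideal.span {t - 1}) := by
  obtain ⟨e, D, hD, hDt, het, hres⟩ := exists_residue_hom 𝒜 N t hN ht u hu hm
  let T := R ⧸ Ideal.span {t - 1}
  let R0 := GrLC.deg0 𝒜
  let P := RingHom.ker e
  have : P.IsPrime := RingHom.ker_isPrime e
  let mkT : R →+* T := Ideal.Quotient.mk (Ideal.span {t - 1})
  have hmt : mkT t = 1 := by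
    rw [← sub_eq_zero, ← map_one mkT, ← map_sub, Ideal.Quotient.eq_zero_iff_mem]
    exact Ideal.mem_span_singleton_self _
  have hmu : ∀ z : ℤ, mkT ((u ^ z : Rˣ) : R) = 1 := fun z => by
    have h0 : Units.map mkT.toMonoidHom u = 1 := Units.ext (by simpa [hu] using hmt)
    rw [show mkT ((u ^ z : Rˣ) : R) = (Units.map mkT.toMonoidHom (u ^ z) : T) from rfl, map_zpow, h0, one_zpow]
    rfl
  have hz := zpow_mem 𝒜 N t ht u hu
  -- `T` is integral over the degree zero ring
  let f0 : R0 →+* T := mkT.comp R0.subtype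
  have hint : f0.IsIntegral := by
    intro y
    obtain ⟨x, rfl⟩ := Ideal.Quotient.mk_surjective y
    induction x using Decomposition.inductionOn 𝒜 with
    | zero => rw [map_zero]; exact RingHom.isIntegralElem_zero f0
    | add x x' hx hx' => rw [map_add]; exact RingHom.IsIntegralElem.add f0 hx hx'
    | @homogeneous n a =>
      have hmem : (a : R) ^ N * ((u ^ (-n) : Rˣ) : R) ∈ 𝒜 0 := by
        have := SetLike.mul_mem_graded (SetLike.pow_mem_graded N a.2) (hz (-n))
        rwa [nsmul_eq_mul, mul_comm, neg_mul, add_neg_cancel] at this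
      refine isIntegralElem_of_pow f0 hN ?_
      have : mkT (a : R) ^ N = f0 ⟨_, hmem⟩ := by
        change _ = mkT ((a : R) ^ N * ((u ^ (-n) : Rˣ) : R))
        rw [map_mul, hmu, mul_one, map_pow]
      rw [show (Ideal.Quotient.mk (Ideal.span {t - 1})) (a : R) = mkT a from rfl, this]
      exact RingHom.isIntegralElem_map f0
  -- `T` is local with maximal ideal the kernel of the residue map
  have hPmax : ∀ M : Ideal T, M.IsMaximal → P ≤ M.comap mkT := by
    intro M hM
    have hM0 : M.comap f0 = IsLocalRing.maximalIdeal R0 :=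
      IsLocalRing.eq_maximalIdeal (Ideal.isMaximal_comap_of_isIntegral_of_isMaximal' f0 hint M)
    have key : ∀ x : R, ∃ c : R0, mkT x - f0 c ∈ M ∧ e x = IsLocalRing.residue R0 c := by
      intro x
      induction x using Decomposition.inductionOn 𝒜 with
      | zero => exact ⟨0, by simp, by simp⟩
      | add x x' hx hx' =>
        obtain ⟨c, h1, h2⟩ := hx
        obtain ⟨c', h1', h2'⟩ := hx'
        exact ⟨c + c', by convert add_mem h1 h1' using 1; simp only [map_add]; ring, by rw [map_add, map_add, h2, h2']⟩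
      | @homogeneous n a =>
        by_cases hn : (N : ℤ) ∣ n
        · have hmem : (a : R) * ((u ^ (-(n / N)) : Rˣ) : R) ∈ 𝒜 0 := by
            have := SetLike.mul_mem_graded a.2 (hz (-(n / N)))
            rwa [neg_mul, Int.ediv_mul_cancel hn, add_neg_cancel] at this
          refine ⟨⟨_, hmem⟩, ?_, ?_⟩
          · change mkT (a : R) - mkT ((a : R) * _) ∈ M
            rw [map_mul, hmu, mul_one, sub_self]
            exact zero_mem M
          · rw [← hres]
            change e (a : R) = e ((a : R) * _)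
            have h1 : e ((u ^ (-(n / N)) : Rˣ) : R) = 1 := by
              have h0 : Units.map e.toMonoidHom u = 1 := Units.ext (by
                simpa [hu, sub_eq_zero] using het)
              rw [show e ((u ^ (-(n / N)) : Rˣ) : R) = (Units.map e.toMonoidHom (u ^ (-(n / N))) : _) from rfl,
                map_zpow, h0, one_zpow]
              rfl
            rw [map_mul, h1, mul_one]
        · have hmem : (a : R) ^ N * ((u ^ (-n) : Rˣ) : R) ∈ 𝒜 0 := by
            have := SetLike.mul_mem_graded (SetLike.pow_mem_graded N a.2) (hz (-n))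
            rwa [nsmul_eq_mul, mul_comm, neg_mul, add_neg_cancel] at this
          have hea : e (a : R) = 0 := by
            have hda := hD (a : R) 1
            by_contra hne
            -- `e` vanishes on pieces of degree prime to `N`
            obtain ⟨c, hc, hc'⟩ := hm (n % N) (N - n % N)
              (lt_of_le_of_ne (Int.emod_nonneg n (by omega)) fun h => hn (Int.dvd_of_emod_eq_zero h.symm))
              (by have := Int.emod_lt_of_pos n (show (0 : ℤ) < N by omega); omega) (by ring)
              ((a : R) * ((u ^ (-(n / N)) : Rˣ) : R)) (by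
                have := SetLike.mul_mem_graded a.2 (hz (-(n / N)))
                rwa [show n + -(n / N) * N = n % N by linarith [Int.emod_add_mul_ediv n N]] at this)
              (((a : R) * ((u ^ (-(n / N)) : Rˣ) : R)) ^ (N - 1) * ((u ^ (-(n % N - 1)) : Rˣ) : R)) (by
                have h' : (a : R) * ((u ^ (-(n / N)) : Rˣ) : R) ∈ 𝒜 (n % N) := by
                  have := SetLike.mul_mem_graded a.2 (hz (-(n / N)))
                  rwa [show n + -(n / N) * N = n % N by linarith [Int.emod_add_mul_ediv n N]] at this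
                have := SetLike.mul_mem_graded (SetLike.pow_mem_graded (N - 1) h') (hz (-(n % N - 1)))
                rwa [show (N - 1) • (n % N) + -(n % N - 1) * (N : ℤ) = N - n % N by
                  rw [nsmul_eq_mul, Nat.cast_sub (by omega : 1 ≤ N)]; push_cast; ring] at this)
            have h2 := congrArg e hc'
            rw [map_mul _ (c : R), hres, (IsLocalRing.residue_eq_zero_iff c).2 hc, zero_mul] at h2
            simp only [map_mul, map_pow, mul_eq_zero] at h2
            rcases h2 with (h | h) | (h | h)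
            · exact hne h
            · exact (IsUnit.map e (Units.isUnit _)).ne_zero h
            · simp only [pow_eq_zero_iff', mul_eq_zero] at h
              rcases h.1 with h | h
              · exact hne h
              · exact (IsUnit.map e (Units.isUnit _)).ne_zero h
            · exact (IsUnit.map e (Units.isUnit _)).ne_zero h
          refine ⟨0, ?_, by rw [hea, map_zero]⟩
          rw [map_zero, sub_zero]
          refine hM.isPrime.mem_of_pow_mem N ?_
          have : mkT (a : R) ^ N = f0 ⟨_, hmem⟩ := by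
            change _ = mkT ((a : R) ^ N * ((u ^ (-n) : Rˣ) : R))
            rw [map_mul, hmu, mul_one, map_pow]
          rw [this, ← Ideal.mem_comap, hM0, ← IsLocalRing.residue_eq_zero_iff, ← hres]
          simp [hea, hN.ne']
    intro x hx
    obtain ⟨c, h1, h2⟩ := key x
    rw [RingHom.mem_ker.1 hx, eq_comm, IsLocalRing.residue_eq_zero_iff, ← hM0, Ideal.mem_comap] at h2
    rw [Ideal.mem_comap, ← sub_add_cancel (mkT x) (f0 c)]
    exact add_mem h1 h2
  have hunit : ∀ s : P.primeCompl, IsUnit (mkT s) := by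
    intro s
    by_contra hns
    obtain ⟨M, hM, hsM⟩ := exists_max_ideal_of_mem_nonunits hns
    have : P = M.comap mkT := by
      have hPM : P.IsMaximal := RingHom.ker_isMaximal_of_surjective e (fun z => by
        obtain ⟨c, rfl⟩ := IsLocalRing.residue_surjective z
        exact ⟨c, hres c⟩)
      exact hPM.eq_of_le (hM.isPrime.comap mkT).ne_top (hPmax M hM)
    exact s.2 (this.ge hsM)
  let L := Localization.AtPrime P
  have := hreg P
  let x := algebraMap R L (t - 1)
  have hx : x ∈ IsLocalRing.maximalIdeal L :=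
    (IsLocalization.AtPrime.to_map_mem_maximal_iff L P _).2 het
  have hDP : ∀ z ∈ P ^ 2, D z = 0 := by
    intro z hz
    rw [pow_two] at hz
    refine Submodule.mul_induction_on hz (fun a ha b hb => ?_) (fun a b ha hb => by rw [map_add, ha, hb, add_zero])
    rw [hD, RingHom.mem_ker.1 ha, RingHom.mem_ker.1 hb]; simp
  have hx2 : x ∉ IsLocalRing.maximalIdeal L ^ 2 := by
    rw [← Localization.AtPrime.map_eq_maximalIdeal, ← Ideal.map_pow,
      IsLocalization.algebraMap_mem_map_algebraMap_iff P.primeCompl]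
    rintro ⟨s, hs, hst⟩
    have h := hDP _ hst
    rw [hD, hDt, het, mul_zero, zero_add, mul_one] at h
    exact hs h
  have := (Lib.Regular.Quotient.quotient_singleton hx hx2).1
  let l1 : L →+* T := IsLocalization.lift hunit
  let f1 : L ⧸ Ideal.span {x} →+* T := Ideal.Quotient.lift _ l1 fun z hz => by
    obtain ⟨w, rfl⟩ := Ideal.mem_span_singleton'.1 hz
    rw [map_mul, show l1 x = mkT (t - 1) from IsLocalization.lift_eq hunit _,
      Ideal.Quotient.eq_zero_iff_mem.2 (Ideal.mem_span_singleton_self _), mul_zero]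
  let f2 : T →+* L ⧸ Ideal.span {x} := Ideal.Quotient.lift _ ((Ideal.Quotient.mk _).comp (algebraMap R L)) fun z hz => by
    obtain ⟨w, rfl⟩ := Ideal.mem_span_singleton'.1 hz
    rw [RingHom.comp_apply, map_mul, Ideal.Quotient.eq_zero_iff_mem]
    exact Ideal.mul_mem_left _ _ (Ideal.mem_span_singleton_self _)
  refine IsRegularLocalRing.of_ringEquiv (RingEquiv.ofRingHom f1 f2 ?_ ?_)
  · refine Ideal.Quotient.ringHom_ext (RingHom.ext fun r => ?_)
    change l1 (algebraMap R L r) = mkT r
    exact IsLocalization.lift_eq hunit r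
  · refine Ideal.Quotient.ringHom_ext (IsLocalization.ringHom_ext P.primeCompl (RingHom.ext fun r => ?_))
    change f2 (l1 (algebraMap R L r)) = Ideal.Quotient.mk _ (algebraMap R L r)
    rw [show l1 (algebraMap R L r) = mkT r from IsLocalization.lift_eq hunit r]
    rfl

/-- Let R be a Noetherian ℤ-graded commutative ring which is regular (every localization at a prime is a
regular local ring) and whose degree-0 subring R_0 is a local ring with maximal ideal m. Let t ∈ R_N
be a homogeneous unit of R of positive degree N such that R_i · R_j ⊆ m · t for all positive i, j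
with i + j = N (every product a b with a ∈ R_i, b ∈ R_j is c t for some c ∈ m). Then the ring
R[U]/(U^N − t), U an indeterminate, is again regular: all its localizations at prime ideals are
regular local rings. -/
theorem result (R : Type u) [CommRing R]
    [IsNoetherianRing R] (𝒜 : ℤ → AddSubgroup R) [GradedRing 𝒜]
    (hreg : ∀ (p : Ideal R) [p.IsPrime], IsRegularLocalRing (Localization.AtPrime p))
    [IsLocalRing (GrLC.deg0 𝒜)] (N : ℕ) (hN : 0 < N) (t : R) (ht : t ∈ 𝒜 (N : ℤ))
    (htu : IsUnit t)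
    (hm : ∀ (i j : ℤ), 0 < i → 0 < j → i + j = (N : ℤ) → ∀ a ∈ 𝒜 i, ∀ b ∈ 𝒜 j,
      ∃ c : GrLC.deg0 𝒜, c ∈ IsLocalRing.maximalIdeal (GrLC.deg0 𝒜) ∧ a * b = (c : R) * t)
    (q : Ideal (AdjoinRoot (Polynomial.X ^ N - Polynomial.C t))) [q.IsPrime] :
    IsRegularLocalRing (Localization.AtPrime q) := by
  classical
  obtain ⟨u, hu⟩ := htu
  have := regular_quotient 𝒜 N t hreg hN ht u hu hm
  let T := R ⧸ Ideal.span {t - 1}
  let S := AdjoinRoot (Polynomial.X ^ N - Polynomial.C t)
  let o : R →+* S := AdjoinRoot.of _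
  let r : S := AdjoinRoot.root _
  have hr : r ^ N = o t := by
    have := AdjoinRoot.eval₂_root (Polynomial.X ^ N - Polynomial.C t)
    simpa [sub_eq_zero] using this
  obtain ⟨U, hU⟩ : IsUnit r := (isUnit_pow_iff hN.ne').1 (by rw [hr]; exact (show IsUnit t from ⟨u, hu⟩).map o)
  let φ0 : R →+* S := homOfPieces 𝒜
    (fun n => (AddMonoidHom.mulRight ((U ^ (-n) : Sˣ) : S)).comp (o.toAddMonoidHom.comp (𝒜 n).subtype))
    (by simp)
    (fun {n l} a b => by
      simp only [AddMonoidHom.comp_apply, AddMonoidHom.mulRight_apply, AddSubgroup.subtype_apply,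
        RingHom.toAddMonoidHom_eq_coe, RingHom.coe_addMonoidHom_mk, AddMonoidHom.coe_coe]
      rw [map_mul, neg_add, zpow_add, Units.val_mul]; ring)
  have hφ0 : ∀ {n : ℤ} (a : 𝒜 n), φ0 (a : R) = o a * ((U ^ (-n) : Sˣ) : S) :=
    fun a => homOfPieces_apply 𝒜 _ _ _ a
  have hUN : o t * ((U ^ (-(N : ℤ)) : Sˣ) : S) = 1 := by
    rw [← hr, ← hU, zpow_neg, zpow_natCast, ← Units.val_pow_eq_pow_val, Units.mul_inv]
  let φ : T →+* S := Ideal.Quotient.lift _ φ0 fun z hz => by
    obtain ⟨w, rfl⟩ := Ideal.mem_span_singleton'.1 hz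
    have h := hφ0 (⟨t, ht⟩ : 𝒜 (N : ℤ))
    rw [map_mul, map_sub, map_one, h, hUN, sub_self, mul_zero]
  let Φ : LaurentPolynomial T →+* S := LaurentPolynomial.eval₂ φ U
  let ψ : R →+* LaurentPolynomial T := homOfPieces 𝒜
    (fun n => (AddMonoidHom.mulRight (LaurentPolynomial.T n)).comp
      (((LaurentPolynomial.C : T →+* LaurentPolynomial T).comp (Ideal.Quotient.mk _)).toAddMonoidHom.comp (𝒜 n).subtype))
    (by simp)
    (fun {n l} a b => by
      simp only [AddMonoidHom.comp_apply, AddMonoidHom.mulRight_apply, AddSubgroup.subtype_apply,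
        RingHom.toAddMonoidHom_eq_coe, RingHom.coe_addMonoidHom_mk, AddMonoidHom.coe_coe, RingHom.comp_apply]
      rw [map_mul, map_mul, LaurentPolynomial.T_add]; ring)
  have hψ : ∀ {n : ℤ} (a : 𝒜 n),
      ψ (a : R) = LaurentPolynomial.C (Ideal.Quotient.mk _ (a : R)) * LaurentPolynomial.T n :=
    fun a => homOfPieces_apply 𝒜 _ _ _ a
  have hmt : Ideal.Quotient.mk (Ideal.span {t - 1}) t = 1 := by
    rw [← sub_eq_zero, ← map_one (Ideal.Quotient.mk (Ideal.span {t - 1})), ← map_sub,
      Ideal.Quotient.eq_zero_iff_mem]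
    exact Ideal.mem_span_singleton_self _
  let Ψ : S →+* LaurentPolynomial T := AdjoinRoot.lift ψ (LaurentPolynomial.T 1) (by
    have h := hψ (⟨t, ht⟩ : 𝒜 (N : ℤ))
    simp only [hmt, map_one, one_mul] at h
    simp [h, LaurentPolynomial.T_pow])
  have e1 : Φ.comp Ψ = RingHom.id S := by
    refine AdjoinRoot.ringHom_ext (ext_pieces 𝒜 _ _ fun n a ha => ?_) ?_
    · have h1 := hψ (⟨a, ha⟩ : 𝒜 n)
      have h2 := hφ0 (⟨a, ha⟩ : 𝒜 n)
      change Φ (Ψ (o a)) = o a
      rw [show Ψ (o a) = ψ a from AdjoinRoot.lift_of _, h1, map_mul, LaurentPolynomial.eval₂_C, LaurentPolynomial.eval₂_T,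
        show φ (Ideal.Quotient.mk _ a) = φ0 a from rfl, h2, mul_assoc, ← Units.val_mul, ← zpow_add, neg_add_cancel]
      simp
    · change Φ (Ψ r) = r
      rw [show Ψ r = LaurentPolynomial.T 1 from AdjoinRoot.lift_root _, LaurentPolynomial.eval₂_T, zpow_one, hU]
  have hΨU : ∀ n : ℤ, Ψ ((U ^ n : Sˣ) : S) = LaurentPolynomial.T n := fun n => by
    have hb : Ψ (U : S) = LaurentPolynomial.T 1 := by rw [hU]; exact AdjoinRoot.lift_root _
    induction n using Int.induction_on with
    | zero => simp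
    | succ i ih => rw [zpow_add_one, Units.val_mul, map_mul, ih, hb, ← LaurentPolynomial.T_add]
    | pred i ih =>
      rw [zpow_sub_one, Units.val_mul, map_mul, ih, show -(i : ℤ) - 1 = -(i : ℤ) + -1 by ring, LaurentPolynomial.T_add]
      congr 1
      calc Ψ ((U⁻¹ : Sˣ) : S) = Ψ ((U⁻¹ : Sˣ) : S) * (Ψ (U : S) * LaurentPolynomial.T (-1)) := by
            rw [hb, ← LaurentPolynomial.T_add, add_neg_cancel, LaurentPolynomial.T_zero, mul_one]
        _ = LaurentPolynomial.T (-1) := by rw [← mul_assoc, ← map_mul, Units.inv_mul, map_one, one_mul]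
  have hΨφ : Ψ.comp φ = LaurentPolynomial.C := by
    refine Ideal.Quotient.ringHom_ext (ext_pieces 𝒜 _ _ fun n a ha => ?_)
    have h1 := hψ (⟨a, ha⟩ : 𝒜 n)
    have h2 := hφ0 (⟨a, ha⟩ : 𝒜 n)
    change Ψ (φ0 a) = LaurentPolynomial.C (Ideal.Quotient.mk _ a)
    rw [h2, map_mul, hΨU, show Ψ (o a) = ψ a from AdjoinRoot.lift_of _, h1, mul_assoc, ← LaurentPolynomial.T_add,
      add_neg_cancel, LaurentPolynomial.T_zero, mul_one]
  have e2 : ∀ p, Ψ (Φ p) = p := fun p => by
    induction p using LaurentPolynomial.induction_on' with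
    | add p q hp hq => rw [map_add, map_add, hp, hq]
    | C_mul_T n a =>
      rw [map_mul, LaurentPolynomial.eval₂_C, LaurentPolynomial.eval₂_T, map_mul, hΨU,
        ← RingHom.comp_apply Ψ φ, hΨφ]
  have : IsRegularRing T := inferInstance
  have := isRegularRing_laurent T
  have : IsRegularRing S := IsRegularRing.of_ringEquiv (RingEquiv.ofRingHom Φ Ψ e1 (RingHom.ext e2))
  exact isRegularRing_iff.1 this q

end Groth.Agent.S14658
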