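import Groth.Statements.S14666
import Groth.Agent.H2.Rigid.Const

set_option autoImplicit false
universe u
open CategoryTheory CategoryTheory.Limits AlgebraicGeometry
open AbSch

namespace Groth.Agent.S14666

/-- Let S be a locally Noetherian scheme, ξ : X ⟶ S a proper morphism all of whose geometric fibres are
integral and for which O_S ⟶ ξ_*O_X is an isomorphism (the map Γ(U, O_S) → Γ(ξ⁻¹U, O_X) is bijective
for every open U of S), v : Y ⟶ S an arbitrary S-scheme and f : X ⟶ Y a morphism over S. Let U be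
the set of points s of S such that f sends every point of the fibre ξ⁻¹(s) to one and the same point
of Y. Then U is open in S, and for every morphism τ : T ⟶ S the base change of f to T factors
through the projection X ×_S T ⟶ T — that is, there is r : T ⟶ Y with r ≫ v = τ and fst ≫ f = snd ≫
r on X ×_S T — if and only if τ maps every point of T into U. -/
theorem result {X Y S : Scheme.{u}} [IsLocallyNoetherian S]
    (ξ : X ⟶ S) [IsProper ξ] [GeometricallyIntegral ξ]
    (h0 : ∀ U : S.Opens, Function.Bijective (ξ.app U).hom)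
    (v : Y ⟶ S) (f : X ⟶ Y) (hf : f ≫ v = ξ) :
    IsOpen {s : ↥S | ∃ y : ↥Y, ∀ x : ↥X, ξ.base x = s → f.base x = y} ∧
    ∀ (T : Scheme.{u}) (τ : T ⟶ S),
      ((∃ r : T ⟶ Y, r ≫ v = τ ∧ pullback.fst ξ τ ≫ f = pullback.snd ξ τ ≫ r) ↔
        ∀ t : ↥T, τ.base t ∈ {s : ↥S | ∃ y : ↥Y, ∀ x : ↥X, ξ.base x = s → f.base x = y}) := by
  haveI := Groth.Agent.H2.Rigid.geometricallyConnected_of_integral ξ
  have hH0 := Groth.Agent.H2.Rigid.H0.of_geometrically ξ
  have e : {s : ↥S | ∃ y : ↥Y, ∀ x : ↥X, ξ.base x = s → f.base x = y} =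
      Groth.Agent.H2.Rigid.constSet ξ f := by
    ext s
    constructor
    · rintro ⟨y, hy⟩
      exact Groth.Agent.H2.Rigid.mem_constSet.2 fun x x' hx hx' => (hy x hx).trans (hy x' hx').symm
    · intro h
      obtain ⟨x, hx⟩ := ξ.surjective s
      exact ⟨f x, fun x' hx' => Groth.Agent.H2.Rigid.mem_constSet.1 h x' x hx' hx⟩
  simp only [e]
  have ho := Groth.Agent.H2.Rigid.isOpen_constSet ξ f ξ.isClosedMap hH0
  refine ⟨ho, fun T τ => ⟨?_, fun hτ => ?_⟩⟩
  · rintro ⟨r, -, hr⟩ t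
    refine Groth.Agent.H2.Rigid.mem_constSet.2 fun x x' hx hx' => ?_
    obtain ⟨z, rfl, hz⟩ := Scheme.Pullback.exists_preimage_pullback x t hx
    obtain ⟨z', rfl, hz'⟩ := Scheme.Pullback.exists_preimage_pullback x' t hx'
    rw [← Scheme.Hom.comp_apply, ← Scheme.Hom.comp_apply, hr, Scheme.Hom.comp_apply,
      Scheme.Hom.comp_apply, hz, hz']
  · let U : S.Opens := ⟨_, ho⟩
    have hp : Groth.Agent.H2.Rigid.Push (ξ ∣_ U) := Groth.Agent.H2.Rigid.Push.restrict h0 U
    haveI : Surjective (ξ ∣_ U) :=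
      MorphismProperty.of_isPullback (isPullback_morphismRestrict ξ U).flip inferInstance
    haveI : IsProper (ξ ∣_ U) :=
      MorphismProperty.of_isPullback (isPullback_morphismRestrict ξ U).flip inferInstance
    have hu : Groth.Agent.H2.Rigid.constSet (ξ ∣_ U) ((ξ ⁻¹ᵁ U).ι ≫ f) = Set.univ := by
      refine Set.eq_univ_of_forall fun u => Groth.Agent.H2.Rigid.mem_constSet.2 fun x x' hx hx' => ?_
      have hxu : ∀ x : (ξ ⁻¹ᵁ U : Scheme.{u}), (ξ ∣_ U) x = u → ξ x.1 = u.1 := by
        intro x hx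
        rw [← hx]
        exact (congr($(morphismRestrict_ι ξ U) x)).symm
      exact Groth.Agent.H2.Rigid.mem_constSet.1 u.2 _ _ (hxu x hx) (hxu x' hx')
    obtain ⟨k, hk⟩ := hp.exists_factor _ (ξ ∣_ U).isClosedMap hu
    have hkv : k ≫ v = U.ι := hp.hom_ext (by
      rw [reassoc_of% hk, hf, morphismRestrict_ι])
    have hr : Set.range τ ⊆ Set.range U.ι := by
      rintro _ ⟨t, rfl⟩; rw [Scheme.Opens.range_ι]; exact hτ t
    have hr' : Set.range (pullback.fst ξ τ) ⊆ Set.range (ξ ⁻¹ᵁ U).ι := by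
      rintro _ ⟨z, rfl⟩
      rw [Scheme.Opens.range_ι]
      show ξ (pullback.fst ξ τ z) ∈ U
      rw [← Scheme.Hom.comp_apply, pullback.condition]
      exact hτ _
    refine ⟨IsOpenImmersion.lift U.ι τ hr ≫ k,
      by rw [Category.assoc, hkv, IsOpenImmersion.lift_fac], ?_⟩
    have e2 : pullback.snd ξ τ ≫ IsOpenImmersion.lift U.ι τ hr =
        IsOpenImmersion.lift (ξ ⁻¹ᵁ U).ι (pullback.fst ξ τ) hr' ≫ (ξ ∣_ U) := by
      rw [← cancel_mono U.ι, Category.assoc, Category.assoc, IsOpenImmersion.lift_fac,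
        morphismRestrict_ι, IsOpenImmersion.lift_fac_assoc, pullback.condition]
    rw [reassoc_of% e2, hk, IsOpenImmersion.lift_fac_assoc]

end Groth.Agent.S14666
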