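import Groth.Statements.S14667
import Groth.Agent.H2.Rigid.Smooth

set_option autoImplicit false
universe u
open CategoryTheory CategoryTheory.Limits AlgebraicGeometry
open AbSch

namespace Groth.Agent.S14667

/-- Let S be a locally Noetherian scheme, ξ : X ⟶ S a proper flat morphism all of whose geometric fibres
are integral, v : Y ⟶ S a separated morphism and f : X ⟶ Y a morphism over S. Then the set U of
points s of S such that f sends every point of the fibre ξ⁻¹(s) to one and the same point of Y is
closed and open in S. (Under flatness the condition that O_S ⟶ ξ_*O_X be an isomorphism, assumed for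
openness in the non-flat case, holds automatically.) -/
theorem result {X Y S : Scheme.{u}} [IsLocallyNoetherian S]
    (ξ : X ⟶ S) [IsProper ξ] [Flat ξ] [GeometricallyIntegral ξ]
    (v : Y ⟶ S) [IsSeparated v] (f : X ⟶ Y) (hf : f ≫ v = ξ) :
    IsClosed {s : ↥S | ∃ y : ↥Y, ∀ x : ↥X, ξ.base x = s → f.base x = y} ∧ IsOpen {s : ↥S | ∃ y : ↥Y, ∀ x : ↥X, ξ.base x = s → f.base x = y} := by
  haveI := Groth.Agent.H2.Rigid.geometricallyConnected_of_integral ξ
  have hH0 := Groth.Agent.H2.Rigid.H0.of_geometrically ξ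
  haveI := Groth.Agent.H2.Rigid.lfp_of_noetherian ξ
  haveI : UniversallyOpen ξ := UniversallyOpen.of_flat ξ
  have e : {s : ↥S | ∃ y : ↥Y, ∀ x : ↥X, ξ.base x = s → f.base x = y} =
      Groth.Agent.H2.Rigid.constSet ξ f := by
    ext s
    constructor
    · rintro ⟨y, hy⟩
      exact Groth.Agent.H2.Rigid.mem_constSet.2 fun x x' hx hx' => (hy x hx).trans (hy x' hx').symm
    · intro h
      obtain ⟨x, hx⟩ := ξ.surjective s
      exact ⟨f x, fun x' hx' => Groth.Agent.H2.Rigid.mem_constSet.1 h x' x hx' hx⟩
  rw [e]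
  exact ⟨Groth.Agent.H2.Rigid.isClosed_constSet ξ f hH0 (𝟙 S) v (by rw [hf, Category.comp_id]),
    Groth.Agent.H2.Rigid.isOpen_constSet ξ f ξ.isClosedMap hH0⟩

end Groth.Agent.S14667
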