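import Groth.Statements.S14668
import Groth.Agent.H52.ProjConst
import Groth.Agent.H2.Rigid.Factor

set_option autoImplicit false
set_option linter.style.haveILetI false
universe u
open CategoryTheory
open CategoryTheory CategoryTheory.Limits MonoidalCategory CartesianMonoidalCategory MonObj GrpObj AlgebraicGeometry
open AbSch

namespace Groth.Agent.S14668

/-- Let S be a locally Noetherian scheme, A an abelian scheme over S (an S-group scheme whose structure
morphism is proper and flat with geometrically integral fibres), and P an S-scheme whose structure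
morphism is proper and flat and whose geometric fibres are projective spaces: for every
algebraically closed field K and every K-point of S, the fibre P ×_S Spec K is isomorphic over Spec
K to projective n-space over K for some n. Then every S-morphism P ⟶ A factors through the structure
morphism of P: it is the composite of P ⟶ S with a section S ⟶ A. -/
theorem result {S : Scheme.{u}} [IsLocallyNoetherian S]
    (A : Over S) [GrpObj A] [IsProper A.hom] [Flat A.hom] [GeometricallyIntegral A.hom]
    (P : Over S) [IsProper P.hom] [Flat P.hom]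
    (hP : ∀ (K : Type u) [Field K] [IsAlgClosed K] (s : Spec (CommRingCat.of K) ⟶ S),
      ∃ (n : ℕ) (e : pullback P.hom s ≅ CohB1.ProjSpace n K), e.hom ≫ CohB1.ProjSpace.toSpec n K = pullback.snd P.hom s)
    (φ : P ⟶ A) :
    ∃ a : 𝟙_ (Over S) ⟶ A, φ = toUnit P ≫ a := by
  haveI : LocallyOfFinitePresentation P.hom := inferInstance
  let sb : ∀ s : S, Spec (CommRingCat.of (AlgebraicClosure (S.residueField s))) ⟶ S := fun s =>
    Spec.map (CommRingCat.ofHom (algebraMap (S.residueField s) (AlgebraicClosure (S.residueField s)))) ≫
      S.fromSpecResidueField s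
  have hsb : ∀ (s : S) (z), sb s z = s := fun s z => by
    show (Spec.map _ ≫ S.fromSpecResidueField s) z = s
    rw [Scheme.Hom.comp_apply]
    exact Scheme.fromSpecResidueField_apply s _
  haveI : Surjective P.hom := ⟨fun s => by
    obtain ⟨n, e, -⟩ := hP _ (sb s)
    let w := e.inv (Classical.arbitrary (CohB1.ProjSpace n (AlgebraicClosure (S.residueField s))))
    exact ⟨pullback.fst P.hom (sb s) w, by
      rw [← Scheme.Hom.comp_apply, pullback.condition, Scheme.Hom.comp_apply, hsb]⟩⟩
  have hH0 : Groth.Agent.H2.Rigid.H0 P.hom := by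
    intro t
    let L := AlgebraicClosure (S.residueField t)
    let b := Spec.map (CommRingCat.ofHom (algebraMap (S.residueField t) L))
    obtain ⟨n, e, -⟩ := hP L (sb t)
    haveI : LocallyOfFiniteType (P.hom.fiberToSpecResidueField t) :=
      inferInstanceAs (LocallyOfFiniteType (pullback.snd P.hom (S.fromSpecResidueField t)))
    haveI : IsProper (P.hom.fiberToSpecResidueField t) :=
      inferInstanceAs (IsProper (pullback.snd P.hom (S.fromSpecResidueField t)))
    let Q := pullback (P.hom.fiberToSpecResidueField t) b
    let p₂ : Q ⟶ Spec (.of L) := pullback.snd _ b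
    let e' : Q ≅ CohB1.ProjSpace n L :=
      pullbackLeftPullbackSndIso P.hom (S.fromSpecResidueField t) b ≪≫ e
    haveI : IsReduced Q := isReduced_of_isOpenImmersion e'.hom
    haveI : ConnectedSpace (CohB1.ProjSpace n L) := inferInstance
    haveI : ConnectedSpace Q := e'.hom.homeomorph.connectedSpace_iff.2 ‹_›
    haveI : JacobsonSpace Q := LocallyOfFiniteType.jacobsonSpace p₂
    obtain ⟨x, -, hx⟩ :=
      nonempty_inter_closedPoints (Z := (Set.univ : Set Q)) Set.univ_nonempty isClosed_univ.isLocallyClosed
    have h2 := Groth.Agent.H2.Rigid.appTop_surjective_of_section p₂ (pointOfClosedPoint p₂ x hx)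
      (pointOfClosedPoint_comp p₂ x hx)
    exact Groth.Agent.H2.Rigid.surjective_of_baseChange (k := S.residueField t) (L := L)
      (P.hom.fiberToSpecResidueField t) (.of_hasPullback _ _) h2
  have huniv : Groth.Agent.H2.Rigid.constSet P.hom φ.left = Set.univ := by
    refine Set.eq_univ_of_forall fun s => Groth.Agent.H2.Rigid.mem_constSet.2 fun x x' hx hx' => ?_
    let K := AlgebraicClosure (S.residueField s)
    obtain ⟨n, e, he⟩ := hP K (sb s)
    let AK := (Over.pullback (sb s)).obj A
    letI : GrpObj AK := Functor.grpObjObj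
    haveI : IsProper AK.hom := inferInstanceAs (IsProper (pullback.snd A.hom (sb s)))
    haveI : GeometricallyIntegral AK.hom :=
      MorphismProperty.of_isPullback (P := @GeometricallyIntegral) (IsPullback.of_hasPullback A.hom (sb s)) ‹_›
    let g : CohB1.ProjSpace n K ⟶ AK.left := e.inv ≫ pullback.lift (pullback.fst P.hom (sb s) ≫ φ.left)
      (pullback.snd P.hom (sb s)) (by rw [Category.assoc, Over.w φ, pullback.condition])
    have hg : g ≫ AK.hom = CohB1.ProjSpace.toSpec n K := by
      show (e.inv ≫ pullback.lift _ _ _) ≫ pullback.snd A.hom (sb s) = _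
      rw [Category.assoc, pullback.lift_snd, Iso.inv_comp_eq, he]
    obtain ⟨w, hw⟩ := Scheme.Pullback.exists_preimage_pullback (f := P.hom) (g := sb s) x
      (IsLocalRing.closedPoint K) (hx.trans (hsb s _).symm)
    obtain ⟨w', hw'⟩ := Scheme.Pullback.exists_preimage_pullback (f := P.hom) (g := sb s) x'
      (IsLocalRing.closedPoint K) (hx'.trans (hsb s _).symm)
    have key : ∀ w, φ.left (pullback.fst P.hom (sb s) w) = (pullback.fst A.hom (sb s)) (g (e.hom w)) := fun w => by
      have h : pullback.fst P.hom (sb s) ≫ φ.left = e.hom ≫ g ≫ pullback.fst A.hom (sb s) := by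
        show _ = e.hom ≫ (e.inv ≫ pullback.lift _ _ _) ≫ pullback.fst A.hom (sb s)
        rw [Category.assoc, Iso.hom_inv_id_assoc, pullback.lift_fst]
      exact congr($h w)
    rw [← hw.1, ← hw'.1, key, key]
    exact congrArg (pullback.fst A.hom (sb s))
      (Groth.Agent.H52.ProjConst.apply_eq n K AK g hg (e.hom w) (e.hom w'))
  have hpush := Groth.Agent.H2.Rigid.PushFlat.push_of_flat_fp P.hom hH0
  obtain ⟨a, ha⟩ := hpush.exists_factor (f := φ.left) P.hom.isClosedMap huniv
  have haA : a ≫ A.hom = 𝟙 S := hpush.hom_ext (by rw [reassoc_of% ha, Over.w, Category.comp_id])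
  exact ⟨Over.homMk a haA, Over.OverMorphism.ext (by rw [← ha]; rfl)⟩

end Groth.Agent.S14668
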