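import Groth.Statements.S14669
import Groth.Agent.H63.AVTorsPoints
-- import your own Groth.Agent.* helpers here

set_option autoImplicit false
universe u
open CategoryTheory CategoryTheory.Limits MonoidalCategory CartesianMonoidalCategory MonObj GrpObj AlgebraicGeometry
open AbVar

namespace Groth.Agent.S14669

/-- Let k be an algebraically closed field, A an abelian variety over k (a proper, geometrically
integral, commutative group scheme over k) of dimension g, and n ≥ 1 an integer. Then the group A(k)
of k-points of A is n-divisible, the number of k-points of A killed by n divides n^(2g), and this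
number equals n^(2g) if and only if n is not a multiple of the characteristic of k, i.e. n is
nonzero in k. (The published statement allows g = 0; for A = Spec k and n divisible by the
characteristic the last equivalence fails, and the printed proof uses that Ω_{A/k} has positive
rank, so positive dimension is assumed here.) -/
theorem result (k : Type u) [Field k] [IsAlgClosed k]
    (A : Over (Spec (CommRingCat.of k)))
    [GrpObj A] [IsCommMonObj A] [IsProper A.hom] [GeometricallyIntegral A.hom]
    (g : ℕ) (hg : topologicalKrullDim A.left = g) (hg0 : 0 < g) (n : ℕ) (hn : 0 < n) :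
    (∀ a : (𝟙_ (Over (Spec (CommRingCat.of k)))) ⟶ A, ∃ b : (𝟙_ (Over (Spec (CommRingCat.of k)))) ⟶ A, b ^ n = a) ∧
    Nat.card ↥(AbDual.torsPts A n (𝟙_ (Over (Spec (CommRingCat.of k))))) ∣ n ^ (2 * g) ∧
    (Nat.card ↥(AbDual.torsPts A n (𝟙_ (Over (Spec (CommRingCat.of k))))) = n ^ (2 * g) ↔ (n : k) ≠ 0) := by
  refine ⟨fun a => Groth.Agent.H63.AVTorsPoints.exists_root A hn a, ?_⟩
  by_cases hk : (n : k) = 0
  · obtain ⟨p, hp⟩ := CharP.exists k
    have hpn : p ∣ n := (CharP.cast_eq_zero_iff k p n).1 hk
    have hp0 : p ≠ 0 := fun h => by subst h; rw [zero_dvd_iff] at hpn; omega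
    haveI : Fact p.Prime := ⟨(CharP.char_is_prime_or_zero k p).resolve_right hp0⟩
    have hpp : p.Prime := Fact.out
    obtain ⟨i, hi, hc⟩ := Groth.Agent.H63.AVTorsPoints.natCard_torsPts_prime_pow_mul A hg p
    obtain ⟨a, m, hm, rfl⟩ := Nat.exists_eq_pow_mul_and_not_dvd hn.ne' p hpp.ne_one
    have ha : 0 < a := Nat.pos_of_ne_zero fun h => hm (by simpa [h] using hpn)
    have hc' : Nat.card ↥(AbDual.torsPts A (p ^ a * m) (𝟙_ (Over (Spec (CommRingCat.of k))))) =
        p ^ (a * i) * m ^ (2 * g) := hc a m hm
    rw [hc', mul_pow, ← pow_mul]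
    have hlt : a * i < a * (2 * g) := Nat.mul_lt_mul_of_pos_left (by omega) ha
    refine ⟨mul_dvd_mul_right (pow_dvd_pow _ hlt.le) _, ⟨fun h => absurd h ?_, fun h => absurd hk h⟩⟩
    exact (Nat.mul_lt_mul_of_pos_right (Nat.pow_lt_pow_right hpp.one_lt hlt)
      (pow_pos (Nat.pos_of_ne_zero fun h => by subst h; simp at hn) _)).ne
  · have h : Nat.card ↥(AbDual.torsPts A n (𝟙_ (Over (Spec (CommRingCat.of k))))) = n ^ (2 * g) :=
      Groth.Agent.H63.AVTorsPoints.natCard_torsPts A hg hk
    exact ⟨h.symm ▸ dvd_rfl, iff_of_true h hk⟩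

end Groth.Agent.S14669
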