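import Groth.Statements.S1996
import Mathlib.RingTheory.Etale.Weakly
import Mathlib.RingTheory.Flat.FaithfullyFlat.Algebra
import Mathlib.RingTheory.Flat.Tensor
import Mathlib.RingTheory.RingHom.Flat

set_option autoImplicit false
universe u
open EtAlg

open scoped TensorProduct

namespace Groth.Agent.S1996

/-- Flatness descends along a faithfully flat map of targets. -/
lemma flat_descend (R B C : Type u) [CommRing R] [CommRing B] [CommRing C] [Algebra R B]
    [Algebra B C] [Algebra R C] [IsScalarTower R B C] [Module.FaithfullyFlat B C]
    [Module.Flat R C] : Module.Flat R B := by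
  rw [Module.Flat.iff_lTensor_injective']
  intro J
  let f := TensorProduct.AlgebraTensorModule.lTensor B B J.subtype
  have hf : Function.Injective (f.lTensor C) := by
    let e₁ := TensorProduct.AlgebraTensorModule.cancelBaseChange R B C C J
    let e₂ := TensorProduct.AlgebraTensorModule.cancelBaseChange R B C C R
    have h : ∀ z, e₂ (f.lTensor C z) = J.subtype.lTensor C (e₁ z) := fun z => by
      induction z with
      | zero => simp only [map_zero]
      | add x y hx hy => simp only [map_add, hx, hy]
      | tmul c w =>
        induction w with
        | zero => simp only [TensorProduct.tmul_zero, map_zero]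
        | add x y hx hy => simp only [TensorProduct.tmul_add, map_add, hx, hy]
        | tmul b j => simp [e₁, e₂, f]
    intro z z' hz
    refine e₁.injective (Module.Flat.lTensor_preserves_injective_linearMap _ J.subtype_injective ?_)
    rw [← h, ← h, hz]
  exact (Module.FaithfullyFlat.lTensor_injective_iff_injective B C f).mp hf


/-- Let A -> B -> C be ring maps with B -> C faithfully flat. Weak etaleness of A -> C then implies weak
etaleness of A -> B. -/
theorem result (A B C : Type u) [CommRing A] [CommRing B] [CommRing C] [Algebra A B]
    [Algebra B C] [Algebra A C] [IsScalarTower A B C] [Module.FaithfullyFlat B C] [Algebra.WeaklyEtale A C] :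
    Algebra.WeaklyEtale A B := by
  have hflatA : Module.Flat A B := flat_descend A B C
  refine { flat := hflatA, flat_lmul' := ?_ }
  algebraize [(Algebra.TensorProduct.lmul' A (S := B)).toRingHom]
  letI : Algebra (B ⊗[A] B) C :=
    ((algebraMap B C).comp (Algebra.TensorProduct.lmul' A (S := B)).toRingHom).toAlgebra
  haveI : IsScalarTower (B ⊗[A] B) B C := .of_algebraMap_eq fun _ => rfl
  let j : B →ₐ[A] C := IsScalarTower.toAlgHom A B C
  have hj : j.Flat := RingHom.flat_algebraMap_iff.mpr inferInstance
  have hcomp : (algebraMap B C).comp (Algebra.TensorProduct.lmul' A (S := B)).toRingHom =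
      (Algebra.TensorProduct.lmul' A (S := C)).toRingHom.comp
        (Algebra.TensorProduct.map j j).toRingHom := by
    refine RingHom.ext fun z => ?_
    induction z with
    | zero => simp only [map_zero]
    | add x y hx hy => simp only [map_add, hx, hy]
    | tmul x y => simp [j]
  have hC : Module.Flat (B ⊗[A] B) C := by
    change ((algebraMap B C).comp (Algebra.TensorProduct.lmul' A (S := B)).toRingHom).Flat
    rw [hcomp]
    exact RingHom.Flat.comp (RingHom.Flat.tensorProductMap hj hj)
      (Algebra.WeaklyEtale.flat_lmul' A C)
  exact flat_descend (B ⊗[A] B) B C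

end Groth.Agent.S1996
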