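import Groth.Statements.S1467
import Groth.Agent.S1412
import Groth.Agent.S12237
import Groth.Agent.S0736
import Groth.Agent.S0539
import Groth.Agent.S0537
import Groth.Agent.S1996
import Groth.Agent.S7127
import Groth.Agent.S0427


set_option autoImplicit false
universe u
open FlatMor

namespace Groth.Agent.S1467

open IsLocalRing in
/-- A weakly etale local algebra which is henselian with residue field a separable closure of its own
is a strict henselization. -/
theorem isStrictHenselization_of_weaklyEtale {A R : Type u} [CommRing A] [IsLocalRing A] [CommRing R]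
    [IsLocalRing R] [Algebra A R] [IsLocalHom (algebraMap A R)] [HenselianLocalRing R]
    [IsSepClosed (ResidueField R)] [Algebra.WeaklyEtale A R] : Hensel.IsStrictHenselization A R := by
  obtain ⟨S, _, _, _, _, hS⟩ := Groth.Agent.S0537.result A
  have := hS.henselian
  have := hS.isSepClosure.sep_closed
  have := hS.isSepClosure.separable
  let τ₀ : ResidueField S →ₐ[ResidueField A] ResidueField R := IsSepClosed.lift
  obtain ⟨φ, ⟨hφ, hφτ⟩, -⟩ := hS.universal R (algebraMap A R) τ₀.toRingHom (RingHom.ext τ₀.commutes)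
  letI : Algebra S R := φ.toAlgebra
  haveI : IsScalarTower A S R := IsScalarTower.of_algebraMap_eq' hφ.symm
  haveI : IsLocalHom (algebraMap S R) := ⟨fun x hx => by
    by_contra h
    have h0 : residue S x = 0 := (residue_eq_zero_iff x).mpr h
    have h1 : residue R (φ x) = τ₀.toRingHom (residue S x) := hφτ x
    rw [h0, map_zero, residue_eq_zero_iff] at h1
    exact h1 hx⟩
  haveI : Algebra.WeaklyEtale A S := Groth.Agent.S0736.result A S (Groth.Agent.S12237.result A S)
  haveI : Algebra.WeaklyEtale S R := Groth.Agent.S7127.result A S R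
  let e : S ≃+* R := RingEquiv.ofBijective φ (Groth.Agent.S0427.result (A := S) (B := R))
  have he : ∀ a, e (algebraMap A S a) = algebraMap A R a := fun a => RingHom.congr_fun hφ a
  have hτ₀ : Function.Bijective τ₀ := by
    refine ⟨τ₀.toRingHom.injective, fun y => ?_⟩
    obtain ⟨r, rfl⟩ := residue_surjective y
    exact ⟨residue S (e.symm r), ((hφτ (e.symm r)).symm.trans (congrArg (residue R) (e.apply_symm_apply r)))⟩
  refine ⟨inferInstance, ⟨inferInstance,
    Algebra.IsSeparable.of_algHom _ _ (AlgEquiv.ofBijective τ₀ hτ₀).symm.toAlgHom⟩, ?_⟩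
  intro T _ _ f _ τ hτ
  obtain ⟨g, ⟨hg1, hg2⟩, hu⟩ := hS.universal T f (τ.comp τ₀.toRingHom) (by
    rw [RingHom.comp_assoc, show τ₀.toRingHom.comp (ResidueField.map (algebraMap A S)) =
      ResidueField.map (algebraMap A R) from RingHom.ext τ₀.commutes, hτ])
  refine ⟨g.comp e.symm.toRingHom, ⟨?_, fun x => ?_⟩, fun g' hg' => ?_⟩
  · refine RingHom.ext fun a => ?_
    show g (e.symm (algebraMap A R a)) = f a
    rw [← he, e.symm_apply_apply]
    exact RingHom.congr_fun hg1 a
  · show residue T (g (e.symm x)) = τ (residue R x)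
    rw [hg2]
    show τ (τ₀.toRingHom (residue S (e.symm x))) = _
    rw [← hφτ]
    exact congrArg (fun y => τ (residue R y)) (e.apply_symm_apply x)
  · have := hu (g'.comp e.toRingHom) ⟨?_, fun x => ?_⟩
    · rw [← this, RingHom.comp_assoc]
      refine RingHom.ext fun x => ?_
      exact (congrArg g' (e.apply_symm_apply x)).symm
    · refine RingHom.ext fun a => ?_
      show g' (e (algebraMap A S a)) = f a
      rw [he]
      exact RingHom.congr_fun hg'.1 a
    · show residue T (g' (e x)) = τ (τ₀.toRingHom (residue S x))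
      rw [hg'.2, ← hφτ]
      rfl

open AlgebraicGeometry CategoryTheory Limits in
/-- A morphism f : X → Y is weakly étale if and only if, for every point x of X, strict henselizations
of the local rings at f x and at x coincide under the stalk map: every strict henselization of O_{X,
x} is, through the composite map O_{Y, f x} → O_{X, x} → (strict henselization), a strict
henselization of O_{Y, f x}. -/
theorem result {X Y : Scheme.{u}} (f : X ⟶ Y) :
    WeaklyEtale f ↔ ∀ (x : X) (R : Type u) [CommRing R] [IsLocalRing R] [Algebra ↑(X.presheaf.stalk x) R]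
      [IsLocalHom (algebraMap ↑(X.presheaf.stalk x) R)] [Hensel.IsStrictHenselization ↑(X.presheaf.stalk x) R],
      letI : Algebra ↑(Y.presheaf.stalk (f x)) R := ((algebraMap ↑(X.presheaf.stalk x) R).comp (f.stalkMap x).hom).toAlgebra
      ∃ _ : IsLocalHom (algebraMap ↑(Y.presheaf.stalk (f x)) R), Hensel.IsStrictHenselization ↑(Y.presheaf.stalk (f x)) R := by
  constructor
  · intro hf x R _ _ _ _ hR
    letI : Algebra ↑(Y.presheaf.stalk (f x)) ↑(X.presheaf.stalk x) := (f.stalkMap x).hom.toAlgebra
    letI : Algebra ↑(Y.presheaf.stalk (f x)) R :=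
      ((algebraMap ↑(X.presheaf.stalk x) R).comp (f.stalkMap x).hom).toAlgebra
    haveI : IsScalarTower ↑(Y.presheaf.stalk (f x)) ↑(X.presheaf.stalk x) R :=
      IsScalarTower.of_algebraMap_eq' rfl
    have hloc : IsLocalHom (algebraMap ↑(Y.presheaf.stalk (f x)) R) :=
      RingHom.isLocalHom_comp _ (f.stalkMap x).hom
    refine ⟨hloc, ?_⟩
    obtain ⟨h1, h2⟩ := (Groth.Agent.S1412.result f).mp hf x
    haveI : Algebra.WeaklyEtale ↑(Y.presheaf.stalk (f x)) ↑(X.presheaf.stalk x) := ⟨h1, h2⟩
    haveI : Algebra.WeaklyEtale ↑(X.presheaf.stalk x) R :=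
      Groth.Agent.S0736.result _ R (Groth.Agent.S12237.result _ R)
    haveI : Algebra.WeaklyEtale ↑(Y.presheaf.stalk (f x)) R :=
      Algebra.WeaklyEtale.trans _ ↑(X.presheaf.stalk x) R
    haveI := hR.henselian
    haveI := hR.isSepClosure.sep_closed
    exact isStrictHenselization_of_weaklyEtale
  · intro h
    refine (Groth.Agent.S1412.result f).mpr fun x => ?_
    obtain ⟨R, _, _, _, _, hR⟩ := Groth.Agent.S0537.result ↑(X.presheaf.stalk x)
    letI : Algebra ↑(Y.presheaf.stalk (f x)) ↑(X.presheaf.stalk x) := (f.stalkMap x).hom.toAlgebra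
    letI : Algebra ↑(Y.presheaf.stalk (f x)) R :=
      ((algebraMap ↑(X.presheaf.stalk x) R).comp (f.stalkMap x).hom).toAlgebra
    haveI : IsScalarTower ↑(Y.presheaf.stalk (f x)) ↑(X.presheaf.stalk x) R :=
      IsScalarTower.of_algebraMap_eq' rfl
    obtain ⟨hloc, hRY⟩ := h x R
    haveI : Algebra.WeaklyEtale ↑(Y.presheaf.stalk (f x)) R :=
      Groth.Agent.S0736.result _ R (Groth.Agent.S12237.result _ R)
    haveI := Groth.Agent.S0539.result ↑(X.presheaf.stalk x) R
    have := Groth.Agent.S1996.result ↑(Y.presheaf.stalk (f x)) ↑(X.presheaf.stalk x) R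
    exact ⟨this.1, this.2⟩

end Groth.Agent.S1467
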