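import Groth.Statements.S14670
import Groth.Agent.H20.RegularFlat
import Groth.Agent.Lib.Regular.UFD
import Groth.Agent.Lib.Dim.Integral
import Mathlib.RingTheory.IntegralClosure.GoingDown
import Mathlib.RingTheory.Flat.Localization

set_option autoImplicit false
universe u
open CAlg

namespace Groth.Agent.S14670

/-- Let R be a regular local ring and S an integral domain containing R as a subring over which it is a
finitely generated module, such that the localization of S at each of its maximal ideals is a
Cohen–Macaulay local ring. Then S is a flat R-module. (The published statement does not require S to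
be a domain; in that generality it fails — for a discrete valuation ring R with residue field κ the
ring R × κ contains R diagonally, is finite over R with Cohen–Macaulay localizations, and is not
flat — and the printed argument needs every maximal ideal of S to have height dim R, which holds
when S is a domain by going down.) -/
theorem result (R S : Type u) [CommRing R] [CommRing S]
    [IsRegularLocalRing R] [IsDomain S] [Algebra R S] [Module.Finite R S]
    (hinj : Function.Injective (algebraMap R S))
    (hCM : ∀ (q : Ideal S) [q.IsMaximal], LocCoh.IsCohenMacaulayLocalRing (Localization.AtPrime q)) :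
    Module.Flat R S := by
  classical
  have := IsLocalRing.maximalIdeal.isMaximal R
  have : IsDomain R := Function.Injective.isDomain (algebraMap R S) hinj
  have : IsIntegrallyClosed R := Groth.Agent.Lib.Regular.UFD.isIntegrallyClosed R
  have : FaithfulSMul R S := (faithfulSMul_iff_algebraMap_injective R S).mpr hinj
  have : IsNoetherianRing S := IsNoetherianRing.of_finite R S
  refine Module.flat_of_isLocalized_maximal S S (fun q _ => Localization.AtPrime q)
    (fun q _ => Algebra.linearMap S (Localization.AtPrime q)) fun q hq => ?_
  have := hCM q
  have hqm : (q.under R).IsMaximal := Ideal.isMaximal_comap_of_isIntegral_of_isMaximal q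
  have hqe : q.under R = IsLocalRing.maximalIdeal R := IsLocalRing.eq_maximalIdeal hqm
  have hloc : IsLocalHom (algebraMap R (Localization.AtPrime q)) := by
    refine ⟨fun r hr => ?_⟩
    by_contra hu
    have h1 : r ∈ q.under R := hqe ▸ hu
    rw [IsScalarTower.algebraMap_apply R S (Localization.AtPrime q),
      IsLocalization.AtPrime.isUnit_to_map_iff (Localization.AtPrime q) q] at hr
    exact hr h1
  refine Groth.Agent.H20.RegularFlat.flat_of_supportDim_eq R (Localization.AtPrime q)
    (Localization.AtPrime q) Groth.Agent.Lib.Depth.CM.isCohenMacaulayModule_self ?_
  rw [Module.supportDim_self_eq_ringKrullDim,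
    IsLocalization.AtPrime.ringKrullDim_eq_height q (Localization.AtPrime q),
    Groth.Agent.Lib.Dim.Integral.height_eq_height_under (R := R) q, hqe,
    IsLocalRing.maximalIdeal_height_eq_ringKrullDim]
  refine (add_le_add ?_ le_rfl).trans (zero_add _).le
  rw [Module.supportDim_eq_ringKrullDim_quotient_annihilator, ringKrullDim_quotient]
  refine Order.krullDim_nonpos_iff_forall_isMin.mpr ?_
  intro P P' hle
  have hge : ∀ z : PrimeSpectrum.zeroLocus (Module.annihilator (Localization.AtPrime q)
      (Localization.AtPrime q ⧸ (IsLocalRing.maximalIdeal R).map (algebraMap R (Localization.AtPrime q)) •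
        (⊤ : Submodule (Localization.AtPrime q) (Localization.AtPrime q))) : Set (Localization.AtPrime q)),
      (z : PrimeSpectrum (Localization.AtPrime q)).asIdeal = IsLocalRing.maximalIdeal _ := by
    rintro ⟨z, hz⟩
    refine IsLocalRing.eq_maximalIdeal ?_
    let z' := z.asIdeal.under S
    have hz' : z'.IsMaximal := by
      refine Ideal.isMaximal_of_isIntegral_of_isMaximal_comap (R := R) z' ?_
      have : IsLocalRing.maximalIdeal R ≤ z'.under R := by
        intro r hr
        refine hz ?_
        show algebraMap S (Localization.AtPrime q) (algebraMap R S r) ∈ Module.annihilator _ _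
        rw [← IsScalarTower.algebraMap_apply]
        refine Module.mem_annihilator.mpr fun m => ?_
        obtain ⟨m, rfl⟩ := Submodule.mkQ_surjective _ m
        exact (Submodule.Quotient.mk_eq_zero _).mpr
          (Submodule.smul_mem_smul (Ideal.mem_map_of_mem _ hr) trivial)
      have he := (IsLocalRing.maximalIdeal.isMaximal R).eq_of_le Ideal.IsPrime.ne_top' this
      show (z'.under R).IsMaximal
      exact he ▸ inferInstance
    have hle' : z' ≤ q := by
      intro c hc
      by_contra hcq
      exact z.2.ne_top (Ideal.eq_top_of_isUnit_mem _ hc
        (IsLocalization.map_units _ (⟨c, hcq⟩ : q.primeCompl)))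
    have : z' = q := hz'.eq_of_le hq.ne_top hle'
    rw [← IsLocalization.map_under q.primeCompl (Localization.AtPrime q) z.asIdeal]
    show (Ideal.map _ z').IsMaximal
    rw [this, Localization.AtPrime.map_eq_maximalIdeal]
    exact IsLocalRing.maximalIdeal.isMaximal _
  exact (hge P').ge.trans' (le_of_eq (hge P))

end Groth.Agent.S14670
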