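import Groth.Statements.S14673
import Groth.Agent.Lib.PolLaw.GammaTS
import Groth.Agent.Lib.PolLaw.Generate
-- import your own Groth.Agent.* helpers here

set_option autoImplicit false
universe u
open scoped TensorProduct
open SymTen

namespace Groth.Agent.S14673

open Groth.Agent.Lib.PolLaw
open scoped Classical


/-- Let R be a commutative ring, A a commutative R-algebra which is flat as an R-module, and n ≥ 0. For
a ∈ A and j ≥ 0 write σ_j(a) for the j-th elementary symmetric polynomial in the n elements 1 ⊗ ⋯ ⊗
a ⊗ ⋯ ⊗ 1 of the n-fold tensor power of A over R, that is, the sum over the j-element sets I of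
indices of the pure tensors having a in the places of I and 1 in the other places. Then the
subalgebra TS^n_R(A) of symmetric tensors (tensors fixed by every permutation of the factors) equals
the R-subalgebra generated by all the σ_j(a). -/
theorem result (R : Type u) [CommRing R] (A : Type u) [CommRing A] [Algebra R A]
    [Module.Flat R A] (n : ℕ) :
    SymTen.TS R A n = Algebra.adjoin R {t : ⨂[R] _ : Fin n, A | ∃ (a : A) (j : ℕ),
      t = ∑ I ∈ (Finset.univ : Finset (Fin n)).powersetCard j,
        PiTensorProduct.tprod R (fun i : Fin n => if i ∈ I then a else (1 : A))} := by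
  classical
  set G := {t : ⨂[R] _ : Fin n, A | ∃ (a : A) (j : ℕ),
      t = ∑ I ∈ (Finset.univ : Finset (Fin n)).powersetCard j,
        PiTensorProduct.tprod R (fun i : Fin n => if i ∈ I then a else (1 : A))}
  have hcnt : ∀ (c : Fin n → Fin 2), Tpow.cnt c 1 = (Finset.univ.filter fun k => c k = 1).card :=
    fun c => Tpow.cnt_apply c 1
  have key : ∀ (a : A) (ν : Fin 2 →₀ ℕ), ν ∈ Coeff.degSet (Fin 2) n →
      (∑ I ∈ (Finset.univ : Finset (Fin n)).powersetCard (ν 1),
        PiTensorProduct.tprod R (fun i : Fin n => if i ∈ I then a else (1 : A))) =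
        Tpow.toTensor R A n (Gamma.cls ![1, a] ν) := by
    intro a ν hν
    rw [Tpow.toTensor, Gamma.lift_cls, Tpow.coef_tpow]
    refine Eq.trans ?_ ((Finset.sum_filter _ _).trans (Finset.sum_congr rfl fun c _ => by congr))
    have hiff : ∀ c : Fin n → Fin 2, Tpow.cnt c = ν ↔ Tpow.cnt c 1 = ν 1 := fun c => by
      refine ⟨fun h => h ▸ rfl, fun h => Finsupp.ext fun i => ?_⟩
      have h1 := Tpow.sum_cnt c
      have h2 := Coeff.mem_degSet.1 hν
      simp only [Fin.sum_univ_two] at h1 h2
      fin_cases i
      · show Tpow.cnt c 0 = ν 0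
        omega
      · exact h
    refine Finset.sum_bij' (fun I _ => fun k => if k ∈ I then (1 : Fin 2) else 0)
      (fun c _ => Finset.univ.filter fun k => c k = 1) ?_ ?_ ?_ ?_ ?_
    · intro I hI
      rw [Finset.mem_filter, hiff, hcnt]
      refine ⟨Finset.mem_univ _, ?_⟩
      rw [show (Finset.univ.filter fun k => (if k ∈ I then (1 : Fin 2) else 0) = 1) = I from
        Finset.ext fun k => by by_cases hk : k ∈ I <;> simp [hk]]
      exact (Finset.mem_powersetCard.1 hI).2
    · intro c hc
      rw [Finset.mem_filter, hiff, hcnt] at hc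
      exact Finset.mem_powersetCard.2 ⟨Finset.subset_univ _, hc.2⟩
    · intro I _
      exact Finset.ext fun k => by by_cases hk : k ∈ I <;> simp [hk]
    · intro c _
      funext k
      generalize hz : c k = z
      fin_cases z <;> simp [hz]
    · intro I _
      congr 1
      funext k
      by_cases hk : k ∈ I <;> simp [hk]
  apply le_antisymm
  · intro y hy
    obtain ⟨z, rfl⟩ := GammaTS.exists_toTensor_of_flat (d := n) (B := A) hy
    refine Gamma.mem_of_coef_mem (Gamma.isGammaD_univ R A n) ((Algebra.adjoin R G).comap (Tpow.toTensor R A n))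
      (fun m b ν => Generate.coef_mem (Gamma.univ R A n) _ (fun a ν' => ?_) b ν) z
    rw [Gamma.coef_univ, Subalgebra.mem_comap]
    by_cases hν : ν' ∈ Coeff.degSet (Fin 2) n
    · exact Algebra.subset_adjoin ⟨a, ν' 1, (key a ν' hν).symm⟩
    · rw [← Gamma.coef_univ, Coeff.coef_eq_zero_of_sum_ne (Gamma.univ R A n).homog _ _
        (fun h => hν (Coeff.mem_degSet.2 h)), map_zero]
      exact zero_mem _
  · refine Algebra.adjoin_le ?_
    rintro t ⟨a, j, rfl⟩
    rcases le_or_gt j n with hj | hj
    · have h := key a (Finsupp.equivFunOnFinite.symm ![n - j, j])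
        (by simp [Coeff.mem_degSet, Fin.sum_univ_two]; omega)
      simp only [Finsupp.coe_equivFunOnFinite_symm, Matrix.cons_val_one, Matrix.cons_val_zero] at h
      rw [h]
      exact (GammaTS.toTS R A n _).2
    · rw [Finset.powersetCard_eq_empty.2 (by simpa using hj), Finset.sum_empty]
      exact zero_mem _

end Groth.Agent.S14673
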