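import Groth.Statements.S14674
import Groth.Agent.H4.PicZero.CubeBase
-- import your own Groth.Agent.* helpers here

set_option autoImplicit false
universe u
open CategoryTheory CategoryTheory.Limits MonoidalCategory CartesianMonoidalCategory MonObj GrpObj AlgebraicGeometry
open AbSch

namespace Groth.Agent.S14674

/-- Let S be a locally Noetherian scheme, X an abelian scheme over S (an S-group scheme whose structure
morphism α is proper and flat with geometrically integral fibres) with unit section e : S ⟶ X, L an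
invertible O_X-module and n an integer; write [n] for the n-th multiple of the identity in the group
of S-endomorphisms of X. Then [n]^*L ⊗ α^*(e^*L)^{⊗ n²} is isomorphic to L^{⊗(n²+n)/2} ⊗
[-1]^*L^{⊗(n²−n)/2} ⊗ α^*e^*L; equivalently [n]^*L ≅ L^{⊗(n²+n)/2} ⊗ [-1]^*L^{⊗(n²−n)/2} ⊗
[0]^*L^{⊗(1−n²)} with [0]^*L = α^*e^*L (existence of an isomorphism of O_X-modules only). -/
theorem result {S : Scheme.{u}} [IsLocallyNoetherian S] (X : Over S) [GrpObj X] [IsProper X.hom] [Flat X.hom] [GeometricallyIntegral X.hom]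
    (L : X.left.Modules) (hL : PicF.IsInvertible L) (n : ℤ) :
    Nonempty (CohB1.tensorMod ((Scheme.Modules.pullback (𝟙 X ^ n).left).obj L)
        ((Scheme.Modules.pullback X.hom).obj (CohB1.tensorPow ((Scheme.Modules.pullback (η[X]).left).obj L) (n.natAbs ^ 2))) ≅
      CohB1.tensorMod (CohB1.tensorMod (CohB1.tensorPow L ((n ^ 2 + n) / 2).toNat)
          ((Scheme.Modules.pullback (𝟙 X ^ (-1 : ℤ)).left).obj (CohB1.tensorPow L ((n ^ 2 - n) / 2).toNat)))
        ((Scheme.Modules.pullback X.hom).obj ((Scheme.Modules.pullback (η[X]).left).obj L))) := by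
  letI : ∀ Y : Scheme.{u}, PicGrp.Law Y := fun Y => Groth.Agent.Lib.TensorMod.Invertible.law Y
  set a := PicGrp.cls L hL with ha
  have hx : ∀ (z : X ⟶ X), PicF.cl ((Scheme.Modules.pullback z.left).obj L) =
      (Groth.Agent.H3.PicCalc.ph z a).1 := fun z => Groth.Agent.H3.PicCalc.cl_pullback z rfl
  set w := Groth.Agent.H3.PicCalc.ph η[X] a with hw
  have hη : PicF.cl ((Scheme.Modules.pullback η[X].left).obj L) = w.1 :=
    Groth.Agent.H3.PicCalc.cl_pullback η[X] rfl
  have hbase : ∀ {M : S.Modules} {v : PicLoc.PicSet (𝟙_ (Over S)).left}, PicF.cl M = v.1 →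
      PicF.cl ((Scheme.Modules.pullback X.hom).obj M) =
        (Groth.Agent.H3.PicCalc.ph (toUnit X) v).1 := by
    intro M v hv
    exact Groth.Agent.H3.PicCalc.cl_pullback (toUnit X) hv
  have ho : Groth.Agent.H3.PicCalc.ph (toUnit X) w = Groth.Agent.H3.PicCalc.ph (1 : X ⟶ X) a := by
    rw [hw, ← Groth.Agent.H3.PicCalc.ph_comp, ← Hom.one_def]
  have h1 : (𝟙 X ^ (-1 : ℤ) : X ⟶ X) = (𝟙 X)⁻¹ := zpow_neg_one _
  refine (Groth.Agent.H3.PicCalc.iso_iff
    (Groth.Agent.H3.PicCalc.cl_tensor (hx _) (hbase (Groth.Agent.H4.PicZero.cl_tensorPow hη _)))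
    (Groth.Agent.H3.PicCalc.cl_tensor
      (Groth.Agent.H3.PicCalc.cl_tensor (Groth.Agent.H4.PicZero.cl_tensorPow (a := a) rfl _)
        (Groth.Agent.H3.PicCalc.cl_pullback (𝟙 X ^ (-1 : ℤ))
          (Groth.Agent.H4.PicZero.cl_tensorPow (a := a) rfl _)))
      (hbase hη))).2 ?_
  rw [map_pow, map_pow, ho, h1]
  obtain ⟨m, rfl | rfl⟩ := n.eq_nat_or_neg
  · have e1 : (((m : ℤ) ^ 2 + m) / 2).toNat = (m + 1).choose 2 := by
      rw [Nat.choose_two_right, Nat.add_sub_cancel, show (m : ℤ) ^ 2 + m = (((m + 1) * m : ℕ) : ℤ) by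
        push_cast; ring]
      omega
    have e2 : (((m : ℤ) ^ 2 - m) / 2).toNat = m.choose 2 := by
      rw [Nat.choose_two_right]
      rcases m with _ | m
      · simp
      · rw [Nat.add_sub_cancel, show ((m + 1 : ℕ) : ℤ) ^ 2 - ((m + 1 : ℕ) : ℤ) = (((m + 1) * m : ℕ) : ℤ) by
          push_cast; ring]
        omega
    rw [e1, e2, zpow_natCast, Int.natAbs_natCast, pow_two]
    have h := Groth.Agent.H4.PicZero.ph_pow_base (𝟙 X) a m
    rw [Groth.Agent.H3.PicCalc.ph_id] at h
    exact h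
  · have e1 : ((((-(m : ℤ))) ^ 2 + (-(m : ℤ))) / 2).toNat = m.choose 2 := by
      rw [Nat.choose_two_right]
      rcases m with _ | m
      · simp
      · rw [Nat.add_sub_cancel, show (-((m + 1 : ℕ) : ℤ)) ^ 2 + -((m + 1 : ℕ) : ℤ) = (((m + 1) * m : ℕ) : ℤ) by
          push_cast; ring]
        omega
    have e2 : ((((-(m : ℤ))) ^ 2 - (-(m : ℤ))) / 2).toNat = (m + 1).choose 2 := by
      rw [Nat.choose_two_right, Nat.add_sub_cancel, show (-(m : ℤ)) ^ 2 - -(m : ℤ) = (((m + 1) * m : ℕ) : ℤ) by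
        push_cast; ring]
      omega
    rw [e1, e2, zpow_neg, zpow_natCast, ← inv_pow, Int.natAbs_neg, Int.natAbs_natCast, pow_two]
    have h := Groth.Agent.H4.PicZero.ph_pow_base (𝟙 X)⁻¹ a m
    rw [_root_.inv_inv, Groth.Agent.H3.PicCalc.ph_id] at h
    rw [h]
    congr 1
    exact mul_comm _ _

end Groth.Agent.S14674
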