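import Groth.Statements.S14675
import Groth.Agent.Lib.HilbD.Sec
import Groth.Agent.Lib.RelDiv.Diff
import Groth.Agent.Lib.Ideal.Comap

set_option autoImplicit false
universe u
open CategoryTheory CategoryTheory.Limits AlgebraicGeometry
open HilbD

namespace Groth.Agent.S14675
set_option linter.style.haveILetI false
set_option backward.isDefEq.respectTransparency false

open Groth.Agent.Lib Groth.Agent.Lib.RelDiv

/-- The section of a base change defined by a section. -/
theorem exists_sec {C C' V S' : Scheme.{u}} {p : C ⟶ V} {q : C' ⟶ C} {p' : C' ⟶ S'} {b : S' ⟶ V}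
    (sq : IsPullback q p' p b) [IsSeparated p] (τ : V ⟶ C) (hτ : τ ≫ p = 𝟙 V) :
    ∃ τ' : S' ⟶ C', τ' ≫ p' = 𝟙 S' ∧ τ.ker.comap q = τ'.ker := by
  haveI : IsClosedImmersion τ := by
    haveI : IsClosedImmersion (τ ≫ p) := by rw [hτ]; infer_instance
    exact IsClosedImmersion.of_comp τ p
  let τ' : S' ⟶ C' := sq.lift (b ≫ τ) (𝟙 S') (by simp [hτ])
  have h2 : τ' ≫ p' = 𝟙 S' := sq.lift_snd _ _ _
  refine ⟨τ', h2, ?_⟩
  have sq' : IsPullback b τ' τ q := by
    refine IsPullback.of_bot ?_ (sq.lift_fst _ _ _).symm sq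
    rw [h2, hτ]
    exact IsPullback.of_vert_isIso ⟨by simp⟩
  rw [← Scheme.IdealSheafData.ker_fst_of_isClosedImmersion, ← sq'.flip.isoPullback_inv_fst,
    Scheme.Hom.ker_comp_of_isIso]

theorem comap_prod {C C' : Scheme.{u}} (q : C' ⟶ C) {d : ℕ} (J : Fin d → C.IdealSheafData) :
    (∏ i, J i).comap q = ∏ i, (J i).comap q := by
  induction d with
  | zero => simp [Scheme.IdealSheafData.comap_top]
  | succ n ih => rw [Fin.prod_univ_succ, Fin.prod_univ_succ, Ideal.Comap.comap_mul, ih]

theorem aux : ∀ (d : ℕ) {C S : Scheme.{u}} (f : C ⟶ S) [IsSeparated f]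
    [SmoothOfRelativeDimension 1 f] (I : C.IdealSheafData),
    Mor2.IsFinLocFreeOfDeg d (I.subschemeι ≫ f) →
    ∃ (S' : Scheme.{u}) (b : S' ⟶ S) (C' : Scheme.{u}) (q : C' ⟶ C) (p : C' ⟶ S'),
      IsPullback q p f b ∧ Flat b ∧ Surjective b ∧ LocallyOfFinitePresentation b ∧
      ∃ σ : Fin d → (S' ⟶ C'), (∀ i, σ i ≫ p = 𝟙 S') ∧ I.comap q = ∏ i, (σ i).ker := by
  intro d
  induction d with
  | zero =>
    intro C S f _ _ I hI
    refine ⟨S, 𝟙 S, C, 𝟙 C, f, IsPullback.of_id_fst, inferInstance, inferInstance, inferInstance,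
      finZeroElim, finZeroElim, ?_⟩
    obtain ⟨h1, h2, h3⟩ := hI.1
    have hemp : IsEmpty I.subscheme := ⟨fun x => by
      have := Scheme.Hom.one_le_finrank_map (I.subschemeι ≫ f) x
      rw [hI.2] at this
      exact absurd this (by norm_num)⟩
    rw [Scheme.IdealSheafData.comap_id, Finset.univ_eq_empty, Finset.prod_empty,
      Scheme.IdealSheafData.one_eq_top, ← I.ker_subschemeι]
    exact (Scheme.Hom.ker_eq_top_iff_isEmpty _).mpr hemp
  | succ n ih =>
    intro C S f _ _ I hI
    let V := I.subscheme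
    let b₁ : V ⟶ S := I.subschemeι ≫ f
    obtain ⟨h1, h2, h3⟩ := hI.1
    haveI : Surjective b₁ := (Scheme.Hom.one_le_finrank_iff_surjective b₁).mp fun y => by
      rw [Pi.one_apply, hI.2 y]
      exact Nat.le_add_left 1 n
    haveI : SmoothOfRelativeDimension 1 (pullback.snd f b₁) :=
      haveI := smoothOfRelativeDimension_isStableUnderBaseChange.{u} (n := 1)
      MorphismProperty.pullback_snd (P := @SmoothOfRelativeDimension 1) f b₁ ‹_›
    let τ : V ⟶ pullback f b₁ := pullback.lift I.subschemeι (𝟙 V) (by simp [b₁])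
    have hτ : τ ≫ pullback.snd f b₁ = 𝟙 V := pullback.lift_snd _ _ _
    haveI : IsClosedImmersion τ := by
      haveI : IsClosedImmersion (τ ≫ pullback.snd f b₁) := by rw [hτ]; infer_instance
      exact IsClosedImmersion.of_comp τ (pullback.snd f b₁)
    have hle : I.comap (pullback.fst f b₁) ≤ τ.ker := by
      rw [← Scheme.IdealSheafData.map_bot, Scheme.IdealSheafData.le_map_iff_comap_le,
        ← Scheme.IdealSheafData.comap_comp, pullback.lift_fst,
        ← Scheme.IdealSheafData.le_map_iff_comap_le, Scheme.IdealSheafData.map_bot,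
        Scheme.IdealSheafData.ker_subschemeι]
    have hτ1 : Mor2.IsFinLocFreeOfDeg 1 (τ.ker.subschemeι ≫ pullback.snd f b₁) := by
      rw [HilbD.Sec.finLocFreeOfDeg_one_iff]
      have h : τ.toImage ≫ τ.ker.subschemeι ≫ pullback.snd f b₁ = 𝟙 V := by
        rw [← Category.assoc]
        exact (congrArg (· ≫ pullback.snd f b₁) τ.toImage_imageι).trans hτ
      haveI : IsIso (τ.toImage ≫ τ.ker.subschemeι ≫ pullback.snd f b₁) := by
        rw [h]; infer_instance
      exact IsIso.of_isIso_comp_left τ.toImage _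
    obtain ⟨D, hD, hID⟩ := Diff.exists_difference (pullback.snd f b₁) _ _ hle 1 (n + 1) hτ1
      (HilbD.Basic.finLocFreeOfDeg_comap (IsPullback.of_hasPullback f b₁) hI)
    rw [Nat.add_sub_cancel] at hD
    obtain ⟨S', b₂, C', q, p, sq, hfl, hsu, hlfp, σ, hσ, hDσ⟩ := ih (pullback.snd f b₁) D hD
    obtain ⟨τ', hτ', hτq⟩ := exists_sec sq τ hτ
    refine ⟨S', b₂ ≫ b₁, C', q ≫ pullback.fst f b₁, p,
      sq.paste_horiz (IsPullback.of_hasPullback f b₁), inferInstance, inferInstance, inferInstance,
      Fin.cons τ' σ, ?_, ?_⟩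
    · intro i
      refine Fin.cases ?_ (fun j => ?_) i
      · rw [Fin.cons_zero]; exact hτ'
      · rw [Fin.cons_succ]; exact hσ j
    · rw [Scheme.IdealSheafData.comap_comp, hID, Ideal.Comap.comap_mul, hτq, hDσ,
        Fin.prod_univ_succ, Fin.cons_zero]
      simp only [Fin.cons_succ]


/-- Let S be a locally Noetherian scheme, f : C ⟶ S proper and smooth of relative dimension 1, d ≥ 0,
and D the closed subscheme of C defined by a quasi-coherent ideal sheaf I, with D ⟶ S finite locally
free of degree d (an effective relative Cartier divisor of constant degree d). Then D becomes a sum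
of d sections after an fppf base change: there are b : S' ⟶ S flat, surjective and locally of finite
presentation and sections σ_1, …, σ_d of the projection C ×_S S' ⟶ S' such that the ideal sheaf of D
×_S S' ⊆ C ×_S S' (the kernel ideal of the base change of D ⟶ C) is the product of the kernel ideal
sheaves of the σ_i. (The published statement is for a flat projective family whose geometric fibres
are connected regular curves; this row assumes properness and smoothness of relative dimension 1,
which is what the proof uses.) -/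
theorem result {C S : Scheme.{u}} [IsLocallyNoetherian S]
    (f : C ⟶ S) [IsProper f] [SmoothOfRelativeDimension 1 f] (d : ℕ) (I : C.IdealSheafData)
    (hD : Mor2.IsFinLocFreeOfDeg d (I.subschemeι ≫ f)) :
    ∃ (S' : Scheme.{u}) (b : S' ⟶ S), Flat b ∧ Surjective b ∧ LocallyOfFinitePresentation b ∧
      ∃ σ : Fin d → (S' ⟶ pullback f b), (∀ i, σ i ≫ pullback.snd f b = 𝟙 S') ∧
        (pullback.snd I.subschemeι (pullback.fst f b)).ker = ∏ i, (σ i).ker := by
  obtain ⟨S', b, C', q, p, sq, hfl, hsu, hlfp, σ, hσ, hI⟩ := aux d f I hD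
  have hker : (pullback.snd I.subschemeι (pullback.fst f b)).ker = I.comap (pullback.fst f b) := by
    rw [Scheme.IdealSheafData.comap,
      ← Scheme.Hom.ker_comp_of_isIso
        (pullbackSymmetry I.subschemeι (pullback.fst f b)).inv,
      pullbackSymmetry_inv_comp_snd]
  let e := sq.isoPullback
  refine ⟨S', b, hfl, hsu, hlfp, fun i => σ i ≫ e.hom, fun i => ?_, ?_⟩
  · rw [Category.assoc, sq.isoPullback_hom_snd, hσ i]
  · haveI : ∀ i, IsClosedImmersion (σ i) := fun i => by
      haveI : IsSeparated p := MorphismProperty.of_isPullback sq inferInstance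
      haveI : IsClosedImmersion (σ i ≫ p) := by rw [hσ i]; infer_instance
      exact IsClosedImmersion.of_comp (σ i) p
    rw [hker, ← sq.isoPullback_inv_fst, Scheme.IdealSheafData.comap_comp, hI, comap_prod]
    refine Finset.prod_congr rfl fun i _ => ?_
    have hsq : IsPullback (σ i ≫ e.hom) (𝟙 S') e.inv (σ i) :=
      IsPullback.of_vert_isIso ⟨by simp [e]⟩ |>.flip |>.flip
    rw [← Scheme.IdealSheafData.ker_fst_of_isClosedImmersion, ← hsq.isoPullback_inv_fst,
      Scheme.Hom.ker_comp_of_isIso]

end Groth.Agent.S14675
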