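import Groth.Statements.S14676
import Mathlib

set_option autoImplicit false
universe u
open CAlg
open scoped Ring

namespace Groth.Agent.S14676

/-- Let A be a commutative ring which is separated and complete for the I-adic topology of an ideal I,
let P be any polynomial over A (not assumed monic) and a₀ an element of A such that P(a₀) lies in I
and P'(a₀) is a unit modulo I. Then there is a unique a in A congruent to a₀ modulo I with P(a) = 0. -/
theorem result (A : Type u) [CommRing A] (I : Ideal A) [IsAdicComplete I A]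
    (P : Polynomial A) (a₀ : A) (h₀ : P.eval a₀ ∈ I)
    (h₁ : IsUnit (Ideal.Quotient.mk I (P.derivative.eval a₀))) :
    ∃! a : A, a - a₀ ∈ I ∧ P.IsRoot a := by
  classical
  have hjac : I ≤ Ideal.jacobson ⊥ := IsAdicComplete.le_jacobson_bot I
  haveI := isLocalHom_of_le_jacobson_bot I hjac
  let f' := Polynomial.derivative P
  let c : ℕ → A := fun n => Nat.recOn n a₀ fun _ b => b - P.eval b * (f'.eval b)⁻¹ʳ
  have hc : ∀ n, c (n + 1) = c n - P.eval (c n) * (f'.eval (c n))⁻¹ʳ := fun n => rfl
  have hunit : ∀ b, b - a₀ ∈ I → IsUnit (f'.eval b) := fun b hb => by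
    apply IsUnit.of_map (Ideal.Quotient.mk I)
    have he : Ideal.Quotient.mk I (f'.eval b) = Ideal.Quotient.mk I (f'.eval a₀) := by
      rw [Ideal.Quotient.eq]
      exact I.mem_of_dvd (Polynomial.sub_dvd_eval_sub b a₀ f') hb
    rw [he]; exact h₁
  have key : ∀ n, c n - a₀ ∈ I ∧ P.eval (c n) ∈ I ^ (n + 1) := by
    intro n
    induction n with
    | zero => exact ⟨by simp [c], by simpa [c] using h₀⟩
    | succ n ih =>
      refine ⟨?_, ?_⟩
      · have : c (n + 1) - a₀ = (c n - a₀) - P.eval (c n) * (f'.eval (c n))⁻¹ʳ := by rw [hc]; ring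
        rw [this]
        exact I.sub_mem ih.1 (I.mul_mem_right _ (Ideal.pow_le_self (by omega) ih.2))
      · obtain ⟨k, hk⟩ := P.binomExpansion (c n) (-(P.eval (c n) * (f'.eval (c n))⁻¹ʳ))
        rw [hc, sub_eq_add_neg, hk]
        have h2 : P.eval (c n) + f'.eval (c n) * -(P.eval (c n) * (f'.eval (c n))⁻¹ʳ) = 0 := by
          rw [mul_neg, mul_left_comm, Ring.mul_inverse_cancel _ (hunit _ ih.1), mul_one, add_neg_cancel]
        rw [h2, zero_add, neg_sq, mul_pow]
        refine Ideal.mul_mem_left _ _ (Ideal.mul_mem_right _ _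
          (Ideal.pow_le_pow_right (show n + 1 + 1 ≤ (n + 1) * 2 by omega) ?_))
        rw [pow_mul]
        exact Ideal.pow_mem_pow ih.2 2
  have hcauchy : ∀ m k, c m ≡ c (m + k) [SMOD (I ^ m • ⊤ : Ideal A)] := by
    intro m k
    rw [Ideal.smul_top_eq_map, Algebra.algebraMap_self, Ideal.map_id]
    induction k with
    | zero => rfl
    | succ k ih =>
      refine ih.trans (SModEq.symm ?_)
      rw [SModEq.sub_mem, ← add_assoc, hc, sub_sub_cancel_left, Submodule.restrictScalars_mem, neg_mem_iff]
      exact Ideal.mul_mem_right _ _ (Ideal.pow_le_pow_right (by omega) (key _).2)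
  obtain ⟨a, ha⟩ := IsPrecomplete.prec' c (I := I) (fun {m n} hmn => by
    obtain ⟨k, rfl⟩ := Nat.exists_eq_add_of_le hmn
    exact hcauchy m k)
  have ha' : ∀ n, c n - a ∈ I ^ n := fun n => by
    have := SModEq.sub_mem.mp (ha n)
    rwa [Ideal.smul_eq_mul, Ideal.mul_top] at this
  have haI : a - a₀ ∈ I := by
    have h1 := ha' 1
    rw [pow_one] at h1
    have := I.sub_mem (key 1).1 h1
    rwa [sub_sub_sub_cancel_left] at this
  have hroot : P.IsRoot a := by
    refine IsHausdorff.haus' (I := I) _ fun n => ?_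
    rw [SModEq.zero, Ideal.smul_eq_mul, Ideal.mul_top]
    have h1 : P.eval a - P.eval (c n) ∈ I ^ n :=
      Ideal.mem_of_dvd _ (Polynomial.sub_dvd_eval_sub a (c n) P)
        (by rw [← neg_sub]; exact neg_mem (ha' n))
    have h2 := (I ^ n).add_mem h1 (Ideal.pow_le_pow_right (by omega) (key n).2)
    rwa [sub_add_cancel] at h2
  refine ⟨a, ⟨haI, hroot⟩, fun b hb => ?_⟩
  obtain ⟨k, hk⟩ := P.binomExpansion a (b - a)
  rw [add_sub_cancel, hb.2.eq_zero, hroot.eq_zero] at hk
  have hu : IsUnit (f'.eval a + k * (b - a)) := by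
    apply IsUnit.of_map (Ideal.Quotient.mk I)
    have hba : Ideal.Quotient.mk I (b - a) = 0 := by
      rw [Ideal.Quotient.eq_zero_iff_mem]
      have := I.sub_mem hb.1 haI
      rwa [sub_sub_sub_cancel_right] at this
    rw [map_add, map_mul, hba, mul_zero, add_zero]
    exact (hunit a haI).map _
  have h0 : (b - a) * (f'.eval a + k * (b - a)) = 0 := by linear_combination -hk
  exact sub_eq_zero.mp (hu.mul_left_eq_zero.mp h0)

end Groth.Agent.S14676
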