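import Groth.Statements.S14677
import Mathlib

set_option autoImplicit false
universe u
open CAlg

namespace Groth.Agent.S14677

/-- Let A be a Noetherian commutative ring, I and J ideals of A and M a finitely generated A-module.
Then the map of I-adic completions induced by the inclusion of the submodule JM into M is injective
with image exactly J·M̂, where M̂ is the I-adic completion of M; that is, the completion of JM is J
times the completion of M. (The published statement does not say that A is Noetherian; its proof
uses exactness of completion on finitely generated modules, which needs it, so this row assumes A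
Noetherian.) -/
theorem result (A : Type u) [CommRing A] [IsNoetherianRing A] (I J : Ideal A)
    (M : Type u) [AddCommGroup M] [Module A M] [Module.Finite A M] :
    Function.Injective (AdicCompletion.map I (J • (⊤ : Submodule A M)).subtype) ∧
      LinearMap.range (AdicCompletion.map I (J • (⊤ : Submodule A M)).subtype) =
        (J.map (algebraMap A (AdicCompletion I A))) • (⊤ : Submodule (AdicCompletion I A) (AdicCompletion I M)) := by
  classical
  refine ⟨AdicCompletion.map_injective I (J • (⊤ : Submodule A M)).injective_subtype, ?_⟩
  haveI : Module.Finite A (J • (⊤ : Submodule A M) : Submodule A M) := Module.IsNoetherian.finite A _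
  have gen : ∀ (P : Type u) [AddCommGroup P] [Module A P] [Module.Finite A P] (z : AdicCompletion I P),
      z ∈ Submodule.span (AdicCompletion I A) (Set.range (AdicCompletion.of I P)) := by
    intro P _ _ _ z
    obtain ⟨t, rfl⟩ := AdicCompletion.ofTensorProduct_surjective_of_finite I P z
    induction t using TensorProduct.induction_on with
    | zero => rw [map_zero]; exact zero_mem _
    | tmul c x =>
      rw [AdicCompletion.ofTensorProduct_tmul]
      exact Submodule.smul_mem _ _ (Submodule.subset_span ⟨x, rfl⟩)
    | add a b ha hb => rw [map_add]; exact add_mem ha hb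
  refine le_antisymm ?_ ?_
  · rintro _ ⟨z, rfl⟩
    refine (Submodule.span_le (p := (J.map (algebraMap A (AdicCompletion I A)) •
      (⊤ : Submodule (AdicCompletion I A) (AdicCompletion I M))).comap _)).2 ?_ (gen _ z)
    rintro _ ⟨⟨x, hx⟩, rfl⟩
    rw [SetLike.mem_coe, Submodule.mem_comap, AdicCompletion.map_of, Submodule.subtype_apply]
    show AdicCompletion.of I M x ∈ _
    refine Submodule.smul_induction_on hx (fun j hj y _ => ?_) (fun a b ha hb => ?_)
    · rw [map_smul, ← algebraMap_smul (AdicCompletion I A) j]
      exact Submodule.smul_mem_smul (Ideal.mem_map_of_mem _ hj) trivial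
    · rw [map_add]; exact add_mem ha hb
  · refine Submodule.smul_le.2 fun c hc z _ => ?_
    refine Submodule.span_induction ?_ ?_ ?_ ?_ hc
    · rintro _ ⟨j, hj, rfl⟩
      refine (Submodule.span_le (p := (LinearMap.range (AdicCompletion.map I (J • (⊤ : Submodule A M)).subtype)).comap
        (algebraMap A (AdicCompletion I A) j • LinearMap.id))).2 ?_ (gen _ z)
      rintro _ ⟨y, rfl⟩
      refine ⟨AdicCompletion.of I _ ⟨j • y, Submodule.smul_mem_smul hj trivial⟩, ?_⟩
      rw [AdicCompletion.map_of, Submodule.subtype_apply, map_smul, ← algebraMap_smul (AdicCompletion I A) j]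
      rfl
    · rw [zero_smul]; exact zero_mem _
    · intro a b _ _ ha hb; rw [add_smul]; exact add_mem ha hb
    · intro a b _ hb; rw [smul_assoc]; exact Submodule.smul_mem _ _ hb

end Groth.Agent.S14677
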