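import Groth.Statements.S14678
import Groth.Agent.Lib.ResExt

set_option autoImplicit false
set_option linter.style.haveILetI false
universe u
open CategoryTheory CategoryTheory.Limits AlgebraicGeometry
open EtBase

namespace Groth.Agent.S14678

/-- Let S be a scheme, s a point of S and ℓ a finite field extension of the residue field κ(s). Then,
fppf-locally around s, ℓ occurs as a residue field: there are an affine scheme U', a flat morphism b
: U' ⟶ S locally of finite presentation (so with open image containing s) and a morphism t : Spec ℓ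
⟶ U' over the canonical morphism Spec ℓ ⟶ Spec κ(s) ⟶ S which is a preimmersion, i.e. the inclusion
of a point s' of U' above s together with an identification of κ(s') with ℓ over κ(s); such a point
is closed in its fibre over s. (The published statement gives an affine open neighbourhood U of s
and an fppf morphism U' ⟶ U; this row asks only for a flat, locally finitely presented U' ⟶ S, whose
open image then contains s.) -/
theorem result (S : Scheme.{u}) (s : ↥S)
    (ℓ : Type u) [Field ℓ] [Algebra (S.residueField s) ℓ] [Module.Finite (S.residueField s) ℓ] :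
    ∃ (U' : Scheme.{u}) (b : U' ⟶ S) (t : Spec (CommRingCat.of ℓ) ⟶ U'),
      IsAffine U' ∧ Flat b ∧ LocallyOfFinitePresentation b ∧ IsPreimmersion t ∧
        t ≫ b = Spec.map (CommRingCat.ofHom (algebraMap (S.residueField s) ℓ)) ≫ S.fromSpecResidueField s := by
  obtain ⟨_, ⟨W, hW, rfl⟩, hsW, -⟩ := S.isBasis_affineOpens.exists_subset_of_mem_open (Set.mem_univ s) isOpen_univ
  let p := hW.primeIdealOf ⟨s, hsW⟩
  let c : Γ(S, W) →+* S.residueField s := (S.presheaf.germ W s hsW ≫ S.residue s).hom
  letI : Algebra Γ(S, W) ℓ := ((algebraMap (S.residueField s) ℓ).comp c).toAlgebra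
  have hc : ∀ x : S.residueField s, ∃ a b, c b ≠ 0 ∧ x = c a / c b := fun x => by
    obtain ⟨z, rfl⟩ := S.residue_surjective s x
    letI := TopCat.Presheaf.algebra_section_stalk S.presheaf ⟨s, hsW⟩
    haveI := hW.isLocalization_stalk ⟨s, hsW⟩
    obtain ⟨⟨a, b⟩, hab⟩ := IsLocalization.surj (hW.primeIdealOf ⟨s, hsW⟩).asIdeal.primeCompl z
    have hb : IsUnit (S.presheaf.germ W s hsW (b : Γ(S, W))) :=
      IsLocalization.map_units (S.presheaf.stalk s) b
    have hcb : c b ≠ 0 := (hb.map (S.residue s).hom).ne_zero
    refine ⟨a, b, hcb, ?_⟩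
    rw [eq_div_iff hcb]
    exact ((map_mul (S.residue s).hom z _).symm).trans (congrArg (S.residue s).hom hab)
  obtain ⟨B, _, _, hfl, hfp, ψ, hψc, hψ⟩ := Lib.ResExt.exists_flat_algebra c hc ℓ
  let t : Spec (CommRingCat.of ℓ) ⟶ Spec (CommRingCat.of B) := Spec.map (CommRingCat.ofHom ψ)
  let m : Spec (CommRingCat.of B) ⟶ Spec (CommRingCat.of Γ(S, W)) :=
    Spec.map (CommRingCat.ofHom (algebraMap Γ(S, W) B))
  haveI : Flat m := (HasRingHomProperty.Spec_iff (P := @Flat)).2 (RingHom.flat_algebraMap_iff.2 hfl)
  haveI : LocallyOfFinitePresentation m :=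
    (HasRingHomProperty.Spec_iff (P := @LocallyOfFinitePresentation)).2
      (RingHom.finitePresentation_algebraMap.2 hfp)
  refine ⟨Spec (CommRingCat.of B), m ≫ hW.fromSpec, t, inferInstance, inferInstance, inferInstance,
    Lib.ResExt.isPreimmersion_specMap ψ hψ, ?_⟩
  show Spec.map _ ≫ Spec.map _ ≫ hW.fromSpec = _
  rw [← Spec.map_comp_assoc, Scheme.fromSpecResidueField, ← hW.fromSpecStalk_eq_fromSpecStalk hsW,
    IsAffineOpen.fromSpecStalk, ← Category.assoc, ← Category.assoc, ← Spec.map_comp, ← Spec.map_comp]
  congr 2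
  ext x
  exact congr($hψc x)

end Groth.Agent.S14678
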