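import Groth.Statements.S14679
import Mathlib.AlgebraicGeometry.PullbackCarrier

set_option autoImplicit false
universe u
open CategoryTheory CategoryTheory.Limits AlgebraicGeometry
open EtBase

namespace Groth.Agent.S14679

/-- Given a morphism of schemes f : X ⟶ Y and a point x ∈ X with image y = f(x), such that the residue
field map κ(y) → κ(x) is bijective; let ℓ be an algebraic extension field of κ(y) and form the base
change X ×_Y Spec ℓ along Spec ℓ ⟶ Spec κ(y) ⟶ Y. Then there is exactly one point of X ×_Y Spec ℓ
mapping to x under the first projection. (The published statement takes ℓ to be an algebraic closure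
of κ(y), noting that any algebraic extension works, and also identifies the local ring at the point
with O_{X,x} ⊗_{O_{Y,y}} ℓ; this row allows any algebraic extension ℓ and states only the first
assertion.) -/
theorem result {X Y : Scheme.{u}} (f : X ⟶ Y) (x : ↥X)
    (hx : Function.Bijective (f.residueFieldMap x).hom)
    (ℓ : Type u) [Field ℓ] [Algebra (Y.residueField (f.base x)) ℓ] [Algebra.IsAlgebraic (Y.residueField (f.base x)) ℓ] :
    ∃! z : ↥(pullback f (Spec.map (CommRingCat.ofHom (algebraMap (Y.residueField (f.base x)) ℓ)) ≫ Y.fromSpecResidueField (f.base x))),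
      (pullback.fst f (Spec.map (CommRingCat.ofHom (algebraMap (Y.residueField (f.base x)) ℓ)) ≫ Y.fromSpecResidueField (f.base x))).base z = x := by
  let g := Spec.map (CommRingCat.ofHom (algebraMap (Y.residueField (f.base x)) ℓ)) ≫ Y.fromSpecResidueField (f.base x)
  let s : Spec (CommRingCat.of ℓ) := default
  have hs : f x = g s := by
    rw [Scheme.Hom.comp_apply, Scheme.fromSpecResidueField_apply]
  have : IsIso (f.residueFieldMap x) := (ConcreteCategory.isIso_iff_bijective _).2 hx
  let T : Scheme.Pullback.Triplet f g := Scheme.Pullback.Triplet.mk' x s hs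
  obtain ⟨z, hz, hz'⟩ := Scheme.Pullback.exists_preimage_pullback x s hs
  refine ⟨z, hz, fun w hw => ?_⟩
  have hT : ∀ v : ↥(pullback f g), pullback.fst f g v = x → Scheme.Pullback.Triplet.ofPoint v = T := fun v hv =>
    Scheme.Pullback.Triplet.ext hv (Subsingleton.elim _ _)
  have hsub : Subsingleton (Spec T.tensor) := by
    have : IsIso ((Y.residueFieldCongr T.hx).inv ≫ f.residueFieldMap T.x) := by
      have : IsIso (f.residueFieldMap T.x) := this
      infer_instance
    have : IsIso T.tensorInr := pushout_inr_iso_of_left_iso _ _
    exact (Spec.map T.tensorInr).homeomorph.injective.subsingleton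
  have key : ∀ v : ↥(pullback f g), pullback.fst f g v = x → ∀ q : Spec T.tensor, v = T.SpecTensorTo q := by
    intro v hv q
    have e := hT v hv
    rw [← Scheme.Pullback.SpecTensorTo_SpecOfPoint v, ← Scheme.Pullback.tensorCongr_SpecTensorTo e.symm, Scheme.Hom.comp_apply]
    exact congrArg _ (Subsingleton.elim _ _)
  obtain ⟨q⟩ : Nonempty (Spec T.tensor) := inferInstance
  exact (key w hw q).trans (key z hz q).symm

end Groth.Agent.S14679
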