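import Groth.Statements.S14680
import Mathlib

set_option autoImplicit false
universe u
open CAlg

namespace Groth.Agent.S14680

/-- Let A be a Noetherian commutative ring and f : M' → M, g : M → M'' linear maps between finitely
generated A-modules. Then the sequence 0 → M' → M → M'' → 0 is exact — f injective, the image of f
equal to the kernel of g, g surjective — if and only if for every maximal ideal m of A the sequence
of m-adic completions 0 → M'^ → M^ → M''^ → 0 (maps induced by f and g) is exact in the same sense. -/
theorem result (A : Type u) [CommRing A] [IsNoetherianRing A]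
    (M' M M'' : Type u) [AddCommGroup M'] [Module A M'] [AddCommGroup M] [Module A M] [AddCommGroup M''] [Module A M'']
    [Module.Finite A M'] [Module.Finite A M] [Module.Finite A M''] (f : M' →ₗ[A] M) (g : M →ₗ[A] M'') :
    (Function.Injective f ∧ Function.Exact f g ∧ Function.Surjective g) ↔
      ∀ (m : Ideal A) [m.IsMaximal],
        Function.Injective (AdicCompletion.map m f) ∧ Function.Exact (AdicCompletion.map m f) (AdicCompletion.map m g) ∧
          Function.Surjective (AdicCompletion.map m g) := by
  classical
  have zero : ∀ {Q : Type u} [AddCommGroup Q] [Module A Q] [Module.Finite A Q],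
      (∀ (m : Ideal A) [m.IsMaximal], ∀ z : AdicCompletion m Q, z = 0) → Subsingleton Q := by
    intro Q _ _ _ h
    by_contra hne
    rw [not_subsingleton_iff_nontrivial] at hne
    obtain ⟨p, hp⟩ := (Module.nonempty_support_iff (R := A) (M := Q)).2 hne
    obtain ⟨m, hm, hpm⟩ := Ideal.exists_le_maximal _ p.isPrime.ne_top
    have htop : (⊤ : Submodule A Q) ≤ m • ⊤ := fun x _ => by
      have h1 := congrArg (fun z => z.val 1) (h m (AdicCompletion.of m Q x))
      simp only [AdicCompletion.of_apply, AdicCompletion.val_zero, Pi.zero_apply, Submodule.mkQ_apply,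
        Submodule.Quotient.mk_eq_zero, pow_one] at h1
      exact h1
    obtain ⟨r, hr, hr0⟩ := Submodule.exists_sub_one_mem_and_smul_eq_zero_of_fg_of_le_smul m ⊤
      Module.Finite.fg_top htop
    have hra : r ∈ p.asIdeal := Module.mem_support_iff_of_finite.1 hp
      (Module.mem_annihilator.2 fun x => hr0 x trivial)
    exact hm.ne_top ((Ideal.eq_top_iff_one _).2 (by simpa using sub_mem (hpm hra) hr))
  constructor
  · rintro ⟨hf, he, hg⟩ m _
    exact ⟨AdicCompletion.map_injective m hf, AdicCompletion.map_exact hf he hg,
      AdicCompletion.map_surjective m hg⟩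
  intro h
  have hinj : ∀ {P Q : Type u} [AddCommGroup P] [Module A P] [Module.Finite A P] [AddCommGroup Q]
      [Module A Q] [Module.Finite A Q] (u : P →ₗ[A] Q),
      (∀ (m : Ideal A) [m.IsMaximal], Function.Injective (AdicCompletion.map m u)) → Function.Injective u := by
    intro P Q _ _ _ _ _ _ u hu
    rw [← LinearMap.ker_eq_bot]
    haveI : Module.Finite A (LinearMap.ker u) := Module.IsNoetherian.finite A _
    have : Subsingleton (LinearMap.ker u) := zero fun m _ z => by
      apply AdicCompletion.map_injective m (LinearMap.ker u).injective_subtype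
      apply hu m
      rw [map_zero, map_zero, AdicCompletion.map_comp_apply, LinearMap.comp_ker_subtype,
        AdicCompletion.map_zero]
      rfl
    exact Submodule.subsingleton_iff_eq_bot.1 this
  have hsurj : ∀ {P Q : Type u} [AddCommGroup P] [Module A P] [Module.Finite A P] [AddCommGroup Q]
      [Module A Q] [Module.Finite A Q] (u : P →ₗ[A] Q),
      (∀ (m : Ideal A) [m.IsMaximal], Function.Surjective (AdicCompletion.map m u)) → Function.Surjective u := by
    intro P Q _ _ _ _ _ _ u hu
    have : Subsingleton (Q ⧸ LinearMap.range u) := zero fun m _ z => by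
      obtain ⟨y, rfl⟩ := AdicCompletion.map_surjective m (Submodule.mkQ_surjective (LinearMap.range u)) z
      obtain ⟨x, rfl⟩ := hu m y
      rw [AdicCompletion.map_comp_apply, LinearMap.range_mkQ_comp, AdicCompletion.map_zero]
      rfl
    rw [← LinearMap.range_eq_top, ← Submodule.Quotient.subsingleton_iff]
    exact this
  have hf : Function.Injective f := hinj f fun m _ => (h m).1
  have hg : Function.Surjective g := hsurj g fun m _ => (h m).2.2
  refine ⟨hf, ?_, hg⟩
  have hgf : g ∘ₗ f = 0 := by
    haveI : Module.Finite A (LinearMap.range (g ∘ₗ f)) := Module.IsNoetherian.finite A _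
    rw [← LinearMap.range_eq_bot, ← Submodule.subsingleton_iff_eq_bot]
    refine zero fun m _ z => ?_
    obtain ⟨y, rfl⟩ := AdicCompletion.map_surjective m (g ∘ₗ f).surjective_rangeRestrict z
    apply AdicCompletion.map_injective m (LinearMap.range (g ∘ₗ f)).injective_subtype
    rw [map_zero, AdicCompletion.map_comp_apply,
      show (LinearMap.range (g ∘ₗ f)).subtype ∘ₗ (g ∘ₗ f).rangeRestrict = g ∘ₗ f from rfl,
      ← AdicCompletion.map_comp_apply]
    exact (h m).2.1.apply_apply_eq_zero y
  haveI : Module.Finite A (LinearMap.ker g) := Module.IsNoetherian.finite A _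
  let f' := f.codRestrict (LinearMap.ker g) fun x => LinearMap.congr_fun hgf x
  have hf' : Function.Surjective f' := hsurj f' fun m _ w => by
    have hw : AdicCompletion.map m g (AdicCompletion.map m (LinearMap.ker g).subtype w) = 0 := by
      rw [AdicCompletion.map_comp_apply, LinearMap.comp_ker_subtype, AdicCompletion.map_zero]; rfl
    obtain ⟨x, hx⟩ := ((h m).2.1 _).1 hw
    refine ⟨x, AdicCompletion.map_injective m (LinearMap.ker g).injective_subtype ?_⟩
    rw [AdicCompletion.map_comp_apply, show (LinearMap.ker g).subtype ∘ₗ f' = f from rfl, hx]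
  intro y
  refine ⟨fun hy => ?_, ?_⟩
  · obtain ⟨x, hx⟩ := hf' ⟨y, hy⟩
    exact ⟨x, congrArg Subtype.val hx⟩
  · rintro ⟨x, rfl⟩
    exact LinearMap.congr_fun hgf x

end Groth.Agent.S14680
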