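import Groth.Statements.S14681
import Groth.Agent.H52.StabAmple

set_option autoImplicit false
universe u
open CategoryTheory CategoryTheory.Limits MonoidalCategory CartesianMonoidalCategory MonObj GrpObj AlgebraicGeometry
open AbVar

namespace Groth.Agent.S14681

/-- (b) ⇒ (e): let k be an algebraically closed field, A an abelian variety over k (a proper k-group
scheme whose structure morphism is geometrically integral), D an effective Cartier divisor on A
given by its ideal sheaf I, and L an invertible O_A-module with L ⊗ I ≅ O_A (so L = O_A(D)). Suppose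
the set of k-points a of A whose translation x ↦ x·a maps each irreducible component of the support
of D onto itself is finite. Then L is ample. -/
theorem result (k : Type u) [Field k] [IsAlgClosed k]
    (A : Over (Spec (CommRingCat.of k))) [GrpObj A] [IsProper A.hom] [GeometricallyIntegral A.hom]
    (I : A.left.IdealSheafData) (hI : BlowUp.IsEffCartierIdeal I)
    (L : A.left.Modules) (hL : PicF.IsInvertible L) (hLI : ClSub.IsInverseOf L (ClSub.idealMod I))
    (hb : Set.Finite {a : (𝟙_ (Over (Spec (CommRingCat.of k)))) ⟶ A |
      ∀ Z ∈ irreducibleComponents ↥(I.support : Set ↥A.left),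
        (fun x : ↥A.left => (𝟙 A * (toUnit A ≫ a)).left.base x) '' (Subtype.val '' Z) = Subtype.val '' Z}) :
    CohB1.IsAmple L := by
  haveI : IsIntegral A.left := GeometricallyIntegral.isIntegral_of_subsingleton A.hom
  obtain ⟨s, hs⟩ := Groth.Agent.H63.CartierInverse.exists_section I hI L hL hLI
  obtain ⟨U, hU, f, hf, he⟩ := hI (genericPoint A.left)
  haveI : Nonempty U.1 := ⟨⟨_, hU⟩⟩
  obtain ⟨w, hw⟩ : ((A.left.basicOpen f : A.left.Opens) : Set A.left).Nonempty := by
    refine Set.nonempty_iff_ne_empty.mpr fun h => nonZeroDivisors.ne_zero hf ?_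
    exact (basicOpen_eq_bot_iff f).mp (TopologicalSpace.Opens.ext h)
  have hwU : w ∈ U.1 := A.left.basicOpen_le f hw
  have hws : w ∉ I.support := by
    rw [Groth.Agent.Lib.Ideal.Prime.mem_support_iff_le_prime I U hwU, he, Ideal.span_singleton_le_iff_mem,
      ← Groth.Agent.Lib.Ideal.EffCartier.mem_basicOpen_iff_notMem_prime U.2 hwU]
    exact hw
  exact Groth.Agent.H52.StabAmple.isAmple L hL s
    (Groth.Agent.H97.CurvePositivity.ne_zero_of_mem_genLocus hL ((hs w).mpr hws))
    (I.support : Set A.left) hs hb

end Groth.Agent.S14681
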