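import Groth.Statements.S14683
import Groth.Agent.Lib.SekSuwaOrd.AKBasis
import Groth.Agent.Lib.GrpdQuot.Action

set_option autoImplicit false
universe u
open CategoryTheory AlgebraicGeometry MonoidalCategory CartesianMonoidalCategory MonObj GrpObj
open SekSuwa

namespace Groth.Agent.S14683

open CartesianMonoidalCategory

open scoped TensorProduct in
theorem eq_of_eval_pow {R L A B : Type u} [CommRing R] [Field L] [Algebra R L] [CommRing A] [Algebra R A]
    [CommRing B] [Algebra R B] (hinjL : Function.Injective (algebraMap R L)) {n : ℕ} (a : A) (b : B)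
    (bA : Module.Basis (Fin n) R A) (hA : ∀ i, bA i = a ^ (i : ℕ))
    (bB : Module.Basis (Fin n) R B) (hB : ∀ i, bB i = b ^ (i : ℕ))
    (φ : Fin n → (A →ₐ[R] L)) (ψ : Fin n → (B →ₐ[R] L))
    (hφ : Function.Injective fun i => φ i a) (hψ : Function.Injective fun i => ψ i b) {z z' : A ⊗[R] B}
    (h : ∀ i j, Algebra.TensorProduct.lift (φ i) (ψ j) (fun _ _ => Commute.all _ _) z =
      Algebra.TensorProduct.lift (φ i) (ψ j) (fun _ _ => Commute.all _ _) z') : z = z' := by
  refine (bA.tensorProduct bB).repr.injective (Finsupp.ext fun kl => ?_)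
  have hd : ∀ i j, ∑ k : Fin n, (∑ l : Fin n, algebraMap R L ((bA.tensorProduct bB).repr (z - z') (k, l)) *
      ψ j b ^ (l : ℕ)) * φ i a ^ (k : ℕ) = 0 := fun i j => by
    have h1 := h i j
    rw [← sub_eq_zero, ← map_sub, ← (bA.tensorProduct bB).sum_repr (z - z'), map_sum, Fintype.sum_prod_type] at h1
    simp only [map_smul, Module.Basis.tensorProduct_apply, Algebra.TensorProduct.lift_tmul, hA, hB, map_pow] at h1
    refine Eq.trans (Finset.sum_congr rfl fun k _ => ?_) h1
    rw [Finset.sum_mul]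
    exact Finset.sum_congr rfl fun l _ => by rw [Algebra.smul_def]; ring
  have h2 : ∀ j, (fun k : Fin n => ∑ l : Fin n, algebraMap R L ((bA.tensorProduct bB).repr (z - z') (k, l)) *
      ψ j b ^ (l : ℕ)) = 0 := fun j =>
    Matrix.eq_zero_of_forall_index_sum_mul_pow_eq_zero hφ fun i => hd i j
  have h3 : (fun l : Fin n => algebraMap R L ((bA.tensorProduct bB).repr (z - z') (kl.1, l))) = 0 :=
    Matrix.eq_zero_of_forall_index_sum_mul_pow_eq_zero hψ fun j => congrFun (h2 j) kl.1
  have h4 : (bA.tensorProduct bB).repr (z - z') kl = 0 := hinjL ((congrFun h3 kl.2).trans (map_zero _).symm)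
  rw [map_sub, Finsupp.sub_apply, sub_eq_zero] at h4
  exact h4

theorem exists_points {R L : Type u} [CommRing R] [IsDomain R] [Field L] [Algebra R L]
    (hinjL : Function.Injective (algebraMap R L)) {p : ℕ} (hp : 0 < p) {ξ : L} (hξ : IsPrimitiveRoot ξ p)
    {lam : R} (hlam : lam ≠ 0) (h : SekSuwa.DivCond lam p) :
    ∃ φ : Fin p → (SekSuwa.AK R lam p h →ₐ[R] L),
      Function.Injective (fun i => φ i SekSuwa.AK.t) ∧ Function.Surjective φ := by
  have hl : algebraMap R L lam ≠ 0 := fun hh => hlam (hinjL (hh.trans (map_zero _).symm))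
  let x : Fin p → L := fun i => (ξ ^ (i : ℕ) - 1) / algebraMap R L lam
  have hx : ∀ i, 1 + lam • x i = ξ ^ (i : ℕ) := fun i => by
    rw [Algebra.smul_def, mul_div_cancel₀ _ hl, add_sub_cancel]
  have hpow : ∀ i, (1 + lam • x i) ^ p = 1 := fun i => by
    rw [hx, ← pow_mul, mul_comm, pow_mul, hξ.pow_eq_one, one_pow]
  have hP : ∀ i, Polynomial.aeval (x i) (SekSuwa.psiPoly lam p h) = 0 := fun i => by
    have e := SekSuwa.aeval_psiPoly h (x i)
    rw [← Algebra.smul_def lam (x i), hpow, sub_self, map_pow] at e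
    exact (mul_eq_zero.mp e).resolve_left (pow_ne_zero _ hl)
  let φ : Fin p → (SekSuwa.AK R lam p h →ₐ[R] L) := fun i =>
    Ideal.Quotient.liftₐ (SekSuwa.kerIdeal lam p h)
      (SekSuwa.A.lift R lam (x i) ((1 + lam • x i) ^ (p - 1))
        ((pow_succ' _ _).symm.trans ((congrArg ((1 + lam • x i) ^ ·) (Nat.sub_add_cancel hp)).trans (hpow i))))
      (fun z hz => by
        obtain ⟨d, rfl⟩ := Ideal.mem_span_singleton'.mp hz
        rw [map_mul, SekSuwa.kerGen, ← Polynomial.aeval_algHom_apply, SekSuwa.A.lift_t, hP, mul_zero])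
  have hφt : ∀ i, φ i SekSuwa.AK.t = x i := fun i => SekSuwa.A.lift_t _ _
    ((pow_succ' _ _).symm.trans ((congrArg ((1 + lam • x i) ^ ·) (Nat.sub_add_cancel hp)).trans (hpow i)))
  refine ⟨φ, fun i j hij => ?_, fun f => ?_⟩
  · simp only [hφt] at hij
    have e := congrArg (fun y => 1 + lam • y) hij
    simp only [hx] at e
    exact Fin.ext (hξ.pow_inj i.isLt j.isLt e)
  · have h1 : (1 + lam • f SekSuwa.AK.t) ^ p = 1 := by
      rw [← map_smul, ← map_one f, ← map_add, ← map_pow, SekSuwa.AK.u_pow]
    have : NeZero p := ⟨hp.ne'⟩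
    obtain ⟨i, hi, hi'⟩ := hξ.eq_pow_of_pow_eq_one h1
    refine ⟨⟨i, hi⟩, ?_⟩
    have ht : φ ⟨i, hi⟩ SekSuwa.AK.t = f SekSuwa.AK.t := by
      refine mul_left_cancel₀ hl ?_
      rw [hφt, ← Algebra.smul_def, ← Algebra.smul_def]
      exact add_left_cancel ((hx ⟨i, hi⟩).trans hi')
    refine SekSuwa.AK.algHom_ext ht ?_
    simp only [Lib.SekSuwaOrd.inv_eq h hp, map_pow, map_add, map_one, map_smul, ht]


open scoped TensorProduct in
theorem sub_eq_snd (R L : Type u) [CommRing R] [Field L] [Algebra R L] (hinjL : Function.Injective (algebraMap R L))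
    {n : ℕ} {B A : Type u} [CommRing B] [HopfAlgebra R B] [CommRing A] [HopfAlgebra R A] (b : B) (c : A)
    (act : (Spec (CommRingCat.of B)).asOver (Spec (CommRingCat.of R)) ⊗ (Spec (CommRingCat.of A)).asOver (Spec (CommRingCat.of R)) ⟶
      (Spec (CommRingCat.of A)).asOver (Spec (CommRingCat.of R)))
    (bB : Module.Basis (Fin n) R B) (hB : ∀ i, bB i = b ^ (i : ℕ))
    (bA : Module.Basis (Fin n) R A) (hA : ∀ i, bA i = c ^ (i : ℕ))
    (χ : Fin n → (B →ₐ[R] L)) (φ : Fin n → (A →ₐ[R] L))
    (hχ : Function.Injective fun i => χ i b) (hφ : Function.Injective fun i => φ i c)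
    (hfix : ∀ i k, lift (Spec.mapMulEquiv (WithConv.toConv (χ i))) (Spec.mapMulEquiv (WithConv.toConv (φ k))) ≫ act =
      Spec.mapMulEquiv (WithConv.toConv (φ k)))
    (hext : ∀ f g : A →ₐ[R] B ⊗[R] A, f c = g c → f = g) : act = snd _ _ := by
  let S := Spec (CommRingCat.of R)
  let inl : B →ₐ[R] B ⊗[R] A := Algebra.TensorProduct.includeLeft
  let inr : A →ₐ[R] B ⊗[R] A := Algebra.TensorProduct.includeRight
  let j : (Spec (CommRingCat.of (B ⊗[R] A))).asOver S ⟶
      (Spec (CommRingCat.of B)).asOver S ⊗ (Spec (CommRingCat.of A)).asOver S :=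
    lift (Spec.mapMulEquiv (WithConv.toConv inl)) (Spec.mapMulEquiv (WithConv.toConv inr))
  have hl : j ≫ fst _ _ = Spec.mapMulEquiv (WithConv.toConv inl) := lift_fst _ _
  have hr : j ≫ snd _ _ = Spec.mapMulEquiv (WithConv.toConv inr) := lift_snd _ _
  have : IsIso j := by
    have : IsIso j.left := by
      have e : j.left = (pullbackSpecIso R B A).inv := by
        apply Limits.pullback.hom_ext
        · exact (congrArg CommaMorphism.left hl).trans (pullbackSpecIso_inv_fst R B A).symm
        · exact (congrArg CommaMorphism.left hr).trans (pullbackSpecIso_inv_snd R B A).symm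
      rw [e]
      exact (pullbackSpecIso R B A).isIso_inv
    have : IsIso ((Over.forget S).map j) := this
    exact isIso_of_reflects_iso j (Over.forget S)
  rw [← cancel_epi j, hr]
  obtain ⟨⟨F⟩, hF⟩ := (Spec.mapMulEquiv (R := R) (S := A) (T := B ⊗[R] A)).surjective (j ≫ act)
  have hcomp : ∀ {X Y : Type u} [CommRing X] [CommRing Y] [Algebra R X] [Algebra R Y] {Z : Type u} [CommRing Z]
      [Bialgebra R Z] (f : X →ₐ[R] Y) (g : Z →ₐ[R] X),
      (Spec.map (CommRingCat.ofHom f.toRingHom)).asOver S ≫ Spec.mapMulEquiv (WithConv.toConv g) =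
        Spec.mapMulEquiv (WithConv.toConv (f.comp g)) := fun f g => by
    refine Over.OverMorphism.ext ?_
    show Spec.map _ ≫ Spec.map _ = Spec.map _
    rw [← Spec.map_comp]
    rfl
  have key : ∀ i k, Algebra.TensorProduct.lift (χ i) (φ k) (fun _ _ => Commute.all _ _) (F c) = φ k c := by
    intro i k
    let E := Algebra.TensorProduct.lift (χ i) (φ k) (fun _ _ => Commute.all _ _)
    have e1 : E.comp inl = χ i := AlgHom.ext fun z => by simp [E, inl]
    have e2 : E.comp inr = φ k := AlgHom.ext fun z => by simp [E, inr]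
    have h1 : (Spec.map (CommRingCat.ofHom E.toRingHom)).asOver S ≫ Spec.mapMulEquiv (WithConv.toConv F) =
        Spec.mapMulEquiv (WithConv.toConv (φ k)) := by
      rw [hF, comp_lift_assoc, hcomp, hcomp, e1, e2]
      exact hfix i k
    rw [hcomp] at h1
    exact DFunLike.congr_fun (congrArg WithConv.ofConv (Spec.mapMulEquiv.injective h1)) c
  have ht : F c = inr c := eq_of_eval_pow hinjL _ _ bB hB bA hA χ φ hχ hφ fun i k => by rw [key]; simp [inr]
  rw [← hF, hext F inr ht]

/-- Let R be a discrete valuation ring of characteristic zero and residue characteristic p, and let λ, μ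
∈ R satisfy the divisibility condition under which the finite R-group schemes G_{λ,1} and G_{μ,1}
(the kernels of the isogenies ψ of the one-parameter groups with law s + t + λst, resp. μ) are
defined. Then every action of G_{μ,1} on G_{λ,1} by group automorphisms is trivial: for every
R-scheme T and all T-valued points g of G_{μ,1} and x of G_{λ,1}, g · x = x. An action by group
automorphisms is an action of the group scheme G_{μ,1} on the scheme G_{λ,1} whose action map is
multiplicative in the second variable on points. (The published statement is made under standing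
assumptions that R contains a primitive p²-th root of unity and that λ, μ have positive valuation;
this row drops both, which the argument does not use.) -/
theorem result (R : Type u) [CommRing R] [IsDomain R] [IsDiscreteValuationRing R] [CharZero R]
    (p : ℕ) [Fact p.Prime] [CharP (IsLocalRing.ResidueField R) p]
    (lam mu : R) (h₁ : SekSuwa.DivCond lam p) (h₂ : SekSuwa.DivCond mu p)
    (a : AlgGrp.Action (SekSuwa.GK R mu p h₂) (SekSuwa.GK R lam p h₁))
    (hmul : ∀ (T : Over (Spec (CommRingCat.of R))) (g : T ⟶ SekSuwa.GK R mu p h₂)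
      (x y : T ⟶ SekSuwa.GK R lam p h₁), lift g (x * y) ≫ a.act = (lift g x ≫ a.act) * (lift g y ≫ a.act))
    (T : Over (Spec (CommRingCat.of R))) (g : T ⟶ SekSuwa.GK R mu p h₂) (x : T ⟶ SekSuwa.GK R lam p h₁) :
    lift g x ≫ a.act = x := by
  classical
  have key : a.act = snd (SekSuwa.GK R mu p h₂) (SekSuwa.GK R lam p h₁) → lift g x ≫ a.act = x :=
    fun hact => (congrArg (fun k => lift g x ≫ k) hact).trans (lift_snd g x)
  apply key
  have hp := (Fact.out : p.Prime)
  let L := AlgebraicClosure (FractionRing R)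
  have hinjL : Function.Injective (algebraMap R L) := by
    rw [IsScalarTower.algebraMap_eq R (FractionRing R) L]
    exact (algebraMap (FractionRing R) L).injective.comp (IsFractionRing.injective R (FractionRing R))
  have : CharZero L := charZero_of_injective_algebraMap hinjL
  obtain ⟨ξ, hξ⟩ := HasEnoughRootsOfUnity.exists_primitiveRoot L p
  have hlam : lam ≠ 0 := nonZeroDivisors.ne_zero h₁.nzd
  have hmu : mu ≠ 0 := nonZeroDivisors.ne_zero h₂.nzd
  obtain ⟨φ, hφi, hφs⟩ := exists_points hinjL hp.pos hξ hlam h₁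
  obtain ⟨χ, hχi, hχs⟩ := exists_points hinjL hp.pos hξ hmu h₂
  let S := Spec (CommRingCat.of R)
  let TL : Over S := (Spec (CommRingCat.of L)).asOver S
  let Gl := SekSuwa.GK R lam p h₁
  let Gm := SekSuwa.GK R mu p h₂
  have hcl : Nat.card (TL ⟶ Gl) = p := by
    rw [← Nat.card_congr ((Equiv.ofBijective φ ⟨fun i j e => hφi (by simp only [e]), hφs⟩).trans
      ((WithConv.equiv _).symm.trans (Spec.mapMulEquiv (R := R) (S := SekSuwa.AK R lam p h₁) (T := L)).toEquiv))]
    simp
  have hcm : Nat.card (TL ⟶ Gm) = p := by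
    rw [← Nat.card_congr ((Equiv.ofBijective χ ⟨fun i j e => hχi (by simp only [e]), hχs⟩).trans
      ((WithConv.equiv _).symm.trans (Spec.mapMulEquiv (R := R) (S := SekSuwa.AK R mu p h₂) (T := L)).toEquiv))]
    simp
  have : Finite (TL ⟶ Gl) := Nat.finite_of_card_ne_zero (by rw [hcl]; exact hp.ne_zero)
  have : IsCyclic (TL ⟶ Gl) := isCyclic_of_prime_card hcl
  let ρ : (TL ⟶ Gm) →* MulAut (TL ⟶ Gl) :=
    { toFun := fun g =>
        { toFun := fun y => lift g y ≫ a.act
          invFun := fun y => lift g⁻¹ y ≫ a.act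
          left_inv := fun y => by
            show lift g⁻¹ (lift g y ≫ a.act) ≫ a.act = y
            rw [← Lib.GrpdQuot.mul_act', inv_mul_cancel, Lib.GrpdQuot.one_act']
          right_inv := fun y => by
            show lift g (lift g⁻¹ y ≫ a.act) ≫ a.act = y
            rw [← Lib.GrpdQuot.mul_act', mul_inv_cancel, Lib.GrpdQuot.one_act']
          map_mul' := fun y z => hmul TL g y z }
      map_one' := MulEquiv.ext fun y => Lib.GrpdQuot.one_act' a y
      map_mul' := fun g g' => MulEquiv.ext fun y => Lib.GrpdQuot.mul_act' a g g' y }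
  have hρ : ∀ g, ρ g = 1 := fun g => by
    have h1 : orderOf (ρ g) ∣ p := (orderOf_map_dvd ρ g).trans ((orderOf_dvd_natCard g).trans (dvd_of_eq hcm))
    have h2 : orderOf (ρ g) ∣ p - 1 := by
      have := orderOf_dvd_natCard (ρ g)
      rwa [IsCyclic.card_mulAut, hcl, Nat.totient_prime hp] at this
    have h3 : orderOf (ρ g) ∣ 1 := by
      have := Nat.dvd_gcd h1 h2
      rwa [(Nat.coprime_self_sub_right hp.one_le).mpr (Nat.coprime_one_right p)] at this
    exact orderOf_eq_one_iff.mp (Nat.dvd_one.mp h3)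
  exact sub_eq_snd R L hinjL _ _ a.act (Lib.SekSuwaOrd.basisPow h₂ hp.pos) (Lib.SekSuwaOrd.basisPow_apply h₂ hp.pos)
      (Lib.SekSuwaOrd.basisPow h₁ hp.pos) (Lib.SekSuwaOrd.basisPow_apply h₁ hp.pos) χ φ hχi hφi
      (fun i k => congrArg (fun e : MulAut (TL ⟶ Gl) => e (Spec.mapMulEquiv (WithConv.toConv (φ k))))
        (hρ (Spec.mapMulEquiv (WithConv.toConv (χ i))))) (fun f g ht => SekSuwa.AK.algHom_ext ht (by
          simp only [Lib.SekSuwaOrd.inv_eq h₁ hp.pos, map_pow, map_add, map_one, map_smul, ht]))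

end Groth.Agent.S14683
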