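import Groth.Statements.S14685
import Groth.Agent.Lib.SekSuwaOrd.Points
import Groth.Agent.Lib.SekSuwaOrd.Core
import Groth.Agent.H1.Hopf

set_option autoImplicit false
universe u
open CategoryTheory AlgebraicGeometry
open SekSuwa

namespace Groth.Agent.S14685

/-- Let R be a discrete valuation ring of characteristic zero and residue characteristic p containing a
primitive p-th root of unity, with fraction field K, and let G be a finite flat R-group scheme whose
generic fibre is isomorphic, as a K-group scheme, to the constant group ℤ/pℤ. Then G is isomorphic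
as an R-group scheme to G_{λ,1} = Spec R[T]/(((1 + λT)^p − 1)/λ^p) (the kernel of the isogeny ψ on
the one-parameter group with law s + t + λst) for some nonzero λ ∈ R for which that polynomial has
coefficients in R. -/
theorem result (R : Type u) [CommRing R] [IsDomain R] [IsDiscreteValuationRing R] [CharZero R]
    (p : ℕ) [Fact p.Prime] [CharP (IsLocalRing.ResidueField R) p]
    (ζ : R) (hζ : IsPrimitiveRoot ζ p)
    (G : Over (Spec (CommRingCat.of R))) [GrpObj G] [IsFinite G.hom] [Flat G.hom]
    (e : Red.bc (Spec.map (CommRingCat.ofHom (algebraMap R (FractionRing R)))) G ≅ TwC.const (Spec (CommRingCat.of (FractionRing R))) (Multiplicative (ZMod p)))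
    (he : TwC.IsConstGrp (Multiplicative (ZMod p)) (Red.bc (Spec.map (CommRingCat.ofHom (algebraMap R (FractionRing R)))) G) e) :
    ∃ (lam : R) (h : SekSuwa.DivCond lam p), lam ≠ 0 ∧ Nonempty (Grp.mk G ≅ Grp.mk (SekSuwa.GK R lam p h)) := by
  classical
  have : IsAffine G.left := isAffine_of_isAffineHom G.hom
  obtain ⟨A, _, _, ψ, hψ⟩ := Groth.Agent.H1.Hopf.exists_iso G
  have hw : G.hom = ψ.hom.left ≫ Spec.map (CommRingCat.ofHom (algebraMap R A)) := (Over.w ψ.hom).symm
  have hs : Spec.map (CommRingCat.ofHom (algebraMap R A)) = ψ.inv.left ≫ G.hom := (Over.w ψ.inv).symm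
  have : IsIso ψ.inv.left := ((Over.forget _).mapIso ψ.symm).isIso_hom
  have hfin : IsFinite (Spec.map (CommRingCat.ofHom (algebraMap R A))) := by
    rw [hs]; exact (MorphismProperty.cancel_left_of_respectsIso (P := @IsFinite) ψ.inv.left G.hom).mpr inferInstance
  have hflat : Flat (Spec.map (CommRingCat.ofHom (algebraMap R A))) := by
    rw [hs]; exact (MorphismProperty.cancel_left_of_respectsIso (P := @Flat) ψ.inv.left G.hom).mpr inferInstance
  have : Module.Finite R A := RingHom.finite_algebraMap.mp ((IsFinite.SpecMap_iff _).mp hfin)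
  have : Module.Flat R A := RingHom.flat_algebraMap_iff.mp
    ((HasRingHomProperty.Spec_iff (P := @Flat)).mp hflat)
  have : Module.Free R A := Module.free_of_flat_of_isLocalRing
  have hrank : Module.finrank R A = p :=
    (Lib.SekSuwaOrd.finrank_eq ψ e).trans (by simp)
  obtain ⟨lam, h, hlam, ⟨F⟩⟩ := Lib.SekSuwaOrd.exists_bialgEquiv ζ hζ (Lib.SekSuwaOrd.pts ψ e)
    (Lib.SekSuwaOrd.pts_mul ψ e he) (Lib.SekSuwaOrd.pts_one ψ e he)
    (Lib.SekSuwaOrd.injective_ev ψ e) (fun f => by
      obtain ⟨r, hr, a, ha⟩ := Lib.SekSuwaOrd.exists_smul_mem ψ e f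
      exact ⟨r, hr, a, ha⟩) hrank
  refine ⟨lam, h, hlam, ⟨?_⟩⟩
  let i : (Spec (CommRingCat.of A)).asOver (Spec (CommRingCat.of R)) ≅ SekSuwa.GK R lam p h :=
    { hom := SekSuwa.specHom F.toBialgHom
      inv := SekSuwa.specHom F.symm.toBialgHom
      hom_inv_id := by
        refine Over.OverMorphism.ext ?_
        show Spec.map _ ≫ Spec.map _ = 𝟙 (Spec _)
        rw [← Spec.map_comp]
        refine (congrArg Spec.map (CommRingCat.hom_ext (RingHom.ext fun x => ?_))).trans (Spec.map_id _)
        exact F.apply_symm_apply x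
      inv_hom_id := by
        refine Over.OverMorphism.ext ?_
        show Spec.map _ ≫ Spec.map _ = 𝟙 (Spec _)
        rw [← Spec.map_comp]
        refine (congrArg Spec.map (CommRingCat.hom_ext (RingHom.ext fun x => ?_))).trans (Spec.map_id _)
        exact F.symm_apply_apply x }
  have : IsMonHom (ψ ≪≫ i).hom := by
    have := hψ
    have : IsMonHom i.hom := SekSuwa.isMonHom_specHom _
    show IsMonHom (ψ.hom ≫ i.hom)
    infer_instance
  exact Grp.mkIso' (G := G) (H := SekSuwa.GK R lam p h) (ψ ≪≫ i)

end Groth.Agent.S14685
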