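import Groth.Statements.S14686
import Groth.Agent.Lib.SekSuwaOrd.Points
import Groth.Agent.Lib.SekSuwaOrd.Restrict
import Groth.Agent.Lib.SekSuwaOrd.ExactSeq
import Groth.Agent.H1.Hopf

set_option autoImplicit false
universe u
open CategoryTheory AlgebraicGeometry
open SekSuwa

namespace Groth.Agent.S14686

open scoped TensorProduct in
theorem isCocomm_of_points {R K A : Type u} [CommRing R] [IsDomain R] [Field K] [Algebra R K] [IsFractionRing R K]
    [CommRing A] [Bialgebra R A] [Module.Finite R A] [Module.Free R A] {M : Type} [Group M]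
    (hc : ∀ a b : M, a * b = b * a) (φ : M → WithConv (A →ₐ[R] K)) (hmul : ∀ m n, φ (m * n) = φ m * φ n)
    (hinj : Function.Injective fun a m => (φ m).ofConv a) : Coalgebra.IsCocomm R A := by
  constructor
  refine LinearMap.ext fun a => ?_
  refine Lib.SekSuwaOrd.eq_of_forall_eval (fun m => (φ m).ofConv) (fun m => (φ m).ofConv) hinj hinj fun m n => ?_
  have h1 : ∀ x y, (φ (x * y)).ofConv a = Algebra.TensorProduct.lift (φ x).ofConv (φ y).ofConv
      (fun _ _ => Commute.all _ _) (CoalgebraStruct.comul (R := R) a) := fun x y => by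
    rw [hmul]; exact AlgHom.convMul_apply _ _ _
  rw [← h1, hc, h1]
  show Algebra.TensorProduct.lift _ _ _ ((Algebra.TensorProduct.comm R A A).toAlgHom (CoalgebraStruct.comul (R := R) a)) = _
  rw [← AlgHom.comp_apply]
  congr 1
  exact Algebra.TensorProduct.ext' fun x y => by simp [mul_comm]

theorem isExactSeq_of_iso {S : Scheme.{u}} {G' G₀ G G'' : Over S} [GrpObj G'] [GrpObj G₀] [GrpObj G] [GrpObj G'']
    {K : Precoverage Scheme.{u}} (ψ : G ≅ G₀) [IsMonHom ψ.hom] [IsMonHom ψ.inv] {u₀ : G' ⟶ G₀} {v₀ : G₀ ⟶ G''}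
    (h : NonAbH1.IsExactSeq K u₀ v₀) : NonAbH1.IsExactSeq K (u₀ ≫ ψ.inv) (ψ.hom ≫ v₀) := by
  obtain ⟨h1, h2, h3, h4, R, hR, hsec⟩ := h
  have := h1; have := h2
  refine ⟨inferInstance, inferInstance, by simp [h3], ?_, R, hR, fun S' f hf => ?_⟩
  · refine IsPullback.of_iso h4 (MonoidalCategory.tensorIso ψ.symm (Iso.refl G')) ψ.symm ψ.symm (Iso.refl _) ?_ ?_ (by simp) (by simp)
    · simp
    · simp only [MonoidalCategory.tensorIso_hom, Iso.refl_hom, Iso.symm_hom, Category.assoc,
        MonoidalCategory.whiskerLeft_comp, IsMonHom.mul_hom, MonoidalCategory.tensorHom_def,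
        MonoidalCategory.id_whiskerRight, Category.id_comp, MonoidalCategory.whiskerLeft_id]
      rw [MonoidalCategory.whisker_exchange_assoc]
  · obtain ⟨s, hs⟩ := hsec f hf
    refine ⟨s ≫ ψ.inv.left, ?_⟩
    show (s ≫ ψ.inv.left) ≫ ψ.hom.left ≫ v₀.left = f
    rw [Category.assoc, ← Over.comp_left_assoc, ψ.inv_hom_id, Over.id_left, Category.id_comp]
    exact hs


/-- Let R be a discrete valuation ring of characteristic zero and residue characteristic p containing a
primitive p²-th root of unity, with fraction field K, and let G be a finite flat R-group scheme of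
order p² (finite locally free of degree p² over Spec R) whose generic fibre is a constant K-group
scheme (so the underlying group has order p²). Then G is an extension of G_{μ,1} by G_{λ,1} for some
nonzero λ, μ ∈ R satisfying the divisibility condition defining these kernels: there are
homomorphisms of R-group schemes G_{λ,1} → G and G → G_{μ,1} whose composite is trivial, with G a
pseudo-torsor under G_{λ,1} over G_{μ,1} and G → G_{μ,1} admitting sections locally for the fppf
topology. -/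
theorem result (R : Type u) [CommRing R] [IsDomain R] [IsDiscreteValuationRing R] [CharZero R]
    (p : ℕ) [Fact p.Prime] [CharP (IsLocalRing.ResidueField R) p]
    (ζ : R) (hζ : IsPrimitiveRoot ζ (p ^ 2))
    (G : Over (Spec (CommRingCat.of R))) [GrpObj G] (hG : Mor2.IsFinLocFreeOfDeg (p ^ 2) G.hom)
    (M : Type) [Group M] [Finite M]
    (e : Red.bc (Spec.map (CommRingCat.ofHom (algebraMap R (FractionRing R)))) G ≅ TwC.const (Spec (CommRingCat.of (FractionRing R))) M)
    (he : TwC.IsConstGrp M (Red.bc (Spec.map (CommRingCat.ofHom (algebraMap R (FractionRing R)))) G) e) :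
    ∃ (lam mu : R) (h₁ : SekSuwa.DivCond lam p) (h₂ : SekSuwa.DivCond mu p)
      (u : SekSuwa.GK R lam p h₁ ⟶ G) (v : G ⟶ SekSuwa.GK R mu p h₂),
      lam ≠ 0 ∧ mu ≠ 0 ∧ NonAbH1.IsExactSeq Scheme.fppfPrecoverage u v := by
  classical
  obtain ⟨⟨hfin, hflat, hlfp⟩, hdeg⟩ := hG
  have : IsFinite G.hom := hfin
  have : Flat G.hom := hflat
  have : IsAffine G.left := isAffine_of_isAffineHom G.hom
  obtain ⟨A, _, _, ψ, hψ⟩ := Groth.Agent.H1.Hopf.exists_iso G
  have hs : Spec.map (CommRingCat.ofHom (algebraMap R A)) = ψ.inv.left ≫ G.hom := (Over.w ψ.inv).symm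
  have : IsIso ψ.inv.left := ((Over.forget _).mapIso ψ.symm).isIso_hom
  have hfin : IsFinite (Spec.map (CommRingCat.ofHom (algebraMap R A))) := by
    rw [hs]; exact (MorphismProperty.cancel_left_of_respectsIso (P := @IsFinite) ψ.inv.left G.hom).mpr inferInstance
  have hflat : Flat (Spec.map (CommRingCat.ofHom (algebraMap R A))) := by
    rw [hs]; exact (MorphismProperty.cancel_left_of_respectsIso (P := @Flat) ψ.inv.left G.hom).mpr inferInstance
  have : Module.Finite R A := RingHom.finite_algebraMap.mp ((IsFinite.SpecMap_iff _).mp hfin)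
  have : Module.Flat R A := RingHom.flat_algebraMap_iff.mp
    ((HasRingHomProperty.Spec_iff (P := @Flat)).mp hflat)
  have : Module.Free R A := Module.free_of_flat_of_isLocalRing
  have hp := (Fact.out : p.Prime)
  have hcard : Nat.card M = p ^ 2 := by
    let y : PrimeSpectrum R := ⟨⊥, Ideal.isPrime_bot⟩
    rw [← Lib.SekSuwaOrd.finrank_eq ψ e, ← hdeg (show Spec (CommRingCat.of R) from y)]
    have h1 : G.hom = ψ.hom.left ≫ Spec.map (CommRingCat.ofHom (algebraMap R A)) := (Over.w ψ.hom).symm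
    have : IsIso (show G.left ⟶ Spec (CommRingCat.of A) from ψ.hom.left) := ((Over.forget _).mapIso ψ).isIso_hom
    rw [h1]
    refine Eq.trans ?_ (congrFun (Scheme.Hom.finrank_comp_left_of_isIso (Y := Spec (CommRingCat.of A))
      (S := Spec (CommRingCat.of R)) (show G.left ⟶ Spec (CommRingCat.of A) from ψ.hom.left) (Spec.map (CommRingCat.ofHom (algebraMap R A)))) _).symm
    refine Eq.trans ?_ (Scheme.Hom.finrank_SpecMap_algebraMap R A y).symm
    rw [Module.rankAtStalk_eq_finrank_of_free]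
    simp
  have := IsPGroup.isMulCommutative_of_card_eq_prime_sq hcard
  obtain ⟨N, hN⟩ := Sylow.exists_subgroup_card_pow_prime (G := M) p (n := 1) (by rw [hcard, pow_one]; exact dvd_pow_self p two_ne_zero)
  rw [pow_one] at hN
  have : N.Normal := ⟨fun n hn g => by
    rwa [this.is_comm.comm g n, mul_assoc, mul_inv_cancel, mul_one]⟩
  have hQ : Nat.card (M ⧸ N) = p := by
    have h1 := N.card_eq_card_quotient_mul_card_subgroup
    rw [hcard, hN, pow_two] at h1
    exact (Nat.eq_of_mul_eq_mul_right hp.pos h1).symm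
  let eQ : M ⧸ N ≃* Multiplicative (ZMod p) := mulEquivOfPrimeCardEq hQ (by simp)
  let eN : N ≃* Multiplicative (ZMod p) := mulEquivOfPrimeCardEq hN (by simp)
  let x : FractionRing R := algebraMap R (FractionRing R) (ζ ^ p)
  have hx : IsPrimitiveRoot x p :=
    (hζ.pow (pow_pos hp.pos 2) (by rw [pow_two])).map_of_injective (IsFractionRing.injective R (FractionRing R))
  let χ₀ : Multiplicative (ZMod p) →* FractionRing R :=
    { toFun := fun m => x ^ m.toAdd.val
      map_one' := by simp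
      map_mul' := fun m n => by
        show x ^ (m.toAdd + n.toAdd).val = _
        rw [ZMod.val_add, ← pow_add]
        conv_rhs => rw [pow_eq_pow_mod _ hx.pow_eq_one] }
  have hχ₀ : Function.Injective χ₀ := fun m n h =>
    Multiplicative.toAdd.injective (ZMod.val_injective p
      (hx.pow_inj (ZMod.val_lt _) (ZMod.val_lt _) h))
  have hχ₀p : ∀ m, χ₀ m ^ p = 1 := fun m => by
    show (x ^ _) ^ p = 1
    rw [← pow_mul, mul_comm, pow_mul, hx.pow_eq_one, one_pow]
  have : Fact (1 < p) := ⟨hp.one_lt⟩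
  have hχ₀1 : χ₀ (Multiplicative.ofAdd 1) ≠ 1 := fun h => by
    have h1 := hχ₀ (h.trans (map_one χ₀).symm)
    exact one_ne_zero (Multiplicative.ofAdd.injective (h1.trans ofAdd_zero.symm))
  let χ : M →* FractionRing R := (χ₀.comp eQ.toMonoidHom).comp (QuotientGroup.mk' N)
  let χN : N →* FractionRing R := χ₀.comp eN.toMonoidHom
  have hker : ∀ m n, χ m = χ n → m⁻¹ * n ∈ N := fun m n h =>
    QuotientGroup.eq.mp (eQ.injective (hχ₀ h))
  let φ := Lib.SekSuwaOrd.pts ψ e
  have hmul := Lib.SekSuwaOrd.pts_mul ψ e he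
  have hone := Lib.SekSuwaOrd.pts_one ψ e he
  have hinj : Function.Injective fun a m => (φ m).ofConv a := Lib.SekSuwaOrd.injective_ev ψ e
  have hsurj : ∀ f : M → FractionRing R, ∃ r : R, r ≠ 0 ∧ ∃ a : A, (fun m => (φ m).ofConv a) = r • f :=
    fun f => Lib.SekSuwaOrd.exists_smul_mem ψ e f
  have : Coalgebra.IsCocomm R A := isCocomm_of_points ‹IsMulCommutative M›.is_comm.comm φ hmul hinj
  obtain ⟨mu, h₂, g, hmu, hgi, hgr, hgt⟩ := Lib.SekSuwaOrd.exists_sub φ hmul hone hinj hsurj χ
    (fun m => hχ₀p _) (by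
      obtain ⟨q, hq⟩ := eQ.surjective (Multiplicative.ofAdd 1)
      obtain ⟨m, rfl⟩ := QuotientGroup.mk'_surjective N q
      exact ⟨m, by show χ₀ (eQ _) ≠ 1; rw [hq]; exact hχ₀1⟩)
  obtain ⟨lam, h₁, π, Ψ, hlam, hπ, hΨ, hΨφ⟩ := Lib.SekSuwaOrd.exists_restrict φ hmul hone hsurj N.subtype
    N.subtype_injective χN (fun n => hχ₀p _) (hχ₀.comp eN.injective)
    ⟨eN.symm (Multiplicative.ofAdd 1), by show χ₀ (eN _) ≠ 1; rw [MulEquiv.apply_symm_apply]; exact hχ₀1⟩
  have hdet : ∀ m n, χ m = χ n → ∀ z, (φ m).ofConv (g z) = (φ n).ofConv (g z) := fun m n h z => by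
    have h' : (φ m).ofConv.comp (g : SekSuwa.AK R mu p h₂ →ₐ[R] A) = (φ n).ofConv.comp (g : SekSuwa.AK R mu p h₂ →ₐ[R] A) := by
      have ht : (φ m).ofConv (g SekSuwa.AK.t) = (φ n).ofConv (g SekSuwa.AK.t) :=
        mul_left_cancel₀ (fun hh => hmu (IsFractionRing.injective R (FractionRing R) (hh.trans (map_zero _).symm)))
          (by rw [hgt, hgt, h])
      refine SekSuwa.AK.algHom_ext ht ?_
      show (φ m).ofConv (g SekSuwa.AK.inv) = (φ n).ofConv (g SekSuwa.AK.inv)
      simp only [Lib.SekSuwaOrd.inv_eq h₂ hp.pos, map_pow, map_add, map_one, map_smul, ht]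
    exact DFunLike.congr_fun h' z
  have hcomp : π.comp g = (Bialgebra.unitBialgHom R (SekSuwa.AK R lam p h₁)).comp
      (Bialgebra.counitBialgHom R (SekSuwa.AK R mu p h₂)) := by
    refine BialgHom.ext fun z => hΨ (funext fun n => ?_)
    show Ψ n (π (g z)) = Ψ n (algebraMap R _ (CoalgebraStruct.counit (R := R) z))
    rw [hΨφ, AlgHom.commutes, ← CoalgHomClass.counit_comp_apply (R := R) g z, ← AlgHom.convOne_apply (A := FractionRing R), ← hone]
    refine hdet _ _ ?_ z
    rw [map_one]
    show χ₀ (eQ (QuotientGroup.mk' N n)) = 1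
    rw [QuotientGroup.mk'_apply, (QuotientGroup.eq_one_iff _).mpr n.2, map_one, map_one]
  have := hψ
  have : IsMonHom ψ.inv := inferInstance
  refine ⟨lam, mu, h₁, h₂, SekSuwa.specHom π ≫ ψ.inv, ψ.hom ≫ SekSuwa.specHom g, hlam, hmu,
    isExactSeq_of_iso ψ ?_⟩
  have : Module.Free R (SekSuwa.AK R lam p h₁) := Module.Free.of_basis (Lib.SekSuwaOrd.basisPow h₁ hp.pos)
  have : Module.Finite R (SekSuwa.AK R lam p h₁) := Module.Finite.of_basis (Lib.SekSuwaOrd.basisPow h₁ hp.pos)
  have : Module.FinitePresentation R (SekSuwa.AK R lam p h₁) := Module.finitePresentation_of_projective R _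
  have : Algebra.FinitePresentation R (SekSuwa.AK R lam p h₁) := Algebra.FinitePresentation.of_finitePresentation R _
  refine Lib.SekSuwaOrd.isExactSeq π hπ g hgi hcomp φ hmul N.subtype Ψ hΨφ fun a ha => hgr a fun m n hmn => ?_
  have h1 := ha m ⟨m⁻¹ * n, hker m n hmn⟩
  rw [← h1]
  congr 2
  rw [Subgroup.subtype_apply, ‹IsMulCommutative M›.is_comm.comm _ m, mul_inv_cancel_left]

end Groth.Agent.S14686
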