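import Groth.Statements.S14688
import Groth.Agent.Lib.SekSuwaTors.Generic
import Groth.Agent.Lib.SekSuwaOrd.AKBasis
import Groth.Agent.Lib.TorsorSch.NormalBase

set_option autoImplicit false
universe u
open CategoryTheory AlgebraicGeometry
open SekSuwa

namespace Groth.Agent.S14688

/-- Let R be a discrete valuation ring of characteristic zero and residue characteristic p, n ≥ 1, λ ∈ R
satisfying the divisibility condition under which the finite flat R-group scheme G_{λ,n} (the kernel
of ψ on the one-parameter group with law s + t + λst, of order p^n) and its homomorphism α^{λ,n} to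
μ_{p^n} are defined, and X a normal integral scheme which is faithfully flat over Spec R. If an fppf
torsor P over X under G_{λ,n} becomes trivial after extension of the structure group along α^{λ,n} —
there is an fppf μ_{p^n}-torsor P' over X with an α^{λ,n}-equivariant X-morphism P → P', and P' has
a section over X — then P has a section over X. So H¹(X, G_{λ,n}) → H¹(X, μ_{p^n}) has trivial
kernel, and the groups H¹(X, G_{π^i,n}) for decreasing i form an increasing filtration of H¹(X,
μ_{p^n}). (The published statement is the filtration itself, for the commutative groups in question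
injectivity of these homomorphisms; the trivial-kernel assertion stated here is what the argument
establishes.) -/
theorem result (R : Type u) [CommRing R] [IsDomain R] [IsDiscreteValuationRing R] [CharZero R]
    (p : ℕ) [Fact p.Prime] [CharP (IsLocalRing.ResidueField R) p]
    (n : ℕ) (hn : 0 < n) (lam : R) (h : SekSuwa.DivCond lam (p ^ n))
    (X : Scheme.{u}) [IsIntegral X] (hX : Pi1.IsNormalScheme X)
    (f : X ⟶ Spec (CommRingCat.of R)) [Flat f] [Surjective f]
    (P : Over X) (a : AlgGrp.Action (Red.bc f (SekSuwa.GK R lam (p ^ n) h)) P)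
    (hP : NonAbH1.IsTorsorFor Scheme.fppfPrecoverage a)
    (P' : Over X) (a' : AlgGrp.Action (Red.bc f (Red.diag R (ZMod (p ^ n)))) P')
    (hP' : NonAbH1.IsTorsorFor Scheme.fppfPrecoverage a')
    (hpush : NonAbH1.IsPushforwardAlongSch ((Over.pullback f).map (SekSuwa.alphaN R lam (p ^ n) h)) a a')
    (htriv : NonAbH1.HasSectionOver P' (𝟙 X)) :
    NonAbH1.HasSectionOver P (𝟙 X) := by
  have : NeZero (p ^ n) := ⟨pow_ne_zero n (Fact.out : p.Prime).ne_zero⟩
  have hlam : lam ≠ 0 := nonZeroDivisors.ne_zero h.nzd
  have hPf := Lib.TorsorSch.Descent.isTorsorFor_mono Scheme.fppfPrecoverage_le_fpqcPrecoverage hP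
  obtain ⟨fp, hfp⟩ := hpush
  obtain ⟨σ, hσ⟩ := htriv
  let bb := Lib.SekSuwaOrd.basisPow h (pow_pos (Fact.out : p.Prime).pos n)
  have hfin : Module.Finite R (SekSuwa.AK R lam (p ^ n) h) := Module.Finite.of_basis bb
  let φ := CommRingCat.ofHom (algebraMap R (SekSuwa.AK R lam (p ^ n) h))
  have : IsFinite (SekSuwa.GK R lam (p ^ n) h).hom :=
    (IsFinite.SpecMap_iff φ).mpr (RingHom.finite_algebraMap.mpr hfin)
  have : IsFinite (Red.bc f (SekSuwa.GK R lam (p ^ n) h)).hom :=
    MorphismProperty.pullback_snd (P := @IsFinite) (SekSuwa.GK R lam (p ^ n) h).hom f inferInstance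
  let T := Lib.TorsorSch.Ext.genOver X
  have := Lib.SekSuwaTors.isIso_alphaN_whiskerRight (hd := h) f T
    (Lib.SekSuwaTors.isUnit_lamΓ_genOver f hlam)
  have := Lib.SekSuwaTors.isIso_whiskerRight_of_push (T := T) _ hPf hP'.1 fp hfp
  let s : T ⟶ P' := Over.homMk (X.fromSpecStalk (genericPoint X) ≫ σ)
    (by rw [Category.assoc, hσ, Category.comp_id]; rfl)
  let z : T ⟶ P := CartesianMonoidalCategory.lift s (𝟙 T) ≫ inv (MonoidalCategoryStruct.whiskerRight fp T) ≫
    SemiCartesianMonoidalCategory.fst P T
  exact Lib.TorsorSch.NormalBase.hasSectionOver_id_of_finite hX hPf ⟨z.left, Over.w z⟩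

end Groth.Agent.S14688
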