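import Groth.Statements.S14690
import Groth.Agent.Lib.SekSuwaTors.Chart
import Groth.Agent.Lib.SekSuwaTors.Generic
import Groth.Agent.Lib.TorsorSch.ExtFinite

set_option autoImplicit false
universe u
open CategoryTheory AlgebraicGeometry MonoidalCategory
open SekSuwa

namespace Groth.Agent.S14690

/-- Let R be a discrete valuation ring of characteristic zero and residue characteristic p with perfect
residue field k, n ≥ 1, λ ∈ R satisfying the divisibility condition under which the finite flat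
R-group scheme G_{λ,n} (of order p^n, the kernel of ψ on the one-parameter group with law s + t +
λst) and its homomorphism α^{λ,n} to μ_{p^n} are defined, and X a locally Noetherian normal integral
scheme, faithfully flat over Spec R, with reduced special fibre X ×_R k. Let P be an fppf torsor
over X under G_{λ,n} and P' an fppf μ_{p^n}-torsor over X with an α^{λ,n}-equivariant X-morphism P →
P'. If P' is equivariantly isomorphic to the pullback to X of some fppf μ_{p^n}-torsor over Spec R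
(pulled-back scheme with the pulled-back action), then P is equivariantly isomorphic to the pullback
to X of some fppf G_{λ,n}-torsor over Spec R. So the map H¹(X, G_{λ,n})/H¹(R, G_{λ,n}) → H¹(X,
μ_{p^n})/H¹(R, μ_{p^n}) has trivial kernel, giving the filtration of H¹(X, μ_{p^n})/H¹(R, μ_{p^n})
by the H¹(X, G_{π^i,n})/H¹(R, G_{π^i,n}). (The published statement is that filtration, for the
commutative groups in question injectivity of these homomorphisms; the trivial-kernel assertion
stated here is what the argument establishes. X is taken locally Noetherian; the published statement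
assumes all schemes Noetherian, and the argument uses the Krull intersection property ⋂ₙ πⁿA = 0 on
affine opens.) -/
theorem result (R : Type u) [CommRing R] [IsDomain R] [IsDiscreteValuationRing R] [CharZero R]
    (p : ℕ) [Fact p.Prime] [CharP (IsLocalRing.ResidueField R) p]
    [PerfectField (IsLocalRing.ResidueField R)]
    (n : ℕ) (hn : 0 < n) (lam : R) (h : SekSuwa.DivCond lam (p ^ n))
    (X : Scheme.{u}) [IsIntegral X] [IsLocallyNoetherian X] (hX : Pi1.IsNormalScheme X)
    (f : X ⟶ Spec (CommRingCat.of R)) [Flat f] [Surjective f]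
    [IsReduced (Limits.pullback f (Spec.map (CommRingCat.ofHom (IsLocalRing.residue R))))]
    (P : Over X) (a : AlgGrp.Action (Red.bc f (SekSuwa.GK R lam (p ^ n) h)) P)
    (hP : NonAbH1.IsTorsorFor Scheme.fppfPrecoverage a)
    (P' : Over X) (a' : AlgGrp.Action (Red.bc f (Red.diag R (ZMod (p ^ n)))) P')
    (hP' : NonAbH1.IsTorsorFor Scheme.fppfPrecoverage a')
    (hpush : NonAbH1.IsPushforwardAlongSch ((Over.pullback f).map (SekSuwa.alphaN R lam (p ^ n) h)) a a')
    (Q' : Over (Spec (CommRingCat.of R))) (b' : AlgGrp.Action (Red.diag R (ZMod (p ^ n))) Q')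
    (hQ' : NonAbH1.IsTorsorFor Scheme.fppfPrecoverage b')
    (i' : P' ≅ Red.bc f Q')
    (hi' : a'.act ≫ i'.hom = (Red.bc f (Red.diag R (ZMod (p ^ n))) ◁ i'.hom) ≫
      Functor.LaxMonoidal.μ (Over.pullback f) (Red.diag R (ZMod (p ^ n))) Q' ≫ (Over.pullback f).map b'.act) :
    ∃ (Q : Over (Spec (CommRingCat.of R))) (b : AlgGrp.Action (SekSuwa.GK R lam (p ^ n) h) Q)
      (i : P ≅ Red.bc f Q), NonAbH1.IsTorsorFor Scheme.fppfPrecoverage b ∧
      a.act ≫ i.hom = (Red.bc f (SekSuwa.GK R lam (p ^ n) h) ◁ i.hom) ≫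
        Functor.LaxMonoidal.μ (Over.pullback f) (SekSuwa.GK R lam (p ^ n) h) Q ≫ (Over.pullback f).map b.act := by
  have : NeZero (p ^ n) := ⟨pow_ne_zero n (Fact.out : p.Prime).ne_zero⟩
  have hlam : lam ≠ 0 := nonZeroDivisors.ne_zero h.nzd
  have hK := Scheme.fppfPrecoverage_le_fpqcPrecoverage
  have hPf := Lib.TorsorSch.Descent.isTorsorFor_mono hK hP
  obtain ⟨rt⟩ := Lib.SekSuwaTors.exists_root b' hQ'
  obtain ⟨fp, hfp⟩ := hpush
  -- the push-forward to the pull-back of `Q'`
  let αX : Red.bc f (SekSuwa.GK R lam (p ^ n) h) ⟶ Red.bc f (Red.diag R (ZMod (p ^ n))) :=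
    (Over.pullback f).map (SekSuwa.alphaN R lam (p ^ n) h)
  let j₀ : P ⟶ Red.bc f Q' := fp ≫ i'.hom
  have hj₀ : a.act ≫ j₀ = CartesianMonoidalCategory.lift (SemiCartesianMonoidalCategory.fst _ _ ≫ αX)
      (SemiCartesianMonoidalCategory.snd _ _ ≫ j₀) ≫ (b'.bc f).act := by
    show a.act ≫ fp ≫ i'.hom = _
    rw [reassoc_of% hfp, hi', CartesianMonoidalCategory.lift_whiskerLeft_assoc, Category.assoc]
    rfl
  -- the root modulo a power of the parameter
  obtain ⟨ϖ, hϖ⟩ := IsDiscreteValuationRing.exists_irreducible R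
  obtain ⟨U, hU, hchart⟩ := Lib.SekSuwaTors.exists_chart hϖ f
  have : IsAffine (U : Scheme.{u}) := hU
  letI : Algebra R Γ((U : Scheme.{u}), ⊤) := (Lib.PHS.SekG.str (A := Γ((U : Scheme.{u}), ⊤)) f
    ((U : Scheme.{u}).isoSpec.inv ≫ U.ι)).toAlgebra
  obtain ⟨hflat, hA, hred⟩ := hchart
  have : Module.Flat R Γ((U : Scheme.{u}), ⊤) := hflat
  obtain ⟨v, hv⟩ := Lib.SekSuwaTors.exists_mod_root rt f a hPf j₀ hj₀ U hU
  obtain ⟨c, w, hc, hu⟩ := Lib.SekSuwaTors.Alg.exists_root_mod p n lam hlam
    (Lib.SekSuwaTors.Alg.dvd_choose_mul h) hϖ hA hred rt.u rt.isUnit_u v hv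
  have hw : IsUnit (1 + lam ^ (p ^ n) * w) := isUnit_of_mul_isUnit_right (hu ▸ rt.isUnit_u)
  obtain ⟨β, -, hβ⟩ := Lib.SekSuwaTors.exists_push rt hu
  let q := Lib.SekSuwaTors.qact h w
  have hq : NonAbH1.IsTorsorFor Scheme.fppfPrecoverage q := Lib.SekSuwaTors.isTorsorFor_qact hw
  have hqX : NonAbH1.IsTorsorFor Scheme.fpqcPrecoverage (q.bc f) :=
    NonAbH1.isTorsorFor_bc f _ (Lib.TorsorSch.Descent.isTorsorFor_mono hK hq)
  -- finiteness of the group
  let bb := Lib.SekSuwaOrd.basisPow h (pow_pos (Fact.out : p.Prime).pos n)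
  have hfree : Module.Free R (SekSuwa.AK R lam (p ^ n) h) := Module.Free.of_basis bb
  have hfin : Module.Finite R (SekSuwa.AK R lam (p ^ n) h) := Module.Finite.of_basis bb
  let φ := CommRingCat.ofHom (algebraMap R (SekSuwa.AK R lam (p ^ n) h))
  have : IsFinite (SekSuwa.GK R lam (p ^ n) h).hom :=
    (IsFinite.SpecMap_iff φ).mpr (RingHom.finite_algebraMap.mpr hfin)
  have : Flat (SekSuwa.GK R lam (p ^ n) h).hom :=
    (HasRingHomProperty.Spec_iff (P := @Flat) (φ := φ)).mpr
      (RingHom.flat_algebraMap_iff.mpr inferInstance)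
  have : IsFinite (Red.bc f (SekSuwa.GK R lam (p ^ n) h)).hom :=
    MorphismProperty.pullback_snd (P := @IsFinite) (SekSuwa.GK R lam (p ^ n) h).hom f inferInstance
  have : Flat (Red.bc f (SekSuwa.GK R lam (p ^ n) h)).hom :=
    MorphismProperty.pullback_snd (P := @Flat) (SekSuwa.GK R lam (p ^ n) h).hom f inferInstance
  have := Lib.SekSuwaTors.isIso_alphaN_whiskerRight (hd := h) f (Lib.TorsorSch.Ext.genOver X)
    (Lib.SekSuwaTors.isUnit_lamΓ_genOver f hlam)
  obtain ⟨k, hk⟩ := Lib.SekSuwaTors.exists_equivariantOver (a := a) (T := Lib.TorsorSch.Ext.genOver X) αX hqX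
    (NonAbH1.isPseudoTorsorSch_bc f hQ'.1) j₀ hj₀ ((Over.pullback f).map β) (Lib.SekSuwaTors.bc_push hβ)
  obtain ⟨e⟩ := Lib.TorsorSch.ExtFinite.nonempty_equivIso hX hPf hqX hk
  exact ⟨_, q, e.iso, hq, e.comm⟩

end Groth.Agent.S14690
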