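import Groth.Statements.S14691
import Groth.Agent.S7782

set_option autoImplicit false
universe u
open CategoryTheory AlgebraicGeometry
open SekSuwa

namespace Groth.Agent.S14691

open MonObj MonoidalCategory CartesianMonoidalCategory in
/-- The sheaf of points of a commutative finite locally free group scheme of degree `m` is killed by `m`. -/
theorem nsmul_id_pts {S : Scheme.{u}} (K : Precoverage Scheme.{u}) [(QuotSh.J K S).Subcanonical]
    (G : Over S) [GrpObj G] [IsCommMonObj G] (m : ℕ) (hG : Mor2.IsFinLocFreeOfDeg m G.hom) :
    m • 𝟙 (CGrpSh.pts K G) = 0 := by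
  obtain ⟨⟨hfin, hflat, hlfp⟩, hr⟩ := hG
  refine Sheaf.hom_ext (NatTrans.ext (funext fun T => AddCommGrpCat.ext fun x => ?_))
  have key : ∀ k : ℕ, ConcreteCategory.hom ((k • 𝟙 (CGrpSh.pts K G)).hom.app T) x = k • x := by
    intro k
    induction k with
    | zero => rw [zero_nsmul, zero_nsmul]; rfl
    | succ k ih => rw [succ_nsmul, succ_nsmul, ← ih]; rfl
  have h : m • x = 0 := by
    apply (CGrpSh.sectEquiv K G (Opposite.unop T)).injective
    exact ((map_nsmul (CGrpSh.sectEquiv K G (Opposite.unop T)) m x).trans
      (congrArg Additive.ofMul (Groth.Agent.S7782.result G m hr (Opposite.unop T) x.down.toMul))).trans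
        (map_zero (CGrpSh.sectEquiv K G (Opposite.unop T))).symm
  exact (key m).trans h

/-- Let R be a discrete valuation ring of characteristic zero and residue characteristic p, and G a
commutative finite flat R-group scheme of order m (finite locally free of degree m over Spec R).
Then the endomorphism of Ext¹(G, 𝔾_m) induced by the m-th power map of the multiplicative group —
that is, multiplication by m on this group — is zero. Here Ext¹ is taken between the abelian sheaves
of points of G and of the split multiplicative group on the big fppf site of Spec R. (The published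
statement is made under a standing assumption that R contains a primitive p²-th root of unity; this
row does not assume it, the argument not using it.) -/
theorem result (R : Type u) [CommRing R] [IsDomain R] [IsDiscreteValuationRing R] [CharZero R]
    (p : ℕ) [Fact p.Prime] [CharP (IsLocalRing.ResidueField R) p]
    (G : Over (Spec (CommRingCat.of R))) [GrpObj G] [IsCommMonObj G]
    (m : ℕ) (hG : Mor2.IsFinLocFreeOfDeg m G.hom)
    (x : CGrpSh.ExtS Scheme.fppfPrecoverage G (Red.diag R ℤ) 1) : m • x = 0 := by
  have h0 := nsmul_id_pts Scheme.fppfPrecoverage G m hG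
  let f : (CGrpSh.pts Scheme.fppfPrecoverage G ⟶ CGrpSh.pts Scheme.fppfPrecoverage G) →+
      CGrpSh.ExtS Scheme.fppfPrecoverage G (Red.diag R ℤ) 1 :=
    AddMonoidHom.mk' (fun φ => (Abelian.Ext.mk₀ φ).comp x (zero_add 1)) fun φ ψ => by
      rw [Abelian.Ext.mk₀_add, Abelian.Ext.add_comp]
  have h1 := map_nsmul f m (𝟙 _)
  rw [h0, map_zero] at h1
  simpa [f] using h1.symm

end Groth.Agent.S14691
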