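import Groth.Statements.S14693
-- import your own Groth.Agent.* helpers here

set_option autoImplicit false
universe u
open CategoryTheory AlgebraicGeometry
open SekSuwa

namespace Groth.Agent.S14693

open CartesianMonoidalCategory MonoidalCategory MonObj

theorem isPushout_kernel (R : Type u) [CommRing R] (lam : R) (N : ℕ) (h : SekSuwa.DivCond lam N) :
    IsPushout (CommRingCat.ofHom (SekSuwa.psiHom R lam N h : SekSuwa.A R (lam ^ N) →+* SekSuwa.A R lam))
      (CommRingCat.ofHom (Bialgebra.counitAlgHom R (SekSuwa.A R (lam ^ N))).toRingHom)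
      (CommRingCat.ofHom (SekSuwa.AK.mkHom R lam N h : SekSuwa.A R lam →+* SekSuwa.AK R lam N h))
      (CommRingCat.ofHom (algebraMap R (SekSuwa.AK R lam N h))) := by
  have hε : ∀ z, Bialgebra.counitAlgHom R (SekSuwa.A R (lam ^ N)) z =
      CoalgebraStruct.counit (R := R) z := fun _ => rfl
  let c : CommRingCat.of (SekSuwa.A R (lam ^ N)) ⟶ CommRingCat.of R :=
    CommRingCat.ofHom (Bialgebra.counitAlgHom R (SekSuwa.A R (lam ^ N))).toRingHom
  let s : CommRingCat.of (SekSuwa.A R (lam ^ N)) ⟶ CommRingCat.of (SekSuwa.A R lam) :=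
    CommRingCat.ofHom (SekSuwa.psiHom R lam N h : SekSuwa.A R (lam ^ N) →+* SekSuwa.A R lam)
  let a : CommRingCat.of (SekSuwa.A R lam) ⟶ CommRingCat.of (SekSuwa.AK R lam N h) :=
    CommRingCat.ofHom (SekSuwa.AK.mkHom R lam N h : SekSuwa.A R lam →+* SekSuwa.AK R lam N h)
  let b : CommRingCat.of R ⟶ CommRingCat.of (SekSuwa.AK R lam N h) :=
    CommRingCat.ofHom (algebraMap R (SekSuwa.AK R lam N h))
  have hw : s ≫ a = c ≫ b := by
    refine CommRingCat.hom_ext ?_
    have : ((SekSuwa.AK.mkHom R lam N h : SekSuwa.A R lam →ₐ[R] SekSuwa.AK R lam N h).comp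
        (SekSuwa.psiHom R lam N h : SekSuwa.A R (lam ^ N) →ₐ[R] SekSuwa.A R lam)) =
        (Algebra.ofId R _).comp (Bialgebra.counitAlgHom R (SekSuwa.A R (lam ^ N))) := by
      refine SekSuwa.A.algHom_ext ?_ ?_
      · rw [AlgHom.comp_apply, AlgHom.comp_apply, hε, SekSuwa.A.counit_t, map_zero]
        show SekSuwa.AK.mkHom R lam N h (SekSuwa.psiHom R lam N h SekSuwa.A.t) = 0
        rw [SekSuwa.psiHom_t, SekSuwa.AK.mkHom_kerGen]
      · rw [AlgHom.comp_apply, AlgHom.comp_apply, hε, SekSuwa.A.counit_inv, map_one]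
        show SekSuwa.AK.mkHom R lam N h (SekSuwa.psiHom R lam N h SekSuwa.A.inv) = 1
        rw [SekSuwa.psiHom_inv]
        have e1 := congrArg (SekSuwa.AK.mkHom R lam N h) (SekSuwa.kerGen_rel h)
        rw [map_mul, map_add, map_one, map_smul, SekSuwa.AK.mkHom_kerGen, smul_zero, add_zero, _root_.one_mul] at e1
        exact e1
    exact RingHom.ext fun z => DFunLike.congr_fun this z
  show IsPushout s c a b
  refine IsPushout.of_isColimit' ⟨hw⟩ (Limits.PushoutCocone.IsColimit.mk _
    (fun k => CommRingCat.ofHom (Ideal.Quotient.lift (SekSuwa.kerIdeal lam N h) k.inl.hom ?_)) ?_ ?_ ?_)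
  · intro z hz
    obtain ⟨d, rfl⟩ := Ideal.mem_span_singleton'.mp hz
    have h0 := ConcreteCategory.congr_hom k.condition (SekSuwa.A.t : SekSuwa.A R (lam ^ N))
    have h1 : k.inl.hom (SekSuwa.kerGen lam N h) = 0 := by
      refine Eq.trans ?_ (h0.trans ?_)
      · show _ = k.inl.hom (SekSuwa.psiHom R lam N h SekSuwa.A.t)
        rw [SekSuwa.psiHom_t]
      · show k.inr.hom (CoalgebraStruct.counit (R := R) (SekSuwa.A.t : SekSuwa.A R (lam ^ N))) = 0
        rw [SekSuwa.A.counit_t]
        exact map_zero _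
    rw [map_mul, h1, mul_zero]
  · intro k
    exact CommRingCat.hom_ext (RingHom.ext fun z => rfl)
  · intro k
    refine CommRingCat.hom_ext (RingHom.ext fun r => ?_)
    show k.inl.hom (algebraMap R (SekSuwa.A R lam) r) = k.inr.hom r
    have h0 := ConcreteCategory.congr_hom k.condition (algebraMap R (SekSuwa.A R (lam ^ N)) r)
    refine Eq.trans ?_ (h0.trans ?_)
    · show _ = k.inl.hom (SekSuwa.psiHom R lam N h (algebraMap R _ r))
      exact congrArg k.inl.hom (AlgHomClass.commutes (SekSuwa.psiHom R lam N h) r).symm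
    · show k.inr.hom (Bialgebra.counitAlgHom R (SekSuwa.A R (lam ^ N)) (algebraMap R _ r)) = _
      rw [AlgHom.commutes]
      rfl
  · intro k m h1 h2
    refine CommRingCat.hom_ext (RingHom.ext fun z => ?_)
    obtain ⟨w, rfl⟩ := Ideal.Quotient.mk_surjective z
    exact ConcreteCategory.congr_hom h1 w

/-- For any commutative ring R, λ ∈ R and N such that λ is a non-zero-divisor and λ^N divides (1 + λX)^N
− 1 in R[X] with quotient P_{λ,N}, the closed subgroup scheme G_{λ,N} = Spec R[T]/(P_{λ,N}(T)) of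
the affine R-group G^(λ) = Spec R[T, 1/(1+λT)] (group law s + t + λst) is the kernel of the
homomorphism ψ_{λ,N} : G^(λ) → G^(λ^N), T ↦ P_{λ,N}(T): the square with sides the inclusion G_{λ,N}
→ G^(λ), ψ_{λ,N}, the unit section of G^(λ^N) and G_{λ,N} → Spec R is cartesian. (The published
text, over a discrete valuation ring and with N = p^n, introduces G_{λ,n} as the kernel of the
isogeny ψ_{λ,n}; this row is that assertion for every N, including the degenerate N = 0 where ψ is
trivial and G_{λ,0} = G^(λ).) -/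
theorem result (R : Type u) [CommRing R] (lam : R) (N : ℕ) (h : SekSuwa.DivCond lam N) :
    AlgGrp.IsKernel (SekSuwa.incl R lam N h) (SekSuwa.psi R lam N h) := by
  have sq := isPullback_SpecMap_of_isPushout _ _ _ _ (isPushout_kernel R lam N h)
  have h1 : (toUnit (SekSuwa.GK R lam N h)).left = Spec.map (CommRingCat.ofHom (algebraMap R (SekSuwa.AK R lam N h))) :=
    (Category.comp_id _).symm.trans (Over.w (toUnit (SekSuwa.GK R lam N h)))
  have h2 : (η[SekSuwa.G R (lam ^ N)] : 𝟙_ _ ⟶ _).left =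
      Spec.map (CommRingCat.ofHom (Bialgebra.counitAlgHom R (SekSuwa.A R (lam ^ N))).toRingHom) :=
    one_spec_asOver_spec_left (R := CommRingCat.of R) (A := CommRingCat.of (SekSuwa.A R (lam ^ N)))
  have sq' : IsPullback (SekSuwa.incl R lam N h).left (toUnit (SekSuwa.GK R lam N h)).left
      (SekSuwa.psi R lam N h).left (η[SekSuwa.G R (lam ^ N)] : 𝟙_ _ ⟶ _).left := by
    rw [h1, h2]
    exact sq
  exact IsPullback.of_map (Over.forget _) (Over.OverMorphism.ext sq'.w) sq'

end Groth.Agent.S14693
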