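import Groth.Statements.S14695
import Groth.Agent.Lib.TorsorSch.NormalBase

set_option autoImplicit false
universe u
open CategoryTheory AlgebraicGeometry
open NonAbH1

namespace Groth.Agent.S14695

open MonoidalCategory CartesianMonoidalCategory Limits in
/-- A morphism of torsors along a homomorphism which is an isomorphism over `T` is an isomorphism
over `T`, so that points over `T` lift. -/
theorem exists_point_of_isIso_whiskerRight {X : Scheme.{u}} {G G' P P' : Over X} [GrpObj G]
    [GrpObj G'] {a : AlgGrp.Action G P} {a' : AlgGrp.Action G' P'} (g : G ⟶ G') {S' : Scheme.{u}}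
    {η : S' ⟶ X} (hg : IsIso ((Over.pullback η).map g))
    (ha : NonAbH1.IsTorsorFor Scheme.fpqcPrecoverage a) (ha' : NonAbH1.IsPseudoTorsorSch a')
    (f : P ⟶ P') (hf : a.act ≫ f = lift (fst G P ≫ g) (snd G P ≫ f) ≫ a'.act)
    (σ : X ⟶ P'.left) (hσ : σ ≫ P'.hom = 𝟙 X) : NonAbH1.HasSectionOver P η := by
  let T : Over X := Over.mk η
  have hgT : IsIso (g ▷ T) := by
    have e : (g ▷ T).left = ((Over.pullback η).map g).left := by
      apply (Groth.Agent.Lib.GrpSch.isPullback_left G' T).hom_ext
      · rw [← Over.comp_left, whiskerRight_fst]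
        exact (pullback.lift_fst _ _ _).symm
      · rw [← Over.comp_left, whiskerRight_snd]
        exact (pullback.lift_snd _ _ _).symm
    have : IsIso ((Over.forget X).map (g ▷ T)) := by
      change IsIso (g ▷ T).left
      rw [e]
      exact (inferInstance : IsIso ((Over.forget S').map ((Over.pullback η).map g)))
    exact (isIso_iff_of_reflects_iso (g ▷ T) (Over.forget X)).mp this
  have hfT : IsIso (f ▷ T).left :=
    Groth.Agent.Lib.TorsorSch.Descent.of_forall_whiskerRight
      (P := MorphismProperty.isomorphisms Scheme.{u}) ha.2 (f ▷ T) fun {T'} s ↦ by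
      let s₂ : T ⊗ T' ⟶ P := snd T T' ≫ s
      have := Groth.Agent.Lib.TorsorSch.Basic.isIso_triv a ha.1 s₂
      have := Groth.Agent.Lib.TorsorSch.Basic.isIso_triv a' ha' (s₂ ≫ f)
      have e₀ : ∀ {T₂ : Over X} (s₂ : T₂ ⟶ P),
          Groth.Agent.Lib.TorsorSch.Basic.triv a s₂ ≫ f ▷ T₂ =
            g ▷ T₂ ≫ Groth.Agent.Lib.TorsorSch.Basic.triv a' (s₂ ≫ f) := fun {T₂} s₂ ↦ by
        apply CartesianMonoidalCategory.hom_ext
        · simp only [Category.assoc, whiskerRight_fst,
            Groth.Agent.Lib.TorsorSch.Basic.triv_fst_assoc,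
            Groth.Agent.Lib.TorsorSch.Basic.triv_fst, hf, whiskerLeft_comp]
          rw [comp_lift_assoc]
          simp only [← Category.assoc]
          congr 1
          apply CartesianMonoidalCategory.hom_ext <;> simp
        · simp
      have e := e₀ s₂
      have : IsIso (g ▷ (T ⊗ T')) := by
        rw [show g ▷ (T ⊗ T') = (α_ G T T').inv ≫ (g ▷ T ▷ T') ≫ (α_ G' T T').hom by simp]
        infer_instance
      have : IsIso (Groth.Agent.Lib.TorsorSch.Basic.triv a s₂ ≫ f ▷ (T ⊗ T')) := by
        rw [e]; infer_instance
      have : IsIso (f ▷ (T ⊗ T')) :=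
        IsIso.of_isIso_comp_left (Groth.Agent.Lib.TorsorSch.Basic.triv a s₂) _
      have : IsIso (f ▷ T ▷ T') := by
        rw [show f ▷ T ▷ T' = (α_ P T T').hom ≫ f ▷ (T ⊗ T') ≫ (α_ P' T T').inv by simp]
        infer_instance
      exact (inferInstance : IsIso ((Over.forget X).map (f ▷ T ▷ T')))
  have : IsIso (f ▷ T) := (isIso_iff_of_reflects_iso (f ▷ T) (Over.forget X)).mp hfT
  let z : T ⟶ P := lift (Over.homMk (U := T) (η ≫ σ)
    (by rw [Category.assoc, hσ, Category.comp_id]; rfl)) (𝟙 T) ≫ inv (f ▷ T) ≫ fst P T
  exact ⟨z.left, Over.w z⟩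

/-- In the case where the morphism Y → X is the identity of X: let X be a normal integral scheme
(integral, with every local ring an integrally closed domain), G and G' X-group schemes which are
finite and flat over X, and g : G → G' a homomorphism which becomes an isomorphism after base change
to the spectrum of the function field of X. If an fppf G-torsor P over X becomes trivial after
extension of the structure group along g — there is an fppf G'-torsor P' over X with a g-equivariant
X-morphism P → P', and P' has a section over X — then P has a section over X. (The published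
statement takes G, G' commutative and all schemes Noetherian, allows also composition with the
pull-back along a morphism Y → X admitting a rational section, and is phrased as injectivity of
H¹(X, G) → H¹(Y, G'_Y); this row is the case where Y → X is the identity of X, as the trivial-kernel
assertion the argument establishes, for which commutativity and the Noetherian condition are not
needed.) -/
theorem result {X : Scheme.{u}} [IsIntegral X]
    (hX : Pi1.IsNormalScheme X) (G G' : Over X) [GrpObj G] [GrpObj G']
    [IsFinite G.hom] [Flat G.hom] [IsFinite G'.hom] [Flat G'.hom]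
    (g : G ⟶ G') [IsMonHom g]
    (hg : IsIso ((Over.pullback (X.fromSpecStalk (genericPoint X))).map g))
    (P : Over X) (a : AlgGrp.Action G P) (hP : NonAbH1.IsTorsorFor Scheme.fppfPrecoverage a)
    (P' : Over X) (a' : AlgGrp.Action G' P') (hP' : NonAbH1.IsTorsorFor Scheme.fppfPrecoverage a')
    (hpush : NonAbH1.IsPushforwardAlongSch g a a') (htriv : NonAbH1.HasSectionOver P' (𝟙 X)) :
    NonAbH1.HasSectionOver P (𝟙 X) := by
  obtain ⟨f, hf⟩ := hpush
  obtain ⟨σ, hσ⟩ := htriv
  have hK := Scheme.fppfPrecoverage_le_fpqcPrecoverage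
  refine Groth.Agent.Lib.TorsorSch.NormalBase.hasSectionOver_id_of_finite hX
    (Groth.Agent.Lib.TorsorSch.Descent.isTorsorFor_mono hK hP) ?_
  exact exists_point_of_isIso_whiskerRight g hg
    (Groth.Agent.Lib.TorsorSch.Descent.isTorsorFor_mono hK hP) hP'.1 f hf σ hσ

end Groth.Agent.S14695
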