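import Groth.Statements.S14697
import Groth.Agent.Lib.SurfRR.Resolution
import Groth.Agent.Lib.SurfInt.ProjSurf

set_option autoImplicit false
universe u
open CategoryTheory CategoryTheory.Limits AlgebraicGeometry
open Surf

namespace Groth.Agent.S14697

/-- Let k be an algebraically closed field and X an integral normal scheme of dimension two admitting a
closed immersion into some P^n_k over k. Let φ : Y → X be a k-morphism from an integral scheme Y of
dimension two with all local rings regular, itself admitting a closed immersion into some P^m_k over
k, such that φ restricts to an isomorphism over an open subset U of X with finite complement (any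
such resolution: φ may also fail to be an isomorphism over finitely many regular points). Let W be a
canonical module of Y, a second exterior power of Ω_{Y/k}, and L an invertible O_X-module. Then 2
χ(X, L) = (φ^*L · φ^*L) - (φ^*L · W) + 2 χ(X, O_X), the intersection numbers being taken on Y as
(A·B) = χ(O_Y) - χ(A) - χ(B) + χ(A ⊗ B) (packaged as FGA.intNum). In the published form D.D and
D.K_* are the intersection numbers of the Cartier divisor D of L with itself and with the direct
image K_* of a canonical divisor of Y, in the rational-valued pairing defined through the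
resolution; for a Cartier divisor both equal the numbers on Y written here. (The published statement
takes a resolved model, that is, φ an isomorphism exactly over the complement of the singular points
with exceptional curves nonsingular and crossing normally; this row allows any φ that is an
isomorphism over some open subset with finite complement, to which the same proof applies. The
published display has constant term the arithmetic genus p_a(X) = χ(O_X) - 1 of the surface; the
proof given establishes the constant χ(O_X) used here, and with p_a(X) the identity already fails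
for the trivial divisor, whose two sides would read χ(O_X) and χ(O_X) - 1.) -/
theorem result (k : Type u) [Field k] [IsAlgClosed k] (X : Scheme.{u}) [X.Over (Spec (CommRingCat.of k))]
    [IsIntegral X] (hdim : topologicalKrullDim X = 2)
    (hproj : ∃ (n : ℕ) (ι : X ⟶ CohB1.ProjSpace n k), IsClosedImmersion ι ∧ ι ≫ CohB1.ProjSpace.toSpec n k = (X ↘ (Spec (CommRingCat.of k))))
    (hnorm : Pi1.IsNormalScheme X) (U : X.Opens) (hU : ((U : Set X)ᶜ).Finite)
    (Y : Scheme.{u}) (φ : Y ⟶ X) [IsIntegral Y] (hdimY : topologicalKrullDim Y = 2)
    (hregY : ∀ y : Y, IsRegularLocalRing (Y.presheaf.stalk y))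
    (hprojY : ∃ (n : ℕ) (ι : Y ⟶ CohB1.ProjSpace n k), IsClosedImmersion ι ∧ ι ≫ CohB1.ProjSpace.toSpec n k = φ ≫ (X ↘ (Spec (CommRingCat.of k))))
    (hisoY : IsIso (φ ∣_ U))
    (W : Y.Modules) (hW : ExtPow.IsExtPow 2 (Omega.sheaf (φ ≫ (X ↘ (Spec (CommRingCat.of k))))) W)
    (L : X.Modules) (hL : PicF.IsInvertible L) :
    letI : Y.Over (Spec (CommRingCat.of k)) := ⟨φ ≫ (X ↘ (Spec (CommRingCat.of k)))⟩
    2 * Curv2.euler k X L =
      FGA.intNum k Y 2 ![(Scheme.Modules.pullback φ).obj L, (Scheme.Modules.pullback φ).obj L] (Coh.structureModule Y) -
        FGA.intNum k Y 2 ![(Scheme.Modules.pullback φ).obj L, W] (Coh.structureModule Y) +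
        2 * Curv2.euler k X (Coh.structureModule X) := by
  letI : Y.Over (Spec (CommRingCat.of k)) := ⟨φ ≫ (X ↘ (Spec (CommRingCat.of k)))⟩
  obtain ⟨n, ι, hc, hι⟩ := hproj
  obtain ⟨m, ι', hc', hι'⟩ := hprojY
  haveI := hc
  haveI := hc'
  have hι'' : ι' ≫ CohB1.ProjSpace.toSpec m k = Y ↘ Spec (CommRingCat.of k) := hι'
  haveI : IsProper (X ↘ Spec (CommRingCat.of k)) := Lib.SurfInt.ProjSurf.isProper ι hι
  haveI : IsProper (Y ↘ Spec (CommRingCat.of k)) := Lib.SurfInt.ProjSurf.isProper ι' hι''
  haveI := Lib.Curves.GlobalSections.isNoetherian_of_proper k X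
  haveI := Lib.Curves.GlobalSections.isNoetherian_of_proper k Y
  haveI := Lib.SurfRR.Regular.smoothOfRelativeDimension_two (k := k) hdimY hregY
  have hη : genericPoint X ∈ U := by
    by_contra hn
    have hcl := Lib.SurfInt.Bound.isClosed_singleton_of_finite (X ↘ Spec (CommRingCat.of k))
      U.2.isClosed_compl hU hn
    have hz : topologicalKrullDim (Set.univ : Set X) ≤ 0 := by
      have hs : Subsingleton (Set.univ : Set X) := ⟨fun a b => Subtype.ext (by
        have h : ∀ z : X, z = genericPoint X := fun z => by
          have hz := (genericPoint_specializes z).mem_closed hcl rfl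
          exact hz
        rw [h a.1, h b.1])⟩
      exact topologicalKrullDim_zero_of_discreteTopology _
    rw [(Homeomorph.Set.univ X).isHomeomorph.topologicalKrullDim_eq, hdim] at hz
    exact absurd hz (by norm_num)
  haveI := hisoY
  have hd : topologicalKrullDim X ≤ ((2 : ℕ) : WithBot ℕ∞) := by exact_mod_cast hdim.le
  have hdY : topologicalKrullDim Y ≤ ((2 : ℕ) : WithBot ℕ∞) := by exact_mod_cast hdimY.le
  have hdef := Lib.SurfRR.Resolution.defect_eq (k := k) φ rfl U hη hd hdY hU (Lib.SurfInt.ProjSurf.isAmple ι) hL
  have hRR := Lib.SurfRR.Regular.riemannRoch ι' hι'' hdimY.le hW (PicLoc.isInvertible_pullback φ hL)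
  linarith

end Groth.Agent.S14697

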