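import Groth.Statements.S14698
import Groth.Agent.Lib.ModelFibre.Centered
import Groth.Agent.Lib.HypSeq89.GenusOne

set_option autoImplicit false
set_option linter.style.haveILetI false
universe u
open CategoryTheory CategoryTheory.Limits AlgebraicGeometry
open Resolve

namespace Groth.Agent.S14698

open TopologicalSpace Groth.Agent.Lib

/-- A one-point component of a Noetherian space is open. -/
theorem isOpen_singleton_component {T : Type u} [TopologicalSpace T] [NoetherianSpace T] {z : T}
    (hz : ({z} : Set T) ∈ irreducibleComponents T) : IsOpen ({z} : Set T) := by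
  rw [← isClosed_compl_iff]
  have h : ({z} : Set T)ᶜ = ⋃₀ (irreducibleComponents T \ {{z}}) := by
    ext a
    constructor
    · intro ha
      refine ⟨irreducibleComponent a, ⟨irreducibleComponent_mem_irreducibleComponents a, fun h => ha ?_⟩,
        mem_irreducibleComponent⟩
      have h' : irreducibleComponent a = {z} := h
      exact (h' ▸ mem_irreducibleComponent : a ∈ ({z} : Set T))
    · rintro ⟨C, ⟨hC, hne⟩, ha⟩ (haz : a = z)
      subst haz
      exact hne ((hz.2 hC.1 (Set.singleton_subset_iff.mpr ha)).antisymm (Set.singleton_subset_iff.mpr ha))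
  rw [h]
  rw [Set.sUnion_eq_biUnion]
  exact (NoetherianSpace.finite_irreducibleComponents.subset Set.sdiff_subset).isClosed_biUnion
    fun C hC => isClosed_of_mem_irreducibleComponents C hC.1

/-- An irreducible T₀ space with two points has positive dimension. -/
theorem one_le_dim {T : Type u} [TopologicalSpace T] [T0Space T] [IrreducibleSpace T] {a b : T}
    (hab : a ≠ b) : 1 ≤ topologicalKrullDim T := by
  obtain ⟨c, hc⟩ : ∃ c : T, closure ({c} : Set T) ≠ Set.univ := by
    by_contra h
    push Not at h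
    exact hab (Inseparable.eq (inseparable_iff_specializes_and.mpr
      ⟨specializes_iff_mem_closure.mpr (by rw [h]; trivial), specializes_iff_mem_closure.mpr (by rw [h]; trivial)⟩))
  let p : IrreducibleCloseds T := ⟨closure {c}, isIrreducible_singleton.closure, isClosed_closure⟩
  let q : IrreducibleCloseds T := ⟨Set.univ, IrreducibleSpace.isIrreducible_univ T, isClosed_univ⟩
  have hpq : p < q := lt_of_le_of_ne (fun x _ => trivial) fun h => hc (congrArg SetLike.coe h)
  exact le_trans (le_of_eq (by rfl)) (Order.LTSeries.length_le_krullDim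
    ((RelSeries.singleton _ p).snoc q hpq))

/-- Let k be an algebraically closed field and X an integral normal scheme of dimension two admitting a
closed immersion into some P^n_k over k. Let φ : Y → X be a k-morphism from an integral scheme Y of
dimension two with all local rings regular, itself admitting a closed immersion into some P^m_k over
k, which restricts to an isomorphism over an open subset U of X with finite complement. Then for
every point x of X at which the local ring is not regular, the fibre φ⁻¹(x) (with the topology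
induced from Y) is nonempty and every irreducible component of it has dimension one: such a
desingularization is a monoidal model. (The published statement takes φ an isomorphism exactly over
the complement of the singular points; this row allows any open U with finite complement over which
φ is an isomorphism.) -/
theorem result (k : Type u) [Field k] [IsAlgClosed k] (X : Scheme.{u}) [X.Over (Spec (CommRingCat.of k))]
    [IsIntegral X] (hdim : topologicalKrullDim X = 2)
    (hproj : ∃ (n : ℕ) (ι : X ⟶ CohB1.ProjSpace n k), IsClosedImmersion ι ∧ ι ≫ CohB1.ProjSpace.toSpec n k = (X ↘ (Spec (CommRingCat.of k))))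
    (hnorm : Pi1.IsNormalScheme X) (U : X.Opens) (hU : ((U : Set X)ᶜ).Finite)
    (Y : Scheme.{u}) (φ : Y ⟶ X) [IsIntegral Y] (hdimY : topologicalKrullDim Y = 2)
    (hregY : ∀ y : Y, IsRegularLocalRing (Y.presheaf.stalk y))
    (hprojY : ∃ (n : ℕ) (ι : Y ⟶ CohB1.ProjSpace n k), IsClosedImmersion ι ∧ ι ≫ CohB1.ProjSpace.toSpec n k = φ ≫ (X ↘ (Spec (CommRingCat.of k))))
    (hisoY : IsIso (φ ∣_ U))
    (x : X) (hx : ¬ IsRegularLocalRing (X.presheaf.stalk x)) :
    (φ.base ⁻¹' ({x} : Set X)).Nonempty ∧
      ∀ Z ∈ irreducibleComponents ↥(φ.base ⁻¹' ({x} : Set X)), topologicalKrullDim ↥Z = 1 := by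
  obtain ⟨n, ι, hι, hιeq⟩ := hproj
  obtain ⟨m, ι', hι', hι'eq⟩ := hprojY
  haveI := hι
  haveI := hι'
  haveI : IsProper (X ↘ Spec (CommRingCat.of k)) := by rw [← hιeq]; infer_instance
  haveI : IsProper (φ ≫ (X ↘ Spec (CommRingCat.of k))) := by rw [← hι'eq]; infer_instance
  haveI : IsProper φ := IsProper.of_comp φ (X ↘ Spec (CommRingCat.of k))
  haveI : IsLocallyNoetherian X := LocallyOfFiniteType.isLocallyNoetherian (X ↘ Spec (CommRingCat.of k))
  haveI : IsLocallyNoetherian Y := LocallyOfFiniteType.isLocallyNoetherian (φ ≫ (X ↘ Spec (CommRingCat.of k)))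
  haveI : JacobsonSpace X := LocallyOfFiniteType.jacobsonSpace (X ↘ Spec (CommRingCat.of k))
  haveI : CompactSpace Y :=
    QuasiCompact.compactSpace_of_compactSpace (φ ≫ (X ↘ Spec (CommRingCat.of k)))
  haveI : IsNoetherian Y := {}
  have hne : (U : Set X).Nonempty := by
    by_contra h
    rw [Set.not_nonempty_iff_eq_empty.mp h, Set.compl_empty, Set.finite_univ_iff] at hU
    haveI := hU
    exact absurd ((topologicalKrullDim_zero_of_discreteTopology (X := X)).trans' hdim.ge) (by decide)
  obtain ⟨hgen, hbir⟩ := ZMTStein.generic_of_isIso_restrict φ U hne hisoY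
  have hsurj := ZMTStein.surjective_of_generic φ hgen
  refine ⟨⟨_, (hsurj.surj x).choose_spec⟩, ?_⟩
  have key : ∀ V : X.Opens, IsIso (φ ∣_ V) → x ∉ V := by
    intro V hV hxV
    obtain ⟨y, rfl⟩ := hsurj.surj x
    haveI := hV
    haveI : IsIso ((φ ∣_ V).stalkMap ⟨y, hxV⟩) := ((isIso_iff_isIso_stalkMap (φ ∣_ V)).mp hV).2 _
    haveI : IsIso (φ.stalkMap y) :=
      ((MorphismProperty.isomorphisms CommRingCat).arrow_mk_iso_iff (morphismRestrictStalkMap φ V ⟨y, hxV⟩)).mp
        ‹IsIso ((φ ∣_ V).stalkMap ⟨y, hxV⟩)›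
    haveI := hregY y
    exact hx (IsRegularLocalRing.of_ringEquiv (asIso (φ.stalkMap y)).commRingCatIsoToRingEquiv.symm)
  have hxc : IsClosed ({x} : Set X) := by
    have hcl : IsClosed (U : Set X)ᶜ := U.isOpen.isClosed_compl
    haveI : Finite ↥(U : Set X)ᶜ := hU
    haveI : JacobsonSpace ↥(U : Set X)ᶜ := JacobsonSpace.of_isClosedEmbedding hcl.isClosedEmbedding_subtypeVal
    have h1 : IsClosed ({⟨x, key U hisoY⟩} : Set ↥(U : Set X)ᶜ) := isClosed_discrete _
    simpa using hcl.isClosedEmbedding_subtypeVal.isClosedMap _ h1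
  obtain ⟨V, hV, -, hout⟩ := ZMTStein.exists_open φ (ZMTStein.bijective_app_of_normal φ hnorm hgen hbir)
  haveI : IsClosedImmersion (φ.fiberι x) := IsClosedImmersion.of_isPreimmersion _
    (by rw [φ.range_fiberι]; exact hxc.preimage φ.continuous)
  haveI : Nonempty ↥(φ.fiber x) := ⟨(φ.fiberHomeo x).symm ⟨_, (hsurj.surj x).choose_spec⟩⟩
  have hrange : Set.range (φ.fiberι x) ≠ Set.univ := by
    rw [φ.range_fiberι]
    intro h
    have h1 : φ (genericPoint Y) = x := (h.symm ▸ Set.mem_univ _ : genericPoint Y ∈ φ ⁻¹' {x})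
    refine key U hisoY ?_
    rw [← h1, hgen]
    exact ((genericPoint_spec X).mem_open_set_iff U.2).mpr ⟨hne.choose, trivial, hne.choose_spec⟩
  have hd : topologicalKrullDim ↥(φ ⁻¹' ({x} : Set X)) + 1 ≤ 2 := by
    rw [← hdimY, ← IsHomeomorph.topologicalKrullDim_eq _ (φ.fiberHomeo x).isHomeomorph]
    exact HypSeq89.topologicalKrullDim_add_one_le (φ.fiberι x) hrange
  intro Z hZ
  have hle : topologicalKrullDim ↥Z ≤ 1 := by
    have h1 := topologicalKrullDim_subspace_le ↥(φ ⁻¹' ({x} : Set X)) Z
    generalize topologicalKrullDim ↥Z = a at h1 ⊢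
    generalize topologicalKrullDim ↥(φ.base ⁻¹' ({x} : Set X)) = b at h1 hd
    refine h1.trans ?_
    induction b using WithBot.recBotCoe with
    | bot => exact bot_le
    | coe c =>
      have h2 : ((c + 1 : ℕ∞) : WithBot ℕ∞) ≤ ((2 : ℕ∞) : WithBot ℕ∞) := hd
      exact WithBot.coe_le_coe.mpr ((ENat.add_le_add_iff_right (ENat.natCast_ne_top 1)).mp (WithBot.coe_le_coe.mp h2))
  refine le_antisymm hle ?_
  haveI : IrreducibleSpace ↥Z := isIrreducible_iff_irreducibleSpace.mp hZ.1
  obtain ⟨z, hz⟩ := hZ.1.nonempty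
  by_cases h : ∃ z' ∈ Z, z' ≠ z
  · obtain ⟨z', hz', hne'⟩ := h
    exact one_le_dim (a := (⟨z', hz'⟩ : Z)) (b := ⟨z, hz⟩) fun e => hne' (congrArg Subtype.val e)
  exfalso
  push Not at h
  have hZz : Z = {z} := Set.eq_singleton_iff_unique_mem.mpr ⟨hz, h⟩
  subst hZz
  haveI : NoetherianSpace ↥(φ ⁻¹' ({x} : Set X)) := inferInstance
  refine hout x (key V hV) ((φ.fiberHomeo x).symm z) ?_
  have h2 := (φ.fiberHomeo x).symm.isOpenMap _ (isOpen_singleton_component hZ)
  rwa [Set.image_singleton] at h2

end Groth.Agent.S14698
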