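import Groth.Statements.S1470
import Groth.Agent.Lib.RelAss.Flatness
import Groth.Agent.H46.UnibranchTFAE

set_option autoImplicit false
universe u
open FlatMor

namespace Groth.Agent.S1470

open AlgebraicGeometry CategoryTheory Limits in
/-- Let f : X → S be locally of finite type, F a quasi-coherent O_X-module of finite type, and y a point
of the relative assassin of F with image t; let Y be the closure of y. For a point s of S and a
point x of the fibre of Y over s which is generic in an irreducible component of that fibre, if F is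
flat over S at x then x belongs to the relative assassin of F and the local dimension of the fibre
of Y over s at x equals the dimension of the fibre of Y over t (fibres taken as subspaces of X). -/
theorem result {X S : Scheme.{u}} (f : X ⟶ S) [LocallyOfFiniteType f]
    (F : X.Modules) (hF : Coh.IsCoh F) (y : X) (hy : y ∈ MoreMor.relAss f F) (s : S) (x : X) (hx : x ∈ closure ({y} : Set ↑X)) (hxs : f x = s)
    (hgen : ∃ C ∈ irreducibleComponents ↑(closure ({y} : Set ↑X) ∩ f ⁻¹' {s}), IsGenericPoint (⟨x, hx, hxs⟩ : ↑(closure ({y} : Set ↑X) ∩ f ⁻¹' {s})) C)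
    (hfl : FlatMod.IsFlatOverAt f F x) :
    x ∈ MoreMor.relAss f F ∧
      FlatMor.localDim ↑(closure ({y} : Set ↑X) ∩ f ⁻¹' {s}) ⟨x, hx, hxs⟩ = topologicalKrullDim ↑(closure ({y} : Set ↑X) ∩ f ⁻¹' {f y}) := by
  haveI := hF.1
  haveI := hF.2
  subst hxs
  obtain ⟨C, hC, hxC⟩ := hgen
  have hyx : y ⤳ x := specializes_iff_mem_closure.2 hx
  have hmax : ∀ z, f z = f x → y ⤳ z → z ⤳ x → z = x := fun z hzs hyz hzx => by
    let x' : ↑(closure ({y} : Set ↑X) ∩ f ⁻¹' {f x}) := ⟨x, hx, rfl⟩
    let z' : ↑(closure ({y} : Set ↑X) ∩ f ⁻¹' {f x}) := ⟨z, hyz.mem_closure, hzs⟩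
    have hzx' : z' ⤳ x' := Topology.IsInducing.subtypeVal.specializes_iff.1 hzx
    have hsub : C ≤ closure {z'} := by
      rw [← hxC.def]
      exact closure_minimal (Set.singleton_subset_iff.2 hzx'.mem_closure) isClosed_closure
    have hzC := hC.2 isIrreducible_singleton.closure hsub (subset_closure rfl)
    rw [← hxC.def] at hzC
    have hxz' : x' ⤳ z' := specializes_iff_mem_closure.2 hzC
    exact (hzx.antisymm (Topology.IsInducing.subtypeVal.specializes_iff.2 hxz')).eq
  refine ⟨Lib.RelAss.Flatness.mem_relAss_of_flat f F hy hyx hfl hmax, ?_⟩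
  exact H46.UnibranchTFAE.localDim_eq_of_component f hyx fun a hya hfa hax => by
    obtain rfl := hmax a hfa hya hax
    exact Lib.RelAss.Flatness.trd_le_of_flat f F hy hyx hfl

end Groth.Agent.S1470
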