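import Groth.Statements.S14700
import Groth.Agent.Lib.SurfUnion.Basic
-- import your own Groth.Agent.* helpers here

set_option autoImplicit false
universe u
open CategoryTheory CategoryTheory.Limits AlgebraicGeometry
open Surf

namespace Groth.Agent.S14700

/-- Let k be an algebraically closed field and X an integral scheme of dimension two with all local
rings regular, admitting a closed immersion into some P^n_k over k. Let C_1, …, C_n be pairwise
distinct integral one-dimensional closed subschemes of X with ideal sheaves I_1, …, I_n, and let Y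
be the reduced closed subscheme with ideal I_1 ∩ ⋯ ∩ I_n (their union); assume Y is connected. Then
χ(O_Y) ≤ 1, i.e. the arithmetic genus 1 - χ(O_Y) of Y is nonnegative. If moreover χ(O_Y) = 1, then
χ(O_{C_i}) = 1 for every i (each C_i has arithmetic genus zero) and Σ_{i<j} (C_i · C_j) = n - 1, so
that the incidence graph of the C_i, which is connected with Σ_{i<j} (C_i · C_j) edges, contains no
cycle; here (C_i · C_j) = χ(O_X) - χ(I_i) - χ(I_j) + χ(I_i ⊗ I_j) is the intersection number
(packaged as FGA.intNum). (The published statement allows any integral projective surface regular in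
codimension one; this row takes X with all local rings regular, where the intersection numbers used
by the proof are defined.) -/
theorem result (k : Type u) [Field k] [IsAlgClosed k] (X : Scheme.{u}) [X.Over (Spec (CommRingCat.of k))]
    [IsIntegral X] (hdim : topologicalKrullDim X = 2)
    (hproj : ∃ (n : ℕ) (ι : X ⟶ CohB1.ProjSpace n k), IsClosedImmersion ι ∧ ι ≫ CohB1.ProjSpace.toSpec n k = (X ↘ (Spec (CommRingCat.of k))))
    (hreg : ∀ x : X, IsRegularLocalRing (X.presheaf.stalk x))
    (n : ℕ) (C : Fin n → X.IdealSheafData) (hCint : ∀ i, IsIntegral (C i).subscheme)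
    (hCdim : ∀ i, topologicalKrullDim ((C i).support : Set X) = 1)
    (hCinj : Function.Injective fun i => ((C i).support : Set X))
    (hconn : _root_.IsConnected ((⨅ i, C i).support : Set X)) :
    Curv2.euler k X (ClSub.quotMod (⨅ i, C i)) ≤ 1 ∧
      (Curv2.euler k X (ClSub.quotMod (⨅ i, C i)) = 1 →
        (∀ i, Curv2.euler k X (ClSub.quotMod (C i)) = 1) ∧
          (∑ i : Fin n, ∑ j : Fin n,
              if i < j then FGA.intNum k X 2 ![ClSub.idealMod (C i), ClSub.idealMod (C j)] (Coh.structureModule X) else 0) =
            (n : ℤ) - 1) := by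
  obtain ⟨r, ι, hcl, hι⟩ := hproj
  haveI := hcl
  haveI : IsProper (X ↘ Spec (CommRingCat.of k)) := Lib.SurfInt.ProjSurf.isProper ι hι
  haveI : IsLocallyNoetherian X :=
    LocallyOfFiniteType.isLocallyNoetherian (X ↘ Spec (CommRingCat.of k))
  haveI : CompactSpace X := QuasiCompact.compactSpace_of_compactSpace (X ↘ Spec (CommRingCat.of k))
  haveI : IsNoetherian X := ⟨⟩
  obtain ⟨hne, hpairs⟩ := Lib.SurfUnion.Basic.exists_set (k := k) hdim hreg C hCint hCdim hCinj hconn
  obtain ⟨-, hchi, -⟩ :=
    Lib.SurfUnion.Basic.union_spec (k := k) hdim hreg C hCint hCdim hCinj _ hne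
  rw [Lib.SurfUnion.Basic.union, Finset.inf_univ_eq_iInf] at hchi
  have hle : ∀ i, Curv2.euler k X (_root_.ClSub.quotMod (C i)) ≤ 1 := fun i =>
    haveI := hCint i
    Lib.SurfUnion.Basic.qchi_le_one (k := k) (C i) (hCdim i)
  have hsum : ∑ i : Fin n, Curv2.euler k X (_root_.ClSub.quotMod (C i)) ≤ (n : ℤ) := by
    simpa using Finset.sum_le_card_nsmul Finset.univ _ 1 fun i _ => hle i
  simp only [Lib.SurfUnion.Basic.qchi] at hchi
  refine ⟨by linarith, fun h1 => ⟨fun i => ?_, ?_⟩⟩
  · by_contra hne1
    have hlt : ∑ j : Fin n, Curv2.euler k X (_root_.ClSub.quotMod (C j)) < ∑ _j : Fin n, (1 : ℤ) :=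
      Finset.sum_lt_sum (fun j _ => hle j) ⟨i, Finset.mem_univ _, lt_of_le_of_ne (hle i) hne1⟩
    rw [Finset.sum_const, Finset.card_univ, Fintype.card_fin, nsmul_one] at hlt
    linarith
  · simp only [Lib.SurfUnion.Basic.pairSum, Lib.SurfUnion.Basic.inum] at hpairs hchi
    linarith

end Groth.Agent.S14700
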