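import Groth.Statements.S14701
import Groth.Agent.S14698
import Groth.Agent.S14700
import Groth.Agent.S14512
import Groth.Agent.H34.Stein.NormalBase
import Groth.Agent.H34.Stein.Connected
import Groth.Agent.H75.RedSub
import Groth.Agent.Lib.AlgSpGeomConn.Basic
import Groth.Agent.Lib.SurfRR.RationalFibre
import Groth.Agent.Lib.SumihiroQP89.Main
import Groth.Agent.Lib.Curves.GenusZero
import Groth.Agent.Lib.Ample.QAffCrit

set_option autoImplicit false
universe u
open CategoryTheory CategoryTheory.Limits AlgebraicGeometry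
open Resolve

set_option linter.style.haveILetI false

namespace Groth.Agent.S14701

open TopologicalSpace Groth.Agent.Lib

/-- Let k be an algebraically closed field and X an integral normal scheme of dimension two admitting a
closed immersion into some P^n_k over k. Let φ : Y → X be a k-morphism from an integral scheme Y of
dimension two with all local rings regular, itself admitting a closed immersion into some P^m_k over
k, which restricts to an isomorphism over an open subset U of X with finite complement, and assume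
R^1 φ_* O_Y = 0 (first right derived functor of the direct image on abelian sheaves), so that the
singular points of X are rational singularities. Let x be a point of X whose local ring is not
regular and E_1, …, E_n pairwise distinct integral one-dimensional closed subschemes of Y mapped by
φ to x such that every integral one-dimensional closed subscheme of Y mapped to x has the support of
one of them. Then every E_i is isomorphic to the projective line P^1_k, and Σ_{i<j} (E_i · E_j) = n
- 1, so that the incidence graph of the E_i (connected, as the fibre is connected) is a tree; here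
(E_i · E_j) = χ(O_Y) - χ(I_i) - χ(I_j) + χ(I_i ⊗ I_j), I_i the ideal sheaves (packaged as
FGA.intNum). (The published statement is for a resolved model, whose exceptional curves are
nonsingular with normal crossings, and takes rationality in any of five forms it quotes as
equivalent; this row assumes the vanishing of R^1 φ_* O_Y, the first of them, and the passage from
it to the nonpositivity of arithmetic genera of exceptional cycles used in the proof is taken from
the literature.) -/
theorem result (k : Type u) [Field k] [IsAlgClosed k] (X : Scheme.{u}) [X.Over (Spec (CommRingCat.of k))]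
    [IsIntegral X] (hdim : topologicalKrullDim X = 2)
    (hproj : ∃ (n : ℕ) (ι : X ⟶ CohB1.ProjSpace n k), IsClosedImmersion ι ∧ ι ≫ CohB1.ProjSpace.toSpec n k = (X ↘ (Spec (CommRingCat.of k))))
    (hnorm : Pi1.IsNormalScheme X) (U : X.Opens) (hU : ((U : Set X)ᶜ).Finite)
    (Y : Scheme.{u}) (φ : Y ⟶ X) [IsIntegral Y] (hdimY : topologicalKrullDim Y = 2)
    (hregY : ∀ y : Y, IsRegularLocalRing (Y.presheaf.stalk y))
    (hprojY : ∃ (n : ℕ) (ι : Y ⟶ CohB1.ProjSpace n k), IsClosedImmersion ι ∧ ι ≫ CohB1.ProjSpace.toSpec n k = φ ≫ (X ↘ (Spec (CommRingCat.of k))))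
    (hisoY : IsIso (φ ∣_ U))
    (hrat : IsZero ((Coh.RpushAb φ 1).obj (Coh.toAb (Coh.structureModule Y))))
    (x : X) (hx : ¬ IsRegularLocalRing (X.presheaf.stalk x))
    (n : ℕ) (E : Fin n → Y.IdealSheafData) (hEint : ∀ i, IsIntegral (E i).subscheme)
    (hEdim : ∀ i, topologicalKrullDim ((E i).support : Set Y) = 1)
    (hEpt : ∀ i, φ.base '' ((E i).support : Set Y) = {x})
    (hEinj : Function.Injective fun i => ((E i).support : Set Y))
    (hEall : ∀ F : Y.IdealSheafData, IsIntegral F.subscheme → topologicalKrullDim (F.support : Set Y) = 1 →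
      φ.base '' (F.support : Set Y) = {x} → ∃ i, (F.support : Set Y) = (E i).support) :
    letI : Y.Over (Spec (CommRingCat.of k)) := ⟨φ ≫ (X ↘ (Spec (CommRingCat.of k)))⟩
    (∀ i, Nonempty ((E i).subscheme ≅ CohB1.ProjSpace 1 k)) ∧
      (∑ i : Fin n, ∑ j : Fin n,
          if i < j then FGA.intNum k Y 2 ![ClSub.idealMod (E i), ClSub.idealMod (E j)] (Coh.structureModule Y) else 0) =
        (n : ℤ) - 1 := by
  obtain ⟨r, ι, hι, hιeq⟩ := id hproj
  obtain ⟨m, ι', hι', hι'eq⟩ := id hprojY
  letI : Y.Over (Spec (CommRingCat.of k)) := ⟨φ ≫ (X ↘ (Spec (CommRingCat.of k)))⟩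
  haveI := hι
  haveI := hι'
  haveI : IsProper (X ↘ Spec (CommRingCat.of k)) := by rw [← hιeq]; infer_instance
  haveI : IsProper (φ ≫ (X ↘ Spec (CommRingCat.of k))) := by rw [← hι'eq]; infer_instance
  haveI : IsProper (Y ↘ Spec (CommRingCat.of k)) :=
    inferInstanceAs (IsProper (φ ≫ (X ↘ Spec (CommRingCat.of k))))
  haveI : IsProper φ := IsProper.of_comp φ (X ↘ Spec (CommRingCat.of k))
  haveI : IsLocallyNoetherian X := LocallyOfFiniteType.isLocallyNoetherian (X ↘ Spec (CommRingCat.of k))
  haveI : IsLocallyNoetherian Y := LocallyOfFiniteType.isLocallyNoetherian (φ ≫ (X ↘ Spec (CommRingCat.of k)))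
  haveI : CompactSpace Y :=
    QuasiCompact.compactSpace_of_compactSpace (φ ≫ (X ↘ Spec (CommRingCat.of k)))
  haveI : IsNoetherian Y := {}
  have hne : (U : Set X).Nonempty := by
    by_contra h
    rw [Set.not_nonempty_iff_eq_empty.mp h, Set.compl_empty, Set.finite_univ_iff] at hU
    haveI : JacobsonSpace X := LocallyOfFiniteType.jacobsonSpace (X ↘ Spec (CommRingCat.of k))
    haveI := hU
    exact absurd ((topologicalKrullDim_zero_of_discreteTopology (X := X)).trans' hdim.ge) (by decide)
  obtain ⟨hgen, hbir⟩ := ZMTStein.generic_of_isIso_restrict φ U hne hisoY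
  haveI : IsIso (φ.stalkMap (genericPoint Y)) := (ConcreteCategory.isIso_iff_bijective _).mpr hbir
  haveI := H34.Stein.geometricallyConnected φ
    (H34.Stein.isIso_app_of_birational φ hnorm hgen inferInstance)
  have hconn0 : _root_.IsConnected (φ ⁻¹' {x}) :=
    AlgSpGeomConn.isConnected_preimage_singleton φ x
  obtain ⟨hfne, hcomp⟩ := S14698.result k X hdim hproj hnorm U hU Y φ hdimY hregY hprojY hisoY x hx
  have hin : ∀ i, ((E i).support : Set Y) ⊆ φ ⁻¹' {x} := fun i z hz =>
    show φ z ∈ ({x} : Set X) from hEpt i ▸ ⟨z, hz, rfl⟩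
  -- every point of the fibre lies on some curve
  have hfin : ∀ y : Y, φ y = x → ∀ (hc : IsClosed (φ ⁻¹' ({x} : Set X))),
      ∃ i, y ∈ ((E i).support : Set Y) := by
    intro y hy hc
    let y' : ↥(φ.base ⁻¹' ({x} : Set X)) := ⟨y, hy⟩
    have hZ := irreducibleComponent_mem_irreducibleComponents y'
    have hcl : IsClosed (Subtype.val '' irreducibleComponent y') :=
      hc.isClosedEmbedding_subtypeVal.isClosedMap _ isClosed_irreducibleComponent
    let W : Closeds Y := ⟨_, hcl⟩
    let F := Scheme.IdealSheafData.vanishingIdeal W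
    have hsupp : (F.support : Set Y) = Subtype.val '' irreducibleComponent y' :=
      Scheme.IdealSheafData.coe_support_vanishingIdeal W
    have hdimF : topologicalKrullDim (F.support : Set Y) = 1 := by
      rw [hsupp, ← IsHomeomorph.topologicalKrullDim_eq _
        (Topology.IsEmbedding.subtypeVal.homeomorphImage (irreducibleComponent y')).isHomeomorph]
      exact hcomp _ hZ
    haveI : IsReduced F.subscheme := H75.RedSub.isReduced_vanishingIdeal W
    haveI : IrreducibleSpace F.subscheme := by
      have h1 : IsIrreducible (Set.range F.subschemeι) := by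
        rw [F.range_subschemeι, hsupp]
        exact isIrreducible_irreducibleComponent.image _ continuous_subtype_val.continuousOn
      haveI : IrreducibleSpace ↥(Set.range F.subschemeι) := isIrreducible_iff_irreducibleSpace.mp h1
      exact (irreducibleSpace_def _).2 (by
        have := (IrreducibleSpace.isIrreducible_univ ↥(Set.range F.subschemeι)).image
          F.subschemeι.isClosedEmbedding.isEmbedding.toHomeomorph.symm
          F.subschemeι.isClosedEmbedding.isEmbedding.toHomeomorph.symm.continuous.continuousOn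
        rwa [Set.image_univ, Set.range_eq_univ.2 (Homeomorph.surjective _)] at this)
    haveI : IsIntegral F.subscheme := isIntegral_of_irreducibleSpace_of_isReduced _
    have himg : φ.base '' (F.support : Set Y) = {x} := by
      rw [hsupp]
      refine Set.eq_singleton_iff_unique_mem.mpr ⟨⟨y, ⟨y', mem_irreducibleComponent, rfl⟩, hy⟩, ?_⟩
      rintro _ ⟨_, ⟨z, -, rfl⟩, rfl⟩
      exact z.2
    obtain ⟨i, hi⟩ := hEall F inferInstance hdimF himg
    exact ⟨i, hi ▸ hsupp ▸ ⟨y', mem_irreducibleComponent, rfl⟩⟩
  obtain ⟨y₀, hy₀⟩ := hfne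
  haveI : JacobsonSpace X := LocallyOfFiniteType.jacobsonSpace (X ↘ Spec (CommRingCat.of k))
  have hxU : x ∉ U := by
    intro hxV
    haveI := hisoY
    have hy₀U : φ y₀ ∈ U := by rw [show φ y₀ = x from hy₀]; exact hxV
    haveI : IsIso ((φ ∣_ U).stalkMap ⟨y₀, hy₀U⟩) :=
      ((isIso_iff_isIso_stalkMap (φ ∣_ U)).mp hisoY).2 _
    haveI : IsIso (φ.stalkMap y₀) :=
      ((MorphismProperty.isomorphisms CommRingCat).arrow_mk_iso_iff (morphismRestrictStalkMap φ U ⟨y₀, hy₀U⟩)).mp
        ‹IsIso ((φ ∣_ U).stalkMap ⟨y₀, hy₀U⟩)›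
    haveI := hregY y₀
    exact hx ((show φ y₀ = x from hy₀) ▸
      IsRegularLocalRing.of_ringEquiv (asIso (φ.stalkMap y₀)).commRingCatIsoToRingEquiv.symm)
  have hxc : IsClosed ({x} : Set X) := by
    have hcl : IsClosed (U : Set X)ᶜ := U.isOpen.isClosed_compl
    haveI : Finite ↥(U : Set X)ᶜ := hU
    haveI : JacobsonSpace ↥(U : Set X)ᶜ := JacobsonSpace.of_isClosedEmbedding hcl.isClosedEmbedding_subtypeVal
    have h1 : IsClosed ({⟨x, hxU⟩} : Set ↥(U : Set X)ᶜ) := isClosed_discrete _
    simpa using hcl.isClosedEmbedding_subtypeVal.isClosedMap _ h1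
  have hfib := hxc.preimage φ.continuous
  have hsuppD : ((⨅ i, E i).support : Set Y) = φ ⁻¹' {x} := by
    refine Set.Subset.antisymm (fun y hy => ?_) fun y hy => ?_
    · obtain ⟨i, hi⟩ := SurfUnion.Basic.support_iInf_subset E y hy
      exact hin i hi
    · obtain ⟨i, hi⟩ := hfin y hy hfib
      exact Scheme.IdealSheafData.support_antitone (iInf_le E i) hi
  have hconn : _root_.IsConnected ((⨅ i, E i).support : Set Y) := by rw [hsuppD]; exact hconn0
  haveI : IsClosedImmersion (φ.fiberι x) := IsClosedImmersion.of_isPreimmersion _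
    (by rw [φ.range_fiberι]; exact hfib)
  haveI : Nonempty ↥(φ.fiber x) := ⟨(φ.fiberHomeo x).symm ⟨y₀, hy₀⟩⟩
  have hrange : Set.range (φ.fiberι x) ≠ Set.univ := by
    rw [φ.range_fiberι]
    intro h
    obtain ⟨i, hi⟩ := hfin (genericPoint Y) (h.symm ▸ Set.mem_univ _ : genericPoint Y ∈ φ ⁻¹' {x}) hfib
    have h2 : ((E i).support : Set Y) = Set.univ := Set.univ_subset_iff.mp fun z _ =>
      ((genericPoint_spec Y).specializes (Set.mem_univ z)).mem_closed (E i).support.isClosed hi
    have h3 := hEdim i
    rw [h2, IsHomeomorph.topologicalKrullDim_eq _ (Homeomorph.Set.univ Y).isHomeomorph, hdimY] at h3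
    exact absurd h3 (by decide)
  have hd : topologicalKrullDim ↥(φ.fiber x) ≤ ((1 : ℕ) : WithBot ℕ∞) := by
    have h1 := HypSeq89.topologicalKrullDim_add_one_le (φ.fiberι x) hrange
    rw [hdimY] at h1
    generalize topologicalKrullDim ↥(φ.fiber x) = a at h1 ⊢
    induction a using WithBot.recBotCoe with
    | bot => exact bot_le
    | coe c =>
      have h2 : ((c + 1 : ℕ∞) : WithBot ℕ∞) ≤ ((2 : ℕ∞) : WithBot ℕ∞) := h1
      exact WithBot.coe_le_coe.mpr ((ENat.add_le_add_iff_right (ENat.natCast_ne_top 1)).mp (WithBot.coe_le_coe.mp h2))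
  obtain ⟨V, hxV, hV, hdV⟩ := FibreVanish36.Main.exists_nhd φ x 1 hd
  haveI := Ample.QAffCrit.isQCoh_idealMod (⨅ i, E i)
  haveI := SurfRR.RationalFibre.subsingleton_h1 φ hrat (⨅ i, E i) hV hdV
    (hsuppD.trans_subset fun y (hy : φ y = x) => show φ y ∈ V from hy ▸ hxV)
  have hdD : topologicalKrullDim ↥(⨅ i, E i).subscheme ≤ 1 := by
    rw [SurfInt.Surface.dim_subscheme, hsuppD,
      ← IsHomeomorph.topologicalKrullDim_eq _ (φ.fiberHomeo x).isHomeomorph]
    exact hd
  have hge : 1 ≤ Curv2.euler k Y (ClSub.quotMod (⨅ i, E i)) := by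
    letI := SurfInt.Surface.overSub (k := k) (⨅ i, E i)
    haveI : IsProper ((⨅ i, E i).subscheme ↘ Spec (CommRingCat.of k)) :=
      inferInstanceAs (IsProper ((⨅ i, E i).subschemeι ≫ (Y ↘ Spec (CommRingCat.of k))))
    rw [SurfInt.Surface.euler_quot]
    have hg := Curves.Degree.isGood_structureModule (k := k) hdD
    rw [Curves.Euler.euler_eq hg.vanish]
    simp only [Curves.Euler.hdim, Module.finrank_zero_of_subsingleton, Nat.cast_zero, sub_zero]
    haveI := hg.fin₀
    letI := Curves.GlobalSections.secModule k (Coh.structureModule (⨅ i, E i).subscheme)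
    haveI : Nonempty ↥(⨅ i, E i).subscheme := by
      have : y₀ ∈ Set.range (⨅ i, E i).subschemeι := by
        rw [Scheme.IdealSheafData.range_subschemeι, hsuppD]; exact hy₀
      obtain ⟨z, -⟩ := this
      exact ⟨z⟩
    haveI : Nontrivial Γ((⨅ i, E i).subscheme, ⊤) := ((⨅ i, E i).subscheme.presheaf.germ ⊤
      (Classical.arbitrary _) trivial).hom.domain_nontrivial
    haveI : Nontrivial ↑((Coh.structureModule (⨅ i, E i).subscheme).val.obj (Opposite.op ⊤)) :=
      ‹Nontrivial Γ((⨅ i, E i).subscheme, ⊤)›
    haveI : Nontrivial (Coh.HH (⨅ i, E i).subscheme (Coh.structureModule (⨅ i, E i).subscheme) 0) :=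
      (Curves.GlobalSections.h0Linear k (Coh.structureModule (⨅ i, E i).subscheme)).toEquiv.nontrivial
    exact_mod_cast Module.finrank_pos
  obtain ⟨hle, htree⟩ := S14700.result k Y hdimY hprojY hregY n E hEint hEdim hEinj hconn
  obtain ⟨hchi, hsum⟩ := htree (le_antisymm hle hge)
  refine ⟨fun i => ?_, hsum⟩
  letI := SurfInt.Surface.overSub (k := k) (E i)
  haveI : IsProper ((E i).subscheme ↘ Spec (CommRingCat.of k)) :=
    inferInstanceAs (IsProper ((E i).subschemeι ≫ (Y ↘ Spec (CommRingCat.of k))))
  haveI := hEint i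
  have hdi : topologicalKrullDim ↥(E i).subscheme = 1 :=
    (SurfInt.Surface.dim_subscheme (E i)).trans (hEdim i)
  have h1 := hchi i
  rw [SurfInt.Surface.euler_quot, Curves.Degree.euler_structureModule hdi.le
    (Curves.GlobalSections.finrank_h0_structure k (E i).subscheme)] at h1
  have hg : Curv2.genus k (E i).subscheme = 0 := by omega
  haveI := S14512.result k (E i).subscheme hdi hg
  haveI := SumihiroQP89.geometricallyIntegral_of_irreducible ((E i).subscheme ↘ Spec (CommRingCat.of k))
  obtain ⟨e, -⟩ := Curves.GenusZero.exists_iso_line_algClosed (k := k) hdi hg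
  exact ⟨e⟩

end Groth.Agent.S14701
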