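import Groth.Statements.S14702
import Groth.Agent.S11906
import Groth.Agent.S11310
import Groth.Agent.Lib.Nakai.Dualizing
import Groth.Agent.Lib.ProjSpace.Canonical
import Groth.Agent.Lib.ExtShRestrict
import Groth.Agent.Lib.ExtShTensor
import Groth.Agent.Lib.DerivedOX.RestrictRpush
import Groth.Agent.Lib.AffineCompl.Dim
import Groth.Agent.H95.ExtPowPullQ

set_option autoImplicit false
universe u
open CategoryTheory CategoryTheory.Limits AlgebraicGeometry
open ProjDual

namespace Groth.Agent.S14702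

/-- Let k be an algebraically closed field and X an integral closed subscheme of P^N_k of dimension two
which is a local complete intersection (every local ring is a complete intersection) with only
finitely many non-regular points; let U ⊆ X be the open subset of regular points. Let (ω, t) be a
dualizing sheaf for X: ω coherent, t a k-linear form on H^2(X, ω), and for every coherent F and
every k-linear form ψ on H^2(X, F) there is exactly one φ : F → ω with ψ = t ∘ H^2(φ). Then the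
restriction of ω to U is isomorphic to ω_U, a second exterior power of the sheaf of differentials
Ω_{U/k} (existence of an isomorphism of O_U-modules; the published statement also asserts an unnamed
isomorphism). -/
theorem result (k : Type u) [Field k] [IsAlgClosed k] (N : ℕ)
    (X : Scheme.{u}) [X.Over (Spec (CommRingCat.of k))] [IsIntegral X] (hdim : topologicalKrullDim X = 2)
    (ι : X ⟶ CohB1.ProjSpace N k) [IsClosedImmersion ι] (hι : ι ≫ CohB1.ProjSpace.toSpec N k = X ↘ (Spec (CommRingCat.of k)))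
    (hlci : ∀ x : X, Pi1.IsCompleteIntersection (X.presheaf.stalk x))
    (U : X.Opens) (hUreg : ∀ x : X, x ∈ U ↔ IsRegularLocalRing (X.presheaf.stalk x)) (hU : ((U : Set X)ᶜ).Finite)
    (ω : X.Modules) (hωcoh : Coh.IsCoh ω) (t : Coh.HH X ω 2 →ₗ[k] k)
    (hdual : ∀ F : X.Modules, Coh.IsCoh F → ∀ ψ : Coh.HH X F 2 →ₗ[k] k,
        ∃! φ : F ⟶ ω, ∀ x : Coh.HH X F 2,
          ψ x = t (Sheaf.H.map ((SheafOfModules.toSheaf X.ringCatSheaf).map φ) 2 x))
    (W : (U : Scheme.{u}).Modules) (hW : ExtPow.IsExtPow 2 (Omega.sheaf (U.ι ≫ (X ↘ (Spec (CommRingCat.of k))))) W) :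
    Nonempty ((Scheme.Modules.restrictFunctor U.ι).obj ω ≅ W) := by
  by_cases hUe : IsEmpty (U : Scheme.{u})
  · exact S11906.nonempty_iso_of_isEmpty _ _
  haveI : Nonempty (U : Scheme.{u}) := not_isEmpty_iff.1 hUe
  let g := CohB1.ProjSpace.toSpec N k
  haveI : SmoothOfRelativeDimension N g := inferInstance
  haveI : Smooth g := SmoothOfRelativeDimension.smooth N g
  haveI : IsLocallyNoetherian (CohB1.ProjSpace N k) :=
    Lib.ProjCoh.Coherent.isLocallyNoetherian_projSpace (n := N) (R := k)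
  haveI : LocallyOfFiniteType (X ↘ Spec (CommRingCat.of k)) := hι ▸ inferInstance
  have h2N : 2 ≤ N := by
    have h := ι.isClosedEmbedding.isInducing.topologicalKrullDim_le
    rw [hdim, Lib.ProjSpace.Dim.topologicalKrullDim_projSpace_of_field] at h
    exact_mod_cast h
  -- the dualizing sheaf as an Ext sheaf
  haveI := Lib.ModTensor.ModSite.hasSheafHom (O := (CohB1.ProjSpace N k).sheaf)
    ((Scheme.Modules.pushforward ι).obj (Coh.structureModule X))
  haveI : HasInjectiveResolutions (ModSite.Mod (CohB1.ProjSpace N k).sheaf) :=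
    inferInstanceAs (HasInjectiveResolutions (CohB1.ProjSpace N k).Modules)
  haveI := Lib.ModSS29.ChangeRings.preservesHomology_push ι
  haveI h1 : (Lib.ModSS29.ChangeRings.phi ι (Coh.structureModule X) ⋙ Scheme.Modules.pushforward ι).Additive :=
    inferInstance
  haveI h2 := ModSite.sheafHom_additive (O := (CohB1.ProjSpace N k).sheaf)
    ((Scheme.Modules.pushforward ι).obj (Coh.structureModule X))
  let G := Twist.twistProjSpace N k (-((N : ℤ) + 1))
  let ω' : X.Modules := ((Lib.ModSS29.ChangeRings.phi ι (Coh.structureModule X)).rightDerived (N - 2)).obj G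
  have hω' : Nonempty ((Scheme.Modules.pushforward ι).obj ω' ≅
      (ModSite.extSh (O := (CohB1.ProjSpace N k).sheaf)
        ((Scheme.Modules.pushforward ι).obj (Coh.structureModule X)) (N - 2)).obj G) :=
    ⟨((Lib.ModSS29.DerivedNat.postIso (Lib.ModSS29.ChangeRings.phi ι (Coh.structureModule X))
      (Scheme.Modules.pushforward ι) (N - 2)).app G).symm ≪≫
    @Lib.SpecSeq.Composite.rightDerivedCongr (CohB1.ProjSpace N k).Modules _ _
      (CohB1.ProjSpace N k).Modules _ _ _
      (Lib.ModSS29.ChangeRings.phi ι (Coh.structureModule X) ⋙ Scheme.Modules.pushforward ι)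
      (ModSite.sheafHom (O := (CohB1.ProjSpace N k).sheaf)
        ((Scheme.Modules.pushforward ι).obj (Coh.structureModule X))) h1 h2
      (Lib.ModSS29.ChangeRings.phiPushIso ι (Coh.structureModule X)) (N - 2) G⟩
  obtain ⟨t', ht'⟩ := Lib.ProjDualExt.Dualizing.exists_dualizing ι hι (n := 2) (c := N - 2) (by omega)
    hdim.le ω' hω'
  have hω'coh : Coh.IsCoh ω' := Lib.ProjDualExt.Dualizing.isCoh_omega ι hω'
  -- uniqueness
  obtain ⟨eω⟩ : Nonempty (ω ≅ ω') := by
    obtain ⟨φ, hφ, -⟩ := ht' ω hωcoh t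
    obtain ⟨ψ, hψ, -⟩ := hdual ω' hω'coh t'
    refine ⟨⟨φ, ψ, ?_, ?_⟩⟩
    · obtain ⟨χ, -, hu⟩ := hdual ω hωcoh t
      exact (hu (φ ≫ ψ) fun x => (hφ x).trans ((hψ _).trans
        (congrArg t (LinearMap.congr_fun (Lib.Curves.LES.mapK_comp k φ ψ 2) x).symm))).trans
        (hu (𝟙 ω) fun x => (congrArg t (LinearMap.congr_fun (Lib.Curves.LES.mapK_id k ω 2) x)).symm).symm
    · obtain ⟨χ, -, hu⟩ := ht' ω' hω'coh t'
      exact (hu (ψ ≫ φ) fun x => (hψ x).trans ((hφ _).trans
        (congrArg t' (LinearMap.congr_fun (Lib.Curves.LES.mapK_comp k ψ φ 2) x).symm))).trans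
        (hu (𝟙 ω') fun x => (congrArg t' (LinearMap.congr_fun (Lib.Curves.LES.mapK_id k ω' 2) x)).symm).symm
  -- the open subscheme of projective space
  obtain ⟨V₀, hV₀, hVU⟩ := ι.isClosedEmbedding.isInducing.isOpen_iff.1 U.2
  let V : (CohB1.ProjSpace N k).Opens := ⟨V₀, hV₀⟩
  obtain rfl : U = ι ⁻¹ᵁ V := TopologicalSpace.Opens.ext hVU.symm
  let j := ι ∣_ V
  haveI : IsClosedImmersion j := inferInstance
  haveI : SmoothOfRelativeDimension N (V.ι ≫ g) := by
    have h : SmoothOfRelativeDimension (0 + N) (V.ι ≫ g) := inferInstance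
    rwa [zero_add] at h
  haveI : Smooth (V.ι ≫ g) := SmoothOfRelativeDimension.smooth N (V.ι ≫ g)
  have hjg : j ≫ V.ι ≫ g = (ι ⁻¹ᵁ V).ι ≫ (X ↘ Spec (CommRingCat.of k)) := by
    rw [← Category.assoc, morphismRestrict_ι, Category.assoc, hι]
  haveI : IsIntegral (ι ⁻¹ᵁ V : Scheme.{u}) := isIntegral_of_isOpenImmersion (ι ⁻¹ᵁ V).ι
  haveI : LocallyOfFiniteType ((ι ⁻¹ᵁ V).ι ≫ (X ↘ Spec (CommRingCat.of k))) := inferInstance
  haveI hUs : SmoothOfRelativeDimension 2 ((ι ⁻¹ᵁ V).ι ≫ (X ↘ Spec (CommRingCat.of k))) := by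
    refine S11310.smoothOfRelativeDimension_of_regular _ (fun x => ?_) 2
      ((Lib.AffineCompl.Dim.topologicalKrullDim_opens (X ↘ Spec (CommRingCat.of k)) (ι ⁻¹ᵁ V)).trans hdim)
    haveI := (hUreg x.1).1 x.2
    exact IsRegularLocalRing.of_ringEquiv ((ι ⁻¹ᵁ V).stalkIso x).symm.commRingCatIsoToRingEquiv
  have hG := Lib.Kaehler.DOmega.isUniversal_dOmega g
  obtain ⟨α, hα, -⟩ := Lib.Kaehler.Basic.existsUnique_diffCompat (h := V.ι) (b := 𝟙 _)
    (Category.comp_id (V.ι ≫ g)) hG (OmegaSh.dOmega (V.ι ≫ g))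
  haveI : IsIso α := Lib.Kaehler.BaseChange.isIso_of_etale (Category.comp_id (V.ι ≫ g)) hG
    (Lib.Kaehler.DOmega.isUniversal_dOmega (V.ι ≫ g)) α hα
  haveI : (Omega.sheaf g).IsQuasicoherent := Lib.Kaehler.Finite.isQuasicoherent hG
  obtain ⟨ΩP, hΩP⟩ := Lib.FundLocal.ExtPowExists.exists_isExtPow (Omega.sheaf g) N
  obtain ⟨w⟩ := Lib.ProjSpace.Canonical.nonempty_iso N k ΩP hΩP
  have hΩV := H95.ExtPowPullQ.isExtPow_pullback V.ι hΩP (asIso α)
  haveI := Lib.ModTensor.ModSite.hasSheafHom (O := (V : Scheme.{u}).sheaf)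
    ((Scheme.Modules.pushforward j).obj (Coh.structureModule _))
  haveI := Lib.ModTensor.ModSite.hasSheafHom (O := (V : Scheme.{u}).sheaf)
    (((Scheme.Modules.pushforward ι).obj (Coh.structureModule X)).restrict V.ι)
  haveI : HasInjectiveResolutions (ModSite.Mod (V : Scheme.{u}).sheaf) :=
    inferInstanceAs (HasInjectiveResolutions (V : Scheme.{u}).Modules)
  obtain ⟨e₁⟩ := S11906.result _ (V : Scheme.{u}) _ (V.ι ≫ g) _ j hjg N 2 _ hΩV W hW
  obtain ⟨e₂⟩ := Lib.ExtShRestrict.nonempty_ext_restrict V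
    ((Scheme.Modules.pushforward ι).obj (Coh.structureModule X)) G (N - 2)
  let eO : ((Scheme.Modules.pushforward ι).obj (Coh.structureModule X)).restrict V.ι ≅
      (Scheme.Modules.pushforward j).obj (Coh.structureModule _) :=
    (Lib.DerivedOX.RestrictRpush.pushRestrictIso ι V).app (Coh.structureModule X) ≪≫
      (Scheme.Modules.pushforward j).mapIso
        ((Scheme.Modules.restrictFunctorIsoPullback (ι ⁻¹ᵁ V).ι).app _ ≪≫ PicLoc.pullbackStructureIso _)
  obtain ⟨e₃⟩ := Lib.ExtShTensor.nonempty_ext_congr eO (G.restrict V.ι) (N - 2)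
  let e : (Scheme.Modules.pushforward j).obj ((Scheme.Modules.restrictFunctor (ι ⁻¹ᵁ V).ι).obj ω') ≅
      (Scheme.Modules.pushforward j).obj W :=
    ((Lib.DerivedOX.RestrictRpush.pushRestrictIso ι V).app ω').symm ≪≫
      (Scheme.Modules.restrictFunctor V.ι).mapIso hω'.some ≪≫ e₂ ≪≫ e₃ ≪≫
      (ModSite.extSh (O := (V : Scheme.{u}).sheaf) _ (N - 2)).mapIso
        ((Scheme.Modules.restrictFunctorIsoPullback V.ι).app G ≪≫
          (Scheme.Modules.pullback V.ι).mapIso w.symm) ≪≫ e₁.symm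
  haveI := Lib.Cyc.Dev.SchemeCase.isIso_counit j ((Scheme.Modules.restrictFunctor (ι ⁻¹ᵁ V).ι).obj ω')
  haveI := Lib.Cyc.Dev.SchemeCase.isIso_counit j W
  exact ⟨(Scheme.Modules.restrictFunctor (ι ⁻¹ᵁ V).ι).mapIso eω ≪≫
    (asIso ((Scheme.Modules.pullbackPushforwardAdjunction j).counit.app
      ((Scheme.Modules.restrictFunctor (ι ⁻¹ᵁ V).ι).obj ω'))).symm ≪≫
    (Scheme.Modules.pullback j).mapIso e ≪≫
    asIso ((Scheme.Modules.pullbackPushforwardAdjunction j).counit.app W)⟩

end Groth.Agent.S14702
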