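import Groth.Statements.S14703
import Groth.Agent.Lib.SurfRR.Transform

set_option autoImplicit false
set_option linter.style.haveILetI false
universe u
open CategoryTheory CategoryTheory.Limits AlgebraicGeometry
open Surf
open Groth.Agent.Lib Groth.Agent.Lib.SurfRR

namespace Groth.Agent.S14703

/-- Let k be an algebraically closed field, X an integral scheme of dimension two admitting a closed
immersion into some P^n_k over k, and U ⊆ X open with finite complement. Let φ : Y → X be a
k-morphism from an integral scheme of dimension two with all local rings regular, itself admitting a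
closed immersion into some projective space over k, restricting to an isomorphism over U; let μ_1,
…, μ_s be distinct integral one-dimensional closed subschemes of Y, each mapped to a point, such
that every integral one-dimensional closed subscheme of Y mapped to a point has the support of one
of them. Let D be an effective Cartier divisor on X (an ideal sheaf I_D locally generated by one
nonzerodivisor) and D̃ an effective Cartier divisor on Y whose support contains no μ_j and whose
ideal agrees with the inverse-image ideal φ⁻¹I_D · O_Y on every affine open contained in φ⁻¹(U) —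
the strict transform of D. Then there are natural numbers γ_1, …, γ_s such that φ⁻¹I_D · O_Y =
I_{D̃} · ∏_j I_{μ_j}^{γ_j} (the total transform is the strict transform plus Σ γ_j μ_j) and Σ_j (μ_i
· μ_j) γ_j = -(D̃ · μ_i) for every i (the total transform meets every μ_i with intersection number
zero), where (A · B) = χ(O_Y) - χ(I_A) - χ(I_B) + χ(I_A ⊗ I_B) (packaged as FGA.intNum). (The
published statement writes the coefficient vector as γ = -d⁻¹ (D̃ · μ), with d = (μ_i · μ_j), for a
locally principal divisor on a normal surface and a resolution that is an isomorphism exactly off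
the singular points with exceptional fibres of pure dimension one; this row states the linear system
d γ = -(D̃ · μ), for effective Cartier divisors, any resolution that is an isomorphism over an open
subset with finite complement, and X not assumed normal.) -/
theorem result (k : Type u) [Field k] [IsAlgClosed k] (X : Scheme.{u}) [X.Over (Spec (CommRingCat.of k))]
    [IsIntegral X] (hdim : topologicalKrullDim X = 2)
    (hproj : ∃ (n : ℕ) (ι : X ⟶ CohB1.ProjSpace n k), IsClosedImmersion ι ∧ ι ≫ CohB1.ProjSpace.toSpec n k = (X ↘ (Spec (CommRingCat.of k))))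
    (U : X.Opens) (hU : ((U : Set X)ᶜ).Finite)
    (Y : Scheme.{u}) (φ : Y ⟶ X) [IsIntegral Y] (hdimY : topologicalKrullDim Y = 2)
    (hregY : ∀ y : Y, IsRegularLocalRing (Y.presheaf.stalk y))
    (hprojY : ∃ (n : ℕ) (ι : Y ⟶ CohB1.ProjSpace n k), IsClosedImmersion ι ∧ ι ≫ CohB1.ProjSpace.toSpec n k = φ ≫ (X ↘ (Spec (CommRingCat.of k))))
    (hiso : IsIso (φ ∣_ U))
    (s : ℕ) (μ : Fin s → Y.IdealSheafData) (hμint : ∀ j, IsIntegral (μ j).subscheme)
    (hμdim : ∀ j, topologicalKrullDim ((μ j).support : Set Y) = 1)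
    (hμpt : ∀ j, ∃ x : X, φ.base '' ((μ j).support : Set Y) = {x})
    (hμinj : Function.Injective fun j => ((μ j).support : Set Y))
    (hμall : ∀ E : Y.IdealSheafData, IsIntegral E.subscheme → topologicalKrullDim (E.support : Set Y) = 1 →
      (∃ x : X, φ.base '' (E.support : Set Y) = {x}) → ∃ j, (E.support : Set Y) = (μ j).support)
    (D : X.IdealSheafData) (hD : FGA.IsEffCartier D) (Dt : Y.IdealSheafData) (hDt : FGA.IsEffCartier Dt)
    (hDtexc : ∀ j, ¬ ((μ j).support : Set Y) ⊆ Dt.support)
    (hDtU : ∀ W : Y.affineOpens, (W : Y.Opens) ≤ φ ⁻¹ᵁ U → Dt.ideal W = (D.comap φ).ideal W) :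
    letI : Y.Over (Spec (CommRingCat.of k)) := ⟨φ ≫ (X ↘ (Spec (CommRingCat.of k)))⟩
    ∃ γ : Fin s → ℕ, D.comap φ = Dt * ∏ j : Fin s, μ j ^ γ j ∧
      ∀ i : Fin s, (∑ j : Fin s, FGA.intNum k Y 2 ![ClSub.idealMod (μ i), ClSub.idealMod (μ j)] (Coh.structureModule Y) * (γ j : ℤ)) =
        - FGA.intNum k Y 2 ![ClSub.idealMod Dt, ClSub.idealMod (μ i)] (Coh.structureModule Y) := by
  letI : Y.Over (Spec (CommRingCat.of k)) := ⟨φ ≫ (X ↘ (Spec (CommRingCat.of k)))⟩
  classical
  obtain ⟨n, ι, hc, hι⟩ := hproj
  haveI := hc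
  haveI : IsProper (X ↘ Spec (CommRingCat.of k)) := by rw [← hι]; infer_instance
  haveI : IsProper (Y ↘ Spec (CommRingCat.of k)) := by
    obtain ⟨m, j, hj, hjc⟩ := hprojY
    haveI := hj
    change IsProper (φ ≫ (X ↘ Spec (CommRingCat.of k)))
    rw [← hjc]; infer_instance
  haveI : SmoothOfRelativeDimension 2 (Y ↘ Spec (CommRingCat.of k)) :=
    SurfRR.Regular.smoothOfRelativeDimension_two hdimY hregY
  haveI : Smooth (Y ↘ Spec (CommRingCat.of k)) :=
    SmoothOfRelativeDimension.smooth 2 (Y ↘ Spec (CommRingCat.of k))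
  haveI : IsLocallyNoetherian Y :=
    LocallyOfFiniteType.isLocallyNoetherian (Y ↘ Spec (CommRingCat.of k))
  haveI : CompactSpace Y := QuasiCompact.compactSpace_of_compactSpace (Y ↘ Spec (CommRingCat.of k))
  haveI : AlgebraicGeometry.IsNoetherian Y := {}
  haveI : JacobsonSpace X := LocallyOfFiniteType.jacobsonSpace (X ↘ Spec (CommRingCat.of k))
  haveI := hiso
  have hη : genericPoint X ∈ U := by
    by_contra hη
    have hall : (U : Set X)ᶜ = Set.univ :=
      Set.eq_univ_of_forall fun x hx => hη ((genericPoint_specializes x).mem_open U.isOpen hx)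
    haveI : Finite X := Set.finite_univ_iff.1 (hall ▸ hU)
    have h0 := topologicalKrullDim_zero_of_discreteTopology X
    rw [hdim] at h0
    exact absurd h0 (by decide)
  set O : Y.Opens := φ ⁻¹ᵁ U
  -- curves with generic point over the finite set are contracted
  have hexc : ∀ (E : Y.IdealSheafData) [IsIntegral E.subscheme],
      topologicalKrullDim (E.support : Set Y) = 1 → Ideal.Prime.gen E ∉ O → ∃ j, E = μ j := by
    intro E _ hEd hgen
    have hcl := Transform.isClosed_singleton_of_mem_finite U.isOpen.isClosed_compl hU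
      (show φ (Ideal.Prime.gen E) ∈ (U : Set X)ᶜ from hgen)
    have himg : φ.base '' (E.support : Set Y) = {φ (Ideal.Prime.gen E)} := by
      refine Set.Subset.antisymm ?_
        (Set.singleton_subset_iff.2 ⟨_, Ideal.Prime.gen_mem E, rfl⟩)
      rintro _ ⟨z, hz, rfl⟩
      exact ((Ideal.Prime.gen_specializes E hz).map φ.continuous).mem_closed hcl rfl
    obtain ⟨j, hj⟩ := hμall E inferInstance hEd ⟨_, himg⟩
    haveI := hμint j
    exact ⟨j, Transform.eq_of_support_eq E (μ j) hj⟩
  -- the total transform
  have hgerm := fun (V : X.affineOpens) (t : Γ(X, V.1)) (ht : t ∈ nonZeroDivisors Γ(X, V.1))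
    (_ : D.ideal V = _root_.Ideal.span {t}) => Resolution.germ_app_mem_nonZeroDivisors φ U hη V t ht
  have hDc : BlowUp.IsEffCartierIdeal (D.comap φ) := Ideal.EffCartier.isEffCartier_comap φ hD hgerm
  have hagree : ∀ y ∈ O, Ideal.Prime.stalkIdeal (D.comap φ) y = Ideal.Prime.stalkIdeal Dt y := by
    intro y hy
    obtain ⟨W, hW, hyW, hle⟩ := exists_isAffineOpen_mem_and_subset hy
    rw [Ideal.Prime.stalkIdeal_eq _ ⟨W, hW⟩ hyW, Ideal.Prime.stalkIdeal_eq Dt ⟨W, hW⟩ hyW,
      hDtU ⟨W, hW⟩ hle]
  obtain ⟨G, hG, hGeq, hGO⟩ := Transform.exists_residual_off (k := k) hdimY O hDt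
    (fun E _ hEd hsub => by
      by_contra hgen
      obtain ⟨j, rfl⟩ := hexc E hEd hgen
      exact hDtexc j hsub) hDc hagree
  obtain ⟨γ, hγ, hnum⟩ := Transform.exists_pow_decomp (k := k) hdimY μ hG
    fun E _ hEd hsub => hexc E hEd fun hgen => hGO _ hgen (hsub (Ideal.Prime.gen_mem E))
  refine ⟨γ, by rw [hGeq, hγ], fun i => ?_⟩
  haveI := hμint i
  have hI := SurfInt.Effective.isInvertible_idealMod (Fundamental.isEff (k := k) hdimY (hμdim i))
  -- the total transform is principal along `μ i`
  have hzero : FGA.intNum k Y 2 ![_root_.ClSub.idealMod (D.comap φ), _root_.ClSub.idealMod (μ i)]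
      (Coh.structureModule Y) = 0 := by
    obtain ⟨x, hx⟩ := hμpt i
    obtain ⟨V, hxV, e, he, hDV⟩ := hD x
    have hsub : ((μ i).support : Set Y) ⊆ (φ ⁻¹ᵁ V.1 : Y.Opens) := fun y hy => by
      have : φ y = x := hx.le ⟨y, hy, rfl⟩
      change φ y ∈ V.1
      rw [this]; exact hxV
    refine Transform.intNum_eq_zero_of_principal (k := k) hdimY (μ i) (hμdim i) hDc (φ.app V.1 e)
      (fun h0 => ?_) hsub fun y _ hyW => ?_
    · have hgi := hsub (Ideal.Prime.gen_mem (μ i))
      have := hgerm V e he hDV _ hgi
      rw [h0, map_zero] at this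
      exact nonZeroDivisors.ne_zero this rfl
    · rw [CartierDescent.stalkIdeal_comap, Ideal.Prime.stalkIdeal_eq D V (show φ y ∈ V.1 from hyW),
        hDV, _root_.Ideal.map_span, Set.image_singleton, _root_.Ideal.map_span, Set.image_singleton]
      exact congrArg (fun c => _root_.Ideal.span {c})
        (Scheme.Hom.germ_stalkMap_apply φ V.1 y hyW e)
  rw [hGeq, SurfInt.NegDef.intNum_mul (Snapper.Finite.cohFinite k Y) hdimY hDt hG hI, hnum _ hI]
    at hzero
  have hsum : ∑ j : Fin s, FGA.intNum k Y 2 ![_root_.ClSub.idealMod (μ i), _root_.ClSub.idealMod (μ j)]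
      (Coh.structureModule Y) * (γ j : ℤ) =
      ∑ j : Fin s, (γ j : ℤ) * FGA.intNum k Y 2 ![_root_.ClSub.idealMod (μ j), _root_.ClSub.idealMod (μ i)]
        (Coh.structureModule Y) :=
    Finset.sum_congr rfl fun j _ => by rw [mul_comm, Snapper.IntNum.intNum_pair_comm]
  linarith

end Groth.Agent.S14703
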