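import Groth.Statements.S1471
import Groth.Agent.H56.SpecStalk
import Mathlib.AlgebraicGeometry.Fiber
import Mathlib.AlgebraicGeometry.Morphisms.ClosedImmersion
import Mathlib.AlgebraicGeometry.PullbackCarrier

set_option autoImplicit false
universe u
open FlatMor

namespace Groth.Agent.S1471

set_option backward.isDefEq.respectTransparency.types false in
open AlgebraicGeometry CategoryTheory Limits in
/-- Let f : X → Y and η a generic point of an irreducible component of Y. Then the fibre over η of the
composite X_red → X → Y is reduced; since it is a closed subscheme of X_η with the same underlying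
set, this says (X_η)_red = (X_red)_η. -/
theorem result {X Y : Scheme.{u}} (f : X ⟶ Y) (η : Y) (W : Set ↑Y) (hW : W ∈ irreducibleComponents ↑Y) (hη : IsGenericPoint η W) :
    IsReduced ((X.nilradical.subschemeι ≫ f).fiber η) := by
  let g := X.nilradical.subschemeι ≫ f
  have : IsReduced X.nilradical.subscheme := by
    have : ∀ z : X.nilradical.subscheme,
        _root_.IsReduced (X.nilradical.subscheme.presheaf.stalk z) := by
      intro z
      obtain ⟨i, y, rfl⟩ := X.nilradical.subschemeCover.openCover.exists_eq z
      have : _root_.IsReduced (Γ(X, (i : X.affineOpens).1) ⧸ X.nilradical.ideal i) :=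
        (Ideal.isRadical_iff_quotient_reduced _).mp
          (show (X.nilradical.ideal i).IsRadical from
            by simpa [Scheme.nilradical] using Ideal.radical_isRadical _)
      have : IsReduced (X.nilradical.subschemeCover.openCover.X i) :=
        inferInstanceAs (IsReduced (Spec (.of (Γ(X, (i : X.affineOpens).1) ⧸ X.nilradical.ideal i))))
      exact isReduced_of_injective _ (asIso ((X.nilradical.subschemeCover.openCover.f i).stalkMap y)
        ).commRingCatIsoToRingEquiv.injective
    exact isReduced_of_isReduced_stalk _
  have hpt : ∀ p : Spec (Y.presheaf.stalk η), p = IsLocalRing.closedPoint _ := by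
    intro p
    refine (Y.fromSpecStalk η).isEmbedding.injective ?_
    rw [Scheme.fromSpecStalk_closedPoint]
    have h1 : Y.fromSpecStalk η p ⤳ η := by
      have := Scheme.range_fromSpecStalk (X := Y) (x := η) ▸ Set.mem_range_self p
      exact this
    set y := Y.fromSpecStalk η p
    have hsub : W ⊆ closure {y} := by
      rw [← hη.def]; exact h1.closure_subset
    have heq : closure {y} = W :=
      (hW.le_of_ge isIrreducible_singleton.closure hsub).antisymm hsub
    exact (h1.antisymm (hη.specializes (heq ▸ subset_closure rfl))).eq
  have : Surjective (Spec.map (Y.residue η)) :=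
    ⟨fun p => ⟨IsLocalRing.closedPoint _, ((hpt _).trans (hpt p).symm)⟩⟩
  have : IsClosedImmersion (Spec.map (Y.residue η)) :=
    IsClosedImmersion.spec_of_surjective _ (Y.residue_surjective η)
  let M := pullback g (Y.fromSpecStalk η)
  have : Flat (pullback.fst g (Y.fromSpecStalk η)) :=
    MorphismProperty.of_isPullback (IsPullback.of_hasPullback g (Y.fromSpecStalk η)).flip inferInstance
  have : IsPreimmersion (pullback.fst g (Y.fromSpecStalk η)) :=
    MorphismProperty.of_isPullback (IsPullback.of_hasPullback g (Y.fromSpecStalk η)).flip inferInstance
  have : IsReduced M := H56.SpecStalk.isReduced_of_flat_preimmersion (pullback.fst g (Y.fromSpecStalk η))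
  have hsnd : IsClosedImmersion (pullback.fst (pullback.snd g (Y.fromSpecStalk η))
      (Spec.map (Y.residue η))) := MorphismProperty.of_isPullback (IsPullback.of_hasPullback (pullback.snd g (Y.fromSpecStalk η)) (Spec.map (Y.residue η))).flip inferInstance
  have hsur : Surjective (pullback.fst (pullback.snd g (Y.fromSpecStalk η))
      (Spec.map (Y.residue η))) := MorphismProperty.of_isPullback (IsPullback.of_hasPullback (pullback.snd g (Y.fromSpecStalk η)) (Spec.map (Y.residue η))).flip inferInstance
  have := isIso_of_isClosedImmersion_of_surjective
    (pullback.fst (pullback.snd g (Y.fromSpecStalk η)) (Spec.map (Y.residue η)))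
  have : IsReduced (pullback (pullback.snd g (Y.fromSpecStalk η)) (Spec.map (Y.residue η))) :=
    isReduced_of_isOpenImmersion
      (pullback.fst (pullback.snd g (Y.fromSpecStalk η)) (Spec.map (Y.residue η)))
  let e := ((IsPullback.of_hasPullback (pullback.snd g (Y.fromSpecStalk η)) (Spec.map (Y.residue η))).flip.paste_vert
      (IsPullback.of_hasPullback g (Y.fromSpecStalk η)).flip)
  have hfs : g.fiber η = pullback g (Spec.map (Y.residue η) ≫ Y.fromSpecStalk η) := rfl
  rw [show (X.nilradical.subschemeι ≫ f).fiber η =
    pullback g (Spec.map (Y.residue η) ≫ Y.fromSpecStalk η) from hfs]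
  exact isReduced_of_isOpenImmersion e.flip.isoPullback.inv

end Groth.Agent.S1471
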