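import Groth.Statements.S14712
import Groth.Agent.H60.LinUniq.Main
import Groth.Agent.H60.LinUniq.Total
-- import your own Groth.Agent.* helpers here

set_option autoImplicit false
universe u
open CategoryTheory MonoidalCategory CartesianMonoidalCategory MonObj GrpObj AlgebraicGeometry Topology
open GIT

namespace Groth.Agent.S14712

/-- Over an algebraically closed field k, let G be a connected algebraic group (a smooth connected group
scheme of finite type) admitting no non-trivial homomorphism to the multiplicative group, acting on
a reduced scheme X of finite type over k (not necessarily separated), and let π : V → X be a line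
bundle over X in total-space form (an affine morphism with a linear atlas of fibre coordinates).
Then any two liftings of the action to fibrewise-linear bundle actions of G on V coincide: an
invertible sheaf on X admits at most one G-linearisation. (The published statement is over an
arbitrary field, with X geometrically reduced and the character condition imposed after extension to
an algebraically closed field; this row is the case of an algebraically closed ground field, to
which the published proof reduces. L is taken in total-space form: a linearisation is a lifted
bundle action.) -/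
theorem result (k : Type u) [Field k] [IsAlgClosed k]
    (G X V : Over (Spec (CommRingCat.of k))) [GrpObj G]
    [Smooth G.hom] [LocallyOfFiniteType G.hom] [QuasiCompact G.hom] [ConnectedSpace G.left]
    (hχ : ∀ (χ : G ⟶ Red.Gm (Spec (CommRingCat.of k))) [IsMonHom χ], χ = 1)
    [LocallyOfFiniteType X.hom] [QuasiCompact X.hom] [IsReduced X.left]
    (a : AlgGrp.Action G X) (π : V ⟶ X) (A : GLinSh.LinAtlas π)
    (Φ₁ Φ₂ : AlgGrp.Action G V) (h₁ : Φ₁.act ≫ π = (G ◁ π) ≫ a.act) (h₂ : Φ₂.act ≫ π = (G ◁ π) ≫ a.act)
    (hl₁ : GLinSh.IsLinearLift a π Φ₁ A.chart h₁) (hl₂ : GLinSh.IsLinearLift a π Φ₂ A.chart h₂) :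
    Φ₁.act = Φ₂.act := by
  haveI : IsAffineHom π.left := A.affine
  haveI : LocallyOfFiniteType V.hom := H60.LinUniq.lft_total A
  haveI : IsReduced V.left := H60.LinUniq.isReduced_total A
  haveI : IsReduced G.left := H60.LinUniq.isReduced_of_smooth_over G.hom
  haveI : IsReduced (G ⊗ V).left := Lib.GrpQ.RedSubgroup.isReduced_prod G V
  haveI : LocallyOfFiniteType (G ⊗ V).hom := by
    show LocallyOfFiniteType (Limits.pullback.fst G.hom V.hom ≫ G.hom)
    infer_instance
  refine H60.LinUniq.ext_over π _ _ (h₁.trans h₂.symm) fun p => ?_
  have e : p = lift (p ≫ fst G V) (p ≫ snd G V) := by rw [← comp_lift, lift_fst_snd, Category.comp_id]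
  rw [e]
  exact H60.LinUniq.act_point_eq A hχ h₁ h₂ hl₁ hl₂ _ _

end Groth.Agent.S14712
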