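import Groth.Statements.S14713
import Groth.Agent.H60.LinB.Cover
import Groth.Agent.H60.LinB.Loci
import Groth.Agent.H60.GlueQ.Sep
import Groth.Agent.H60.GlueQ.Line
-- import your own Groth.Agent.* helpers here

set_option autoImplicit false
universe u
open CategoryTheory MonoidalCategory CartesianMonoidalCategory MonObj GrpObj AlgebraicGeometry Topology
open GIT

namespace Groth.Agent.S14713

/-- Let k be a field of characteristic zero, G a connected reductive algebraic group over k (affine,
smooth, with connected reductive geometric fibre) acting by σ on a finite-type k-scheme X (not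
necessarily separated), and L a G-linearised line bundle on X, taken in total-space form (a line
bundle V → X with a linear atlas and a fibrewise-linear lifting of the action; sections of L^n are
the weight-n functions on V, invariant sections those fixed by the lifted action, X_s the locus over
which s does not vanish identically on the fibre). Let U = X^ss(L) be the open set of semi-stable
points (those x admitting an invariant section s of some L^n, n ≥ 1, with s(x) ≠ 0 and X_s affine),
with the action restricted to U. Then a uniform categorical quotient (Y, φ) of U by G exists; φ is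
affine and universally submersive; and Y is separated, of finite type over k and carries an ample
invertible sheaf, so that Y is a quasi-projective scheme. (The published statement also identifies
the pull-back of that ample sheaf with a power of L; this identification is not expressed here. The
published statement is for any reductive G in any characteristic; this row is the
characteristic-zero case with G connected. L is taken in total-space form.) -/
theorem result (k : Type u) [Field k] [CharZero k]
    (G X : Over (Spec (CommRingCat.of k))) [GrpObj G] (hG : Red.IsReductive G)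
    [LocallyOfFiniteType X.hom] [QuasiCompact X.hom]
    (a : AlgGrp.Action G X) (B : GLinSh.LinBun G a)
    (U : X.left.Opens) (hU : (U : Set X.left) = B.ssLocus)
    (aU : AlgGrp.Action G (Over.mk (U.ι ≫ X.hom)))
    (jU : Over.mk (U.ι ≫ X.hom) ⟶ X) (hjU : jU.left = U.ι)
    (haU : aU.act ≫ jU = (G ◁ jU) ≫ a.act) :
    ∃ (Y : Over (Spec (CommRingCat.of k))) (φ : Over.mk (U.ι ≫ X.hom) ⟶ Y),
      GIT.IsUnifCatQuot aU φ ∧ IsAffineHom φ.left ∧ GIT.IsUnivSubmersive φ.left ∧
      IsSeparated Y.hom ∧ LocallyOfFiniteType Y.hom ∧
      ∃ M : Y.left.Modules, CohB1.IsAmple M := by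
  obtain ⟨c⟩ := Groth.Agent.H60.LinB.exists_cover B (Groth.Agent.H60.LinB.LocProp.triv a) U fun x hx => by
    have hx' : x ∈ B.ssLocus := hU ▸ (show x ∈ (U : Set X.left) from hx)
    obtain ⟨n, f, hf, hmem⟩ := (Groth.Agent.H60.LinB.isSemistablePt_iff B x).1 hx'
    refine ⟨n, f, hf, hmem, ?_⟩
    rw [hU]
    exact fun z hz => (Groth.Agent.H60.LinB.isSemistablePt_iff B z).2 ⟨n, f, hf, hz⟩
  obtain ⟨D, e, -⟩ := c.exists_datum hG aU jU hjU haU
  haveI : Finite D.J := haveI := c.fin; Finite.of_equiv c.J e.symm
  haveI : LocallyOfFiniteType (Groth.Agent.H60.GlueQ.sub U).hom :=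
    inferInstanceAs (LocallyOfFiniteType (U.ι ≫ X.hom))
  exact ⟨D.Y, D.φ, D.isUnifCatQuot, D.isAffineHom, D.isUnivSubmersive, D.isSeparated, D.locallyOfFiniteType,
    D.exists_isAmple⟩

end Groth.Agent.S14713
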