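import Groth.Statements.S14715
import Groth.Agent.H60.OrbDim.Regular
import Groth.Agent.S14713
import Groth.Agent.H60.ProperAct.PsLocus
-- import your own Groth.Agent.* helpers here

set_option autoImplicit false
universe u
open CategoryTheory MonoidalCategory CartesianMonoidalCategory MonObj GrpObj AlgebraicGeometry Topology
open GIT

namespace Groth.Agent.S14715

/-- Let k be a field of characteristic zero, G a connected reductive algebraic group over k (affine,
smooth, with connected reductive geometric fibre) acting by σ on a finite-type k-scheme X (not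
necessarily separated), and L a G-linearised line bundle on X, taken in total-space form (a line
bundle V → X with a linear atlas and a fibrewise-linear lifting of the action; sections of L^n are
the weight-n functions on V, invariant sections those fixed by the lifted action, X_s the locus over
which s does not vanish identically on the fibre). Let U = X^ss(L) be the open set of semi-stable
points and let x be a stable point of X (some invariant section s of some L^n, n ≥ 1, has s(x) ≠ 0
with X_s affine and the action of G on X_s closed; no condition on stabilisers). Then x is regular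
for the action (the dimension of the stabiliser group scheme of a point, computed at the point of X
with values in its residue field, is constant on a neighbourhood of x), and for every algebraically
closed field Ω and every Ω-valued point of X over x, the orbit of that point is closed in U ×_k Spec
Ω. (The published statement is for any reductive G in any characteristic; this row is the
characteristic-zero case with G connected. L is taken in total-space form.) -/
theorem result (k : Type u) [Field k] [CharZero k]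
    (G X : Over (Spec (CommRingCat.of k))) [GrpObj G] (hG : Red.IsReductive G)
    [LocallyOfFiniteType X.hom] [QuasiCompact X.hom]
    (a : AlgGrp.Action G X) (B : GLinSh.LinBun G a)
    (U : X.left.Opens) (hU : (U : Set X.left) = B.ssLocus) (x : X.left) (hx : B.IsStablePt x) :
    (∃ W : X.left.Opens, x ∈ W ∧ ∀ y ∈ W,
          topologicalKrullDim (GLinSh.stab a (Over.homMk (X.left.fromSpecResidueField y) rfl :
              Over.mk (X.left.fromSpecResidueField y ≫ X.hom) ⟶ X)) =
            topologicalKrullDim (GLinSh.stab a (Over.homMk (X.left.fromSpecResidueField x) rfl :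
              Over.mk (X.left.fromSpecResidueField x ≫ X.hom) ⟶ X))) ∧
      ∀ (Ω : Type u) [Field Ω] [IsAlgClosed Ω] (T : Over (Spec (CommRingCat.of k)))
        (_ : T.left ≅ Spec (CommRingCat.of Ω)) (f : T ⟶ X), Set.range f.left.base = {x} →
          IsClosed ((fun p : (fst X T).left ⁻¹ᵁ U => (p : (X ⊗ T).left)) ⁻¹' Set.range (GIT.psi a f).left.base) := by
  open Groth.Agent.H60.GlueQ Groth.Agent.H60.LinB in
  haveI hGaff : IsAffineHom G.hom := hG.1
  haveI : IsAffine G.left := isAffine_of_isAffineHom G.hom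
  haveI : Smooth G.hom := hG.2.1
  have hconn := H60.OrbDim.connectedSpace_of_isReductive hG
  haveI : IsLocallyNoetherian X.left := LocallyOfFiniteType.isLocallyNoetherian X.hom
  haveI : CompactSpace X.left := QuasiCompact.compactSpace_of_compactSpace X.hom
  haveI : IsNoetherian X.left := {}
  let Us : X.left.Opens := ⨆ q : {q : ℕ × Γ(B.V.left, ⊤) //
    H60.LinB.Good B (H60.LinB.LocProp.closed a) q.1 q.2}, H60.LinB.Xf B q.2.inv.1
  have hUs : ∀ y, y ∈ Us ↔ y ∈ B.sLocus := fun y => by
    rw [TopologicalSpace.Opens.mem_iSup]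
    constructor
    · rintro ⟨⟨⟨n, f⟩, hf⟩, hy⟩
      exact (H60.LinB.isStablePt_iff B y).2 ⟨n, f, hf, hy⟩
    · intro hy
      obtain ⟨n, f, hf, hmem⟩ := (H60.LinB.isStablePt_iff B y).1 hy
      exact ⟨⟨(n, f), hf⟩, hmem⟩
  have hUst : H60.GlueQ.Stable a Us := by
    show a.act.left ⁻¹ᵁ Us = (snd G X).left ⁻¹ᵁ Us
    simp only [Us, Scheme.Hom.preimage_iSup]
    exact iSup_congr fun q => H60.LinB.stable_Xf B q.2.inv
  let U' : X.left.Opens := ⨆ q : {q : ℕ × Γ(B.V.left, ⊤) //
    H60.LinB.Good B (H60.LinB.LocProp.triv a) q.1 q.2}, H60.LinB.Xf B q.2.inv.1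
  have hUU : U = U' := by
    refine TopologicalSpace.Opens.ext (Set.ext fun y => ?_)
    rw [hU]
    show B.IsSemistablePt y ↔ _
    rw [H60.LinB.isSemistablePt_iff, SetLike.mem_coe, TopologicalSpace.Opens.mem_iSup]
    constructor
    · rintro ⟨n, f, hf, hy⟩; exact ⟨⟨(n, f), hf⟩, hy⟩
    · rintro ⟨⟨⟨n, f⟩, hf⟩, hy⟩; exact ⟨n, f, hf, hy⟩
  have hUst' : H60.GlueQ.Stable a U := by
    show a.act.left ⁻¹ᵁ U = (snd G X).left ⁻¹ᵁ U
    rw [hUU]
    simp only [U', Scheme.Hom.preimage_iSup]
    exact iSup_congr fun q => H60.LinB.stable_Xf B q.2.inv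
  have hle : Us ≤ U := fun y hy => by
    obtain ⟨n, f, hn, hf, hmem, W, hW, hWa, -⟩ := (hUs y).1 hy
    show y ∈ (U : Set X.left)
    rw [hU]
    exact ⟨n, f, hn, hf, hmem, W, hW, hWa⟩
  let aU := H60.GlueQ.resAct a U hUst'
  let aS := H60.GlueQ.resAct a Us hUst
  obtain ⟨Y, φ, hφ, -, -, hsep, hlft, -⟩ := S14713.result k G X hG a B U hU aU (H60.GlueQ.incl U) rfl
    (H60.GlueQ.resAct_incl a U hUst')
  obtain ⟨Yt, φs, h1, h2, h3⟩ := H60.LinB.exists_stable_quotient hG U hU aU (H60.GlueQ.incl U) rfl
    (H60.GlueQ.resAct_incl a U hUst') Y φ hφ.1 Us (Set.ext hUs) hle aS (H60.GlueQ.incl Us) rfl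
    (H60.GlueQ.resAct_incl a Us hUst)
  haveI := hsep
  haveI := hlft
  haveI : LocallyOfFiniteType (H60.GlueQ.sub Us).hom := inferInstanceAs (LocallyOfFiniteType (Us.ι ≫ X.hom))
  haveI : LocallyOfFiniteType (H60.GlueQ.sub Yt).hom := inferInstanceAs (LocallyOfFiniteType (Yt.ι ≫ Y.hom))
  haveI : IsSeparated (H60.GlueQ.sub Yt).hom := inferInstanceAs (IsSeparated (Yt.ι ≫ Y.hom))
  haveI : CompactSpace (H60.GlueQ.sub Us).left :=
    isCompact_iff_compactSpace.mp (TopologicalSpace.NoetherianSpace.isCompact (Us : Set X.left))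
  haveI : QuasiCompact (H60.GlueQ.sub Us).hom := inferInstance
  have hxs : x ∈ Us := (hUs x).2 hx
  refine ⟨?_, fun Ω _ _ T _ f hf => ?_⟩
  · obtain ⟨W, hxW, hW⟩ := H60.OrbDim.eventually_const aS hconn φs h3.1 ⟨x, hxs⟩
    refine ⟨Us.ι ''ᵁ W, ⟨⟨x, hxs⟩, hxW, rfl⟩, ?_⟩
    rintro _ ⟨y, hy, rfl⟩
    rw [H60.OrbDim.dim_stab_residueField, H60.OrbDim.dim_stab_residueField]
    exact (H60.OrbDim.dim_fiber_stab_sub a aS (H60.GlueQ.resAct_incl a Us hUst) y).symm.trans
      ((hW y hy).trans (H60.OrbDim.dim_fiber_stab_sub a aS (H60.GlueQ.resAct_incl a Us hUst) ⟨x, hxs⟩))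
  · refine H60.OrbDim.isClosed_orbit a hle φ Yt φs h1 h2 aU (H60.GlueQ.resAct_incl a U hUst') hφ.1.1 aS
      (H60.GlueQ.resAct_incl a Us hUst) h3.1 f fun t => ?_
    have : f.left t ∈ Set.range f.left.base := ⟨t, rfl⟩
    rw [hf] at this
    exact (Set.mem_singleton_iff.mp this) ▸ hxs

end Groth.Agent.S14715
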