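import Groth.Statements.S14725
import Groth.Agent.H60.OrbDim.Sub
import Groth.Agent.Lib.Flat55.CurveNormalizationBC
-- import your own Groth.Agent.* helpers here

set_option autoImplicit false
universe u
open CategoryTheory MonoidalCategory CartesianMonoidalCategory MonObj GrpObj AlgebraicGeometry Topology
open GIT

namespace Groth.Agent.S14725

/-- Let k be an algebraically closed field of characteristic zero, G a connected reductive algebraic
group over k acting by σ on a connected scheme X smooth and of finite type over k (not necessarily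
separated), such that the stabiliser of the generic point xg of X is 0-dimensional (the stabiliser
group scheme of the κ(xg)-valued point xg has dimension 0), and let U be an invariant open subset of
X (σ⁻¹U = p₂⁻¹U) with the action restricted to U. Then the following are equivalent: (ii) a
geometric quotient (Y, φ) of U by G exists with φ affine and Y quasi-projective (of finite type over
k with an ample invertible sheaf); (iii) the action of G on U is proper (Ψ = (σ, p₂) : G × U → U × U
is proper) and a geometric quotient (Y, φ) of U by G exists with Y quasi-projective. (The published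
statement is over any ground field and in any characteristic; this row is the case of an
algebraically closed field of characteristic zero, where the properness criterion it invokes is
proved.) -/
theorem result (k : Type u) [Field k] [IsAlgClosed k] [CharZero k]
    (G X : Over (Spec (CommRingCat.of k))) [GrpObj G] (hG : Red.IsReductive G)
    [LocallyOfFiniteType X.hom] [QuasiCompact X.hom] [Smooth X.hom] [ConnectedSpace X.left]
    (a : AlgGrp.Action G X)
    (xg : X.left) (hxg : closure ({xg} : Set X.left) = Set.univ)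
    (hσ : topologicalKrullDim (GLinSh.stab a (Over.homMk (X.left.fromSpecResidueField xg) rfl :
        Over.mk (X.left.fromSpecResidueField xg ≫ X.hom) ⟶ X)) = 0)
    (U : X.left.Opens) (hinv : a.act.left ⁻¹ᵁ U = (snd G X).left ⁻¹ᵁ U)
    (aU : AlgGrp.Action G (Over.mk (U.ι ≫ X.hom)))
    (jU : Over.mk (U.ι ≫ X.hom) ⟶ X) (hjU : jU.left = U.ι) (haU : aU.act ≫ jU = (G ◁ jU) ≫ a.act) :
    (∃ (Y : Over (Spec (CommRingCat.of k))) (φ : Over.mk (U.ι ≫ X.hom) ⟶ Y),
        GIT.IsGeomQuot aU φ ∧ IsAffineHom φ.left ∧ LocallyOfFiniteType Y.hom ∧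
        ∃ M : Y.left.Modules, CohB1.IsAmple M) ↔
      IsProper (GIT.psi aU (𝟙 (Over.mk (U.ι ≫ X.hom)))).left ∧
        ∃ (Y : Over (Spec (CommRingCat.of k))) (φ : Over.mk (U.ι ≫ X.hom) ⟶ Y),
          GIT.IsGeomQuot aU φ ∧ LocallyOfFiniteType Y.hom ∧ ∃ M : Y.left.Modules, CohB1.IsAmple M := by
  haveI hGaff : IsAffineHom G.hom := hG.1
  haveI : IsAffine G.left := isAffine_of_isAffineHom G.hom
  haveI : Smooth G.hom := hG.2.1
  haveI hconn := H60.OrbDim.connectedSpace_of_isReductive hG
  haveI : IsLocallyNoetherian X.left := LocallyOfFiniteType.isLocallyNoetherian X.hom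
  haveI : CompactSpace X.left := QuasiCompact.compactSpace_of_compactSpace X.hom
  haveI : IsNoetherian X.left := {}
  let Z := H60.GlueQ.sub U
  haveI : LocallyOfFiniteType Z.hom := inferInstanceAs (LocallyOfFiniteType (U.ι ≫ X.hom))
  haveI : Smooth Z.hom := inferInstanceAs (Smooth (U.ι ≫ X.hom))
  haveI : CompactSpace Z.left := isCompact_iff_compactSpace.mp (TopologicalSpace.NoetherianSpace.isCompact (U : Set X.left))
  haveI : QuasiCompact Z.hom := inferInstance
  have hnorm : Pi1.IsNormalScheme Z.left := Lib.Flat55.CurveNormalizationBC.isNormalScheme_of_smooth Z.hom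
  have hb : aU.act ≫ H60.GlueQ.incl U = (G ◁ H60.GlueQ.incl U) ≫ a.act := by
    rw [show H60.GlueQ.incl U = jU from Over.OverMorphism.ext hjU.symm]; exact haU
  constructor
  · rintro ⟨Y, φ, hq, hφ, hY, M, hM⟩
    haveI := H60.OrbDim.isSeparated_of_isAmple M hM
    refine ⟨?_, Y, φ, hq, hY, M, hM⟩
    haveI : Limits.HasPullback (GIT.psi aU (𝟙 Z)).left (lift (𝟙 Z) (𝟙 Z)).left := inferInstance
    haveI hlqf : LocallyQuasiFinite (Limits.pullback.snd (GIT.psi aU (𝟙 Z)).left (lift (𝟙 Z) (𝟙 Z)).left) := by
      obtain ⟨_, _⟩ := H60.OrbDim.lft_qc_stP aU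
      refine Lib.Flat55.FlatEquidim.locallyQuasiFinite_of_fibreDimAt_le_zero _ fun w => ?_
      refine (Lib.FibreDim.Basic.localDim_le_topologicalKrullDim _).trans ?_
      let u : Z.left := H60.ProperAct.stP aU (𝟙 Z) w
      haveI : Nonempty Z.left := ⟨u⟩
      haveI : IrreducibleSpace X.left := irreducibleSpace_def _ |>.mpr (by
        rw [Set.top_eq_univ, ← hxg]; exact isIrreducible_singleton.closure)
      have hirr : IsIrreducible (U : Set X.left) :=
        ⟨⟨U.ι u, u.2⟩, (PreirreducibleSpace.isPreirreducible_univ (X := X.left)).open_subset U.isOpen (Set.subset_univ _)⟩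
      haveI : IrreducibleSpace Z.left := Subtype.irreducibleSpace hirr
      refine (H60.OrbDim.dim_stab_eq_zero_of_generic aU hconn φ hq ?_ u).le
      have hxU : xg ∈ U := by
        obtain ⟨z, hz, hzg⟩ := mem_closure_iff.mp (hxg.symm ▸ Set.mem_univ (U.ι u) : U.ι u ∈ closure {xg}) U U.isOpen u.2
        exact Set.mem_singleton_iff.mp hzg ▸ hz
      have hgen : genericPoint Z.left = (⟨xg, hxU⟩ : (U : Scheme.{u})) := by
        refine (genericPoint_spec Z.left).eq ?_
        rw [isGenericPoint_def, eq_comm, eq_comm, Set.eq_univ_iff_forall]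
        intro z
        rw [← specializes_iff_mem_closure, ← U.ι.isOpenEmbedding.isInducing.specializes_iff]
        exact specializes_iff_mem_closure.mpr (hxg.symm ▸ Set.mem_univ _)
      rw [H60.OrbDim.dim_fiber_stab_sub a aU hb, hgen, show U.ι (⟨xg, hxU⟩ : (U : Scheme.{u})) = xg from rfl,
        ← H60.OrbDim.dim_stab_residueField a xg]
      exact hσ
    haveI := H60.ProperAct.isFinite_psi_of_pieces hG aU φ hq.inv fun x => by
      obtain ⟨_, ⟨V, hV, rfl⟩, hxV, -⟩ :=
        Y.left.isBasis_affineOpens.exists_subset_of_mem_open (Set.mem_univ (φ.left x)) isOpen_univ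
      exact ⟨V, hxV, IsAffineOpen.preimage hV φ.left⟩
    infer_instance
  · rintro ⟨hp, Y, φ, hq, hY, M, hM⟩
    haveI := H60.OrbDim.isSeparated_of_isAmple M hM
    refine ⟨Y, φ, hq, ?_, hY, M, hM⟩
    rcases isEmpty_or_nonempty Z.left with he | hne
    · exact ⟨fun V _ => by
        rw [show φ.left ⁻¹ᵁ V = ⊥ from TopologicalSpace.Opens.ext (Set.eq_empty_of_isEmpty _)]
        exact isAffineOpen_bot _⟩
    · haveI : IrreducibleSpace X.left := irreducibleSpace_def _ |>.mpr (by
        rw [Set.top_eq_univ, ← hxg]; exact isIrreducible_singleton.closure)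
      have hirr : IsIrreducible (U : Set X.left) :=
        ⟨⟨U.ι hne.some, hne.some.2⟩, (PreirreducibleSpace.isPreirreducible_univ (X := X.left)).open_subset U.isOpen (Set.subset_univ _)⟩
      haveI : IrreducibleSpace Z.left := Subtype.irreducibleSpace hirr
      haveI := Lib.Flat55.CurveNormalizationBC.isReduced_of_smooth Z.hom
      haveI : IsIntegral Z.left := isIntegral_of_irreducibleSpace_of_isReduced Z.left
      exact H60.OrbDim.isAffineHom_of_isProper aU hconn hnorm hp φ hq

end Groth.Agent.S14725
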