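import Groth.Statements.S14726
import Groth.Agent.H20.GaussVal

set_option autoImplicit false
universe u
open ValPrufer

namespace Groth.Agent.S14726

/-- Let V be a valuation ring with maximal ideal m, A an integral domain that is a smooth V-algebra, and
p a prime ideal of A minimal among the primes containing mA (a generic point of the special fibre of
Spec A over V). Then A_p is a valuation ring, V → A_p is an injective local homomorphism, and every
nonzero element of A_p is a unit of A_p times the image of an element of V, so that V → A_p induces
a bijection on value groups. (The published statement takes A faithfully flat and a semilocalisation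
of a smooth V-algebra at finitely many primes; the local ring A_p is then a local ring of the smooth
algebra itself at such a prime, and faithful flatness follows from the existence of p, so this row
states the smooth case, which carries the whole content.) -/
theorem result
    (V : Type u) [CommRing V] [IsDomain V] [ValuationRing V]
    (A : Type u) [CommRing A] [IsDomain A] [Algebra V A] [Algebra.Smooth V A]
    (p : Ideal A) [p.IsPrime]
    (hp : p ∈ ((IsLocalRing.maximalIdeal V).map (algebraMap V A)).minimalPrimes) :
    ValuationRing (Localization.AtPrime p) ∧
      Function.Injective (algebraMap V (Localization.AtPrime p)) ∧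
      IsLocalHom (algebraMap V (Localization.AtPrime p)) ∧
      ∀ x : Localization.AtPrime p, x ≠ 0 →
        ∃ (v : V) (w : (Localization.AtPrime p)ˣ), x = algebraMap V (Localization.AtPrime p) v * w := by
  have key := Groth.Agent.H20.GaussVal.exists_eq_mul p hp
  let L := Localization.AtPrime p
  haveI : IsDomain L := IsLocalization.isDomain_localization p.primeCompl_le_nonZeroDivisors
  have hloc : IsLocalHom (algebraMap V L) := ⟨fun v hv => by_contra fun hu => by
    have hmem : algebraMap V A v ∈ p := hp.1.2 (Ideal.mem_map_of_mem _ hu)
    exact (IsLocalization.AtPrime.to_map_mem_maximal_iff L p (algebraMap V A v)).2 hmem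
      (by rwa [← IsScalarTower.algebraMap_apply])⟩
  have hinjA : Function.Injective (algebraMap V A) := by
    rw [injective_iff_map_eq_zero]
    intro v hv
    by_contra hne
    have : IsSMulRegular A v := Module.Flat.isSMulRegular_of_nonZeroDivisors (mem_nonZeroDivisors_of_ne_zero hne)
    exact one_ne_zero (this (show v • (1 : A) = v • (0 : A) by rw [Algebra.smul_def, hv, zero_mul, smul_zero]))
  refine ⟨ValuationRing.iff_dvd_total.2 ⟨fun x y => ?_⟩, ?_, hloc, fun x hx => ?_⟩
  · rcases key x with rfl | ⟨a, u, -, rfl⟩
    · exact Or.inr (dvd_zero y)
    rcases key y with rfl | ⟨b, v, -, rfl⟩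
    · exact Or.inl (dvd_zero _)
    rcases ValuationRing.dvd_total a b with h | h
    · exact Or.inl (by simpa using map_dvd (algebraMap V L) h)
    · exact Or.inr (by simpa using map_dvd (algebraMap V L) h)
  · rw [IsScalarTower.algebraMap_eq V A L]
    exact (IsLocalization.injective L p.primeCompl_le_nonZeroDivisors).comp hinjA
  · obtain ⟨c, u, -, h⟩ := (key x).resolve_left hx
    exact ⟨c, u, by rw [h, mul_comm]⟩

end Groth.Agent.S14726
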