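import Groth.Statements.S14727
import Mathlib.RingTheory.AdicCompletion.Functoriality
import Mathlib.RingTheory.Localization.AtPrime.Basic
import Mathlib.RingTheory.Ideal.Colon
import Mathlib.RingTheory.Spectrum.Maximal.Basic

set_option autoImplicit false
universe u
open ValPrufer

namespace Groth.Agent.S14727

theorem level (R : Type u) [CommRing R] (hR : Finite (MaximalSpectrum R)) (I : Ideal R)
    (hI : ∀ (p : Ideal R), p.IsPrime → I ≤ p → p.IsMaximal) (n : ℕ) :
    Function.Bijective (fun (x : R ⧸ (I ^ n • ⊤ : Submodule R R))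
      (m : {m : MaximalSpectrum R // I ≤ m.asIdeal}) =>
      LinearMap.reduceModIdeal (I ^ n) (Algebra.linearMap R (Localization.AtPrime m.1.asIdeal)) x) := by
  classical
  haveI : Fintype {m : MaximalSpectrum R // I ≤ m.asIdeal} := Fintype.ofFinite _
  let L := fun m : {m : MaximalSpectrum R // I ≤ m.asIdeal} => Localization.AtPrime m.1.asIdeal
  have hmem : ∀ m y, (Submodule.Quotient.mk y : L m ⧸ (I ^ n • ⊤ : Submodule R (L m))) = 0 ↔
      y ∈ (I ^ n).map (algebraMap R (L m)) := fun m y => by
    rw [Submodule.Quotient.mk_eq_zero, Ideal.smul_top_eq_map]; rfl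
  have hx : ∀ m x, algebraMap R (L m) x ∈ (I ^ n).map (algebraMap R (L m)) ↔
      ∃ s, s ∉ m.1.asIdeal ∧ s * x ∈ I ^ n := fun m x => by
    rw [IsLocalization.algebraMap_mem_map_algebraMap_iff m.1.asIdeal.primeCompl (L m)]
    exact Iff.rfl
  have hsub : ∀ (P : Ideal R), P.IsMaximal → I ^ n ≤ P → n ≠ 0 →
      ∃ m : {m : MaximalSpectrum R // I ≤ m.asIdeal}, m.1.asIdeal = P := fun P hP hle hn =>
    ⟨⟨⟨P, hP⟩, haveI := hP.isPrime; Ideal.IsPrime.le_of_pow_le hle⟩, rfl⟩
  rcases eq_or_ne n 0 with rfl | hn
  · have h1 : ∀ (M : Type u) [AddCommGroup M] [Module R M],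
        Subsingleton (M ⧸ (I ^ 0 • ⊤ : Submodule R M)) := fun M _ _ => by
      rw [Submodule.Quotient.subsingleton_iff, pow_zero, Ideal.one_eq_top, Submodule.top_smul]
    refine ⟨fun a b _ => @Subsingleton.elim _ (h1 R) a b, fun z => ⟨0, funext fun m => ?_⟩⟩
    exact @Subsingleton.elim _ (h1 _) _ _
  constructor
  · intro a b hab
    obtain ⟨x, rfl⟩ := Submodule.Quotient.mk_surjective _ a
    obtain ⟨y, rfl⟩ := Submodule.Quotient.mk_surjective _ b
    rw [Submodule.Quotient.eq, Ideal.smul_top_eq_map]
    simp only [Algebra.algebraMap_self, Ideal.map_id]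
    show x - y ∈ I ^ n
    have : (I ^ n).colon (Ideal.span {x - y} : Ideal R) = ⊤ := by
      by_contra hne
      obtain ⟨P, hP, hle⟩ := Ideal.exists_le_maximal _ hne
      obtain ⟨m, rfl⟩ := hsub P hP (le_trans (fun z hz => Submodule.mem_colon.mpr
        fun w _ => (I ^ n).mul_mem_right w hz) hle) hn
      have h := congrFun hab m
      simp only [LinearMap.reduceModIdeal_apply, Algebra.linearMap_apply] at h
      rw [Submodule.Quotient.eq,
        ← map_sub, Ideal.smul_top_eq_map] at h
      obtain ⟨s, hs, hs'⟩ := (hx m _).mp h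
      exact hs (hle (Submodule.mem_colon.mpr fun w hw => by
        obtain ⟨c, rfl⟩ := Ideal.mem_span_singleton'.mp hw
        rw [smul_eq_mul, ← mul_assoc, mul_comm s c, mul_assoc]
        exact (I ^ n).mul_mem_left c hs'))
    have h1 : (1 : R) ∈ (I ^ n).colon (Ideal.span {x - y} : Ideal R) := this ▸ Submodule.mem_top
    simpa using Submodule.mem_colon.mp h1 (x - y) (Ideal.mem_span_singleton_self _)
  · have ha : ∀ m, ∃ a : R, a ∉ m.1.asIdeal ∧
        ∀ m', m' ≠ m → algebraMap R (L m') a ∈ (I ^ n).map (algebraMap R (L m')) := by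
      intro m
      have hnot : ¬ (Finset.univ.erase m).inf (fun m' => m'.1.asIdeal) ≤ m.1.asIdeal := by
        intro hle
        obtain ⟨m', hm', hle'⟩ := (Ideal.IsPrime.inf_le' m.1.2.isPrime).mp hle
        exact (Finset.mem_erase.mp hm').1 (Subtype.ext (MaximalSpectrum.ext (m'.1.2.eq_of_le m.1.2.ne_top hle')))
      obtain ⟨a₀, ha₀, ha₀m⟩ := SetLike.not_le_iff_exists.mp hnot
      have hpow : ∀ m', ∃ k : ℕ, m' ≠ m → algebraMap R (L m') (a₀ ^ k) ∈ (I ^ n).map (algebraMap R (L m')) := by
        intro m'
        by_cases hm : m' = m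
        · exact ⟨0, fun h => absurd hm h⟩
        have : algebraMap R (L m') a₀ ∈ ((I ^ n).map (algebraMap R (L m'))).radical := by
          rw [Ideal.radical_eq_sInf, Ideal.mem_sInf]
          rintro Q ⟨hQ, hQp⟩
          have hQ' : Q.IsPrime := hQp
          have h1 : Q.comap (algebraMap R (L m')) ≤ m'.1.asIdeal := fun z hz => by
            by_contra h
            exact hQ'.ne_top (Q.eq_top_of_isUnit_mem hz
              (IsLocalization.map_units (L m') (⟨z, h⟩ : m'.1.asIdeal.primeCompl)))
          have hQm : (Q.comap (algebraMap R (L m'))).IsPrime := Ideal.IsPrime.comap _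
          have h2 : (Q.comap (algebraMap R (L m'))).IsMaximal :=
            hI _ hQm (hQm.le_of_pow_le (Ideal.map_le_iff_le_comap.mp hQ))
          have h3 := h2.eq_of_le m'.1.2.ne_top h1
          show a₀ ∈ Q.comap (algebraMap R (L m'))
          rw [h3]
          exact Finset.inf_le (f := fun m' : {m : MaximalSpectrum R // I ≤ m.asIdeal} => m'.1.asIdeal)
            (Finset.mem_erase.mpr ⟨hm, Finset.mem_univ _⟩) ha₀
        obtain ⟨k, hk⟩ := this
        exact ⟨k, fun _ => by rwa [map_pow]⟩
      choose k hk using hpow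
      refine ⟨a₀ ^ (∑ j, k j), fun h => ha₀m (m.1.2.isPrime.mem_of_pow_mem _ h), fun m' hm => ?_⟩
      rw [← Finset.add_sum_erase _ _ (Finset.mem_univ m'), pow_add, map_mul]
      exact Ideal.mul_mem_right _ _ (hk m' hm)
    choose a ha ha' using ha
    intro z
    choose y hy using fun m => Submodule.Quotient.mk_surjective (I ^ n • ⊤ : Submodule R (L m)) (z m)
    choose r hr using fun m => IsLocalization.exists_mk'_eq m.1.asIdeal.primeCompl (y m)
    choose s hs using hr
    let J := fun m => ((I ^ n).map (algebraMap R (L m))).comap (algebraMap R (L m))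
    have hb : ∀ m, ∃ b, 1 - b * (a m * s m) ∈ J m := by
      intro m
      have : Ideal.span {a m * (s m : R)} ⊔ J m = ⊤ := by
        by_contra hne
        obtain ⟨P, hP, hle⟩ := Ideal.exists_le_maximal _ hne
        obtain ⟨m', rfl⟩ := hsub P hP ((Ideal.le_comap_map).trans (le_sup_right.trans hle)) hn
        by_cases hm : m' = m
        · subst hm
          exact (m'.1.2.isPrime.mem_or_mem (hle (Ideal.mem_sup_left (Ideal.mem_span_singleton_self _)))).elim
            (ha m') (s m').2
        · exact ha m' (hle (Ideal.mem_sup_right (ha' m' m (Ne.symm hm))))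
      obtain ⟨u, hu, v, hv, huv⟩ := Submodule.mem_sup.mp (this ▸ Submodule.mem_top : (1 : R) ∈ _)
      obtain ⟨b, rfl⟩ := Ideal.mem_span_singleton'.mp hu
      exact ⟨b, by rwa [← huv, add_sub_cancel_left]⟩
    choose b hb using hb
    refine ⟨Submodule.Quotient.mk (∑ m, r m * b m * a m), funext fun m => ?_⟩
    simp only [LinearMap.reduceModIdeal_apply, Algebra.linearMap_apply]
    rw [← hy m, ← sub_eq_zero,
      ← Submodule.Quotient.mk_sub, hmem, map_sum, ← Finset.add_sum_erase _ _ (Finset.mem_univ m),
      add_sub_right_comm]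
    refine Ideal.add_mem _ ?_ (Ideal.sum_mem _ fun m' hm' => ?_)
    · rw [← hs m]
      have hu := IsLocalization.map_units (L m) (s m)
      refine (Ideal.unit_mul_mem_iff_mem _ hu).mp ?_
      have e : algebraMap R (L m) (s m) * (algebraMap R (L m) (r m * b m * a m) -
          IsLocalization.mk' (L m) (r m) (s m)) = -(algebraMap R (L m) (r m * (1 - b m * (a m * s m)))) := by
        rw [mul_sub, IsLocalization.mk'_spec', ← map_mul, ← map_sub, ← map_neg]
        congr 1
        ring
      rw [e, map_mul]
      exact Ideal.neg_mem_iff _ |>.mpr (Ideal.mul_mem_left _ _ (hb m))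
    · rw [map_mul]
      exact Ideal.mul_mem_left _ _ (ha' m' m (Ne.symm (Finset.mem_erase.mp hm').1))

/-- Let R be a semilocal ring (finitely many maximal ideals) and I an ideal of R of co-height zero, i.e.
every prime ideal containing I is maximal. Then the canonical map from the I-adic completion of R to
the product, over the maximal ideals m ⊇ I, of the I-adic completions of the local rings R_m
(equivalently their IR_m-adic completions) is bijective; it is the continuous ring isomorphism of
the source, stated here as bijectivity of the canonical map of completed modules. -/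
theorem result
    (R : Type u) [CommRing R] (hR : Finite (MaximalSpectrum R)) (I : Ideal R)
    (hI : ∀ (p : Ideal R), p.IsPrime → I ≤ p → p.IsMaximal) :
    Function.Bijective (LinearMap.pi (fun m : {m : MaximalSpectrum R // I ≤ m.asIdeal} =>
      AdicCompletion.map I (Algebra.linearMap R (Localization.AtPrime m.1.asIdeal)))) := by
  classical
  have hl := level R hR I hI
  constructor
  · intro a b hab
    refine AdicCompletion.ext fun n => (hl n).1 (funext fun m => ?_)
    have h := congrArg (fun z => (z m).val n) hab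
    exact h
  · intro z
    choose x hx using fun n => (hl n).2 (fun m => (z m).val n)
    refine ⟨⟨x, fun {i j} hij => (hl i).1 (funext fun m => ?_)⟩, funext fun m => AdicCompletion.ext fun n => ?_⟩
    · have h1 := congrArg (AdicCompletion.transitionMap I (Localization.AtPrime m.1.asIdeal) hij) (congrFun (hx j) m)
      rw [congrFun (hx i) m]
      rw [AdicCompletion.transitionMap_comp_eval_apply] at h1
      refine Eq.trans ?_ h1
      obtain ⟨w, hw⟩ := Submodule.Quotient.mk_surjective _ (x j)
      rw [← hw]
      rfl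
    · exact congrFun (hx n) m

end Groth.Agent.S14727
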