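import Groth.Statements.S14729
import Groth.Agent.H20.ValIntersection

set_option autoImplicit false
universe u
open ValPrufer

namespace Groth.Agent.S14729

/-- Let R be a semilocal Prüfer domain (an integral domain with finitely many maximal ideals whose
localisations at primes are valuation rings) with fraction field L, and let K ⊆ L be a subfield.
Then R ∩ K is again a semilocal Prüfer domain and its fraction field is K, i.e. every element of K
is a quotient of two elements of R ∩ K. -/
theorem result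
    (R L : Type u) [CommRing R] [IsDomain R] [Field L] [Algebra R L] [IsFractionRing R L]
    (hR : ∀ (p : Ideal R) [p.IsPrime], ValuationRing (Localization.AtPrime p))
    (hfin : Finite (MaximalSpectrum R)) (K : Subfield L) :
    (∀ (p : Ideal ↥((algebraMap R L).range ⊓ K.toSubring)) [p.IsPrime],
        ValuationRing (Localization.AtPrime p)) ∧
      Finite (MaximalSpectrum ↥((algebraMap R L).range ⊓ K.toSubring)) ∧
      ∀ x : L, x ∈ K → ∃ a b : L, a ∈ (algebraMap R L).range ⊓ K.toSubring ∧
        b ∈ (algebraMap R L).range ⊓ K.toSubring ∧ b ≠ 0 ∧ x = a / b := by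
  classical
  have hVR : ∀ (m : Ideal R) (_ : m.IsPrime), ∀ x : L,
      (∃ a s : R, s ∉ m ∧ x * algebraMap R L s = algebraMap R L a) ∨
      (∃ a s : R, s ∉ m ∧ x⁻¹ * algebraMap R L s = algebraMap R L a) := by
    intro m _ x
    haveI := hR m
    obtain ⟨a, b, hb, rfl⟩ := IsFractionRing.div_surjective (A := R) x
    let A := Localization.AtPrime m
    have hb0 : algebraMap R L b ≠ 0 := (map_ne_zero_iff _ (IsFractionRing.injective R L)).mpr
      (nonZeroDivisors.ne_zero hb)
    have key : ∀ a b : R, algebraMap R A b ∣ algebraMap R A a →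
        ∃ c s : R, s ∉ m ∧ a * s = b * c := by
      rintro a b ⟨d, hd⟩
      obtain ⟨c, s, rfl⟩ := IsLocalization.exists_mk'_eq m.primeCompl d
      refine ⟨c, s, s.2, IsLocalization.injective A m.primeCompl_le_nonZeroDivisors ?_⟩
      rw [map_mul, map_mul, hd, mul_assoc, IsLocalization.mk'_spec]
    rcases ValuationRing.dvd_total (algebraMap R A b) (algebraMap R A a) with h | h
    · obtain ⟨c, s, hs, h⟩ := key a b h
      refine Or.inl ⟨c, s, hs, ?_⟩
      rw [div_mul_eq_mul_div, div_eq_iff hb0, ← map_mul, ← map_mul, h, mul_comm]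
    · obtain ⟨c, s, hs, h⟩ := key b a h
      by_cases ha : a = 0
      · exact Or.inl ⟨0, 1, m.ne_top_iff_one.mp (Ideal.IsPrime.ne_top ‹_›), by simp [ha]⟩
      · refine Or.inr ⟨c, s, hs, ?_⟩
        rw [inv_div, div_mul_eq_mul_div, div_eq_iff
          ((map_ne_zero_iff _ (IsFractionRing.injective R L)).mpr ha), ← map_mul, ← map_mul, h, mul_comm]
  let V : MaximalSpectrum R → ValuationSubring L := fun m =>
    { carrier := {x | ∃ a s : R, s ∉ m.asIdeal ∧ x * algebraMap R L s = algebraMap R L a}
      zero_mem' := ⟨0, 1, m.asIdeal.ne_top_iff_one.mp m.2.ne_top, by simp⟩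
      one_mem' := ⟨1, 1, m.asIdeal.ne_top_iff_one.mp m.2.ne_top, by simp⟩
      neg_mem' := fun {x} ⟨a, s, hs, h⟩ => ⟨-a, s, hs, by rw [neg_mul, h, map_neg]⟩
      add_mem' := fun {x y} ⟨a, s, hs, h⟩ ⟨b, t, ht, h'⟩ => ⟨a * t + b * s, s * t,
        fun hst => (m.2.isPrime.mem_or_mem hst).elim hs ht, by
        rw [map_add, map_mul, map_mul, map_mul, ← h, ← h']; ring⟩
      mul_mem' := fun {x y} ⟨a, s, hs, h⟩ ⟨b, t, ht, h'⟩ => ⟨a * b, s * t,
        fun hst => (m.2.isPrime.mem_or_mem hst).elim hs ht, by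
        rw [map_mul, map_mul, ← h, ← h']; ring⟩
      mem_or_inv_mem' := fun x => hVR m.asIdeal m.2.isPrime x }
  let W : MaximalSpectrum R → ValuationSubring K := fun m =>
    (V m).comap K.subtype
  have hmemR : ∀ x : L, (∀ m, x ∈ V m) → x ∈ (algebraMap R L).range := by
    intro x hx
    let I : Ideal R :=
      { carrier := {s | x * algebraMap R L s ∈ (algebraMap R L).range}
        zero_mem' := ⟨0, by simp⟩
        add_mem' := fun {s t} ⟨a, ha⟩ ⟨b, hb⟩ => ⟨a + b, by simp [ha, hb, mul_add]⟩
        smul_mem' := fun c s ⟨a, ha⟩ => ⟨c * a, by simp [ha]; ring⟩ }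
    have hI : I = ⊤ := by
      by_contra h
      obtain ⟨m, hm, hle⟩ := Ideal.exists_le_maximal I h
      obtain ⟨a, s, hs, h⟩ := hx ⟨m, hm⟩
      exact hs (hle ⟨a, h.symm⟩)
    have h1 : (1 : R) ∈ I := by rw [hI]; trivial
    obtain ⟨a, ha⟩ := h1
    exact ⟨a, by simpa using ha⟩
  have hRmem : ∀ (r : R) m, algebraMap R L r ∈ V m := fun r m =>
    ⟨r, 1, m.asIdeal.ne_top_iff_one.mp m.2.ne_top, by simp⟩
  haveI : Nonempty (MaximalSpectrum R) := inferInstance
  let T := (algebraMap R L).range ⊓ K.toSubring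
  let A := Groth.Agent.H20.ValIntersection.inter W
  let e : A ≃+* T :=
    { toFun := fun x => ⟨((x : K) : L), hmemR _ (fun m =>
        (Groth.Agent.H20.ValIntersection.mem_inter W).mp x.2 m), (x : K).2⟩
      invFun := fun y => ⟨⟨(y : L), y.2.2⟩, (Groth.Agent.H20.ValIntersection.mem_inter W).mpr fun m => by
        obtain ⟨r, hr⟩ := y.2.1
        change (y : L) ∈ V m
        rw [← hr]
        exact hRmem r m⟩
      left_inv := fun x => rfl
      right_inv := fun y => rfl
      map_mul' := fun x y => rfl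
      map_add' := fun x y => rfl }
  refine ⟨fun p _ => ?_, ?_, fun x hx => ?_⟩
  · haveI : IsDomain (Localization.AtPrime p) :=
      IsLocalization.isDomain_localization p.primeCompl_le_nonZeroDivisors
    haveI := Groth.Agent.H20.ValIntersection.valuationRing_atPrime W (p.comap e.toRingHom)
    exact Function.Surjective.valuationRing (Localization.localRingHom (p.comap e.toRingHom) p
      e.toRingHom rfl) (by
      intro z
      obtain ⟨a, s, rfl⟩ := IsLocalization.exists_mk'_eq p.primeCompl z
      obtain ⟨a, rfl⟩ := e.surjective a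
      obtain ⟨s', hs'⟩ := e.surjective s
      have hs0 : s' ∈ (p.comap e.toRingHom).primeCompl := fun h => s.2 (hs' ▸ h)
      refine ⟨IsLocalization.mk' _ a ⟨s', hs0⟩, ?_⟩
      rw [Localization.localRingHom_mk']
      congr 1
      exact Subtype.ext hs')
  · let c : MaximalSpectrum R → Ideal T := fun m =>
      ((IsLocalRing.maximalIdeal (W m)).comap
        (Subring.inclusion (iInf_le (fun i => (W i).toSubring) m))).comap e.symm.toRingHom
    have hsub : ∀ P : MaximalSpectrum T, P.asIdeal ∈ Set.range c := by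
      intro P
      obtain ⟨m, hm⟩ := Groth.Agent.H20.ValIntersection.exists_le_centre W (P.asIdeal.comap e.toRingHom)
      refine ⟨m, (P.2.eq_of_le (Ideal.IsPrime.ne_top (Ideal.IsPrime.comap _)) fun t ht => ?_).symm⟩
      refine hm ?_
      change e (e.symm t) ∈ P.asIdeal
      rw [e.apply_symm_apply]
      exact ht
    exact Finite.of_injective (fun P => (⟨P.asIdeal, hsub P⟩ : Set.range c))
      fun P Q h => MaximalSpectrum.ext (Subtype.ext_iff.mp h)
  · obtain ⟨a, ha, b, hb, hb0, hab⟩ := Groth.Agent.H20.ValIntersection.exists_frac W ⟨x, hx⟩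
    refine ⟨(a : L), (b : L), (e ⟨a, ha⟩).2, (e ⟨b, hb⟩).2, fun h => hb0 (Subtype.ext h), ?_⟩
    rw [eq_div_iff (fun h => hb0 (Subtype.ext h))]
    exact congrArg (fun z : K => (z : L)) hab

end Groth.Agent.S14729
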