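import Groth.Statements.S14730
import Groth.Agent.H20.PrimeChainBound
import Groth.Agent.S14729
import Mathlib.RingTheory.AlgebraicIndependent.TranscendenceBasis

set_option autoImplicit false
universe u
open ValPrufer

namespace Groth.Agent.S14730

theorem trdeg_bound {L : Type u} [Field L] (s : Finset L) (ι : Type) [Fintype ι]
    (x : ι → Subfield.closure (↑s : Set L))
    (hx : AlgebraicIndependent (⊥ : Subring (Subfield.closure (↑s : Set L))) x) :
    Fintype.card ι ≤ s.card := by
  classical
  let F := Subfield.closure (↑s : Set L)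
  let k := (⊥ : Subring F)
  let g : s → F := fun a => ⟨a, Subfield.subset_closure a.2⟩
  haveI : Algebra.IsAlgebraic (Algebra.adjoin k (Set.range g)) F := by
    refine ⟨fun z => ?_⟩
    have hcl : ∀ a ∈ Subring.closure (↑s : Set L), ∃ a' : Algebra.adjoin k (Set.range g), ((a' : F) : L) = a := by
      intro a ha
      induction ha using Subring.closure_induction with
      | mem a ha => exact ⟨⟨g ⟨a, ha⟩, Algebra.subset_adjoin ⟨_, rfl⟩⟩, rfl⟩
      | zero => exact ⟨0, rfl⟩
      | one => exact ⟨1, rfl⟩
      | add a b _ _ ha hb => obtain ⟨a', rfl⟩ := ha; obtain ⟨b', rfl⟩ := hb; exact ⟨a' + b', rfl⟩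
      | neg a _ ha => obtain ⟨a', rfl⟩ := ha; exact ⟨-a', rfl⟩
      | mul a b _ _ ha hb => obtain ⟨a', rfl⟩ := ha; obtain ⟨b', rfl⟩ := hb; exact ⟨a' * b', rfl⟩
    obtain ⟨a, ha, b, hb, hab⟩ := Subfield.mem_closure_iff.mp z.2
    obtain ⟨a', ha'⟩ := hcl a ha
    obtain ⟨b', hb'⟩ := hcl b hb
    by_cases hb0 : b = 0
    · rw [hb0, div_zero] at hab
      rw [show z = 0 from Subtype.ext hab.symm]
      exact isAlgebraic_zero
    · refine ⟨Polynomial.C b' * Polynomial.X - Polynomial.C a', fun h => hb0 ?_, ?_⟩
      · have := congrArg (fun p : Polynomial _ => p.coeff 1) h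
        simp at this
        rw [← hb', this]
        rfl
      · have h1 : (b' : F) * z - (a' : F) = 0 := Subtype.ext (by
          change ((b' : F) : L) * (z : L) - ((a' : F) : L) = 0
          rw [ha', hb', ← hab, mul_div_cancel₀ _ hb0, sub_self])
        simpa using h1
  obtain ⟨t, htS, ht⟩ := exists_isTranscendenceBasis_subset (R := k) (A := F) (Set.range g)
  have h1 := hx.lift_cardinalMk_le_trdeg
  rw [← ht.cardinalMk_eq_trdeg, Cardinal.mk_fintype, Cardinal.lift_natCast, Cardinal.lift_uzero] at h1
  have h2 : Cardinal.mk t ≤ (s.card : Cardinal) :=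
    (Cardinal.mk_le_mk_of_subset htS).trans (Cardinal.mk_range_le.trans (by simp))
  exact_mod_cast h1.trans h2

/-- Let R be a semilocal Prüfer domain (an integral domain with finitely many maximal ideals whose
localisations at primes are valuation rings). Then R is the increasing union of subrings that are
semilocal Prüfer domains of finite Krull dimension; equivalently, every finite subset of R is
contained in such a subring. -/
theorem result
    (R : Type u) [CommRing R] [IsDomain R]
    (hR : ∀ (p : Ideal R) [p.IsPrime], ValuationRing (Localization.AtPrime p))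
    (hfin : Finite (MaximalSpectrum R)) (s : Finset R) :
    ∃ R' : Subring R, (↑s : Set R) ⊆ R' ∧
      (∀ (p : Ideal R') [p.IsPrime], ValuationRing (Localization.AtPrime p)) ∧
      Finite (MaximalSpectrum R') ∧ ringKrullDim R' < ⊤ := by
  classical
  let L := FractionRing R
  let S : Finset L := s.image (algebraMap R L)
  let K := Subfield.closure (↑S : Set L)
  let R' : Subring R := K.toSubring.comap (algebraMap R L)
  obtain ⟨hval, hmax, -⟩ := Groth.Agent.S14729.result R L hR hfin K
  let T := (algebraMap R L).range ⊓ K.toSubring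
  let e : R' ≃+* T := RingEquiv.ofBijective
    (((algebraMap R L).comp R'.subtype).codRestrict T fun r => ⟨⟨r, rfl⟩, r.2⟩)
    ⟨fun r r' h => Subtype.ext (IsFractionRing.injective R L (congrArg (fun x : T => (x : L)) h)),
      fun y => by
        obtain ⟨r, hr⟩ := y.2.1
        exact ⟨⟨r, by change algebraMap R L r ∈ K; rw [hr]; exact y.2.2⟩, Subtype.ext hr⟩⟩
  have hR' : ∀ (p : Ideal R') [p.IsPrime], ValuationRing (Localization.AtPrime p) := by
    intro p _
    haveI : IsDomain (Localization.AtPrime p) :=
      IsLocalization.isDomain_localization p.primeCompl_le_nonZeroDivisors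
    haveI := hval (p.comap e.symm.toRingHom)
    exact Function.Surjective.valuationRing (Localization.localRingHom (p.comap e.symm.toRingHom) p
      e.symm.toRingHom rfl) (by
      intro z
      obtain ⟨a, s', rfl⟩ := IsLocalization.exists_mk'_eq p.primeCompl z
      obtain ⟨a, rfl⟩ := e.symm.surjective a
      obtain ⟨t, ht⟩ := e.symm.surjective s'
      have ht0 : t ∈ (p.comap e.symm.toRingHom).primeCompl := fun h => s'.2 (ht ▸ h)
      refine ⟨IsLocalization.mk' _ a ⟨t, ht0⟩, ?_⟩
      rw [Localization.localRingHom_mk']
      congr 1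
      exact Subtype.ext ht)
  refine ⟨R', fun r hr => Subfield.subset_closure (Finset.mem_coe.mpr (Finset.mem_image_of_mem _ hr)),
    hR', ?_, ?_⟩
  · refine Finite.of_injective (fun P : MaximalSpectrum R' =>
      (⟨P.asIdeal.map e, Ideal.map_isMaximal_of_equiv e⟩ : MaximalSpectrum T)) fun P Q h => ?_
    refine MaximalSpectrum.ext ?_
    have h' : P.asIdeal.map e = Q.asIdeal.map e := congrArg MaximalSpectrum.asIdeal h
    rw [← Ideal.comap_map_of_bijective e e.bijective (I := P.asIdeal), h', Ideal.comap_map_of_bijective e e.bijective]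
  · refine lt_of_le_of_lt (Groth.Agent.H20.PrimeChainBound.ringKrullDim_le
      (((algebraMap R L).comp R'.subtype).codRestrict K fun r => r.2)
      (fun r r' h => Subtype.ext (IsFractionRing.injective R L (congrArg (fun x : K => (x : L)) h)))
      hR' S.card (fun ι _ x hx => trdeg_bound S ι x hx)) ?_
    exact WithBot.coe_lt_coe.mpr (ENat.natCast_lt_top _)

end Groth.Agent.S14730
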