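import Groth.Statements.S14731
import Groth.Agent.H20.SmoothModel
import Mathlib.FieldTheory.Perfect
import Mathlib.RingTheory.Adjoin.FG
import Mathlib.RingTheory.Etale.Basic
import Mathlib.Algebra.Algebra.Rat

set_option autoImplicit false
universe u
open ValPrufer

namespace Groth.Agent.S14731

/-- In characteristic zero, every field K generated as a field by a finite set is the fraction field of
a subring A of K of finite type and smooth over the integers. -/
theorem result
    (K : Type u) [Field K] [CharZero K] (s : Finset K)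
    (hs : Subfield.closure (↑s : Set K) = ⊤) :
    ∃ A : Subring K, Algebra.FiniteType ℤ A ∧ Algebra.Smooth ℤ A ∧ IsFractionRing A K := by
  classical
  -- `K` is formally smooth over `ℤ`
  let S₀ : Subalgebra ℤ K := Algebra.adjoin ℤ (↑s : Set K)
  have hS₀ : Algebra.FiniteType ℤ S₀ := S₀.fg_iff_finiteType.mp (Subalgebra.fg_adjoin_finset s)
  have hsub : (S₀ : Set K) = Subring.closure (↑s : Set K) := by
    simp only [S₀, Algebra.adjoin_int]; rfl
  have hfr : IsFractionRing S₀ K := IsFractionRing.of_field _ _ fun x => by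
    have hx : x ∈ Subfield.closure (↑s : Set K) := hs ▸ Subfield.mem_top x
    obtain ⟨y, hy, z, hz, rfl⟩ := Subfield.mem_closure_iff.mp hx
    exact ⟨⟨y, show y ∈ (S₀ : Set K) from hsub ▸ hy⟩, ⟨z, show z ∈ (S₀ : Set K) from hsub ▸ hz⟩, rfl⟩
  have : Algebra.EssFiniteType ℤ K := by
    have : Algebra.EssFiniteType S₀ K := Algebra.EssFiniteType.of_isLocalization K (nonZeroDivisors S₀)
    exact Algebra.EssFiniteType.comp ℤ S₀ K
  have : Algebra.EssFiniteType ℚ K := Algebra.EssFiniteType.of_comp ℤ ℚ K
  have : Algebra.FormallyEtale ℤ ℚ := Algebra.FormallyEtale.of_isLocalization (nonZeroDivisors ℤ)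
  have : Algebra.FormallySmooth ℤ K := Algebra.FormallySmooth.comp ℤ ℚ K
  obtain ⟨A, h1, h2, h3⟩ := Groth.Agent.H20.SmoothModel.exists_smooth_subalgebra ℤ K S₀
  exact ⟨A.toSubring, by convert! h1, by convert! h2, h3⟩

end Groth.Agent.S14731
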