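import Groth.Statements.S14732
import Groth.Agent.H20.SmoothModel
import Mathlib.FieldTheory.Perfect
import Mathlib.FieldTheory.Finite.Basic
import Mathlib.RingTheory.Adjoin.FG

set_option autoImplicit false
universe u
open ValPrufer

namespace Groth.Agent.S14732

/-- In characteristic p > 0, a field K that is finitely generated over its prime subfield F (a field
with p elements) is the fraction field of an integral scheme smooth over F; concretely, there is an
F-subalgebra A of K, of finite type and smooth over F, whose fraction field is K. -/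
theorem result
    (K : Type u) [Field K] (p : ℕ) [Fact p.Prime] [CharP K p] (s : Finset K)
    (hs : Subfield.closure (↑s : Set K) = ⊤) :
    ∃ A : Subalgebra (⊥ : Subfield K) K, Algebra.FiniteType (⊥ : Subfield K) A ∧
      Algebra.Smooth (⊥ : Subfield K) A ∧ IsFractionRing A K := by
  classical
  have : Finite (⊥ : Subfield K) := (Subfield.fintypeBot K p).finite
  let S₀ : Subalgebra (⊥ : Subfield K) K := Algebra.adjoin (⊥ : Subfield K) (↑s : Set K)
  have hS₀ : Algebra.FiniteType (⊥ : Subfield K) S₀ :=
    S₀.fg_iff_finiteType.mp (Subalgebra.fg_adjoin_finset s)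
  have hfr : IsFractionRing S₀ K := IsFractionRing.of_field _ _ fun x => by
    have hx : x ∈ Subfield.closure (↑s : Set K) := hs ▸ Subfield.mem_top x
    obtain ⟨y, hy, z, hz, rfl⟩ := Subfield.mem_closure_iff.mp hx
    have hle : Subring.closure (↑s : Set K) ≤ S₀.toSubring :=
      Subring.closure_le.mpr Algebra.subset_adjoin
    exact ⟨⟨y, hle hy⟩, ⟨z, hle hz⟩, rfl⟩
  have : Algebra.EssFiniteType (⊥ : Subfield K) K := by
    have : Algebra.EssFiniteType S₀ K := Algebra.EssFiniteType.of_isLocalization K (nonZeroDivisors S₀)
    exact Algebra.EssFiniteType.comp (⊥ : Subfield K) S₀ K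
  obtain ⟨A, h1, h2, h3⟩ :=
    Groth.Agent.H20.SmoothModel.exists_smooth_subalgebra (⊥ : Subfield K) K S₀
  exact ⟨A, h1, h2, h3⟩

end Groth.Agent.S14732
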