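import Groth.Statements.S14733
import Groth.Agent.H46.FibreDimNhd
import Groth.Agent.H46.UnivOpenTrdeg
import Mathlib.AlgebraicGeometry.Morphisms.Preimmersion

set_option autoImplicit false
open CategoryTheory AlgebraicGeometry
universe u
open ValPrufer
open CategoryTheory.Limits

namespace Groth.Agent.S14733

/-- Let R be a Prüfer domain (an integral domain whose localisations at primes are valuation rings), X
an irreducible scheme and f : X ⟶ Spec R a dominant morphism of finite type. If the fibre of f over
a point γ of Spec R is nonempty, then it has the same dimension as the fibre over the generic point. -/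
theorem result
    (R : Type u) [CommRing R] [IsDomain R]
    (hR : ∀ (p : Ideal R) [p.IsPrime], ValuationRing (Localization.AtPrime p))
    (X : Scheme.{u}) [IrreducibleSpace X] (f : X ⟶ Spec (CommRingCat.of R))
    [LocallyOfFiniteType f] [QuasiCompact f] [IsDominant f] (γ : Spec (CommRingCat.of R))
    (h0 : Nonempty ↥(f.fiber γ)) :
    topologicalKrullDim ↥(f.fiber γ) =
      topologicalKrullDim ↥(f.fiber (genericPoint (Spec (CommRingCat.of R)))) := by
  have hgen : Groth.Agent.Lib.Subtrusive.Valuation.genPt R = genericPoint (Spec (CommRingCat.of R)) :=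
    ((Groth.Agent.Lib.Subtrusive.Valuation.genPt_specializes _).antisymm (genericPoint_specializes _)).eq
  set ξ₀ := genericPoint X with hξ₀
  have hη : f ξ₀ = genericPoint (Spec (CommRingCat.of R)) := by
    refine Groth.Agent.H46.Equidim.closure_singleton_inj ?_
    rw [← Groth.Agent.H46.Equidim.closure_image_closure' f ξ₀, genericPoint_closure,
      genericPoint_closure, Set.image_univ, f.denseRange.closure_range]
  have hdim : topologicalKrullDim ↥(f.fiber (genericPoint (Spec (CommRingCat.of R)))) =
      (Groth.Agent.H46.FibreTrdeg.trd f ξ₀ : WithBot ℕ∞) :=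
    le_antisymm ((Groth.Agent.H46.FibreTrdeg.dim_fiber_le_iff f _ _).2 fun a ha =>
      Groth.Agent.H46.FibreTrdeg.trd_le f (genericPoint_specializes a) (hη.trans ha.symm))
      (Groth.Agent.H46.FibreTrdeg.trd_le_dim_fiber f ξ₀ _ hη)
  rw [hdim]
  obtain ⟨z₀⟩ := h0
  obtain ⟨ζ, hζ, hmax, he⟩ := Groth.Agent.H46.FibreDimNhd.exists_trd_eq_dim f
    (f.fiberι γ z₀) γ (Groth.Agent.Lib.Cyc.FieldDim.apply_fiberι f _ z₀)
  rw [he, Nat.cast_inj]
  refine le_antisymm ?_
    (Groth.Agent.H46.FibreTrdeg.trd_le_of_specializes f (genericPoint_specializes ζ) hmax)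
  let P : Ideal R := (γ : PrimeSpectrum R).asIdeal
  haveI : P.IsPrime := (γ : PrimeSpectrum R).2
  haveI : IsDomain (Localization.AtPrime P) :=
    IsLocalization.isDomain_localization P.primeCompl_le_nonZeroDivisors
  haveI := hR P
  let w := Spec.map (CommRingCat.ofHom (algebraMap R (Localization.AtPrime P)))
  haveI : IsPreimmersion w := IsPreimmersion.of_isLocalization P.primeCompl
  have hwg : w (Groth.Agent.Lib.Subtrusive.Valuation.genPt (Localization.AtPrime P)) =
      genericPoint (Spec (CommRingCat.of R)) :=
    (Groth.Agent.Lib.Subtrusive.Valuation.specMap_genPt _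
      (IsLocalization.injective _ P.primeCompl_le_nonZeroDivisors)).trans hgen
  have hwc : w (Groth.Agent.Lib.Subtrusive.Valuation.clPt (Localization.AtPrime P)) = f ζ := by
    rw [hζ]
    exact PrimeSpectrum.ext Localization.AtPrime.comap_maximalIdeal
  obtain ⟨ξ, hξ, hfξ, hle⟩ := Groth.Agent.H46.UnivOpenTrdeg.exists_trd_le_of_valuation f ζ
    (genericPoint (Spec (CommRingCat.of R))) (Localization.AtPrime P) w hwg hwc (fun p hp _ => by
      obtain ⟨z, hz, hz'⟩ := Scheme.Pullback.exists_preimage_pullback (f := f) (g := w) ξ₀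
        (Groth.Agent.Lib.Subtrusive.Valuation.genPt (Localization.AtPrime P)) (hη.trans hwg.symm)
      refine ⟨z, (pullback.fst f w).isEmbedding.isInducing.specializes_iff.1 ?_, hz'⟩
      rw [hz, hp]
      exact genericPoint_specializes ζ)
  exact hle.trans (Groth.Agent.H46.FibreTrdeg.trd_le f (genericPoint_specializes ξ)
    (hη.trans hfξ.symm))

end Groth.Agent.S14733
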