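import Groth.Statements.S14734
import Groth.Agent.H20.PruferDim
import Mathlib.RingTheory.Spectrum.Prime.Topology

set_option autoImplicit false
universe u
open ValPrufer

namespace Groth.Agent.S14734

/-- Let R be a Prüfer domain (an integral domain whose localisations at primes are valuation rings) of
finite Krull dimension and S an R-algebra of finite type. Then S, and every localisation T of S at a
multiplicative subset, is catenary and of finite Krull dimension. (The published statement is for a
scheme X of finite type over R and the spectrum of any semilocalisation of X; catenarity is local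
and finiteness of dimension is checked on a finite affine cover, so this row states the affine case
together with arbitrary localisations.) -/
theorem result
    (R : Type u) [CommRing R] [IsDomain R]
    (hR : ∀ (p : Ideal R) [p.IsPrime], ValuationRing (Localization.AtPrime p))
    (hdim : ringKrullDim R < ⊤)
    (S : Type u) [CommRing S] [Algebra R S] [Algebra.FiniteType R S]
    (M : Submonoid S) (T : Type u) [CommRing T] [Algebra S T] [IsLocalization M T] :
    CAlg.IsCatenary S ∧ ringKrullDim S < ⊤ ∧ CAlg.IsCatenary T ∧ ringKrullDim T < ⊤ := by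
  classical
  obtain ⟨D, hD⟩ : ∃ D : ℕ, ringKrullDim R ≤ (D : WithBot ℕ∞) := by
    obtain ⟨l, hl⟩ : ∃ l : ℕ∞, ringKrullDim R = l :=
      (WithBot.ne_bot_iff_exists.mp (ne_bot_of_le_ne_bot (by simp) ringKrullDim_nonneg_of_nontrivial)).imp fun _ h => h.symm
    have hne : l ≠ ⊤ := fun h => hdim.ne (by rw [hl, h]; rfl)
    obtain ⟨d, rfl⟩ := ENat.ne_top_iff_exists.mp hne
    exact ⟨d, hl.le⟩
  have hfin : ∀ p : Ideal R, p.IsPrime → p.height ≠ ⊤ ∧ p.height.toNat ≤ D := fun p hp => by
    have h1 : p.height ≤ (D : ℕ∞) :=
      WithBot.coe_le_coe.mp ((Ideal.height_le_ringKrullDim_of_ne_top hp.ne_top).trans hD)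
    exact ⟨ne_top_of_le_ne_top (ENat.natCast_ne_top D) h1, ENat.toNat_le_of_le_natCast h1⟩
  obtain ⟨s, hs⟩ := Algebra.FiniteType.out (R := R) (A := S)
  have htau : ∀ P : PrimeSpectrum S, Groth.Agent.H20.PruferDim.tau R P.asIdeal ≤ s.card := by
    intro P
    refine Groth.Agent.H20.PruferDim.tau_le P.asIdeal (fun i => (s.equivFin.symm i : S)) ⟨fun z => ?_⟩
    obtain ⟨z, rfl⟩ := Ideal.Quotient.mk_surjective z
    set A := Algebra.adjoin (R ⧸ P.asIdeal.under R)
      (Set.range fun i => Ideal.Quotient.mk P.asIdeal ((s.equivFin.symm i : S)))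
    have : Ideal.Quotient.mk P.asIdeal z ∈ A := by
      have hz : z ∈ Algebra.adjoin R (s : Set S) := by rw [hs]; exact Algebra.mem_top
      induction hz using Algebra.adjoin_induction with
      | mem x hx => exact Algebra.subset_adjoin ⟨s.equivFin ⟨x, hx⟩, by simp⟩
      | algebraMap r => exact A.algebraMap_mem (Ideal.Quotient.mk _ r)
      | add a b _ _ ha hb => rw [map_add]; exact add_mem ha hb
      | mul a b _ _ ha hb => rw [map_mul]; exact mul_mem ha hb
    exact isAlgebraic_algebraMap (A := S ⧸ P.asIdeal) (⟨_, this⟩ : A)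
  let δ : PrimeSpectrum S → ℤ := fun P =>
    (Groth.Agent.H20.PruferDim.tau R P.asIdeal : ℤ) - (P.asIdeal.under R).height.toNat
  have hlt : ∀ P Q : PrimeSpectrum S, P < Q → δ Q < δ P := fun P Q h =>
    Groth.Agent.H20.PruferDim.delta_lt hR (fun p hp => (hfin p hp).1) h
  have hcov : ∀ P Q : PrimeSpectrum S, P ⋖ Q → δ P = δ Q + 1 := fun P Q h =>
    Groth.Agent.H20.PruferDim.delta_covBy hR (fun p hp => (hfin p hp).1) h
  have hlen : ∀ l : LTSeries (PrimeSpectrum S), l.length ≤ s.card + D := by
    intro l
    have h1 : ∀ i : Fin (l.length + 1), δ (l i) + (i : ℕ) ≤ δ l.head := by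
      intro i
      induction i using Fin.induction with
      | zero => simp [RelSeries.head]
      | succ i ih =>
        have := hlt _ _ (l.strictMono (Fin.castSucc_lt_succ (i := i)))
        simp only [Fin.val_succ, Fin.val_castSucc] at *
        omega
    have h2 := h1 (Fin.last _)
    have h3 := htau l.head
    have h4 := (hfin ((l (Fin.last _)).asIdeal.under R) inferInstance).2
    simp only [δ, Fin.val_last] at h2
    omega
  have hsat : ∀ l : LTSeries (PrimeSpectrum S),
      (∀ i : Fin l.length, l (Fin.castSucc i) ⋖ l (Fin.succ i)) → δ l.head = δ l.last + l.length := by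
    intro l hl
    have h1 : ∀ i : Fin (l.length + 1), δ (l i) + (i : ℕ) = δ l.head := by
      intro i
      induction i using Fin.induction with
      | zero => simp [RelSeries.head]
      | succ i ih =>
        have := hcov _ _ (hl i)
        simp only [Fin.val_succ, Fin.val_castSucc] at *
        omega
    have h2 := h1 (Fin.last _)
    simp only [Fin.val_last] at h2
    exact h2.symm
  have hS : ringKrullDim S ≤ ((s.card + D : ℕ) : WithBot ℕ∞) :=
    iSup_le fun l => by exact_mod_cast hlen l
  let c := PrimeSpectrum.comap (algebraMap S T)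
  have hc : StrictMono c := fun a b h => lt_of_le_of_ne (Ideal.comap_mono h.le)
    fun he => h.ne (PrimeSpectrum.localization_comap_injective T M he)
  have hcc : ∀ a b, a ⋖ b → c a ⋖ c b := fun a b h => ⟨hc h.lt, fun z haz hzb => by
    have hz : z ∈ Set.range c := by
      rw [PrimeSpectrum.localization_comap_range T M]
      refine (Set.disjoint_left.mpr fun x hx hx' => ?_)
      have hb : c b ∈ Set.range c := ⟨b, rfl⟩
      rw [PrimeSpectrum.localization_comap_range T M] at hb
      exact Set.disjoint_left.mp hb hx (hzb.le hx')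
    obtain ⟨w, rfl⟩ := hz
    have key : ∀ u v, c u < c v → u < v := fun u v huv => by
      refine lt_of_le_of_ne ?_ fun he => huv.ne (congrArg c he)
      show u.asIdeal ≤ v.asIdeal
      rw [← IsLocalization.map_comap M T u.asIdeal, ← IsLocalization.map_comap M T v.asIdeal]
      exact Ideal.map_mono huv.le
    exact h.2 (key _ _ haz) (key _ _ hzb)⟩
  refine ⟨⟨fun p q _ => ⟨_, fun l _ _ => hlen l⟩, fun l m hh hl h1 h2 => ?_⟩, ?_, ?_, ?_⟩
  · have := hsat l h1; have := hsat m h2; rw [hh, hl] at *; omega
  · exact hS.trans_lt (WithBot.coe_lt_coe.mpr (ENat.natCast_lt_top _))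
  · refine ⟨fun p q _ => ⟨s.card + D, fun l _ _ => hlen (l.map c hc)⟩, fun l m hh hl h1 h2 => ?_⟩
    have e1 := hsat (l.map c hc) fun i => hcc _ _ (h1 i)
    have e2 := hsat (m.map c hc) fun i => hcc _ _ (h2 i)
    have e3 : δ (c l.head) = δ (c l.last) + l.length := e1
    have e4 : δ (c m.head) = δ (c m.last) + m.length := e2
    rw [hh, hl] at e3
    omega
  · exact ((Order.krullDim_le_of_strictMono c hc).trans hS).trans_lt
      (WithBot.coe_lt_coe.mpr (ENat.natCast_lt_top _))

end Groth.Agent.S14734
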