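import Groth.Statements.S14738
import Groth.Agent.H20.PruferSpec
import Mathlib.RingTheory.Ideal.Operations
import Mathlib.RingTheory.Localization.Away.Basic

set_option autoImplicit false
universe u
open ValPrufer

namespace Groth.Agent.S14738

/-- Let R be a semilocal Prüfer domain (an integral domain with finitely many maximal ideals whose
localisations at primes are valuation rings) of finite Krull dimension, and m a maximal ideal of R.
Then there is a ∈ R with V(a) = {m}, i.e. m is the only prime ideal containing a, and there is b ∉ m
such that R[1/b] is the localisation R_m (every element outside m becomes invertible after inverting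
b); consequently the spectra of the local rings R_m form a Zariski open covering of Spec R. (The
published remark assumes positive Krull dimension to construct a; for R a field the assertions hold
with a = 0 and b = 1. It also takes b to be the product of the elements a_n chosen in the same way
for the other maximal ideals n; that choice fails as soon as a non-maximal prime lies in another
maximal ideal but not in m, e.g. for the intersection of two independent rank-two valuation rings of
a field, so this row asserts only that some such b exists.) -/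
theorem result
    (R : Type u) [CommRing R] [IsDomain R]
    (hR : ∀ (p : Ideal R) [p.IsPrime], ValuationRing (Localization.AtPrime p))
    (hfin : Finite (MaximalSpectrum R)) (hdim : ringKrullDim R < ⊤)
    (m : Ideal R) [m.IsMaximal] :
    (∃ a : R, ∀ (p : Ideal R), p.IsPrime → (a ∈ p ↔ p = m)) ∧
      ∃ b : R, b ∉ m ∧ IsLocalization.AtPrime (Localization.Away b) m := by
  classical
  haveI := Groth.Agent.H20.PruferSpec.finite_primeSpectrum R hR hfin hdim
  have := Fintype.ofFinite (PrimeSpectrum R)
  constructor
  · let T : Finset (PrimeSpectrum R) := Finset.univ.filter fun p => p.asIdeal ≠ m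
    have hnle : ¬ ((m : Set R) ⊆ ⋃ p ∈ (↑T : Set (PrimeSpectrum R)), (p.asIdeal : Set R)) := by
      intro h
      obtain ⟨p, hp, hle⟩ := (Ideal.subset_union_prime (f := fun p : PrimeSpectrum R => p.asIdeal)
        ⟨⊥, Ideal.isPrime_bot⟩ ⟨⊥, Ideal.isPrime_bot⟩ (fun p _ _ _ => p.2)).mp h
      exact (Finset.mem_filter.mp hp).2
        ((Ideal.IsMaximal.eq_of_le ‹m.IsMaximal› p.2.ne_top hle).symm)
    obtain ⟨a, ha, ha'⟩ := Set.not_subset.mp hnle
    refine ⟨a, fun p hp => ⟨fun hap => ?_, fun h => h ▸ ha⟩⟩
    by_contra hne
    exact ha' (Set.mem_biUnion (Finset.mem_filter.mpr ⟨Finset.mem_univ ⟨p, hp⟩, hne⟩) hap)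
  · let T : Finset (PrimeSpectrum R) := Finset.univ.filter fun p => ¬ p.asIdeal ≤ m
    have hnle : ¬ (T.inf fun p => p.asIdeal) ≤ m := fun h => by
      obtain ⟨p, hp, hle⟩ := (Ideal.IsPrime.inf_le' (Ideal.IsMaximal.isPrime ‹_›)).mp h
      exact (Finset.mem_filter.mp hp).2 hle
    obtain ⟨b, hb, hbm⟩ := SetLike.not_le_iff_exists.mp hnle
    refine ⟨b, hbm, IsLocalization.of_le (Submonoid.powers b) m.primeCompl ?_ fun r hr => ?_⟩
    · rintro x ⟨k, rfl⟩
      exact fun hx => hbm ((Ideal.IsMaximal.isPrime ‹_›).mem_of_pow_mem k hx)
    · by_contra hu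
      obtain ⟨Q, hQ, hrQ⟩ := exists_max_ideal_of_mem_nonunits (show algebraMap R (Localization.Away b) r ∈ nonunits _ from hu)
      have hbQ : b ∉ Q.comap (algebraMap R (Localization.Away b)) := fun h =>
        hQ.ne_top (Q.eq_top_of_isUnit_mem h (IsLocalization.Away.algebraMap_isUnit b))
      by_cases hle : Q.comap (algebraMap R (Localization.Away b)) ≤ m
      · exact hr (hle hrQ)
      · exact hbQ (Finset.inf_le (f := fun p : PrimeSpectrum R => p.asIdeal)
          (Finset.mem_filter.mpr ⟨Finset.mem_univ ⟨_, Ideal.IsPrime.comap _⟩, hle⟩) hb)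

end Groth.Agent.S14738
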