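import Groth.Statements.S14739
import Groth.Agent.H20.PruferSpec
import Mathlib.RingTheory.Spectrum.Prime.Noetherian
import Mathlib.RingTheory.FiniteStability
import Mathlib.RingTheory.ZariskisMainTheorem

set_option autoImplicit false
universe u
open ValPrufer

namespace Groth.Agent.S14739

/-- Let R be a semilocal Prüfer domain (an integral domain with finitely many maximal ideals whose
localisations at primes are valuation rings) of finite Krull dimension and S an R-algebra of finite
type. Then Spec S is a Noetherian topological space, and so is Spec T for every localisation T of S.
(The published remark is for a scheme of finite type over R and the spectrum of any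
semilocalisation; the affine case with arbitrary localisations is stated.) -/
theorem result
    (R : Type u) [CommRing R] [IsDomain R]
    (hR : ∀ (p : Ideal R) [p.IsPrime], ValuationRing (Localization.AtPrime p))
    (hfin : Finite (MaximalSpectrum R)) (hdim : ringKrullDim R < ⊤)
    (S : Type u) [CommRing S] [Algebra R S] [Algebra.FiniteType R S]
    (M : Submonoid S) (T : Type u) [CommRing T] [Algebra S T] [IsLocalization M T] :
    TopologicalSpace.NoetherianSpace (PrimeSpectrum S) ∧
      TopologicalSpace.NoetherianSpace (PrimeSpectrum T) := by
  classical
  haveI := Groth.Agent.H20.PruferSpec.finite_primeSpectrum R hR hfin hdim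
  have hS : TopologicalSpace.NoetherianSpace (PrimeSpectrum S) := by
    let f : PrimeSpectrum R → Set (PrimeSpectrum S) :=
      fun p => PrimeSpectrum.comap (algebraMap R S) ⁻¹' {p}
    haveI : ∀ p, TopologicalSpace.NoetherianSpace (f p) := fun p => by
      haveI : IsNoetherianRing (p.asIdeal.Fiber S) :=
        Algebra.FiniteType.isNoetherianRing p.asIdeal.ResidueField _
      exact (TopologicalSpace.noetherianSpace_iff_of_homeomorph
        (PrimeSpectrum.preimageHomeomorphFiber R S p)).mpr inferInstance
    have h := TopologicalSpace.NoetherianSpace.iUnion f
    rw [show (⋃ p, f p) = Set.univ from Set.eq_univ_of_forall fun x =>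
      Set.mem_iUnion.mpr ⟨_, rfl⟩] at h
    exact TopologicalSpace.noetherian_univ_iff.mp h
  exact ⟨hS, (PrimeSpectrum.localization_comap_isEmbedding T M).isInducing.noetherianSpace⟩

end Groth.Agent.S14739
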