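import Groth.Statements.S1474
import Groth.Agent.H2.Rigid.GeomRegFibre

set_option autoImplicit false
universe u
open FlatMor

namespace Groth.Agent.S1474

open AlgebraicGeometry CategoryTheory Limits in
/-- (2) ⇔ (3): let f : X → Y have locally Noetherian fibres. Then the ring maps O_Y(V) → O_X(U) are
regular for all affine opens U ⊆ f⁻¹(V) if and only if f is flat and every fibre X_y is
geometrically regular over κ(y), i.e. every affine open of X_y has Noetherian, geometrically regular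
coordinate ring over κ(y). -/
theorem result {X Y : Scheme.{u}} (f : X ⟶ Y) (hN : ∀ y : Y, IsLocallyNoetherian (f.fiber y)) :
    (∀ (U : X.Opens) (V : Y.Opens) (hU : IsAffineOpen U) (hV : IsAffineOpen V) (hUV : U ≤ f ⁻¹ᵁ V),
        letI := (f.appLE V U hUV).hom.toAlgebra
        CAlg.IsRegularHom Γ(Y, V) Γ(X, U)) ↔
      Flat f ∧ ∀ (y : Y) (W : (f.fiber y).Opens), IsAffineOpen W →
        letI : Algebra ↑(Y.residueField y) ↑Γ(f.fiber y, W) := ((Scheme.ΓSpecIso (Y.residueField y)).inv ≫ (f.fiberToSpecResidueField y).appTop ≫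
          (f.fiber y).presheaf.map (homOfLE le_top).op).hom.toAlgebra
        IsNoetherianRing ↑Γ(f.fiber y, W) ∧ CAlg.IsGeometricallyRegular ↑(Y.residueField y) ↑Γ(f.fiber y, W) := by
  let g (y : Y) : f.fiber y ⟶ Spec (CommRingCat.of (Y.residueField y)) := f.fiberToSpecResidueField y
  -- fibre rings of charts
  have chart : ∀ (U : X.Opens) (V : Y.Opens) (hU : IsAffineOpen U) (hV : IsAffineOpen V) (hUV : U ≤ f ⁻¹ᵁ V),
      letI := (f.appLE V U hUV).hom.toAlgebra
      ∀ p : PrimeSpectrum Γ(Y, V), IsNoetherianRing (p.asIdeal.Fiber Γ(X, U)) ∧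
        ((∀ z : ↥(f.fiber (hV.fromSpec p)), H2.Rigid.GeomRegFibre.RegPt (g _) z) →
          CAlg.IsGeometricallyRegular p.asIdeal.ResidueField (p.asIdeal.Fiber Γ(X, U))) ∧
        (CAlg.IsGeometricallyRegular p.asIdeal.ResidueField (p.asIdeal.Fiber Γ(X, U)) →
          ∀ z : ↥(f.fiber (hV.fromSpec p)), f.fiberι _ z ∈ Set.range hU.fromSpec →
            H2.Rigid.GeomRegFibre.RegPt (g _) z) := by
    intro U V hU hV hUV
    letI := (f.appLE V U hUV).hom.toAlgebra
    intro p
    obtain ⟨e, j, _, hj, hr⟩ := H2.Rigid.GeomRegFibre.exists_chart f Γ(Y, V) Γ(X, U) hV.fromSpec hU.fromSpec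
      (IsAffineOpen.SpecMap_appLE_fromSpec f hV hU hUV).symm p
    have := hN (hV.fromSpec p)
    have hF : IsNoetherianRing (p.asIdeal.Fiber Γ(X, U)) :=
      isLocallyNoetherian_Spec.1 (isLocallyNoetherian_of_isOpenImmersion j)
    refine ⟨hF, fun h => (H2.Rigid.GeomRegFibre.regPt_spec_iff _).1 fun q => ?_, fun h z hz => ?_⟩
    · exact (H2.Rigid.GeomRegFibre.regPt_openImmersion j (g _ ≫ e.hom) _ hj q).2
        ((H2.Rigid.GeomRegFibre.regPt_iso_iff (k := Y.residueField (hV.fromSpec p)) e (g _) _ rfl _).1 (h _))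
    · obtain ⟨q, rfl⟩ := hr z hz
      exact (H2.Rigid.GeomRegFibre.regPt_iso_iff (k := Y.residueField (hV.fromSpec p)) e (g _) _ rfl _).2
        ((H2.Rigid.GeomRegFibre.regPt_openImmersion j (g _ ≫ e.hom) _ hj q).1
          ((H2.Rigid.GeomRegFibre.regPt_spec_iff _).2 h q))
  -- affine opens of fibres
  have fib : ∀ (y : Y) (W : (f.fiber y).Opens) (hW : IsAffineOpen W),
      letI : Algebra ↑(Y.residueField y) ↑Γ(f.fiber y, W) := ((Scheme.ΓSpecIso (Y.residueField y)).inv ≫ (f.fiberToSpecResidueField y).appTop ≫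
        (f.fiber y).presheaf.map (homOfLE le_top).op).hom.toAlgebra
      IsNoetherianRing ↑Γ(f.fiber y, W) ∧
        (CAlg.IsGeometricallyRegular ↑(Y.residueField y) ↑Γ(f.fiber y, W) ↔
          ∀ z ∈ W, H2.Rigid.GeomRegFibre.RegPt (g y) z) := by
    intro y W hW
    letI : Algebra ↑(Y.residueField y) ↑Γ(f.fiber y, W) := ((Scheme.ΓSpecIso (Y.residueField y)).inv ≫ (f.fiberToSpecResidueField y).appTop ≫
        (f.fiber y).presheaf.map (homOfLE le_top).op).hom.toAlgebra
    have := hN y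
    have hF : IsNoetherianRing ↑Γ(f.fiber y, W) := IsLocallyNoetherian.component_noetherian ⟨W, hW⟩
    have key : hW.fromSpec ≫ g y =
        Spec.map (CommRingCat.ofHom (algebraMap ↑(Y.residueField y) ↑Γ(f.fiber y, W))) := by
      have hg : f.fiberToSpecResidueField y = (f.fiber y).toSpecΓ ≫
          Spec.map ((Scheme.ΓSpecIso (Y.residueField y)).inv ≫ (f.fiberToSpecResidueField y).appTop) := by
        rw [Spec.map_comp, ← Scheme.toSpecΓ_naturality_assoc, toSpecΓ_SpecMap_ΓSpecIso_inv]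
        simp
      change hW.fromSpec ≫ f.fiberToSpecResidueField y = _
      rw [hg, IsAffineOpen.fromSpec_toSpecΓ_assoc, ← Spec.map_comp]
      rfl
    refine ⟨hF, (H2.Rigid.GeomRegFibre.regPt_spec_iff _).symm.trans ?_⟩
    constructor
    · intro h z hz
      obtain ⟨q, rfl⟩ : z ∈ Set.range hW.fromSpec := by rw [hW.range_fromSpec]; exact hz
      exact (H2.Rigid.GeomRegFibre.regPt_openImmersion hW.fromSpec (g y) _ key q).1 (h q)
    · intro h q
      exact (H2.Rigid.GeomRegFibre.regPt_openImmersion hW.fromSpec (g y) _ key q).2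
        (h _ (hW.range_fromSpec.subset ⟨q, rfl⟩))
  constructor
  · intro h
    have hflat : Flat f := by
      rw [HasRingHomProperty.iff_appLE (P := @Flat)]
      intro V U e
      letI := (f.appLE V.1 U.1 e).hom.toAlgebra
      exact (h U.1 V.1 U.2 V.2 e).1
    refine ⟨hflat, fun y W hW => ⟨(fib y W hW).1, (fib y W hW).2.2 fun z _ => ?_⟩⟩
    obtain ⟨V, hV, hyV, -⟩ := exists_isAffineOpen_mem_and_subset (X := Y) (x := y) (U := ⊤) trivial
    obtain ⟨p, rfl⟩ : y ∈ Set.range hV.fromSpec := by rw [hV.range_fromSpec]; exact hyV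
    have hfz : f.fiberι (hV.fromSpec p) z ∈ f ⁻¹ᵁ V := by
      have hr : f.fiberι (hV.fromSpec p) z ∈ Set.range (f.fiberι (hV.fromSpec p)) := ⟨z, rfl⟩
      rw [f.range_fiberι] at hr
      show f _ ∈ V
      rw [hr]
      exact hyV
    obtain ⟨U, hU, hxU, hUV⟩ := exists_isAffineOpen_mem_and_subset hfz
    exact (chart U V hU hV hUV p).2.2 ((h U V hU hV hUV).2 p.asIdeal).2 z
      (by rw [hU.range_fromSpec]; exact hxU)
  · rintro ⟨hflat, h⟩ U V hU hV hUV
    letI := (f.appLE V U hUV).hom.toAlgebra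
    refine ⟨(HasRingHomProperty.appLE @Flat f hflat ⟨V, hV⟩ ⟨U, hU⟩ hUV : _), fun p hp => ?_⟩
    obtain ⟨hF, h1, -⟩ := chart U V hU hV hUV ⟨p, hp⟩
    refine ⟨hF, h1 fun z => ?_⟩
    obtain ⟨W, hW, hzW, -⟩ := exists_isAffineOpen_mem_and_subset (X := f.fiber (hV.fromSpec ⟨p, hp⟩)) (x := z) (U := ⊤) trivial
    exact (fib _ W hW).2.1 (h _ W hW).2 z hzW

end Groth.Agent.S1474
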