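import Groth.Statements.S14742
import Groth.Agent.H20.PruferCoherent
import Mathlib.RingTheory.FinitePresentation

set_option autoImplicit false
universe u
open ValPrufer

namespace Groth.Agent.S14742

/-- Let R be a Prüfer domain (an integral domain whose localisations at primes are valuation rings) and
A a finitely presented R-algebra. Then A is a coherent ring: every finitely generated ideal I of A
is finitely presented as an A-module. -/
theorem result
    (R : Type u) [CommRing R] [IsDomain R]
    (hR : ∀ (p : Ideal R) [p.IsPrime], ValuationRing (Localization.AtPrime p))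
    (A : Type u) [CommRing A] [Algebra R A] [Algebra.FinitePresentation R A]
    (I : Ideal A) (hI : I.FG) : Module.FinitePresentation A I := by
  classical
  obtain ⟨n, π, hπ, ⟨G, hG⟩⟩ := Algebra.FinitePresentation.out (R := R) (A := A)
  let P := MvPolynomial (Fin n) R
  haveI : Module.Finite A I := Module.Finite.iff_fg.mpr hI
  obtain ⟨s, πI, hπI⟩ := Module.Finite.exists_fin' A I
  choose l hl using fun j : Fin s => hπ (πI (Pi.single j 1) : A)
  let φ : ((Fin s → P) × (G → P)) →ₗ[P] P :=
    (Fintype.linearCombination P l).coprod (Fintype.linearCombination P fun g : G => (g : P))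
  have hF : (LinearMap.ker φ).FG := by
    let e : P ≃ₗ[P] (Fin 1 → P) := (LinearEquiv.funUnique (Fin 1) P P).symm
    have h1 : ((LinearMap.range φ).map e.toLinearMap).FG := by
      rw [← Module.Finite.iff_fg]
      haveI : Module.Finite P (LinearMap.range φ) := Module.Finite.range φ
      exact Module.Finite.map _ _
    haveI := Groth.Agent.H20.PruferCoherent.finitePresentation_of_fg hR _ h1
    let φ' : ((Fin s → P) × (G → P)) →ₗ[P] ((LinearMap.range φ).map e.toLinearMap) :=
      (e.submoduleMap (LinearMap.range φ)).toLinearMap.comp φ.rangeRestrict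
    have h2 := Module.FinitePresentation.fg_ker φ'
      ((e.submoduleMap (LinearMap.range φ)).surjective.comp φ.surjective_rangeRestrict)
    have h3 : LinearMap.ker φ' = LinearMap.ker φ := by
      rw [LinearMap.ker_comp_of_ker_eq_bot _ (LinearEquiv.ker _), LinearMap.ker_rangeRestrict]
    rwa [h3] at h2
  obtain ⟨T, hT⟩ := hF
  let Φ : (Fin s → P) × (G → P) → (Fin s → A) := fun v j => π (v.1 j)
  have hΦπ : ∀ v, (πI (Φ v) : A) = π (φ v) := fun v => by
    conv_lhs => rw [← Finset.univ_sum_single (Φ v)]
    rw [map_sum, Submodule.coe_sum, LinearMap.coprod_apply, map_add]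
    have h0 : π (Fintype.linearCombination P (fun g : G => (g : P)) v.2) = 0 := by
      rw [Fintype.linearCombination_apply, map_sum]
      refine Finset.sum_eq_zero fun g _ => ?_
      have : (g : P) ∈ RingHom.ker π.toRingHom := hG ▸ Ideal.subset_span g.2
      rw [smul_eq_mul, map_mul, show π (g : P) = 0 from this, mul_zero]
    rw [h0, add_zero, Fintype.linearCombination_apply, map_sum]
    refine Finset.sum_congr rfl fun j _ => ?_
    rw [show (Pi.single j (Φ v j) : Fin s → A) = Φ v j • Pi.single j (1 : A) by
      rw [← Pi.single_smul, smul_eq_mul, mul_one], map_smul, Submodule.coe_smul, smul_eq_mul, smul_eq_mul, map_mul, hl]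
  refine Module.finitePresentation_of_surjective πI hπI ⟨T.image Φ, le_antisymm ?_ fun z hz => ?_⟩
  · rw [Submodule.span_le]
    intro z hz
    obtain ⟨v, hv, rfl⟩ := Finset.mem_image.mp hz
    have : φ v = 0 := LinearMap.mem_ker.mp (hT ▸ Submodule.subset_span hv)
    rw [SetLike.mem_coe, LinearMap.mem_ker]
    exact Subtype.ext (by rw [hΦπ, this, map_zero]; rfl)
  · choose w hw using fun j => hπ (z j)
    have h0 : Fintype.linearCombination P l w ∈ Ideal.span (G : Set P) := by
      rw [hG]
      show π (Fintype.linearCombination P l w) = 0
      have := hΦπ (w, 0)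
      rw [show Φ (w, 0) = z from funext hw, LinearMap.mem_ker.mp hz, LinearMap.coprod_apply, map_zero, add_zero] at this
      exact this.symm
    have h0' : Fintype.linearCombination P l w ∈ Submodule.span P (Set.range fun g : G => (g : P)) := by
      rwa [show (Set.range fun g : G => (g : P)) = (G : Set P) from Subtype.range_coe]
    obtain ⟨c, hc⟩ := (Submodule.mem_span_range_iff_exists_fun P).mp h0'
    have hv : (w, -c) ∈ Submodule.span P (T : Set ((Fin s → P) × (G → P))) := by
      rw [hT, LinearMap.mem_ker, LinearMap.coprod_apply, map_neg, Fintype.linearCombination_apply (R := P) (v := fun g : G => (g : P)), hc, add_neg_cancel]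
    have : Φ (w, -c) ∈ Submodule.span A (T.image Φ : Set (Fin s → A)) := by
      clear hc
      generalize ((w, -c) : (Fin s → P) × (G → P)) = v at hv ⊢
      induction hv using Submodule.span_induction with
      | mem x hx => exact Submodule.subset_span (Finset.mem_image_of_mem _ hx)
      | zero =>
        rw [show Φ 0 = 0 from funext fun j => map_zero π]
        exact zero_mem _
      | add a b _ _ ha hb =>
        rw [show Φ (a + b) = Φ a + Φ b from funext fun j => map_add π _ _]
        exact add_mem ha hb
      | smul c a _ ha =>
        rw [show Φ (c • a) = π c • Φ a from funext fun j => map_mul π _ _]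
        exact Submodule.smul_mem _ _ ha
    rwa [show Φ (w, -c) = z from funext hw] at this

end Groth.Agent.S14742
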