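import Groth.Statements.S14743
import Groth.Agent.Lib.GrpQ.Desc


set_option autoImplicit false
universe u
open CategoryTheory MonoidalCategory CartesianMonoidalCategory MonObj GrpObj AlgebraicGeometry
open AlgGrp

namespace Groth.Agent.S14743

/-- Over an algebraically closed field k let L, G, B be commutative k-group schemes, i : L → G and π : G
→ B homomorphisms with i the kernel of π, and suppose that every k-morphism B × B → L is constant
(factors through a k-point of L). If π admits a section which is a morphism of k-schemes, then it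
admits a section which is a homomorphism, so the extension splits. (The published statement is for
algebraic groups, that is, of finite type over k; finiteness plays no role and is not assumed here.) -/
theorem result (k : Type u) [Field k] [IsAlgClosed k]
    (L G B : Over (Spec (CommRingCat.of k))) [GrpObj L] [GrpObj G] [GrpObj B]
    [IsCommMonObj L] [IsCommMonObj G] [IsCommMonObj B]
    (i : L ⟶ G) [IsMonHom i] (π : G ⟶ B) [IsMonHom π] (hker : AlgGrp.IsKernel i π)
    (hconst : ∀ f : B ⊗ B ⟶ L, ∃ l : 𝟙_ (Over (Spec (CommRingCat.of k))) ⟶ L, f = toUnit (B ⊗ B) ≫ l)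
    (s : B ⟶ G) (hs : s ≫ π = 𝟙 B) :
    ∃ s' : B ⟶ G, IsMonHom s' ∧ s' ≫ π = 𝟙 B := by
  let c : 𝟙_ (Over (Spec (CommRingCat.of k))) ⟶ G := η[B] ≫ s
  let s' : B ⟶ G := s * (toUnit B ≫ c)⁻¹
  have hc : c ≫ π = 1 := by
    show (η[B] ≫ s) ≫ π = 1
    rw [Category.assoc, hs, Category.comp_id, Hom.one_def, toUnit_unique (toUnit _) (𝟙 _), Category.id_comp]
  have hsπ : s' ≫ π = 𝟙 B := by
    show (s * (toUnit B ≫ c)⁻¹) ≫ π = 𝟙 B
    rw [MonObj.mul_comp, GrpObj.inv_comp, Category.assoc, hc, MonObj.comp_one, inv_one, _root_.mul_one, hs]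
  have h1 : η[B] ≫ s' = η[G] := by
    show η[B] ≫ (s * (toUnit B ≫ c)⁻¹) = _
    rw [MonObj.comp_mul, GrpObj.comp_inv, ← Category.assoc, toUnit_unique (η[B] ≫ toUnit B) (𝟙 _),
      Category.id_comp, mul_inv_cancel, Hom.one_def, toUnit_unique (toUnit _) (𝟙 _), Category.id_comp]
  refine ⟨s', ⟨h1, ?_⟩, hsπ⟩
  let b₁ := fst B B
  let b₂ := snd B B
  let d : B ⊗ B ⟶ G := ((b₁ * b₂) ≫ s') * ((b₁ ≫ s') * (b₂ ≫ s'))⁻¹
  obtain ⟨f, hf⟩ := (Groth.Agent.Lib.GrpQ.mem_kernel hker d).2 (by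
    show (((b₁ * b₂) ≫ s') * ((b₁ ≫ s') * (b₂ ≫ s'))⁻¹) ≫ π = 1
    rw [MonObj.mul_comp _ _ π, GrpObj.inv_comp, MonObj.mul_comp _ _ π, Category.assoc, Category.assoc, Category.assoc,
      hsπ, Category.comp_id, Category.comp_id, Category.comp_id, mul_inv_cancel])
  obtain ⟨l, hl⟩ := hconst f
  let o : 𝟙_ (Over (Spec (CommRingCat.of k))) ⟶ B ⊗ B := lift η[B] η[B]
  have h2 : o ≫ b₁ = 1 ∧ o ≫ b₂ = 1 ∧ η[B] = (1 : 𝟙_ (Over (Spec (CommRingCat.of k))) ⟶ B) := by
    simp [o, b₁, b₂, Hom.one_def, toUnit_unique (toUnit (𝟙_ (Over (Spec (CommRingCat.of k))))) (𝟙 _)]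
  have h3 : (1 : 𝟙_ (Over (Spec (CommRingCat.of k))) ⟶ B) ≫ s' = 1 := by
    rw [← h2.2.2, h1, Hom.one_def, toUnit_unique (toUnit _) (𝟙 _), Category.id_comp]
  have h0 : l ≫ i = 1 := by
    have e : o ≫ d = 1 := by
      show o ≫ (((b₁ * b₂) ≫ s') * ((b₁ ≫ s') * (b₂ ≫ s'))⁻¹) = 1
      simp only [MonObj.comp_mul, GrpObj.comp_inv, ← Category.assoc, h2.1, h2.2.1, _root_.mul_one, h3,
        inv_one]
    rw [← hf, hl, ← Category.assoc, ← Category.assoc, toUnit_unique (o ≫ toUnit (B ⊗ B)) (𝟙 _),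
      Category.id_comp] at e
    exact e
  have hd : d = 1 := by
    rw [← hf, hl, Category.assoc, h0, MonObj.comp_one]
  have := mul_inv_eq_one.1 hd
  rw [show b₁ * b₂ = μ[B] by rw [Hom.mul_def, lift_fst_snd, Category.id_comp]] at this
  rw [this, Hom.mul_def, ← lift_fst_comp_snd_comp]

end Groth.Agent.S14743
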