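import Groth.Statements.S14746

import Groth.Agent.Lib.GrpSch.LangDense
import Groth.Agent.Lib.Homog.Basic

set_option autoImplicit false
universe u
open CategoryTheory MonoidalCategory CartesianMonoidalCategory MonObj GrpObj AlgebraicGeometry CategoryTheory.Limits
open AlgGrp

namespace Groth.Agent.S14746

/-- Over an algebraically closed field k let G be a k-group scheme of finite type, i : H → G a smooth
connected affine closed subgroup scheme, and X = G/H the quotient with its G-action, base point o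
and orbit map G → X. Let σ be an endomorphism of G restricting to a surjective endomorphism τ of H
and compatible with an endomorphism φ of X under the orbit map, and suppose σ has only finitely many
fixed k-points. Then the number of fixed k-points of σ equals the number of fixed k-points of τ
times the number of fixed k-points of φ. (The published statement allows any subgroup H and any
restriction τ; for the square roots of unity inside the multiplicative group and the cube map the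
count fails, and the published proof applies the surjectivity of the Lang map h ↦ h⁻¹τ(h) of H, so H
is taken smooth, connected and affine and τ surjective here.) -/
theorem result (k : Type u) [Field k] [IsAlgClosed k]
    (G H : Over (Spec (CommRingCat.of k))) [GrpObj G] [GrpObj H] [QuasiCompact G.hom] [LocallyOfFiniteType G.hom]
    (i : H ⟶ G) [IsMonHom i] [IsClosedImmersion i.left] [Smooth H.hom] [ConnectedSpace ↥H.left] [IsAffine H.left]
    (X : Over (Spec (CommRingCat.of k))) (a : AlgGrp.Action G X) (o : 𝟙_ (Over (Spec (CommRingCat.of k))) ⟶ X)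
    (hX : AGF.IsQuotient i X a o)
    (σ : G ⟶ G) [IsMonHom σ] (τ : H ⟶ H) [IsMonHom τ] (hτ : τ ≫ i = i ≫ σ) (hτs : Surjective τ.left)
    (φ : X ⟶ X) (hφ : a.orbitMap o ≫ φ = σ ≫ a.orbitMap o)
    (hfin : Finite {g : 𝟙_ (Over (Spec (CommRingCat.of k))) ⟶ G // g ≫ σ = g}) :
    Nat.card {g : 𝟙_ (Over (Spec (CommRingCat.of k))) ⟶ G // g ≫ σ = g} =
      Nat.card {h : 𝟙_ (Over (Spec (CommRingCat.of k))) ⟶ H // h ≫ τ = h} *
        Nat.card {x : 𝟙_ (Over (Spec (CommRingCat.of k))) ⟶ X // x ≫ φ = x} := by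
  classical
  obtain ⟨hXlft, hflat, hsurj, hsq⟩ := hX
  have : QuasiCompact H.hom := inferInstance
  have : LocallyOfFiniteType H.hom := inferInstance
  have : IrreducibleSpace H.left := H1.GrpIrred.irreducibleSpace_of_isAlgClosed H
  have hmono : Mono i := (Over.forget _).mono_of_mono_map (show Mono i.left from inferInstance)
  have hstab : ∀ z : 𝟙_ (Over (Spec (CommRingCat.of k))) ⟶ H, ∀ g : 𝟙_ (Over (Spec (CommRingCat.of k))) ⟶ G,
      g ≫ σ = g * (z ≫ i) →
      {y : 𝟙_ (Over (Spec (CommRingCat.of k))) ⟶ H | y ≫ (Lib.GrpSch.twistAct τ).orbitMap z = z}.Finite := by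
    intro z g hg
    have hF : {x : 𝟙_ (Over (Spec (CommRingCat.of k))) ⟶ G | x ≫ σ = x}.Finite := Set.finite_coe_iff.1 hfin
    refine (hF.preimage (f := fun y => g * (y ≫ i) * g⁻¹) fun y _ y' _ h => ?_).subset fun y hy => ?_
    · exact (cancel_mono i).1 (mul_left_cancel (mul_right_cancel h))
    · have hy' : y * z * (y ≫ τ)⁻¹ = z := by rw [← Lib.GrpSch.twistAct_orbit]; exact hy
      have hy2 : y ≫ τ = z⁻¹ * y * z := by
        rw [mul_inv_eq_iff_eq_mul] at hy'
        rw [_root_.mul_assoc, hy', inv_mul_cancel_left]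
      show (g * (y ≫ i) * g⁻¹) ≫ σ = g * (y ≫ i) * g⁻¹
      rw [MonObj.mul_comp, MonObj.mul_comp, GrpObj.inv_comp, Category.assoc, ← hτ, ← Category.assoc, hy2,
        MonObj.mul_comp, MonObj.mul_comp, GrpObj.inv_comp, hg]
      group
  have hlang : ∀ z : 𝟙_ (Over (Spec (CommRingCat.of k))) ⟶ H, ∀ g : 𝟙_ (Over (Spec (CommRingCat.of k))) ⟶ G,
      g ≫ σ = g * (z ≫ i) → ∃ y : 𝟙_ (Over (Spec (CommRingCat.of k))) ⟶ H, y * (y ≫ τ)⁻¹ = z := by
    intro z g hg
    let b := Lib.GrpSch.twistAct τ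
    have h1 := Lib.GrpSch.genericPoint_mem_orbit b z (hstab z g hg) le_rfl
    have h2 := Lib.GrpSch.genericPoint_mem_orbit b 1 (hstab 1 1 (by rw [MonObj.one_comp, MonObj.one_comp, _root_.mul_one])) le_rfl
    obtain ⟨w, hw1, hw2⟩ := Lib.GrpQ.MonoClosed.exists_ptOf (X := H)
      ((Lib.GrpSch.isLocallyClosed_range_orbit b z).inter (Lib.GrpSch.isLocallyClosed_range_orbit b 1))
      ⟨_, h1, h2⟩
    obtain ⟨y, hy⟩ := Lib.GrpSch.exists_lift_of_mem_range (b.orbitMap z) w (Lib.GrpSch.isClosed_ptOf w) hw1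
    obtain ⟨y', hy'⟩ := Lib.GrpSch.exists_lift_of_mem_range (b.orbitMap 1) w (Lib.GrpSch.isClosed_ptOf w) hw2
    rw [Lib.GrpSch.twistAct_orbit] at hy hy'
    refine ⟨y⁻¹ * y', ?_⟩
    rw [MonObj.mul_comp, GrpObj.inv_comp]
    have e : y * z * (y ≫ τ)⁻¹ = y' * 1 * (y' ≫ τ)⁻¹ := hy.trans hy'.symm
    have e2 : z = y⁻¹ * (y' * 1 * (y' ≫ τ)⁻¹) * (y ≫ τ) := by rw [← e]; group
    rw [e2]
    group
  have hpts : ∀ x : 𝟙_ (Over (Spec (CommRingCat.of k))) ⟶ X, ∃ g, g ≫ a.orbitMap o = x := by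
    intro x
    have : LocallyOfFiniteType ((a.orbitMap o).left ≫ X.hom) := by rw [Over.w]; infer_instance
    have : JacobsonSpace X.left := LocallyOfFiniteType.jacobsonSpace X.hom
    obtain ⟨w, hw⟩ := hsurj.surj (Lib.GrpQ.MonoClosed.ptOf x)
    refine Lib.GrpSch.exists_lift_of_mem_range (a.orbitMap o) x ?_ ⟨w, hw⟩
    exact Lib.GrpSch.isClosed_ptOf x
  have hrel : ∀ g g' : 𝟙_ (Over (Spec (CommRingCat.of k))) ⟶ G, g ≫ a.orbitMap o = g' ≫ a.orbitMap o →
      ∃ h, g' = g * (h ≫ i) := fun g g' e => Lib.Homog.exists_rel hsq g g' e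
  have hfix : ∀ x : 𝟙_ (Over (Spec (CommRingCat.of k))) ⟶ X, x ≫ φ = x →
      ∃ g, g ≫ σ = g ∧ g ≫ a.orbitMap o = x := by
    intro x hx
    obtain ⟨g, hg⟩ := hpts x
    obtain ⟨z, hz⟩ := hrel g (g ≫ σ) (by rw [Category.assoc, ← hφ, ← Category.assoc, hg, hx])
    obtain ⟨y, hy⟩ := hlang z g hz
    refine ⟨g * (y ≫ i), ?_, ?_⟩
    · rw [MonObj.mul_comp, Category.assoc, ← hτ, ← Category.assoc, hz, ← hy, MonObj.mul_comp, GrpObj.inv_comp,
        _root_.mul_assoc, inv_mul_cancel_right]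
    · have := congrArg (lift g y ≫ ·) hsq.w
      simp only [lift_fst_assoc] at this
      rw [← hg, this, ← Category.assoc]
      congr 1
      rw [lift_whiskerLeft_assoc, ← Hom.mul_def]
  choose r hr1 hr2 using hfix
  have hor : ∀ (g : 𝟙_ (Over (Spec (CommRingCat.of k))) ⟶ G) (h : 𝟙_ (Over (Spec (CommRingCat.of k))) ⟶ H), (g * (h ≫ i)) ≫ a.orbitMap o = g ≫ a.orbitMap o := fun g h => by
    have := congrArg (lift g h ≫ ·) hsq.w
    simp only [lift_fst_assoc] at this
    rw [this, ← Category.assoc, lift_whiskerLeft_assoc, ← Hom.mul_def]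
  rw [← Nat.card_prod]
  refine Nat.card_congr (Equiv.ofBijective
    (fun p : {h : 𝟙_ (Over (Spec (CommRingCat.of k))) ⟶ H // h ≫ τ = h} ×
        {x : 𝟙_ (Over (Spec (CommRingCat.of k))) ⟶ X // x ≫ φ = x} =>
      (⟨r p.2.1 p.2.2 * (p.1.1 ≫ i), by
        rw [MonObj.mul_comp, hr1, Category.assoc, ← hτ, ← Category.assoc, p.1.2]⟩ :
        {g : 𝟙_ (Over (Spec (CommRingCat.of k))) ⟶ G // g ≫ σ = g})) ⟨?_, ?_⟩).symm
  · rintro ⟨⟨h, hh⟩, ⟨x, hx⟩⟩ ⟨⟨h', hh'⟩, ⟨x', hx'⟩⟩ e
    have e1 : r x hx * (h ≫ i) = r x' hx' * (h' ≫ i) := congrArg Subtype.val e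
    have hxx : x = x' := by
      have := congrArg (fun g => g ≫ a.orbitMap o) e1
      simpa only [hor, hr2] using this
    subst hxx
    have hhh : h = h' := (cancel_mono i).1 (mul_left_cancel e1)
    subst hhh
    rfl
  · rintro ⟨g, hg⟩
    have hx : (g ≫ a.orbitMap o) ≫ φ = g ≫ a.orbitMap o := by
      rw [Category.assoc, hφ, ← Category.assoc, hg]
    obtain ⟨h, hh⟩ := hrel (r _ hx) g (by rw [hr2])
    have hh2 : h ≫ τ = h := by
      apply (cancel_mono i).1
      have e := hg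
      rw [hh, MonObj.mul_comp, hr1, mul_left_cancel_iff, Category.assoc, ← hτ, ← Category.assoc] at e
      exact e
    exact ⟨(⟨h, hh2⟩, ⟨_, hx⟩), Subtype.ext hh.symm⟩

end Groth.Agent.S14746
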