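import Groth.Statements.S14751
import Groth.Agent.Lib.GrpQ.AntiAffMul


set_option autoImplicit false
universe u
open CategoryTheory CategoryTheory.Limits MonoidalCategory CartesianMonoidalCategory MonObj GrpObj AlgebraicGeometry
open AlgGrp

namespace Groth.Agent.S14751

/-- Over an algebraically closed field k let G be a group variety (smooth connected k-group scheme of
finite type), i : N → G an affine closed subgroup scheme which is the kernel of a flat surjective
homomorphism π : G → Q, and j : A → G an abelian subvariety (a smooth connected proper closed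
subgroup scheme) with A · N = G, that is, the multiplication A × N → G is surjective. Then the
multiplication A × N → G is a homomorphism and an isogeny (surjective with finite kernel), and so is
the composite A → G → Q. (In the published statement N is the largest connected affine normal
subgroup variety and Q = G/N the Albanese quotient; only the listed properties are used.) -/
theorem result (k : Type u) [Field k] [IsAlgClosed k]
    (G N A Q : Over (Spec (CommRingCat.of k))) [GrpObj G] [GrpObj N] [GrpObj A] [GrpObj Q]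
    [Smooth G.hom] [QuasiCompact G.hom] [ConnectedSpace ↥G.left]
    (i : N ⟶ G) [IsMonHom i] [IsClosedImmersion i.left] [IsAffine N.left]
    (π : G ⟶ Q) [IsMonHom π] [Flat π.left] [Surjective π.left] (hker : AlgGrp.IsKernel i π)
    (j : A ⟶ G) [IsMonHom j] [IsClosedImmersion j.left] [Smooth A.hom] [ConnectedSpace ↥A.left] [IsProper A.hom]
    (hsurj : Surjective ((j ⊗ₘ i) ≫ μ[G]).left) :
    IsMonHom ((j ⊗ₘ i) ≫ μ[G]) ∧ SGA7.IsIsogenyOver ((j ⊗ₘ i) ≫ μ[G]) ∧ SGA7.IsIsogenyOver (j ≫ π) := by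
  obtain ⟨L, _, l, hl, hlc, hLlft, hLqc, hL, hls⟩ := Groth.Agent.Lib.GrpQ.AntiAffMul.exists_antiAff_surjective A
  have : IsReduced A.left := Groth.Agent.Lib.GrpSch.isReduced_of_smooth_field A.hom
  have : Surjective l.left := hls
  have := isIso_of_isClosedImmersion_of_surjective l.left
  have : IsIso ((Over.forget _).map l) := this
  have : IsIso l := isIso_of_reflects_iso l (Over.forget _)
  have := Groth.Agent.Lib.GrpQ.AntiAff.isIso_of_bijective hL
  have hA : IsIso A.hom.appTop := by
    have e : A.hom = inv l.left ≫ L.hom := by rw [IsIso.eq_inv_comp, Over.w]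
    have h2 : IsIso (inv l.left).appTop := inferInstanceAs (IsIso ((inv l.left).app ⊤))
    rw [e, Scheme.Hom.comp_appTop]
    exact IsIso.comp_isIso' ‹IsIso L.hom.appTop› h2
  have hcomm : ∀ {T : Over (Spec (CommRingCat.of k))} (x : T ⟶ A) (y : T ⟶ G), (x ≫ j) * y = y * (x ≫ j) :=
    fun x y => Groth.Agent.Lib.GrpQ.AntiAff.commute j x y
  have : Mono i := Groth.Agent.Lib.GrpQ.mono_of_left i
  have hmul : (j ⊗ₘ i) ≫ μ[G] = (fst A N ≫ j) * (snd A N ≫ i) := by
    rw [Hom.mul_def]
    congr 1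
  have hev : ∀ {T : Over (Spec (CommRingCat.of k))} (z : T ⟶ A ⊗ N),
      z ≫ (j ⊗ₘ i) ≫ μ[G] = ((z ≫ fst A N) ≫ j) * ((z ≫ snd A N) ≫ i) := fun z => by
    rw [hmul, MonObj.comp_mul, Category.assoc, Category.assoc]
  have hmon : IsMonHom ((j ⊗ₘ i) ≫ μ[G]) := by
    refine ⟨?_, ?_⟩
    · rw [hev, IsMonHom.one_hom (f := fst A N), IsMonHom.one_hom (f := snd A N), IsMonHom.one_hom, IsMonHom.one_hom,
        show η[G] = (1 : 𝟙_ _ ⟶ G) by rw [Hom.one_def, toUnit_unique (toUnit _) (𝟙 _), Category.id_comp], _root_.one_mul]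
    · rw [show μ[A ⊗ N] = fst (A ⊗ N) (A ⊗ N) * snd (A ⊗ N) (A ⊗ N) by rw [Hom.mul_def, lift_fst_snd, Category.id_comp],
        hev, MonObj.mul_comp, MonObj.mul_comp, MonObj.mul_comp, MonObj.mul_comp,
        Commute.mul_mul_mul_comm (show Commute ((snd (A ⊗ N) (A ⊗ N) ≫ fst A N) ≫ j) ((fst (A ⊗ N) (A ⊗ N) ≫ snd A N) ≫ i) from hcomm _ _)]
      rw [show ((j ⊗ₘ i) ≫ μ[G]) ⊗ₘ ((j ⊗ₘ i) ≫ μ[G]) = lift (fst _ _ ≫ (j ⊗ₘ i) ≫ μ[G]) (snd _ _ ≫ (j ⊗ₘ i) ≫ μ[G]) by
        ext1 <;> simp, ← Hom.mul_def, hev, hev]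
  obtain ⟨P, _, iP, hiP, hiPc, hP, -⟩ :=
    have := Groth.Agent.Lib.GrpSch.isSeparated_of_field Q
    Groth.Agent.Lib.GrpQ.exists_kernel (j ≫ π)
  have : Mono iP := Groth.Agent.Lib.GrpQ.mono_of_left iP
  obtain ⟨b, hb⟩ := (Groth.Agent.Lib.GrpQ.mem_kernel hker (iP ≫ j)).2 (by
    rw [Category.assoc, Groth.Agent.Lib.GrpQ.kernel_comp hP])
  have hPfin : IsFinite P.hom := by
    have : IsClosedImmersion (b.left ≫ i.left) := by
      rw [← Over.comp_left, hb, Over.comp_left]; infer_instance
    have : IsClosedImmersion b.left := IsClosedImmersion.of_comp b.left i.left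
    have : IsAffine P.left := isAffine_of_isAffineHom b.left
    have : IsProper P.hom := by rw [← Over.w iP]; infer_instance
    rw [IsFinite.iff_isProper_and_isAffineHom]
    exact ⟨inferInstance, inferInstance⟩
  have hsurj' : Surjective (j ≫ π).left := by
    have e : ((j ⊗ₘ i) ≫ μ[G]) ≫ π = fst A N ≫ j ≫ π := by
      rw [hmul, MonObj.mul_comp, Category.assoc (snd A N), Groth.Agent.Lib.GrpQ.kernel_comp hker, MonObj.comp_one,
        _root_.mul_one, Category.assoc]
    have : Surjective ((fst A N).left ≫ (j ≫ π).left) := by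
      rw [← Over.comp_left, ← e, Over.comp_left]; infer_instance
    exact Surjective.of_comp (fst A N).left (j ≫ π).left
  refine ⟨hmon, ⟨hsurj, fun P' n hn => ?_⟩, hsurj', fun P' n hn => ?_⟩
  · have := Groth.Agent.Lib.GrpQ.kernel_mono hn
    have h1 : ((n ≫ fst A N) ≫ j) * ((n ≫ snd A N) ≫ i) = 1 := by
      rw [← hev]; exact Groth.Agent.Lib.GrpQ.kernel_comp hn
    obtain ⟨u, hu⟩ := (Groth.Agent.Lib.GrpQ.mem_kernel hP (n ≫ fst A N)).2 (by
      have h2 := congrArg (· ≫ π) h1
      simp only [MonObj.mul_comp, MonObj.one_comp, Category.assoc, Groth.Agent.Lib.GrpQ.kernel_comp hker,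
        MonObj.comp_one, _root_.mul_one] at h2
      simpa using h2)
    obtain ⟨v, hv⟩ := (Groth.Agent.Lib.GrpQ.mem_kernel hn (lift iP (b⁻¹))).2 (by
      rw [hev, lift_fst, lift_snd, GrpObj.inv_comp, hb, mul_inv_cancel])
    have huv : u ≫ v = 𝟙 P' := by
      rw [← cancel_mono n, Category.assoc, hv, comp_lift, GrpObj.comp_inv, hu, Category.id_comp]
      refine CartesianMonoidalCategory.hom_ext _ _ (lift_fst _ _) ?_
      rw [lift_snd, inv_eq_iff_mul_eq_one, ← cancel_mono i, MonObj.mul_comp, Category.assoc, hb, ← Category.assoc, hu,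
        MonObj.one_comp]
      exact h1
    have hvu : v ≫ u = 𝟙 P := by
      rw [← cancel_mono iP, Category.assoc, hu, reassoc_of% hv, lift_fst, Category.id_comp]
    have : IsIso u := ⟨v, huv, hvu⟩
    have : IsIso u.left := ((Over.forget _).mapIso (asIso u)).isIso_hom
    rw [← Over.w u]
    infer_instance
  · obtain ⟨u, hu⟩ := (Groth.Agent.Lib.GrpQ.mem_kernel hP n).2 (Groth.Agent.Lib.GrpQ.kernel_comp hn)
    obtain ⟨v, hv⟩ := (Groth.Agent.Lib.GrpQ.mem_kernel hn iP).2 (Groth.Agent.Lib.GrpQ.kernel_comp hP)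
    have := Groth.Agent.Lib.GrpQ.kernel_mono hn
    have : IsIso u := ⟨v, by rw [← cancel_mono n, Category.assoc, hv, hu, Category.id_comp],
      by rw [← cancel_mono iP, Category.assoc, hu, hv, Category.id_comp]⟩
    have : IsIso u.left := ((Over.forget _).mapIso (asIso u)).isIso_hom
    rw [← Over.w u]
    infer_instance

end Groth.Agent.S14751
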