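import Groth.Statements.S14754
import Groth.Agent.H52.ToriSplit
import Groth.Agent.Lib.Tori.Basic

set_option autoImplicit false
universe u
open CategoryTheory CategoryTheory.Limits MonoidalCategory CartesianMonoidalCategory MonObj GrpObj AlgebraicGeometry
open AlgGrp

namespace Groth.Agent.S14754

/-- Over an algebraically closed field k, every exact sequence of split tori splits: if K, G, Q are
split tori over k, i : K → G a closed subgroup scheme which is the kernel of a flat surjective
homomorphism π : G → Q, then π has a section which is a homomorphism. -/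
theorem result (k : Type u) [Field k] [IsAlgClosed k]
    (K G Q : Over (Spec (CommRingCat.of k))) [GrpObj K] [GrpObj G] [GrpObj Q] (nK nG nQ : ℕ)
    (hK : Red.IsSplitTorusWith (Fin nK → ℤ) K) (hG : Red.IsSplitTorusWith (Fin nG → ℤ) G)
    (hQ : Red.IsSplitTorusWith (Fin nQ → ℤ) Q)
    (i : K ⟶ G) [IsMonHom i] [IsClosedImmersion i.left]
    (π : G ⟶ Q) [IsMonHom π] [Flat π.left] [Surjective π.left] (hker : AlgGrp.IsKernel i π) :
    ∃ s : Q ⟶ G, IsMonHom s ∧ s ≫ π = 𝟙 Q := by
  obtain ⟨eK⟩ := hK
  obtain ⟨eG⟩ := hG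
  obtain ⟨eQ⟩ := hQ
  haveI : Mono i := Over.mono_of_mono_left i
  haveI : IsAffineHom Q.hom := Groth.Agent.Lib.Tori.Basic.isAffineHom_of_isTorus
    (Groth.Agent.Lib.Tori.Basic.isTorus_of_isSplit ⟨eQ⟩)
  haveI : IsAffineHom G.hom := Groth.Agent.Lib.Tori.Basic.isAffineHom_of_isTorus
    (Groth.Agent.Lib.Tori.Basic.isTorus_of_isSplit ⟨eG⟩)
  haveI : QuasiCompact π.left := by
    have : QuasiCompact (π.left ≫ Q.hom) := by rw [Over.w]; infer_instance
    exact QuasiCompact.of_comp π.left Q.hom
  haveI : Epi π.left := Flat.epi_of_flat_of_surjective π.left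
  haveI : Epi π := Over.epi_of_epi_left π
  exact Groth.Agent.H52.ToriSplit.exists_section eK eG eQ i π hker

end Groth.Agent.S14754
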