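import Groth.Statements.S5353
import Groth.Agent.Lib.GrpSch.Basic
import Groth.Agent.S0114
import Groth.Agent.Lib.Flat55.FlatDescend
import Groth.Agent.Lib.AlgSpMor.Cancel
import Mathlib.AlgebraicGeometry.Morphisms.FlatMono
import Mathlib.AlgebraicGeometry.Morphisms.Etale

set_option backward.isDefEq.respectTransparency false
set_option backward.isDefEq.respectTransparency.types false

set_option autoImplicit false
universe u
open CategoryTheory CategoryTheory.Limits MonoidalCategory CartesianMonoidalCategory MonObj GrpObj AlgebraicGeometry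
open SGA3

namespace Groth.Agent.S5353

/-- Let A be a local artinian ring, G an A-group scheme which is flat and locally of finite type, i : G⁰
→ G an open subgroup scheme whose image is the connected component of the unit (the neutral
component), and p : G → Q a homomorphism of A-group schemes which is surjective, flat and locally of
finite presentation with kernel G⁰ (Q is the quotient of G by G⁰). Then Q is etale over A. -/
theorem result (A : Type u) [CommRing A] [IsArtinianRing A] [IsLocalRing A] (G0 G Q : Over (Spec (CommRingCat.of A))) [GrpObj G0] [GrpObj G] [GrpObj Q]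
    [Flat G.hom] [LocallyOfFiniteType G.hom] (i : G0 ⟶ G) [IsMonHom i] [IsOpenImmersion i.left]
    (pt : ↥(𝟙_ (Over (Spec (CommRingCat.of A)))).left) (hi : Set.range i.left.base = connectedComponent (η[G].left.base pt))
    (p : G ⟶ Q) [IsMonHom p] [Surjective p.left] [Flat p.left] [LocallyOfFinitePresentation p.left]
    (hK : AlgGrp.IsKernel i p) : Etale Q.hom := by
  haveI : IsNoetherianRing (CommRingCat.of A) := inferInstanceAs (IsNoetherianRing A)
  haveI hGfp : LocallyOfFinitePresentation G.hom := by
    constructor
    intro U hU V hV e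
    haveI : IsNoetherianRing Γ(Spec (CommRingCat.of A), U) := IsLocallyNoetherian.component_noetherian ⟨U, hU⟩
    exact RingHom.FinitePresentation.of_finiteType.1 (G.hom.finiteType_appLE hU hV e)
  haveI : LocallyOfFinitePresentation (p.left ≫ Q.hom) := by rw [Over.w]; infer_instance
  haveI hQfp : LocallyOfFinitePresentation Q.hom := Groth.Agent.S0114.result p.left Q.hom
  haveI : Flat (p.left ≫ Q.hom) := by rw [Over.w]; infer_instance
  haveI hQfl : Flat Q.hom := Groth.Agent.Lib.Flat55.FlatDescend.flat_of_comp p.left Q.hom
  haveI : Flat G0.hom := by rw [← Over.w i]; infer_instance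
  haveI : Surjective G0.hom := ⟨fun s => ⟨η[G0].left s, by
    rw [← Scheme.Hom.comp_apply, Groth.Agent.Lib.GrpSch.η_left_comp_hom]; rfl⟩⟩
  haveI : LocallyOfFinitePresentation (η[Q].left ≫ Q.hom) := by
    rw [Groth.Agent.Lib.GrpSch.η_left_comp_hom]
    exact locallyOfFinitePresentation_of_isOpenImmersion (f := 𝟙 (Spec (CommRingCat.of A)))
  haveI : LocallyOfFinitePresentation η[Q].left :=
    Groth.Agent.Lib.AlgSpMor.Cancel.locallyOfFinitePresentation_of_comp (g := Q.hom) ‹_› inferInstance
  have hw : (toUnit G0).left ≫ η[Q].left = i.left ≫ p.left := by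
    rw [← Over.comp_left, ← Over.comp_left, hK.w]
  have hunit : (toUnit G0).left = G0.hom := (Category.comp_id _).symm.trans (Over.w (toUnit G0))
  haveI : Flat ((toUnit G0).left ≫ η[Q].left) := by rw [hw]; infer_instance
  haveI : Flat (toUnit G0).left := by rw [hunit]; infer_instance
  haveI : Surjective (toUnit G0).left := by rw [hunit]; infer_instance
  haveI : Flat η[Q].left := Groth.Agent.Lib.Flat55.FlatDescend.flat_of_comp (toUnit G0).left η[Q].left
  haveI : IsSplitMono η[Q].left := IsSplitMono.mk' ⟨Q.hom, Groth.Agent.Lib.GrpSch.η_left_comp_hom (G := Q)⟩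
  have hop : IsOpenImmersion η[Q].left := IsOpenImmersion.of_flat_of_mono _
  haveI : IsOpenImmersion (pullback.diagonal Q.hom) := Groth.Agent.Lib.GrpSch.diagonal_left_of (G := Q) hop
  exact Etale.of_formallyUnramified_of_flat Q.hom

end Groth.Agent.S5353
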