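import Groth.Statements.S14759
import Groth.Agent.S3030
import Groth.Agent.S5353
import Groth.Agent.S7520
import Groth.Agent.Lib.GrpQ.Kernel
import Groth.Agent.Lib.GrpSch.Basic
import Groth.Agent.Lib.GrpSch.ConnFibre
import Groth.Agent.H1.Classical.ConjIso
import Mathlib.AlgebraicGeometry.ZariskisMainTheorem
import Mathlib.AlgebraicGeometry.Geometrically.Connected


set_option autoImplicit false
set_option maxHeartbeats 1000000
set_option linter.all false
universe u
open CategoryTheory CategoryTheory.Limits MonoidalCategory CartesianMonoidalCategory MonObj GrpObj AlgebraicGeometry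
open AlgGrp

namespace Groth.Agent.S14759

open Groth.Agent.Lib.GrpQ in
/-- Conjugation preserves an open subgroup with connected geometric fibre. -/
theorem isNormalHom_of_connected (k : Type u) [Field k] {G N N₀ : Over (Spec (CommRingCat.of k))}
    [GrpObj G] [GrpObj N] [GrpObj N₀] (n : N ⟶ G) [IsMonHom n] [Mono n] (hn : AlgGrp.IsNormalHom n)
    (j : N₀ ⟶ N) [IsMonHom j] [IsClosedImmersion j.left] [IsOpenImmersion j.left]
    [GeometricallyConnected N₀.hom] : AlgGrp.IsNormalHom (j ≫ n) := by
  intro T g x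
  obtain ⟨Φ, hΦ⟩ := hn (G ⊗ N₀) (fst G N₀) (snd G N₀ ≫ j)
  have hrange : Set.range Φ.left ⊆ Set.range j.left := by
    let D : Set (G ⊗ N₀).left := Φ.left ⁻¹' Set.range j.left
    have hDc : IsClopen D := IsClopen.preimage ⟨j.left.isClosedEmbedding.isClosed_range, j.left.isOpenEmbedding.isOpen_range⟩ Φ.left.continuous
    have hsec : lift (𝟙 G) (1 : G ⟶ N₀) ≫ Φ = 1 := by
      rw [← cancel_mono n, Category.assoc, ← hΦ]
      simp only [Category.assoc, MonObj.comp_mul, GrpObj.comp_inv, lift_fst, lift_snd_assoc, MonObj.one_comp,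
        _root_.mul_one, mul_inv_cancel]
    have hs : ∀ y : G.left, (lift (𝟙 G) (1 : G ⟶ N₀)).left y ∈ D := fun y => by
      show Φ.left _ ∈ Set.range j.left
      rw [← Scheme.Hom.comp_apply, ← Over.comp_left, hsec]
      refine ⟨(1 : G ⟶ N₀).left y, ?_⟩
      rw [← Scheme.Hom.comp_apply, ← Over.comp_left, MonObj.one_comp]
    haveI : GeometricallyConnected (fst G N₀).left :=
      inferInstanceAs (GeometricallyConnected (Limits.pullback.fst G.hom N₀.hom))
    rintro _ ⟨z, rfl⟩
    let y := (fst G N₀).left z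
    haveI : ConnectedSpace ((fst G N₀).left ⁻¹' {y}) :=
      ((fst G N₀).left.fiberHomeo y).surjective.connectedSpace ((fst G N₀).left.fiberHomeo y).continuous
    have hc : _root_.IsConnected ((fst G N₀).left ⁻¹' {y}) := isConnected_iff_connectedSpace.mpr inferInstance
    refine (hc.isPreconnected.subset_isClopen hDc ⟨_, ?_, hs y⟩) (Set.mem_singleton y)
    show (fst G N₀).left ((lift (𝟙 G) (1 : G ⟶ N₀)).left y) = y
    rw [← Scheme.Hom.comp_apply, ← Over.comp_left, lift_fst]
    rfl
  have key : Set.range (lift g x ≫ Φ).left ⊆ Set.range j.left := by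
    rintro _ ⟨z, rfl⟩
    exact hrange ⟨(lift g x).left z, rfl⟩
  refine ⟨Over.homMk (IsOpenImmersion.lift j.left (lift g x ≫ Φ).left key) ?_, ?_⟩
  · rw [← Over.w j, IsOpenImmersion.lift_fac_assoc, Over.w]
  · have h := congrArg (lift g x ≫ ·) hΦ
    simp only [MonObj.comp_mul, GrpObj.comp_inv, lift_fst, lift_snd_assoc, Category.assoc] at h
    rw [h]
    refine Over.OverMorphism.ext ?_
    simp only [Over.comp_left, Over.homMk_left, IsOpenImmersion.lift_fac_assoc, Category.assoc]

/-- Over a field k, every isogeny φ : G → H of k-group schemes of finite type (a surjective homomorphism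
with finite kernel) factors as φ = χ ∘ ψ with ψ : G → Q a purely inseparable isogeny (its kernel is
connected) followed by a separable isogeny χ : Q → H (its kernel is etale over k). (The published
definition of isogeny asks only for a finite kernel and an image of finite index in H; this row
takes φ surjective, which is the same notion when H is connected.) -/
theorem result (k : Type u) [Field k]
    (G H : Over (Spec (CommRingCat.of k))) [GrpObj G] [GrpObj H]
    [QuasiCompact G.hom] [LocallyOfFiniteType G.hom] [QuasiCompact H.hom] [LocallyOfFiniteType H.hom]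
    (φ : G ⟶ H) [IsMonHom φ] (hφ : SGA7.IsIsogenyOver φ) :
    ∃ (Q : Over (Spec (CommRingCat.of k))) (_ : GrpObj Q) (ψ : G ⟶ Q) (χ : Q ⟶ H),
      IsMonHom ψ ∧ IsMonHom χ ∧ ψ ≫ χ = φ ∧ SGA7.IsIsogenyOver ψ ∧ SGA7.IsIsogenyOver χ ∧
      (∀ (N : Over (Spec (CommRingCat.of k))) (n : N ⟶ G), AlgGrp.IsKernel n ψ → ConnectedSpace ↥N.left) ∧
      (∀ (N : Over (Spec (CommRingCat.of k))) (n : N ⟶ Q), AlgGrp.IsKernel n χ → Etale N.hom) := by
  obtain ⟨hφs, hφK⟩ := hφ
  haveI := hφs
  haveI := Groth.Agent.Lib.GrpSch.isSeparated_of_field H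
  obtain ⟨N, instN, n, hn1, hn2, hnK, hnN⟩ := Groth.Agent.Lib.GrpQ.exists_kernel φ
  haveI := hn1
  haveI := hn2
  haveI : Mono n := Over.mono_of_mono_left n
  haveI hNf : IsFinite N.hom := hφK N n hnK
  obtain ⟨N₀, instN₀, j, hj1, hj2, hj3, hjr, hj4, hj5⟩ := Groth.Agent.S7520.result k N
  haveI := hj1
  haveI := hj2
  haveI := hj3
  haveI := hj4
  haveI : IsLocallyNoetherian N.left := LocallyOfFiniteType.isLocallyNoetherian N.hom
  haveI : LocallyOfFinitePresentation j.left := inferInstance
  haveI : IsOpenImmersion j.left := IsOpenImmersion.of_flat_of_mono j.left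
  haveI hN₀f : IsFinite N₀.hom := by rw [← Over.w j]; infer_instance
  haveI : IrreducibleSpace N₀.left := GeometricallyIrreducible.irreducibleSpace_of_subsingleton N₀.hom
  haveI : GeometricallyConnected N₀.hom :=
    Groth.Agent.Lib.GrpSch.geometricallyConnected_of_rationalPoint N₀.hom η[N₀].left (Over.w η[N₀])
  have hnorm := isNormalHom_of_connected k n hnN j
  haveI : IsClosedImmersion (j ≫ n).left := inferInstanceAs (IsClosedImmersion (j.left ≫ n.left))
  haveI : Mono (j ≫ n) := Over.mono_of_mono_left _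
  haveI : Flat G.hom := inferInstance
  haveI : Flat N₀.hom := inferInstance
  haveI : Flat N.hom := inferInstance
  obtain ⟨Q, instQ, p, hp1, hp2, hp3, hp4, hpK, hQs, -, -⟩ := Groth.Agent.S3030.result k N₀ G (j ≫ n) hnorm
  haveI := hp1
  haveI := hp2
  haveI := hp3
  haveI := hp4
  haveI := hQs
  have hcov : Groth.Agent.Lib.GrpQ.IsCover p := Groth.Agent.Lib.GrpQ.isCover_hom p
  have htriv : (j ≫ n) ≫ φ = toUnit N₀ ≫ η[H] := by
    rw [← Hom.one_def, Category.assoc, Groth.Agent.Lib.GrpQ.kernel_comp hnK, MonObj.comp_one]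
  obtain ⟨χ, hχ⟩ := Groth.Agent.Lib.GrpQ.exists_desc hcov φ
    fun Z x y h => Groth.Agent.Lib.GrpQ.comp_eq_of_kernel hpK φ htriv x y h
  haveI : IsMonHom (p ≫ χ) := by rw [hχ]; infer_instance
  haveI hχ1 := Groth.Agent.Lib.GrpQ.isMonHom_of_cover hcov χ
  haveI hχs : Surjective χ.left := by
    haveI : Surjective (p.left ≫ χ.left) := by rw [← Over.comp_left, hχ]; infer_instance
    exact Surjective.of_comp p.left χ.left
  haveI : QuasiCompact Q.hom := by
    haveI : CompactSpace G.left := (HasAffineProperty.iff_of_isAffine (P := @QuasiCompact) (f := G.hom)).mp inferInstance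
    exact (HasAffineProperty.iff_of_isAffine (P := @QuasiCompact)).mpr ⟨p.left.surjective.range_eq ▸ isCompact_range p.left.continuous⟩
  -- the kernel of `χ`
  obtain ⟨K, instK, m, hm1, hm2, hmK, -⟩ := Groth.Agent.Lib.GrpQ.exists_kernel χ
  haveI := hm1
  haveI := hm2
  haveI : Mono m := Over.mono_of_mono_left m
  obtain ⟨r, hr⟩ := (Groth.Agent.Lib.GrpQ.mem_kernel hmK (n ≫ p)).2
    (by rw [Category.assoc, hχ, Groth.Agent.Lib.GrpQ.kernel_comp hnK])
  haveI : IsMonHom r := Groth.Agent.H1.Classical.ConjIso.isMonHom_of_mul r fun a b => by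
    rw [← cancel_mono m, MonObj.mul_comp _ _ m, Category.assoc, Category.assoc, Category.assoc, hr, MonObj.mul_comp]
  have hsq : IsPullback n r p m := by
    refine ⟨⟨hr.symm⟩, ⟨PullbackCone.IsLimit.mk _ (fun s => hnK.lift s.fst (toUnit _) ?_)
      (fun s => hnK.lift_fst _ _ _) (fun s => ?_) (fun s l h1 _ => ?_)⟩⟩
    · rw [← Hom.one_def, ← hχ, ← Category.assoc, s.condition, Category.assoc,
        Groth.Agent.Lib.GrpQ.kernel_comp hmK, MonObj.comp_one]
    · rw [← cancel_mono m, Category.assoc, hr, ← Category.assoc, hnK.lift_fst, s.condition]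
    · rw [← cancel_mono n, h1, hnK.lift_fst]
  have hsq' := hsq.map (Over.forget (Spec (CommRingCat.of k)))
  haveI : Surjective r.left := MorphismProperty.of_isPullback hsq' hp3
  haveI : Flat r.left := MorphismProperty.of_isPullback hsq' hp2
  haveI : LocallyOfFinitePresentation r.left := MorphismProperty.of_isPullback hsq' hp4
  have hrK : AlgGrp.IsKernel j r := by
    haveI : Mono j := Over.mono_of_mono_left j
    refine Groth.Agent.Lib.GrpQ.isKernel_of j ?_ fun T x hx => ?_
    · rw [← cancel_mono m, Category.assoc, hr, ← Category.assoc, Groth.Agent.Lib.GrpQ.kernel_comp hpK, MonObj.one_comp]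
    · obtain ⟨z, hz⟩ := (Groth.Agent.Lib.GrpQ.mem_kernel hpK (x ≫ n)).2
        (by rw [Category.assoc, ← hr, ← Category.assoc, hx, MonObj.one_comp])
      exact ⟨z, by rw [← cancel_mono n, Category.assoc]; exact hz⟩
  haveI : Etale K.hom := Groth.Agent.S5353.result k N₀ N K j (IsLocalRing.closedPoint k) hjr r hrK
  haveI : IsFinite K.hom := by
    haveI : CompactSpace N.left := (HasAffineProperty.iff_of_isAffine (P := @QuasiCompact) (f := N.hom)).mp inferInstance
    haveI : QuasiCompact K.hom :=
      (HasAffineProperty.iff_of_isAffine (P := @QuasiCompact)).mpr ⟨r.left.surjective.range_eq ▸ isCompact_range r.left.continuous⟩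
    haveI : IsSeparated K.hom := Groth.Agent.Lib.GrpSch.isSeparated_of_field K
    haveI : IsProper (r.left ≫ K.hom) := by rw [Over.w]; infer_instance
    haveI : UniversallyClosed K.hom := UniversallyClosed.of_comp_surjective r.left K.hom
    haveI : IsProper K.hom := { }
    exact IsFinite.of_isProper_of_locallyQuasiFinite K.hom
  refine ⟨Q, instQ, p, χ, hp1, hχ1, hχ, ⟨hp3, fun M l hl => ?_⟩, ⟨hχs, fun M l hl => ?_⟩, fun M l hl => ?_,
    fun M l hl => ?_⟩
  · let e' := hl.isoIsPullback _ _ hpK
    haveI : IsIso e'.hom.left := ((Over.forget _).mapIso e').isIso_hom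
    rw [← Over.w e'.hom]
    infer_instance
  · let e' := hl.isoIsPullback _ _ hmK
    haveI : IsIso e'.hom.left := ((Over.forget _).mapIso e').isIso_hom
    rw [← Over.w e'.hom]
    infer_instance
  · let e' : M.left ≅ N₀.left := (Over.forget _).mapIso (hl.isoIsPullback _ _ hpK)
    exact (Scheme.homeoOfIso e').symm.surjective.connectedSpace (Scheme.homeoOfIso e').symm.continuous
  · let e' := hl.isoIsPullback _ _ hmK
    haveI : IsIso e'.hom.left := ((Over.forget _).mapIso e').isIso_hom
    rw [← Over.w e'.hom]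
    infer_instance

end Groth.Agent.S14759
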