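import Groth.Statements.S1476
import Groth.Agent.H21.PropFibre.Regular
-- import your own Groth.Agent.* helpers here

set_option autoImplicit false
universe u
open FlatMor

namespace Groth.Agent.S1476

open AlgebraicGeometry CategoryTheory Limits in
/-- Let Y' → Y be flat, locally of finite presentation and surjective and f' the base change of f : X →
Y. Then f has locally Noetherian fibres and is regular (affine-locally: regular ring maps) if and
only if the same holds for f'. -/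
theorem result {X Y X' Y' : Scheme.{u}} (f : X ⟶ Y) (f' : X' ⟶ Y') (g' : X' ⟶ X) (g : Y' ⟶ Y) [Flat g] [LocallyOfFinitePresentation g] [Surjective g]
    (hc : IsPullback g' f' f g) :
    ((∀ y : Y, IsLocallyNoetherian (f.fiber y)) ∧ (∀ (U : X.Opens) (V : Y.Opens) (hU : IsAffineOpen U) (hV : IsAffineOpen V) (hUV : U ≤ f ⁻¹ᵁ V),
        letI := (f.appLE V U hUV).hom.toAlgebra
        CAlg.IsRegularHom Γ(Y, V) Γ(X, U))) ↔
      ((∀ y' : Y', IsLocallyNoetherian (f'.fiber y')) ∧ (∀ (U : X'.Opens) (V : Y'.Opens) (hU : IsAffineOpen U) (hV : IsAffineOpen V) (hUV : U ≤ f' ⁻¹ᵁ V),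
        letI := (f'.appLE V U hUV).hom.toAlgebra
        CAlg.IsRegularHom Γ(Y', V) Γ(X', U))) := by
  have key : ∀ {A B : Scheme.{u}} (q : A ⟶ B), (∀ b : B, IsLocallyNoetherian (q.fiber b)) →
      ((∀ (U : A.Opens) (V : B.Opens) (hU : IsAffineOpen U) (hV : IsAffineOpen V) (hUV : U ≤ q ⁻¹ᵁ V),
        letI := (q.appLE V U hUV).hom.toAlgebra
        CAlg.IsRegularHom Γ(B, V) Γ(A, U)) ↔
        H21.PropFibre.Charts (fun k _ R _ _ => CAlg.IsGeometricallyRegular k R) q) := by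
    intro A B q hN
    refine ⟨fun h U V hU hV hUV => ⟨(h U V hU hV hUV).1, fun p _ => ((h U V hU hV hUV).2 p).2⟩,
      fun h U V hU hV hUV => ?_⟩
    letI := (q.appLE V U hUV).hom.toAlgebra
    obtain ⟨hflat, hfib⟩ := h U V hU hV hUV
    refine ⟨hflat, fun p hp => ⟨?_, hfib p⟩⟩
    obtain ⟨e, j, _, -⟩ := H2.Rigid.GeomRegFibre.exists_chart q Γ(B, V) Γ(A, U) hV.fromSpec
      hU.fromSpec (IsAffineOpen.SpecMap_appLE_fromSpec q hV hU hUV).symm ⟨p, hp⟩
    have := hN (hV.fromSpec ⟨p, hp⟩)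
    exact isLocallyNoetherian_Spec.1 (isLocallyNoetherian_of_isOpenImmersion j)
  have main := H21.PropFibre.fppf_iff H21.PropFibre.good_geometricallyRegular.{u} hc
  constructor
  · rintro ⟨hN, h⟩
    obtain ⟨hN', h'⟩ := main.1 ⟨hN, (key f hN).1 h⟩
    exact ⟨hN', (key f' hN').2 h'⟩
  · rintro ⟨hN', h'⟩
    obtain ⟨hN, h⟩ := main.2 ⟨hN', (key f' hN').1 h'⟩
    exact ⟨hN, (key f hN).2 h⟩

end Groth.Agent.S1476
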