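import Groth.Statements.S14762
import Groth.Agent.H1.Classical.RadImageScheme
import Groth.Agent.H1.Classical.Smooth
import Groth.Agent.H56.GeomDescent
import Groth.Agent.Lib.GrpSch.SmoothReduced

set_option autoImplicit false
universe u
open CategoryTheory CategoryTheory.Limits MonoidalCategory CartesianMonoidalCategory MonObj GrpObj AlgebraicGeometry
open Red

namespace Groth.Agent.S14762

/-- Over an algebraically closed field k, every quotient of a reductive group variety is reductive: if G
is a reductive k-group (affine, smooth, connected, with trivial unipotent radical) and π : G → H is
a flat surjective homomorphism onto a k-group scheme of finite type H, then H is reductive. (The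
published lemma also covers the properties complete, semisimple and solvable.) -/
theorem result (k : Type u) [Field k] [IsAlgClosed k]
    (G H : Over (Spec (CommRingCat.of k))) [GrpObj G] [GrpObj H] (hG : Red.IsReductiveOver k G)
    [QuasiCompact H.hom] [LocallyOfFiniteType H.hom]
    (π : G ⟶ H) [IsMonHom π] [Flat π.left] [Surjective π.left] :
    Red.IsReductiveOver k H := by
  obtain ⟨h1, h2, h3, -⟩ := id hG
  haveI := h1
  haveI := h2
  haveI : IsReduced G.left := Groth.Agent.Lib.GrpSch.isReduced_of_smooth_field G.hom
  haveI : IsReduced H.left := H56.GeomDescent.isReduced_of_flat_surjective π.left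
  haveI : Smooth H.hom := by
    haveI : GrpObj (Over.mk H.hom) := inferInstanceAs (GrpObj H)
    exact H1.Classical.Smooth.smooth_of_isReduced H.hom
  haveI := (H1.Classical.RadImage.isAffine_target π).1
  exact H1.Classical.RadImage.isReductiveOver_image hG π

end Groth.Agent.S14762
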