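import Groth.Statements.S14763
import Groth.Agent.Lib.SemiAbIsog.Image
import Groth.Agent.H4.MulIso
import Groth.Agent.H4.NPowEtale
import Groth.Agent.H4.HomImage
import Mathlib.AlgebraicGeometry.Group.Abelian

set_option autoImplicit false
universe u
open CategoryTheory CategoryTheory.Limits MonoidalCategory CartesianMonoidalCategory MonObj GrpObj AlgebraicGeometry
open AlgGrp

set_option backward.isDefEq.respectTransparency false
set_option linter.style.haveILetI false
set_option maxHeartbeats 800000
open GrpObj CategoryTheory.Limits Groth.Agent.Lib Groth.Agent.Lib.SemiAbIsog.Image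
namespace Groth.Agent.S14763

/-- Over an algebraically closed field k let G be a commutative group variety (smooth connected
commutative k-group scheme of finite type) written as an extension 0 → L → G → A → 0 of an abelian
variety by its largest connected affine subgroup: i : L → G a smooth connected affine closed
subgroup scheme, kernel of a flat surjective homomorphism π : G → A onto an abelian variety A
(proper, smooth, connected). Then the following are equivalent: (a) for some d ≥ 1 there is a
homomorphism s : A → G with π ∘ s equal to multiplication by d on A (the class of the extension is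
killed by d: its pullback along multiplication by d splits); (b) there is an abelian subvariety A'
of G (a smooth connected proper closed subgroup scheme) with A' · L = G, that is, the multiplication
A' × L → G is surjective. (The published statement phrases (a) as the class of G having finite order
in the group of extension classes and (b) as G being isogenous to L × A; the published proof passes
through exactly the two conditions stated here.) -/
theorem result (k : Type u) [Field k] [IsAlgClosed k]
    (G L A : Over (Spec (CommRingCat.of k))) [GrpObj G] [GrpObj L] [GrpObj A] [IsCommMonObj G]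
    [Smooth G.hom] [QuasiCompact G.hom] [ConnectedSpace ↥G.left]
    (i : L ⟶ G) [IsMonHom i] [IsClosedImmersion i.left] [IsAffine L.left] [Smooth L.hom] [ConnectedSpace ↥L.left]
    (π : G ⟶ A) [IsMonHom π] [Flat π.left] [Surjective π.left] (hker : AlgGrp.IsKernel i π)
    [IsProper A.hom] [Smooth A.hom] [ConnectedSpace ↥A.left] :
    (∃ d : ℕ, 0 < d ∧ ∃ s : A ⟶ G, IsMonHom s ∧ s ≫ π = (𝟙 A) ^ d) ↔
      (∃ (A' : Over (Spec (CommRingCat.of k))) (_ : GrpObj A') (j : A' ⟶ G), IsMonHom j ∧ IsClosedImmersion j.left ∧
        Smooth A'.hom ∧ ConnectedSpace ↥A'.left ∧ IsProper A'.hom ∧ Surjective ((j ⊗ₘ i) ≫ μ[G]).left) := by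
  haveI : IsSeparated G.hom := GrpSch.isSeparated_of_field G
  haveI : IsSeparated A.hom := inferInstance
  haveI : Mono i := Over.mono_of_mono_left i
  haveI : GeometricallyIntegral A.hom :=
    haveI := GrpSch.geometricallyReduced_of_smooth_field A.hom
    Groth.Agent.H4.HomImage.geometricallyIntegral_of_connected A
  constructor
  · rintro ⟨d, hd, s, hsm, hs⟩
    haveI := hsm
    obtain ⟨C, _, p, c, hpm, hcm, hpc, hcc, hps, hpf, hplf, hCs, hCc, hCq⟩ := exists_image_smooth s
    haveI := hps; haveI := hcm; haveI := hcc; haveI := hCs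
    haveI : IsSeparated C.hom := GrpSch.isSeparated_of_field C
    haveI : UniversallyClosed C.hom := by
      haveI : UniversallyClosed (p.left ≫ C.hom) := by rw [Over.w p]; infer_instance
      exact UniversallyClosed.of_comp_surjective p.left C.hom
    haveI : IsProper C.hom := ⟨⟩
    refine ⟨C, inferInstance, c, hcm, hcc, hCs, hCc, inferInstance, ?_⟩
    obtain ⟨-, hdf, hds⟩ := Groth.Agent.H4.MulIso.nat A hd
    haveI := hdf; haveI := hds
    haveI : LocallyOfFinitePresentation ((𝟙 A : A ⟶ A) ^ d).left :=
      Flat55.FibreTransfer.locallyOfFinitePresentation_of_comp (g := A.hom)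
        (by rw [Over.w]; infer_instance) inferInstance
    obtain ⟨X1, e1, a, ha, _, _, _⟩ := GrpQ.ThirdIso.exists_lift ((𝟙 A : A ⟶ A) ^ d) π
    have h1 : (e1 * (a ≫ s)⁻¹) ≫ π = toUnit X1 ≫ η[A] := by
      rw [← Hom.one_def, MonObj.mul_comp, GrpObj.inv_comp, Category.assoc, hs, ha, mul_inv_cancel]
    have h2 : lift (a ≫ p) (hker.lift _ (toUnit X1) h1) ≫ (c ⊗ₘ i) ≫ μ[G] = e1 := by
      rw [lift_map_assoc, ← Hom.mul_def, hker.lift_fst, Category.assoc, hpc]
      exact (_root_.mul_comm _ _).trans (inv_mul_cancel_right _ _)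
    haveI : Surjective ((lift (a ≫ p) (hker.lift _ (toUnit X1) h1)).left ≫ ((c ⊗ₘ i) ≫ μ[G]).left) := by
      rw [← Over.comp_left, h2]; infer_instance
    exact Surjective.of_comp (lift (a ≫ p) (hker.lift _ (toUnit X1) h1)).left _
  · rintro ⟨A', _, j, hjm, hjc, hs', hc', hp', hsurj⟩
    haveI := hjm; haveI := hjc; haveI := hs'; haveI := hc'; haveI := hp'; haveI := hsurj
    haveI : Mono j := Over.mono_of_mono_left j
    obtain ⟨f, hf⟩ : ∃ f : A' ⟶ A, f = j ≫ π := ⟨_, rfl⟩
    haveI : IsMonHom f := by rw [hf]; infer_instance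
    haveI : Surjective f.left := by
      have h1 : ((j ⊗ₘ i) ≫ μ[G]) ≫ π = fst A' L ≫ f := by
        have e : ((j ⊗ₘ i) ≫ μ[G]) = (fst A' L ≫ j) * (snd A' L ≫ i) := by
          rw [Hom.mul_def, ← lift_map, lift_fst_snd, Category.id_comp]
        rw [hf, e, MonObj.mul_comp, Category.assoc, Category.assoc, hker.w, ← Category.assoc (snd A' L),
          toUnit_unique (snd A' L ≫ toUnit L) (toUnit _), ← Hom.one_def, _root_.mul_one]
      haveI : Surjective ((fst A' L).left ≫ f.left) := by
        rw [← Over.comp_left, ← h1, Over.comp_left]; infer_instance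
      exact Surjective.of_comp (fst A' L).left f.left
    haveI : Flat f.left := GrpQ.flat_of_surjective_of_smooth f
    haveI : LocallyOfFinitePresentation f.left :=
      Flat55.FibreTransfer.locallyOfFinitePresentation_of_comp (g := A.hom)
        (by rw [Over.w f]; infer_instance) inferInstance
    obtain ⟨W, _, w, hwm, hwc, hkw, -⟩ := GrpQ.exists_kernel f
    haveI := hwm; haveI := hwc
    obtain ⟨l, hl⟩ : ∃ l : W ⟶ L, l ≫ i = w ≫ j :=
      ⟨hker.lift (w ≫ j) (toUnit W) (by rw [Category.assoc, ← hf]; exact hkw.w), hker.lift_fst _ _ _⟩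
    haveI : IsClosedImmersion l.left := by
      haveI : IsClosedImmersion (l.left ≫ i.left) := by rw [← Over.comp_left, hl, Over.comp_left]; infer_instance
      exact IsClosedImmersion.of_comp l.left i.left
    haveI : IsAffine W.left := isAffine_of_isAffineHom l.left
    haveI : IsProper W.hom := by rw [← Over.w w]; infer_instance
    haveI : IsFinite W.hom := IsFinite.iff_isProper_and_isAffineHom.mpr ⟨inferInstance, inferInstance⟩
    obtain ⟨d, hd, hWd⟩ := Groth.Agent.Lib.SemiAbIsog.Basic.exists_killed W
    haveI : GeometricallyIntegral A'.hom :=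
      haveI := GrpSch.geometricallyReduced_of_smooth_field A'.hom
      Groth.Agent.H4.HomImage.geometricallyIntegral_of_connected A'
    haveI : IsCommMonObj A' := isCommMonObj_of_isProper_of_geometricallyIntegral A'
    have hcomp : ∀ {X : Over (Spec (CommRingCat.of k))} (x : X ⟶ A'), x ≫ (𝟙 A' : A' ⟶ A') ^ d = x ^ d :=
      fun x => by rw [MonObj.comp_pow, Category.comp_id]
    obtain ⟨ψ, hψ⟩ := H87.CentralExt.exists_desc f ((𝟙 A' : A' ⟶ A') ^ d) fun X x y hxy => by
      have h1 : (x * y⁻¹) ≫ f = toUnit X ≫ η[A] := by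
        rw [← Hom.one_def, MonObj.mul_comp, GrpObj.inv_comp, hxy, mul_inv_cancel]
      have h2 : (hkw.lift (x * y⁻¹) (toUnit X) h1 ≫ w) ^ d = 1 := by
        rw [← MonObj.pow_comp, ← Category.comp_id (hkw.lift (x * y⁻¹) (toUnit X) h1), ← MonObj.comp_pow, hWd, MonObj.comp_one, MonObj.one_comp]
      rw [hkw.lift_fst, _root_.mul_pow, inv_pow] at h2
      rw [hcomp, hcomp]
      exact mul_inv_eq_one.mp h2
    haveI : IsMonHom ((𝟙 A' : A' ⟶ A') ^ d) := Groth.Agent.H4.NPowEtale.isMonHom_pow_id A' d
    haveI : IsMonHom ψ := isMonHom_desc f _ ψ hψ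
    refine ⟨d, hd, ψ ≫ j, inferInstance, ?_⟩
    haveI := H87.CentralExt.epi_of_cover f
    rw [← cancel_epi f, Category.assoc ψ j π, ← hf, ← Category.assoc, hψ, MonObj.comp_pow, Category.comp_id,
      MonObj.pow_comp, Category.id_comp]

end Groth.Agent.S14763
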