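import Groth.Statements.S14764
import Groth.Agent.Lib.SemiAbIsog.CompDim
import Groth.Agent.Lib.SemiAbIsog.Image
import Groth.Agent.S7996
import Groth.Agent.S3293
import Groth.Agent.Lib.GrpQ.RedSubgroup
import Groth.Agent.Lib.FreeRes.SubGrp
import Groth.Agent.H63.GrpSmooth
import Mathlib.AlgebraicGeometry.Morphisms.SmoothFiber

set_option autoImplicit false
universe u
open CategoryTheory CategoryTheory.Limits MonoidalCategory CartesianMonoidalCategory MonObj GrpObj AlgebraicGeometry
open AlgGrp

set_option backward.isDefEq.respectTransparency false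
set_option linter.style.haveILetI false
set_option maxHeartbeats 800000
open GrpObj CategoryTheory.Limits Groth.Agent.Lib Groth.Agent.Lib.SemiAbIsog
namespace Groth.Agent.S14764

/-- Over an algebraically closed field k let G be a group variety (smooth connected k-group scheme of
finite type), i : G_lin → G its largest smooth connected affine normal closed subgroup scheme, j : D
→ G its largest anti-affine closed subgroup scheme G_ant (global functions the constants; every such
subgroup factors through it), and i_D : D_lin → D the largest smooth connected affine normal closed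
subgroup scheme of D. Then D_lin is contained in G_lin (i_D ∘ j factors through i) and has finite
index in the scheme-theoretic intersection D ∩ G_lin, in the sense that D_lin and D ×_G G_lin have
the same dimension; equivalently D_lin is the reduced identity component of D ∩ G_lin. -/
theorem result (k : Type u) [Field k] [IsAlgClosed k]
    (G : Over (Spec (CommRingCat.of k))) [GrpObj G] [Smooth G.hom] [QuasiCompact G.hom] [ConnectedSpace ↥G.left]
    (N : Over (Spec (CommRingCat.of k))) [GrpObj N] (i : N ⟶ G) [IsMonHom i] [IsClosedImmersion i.left]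
    [Smooth N.hom] [ConnectedSpace ↥N.left] [IsAffine N.left] (hN : AlgGrp.IsNormalHom i)
    (hNmax : (∀ (N' : Over (Spec (CommRingCat.of k))) [GrpObj N'] (i' : N' ⟶ G) [IsMonHom i'] [IsClosedImmersion i'.left]
      [Smooth N'.hom] [ConnectedSpace ↥N'.left] [IsAffine N'.left], AlgGrp.IsNormalHom i' → ∃ f : N' ⟶ N, f ≫ i = i'))
    (D : Over (Spec (CommRingCat.of k))) [GrpObj D] (j : D ⟶ G) [IsMonHom j] [IsClosedImmersion j.left]
    (hD : Function.Bijective ((Scheme.ΓSpecIso (CommRingCat.of k)).inv ≫ D.hom.appTop).hom)
    (hDmax : ∀ (M' : Over (Spec (CommRingCat.of k))) [GrpObj M'] (j' : M' ⟶ G) [IsMonHom j'] [IsClosedImmersion j'.left],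
      Function.Bijective ((Scheme.ΓSpecIso (CommRingCat.of k)).inv ≫ M'.hom.appTop).hom → ∃ f : M' ⟶ D, f ≫ j = j')
    (ND : Over (Spec (CommRingCat.of k))) [GrpObj ND] (iD : ND ⟶ D) [IsMonHom iD] [IsClosedImmersion iD.left]
    [Smooth ND.hom] [ConnectedSpace ↥ND.left] [IsAffine ND.left] (hND : AlgGrp.IsNormalHom iD)
    (hNDmax : (∀ (N' : Over (Spec (CommRingCat.of k))) [GrpObj N'] (i' : N' ⟶ D) [IsMonHom i'] [IsClosedImmersion i'.left]
      [Smooth N'.hom] [ConnectedSpace ↥N'.left] [IsAffine N'.left], AlgGrp.IsNormalHom i' → ∃ f : N' ⟶ ND, f ≫ iD = i')) :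
    (∃ g : ND ⟶ N, g ≫ i = iD ≫ j) ∧
      topologicalKrullDim ↥ND.left = topologicalKrullDim ↥(pullback j.left i.left) := by
  haveI : IsSeparated G.hom := GrpSch.isSeparated_of_field G
  haveI : LocallyOfFiniteType D.hom := by rw [← Over.w j]; infer_instance
  haveI : QuasiCompact D.hom := by rw [← Over.w j]; infer_instance
  obtain ⟨hDc, hDcomm⟩ := Groth.Agent.S3293.result k D hD
  haveI := hDcomm
  haveI : Mono j := Over.mono_of_mono_left j
  haveI : Mono i := Over.mono_of_mono_left i
  haveI : Mono iD := Over.mono_of_mono_left iD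
  constructor
  · haveI : IsClosedImmersion (iD ≫ j).left := by rw [Over.comp_left]; infer_instance
    refine hNmax ND (iD ≫ j) fun T g x => ⟨x, ?_⟩
    have hc := Groth.Agent.S7996.result k D G hD j T (x ≫ iD) T (𝟙 T) g
    rw [Category.id_comp, Category.assoc] at hc
    rw [← hc, mul_inv_cancel_right]
  refine le_antisymm ?_ ?_
  · -- `ND` lies in the intersection
    obtain ⟨g, hg⟩ : ∃ g : ND ⟶ N, g ≫ i = iD ≫ j := by
      haveI : IsClosedImmersion (iD ≫ j).left := by rw [Over.comp_left]; infer_instance
      refine hNmax ND (iD ≫ j) fun T g x => ⟨x, ?_⟩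
      have hc := Groth.Agent.S7996.result k D G hD j T (x ≫ iD) T (𝟙 T) g
      rw [Category.id_comp, Category.assoc] at hc
      rw [← hc, mul_inv_cancel_right]
    let l := Limits.pullback.lift (f := j.left) (g := i.left) iD.left g.left
      (by rw [← Over.comp_left, ← Over.comp_left, hg])
    haveI : IsClosedImmersion (l ≫ Limits.pullback.fst j.left i.left) := by
      rw [Limits.pullback.lift_fst]; infer_instance
    haveI : IsClosedImmersion l := IsClosedImmersion.of_comp l (Limits.pullback.fst j.left i.left)
    exact l.isClosedEmbedding.isEmbedding.isInducing.topologicalKrullDim_le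
  · let P := Limits.pullback j i
    let π₁ : P ⟶ D := Limits.pullback.fst j i
    have sq := (IsPullback.of_hasPullback j i).map (Over.forget _)
    haveI : IsClosedImmersion π₁.left := MorphismProperty.of_isPullback (P := @IsClosedImmersion) sq.flip ‹_›
    haveI : Mono π₁ := Over.mono_of_mono_left π₁
    have hlift : ∀ {T : Over (Spec (CommRingCat.of k))} (x : T ⟶ D) (y : T ⟶ N), x ≫ j = y ≫ i →
        ∃ l : T ⟶ P, l ≫ π₁ = x := fun x y h => ⟨Limits.pullback.lift x y h, Limits.pullback.lift_fst _ _ _⟩
    have hcond : π₁ ≫ j = Limits.pullback.snd j i ≫ i := Limits.pullback.condition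
    obtain ⟨_, hπ₁⟩ := FreeRes.exists_grpObj_of_mono π₁
      (fun T => hlift 1 1 (by rw [MonObj.one_comp j, MonObj.one_comp i]))
      (fun {T} x y => hlift _ ((x ≫ Limits.pullback.snd j i) * (y ≫ Limits.pullback.snd j i)) (by
        rw [MonObj.mul_comp _ _ j, MonObj.mul_comp _ _ i, Category.assoc, Category.assoc, hcond, Category.assoc,
          Category.assoc]))
      (fun {T} x => hlift _ (x ≫ Limits.pullback.snd j i)⁻¹ (by
        rw [GrpObj.inv_comp _ j, GrpObj.inv_comp _ i, Category.assoc, hcond, Category.assoc]))
    haveI := hπ₁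
    haveI : LocallyOfFiniteType P.hom := by rw [← Over.w π₁]; infer_instance
    haveI : QuasiCompact P.hom := by rw [← Over.w π₁]; infer_instance
    haveI : IsAffine P.left := by
      haveI : IsClosedImmersion (Limits.pullback.snd j i).left := by
        haveI : IsClosedImmersion j.left := ‹_›
        exact MorphismProperty.of_isPullback (P := @IsClosedImmersion) sq ‹_›
      exact isAffine_of_isAffineHom (Limits.pullback.snd j i).left
    have hdimP : topologicalKrullDim ↥(pullback j.left i.left) = topologicalKrullDim ↥P.left :=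
      IsHomeomorph.topologicalKrullDim_eq _ (Scheme.homeoOfIso sq.isoPullback).symm.isHomeomorph
    rw [hdimP]
    obtain ⟨C, _, c, hcm, hco, hcc, hcn, hrange⟩ := Groth.Agent.Lib.IsogLaw.exists_component P
    haveI := hcm; haveI := hco; haveI := hcc; haveI := hcn
    haveI : LocallyOfFiniteType C.hom := by rw [← Over.w c]; infer_instance
    haveI : QuasiCompact C.hom := by rw [← Over.w c]; infer_instance
    obtain ⟨R, _, r, hrm, hrc, hrs, hrr⟩ := GrpQ.RedSubgroup.exists_reduced_subgroup C
    haveI := hrm; haveI := hrc; haveI := hrs; haveI := hrr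
    haveI : LocallyOfFiniteType R.hom := by rw [← Over.w r]; infer_instance
    haveI : GrpObj (Over.mk R.hom) := inferInstanceAs (GrpObj R)
    haveI : Smooth R.hom := Groth.Agent.H63.GrpSmooth.smooth_of_nonempty R
      (R.hom.dense_smoothLocus_of_perfectField.nonempty_iff.2 ⟨η[R].left (IsLocalRing.closedPoint k)⟩)
    haveI : IsAffine R.left := by
      haveI : IsAffineHom ((r.left ≫ c.left)) := inferInstance
      exact isAffine_of_isAffineHom (r.left ≫ c.left)
    haveI : ConnectedSpace R.left := by
      let h := r.left.isClosedEmbedding.isEmbedding.toHomeomorphOfSurjective r.left.surjective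
      exact h.symm.surjective.connectedSpace h.symm.continuous
    haveI : IsClosedImmersion ((r ≫ c) ≫ π₁).left := by rw [Over.comp_left, Over.comp_left]; infer_instance
    obtain ⟨f, hf⟩ := hNDmax R ((r ≫ c) ≫ π₁) fun T g x => ⟨x, by rw [mul_inv_cancel_comm]⟩
    haveI : IsClosedImmersion f.left := by
      haveI : IsClosedImmersion (f.left ≫ iD.left) := by rw [← Over.comp_left, hf]; infer_instance
      exact IsClosedImmersion.of_comp f.left iD.left
    calc topologicalKrullDim P.left
        ≤ topologicalKrullDim ↥(connectedComponent (η[P].left (IsLocalRing.closedPoint k))) :=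
          CompDim.dim_le_component P
      _ = topologicalKrullDim C.left := by
          rw [← hrange, ← IsHomeomorph.topologicalKrullDim_eq _ c.left.isClosedEmbedding.isEmbedding.toHomeomorph.isHomeomorph]
      _ = topologicalKrullDim R.left :=
          (IsHomeomorph.topologicalKrullDim_eq _
            (r.left.isClosedEmbedding.isEmbedding.toHomeomorphOfSurjective r.left.surjective).isHomeomorph).symm
      _ ≤ topologicalKrullDim ND.left := f.left.isClosedEmbedding.isEmbedding.isInducing.topologicalKrullDim_le

end Groth.Agent.S14764
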