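import Groth.Statements.S14765
import Groth.Agent.Lib.Subtrusive.FlatImage
import Groth.Agent.Lib.Subtrusive.Submersive

set_option autoImplicit false
universe u
open CategoryTheory CategoryTheory.Limits AlgebraicGeometry
open Subtr

namespace Groth.Agent.S14765

/-- Let V be a valuation ring and f : X ⟶ Spec V any morphism of schemes. The following are equivalent:
(a) after every base change, every ordered pair of points of the target (a point and a
specialization of it) lifts to an ordered pair of points of the source; (b) every ordered pair of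
points of Spec V lifts to an ordered pair of points of X; (c) every point of Spec V is the image of
a point of X lying in the closure of the generic fibre; (d) the pair formed by the closed point and
the generic point of Spec V lifts to points x, x' of X with x a specialization of x'; (e) there are
a valuation ring W and a morphism Spec W ⟶ X whose composite with f is surjective; (f) there is a
closed subscheme Z of X such that Z ⟶ Spec V is flat and surjective. (The published list also
contains subtrusiveness and universal subtrusiveness, which add submersiveness for the constructible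
topology, and the lifting of arbitrary chains of points; this row omits those items and keeps the
lifting property alone in (a).) -/
theorem result (V : Type u) [CommRing V] [IsDomain V] [ValuationRing V]
    {X : Scheme.{u}} (f : X ⟶ Spec (CommRingCat.of V)) :
    List.TFAE [
      Subtr.UnivSSubtrusive f,
      Subtr.IsSSubtrusive f,
      ∀ y : Spec (CommRingCat.of V), ∃ x : X,
        x ∈ closure (f ⁻¹' {(⟨⊥, Ideal.isPrime_bot⟩ : PrimeSpectrum V)}) ∧ f x = y,
      ∃ x x' : X, x' ⤳ x ∧ f x = IsLocalRing.closedPoint V ∧
        f x' = (⟨⊥, Ideal.isPrime_bot⟩ : PrimeSpectrum V),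
      ∃ (W : Type u) (_ : CommRing W) (_ : IsDomain W) (_ : ValuationRing W)
        (g : Spec (CommRingCat.of W) ⟶ X), Surjective (g ≫ f),
      ∃ (Z : Scheme.{u}) (i : Z ⟶ X), IsClosedImmersion i ∧ Flat (i ≫ f) ∧ Surjective (i ≫ f)] := by
  tfae_have 1 → 2 := fun h => Groth.Agent.Lib.Subtrusive.Criterion.isSSubtrusive_of_univ h
  tfae_have 2 → 4 := fun h => h (Groth.Agent.Lib.Subtrusive.Valuation.genPt_specializes (IsLocalRing.closedPoint V))
  tfae_have 2 → 3 := by
    intro h y
    obtain ⟨x, x', hx, hxy, hxg⟩ := h (Groth.Agent.Lib.Subtrusive.Valuation.genPt_specializes y)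
    exact ⟨x, hx.mem_closed isClosed_closure (subset_closure hxg), hxy⟩
  tfae_have 3 → 4 := by
    intro h
    obtain ⟨x, hx, hxy⟩ := h (IsLocalRing.closedPoint V)
    obtain ⟨x', hx', hg⟩ := Groth.Agent.Lib.Subtrusive.Criterion.exists_generization_of_mem_closure f hx
    exact ⟨x, x', hx', hxy, hg⟩
  tfae_have 4 → 1 := fun h => Groth.Agent.Lib.Subtrusive.Criterion.univSSubtrusive_of_pair f h
  tfae_have 4 → 5 := by
    rintro ⟨x, x', hx, hc, hg⟩
    obtain ⟨W, iC, iD, iV, k, hk1, hk2⟩ := Groth.Agent.Lib.Subtrusive.Valuation.exists_valuationRing_of_specializes hx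
    refine ⟨W, iC, iD, iV, k, Groth.Agent.Lib.Subtrusive.Valuation.surjective_of_endpoints _ ?_ ?_⟩
    · rw [Scheme.Hom.comp_apply, hk1, hg]; rfl
    · rw [Scheme.Hom.comp_apply, hk2, hc]; rfl
  tfae_have 5 → 4 := by
    rintro ⟨W, iC, iD, iV, k, hs⟩
    refine ⟨k (Groth.Agent.Lib.Subtrusive.Valuation.clPt W), k (Groth.Agent.Lib.Subtrusive.Valuation.genPt W),
      (Groth.Agent.Lib.Subtrusive.Valuation.genPt_specializes _).map k.continuous, ?_, ?_⟩
    · rw [← Scheme.Hom.comp_apply, Groth.Agent.Lib.Subtrusive.Valuation.surjective_apply_clPt (k ≫ f)]; rfl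
    · rw [← Scheme.Hom.comp_apply, Groth.Agent.Lib.Subtrusive.Valuation.surjective_apply_genPt (k ≫ f)]; rfl
  tfae_have 4 → 6 := by
    rintro ⟨x, x', hx, hc, hg⟩
    exact Groth.Agent.Lib.Subtrusive.FlatImage.exists_closedImmersion_flat f hx hc hg
  tfae_have 6 → 1 := by
    rintro ⟨Z, i, -, h1, h2⟩
    exact Groth.Agent.Lib.Subtrusive.Criterion.univSSubtrusive_of_comp i f (Groth.Agent.Lib.Subtrusive.Criterion.univSSubtrusive_of_flat (i ≫ f))
  tfae_finish

end Groth.Agent.S14765
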