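import Groth.Statements.S14766
import Groth.Agent.Lib.Subtrusive.Submersive

set_option autoImplicit false
universe u
open CategoryTheory CategoryTheory.Limits AlgebraicGeometry
open Subtr

namespace Groth.Agent.S14766

/-- Let V be a discrete valuation ring and f : X ⟶ Spec V any morphism of schemes. Then the underlying
continuous map of f is a quotient map (f is submersive) if and only if every ordered pair of points
of Spec V lifts to an ordered pair of points of X. -/
theorem result (V : Type u) [CommRing V] [IsDomain V]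
    [IsDiscreteValuationRing V] {X : Scheme.{u}} (f : X ⟶ Spec (CommRingCat.of V)) :
    Topology.IsQuotientMap f ↔ Subtr.IsSSubtrusive f := by
  refine ⟨Groth.Agent.Lib.Subtrusive.Submersive.isSSubtrusive_of_isQuotientMap_dvr f, fun h => ?_⟩
  have : Finite (Spec (CommRingCat.of V)) := by
    refine Finite.of_surjective (fun b : Bool => if b then
      Groth.Agent.Lib.Subtrusive.Valuation.genPt V else
      Groth.Agent.Lib.Subtrusive.Valuation.clPt V) fun p => ?_
    by_cases hp : (p : PrimeSpectrum V).asIdeal = ⊥
    · exact ⟨true, (PrimeSpectrum.ext hp).symm⟩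
    · exact ⟨false, (PrimeSpectrum.ext
        (IsLocalRing.eq_maximalIdeal ((p : PrimeSpectrum V).isPrime.isMaximal hp))).symm⟩
  rw [Topology.isQuotientMap_iff]
  refine ⟨.of_isOpen_preimage_iff_isOpen fun W => ⟨fun hW => ?_, fun hW => hW.preimage f.continuous⟩,
    Groth.Agent.Lib.Subtrusive.Criterion.surjective_of_isSSubtrusive h⟩
  rw [← isClosed_compl_iff, ← closure_subset_iff_isClosed]
  intro y hy hyW
  obtain ⟨y', hy', hyy⟩ : ∃ y' ∈ Wᶜ, y' ⤳ y := by
    rw [← Set.biUnion_of_singleton Wᶜ, (Set.toFinite Wᶜ).closure_biUnion] at hy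
    obtain ⟨y', h1, h2⟩ := Set.mem_iUnion₂.mp hy
    exact ⟨y', h1, specializes_iff_mem_closure.mpr h2⟩
  obtain ⟨x, x', hx, rfl, rfl⟩ := h hyy
  exact hy' (hx.mem_open hW hyW)

end Groth.Agent.S14766
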