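import Groth.Statements.S14767
import Groth.Agent.Lib.Subtrusive.Submersive

set_option autoImplicit false
universe u
open CategoryTheory CategoryTheory.Limits AlgebraicGeometry
open Subtr

namespace Groth.Agent.S14767

/-- Let f : X ⟶ Y be a quasi-compact morphism of schemes. Then f is universally submersive if and only
if, for every valuation ring V and every morphism Spec V ⟶ Y, the base change X ×_Y Spec V ⟶ Spec V
is submersive (its underlying continuous map is a quotient map). (The published statement asks
instead that f be universally submersive for the constructible topologies, which holds for
quasi-compact surjective morphisms; both sides here force f to be surjective.) -/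
theorem result {X Y : Scheme.{u}} (f : X ⟶ Y) [QuasiCompact f] :
    SGA1.UnivSubmersive f ↔
      ∀ (V : Type u) [CommRing V] [IsDomain V] [ValuationRing V] (g : Spec (CommRingCat.of V) ⟶ Y),
        Topology.IsQuotientMap (pullback.snd f g) := by
  refine ⟨fun h V _ _ _ g => ?_, fun h => Groth.Agent.Lib.Subtrusive.Submersive.univSubmersive_of_valuation f h⟩
  exact Groth.Agent.Lib.Subtrusive.Submersive.isQuotientMap_pullback_snd h g

end Groth.Agent.S14767
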