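import Groth.Statements.S14775
import Groth.Agent.Lib.EtDescent.Main
import Groth.Agent.Lib.EtDescent.Conn
import Groth.Agent.Lib.Subtrusive.Noetherian

set_option autoImplicit false
universe u
open CategoryTheory CategoryTheory.Limits AlgebraicGeometry
open Subtr

namespace Groth.Agent.S14775

/-- Let S and S' be Noetherian schemes and g : S' ⟶ S a universally submersive morphism. Then every
descent datum relative to g whose underlying scheme is étale, separated and quasi-compact over S' is
isomorphic to the canonical descent datum of a scheme étale, separated and quasi-compact over S.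
(The published result is stated for étale algebraic spaces, which need not be separated; this row
states the case of separated objects, where everything is a scheme. Descent data are taken in
functor-of-points form.) -/
theorem result {S' S : Scheme.{u}}
    [IsNoetherian S] [IsNoetherian S'] (g : S' ⟶ S) (hg : SGA1.UnivSubmersive g)
    (D : Desc.SchDD g) [QuasiCompact D.obj.hom] [IsSeparated D.obj.hom] [Etale D.obj.hom] :
    ∃ U : Over S, QuasiCompact U.hom ∧ IsSeparated U.hom ∧ Etale U.hom ∧ Nonempty ((Desc.toDD g).obj U ≅ D) := by
  obtain ⟨U, q, hUe, hUs, hq, H⟩ := Lib.EtDescent.exists_isDescended_of_charts hg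
    (Lib.EtDescent.enoughCharts_of_subtrusive_qc Lib.EtDescent.steinConn
      (Lib.Subtrusive.Noetherian.univSSubtrusive_of_univSubmersive g hg) D)
  exact ⟨U, Lib.EtDescent.quasiCompact_of_isDescended H, hUs, hUe, ⟨H.iso⟩⟩

end Groth.Agent.S14775
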