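import Groth.Statements.S1478
import Groth.Agent.Lib.Kaehler.Chart
import Groth.Agent.Lib.Kaehler.DOmega
import Mathlib.AlgebraicGeometry.Morphisms.FormallyUnramified


set_option autoImplicit false
universe u
open FlatMor

namespace Groth.Agent.S1478

open AlgebraicGeometry CategoryTheory Limits

/-- A sheaf of modules all of whose section groups vanish is zero. -/
theorem isZero_of_subsingleton {X : Scheme.{u}} {M : X.Modules}
    (h : ∀ W : X.Opens, Subsingleton Γ(M, W)) : IsZero M := by
  rw [IsZero.iff_id_eq_zero]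
  apply Scheme.Modules.hom_ext
  intro W
  ext x
  exact @Subsingleton.elim _ (h W) _ _

/-- Sections of a zero sheaf of modules vanish. -/
theorem subsingleton_of_isZero {X : Scheme.{u}} {M : X.Modules} (h : IsZero M) (W : X.Opens) :
    Subsingleton Γ(M, W) := by
  have hz : ∀ x : Γ(M, W), x = 0 := fun x => by
    have := congrArg (fun φ : M ⟶ M => φ.app W) ((IsZero.iff_id_eq_zero M).mp h)
    exact ConcreteCategory.congr_hom this x
  exact ⟨fun a b => (hz a).trans (hz b).symm⟩

/-- `tilde M` is zero exactly for trivial `M`. -/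
theorem isZero_tilde_iff {R : CommRingCat.{u}} (M : ModuleCat.{u} R) :
    IsZero (tilde M) ↔ Subsingleton M := by
  refine ⟨fun h => ?_, fun h => ?_⟩
  · have hM : IsZero M := by
      rw [IsZero.iff_id_eq_zero]
      exact (tilde.functor R).map_injective (h.eq_of_src _ _)
    exact ModuleCat.subsingleton_of_isZero hM
  · exact (tilde.functor R).map_isZero (ModuleCat.isZero_of_subsingleton M)

end Groth.Agent.S1478

namespace Groth.Agent.S1478

open AlgebraicGeometry CategoryTheory Limits in
/-- For separated morphisms (where the sheaf of differentials is literally the conormal sheaf of the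
closed diagonal): a separated morphism f : X → S is formally unramified if and only if Ω_{X/S}, the
conormal sheaf of the diagonal, is the zero O_X-module. -/
theorem result {X S : Scheme.{u}} (f : X ⟶ S) [IsSeparated f] :
    FormallyUnramified f ↔ IsZero (Omega.sheaf f) := by
  have key : ∀ (U : X.Opens) (V : S.Opens) (hU : IsAffineOpen U) (hV : IsAffineOpen V)
      (e : U ≤ f ⁻¹ᵁ V),
      IsZero ((Omega.sheaf f).restrict hU.fromSpec) ↔ (f.appLE V U e).hom.FormallyUnramified := by
    intro U V hU hV e
    obtain ⟨i⟩ := Groth.Agent.Lib.Kaehler.Chart.nonempty_restrict_iso f hU hV e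
      (Groth.Agent.Lib.Kaehler.DOmega.isUniversal_dOmega f)
    rw [i.isZero_iff]
    refine (isZero_tilde_iff _).trans ?_
    letI := (f.appLE V U e).hom.toAlgebra
    exact ⟨fun h => ⟨h⟩, fun h => h.1⟩
  constructor
  · intro hf
    apply isZero_of_subsingleton
    intro W
    have hz : ∀ s : Γ(Omega.sheaf f, W), s = 0 := by
      intro s
      refine Groth.Agent.Lib.Kaehler.Affine.modules_section_ext _ fun x hx => ?_
      obtain ⟨_, ⟨V, hV, rfl⟩, hxV, -⟩ := S.isBasis_affineOpens.exists_subset_of_mem_open
        (Set.mem_univ (f x)) isOpen_univ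
      obtain ⟨_, ⟨U, hU, rfl⟩, hxU, hUW⟩ := X.isBasis_affineOpens.exists_subset_of_mem_open
        (show x ∈ W ⊓ f ⁻¹ᵁ V from ⟨hx, hxV⟩) (W ⊓ f ⁻¹ᵁ V).2
      have eW : U ≤ W := fun y hy => (hUW hy).1
      have eV : U ≤ f ⁻¹ᵁ V := fun y hy => (hUW hy).2
      refine ⟨U, eW, hxU, ?_⟩
      have h0 := subsingleton_of_isZero
        ((key U V hU hV eV).mpr (f.formallyUnramified_appLE hV hU eV)) ⊤
      have h1 : Subsingleton Γ(Omega.sheaf f, hU.fromSpec ''ᵁ ⊤) := h0
      rw [Scheme.Hom.image_top_eq_opensRange, hU.opensRange_fromSpec] at h1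
      exact Subsingleton.elim _ _
    exact ⟨fun a b => (hz a).trans (hz b).symm⟩
  · intro h
    refine ⟨fun {V} hV {U} hU e => (key U V hU hV e).mp ?_⟩
    exact (Scheme.Modules.restrictFunctor hU.fromSpec).map_isZero h


end Groth.Agent.S1478
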