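import Groth.Statements.S14781
import Groth.Agent.Lib.HTopSheaf.FiniteRefine

set_option autoImplicit false
universe u
open CategoryTheory CategoryTheory.Limits AlgebraicGeometry
open Subtr

namespace Groth.Agent.S14781

/-- Let Y be a scheme that is affine or Noetherian and f : X ⟶ Y a quasi-finite morphism of finite
presentation every base change of which has the lifting property for ordered pairs of points. Then
there are schemes X', Y', a morphism h : X' ⟶ X, a quasi-compact, quasi-separated, surjective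
morphism p : X' ⟶ Y' that is an open immersion on an open neighbourhood of every point of X' (an
open covering of Y' of finite presentation) and a finite surjective morphism q : Y' ⟶ Y of finite
presentation, with h ≫ f = p ≫ q. -/
theorem result {X Y : Scheme.{u}} (f : X ⟶ Y)
    (hY : IsAffine Y ∨ IsNoetherian Y) [LocallyOfFinitePresentation f] [QuasiCompact f] [QuasiSeparated f] [LocallyQuasiFinite f]
    (hf : Subtr.UnivSSubtrusive f) :
    ∃ (X' Y' : Scheme.{u}) (h : X' ⟶ X) (p : X' ⟶ Y') (q : Y' ⟶ Y), h ≫ f = p ≫ q ∧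
      Surjective p ∧ QuasiCompact p ∧ QuasiSeparated p ∧ (∀ x : X', ∃ U : X'.Opens, x ∈ U ∧ IsOpenImmersion (U.ι ≫ p)) ∧
      IsFinite q ∧ Surjective q ∧ LocallyOfFinitePresentation q := by
  classical
  have hH : HTop.IsHCover (PreZeroHypercover.singleton.{0} f) :=
    ⟨fun _ => ‹LocallyOfFinitePresentation f›,
      (Groth.Agent.Lib.Subtrusive.VCover.isVCover_singleton_iff f).mpr
        (Groth.Agent.Lib.Subtrusive.Criterion.univSSubtrusive_iff_hasLifts.mp hf)⟩
  have : ∀ j, LocallyQuasiFinite ((PreZeroHypercover.singleton.{0} f).f j) := fun _ =>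
    ‹LocallyQuasiFinite f›
  obtain ⟨Y', q, n, V, hq, hqs, hql, hVa, hVtop, hVk⟩ :=
    Groth.Agent.Lib.HTopSheaf.FiniteRefine.exists_affine_cover hY _ hH
  have hk' : ∀ a, ∃ k : (V a : Scheme.{u}) ⟶ X, k ≫ f = (V a).ι ≫ q := fun a => by
    obtain ⟨_, k, hk⟩ := hVk a
    exact ⟨k, hk⟩
  choose k hk using hk'
  have : CompactSpace Y := by rcases hY with _ | _ <;> infer_instance
  have : QuasiSeparatedSpace Y := by rcases hY with _ | _ <;> infer_instance
  have : CompactSpace Y' := QuasiCompact.compactSpace_of_compactSpace q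
  have : QuasiSeparatedSpace Y' := quasiSeparatedSpace_of_quasiSeparated q
  let P : ULift.{u} (Fin n) → Scheme.{u} := fun a => (V a.down : Scheme.{u})
  have : ∀ a, IsAffine (P a) := fun a => hVa a.down
  let p : ∐ P ⟶ Y' := Sigma.desc fun a => (V a.down).ι
  have hP : ∀ a, Sigma.ι P a ≫ p = (V a.down).ι := fun a => Sigma.ι_desc _ _
  refine ⟨∐ P, Y', Sigma.desc fun a => k a.down, p, q, ?_, ⟨fun y => ?_⟩,
    quasiCompact_of_compactSpace p, inferInstance, fun x => ?_, hq, hqs, hql⟩
  · refine Sigma.hom_ext _ _ fun a => ?_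
    rw [Sigma.ι_desc_assoc, hk, reassoc_of% (hP a)]
  · obtain ⟨a, ha⟩ := TopologicalSpace.Opens.mem_iSup.mp (hVtop.ge (Set.mem_univ y) : y ∈ ⨆ a, V a)
    exact ⟨Sigma.ι P (ULift.up a) ⟨y, ha⟩, by rw [← Scheme.Hom.comp_apply, hP]; rfl⟩
  · obtain ⟨j, z, rfl⟩ := (sigmaOpenCover P).exists_eq x
    refine ⟨(Sigma.ι P j).opensRange, ⟨z, rfl⟩, ?_⟩
    have e : (Sigma.ι P j).opensRange.ι = (Sigma.ι P j).isoOpensRange.inv ≫ Sigma.ι P j := by
      rw [Iso.eq_inv_comp, Scheme.Hom.isoOpensRange_hom_ι]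
    rw [e, Category.assoc, hP]
    infer_instance

end Groth.Agent.S14781
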