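import Groth.Statements.S14788
import Groth.Agent.Lib.Subtrusive.Criterion
import Groth.Agent.Lib.Subtrusive.ProConstructible

set_option autoImplicit false
universe u
open CategoryTheory CategoryTheory.Limits AlgebraicGeometry
open Subtr

namespace Groth.Agent.S14788

/-- (i) ⇔ (iv): a morphism of schemes f : X ⟶ Y has the lifting property for ordered pairs of points if
and only if, for every pro-constructible subset Z ⊆ Y, the image under f of the closure of f⁻¹(Z) is
the closure of Z. (In the published item (iv) the right-hand side is printed as Z itself; the
closure is meant, as the case of a non-closed point shows and as the proof uses.) -/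
theorem result {X Y : Scheme.{u}} (f : X ⟶ Y) :
    Subtr.IsSSubtrusive f ↔
      ∀ Z : Set Y, ProCons.IsProConstructible Z → f '' closure (f ⁻¹' Z) = closure Z := by
  constructor
  · intro h Z hZ
    refine Set.Subset.antisymm ?_ fun y hy => ?_
    · exact (image_closure_subset_closure_image f.continuous).trans
        (closure_mono (Set.image_preimage_subset _ _))
    · obtain ⟨z, hz, hzy⟩ := Groth.Agent.Lib.Subtrusive.ProConstructible.exists_generization_of_isProConstructible hZ hy
      obtain ⟨x, x', hx, hxy, hxz⟩ := h hzy
      exact ⟨x, hx.mem_closed isClosed_closure (subset_closure (show f x' ∈ Z by rwa [hxz])), hxy⟩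
  · intro h y y' hy
    have hh := h {y'} (Groth.Agent.Lib.Subtrusive.ProConstructible.isProConstructible_singleton y')
    obtain ⟨x, hx, rfl⟩ : y ∈ f '' closure (f ⁻¹' {y'}) := by
      rw [hh]; exact specializes_iff_mem_closure.mp hy
    obtain ⟨x', hxy', hx'⟩ :=
      Groth.Agent.Lib.Subtrusive.ProConstructible.exists_generization_of_isProConstructible (Z := f ⁻¹' {y'})
        (Groth.Agent.Lib.Subtrusive.ProConstructible.isProConstructible_preimage f
          (Groth.Agent.Lib.Subtrusive.ProConstructible.isProConstructible_singleton y')) hx
    exact ⟨x, x', hx', rfl, hxy'⟩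

end Groth.Agent.S14788
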