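import Groth.Statements.S14789
import Groth.Agent.Lib.Subtrusive.Criterion

set_option autoImplicit false
universe u
open CategoryTheory CategoryTheory.Limits AlgebraicGeometry
open Subtr

namespace Groth.Agent.S14789

/-- Let f : X ⟶ Y be a morphism of schemes with the lifting property for ordered pairs of points, and U
⊆ Y a subset containing every maximal point of Y (every point all of whose generizations are equal
to it). Then the closure of f⁻¹(U) maps onto Y. -/
theorem result {X Y : Scheme.{u}} (f : X ⟶ Y)
    (hf : Subtr.IsSSubtrusive f) (U : Set Y) (hU : ∀ y : Y, (∀ y' : Y, y' ⤳ y → y' = y) → y ∈ U) :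
    f '' closure (f ⁻¹' U) = Set.univ := by
  refine Set.eq_univ_of_forall fun y => ?_
  obtain ⟨z, hz, hy⟩ : ∃ z : Y, closure {z} ∈ irreducibleComponents Y ∧ z ⤳ y := by
    obtain ⟨z, hz⟩ := QuasiSober.sober (isIrreducible_irreducibleComponent (x := y))
      isClosed_irreducibleComponent
    exact ⟨z, hz.def.symm ▸ irreducibleComponent_mem_irreducibleComponents y,
      specializes_iff_mem_closure.mpr (hz.def.symm ▸ mem_irreducibleComponent)⟩
  have hzU : z ∈ U := by
    refine hU z fun y' hy' => ?_
    have hsub : closure {z} ⊆ closure {y'} :=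
      closure_minimal (Set.singleton_subset_iff.mpr (specializes_iff_mem_closure.mp hy')) isClosed_closure
    have hle := hz.2 (isIrreducible_singleton.closure) hsub
    exact hy'.antisymm (specializes_iff_mem_closure.mpr (hle (subset_closure rfl))) |>.eq
  obtain ⟨x, x', hx, hxy, hxz⟩ := hf hy
  exact ⟨x, hx.mem_closed isClosed_closure (subset_closure (show f x' ∈ U by rwa [hxz])), hxy⟩

end Groth.Agent.S14789
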