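import Groth.Statements.S1479
import Groth.Agent.Lib.Unram.SmoothCoordinates
import Mathlib.AlgebraicGeometry.AffineSpace
import Mathlib.AlgebraicGeometry.Morphisms.Smooth
import Mathlib.AlgebraicGeometry.Morphisms.Etale
import Mathlib.AlgebraicGeometry.Morphisms.ClosedImmersion
import Mathlib.RingTheory.LocalRing.Module

set_option autoImplicit false
universe u
open FlatMor

namespace Groth.Agent.S1479

section Aux

open AlgebraicGeometry CategoryTheory Limits TensorProduct

/-- Minimal generators at a prime of a finitely generated ideal. -/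
theorem exists_min_generators {B : Type u} [CommRing B] (J : Ideal B) (hJ : J.FG) (q : Ideal B) [q.IsPrime] :
    ∃ (r : ℕ) (g : Fin r → B), (∀ i, g i ∈ J) ∧
      J.map (algebraMap B (Localization.AtPrime q)) =
        Ideal.span (Set.range fun i => algebraMap B (Localization.AtPrime q) (g i)) ∧
      r = Module.finrank q.ResidueField (q.ResidueField ⊗[B] J) := by
  classical
  let L := Localization.AtPrime q
  let K := q.ResidueField
  haveI : Module.Finite B J := Module.Finite.iff_fg.2 hJ
  have hspan : Submodule.span K (Set.range fun x : J => (1 : K) ⊗ₜ[B] x) = ⊤ := by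
    rw [eq_top_iff]
    rintro z -
    induction z using TensorProduct.induction_on with
    | zero => exact zero_mem _
    | add a b ha hb => exact add_mem ha hb
    | tmul k x =>
      rw [← mul_one k, ← smul_eq_mul, ← TensorProduct.smul_tmul']
      exact Submodule.smul_mem _ _ (Submodule.subset_span ⟨x, rfl⟩)
  obtain ⟨bs, hbs_sub, hbs_span, hbs_li⟩ :=
    exists_linearIndependent K (Set.range fun x : J => (1 : K) ⊗ₜ[B] x)
  rw [hspan] at hbs_span
  have hfin : bs.Finite := LinearIndependent.setFinite hbs_li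
  haveI : Fintype bs := hfin.fintype
  let bas : Module.Basis bs K (K ⊗[B] J) :=
    Module.Basis.mk hbs_li (by rw [Subtype.range_coe, hbs_span])
  let e := (Fintype.equivFin bs).symm
  choose x hx using fun i : Fin (Fintype.card bs) => hbs_sub (e i).2
  refine ⟨Fintype.card bs, fun i => (x i : B), fun i => (x i).2, ?_,
    (Module.finrank_eq_card_basis bas).symm⟩
  -- Nakayama
  let N : Submodule L (L ⊗[B] J) := Submodule.span L (Set.range fun i => (1 : L) ⊗ₜ[B] x i)
  have hN : N = ⊤ := by
    rw [← IsLocalRing.map_tensorProduct_mk_eq_top, eq_top_iff]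
    rintro z -
    let c := TensorProduct.AlgebraTensorModule.cancelBaseChange B L K K J
    have key : ∀ i, TensorProduct.mk L K (L ⊗[B] J) 1 ((1 : L) ⊗ₜ[B] x i) = c.symm ((1 : K) ⊗ₜ[B] x i) := by
      intro i
      rfl
    have hz : c z ∈ Submodule.span K (Set.range fun i => (1 : K) ⊗ₜ[B] x i) := by
      have : Set.range (fun i => (1 : K) ⊗ₜ[B] x i) = bs := by
        rw [show (fun i => (1 : K) ⊗ₜ[B] x i) = fun i => ((e i : bs) : K ⊗[B] J) from funext hx]
        exact (EquivLike.range_comp (Subtype.val : bs → K ⊗[B] J) e).trans Subtype.range_coe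
      rw [this, hbs_span]; trivial
    rw [← c.symm_apply_apply z]
    generalize c z = w at hz ⊢
    induction hz using Submodule.span_induction with
    | mem v hv =>
      obtain ⟨i, rfl⟩ := hv
      exact ⟨_, Submodule.subset_span ⟨i, rfl⟩, key i⟩
    | zero => rw [map_zero]; exact zero_mem _
    | add a b _ _ ha hb => rw [map_add]; exact add_mem ha hb
    | smul k v _ hv =>
      rw [map_smul]
      obtain ⟨l, rfl⟩ := IsLocalRing.residue_surjective (R := L) k
      rw [← IsLocalRing.ResidueField.algebraMap_eq, algebraMap_smul]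
      exact Submodule.smul_mem _ _ hv
  let μ : L ⊗[B] J →ₗ[L] L := LinearMap.liftBaseChange L ((Algebra.linearMap B L).comp J.subtype)
  have hμ : ∀ (l : L) (j : J), μ (l ⊗ₜ[B] j) = l * algebraMap B L (j : B) := fun l j => by
    simp [μ]
  refine le_antisymm (Ideal.map_le_iff_le_comap.2 fun j hj => ?_) (Ideal.span_le.2 ?_)
  · have h1 : μ ((1 : L) ⊗ₜ[B] (⟨j, hj⟩ : J)) ∈ N.map μ := by
      rw [hN]; exact Submodule.mem_map_of_mem trivial
    rw [hμ, one_mul, Submodule.map_span, ← Set.range_comp] at h1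
    show algebraMap B L j ∈ Submodule.span L _
    refine Submodule.span_mono ?_ h1
    rintro _ ⟨i, rfl⟩
    refine ⟨i, ?_⟩
    show algebraMap B L (x i : B) = μ _
    rw [hμ, one_mul]
  · rintro _ ⟨i, rfl⟩
    exact Ideal.mem_map_of_mem _ (x i).2

theorem algebra_step {A B C : Type u} [CommRing A] [CommRing B] [CommRing C] [Algebra A B]
    [Algebra A C] [Algebra.Smooth A B] [Algebra.Smooth A C] (σ : B →ₐ[A] C) (hσ : Function.Surjective σ)
    (q : Ideal B) [q.IsPrime] (hq : RingHom.ker σ.toRingHom ≤ q) :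
    ∃ (f : B) (m r : ℕ) (g : Fin r → B), f ∉ q ∧ (∀ i, σ (g i) = 0) ∧
      ∀ (L : Type u) [CommRing L] [Algebra B L] [IsLocalization.Away f L] [Algebra A L] [IsScalarTower A B L],
        ∃ g' : Fin m → L,
          (MvPolynomial.aeval (Sum.elim g' fun i => algebraMap B L (g i)) :
            MvPolynomial (Fin m ⊕ Fin r) A →ₐ[A] L).toRingHom.Etale ∧
          (RingHom.ker σ.toRingHom).map (algebraMap B L) =
            Ideal.span (Set.range fun i => algebraMap B L (g i)) := by
  let J := RingHom.ker σ.toRingHom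
  have hJ : J.FG := Algebra.FinitePresentation.ker_fG_of_surjective σ hσ
  let eC : (B ⧸ J) ≃ₐ[A] C := Ideal.quotientKerAlgEquivOfSurjective hσ
  haveI : Algebra.Smooth A (B ⧸ J) := Algebra.Smooth.of_equiv eC.symm
  let Q : Ideal (B ⧸ J) := q.map (Ideal.Quotient.mk J)
  haveI : Q.IsPrime := Ideal.map_isPrime_of_surjective Ideal.Quotient.mk_surjective (by rwa [Ideal.mk_ker])
  have hQ : Q.comap (Ideal.Quotient.mk J) = q := by
    rw [Ideal.comap_map_of_surjective _ Ideal.Quotient.mk_surjective, ← RingHom.ker_eq_comap_bot,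
      Ideal.mk_ker, sup_eq_left.2 hq]
  obtain ⟨r, g, hg, hgen, hmin⟩ := exists_min_generators J hJ q
  obtain ⟨f, hf, m, g', het, hmap⟩ :=
    Groth.Agent.Lib.Unram.SmoothCoordinates.exists_etale_coordinates A J q hJ hq Q hQ r g hg hgen hmin
  refine ⟨f, m, r, g, hf, hg, ?_⟩
  intro L _ _ _ _ _
  let e : Localization.Away f ≃ₐ[B] L := IsLocalization.algEquiv (Submonoid.powers f) _ _
  refine ⟨fun i => e (g' i), ?_, ?_⟩
  · let swap : MvPolynomial (Fin m ⊕ Fin r) A ≃ₐ[A] MvPolynomial (Fin r ⊕ Fin m) A :=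
      MvPolynomial.renameEquiv A (Equiv.sumComm _ _)
    have he : (MvPolynomial.aeval (Sum.elim (fun i => e (g' i)) fun i => algebraMap B L (g i)) :
        MvPolynomial (Fin m ⊕ Fin r) A →ₐ[A] L) =
        ((e.restrictScalars A).toAlgHom.comp
          (MvPolynomial.aeval (Sum.elim (fun i => algebraMap B (Localization.Away f) (g i)) g'))).comp
          swap.toAlgHom := by
      refine MvPolynomial.algHom_ext fun i => ?_
      rcases i with i | i
      · simp [swap]
      · simp [swap]
    rw [he]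
    refine RingHom.Etale.stableUnderComposition _ _ ?_ ?_
    · exact RingHom.Etale.respectsIso.1 _ (RingEquiv.refl _) (RingHom.Etale.of_bijective swap.bijective)
    · exact RingHom.Etale.stableUnderComposition _ _ het (RingHom.Etale.of_bijective (e.restrictScalars A).bijective)
  · have h1 := congrArg (Ideal.map e.toAlgHom.toRingHom) hmap
    rw [Ideal.map_map, Ideal.map_span, ← Set.range_comp] at h1
    rw [show e.toAlgHom.toRingHom.comp (algebraMap B (Localization.Away f)) = algebraMap B L from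
      RingHom.ext e.commutes] at h1
    refine h1.trans ?_
    congr 1
    exact congrArg Set.range (funext fun i => e.commutes (g i))

end Aux

open AlgebraicGeometry CategoryTheory Limits in
/-- Let X and Y be smooth over S and i : Y → X a closed immersion over S. For every point y of Y there
are an open U of X containing i y, natural numbers m, n, and an étale S-morphism π from U to affine
(m+n)-space over S such that the closed subscheme Y ∩ U of U is the pullback along π of the
coordinate subspace given by the vanishing of the last n coordinates. -/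
theorem result {S X Y : Scheme.{u}} (pX : X ⟶ S) (pY : Y ⟶ S) [Smooth pX] [Smooth pY]
    (i : Y ⟶ X) [IsClosedImmersion i] (w : i ≫ pX = pY) (y : Y) :
    ∃ (U : X.Opens) (m n : ℕ) (π : (U : Scheme.{u}) ⟶ 𝔸(ULift.{u} (Fin m ⊕ Fin n); S)) (ρ : (↑(i ⁻¹ᵁ U) : Scheme.{u}) ⟶ 𝔸(ULift.{u} (Fin m); S)),
      i y ∈ U ∧ Etale π ∧ π ≫ (𝔸(ULift.{u} (Fin m ⊕ Fin n); S) ↘ S) = U.ι ≫ pX ∧
      IsPullback ρ (i ∣_ U)
        (AffineSpace.homOfVector (𝔸(ULift.{u} (Fin m); S) ↘ S)
          (fun j : ULift.{u} (Fin m ⊕ Fin n) => Sum.elim (fun a => AffineSpace.coord S (ULift.up a)) (fun _ => 0) j.down))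
        π := by
  subst w
  obtain ⟨S1, hS1, hsS1, -⟩ := exists_isAffineOpen_mem_and_subset (x := pX (i y)) (U := ⊤) trivial
  obtain ⟨W, hW, hyW, hWS⟩ := exists_isAffineOpen_mem_and_subset (x := i y) (U := pX ⁻¹ᵁ S1) hsS1
  replace hWS : W ≤ pX ⁻¹ᵁ S1 := hWS
  have hV : IsAffineOpen (i ⁻¹ᵁ W) := hW.preimage i
  have hVS : i ⁻¹ᵁ W ≤ (i ≫ pX) ⁻¹ᵁ S1 := fun z hz => hWS hz
  let A := Γ(S, S1)
  let φ : A ⟶ Γ(X, W) := pX.appLE S1 W hWS
  letI algB : Algebra A Γ(X, W) := φ.hom.toAlgebra
  letI algC : Algebra A Γ(Y, i ⁻¹ᵁ W) := (φ ≫ i.app W).hom.toAlgebra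
  haveI : Algebra.Smooth A Γ(X, W) := HasRingHomProperty.appLE @Smooth pX inferInstance ⟨S1, hS1⟩ ⟨W, hW⟩ hWS
  have hcomp : φ ≫ i.app W = (i ≫ pX).appLE S1 (i ⁻¹ᵁ W) hVS := by
    rw [Scheme.Hom.app_eq_appLE, Scheme.Hom.appLE_comp_appLE]
  haveI : Algebra.Smooth A Γ(Y, i ⁻¹ᵁ W) := by
    have h := HasRingHomProperty.appLE @Smooth (i ≫ pX) inferInstance ⟨S1, hS1⟩ ⟨_, hV⟩ hVS
    rw [← hcomp] at h
    exact h
  let σ : Γ(X, W) →ₐ[A] Γ(Y, i ⁻¹ᵁ W) := { (i.app W).hom with commutes' := fun a => rfl }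
  have hσ : Function.Surjective σ := i.app_surjective W hW
  let q := (hW.primeIdealOf ⟨i y, hyW⟩).asIdeal
  have hq : RingHom.ker σ.toRingHom ≤ q := by
    intro a ha
    have h := IsAffineOpen.comap_primeIdealOf_appLE (f := i) (x := y) W hW (i ⁻¹ᵁ W) hV le_rfl hyW
    show a ∈ (hW.primeIdealOf ⟨i y, hyW⟩).asIdeal
    rw [← h]
    rw [PrimeSpectrum.comap_asIdeal, Ideal.mem_comap]
    rw [← Scheme.Hom.app_eq_appLE, show (i.app W).hom a = 0 from ha]
    exact zero_mem _
  obtain ⟨f, m, r, g, hf, hg, hmain⟩ := algebra_step σ hσ q hq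
  let U := X.basicOpen f
  have hUW : U ≤ W := X.basicOpen_le f
  have hyU : i y ∈ U := by
    have h : ((hW.primeIdealOf ⟨i y, hyW⟩ : PrimeSpectrum Γ(X, W))) ∈ PrimeSpectrum.basicOpen f := hf
    have h' : hW.primeIdealOf ⟨i y, hyW⟩ ∈ hW.fromSpec ⁻¹ᵁ X.basicOpen f := by
      rw [hW.fromSpec_preimage_basicOpen]; exact h
    have h2 : hW.fromSpec (hW.primeIdealOf ⟨i y, hyW⟩) ∈ X.basicOpen f := h'
    rwa [hW.fromSpec_primeIdealOf] at h2
  have hU : IsAffineOpen U := hW.basicOpen f
  haveI : IsAffine (U : Scheme.{u}) := hU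
  haveI := hW.isLocalization_basicOpen f
  letI algU : Algebra A Γ(X, U) := ((algebraMap Γ(X, W) Γ(X, U)).comp (algebraMap A Γ(X, W))).toAlgebra
  haveI : IsScalarTower A Γ(X, W) Γ(X, U) := IsScalarTower.of_algebraMap_eq fun _ => rfl
  obtain ⟨g', het, hker⟩ := hmain Γ(X, U)
  let v : Fin m ⊕ Fin r → Γ(X, U) := Sum.elim g' fun j => algebraMap Γ(X, W) Γ(X, U) (g j)
  let n₁ : Type u := ULift.{u} (Fin m ⊕ Fin r)
  let π : (U : Scheme.{u}) ⟶ 𝔸(n₁; S) :=
    AffineSpace.homOfVector (U.ι ≫ pX) fun j => U.topIso.inv.hom (v j.down)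
  let z : 𝔸(ULift.{u} (Fin m); S) ⟶ 𝔸(n₁; S) :=
    AffineSpace.homOfVector (𝔸(ULift.{u} (Fin m); S) ↘ S)
      (fun j : n₁ => Sum.elim (fun a => AffineSpace.coord S (ULift.up a)) (fun _ => 0) j.down)
  let pr : 𝔸(n₁; S) ⟶ 𝔸(ULift.{u} (Fin m); S) :=
    AffineSpace.reindex (fun a => ULift.up (Sum.inl a.down)) S
  have hzpr : z ≫ pr = 𝟙 _ := by
    refine AffineSpace.hom_ext ?_ fun a => ?_
    · simp only [pr, Category.assoc, AffineSpace.reindex_over, Category.id_comp]
      exact AffineSpace.homOfVector_over _ _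
    · rw [Scheme.Hom.comp_appTop, CommRingCat.comp_apply, AffineSpace.reindex_appTop_coord,
        AffineSpace.homOfVector_appTop_coord]
      simp
  have hπover : π ≫ (𝔸(n₁; S) ↘ S) = U.ι ≫ pX := AffineSpace.homOfVector_over _ _
  have hπcoord : ∀ j, π.appTop (AffineSpace.coord S j) = U.topIso.inv.hom (v j.down) :=
    AffineSpace.homOfVector_appTop_coord _ _
  refine ⟨U, m, r, π, (i ∣_ U) ≫ π ≫ pr, hyU, ?_, hπover, ?_⟩
  · -- étale
    let ω : MvPolynomial n₁ A →ₐ[A] Γ(X, U) := MvPolynomial.aeval fun j => v j.down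
    have hω : ω.toRingHom.Etale := by
      have : ω = (MvPolynomial.aeval v : MvPolynomial (Fin m ⊕ Fin r) A →ₐ[A] Γ(X, U)).comp
          (MvPolynomial.renameEquiv A (Equiv.ulift : n₁ ≃ Fin m ⊕ Fin r)).toAlgHom :=
        MvPolynomial.algHom_ext fun j => by simp [ω]
      rw [this]
      exact RingHom.Etale.stableUnderComposition _ _
        (RingHom.Etale.of_bijective (MvPolynomial.renameEquiv A (Equiv.ulift : n₁ ≃ Fin m ⊕ Fin r)).bijective) het
    haveI : Etale (Spec.map (CommRingCat.ofHom ω.toRingHom)) := by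
      rw [HasRingHomProperty.Spec_iff (P := @Etale)]; exact hω
    haveI : IsOpenImmersion hS1.fromSpec := hS1.isOpenImmersion_fromSpec
    haveI : IsOpenImmersion (AffineSpace.map n₁ hS1.fromSpec) :=
      MorphismProperty.of_isPullback (AffineSpace.isPullback_map hS1.fromSpec).flip inferInstance
    let π' : (U : Scheme.{u}) ⟶ 𝔸(n₁; S) :=
      hU.isoSpec.hom ≫ Spec.map (CommRingCat.ofHom ω.toRingHom) ≫ (AffineSpace.SpecIso n₁ A).inv ≫
        AffineSpace.map n₁ hS1.fromSpec
    haveI : Etale π' := inferInstance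
    suffices π = π' by rw [this]; infer_instance
    have hωC : CommRingCat.ofHom (MvPolynomial.C : A →+* MvPolynomial n₁ A) ≫ CommRingCat.ofHom ω.toRingHom =
        pX.appLE S1 U (hUW.trans hWS) := by
      rw [← pX.appLE_map hWS (homOfLE hUW).op]
      refine CommRingCat.hom_ext (RingHom.ext fun a => ?_)
      show ω (MvPolynomial.C a) = _
      rw [← MvPolynomial.algebraMap_eq, ω.commutes]
      rfl
    refine AffineSpace.hom_ext ?_ fun j => ?_
    · rw [hπover]
      simp only [π', Category.assoc, AffineSpace.map_over, AffineSpace.SpecIso_inv_over_assoc]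
      rw [← Spec.map_comp_assoc, hωC, IsAffineOpen.SpecMap_appLE_fromSpec pX hS1 hU, ← Category.assoc,
        hU.isoSpec_hom_fromSpec]
    · rw [hπcoord]
      simp only [π', Scheme.Hom.comp_appTop, CommRingCat.comp_apply, AffineSpace.map_appTop_coord,
        AffineSpace.SpecIso_inv_appTop_coord]
      have hn : (Spec.map (CommRingCat.ofHom ω.toRingHom)).appTop
          ((Scheme.ΓSpecIso (CommRingCat.of (MvPolynomial n₁ A))).inv (MvPolynomial.X j)) =
          (Scheme.ΓSpecIso Γ(X, U)).inv (ω (MvPolynomial.X j)) :=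
        congr($((Scheme.ΓSpecIso_inv_naturality (CommRingCat.ofHom ω.toRingHom)).symm) (MvPolynomial.X j))
      have h2 : (Scheme.ΓSpecIso Γ(X, U)).inv ≫ hU.isoSpec.hom.appTop = U.topIso.inv := by
        rw [IsAffineOpen.isoSpec_hom, Scheme.Opens.toSpecΓ_appTop, Iso.inv_hom_id_assoc]
      refine Eq.trans ?_ (congrArg hU.isoSpec.hom.appTop.hom hn).symm
      refine Eq.trans ?_ (congrArg (fun q => q.hom (ω (MvPolynomial.X j))) h2).symm
      exact congrArg U.topIso.inv.hom (MvPolynomial.aeval_X (fun j : n₁ => v j.down) j).symm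
  · -- the pullback
    refine ⟨⟨?_⟩, ?_⟩
    · refine AffineSpace.hom_ext ?_ fun j => ?_
      · simp [z, pr, hπover]
      · show ((((i ∣_ U) ≫ π ≫ pr) ≫ z).appTop) (AffineSpace.coord S j) = _
        rw [Scheme.Hom.comp_appTop, CommRingCat.comp_apply, AffineSpace.homOfVector_appTop_coord]
        rcases j with ⟨a | b⟩
        · simp only [Sum.elim_inl, Scheme.Hom.comp_appTop, CommRingCat.comp_apply, pr,
            AffineSpace.reindex_appTop_coord]
        · simp only [Sum.elim_inr, map_zero, Scheme.Hom.comp_appTop, CommRingCat.comp_apply]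
          rw [hπcoord]
          symm
          have hg0 : (X.presheaf.map (homOfLE hUW).op ≫ i.app U) (g b) = 0 := by
            rw [i.naturality, CommRingCat.comp_apply, show (i.app W).hom (g b) = 0 from hg b, map_zero]
          rw [morphismRestrict_appTop]
          have hU' : U.ι ''ᵁ ⊤ = U := U.ι_image_top
          show (Y.presheaf.map _).hom ((i.app (U.ι ''ᵁ ⊤)).hom ((X.presheaf.map (eqToHom hU').op).hom
            (algebraMap Γ(X, W) Γ(X, U) (g b)))) = 0
          have hn := congr($(i.naturality (eqToHom hU').op) (algebraMap Γ(X, W) Γ(X, U) (g b)))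
          have hz : (i.app U).hom (algebraMap Γ(X, W) Γ(X, U) (g b)) = 0 := hg0
          rw [show (i.app (U.ι ''ᵁ ⊤)).hom ((X.presheaf.map (eqToHom hU').op).hom
            (algebraMap Γ(X, W) Γ(X, U) (g b))) = 0 from hn.trans (by rw [CommRingCat.comp_apply]; erw [hz]; exact map_zero _),
            map_zero]
    · have hkerU : RingHom.ker (i.app U).hom =
          (RingHom.ker σ.toRingHom).map (algebraMap Γ(X, W) Γ(X, U)) := by
        have h1 := i.ker.map_ideal (U := ⟨U, hU⟩) (V := ⟨W, hW⟩) hUW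
        rw [Scheme.Hom.ker_apply, Scheme.Hom.ker_apply] at h1
        exact h1.symm
      have hfac : ∀ {T : Scheme.{u}} (c : T ⟶ (U : Scheme.{u})),
          (∀ b, c.appTop.hom (U.topIso.inv.hom (v (Sum.inr b))) = 0) → (i ∣_ U).ker ≤ c.ker := by
        intro T c hc
        rw [Scheme.ker_of_isAffine, Scheme.ker_of_isAffine]
        refine Scheme.IdealSheafData.le_of_isAffine ?_
        simp only [Scheme.IdealSheafData.ofIdealTop_ideal, homOfLE_refl, op_id, CategoryTheory.Functor.map_id, CommRingCat.hom_id, Ideal.map_id]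
        intro a ha
        rw [RingHom.mem_ker] at ha ⊢
        rw [morphismRestrict_appTop] at ha
        obtain ⟨a', rfl⟩ : ∃ a', U.topIso.inv.hom a' = a :=
          ⟨U.topIso.hom.hom a, congr($(U.topIso.hom_inv_id) a)⟩
        have hU' : U.ι ''ᵁ ⊤ = U := U.ι_image_top
        have ha1 : (i.app (U.ι ''ᵁ ⊤)).hom ((X.presheaf.map (eqToHom hU').op).hom a') = 0 :=
          (ConcreteCategory.bijective_of_isIso
            (Y.presheaf.map (eqToHom (image_morphismRestrict_preimage i U ⊤)).op)).1 (ha.trans (map_zero _).symm)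
        have hn := congr($(i.naturality (eqToHom hU').op) a')
        have ha2 : a' ∈ RingHom.ker (i.app U).hom := by
          rw [RingHom.mem_ker]
          refine (ConcreteCategory.bijective_of_isIso
            (Y.presheaf.map ((TopologicalSpace.Opens.map i.base).map (eqToHom hU')).op)).1 ?_
          exact (hn.symm.trans ha1).trans (map_zero _).symm
        rw [hkerU, hker] at ha2
        have : Ideal.span (Set.range fun b => algebraMap Γ(X, W) Γ(X, U) (g b)) ≤
            RingHom.ker (c.appTop.hom.comp U.topIso.inv.hom) := by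
          rw [Ideal.span_le]
          rintro _ ⟨b, rfl⟩
          exact hc b
        exact this ha2
      have hv0 : ∀ c : PullbackCone z π, ∀ b, c.snd.appTop.hom (U.topIso.inv.hom (v (Sum.inr b))) = 0 := by
        intro c b
        rw [← hπcoord (ULift.up (Sum.inr b)), ← CommRingCat.comp_apply, ← Scheme.Hom.comp_appTop,
          ← c.condition, Scheme.Hom.comp_appTop, CommRingCat.comp_apply,
          AffineSpace.homOfVector_appTop_coord]
        exact map_zero _
      refine ⟨PullbackCone.IsLimit.mk _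
        (fun c => IsClosedImmersion.lift (i ∣_ U) c.snd (hfac c.snd (hv0 c))) (fun c => ?_)
        (fun c => IsClosedImmersion.lift_fac _ _ _) (fun c l h1 h2 => ?_)⟩
      · rw [← Category.assoc, IsClosedImmersion.lift_fac, ← Category.assoc, ← c.condition, Category.assoc,
          hzpr, Category.comp_id]
      · rw [← cancel_mono (i ∣_ U), IsClosedImmersion.lift_fac]
        exact h2


end Groth.Agent.S1479
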