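import Groth.Statements.S4603
import Groth.Agent.Lib.ProCons45.Basic

set_option autoImplicit false
universe u
open AlgebraicGeometry CategoryTheory
open EGA41

namespace Groth.Agent.S4603

/-- Let f : X → Y be quasi-compact. The following are equivalent: f is dominant; the fibre of f over
every maximal point of Y (a point with no proper generization, i.e. the generic point of an
irreducible component) is nonempty; every maximal point of Y is the image of a maximal point of X. -/
theorem result {X Y : Scheme.{u}} (f : X ⟶ Y) [QuasiCompact f] :
    [IsDominant f,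
     ∀ y : Y, (∀ y' : Y, y' ⤳ y → y' = y) → y ∈ Set.range f.base,
     ∀ y : Y, (∀ y' : Y, y' ⤳ y → y' = y) → ∃ x : X, (∀ x' : X, x' ⤳ x → x' = x) ∧ f.base x = y].TFAE := by
  tfae_have 3 → 2 := fun h y hy => by
    obtain ⟨x, -, hx⟩ := h y hy; exact ⟨x, hx⟩
  tfae_have 1 → 3 := by
    intro hd y hy
    have hr : ProCons.IsProConstructible (Set.range f.base) := by
      rw [← Set.image_univ]
      exact Groth.Agent.Lib.ProCons45.Basic.isProConstructible_iff_isPC.mpr (Groth.Agent.Lib.ProCons45.Basic.isPC_image f Groth.Agent.Lib.LimTop.PC.IsPC.univ)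
    obtain ⟨z, ⟨x, rfl⟩, hzy⟩ := Groth.Agent.Lib.Subtrusive.ProConstructible.exists_generization_of_isProConstructible hr (y := y)
      (f.denseRange y)
    obtain ⟨Z, hZ, hxZ⟩ : ∃ Z, Z ∈ irreducibleComponents X ∧ x ∈ Z :=
      ⟨irreducibleComponent x, irreducibleComponent_mem_irreducibleComponents x, mem_irreducibleComponent⟩
    have hg := hZ.1.isGenericPoint_genericPoint (isClosed_of_mem_irreducibleComponents Z hZ)
    refine ⟨hZ.1.genericPoint, fun x' hx' => ?_, ?_⟩
    · have hle : Z ⊆ closure {x'} := hg.def ▸ closure_minimal
        (Set.singleton_subset_iff.mpr hx'.mem_closure) isClosed_closure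
      have hge := hZ.2 isIrreducible_singleton.closure hle
      exact IsGenericPoint.eq (show IsGenericPoint x' Z from Set.Subset.antisymm hge hle) hg
    · exact hy _ (((hg.specializes hxZ).map f.continuous).trans hzy)
  tfae_have 2 → 1 := by
    intro h
    refine ⟨fun y => ?_⟩
    have hmem := mem_irreducibleComponent (x := y)
    have hZ := irreducibleComponent_mem_irreducibleComponents y
    have hg := hZ.1.isGenericPoint_genericPoint (isClosed_of_mem_irreducibleComponents _ hZ)
    have hmax : ∀ y', y' ⤳ hZ.1.genericPoint → y' = hZ.1.genericPoint := fun y' hy' => by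
      have hle : irreducibleComponent y ⊆ closure {y'} := hg.def ▸ closure_minimal
        (Set.singleton_subset_iff.mpr hy'.mem_closure) isClosed_closure
      have hge := hZ.2 isIrreducible_singleton.closure hle
      exact IsGenericPoint.eq (show IsGenericPoint y' _ from Set.Subset.antisymm hge hle) hg
    exact (hg.specializes hmem).mem_closed isClosed_closure (subset_closure (h _ hmax))
  tfae_finish

end Groth.Agent.S4603
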