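import Groth.Statements.S14790
import Groth.Agent.H19.FlatLocus.Scheme
import Groth.Agent.S4603
import Mathlib.AlgebraicGeometry.FunctionField

set_option autoImplicit false
universe u
open CategoryTheory CategoryTheory.Limits AlgebraicGeometry
open Subtr

namespace Groth.Agent.S14790

/-- Take a scheme Y that is reduced, quasi-compact and quasi-separated, whose set of maximal points
(points with no proper generization) is quasi-compact, and f : X ⟶ Y a morphism of finite
presentation. Then there is a dense quasi-compact open subset U ⊆ Y over which f is flat. -/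
theorem result {X Y : Scheme.{u}} [IsReduced Y]
    [CompactSpace Y] [QuasiSeparatedSpace Y]
    (hgen : IsCompact {y : Y | ∀ y' : Y, y' ⤳ y → y' = y})
    (f : X ⟶ Y) [LocallyOfFinitePresentation f] [QuasiCompact f] [QuasiSeparated f] :
    ∃ U : Y.Opens, Dense (U : Set Y) ∧ IsCompact (U : Set Y) ∧ Flat (f ∣_ U) := by
  classical
  let Z : Set X := {x | (f.stalkMap x).hom.Flat}ᶜ
  have hZ : IsClosed Z := (H19.FlatLocus.Scheme.isOpen_flat_stalkMap (f := f)).isClosed_compl
  have hη : ∀ y : Y, (∀ y' : Y, y' ⤳ y → y' = y) → y ∉ closure (f '' Z) := by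
    intro y hy hyc
    have hfield : IsField (Y.presheaf.stalk y) := by
      refine isField_stalk_of_closure_mem_irreducibleComponents Y y
        ⟨isIrreducible_singleton.closure, fun T hT hle => ?_⟩
      have hT' : IsIrreducible (closure T) := hT.closure
      obtain ⟨t, ht⟩ := QuasiSober.sober hT' isClosed_closure
      have hyt : y ∈ closure {t} := by
        rw [ht.def]
        exact subset_closure (hle (subset_closure rfl))
      have hty : t = y := hy t (specializes_iff_mem_closure.2 hyt)
      subst hty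
      rw [ht.def]
      exact subset_closure
    let Zs : Scheme.{u} := (Scheme.IdealSheafData.vanishingIdeal ⟨Z, hZ⟩).subscheme
    let ι : Zs ⟶ X := (Scheme.IdealSheafData.vanishingIdeal ⟨Z, hZ⟩).subschemeι
    have hι : Set.range ι = Z := by
      rw [Scheme.IdealSheafData.range_subschemeι, Scheme.IdealSheafData.coe_support_vanishingIdeal]
      rfl
    let g := ι ≫ f
    have hg : Set.range g = f '' Z := by
      rw [← hι, ← Set.range_comp]
      rfl
    have hyi : y ∈ Set.range g.imageι := by
      have : closure (Set.range g) ⊆ Set.range g.imageι := by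
        refine closure_minimal ?_ g.imageι.isClosedEmbedding.isClosed_range
        rintro _ ⟨z, rfl⟩
        exact ⟨g.toImage z, by rw [← Scheme.Hom.comp_apply, Scheme.Hom.toImage_imageι]⟩
      exact this (hg ▸ hyc)
    obtain ⟨w, hw⟩ := hyi
    have hwmin : ∀ w' : g.image, w' ⤳ w → w' = w := fun w' hw' =>
      g.imageι.isClosedEmbedding.injective ((hy _ (hw ▸ hw'.map g.imageι.continuous)).trans hw.symm)
    have hdom : IsDominant g.toImage := inferInstance
    have htf : IsDominant g.toImage ↔
        ∀ y : g.image, (∀ y' : g.image, y' ⤳ y → y' = y) → y ∈ Set.range g.toImage :=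
      (Groth.Agent.S4603.result g.toImage).out 0 1
    obtain ⟨z, hz⟩ := htf.1 hdom w hwmin
    have hzy : f (ι z) = y := by
      rw [← hw, ← hz, ← Scheme.Hom.comp_apply, ← Scheme.Hom.comp_apply]
      rw [Scheme.Hom.toImage_imageι]
    have hnf : ι z ∈ Z := hι ▸ ⟨z, rfl⟩
    apply hnf
    subst hzy
    exact RingHom.Flat.of_isField hfield _
  have hcov : ∀ y : Y, (∀ y' : Y, y' ⤳ y → y' = y) →
      ∃ U : Y.Opens, IsCompact (U : Set Y) ∧ y ∈ U ∧ (U : Set Y) ⊆ (closure (f '' Z))ᶜ := by
    intro y hy
    obtain ⟨U, hU, hyU, hUV⟩ := exists_isAffineOpen_mem_and_subset (X := Y) (x := y)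
      (U := ⟨(closure (f '' Z))ᶜ, isClosed_closure.isOpen_compl⟩) (hη y hy)
    exact ⟨U, hU.isCompact, hyU, hUV⟩
  choose U hUc hyU hUV using hcov
  obtain ⟨s, hs⟩ := hgen.elim_finite_subcover
    (fun i : {y : Y // ∀ y' : Y, y' ⤳ y → y' = y} => (U i.1 i.2 : Set Y)) (fun i => (U i.1 i.2).2)
    (fun y hy => Set.mem_iUnion.2 ⟨⟨y, hy⟩, hyU y hy⟩)
  refine ⟨s.sup fun i => U i.1 i.2, ?_, ?_, ?_⟩
  · intro y
    obtain ⟨C, hC, hyC⟩ : ∃ C ∈ irreducibleComponents (Y : Type u), y ∈ C :=
      ⟨_, irreducibleComponent_mem_irreducibleComponents y, mem_irreducibleComponent⟩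
    obtain ⟨t, ht⟩ := QuasiSober.sober hC.1 (isClosed_of_mem_irreducibleComponents _ hC)
    have htmin : ∀ y' : Y, y' ⤳ t → y' = t := by
      intro y' hy'
      refine Specializes.antisymm hy' ?_ |>.eq
      rw [specializes_iff_mem_closure, ht.def]
      refine hC.2 isIrreducible_singleton.closure ?_ (subset_closure rfl)
      rw [← ht.def]
      exact closure_minimal (Set.singleton_subset_iff.2 hy'.mem_closure) isClosed_closure
    have hts : t ∈ ((s.sup fun i => U i.1 i.2 : Y.Opens) : Set Y) := by
      simpa using hs htmin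
    exact closure_mono (Set.singleton_subset_iff.2 hts) (ht.def ▸ hyC)
  · rw [TopologicalSpace.Opens.coe_finset_sup]
    simp only [Finset.sup_set_eq_biUnion, Function.comp]
    exact s.isCompact_biUnion fun i _ => hUc i.1 i.2
  · rw [Flat.iff_flat_stalkMap]
    intro x
    have hx : f x.1 ∈ (closure (f '' Z))ᶜ := by
      have h : f x.1 ∈ ((s.sup fun i => U i.1 i.2 : Y.Opens) : Set Y) := x.2
      rw [TopologicalSpace.Opens.coe_finset_sup] at h
      simp only [Finset.sup_set_eq_biUnion, Function.comp, Set.mem_iUnion] at h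
      obtain ⟨i, -, hi⟩ := h
      exact hUV i.1 i.2 hi
    have hfl : (f.stalkMap x.1).hom.Flat := by
      by_contra h
      exact hx (subset_closure ⟨x.1, h, rfl⟩)
    exact (RingHom.Flat.respectsIso.arrow_mk_iso_iff (morphismRestrictStalkMap f _ x)).2 hfl

end Groth.Agent.S14790
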