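import Groth.Statements.S14792
import Groth.Agent.Lib.Lim.Approx.Main
import Groth.Agent.Lib.Lim.FPDescend
import Groth.Agent.Lib.LimSub.Descend
import Groth.Agent.Lib.Subtrusive.Noetherian
import Groth.Agent.Lib.Subtrusive.Submersive

set_option autoImplicit false
universe u
open CategoryTheory CategoryTheory.Limits AlgebraicGeometry
open Subtr

namespace Groth.Agent.S14792

/-- (i) ⇔ (iii): let A be a commutative ring and f : X ⟶ Spec A a morphism of finite presentation. Then
every base change of f has the lifting property for ordered pairs of points if and only if there are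
a finitely generated subring A₀ ⊆ A, a scheme X₀ and a universally submersive morphism f₀ : X₀ ⟶
Spec A₀ of finite presentation such that f is the base change of f₀ along Spec A ⟶ Spec A₀. -/
theorem result (A : Type u) [CommRing A]
    {X : Scheme.{u}} (f : X ⟶ Spec (CommRingCat.of A))
    [LocallyOfFinitePresentation f] [QuasiCompact f] [QuasiSeparated f] :
    Subtr.UnivSSubtrusive f ↔
      ∃ (A₀ : Subalgebra ℤ A) (_ : A₀.FG) (X₀ : Scheme.{u}) (f₀ : X₀ ⟶ Spec (CommRingCat.of A₀))
        (q : X ⟶ X₀), IsPullback q f f₀ (Spec.map (CommRingCat.ofHom A₀.val.toRingHom)) ∧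
        LocallyOfFinitePresentation f₀ ∧ QuasiCompact f₀ ∧ QuasiSeparated f₀ ∧
        SGA1.UnivSubmersive f₀ := by
  classical
  constructor
  · intro hf
    obtain ⟨𝒜⟩ := Groth.Agent.Lib.Lim.Approx.Main.exists_approx (S := Spec (CommRingCat.of A))
    have : IsNoetherianRing (CommRingCat.of (ULift.{u} ℤ)) :=
      isNoetherianRing_of_ringEquiv ℤ ULift.ringEquiv.symm
    have : ∀ i, IsLocallyNoetherian (𝒜.D.obj i) := fun i =>
      LocallyOfFiniteType.isLocallyNoetherian (IsTerminal.from specULiftZIsTerminal (𝒜.D.obj i))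
    have : IsAffine 𝒜.cone.pt := inferInstanceAs (IsAffine (Spec (CommRingCat.of A)))
    obtain ⟨j, hj⟩ := Scheme.exists_isAffine_of_isLimit 𝒜.D 𝒜.cone 𝒜.isLimit
    let D := Over.forget j ⋙ 𝒜.D
    let c : Cone D := 𝒜.cone.whisker (Over.forget j)
    have hc : IsLimit c :=
      (Functor.Initial.isLimitWhiskerEquiv (Over.forget j) 𝒜.cone).symm 𝒜.isLimit
    have hA : ∀ i, IsAffine (D.obj i) := fun i => by
      have : IsAffineHom (𝒜.D.map i.hom) := 𝒜.affine i.hom
      exact isAffine_of_isAffineHom (𝒜.D.map i.hom)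
    have : CompactSpace X := QuasiCompact.compactSpace_of_compactSpace f
    have : QuasiSeparatedSpace X := quasiSeparatedSpace_of_quasiSeparated f
    obtain ⟨i₁, X₁, f₁, g₁, hX₁c, hX₁q, hf₁, hsq⟩ :=
      Groth.Agent.Lib.Lim.FPDescend.exists_descent hc f
    obtain ⟨i₂, θ, hθ⟩ := Groth.Agent.Lib.LimSub.Descend.univSSubtrusive_descendsAffine D c hc
      (fun _ => inferInstance) (fun _ _ g => inferInstance) i₁ f₁ hX₁c hX₁q hf₁ f g₁ hsq hf
    let f₂ := pullback.snd f₁ (D.map θ)
    let R := Γ(D.obj i₂, ⊤)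
    let π₂ : Spec (CommRingCat.of A) ⟶ D.obj i₂ := c.π.app i₂
    have hsq₂ : ∃ q, IsPullback q f f₂ π₂ := ⟨_, Groth.Agent.Lib.Lim.FPDescend.move (c := c) hsq θ⟩
    obtain ⟨q₂, hq₂⟩ := hsq₂
    obtain ⟨φ, hφ⟩ := Spec.map_surjective (π₂ ≫ (D.obj i₂).isoSpec.hom)
    let alg : Algebra ℤ R := Ring.toIntAlgebra R
    have hR : Algebra.FiniteType ℤ R := by
      have h1 : LocallyOfFiniteType (IsTerminal.from specULiftZIsTerminal (D.obj i₂)) :=
        𝒜.lft i₂.left
      have h2 := (HasRingHomProperty.iff_of_isAffine (P := @LocallyOfFiniteType)).mp h1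
      let ψ : ℤ →+* R := (IsTerminal.from specULiftZIsTerminal (D.obj i₂)).appTop.hom.comp
        ((Scheme.ΓSpecIso (CommRingCat.of (ULift.{u} ℤ))).inv.hom.comp ULift.ringEquiv.symm.toRingHom)
      have h3 : ψ.FiniteType := RingHom.FiniteType.comp h2 (RingHom.FiniteType.of_surjective _
        ((ConcreteCategory.bijective_of_isIso
          (Scheme.ΓSpecIso (CommRingCat.of (ULift.{u} ℤ))).inv).2.comp
          ULift.ringEquiv.symm.surjective))
      rw [← RingHom.finiteType_algebraMap, Subsingleton.elim (algebraMap ℤ R) ψ]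
      exact h3
    let φ' : R →ₐ[ℤ] A := φ.hom.toIntAlgHom
    let A₀ : Subalgebra ℤ A := φ'.range
    have hA₀ : A₀.FG := by
      show φ'.range.FG
      rw [← Algebra.map_top]
      exact Subalgebra.FG.map _ hR.out
    let t : Spec (CommRingCat.of A₀) ⟶ D.obj i₂ :=
      Spec.map (CommRingCat.ofHom φ'.rangeRestrict.toRingHom) ≫ (D.obj i₂).isoSpec.inv
    have ht : Spec.map (CommRingCat.ofHom A₀.val.toRingHom) ≫ t = π₂ := by
      rw [← cancel_mono (D.obj i₂).isoSpec.hom, ← hφ]
      simp only [t, Category.assoc, Iso.inv_hom_id, Category.comp_id, ← Spec.map_comp]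
      rfl
    let q : X ⟶ pullback f₂ t := pullback.lift q₂
      (f ≫ Spec.map (CommRingCat.ofHom A₀.val.toRingHom)) (by rw [Category.assoc, ht, hq₂.w])
    refine ⟨A₀, hA₀, pullback f₂ t, pullback.snd f₂ t, q, ?_, inferInstance, inferInstance,
      inferInstance, ?_⟩
    · refine IsPullback.of_right (h₁₂ := pullback.fst f₂ t) (v₁₃ := f₂) (h₂₂ := t) ?_
        (pullback.lift_snd _ _ _) (IsPullback.of_hasPullback f₂ t)
      rw [pullback.lift_fst, ht]
      exact hq₂
    · exact Groth.Agent.Lib.Subtrusive.Submersive.univSubmersive_of_univSSubtrusive _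
        (Groth.Agent.Lib.Subtrusive.Criterion.univSSubtrusive_of_isPullback
          (IsPullback.of_hasPullback f₂ t) hθ)
  · rintro ⟨A₀, hA₀, X₀, f₀, q, hsq, -, hqc, -, hs⟩
    have : Algebra.FiniteType ℤ A₀ := A₀.fg_iff_finiteType.mp hA₀
    have : IsNoetherianRing A₀ := Algebra.FiniteType.isNoetherianRing ℤ A₀
    exact Groth.Agent.Lib.Subtrusive.Criterion.univSSubtrusive_of_isPullback hsq
      (Groth.Agent.Lib.Subtrusive.Noetherian.univSSubtrusive_of_univSubmersive f₀ hs)

end Groth.Agent.S14792
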