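import Groth.Statements.S14794
import Mathlib.AlgebraicGeometry.Morphisms.Immersion
import Mathlib.AlgebraicGeometry.Morphisms.UniversallyInjective


set_option autoImplicit false
universe u
open CategoryTheory CategoryTheory.Limits AlgebraicGeometry
open Subtr

namespace Groth.Agent.S14794

/-- Let X ⟶ S be a quasi-separated morphism of schemes, T ⟶ S an S-scheme, p : T' ⟶ T a quasi-compact,
quasi-separated and universally submersive morphism, and f' : T' ⟶ X an S-morphism whose composites
with the two projections T' ×_T T' ⟶ T' agree on every reduced scheme mapping to T' ×_T T' (that is,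
they agree on the reduction of T' ×_T T'). Then there are a scheme T₁ and a factorization p = q ≫ u
with q : T' ⟶ T₁ schematically dominant (injective on sections) and u : T₁ ⟶ T a separated universal
homeomorphism, together with an S-morphism f₁ : T₁ ⟶ X with q ≫ f₁ = f'. In particular f' descends
to T as soon as every such factorization of p has u an isomorphism (p weakly normal). (This is the
factorization produced by the proof of the descent of morphisms along weakly normal morphisms. The
published remark is for algebraic spaces X with X ⟶ S locally separated and also asserts that the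
factorization can be chosen minimal; this row is the case of schemes, which are locally separated,
without the minimality.) -/
theorem result {S X T T' : Scheme.{u}}
    (πX : X ⟶ S) [QuasiSeparated πX] (t : T ⟶ S) (p : T' ⟶ T) [QuasiCompact p] [QuasiSeparated p]
    (hp : SGA1.UnivSubmersive p) (f' : T' ⟶ X) (hf' : f' ≫ πX = p ≫ t)
    (heq : ∀ (W : Scheme.{u}) [IsReduced W] (w : W ⟶ pullback p p),
      w ≫ pullback.fst p p ≫ f' = w ≫ pullback.snd p p ≫ f') :
    ∃ (T₁ : Scheme.{u}) (q : T' ⟶ T₁) (u : T₁ ⟶ T) (f₁ : T₁ ⟶ X), q ≫ u = p ∧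
      (∀ U : T₁.Opens, Function.Injective (q.app U).hom) ∧ FlatMor.IsUnivHomeo u ∧ IsSeparated u ∧
      q ≫ f₁ = f' ∧ f₁ ≫ πX = u ≫ t := by
  classical
  have hs : Surjective p := ⟨((hp (𝟙 T') (𝟙 T) p IsPullback.of_id_snd) :
    Topology.IsQuotientMap _).surjective⟩
  let γ : T' ⟶ pullback t πX := pullback.lift p f' hf'.symm
  have hγ1 : γ ≫ pullback.fst t πX = p := pullback.lift_fst _ _ _
  have hγ2 : γ ≫ pullback.snd t πX = f' := pullback.lift_snd _ _ _
  have eqW : ∀ (W : Scheme.{u}) [IsReduced W] (w₁ w₂ : W ⟶ T'), w₁ ≫ p = w₂ ≫ p →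
      w₁ ≫ f' = w₂ ≫ f' := by
    intro W _ w₁ w₂ h
    have := heq W (pullback.lift w₁ w₂ h)
    rwa [pullback.lift_fst_assoc, pullback.lift_snd_assoc] at this
  have hsat : ∀ w₁ w₂ : T', p w₁ = p w₂ → f' w₁ = f' w₂ := by
    intro w₁ w₂ h
    obtain ⟨z, hz1, hz2⟩ := Scheme.Pullback.exists_preimage_pullback w₁ w₂ h
    have := eqW (Spec ((pullback p p).residueField z))
      ((pullback p p).fromSpecResidueField z ≫ pullback.fst p p)
      ((pullback p p).fromSpecResidueField z ≫ pullback.snd p p)
      (by rw [Category.assoc, Category.assoc, pullback.condition])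
    have h' := congr($this (IsLocalRing.closedPoint _))
    simpa [Scheme.Hom.comp_apply, Scheme.fromSpecResidueField_apply, hz1, hz2] using h'
  have hq : Topology.IsQuotientMap p :=
    hp (𝟙 T') (𝟙 T) p IsPullback.of_id_snd
  have hTV : ∀ V : X.affineOpens, IsOpen (p '' (f' ⁻¹' (V.1 : Set X))) := fun V => by
    rw [← hq.isCoinducing.isOpen_preimage]
    convert (V.1.2.preimage f'.continuous) using 1
    ext w
    exact ⟨fun ⟨w', hw', h⟩ => show f' w ∈ (V.1 : Set X) from hsat w' w h ▸ hw',
      fun hw => ⟨w, hw, rfl⟩⟩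
  let OV : X.affineOpens → (pullback t πX).Opens := fun V =>
    (pullback.fst t πX ⁻¹ᵁ ⟨_, hTV V⟩) ⊓ (pullback.snd t πX ⁻¹ᵁ V.1)
  let O : (pullback t πX).Opens := ⨆ V, OV V
  have hZO : Set.range γ ⊆ (O : Set ↑(pullback t πX)) := by
    rintro _ ⟨w, rfl⟩
    obtain ⟨V, hV, hw, -⟩ := exists_isAffineOpen_mem_and_subset (X := X) (x := f' w) (U := ⊤) trivial
    refine TopologicalSpace.Opens.mem_iSup.2 ⟨⟨V, hV⟩, ?_, ?_⟩
    · show pullback.fst t πX (γ w) ∈ p '' (f' ⁻¹' (V : Set X))
      rw [← Scheme.Hom.comp_apply, hγ1]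
      exact ⟨w, hw, rfl⟩
    · show pullback.snd t πX (γ w) ∈ (V : Set X)
      rwa [← Scheme.Hom.comp_apply, hγ2]
  have : QuasiCompact γ :=
    have : QuasiCompact (γ ≫ pullback.fst t πX) := hγ1 ▸ inferInstance
    .of_comp _ (pullback.fst t πX)
  let γO : T' ⟶ (O : Scheme.{u}) := IsOpenImmersion.lift O.ι γ (by rwa [Scheme.Opens.range_ι])
  have hγO : γO ≫ O.ι = γ := IsOpenImmersion.lift_fac _ _ _
  have : QuasiCompact γO :=
    have : QuasiCompact (γO ≫ O.ι) := hγO.symm ▸ inferInstance
    .of_comp _ O.ι
  -- the image is closed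
  have hcl : ∀ x : ↥(O : Scheme.{u}), x ∈ closure (Set.range γO) → x ∈ Set.range γO := by
    intro x hx
    obtain ⟨V, hxV⟩ := TopologicalSpace.Opens.mem_iSup.1 x.2
    let Z : Set ↑(pullback t πX) := Set.range γ
    let g : (OV V : Scheme.{u}) ⟶ T := (OV V).ι ≫ pullback.fst t πX
    let a : pullback g p ⟶ X := pullback.fst g p ≫ (OV V).ι ≫ pullback.snd t πX
    let b : pullback g p ⟶ X := pullback.snd g p ≫ f'
    have ha : Set.range a ⊆ Set.range V.1.ι := by
      rw [Scheme.Opens.range_ι]
      rintro _ ⟨z, rfl⟩
      exact (pullback.fst g p z).2.2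
    have hb : Set.range b ⊆ Set.range V.1.ι := by
      rw [Scheme.Opens.range_ι]
      rintro _ ⟨z, rfl⟩
      obtain ⟨w', hw', h⟩ := (pullback.fst g p z).2.1
      have : p (pullback.snd g p z) = g (pullback.fst g p z) := by
        rw [← Scheme.Hom.comp_apply, ← Scheme.Hom.comp_apply, pullback.condition]
      show f' (pullback.snd g p z) ∈ (V.1 : Set X)
      rw [hsat _ w' (this.trans h.symm)]
      exact hw'
    let aV := IsOpenImmersion.lift V.1.ι a ha
    let bV := IsOpenImmersion.lift V.1.ι b hb
    let σ : (V.1 : Scheme.{u}) ⟶ S := V.1.ι ≫ πX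
    have hab : aV ≫ σ = bV ≫ σ := by
      simp only [aV, bV, σ, IsOpenImmersion.lift_fac_assoc, a, b, Category.assoc, hf',
        ← pullback.condition]
      rw [← pullback.condition_assoc]
      simp only [g, Category.assoc]
    have : IsSeparated σ := by
      have : IsAffine (V.1 : Scheme.{u}) := V.2
      have : IsSeparated (σ ≫ terminal.from S) := by
        rw [terminal.comp_from]
        infer_instance
      exact IsSeparated.of_comp σ (terminal.from S)
    let e := pullback.fst (pullback.lift aV bV hab) (pullback.diagonal σ)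
    have he : IsClosed (Set.range e) := e.isClosedEmbedding.isClosed_range
    have heab : e ≫ a = e ≫ b := by
      have h1 := pullback.condition (f := pullback.lift aV bV hab) (g := pullback.diagonal σ)
      have h2 := congr($h1 ≫ pullback.fst σ σ ≫ V.1.ι)
      have h3 := congr($h1 ≫ pullback.snd σ σ ≫ V.1.ι)
      simp only [Category.assoc, pullback.lift_fst_assoc, pullback.lift_snd_assoc,
        pullback.diagonal_fst_assoc, pullback.diagonal_snd_assoc, aV, bV,
        IsOpenImmersion.lift_fac] at h2 h3
      exact h2.trans h3.symm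
    have hset : (fun z => (OV V).ι (pullback.fst g p z)) ⁻¹' Z = Set.range e := by
      ext z
      constructor
      · rintro ⟨w, hw⟩
        obtain ⟨ξ, hξ1, hξ2⟩ := Scheme.Pullback.exists_preimage_pullback
          (f := pullback.fst g p ≫ (OV V).ι) (g := γ) z w hw.symm
        let Q := pullback (pullback.fst g p ≫ (OV V).ι) γ
        let k : Spec (Q.residueField ξ) ⟶ Q := Q.fromSpecResidueField ξ
        let k₁ := k ≫ pullback.fst (pullback.fst g p ≫ (OV V).ι) γ
        let k₂ := k ≫ pullback.snd (pullback.fst g p ≫ (OV V).ι) γ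
        have hk : k₁ ≫ pullback.fst g p ≫ (OV V).ι = k₂ ≫ γ := by
          simp only [k₁, k₂, Category.assoc, pullback.condition]
        have hab' : k₁ ≫ a = k₁ ≫ b := by
          have h1 := eqW _ k₂ (k₁ ≫ pullback.snd g p) (by
            simp only [Category.assoc, ← pullback.condition]
            have := congr($hk ≫ pullback.fst t πX)
            simpa only [Category.assoc, hγ1, g] using this.symm)
          have h2 := congr($hk ≫ pullback.snd t πX)
          simp only [Category.assoc, hγ2] at h2
          exact h2.trans (h1.trans (Category.assoc _ _ _))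
        have hfac : k₁ ≫ aV = k₁ ≫ bV := by
          rw [← cancel_mono V.1.ι]
          simpa only [Category.assoc, aV, bV, IsOpenImmersion.lift_fac] using hab'
        let l : Spec (Q.residueField ξ) ⟶ pullback (pullback.lift aV bV hab) (pullback.diagonal σ) :=
          pullback.lift k₁ (k₁ ≫ aV) (pullback.hom_ext
            (by simp [pullback.lift_fst]) (by simp [pullback.lift_snd, hfac]))
        refine ⟨l (IsLocalRing.closedPoint _), ?_⟩
        rw [← Scheme.Hom.comp_apply, pullback.lift_fst]
        simp only [k₁, k, Scheme.Hom.comp_apply, Scheme.fromSpecResidueField_apply]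
        exact hξ1
      · rintro ⟨ε, rfl⟩
        refine ⟨pullback.snd g p (e ε), ?_⟩
        have : e ≫ pullback.snd g p ≫ γ = e ≫ pullback.fst g p ≫ (OV V).ι := by
          refine pullback.hom_ext ?_ ?_
          · simp only [Category.assoc, hγ1]
            rw [← pullback.condition]
          · simp only [Category.assoc, hγ2]
            exact heab.symm
        simpa [Scheme.Hom.comp_apply] using congr($this ε)
    have hqV : Topology.IsQuotientMap (pullback.fst g p) :=
      hp (pullback.snd g p) g (pullback.fst g p) (IsPullback.of_hasPullback g p)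
    have hZV : IsClosed ((OV V).ι ⁻¹' Z) := by
      rw [← hqV.isCoinducing.isClosed_preimage, ← Set.preimage_comp]
      exact hset.symm ▸ he
    have hxZ : O.ι x ∈ closure Z := by
      have h := image_closure_subset_closure_image O.ι.continuous (Set.mem_image_of_mem O.ι hx)
      rwa [← Set.range_comp, show (⇑O.ι ∘ ⇑γO) = ⇑γ by rw [← hγO]; rfl] at h
    have h1 : (⟨O.ι x, hxV⟩ : ↥(OV V)) ∈ (OV V).ι ⁻¹' closure Z := hxZ
    rw [(OV V).ι.isOpenEmbedding.isOpenMap.preimage_closure_eq_closure_preimage
      (OV V).ι.continuous, hZV.closure_eq] at h1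
    obtain ⟨w, hw⟩ := h1
    exact ⟨w, O.ι.isOpenEmbedding.injective (by rw [← Scheme.Hom.comp_apply, hγO]; exact hw)⟩
  let T₁ := γO.image
  let q : T' ⟶ T₁ := γO.toImage
  let u : T₁ ⟶ T := γO.imageι ≫ O.ι ≫ pullback.fst t πX
  let f₁ : T₁ ⟶ X := γO.imageι ≫ O.ι ≫ pullback.snd t πX
  have hqu : q ≫ u = p := by simp only [q, u, Scheme.Hom.toImage_imageι_assoc, reassoc_of% hγO, hγ1]
  have hqf : q ≫ f₁ = f' := by
    simp only [q, f₁, Scheme.Hom.toImage_imageι_assoc, reassoc_of% hγO, hγ2]
  have hsq : Surjective q := ⟨fun y => by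
    have hy : γO.imageι y ∈ closure (Set.range γO) := by
      have := Set.mem_range_self (f := γO.imageι) y
      rw [Scheme.IdealSheafData.range_subschemeι, Scheme.Hom.support_ker] at this
      exact this
    obtain ⟨w, hw⟩ := hcl _ hy
    exact ⟨w, γO.imageι.isClosedEmbedding.injective
      (by rw [← Scheme.Hom.comp_apply, Scheme.Hom.toImage_imageι, hw])⟩⟩
  have : UniversallyInjective u := by
    rw [UniversallyInjective.iff_diagonal]
    refine ⟨fun z => ?_⟩
    obtain ⟨w₁, hw₁⟩ := q.surjective (pullback.fst u u z)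
    obtain ⟨y, hy1, hy2⟩ := Scheme.Pullback.exists_preimage_pullback (f := q) (g := pullback.fst u u)
      w₁ z hw₁
    obtain ⟨w₂, hw₂⟩ := q.surjective (pullback.snd u u z)
    let a := pullback.snd q (pullback.fst u u) ≫ pullback.snd u u
    obtain ⟨v, hv1, hv2⟩ := Scheme.Pullback.exists_preimage_pullback (f := a) (g := q) y w₂
      (by simp only [a, Scheme.Hom.comp_apply, hy2, hw₂])
    let k := (pullback a q).fromSpecResidueField v
    let k₁ := k ≫ pullback.fst a q ≫ pullback.fst q (pullback.fst u u)
    let k₂ := k ≫ pullback.snd a q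
    let kz := k ≫ pullback.fst a q ≫ pullback.snd q (pullback.fst u u)
    have e1 : k₁ ≫ q = kz ≫ pullback.fst u u := by
      simp only [k₁, kz, Category.assoc, pullback.condition]
    have e2 : k₂ ≫ q = kz ≫ pullback.snd u u := by
      simp only [k₂, kz, Category.assoc, ← pullback.condition (f := a), a]
    have e3 : k₁ ≫ p = k₂ ≫ p := by
      simp only [← hqu, reassoc_of% e1, reassoc_of% e2, pullback.condition]
    have e4 : k₁ ≫ q = k₂ ≫ q := by
      rw [← cancel_mono γO.imageι, ← cancel_mono O.ι]
      simp only [Category.assoc, q, Scheme.Hom.toImage_imageι_assoc, hγO]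
      refine pullback.hom_ext ?_ ?_
      · simpa only [Category.assoc, hγ1] using e3
      · simpa only [Category.assoc, hγ2] using eqW _ k₁ k₂ e3
    have e5 : (kz ≫ pullback.fst u u) ≫ pullback.diagonal u = kz := by
      refine pullback.hom_ext ?_ ?_
      · simp [pullback.diagonal_fst]
      · rw [Category.assoc, pullback.diagonal_snd, Category.comp_id, ← e1, e4, e2]
    refine ⟨(kz ≫ pullback.fst u u) (IsLocalRing.closedPoint _), ?_⟩
    rw [← Scheme.Hom.comp_apply, e5]
    simp only [kz, k, Scheme.Hom.comp_apply, Scheme.fromSpecResidueField_apply, hv1, hy2]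
  refine ⟨T₁, q, u, f₁, hqu, fun U => TopCat.Presheaf.app_injective_of_stalkFunctor_map_injective
    (F := T₁.sheaf) q.c U (fun x _ => γO.stalkFunctor_toImage_injective x), ?_, ?_, hqf, ?_⟩
  · intro X' Y' i₁ i₂ u' h
    have : UniversallyInjective u' := MorphismProperty.of_isPullback h.flip ‹UniversallyInjective u›
    let q' := pullback.snd q i₁
    have hpb : IsPullback (q' ≫ u') (pullback.fst q i₁) i₂ p := by
      rw [← hqu]
      exact (IsPullback.of_hasPullback q i₁).flip.paste_horiz h
    have hp' : Topology.IsQuotientMap ⇑(q' ≫ u') := hp _ _ _ hpb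
    have hu' : Topology.IsQuotientMap u' :=
      Topology.IsQuotientMap.of_comp q'.continuous u'.continuous (by simpa using hp')
    exact ((isHomeomorph_iff_isQuotientMap_injective).2 ⟨hu', u'.injective⟩ :)
  · have hd : Surjective (pullback.diagonal u) :=
      (UniversallyInjective.iff_diagonal u).1 inferInstance
    exact ⟨.of_isPreimmersion _ (by rw [(pullback.diagonal u).surjective.range_eq]; exact isClosed_univ)⟩
  · simp only [u, f₁, Category.assoc, ← pullback.condition]

end Groth.Agent.S14794
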