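import Groth.Statements.S14797
import Groth.Agent.Lib.Subtrusive.Descent
import Mathlib.RingTheory.Unramified.LocalStructure
import Mathlib.AlgebraicGeometry.Morphisms.QuasiFinite
import Mathlib.AlgebraicGeometry.ZariskisMainTheorem
import Mathlib.AlgebraicGeometry.Morphisms.Etale

set_option autoImplicit false
universe u
open CategoryTheory CategoryTheory.Limits AlgebraicGeometry
open Subtr

namespace Groth.Agent.S14797

/-- Let g : S' ⟶ S be a quasi-compact universally submersive morphism of schemes and f : X ⟶ S an étale
morphism whose base change X ×_S S' ⟶ S' is finite. Then f is finite. (The published statement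
treats the properties universally closed, separated and quasi-compact one at a time as well; this
row is the finite case. It assumes g universally subtrusive, using it only through universal
submersiveness and, for quasi-compactness, through the constructible topology; for quasi-compact g
universal submersiveness suffices by the same proof.) -/
theorem result {X S S' : Scheme.{u}} (g : S' ⟶ S)
    [QuasiCompact g] (hg : SGA1.UnivSubmersive g) (f : X ⟶ S) [Etale f]
    [IsFinite (pullback.snd f g)] : IsFinite f := by
  have : LocallyQuasiFinite f := by
    refine ⟨fun {U} hU {V} hV e ↦ ?_⟩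
    have h1 := HasRingHomProperty.appLE @FormallyUnramified f inferInstance ⟨U, hU⟩ ⟨V, hV⟩ e
    have h2 := HasRingHomProperty.appLE @LocallyOfFiniteType f inferInstance ⟨U, hU⟩ ⟨V, hV⟩ e
    algebraize [(f.appLE U V e).hom]
    have : Algebra.FormallyUnramified Γ(S, U) Γ(X, V) := h1
    have : Algebra.FiniteType Γ(S, U) Γ(X, V) := h2
    exact (inferInstance : Algebra.QuasiFinite Γ(S, U) Γ(X, V))
  have : IsProper f := Lib.Subtrusive.Descent.isProper (IsPullback.of_hasPullback f g) hg
    inferInstance inferInstance
  exact IsFinite.of_isProper_of_locallyQuasiFinite f

end Groth.Agent.S14797
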