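import Groth.Statements.S14798
import Groth.Agent.H68.HJ
import Mathlib.RingTheory.Coprime.Lemmas
import Mathlib.Tactic.FieldSimp
import Mathlib.Tactic.Positivity
import Mathlib.Tactic.LinearCombination

set_option autoImplicit false
open Finset
open HJFrac

namespace Groth.Agent.S14798

/-- Let 0 < r < n be coprime integers and n/r = b₁ - 1/(b₂ - 1/(⋯ - 1/b_λ)) the Hirzebruch–Jung
expansion (λ ≥ 1, every b_i ≥ 2); let m₁, m₂ be positive integers prime to n with r m₂ + m₁ ≡ 0 mod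
n, and let μ₁, …, μ_λ be positive integers solving the tridiagonal system b_i μ_i - μ_{i-1} -
μ_{i+1} = 0 (1 ≤ i ≤ λ) with the conventions μ₀ = m₂ and μ_{λ+1} = m₁ (the multiplicity vector
attached to (n, r, m₂, m₁)). Then n/(m₁ m₂) = 1/(m₂ μ₁) + 1/(μ₁ μ₂) + ⋯ + 1/(μ_{λ-1} μ_λ) + 1/(μ_λ
m₁). -/
theorem result (l : ℕ) (hl : 1 ≤ l) (b : ℕ → ℤ)
    (hb : ∀ i, 1 ≤ i → i ≤ l → 2 ≤ b i)
    (n r : ℕ) (hr : 0 < r) (hrn : r < n) (hcop : Nat.Coprime r n)
    (hhj : (n : ℚ) / r = HJFrac.hjVal ((List.range l).map fun i => b (i + 1)))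
    (m₁ m₂ : ℕ) (hm₁ : 0 < m₁) (hm₂ : 0 < m₂) (h₁ : Nat.Coprime m₁ n) (h₂ : Nat.Coprime m₂ n)
    (hdvd : (n : ℤ) ∣ r * m₂ + m₁)
    (μ : ℕ → ℤ) (hμ0 : μ 0 = m₂) (hμl : μ (l + 1) = m₁) (hμpos : ∀ i, i ≤ l + 1 → 0 < μ i)
    (hsys : ∀ i, 1 ≤ i → i ≤ l → b i * μ i = μ (i - 1) + μ (i + 1)) :
    (n : ℚ) / ((m₁ : ℚ) * m₂) = ∑ i ∈ Finset.range (l + 1), 1 / ((μ i : ℚ) * (μ (i + 1) : ℚ)) := by
  obtain ⟨q, q0, q1, ql1, ql, hq⟩ := Groth.Agent.H68.HJ.exists_seq l hl b hb n r hr hcop hhj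
  have hW : ∀ i, i ≤ l → q i * μ (i + 1) - q (i + 1) * μ i = m₁ := by
    intro i hi
    induction hi : l - i generalizing i with
    | zero =>
      rw [show i = l by omega, ql, ql1, hμl]; ring
    | succ j ih =>
      have h := ih (i + 1) (by omega) (by omega)
      have hb' := hq (i + 1) (by omega) (by omega)
      have hm' := hsys (i + 1) (by omega) (by omega)
      simp only [Nat.add_sub_cancel] at hb' hm'
      linear_combination h - μ (i + 1) * hb' + q (i + 1) * hm'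
  have hne : ∀ i, i ≤ l + 1 → ((μ i : ℤ) : ℚ) ≠ 0 := fun i hi => by
    exact_mod_cast (hμpos i hi).ne'
  have hm : ((m₁ : ℤ) : ℚ) ≠ 0 := by exact_mod_cast hm₁.ne'
  have hterm : ∀ i ∈ Finset.range (l + 1), 1 / ((μ i : ℚ) * (μ (i + 1) : ℚ)) =
      (q i : ℚ) / (μ i * m₁) - (q (i + 1) : ℚ) / (μ (i + 1) * m₁) := by
    intro i hi
    simp at hi
    have a := hne i (by omega)
    have c := hne (i + 1) (by omega)
    have w : (q i : ℚ) * μ (i + 1) - q (i + 1) * μ i = m₁ := by exact_mod_cast hW i (by omega)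
    have : (m₁ : ℚ) ≠ 0 := by exact_mod_cast hm₁.ne'
    field_simp
    linear_combination -w
  rw [Finset.sum_congr rfl hterm, Finset.sum_range_sub' (fun i => (q i : ℚ) / (μ i * m₁)), q0, ql1, hμ0]
  push_cast
  rw [zero_div, sub_zero, mul_comm (m₁ : ℚ)]

end Groth.Agent.S14798
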