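import Groth.Statements.S1480
import Groth.Agent.H22.TorsionFreeImage

set_option autoImplicit false
universe u
open FlatMor

namespace Groth.Agent.S1480

open AlgebraicGeometry CategoryTheory Limits in
/-- Let f : X → S be flat, locally of finite presentation and locally quasi-finite, and g a nonzero
global function on X. Then there are affine opens V of X and U of S with f(V) ⊆ U and g nonzero on
V, an ideal F of O_S(U), a positive integer r and an injective O_S(U)-linear map from F^r to O_X(V)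
whose image contains the restriction of g to V. -/
theorem result {X S : Scheme.{u}} (f : X ⟶ S) [Flat f] [LocallyOfFinitePresentation f] [LocallyQuasiFinite f]
    (g : Γ(X, ⊤)) (hg : g ≠ 0) :
    ∃ (U : S.Opens) (hU : IsAffineOpen U) (V : X.Opens) (hV : IsAffineOpen V) (hVU : V ≤ f ⁻¹ᵁ U),
      X.presheaf.map (homOfLE le_top).op g ≠ (0 : Γ(X, V)) ∧
      ∃ (F : Ideal Γ(S, U)) (r : ℕ), 0 < r ∧
        letI := (f.appLE U V hVU).hom.toAlgebra
        ∃ φ : (Fin r → ↥F) →ₗ[Γ(S, U)] Γ(X, V), Function.Injective φ ∧ X.presheaf.map (homOfLE le_top).op g ∈ LinearMap.range φ := by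
  obtain ⟨U, hU, V, hV, hVU, hgV⟩ : ∃ (U : S.Opens) (_ : IsAffineOpen U) (V : X.Opens)
      (_ : IsAffineOpen V) (_ : V ≤ f ⁻¹ᵁ U),
      X.presheaf.map (homOfLE le_top).op g ≠ (0 : Γ(X, V)) := by
    by_contra! h
    apply hg
    have hloc : ∀ x : X, ∃ V : X.Opens, x ∈ V ∧
        X.presheaf.map (homOfLE le_top).op g = (0 : Γ(X, V)) := by
      intro x
      obtain ⟨U, hU, hxU, -⟩ := exists_isAffineOpen_mem_and_subset (X := S)
        (TopologicalSpace.Opens.mem_top (f.base x))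
      obtain ⟨V, hV, hxV, hVU⟩ := exists_isAffineOpen_mem_and_subset (X := X)
        (U := f ⁻¹ᵁ U) hxU
      exact ⟨V, hxV, h U hU V hV hVU⟩
    choose V hxV hV using hloc
    refine X.sheaf.eq_of_locally_eq' V ⊤ (fun x ↦ homOfLE le_top)
      (fun x _ ↦ TopologicalSpace.Opens.mem_iSup.2 ⟨x, hxV x⟩) _ _ (fun x ↦ ?_)
    exact (hV x).trans (map_zero _).symm
  letI algAB : Algebra Γ(S, U) Γ(X, V) := (f.appLE U V hVU).hom.toAlgebra
  have : Module.Flat Γ(S, U) Γ(X, V) := f.flat_appLE hU hV hVU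
  have : Algebra.FinitePresentation Γ(S, U) Γ(X, V) := f.finitePresentation_appLE hU hV hVU
  classical
  obtain ⟨l, hl, hstr⟩ := Groth.Agent.H47.FlatFreeStrata.exists_free_strata
    (A := Γ(S, U)) (B := Γ(X, V)) Γ(X, V)
  let g' : Γ(X, V) := X.presheaf.map (homOfLE le_top).op g
  -- the first index where `g` survives
  have hex : ∃ i, ∃ hi : i < l.length, ∀ n : ℕ, algebraMap _ Γ(X, V) l[i] ^ n * g' ≠ 0 := by
    by_contra! h
    apply hgV
    let K : Ideal Γ(S, U) := LinearMap.ker (LinearMap.toSpanSingleton Γ(S, U) Γ(X, V) g')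
    have hrad : (⊤ : Ideal Γ(S, U)) ≤ K.radical := by
      rw [← hl, Ideal.span_le]
      intro a ha
      obtain ⟨i, hi, rfl⟩ := List.getElem_of_mem ha
      obtain ⟨n, hn⟩ := h i hi
      exact ⟨n, by simpa [K, Algebra.smul_def] using hn⟩
    obtain ⟨n, hn⟩ := hrad (Submodule.mem_top (x := 1))
    simpa [K, g'] using hn
  obtain ⟨hi, hgi⟩ := Nat.find_spec hex
  have hkill : ∀ a ∈ l.take (Nat.find hex), ∃ n : ℕ, algebraMap _ Γ(X, V) a ^ n * g' = 0 := by
    intro a ha
    obtain ⟨j, hj, rfl⟩ := List.getElem_of_mem ha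
    rw [List.length_take] at hj
    have := Nat.find_min hex (lt_of_lt_of_le hj (min_le_left _ _))
    push_neg at this
    obtain ⟨n, hn⟩ := this (lt_of_lt_of_le hj (min_le_right _ _))
    exact ⟨n, by rwa [List.getElem_take]⟩
  set a : Γ(S, U) := l[Nat.find hex] with ha
  let U' : S.Opens := S.basicOpen a
  let V' : X.Opens := X.basicOpen (f.appLE U V hVU a)
  have hU' : IsAffineOpen U' := hU.basicOpen a
  have hV' : IsAffineOpen V' := hV.basicOpen _
  have hV'U' : V' ≤ f ⁻¹ᵁ U' := by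
    simp only [V', Scheme.basicOpen_appLE]; exact inf_le_right
  have hV'V : V' ≤ V := X.basicOpen_le _
  have hU'U : U' ≤ U := S.basicOpen_le _
  letI algAA : Algebra Γ(S, U) Γ(S, U') := (S.presheaf.map (homOfLE hU'U).op).hom.toAlgebra
  letI algBB : Algebra Γ(X, V) Γ(X, V') := (X.presheaf.map (homOfLE hV'V).op).hom.toAlgebra
  letI algA'B' : Algebra Γ(S, U') Γ(X, V') := (f.appLE U' V' hV'U').hom.toAlgebra
  letI algAB' : Algebra Γ(S, U) Γ(X, V') := (f.appLE U V' (hV'V.trans hVU)).hom.toAlgebra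
  have : IsScalarTower Γ(S, U) Γ(S, U') Γ(X, V') := IsScalarTower.of_algebraMap_eq' (by
    simp only [RingHom.algebraMap_toAlgebra, ← CommRingCat.hom_comp, Scheme.Hom.map_appLE])
  have : IsScalarTower Γ(S, U) Γ(X, V) Γ(X, V') := IsScalarTower.of_algebraMap_eq' (by
    simp only [RingHom.algebraMap_toAlgebra, ← CommRingCat.hom_comp, Scheme.Hom.appLE_map])
  have : IsLocalization.Away a Γ(S, U') := hU.isLocalization_basicOpen a
  have hlocB : IsLocalization.Away (algebraMap Γ(S, U) Γ(X, V) a) Γ(X, V') :=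
    hV.isLocalization_basicOpen _
  have : Module.Flat Γ(S, U') Γ(X, V') := f.flat_appLE hU' hV' hV'U'
  have : Algebra.QuasiFinite Γ(S, U') Γ(X, V') :=
    LocallyQuasiFinite.quasiFinite_appLE hU' hV' hV'U'
  have hres : X.presheaf.map (homOfLE le_top).op g = algebraMap Γ(X, V) Γ(X, V') g' := by
    simp only [g', RingHom.algebraMap_toAlgebra, ← CommRingCat.comp_apply, ← Functor.map_comp]
    rfl
  have hg' : algebraMap Γ(X, V) Γ(X, V') g' ≠ 0 := by
    intro h0
    obtain ⟨⟨_, n, rfl⟩, hn⟩ := (IsLocalization.map_eq_zero_iff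
      (Submonoid.powers (algebraMap Γ(S, U) Γ(X, V) a)) Γ(X, V') g').1 h0
    exact hgi n hn
  obtain ⟨F, r, hr, φ, hφ, hgφ⟩ :=
    Groth.Agent.H22.TorsionFreeImage.exists_injective_of_strata (A' := Γ(S, U'))
      (B := Γ(X, V)) l (Nat.find hex) hi
      (fun E _ _ h₁ h₂ ↦ hstr _ hi E h₁ h₂) (algebraMap Γ(X, V) Γ(X, V') g') hg'
      (fun c hc ↦ by
        obtain ⟨n, hn⟩ := hkill c hc
        exact ⟨n, by rw [IsScalarTower.algebraMap_apply Γ(S, U) Γ(X, V) Γ(X, V'), ← map_pow,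
          ← map_mul, hn, map_zero]⟩)
  exact ⟨U', hU', V', hV', hV'U', hres ▸ hg', F, r, hr, φ, hφ, hres ▸ hgφ⟩

end Groth.Agent.S1480
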