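import Groth.Statements.S14801
import Groth.Agent.Lib.LabGraph.Chain

set_option autoImplicit false
universe u
open Finset
open LabGraph

namespace Groth.Agent.S14801

/-- Let (G, β) be a finite multigraph with a multiplicity function and α its matrix (α_{vw} = #edges(v,
w) for v ≠ w, diagonal entries defined by Σ_w β(w) α_{vw} = 0); let L be a connecting chain of
length m (vertices v₀, …, v_m, edges e₁, …, e_m, each connecting) with β(v_i) = m and α_{v_i v_i} =
-2 for all i; let (G', β') be the contraction of L and f : ℤ^{V(G')} → ℤ^{V(G)} the map extending a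
vector by zero along the section of V(G) → V(G') that sends the contracted vertex to v₀. Then f
carries ker β' into ker β, and there is a map h : ℤ^{V(G')} → ℤ^{V(G)} with f ∘ α' = α ∘ h, so that
f induces a homomorphism of component groups ker β'/im α' → ker β/im α; this homomorphism is
surjective. -/
theorem result {V E : Type u} [Fintype V] [Fintype E] [DecidableEq V] [DecidableEq E]
    (ends : E → V × V) (β : V → ℤ) (hβ : LabGraph.IsMultFn ends β)
    (m : ℕ) (f : Fin (m + 1) → V) (e : Fin m → E) (hC : LabGraph.IsChain ends f e)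
    (hconn : ∀ i, LabGraph.IsConnecting ends (e i)) (hβm : ∀ i, β (f i) = m)
    (hα : ∀ i, LabGraph.mfMatrix ends β (f i) (f i) = -2) :
    ∃ φ : LabGraph.CompGrp (DualGr.ctrEnds ends (univ.image e)) (LabGraph.ctrFn ends (univ.image e) β) →+
        LabGraph.CompGrp ends β,
      Function.Surjective φ ∧
      ∀ (x : LinearMap.ker (LabGraph.betaHom (LabGraph.ctrFn ends (univ.image e) β)))
        (y : LinearMap.ker (LabGraph.betaHom β)),
        (y : V → ℤ) = LabGraph.liftAt ends (univ.image e) (f 0) (x : DualGr.CtrVert ends (univ.image e) → ℤ) →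
        φ (Submodule.Quotient.mk x) = Submodule.Quotient.mk y := by
  set D := (univ : Finset (Fin m)).image e with hD
  set β' := LabGraph.ctrFn ends D β with hβ'
  let F : (DualGr.CtrVert ends D → ℤ) →ₗ[ℤ] (V → ℤ) :=
    { toFun := LabGraph.liftAt ends D (f 0)
      map_add' := fun x y => Groth.Agent.Lib.LabGraph.Chain.lift_add x y (f 0)
      map_smul' := fun c x => by
        funext v
        simp only [LabGraph.liftAt, Pi.smul_apply, RingHom.id_apply]
        split <;> simp }
  have hconst : ∀ i j, β (f i) = β (f j) := fun i j => by rw [hβm, hβm]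
  have hbeta : ∀ x, LabGraph.betaHom β (F x) = LabGraph.betaHom β' x := fun x => by
    rw [← Groth.Agent.Lib.LabGraph.Chain.betaHom_push hC hconst]
    exact congrArg _ (Groth.Agent.Lib.LabGraph.Chain.push_lift hC x)
  let G : LinearMap.ker (LabGraph.betaHom β') →ₗ[ℤ] LinearMap.ker (LabGraph.betaHom β) :=
    LinearMap.codRestrict _ (F.comp (LinearMap.ker (LabGraph.betaHom β')).subtype) fun x => by
      rw [LinearMap.mem_ker, LinearMap.comp_apply, hbeta]
      exact x.2
  refine ⟨(Submodule.mapQ _ _ G ?_).toAddMonoidHom, ?_, fun x y hxy => ?_⟩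
  · rintro x ⟨y, hy⟩
    obtain ⟨z, hz⟩ := Groth.Agent.Lib.LabGraph.Chain.lift_range hC hconn hβ hβm hα y
    refine ⟨z, hz.trans ?_⟩
    exact congrArg (LabGraph.liftAt ends D (f 0)) hy
  · intro q
    obtain ⟨y, rfl⟩ := Submodule.Quotient.mk_surjective _ q
    obtain ⟨x, z, hxz⟩ := Groth.Agent.Lib.LabGraph.Chain.exists_lift hC hconn hβ hβm hα y.1
    have hx : x ∈ LinearMap.ker (LabGraph.betaHom β') := by
      have h : LabGraph.betaHom β y.1 = 0 := y.2
      rw [hxz, map_add, Groth.Agent.Lib.LabGraph.Chain.betaHom_mulVec hβ, add_zero] at h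
      rw [LinearMap.mem_ker, ← hbeta]
      exact h
    refine ⟨Submodule.Quotient.mk ⟨x, hx⟩, ?_⟩
    change Submodule.Quotient.mk (G ⟨x, hx⟩) = _
    refine (Submodule.Quotient.eq _).mpr ⟨-z, ?_⟩
    change Matrix.mulVec _ (-z) = LabGraph.liftAt ends D (f 0) x - y.1
    rw [Matrix.mulVec_neg, hxz]
    abel
  · change Submodule.Quotient.mk (G x) = _
    exact congrArg _ (Subtype.ext hxy.symm)

end Groth.Agent.S14801
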