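import Groth.Statements.S14803
import Groth.Agent.Lib.LabGraph.MatrixTree

set_option autoImplicit false
universe u
open Finset
open LabGraph

namespace Groth.Agent.S14803

open Classical in
/-- Let (G, β) be a connected finite multigraph with a multiplicity function, α its matrix (α_{vw} =
#edges(v, w) for v ≠ w, Σ_w β(w) α_{vw} = 0) and Φ(G) = ker β / im α its component group; let m be
the gcd of all the values β(v). Then Φ(G) is finite of order m² · Σ_T Π_v β(v)^{#N_T(v) - 2}, where
T runs over the spanning trees of G and N_T(v) is the set of neighbours of v in T. (The published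
statement gives this order for the Néron component group of a curve's Jacobian, G being the weighted
dual graph of a proper regular model and β its component multiplicities; this row states the
identity for every connected pair (G, β) with a positive multiplicity function.) -/
theorem result {V E : Type u} [Fintype V] [Fintype E] [DecidableEq V] [DecidableEq E]
    (ends : E → V × V) (β : V → ℤ) (hβ : LabGraph.IsMultFn ends β) (hG : LabGraph.Connected ends) :
    (Nat.card (LabGraph.CompGrp ends β) : ℚ) =
      ((univ.gcd β : ℤ) : ℚ) ^ 2 *
        ∑ T ∈ univ.powerset.filter (fun T : Finset E => LabGraph.IsSpanningTree ends T),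
          ∏ v : V, ((β v : ℚ) ^ ((LabGraph.nbrCount ends T v : ℤ) - 2)) := by
  have h := Groth.Agent.Lib.LabGraph.MatrixTree.card_formula ends hβ hG
  have hne : ∀ v, (β v : ℚ) ≠ 0 := fun v => by exact_mod_cast (hβ v).1.ne'
  have hP : (∏ v, (β v : ℚ)) ^ 2 ≠ 0 := pow_ne_zero _ (Finset.prod_ne_zero_iff.mpr fun v _ => hne v)
  apply mul_right_cancel₀ hP
  have hQ := congrArg (fun z : ℤ => (z : ℚ)) h
  push_cast at hQ
  rw [hQ, mul_assoc, Finset.sum_mul]
  congr 1
  refine Finset.sum_congr rfl fun T _ => ?_
  rw [← Finset.prod_pow, ← Finset.prod_mul_distrib]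
  refine Finset.prod_congr rfl fun v _ => ?_
  rw [zpow_sub₀ (hne v), zpow_natCast, zpow_ofNat, div_mul_cancel₀ _ (pow_ne_zero _ (hne v))]

end Groth.Agent.S14803
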