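import Groth.Statements.S14804

import Groth.Agent.Lib.LabGraph.Circuits
import Groth.Prelude.Def_W4c2conddiscmodels
import Mathlib.Data.Fintype.Powerset

set_option autoImplicit false
universe u
open Finset
open LabGraph

namespace Groth.Agent.S14804

open Lib.LabGraph.Circuits in
theorem endCount_map {V E : Type u} [Fintype V] [Fintype E] [DecidableEq V] [DecidableEq E]
    (ends : E → V × V) (T : Finset E) (C : Finset T) (v : V) :
    LabGraph.endCount ends (C.map (Function.Embedding.subtype _)) v =
      LabGraph.endCount (fun e : T => ends e.1) C v := by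
  simp [LabGraph.endCount, Finset.sum_map] <;> rfl

theorem isCircuit_map {V E : Type u} [Fintype V] [Fintype E] [DecidableEq V] [DecidableEq E]
    (ends : E → V × V) (T : Finset E) (C : Finset T) :
    LabGraph.IsCircuit ends (C.map (Function.Embedding.subtype _)) ↔
      LabGraph.IsCircuit (fun e : T => ends e.1) C := by
  simp only [LabGraph.IsCircuit, Finset.map_nonempty, endCount_map]
  refine and_congr_right fun _ => and_congr_right fun _ => ⟨fun h C' hC' hne => ?_, fun h C' hC' hne => ?_⟩
  · obtain ⟨v, hv⟩ := h (C'.map (Function.Embedding.subtype _)) (Finset.map_ssubset_map.2 hC') hne.map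
    exact ⟨v, by rwa [endCount_map] at hv⟩
  · obtain ⟨C'', -, rfl⟩ := Finset.subset_map_iff.1 hC'.subset
    obtain ⟨v, hv⟩ := h C'' (Finset.map_ssubset_map.1 hC') (Finset.map_nonempty.1 hne)
    exact ⟨v, by rwa [endCount_map]⟩

/-- In a connected finite multigraph G, a vertex v belongs to some cycle of G (here: v is an endpoint of
an edge of some circuit, a circuit being a minimal nonempty edge set meeting every vertex in an even
number of edge-ends, which includes loops and pairs of parallel edges) if and only if G has a
spanning tree T such that some edge outside T has v as an endpoint. (The published statement is for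
an arbitrary multigraph; when G is disconnected it has no spanning tree while a vertex may lie on a
cycle, so G is taken connected here, the case of dual graphs for which it is used.) -/
theorem result
    {V E : Type u} [Fintype V] [Fintype E] [DecidableEq V] [DecidableEq E]
    (ends : E → V × V) (hG : LabGraph.Connected ends) (v : V) :
    (∃ C : Finset E, LabGraph.IsCircuit ends C ∧ LabGraph.endCount ends C v ≠ 0) ↔
      ∃ T : Finset E, LabGraph.IsSpanningTree ends T ∧
        ∃ e : E, e ∉ T ∧ ((ends e).1 = v ∨ (ends e).2 = v) := by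
  classical
  open Lib.LabGraph.Circuits in
  constructor
  · rintro ⟨C, hC, hCv⟩
    obtain ⟨e₀, he₀, hev⟩ : ∃ e ∈ C, (ends e).1 = v ∨ (ends e).2 = v := by
      by_contra hc
      push Not at hc
      exact hCv (Finset.sum_eq_zero fun e he => by simp [(hc e he).1, (hc e he).2])
    let Conn : Finset E → Prop := fun T => ∀ a b, Relation.ReflTransGen (AdjIn ends T) a b
    have hremove : ∀ (T : Finset E) (e : E), Conn T →
        Relation.ReflTransGen (AdjIn ends (T.erase e)) (ends e).1 (ends e).2 → Conn (T.erase e) := by
      intro T e hT he a b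
      have := hT a b
      induction this with
      | refl => exact .refl
      | @tail c d _ hcd ih =>
        obtain ⟨f, hf, hf'⟩ := hcd
        by_cases hfe : f = e
        · subst hfe
          rcases hf' with h | h <;> rw [h] at he <;> dsimp only at he
          · exact ih.trans he
          · exact ih.trans (adjIn_symm ends he)
        · exact ih.tail ⟨f, Finset.mem_erase.2 ⟨hfe, hf⟩, hf'⟩
    have h0 : Conn (Finset.univ.erase e₀) := hremove _ _ (reachable_univ ends hG)
      (adjIn_mono ends (Finset.erase_subset_erase _ (Finset.subset_univ C)) (reachable_erase ends hC he₀))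
    obtain ⟨T, hT, hTmin⟩ := (Finset.univ.filter fun T : Finset E =>
      T ⊆ Finset.univ.erase e₀ ∧ Conn T).exists_minimal
      ⟨Finset.univ.erase e₀, Finset.mem_filter.2 ⟨Finset.mem_univ _, subset_rfl, h0⟩⟩
    rw [Finset.mem_filter] at hT
    obtain ⟨-, hTe, hTc⟩ := hT
    refine ⟨T, ⟨⟨hG.1, fun a b => ?_⟩, fun C' hC' => ?_⟩, e₀, fun h => ?_, hev⟩
    · exact Relation.ReflTransGen.mono (fun _ _ ⟨e, he, he'⟩ => ⟨⟨e, he⟩, he'⟩) _ _ (hTc a b)
    · rw [← isCircuit_map] at hC'
      obtain ⟨e, he⟩ := hC'.1
      have hsub : C'.map (Function.Embedding.subtype _) ⊆ T := fun x hx => by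
        obtain ⟨y, -, rfl⟩ := Finset.mem_map.1 hx
        exact y.2
      have h1 : Conn (T.erase e) := hremove _ _ hTc
        (adjIn_mono ends (Finset.erase_subset_erase _ hsub) (reachable_erase ends hC' he))
      exact Finset.notMem_erase e T (hTmin (Finset.mem_filter.2
        ⟨Finset.mem_univ _, (Finset.erase_subset _ _).trans hTe, h1⟩) (Finset.erase_subset _ _) (hsub he))
    · exact Finset.notMem_erase e₀ Finset.univ (hTe h)
  · rintro ⟨T, hT, e, he, hev⟩
    have h1 : Relation.ReflTransGen (AdjIn ends T) (ends e).1 (ends e).2 :=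
      Relation.ReflTransGen.mono (fun _ _ ⟨f, hf⟩ => ⟨f.1, f.2, hf⟩) _ _ (hT.1.2 _ _)
    obtain ⟨C, hC, heC, -⟩ := exists_circuit ends he h1
    refine ⟨C, hC, fun h => ?_⟩
    have := (Finset.sum_eq_zero_iff.1 h) e heC
    rcases hev with h' | h' <;> simp [h'] at this


end Groth.Agent.S14804
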