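import Groth.Statements.S14807
import Mathlib.GroupTheory.OrderOfElement
import Mathlib.Data.Nat.Prime.Basic
-- import your own Groth.Agent.* helpers here

set_option autoImplicit false
universe u
open CAlg

namespace Groth.Agent.S14807

/-- Let G be a finite abelian group, written additively, and ℓ a prime number. Every sequence (g_n)_{n ≥
0} of elements of G with ℓ^n · g_n = 0 and ℓ · g_{n+1} = g_n for all n is identically zero; in other
words the inverse limit of the subgroups of ℓ^n-torsion elements, with transition maps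
multiplication by ℓ, vanishes. -/
theorem result (G : Type u) [AddCommGroup G] [Finite G]
    (ℓ : ℕ) (hℓ : ℓ.Prime) (g : ℕ → G) (htor : ∀ n : ℕ, ℓ ^ n • g n = 0)
    (hcomp : ∀ n : ℕ, ℓ • g (n + 1) = g n) (n : ℕ) : g n = 0 := by
  set k := Nat.card G with hk
  have hstep : ∀ j n, ℓ ^ j • g (n + j) = g n := by
    intro j
    induction j with
    | zero => simp
    | succ j ih => intro n; rw [pow_succ, mul_smul, ← add_assoc, hcomp, ih]
  rw [← hstep k n]
  obtain ⟨j, -, hj⟩ := (Nat.dvd_prime_pow hℓ).mp (addOrderOf_dvd_of_nsmul_eq_zero (htor (n + k)))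
  have hdvd : ℓ ^ j ∣ k := hj ▸ addOrderOf_dvd_natCard (g (n + k))
  have hjk : j ≤ k := le_of_lt (lt_of_lt_of_le (Nat.lt_pow_self hℓ.one_lt) (Nat.le_of_dvd Nat.card_pos hdvd))
  apply addOrderOf_dvd_iff_nsmul_eq_zero.mp
  rw [hj]
  exact pow_dvd_pow _ hjk

end Groth.Agent.S14807
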