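import Groth.Statements.S14809
import Groth.Agent.Lib.TensorMod.Integral

set_option autoImplicit false
universe u
open CategoryTheory CategoryTheory.Limits AlgebraicGeometry
open PicF

namespace Groth.Agent.S14809

open Groth.Agent.Lib.TensorMod

/-- Let X be an integral scheme such that Γ(X, O_X) is a field and L an invertible O_X-module with a
nonzero global section (a nonzero morphism O_X → L). If some tensor power L^{⊗d} with d ≥ 1 is
isomorphic to O_X, then L itself is isomorphic to O_X. -/
theorem result (X : Scheme.{u}) [IsIntegral X]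
    (hfield : IsField (Γ(X, ⊤) : Type u)) (L : X.Modules) (hL : PicF.IsInvertible L)
    (s : Coh.structureModule X ⟶ L) (hs : s ≠ 0) (d : ℕ) (hd : 0 < d)
    (htriv : Nonempty (CohB1.tensorPow L d ≅ Coh.structureModule X)) :
    Nonempty (L ≅ Coh.structureModule X) := by
  have hO := PicLoc.isInvertible_structureModule X
  obtain ⟨n, rfl⟩ : ∃ n, d = n + 1 := ⟨d - 1, by omega⟩
  obtain ⟨e⟩ := htriv
  have hσ : ∀ k, ∃ σ : Coh.structureModule X ⟶ CohB1.tensorPow L k, σ ≠ 0 := by
    intro k
    induction k with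
    | zero =>
      exact ⟨𝟙 _, fun h => one_ne_zero (α := Γ(X, ⊤))
        (congrArg (fun f : Coh.structureModule X ⟶ _ => f.app ⊤ (Gen.one X ⊤)) h)⟩
    | succ k ih =>
      obtain ⟨σ, hσ⟩ := ih
      have hL' := Invertible.isInvertible_tensorPow hL k
      have h1 : (Basic.leftUnit L).inv ≫ Basic.tmap σ (𝟙 L) ≠ 0 := fun h =>
        hσ (Integral.eq_zero_of_tmap_eq_zero hL ((cancel_epi (Basic.leftUnit L).inv).1
          (h.trans comp_zero.symm)))
      exact ⟨s ≫ (Basic.leftUnit L).inv ≫ Basic.tmap σ (𝟙 L),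
        Integral.comp_ne_zero hO hL (Invertible.isInvertible_tensorPow hL (k + 1)) hs h1⟩
  obtain ⟨σ, hσ⟩ := hσ n
  refine Integral.iso_of_section_cosection hfield hL hs
    (t := (Basic.leftUnit L).inv ≫ Basic.tmap σ (𝟙 L) ≫ e.hom) fun h => hσ ?_
  have h' := (cancel_epi (Basic.leftUnit L).inv).1 (h.trans comp_zero.symm)
  exact Integral.eq_zero_of_tmap_eq_zero hL ((cancel_mono e.hom).1 (h'.trans zero_comp.symm))

end Groth.Agent.S14809
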