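import Groth.Statements.S1481
import Mathlib.AlgebraicGeometry.ValuativeCriterion
import Mathlib.AlgebraicGeometry.Fiber

set_option autoImplicit false
set_option backward.isDefEq.respectTransparency.types true
universe u
open FlatMor AlgebraicGeometry CategoryTheory CategoryTheory.Limits

namespace Groth.Agent.S1481

open AlgebraicGeometry CategoryTheory in
theorem apply_comm {P Q Q' T : Scheme.{u}} {a : P ⟶ Q} {b : Q ⟶ T} {a' : P ⟶ Q'} {b' : Q' ⟶ T}
    (h : a ≫ b = a' ≫ b') (z : P) : b (a z) = b' (a' z) := by
  rw [← Scheme.Hom.comp_apply, h, Scheme.Hom.comp_apply]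

open AlgebraicGeometry CategoryTheory Limits in
theorem quasiSober_inter {P Q : Scheme.{u}} (h : P ⟶ Q) (q : Q) {Z : Set P} (hZ : IsClosed Z) :
    QuasiSober ↑(Z ∩ h ⁻¹' {q}) := by
  let e := (h.fiberι q)
  have he : Topology.IsEmbedding e := e.isEmbedding
  haveI : QuasiSober (e ⁻¹' (Z ∩ h ⁻¹' {q})) := by
    have : IsClosed (e ⁻¹' (Z ∩ h ⁻¹' {q})) := by
      rw [Set.preimage_inter, ← h.range_fiberι, Set.preimage_range, Set.inter_univ]
      exact hZ.preimage e.continuous
    exact this.isClosedEmbedding_subtypeVal.quasiSober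
  have hsub : Z ∩ h ⁻¹' {q} ⊆ Set.range e := fun a ha => h.range_fiberι q ▸ ha.2
  let H : ↑(e ⁻¹' (Z ∩ h ⁻¹' {q})) ≃ₜ ↑(Z ∩ h ⁻¹' {q}) :=
    (he.comp .subtypeVal).toHomeomorph.trans (Homeomorph.setCongr (by
      rw [Set.range_comp, Subtype.range_val, Set.image_preimage_eq_inter_range,
        Set.inter_eq_left.2 hsub]))
  exact H.symm.isClosedEmbedding.quasiSober

theorem component_of_maximal {T : Type u} [TopologicalSpace T] [QuasiSober T] (p : T)
    (hp : ∀ q : T, q ⤳ p → p ⤳ q) : ∃ C ∈ irreducibleComponents T, IsGenericPoint p C := by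
  refine ⟨closure {p}, ⟨isIrreducible_singleton.closure, fun C hC hle => ?_⟩, rfl⟩
  have h1 := hC.isGenericPoint_genericPoint_closure
  have h2 : hC.genericPoint ⤳ p := h1.specializes (subset_closure (hle (subset_closure rfl)))
  have h3 := hp _ h2
  exact fun a ha => specializes_iff_mem_closure.1 (h3.trans (h1.specializes (subset_closure ha)))

theorem exists_maximal {T : Type u} [TopologicalSpace T] [QuasiSober T] [T0Space T] (p : T) :
    ∃ q : T, q ⤳ p ∧ ∃ C ∈ irreducibleComponents T, IsGenericPoint q C := by
  have hC := irreducibleComponent_mem_irreducibleComponents p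
  refine ⟨hC.1.genericPoint, ?_, _, hC, ?_⟩
  · exact hC.1.isGenericPoint_genericPoint_closure.specializes (subset_closure mem_irreducibleComponent)
  · exact hC.1.isGenericPoint_genericPoint (isClosed_of_mem_irreducibleComponents _ hC)

set_option maxHeartbeats 2000000 in
open AlgebraicGeometry CategoryTheory Limits in
/-- Let f : X → S, y a point of X with image t, Y the closure of y, s a point of S and x a point of Y
over s which is generic in an irreducible component of the fibre of Y over s (fibres as subspaces).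
Then there are a valuation ring R and a morphism g : Spec R → S sending the generic point to t and
the closed point to s, such that, writing X' for the base change with projections g' : X' → X and f'
: X' → Spec R, there is a point y' of X' over the generic point with g' y' = y which is generic in
an irreducible component of the generic fibre of g'⁻¹(Y), and a point x' in the closure of y' over
the closed point with g' x' = x which is generic in an irreducible component of the special fibre of
the closure of y'. -/
theorem result {X S : Scheme.{u}} (f : X ⟶ S) (y : X) (s : S) (x : X)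
    (hx : x ∈ closure ({y} : Set ↑X)) (hxs : f x = s)
    (hgen : ∃ C ∈ irreducibleComponents ↑(closure ({y} : Set ↑X) ∩ f ⁻¹' {s}), IsGenericPoint (⟨x, hx, hxs⟩ : ↑(closure ({y} : Set ↑X) ∩ f ⁻¹' {s})) C) :
    ∃ (R : Type u) (_ : CommRing R) (_ : IsDomain R) (_ : ValuationRing R) (g : Spec (CommRingCat.of R) ⟶ S),
      g (⊥ : PrimeSpectrum R) = f y ∧ g (IsLocalRing.closedPoint R) = s ∧
      ∃ (y' : ↑(pullback f g)) (hy't : pullback.snd f g y' = (⊥ : PrimeSpectrum R)) (hy'Y : pullback.fst f g y' ∈ closure ({y} : Set ↑X)),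
        pullback.fst f g y' = y ∧
        (∃ C ∈ irreducibleComponents ↑((pullback.fst f g) ⁻¹' closure ({y} : Set ↑X) ∩ (pullback.snd f g) ⁻¹' {(⊥ : PrimeSpectrum R)}),
          IsGenericPoint (⟨y', hy'Y, hy't⟩ : ↑((pullback.fst f g) ⁻¹' closure ({y} : Set ↑X) ∩ (pullback.snd f g) ⁻¹' {(⊥ : PrimeSpectrum R)})) C) ∧
        ∃ (x' : ↑(pullback f g)) (hx' : x' ∈ closure ({y'} : Set ↑(pullback f g))) (hx's : pullback.snd f g x' = IsLocalRing.closedPoint R),
          pullback.fst f g x' = x ∧
          ∃ C ∈ irreducibleComponents ↑(closure ({y'} : Set ↑(pullback f g)) ∩ (pullback.snd f g) ⁻¹' {IsLocalRing.closedPoint R}),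
            IsGenericPoint (⟨x', hx', hx's⟩ : ↑(closure ({y'} : Set ↑(pullback f g)) ∩ (pullback.snd f g) ⁻¹' {IsLocalRing.closedPoint R})) C := by
  subst hxs
  have hyx : y ⤳ x := specializes_iff_mem_closure.2 hx
  let ψ : X.presheaf.stalk x ⟶ X.residueField y := X.presheaf.stalkSpecializes hyx ≫ X.residue y
  obtain ⟨A, hA, hA'⟩ := IsLocalRing.exists_factor_valuationRing ψ.hom
  let ιt := (f.residueFieldMap y).hom
  let R : ValuationSubring (S.residueField (f y)) := A.comap ιt
  let ψS : S.presheaf.stalk (f x) ⟶ S.residueField (f y) :=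
    S.presheaf.stalkSpecializes (hyx.map f.continuous) ≫ S.residue (f y)
  have hnat : ∀ a, ιt (ψS a) = ψ ((f.stalkMap x) a) := by
    intro a
    have e : ψS ≫ f.residueFieldMap y = f.stalkMap x ≫ ψ := by
      simp only [ψS, ψ, Category.assoc, Scheme.residue_residueFieldMap]
      exact Scheme.Hom.stalkSpecializes_stalkMap_assoc f y x hyx _
    exact ConcreteCategory.congr_hom e a
  let φA : X.presheaf.stalk x ⟶ CommRingCat.of A := CommRingCat.ofHom (ψ.hom.codRestrict _ hA)
  have hR : ∀ a, ψS a ∈ R := fun a => by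
    show ιt (ψS a) ∈ A
    rw [hnat]
    exact hA _
  let φR : S.presheaf.stalk (f x) ⟶ CommRingCat.of R := CommRingCat.ofHom (ψS.hom.codRestrict _ hR)
  let i : R →+* A := (ιt.comp R.subtype).codRestrict A.toSubring (fun r => r.2)
  have hsq : φR ≫ CommRingCat.ofHom i = f.stalkMap x ≫ φA := by
    refine CommRingCat.hom_ext (RingHom.ext fun a => Subtype.ext ?_)
    exact hnat a
  let g : Spec (CommRingCat.of R) ⟶ S := Spec.map φR ≫ S.fromSpecStalk (f x)
  let gA : Spec (CommRingCat.of A) ⟶ X := Spec.map φA ≫ X.fromSpecStalk x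
  have hw : gA ≫ f = Spec.map (CommRingCat.ofHom i) ≫ g := by
    simp only [gA, g, Category.assoc, ← Scheme.SpecMap_stalkMap_fromSpecStalk, ← Spec.map_comp_assoc,
      hsq]
  let j : Spec (S.residueField (f y)) ⟶ Spec (CommRingCat.of R) :=
    Spec.map (CommRingCat.ofHom R.subtype)
  have hj : j ≫ g = S.fromSpecResidueField (f y) := by
    rw [Scheme.fromSpecResidueField, ← Scheme.SpecMap_stalkSpecializes_fromSpecStalk
      (hyx.map f.continuous), ← Spec.map_comp_assoc,
      show S.presheaf.stalkSpecializes (hyx.map f.continuous) ≫ S.residue (f y) =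
        φR ≫ CommRingCat.ofHom R.subtype from rfl, Spec.map_comp, Category.assoc]
    rfl
  have hjA : Spec.map (CommRingCat.ofHom A.subtype) ≫ gA = X.fromSpecResidueField y := by
    simp only [gA, ← Spec.map_comp_assoc]
    rw [Scheme.fromSpecResidueField, ← Scheme.SpecMap_stalkSpecializes_fromSpecStalk hyx,
      ← Spec.map_comp_assoc]
    rfl
  have hbot : ∀ z, j z = (⊥ : PrimeSpectrum R) := fun z => PrimeSpectrum.ext (by
    show Ideal.comap R.subtype (z : PrimeSpectrum (S.residueField (f y))).asIdeal = ⊥
    rw [show (z : PrimeSpectrum (S.residueField (f y))).asIdeal = ⊥ from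
      (Ideal.eq_bot_or_top _).resolve_right z.2.ne_top]
    exact Ideal.comap_bot_of_injective _ Subtype.val_injective)
  have hg0 : g (⊥ : PrimeSpectrum R) = f y := by
    let z : Spec (S.residueField (f y)) := IsLocalRing.closedPoint (S.residueField (f y))
    refine (congrArg g (hbot z)).symm.trans ((congrArg (fun k : _ ⟶ S => k z) hj).trans ?_)
    exact Scheme.fromSpecResidueField_apply _ _
  have hloc : IsLocalHom i := ⟨fun r hr => by
    obtain ⟨⟨u, v, huv, hvu⟩, hu⟩ := hr
    have hu' : (u : X.residueField y) = ιt r.1 := congrArg Subtype.val hu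
    have huv' : (u : X.residueField y) * (v : X.residueField y) = 1 := congrArg Subtype.val huv
    have hr0 : r.1 ≠ 0 := fun h => by
      rw [hu', h, map_zero, zero_mul] at huv'
      exact zero_ne_one huv'
    have hmem : r.1⁻¹ ∈ R := by
      show ιt r.1⁻¹ ∈ A
      rw [map_inv₀, ← hu', inv_eq_of_mul_eq_one_right huv']
      exact v.2
    exact .of_mul_eq_one ⟨r.1⁻¹, hmem⟩ (Subtype.ext (mul_inv_cancel₀ hr0))⟩
  let L := pullback.lift gA (Spec.map (CommRingCat.ofHom i)) hw
  let y' : ↥(pullback f g) := L (⊥ : PrimeSpectrum A)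
  let x₀ : ↥(pullback f g) := L (IsLocalRing.closedPoint A)
  have hLfst : ∀ z, pullback.fst f g (L z) = gA z := fun z => by
    rw [← Scheme.Hom.comp_apply, pullback.lift_fst]
  have hLsnd : ∀ z, pullback.snd f g (L z) = Spec.map (CommRingCat.ofHom i) z := fun z => by
    rw [← Scheme.Hom.comp_apply, pullback.lift_snd]
  have hgA0 : gA (⊥ : PrimeSpectrum A) = y := by
    have : Spec.map (CommRingCat.ofHom A.subtype) (IsLocalRing.closedPoint (X.residueField y)) =
        (⊥ : PrimeSpectrum A) := PrimeSpectrum.ext (by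
      show Ideal.comap A.subtype (IsLocalRing.maximalIdeal (X.residueField y)) = ⊥
      rw [IsLocalRing.maximalIdeal_eq_bot]
      exact Ideal.comap_bot_of_injective _ Subtype.val_injective)
    let z : Spec (X.residueField y) := IsLocalRing.closedPoint (X.residueField y)
    refine (congrArg gA this).symm.trans ((congrArg (fun k : _ ⟶ X => k z) hjA).trans ?_)
    exact Scheme.fromSpecResidueField_apply _ _
  have hgA1 : gA (IsLocalRing.closedPoint A) = x := by
    haveI : IsLocalHom (ψ.hom.codRestrict A.toSubring hA) := hA'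
    exact (congrArg (X.fromSpecStalk x) (show Spec.map φA (IsLocalRing.closedPoint A) =
      IsLocalRing.closedPoint (X.presheaf.stalk x) from
        IsLocalRing.comap_closedPoint (S := A) (ψ.hom.codRestrict A.toSubring hA))).trans
      Scheme.fromSpecStalk_closedPoint
  have hi0 : Spec.map (CommRingCat.ofHom i) (⊥ : PrimeSpectrum A) = (⊥ : PrimeSpectrum R) :=
    PrimeSpectrum.ext (Ideal.comap_bot_of_injective i fun a b h =>
      Subtype.ext (ιt.injective (congrArg Subtype.val h)))
  have hi1 : Spec.map (CommRingCat.ofHom i) (IsLocalRing.closedPoint A) =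
      IsLocalRing.closedPoint R := IsLocalRing.comap_closedPoint i
  have hg1 : g (IsLocalRing.closedPoint R) = f x := by
    let c : Spec (CommRingCat.of A) := IsLocalRing.closedPoint A
    have h1 : f (gA c) = g (Spec.map (CommRingCat.ofHom i) c) := apply_comm hw c
    rw [show Spec.map (CommRingCat.ofHom i) c = IsLocalRing.closedPoint R from hi1,
      show gA c = x from hgA1] at h1
    exact h1.symm
  have hy'1 : pullback.fst f g y' = y := (hLfst _).trans hgA0
  have hy'2 : pullback.snd f g y' = (⊥ : PrimeSpectrum R) := (hLsnd _).trans hi0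
  -- at most one point over `(y, ⊥)`
  have huniq : ∀ z : ↥(pullback f g), pullback.fst f g z = y →
      pullback.snd f g z = (⊥ : PrimeSpectrum R) → z = y' := by
    have hlift : ∀ z : ↥(pullback f g), pullback.snd f g z = (⊥ : PrimeSpectrum R) →
        ∃ w : ↥(pullback (pullback.snd f g) j), pullback.fst (pullback.snd f g) j w = z :=
      fun z hz => (Scheme.Pullback.exists_preimage_pullback z (IsLocalRing.closedPoint _)
        (hz.trans (hbot _).symm)).imp fun w hw => hw.1
    haveI : IsPreimmersion (pullback.fst f (j ≫ g)) := by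
      rw [hj]
      infer_instance
    intro z hz1 hz2
    obtain ⟨w, rfl⟩ := hlift z hz2
    obtain ⟨w', hw'⟩ := hlift y' hy'2
    let e := (pullbackLeftPullbackSndIso f g j).hom ≫ pullback.fst f (j ≫ g)
    have he : ∀ v, e v = pullback.fst f g (pullback.fst (pullback.snd f g) j v) := fun v => by
      rw [← Scheme.Hom.comp_apply, ← pullbackLeftPullbackSndIso_hom_fst]
    rw [← hw', e.isEmbedding.injective ((he w).trans (hz1.trans
      ((congrArg _ hw').trans hy'1).symm |>.trans (he w').symm))]
  refine ⟨R, inferInstance, inferInstance, inferInstance, g, hg0, hg1, y', hy'2,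
    by rw [hy'1]; exact subset_closure rfl, hy'1, ?_, ?_⟩
  · haveI := quasiSober_inter (pullback.snd f g) (⊥ : PrimeSpectrum R)
      (Z := (pullback.fst f g) ⁻¹' closure ({y} : Set ↑X))
      (isClosed_closure.preimage (pullback.fst f g).continuous)
    refine component_of_maximal _ ?_
    rintro ⟨q, hq1, hq2⟩ hqp
    have h1 : pullback.fst f g q ⤳ y := (((subtype_specializes_iff _ _).1 hqp).map
      (pullback.fst f g).continuous).trans (specializes_of_eq hy'1)
    have h2 : pullback.fst f g q = y := (h1.antisymm (specializes_iff_mem_closure.2 hq1)).eq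
    exact (subtype_specializes_iff _ _).2 (specializes_of_eq (huniq q h2 hq2).symm)
  · have hx₀y : y' ⤳ x₀ := by
      refine Specializes.map ?_ L.continuous
      exact (PrimeSpectrum.le_iff_specializes _ _).1 bot_le
    have hx₀s : pullback.snd f g x₀ = IsLocalRing.closedPoint R := (hLsnd _).trans hi1
    have hx₀f : pullback.fst f g x₀ = x := (hLfst _).trans hgA1
    haveI := quasiSober_inter (pullback.snd f g) (IsLocalRing.closedPoint R)
      (Z := closure ({y'} : Set ↑(pullback f g))) isClosed_closure
    obtain ⟨⟨x', hx'1, hx'2⟩, hsp, hC⟩ := exists_maximal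
      (⟨x₀, specializes_iff_mem_closure.1 hx₀y, hx₀s⟩ :
        ↑(closure ({y'} : Set ↑(pullback f g)) ∩ (pullback.snd f g) ⁻¹' {IsLocalRing.closedPoint R}))
    refine ⟨x', hx'1, hx'2, ?_, hC⟩
    have h1 : pullback.fst f g x' ⤳ x := (((subtype_specializes_iff _ _).1 hsp).map
      (pullback.fst f g).continuous).trans (specializes_of_eq hx₀f)
    have h2 : pullback.fst f g x' ∈ closure ({y} : Set ↑X) := by
      exact specializes_iff_mem_closure.1 ((specializes_of_eq hy'1.symm).trans
        ((specializes_iff_mem_closure.2 hx'1).map (pullback.fst f g).continuous))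
    have h3 : f (pullback.fst f g x') = f x := by
      rw [← Scheme.Hom.comp_apply, pullback.condition, Scheme.Hom.comp_apply, hx'2, hg1]
    obtain ⟨C, hCc, hCg⟩ := hgen
    have hc : (⟨pullback.fst f g x', h2, h3⟩ : ↑(closure ({y} : Set ↑X) ∩ f ⁻¹' {f x})) ⤳ ⟨x, hx, rfl⟩ :=
      (subtype_specializes_iff _ _).2 h1
    have hmem : (⟨pullback.fst f g x', h2, h3⟩ : ↑(closure ({y} : Set ↑X) ∩ f ⁻¹' {f x})) ∈ C := by
      refine hCc.2 isIrreducible_singleton.closure ?_ (subset_closure rfl)
      rw [← hCg.def]
      exact closure_minimal (Set.singleton_subset_iff.2 hc.mem_closure) isClosed_closure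
    have h4 : x ⤳ pullback.fst f g x' :=
      (subtype_specializes_iff _ _).1 (hCg.specializes hmem)
    exact (h1.antisymm h4).eq

end Groth.Agent.S1481
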