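import Groth.Statements.S14810
import Groth.Agent.Lib.IntTheory.Curves
import Groth.Agent.Lib.IntTheory.CurveThrough
import Groth.Agent.Lib.SurfInt.Pencil
import Groth.Agent.Lib.SurfInt.CokerCodim
import Groth.Agent.Lib.Curves.Positivity
import Groth.Agent.Lib.Curves.Degree
import Groth.Agent.Lib.Curves.GlobalSections

set_option autoImplicit false
universe u
open CategoryTheory CategoryTheory.Limits AlgebraicGeometry
open Pic13

namespace Groth.Agent.S14810

/-- Let X be an integral scheme, proper over a field k, such that Γ(X, O_X) is a field, and let L be an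
invertible O_X-module which is numerically trivial: its restriction to every closed subscheme of X
which is integral of dimension one has degree 0. If L has a nonzero global section (a nonzero
morphism O_X → L), then L is isomorphic to O_X. -/
theorem result (k : Type u) [Field k] (X : Scheme.{u})
    [X.Over (Spec (CommRingCat.of k))] [IsProper (X ↘ Spec (CommRingCat.of k))] [IsIntegral X]
    (hfield : IsField (Γ(X, ⊤) : Type u)) (L : X.Modules) (hL : PicF.IsInvertible L)
    (hnum : Pic13.IsNumEquivZero k X L) (s : Coh.structureModule X ⟶ L) (hs : s ≠ 0) :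
    Nonempty (L ≅ Coh.structureModule X) := by
  classical
  let f := X ↘ Spec (CommRingCat.of k)
  have := Lib.Curves.GlobalSections.isNoetherian_of_proper k X
  have hO : PicF.IsInvertible (Coh.structureModule X) := PicLoc.isInvertible_structureModule X
  haveI hmono : Mono s := Lib.Curves.Positivity.mono_of_ne_zero hO hL hs
  -- the generic point is in the non-vanishing locus
  have hgen : genericPoint X ∈ CohB1.genLocus L s := by
    obtain ⟨U, e, hU, he⟩ := Lib.TensorMod.Gen.isInvertible_iff.1 hL (genericPoint X)
    obtain ⟨a, ha⟩ := Submodule.mem_span_singleton.mp ((Lib.SurfInt.Div.span_germ_eq_top he hU).1.ge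
      (Submodule.mem_top : Lib.SurfInt.Div.germOne L s (genericPoint X) ∈ ⊤))
    rw [Lib.SurfInt.Pencil.mem_genLocus_iff_isUnit s he hU ha.symm]
    refine (Ne.isUnit (G₀ := X.functionField) fun h0 => ?_)
    have hinj := (Lib.Modules.StalkModule.mono_iff_stalkMapₗ_injective s).mp hmono (genericPoint X)
    have h1 : Lib.SurfInt.Div.germOne L s (genericPoint X) = 0 := by
      rw [← ha, show a = 0 from h0, zero_smul]
    have h2 := congrArg (Lib.SurfInt.Stalk.oStalk (X := X) (genericPoint X)) (hinj (h1.trans (map_zero _).symm))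
    rw [map_zero] at h2
    rw [LinearEquiv.apply_symm_apply] at h2
    exact one_ne_zero h2
  by_cases htop : CohB1.genLocus L s = ⊤
  · rcases Lib.SurfInt.CokerCodim.isIso_or_exists
      (Lib.TensorMod.LocFree.of_rank (Lib.TensorMod.LocFree.of_isInvertible hO))
      (Lib.TensorMod.LocFree.of_rank (Lib.TensorMod.LocFree.of_isInvertible hL)) s with hiso | ⟨z, hz, -⟩
    · exact ⟨(asIso s).symm⟩
    · exfalso
      obtain ⟨U, hU, hzU⟩ : ∃ U : X.Opens, IsIso ((Scheme.Modules.restrictFunctor U.ι).map s) ∧ z ∈ U :=
        TopologicalSpace.Opens.mem_sSup.1 (show z ∈ CohB1.genLocus L s by rw [htop]; trivial)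
      have hU' : IsIso ((Scheme.Modules.restrictFunctor U.ι).map s) := hU
      have hz0 : IsZero ((Scheme.Modules.restrictFunctor U.ι).obj (cokernel s)) := by
        refine IsZero.of_iso ?_ (PreservesCokernel.iso (Scheme.Modules.restrictFunctor U.ι) s)
        exact isZero_cokernel_of_epi _
      have he := Lib.Modules.Support.support_eq_empty_iff.2 hz0
      rw [show (Scheme.Modules.restrictFunctor U.ι).obj (cokernel s) = (cokernel s).restrict U.ι from rfl,
        Lib.Modules.Support.support_restrict] at he
      exact Set.eq_empty_iff_forall_notMem.1 he ⟨z, hzU⟩ hz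
  · exfalso
    obtain ⟨y, hy, hyx⟩ := Lib.IntTheory.CurveThrough.exists_curve f (CohB1.genLocus L s) hgen htop
    obtain ⟨x, hyx', hx⟩ := hyx
    let i := (IntMult.ptIdeal y).subschemeι
    let C := (IntMult.ptIdeal y).subscheme
    let _ := Lib.SurfInt.Surface.overSub (k := k) (IntMult.ptIdeal y)
    haveI : IsProper (C ↘ Spec (CommRingCat.of k)) := inferInstanceAs (IsProper (i ≫ f))
    haveI := Lib.Curves.GlobalSections.isNoetherian_of_proper k C
    haveI : IsIntegral C := Lib.IntTheory.Curves.isIntegral_ptIdeal y
    have hdim : topologicalKrullDim C = 1 := (Lib.IntTheory.Curves.dim_ptIdeal y).trans hy.1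
    have hLC : PicF.IsInvertible ((Lib.TensorMod.Pullback.pb i).obj L) := PicLoc.isInvertible_pullback i hL
    let sC : Coh.structureModule C ⟶ (Lib.TensorMod.Pullback.pb i).obj L :=
      (PicLoc.pullbackStructureIso i).inv ≫ (Lib.TensorMod.Pullback.pb i).map s
    have hloc : CohB1.genLocus _ sC = i ⁻¹ᵁ CohB1.genLocus L s :=
      Lib.Ample.GenLocus.genLocus_pullback i hL s (PicLoc.pullbackStructureIso i).symm
    have hpre : ∀ w, y ⤳ w → ∃ z, i z = w := fun w hw => by
      have hw' : w ∈ closure ({y} : Set X) := specializes_iff_mem_closure.1 hw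
      rw [← Lib.Devissage.Closure.range_ptIdeal y] at hw'
      exact hw'
    obtain ⟨z, hz⟩ := hpre y specializes_rfl
    have hzmem : z ∈ CohB1.genLocus _ sC := by
      rw [hloc]; show i z ∈ CohB1.genLocus L s; rw [hz]; exact hy.2
    have gO := Lib.Curves.Degree.isGood_structureModule (k := k) (X := C) hdim.le
    have gL := Lib.Curves.Degree.isGood (k := k) (X := C) hdim.le hLC
    have hdeg : Curv2.deg k C (Coh.structureModule C) 1 = Curv2.deg k C ((Lib.TensorMod.Pullback.pb i).obj L) 1 := by
      have h := hnum C i (Lib.IntTheory.Curves.isIntegral_ptIdeal y) hdim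
      unfold Pic13.curveDeg at h
      unfold Curv2.deg
      rw [Lib.Snapper.Chi.euler_eq_eulerCharLE (d := 1) hdim.le,
        Lib.Snapper.Chi.euler_eq_eulerCharLE (d := 1) hdim.le]
      simp only [Nat.cast_one, one_mul, sub_self]
      exact h.symm
    haveI := Lib.Curves.Positivity.isIso_of_deg_eq (k := k) hdim.le
      (PicLoc.isInvertible_structureModule C) hLC gO gL
      (Lib.SurfInt.Pencil.ne_zero_of_mem_genLocus hLC hzmem) hdeg
    obtain ⟨w, hw⟩ := hpre x hyx'
    refine hx (hw ▸ (show w ∈ i ⁻¹ᵁ CohB1.genLocus L s from ?_))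
    rw [← hloc, show sC = 𝟙 _ ≫ (asIso sC).hom by simp, Lib.Ample.GenLocus.genLocus_comp_iso,
      Lib.Ample.GenLocus.genLocus_id]
    trivial

end Groth.Agent.S14810
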