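import Groth.Statements.S14813
import Groth.Agent.Lib.EtaleChi90.Main

set_option autoImplicit false
universe u
open CategoryTheory CategoryTheory.Limits AlgebraicGeometry
open FGA

namespace Groth.Agent.S14813

/-- Let k be an arbitrary field and let X and X' be smooth, integral, proper k-schemes, X of dimension
n, with an étale k-morphism φ : X' → X (it is then finite étale); suppose φ is finite locally free
of constant degree d. Then χ(O_{X'}) = d · χ(O_X), where χ denotes the alternating sum of dim_k
H^i(·, O) over 0 ≤ i ≤ n (X' has dimension n as well). -/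
theorem result (k : Type u) [Field k] (X X' : Scheme.{u})
    [X.Over (Spec (CommRingCat.of k))] [X'.Over (Spec (CommRingCat.of k))]
    [IsProper (X ↘ Spec (CommRingCat.of k))] [IsProper (X' ↘ Spec (CommRingCat.of k))] [Smooth (X ↘ Spec (CommRingCat.of k))] [Smooth (X' ↘ Spec (CommRingCat.of k))]
    [IsIntegral X] [IsIntegral X'] (φ : X' ⟶ X) [Etale φ] (hφ : φ ≫ (X ↘ Spec (CommRingCat.of k)) = X' ↘ Spec (CommRingCat.of k))
    (d : ℕ) (hd : Mor2.IsFinLocFreeOfDeg d φ) (n : ℕ) (hn : topologicalKrullDim X = n) :
    FGA.eulerCharLE k X' (Coh.structureModule X') n = d * FGA.eulerCharLE k X (Coh.structureModule X) n := by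
  haveI : IsFinite φ := hd.1.1
  haveI := Groth.Agent.Lib.Curves.GlobalSections.isNoetherian_of_proper k X
  haveI := Groth.Agent.Lib.Curves.GlobalSections.isNoetherian_of_proper k X'
  have hn' : topologicalKrullDim X' ≤ (n : WithBot ℕ∞) :=
    (Groth.Agent.Lib.Flat55.DimSums.dim_eq_of_isFinite φ).le.trans
      ((Topology.IsInducing.subtypeVal.topologicalKrullDim_le).trans hn.le)
  have h := Groth.Agent.Lib.EtaleChi90.Main.holds (k := k) d X' X φ
    (Groth.Agent.Lib.EtaleChi90.Points.fibreCard_of_finrank φ hd.2) (Coh.structureModule X)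
    (Groth.Agent.Lib.Snapper.Twist.isCoh_structureModule X)
  rw [Groth.Agent.Lib.EtaleChi90.Main.D_structure (k := k) φ d hφ,
    Groth.Agent.Lib.Snapper.Chi.euler_eq_eulerCharLE hn',
    Groth.Agent.Lib.Snapper.Chi.euler_eq_eulerCharLE hn.le] at h
  linarith

end Groth.Agent.S14813
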