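import Groth.Statements.S14816
import Groth.Agent.H4.FrobPoints
-- import your own Groth.Agent.* helpers here

set_option autoImplicit false
universe u
open CategoryTheory MonoidalCategory CartesianMonoidalCategory MonObj GrpObj AlgebraicGeometry
open AbVar

namespace Groth.Agent.S14816

/-- Let k be an algebraically closed field of characteristic p > 0 which is algebraic over its prime
field (every element x satisfies x^(p^n) = x for some n ≥ 1) and let A be an abelian variety over k
(a proper, geometrically integral group scheme over k). Then every k-rational point of A has finite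
order in the group A(k) of k-points. -/
theorem result
    (p : ℕ) [Fact (Nat.Prime p)] (k : Type u) [Field k] [IsAlgClosed k] [CharP k p]
    (halg : ∀ x : k, ∃ n : ℕ, 0 < n ∧ x ^ (p ^ n) = x)
    (A : Over (Spec (CommRingCat.of k))) [GrpObj A] [IsProper A.hom] [GeometricallyIntegral A.hom]
    (a : 𝟙_ (Over (Spec (CommRingCat.of k))) ⟶ A) : IsOfFinOrder a := by
  classical
  haveI : CompactSpace A.left := QuasiCompact.compactSpace_of_compactSpace A.hom
  let T : A ⟶ A := CartesianMonoidalCategory.lift (𝟙 A) (toUnit A ≫ a) ≫ μ[A]
  have hT : ∀ x : 𝟙_ (Over (Spec (CommRingCat.of k))) ⟶ A, x ≫ T = x * a := by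
    intro x
    simp only [T, comp_lift_assoc, Category.comp_id, ← Category.assoc x (toUnit A) a,
      toUnit_unique (x ≫ toUnit A) (𝟙 _), Category.id_comp]
    rfl
  have h1 : (Set.range fun n : ℕ => (a ^ n).left).Finite :=
    Groth.Agent.H4.FrobPoints.finite_orbit p halg A.hom T.left (fun n => (a ^ n).left)
      (fun n => Over.w (a ^ n)) (fun n => by rw [pow_succ, ← hT, Over.comp_left])
  haveI := h1.to_subtype
  by_contra h
  have hinj : Function.Injective fun n : ℕ => a ^ n := injective_pow_iff_not_isOfFinOrder.2 h
  exact not_injective_infinite_finite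
    (fun n : ℕ => (⟨(a ^ n).left, n, rfl⟩ : Set.range fun n : ℕ => (a ^ n).left))
    fun m n hmn => hinj (Over.OverMorphism.ext (congrArg Subtype.val hmn))

end Groth.Agent.S14816
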