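import Groth.Statements.S14818
import Groth.Agent.Lib.NormAmple.Bundle
import Groth.Agent.Lib.NormAmple.FinFreeMain
import Groth.Agent.H81.PushLocFree
import Groth.Agent.H22.YBlow.Basic
import Groth.Agent.Lib.Ample.GenLocus
-- import your own Groth.Agent.* helpers here

set_option autoImplicit false
universe u
open CategoryTheory CategoryTheory.Limits AlgebraicGeometry
open PicF

namespace Groth.Agent.S14818

/-- Let X be a connected locally Noetherian scheme, f : X' → X a finite locally free morphism of
constant degree d (a finite flat covering of X of degree d) and L an invertible O_X-module whose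
pullback f^*L is isomorphic to O_{X'}. Then L^{⊗d} ≅ O_X; in particular L has finite order in Pic(X)
dividing the degree of f. -/
theorem result (X X' : Scheme.{u})
    [IsLocallyNoetherian X] [ConnectedSpace X] (f : X' ⟶ X) (d : ℕ) (hf : Mor2.IsFinLocFreeOfDeg d f)
    (L : X.Modules) (hL : PicF.IsInvertible L)
    (htriv : Nonempty ((Scheme.Modules.pullback f).obj L ≅ Coh.structureModule X')) :
    Nonempty (CohB1.tensorPow L d ≅ Coh.structureModule X) := by
  obtain ⟨⟨hfin, hflat, hlfp⟩, hdeg⟩ := hf
  haveI := hfin
  haveI := hflat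
  haveI := hlfp
  obtain ⟨i⟩ := htriv
  rcases Nat.eq_zero_or_pos d with rfl | hd
  · exact ⟨Iso.refl _⟩
  have h1 : 1 ≤ f.finrank := fun y => (hdeg y).symm ▸ hd
  have hsurj : Function.Surjective f.base :=
    ((Scheme.Hom.one_le_finrank_iff_surjective f).1 h1).surj
  let A := Lib.NormAmple.FinFreeMain.unitAtlas (π := f) (H81.PushLocFree.isFinLocFree_push f)
  let N : Nrm.NormOfDegree f d := Lib.NormAmple.FinFreeMain.toNorm A hd fun c y hy => by
    show c.r * 1 = d
    rw [mul_one, ← hdeg y, Lib.NormAmple.FinFreeMain.finrank_chart c hy]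
  obtain ⟨D⟩ := Lib.NormAmple.Bundle.exists_frames_pullback N hsurj hL
  obtain ⟨t, ht, -⟩ := Lib.NormAmple.Basic.norm_section_locus D f.isClosedMap i.inv
  have htop : CohB1.genLocus _ i.inv = ⊤ := top_le_iff.1 <| le_sSup <| show
    IsIso ((Scheme.Modules.restrictFunctor (⊤ : X'.Opens).ι).map i.inv) from inferInstance
  haveI := Groth.Agent.H22.YBlow.isIso_of_genLocus_eq_top t
    (top_le_iff.1 fun y _ => ht y fun x _ => htop.ge trivial)
  exact ⟨(asIso t).symm⟩

end Groth.Agent.S14818
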