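import Groth.Statements.S14819
import Groth.Agent.H81.CycCover.NoEtale

set_option autoImplicit false
universe u
open CategoryTheory CategoryTheory.Limits AlgebraicGeometry
open PicF

namespace Groth.Agent.S14819

/-- Let X be an integral Noetherian scheme which is normal (all local rings integrally closed domains)
and whose ring of global functions Γ(X, O_X) is a field of characteristic p > 0; let L be an
invertible O_X-module of exact order d in Pic(X), i.e. L^{⊗d} ≅ O_X with d ≥ 1 and L^{⊗i} not
isomorphic to O_X for 0 < i < d, and suppose p divides d. Let X' be a connected scheme such that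
every unit of Γ(X', O_{X'}) has a p-th root. Then no finite étale morphism f : X' → X (a finite
étale covering of X by X') satisfies f^*L ≅ O_{X'}. -/
theorem result (X X' : Scheme.{u})
    [IsIntegral X] [IsNoetherian X] (hnorm : Pi1.IsNormalScheme X)
    (hfield : IsField (Γ(X, ⊤) : Type u)) (p : ℕ) [Fact (Nat.Prime p)] [CharP (Γ(X, ⊤) : Type u) p]
    (L : X.Modules) (hL : PicF.IsInvertible L) (d : ℕ) (hd : 0 < d)
    (hord : Nonempty (CohB1.tensorPow L d ≅ Coh.structureModule X))
    (hmin : ∀ i : ℕ, 0 < i → i < d → IsEmpty (CohB1.tensorPow L i ≅ Coh.structureModule X))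
    (hpd : p ∣ d) [ConnectedSpace X']
    (hroot : ∀ u : (Γ(X', ⊤) : Type u), IsUnit u → ∃ v : (Γ(X', ⊤) : Type u), v ^ p = u)
    (f : X' ⟶ X) [IsFinite f] [Etale f] :
    IsEmpty ((Scheme.Modules.pullback f).obj L ≅ Coh.structureModule X') := by
  refine ⟨fun φ => ?_⟩
  obtain ⟨α⟩ := hord
  obtain ⟨i, hi⟩ := hpd
  have hp : 1 < p := (Fact.out : p.Prime).one_lt
  have hi0 : 0 < i := Nat.pos_of_ne_zero (by rintro rfl; simp at hi; omega)
  have hid : i < d := by rw [hi]; exact lt_mul_left hi0 hp
  obtain ⟨e⟩ := Groth.Agent.H81.CycCover.NoEtale.nonempty_iso_of_trivial (p := p) hnorm hfield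
    (Groth.Agent.Lib.TensorMod.Invertible.isInvertible_tensorPow hL i)
    (Groth.Agent.Lib.Ample.Pow.powMul L i p ≪≫
      Groth.Agent.Lib.Ample.Pow.powCongr L (by rw [hi, mul_comm]) ≪≫ α)
    hroot f
    (Groth.Agent.Lib.Ample.Pow.pullbackPow f L i ≪≫ Groth.Agent.Lib.Ample.Pow.powIso φ i ≪≫
      Groth.Agent.Lib.Ample.Pow.powUnit X' i)
  exact (hmin i hi0 hid).false e

end Groth.Agent.S14819
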