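import Groth.Statements.S1482
import Groth.Agent.H56.Split

set_option autoImplicit false
universe u
open FlatMor

namespace Groth.Agent.S1482

open AlgebraicGeometry CategoryTheory Limits in
/-- Let f : X → S be locally of finite type, s a point of S and x_1, …, x_n pairwise distinct points
over s at which f is quasi-finite. Then there are an étale morphism g : U → S with a point u over s
and, for each i, finitely many opens V_{i,j} of X_U = X ×_S U, each finite over U and containing
exactly one point v_{i,j} over u, with κ(v_{i,j}) finite purely inseparable over κ(u), the v_{i,j}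
pairwise distinct, v_{i,j} mapping to x_i, and every point of X_U over u mapping to some x_i equal
to one of the v_{i,j}. -/
theorem result {X S : Scheme.{u}} (f : X ⟶ S) [LocallyOfFiniteType f] (s : S) {ι : Type} [Finite ι]
    (x : ι → ↑X) (hinj : Function.Injective x) (hs : ∀ i, f (x i) = s) (hx : ∀ i, f.QuasiFiniteAt (x i)) :
    ∃ (U : Scheme.{u}) (g : U ⟶ S) (u : U), Etale g ∧ g u = s ∧
      ∃ (J : ι → Type) (_ : ∀ i, Finite (J i)) (V : ∀ i, J i → (pullback f g).Opens) (v : ∀ i, J i → ↑(pullback f g)),
        (∀ i j, v i j ∈ V i j ∧ IsFinite ((V i j).ι ≫ pullback.snd f g) ∧ pullback.snd f g (v i j) = u ∧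
          (∀ w : ↑(pullback f g), w ∈ V i j → pullback.snd f g w = u → w = v i j) ∧
          (letI := ((pullback.snd f g).residueFieldMap (v i j)).hom.toAlgebra
           Module.Finite ↑(U.residueField (pullback.snd f g (v i j))) ↑((pullback f g).residueField (v i j)) ∧
           IsPurelyInseparable ↑(U.residueField (pullback.snd f g (v i j))) ↑((pullback f g).residueField (v i j))) ∧
          pullback.fst f g (v i j) = x i) ∧
        (∀ i j i' j', v i j = v i' j' → i = i' ∧ HEq j j') ∧
        (∀ (w : ↑(pullback f g)) (i : ι), pullback.snd f g w = u → pullback.fst f g w = x i → ∃ j, w = v i j) := by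
  classical
  obtain ⟨U, g, u, hg, hu, hfinP, hP⟩ := H56.Split.exists_split f s x hs hx
  let P : ι → Set ↑(pullback f g) := fun i =>
    {w | pullback.snd f g w = u ∧ pullback.fst f g w = x i}
  have hPfin : ∀ i, (P i).Finite := fun i => hfinP.subset fun w hw => ⟨hw.1, i, hw.2⟩
  have hex : ∀ i, ∃ n, Nonempty (P i ≃ Fin n) := fun i => by
    have := (hPfin i).to_subtype
    exact Finite.exists_equiv_fin _
  choose n en using hex
  let e := fun i => (en i).some
  let v : ∀ i, Fin (n i) → ↑(pullback f g) := fun i j => ((e i).symm j).1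
  have hv : ∀ i j, pullback.snd f g (v i j) = u ∧ pullback.fst f g (v i j) = x i :=
    fun i j => ((e i).symm j).2
  have hvinj : ∀ i j i' j', v i j = v i' j' → i = i' ∧ HEq j j' := by
    intro i j i' j' h
    obtain rfl : i = i' := hinj (by rw [← (hv i j).2, ← (hv i' j').2, h])
    exact ⟨rfl, heq_of_eq ((e i).symm.injective (Subtype.ext h))⟩
  have hvsurj : ∀ w i, pullback.snd f g w = u → pullback.fst f g w = x i → ∃ j, w = v i j :=
    fun w i h h' => ⟨e i ⟨w, h, h'⟩, by simp [v]⟩
  choose V hV using fun i j => (hP (v i j) (hv i j).1 ⟨i, (hv i j).2⟩).1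
  exact ⟨U, g, u, hg, hu, fun i => Fin (n i), fun _ => inferInstance, V, v,
    fun i j => ⟨(hV i j).1, (hV i j).2.1, (hv i j).1, (hV i j).2.2,
      (hP (v i j) (hv i j).1 ⟨i, (hv i j).2⟩).2, (hv i j).2⟩, hvinj, hvsurj⟩

end Groth.Agent.S1482
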