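import Groth.Statements.S14820
import Groth.Agent.H4.HomImage
import Groth.Agent.H52.FBase.GeomRedSch
-- import your own Groth.Agent.* helpers here

set_option autoImplicit false
universe u
open CategoryTheory MonoidalCategory CartesianMonoidalCategory MonObj GrpObj AlgebraicGeometry
open AbVar

namespace Groth.Agent.S14820

/-- Let k be an arbitrary field and G a commutative group scheme locally of finite type over k. Then
there is a closed subgroup scheme M of G which is an abelian variety over k (proper and
geometrically integral) and through which every homomorphism A → G from an abelian variety A over k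
(a geometrically reduced, connected, proper k-group scheme) factors. -/
theorem result (k : Type u) [Field k]
    (G : Over (Spec (CommRingCat.of k))) [GrpObj G] [IsCommMonObj G] [LocallyOfFiniteType G.hom] :
    ∃ (M : Over (Spec (CommRingCat.of k))) (_ : GrpObj M) (i : M ⟶ G), IsMonHom i ∧ IsClosedImmersion i.left ∧
      IsProper M.hom ∧ GeometricallyIntegral M.hom ∧
      ∀ (A : Over (Spec (CommRingCat.of k))) [GrpObj A] [IsProper A.hom] [GeometricallyReduced A.hom] [ConnectedSpace ↥A.left]
        (φ : A ⟶ G), IsMonHom φ → ∃ ψ : A ⟶ M, ψ ≫ i = φ := by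
  haveI : IsSeparated G.hom := Groth.Agent.Lib.GrpSch.isSeparated_of_field G
  haveI : IsLocallyNoetherian G.left := LocallyOfFiniteType.isLocallyNoetherian G.hom
  have hfin : ∀ x : G.left, Order.coheight x < ⊤ := fun x => by
    have h := ringKrullDim_stalk_eq_coheight x
    have h2 : ringKrullDim (G.left.presheaf.stalk x) < ⊤ := ringKrullDim_lt_top
    rw [h] at h2
    exact WithBot.coe_lt_coe.1 h2
  let P : G.left → Prop := fun x => ∃ (M : Over (Spec (CommRingCat.of k))) (_ : GrpObj M) (i : M ⟶ G),
    IsMonHom i ∧ IsClosedImmersion i.left ∧ IsProper M.hom ∧ GeometricallyIntegral M.hom ∧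
      IsGenericPoint x (Set.range i.left)
  have himg : ∀ (A : Over (Spec (CommRingCat.of k))) [GrpObj A] [IsProper A.hom]
      [GeometricallyReduced A.hom] [ConnectedSpace ↥A.left] (φ : A ⟶ G) [IsMonHom φ],
      ∃ x, IsGenericPoint x (Set.range φ.left) ∧ P x := fun A _ _ _ _ φ _ => by
    obtain ⟨M, gM, i, hi, hc, hp, hg, hr⟩ := Groth.Agent.H4.HomImage.exists_image G A φ
    haveI := hg
    haveI : IsIntegral M.left := GeometricallyIntegral.isIntegral_of_subsingleton M.hom
    have hx : IsGenericPoint (i.left (genericPoint M.left)) (Set.range i.left) := by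
      have := (genericPoint_spec M.left).image i.left.continuous
      rwa [Set.image_univ, i.left.isClosedEmbedding.isClosed_range.closure_eq] at this
    exact ⟨_, hr ▸ hx, M, gM, i, hi, hc, hp, hg, hx⟩
  haveI : IsProper (𝟙_ (Over (Spec (CommRingCat.of k)))).hom :=
    inferInstanceAs (IsProper (𝟙 (Spec (CommRingCat.of k))))
  haveI : GeometricallyReduced (𝟙_ (Over (Spec (CommRingCat.of k)))).hom :=
    Groth.Agent.Lib.GrpSch.geometricallyReduced_of_smooth_field (𝟙 (Spec (CommRingCat.of k)))
  haveI : ConnectedSpace ↥(𝟙_ (Over (Spec (CommRingCat.of k)))).left :=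
    inferInstanceAs (ConnectedSpace (PrimeSpectrum k))
  obtain ⟨x₀, -, hx₀⟩ := himg (𝟙_ _) η[G]
  obtain ⟨n, ⟨x, hx, rfl⟩, hmin⟩ :=
    wellFounded_lt.has_min (Order.coheight '' {x | P x}) ⟨_, x₀, hx₀, rfl⟩
  obtain ⟨M, gM, i, hi, hc, hp, hg, hgen⟩ := hx
  refine ⟨M, gM, i, hi, hc, hp, hg, fun A _ _ _ _ φ hφ => ?_⟩
  haveI := hg; haveI := hi; haveI := hp; haveI := hc; haveI := hφ
  haveI := Groth.Agent.H4.HomImage.geometricallyIntegral_of_connected A
  haveI := Groth.Agent.H4.HomImage.smooth_of_geometricallyReduced M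
  haveI : GeometricallyReduced (M ⊗ A).hom :=
    Groth.Agent.H52.FBase.GeomRedSch.geometricallyReduced_prod M.hom A.hom
  haveI : IsProper (M ⊗ A).hom := by
    rw [← Over.w (fst M A)]
    haveI : IsProper (fst M A).left := Groth.Agent.Lib.GrpSch.fst_left_of (P := @IsProper) M ‹_›
    infer_instance
  haveI : IsIntegral A.left := GeometricallyIntegral.isIntegral_of_subsingleton A.hom
  haveI : IsIntegral M.left := GeometricallyIntegral.isIntegral_of_subsingleton M.hom
  haveI := Groth.Agent.H4.HomImage.smooth_of_geometricallyReduced A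
  haveI : IsLocallyNoetherian A.left := LocallyOfFiniteType.isLocallyNoetherian A.hom
  haveI : IsLocallyNoetherian M.left := LocallyOfFiniteType.isLocallyNoetherian M.hom
  haveI : IsIntegral (M ⊗ A).left := inferInstanceAs (IsIntegral (Limits.pullback M.hom A.hom))
  let ψ : M ⊗ A ⟶ G := (fst M A ≫ i) * (snd M A ≫ φ)
  haveI : IsMonHom ψ := by
    show IsMonHom (lift (fst M A ≫ i) (snd M A ≫ φ) ≫ μ[G])
    infer_instance
  obtain ⟨y, hy, hyP⟩ := himg (M ⊗ A) ψ
  have hiψ : Set.range i.left ⊆ Set.range ψ.left := by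
    have e : lift (𝟙 M) (toUnit M ≫ η[A]) ≫ ψ = i := by
      rw [MonObj.comp_mul, lift_fst_assoc, lift_snd_assoc, Category.assoc, IsMonHom.one_hom,
        ← Hom.one_def, Category.id_comp, _root_.mul_one]
    rintro _ ⟨m, rfl⟩
    rw [← e, Over.comp_left, Scheme.Hom.comp_apply]
    exact Set.mem_range_self _
  have hφψ : Set.range φ.left ⊆ Set.range ψ.left := by
    have e : lift (toUnit A ≫ η[M]) (𝟙 A) ≫ ψ = φ := by
      rw [MonObj.comp_mul, lift_fst_assoc, lift_snd_assoc, Category.assoc, IsMonHom.one_hom,
        ← Hom.one_def, Category.id_comp, _root_.one_mul]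
    rintro _ ⟨m, rfl⟩
    rw [← e, Over.comp_left, Scheme.Hom.comp_apply]
    exact Set.mem_range_self _
  have hle : x ≤ y := Scheme.le_iff_specializes.2 (hy.specializes (hiψ hgen.mem))
  have hyx : x ⤳ y := by
    by_contra hne
    have hlt : x < y := lt_of_le_not_ge hle fun h => hne (Scheme.le_iff_specializes.1 h)
    exact hmin _ ⟨y, hyP, rfl⟩ (Order.coheight_strictAnti hlt (hfin _))
  have hψi : Set.range ψ.left ⊆ Set.range i.left := fun z hz =>
    (hyx.trans (hy.specializes hz)).mem_closed i.left.isClosedEmbedding.isClosed_range hgen.mem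
  exact Groth.Agent.H4.HomImage.exists_factor i φ (hφψ.trans hψi)

end Groth.Agent.S14820
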