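import Groth.Statements.S14822
import Groth.Agent.H34.Stein.FibreMax
import Groth.Agent.Lib.FEt.NormalCover
import Groth.Agent.Lib.VarDim.Fibre
import Mathlib.AlgebraicGeometry.ZariskisMainTheorem
import Mathlib.AlgebraicGeometry.Morphisms.Proper

set_option autoImplicit false
universe u
open CategoryTheory CategoryTheory.Limits AlgebraicGeometry
open CohIII

namespace Groth.Agent.S14822

open TopologicalSpace Opposite
open Groth.Agent.Lib Groth.Agent.Lib.VarDim.Basic

/-- A universally closed morphism gives integral maps on sections over affine opens. -/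
theorem isIntegral_app {X Y : Scheme.{u}} (f : X ⟶ Y) [UniversallyClosed f] (V : Y.Opens) (hV : IsAffineOpen V) :
    (f.app V).hom.IsIntegral := by
  haveI : IsAffine (V : Scheme.{u}) := hV
  haveI : UniversallyClosed (f ∣_ V) := IsZariskiLocalAtTarget.restrict (P := @UniversallyClosed) inferInstance V
  have h := isIntegral_appTop_of_universallyClosed (f ∣_ V)
  rw [Scheme.Hom.appTop, morphismRestrict_app'] at h
  suffices key : ∀ (V' : Y.Opens) (W' : X.Opens) (e : W' ≤ f ⁻¹ᵁ V'), V' = V → W' = f ⁻¹ᵁ V →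
      (f.appLE V' W' e).hom.IsIntegral → (f.app V).hom.IsIntegral from
    key _ _ _ (Scheme.Opens.ι_image_top V) (Scheme.Opens.ι_image_top _) h
  rintro V' W' e rfl rfl h
  rwa [Scheme.Hom.app_eq_appLE]

/-- Let k be a field and f : X → Y a surjective k-morphism between integral proper k-schemes of the same
dimension, with Y normal (all local rings integrally closed domains). Then f is a fibration (Γ(U,
O_Y) → Γ(f⁻¹U, O_X) bijective for every open U ⊆ Y) if and only if f is birational: the embedding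
K(Y) → K(X) of function fields given by the stalk map at the generic points is bijective. -/
theorem result (k : Type u) [Field k]
    (X Y : Scheme.{u}) [X.Over (Spec (CommRingCat.of k))] [Y.Over (Spec (CommRingCat.of k))]
    [IsProper (X ↘ Spec (CommRingCat.of k))] [IsProper (Y ↘ Spec (CommRingCat.of k))] [IsIntegral X] [IsIntegral Y]
    (hY : Pi1.IsNormalScheme Y) (f : X ⟶ Y) [Surjective f] (hf : f ≫ (Y ↘ Spec (CommRingCat.of k)) = X ↘ Spec (CommRingCat.of k))
    (hdim : topologicalKrullDim ↥X = topologicalKrullDim ↥Y)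
    (h : f.base (genericPoint ↥X) ⤳ genericPoint ↥Y) :
    (∀ U : Y.Opens, IsIso (f.app U)) ↔ Function.Bijective (CohIII.stalkToFunctionField f (genericPoint ↥Y) h) := by
  have hηY : f.base (genericPoint ↥X) = genericPoint ↥Y :=
    (h.antisymm (genericPoint_specializes _)).eq
  let φ := CohIII.stalkToFunctionField f (genericPoint ↥Y) h
  have hne : ∀ U : Y.Opens, Nonempty U → genericPoint ↥Y ∈ U := fun U ⟨⟨z, hz⟩⟩ =>
    (genericPoint_specializes z).mem_open U.2 hz
  have hgerm : ∀ (U : Y.Opens) (hU : genericPoint ↥Y ∈ U) (s : Γ(Y, U)),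
      φ (Y.presheaf.germ U _ hU s) = X.presheaf.germ (f ⁻¹ᵁ U) (genericPoint ↥X) (h.mem_open U.2 hU) (f.app U s) :=
    fun U hU s => Groth.Agent.H34.Stein.stalkToFunctionField_germ f _ h hU s
  constructor
  · intro hiso
    -- the generic fibre is a point, so `f` is finite near the generic point
    let qX := X ↘ Spec (CommRingCat.of k)
    let qY := Y ↘ Spec (CommRingCat.of k)
    have hsingle : f ⁻¹' {genericPoint ↥Y} = {genericPoint ↥X} := by
      refine Set.eq_singleton_iff_unique_mem.2 ⟨hηY, fun x hx => (eq_of_pdim_le qX (genericPoint_specializes x) ?_).symm⟩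
      have h1 := topologicalKrullDim_irreducibleSpace (K := k) qX
      have h2 := topologicalKrullDim_irreducibleSpace (K := k) qY
      rw [hdim, h2] at h1
      have h3 : pdim qY (genericPoint ↥Y) = pdim qX (genericPoint ↥X) := by exact_mod_cast h1
      rw [← h3, ← show f.base x = genericPoint ↥Y from hx]
      exact VarDim.Fibre.pdim_apply_le qX qY f hf x
    haveI : IsProper (f ≫ (Y ↘ Spec (CommRingCat.of k))) := by rw [hf]; infer_instance
    haveI : IsProper f := IsProper.of_comp f (Y ↘ Spec (CommRingCat.of k))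
    obtain ⟨V₀, hV₀, hfin⟩ := exists_isFinite_morphismRestrict_of_finite_preimage_singleton f (genericPoint ↥Y)
      (by rw [hsingle]; exact Set.finite_singleton _)
    obtain ⟨V, hV, hηV, hVV₀⟩ := exists_isAffineOpen_mem_and_subset hV₀
    have hW : IsAffineOpen (f ⁻¹ᵁ V) := by
      have hV' : IsAffineOpen (V₀.ι ⁻¹ᵁ V) := hV.preimage_of_isOpenImmersion V₀.ι (by simpa using hVV₀)
      have h' := (hV'.preimage (f ∣_ V₀)).image_of_isOpenImmersion (f ⁻¹ᵁ V₀).ι
      rw [image_morphismRestrict_preimage] at h'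
      rwa [show V₀.ι ''ᵁ V₀.ι ⁻¹ᵁ V = V by
        rw [Scheme.Hom.image_preimage_eq_opensRange_inf, Scheme.Opens.opensRange_ι]
        exact inf_eq_right.mpr hVV₀] at h'
    haveI : Nonempty V := ⟨⟨_, hηV⟩⟩
    haveI : Nonempty (f ⁻¹ᵁ V) := ⟨⟨_, h.mem_open V.2 hηV⟩⟩
    haveI := functionField_isFractionRing_of_isAffineOpen X (f ⁻¹ᵁ V) hW
    refine ⟨φ.injective, fun z => ?_⟩
    obtain ⟨a, b, hb, rfl⟩ := IsFractionRing.div_surjective (A := Γ(X, f ⁻¹ᵁ V)) z
    haveI := hiso V
    obtain ⟨a', rfl⟩ : ∃ a', f.app V a' = a := (ConcreteCategory.bijective_of_isIso (f.app V)).2 a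
    obtain ⟨b', rfl⟩ : ∃ b', f.app V b' = b := (ConcreteCategory.bijective_of_isIso (f.app V)).2 b
    refine ⟨Y.presheaf.germ V _ hηV a' / Y.presheaf.germ V _ hηV b', ?_⟩
    show φ _ = _
    rw [map_div₀, hgerm, hgerm]
    rfl
  · intro hb U
    -- integrality and normality
    haveI : IsProper (f ≫ (Y ↘ Spec (CommRingCat.of k))) := by rw [hf]; infer_instance
    haveI : IsProper f := IsProper.of_comp f (Y ↘ Spec (CommRingCat.of k))
    rw [ConcreteCategory.isIso_iff_bijective]
    have hsurjX : ∀ W : Y.Opens, Nonempty W → genericPoint ↥X ∈ f ⁻¹ᵁ W := fun W hW => h.mem_open W.2 (hne W hW)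
    rcases isEmpty_or_nonempty U with hU | hU
    · obtain rfl : U = ⊥ := by
        ext z
        exact ⟨fun hz => (hU.false ⟨z, hz⟩).elim, fun hz => hz.elim⟩
      have h0 : f ⁻¹ᵁ (⊥ : Y.Opens) = ⊥ := rfl
      haveI : Subsingleton Γ(Y, (⊥ : Y.Opens)) := CommRingCat.subsingleton_of_isTerminal (Y.sheaf.isTerminalOfEqEmpty rfl)
      haveI : Subsingleton Γ(X, f ⁻¹ᵁ (⊥ : Y.Opens)) := CommRingCat.subsingleton_of_isTerminal (X.sheaf.isTerminalOfEqEmpty h0)
      exact ⟨fun a b _ => Subsingleton.elim _ _, fun b => ⟨0, Subsingleton.elim _ _⟩⟩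
    have hηU := hne U hU
    refine ⟨fun a b hab => ?_, fun t => ?_⟩
    · refine germ_injective_of_isIntegral Y _ hηU (hb.1 ?_)
      show φ _ = φ _
      rw [hgerm, hgerm, hab]
    obtain ⟨z, hz⟩ : ∃ z, φ z = X.presheaf.germ (f ⁻¹ᵁ U) _ (hsurjX U hU) t := hb.2 _
    -- `z` is regular on every affine open inside `U`
    have hloc : ∀ V : {V : Y.Opens // IsAffineOpen V ∧ V ≤ U ∧ Nonempty V}, ∃ s : Γ(Y, V.1),
        Y.presheaf.germ V.1 _ (hne V.1 V.2.2.2) s = z := by
      rintro ⟨V, hV, hVU, hVne⟩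
      haveI := hVne
      haveI := FEt.NormalCover.isIntegrallyClosed_sections hY (U := V)
      haveI := functionField_isFractionRing_of_isAffineOpen Y V hV
      let t' := X.presheaf.map (homOfLE (show f ⁻¹ᵁ V ≤ f ⁻¹ᵁ U from fun _ hx => hVU hx)).op t
      obtain ⟨p, hp, hpt⟩ := isIntegral_app f V hV t'
      have hzint : IsIntegral Γ(Y, V) z := by
        refine ⟨p, hp, φ.injective ?_⟩
        have hh := congrArg (X.presheaf.germ (f ⁻¹ᵁ V) _ (hsurjX V hVne)).hom hpt
        rw [Polynomial.hom_eval₂, map_zero] at hh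
        rw [Polynomial.hom_eval₂, map_zero]
        refine Eq.trans ?_ hh
        congr 1
        · exact RingHom.ext fun s => hgerm V (hne V hVne) s
        · rw [hz]
          exact (TopCat.Presheaf.germ_res_apply X.presheaf _ _ _ t).symm
      obtain ⟨s, hs⟩ := IsIntegrallyClosed.algebraMap_eq_of_integral hzint
      exact ⟨s, hs⟩
    choose s hs using hloc
    have hinj : ∀ (V : Y.Opens) (hV : genericPoint ↥Y ∈ V) (a b : Γ(Y, V)),
        Y.presheaf.germ V _ hV a = Y.presheaf.germ V _ hV b → a = b := fun V hV a b e =>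
      germ_injective_of_isIntegral _ _ hV e
    obtain ⟨S, hS, -⟩ := TopCat.Sheaf.existsUnique_gluing' Y.sheaf
      (fun V : {V : Y.Opens // IsAffineOpen V ∧ V ≤ U ∧ Nonempty V} => V.1) U (fun V => homOfLE V.2.2.1)
      (fun y hy => by
        obtain ⟨V, hV, hyV, hVU⟩ := exists_isAffineOpen_mem_and_subset hy
        exact Opens.mem_iSup.2 ⟨⟨V, hV, hVU, ⟨⟨y, hyV⟩⟩⟩, hyV⟩) s (fun V W => by
        have hm : genericPoint ↥Y ∈ V.1 ⊓ W.1 := ⟨hne V.1 V.2.2.2, hne W.1 W.2.2.2⟩
        refine hinj _ hm _ _ ?_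
        exact ((TopCat.Presheaf.germ_res_apply Y.presheaf (Opens.infLELeft V.1 W.1) _ hm (s V)).trans
          (hs V)).trans ((TopCat.Presheaf.germ_res_apply Y.presheaf (Opens.infLERight V.1 W.1) _ hm (s W)).trans (hs W)).symm)
    refine ⟨S, germ_injective_of_isIntegral _ _ (hsurjX U hU) ?_⟩
    obtain ⟨V, hV, hηV, hVU⟩ := exists_isAffineOpen_mem_and_subset hηU
    have h1 : Y.presheaf.germ U _ hηU S = z := by
      rw [← hs ⟨V, hV, hVU, ⟨⟨_, hηV⟩⟩⟩, ← hS ⟨V, hV, hVU, ⟨⟨_, hηV⟩⟩⟩]
      exact (TopCat.Presheaf.germ_res_apply Y.presheaf _ _ hηV S).symm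
    rw [← hgerm U hηU, h1, hz]

end Groth.Agent.S14822
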