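import Groth.Statements.S14825
import Groth.Agent.H4.HH0
import Groth.Agent.H4.AVHom
-- import your own Groth.Agent.* helpers here

set_option autoImplicit false
universe u
open CategoryTheory MonoidalCategory CartesianMonoidalCategory MonObj GrpObj AlgebraicGeometry
open AbVar

namespace Groth.Agent.S14825

/-- In the pointed case, let k be a field and X a proper k-scheme with H^0(X, O_X) one-dimensional and a
k-rational point x₀; let alb : X → A be the Albanese morphism (A an abelian variety over k — proper,
geometrically integral group scheme — with alb(x₀) = 0, universal among pointed k-morphisms from X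
to abelian varieties, the latter being geometrically reduced, connected, proper group schemes). Then
X has Albanese dimension zero, i.e. the image of alb is a single point of A (X is connected, so this
says the image is zero-dimensional), if and only if A is the trivial abelian variety, i.e. A → Spec
k is an isomorphism. (The published statement does not assume a rational point (it works with the
Albanese torsor); this row assumes one.) -/
theorem result (k : Type u) [Field k] (X : Scheme.{u}) [X.Over (Spec (CommRingCat.of k))]
    [IsProper (X ↘ Spec (CommRingCat.of k))] (h0 : Module.finrank k (Coh.HH X (Coh.structureModule X) 0) = 1)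
    (x₀ : 𝟙_ (Over (Spec (CommRingCat.of k))) ⟶ Over.mk (X ↘ Spec (CommRingCat.of k)))
    (A : Over (Spec (CommRingCat.of k))) [GrpObj A] [IsProper A.hom] [GeometricallyIntegral A.hom]
    (alb : Over.mk (X ↘ Spec (CommRingCat.of k)) ⟶ A) (halb : x₀ ≫ alb = η[A])
    (huniv : ∀ (B : Over (Spec (CommRingCat.of k))) [GrpObj B] [IsProper B.hom] [GeometricallyReduced B.hom] [ConnectedSpace ↥B.left]
      (g : Over.mk (X ↘ Spec (CommRingCat.of k)) ⟶ B), x₀ ≫ g = η[B] → ∃! h : A ⟶ B, IsMonHom h ∧ alb ≫ h = g) :
    (Set.range alb.left.base).Subsingleton ↔ IsIso A.hom := by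
  constructor
  · intro hsub
    have hsurj := Groth.Agent.H4.HH0.appTop_surjective k X h0
    have hs : x₀.left ≫ (X ↘ Spec (CommRingCat.of k)) = 𝟙 _ := Over.w x₀
    obtain ⟨_, ⟨(U : A.left.Opens), hU, rfl⟩, hmem, -⟩ :=
      A.left.isBasis_affineOpens.exists_subset_of_mem_open
        (Set.mem_univ (η[A].left (IsLocalRing.closedPoint k))) isOpen_univ
    have hrange : Set.range alb.left ⊆ (U : Set A.left) := by
      rintro _ ⟨p, rfl⟩
      have h1 : alb.left (x₀.left (IsLocalRing.closedPoint k)) = η[A].left (IsLocalRing.closedPoint k) := by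
        rw [← halb]; rfl
      rw [hsub ⟨p, rfl⟩ ⟨x₀.left (IsLocalRing.closedPoint k), rfl⟩]
      show alb.left (x₀.left (IsLocalRing.closedPoint k)) ∈ (U : Set A.left)
      rw [h1]; exact hmem
    have hconst : alb = 1 := by
      have hl := Groth.Agent.H4.HH0.eq_const_of_range_subset (X ↘ Spec (CommRingCat.of k)) hsurj
        x₀.left hs alb.left hU hrange
      rw [← MonObj.comp_one (toUnit (Over.mk (X ↘ Spec (CommRingCat.of k)))), ← MonObj.one_eq_one, ← halb]
      ext1
      simpa using hl
    haveI : AlgebraicGeometry.IsIntegral A.left := GeometricallyIntegral.isIntegral_of_subsingleton A.hom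
    haveI : ConnectedSpace ↥A.left := inferInstance
    obtain ⟨h, -, hu⟩ := huniv A alb halb
    haveI : IsMonHom (1 : A ⟶ A) :=
      Groth.Agent.H4.AVHom.isMonHom_of_pointed 1 (by rw [MonObj.comp_one, MonObj.one_eq_one])
    have h1 := hu (𝟙 A) ⟨inferInstance, Category.comp_id _⟩
    have h2 := hu 1 ⟨inferInstance, by rw [MonObj.comp_one]; exact hconst.symm⟩
    have hid : toUnit A ≫ η[A] = 𝟙 A := by rw [h1, ← h2, MonObj.one_eq_one, MonObj.comp_one]
    refine ⟨η[A].left, ?_, Over.w η[A]⟩
    have := congrArg Over.Hom.left hid
    simpa using this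
  · intro hiso
    haveI : Subsingleton A.left := by
      refine ⟨fun a b => ?_⟩
      exact (A.hom.homeomorph).injective (Subsingleton.elim (α := Spec (CommRingCat.of k)) _ _)
    exact Set.subsingleton_of_subsingleton

end Groth.Agent.S14825
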