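import Groth.Statements.S14827
-- import your own Groth.Agent.* helpers here

set_option autoImplicit false
universe u
open CategoryTheory MonoidalCategory CartesianMonoidalCategory MonObj GrpObj AlgebraicGeometry
open AbVar

namespace Groth.Agent.S14827

/-- Over a field k (the published statement is over a base scheme S), let X be a proper k-scheme with
H^0(X, O_X) one-dimensional and a k-rational point x₀, and alb : X → A the Albanese morphism for the
base point x₀ (A an abelian variety — proper, geometrically integral group scheme — with alb(x₀) =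
0, universal among pointed morphisms to geometrically reduced, connected, proper group schemes). For
a second k-rational point x₁ let alb' = alb · (constant map with value alb(x₁))⁻¹, i.e. alb followed
by the translation of A by −alb(x₁). Then alb' is the Albanese morphism of X pointed by x₁: alb'(x₁)
= 0, and every k-morphism g : X → B to an abelian variety B with g(x₁) = 0 equals alb' ≫ h for a
unique homomorphism h : A → B. -/
theorem result (k : Type u) [Field k] (X : Scheme.{u}) [X.Over (Spec (CommRingCat.of k))]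
    [IsProper (X ↘ Spec (CommRingCat.of k))] (h0 : Module.finrank k (Coh.HH X (Coh.structureModule X) 0) = 1)
    (x₀ : 𝟙_ (Over (Spec (CommRingCat.of k))) ⟶ Over.mk (X ↘ Spec (CommRingCat.of k)))
    (A : Over (Spec (CommRingCat.of k))) [GrpObj A] [IsProper A.hom] [GeometricallyIntegral A.hom]
    (alb : Over.mk (X ↘ Spec (CommRingCat.of k)) ⟶ A) (halb : x₀ ≫ alb = η[A])
    (huniv : ∀ (B : Over (Spec (CommRingCat.of k))) [GrpObj B] [IsProper B.hom] [GeometricallyReduced B.hom] [ConnectedSpace ↥B.left]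
      (g : Over.mk (X ↘ Spec (CommRingCat.of k)) ⟶ B), x₀ ≫ g = η[B] → ∃! h : A ⟶ B, IsMonHom h ∧ alb ≫ h = g)
    (x₁ : 𝟙_ (Over (Spec (CommRingCat.of k))) ⟶ Over.mk (X ↘ Spec (CommRingCat.of k))) :
    x₁ ≫ (alb * (toUnit (Over.mk (X ↘ Spec (CommRingCat.of k))) ≫ x₁ ≫ alb)⁻¹) = η[A] ∧
    ∀ (B : Over (Spec (CommRingCat.of k))) [GrpObj B] [IsProper B.hom] [GeometricallyReduced B.hom] [ConnectedSpace ↥B.left]
      (g : Over.mk (X ↘ Spec (CommRingCat.of k)) ⟶ B), x₁ ≫ g = η[B] →
        ∃! h : A ⟶ B, IsMonHom h ∧ (alb * (toUnit (Over.mk (X ↘ Spec (CommRingCat.of k))) ≫ x₁ ≫ alb)⁻¹) ≫ h = g := by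
  set c := toUnit (Over.mk (X ↘ Spec (CommRingCat.of k))) ≫ x₁ ≫ alb with hc
  have hx : ∀ {B : Over (Spec (CommRingCat.of k))} (y : 𝟙_ (Over (Spec (CommRingCat.of k))) ⟶ B)
      (x : 𝟙_ (Over (Spec (CommRingCat.of k))) ⟶ Over.mk (X ↘ Spec (CommRingCat.of k))),
      x ≫ toUnit _ ≫ y = y := fun y x => by
    rw [← Category.assoc, toUnit_unique (x ≫ toUnit _) (𝟙 _), Category.id_comp]
  refine ⟨?_, fun B _ _ _ _ g hg => ?_⟩
  · rw [MonObj.comp_mul, GrpObj.comp_inv, hc, hx, mul_inv_cancel, MonObj.one_eq_one]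
  obtain ⟨h, ⟨hh, hh1⟩, hu⟩ := huniv B (g * (toUnit _ ≫ x₀ ≫ g)⁻¹)
    (by rw [MonObj.comp_mul, GrpObj.comp_inv, hx, mul_inv_cancel, MonObj.one_eq_one])
  haveI := hh
  have hc0 : x₁ ≫ alb ≫ h = (x₀ ≫ g)⁻¹ := by
    rw [hh1, MonObj.comp_mul, GrpObj.comp_inv, hx, hg, MonObj.one_eq_one, _root_.one_mul]
  refine ⟨h, ⟨hh, ?_⟩, fun h' ⟨hh', hh'1⟩ => hu h' ⟨hh', ?_⟩⟩
  · rw [MonObj.mul_comp, GrpObj.inv_comp, hc, Category.assoc, Category.assoc, hc0, GrpObj.comp_inv,
      _root_.inv_inv, hh1, inv_mul_cancel_right]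
  · haveI := hh'
    rw [MonObj.mul_comp, GrpObj.inv_comp, hc, Category.assoc, Category.assoc] at hh'1
    have h0' : x₀ ≫ g = (x₁ ≫ alb ≫ h')⁻¹ := by
      rw [← hh'1, MonObj.comp_mul, GrpObj.comp_inv, hx, ← Category.assoc, halb]
      rw [IsMonHom.one_hom h', MonObj.one_eq_one, _root_.one_mul]
    rw [h0', GrpObj.comp_inv, _root_.inv_inv, ← hh'1, inv_mul_cancel_right]

end Groth.Agent.S14827
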