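import Groth.Statements.S1483
import Groth.Agent.Lib.Flat55.FibrewiseScheme

set_option autoImplicit false
universe u
open FlatMor Groth.Agent

namespace Groth.Agent.S1483

open AlgebraicGeometry CategoryTheory in
theorem flat_quotient {A M : Type*} [CommRing A] [AddCommGroup M] [Module A M] [Module.Flat A M] (I : Ideal A) :
    Module.Flat (A ⧸ I) (M ⧸ I • (⊤ : Submodule A M)) :=
  Module.Flat.of_linearEquiv
    ((TensorProduct.quotTensorEquivQuotSMul M I).extendScalarsOfSurjective Ideal.Quotient.mk_surjective).symm

open AlgebraicGeometry CategoryTheory Limits in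
/-- Fibrewise flatness criterion (critère de platitude par fibres), pointwise equivalence for a module:
let f : X → Y and g : Y → S be morphisms of schemes with X locally of finite presentation over S
(via g ∘ f) and Y locally of finite type over S, F a finitely presented quasi-coherent O_X-module,
and x a point of X with images y = f(x) and s = g(y) at which the stalk F_x is nonzero. The
following are equivalent: (a) F is flat over S at x and F_x / 𝔪_s F_x is flat over O_{Y,y} / 𝔪_s
O_{Y,y}; (b) the morphism g is flat at the point y and F is Y-flat at x. The published statement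
also asserts that the locus of such x is open in the support of F; that is not restated here (the
companion statement for F = O_X carries it). -/
theorem result {X Y S : Scheme.{u}} (f : X ⟶ Y) (g : Y ⟶ S) [LocallyOfFinitePresentation (f ≫ g)] [LocallyOfFiniteType g]
    (F : X.Modules) (hq : Coh.IsQCoh F) (hfp : CohB1.IsFP F) (x : X) (hx : Nontrivial ↑(F.presheaf.stalk x)) :
    letI := FlatMod.moduleStalkOver f F x
    (FlatMod.IsFlatOverAt (f ≫ g) F x ∧
      Module.Flat (↑(Y.presheaf.stalk (f x)) ⧸ Ideal.map (g.stalkMap (f x)).hom (IsLocalRing.maximalIdeal ↑(S.presheaf.stalk (g (f x)))))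
        (↑(F.presheaf.stalk x) ⧸ (Ideal.map (g.stalkMap (f x)).hom (IsLocalRing.maximalIdeal ↑(S.presheaf.stalk (g (f x)))) •
          (⊤ : Submodule ↑(Y.presheaf.stalk (f x)) ↑(F.presheaf.stalk x))))) ↔
    ((g.stalkMap (f x)).hom.Flat ∧ FlatMod.IsFlatOverAt f F x) := by
  have : F.IsQuasicoherent := hq
  haveI : SheafOfModules.IsFinitePresentation (R := X.ringCatSheaf) F := hfp
  constructor
  · rintro ⟨h1, h2⟩
    have h := Lib.Flat55.FibrewiseScheme.flat_at_of_fibre f g F x h1 h2
    exact ⟨h.2 hx, h.1⟩
  · rintro ⟨hg, hf⟩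
    letI := FlatMod.moduleStalkOver f F x
    letI := (g.stalkMap (f x)).hom.toAlgebra
    letI : Module (S.presheaf.stalk (g (f x))) (F.presheaf.stalk x) :=
      Module.compHom _ (g.stalkMap (f x)).hom
    haveI : IsScalarTower (S.presheaf.stalk (g (f x))) (Y.presheaf.stalk (f x)) (F.presheaf.stalk x) :=
      IsScalarTower.of_algebraMap_smul fun _ _ ↦ rfl
    haveI : Module.Flat (S.presheaf.stalk (g (f x))) (Y.presheaf.stalk (f x)) := hg
    haveI : Module.Flat (Y.presheaf.stalk (f x)) (F.presheaf.stalk x) := hf
    refine ⟨?_, flat_quotient _⟩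
    unfold FlatMod.IsFlatOverAt
    refine @Lib.Flat55.FibrewiseScheme.flat_congr (S.presheaf.stalk (g (f x))) (F.presheaf.stalk x) _ _ _ _
      (fun r m ↦ ?_) (Module.Flat.trans (S.presheaf.stalk (g (f x))) (Y.presheaf.stalk (f x)) (F.presheaf.stalk x))
    change ((f ≫ g).stalkMap x).hom r • m = (f.stalkMap x).hom ((g.stalkMap (f x)).hom r) • m
    rw [Scheme.Hom.stalkMap_comp]
    rfl

end Groth.Agent.S1483
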