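import Groth.Statements.S14830
import Groth.Agent.H4.AVHom

set_option autoImplicit false
universe u
open CategoryTheory MonoidalCategory CartesianMonoidalCategory MonObj GrpObj AlgebraicGeometry
open AbVar

namespace Groth.Agent.S14830

/-- Let k be a field and X, Y proper, geometrically integral k-schemes with k-rational points x₀ and y₀.
Let albX : X → A and albY : Y → B be Albanese morphisms: A, B abelian varieties over k (proper,
geometrically integral group schemes), albX(x₀) = 0, albY(y₀) = 0, each universal among pointed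
k-morphisms into abelian varieties (geometrically reduced, connected, proper group schemes). Then
the product morphism albX × albY : X ×_k Y → A ×_k B is the Albanese morphism of X ×_k Y pointed at
(x₀, y₀): for every abelian variety C and every k-morphism g : X ×_k Y → C with g(x₀, y₀) = 0 there
is a unique homomorphism h : A ×_k B → C with (albX × albY) ≫ h = g. -/
theorem result (k : Type u) [Field k] (X Y : Scheme.{u}) [X.Over (Spec (CommRingCat.of k))] [Y.Over (Spec (CommRingCat.of k))]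
    [IsProper (X ↘ Spec (CommRingCat.of k))] [IsProper (Y ↘ Spec (CommRingCat.of k))]
    [GeometricallyIntegral (X ↘ Spec (CommRingCat.of k))] [GeometricallyIntegral (Y ↘ Spec (CommRingCat.of k))]
    (x₀ : 𝟙_ (Over (Spec (CommRingCat.of k))) ⟶ Over.mk (X ↘ Spec (CommRingCat.of k))) (y₀ : 𝟙_ (Over (Spec (CommRingCat.of k))) ⟶ Over.mk (Y ↘ Spec (CommRingCat.of k)))
    (A : Over (Spec (CommRingCat.of k))) [GrpObj A] [IsProper A.hom] [GeometricallyIntegral A.hom]
    (albX : Over.mk (X ↘ Spec (CommRingCat.of k)) ⟶ A) (halbX : x₀ ≫ albX = η[A])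
    (hunivA : ∀ (C : Over (Spec (CommRingCat.of k))) [GrpObj C] [IsProper C.hom] [GeometricallyReduced C.hom] [ConnectedSpace ↥C.left]
      (g : Over.mk (X ↘ Spec (CommRingCat.of k)) ⟶ C), x₀ ≫ g = η[C] → ∃! h : A ⟶ C, IsMonHom h ∧ albX ≫ h = g)
    (B : Over (Spec (CommRingCat.of k))) [GrpObj B] [IsProper B.hom] [GeometricallyIntegral B.hom]
    (albY : Over.mk (Y ↘ Spec (CommRingCat.of k)) ⟶ B) (halbY : y₀ ≫ albY = η[B])
    (hunivB : ∀ (C : Over (Spec (CommRingCat.of k))) [GrpObj C] [IsProper C.hom] [GeometricallyReduced C.hom] [ConnectedSpace ↥C.left]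
      (g : Over.mk (Y ↘ Spec (CommRingCat.of k)) ⟶ C), y₀ ≫ g = η[C] → ∃! h : B ⟶ C, IsMonHom h ∧ albY ≫ h = g)
    (C : Over (Spec (CommRingCat.of k))) [GrpObj C] [IsProper C.hom] [GeometricallyReduced C.hom] [ConnectedSpace ↥C.left]
    (g : Over.mk (X ↘ Spec (CommRingCat.of k)) ⊗ Over.mk (Y ↘ Spec (CommRingCat.of k)) ⟶ C) (hg : lift x₀ y₀ ≫ g = η[C]) :
    ∃! h : A ⊗ B ⟶ C, IsMonHom h ∧ (albX ⊗ₘ albY) ≫ h = g := by
  haveI : AlgebraicGeometry.IsIntegral (Over.mk (Y ↘ Spec (CommRingCat.of k))).left :=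
    GeometricallyIntegral.isIntegral_of_subsingleton (Y ↘ Spec (CommRingCat.of k))
  haveI : AlgebraicGeometry.IsIntegral B.left := GeometricallyIntegral.isIntegral_of_subsingleton B.hom
  let XX := Over.mk (X ↘ Spec (CommRingCat.of k))
  let YY := Over.mk (Y ↘ Spec (CommRingCat.of k))
  haveI : IsProper XX.hom := ‹IsProper (X ↘ Spec (CommRingCat.of k))›
  haveI : GeometricallyIntegral XX.hom := ‹GeometricallyIntegral (X ↘ Spec (CommRingCat.of k))›
  haveI : LocallyOfFiniteType YY.hom :=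
    inferInstanceAs (LocallyOfFiniteType (Y ↘ Spec (CommRingCat.of k)))
  obtain ⟨hA, ⟨hAm, hAe⟩, hAu⟩ := hunivA C (lift (𝟙 XX) (toUnit XX ≫ y₀) ≫ g) (by
    rw [comp_lift_assoc, Category.comp_id, ← Category.assoc x₀, toUnit_unique (x₀ ≫ toUnit XX) (𝟙 _),
      Category.id_comp]
    exact hg)
  obtain ⟨hB, ⟨hBm, hBe⟩, hBu⟩ := hunivB C (lift (toUnit YY ≫ x₀) (𝟙 YY) ≫ g) (by
    rw [comp_lift_assoc, Category.comp_id, ← Category.assoc y₀, toUnit_unique (y₀ ≫ toUnit YY) (𝟙 _),
      Category.id_comp]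
    exact hg)
  haveI := hAm
  haveI := hBm
  have hcomm : ∀ {T : Over (Spec (CommRingCat.of k))} (a : T ⟶ A) (b : T ⟶ B),
      (a ≫ hA) * (b ≫ hB) = (b ≫ hB) * (a ≫ hA) := by
    intro T a b
    have key := Groth.Agent.H3.Rigidity.rigidity A B C
      ((fst A B ≫ hA) * (snd A B ≫ hB) * ((snd A B ≫ hB) * (fst A B ≫ hA))⁻¹) η[A] η[B] η[C]
      (by simp [MonObj.comp_mul, GrpObj.comp_inv, MonObj.one_eq_one])
      (by simp [MonObj.comp_mul, GrpObj.comp_inv, MonObj.one_eq_one])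
    have h2 := congrArg (fun φ => lift a b ≫ φ) key
    simp only [MonObj.comp_mul, GrpObj.comp_inv, lift_fst_assoc, lift_snd_assoc] at h2
    rw [← Category.assoc (lift a b), toUnit_unique (lift a b ≫ toUnit _) (toUnit T), MonObj.one_eq_one] at h2
    exact mul_inv_eq_one.mp h2
  let h : A ⊗ B ⟶ C := (fst A B ≫ hA) * (snd A B ≫ hB)
  have hh : IsMonHom h := by
    refine ⟨?_, ?_⟩
    · simp only [h, MonObj.comp_mul, ← Category.assoc, IsMonHom.one_hom]
      simp [MonObj.one_eq_one]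
    · have h1 : ∀ {T : Over (Spec (CommRingCat.of k))} (p q : T ⟶ A ⊗ B), (p * q) ≫ h = (p ≫ h) * (q ≫ h) := by
        intro T p q
        simp only [h, MonObj.comp_mul, ← Category.assoc, MonObj.mul_comp]
        exact (Commute.mul_mul_mul_comm (hcomm (q ≫ fst A B) (p ≫ snd A B)) _ _)
      have h2 := h1 (fst (A ⊗ B) (A ⊗ B)) (snd (A ⊗ B) (A ⊗ B))
      rw [Hom.mul_def, lift_fst_snd, Category.id_comp] at h2
      rw [h2, Hom.mul_def]
      congr 1
  have hdecomp : (albX ⊗ₘ albY) ≫ h = g := by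
    have key := Groth.Agent.H3.Rigidity.rigidity XX YY C
      (g * ((fst XX YY ≫ albX ≫ hA) * (snd XX YY ≫ albY ≫ hB))⁻¹) x₀ y₀ η[C] ?_ ?_
    · rw [MonObj.one_eq_one, MonObj.comp_one] at key
      rw [mul_inv_eq_one.mp key]
      simp [h, MonObj.comp_mul, XX, YY]
    · simp only [MonObj.comp_mul, GrpObj.comp_inv, lift_fst_assoc, lift_snd_assoc, Category.id_comp,
        Category.assoc]
      rw [hAe, reassoc_of% halbY, IsMonHom.one_hom]
      simp [MonObj.one_eq_one]
    · simp only [MonObj.comp_mul, GrpObj.comp_inv, lift_fst_assoc, lift_snd_assoc, Category.id_comp,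
        Category.assoc]
      rw [hBe, reassoc_of% halbX, IsMonHom.one_hom]
      simp [MonObj.one_eq_one]
  refine ⟨h, ⟨hh, hdecomp⟩, ?_⟩
  rintro h' ⟨hh', he'⟩
  haveI := hh'
  let i₁ : A ⟶ A ⊗ B := lift (𝟙 A) 1
  let i₂ : B ⟶ A ⊗ B := lift 1 (𝟙 B)
  have hone : ∀ {P Q : Over (Spec (CommRingCat.of k))} [GrpObj P] [GrpObj Q], IsMonHom (1 : P ⟶ Q) :=
    ⟨by rw [MonObj.comp_one]; simp [MonObj.one_eq_one], by
      rw [MonObj.comp_one, show ((1 : _ ⟶ _) ⊗ₘ (1 : _ ⟶ _)) = lift (fst _ _ ≫ 1) (snd _ _ ≫ 1) from (lift_fst_comp_snd_comp _ _).symm,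
        MonObj.comp_one, MonObj.comp_one, ← Hom.mul_def, _root_.mul_one]⟩
  haveI := hone (P := A) (Q := B)
  haveI := hone (P := B) (Q := A)
  have hi₁ : IsMonHom i₁ := inferInstance
  have hi₂ : IsMonHom i₂ := inferInstance
  have e₁ : i₁ ≫ h' = hA := by
    refine hAu _ ⟨inferInstance, ?_⟩
    rw [← he', ← Category.assoc, ← Category.assoc]
    congr 1
    ext <;> simp [i₁, XX, MonObj.one_eq_one, halbY]
  have e₂ : i₂ ≫ h' = hB := by
    refine hBu _ ⟨inferInstance, ?_⟩
    rw [← he', ← Category.assoc, ← Category.assoc]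
    congr 1
    ext <;> simp [i₂, YY, MonObj.one_eq_one, halbX]
  have hid : 𝟙 (A ⊗ B) = (fst A B ≫ i₁) * (snd A B ≫ i₂) := by
    ext <;> simp [MonObj.mul_comp, i₁, i₂, MonObj.one_eq_one]
  rw [← Category.id_comp h', hid, MonObj.mul_comp, Category.assoc, Category.assoc, e₁, e₂]

end Groth.Agent.S14830
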