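import Groth.Statements.S1585
import Groth.Agent.Lib.Normalization.InFieldVariety
import Groth.Agent.Lib.Normalization.Birational

set_option autoImplicit false
universe u
open CategoryTheory CategoryTheory.Limits AlgebraicGeometry
open Variety

namespace Groth.Agent.S1585

/-- Part (1): and (4), for an integral scheme locally of finite type over a field: the normalization
morphism ν (normalization of X in its function field) is finite, dominant and an isomorphism over a
nonempty open, and the normalization is an integral scheme all of whose local rings are integrally
closed domains. (The quasi-compactness/quasi-separatedness binders on Spec K(X) → X always hold;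
they are needed only to form Mathlib's relative normalization.) -/
theorem result (k : Type u) [Field k] (X : Scheme.{u}) [X.Over (Spec (CommRingCat.of k))] [IsIntegral X] [LocallyOfFiniteType (X ↘ (Spec (CommRingCat.of k)))]
    [QuasiCompact (X.fromSpecStalk (genericPoint X))] [QuasiSeparated (X.fromSpecStalk (genericPoint X))] :
    IsFinite (Curv2.normalizationι X) ∧ IsDominant (Curv2.normalizationι X) ∧
      (∃ V : X.Opens, (V : Set X).Nonempty ∧ IsIso (Curv2.normalizationι X ∣_ V)) ∧
      IsIntegral (Curv2.normalization X) ∧ Pi1.IsNormalScheme (Curv2.normalization X) := by
  have hg : X.fromSpecStalk (genericPoint X) =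
      Spec.map (CommRingCat.ofHom (RingHom.id X.functionField)) ≫ X.fromSpecStalk (genericPoint X) :=
    (by
      show _ = Spec.map (𝟙 X.functionField) ≫ X.fromSpecStalk (genericPoint X)
      rw [Spec.map_id, Category.id_comp])
  have hfin := Groth.Agent.Lib.Normalization.InFieldVariety.isFinite_normalizationι k X
  obtain ⟨V, -, hne, hiso⟩ := Groth.Agent.Lib.Normalization.Birational.exists_iso X fun U hU hUa => by
    have h := hfin.finite_app U hUa
    have e : (algebraMap Γ(X, U) (integralClosure Γ(X, U) X.functionField)) =
        (Groth.Agent.Lib.Normalization.Basic.sectionsEquiv X hUa).toRingHom.comp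
          ((Curv2.normalizationι X).app U).hom := by
      ext a
      exact congrArg Subtype.val (Groth.Agent.Lib.Normalization.Basic.sectionsEquiv_app X hUa a).symm
    rw [← RingHom.finite_algebraMap, e]
    exact (RingHom.Finite.of_surjective _
      (Groth.Agent.Lib.Normalization.Basic.sectionsEquiv X hUa).surjective).comp h
  refine ⟨hfin, ?_, ⟨V, hne, hiso⟩, inferInstance,
    Groth.Agent.Lib.Normalization.InField.isNormalScheme _ _ hg⟩
  have : Surjective (Curv2.normalizationι X) :=
    ⟨Groth.Agent.Lib.Normalization.Basic.surjective_normalizationι X⟩
  infer_instance

end Groth.Agent.S1585
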