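import Groth.Statements.S14835
import Groth.Agent.S1566
import Groth.Agent.S1585
import Groth.Agent.Lib.CurveFF.GenusMonoCurve
import Groth.Agent.Lib.CurveFF.Hyp
import Groth.Agent.Lib.Curves.NormalConnected
import Groth.Agent.Lib.Regular.Quotient
import Groth.Agent.Lib.NeronIsog.Basic
-- import your own Groth.Agent.* helpers here

set_option autoImplicit false
universe u
open CategoryTheory CategoryTheory.Limits AlgebraicGeometry
open Curves

namespace Groth.Agent.S14835
open Groth.Agent.Lib
attribute [local instance] Curv2.stalkAlgebra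

/-- Let k be an algebraically closed field, C and B proper curves over k (proper k-schemes of dimension
one) with B connected and regular (all local rings regular), φ : C → B a k-morphism, and ι : C_i → C
a closed integral one-dimensional subscheme (an integral component) such that the composite C_i → B
is finite. Then dim_k H^1(C, O_C) ≥ dim_k H^1(C_i, O_{C_i}) ≥ dim_k H^1(B, O_B). -/
theorem result (k : Type u) [Field k] [IsAlgClosed k]
    (C B Ci : Scheme.{u}) [C.Over (Spec (CommRingCat.of k))] [B.Over (Spec (CommRingCat.of k))] [Ci.Over (Spec (CommRingCat.of k))]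
    [IsProper (C ↘ Spec (CommRingCat.of k))] [IsProper (B ↘ Spec (CommRingCat.of k))]
    (hC : topologicalKrullDim ↥C = 1) (hB : topologicalKrullDim ↥B = 1) [ConnectedSpace ↥B]
    (hBreg : ∀ b : B, IsRegularLocalRing (B.presheaf.stalk b))
    (φ : C ⟶ B) (hφ : φ ≫ (B ↘ Spec (CommRingCat.of k)) = C ↘ Spec (CommRingCat.of k))
    (ι : Ci ⟶ C) [IsClosedImmersion ι] [IsIntegral Ci] (hCi : topologicalKrullDim ↥Ci = 1)
    (hι : ι ≫ (C ↘ Spec (CommRingCat.of k)) = Ci ↘ Spec (CommRingCat.of k)) [IsFinite (ι ≫ φ)] :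
    Module.finrank k (Coh.HH Ci (Coh.structureModule Ci) 1) ≤ Module.finrank k (Coh.HH C (Coh.structureModule C) 1) ∧
      Module.finrank k (Coh.HH B (Coh.structureModule B) 1) ≤ Module.finrank k (Coh.HH Ci (Coh.structureModule Ci) 1) := by
  haveI : LocallyOfFiniteType (C ↘ Spec (CommRingCat.of k)) := inferInstance
  haveI : IsProper (Ci ↘ Spec (CommRingCat.of k)) := hι ▸ inferInstance
  refine ⟨Groth.Agent.S1566.result k C Ci hC.le ι hι ⊤ dense_univ
    (IsZariskiLocalAtTarget.restrict (P := @IsClosedImmersion) inferInstance ⊤), ?_⟩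
  have hdomB : ∀ b : B, IsDomain (B.presheaf.stalk b) := fun b => by
    haveI := hBreg b
    exact Regular.Quotient.isDomain _
  haveI : CompactSpace B := QuasiCompact.compactSpace_of_compactSpace (B ↘ Spec (CommRingCat.of k))
  haveI : IsLocallyNoetherian B := LocallyOfFiniteType.isLocallyNoetherian (B ↘ Spec (CommRingCat.of k))
  haveI : IsNoetherian B := {}
  haveI : IsIntegral B := Curves.NormalConnected.isIntegral hdomB
  have hBc := CurveFF.curveHyp_of_regular k hB hBreg
  haveI : CompactSpace Ci := QuasiCompact.compactSpace_of_compactSpace (Ci ↘ Spec (CommRingCat.of k))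
  haveI : IsLocallyNoetherian Ci := LocallyOfFiniteType.isLocallyNoetherian (Ci ↘ Spec (CommRingCat.of k))
  haveI : IsNoetherian Ci := {}
  haveI : QuasiCompact (Ci.fromSpecStalk (genericPoint Ci)) := inferInstance
  haveI : QuasiSeparated (Ci.fromSpecStalk (genericPoint Ci)) := inferInstance
  obtain ⟨hfin, hdom, ⟨V, hVne, hiso⟩, hint, hnorm⟩ := Groth.Agent.S1585.result k Ci
  let ν := Curv2.normalizationι Ci
  letI : (Curv2.normalization Ci).Over (Spec (CommRingCat.of k)) := ⟨ν ≫ (Ci ↘ Spec (CommRingCat.of k))⟩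
  haveI : IsProper (Curv2.normalization Ci ↘ Spec (CommRingCat.of k)) :=
    inferInstanceAs (IsProper (ν ≫ (Ci ↘ Spec (CommRingCat.of k))))
  haveI : Surjective ν := ⟨by
    intro x
    have hr : IsClosed (Set.range ν) := ν.isClosedMap.isClosed_range
    have hd : DenseRange ν := hdom.denseRange
    have hx : x ∈ Set.range ν := by
      rw [← hr.closure_eq]
      exact hd x
    exact hx⟩
  let u : Over.mk (Curv2.normalization Ci ↘ Spec (CommRingCat.of k)) ⟶
      Over.mk (Ci ↘ Spec (CommRingCat.of k)) := Over.homMk ν rfl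
  haveI : LocallyQuasiFinite u.left := inferInstanceAs (LocallyQuasiFinite ν)
  haveI : Surjective u.left := inferInstanceAs (Surjective ν)
  haveI : LocallyOfFiniteType (Over.mk (Curv2.normalization Ci ↘ Spec (CommRingCat.of k))).hom :=
    inferInstanceAs (LocallyOfFiniteType (Curv2.normalization Ci ↘ Spec (CommRingCat.of k)))
  haveI : LocallyOfFiniteType (Over.mk (Ci ↘ Spec (CommRingCat.of k))).hom :=
    inferInstanceAs (LocallyOfFiniteType (Ci ↘ Spec (CommRingCat.of k)))
  have hdN : topologicalKrullDim ↥(Curv2.normalization Ci) = 1 :=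
    (NeronIsog.dim_eq_of_surjective u).trans hCi
  have hN := CurveFF.curveHyp_of_isNormalScheme k hdN hnorm
  haveI : IsFinite (ν ≫ ι ≫ φ) := inferInstance
  have h1 : Curv2.genus k (Curv2.normalization Ci) ≤ Curv2.genus k Ci :=
    Groth.Agent.S1566.result k Ci _ hCi.le ν rfl V (V.2.dense hVne) inferInstance
  have h2 := CurveFF.GenusMonoCurve.genus_le hN hBc (ν ≫ ι ≫ φ)
    (by rw [Category.assoc, Category.assoc, hφ, hι]; rfl)
    (CurveFF.CoverField.generic_eq hdN hB (ν ≫ ι ≫ φ))
  exact h2.trans h1

end Groth.Agent.S14835
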