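import Groth.Statements.S14836
import Groth.Agent.Lib.TensorMod.LocIso
import Groth.Agent.Lib.TensorMod.LocFree
import Groth.Prelude.Def_PicLoc

set_option autoImplicit false
universe u
open CategoryTheory CategoryTheory.Limits AlgebraicGeometry
open Formal2

namespace Groth.Agent.S14836

/-- Let k be a field and f : X → Y a k-morphism between proper k-schemes which is a fibration, i.e. O_Y
→ f_*O_X is an isomorphism (Γ(V, O_Y) → Γ(f⁻¹V, O_X) bijective for every open V ⊆ Y). Then N ↦ f^*N
is injective on Picard groups: every invertible O_Y-module whose pullback to X is trivial is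
trivial. -/
theorem result (k : Type u) [Field k] (X Y : Scheme.{u})
    [X.Over (Spec (CommRingCat.of k))] [Y.Over (Spec (CommRingCat.of k))] [IsProper (X ↘ Spec (CommRingCat.of k))] [IsProper (Y ↘ Spec (CommRingCat.of k))]
    (f : X ⟶ Y) (hf : f ≫ (Y ↘ Spec (CommRingCat.of k)) = X ↘ Spec (CommRingCat.of k)) (hfib : ∀ V : Y.Opens, IsIso (f.app V)) :
    Formal2.PicPullbackInjective f := by
  intro L hL ⟨e⟩
  have hLF : FlatMod.IsFinLocFree L := fun x => by
    obtain ⟨U, hx, i⟩ := Groth.Agent.Lib.TensorMod.LocFree.of_isInvertible hL x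
    exact ⟨U, 1, hx, i⟩
  have hOF : FlatMod.IsFinLocFree (Coh.structureModule Y) := fun x =>
    ⟨⊤, 1, trivial, ⟨Scheme.Modules.restrictUnitIso _ ≪≫
      (Groth.Agent.Lib.TensorMod.LocFree.freeModOneIso _).symm⟩⟩
  have h1 := Groth.Agent.Lib.TensorMod.LocIso.isIso_unit_of_isFinLocFree f hfib hLF
  have h2 := Groth.Agent.Lib.TensorMod.LocIso.isIso_unit_of_isFinLocFree f hfib hOF
  let eO := PicLoc.pullbackStructureIso f
  exact ⟨@asIso _ _ _ _ _ h1 ≪≫ (Scheme.Modules.pushforward f).mapIso (e ≪≫ eO.symm) ≪≫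
    (@asIso _ _ _ _ _ h2).symm⟩

end Groth.Agent.S14836
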