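import Groth.Statements.S14837
import Groth.Agent.Lib.ZarCoh.Linear
import Groth.Agent.Lib.Snapper.Finite
import Groth.Agent.Lib.Snapper.Twist
import Groth.Agent.Lib.Curves.LES
import Groth.Agent.Lib.Modules.Free

set_option autoImplicit false
universe u
open CategoryTheory CategoryTheory.Limits AlgebraicGeometry
open Coh

namespace Groth.Agent.S14837

open Groth.Agent.Lib

/-- Let k be a field and f : X → Y a k-morphism between proper k-schemes which is a fibration (Γ(V, O_Y)
→ Γ(f⁻¹V, O_X) bijective for every open V ⊆ Y). Then H^1(Y, O_Y) injects naturally into H^1(X, O_X)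
(edge map of the Leray spectral sequence); stated here as the inequality dim_k H^1(Y, O_Y) ≤ dim_k
H^1(X, O_X) of finite dimensions. -/
theorem result (k : Type u) [Field k] (X Y : Scheme.{u})
    [X.Over (Spec (CommRingCat.of k))] [Y.Over (Spec (CommRingCat.of k))] [IsProper (X ↘ Spec (CommRingCat.of k))] [IsProper (Y ↘ Spec (CommRingCat.of k))]
    (f : X ⟶ Y) (hf : f ≫ (Y ↘ Spec (CommRingCat.of k)) = X ↘ Spec (CommRingCat.of k)) (hfib : ∀ V : Y.Opens, IsIso (f.app V)) :
    Module.finrank k (Coh.HH Y (Coh.structureModule Y) 1) ≤ Module.finrank k (Coh.HH X (Coh.structureModule X) 1) := by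
  let φ : Coh.structureModule Y ⟶ (Coh.push f).obj (Coh.structureModule X) :=
    Modules.Free.unitHom ((Coh.push f).obj (Coh.structureModule X)) (1 : Γ(X, ⊤))
  have hφ : ∀ (V : Y.Opens) (a : Γ(Y, V)), φ.app V a = f.app V a := fun V a => by
    refine (Modules.Free.unitHom_app _ _ V a).trans ?_
    change f.app V a * (X.presheaf.map (homOfLE (le_top : f ⁻¹ᵁ V ≤ ⊤)).op) (1 : Γ(X, ⊤)) = _
    rw [map_one, mul_one]
  haveI : IsIso φ := (Modules.Stalk.isIso_iff_app_bijective φ).2 fun V => by
    haveI := hfib V
    have h := ConcreteCategory.bijective_of_isIso (f.app V)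
    rwa [show (φ.app V : _ → _) = f.app V from funext (hφ V)]
  let g : Coh.HH Y ((Coh.push f).obj (Coh.structureModule X)) 1 →ₗ[k] Coh.HH X (Coh.structureModule X) 1 :=
    { toFun := ZarCoh.PushH.pushH f.base (Coh.toAb (Coh.structureModule X)) 1
      map_add' := fun a b => map_add _ a b
      map_smul' := fun a x => ZarCoh.Morph.pushH_smul f _ 1 _ _
        (ZarCoh.Linear.toGlobal_comp f hf a) x }
  have hg : Function.Injective g :=
    ((ZarCoh.Compare.hTop (Coh.toAb (Coh.structureModule X)) 1).symm.injective.comp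
      (((ZarCoh.Push.bijective_and_injective (f := f.base) (B := Set.univ) ⊤
        (TopologicalSpace.Opens.isBasis_iff_nbhd.2 fun {U _} hx ↦ ⟨U, Set.mem_univ _, hx, le_rfl⟩)
        0 (Coh.toAb (Coh.structureModule X)) (ZarCoh.Push.van_zero _)).2).comp
      (ZarCoh.Compare.hTop ((CohTop.push f.base).obj (Coh.toAb (Coh.structureModule X))) 1).injective))
  haveI : IsLocallyNoetherian X := LocallyOfFiniteType.isLocallyNoetherian (X ↘ Spec (CommRingCat.of k))
  haveI := Snapper.Finite.cohFinite k X (Coh.structureModule X) (Snapper.Twist.isCoh_structureModule X) 1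
  rw [(Curves.LES.isoK k (asIso φ) 1).finrank_eq]
  exact LinearMap.finrank_le_finrank_of_injective hg

end Groth.Agent.S14837
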