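import Groth.Statements.S14839
import Groth.Agent.H66.Coeff
-- import your own Groth.Agent.* helpers here

set_option autoImplicit false
universe u v
open HopfRep

namespace Groth.Agent.S14839
open TensorProduct Groth.Agent.Lib.Comod.Basic Groth.Agent.H66.DualMod Groth.Agent.H66.Coeff
set_option linter.style.haveILetI false

open TensorProduct in
/-- Over a field K, every simple coalgebra is finite-dimensional. Here a subcoalgebra of C is a subspace
B whose comultiplication lands in the image of B ⊗ B in C ⊗ C, and C is simple when it is nonzero
and its only subcoalgebras are 0 and C. -/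
theorem result {K : Type u} {C : Type v} [Field K] [AddCommGroup C]
    [Module K C] [Coalgebra K C] [Nontrivial C]
    (hsimple : ∀ B : Submodule K C,
      (∀ b ∈ B, CoalgebraStruct.comul (R := K) b ∈ LinearMap.range (TensorProduct.map B.subtype B.subtype)) →
        B = ⊥ ∨ B = ⊤) :
    Module.Finite K C := by
  have htop : H66.Coeff.IsSimpleSubcoalg (k := K) (⊤ : Submodule K C) := by
    refine ⟨top_ne_bot, fun b _ => ?_, fun B _ hB => hsimple B hB⟩
    have : Function.Surjective (TensorProduct.map (⊤ : Submodule K C).subtype (⊤ : Submodule K C).subtype) :=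
      TensorProduct.map_surjective (fun x => ⟨⟨x, trivial⟩, rfl⟩) (fun x => ⟨⟨x, trivial⟩, rfl⟩)
    exact this _
  obtain ⟨E, h1, h2, h3, h4, h5⟩ := exists_simple_le (k := K) (C := C) (V := C) isSubcomod_top top_ne_bot
  letI := subComod E h3
  haveI : Module.Finite K E := Module.Finite.iff_fg.2 h4
  have heq := coeffSpace_subComod_eq htop h3 h2 h1
  haveI := finite_coeffSpace (k := K) (C := C) (V := E)
  exact Module.Finite.equiv ((LinearEquiv.ofEq _ _ heq).trans Submodule.topEquiv)

end Groth.Agent.S14839
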