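import Groth.Statements.S1484
import Mathlib.RingTheory.Algebraic.Integral
import Mathlib.RingTheory.LocalRing.ResidueField.Ideal
import Mathlib.RingTheory.Ideal.Operations

set_option autoImplicit false
universe u
open FlatMor

namespace Groth.Agent.S1484

/-- Let R be a ring, p_1, …, p_r primes of R none of which is contained in another, k_i ⊆ κ(p_i)
subfields over which κ(p_i) is not algebraic, and J an ideal of R contained in none of the p_i. Then
some x ∈ J has image in κ(p_i) transcendental over k_i for every i. -/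
theorem result {R : Type u} [CommRing R] {r : ℕ} (p : Fin r → Ideal R) [∀ i, (p i).IsPrime]
    (hp : ∀ i j, i ≠ j → ¬ p i ≤ p j) (k : ∀ i, Subfield (p i).ResidueField)
    (hk : ∀ i, ¬ Algebra.IsAlgebraic ↥(k i) (p i).ResidueField) (J : Ideal R) (hJ : ∀ i, ¬ J ≤ p i) :
    ∃ x ∈ J, ∀ i, Transcendental ↥(k i) (algebraMap R (p i).ResidueField x) := by
  classical
  let φ : ∀ i, R →+* (p i).ResidueField := fun i => algebraMap R (p i).ResidueField
  have h0 : ∀ i, ∀ a : R, a ∈ p i → φ i a = 0 := fun i a ha =>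
    Ideal.algebraMap_residueField_eq_zero.mpr ha
  have hy : ∀ i, ∃ y ∈ J, (∀ j, j ≠ i → y ∈ p j) ∧ Transcendental ↥(k i) (φ i y) := by
    intro i
    obtain ⟨ξ, hξ⟩ : ∃ ξ, Transcendental ↥(k i) ξ := by
      by_contra hcon
      push Not at hcon
      exact hk i ⟨fun z => not_not.mp (hcon z)⟩
    obtain ⟨a, b, -, hab⟩ := IsFractionRing.div_surjective (A := R ⧸ p i) ξ
    obtain ⟨a, rfl⟩ := Ideal.Quotient.mk_surjective a
    obtain ⟨b, rfl⟩ := Ideal.Quotient.mk_surjective b
    obtain ⟨x, hx⟩ : ∃ x, Transcendental ↥(k i) (φ i x) := by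
      by_contra hcon
      push Not at hcon
      apply hξ
      rw [← hab, div_eq_mul_inv]
      exact (show IsAlgebraic ↥(k i) (φ i a) from not_not.mp (hcon a)).mul
        (show IsAlgebraic ↥(k i) (φ i b) from not_not.mp (hcon b)).inv
    obtain ⟨d, hdJ, hd⟩ := SetLike.not_le_iff_exists.mp (hJ i)
    have he : ∀ j, ∃ e ∈ p j, j ≠ i → e ∉ p i := fun j => by
      by_cases hji : j = i
      · exact ⟨0, zero_mem _, fun h => absurd hji h⟩
      · obtain ⟨e, h1, h2⟩ := SetLike.not_le_iff_exists.mp (hp j i hji)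
        exact ⟨e, h1, fun _ => h2⟩
    choose e he1 he2 using he
    set t := d * ∏ j ∈ Finset.univ.erase i, e j with ht
    have htJ : t ∈ J := Ideal.mul_mem_right _ _ hdJ
    have htj : ∀ j, j ≠ i → t ∈ p j := fun j hj => Ideal.mul_mem_left _ _
      (Ideal.mem_of_dvd _ (Finset.dvd_prod_of_mem _ (Finset.mem_erase.mpr ⟨hj, Finset.mem_univ j⟩)) (he1 j))
    have hti : φ i t ≠ 0 := fun h => by
      rcases (inferInstance : (p i).IsPrime).mem_or_mem (Ideal.algebraMap_residueField_eq_zero.mp h) with h | h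
      · exact hd h
      · obtain ⟨j, hj, hjm⟩ := Ideal.IsPrime.prod_mem_iff.mp h
        exact he2 j (Finset.mem_erase.mp hj).1 hjm
    by_cases htt : Transcendental ↥(k i) (φ i t)
    · exact ⟨t, htJ, htj, htt⟩
    refine ⟨t * x, Ideal.mul_mem_right _ _ htJ, fun j hj => Ideal.mul_mem_right _ _ (htj j hj), fun halg => hx ?_⟩
    have h3 := (not_not.mp htt : IsAlgebraic ↥(k i) (φ i t)).inv.mul halg
    rwa [map_mul (φ i) t x, inv_mul_cancel_left₀ hti] at h3
  choose y hyJ hyp hyt using hy
  refine ⟨∑ i, y i, sum_mem fun i _ => hyJ i, fun i => ?_⟩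
  show Transcendental ↥(k i) (φ i (∑ j, y j))
  rw [map_sum, Finset.sum_eq_single i (fun j _ hj => h0 i _ (hyp j i (Ne.symm hj))) (fun h => absurd (Finset.mem_univ i) h)]
  exact hyt i

end Groth.Agent.S1484
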