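import Groth.Statements.S14842
import Groth.Agent.H66.Coeff
-- import your own Groth.Agent.* helpers here

set_option autoImplicit false
universe u v
open HopfRep

namespace Groth.Agent.S14842
open TensorProduct Groth.Agent.Lib.Comod.Basic Groth.Agent.H66.DualMod Groth.Agent.H66.Coeff
set_option linter.style.haveILetI false

open TensorProduct in
/-- Over a field K, every simple subcoalgebra D of a coalgebra C is the coefficient space of a simple
comodule. Precisely: there is a subspace E of C contained in D which is a simple subcomodule of the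
regular right comodule C (E is nonzero, stable under the coaction, and its only subcomodules are 0
and E) and such that D is the least subspace D' of C with comul(E) inside the image of E ⊗ D'. Here
a subcoalgebra of C is a subspace B whose comultiplication lands in the image of B ⊗ B, and a simple
subcoalgebra is a nonzero subcoalgebra D whose only subcoalgebras contained in D are 0 and D.
(Stated for right comodules; the published statement is for left comodules.) -/
theorem result {K : Type u} {C : Type v} [Field K]
    [AddCommGroup C] [Module K C] [Coalgebra K C]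
    (D : Submodule K C) (hD0 : D ≠ ⊥) (hD : (∀ b ∈ D, CoalgebraStruct.comul (R := K) b ∈ LinearMap.range (TensorProduct.map D.subtype D.subtype)))
    (hDs : ∀ B : Submodule K C, B ≤ D → (∀ b ∈ B, CoalgebraStruct.comul (R := K) b ∈ LinearMap.range (TensorProduct.map B.subtype B.subtype)) → B = ⊥ ∨ B = D) :
    ∃ E : Submodule K C, E ≤ D ∧ E ≠ ⊥ ∧ HopfRep.IsSubcomod (k := K) (A := C) E ∧
      (∀ E' : Submodule K C, E' ≤ E → HopfRep.IsSubcomod (k := K) (A := C) E' → E' = ⊥ ∨ E' = E) ∧
      IsLeast {D' : Submodule K C |
        ∀ e ∈ E, CoalgebraStruct.comul (R := K) e ∈ LinearMap.range (TensorProduct.map E.subtype D'.subtype)} D := by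
  obtain ⟨E, h1, h2, h3, -, h5⟩ := exists_simple_le
    (U := D) (H66.Coeff.IsSubcoalg.isSubcomod (B := D) hD) hD0
  refine ⟨E, h1, h2, h3, h5, ?_⟩
  letI := subComod E h3
  have heq := coeffSpace_subComod_eq (D := D) ⟨hD0, hD, hDs⟩ h3 h2 h1
  have key : ∀ D' : Submodule K C,
      (∀ e ∈ E, CoalgebraStruct.comul (R := K) e ∈ LinearMap.range (TensorProduct.map E.subtype D'.subtype)) ↔
        coeffSpace K C E ≤ D' := by
    intro D'
    rw [coeffSpace_le_iff]
    constructor
    · intro h e
      obtain ⟨z, hz⟩ := h e.1 e.2
      refine ⟨z, subtype_rTensor_injective E ?_⟩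
      rw [← LinearMap.comp_apply (E.subtype.rTensor C), LinearMap.rTensor_comp_lTensor, hz]
      exact (LinearMap.congr_fun (subCoact_spec E h3) e).symm
    · intro h e he
      obtain ⟨z, hz⟩ := h ⟨e, he⟩
      refine ⟨z, ?_⟩
      rw [← LinearMap.rTensor_comp_lTensor, LinearMap.comp_apply, hz]
      exact LinearMap.congr_fun (subCoact_spec E h3) ⟨e, he⟩
  exact ⟨(key D).2 heq.le, fun D' hD' => heq.ge.trans ((key D').1 hD')⟩

end Groth.Agent.S14842
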