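import Groth.Statements.S14843
import Groth.Agent.H66.Coeff
-- import your own Groth.Agent.* helpers here

set_option autoImplicit false
universe u v
open HopfRep

namespace Groth.Agent.S14843
open TensorProduct Groth.Agent.Lib.Comod.Basic Groth.Agent.H66.DualMod Groth.Agent.H66.Coeff
set_option linter.style.haveILetI false

open TensorProduct in
/-- Over a field K, a coalgebra C is cosemisimple, i.e. C is the internal direct sum of a family of
simple subcoalgebras, if and only if every right C-comodule is completely reducible (every
subcomodule admits a complementary subcomodule). Here a subcoalgebra of C is a subspace B whose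
comultiplication lands in the image of B ⊗ B, and a simple subcoalgebra is a nonzero subcoalgebra D
whose only subcoalgebras contained in D are 0 and D. (Comodules are quantified in the universe of C;
the published statement is for left comodules, and the equivalence of 'direct sum of simple
subcomodules' with 'every subcomodule is a direct summand' is the standard one.) -/
theorem result {K : Type u} {C : Type v} [Field K]
    [AddCommGroup C] [Module K C] [Coalgebra K C] :
    (∃ (ι : Type v) (D : ι → Submodule K C), iSupIndep D ∧ iSup D = ⊤ ∧ ∀ i,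
        D i ≠ ⊥ ∧ (∀ b ∈ D i, CoalgebraStruct.comul (R := K) b ∈ LinearMap.range (TensorProduct.map (D i).subtype (D i).subtype)) ∧
        ∀ B : Submodule K C, B ≤ D i → (∀ b ∈ B, CoalgebraStruct.comul (R := K) b ∈ LinearMap.range (TensorProduct.map B.subtype B.subtype)) → B = ⊥ ∨ B = D i) ↔
      ∀ (V : Type v) [AddCommGroup V] [Module K V] [HopfRep.Comod K C V],
        HopfRep.IsSemisimpleComod K C V := by
  letI := module K C C
  constructor
  · rintro ⟨ι, D, -, htop, hD⟩ V iA iM iC
    have hreg : IsSemisimpleModule (CDual K C) C := by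
      refine isSemisimpleModule_of_isSemisimpleModule_submodule'
        (p := fun i => toSub (D i) (H66.Coeff.IsSubcoalg.isSubcomod (B := D i) (hD i).2.1)) (fun i => ?_) ?_
      · obtain ⟨_, hss⟩ := isSemisimple_simpleSubcoalg (D := D i) (hD i)
        exact hss
      · exact ofSub_inj (by rw [ofSub_iSup]; exact htop)
    letI := module K C V
    letI := module K C (Hoch.Ind K C V)
    rw [isSemisimpleComod_iff]
    let m : V → C →ₗ[K] Hoch.Ind K C V := fun v =>
      (Hoch.Ind.equiv K C V).toLinearMap ∘ₗ TensorProduct.mk K V C v
    have hm : ∀ v, Hoch.IsComodHom C (m v) := by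
      intro v
      refine LinearMap.ext fun c => ?_
      change Hoch.Ind.coactAux K C V (v ⊗ₜ c) = (TensorProduct.mk K V C v).rTensor C (CoalgebraStruct.comul c)
      rw [Hoch.Ind.coactAux_tmul]
      induction Coalgebra.comul (R := K) c using TensorProduct.induction_on with
      | zero => simp
      | add x y hx hy => simp only [TensorProduct.tmul_add, map_add, hx, hy]
      | tmul a b => simp
    haveI : IsSemisimpleModule (CDual K C) (Hoch.Ind K C V) := by
      refine isSemisimpleModule_of_isSemisimpleModule_submodule'
        (p := fun v => LinearMap.range (homOf (m v) (hm v))) (fun v => IsSemisimpleModule.range _) ?_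
      refine ofSub_inj ?_
      rw [ofSub_iSup]
      refine eq_top_iff.2 fun x _ => ?_
      induction x using TensorProduct.induction_on with
      | zero => exact Submodule.zero_mem _
      | add x y hx hy => exact Submodule.add_mem _ (hx trivial) (hy trivial)
      | tmul v c => exact Submodule.mem_iSup_of_mem v ⟨c, rfl⟩
    have hr : Hoch.IsComodHom C (Hoch.toInd K C V) := by
      refine LinearMap.ext fun v => ?_
      change Hoch.Ind.coactAux K C V (HopfRep.Comod.coact (k := K) (A := C) v) =
        (HopfRep.Comod.coact (k := K) (A := C) (V := V)).rTensor C (HopfRep.Comod.coact (k := K) (A := C) v)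
      rw [H66.Base.coassoc_symm_apply]
      rfl
    exact IsSemisimpleModule.of_injective (homOf (Hoch.toInd K C V) hr) H66.Base.coact_injective
  · intro h
    haveI := isSemisimpleComod_iff.1 (h C)
    refine ⟨{D : Submodule K C // H66.Coeff.IsSimpleSubcoalg D}, fun D => D.1, ?_, ?_, fun D => D.2⟩
    · intro D
      rw [disjoint_iff]
      by_contra h0
      have hsub := isSubcomod_iSup fun D' : {D : Submodule K C // H66.Coeff.IsSimpleSubcoalg D} =>
        isSubcomod_iSup fun _ : D' ≠ D => H66.Coeff.IsSubcoalg.isSubcomod D'.2.2.1
      obtain ⟨E, e1, e2, e3, -, e5⟩ := exists_simple_le (isSubcomod_inf (H66.Coeff.IsSubcoalg.isSubcomod D.2.2.1) hsub) h0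
      have hN : IsSimpleModule (CDual K C) (toSub E e3) :=
        (isSimpleModule_iff_of_sub _).2 ⟨e2, fun W' hW' hle => e5 W' hle hW'⟩
      let s : Set (Submodule (CDual K C) C) :=
        {N | IsSimpleModule (CDual K C) N ∧ ∃ D', D' ≠ D ∧ ofSub N ≤ D'.1}
      haveI hsS : ∀ m : s, IsSimpleModule (CDual K C) m := fun m => m.2.1
      have hle : toSub E e3 ≤ sSup s := by
        refine (ofSub_le_iff _ _).1 ((e1.trans inf_le_right).trans (iSup₂_le fun D' hD' => ?_))
        have := IsSemisimpleModule.sSup_simples_le (R := CDual K C) (toSub D'.1 (H66.Coeff.IsSubcoalg.isSubcomod D'.2.2.1))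
        conv_lhs => rw [show D'.1 = ofSub (toSub D'.1 (H66.Coeff.IsSubcoalg.isSubcomod D'.2.2.1)) from rfl, ← this]
        refine (ofSub_le_iff _ _).2 (sSup_le fun N hN => le_sSup ?_)
        exact ⟨hN.1, D', hD', hN.2⟩
      obtain ⟨N, ⟨hNs, D', hD', hND'⟩, ⟨e⟩⟩ := Submodule.linearEquiv_of_le_sSup (toSub E e3) s hle
      refine hD' (Subtype.ext ?_)
      letI := subComod E e3
      have hE := isSimpleComod_subComod e3 e2 e5
      letI := module K C E
      have hsubN := isSubcomod_ofSub N
      obtain ⟨hN0, hN1⟩ := (isSimpleModule_iff_of_sub N).1 hNs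
      rw [← coeffSpace_subComod_eq D'.2 hsubN hN0 hND',
        ← coeffSpace_subComod_eq D.2 e3 e2 (e1.trans inf_le_left)]
      letI := subComod (ofSub N) hsubN
      letI := module K C (ofSub N)
      let g : E →ₗ[K] C := homBack (N.subtype ∘ₗ (e.toLinearMap ∘ₗ
        LinearMap.codRestrict (toSub E e3) (homOf E.subtype (isComodHom_subtype e3)) fun x => x.2))
      have hginj : Function.Injective g := by
        intro a b hab
        exact Subtype.ext (congrArg Subtype.val (e.injective (N.injective_subtype hab)) :)
      refine le_antisymm ?_ ?_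
      · have hbij : Function.Surjective (fun x : E => (⟨g x, (e _).2⟩ : ofSub N)) := fun y => by
          obtain ⟨x, hx⟩ := e.surjective ⟨y.1, y.2⟩
          exact ⟨⟨x.1, x.2⟩, Subtype.ext (congrArg Subtype.val hx)⟩
        refine iSup_le fun φ => ?_
        rintro _ ⟨y, rfl⟩
        obtain ⟨x, rfl⟩ := hbij y
        let G : E →ₗ[K] ofSub N := LinearMap.codRestrict (ofSub N) g fun x => (e _).2
        have hG : Hoch.IsComodHom C G := by
          refine (isComodHom_iff _).2 fun ψ z => Subtype.ext ?_
          have h1 := map_dact (isComodHom_homBack _ : Hoch.IsComodHom C g) ψ z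
          have h2 := map_dact (isComodHom_subtype hsubN) ψ (G z)
          exact h1.trans h2.symm
        change coeff φ (G x) ∈ _
        rw [coeff_comp hG]
        exact coeff_mem _ _
      · refine coeffSpace_le_of_injective (g := g) (isComodHom_homBack _) hginj isSubcoalg_coeffSpace fun x => ?_
        have hy : g x ∈ ofSub N := (e _).2
        have := eq_coeff (isComodHom_subtype hsubN)
        rw [show g x = (ofSub N).subtype ⟨g x, hy⟩ from rfl, this]
        exact coeff_mem _ _
    · refine eq_top_iff.2 ?_
      rw [← ofSub_top (k := K) (C := C) (V := C), ← IsSemisimpleModule.sSup_simples_eq_top (CDual K C) C, ofSub_sSup]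
      refine iSup₂_le fun N hN => ?_
      obtain ⟨hN0, hN1⟩ := (isSimpleModule_iff_of_sub N).1 hN
      have hsubN := isSubcomod_ofSub N
      letI := subComod (ofSub N) hsubN
      have hs := isSimpleComod_subComod hsubN hN0 fun E' a b => hN1 E' b a
      refine le_iSup_of_le ⟨_, isSimpleSubcoalg_coeffSpace hs⟩ fun x hx => ?_
      have := eq_coeff (isComodHom_subtype hsubN)
      rw [show x = (ofSub N).subtype ⟨x, hx⟩ from rfl, this]
      exact coeff_mem _ _

end Groth.Agent.S14843
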