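import Groth.Statements.S14844
import Mathlib.Algebra.DirectSum.Module
import Mathlib.LinearAlgebra.TensorProduct.RightExactness
-- import your own Groth.Agent.* helpers here

set_option autoImplicit false
universe u v w w'
open HopfRep

namespace Groth.Agent.S14844

open TensorProduct in
/-- Let R be a commutative ring and C an R-coalgebra, flat over R, which is the internal direct sum of
subcoalgebras D_i (submodules whose comultiplication lands in the image of D_i ⊗ D_i, independent
and with supremum C). Then every right C-comodule V is the internal direct sum of the subcomodules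
V_i, where V_i is the preimage under the coaction of the image of V ⊗ D_i in V ⊗ C, and the coaction
maps V_i into the image of V_i ⊗ D_i, so that the comodule structure of V_i reduces to a
D_i-comodule structure. (The published statement is for a flat sheaf of coalgebras over a base
scheme and left comodules on a scheme over it; this row is the case of an affine base with modules
of global sections, for right comodules.) -/
theorem result {R : Type u} {C : Type v} [CommRing R]
    [AddCommGroup C] [Module R C] [Coalgebra R C] [Module.Flat R C]
    {ι : Type w} (D : ι → Submodule R C)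
    (hD : ∀ i, ∀ d ∈ D i, CoalgebraStruct.comul (R := R) d ∈
      LinearMap.range (TensorProduct.map (D i).subtype (D i).subtype))
    (hind : iSupIndep D) (htop : iSup D = ⊤)
    {V : Type w'} [AddCommGroup V] [Module R V] [HopfRep.Comod R C V] :
    (∀ i, HopfRep.IsSubcomod (k := R) (A := C) ((LinearMap.range (LinearMap.lTensor V (D i).subtype)).comap
        (HopfRep.Comod.coact (k := R) (A := C) (V := V)))) ∧
    iSupIndep (fun i => ((LinearMap.range (LinearMap.lTensor V (D i).subtype)).comap
        (HopfRep.Comod.coact (k := R) (A := C) (V := V)))) ∧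
    (⨆ i, ((LinearMap.range (LinearMap.lTensor V (D i).subtype)).comap
        (HopfRep.Comod.coact (k := R) (A := C) (V := V)))) = ⊤ ∧
    ∀ i, ∀ v ∈ ((LinearMap.range (LinearMap.lTensor V (D i).subtype)).comap
        (HopfRep.Comod.coact (k := R) (A := C) (V := V))),
      HopfRep.Comod.coact (k := R) (A := C) v ∈
        LinearMap.range (TensorProduct.map ((LinearMap.range (LinearMap.lTensor V (D i).subtype)).comap
        (HopfRep.Comod.coact (k := R) (A := C) (V := V))).subtype (D i).subtype) := by
  classical
  have hint := DirectSum.isInternal_submodule_of_iSupIndep_of_iSup_eq_top hind htop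
  let e := LinearEquiv.ofBijective (DirectSum.coeLinearMap D) hint
  let p : ι → (C →ₗ[R] C) := fun i =>
    (D i).subtype ∘ₗ DirectSum.component R ι (fun i => D i) i ∘ₗ e.symm.toLinearMap
  have hp1 : ∀ i j, ∀ d ∈ D j, p i d = if i = j then d else 0 := by
    intro i j d hd
    have : e.symm d = DirectSum.lof R ι (fun i => D i) j ⟨d, hd⟩ := by
      rw [LinearEquiv.symm_apply_eq]
      exact (DirectSum.coeLinearMap_of D j ⟨d, hd⟩).symm
    simp only [p, LinearMap.comp_apply, LinearEquiv.coe_coe, this]
    by_cases h : i = j
    · subst h; simp [DirectSum.component.lof_self]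
    · rw [if_neg h, DirectSum.component.of, dif_neg (Ne.symm h), map_zero]
  let ε := CoalgebraStruct.counit (R := R) (A := C)
  let π : ι → (V →ₗ[R] V) := fun i =>
    (TensorProduct.rid R V).toLinearMap ∘ₗ (ε ∘ₗ p i).lTensor V ∘ₗ HopfRep.Comod.coact (k := R) (A := C)
  have hpΔ : ∀ i c, TensorProduct.lid R C ((ε ∘ₗ p i).rTensor C (CoalgebraStruct.comul c)) = p i c := by
    intro i c
    have hc : c ∈ ⨆ j, D j := htop ▸ Submodule.mem_top
    induction hc using Submodule.iSup_induction' with
    | mem j d hd =>
      obtain ⟨y, hy⟩ := hD j d hd
      have hcu := Coalgebra.rTensor_counit_comul (R := R) d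
      rw [← hy, hp1 i j d hd]
      have e1 : (ε ∘ₗ p i).rTensor C (TensorProduct.map (D j).subtype (D j).subtype y) =
          if i = j then ε.rTensor C (TensorProduct.map (D j).subtype (D j).subtype y) else 0 := by
        clear hy
        induction y using TensorProduct.induction_on with
        | zero => simp
        | add a b ha hb => simp only [map_add, ha, hb]; split_ifs <;> simp
        | tmul a b =>
          simp only [TensorProduct.map_tmul, LinearMap.rTensor_tmul, LinearMap.lTensor_tmul, LinearMap.comp_apply,
            Submodule.subtype_apply, hp1 i j _ a.2]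
          split_ifs <;> simp
      rw [e1, hy]
      by_cases h : i = j
      · simp [h, ε, hcu]
      · simp [h]
    | zero => simp
    | add x y _ _ hx hy => simp only [map_add, hx, hy]
  let ρ := HopfRep.Comod.coact (k := R) (A := C) (V := V)
  have hπ : ∀ i v, ρ (π i v) = (p i).lTensor V (ρ v) := by
    intro i v
    have h1 : ∀ z : V ⊗[R] C, ρ (TensorProduct.rid R V ((ε ∘ₗ p i).lTensor V z)) =
        TensorProduct.rid R (V ⊗[R] C) ((ε ∘ₗ p i).lTensor (V ⊗[R] C) (ρ.rTensor C z)) := by
      intro z
      induction z using TensorProduct.induction_on with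
      | zero => simp
      | add a b ha hb => simp only [map_add, ha, hb]
      | tmul a b => simp
    change ρ (TensorProduct.rid R V ((ε ∘ₗ p i).lTensor V (ρ v))) = _
    rw [h1]
    have h0 := LinearMap.congr_fun (HopfRep.Comod.coassoc (k := R) (A := C) (V := V)) v
    simp only [LinearMap.comp_apply, LinearEquiv.coe_coe] at h0
    rw [← LinearEquiv.eq_symm_apply] at h0
    rw [h0]
    have h2 : ∀ z : V ⊗[R] C, TensorProduct.rid R (V ⊗[R] C) ((ε ∘ₗ p i).lTensor (V ⊗[R] C)
        ((TensorProduct.assoc R V C C).symm ((CoalgebraStruct.comul (R := R) (A := C)).lTensor V z))) =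
        ((TensorProduct.rid R C).toLinearMap ∘ₗ (ε ∘ₗ p i).lTensor C ∘ₗ CoalgebraStruct.comul).lTensor V z := by
      intro z
      induction z using TensorProduct.induction_on with
      | zero => simp
      | add a b ha hb => simp only [map_add, ha, hb]
      | tmul a b =>
        simp only [LinearMap.lTensor_tmul, LinearMap.comp_apply, LinearEquiv.coe_coe]
        induction CoalgebraStruct.comul (R := R) b using TensorProduct.induction_on with
        | zero => simp
        | add r s hr hs => simp only [TensorProduct.tmul_add, map_add, hr, hs]
        | tmul r s => simp [TensorProduct.smul_tmul']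
    rw [h2]
    congr 2
    refine LinearMap.ext fun c => ?_
    simp only [LinearMap.comp_apply, LinearEquiv.coe_coe]
    have hc : c ∈ ⨆ j, D j := htop ▸ Submodule.mem_top
    induction hc using Submodule.iSup_induction' with
    | mem j d hd =>
      obtain ⟨y, hy⟩ := hD j d hd
      have hcu := Coalgebra.lTensor_counit_comul (R := R) d
      rw [← hy, hp1 i j d hd]
      have e1 : (ε ∘ₗ p i).lTensor C (TensorProduct.map (D j).subtype (D j).subtype y) =
          if i = j then ε.lTensor C (TensorProduct.map (D j).subtype (D j).subtype y) else 0 := by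
        clear hy
        induction y using TensorProduct.induction_on with
        | zero => simp
        | add a b ha hb => simp only [map_add, ha, hb]; split_ifs <;> simp
        | tmul a b =>
          simp only [TensorProduct.map_tmul, LinearMap.rTensor_tmul, LinearMap.lTensor_tmul, LinearMap.comp_apply,
            Submodule.subtype_apply, hp1 i j _ b.2]
          split_ifs <;> simp
      rw [e1, hy]
      by_cases h : i = j
      · simp [h, ε, hcu]
      · simp [h]
    | zero => simp
    | add x y _ _ hx hy => simp only [map_add, hx, hy]
  let W : ι → Submodule R V := fun i => (LinearMap.range (LinearMap.lTensor V (D i).subtype)).comap ρ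
  have hpmem : ∀ i c, p i c ∈ D i := fun i c => Submodule.coe_mem _
  have hfac : ∀ i (z : V ⊗[R] C), (p i).lTensor V z ∈ LinearMap.range (LinearMap.lTensor V (D i).subtype) := by
    intro i z
    refine ⟨(LinearMap.codRestrict (D i) (p i) (hpmem i)).lTensor V z, ?_⟩
    rw [← LinearMap.lTensor_comp_apply, LinearMap.subtype_comp_codRestrict]
  have hπmem : ∀ i v, π i v ∈ W i := fun i v => Submodule.mem_comap.2 (hπ i v ▸ hfac i _)
  have hW : ∀ i, ∀ v ∈ W i, ∀ j, (p j).lTensor V (ρ v) = if j = i then ρ v else 0 := by
    intro i v hv j
    obtain ⟨y, hy⟩ := hv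
    rw [← hy]
    clear hy
    induction y using TensorProduct.induction_on with
    | zero => simp
    | add a b ha hb => simp only [map_add, ha, hb]; split_ifs <;> simp
    | tmul a b =>
      simp only [LinearMap.lTensor_tmul, Submodule.subtype_apply, hp1 j i _ b.2]
      split_ifs <;> simp
  have hinj : ∀ v, ρ v = 0 → v = 0 := by
    intro v h
    have h0 := LinearMap.congr_fun (HopfRep.Comod.counit_comp (k := R) (A := C) (V := V)) v
    simp only [LinearMap.comp_apply] at h0
    rw [show HopfRep.Comod.coact (k := R) (A := C) v = 0 from h, map_zero] at h0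
    have := congrArg (TensorProduct.rid R V) h0
    simpa using this.symm
  have hπW : ∀ i, ∀ v ∈ W i, ∀ j, π j v = if j = i then v else 0 := by
    intro i v hv j
    refine sub_eq_zero.1 (hinj _ ?_)
    rw [map_sub, hπ, hW i v hv j, apply_ite ρ, map_zero, sub_self]
  have hcoact : ∀ i, ∀ v ∈ W i, ρ v ∈ LinearMap.range (TensorProduct.map (W i).subtype (D i).subtype) := by
    intro i v hv
    have e0 : ∀ z : V ⊗[R] C, TensorProduct.map (W i).subtype (D i).subtype
        (TensorProduct.map (LinearMap.codRestrict (W i) (π i) (hπmem i))
          (LinearMap.codRestrict (D i) (p i) (hpmem i)) z) = (p i).lTensor V ((π i).rTensor C z) := by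
      intro z
      induction z using TensorProduct.induction_on with
      | zero => simp
      | add a b ha hb => simp only [map_add, ha, hb]
      | tmul a b => simp
    refine ⟨TensorProduct.map (LinearMap.codRestrict (W i) (π i) (hπmem i))
      (LinearMap.codRestrict (D i) (p i) (hpmem i)) (ρ v), ?_⟩
    rw [e0]
    have e1 : (π i).rTensor C (ρ v) = (p i).lTensor V (ρ v) := by
      have h0 := LinearMap.congr_fun (HopfRep.Comod.coassoc (k := R) (A := C) (V := V)) v
      simp only [LinearMap.comp_apply, LinearEquiv.coe_coe] at h0
      have h3 : ∀ z : (V ⊗[R] C) ⊗[R] C,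
          ((TensorProduct.rid R V).toLinearMap ∘ₗ (ε ∘ₗ p i).lTensor V).rTensor C z =
            ((TensorProduct.lid R C).toLinearMap ∘ₗ (ε ∘ₗ p i).rTensor C).lTensor V (TensorProduct.assoc R V C C z) := by
        intro z
        induction z using TensorProduct.induction_on with
        | zero => simp
        | add a b ha hb => simp only [map_add, ha, hb]
        | tmul x c =>
          induction x using TensorProduct.induction_on with
          | zero => simp
          | add a b ha hb => simp only [TensorProduct.add_tmul, map_add, ha, hb]
          | tmul a b => simp [TensorProduct.smul_tmul]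
      change ((TensorProduct.rid R V).toLinearMap ∘ₗ (ε ∘ₗ p i).lTensor V ∘ₗ ρ).rTensor C (ρ v) = _
      rw [← LinearMap.comp_assoc, LinearMap.rTensor_comp_apply, h3, h0, ← LinearMap.lTensor_comp_apply]
      congr 2
      exact LinearMap.ext (hpΔ i)
    rw [e1, hW i v hv i, if_pos rfl, hW i v hv i, if_pos rfl]
  refine ⟨fun i w hw => ?_, ?_, ?_, hcoact⟩
  · obtain ⟨y, hy⟩ := hcoact i w hw
    refine ⟨(D i).subtype.lTensor (W i) y, ?_⟩
    rw [← hy]
    exact LinearMap.congr_fun (LinearMap.rTensor_comp_lTensor _ _ _) y
  · intro i
    rw [Submodule.disjoint_def]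
    intro v hv hv'
    have h0 : ∀ x ∈ ⨆ j, ⨆ (_ : j ≠ i), W j, π i x = 0 := by
      intro x hx
      refine (iSup₂_le fun j hj => ?_ : (⨆ j, ⨆ (_ : j ≠ i), W j) ≤ LinearMap.ker (π i)) hx
      intro y hy
      simp [hπW j y hy i, Ne.symm hj]
    have := hπW i v hv i
    rw [if_pos rfl, h0 v hv'] at this
    exact this.symm
  · rw [eq_top_iff]
    intro v _
    have hmem : ∀ z : V ⊗[R] C, TensorProduct.rid R V (ε.lTensor V z) ∈
        Submodule.span R (Set.range fun i => TensorProduct.rid R V ((ε ∘ₗ p i).lTensor V z)) := by
      intro z
      obtain ⟨s, hs⟩ : ∃ s : Finset ι, ∀ T : Finset ι, s ⊆ T → ∑ i ∈ T, (p i).lTensor V z = z := by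
        induction z using TensorProduct.induction_on with
        | zero => exact ⟨∅, fun T _ => by simp⟩
        | add a b ha hb =>
          obtain ⟨s, hs⟩ := ha; obtain ⟨t, ht⟩ := hb
          exact ⟨s ∪ t, fun T hT => by
            simp only [map_add, Finset.sum_add_distrib, hs T (Finset.union_subset_left hT),
              ht T (Finset.union_subset_right hT)]⟩
        | tmul a c =>
          refine ⟨(e.symm c).support, fun T hT => ?_⟩
          simp only [LinearMap.lTensor_tmul, ← TensorProduct.tmul_sum]
          congr 1
          conv_rhs => rw [← e.apply_symm_apply c]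
          rw [show e (e.symm c) = DirectSum.coeLinearMap D (e.symm c) from rfl,
            DirectSum.coeLinearMap_eq_dfinsuppSum, DFinsupp.sum]
          refine (Finset.sum_subset hT fun j _ hj => ?_).symm
          simp only [p, LinearMap.comp_apply, LinearEquiv.coe_coe]
          rw [show DirectSum.component R ι (fun i => D i) j (e.symm c) = (e.symm c) j from rfl,
            DFinsupp.notMem_support_iff.1 hj, map_zero]
      rw [show TensorProduct.rid R V (ε.lTensor V z) = TensorProduct.rid R V (ε.lTensor V (∑ i ∈ s, (p i).lTensor V z)) by
        rw [hs s subset_rfl]]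
      rw [map_sum, map_sum]
      refine Submodule.sum_mem _ fun i _ => ?_
      rw [← LinearMap.lTensor_comp_apply]
      exact Submodule.subset_span ⟨i, rfl⟩
    have h0 := LinearMap.congr_fun (HopfRep.Comod.counit_comp (k := R) (A := C) (V := V)) v
    simp only [LinearMap.comp_apply] at h0
    have h1 := hmem (ρ v)
    rw [show ε.lTensor V (ρ v) = v ⊗ₜ[R] (1 : R) from h0, TensorProduct.rid_tmul, one_smul] at h1
    refine Submodule.span_le.2 ?_ h1
    rintro _ ⟨i, rfl⟩
    exact Submodule.mem_iSup_of_mem i (hπmem i v)

end Groth.Agent.S14844
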