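import Groth.Statements.S14845
import Groth.Agent.Lib.HilbD.Sec

set_option autoImplicit false
open CategoryTheory CategoryTheory.Limits AlgebraicGeometry
universe u
open HilbD

namespace Groth.Agent.S14845
open Groth.Agent.Lib.HilbD Groth.Agent.Lib.HilbD.Sec


/-- For a separated morphism f : X → S, the Hilbert functor of one point of X over S is represented by X
with the diagonal as universal family: the diagonal of X ×_S X (the graph of the identity section of
X over itself) is a closed subscheme finite locally free of degree 1 over X, and every closed
subscheme of X ×_S T which is finite locally free of degree 1 over T is its base change along a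
unique S-morphism T → X. (The published statement takes S Noetherian, f locally of finite type and
the Hilbert functor on locally Noetherian S-schemes with flat proper families of Hilbert polynomial
1; this row uses the functor of families finite locally free of degree 1 on all S-schemes, for which
the same argument applies without Noetherian hypotheses.) -/
theorem result {X S : Scheme.{u}} (f : X ⟶ S) [IsSeparated f] :
    ∃ Δ : HilbD.Obj f 1 (Over.mk f),
      Δ.1 = HilbD.secGraph f (Over.mk f) (𝟙 X) (Category.id_comp f) ∧
      HilbD.IsUniversal f 1 (Over.mk f) Δ := by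
  refine ⟨⟨_, finLocFreeOfDeg_secGraph f (Over.mk f) (𝟙 X) (Category.id_comp f)⟩, rfl, ?_⟩
  intro T W
  obtain ⟨x, hx, hW⟩ := exists_eq_secGraph f T W
  let q : T ⟶ Over.mk f := Over.homMk x hx
  refine ⟨q, ?_, fun q' hq' => ?_⟩
  · show HilbD.pull f q _ = W.1
    rw [hW, pull_secGraph]
    congr 1
  · apply Over.OverMorphism.ext
    show q'.left = x
    have hh : (q'.left ≫ 𝟙 X) ≫ f = T.hom :=
      (congrArg (· ≫ f) (Category.comp_id q'.left)).trans (Over.w q')
    have h2 : HilbD.secGraph f T (q'.left ≫ 𝟙 X) hh =
        HilbD.secGraph f T x hx := by
      rw [← hW, ← hq']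
      exact (pull_secGraph f (T := Over.mk f) q' (𝟙 X) (Category.id_comp f)).symm
    rw [secGraph_eq, secGraph_eq] at h2
    let σ := sec f T (q'.left ≫ 𝟙 X) hh
    let τ := sec f T x hx
    let l := IsClosedImmersion.lift τ σ h2.ge
    have hl : l ≫ τ = σ := IsClosedImmersion.lift_fac _ _ _
    have h3 : l = 𝟙 _ := by
      calc l = l ≫ τ ≫ PicF.XTproj f T := by rw [sec_proj, Category.comp_id]
        _ = 𝟙 _ := by rw [← Category.assoc, hl, sec_proj]
    have h4 := congrArg (fun a => a ≫ pullback.fst f T.hom) hl
    simp only [h3, Category.id_comp] at h4
    rw [sec_fst, sec_fst] at h4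
    exact (h4.trans (Category.comp_id _)).symm

end Groth.Agent.S14845
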