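import Groth.Statements.S14846
import Mathlib.RingTheory.TwoSidedIdeal.Operations
import Mathlib.FieldTheory.Galois.Infinite
import Mathlib.RingTheory.TensorProduct.Free
import Mathlib.LinearAlgebra.FreeModule.Basic

set_option autoImplicit false
universe u v w
open Brauer

namespace Groth.Agent.S14846

open TensorProduct in
/-- Let L/K be a Galois extension with group Γ = Aut_K(L), and A a K-algebra which is a simple ring. If
L ⊗_K A is semisimple, then Γ, acting on L ⊗_K A through the first tensor factor, permutes its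
simple components, i.e. its minimal nonzero two-sided ideals, transitively: any minimal two-sided
ideal is carried onto any other by some γ ⊗ id. -/
theorem result
    {K : Type u} {L : Type v} [Field K] [Field L] [Algebra K L] [IsGalois K L]
    {A : Type w} [Ring A] [Algebra K A] [IsSimpleRing A]
    [IsSemisimpleRing (L ⊗[K] A)]
    (I J : TwoSidedIdeal (L ⊗[K] A)) (hI : IsAtom I) (hJ : IsAtom J) :
    ∃ γ : L ≃ₐ[K] L, (J : Set (L ⊗[K] A)) =
      Algebra.TensorProduct.map (γ : L →ₐ[K] L) (AlgHom.id K A) '' (I : Set (L ⊗[K] A)) := by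
  let g : (L ≃ₐ[K] L) → (L ⊗[K] A →ₐ[K] L ⊗[K] A) := fun γ =>
    Algebra.TensorProduct.map (γ : L →ₐ[K] L) (AlgHom.id K A)
  have gg : ∀ γ δ x, g γ (g δ x) = g (γ * δ) x := fun γ δ x => by
    induction x using TensorProduct.induction_on with
    | zero => simp
    | tmul l a => simp [g]
    | add x y hx hy => simp [hx, hy]
  have g1 : ∀ x, g 1 x = x := fun x => by
    induction x using TensorProduct.induction_on with
    | zero => simp
    | tmul l a => simp [g]
    | add x y hx hy => simp [hx, hy]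
  let S : TwoSidedIdeal (L ⊗[K] A) := TwoSidedIdeal.span {y | ∃ γ, ∃ x ∈ I, g γ x = y}
  have hSg : ∀ γ, ∀ x ∈ S, g γ x ∈ S := fun γ x hx => by
    have h : S ≤ TwoSidedIdeal.comap (g γ) S := by
      refine TwoSidedIdeal.span_le.2 ?_
      rintro y ⟨δ, z, hz, rfl⟩
      rw [SetLike.mem_coe, TwoSidedIdeal.mem_comap]
      exact TwoSidedIdeal.subset_span ⟨γ * δ, z, hz, (gg γ δ z).symm⟩
    exact (TwoSidedIdeal.mem_comap _).1 (h hx)
  obtain ⟨x0, hx0I, hx00⟩ : ∃ x ∈ I, x ≠ 0 := by
    by_contra! h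
    exact hI.1 (eq_bot_iff.2 fun x hx => by simp [h x hx])
  -- `S` meets `1 ⊗ A`
  have h1S : (1 : L ⊗[K] A) ∈ S := by
    let b := Algebra.TensorProduct.basis L (Module.Free.chooseBasis K A)
    suffices h : ∃ a : A, a ≠ 0 ∧ (1 : L) ⊗ₜ[K] a ∈ S by
      obtain ⟨a, ha, haS⟩ := h
      let T : TwoSidedIdeal A := TwoSidedIdeal.comap (Algebra.TensorProduct.includeRight : A →ₐ[K] L ⊗[K] A) S
      have hT : a ∈ T := (TwoSidedIdeal.mem_comap _).2 haS
      have : T = ⊤ := (eq_bot_or_eq_top T).resolve_left fun h => ha (by simpa [h] using hT)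
      have h1 : (1 : A) ∈ T := this ▸ trivial
      simpa [T, TwoSidedIdeal.mem_comap, Algebra.TensorProduct.one_def] using h1
    classical
    have hne : ∃ n, ∃ x ∈ S, x ≠ 0 ∧ (b.repr x).support.card = n :=
      ⟨_, x0, TwoSidedIdeal.subset_span ⟨1, x0, hx0I, g1 x0⟩, hx00, rfl⟩
    obtain ⟨x, hxS, hx, hcard⟩ := Nat.find_spec hne
    obtain ⟨i, hi⟩ : ∃ i, b.repr x i ≠ 0 := by
      by_contra! h
      exact hx (b.repr.map_eq_zero_iff.1 (Finsupp.ext h))
    let y := (b.repr x i)⁻¹ • x
    have hyS : y ∈ S := by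
      change (b.repr x i)⁻¹ • x ∈ S
      rw [Algebra.smul_def]; exact S.mul_mem_left _ _ hxS
    have hyi : b.repr y i = 1 := by simp [y, inv_mul_cancel₀ hi]
    have hgb : ∀ γ z j, b.repr (g γ z) j = γ (b.repr z j) := fun γ z j => by
      induction z using TensorProduct.induction_on with
      | zero => simp
      | tmul l a => simp [g, b, Algebra.TensorProduct.basis_repr_tmul]
      | add z w hz hw => simp [hz, hw]
    have hfix : ∀ γ, g γ y = y := fun γ => by
      by_contra hne'
      have hlt : (b.repr (g γ y - y)).support.card < Nat.find hne := by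
        rw [← hcard]
        refine Finset.card_lt_card ((Finset.ssubset_iff_of_subset fun j hj => ?_).2 ⟨i, by simpa using hi, ?_⟩)
        · simp only [Finsupp.mem_support_iff, map_sub, Finsupp.sub_apply, hgb, ne_eq] at hj ⊢
          intro h0
          exact hj (by simp [y, h0])
        · simp [hgb, hyi]
      exact Nat.find_min hne hlt ⟨_, S.sub_mem (hSg γ y hyS) hyS, sub_ne_zero.2 hne', rfl⟩
    have hK : ∀ j, b.repr y j ∈ Set.range (algebraMap K L) := fun j => by
      refine (InfiniteGalois.mem_range_algebraMap_iff_fixed _).2 fun γ => ?_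
      rw [← hgb γ y j, hfix γ]
    choose c hc using hK
    refine ⟨∑ j ∈ (b.repr y).support, c j • Module.Free.chooseBasis K A j, fun h0 => ?_, ?_⟩
    · have hz : y = 0 := by
        rw [← b.linearCombination_repr y, Finsupp.linearCombination_apply, Finsupp.sum]
        simp only [← hc, algebraMap_smul, b, Algebra.TensorProduct.basis_apply, ← TensorProduct.tmul_smul, ← TensorProduct.tmul_sum]
        rw [h0, TensorProduct.tmul_zero]
      rw [hz] at hyi; simp at hyi
    · have hz : y = (1 : L) ⊗ₜ[K] ∑ j ∈ (b.repr y).support, c j • Module.Free.chooseBasis K A j := by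
        conv_lhs => rw [← b.linearCombination_repr y, Finsupp.linearCombination_apply, Finsupp.sum]
        simp only [← hc, algebraMap_smul, b, Algebra.TensorProduct.basis_apply, ← TensorProduct.tmul_smul, ← TensorProduct.tmul_sum]
      exact hz ▸ hyS
  -- some conjugate of `I` is not annihilated by `J`
  obtain ⟨γ, x, hxI, j, hjJ, hjx⟩ : ∃ γ, ∃ x ∈ I, ∃ j ∈ J, j * g γ x ≠ 0 := by
    by_contra! h
    let T : TwoSidedIdeal (L ⊗[K] A) := TwoSidedIdeal.mk' {x | ∀ j ∈ J, j * x = 0}
      (fun j _ => mul_zero j)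
      (fun {x y} hx hy j hj => by rw [mul_add, hx j hj, hy j hj, add_zero])
      (fun {x} hx j hj => by rw [mul_neg, hx j hj, neg_zero])
      (fun {r x} hx j hj => by rw [← mul_assoc]; exact hx _ (J.mul_mem_right _ _ hj))
      (fun {x r} hx j hj => by rw [← mul_assoc, hx j hj, zero_mul])
    have hST : S ≤ T := TwoSidedIdeal.span_le.2 (by
      rintro y ⟨γ, x, hx, rfl⟩
      exact (TwoSidedIdeal.mem_mk' _ _ _ _ _ _ _).2 fun j hj => h γ x hx j hj)
    exact hJ.1 (eq_bot_iff.2 fun j hj => by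
      have := (TwoSidedIdeal.mem_mk' _ _ _ _ _ _ _).1 (hST h1S) j hj
      simpa using this)
  refine ⟨γ, Set.Subset.antisymm ?_ ?_⟩
  · -- `γ I` as an ideal
    let P : TwoSidedIdeal (L ⊗[K] A) := TwoSidedIdeal.comap (g γ⁻¹) I
    have hP : J ⊓ P = J := (hJ.le_iff.1 inf_le_left).resolve_left fun h0 => hjx (by
      have : j * g γ x ∈ J ⊓ P := (TwoSidedIdeal.mem_inf _).2 ⟨J.mul_mem_right _ _ hjJ, by
        rw [TwoSidedIdeal.mem_comap, map_mul, gg, inv_mul_cancel, g1]
        exact I.mul_mem_left _ _ hxI⟩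
      simpa [h0] using this)
    intro z hz
    have : z ∈ P := (inf_eq_left.1 hP) hz
    exact ⟨g γ⁻¹ z, (TwoSidedIdeal.mem_comap _).1 this, by change g γ (g γ⁻¹ z) = z; rw [gg, mul_inv_cancel, g1]⟩
  · let Q : TwoSidedIdeal (L ⊗[K] A) := TwoSidedIdeal.comap (g γ) J
    have hQ : I ⊓ Q = I := (hI.le_iff.1 inf_le_left).resolve_left fun h0 => hjx (by
      have : g γ⁻¹ j * x ∈ I ⊓ Q := (TwoSidedIdeal.mem_inf _).2 ⟨I.mul_mem_left _ _ hxI, by
        rw [TwoSidedIdeal.mem_comap, map_mul, gg, mul_inv_cancel, g1]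
        exact J.mul_mem_right _ _ hjJ⟩
      rw [h0, TwoSidedIdeal.mem_bot] at this
      have := congr_arg (g γ) this
      rw [map_mul, gg, mul_inv_cancel, g1, map_zero] at this
      exact this)
    rintro _ ⟨z, hz, rfl⟩
    exact (TwoSidedIdeal.mem_comap _).1 ((inf_eq_left.1 hQ) hz)

end Groth.Agent.S14846
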