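import Groth.Statements.S14848
import Mathlib

set_option autoImplicit false
universe u v
open McKay

namespace Groth.Agent.S14848

/-- Let K be a field of characteristic zero, L an extension field of K and ξ ∈ L a primitive n-th root
of unity (n ≥ 1) with ξ + ξ⁻¹ ∈ K, say ξ + ξ⁻¹ = 2c with c ∈ K (the character of the natural
two-dimensional representation of the cyclic group of order n takes values in K). Then the cyclic
group of order n is realisable over K as a subgroup of SL(2, K): there is an element of SL(2, K) of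
order n. -/
theorem result {K : Type u} {L : Type v} [Field K] [Field L]
    [CharZero K] [Algebra K L] (n : ℕ) (hn : 1 ≤ n) (ξ : L) (hξ : IsPrimitiveRoot ξ n) (c : K)
    (hc : algebraMap K L (2 * c) = ξ + ξ⁻¹) :
    ∃ M : Matrix.SpecialLinearGroup (Fin 2) K, orderOf M = n := by
  classical
  by_cases hn2 : n ≤ 2
  · interval_cases n
    · exact ⟨1, orderOf_one⟩
    · refine ⟨-1, orderOf_eq_prime (by simp) ?_⟩
      intro h
      have := congrArg (fun M : Matrix.SpecialLinearGroup (Fin 2) K => (M : Matrix (Fin 2) (Fin 2) K) 0 0) h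
      simp at this
      norm_num at this
  push Not at hn2
  let M : Matrix.SpecialLinearGroup (Fin 2) K := ⟨!![2 * c, -1; 1, 0], by rw [Matrix.det_fin_two_of]; ring⟩
  have hξ0 : ξ ≠ 0 := hξ.ne_zero (by omega)
  let P : Matrix (Fin 2) (Fin 2) L := !![ξ, ξ⁻¹; 1, 1]
  let D : Matrix (Fin 2) (Fin 2) L := Matrix.diagonal ![ξ, ξ⁻¹]
  let M' : Matrix (Fin 2) (Fin 2) L := (algebraMap K L).mapMatrix (M : Matrix (Fin 2) (Fin 2) K)
  have hMP : M' * P = P * D := by
    ext i j
    fin_cases i <;> fin_cases j <;>
      simp [M', M, P, D, Matrix.mul_apply, Fin.sum_univ_two, hc] <;> field_simp <;> ring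
  have hPu : IsUnit P := by
    rw [Matrix.isUnit_iff_isUnit_det, isUnit_iff_ne_zero, Matrix.det_fin_two_of]
    intro h
    have h2 : ξ ^ 2 = 1 := by field_simp at h; linear_combination h
    have := Nat.le_of_dvd two_pos (hξ.dvd_of_pow_eq_one 2 h2)
    omega
  have hpow : ∀ k : ℕ, M' ^ k * P = P * D ^ k := by
    intro k
    induction k with
    | zero => simp
    | succ k ih => rw [pow_succ, mul_assoc, hMP, ← mul_assoc, ih, mul_assoc, ← pow_succ]
  have hiff : ∀ k : ℕ, M ^ k = 1 ↔ ξ ^ k = 1 := by
    intro k
    have hcast : M' ^ k = (algebraMap K L).mapMatrix ((M ^ k : Matrix.SpecialLinearGroup (Fin 2) K) : Matrix (Fin 2) (Fin 2) K) := by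
      rw [Matrix.SpecialLinearGroup.coe_pow, map_pow]
    constructor
    · intro h
      rw [h, Matrix.SpecialLinearGroup.coe_one, map_one] at hcast
      have h2 := hpow k
      rw [hcast, one_mul] at h2
      have h3 : D ^ k = 1 := (hPu.mul_right_inj).mp (by rw [← h2, mul_one])
      have h4 := congrFun (congrFun h3 0) 0
      simpa [D, Matrix.diagonal_pow] using h4
    · intro h
      have h3 : D ^ k = 1 := by
        rw [Matrix.diagonal_pow]
        ext i j
        fin_cases i <;> fin_cases j <;> simp [h, inv_pow]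
      have h2 := hpow k
      rw [h3, mul_one] at h2
      have h5 : M' ^ k = 1 := (hPu.mul_left_inj).mp (by rw [h2, one_mul])
      rw [hcast, RingHom.mapMatrix_apply] at h5
      ext i j
      have h6 := congrFun (congrFun h5 i) j
      rw [Matrix.map_apply] at h6
      refine (algebraMap K L).injective ?_
      rw [h6]
      by_cases hij : i = j <;> simp [Matrix.one_apply, hij]
  refine ⟨M, Nat.dvd_antisymm (orderOf_dvd_of_pow_eq_one ((hiff n).mpr hξ.pow_eq_one)) ?_⟩
  exact hξ.dvd_of_pow_eq_one _ ((hiff _).mp (pow_orderOf_eq_one M))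

end Groth.Agent.S14848
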