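import Groth.Statements.S14849
import Mathlib.Data.ZMod.Basic
import Mathlib.LinearAlgebra.Matrix.NonsingularInverse
import Mathlib.Tactic.LinearCombination
import Mathlib.Algebra.CharP.Algebra
import Mathlib.Tactic.FieldSimp

set_option autoImplicit false
universe u v
open McKay

namespace Groth.Agent.S14849
theorem hom_of_relations {G : Type*} [Group G] (n : ℕ) [NeZero n] (σ τ : G) (hσ : σ ^ (2 * n) = 1)
    (hτ : τ * τ = σ ^ n) (hc : σ * τ = τ * σ⁻¹) :
    ∃ f : QuaternionGroup n →* G, ∀ i : ZMod (2 * n),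
      f (QuaternionGroup.a i) = σ ^ i.val ∧ f (QuaternionGroup.xa i) = τ * σ ^ i.val := by
  let g : ZMod (2 * n) → G := fun i ↦ σ ^ i.val
  have hg : ∀ i j, g (i + j) = g i * g j := fun i j ↦ by
    simp only [g, ← pow_add, ZMod.val_add]
    exact (pow_eq_pow_mod _ hσ).symm
  have hn : g (n : ZMod (2 * n)) = σ ^ n := by
    simp only [g, ZMod.val_natCast]
    exact (pow_eq_pow_mod n hσ).symm
  have hk : ∀ k : ℕ, σ ^ k * τ = τ * (σ ^ k)⁻¹ := by
    intro k
    induction k with
    | zero => simp
    | succ k ih =>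
      rw [pow_succ, mul_assoc, hc, ← mul_assoc, ih, mul_inv_rev, mul_assoc, ← mul_inv_rev, ← mul_inv_rev,
        ← pow_succ, ← pow_succ']
  have hneg : ∀ i, (g i)⁻¹ = g (-i) := fun i ↦ by
    refine inv_eq_of_mul_eq_one_right ?_
    rw [← hg, add_neg_cancel]
    simp [g]
  refine ⟨{ toFun := fun q ↦ match q with
              | .a i => g i
              | .xa i => τ * g i
            map_one' := by show g 0 = 1; simp [g]
            map_mul' := ?_ }, fun i ↦ ⟨rfl, rfl⟩⟩
  rintro (i | i) (j | j)
  · rw [QuaternionGroup.a_mul_a]; exact hg i j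
  · rw [QuaternionGroup.a_mul_xa]
    show τ * g (j - i) = g i * (τ * g j)
    rw [← mul_assoc, show g i * τ = τ * (g i)⁻¹ from hk _, hneg, mul_assoc, ← hg]
    congr 2
    ring
  · rw [QuaternionGroup.xa_mul_a]
    show τ * g (i + j) = τ * g i * g j
    rw [hg, mul_assoc]
  · rw [QuaternionGroup.xa_mul_xa]
    show g (n + j - i) = τ * g i * (τ * g j)
    rw [mul_assoc τ, ← mul_assoc (g i), show g i * τ = τ * (g i)⁻¹ from hk _, hneg, mul_assoc τ,
      ← mul_assoc τ τ, hτ, ← hn, ← hg, ← hg]
    congr 1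
    ring

open Matrix in

/-- Let K be a field of characteristic zero, L an extension field of K, n ≥ 2, and ξ ∈ L a primitive
2n-th root of unity with ξ + ξ⁻¹ = 2c for some c ∈ K. If the Hilbert symbol of -1 and c² - 1 over K
equals 1, i.e. x² - (c² - 1) y² = -1 has a solution in K, then the binary dihedral group of order 4n
(generators σ, τ with τ² = σⁿ = (τσ)²) is isomorphic to a subgroup of SL(2, K). (The published
statement is an equivalence; this row is the direction realising the group from a solution of the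
conic.) -/
theorem result {K : Type u} {L : Type v}
    [Field K] [Field L] [CharZero K] [Algebra K L] (n : ℕ) (hn : 2 ≤ n) (ξ : L)
    (hξ : IsPrimitiveRoot ξ (2 * n)) (c : K) (hc : algebraMap K L (2 * c) = ξ + ξ⁻¹)
    (hsol : ∃ x y : K, x ^ 2 - (c ^ 2 - 1) * y ^ 2 = -1) :
    ∃ f : QuaternionGroup n →* Matrix.SpecialLinearGroup (Fin 2) K, Function.Injective f := by
  classical
  obtain ⟨x, y, hxy⟩ := hsol
  set d : K := c ^ 2 - 1 with hd
  have hn0 : NeZero n := ⟨by omega⟩
  have hξ0 : ξ ≠ 0 := hξ.ne_zero (by omega)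
  set e := algebraMap K L with he
  have h2 : ξ * ξ - 2 * e c * ξ + 1 = 0 := by
    rw [map_mul, map_ofNat] at hc
    rw [hc]
    field_simp
    ring
  set s := ξ - e c with hs
  have hs2 : s * s = e d := by
    rw [hd, map_sub, map_pow, map_one, hs]
    linear_combination h2
  let σ : Matrix.SpecialLinearGroup (Fin 2) K :=
    ⟨!![c, d; 1, c], by rw [Matrix.det_fin_two_of, hd]; ring⟩
  let τ : Matrix.SpecialLinearGroup (Fin 2) K :=
    ⟨!![x, -(d * y); y, -x], by rw [Matrix.det_fin_two_of]; linear_combination -hxy⟩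
  have hev : ∀ (t μ : L), μ = e c + t → t * t = e d → ∀ k : ℕ,
      ((σ ^ k : Matrix.SpecialLinearGroup (Fin 2) K).1.map e).mulVec ![t, 1] = μ ^ k • ![t, 1] := by
    intro t μ hμ ht k
    induction k with
    | zero => simp
    | succ k ih =>
      rw [pow_succ, Matrix.SpecialLinearGroup.coe_mul, Matrix.map_mul, ← Matrix.mulVec_mulVec]
      have h1 : (σ.1.map e).mulVec ![t, 1] = μ • ![t, 1] := by
        funext i
        fin_cases i <;>
          simp [σ, Matrix.mulVec, dotProduct, Fin.sum_univ_two, hμ] <;>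
          first | ring1 | linear_combination -ht
      rw [h1, Matrix.mulVec_smul, ih, smul_smul, ← pow_succ']
  have hpos := hev s ξ (by rw [hs]; ring) hs2
  have hneg' := hev (-s) ξ⁻¹ (by
    have h3 : ξ * (2 * e c - ξ) = 1 := by linear_combination -h2
    rw [← eq_inv_of_mul_eq_one_right h3, hs]; ring) (by linear_combination hs2)
  have hn1 : ξ ^ n = -1 := by
    refine IsPrimitiveRoot.eq_neg_one_of_two_right ?_
    exact hξ.pow (by omega) (mul_comm 2 n)
  have hs0 : s ≠ 0 := fun h ↦ by
    have h4 : ξ ^ 2 = 1 := by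
      have h5 : ξ = e c := sub_eq_zero.mp (hs ▸ h)
      linear_combination -1 * h2 + 2 * ξ * h5
    have := Nat.le_of_dvd (by omega) (hξ.dvd_of_pow_eq_one 2 h4)
    omega
  have hchar : (2 : L) ≠ 0 := by
    have := charZero_of_injective_algebraMap (algebraMap K L).injective
    exact two_ne_zero
  have hmat : ∀ (M : Matrix (Fin 2) (Fin 2) K) (r : K),
      (M.map e).mulVec ![s, 1] = e r • ![s, 1] → (M.map e).mulVec ![-s, 1] = e r • ![-s, 1] →
        M = r • (1 : Matrix (Fin 2) (Fin 2) K) := by
    intro M r h₁ h₂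
    have a₀ := congrFun h₁ 0
    have a₁ := congrFun h₁ 1
    have b₀ := congrFun h₂ 0
    have b₁ := congrFun h₂ 1
    simp [Matrix.mulVec, dotProduct, Fin.sum_univ_two] at a₀ a₁ b₀ b₁
    have hss : (2 : L) * s ≠ 0 := mul_ne_zero hchar hs0
    have e01 : e (M 0 1) = 0 := mul_left_cancel₀ hchar (by linear_combination a₀ + b₀)
    have e11 : e (M 1 1) = e r := mul_left_cancel₀ hchar (by linear_combination a₁ + b₁)
    have e00 : e (M 0 0) = e r := mul_left_cancel₀ hss (by linear_combination a₀ - b₀)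
    have e10 : e (M 1 0) = 0 := mul_left_cancel₀ hss (by linear_combination a₁ - b₁)
    have inj := (algebraMap K L).injective
    ext i j
    fin_cases i <;> fin_cases j
    · simpa using inj e00
    · simpa using inj (e01.trans (map_zero e).symm)
    · simpa using inj (e10.trans (map_zero e).symm)
    · simpa using inj e11
  have hσn : (σ ^ n).1 = (-1 : K) • (1 : Matrix (Fin 2) (Fin 2) K) := by
    refine hmat _ _ ?_ ?_
    · rw [hpos n, hn1, map_neg, map_one]
    · rw [hneg' n, inv_pow, hn1, map_neg, map_one, inv_neg, inv_one]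
  have hσ2n : σ ^ (2 * n) = 1 := by
    apply Subtype.ext
    rw [show 2 * n = n + n by ring, pow_add, Matrix.SpecialLinearGroup.coe_mul, hσn]
    simp
  have hττ : τ * τ = σ ^ n := by
    apply Subtype.ext
    rw [Matrix.SpecialLinearGroup.coe_mul, hσn]
    ext i j
    fin_cases i <;> fin_cases j <;> simp [τ, Matrix.mul_apply, Fin.sum_univ_two] <;>
      first | ring1 | linear_combination hxy
  have hcomm : σ * τ = τ * σ⁻¹ := by
    apply Subtype.ext
    rw [Matrix.SpecialLinearGroup.coe_mul, Matrix.SpecialLinearGroup.coe_mul,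
      Matrix.SpecialLinearGroup.coe_inv]
    ext i j
    fin_cases i <;> fin_cases j <;>
      simp [σ, τ, Matrix.mul_apply, Fin.sum_univ_two, Matrix.adjugate_fin_two] <;> ring
  obtain ⟨f, hf⟩ := hom_of_relations n σ τ hσ2n hττ hcomm
  refine ⟨f, (injective_iff_map_eq_one f).mpr ?_⟩
  rintro (i | i) hi
  · rw [(hf i).1] at hi
    have h6 := hpos i.val
    rw [hi] at h6
    have h7 := congrFun h6 1
    simp at h7
    have h9 : i.val = 0 := by
      by_contra hne
      have := Nat.le_of_dvd (Nat.pos_of_ne_zero hne) (hξ.dvd_of_pow_eq_one _ h7.symm)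
      have := ZMod.val_lt i
      omega
    rw [show i = 0 from (ZMod.val_eq_zero i).mp h9]
    rfl
  · rw [(hf i).2] at hi
    have hτeq : τ = (σ ^ i.val)⁻¹ := eq_inv_of_mul_eq_one_left hi
    have hcm : σ * τ = τ * σ := by rw [hτeq]; exact ((Commute.self_pow σ i.val).inv_right).eq
    have hσ2 : σ ^ 2 = 1 := by
      have h10 : σ = σ⁻¹ := mul_left_cancel (hcm.symm.trans hcomm)
      rw [pow_two]
      nth_rewrite 1 [h10]
      exact inv_mul_cancel σ
    have h6 := hpos 2
    rw [hσ2] at h6
    have h7 := congrFun h6 1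
    simp at h7
    have := Nat.le_of_dvd (by omega) (hξ.dvd_of_pow_eq_one _ h7.symm)
    omega

end Groth.Agent.S14849
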