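import Groth.Statements.S1485
import Groth.Agent.Lib.Amp36.Chart

set_option autoImplicit false
universe u
open FlatMor

namespace Groth.Agent.S1485

open AlgebraicGeometry CategoryTheory Limits in
/-- Let f : X → Y be proper and y a point with fibre of dimension ≤ 1. Suppose there is a morphism g :
Y' → Y whose image contains y such that, for the base change f' : X' → Y', H^1 of the structure
sheaf vanishes over the preimage of every affine open of Y' (that is, R^1 f'_* O = 0; taking g the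
identity covers the case R^1 f_* O_X = 0). Then H^1(X_y, O_{X_y}) = 0. -/
theorem result {X Y Y' : Scheme.{u}} (f : X ⟶ Y) [IsProper f] (y : Y) (hdim : topologicalKrullDim ↑(f.fiber y) ≤ 1)
    (g : Y' ⟶ Y) (hy : y ∈ Set.range ⇑g)
    (hR1 : ∀ U : Y'.Opens, IsAffineOpen U → Subsingleton (Coh.HHon (pullback f g) (Coh.structureModule (pullback f g)) (pullback.snd f g ⁻¹ᵁ U) 1)) :
    Subsingleton (Coh.HH (f.fiber y) (Coh.structureModule (f.fiber y)) 1) := by
  obtain ⟨y', rfl⟩ := hy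
  obtain ⟨V₀, hy₀, hV₀⟩ := Groth.Agent.Lib.Amp36.Chart.exists_nhd f 1 (g y') hdim
  obtain ⟨W, hW, hyW, hWV⟩ := exists_isAffineOpen_mem_and_subset hy₀
  have hd : ∀ t ∈ W, topologicalKrullDim ↥(f.fiber t) ≤ ((1 : ℕ) : WithBot ℕ∞) :=
    fun t ht => hV₀ t (hWV ht)
  obtain ⟨U, hU, hyU, e⟩ := exists_isAffineOpen_mem_and_subset (U := g ⁻¹ᵁ W) hyW
  letI := Groth.Agent.Lib.Amp36.Chart.ov f hW
  haveI := Groth.Agent.Lib.Amp36.Chart.isProper_ov f hW
  letI : Algebra Γ(Y, W) Γ(Y', U) := (g.appLE W U e).hom.toAlgebra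
  have h0 := (Groth.Agent.Lib.Amp36.Chart.subsingleton_iff f hW (IsPullback.of_hasPullback f g)
    hU e 1).1 ((Groth.Agent.Lib.Amp36.Chart.HHon_iff _ 1).1 (hR1 U hU))
  refine (Groth.Agent.Lib.Amp36.Chart.fiber_iff f hW 1 hd hyW).2
    (Groth.Agent.Lib.Amp36.TopVanish.zero_residueField_of_algebra Γ(Y, W) _
      (Groth.Agent.Lib.Amp36.Chart.van f hW 1 hd 1 le_rfl) Γ(Y', U) h0
      (hU.primeIdealOf ⟨y', hyU⟩).asIdeal _ ?_)
  exact (congrArg PrimeSpectrum.asIdeal
    (IsAffineOpen.comap_primeIdealOf_appLE W hW U hU e hyU)).symm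

end Groth.Agent.S1485
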