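import Groth.Statements.S14850
import Groth.Agent.H66.Coeff
-- import your own Groth.Agent.* helpers here

set_option autoImplicit false
universe u v
open HopfRep

namespace Groth.Agent.S14850
open TensorProduct Groth.Agent.Lib.Comod.Basic Groth.Agent.H66.DualMod Groth.Agent.H66.Coeff
set_option linter.style.haveILetI false

open TensorProduct in
/-- Over a field K, a nonzero coalgebra C is simple if and only if C is isotypic as a right comodule
over itself, i.e. C is the internal direct sum of the images of a family of injective comodule maps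
from one simple right C-comodule E. Here a subcoalgebra of C is a subspace B whose comultiplication
lands in the image of B ⊗ B, and C is simple when its only subcoalgebras are 0 and C. (Stated for
the right regular comodule; the published statement allows left or right.) -/
theorem result {K : Type u} {C : Type v} [Field K] [AddCommGroup C]
    [Module K C] [Coalgebra K C] [Nontrivial C] :
    (∀ B : Submodule K C, (∀ b ∈ B, CoalgebraStruct.comul (R := K) b ∈ LinearMap.range (TensorProduct.map B.subtype B.subtype)) → B = ⊥ ∨ B = ⊤) ↔
    ∃ (E : Type v) (_ : AddCommGroup E) (_ : Module K E) (_ : HopfRep.Comod K C E),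
      HopfRep.IsSimpleComod K C E ∧
      ∃ (ι : Type v) (f : ι → (E →ₗ[K] C)),
        (∀ i, Hoch.IsComodHom C (f i) ∧ Function.Injective (f i)) ∧
        iSupIndep (fun i => LinearMap.range (f i)) ∧ (⨆ i, LinearMap.range (f i)) = ⊤ := by
  letI := module K C C
  constructor
  · intro hsimp
    have htop : H66.Coeff.IsSimpleSubcoalg (k := K) (⊤ : Submodule K C) := by
      refine ⟨top_ne_bot, fun b _ => ?_, fun B _ hB => hsimp B hB⟩
      have : Function.Surjective (TensorProduct.map (⊤ : Submodule K C).subtype (⊤ : Submodule K C).subtype) :=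
        TensorProduct.map_surjective (fun x => ⟨⟨x, trivial⟩, rfl⟩) (fun x => ⟨⟨x, trivial⟩, rfl⟩)
      exact this _
    obtain ⟨hs, hss⟩ := isSemisimple_simpleSubcoalg htop
    haveI : IsSemisimpleModule (CDual K C) C := by
      have htop' : toSub (⊤ : Submodule K C) hs = (⊤ : Submodule (CDual K C) C) := rfl
      rw [htop'] at hss
      exact IsSemisimpleModule.congr (R := CDual K C)
        (M := ↥(⊤ : Submodule (CDual K C) C)) Submodule.topEquiv.symm
    obtain ⟨E, h1, h2, h3, h4, h5⟩ := exists_simple_le (k := K) (C := C) (V := C) isSubcomod_top top_ne_bot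
    letI := subComod E h3
    have hE := isSimpleComod_subComod h3 h2 h5
    have heq := coeffSpace_subComod_eq htop h3 h2 h1
    obtain ⟨s, hind, hsup, hsimp'⟩ := IsSemisimpleModule.exists_sSupIndep_sSup_simples_eq_top (CDual K C) C
    have hg : ∀ N : s, ∃ g : E →ₗ[K] C, Hoch.IsComodHom C g ∧ Function.Injective g ∧
        LinearMap.range g = ofSub N.1 :=
      fun N => exists_hom_of_simple_le hE N.1 (hsimp' _ N.2) (by rw [heq]; exact le_top)
    choose g hg1 hg2 hg3 using hg
    refine ⟨E, inferInstance, inferInstance, subComod E h3, hE, s, g, fun N => ⟨hg1 N, hg2 N⟩, ?_, ?_⟩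
    · intro N
      simp only [hg3]
      have h1 := (disjoint_ofSub _ _).2 (((sSupIndep_iff _).1 hind) N)
      simpa only [ofSub_iSup] using h1
    · simp only [hg3]
      rw [← ofSub_iSup, ← sSup_eq_iSup', hsup, ofSub_top]
  · rintro ⟨E, iA, iM, iC, hE, ι, f, hf, -, hsup⟩
    have hD : coeffSpace K C E = ⊤ := by
      refine top_le_iff.1 (hsup.symm.le.trans (iSup_le fun i => ?_))
      rintro _ ⟨v, rfl⟩
      rw [eq_coeff (hf i).1]
      exact coeff_mem _ _
    intro B hB
    rcases (isSimpleSubcoalg_coeffSpace hE).2.2 B (hD ▸ le_top) hB with h | h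
    · exact Or.inl h
    · exact Or.inr (h.trans hD)

end Groth.Agent.S14850
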