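import Groth.Statements.S14852
import Groth.Agent.H66.Coeff
-- import your own Groth.Agent.* helpers here

set_option autoImplicit false
universe u v w w'
open HopfRep

namespace Groth.Agent.S14852
open TensorProduct Groth.Agent.Lib.Comod.Basic Groth.Agent.H66.DualMod Groth.Agent.H66.Coeff
set_option linter.style.haveILetI false

open TensorProduct in
/-- Over a field K, let C be a cosemisimple coalgebra and D₁ ≠ D₂ simple subcoalgebras of C. If V is a
right C-comodule whose coaction lands in V ⊗ D₁ and W one whose coaction lands in W ⊗ D₂, then the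
only comodule map V → W is zero. Here a subcoalgebra of C is a subspace B whose comultiplication
lands in the image of B ⊗ B, and a simple subcoalgebra is a nonzero subcoalgebra D whose only
subcoalgebras contained in D are 0 and D; cosemisimple means C is the internal direct sum of a
family of simple subcoalgebras. (The published statement is for quasi-coherent G-sheaves on a scheme
with trivial action of G = Spec C; this row is the statement on spaces of sections to which its
proof reduces.) -/
theorem result {K : Type u} {C : Type v} [Field K]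
    [AddCommGroup C] [Module K C] [Coalgebra K C]
    (hC : ∃ (ι : Type v) (D : ι → Submodule K C), iSupIndep D ∧ iSup D = ⊤ ∧ ∀ i,
        D i ≠ ⊥ ∧ (∀ b ∈ (D i), CoalgebraStruct.comul (R := K) b ∈ LinearMap.range (TensorProduct.map (D i).subtype (D i).subtype)) ∧
        ∀ B : Submodule K C, B ≤ D i → (∀ b ∈ B, CoalgebraStruct.comul (R := K) b ∈ LinearMap.range (TensorProduct.map B.subtype B.subtype)) → B = ⊥ ∨ B = D i)
    (D₁ D₂ : Submodule K C) (hne : D₁ ≠ D₂)
    (h₁ : D₁ ≠ ⊥ ∧ (∀ b ∈ D₁, CoalgebraStruct.comul (R := K) b ∈ LinearMap.range (TensorProduct.map D₁.subtype D₁.subtype)) ∧ ∀ B : Submodule K C, B ≤ D₁ → (∀ b ∈ B, CoalgebraStruct.comul (R := K) b ∈ LinearMap.range (TensorProduct.map B.subtype B.subtype)) → B = ⊥ ∨ B = D₁)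
    (h₂ : D₂ ≠ ⊥ ∧ (∀ b ∈ D₂, CoalgebraStruct.comul (R := K) b ∈ LinearMap.range (TensorProduct.map D₂.subtype D₂.subtype)) ∧ ∀ B : Submodule K C, B ≤ D₂ → (∀ b ∈ B, CoalgebraStruct.comul (R := K) b ∈ LinearMap.range (TensorProduct.map B.subtype B.subtype)) → B = ⊥ ∨ B = D₂)
    {V : Type w} [AddCommGroup V] [Module K V] [HopfRep.Comod K C V]
    {W : Type w'} [AddCommGroup W] [Module K W] [HopfRep.Comod K C W]
    (hV : ∀ v : V, HopfRep.Comod.coact (k := K) (A := C) v ∈ LinearMap.range (LinearMap.lTensor V D₁.subtype))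
    (hW : ∀ w : W, HopfRep.Comod.coact (k := K) (A := C) w ∈ LinearMap.range (LinearMap.lTensor W D₂.subtype))
    (φ : V →ₗ[K] W) (hφ : Hoch.IsComodHom C φ) : φ = 0 := by
  have hle1 : coeffSpace K C V ≤ D₁ := (coeffSpace_le_iff _).2 hV
  have hle2 : coeffSpace K C W ≤ D₂ := (coeffSpace_le_iff _).2 hW
  have hdis : D₁ ⊓ D₂ = ⊥ := by
    by_contra h0
    obtain ⟨E, e1, e2, e3, -, e5⟩ := exists_simple_le
      (isSubcomod_inf (H66.Coeff.IsSubcoalg.isSubcomod (B := D₁) h₁.2.1) (H66.Coeff.IsSubcoalg.isSubcomod (B := D₂) h₂.2.1)) h0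
    exact hne ((coeffSpace_subComod_eq (D := D₁) h₁ e3 e2 (e1.trans inf_le_left)).symm.trans
      (coeffSpace_subComod_eq (D := D₂) h₂ e3 e2 (e1.trans inf_le_right)))
  refine LinearMap.ext fun v => (Module.forall_dual_apply_eq_zero_iff K (φ v)).1 fun ψ => ?_
  have h1 : coeff (C := C) ψ (φ v) ∈ D₁ ⊓ D₂ :=
    ⟨by rw [coeff_comp hφ]; exact hle1 (coeff_mem _ _), hle2 (coeff_mem _ _)⟩
  rw [hdis, Submodule.mem_bot] at h1
  rw [← counit_coeff (C := C) ψ (φ v), h1, map_zero]

end Groth.Agent.S14852
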