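import Groth.Statements.S14853
import Groth.Agent.Lib.HilbD.Stable

set_option autoImplicit false
universe u
open scoped TensorProduct
open HilbD

namespace Groth.Agent.S14853

open AlgebraicGeometry CategoryTheory in
/-- Let R be a commutative ring, B a commutative R-algebra, e a natural number, and X an R-scheme
representing the Grassmannian functor Grass^e(B) on affine R-schemes — bijections, natural in the
commutative R-algebra A, between R-morphisms Spec A → X and A-submodules U of A ⊗_R B whose quotient
is finite projective of constant rank e. Then the Hilbert functor of e points of Spec B over Spec R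
is a closed subfunctor: there is a closed immersion ι : Z → X such that an R-morphism g : Spec A → X
factors through ι if and only if the submodule U attached to g is an ideal of A ⊗_R B, i.e. is
stable under multiplication by every 1 ⊗ b. (The published statement is for a quasi-coherent algebra
over an arbitrary base scheme and for the equivariant functors; this row is the case of an affine
base and trivial group.) -/
theorem result (R : Type u) [CommRing R]
    (B : Type u) [CommRing B] [Algebra R B]
    (e : ℕ) (X : Over (Spec (CommRingCat.of R)))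
    (eX : ∀ A : CommAlgCat.{u} R,
      ((Over.mk (Spec.map (CommRingCat.ofHom (algebraMap R A)))) ⟶ X) ≃ (Module.Grassmannian.functor (R := R) (M := B) e).obj A)
    (heX : ∀ (A C : CommAlgCat.{u} R) (φ : A ⟶ C)
      (g : Over.mk (Spec.map (CommRingCat.ofHom (algebraMap R A))) ⟶ X) (g' : Over.mk (Spec.map (CommRingCat.ofHom (algebraMap R C))) ⟶ X),
      g'.left = Spec.map (CommRingCat.ofHom φ.hom.toRingHom) ≫ g.left →
        eX C g' = (Module.Grassmannian.functor (R := R) (M := B) e).map φ (eX A g)) :
    ∃ (Z : Scheme.{u}) (ι : Z ⟶ X.left), IsClosedImmersion ι ∧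
      ∀ (A : CommAlgCat.{u} R) (g : Over.mk (Spec.map (CommRingCat.ofHom (algebraMap R A))) ⟶ X),
        (∃ h : (Over.mk (Spec.map (CommRingCat.ofHom (algebraMap R A)))).left ⟶ Z, h ≫ ι = g.left) ↔
          ∀ (b : B) (x : ↑A ⊗[R] B), x ∈ (eX A g).toSubmodule →
            ((1 : ↑A) ⊗ₜ[R] b) * x ∈ (eX A g).toSubmodule := by
  let φU : ∀ U : X.left.affineOpens, CommRingCat.of R ⟶ Γ(X.left, U.1) := fun U =>
    Spec.preimage (U.2.fromSpec ≫ X.hom)
  have hφU : ∀ U : X.left.affineOpens, Spec.map (φU U) = U.2.fromSpec ≫ X.hom := fun U =>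
    Spec.map_preimage _
  let aU : ∀ U : X.left.affineOpens, Algebra R Γ(X.left, U.1) := fun U => (φU U).hom.toAlgebra
  let AU : X.left.affineOpens → CommAlgCat.{u} R := fun U =>
    letI := aU U
    CommAlgCat.of R Γ(X.left, U.1)
  let gU : ∀ U : X.left.affineOpens,
      Over.mk (Spec.map (CommRingCat.ofHom (algebraMap R (AU U)))) ⟶ X := fun U =>
    Over.homMk U.2.fromSpec (hφU U).symm
  let J : ∀ U : X.left.affineOpens, Ideal Γ(X.left, U.1) := fun U =>
    Lib.HilbD.Stable.defectIdeal (eX (AU U) (gU U))
  have key : ∀ (U : X.left.affineOpens) (A : CommAlgCat.{u} R)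
      (g : Over.mk (Spec.map (CommRingCat.ofHom (algebraMap R A))) ⟶ X)
      (ψ : Γ(X.left, U.1) ⟶ CommRingCat.of A), g.left = Spec.map ψ ≫ U.2.fromSpec →
      (Lib.HilbD.Stable.IsStable (eX A g) ↔ J U ≤ RingHom.ker ψ.hom) := by
    intro U A g ψ hg
    let := aU U
    have hψ : φU U ≫ ψ = CommRingCat.ofHom (algebraMap R A) := by
      apply Spec.map_injective
      rw [Spec.map_comp, hφU, ← Category.assoc, ← hg]
      exact Over.w g
    let f : AU U ⟶ A := CommAlgCat.ofHom
      { ψ.hom with commutes' := fun r => congr($hψ r) }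
    have he : eX A g = (Module.Grassmannian.functor (R := R) (M := B) e).map f (eX (AU U) (gU U)) :=
      heX (AU U) A f (gU U) g hg
    rw [he]
    exact Lib.HilbD.Stable.isStable_map_iff f.hom _
  let JS : X.left.IdealSheafData :=
    { ideal := J
      map_ideal_basicOpen := fun U a => by
        set U' : X.left.affineOpens := X.left.affineBasicOpen a
        have hle : U'.1 ≤ U.1 := X.left.basicOpen_le a
        let r : Γ(X.left, U.1) ⟶ Γ(X.left, U'.1) := X.left.presheaf.map (homOfLE hle).op
        have hr : Spec.map r ≫ U.2.fromSpec = U'.2.fromSpec := U.2.map_fromSpec U'.2 (homOfLE hle).op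
        have hiff : ∀ {C : Type u} [CommRing C] (φ : Γ(X.left, U'.1) →+* C),
            J U' ≤ RingHom.ker φ ↔ J U ≤ RingHom.ker (φ.comp r.hom) := by
          intro C _ φ
          let : Algebra R C := (φ.comp (φU U').hom).toAlgebra
          let g : Over.mk (Spec.map (CommRingCat.ofHom (algebraMap R (CommAlgCat.of R C)))) ⟶ X :=
            Over.homMk (Spec.map (CommRingCat.ofHom φ) ≫ U'.2.fromSpec) (by
              rw [Category.assoc, ← hφU, ← Spec.map_comp]; rfl)
          have h1 := key U' (CommAlgCat.of R C) g (CommRingCat.ofHom φ) rfl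
          have h2 := key U (CommAlgCat.of R C) g (r ≫ CommRingCat.ofHom φ) (by
            rw [Spec.map_comp, Category.assoc, hr]; rfl)
          exact h1.symm.trans h2
        show (J U).map r.hom = J U'
        apply le_antisymm
        · rw [Ideal.map_le_iff_le_comap]
          have := (hiff (Ideal.Quotient.mk (J U'))).mp (by rw [Ideal.mk_ker])
          rwa [← RingHom.comap_ker, Ideal.mk_ker] at this
        · have := (hiff (Ideal.Quotient.mk ((J U).map r.hom))).mpr (by
            rw [← RingHom.comap_ker, Ideal.mk_ker]; exact Ideal.le_comap_map)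
          rwa [Ideal.mk_ker] at this }
  refine ⟨JS.subscheme, JS.subschemeι, inferInstance, fun A g => ?_⟩
  change _ ↔ Lib.HilbD.Stable.IsStable (eX A g)
  let S := Spec (CommRingCat.of A)
  let gl : S ⟶ X.left := g.left
  have hfac : (∃ h : S ⟶ JS.subscheme, h ≫ JS.subschemeι = gl) ↔ JS.comap gl = ⊥ := by
    constructor
    · rintro ⟨h, hh⟩
      have h0 : JS.comap JS.subschemeι = ⊥ :=
        le_bot_iff.mp (Scheme.IdealSheafData.le_map_iff_comap_le.mp (by
          rw [Scheme.IdealSheafData.map_bot, Scheme.IdealSheafData.ker_subschemeι]))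
      rw [← hh, Scheme.IdealSheafData.comap_comp, h0, Scheme.IdealSheafData.comap_bot]
    · intro h
      have hk : JS.subschemeι.ker ≤ gl.ker := by
        rw [Scheme.IdealSheafData.ker_subschemeι, ← Scheme.IdealSheafData.map_bot,
          Scheme.IdealSheafData.le_map_iff_comap_le, h]
      exact ⟨IsClosedImmersion.lift _ _ hk, IsClosedImmersion.lift_fac _ _ hk⟩
  refine hfac.trans ?_
  have hcov : ∀ x : S, ∃ (U : X.left.affineOpens) (V : S.affineOpens),
      x ∈ V.1 ∧ V.1 ≤ gl ⁻¹ᵁ U.1 := fun x => by
    obtain ⟨U, V, -, hx, -, -, hle⟩ := Lib.Ideal.Comap.exists_affine_le_preimage gl x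
      (W := ⊤) trivial (U := ⊤) trivial
    exact ⟨U, V, hx, hle⟩
  choose U V hx hle using hcov
  let χ : ∀ x, CommRingCat.of A ⟶ Γ(S, (V x).1) := fun x =>
    (Scheme.ΓSpecIso (CommRingCat.of A)).inv ≫ S.presheaf.map (homOfLE le_top).op
  have hχ : ∀ x, Spec.map (χ x) = (V x).2.fromSpec := fun x => by
    have h1 := (isAffineOpen_top S).map_fromSpec (V x).2 (homOfLE le_top).op
    rw [IsAffineOpen.fromSpec_top, Scheme.isoSpec_Spec_inv] at h1
    rw [← h1, Spec.map_comp]
  have hloc : ∀ x, (JS.comap gl).ideal (V x) = ⊥ ↔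
      Lib.HilbD.Stable.defectIdeal (eX A g) ≤ RingHom.ker (χ x).hom := by
    intro x
    rw [Lib.Ideal.Comap.ideal_comap gl JS (U x) (V x) (hle x), Ideal.map_eq_bot_iff_le_ker]
    let : Algebra R Γ(S, (V x).1) := ((χ x).hom.comp (algebraMap R A)).toAlgebra
    let C : CommAlgCat.{u} R := CommAlgCat.of R Γ(S, (V x).1)
    let f : A ⟶ C := CommAlgCat.ofHom { (χ x).hom with commutes' := fun _ => rfl }
    let g' : Over.mk (Spec.map (CommRingCat.ofHom (algebraMap R C))) ⟶ X :=
      Over.homMk (Spec.map (χ x) ≫ gl) (by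
        show (Spec.map (χ x) ≫ gl) ≫ X.hom = Spec.map (CommRingCat.ofHom (algebraMap R C))
        rw [Category.assoc, show gl ≫ X.hom = Spec.map (CommRingCat.ofHom (algebraMap R A)) from
          Over.w g, ← Spec.map_comp]
        rfl)
    have h1 := key (U x) C g' (gl.appLE (U x).1 (V x).1 (hle x)) (by
      show Spec.map (χ x) ≫ gl = Spec.map (gl.appLE (U x).1 (V x).1 (hle x)) ≫ (U x).2.fromSpec
      rw [IsAffineOpen.SpecMap_appLE_fromSpec gl (U x).2 (V x).2, hχ])
    have he : eX C g' = (Module.Grassmannian.functor (R := R) (M := B) e).map f (eX A g) :=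
      heX A C f g g' rfl
    rw [he] at h1
    exact h1.symm.trans (Lib.HilbD.Stable.isStable_map_iff f.hom _)
  refine Iff.trans ?_ (Lib.HilbD.Stable.isStable_iff (eX A g)).symm
  constructor
  · intro h
    refine le_bot_iff.mp fun d hd => ?_
    rw [Submodule.mem_bot]
    apply (ConcreteCategory.bijective_of_isIso (Scheme.ΓSpecIso (CommRingCat.of A)).inv).1
    rw [map_zero]
    refine TopCat.Sheaf.eq_of_locally_eq' S.sheaf (fun x => (V x).1) ⊤ (fun x => homOfLE le_top)
      (fun x _ => TopologicalSpace.Opens.mem_iSup.mpr ⟨x, hx x⟩) _ _ fun x => ?_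
    refine Eq.trans ?_ (map_zero _).symm
    exact (hloc x).mp (by rw [h, Scheme.IdealSheafData.ideal_bot, Pi.bot_apply]) hd
  · intro h
    refine Scheme.IdealSheafData.ext_of_iSup_eq_top V
      (eq_top_iff.mpr fun x _ => TopologicalSpace.Opens.mem_iSup.mpr ⟨x, hx x⟩) fun x => ?_
    rw [Scheme.IdealSheafData.ideal_bot, Pi.bot_apply]
    exact (hloc x).mpr (by rw [h]; exact bot_le)

end Groth.Agent.S14853
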