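import Groth.Statements.S14855
import Mathlib.RingTheory.WittVector.Identities
import Mathlib.RingTheory.WittVector.Truncated
import Mathlib.RingTheory.AdicCompletion.Basic
import Mathlib.Data.ZMod.Basic
import Mathlib.Algebra.MvPolynomial.Eval
import Mathlib.Algebra.CharP.Algebra
import Mathlib.Algebra.CharP.Quotient

set_option autoImplicit false
universe u
open CAlg

namespace Groth.Agent.S14855

set_option maxHeartbeats 800000

lemma coeff_p_mul_mem {p : ℕ} [Fact p.Prime] {R : Type u} [CommRing R] (J : Ideal R) (x : WittVector p R)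
    (m : ℕ) (i : ℕ) (hx : ∀ j, j < m → x.coeff j ∈ J) (hi : i < m) :
    (x * p).coeff i ∈ J * (J ⊔ Ideal.span {(p : R)}) := by
  classical
  let y : WittVector p (MvPolynomial (Fin m) ℤ) := WittVector.mk p fun j => if h : j < m then MvPolynomial.X ⟨j, h⟩ else 0
  let red : (MvPolynomial (Fin m) ℤ) →+* MvPolynomial (Fin m) (ZMod p) := MvPolynomial.map (Int.castRingHom (ZMod p))
  let main : (MvPolynomial (Fin m) ℤ) := if h : 0 < i then (MvPolynomial.X ⟨i - 1, by omega⟩) ^ p else 0
  haveI : CharP (MvPolynomial (Fin m) (ZMod p)) p := inferInstance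
  have hred : red ((y * p).coeff i - main) = 0 := by
    rw [map_sub, sub_eq_zero, ← WittVector.map_coeff red, map_mul, map_natCast]
    rcases i with _ | i
    · rw [WittVector.mul_charP_coeff_zero]; simp [main]
    · rw [WittVector.mul_charP_coeff_succ]
      simp [main, y, show i < m by omega, red]
  have hdvd : MvPolynomial.C (p : ℤ) ∣ (y * p).coeff i - main :=
    (MvPolynomial.C_dvd_iff_map_hom_eq_zero (Int.castRingHom (ZMod p)) (p : ℤ)
      (fun r => (ZMod.intCast_zmod_eq_zero_iff_dvd r p)) _).2 hred
  obtain ⟨Q, hQ⟩ := hdvd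
  -- evaluation at zero
  let e0 : (MvPolynomial (Fin m) ℤ) →+* ℤ := MvPolynomial.constantCoeff
  have h0 : e0 ((y * p).coeff i) = 0 := by
    rw [← WittVector.map_coeff e0, map_mul]
    have : WittVector.map e0 y = 0 := by
      ext j
      rw [WittVector.map_coeff, WittVector.zero_coeff]
      simp only [y, WittVector.coeff_mk]
      split_ifs with hj
      · exact MvPolynomial.constantCoeff_X ℤ _
      · exact map_zero _
    rw [this, zero_mul, WittVector.zero_coeff]
  have hQ0 : e0 Q = 0 := by
    have h := congrArg e0 hQ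
    rw [map_sub, map_mul, h0] at h
    have hmain : e0 main = 0 := by
      simp only [main]
      split_ifs with hi0
      · rw [map_pow, show e0 (MvPolynomial.X ⟨i - 1, by omega⟩) = 0 from MvPolynomial.constantCoeff_X ℤ _,
          zero_pow (Fact.out : p.Prime).ne_zero]
      · exact map_zero _
    rw [hmain, sub_zero, show e0 (MvPolynomial.C (p : ℤ)) = (p : ℤ) from MvPolynomial.constantCoeff_C _ _] at h
    exact (mul_eq_zero.1 h.symm).resolve_left (Nat.cast_ne_zero.2 (Fact.out : p.Prime).ne_zero)
  let ev : (MvPolynomial (Fin m) ℤ) →+* R := MvPolynomial.eval₂Hom (Int.castRingHom R) fun j : Fin m => x.coeff j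
  have hmem : ∀ q : (MvPolynomial (Fin m) ℤ), e0 q = 0 → ev q ∈ J := by
    intro q hq
    have : (Ideal.Quotient.mk J).comp ev = ((Ideal.Quotient.mk J).comp (Int.castRingHom R)).comp e0 := by
      apply MvPolynomial.ringHom_ext
      · intro r; simp [ev, e0]
      · intro j
        simp only [RingHom.comp_apply, ev, e0, MvPolynomial.eval₂Hom_X', MvPolynomial.constantCoeff_X, map_zero]
        exact Ideal.Quotient.eq_zero_iff_mem.2 (hx j.1 j.2)
    have := RingHom.congr_fun this q
    rw [RingHom.comp_apply, RingHom.comp_apply, hq, map_zero] at this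
    exact Ideal.Quotient.eq_zero_iff_mem.1 this
  -- compare with x
  have hxy : (WittVector.map ev (y * (p : WittVector p (MvPolynomial (Fin m) ℤ)))).coeff i = (x * p).coeff i := by
    have ht : WittVector.truncate m (WittVector.map ev y) = WittVector.truncate m x := by
      ext j
      rw [WittVector.coeff_truncate, WittVector.coeff_truncate, WittVector.map_coeff]
      simp [y, ev, j.2]
    have h := congrArg (fun w : TruncatedWittVector p m R => (w * p).coeff ⟨i, hi⟩) ht
    try simp only at h
    rw [← map_natCast (WittVector.truncate m : WittVector p R →+* _) p, ← map_mul, ← map_mul,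
      WittVector.coeff_truncate, WittVector.coeff_truncate] at h
    rw [map_mul, map_natCast]
    exact h
  rw [← hxy, WittVector.map_coeff, show (y * p).coeff i = main + MvPolynomial.C (p : ℤ) * Q by rw [← hQ]; ring,
    map_add, map_mul]
  refine add_mem ?_ ?_
  · simp only [main]
    split_ifs with h
    · have hX : ev (MvPolynomial.X ⟨i - 1, by omega⟩) ∈ J := hmem _ (MvPolynomial.constantCoeff_X ℤ _)
      have hp2 := (Fact.out : p.Prime).two_le
      rw [map_pow, show ev (MvPolynomial.X ⟨i - 1, by omega⟩) ^ p =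
        ev (MvPolynomial.X ⟨i - 1, by omega⟩) * ev (MvPolynomial.X ⟨i - 1, by omega⟩) ^ (p - 1) by
          rw [← pow_succ', Nat.sub_add_cancel (by omega)]]
      exact Ideal.mul_mem_mul hX (Ideal.mem_sup_left (Ideal.pow_mem_of_mem _ hX _ (by omega)))
    · rw [map_zero]; exact zero_mem _
  · rw [show ev (MvPolynomial.C (p : ℤ)) = (p : R) by simp [ev], mul_comm (p : R)]
    exact Ideal.mul_mem_mul (hmem _ hQ0) (Ideal.mem_sup_right (Ideal.mem_span_singleton_self _))

/-- Reduction to `W_n(R/p^k)`. -/
noncomputable def lvl (p : ℕ) [Fact p.Prime] (R : Type u) [CommRing R] (n k : ℕ) :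
    WittVector p R →+* TruncatedWittVector p n (R ⧸ Ideal.span {(p : R)} ^ k) :=
  (WittVector.truncate n).comp (WittVector.map (Ideal.Quotient.mk _))

lemma lvl_eq {p : ℕ} [Fact p.Prime] {R : Type u} [CommRing R] (n k : ℕ) (x y : WittVector p R) :
    lvl p R n k x = lvl p R n k y ↔ ∀ i < n, x.coeff i - y.coeff i ∈ Ideal.span {(p : R)} ^ k := by
  simp only [lvl, RingHom.comp_apply, TruncatedWittVector.ext_iff, WittVector.coeff_truncate, WittVector.map_coeff]
  exact ⟨fun h i hi => Ideal.Quotient.eq.1 (h ⟨i, hi⟩), fun h i => Ideal.Quotient.eq.2 (h i i.2)⟩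

lemma lvl_p_pow {p : ℕ} [Fact p.Prime] {R : Type u} [CommRing R] (n k N : ℕ) (h : n + k ≤ N) :
    lvl p R n k ((p : WittVector p R) ^ N) = 0 := by
  -- first `n` steps reach `p`, each further step gains a factor `p`
  let P : Ideal R := Ideal.span {(p : R)}
  have h1 : ∀ j, ∀ i, i < j → ((p : WittVector p R) ^ j).coeff i ∈ P := by
    intro j i hi
    rw [← Ideal.Quotient.eq_zero_iff_mem, ← WittVector.map_coeff, map_pow, map_natCast]
    rcases subsingleton_or_nontrivial (R ⧸ P) with h | h
    · exact Subsingleton.elim _ _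
    · haveI : CharP (R ⧸ P) p := CharP.quotient R p (by
        intro hu
        exact not_subsingleton (R ⧸ P) (Ideal.Quotient.subsingleton_iff.2 (Ideal.span_singleton_eq_top.2 hu)))
      rw [← one_mul ((p : WittVector p (R ⧸ P)) ^ j)]
      exact WittVector.mul_pow_charP_coeff_zero _ hi
  have h2 : ∀ t, ∀ i < n, ((p : WittVector p R) ^ (n + t)).coeff i ∈ P ^ (t + 1) := by
    intro t
    induction t with
    | zero => intro i hi; simpa using h1 n i hi
    | succ t ih =>
      intro i hi
      rw [← add_assoc, pow_succ (p : WittVector p R), pow_succ P (t + 1)]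
      have := coeff_p_mul_mem (P ^ (t + 1)) _ n i ih hi
      exact Ideal.mul_mono le_rfl (sup_le (Ideal.pow_le_self (by omega)) le_rfl) this
  rw [← map_zero (lvl p R n k), lvl_eq]
  intro i hi
  rw [WittVector.zero_coeff, sub_zero, show N = n + (N - n) by omega]
  exact Ideal.pow_le_pow_right (by omega) (h2 (N - n) i hi)

lemma ext_levels {p : ℕ} [Fact p.Prime] {R : Type u} [CommRing R] [IsHausdorff (Ideal.span {(p : R)}) R]
    (x y : WittVector p R) (h : ∀ n k, lvl p R n k x = lvl p R n k y) : x = y := by
  ext i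
  refine eq_of_sub_eq_zero (IsHausdorff.haus' (I := Ideal.span {(p : R)}) _ fun k => ?_)
  rw [SModEq.zero, smul_eq_mul, Ideal.mul_top]
  exact (lvl_eq (i + 1) k x y).1 (h _ _) i (Nat.lt_succ_self i)

lemma exists_sum {p : ℕ} [Fact p.Prime] {R : Type u} [CommRing R] [IsAdicComplete (Ideal.span {(p : R)}) R]
    (y : ℕ → WittVector p R) : ∃ S : WittVector p R, ∀ n k N, n + k ≤ N →
      lvl p R n k S = lvl p R n k (∑ l ∈ Finset.range N, (p : WittVector p R) ^ l * y l) := by
  classical
  let T : ℕ → WittVector p R := fun N => ∑ l ∈ Finset.range N, (p : WittVector p R) ^ l * y l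
  have hT : ∀ n k N N', n + k ≤ N → N ≤ N' → lvl p R n k (T N) = lvl p R n k (T N') := by
    intro n k N N' h h'
    show _ = lvl p R n k (∑ l ∈ Finset.range N', _)
    rw [← Finset.sum_range_add_sum_Ico _ h', map_add]
    refine (add_eq_left.2 ?_).symm
    rw [map_sum]
    exact Finset.sum_eq_zero fun l hl => by rw [map_mul, lvl_p_pow n k l (h.trans (Finset.mem_Ico.1 hl).1), zero_mul]
  have hlim : ∀ i, ∃ c : R, ∀ k, (T (i + 1 + k)).coeff i ≡ c [SMOD (Ideal.span {(p : R)} ^ k • ⊤ : Submodule R R)] := by
    intro i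
    refine IsPrecomplete.prec inferInstance (f := fun k => (T (i + 1 + k)).coeff i) fun {m n} hmn => ?_
    rw [SModEq.sub_mem, smul_eq_mul, Ideal.mul_top]
    exact (lvl_eq (i + 1) m _ _).1 (hT _ m _ _ le_rfl (by omega)) i (Nat.lt_succ_self i)
  choose c hc using hlim
  refine ⟨WittVector.mk p c, fun n k N h => (lvl_eq n k _ _).2 fun i hi => ?_⟩
  have h1 := hc i k
  rw [SModEq.sub_mem, smul_eq_mul, Ideal.mul_top] at h1
  have h2 := (lvl_eq (i + 1) k _ _).1 (hT (i + 1) k (i + 1 + k) N le_rfl (by omega)) i (Nat.lt_succ_self i)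
  rw [WittVector.coeff_mk]
  show _ - (T N).coeff i ∈ _
  rw [show c i - (T N).coeff i = ((T (i + 1 + k)).coeff i - (T N).coeff i) - ((T (i + 1 + k)).coeff i - c i) by ring]
  exact sub_mem h2 h1


/-- Let p be a prime and R a commutative ring which is complete and separated for the p-adic topology.
Then the ring W(R) of p-typical Witt vectors of R is complete and separated for its own p-adic
topology, and it is also complete and separated for the adic topology of the ideal I_R, the kernel
of the projection of W(R) onto the zeroth Witt component. -/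
theorem result (p : ℕ) [Fact p.Prime] (R : Type u) [CommRing R]
    [IsAdicComplete (Ideal.span {(p : R)}) R] :
    IsAdicComplete (Ideal.span {(p : WittVector p R)}) (WittVector p R) ∧
      IsAdicComplete (RingHom.ker (WittVector.constantCoeff : WittVector p R →+* R)) (WittVector p R) := by
  classical
  let W := WittVector p R
  let P : Ideal W := Ideal.span {(p : W)}
  let V : W →+ W := WittVector.verschiebung
  let I : Ideal W := RingHom.ker (WittVector.constantCoeff : W →+* R)
  have hPn : ∀ n : ℕ, (P ^ n • ⊤ : Submodule W W) = Ideal.span {(p : W) ^ n} := fun n => by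
    rw [smul_eq_mul, Ideal.mul_top, Ideal.span_singleton_pow]
  have hausP : ∀ x : W, (∀ N : ℕ, (p : W) ^ N ∣ x) → x = 0 := by
    intro x h
    refine ext_levels x 0 fun n k => ?_
    obtain ⟨c, hc⟩ := h (n + k)
    rw [hc, map_mul, lvl_p_pow n k _ le_rfl, zero_mul, map_zero]
  obtain ⟨S, hS⟩ : ∃ S : (ℕ → W) → W, ∀ y n k N, n + k ≤ N →
      lvl p R n k (S y) = lvl p R n k (∑ l ∈ Finset.range N, (p : W) ^ l * y l) :=
    ⟨fun y => (exists_sum y).choose, fun y => (exists_sum y).choose_spec⟩
  have hsplit : ∀ (y : ℕ → W) (j : ℕ),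
      S y = (∑ l ∈ Finset.range j, (p : W) ^ l * y l) + (p : W) ^ j * S (fun l => y (j + l)) := by
    intro y j
    refine ext_levels _ _ fun n k => ?_
    rw [hS y n k (j + (n + k)) (by omega), map_add, map_mul, hS _ n k (n + k) le_rfl, ← map_mul, ← map_add,
      Finset.sum_range_add, Finset.mul_sum]
    refine congrArg (lvl p R n k) (congrArg₂ (· + ·) rfl ?_)
    exact Finset.sum_congr rfl fun l _ => by rw [pow_add, mul_assoc]
  have hIV : ∀ x : W, x ∈ I → ∃ a, V a = x := fun x hx => ⟨x.shift 1, by
    have := WittVector.eq_iterate_verschiebung (x := x) (n := 1) (fun i hi => by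
      rw [Nat.lt_one_iff.1 hi]; exact hx)
    simpa [V] using this.symm⟩
  have hVI : ∀ a, V a ∈ I := fun a => WittVector.verschiebung_coeff_zero a
  have hVV : ∀ a b : W, V a * V b = (p : W) * V (a * b) := by
    intro a b
    rw [show V a * V b = V (a * WittVector.frobenius (V b)) from (WittVector.verschiebung_mul_frobenius _ _).symm,
      show WittVector.frobenius (V b) = b * (p : W) from WittVector.frobenius_verschiebung b,
      ← mul_assoc, mul_comm (a * b) (p : W), ← nsmul_eq_mul, map_nsmul, nsmul_eq_mul]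
  have hI1 : ∀ j, ∀ x ∈ I ^ (j + 1), ∃ z ∈ I, x = (p : W) ^ j * z := by
    intro j
    induction j with
    | zero => intro x hx; exact ⟨x, by simpa using hx, by simp⟩
    | succ j ih =>
      intro x hx
      rw [pow_succ] at hx
      induction hx using Submodule.mul_induction_on' with
      | mem_mul_mem u hu v hv =>
        obtain ⟨z, hz, rfl⟩ := ih u hu
        obtain ⟨a, rfl⟩ := hIV z hz
        obtain ⟨b, rfl⟩ := hIV v hv
        refine ⟨V (a * b), hVI _, ?_⟩
        rw [pow_succ (p : W) j, mul_assoc, mul_assoc, hVV]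
      | add u _ v _ hu hv =>
        obtain ⟨z, hz, rfl⟩ := hu
        obtain ⟨z', hz', rfl⟩ := hv
        exact ⟨z + z', add_mem hz hz', (mul_add _ _ _).symm⟩
  have hI2 : ∀ j, ∀ z ∈ I, (p : W) ^ j * z ∈ I ^ (j + 1) := by
    intro j
    induction j with
    | zero => intro z hz; simpa using hz
    | succ j ih =>
      intro z hz
      obtain ⟨a, rfl⟩ := hIV z hz
      have e : (p : W) * V a = V a * V 1 := by
        rw [show V a * V 1 = V (a * WittVector.frobenius (V 1)) from (WittVector.verschiebung_mul_frobenius _ _).symm,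
          WittVector.frobenius_verschiebung, one_mul, mul_comm a, ← nsmul_eq_mul, ← nsmul_eq_mul, map_nsmul]
      rw [pow_succ (p : W) j, mul_assoc, e, ← mul_assoc, pow_succ I (j + 1)]
      exact Ideal.mul_mem_mul (ih _ (hVI a)) (hVI 1)
  refine ⟨{ haus' := fun x hx => hausP x fun N => ?_, prec' := fun {f} hf => ?_ },
    { haus' := fun x hx => hausP x fun N => ?_, prec' := fun {f} hf => ?_ }⟩
  · have := hx N
    rwa [SModEq.zero, hPn, Ideal.mem_span_singleton] at this
  · have hd : ∀ m, ∃ c, f (m + 1) - f m = (p : W) ^ m * c := fun m => by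
      have := (hf (Nat.le_succ m)).symm
      rw [SModEq.sub_mem, hPn, Ideal.mem_span_singleton] at this
      exact this
    choose y hy using hd
    refine ⟨f 0 + S y, fun n => ?_⟩
    rw [SModEq.sub_mem, hPn, Ideal.mem_span_singleton, hsplit y n,
      show ∑ l ∈ Finset.range n, (p : W) ^ l * y l = f n - f 0 by
        rw [← Finset.sum_range_sub f n]; exact Finset.sum_congr rfl fun l _ => (hy l).symm]
    exact ⟨-S (fun l => y (n + l)), by ring⟩
  · have := hx (N + 1)
    rw [SModEq.zero, smul_eq_mul, Ideal.mul_top] at this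
    obtain ⟨z, -, rfl⟩ := hI1 N x this
    exact dvd_mul_right _ _
  · have hd : ∀ m, ∃ c ∈ I, f (m + 2) - f (m + 1) = (p : W) ^ m * c := fun m => by
      have := (hf (Nat.le_succ (m + 1))).symm
      rw [SModEq.sub_mem, smul_eq_mul, Ideal.mul_top] at this
      exact hI1 m _ this
    choose y hyI hy using hd
    refine ⟨f 1 + S y, fun n => ?_⟩
    rw [SModEq.sub_mem, smul_eq_mul, Ideal.mul_top]
    rcases n with _ | j
    · simp
    have hSI : ∀ z : ℕ → W, (∀ l, z l ∈ I) → S z ∈ I := by
      intro z hz
      show (S z).coeff 0 = 0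
      refine IsHausdorff.haus' (I := Ideal.span {(p : R)}) _ fun k => ?_
      have := congrArg (fun w : TruncatedWittVector p 1 (R ⧸ Ideal.span {(p : R)} ^ k) => w.coeff 0) (hS z 1 k (1 + k) le_rfl)
      simp only [lvl, RingHom.comp_apply, WittVector.coeff_truncate, WittVector.map_coeff] at this
      rw [SModEq.zero, smul_eq_mul, Ideal.mul_top, ← Ideal.Quotient.eq_zero_iff_mem]
      refine this.trans ?_
      rw [Fin.val_zero, show (∑ l ∈ Finset.range (1 + k), (p : W) ^ l * z l).coeff 0 = 0 from
        (sum_mem fun l _ => I.mul_mem_left _ (hz l) : _ ∈ I), map_zero]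
    have htel : ∑ l ∈ Finset.range j, (p : W) ^ l * y l = f (j + 1) - f 1 := by
      rw [← Finset.sum_range_sub (fun l => f (l + 1)) j]
      exact Finset.sum_congr rfl fun l _ => (hy l).symm
    rw [hsplit y j, htel, show f (j + 1) - (f 1 + ((f (j + 1) - f 1) + (p : W) ^ j * S fun l => y (j + l))) =
      -((p : W) ^ j * S fun l => y (j + l)) by ring]
    exact neg_mem (hI2 j _ (hSI _ fun l => hyI _))

end Groth.Agent.S14855
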