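import Groth.Statements.S14856
import Mathlib

set_option autoImplicit false
universe u
open CAlg

namespace Groth.Agent.S14856

/-- Let p be a prime and S a commutative ring in which p is a non-zero-divisor. For a p-typical Witt
vector x over S, a natural number m and an integer s ≥ 1, the power p^s divides each of the Witt
components x_0, …, x_m if and only if p^(n+s) divides the n-th ghost component w_n(x) = x_0^(p^n) +
p x_1^(p^(n-1)) + ⋯ + p^n x_n for every n ≤ m. -/
theorem result (p : ℕ) [Fact p.Prime] (S : Type u) [CommRing S]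
    (hS : ∀ y : S, (p : S) * y = 0 → y = 0) (x : WittVector p S) (m s : ℕ) (hs : 1 ≤ s) :
    (∀ i ≤ m, (p : S) ^ s ∣ x.coeff i) ↔
      (∀ n ≤ m, (p : S) ^ (n + s) ∣ WittVector.ghostComponent n x) := by
  have hp : p.Prime := Fact.out
  have hghost : ∀ n, WittVector.ghostComponent n x =
      ∑ i ∈ Finset.range (n + 1), (p : S) ^ i * x.coeff i ^ p ^ (n - i) := by
    intro n
    simp [WittVector.ghostComponent_apply, wittPolynomial, map_sum, MvPolynomial.aeval_monomial]
  have hterm : ∀ n i, i ≤ n → (p : S) ^ s ∣ x.coeff i →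
      (p : S) ^ (n + s) ∣ (p : S) ^ i * x.coeff i ^ p ^ (n - i) := by
    intro n i hi hd
    have h1 : n - i < p ^ (n - i) := Nat.lt_pow_self hp.one_lt
    have h2 : n + s ≤ i + s * p ^ (n - i) := by
      have : s * (n - i + 1) ≤ s * p ^ (n - i) := Nat.mul_le_mul_left s h1
      have : n - i ≤ s * (n - i) := Nat.le_mul_of_pos_left _ (by omega)
      nlinarith [Nat.sub_add_cancel hi]
    calc (p : S) ^ (n + s) ∣ (p : S) ^ (i + s * p ^ (n - i)) := pow_dvd_pow _ h2
      _ = (p : S) ^ i * ((p : S) ^ s) ^ p ^ (n - i) := by rw [pow_add, pow_mul]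
      _ ∣ _ := mul_dvd_mul_left _ (pow_dvd_pow_of_dvd hd _)
  constructor
  · intro h n hn
    rw [hghost]
    exact Finset.dvd_sum fun i hi => hterm n i (Finset.mem_range_succ_iff.mp hi)
      (h i ((Finset.mem_range_succ_iff.mp hi).trans hn))
  · intro h i
    induction i using Nat.strong_induction_on with
    | _ i ih =>
      intro hi
      have := h i hi
      rw [hghost, Finset.sum_range_succ, Nat.sub_self, pow_zero, pow_one,
        dvd_add_right (Finset.dvd_sum fun j hj => hterm i j (Finset.mem_range.mp hj).le
          (ih j (Finset.mem_range.mp hj) ((Finset.mem_range.mp hj).le.trans hi))), pow_add] at this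
      obtain ⟨c, hc⟩ := this
      refine ⟨c, ?_⟩
      have hreg : ∀ (k : ℕ) (y : S), (p : S) ^ k * y = 0 → y = 0 := by
        intro k
        induction k with
        | zero => simp
        | succ k ihk => intro y hy; rw [pow_succ, mul_assoc] at hy; exact hS _ (ihk _ hy)
      exact sub_eq_zero.mp (hreg i _ (by rw [mul_sub, hc]; ring))

end Groth.Agent.S14856
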