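import Groth.Statements.S14857
import Mathlib.RingTheory.WittVector.Identities
import Mathlib.RingTheory.WittVector.Teichmuller

set_option autoImplicit false
open CAlg

namespace Groth.Agent.S14857

open WittVector in
lemma natCast_dvd_verschiebung_pow (p : ℕ) [hp : Fact p.Prime] {R : Type*} [CommRing R]
    (z : WittVector p R) : (p : WittVector p R) ∣ verschiebung z ^ p := by
  obtain ⟨m, hm⟩ : ∃ m, p = m + 2 := ⟨p - 2, by have := hp.out.two_le; omega⟩
  have e : verschiebung z ^ p = verschiebung z ^ (m + 1) * verschiebung z := by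
    rw [← pow_succ]
    exact congrArg (verschiebung z ^ ·) hm
  have h : verschiebung z ^ (m + 1) * verschiebung z =
      verschiebung (z * frobenius (verschiebung z ^ (m + 1))) := by
    rw [verschiebung_mul_frobenius, mul_comm]
  rw [e, h, map_pow, frobenius_verschiebung]
  refine ⟨verschiebung (z * z * (z * (p : WittVector p R)) ^ m), ?_⟩
  rw [← nsmul_eq_mul, ← map_nsmul, nsmul_eq_mul]
  congr 1
  rw [pow_succ]
  ring

/-- For a prime p, the Teichmüller representative [p^p] of the element p^p of the p-adic integers is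
divisible by p in the ring of p-typical Witt vectors W(ℤ_p). -/
theorem result (p : ℕ) [Fact p.Prime] :
    (p : WittVector p ℤ_[p]) ∣ WittVector.teichmuller p ((p : ℤ_[p]) ^ p) := by
  let T : WittVector p ℤ_[p] := WittVector.teichmuller p (p : ℤ_[p])
  rw [map_pow]
  have hz : ((p : WittVector p ℤ_[p]) - T).coeff 0 = 0 := by
    have h : WittVector.constantCoeff ((p : WittVector p ℤ_[p]) - T) = 0 := by
      rw [map_sub, map_natCast]
      show (p : ℤ_[p]) - T.coeff 0 = 0
      simp [T, WittVector.teichmuller_coeff_zero]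
    exact h
  obtain ⟨z, hz'⟩ : ∃ z, WittVector.verschiebung z = (p : WittVector p ℤ_[p]) - T := by
    refine ⟨WittVector.mk p fun n => ((p : WittVector p ℤ_[p]) - T).coeff (n + 1), ?_⟩
    ext n
    cases n with
    | zero => rw [WittVector.verschiebung_coeff_zero, hz]
    | succ n => rw [WittVector.verschiebung_coeff_succ]; rfl
  have hp1 : 1 < p := (Fact.out : p.Prime).one_lt
  have hV : (p : WittVector p ℤ_[p]) ∣ WittVector.verschiebung z ^ p := natCast_dvd_verschiebung_pow p z
  have hsub : (p : WittVector p ℤ_[p]) ∣ T ^ p - (-WittVector.verschiebung z) ^ p := by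
    refine dvd_trans ⟨1, ?_⟩ (sub_dvd_pow_sub_pow _ _ p)
    rw [hz', neg_sub, sub_sub_cancel, mul_one]
  have := dvd_add hsub (show (p : WittVector p ℤ_[p]) ∣ (-WittVector.verschiebung z) ^ p by
    rw [neg_pow]; exact Dvd.dvd.mul_left hV _)
  rwa [sub_add_cancel] at this

end Groth.Agent.S14857
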