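import Groth.Statements.S14859
import Groth.Agent.Lib.Disp.Basic
-- import your own Groth.Agent.* helpers here

set_option autoImplicit false
universe u v w
open Disp

namespace Groth.Agent.S14859

/-- Let p be a prime, R a commutative ring with p-typical Witt vectors W = W(R), and (P, Q, F, V⁻¹) a
3n-display over R with a normal decomposition P = L ⊕ T, Q = L + I_R·T. Then V⁻¹ ⊕ F : L ⊕ T → P is
a Frobenius-linear isomorphism; stated here in the case where L and T are free with bases (l_i) and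
(t_j): the family consisting of the V⁻¹(l_i) and the F(t_j) is a basis of the W-module P, i.e. it is
linearly independent over W and spans P. -/
theorem result (p : ℕ) [Fact p.Prime] (R : Type u) [CommRing R]
    (P : Type v) [AddCommGroup P] [Module (WittVector p R) P] (D : W4c1extbt610.Display3n p R P)
    (L T : Submodule (WittVector p R) P) (hLT : IsCompl L T)
    (hQ : D.Q = L ⊔ W4c1extbt610.IV p R • T) (hLQ : L ≤ D.Q)
    (ιL ιT : Type w) (bL : Module.Basis ιL (WittVector p R) L) (bT : Module.Basis ιT (WittVector p R) T) :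
    LinearIndependent (WittVector p R)
        (Sum.elim (fun i : ιL => D.Vinv ⟨(bL i : P), hLQ (bL i).2⟩) (fun j : ιT => D.F (bT j : P))) ∧
      Submodule.span (WittVector p R)
        (Set.range (Sum.elim (fun i : ιL => D.Vinv ⟨(bL i : P), hLQ (bL i).2⟩) (fun j : ιT => D.F (bT j : P)))) = ⊤ := by
  have := D.finite
  let fam := Sum.elim (fun i : ιL => D.Vinv ⟨(bL i : P), hLQ (bL i).2⟩) (fun j : ιT => D.F (bT j : P))
  let S := Submodule.span (WittVector p R) (Set.range fam)
  have hL : ∀ (l : P) (hl : l ∈ L), D.Vinv ⟨l, hLQ hl⟩ ∈ S := fun l hl => by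
    have hmem := bL.mem_span ⟨l, hl⟩
    suffices ∀ z : L, z ∈ Submodule.span (WittVector p R) (Set.range bL) → D.Vinv ⟨z, hLQ z.2⟩ ∈ S from
      this _ hmem
    intro z hz
    induction hz using Submodule.span_induction with
    | mem y hy => obtain ⟨i, rfl⟩ := hy; exact Submodule.subset_span ⟨Sum.inl i, rfl⟩
    | zero => rw [show (⟨((0 : L) : P), hLQ (0 : L).2⟩ : D.Q) = 0 from rfl, map_zero]; exact zero_mem _
    | add a b _ _ ha hb =>
      rw [show (⟨((a + b : L) : P), hLQ (a + b).2⟩ : D.Q) = ⟨(a : P), hLQ a.2⟩ + ⟨(b : P), hLQ b.2⟩ from rfl,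
        map_add]
      exact add_mem ha hb
    | smul c a _ ha =>
      rw [show (⟨((c • a : L) : P), hLQ (c • a).2⟩ : D.Q) = c • (⟨(a : P), hLQ a.2⟩ : D.Q) from rfl,
        map_smulₛₗ]
      exact S.smul_mem _ ha
  have hT : ∀ t ∈ T, D.F t ∈ S := fun t ht => by
    have hmem := bT.mem_span ⟨t, ht⟩
    suffices ∀ z : T, z ∈ Submodule.span (WittVector p R) (Set.range bT) → D.F (z : P) ∈ S from
      this _ hmem
    intro z hz
    induction hz using Submodule.span_induction with
    | mem y hy => obtain ⟨i, rfl⟩ := hy; exact Submodule.subset_span ⟨Sum.inr i, rfl⟩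
    | zero => rw [Submodule.coe_zero, map_zero]; exact zero_mem _
    | add a b _ _ ha hb => rw [Submodule.coe_add, map_add]; exact add_mem ha hb
    | smul c a _ ha => rw [Submodule.coe_smul, map_smulₛₗ]; exact S.smul_mem _ ha
  have hspan : S = ⊤ := by
    rw [← top_le_iff, ← D.span_range_Vinv, Submodule.span_le]
    rintro _ ⟨⟨y, hy⟩, rfl⟩
    obtain ⟨l, hl, t, ht, hlt⟩ := Submodule.mem_sup.1 (hQ.le hy)
    subst hlt
    have htQ : ∀ t ∈ W4c1extbt610.IV p R • T, ∃ h : t ∈ D.Q, D.Vinv ⟨t, h⟩ ∈ S := by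
      intro t ht
      refine Submodule.smul_induction_on ht (fun c hc x hx => ?_) fun a b ⟨ha, ha'⟩ ⟨hb, hb'⟩ => ?_
      · obtain ⟨a, rfl⟩ := Groth.Agent.Lib.Disp.Witt.exists_eq_verschiebung hc
        exact ⟨_, (D.Vinv_verschiebung_smul a x) ▸ S.smul_mem a (hT x hx)⟩
      · exact ⟨add_mem ha hb, by
          rw [show (⟨a + b, add_mem ha hb⟩ : D.Q) = ⟨a, ha⟩ + ⟨b, hb⟩ from rfl, map_add]
          exact add_mem ha' hb'⟩
    obtain ⟨htq, htS⟩ := htQ t ht
    rw [show (⟨l + t, hy⟩ : D.Q) = ⟨l, hLQ hl⟩ + ⟨t, htq⟩ from rfl, map_add]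
    exact add_mem (hL l hl) htS
  refine ⟨?_, hspan⟩
  let b := (bL.prod bT).map (Submodule.prodEquivOfIsCompl L T hLT)
  let φ : P →ₗ[WittVector p R] P := b.constr ℕ fam
  have hφ : ∀ i, φ (b i) = fam i := fun i => Module.Basis.constr_basis _ _ _ _
  have hsurj : Function.Surjective φ := by
    rw [← LinearMap.range_eq_top, eq_top_iff, ← hspan, Submodule.span_le]
    rintro _ ⟨i, rfl⟩
    exact ⟨b i, hφ i⟩
  have := b.linearIndependent.map' φ
    (LinearMap.ker_eq_bot.2 (OrzechProperty.injective_of_surjective_endomorphism φ hsurj))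
  rw [show (⇑φ) ∘ (⇑b) = fam from funext hφ] at this
  exact this

end Groth.Agent.S14859
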