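import Groth.Statements.S14861
import Mathlib.RingTheory.WittVector.Basic
import Mathlib.RingTheory.WittVector.WittPolynomial
import Mathlib
-- import your own Groth.Agent.* helpers here

set_option autoImplicit false
universe u
open CAlg

namespace Groth.Agent.S14861

/-- Let p be a prime and R a commutative ring without p-torsion which is complete and separated for the
p-adic topology. Let a be a p-typical Witt vector over R and m, u natural numbers. Suppose that for
every s the equation p^u·x = a has a solution in the truncated Witt ring W_m(R/p^s R), i.e. there is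
z ∈ W(R) such that the first m Witt components of p^u·z − a lie in p^s R. Then the equation has a
solution in W_m(R): there is x ∈ W(R) such that the first m Witt components of p^u·x − a vanish.
(The published statement asks only that R have no p-torsion; R is moreover taken p-adically complete
and separated here, which is the standing situation of the surrounding argument and is what the
published proof uses when it passes to the limit over s.) -/
theorem result (p : ℕ) [Fact p.Prime] (R : Type u) [CommRing R]
    (hR : ∀ y : R, (p : R) * y = 0 → y = 0) [IsAdicComplete (Ideal.span {(p : R)}) R]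
    (a : WittVector p R) (m u : ℕ)
    (h : ∀ s : ℕ, ∃ z : WittVector p R, ∀ i < m, ((p : WittVector p R) ^ u * z - a).coeff i ∈ Ideal.span {(p : R) ^ s}) :
    ∃ x : WittVector p R, ∀ i < m, ((p : WittVector p R) ^ u * x - a).coeff i = 0 := by
  classical
  have hP : ∀ n, ∀ y : R, (p : R) ^ n * y = 0 → y = 0 := by
    intro n
    induction n with
    | zero => simp
    | succ n ih => intro y hy; exact hR y (ih _ (by rw [← mul_assoc, ← pow_succ]; exact hy))
  have hcancel : ∀ {n s : ℕ} {y : R}, n ≤ s → (p : R) ^ s ∣ (p : R) ^ n * y → (p : R) ^ (s - n) ∣ y := by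
    rintro n s y hns ⟨c, hc⟩
    refine ⟨c, sub_eq_zero.1 (hP n _ ?_)⟩
    rw [mul_sub, hc, ← mul_assoc, ← pow_add, Nat.add_sub_cancel' hns, sub_self]
  let w : ℕ → WittVector p R →+* R := fun i => WittVector.ghostComponent i
  have hw : ∀ i (z : WittVector p R), w i z = ∑ j ∈ Finset.range (i + 1), (p : R) ^ j * z.coeff j ^ p ^ (i - j) :=
    fun i z => by simp [w, WittVector.ghostComponent_apply, aeval_wittPolynomial]
  have hdvd : ∀ s, ∃ z : WittVector p R, ∀ i < m, (p : R) ^ s ∣ (p : R) ^ u * w i z - w i a := by
    intro s
    obtain ⟨z, hz⟩ := h s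
    refine ⟨z, fun i hi => ?_⟩
    have e : w i ((p : WittVector p R) ^ u * z - a) = (p : R) ^ u * w i z - w i a := by
      rw [map_sub, map_mul, map_pow, map_natCast]
    rw [← e, hw]
    exact Finset.dvd_sum fun j hj => Dvd.dvd.mul_left
      ((Ideal.mem_span_singleton.1 (hz j (by have := Finset.mem_range.1 hj; omega))).trans (dvd_pow_self _ (pow_ne_zero _ (Fact.out : p.Prime).ne_zero))) _
  have hy : ∀ i, ∃ y : R, i < m → w i a = (p : R) ^ u * y := by
    intro i
    by_cases hi : i < m
    · obtain ⟨z, hz⟩ := hdvd u
      obtain ⟨c, hc⟩ := hz i hi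
      exact ⟨w i z - c, fun _ => by linear_combination -hc⟩
    · exact ⟨0, fun h' => absurd h' hi⟩
  choose y hy using hy
  have happ : ∀ t, ∃ z : WittVector p R, ∀ i < m, (p : R) ^ t ∣ w i z - y i := by
    intro t
    obtain ⟨z, hz⟩ := hdvd (u + t)
    refine ⟨z, fun i hi => ?_⟩
    have := hz i hi
    rw [hy i hi, ← mul_sub] at this
    simpa using hcancel (Nat.le_add_right u t) this
  have hsol : ∀ n ≤ m, ∃ x : ℕ → R, ∀ i < n, ∑ j ∈ Finset.range (i + 1), (p : R) ^ j * x j ^ p ^ (i - j) = y i := by
    intro n
    induction n with
    | zero => exact fun _ => ⟨0, fun i hi => absurd hi i.not_lt_zero⟩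
    | succ n ih =>
      intro hn
      obtain ⟨x, hx⟩ := ih (by omega)
      obtain ⟨z, hz⟩ := happ (2 * n)
      have hclose : ∀ j, j < n → (p : R) ^ (2 * n - j) ∣ z.coeff j - x j := by
        intro j
        induction j using Nat.strong_induction_on with
        | _ j ihj =>
          intro hj
          refine hcancel (by omega) ?_
          have h1 := hz j (by omega)
          rw [hw, ← hx j hj, ← Finset.sum_sub_distrib, Finset.sum_range_succ] at h1
          have h2 : (p : R) ^ (2 * n) ∣ ∑ l ∈ Finset.range j,
              ((p : R) ^ l * z.coeff l ^ p ^ (j - l) - (p : R) ^ l * x l ^ p ^ (j - l)) := by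
            refine Finset.dvd_sum fun l hl => ?_
            have hl' := Finset.mem_range.1 hl
            rw [← mul_sub, show 2 * n = l + (2 * n - l) by omega, pow_add]
            exact mul_dvd_mul_left _ ((ihj l hl' (by omega)).trans (sub_dvd_pow_sub_pow _ _ _))
          have h3 := (dvd_add_right h2).1 h1
          simpa [mul_sub] using h3
      obtain ⟨c, hc⟩ : (p : R) ^ n ∣ y n - ∑ j ∈ Finset.range n, (p : R) ^ j * x j ^ p ^ (n - j) := by
        have h1 := (pow_dvd_pow (p : R) (show n ≤ 2 * n by omega)).trans (hz n (by omega))
        rw [hw, Finset.sum_range_succ] at h1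
        have h2 : (p : R) ^ n ∣ ∑ j ∈ Finset.range n,
            ((p : R) ^ j * z.coeff j ^ p ^ (n - j) - (p : R) ^ j * x j ^ p ^ (n - j)) := by
          refine Finset.dvd_sum fun j hj => ?_
          have hj' := Finset.mem_range.1 hj
          rw [← mul_sub]
          exact Dvd.dvd.mul_left ((pow_dvd_pow (p : R) (show n ≤ 2 * n - j by omega)).trans
            ((hclose j hj').trans (sub_dvd_pow_sub_pow _ _ _))) _
        rw [Finset.sum_sub_distrib] at h2
        have h3 : (p : R) ^ n ∣ (p : R) ^ n * z.coeff n ^ p ^ (n - n) := dvd_mul_right _ _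
        have h4 := dvd_add (dvd_sub h2 h1) h3
        convert h4 using 1
        ring
      refine ⟨Function.update x n c, fun i hi => ?_⟩
      rcases Nat.lt_succ_iff_lt_or_eq.1 hi with hi' | rfl
      · rw [← hx i hi']
        refine Finset.sum_congr rfl fun j hj => ?_
        rw [Function.update_of_ne]
        have := Finset.mem_range.1 hj
        omega
      · rw [Finset.sum_range_succ, Function.update_self, Nat.sub_self, pow_zero, pow_one, ← hc]
        rw [Finset.sum_congr rfl fun j hj => by rw [Function.update_of_ne (by have := Finset.mem_range.1 hj; omega)]]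
        ring
  obtain ⟨x, hx⟩ := hsol m le_rfl
  refine ⟨WittVector.mk p x, ?_⟩
  intro i
  induction i using Nat.strong_induction_on with
  | _ i ih =>
    intro hi
    have e : w i ((p : WittVector p R) ^ u * WittVector.mk p x - a) = 0 := by
      rw [map_sub, map_mul, map_pow, map_natCast, hy i hi, hw i (WittVector.mk p x)]
      simp only [WittVector.coeff_mk, hx i hi, sub_self]
    rw [hw, Finset.sum_range_succ, Finset.sum_eq_zero, zero_add, Nat.sub_self, pow_zero, pow_one] at e
    · exact hP i _ e
    · intro j hj
      have hj' := Finset.mem_range.1 hj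
      rw [ih j hj' (by omega), zero_pow (pow_ne_zero _ (Fact.out : p.Prime).ne_zero), mul_zero]

end Groth.Agent.S14861
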