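import Groth.Statements.S14862
import Groth.Agent.S14861
import Mathlib
-- import your own Groth.Agent.* helpers here

set_option autoImplicit false
universe u
open CAlg

namespace Groth.Agent.S14862


/-- Let p be a prime and S a commutative ring without p-torsion which is complete and separated for the
p-adic topology; write W = W(S) for the p-typical Witt vectors, I_r ⊆ W for the ideal of Witt
vectors whose first r components vanish (the image of the r-th iterate of the Verschiebung) and
W(p^s S) ⊆ W for the ideal of Witt vectors all of whose components lie in p^s S (the kernel of W(S)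
→ W(S/p^s S)). Then for every natural number u the ideal p^u W is closed for the linear topology on
W in which the ideals I_r + W(p^s S) form a neighbourhood basis of zero: the intersection over all r
and s of p^u W + I_r + W(p^s S) equals p^u W. (The published statement asks only that S have no
p-torsion; S is moreover taken p-adically complete and separated here, the case in which the result
is applied and through which the published proof goes.) -/
theorem result (p : ℕ) [Fact p.Prime] (S : Type u) [CommRing S]
    (hS : ∀ y : S, (p : S) * y = 0 → y = 0) [IsAdicComplete (Ideal.span {(p : S)}) S] (u : ℕ) :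
    (⨅ r : ℕ, ⨅ s : ℕ,
        Ideal.span {(p : WittVector p S) ^ u} ⊔ RingHom.ker (WittVector.truncate (p := p) (R := S) r) ⊔
          RingHom.ker (WittVector.map (p := p) (Ideal.Quotient.mk (Ideal.span {(p : S) ^ s})))) =
      Ideal.span {(p : WittVector p S) ^ u} := by
  refine le_antisymm (fun a ha => ?_) (le_iInf fun r => le_iInf fun s => le_sup_of_le_left le_sup_left)
  have hr : ∀ r, ∃ x : WittVector p S, ∀ i < r, ((p : WittVector p S) ^ u * x - a).coeff i = 0 := by
    intro r
    refine Groth.Agent.S14861.result p S hS a r u fun s => ?_
    have h := Submodule.mem_iInf _ |>.1 ((Submodule.mem_iInf _).1 ha r) s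
    obtain ⟨t, ht, w, hw, rfl⟩ := Submodule.mem_sup.1 h
    obtain ⟨t', ht', v, hv, rfl⟩ := Submodule.mem_sup.1 ht
    obtain ⟨z, rfl⟩ := Ideal.mem_span_singleton'.1 ht'
    refine ⟨z, fun i hi => ?_⟩
    rw [show (p : WittVector p S) ^ u * z - (z * (p : WittVector p S) ^ u + v + w) = - (v + w) by ring]
    rw [← Ideal.Quotient.eq_zero_iff_mem, ← WittVector.map_coeff]
    have hv' : WittVector.truncate r (WittVector.map (Ideal.Quotient.mk (Ideal.span {(p : S) ^ s})) (-(v + w))) = 0 := by
      rw [map_neg, map_add, RingHom.mem_ker.1 hw, add_zero, map_neg, neg_eq_zero]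
      ext ⟨j, hj⟩
      rw [WittVector.coeff_truncate, WittVector.map_coeff, (WittVector.mem_ker_truncate _ _).1 hv j hj, map_zero, TruncatedWittVector.coeff_zero]
    exact (WittVector.mem_ker_truncate _ _).1 (RingHom.mem_ker.2 hv') i hi
  choose x hx using hr
  have hP : ∀ n, ∀ y : S, (p : S) ^ n * y = 0 → y = 0 := by
    intro n
    induction n with
    | zero => simp
    | succ n ih => intro y hy; exact hS y (ih _ (by rw [← mul_assoc, ← pow_succ]; exact hy))
  have hg : ∀ (m : ℕ) (y z : WittVector p S), (∀ i < m, WittVector.ghostComponent i y = WittVector.ghostComponent i z) ↔ ∀ i < m, y.coeff i = z.coeff i := by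
    intro m y z
    refine ⟨fun h i => ?_, fun h i hi => ?_⟩
    · induction i using Nat.strong_induction_on with
      | _ i ih =>
        intro hi
        have h' := h i hi
        rw [WittVector.ghostComponent_apply, WittVector.ghostComponent_apply, aeval_wittPolynomial, aeval_wittPolynomial,
          Finset.sum_range_succ, Finset.sum_range_succ, Finset.sum_congr rfl fun j hj => by
            rw [ih j (Finset.mem_range.1 hj) ((Finset.mem_range.1 hj).trans hi)]] at h'
        have h2 := sub_eq_zero.2 (add_left_cancel h')
        rw [← mul_sub, Nat.sub_self, pow_zero, pow_one, pow_one] at h2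
        exact sub_eq_zero.1 (hP i _ h2)
    · rw [WittVector.ghostComponent_apply, WittVector.ghostComponent_apply, aeval_wittPolynomial, aeval_wittPolynomial]
      exact Finset.sum_congr rfl fun j hj => by rw [h j (by have := Finset.mem_range.1 hj; omega)]
  have hxg : ∀ r, ∀ i < r, (p : S) ^ u * WittVector.ghostComponent i (x r) = WittVector.ghostComponent i a := by
    intro r i hi
    have := (hg r ((p : WittVector p S) ^ u * x r - a) 0).2 (fun j hj => by rw [hx r j hj, WittVector.zero_coeff]) i hi
    rw [map_sub, map_mul, map_pow, map_natCast, map_zero, sub_eq_zero] at this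
    exact this
  have hcomp : ∀ r i, i < r → ∀ j ≤ i, (x r).coeff j = (x (i + 1)).coeff j := fun r i hi j hj =>
    (hg (i + 1) _ _).1 (fun l hl => sub_eq_zero.1 (hP u _ (by rw [mul_sub, hxg r l (by omega), hxg (i + 1) l hl, sub_self]))) j (by omega)
  refine Ideal.mem_span_singleton'.2 ⟨WittVector.mk p fun i => (x (i + 1)).coeff i, ?_⟩
  refine WittVector.ext fun i => (hg (i + 1) _ _).1 (fun l hl => ?_) i (by omega)
  rw [map_mul, map_pow, map_natCast, mul_comm, ← hxg (i + 1) l hl]
  congr 1
  refine (hg (l + 1) _ _).2 (fun j hj => ?_) l (Nat.lt_succ_self l)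
  show (x (j + 1)).coeff j = _
  exact (hcomp (i + 1) j (by omega) j le_rfl).symm

end Groth.Agent.S14862
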