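import Groth.Statements.S14874
import Groth.Agent.Lib.PLie.Radical

set_option autoImplicit false
universe u v
open PLie

namespace Groth.Agent.S14874

/-- Let `L` be a finite-dimensional Lie algebra over a field of characteristic `p` equipped with a
`p`-mapping `φ`. Let `N` be the nilradical of `L` (the ideal nilpotent as a Lie ring that contains
every such ideal) and `P` its `p`-radical (the largest ideal stable under `φ` all of whose elements
are `p`-nilpotent). Then `N = P` if and only if the centre of `L` is contained in `P`. -/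
theorem result
    (k : Type u) [Field k] (p : ℕ) [Fact p.Prime] [CharP k p]
    (L : Type v) [LieRing L] [LieAlgebra k L] [Module.Finite k L]
    (φ : PLie.PMap k p L)
    (N : LieIdeal k L) (hN : LieRing.IsNilpotent N)
    (hNmax : ∀ I : LieIdeal k L, LieRing.IsNilpotent I → I ≤ N)
    (P : LieIdeal k L) (hPsub : ∀ x ∈ P, φ x ∈ P) (hPnil : ∀ x ∈ P, PLie.IsPNilpotent φ x)
    (hPmax : ∀ J : LieIdeal k L, (∀ x ∈ J, φ x ∈ J) → (∀ x ∈ J, PLie.IsPNilpotent φ x) → J ≤ P) :
    N = P ↔ LieAlgebra.center k L ≤ P := by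
  constructor
  · rintro rfl
    refine hNmax _ ((Groth.Agent.Lib.PLie.Radical.isNilpotent_iff _).mpr fun z hz => ⟨1, ?_⟩)
    refine LinearMap.ext fun l => ?_
    rw [pow_one, LieAlgebra.ad_apply, ← lie_skew,
      (LieModule.mem_maxTrivSubmodule _ _ _ z).mp hz l, neg_zero, LinearMap.zero_apply]
  · intro hc
    refine le_antisymm (hPmax N (fun x hx =>
      Groth.Agent.Lib.PLie.Radical.pmap_mem_nilradical φ N hN hNmax hx) fun x hx => ?_)
      (hNmax P ((Groth.Agent.Lib.PLie.Radical.isNilpotent_iff P).mpr fun x hx => ?_))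
    · obtain ⟨m, hm⟩ := (Groth.Agent.Lib.PLie.Radical.isNilpotent_iff N).mp hN x hx
      have hmem : φ.toFun^[m] x ∈ LieAlgebra.center k L := by
        rw [LieModule.mem_maxTrivSubmodule]
        intro l
        have h : LieAlgebra.ad k L (φ.toFun^[m] x) = 0 := by
          rw [Groth.Agent.Lib.PLie.Basic.map_iterate_ad]
          exact pow_eq_zero_of_le (Nat.lt_pow_self (Fact.out : p.Prime).one_lt).le hm
        rw [← lie_skew, ← LieAlgebra.ad_apply (R := k), h, LinearMap.zero_apply, neg_zero]
      obtain ⟨j, hj⟩ := hPnil _ (hc hmem)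
      exact ⟨j + m, by rw [Function.iterate_add_apply]; exact hj⟩
    · obtain ⟨n, hn⟩ := hPnil x hx
      exact ⟨p ^ n, by rw [← Groth.Agent.Lib.PLie.Basic.map_iterate_ad φ, hn, map_zero]⟩

end Groth.Agent.S14874
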