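import Groth.Statements.S14877

import Groth.Agent.Lib.TorsorSch.Descent

set_option autoImplicit false
universe u
open CategoryTheory MonoidalCategory CartesianMonoidalCategory MonObj GrpObj AlgebraicGeometry CategoryTheory.Limits
open AlgGrp

open CategoryTheory CategoryTheory.Limits MonoidalCategory CartesianMonoidalCategory MonObj AlgebraicGeometry

namespace Groth.Agent.S14877

open Groth.Agent.Lib.GrpSch

/-- Morphisms of schemes glue uniquely along an fpqc covering. -/
theorem cover_glue {Z W : Scheme.{u}} {κ : Type u} (U : κ → Scheme.{u}) (c : ∀ i, U i ⟶ Z)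
    (hc : Presieve.ofArrows U c ∈ Scheme.fpqcPrecoverage Z) (Φ : ∀ i, U i ⟶ W)
    (hΦ : ∀ (i j) (V : Scheme.{u}) (a : V ⟶ U i) (b : V ⟶ U j), a ≫ c i = b ≫ c j → a ≫ Φ i = b ≫ Φ j) :
    ∃! Ψ : Z ⟶ W, ∀ i, c i ≫ Ψ = Φ i := by
  have hsheaf : Presieve.IsSheafFor (yoneda.obj W) (Presieve.ofArrows U c) :=
    (GrothendieckTopology.Subcanonical.isSheaf_of_isRepresentable
      (J := Scheme.fpqcTopology) (yoneda.obj W)).isSheafFor _
      (Precoverage.generate_mem_toGrothendieck hc)
  rw [Presieve.isSheafFor_arrows_iff] at hsheaf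
  exact hsheaf Φ (fun i j V a b h => hΦ i j V a b h)

/-- A monomorphism with local sections along an fpqc covering is an isomorphism. -/
theorem isIso_of_mono_of_cover {P Z : Scheme.{u}} (f : P ⟶ Z) [Mono f] {κ : Type u} (U : κ → Scheme.{u})
    (c : ∀ i, U i ⟶ Z) (hc : Presieve.ofArrows U c ∈ Scheme.fpqcPrecoverage Z)
    (h : ∀ i, ∃ d : U i ⟶ P, d ≫ f = c i) : IsIso f := by
  choose d hd using h
  obtain ⟨Ψ, hΨ, -⟩ := cover_glue U c hc d fun i j V a b e => by
    rw [← cancel_mono f, Category.assoc, Category.assoc, hd, hd, e]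
  have h1 : Ψ ≫ f = 𝟙 Z := (cover_glue U c hc c fun i j V a b e => e).unique
    (fun i => by rw [← Category.assoc, hΨ, hd]) (fun i => Category.comp_id _)
  exact ⟨Ψ, by rw [← cancel_mono f, Category.assoc, h1, Category.comp_id, Category.id_comp], h1⟩

section

variable {S : Scheme.{u}} {G P X : Over S} [GrpObj G]

/-- Points of a bundle which is trivialised by `t ↦ s t`. -/
theorem existsUnique_coord (a : AlgGrp.Action G P) (π : P ⟶ X) {U' : Scheme.{u}} (q : U' ⟶ X.left)
    {T : Over S} (e : T.left = U') (s : T ⟶ P)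
    (hpb : IsPullback (fst T G).left (lift (snd T G) (fst T G ≫ s) ≫ a.act).left (eqToHom e ≫ q) π.left)
    {V : Over S} (t : V ⟶ T) (p : V ⟶ P) (h : t.left ≫ eqToHom e ≫ q = (p ≫ π).left) :
    ∃! g : V ⟶ G, lift g (t ≫ s) ≫ a.act = p := by
  have hm : ∀ g : V ⟶ G, lift t g ≫ lift (snd T G) (fst T G ≫ s) ≫ a.act = lift g (t ≫ s) ≫ a.act := by
    intro g
    simp only [comp_lift_assoc, lift_snd, lift_fst_assoc]
  let z := hpb.lift t.left p.left (by rw [h, Over.comp_left])
  let Z : V ⟶ T ⊗ G := Over.homMk z (by
    rw [← Over.w (fst T G), ← Category.assoc, hpb.lift_fst, Over.w])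
  have h1 : Z ≫ fst T G = t := Over.OverMorphism.ext (hpb.lift_fst _ _ _)
  have h2 : Z ≫ lift (snd T G) (fst T G ≫ s) ≫ a.act = p := Over.OverMorphism.ext (hpb.lift_snd _ _ _)
  refine ⟨Z ≫ snd T G, ?_, fun g hg => ?_⟩
  · change lift (Z ≫ snd T G) (t ≫ s) ≫ a.act = p
    rw [← hm, ← h1, ← comp_lift, lift_fst_snd, Category.comp_id, h2]
  · have : lift t g = Z := Over.OverMorphism.ext <| hpb.hom_ext
      (by rw [← Over.comp_left, ← Over.comp_left, lift_fst, h1])
      (by rw [← Over.comp_left, ← Over.comp_left, hm, hg, h2])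
    rw [← this, lift_snd]

end

/-- Over an algebraically closed field k of characteristic zero, let G be an algebraic group (a smooth
k-group scheme of finite type) acting on a variety P (reduced, separated, of finite type over k),
and let π : P → X be a geometric quotient by this action onto a variety X: π is invariant,
surjective and open, the map (g, p) ↦ (g·p, p) from G × P to P ×_X P is surjective on points, and
for every open U of X the sections of O_X over U are exactly the invariant sections of O_P over
π⁻¹U. Suppose the bundle is locally isotrivial: every point of X has an open neighbourhood U with a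
finite étale surjective morphism U' → U and a morphism s : U' → P lifting U' → U → X such that (u,
g) ↦ g·s(u) exhibits U' × G as the fibre product U' ×_X P. Then the bundle is principal: (g, p) ↦
(g·p, p) is an isomorphism of G × P onto P ×_X P, and π is flat. (The published definition of an
étale covering asks only for a finite étale morphism; this row also requires it to be surjective,
since an empty cover would make every bundle isotrivial.) -/
theorem result (k : Type u) [Field k] [IsAlgClosed k] [CharZero k]
    (G P X : Over (Spec (CommRingCat.of k))) [GrpObj G] [Smooth G.hom] [QuasiCompact G.hom]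
    [LocallyOfFiniteType P.hom] [QuasiCompact P.hom] [IsSeparated P.hom] [IsReduced P.left]
    [LocallyOfFiniteType X.hom] [QuasiCompact X.hom] [IsSeparated X.hom] [IsReduced X.left]
    (a : AlgGrp.Action G P) (π : P ⟶ X) (hinv : GIT.IsInvariant a π)
    (hq : Function.Surjective π.left.base ∧ IsOpenMap π.left.base ∧
      Function.Surjective (GIT.PsiY a π hinv).base ∧
      ∀ U : X.left.Opens, Function.Injective (π.left.app U) ∧
        Set.range (π.left.app U) = {f | GIT.IsInvSection a π U f})
    (hli : ∀ x : ↥X.left, ∃ (U : X.left.Opens) (_ : x ∈ U) (U' : Scheme.{u}) (φ : U' ⟶ ↑U)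
      (_ : IsFinite φ) (_ : Etale φ) (_ : Surjective φ) (s : Over.mk (φ ≫ U.ι ≫ X.hom) ⟶ P),
      s.left ≫ π.left = φ ≫ U.ι ∧
      IsPullback (fst (Over.mk (φ ≫ U.ι ≫ X.hom)) G).left (lift (snd (Over.mk (φ ≫ U.ι ≫ X.hom)) G) (fst (Over.mk (φ ≫ U.ι ≫ X.hom)) G ≫ s) ≫ a.act).left
        (φ ≫ U.ι) π.left) :
    IsIso (GIT.PsiY a π hinv) ∧ Flat π.left := by
  choose U hxU U' φ hfin het hsur s hs hpb using hli
  let q : ∀ x, U' x ⟶ X.left := fun x => φ x ≫ (U x).ι
  have hq : Presieve.ofArrows U' q ∈ Scheme.fpqcPrecoverage X.left := by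
    refine Groth.Agent.Lib.TorsorSch.Descent.etalePrecoverage_le_fpqcPrecoverage _ ?_
    refine (Scheme.ofArrows_mem_precoverage_iff _).2 ⟨fun x => ?_, fun x => ?_⟩
    · haveI := hsur x
      obtain ⟨y, hy⟩ := (φ x).surjective ⟨x, hxU x⟩
      exact ⟨x, y, by change ((U x).ι) (φ x y) = x; rw [hy]; rfl⟩
    · haveI := het x
      exact MorphismProperty.comp_mem @Etale _ _ ‹_› inferInstance
  -- the covering pulled back
  have hpull : ∀ {Z : Scheme.{u}} (v : Z ⟶ X.left),
      Presieve.ofArrows (fun x => pullback v (q x)) (fun x => pullback.fst v (q x)) ∈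
        Scheme.fpqcPrecoverage Z := fun v =>
    Precoverage.mem_coverings_of_isPullback q hq v _ _ fun x => IsPullback.of_hasPullback v (q x)
  let T : ↥X.left → Over (Spec (CommRingCat.of k)) := fun x => Over.mk (φ x ≫ (U x).ι ≫ X.hom)
  have coord : ∀ (x : ↥X.left) {V : Over (Spec (CommRingCat.of k))} (t : V ⟶ T x) (p : V ⟶ P),
      t.left ≫ q x = (p ≫ π).left → ∃! g : V ⟶ G, lift g (t ≫ s x) ≫ a.act = p := by
    intro x V t p h
    exact existsUnique_coord a π (q x) (T := T x) rfl (s x)
      (by simp only [eqToHom_refl]; exact hpb x) t p (by simp only [eqToHom_refl]; exact h)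
  haveI hmono : Mono (GIT.PsiY a π hinv) := by
    refine ⟨fun {V} u v huv => ?_⟩
    have e1 : u ≫ a.act.left = v ≫ a.act.left := by
      have := congr($huv ≫ pullback.fst π.left π.left)
      simp only [GIT.PsiY, Category.assoc, pullback.lift_fst] at this
      exact this
    have e2 : u ≫ (snd G P).left = v ≫ (snd G P).left := by
      have := congr($huv ≫ pullback.snd π.left π.left)
      simp only [GIT.PsiY, Category.assoc, pullback.lift_snd] at this
      exact this
    let d : V ⟶ X.left := (u ≫ (snd G P).left) ≫ π.left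
    refine (cover_glue _ _ (hpull d) (fun x => pullback.fst d (q x) ≫ u) (fun i j W a b e => by
      rw [← Category.assoc, ← Category.assoc, e])).unique (fun _ => rfl) fun x => ?_
    let W : Over (Spec (CommRingCat.of k)) := Over.mk (pullback.fst d (q x) ≫ u ≫ (G ⊗ P).hom)
    let A : W ⟶ G ⊗ P := Over.homMk (pullback.fst d (q x) ≫ u) (Category.assoc _ _ _)
    let B : W ⟶ G ⊗ P := Over.homMk (pullback.fst d (q x) ≫ v) (by
      change (pullback.fst _ _ ≫ v) ≫ _ = pullback.fst _ _ ≫ u ≫ _
      rw [← Over.w (snd G P), Category.assoc, ← Category.assoc v, ← e2, Category.assoc])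
    let t : W ⟶ T x := Over.homMk (pullback.snd d (q x)) (by
      change pullback.snd _ _ ≫ φ x ≫ (U x).ι ≫ X.hom = pullback.fst _ _ ≫ u ≫ _
      rw [← Category.assoc (φ x), ← Category.assoc, ← pullback.condition, ← Over.w (snd G P),
        ← Over.w π]
      simp only [d, Category.assoc])
    have hA : A ≫ a.act = B ≫ a.act := Over.OverMorphism.ext (by
      change (pullback.fst _ _ ≫ u) ≫ _ = (pullback.fst _ _ ≫ v) ≫ _
      rw [Category.assoc, e1, Category.assoc])
    have hA2 : A ≫ snd G P = B ≫ snd G P := Over.OverMorphism.ext (by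
      change (pullback.fst _ _ ≫ u) ≫ _ = (pullback.fst _ _ ≫ v) ≫ _
      rw [Category.assoc, e2, Category.assoc])
    obtain ⟨g, hg, -⟩ := coord x t (A ≫ snd G P) (by
      change pullback.snd d (q x) ≫ q x = _
      rw [← pullback.condition]
      simp [A, d]; rfl)
    have hval : ∀ C : W ⟶ G ⊗ P, C ≫ snd G P = A ≫ snd G P →
        C ≫ a.act = lift (C ≫ fst G P * g) (t ≫ s x) ≫ a.act := by
      intro C hC
      rw [act_mul, hg, ← hC, ← comp_lift_assoc, lift_fst_snd, Category.id_comp]
    have hinj := (coord x t (A ≫ a.act) (by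
      change pullback.snd d (q x) ≫ q x = _
      rw [← pullback.condition, Category.assoc A, show a.act ≫ π = snd G P ≫ π from hinv]
      simp [A, d]; rfl)).unique (hval A rfl).symm ((hval B hA2.symm).symm.trans hA.symm)
    have : A = B := by
      apply CartesianMonoidalCategory.hom_ext
      · exact mul_right_cancel hinj
      · exact hA2
    exact (congrArg CommaMorphism.left this).symm
  constructor
  · let Z := pullback π.left π.left
    let d : Z ⟶ X.left := pullback.fst π.left π.left ≫ π.left
    refine isIso_of_mono_of_cover (GIT.PsiY a π hinv) _ _ (hpull d) fun x => ?_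
    let W : Over (Spec (CommRingCat.of k)) :=
      Over.mk (pullback.fst d (q x) ≫ pullback.fst π.left π.left ≫ P.hom)
    let y₁ : W ⟶ P := Over.homMk (pullback.fst d (q x) ≫ pullback.fst π.left π.left) (Category.assoc _ _ _)
    let y₂ : W ⟶ P := Over.homMk (pullback.fst d (q x) ≫ pullback.snd π.left π.left) (by
      change (pullback.fst _ _ ≫ pullback.snd π.left π.left) ≫ P.hom =
        pullback.fst _ _ ≫ pullback.fst π.left π.left ≫ P.hom
      rw [Category.assoc, ← Over.w π, ← Category.assoc (pullback.snd _ _), ← pullback.condition,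
        Category.assoc])
    let t : W ⟶ T x := Over.homMk (pullback.snd d (q x)) (by
      change pullback.snd _ _ ≫ φ x ≫ (U x).ι ≫ X.hom = pullback.fst _ _ ≫ pullback.fst _ _ ≫ _
      rw [← Category.assoc (φ x), ← Category.assoc, ← pullback.condition, ← Over.w π]
      simp only [d, Category.assoc])
    obtain ⟨h₁, hh₁, -⟩ := coord x t y₁ (by
      change pullback.snd d (q x) ≫ q x = (pullback.fst d (q x) ≫ pullback.fst _ _) ≫ π.left
      rw [← pullback.condition, Category.assoc])
    obtain ⟨h₂, hh₂, -⟩ := coord x t y₂ (by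
      change pullback.snd d (q x) ≫ q x = (pullback.fst d (q x) ≫ pullback.snd _ _) ≫ π.left
      rw [← pullback.condition, Category.assoc, ← pullback.condition])
    have hy : lift (h₁ * h₂⁻¹) y₂ ≫ a.act = y₁ := by
      rw [← hh₂, ← act_mul, inv_mul_cancel_right, hh₁]
    refine ⟨(lift (h₁ * h₂⁻¹) y₂).left, ?_⟩
    apply pullback.hom_ext
    · simp only [GIT.PsiY, Category.assoc, pullback.lift_fst]
      rw [← Over.comp_left, hy]; rfl
    · simp only [GIT.PsiY, Category.assoc, pullback.lift_snd]
      rw [← Over.comp_left, lift_snd]; rfl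
  · refine IsZariskiLocalAtTarget.of_iSup_eq_top (fun x : ↥X.left => U x) ?_ fun x => ?_
    · exact eq_top_iff.2 fun x _ => TopologicalSpace.Opens.mem_iSup.2 ⟨x, hxU x⟩
    · haveI := hfin x
      haveI := het x
      haveI := hsur x
      haveI : Flat (fst (T x) G).left := fst_left_of (P := @Flat) (T x) inferInstance
      exact MorphismProperty.of_isPullback_of_descendsAlong (P := @Flat)
        (Q := @Surjective ⊓ @Flat ⊓ @QuasiCompact)
        ((hpb x).flip.of_right' (isPullback_morphismRestrict π.left (U x)).flip).flip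
        ⟨⟨inferInstance, inferInstance⟩, inferInstance⟩ ‹Flat (fst (T x) G).left›

end Groth.Agent.S14877
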