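import Groth.Statements.S14879

import Mathlib.GroupTheory.Perm.Fin
import Mathlib.LinearAlgebra.Matrix.Permutation
import Mathlib.Data.Finset.Sort

set_option autoImplicit false
universe u
open Finset
open AlgGrp

namespace Groth.Agent.S14879

open Matrix Equiv in
theorem block {k : Type u} [CommRing k] (p r : ℕ) (M : Matrix (Fin (p + r)) (Fin (p + r)) k)
    (a : Fin p → Fin (p + r)) (b : Fin r → Fin (p + r)) :
    ∑ π : Equiv.Perm (Fin (p + r)), (((Equiv.Perm.sign π : ℤˣ) : ℤ) : k) *
      (M.submatrix a (π ∘ Fin.castAdd r)).det * (M.submatrix b (π ∘ Fin.natAdd p)).det =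
    ((p.factorial * r.factorial : ℕ) : k) * (M.submatrix (Fin.append a b) id).det := by
  classical
  set D := (M.submatrix (Fin.append a b) id).det with hD
  have key : ∀ (σ : Perm (Fin p)) (τ : Perm (Fin r)),
      ∑ π : Perm (Fin (p + r)), (((Perm.sign π : ℤˣ) : ℤ) : k) *
        ((∏ i, M (a (σ i)) (π (Fin.castAdd r i))) * ∏ j, M (b (τ j)) (π (Fin.natAdd p j))) =
        (((Perm.sign σ : ℤˣ) : ℤ) : k) * (((Perm.sign τ : ℤˣ) : ℤ) : k) * D := by
    intro σ τ
    let e : Perm (Fin (p + r)) := finSumFinEquiv.permCongr (Equiv.sumCongr σ τ)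
    have he : ∀ x, Fin.append a b (e x) = Fin.append (a ∘ σ) (b ∘ τ) x := by
      intro x
      refine Fin.addCases (fun i => ?_) (fun j => ?_) x <;>
        simp [e, Equiv.permCongr_apply]
    have h1 : ∀ π : Perm (Fin (p + r)),
        (∏ i, M (a (σ i)) (π (Fin.castAdd r i))) * ∏ j, M (b (τ j)) (π (Fin.natAdd p j)) =
        ∏ x, ((M.submatrix (Fin.append a b) id).submatrix e id)ᵀ (π x) x := by
      intro π
      rw [Fin.prod_univ_add]
      simp [he]
    simp_rw [h1]
    rw [← det_apply', det_transpose, det_permute]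
    simp [e, D, Perm.sign_permCongr, Perm.sign_sumCongr]
  have e1 : ∀ π : Perm (Fin (p + r)), (((Perm.sign π : ℤˣ) : ℤ) : k) *
      (M.submatrix a (π ∘ Fin.castAdd r)).det * (M.submatrix b (π ∘ Fin.natAdd p)).det =
      ∑ σ : Perm (Fin p), ∑ τ : Perm (Fin r),
        (((Perm.sign σ : ℤˣ) : ℤ) : k) * (((Perm.sign τ : ℤˣ) : ℤ) : k) *
        ((((Perm.sign π : ℤˣ) : ℤ) : k) *
        ((∏ i, M (a (σ i)) (π (Fin.castAdd r i))) * ∏ j, M (b (τ j)) (π (Fin.natAdd p j)))) := by
    intro π
    rw [det_apply', det_apply', mul_assoc, Finset.sum_mul_sum, Finset.mul_sum]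
    refine Finset.sum_congr rfl fun σ _ => ?_
    rw [Finset.mul_sum]
    refine Finset.sum_congr rfl fun τ _ => ?_
    simp only [submatrix_apply, Function.comp_apply]
    ring
  simp_rw [e1]
  rw [Finset.sum_comm]
  have e2 : ∀ σ : Perm (Fin p), (∑ π : Perm (Fin (p + r)), ∑ τ : Perm (Fin r),
        (((Perm.sign σ : ℤˣ) : ℤ) : k) * (((Perm.sign τ : ℤˣ) : ℤ) : k) *
        ((((Perm.sign π : ℤˣ) : ℤ) : k) *
        ((∏ i, M (a (σ i)) (π (Fin.castAdd r i))) * ∏ j, M (b (τ j)) (π (Fin.natAdd p j))))) =
      (r.factorial : k) * D := by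
    intro σ
    rw [Finset.sum_comm]
    simp_rw [← Finset.mul_sum, key]
    have hσ : (((Perm.sign σ : ℤˣ) : ℤ) : k) * (((Perm.sign σ : ℤˣ) : ℤ) : k) = 1 := by
      rw [← Int.cast_mul, ← Units.val_mul, Int.units_mul_self]; simp
    have : ∀ τ : Perm (Fin r), (((Perm.sign σ : ℤˣ) : ℤ) : k) * (((Perm.sign τ : ℤˣ) : ℤ) : k) *
        ((((Perm.sign σ : ℤˣ) : ℤ) : k) * (((Perm.sign τ : ℤˣ) : ℤ) : k) * D) = D := by
      intro τ
      have hτ : (((Perm.sign τ : ℤˣ) : ℤ) : k) * (((Perm.sign τ : ℤˣ) : ℤ) : k) = 1 := by
        rw [← Int.cast_mul, ← Units.val_mul, Int.units_mul_self]; simp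
      linear_combination ((((Perm.sign τ : ℤˣ) : ℤ) : k) * (((Perm.sign τ : ℤˣ) : ℤ) : k) * D) * hσ + D * hτ
    simp_rw [this]
    simp [Fintype.card_perm, nsmul_eq_mul]
  simp_rw [e2]
  simp [Fintype.card_perm, nsmul_eq_mul]
  ring

theorem shuffle_sign {p r : ℕ} (A : Finset (Fin (p + r))) (hA : A.card = p) (hB : Aᶜ.card = r)
    (ρ : Equiv.Perm (Fin (p + r))) (hρ : ∀ x, ρ x = Fin.append (A.orderEmbOfFin hA) (Aᶜ.orderEmbOfFin hB) x) :
    Equiv.Perm.sign ρ = (-1 : ℤˣ) ^ ((A ×ˢ Aᶜ).filter (fun ab => ab.2 < ab.1)).card := by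
  classical
  rw [Equiv.Perm.sign_eq_prod_prod_Iio, Finset.prod_sigma', Finset.prod_ite, Finset.prod_const_one,
    one_mul, Finset.prod_const]
  congr 1
  refine Finset.card_bij (fun x _ => (ρ x.2, ρ x.1)) ?_ ?_ ?_
  · rintro ⟨j, i⟩ hx
    simp only [Finset.mem_filter, Finset.mem_sigma, Finset.mem_univ, true_and, Finset.mem_Iio, not_lt] at hx
    have hlt : ρ j < ρ i := lt_of_le_of_ne hx.2 (fun h => (ne_of_lt hx.1) (ρ.injective h).symm)
    obtain ⟨hij, -⟩ := hx
    induction i using Fin.addCases with
    | left i =>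
      induction j using Fin.addCases with
      | left j =>
        exfalso
        rw [hρ, hρ, Fin.append_left, Fin.append_left, OrderEmbedding.lt_iff_lt] at hlt
        simp only [Fin.lt_def, Fin.val_castAdd] at hij hlt
        omega
      | right j =>
        rw [Finset.mem_filter, Finset.mem_product]
        refine ⟨⟨?_, ?_⟩, hlt⟩
        · show ρ (Fin.castAdd r i) ∈ A
          rw [hρ, Fin.append_left]; exact Finset.orderEmbOfFin_mem _ _ _
        · show ρ (Fin.natAdd p j) ∈ Aᶜ
          rw [hρ, Fin.append_right]; exact Finset.orderEmbOfFin_mem _ _ _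
    | right i =>
      induction j using Fin.addCases with
      | left j =>
        exfalso
        simp only [Fin.lt_def, Fin.val_castAdd, Fin.val_natAdd] at hij
        omega
      | right j =>
        exfalso
        rw [hρ, hρ, Fin.append_right, Fin.append_right, OrderEmbedding.lt_iff_lt] at hlt
        simp only [Fin.lt_def, Fin.val_natAdd] at hij hlt
        omega
  · rintro ⟨j, i⟩ _ ⟨j', i'⟩ _ h
    simp only [Prod.mk.injEq, EmbeddingLike.apply_eq_iff_eq] at h
    obtain ⟨rfl, rfl⟩ := h
    rfl
  · rintro ⟨x, y⟩ h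
    simp only [Finset.mem_filter, Finset.mem_product] at h
    obtain ⟨⟨hx, hy⟩, hlt⟩ := h
    have hx' : x ∈ Set.range (A.orderEmbOfFin hA) := by rw [Finset.range_orderEmbOfFin]; exact hx
    have hy' : y ∈ Set.range (Aᶜ.orderEmbOfFin hB) := by rw [Finset.range_orderEmbOfFin]; exact hy
    obtain ⟨i, rfl⟩ := hx'
    obtain ⟨j, rfl⟩ := hy'
    refine ⟨⟨Fin.natAdd p j, Fin.castAdd r i⟩, ?_, ?_⟩
    · simp only [Finset.mem_filter, Finset.mem_sigma, Finset.mem_univ, true_and, Finset.mem_Iio,
        hρ, Fin.append_left, Fin.append_right, not_lt]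
      refine ⟨?_, hlt.le⟩
      simp only [Fin.lt_def, Fin.val_castAdd, Fin.val_natAdd]
      omega
    · simp [hρ]

/-- Let k be a field of characteristic zero, n = p + r with p, r ≥ 1, M an n × n matrix over k, A a set
of p row indices and B a set of r row indices, both listed increasingly. For a permutation π of the
indices, with permutation matrix P_π, let Y_A(M·P_π) be the minor of M·P_π on the rows A and the
first p columns, and Z_B(M·P_π) the minor on the rows B and the last r columns. Then the sum over
all π of sign(π)·Y_A(M·P_π)·Z_B(M·P_π) equals p!·r!·(−1)^N·det M when B is the complement of A,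
where N is the number of pairs (a, b) with a in A, b outside A and b < a, and equals 0 otherwise.
Taking det M = 1 this says that the pairing (f, h) ↦ Σ_π sign(π) f(π) h(π) between the spans of the
left p-minors and of the right r-minors is invariant under left translation by matrices of
determinant one and pairs Y_A with the signed complementary minor to p!·r!. (The published statement
asserts that the two families of minors are dual bases for this pairing, that is, the value 1 in
place of p!·r!; the p!·r! permutations preserving the two column blocks each contribute the same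
signed term, so this row carries that factor, which is 1 only for n = 2.) -/
theorem result (k : Type u) [Field k] [CharZero k]
    (p r : ℕ) (hp : 1 ≤ p) (hr : 1 ≤ r) (M : Matrix (Fin (p + r)) (Fin (p + r)) k)
    (A : Finset (Fin (p + r))) (hA : A.card = p) (B : Finset (Fin (p + r))) (hB : B.card = r) :
    ∑ π : Equiv.Perm (Fin (p + r)), (((Equiv.Perm.sign π : ℤˣ) : ℤ) : k) *
      ((M * π.permMatrix k).submatrix (A.orderEmbOfFin hA) (Fin.castAdd r)).det *
      ((M * π.permMatrix k).submatrix (B.orderEmbOfFin hB) (Fin.natAdd p)).det =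
    if B = Aᶜ then ((p.factorial * r.factorial : ℕ) : k) *
      (-1 : k) ^ ((A ×ˢ Aᶜ).filter (fun ab => ab.2 < ab.1)).card * M.det else 0 := by
  classical
  have h0 : ∀ π : Equiv.Perm (Fin (p + r)), M * π.permMatrix k = M.submatrix id π.symm :=
    fun π => PEquiv.mul_toMatrix_toPEquiv M π
  simp_rw [h0, Matrix.submatrix_submatrix, Function.id_comp]
  rw [Fintype.sum_equiv (Equiv.inv (Equiv.Perm (Fin (p + r)))) _
    (fun π : Equiv.Perm (Fin (p + r)) => (((Equiv.Perm.sign π : ℤˣ) : ℤ) : k) *
      (M.submatrix (A.orderEmbOfFin hA) (π ∘ Fin.castAdd r)).det *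
      (M.submatrix (B.orderEmbOfFin hB) (π ∘ Fin.natAdd p)).det)
    (fun π => by simp [Equiv.Perm.sign_inv, Equiv.Perm.inv_def]), block]
  set r0 := Fin.append (A.orderEmbOfFin hA) (B.orderEmbOfFin hB) with hr0
  split_ifs with hAB
  · subst hAB
    have hbij : Function.Bijective r0 := by
      rw [← Finite.injective_iff_bijective]
      intro x y hxy
      induction x using Fin.addCases with
      | left i =>
        induction y using Fin.addCases with
        | left j => simp [hr0] at hxy; rw [hxy]
        | right j =>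
          simp only [hr0, Fin.append_left, Fin.append_right] at hxy
          have h1 := Finset.orderEmbOfFin_mem A hA i
          have h2 := Finset.orderEmbOfFin_mem Aᶜ hB j
          rw [Finset.mem_compl, ← hxy] at h2
          exact absurd h1 h2
      | right i =>
        induction y using Fin.addCases with
        | left j =>
          simp only [hr0, Fin.append_left, Fin.append_right] at hxy
          have h1 := Finset.orderEmbOfFin_mem A hA j
          have h2 := Finset.orderEmbOfFin_mem Aᶜ hB i
          rw [Finset.mem_compl, hxy] at h2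
          exact absurd h1 h2
        | right j => simp [hr0] at hxy; rw [hxy]
    have hs := shuffle_sign A hA hB (Equiv.ofBijective r0 hbij) (fun x => rfl)
    have : M.submatrix r0 id = M.submatrix (Equiv.ofBijective r0 hbij) id := rfl
    rw [this, Matrix.det_permute, hs]
    simp [mul_assoc]
  · have hni : ¬ Function.Injective r0 := by
      intro hinj
      apply hAB
      apply Finset.eq_of_subset_of_card_le
      · intro y hy
        have hy' : y ∈ Set.range (B.orderEmbOfFin hB) := by rw [Finset.range_orderEmbOfFin]; exact hy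
        obtain ⟨j, rfl⟩ := hy'
        rw [Finset.mem_compl]
        intro hy2
        have hy3 : B.orderEmbOfFin hB j ∈ Set.range (A.orderEmbOfFin hA) := by
          rw [Finset.range_orderEmbOfFin]; exact hy2
        obtain ⟨i, hi⟩ := hy3
        have h := hinj (a₁ := Fin.castAdd r i) (a₂ := Fin.natAdd p j) (by simp [hr0, hi])
        simp [Fin.ext_iff] at h
        omega
      · rw [Finset.card_compl, hA, hB, Fintype.card_fin]; omega
    obtain ⟨x, y, hxy, hne⟩ : ∃ x y, r0 x = r0 y ∧ x ≠ y := by
      simpa [Function.Injective, not_forall] using hni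
    rw [Matrix.det_zero_of_row_eq hne (by ext z; simp [hxy]), mul_zero]

end Groth.Agent.S14879
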