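import Groth.Statements.S14885


set_option autoImplicit false
universe u v
open CategoryTheory TopologicalSpace Opposite AlgebraicGeometry Topology
open AlgGrp

namespace Groth.Agent.S14885

theorem map_eqToHom_trans {X : SheafedSpace CommRingCat.{u}} {A B C : (Opens X)ᵒᵖ} (p : A = B) (q : B = C)
    (x : X.presheaf.obj A) :
    X.presheaf.map (eqToHom q) (X.presheaf.map (eqToHom p) x) = X.presheaf.map (eqToHom (p.trans q)) x := by
  subst p q; simp

/-- Let a group Γ act on a ringed space X (a topological space with a sheaf of rings) by automorphisms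
τ_g, and let π : X → Y be a Γ-invariant morphism of ringed spaces which exhibits Y as the quotient
ringed space X/Γ: the underlying continuous map of π is a topological quotient map whose fibres are
exactly the Γ-orbits, and for every open subset V of Y the ring map O_Y(V) → O_X(π⁻¹V) is injective
with image the sections s satisfying τ_g^♯(s) = s for all g. Then (Y, π) is a categorical quotient
for the action in the category of ringed spaces: every morphism of ringed spaces f : X → Z with f ∘
τ_g = f for all g (as morphisms of ringed spaces) factors uniquely as f = f̄ ∘ π. -/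
theorem result (X Y : SheafedSpace CommRingCat.{u}) (Γ : Type v) [Group Γ]
    (τ : Γ →* Aut X) (π : X ⟶ Y) (hτ : ∀ g : Γ, (τ g).hom ≫ π = π)
    (h1 : IsQuotientMap π.hom.base)
    (h2 : ∀ x x' : X, π.hom.base x = π.hom.base x' ↔ ∃ g : Γ, (τ g).hom.hom.base x = x')
    (h3 : ∀ V : Opens Y, Function.Injective (π.hom.c.app (op V)) ∧
      Set.range (π.hom.c.app (op V)) =
        {s | ∀ g : Γ, (τ g).hom.hom.c.app (op ((Opens.map π.hom.base).obj V)) s =
          X.presheaf.map (eqToHom (congrArg (fun f : X ⟶ Y => op ((Opens.map f.hom.base).obj V)) (hτ g).symm)) s})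
    (Z : SheafedSpace CommRingCat.{u}) (f : X ⟶ Z) (hf : ∀ g : Γ, (τ g).hom ≫ f = f) :
    ∃! fbar : Y ⟶ Z, π ≫ fbar = f := by
  have hbase : ∀ (g : Γ) (x : X), f.hom.base ((τ g).hom.hom.base x) = f.hom.base x := fun g x => by
    have h4 := congrArg (fun m : X ⟶ Z => m.hom.base) (hf g)
    exact ConcreteCategory.congr_hom h4 x
  have hconst : ∀ x x' : X, π.hom.base x = π.hom.base x' → f.hom.base x = f.hom.base x' := fun x x' h => by
    obtain ⟨g, rfl⟩ := (h2 x x').1 h
    exact (hbase g x).symm
  let r : Y → Z := fun y => f.hom.base (Function.surjInv h1.surjective y)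
  have hr : ∀ x, r (π.hom.base x) = f.hom.base x := fun x =>
    hconst _ _ (Function.surjInv_eq h1.surjective _)
  have hrc : Continuous r := h1.continuous_iff.2 (by
    have he : r ∘ π.hom.base = f.hom.base := funext hr
    rw [he]
    exact f.hom.base.hom.continuous)
  let b : Y.carrier ⟶ Z.carrier := TopCat.ofHom ⟨r, hrc⟩
  have hb : π.hom.base ≫ b = f.hom.base := TopCat.ext hr
  have hV : ∀ V : (Opens Z)ᵒᵖ, op ((Opens.map f.hom.base).obj V.unop) =
      op ((Opens.map π.hom.base).obj ((Opens.map b).obj V.unop)) := fun V =>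
    congrArg op (Opens.ext (Set.ext fun x => by
      change f.hom.base x ∈ (V.unop : Set _) ↔ r (π.hom.base x) ∈ (V.unop : Set _)
      rw [hr]))
  have hinv : ∀ (V : (Opens Z)ᵒᵖ) (t : Z.presheaf.obj V),
      ∃ s : Y.presheaf.obj (op ((Opens.map b).obj V.unop)),
        π.hom.c.app (op ((Opens.map b).obj V.unop)) s = X.presheaf.map (eqToHom (hV V)) (f.hom.c.app V t) := by
    intro V t
    obtain ⟨s, hs⟩ : X.presheaf.map (eqToHom (hV V)) (f.hom.c.app V t) ∈
        Set.range (π.hom.c.app (op ((Opens.map b).obj V.unop))) := by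
      rw [(h3 _).2]
      intro g
      have h4 := PresheafedSpace.congr_app (congrArg (fun m : X ⟶ Z => m.hom) (hf g)) V
      have h5 : (τ g).hom.hom.c.app (op ((Opens.map f.hom.base).obj V.unop)) (f.hom.c.app V t) =
          X.presheaf.map (eqToHom (congrArg (fun m : X ⟶ Z => op ((Opens.map m.hom.base).obj V.unop)) (hf g).symm))
            (f.hom.c.app V t) := ConcreteCategory.congr_hom h4 t
      have h6 := ConcreteCategory.congr_hom ((τ g).hom.hom.c.naturality (eqToHom (hV V))) (f.hom.c.app V t)
      refine h6.trans ?_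
      change ((TopCat.Presheaf.pushforward _ (τ g).hom.hom.base).obj X.presheaf).map _ ((τ g).hom.hom.c.app _ _) = _
      rw [h5]
      change X.presheaf.map ((Opens.map (τ g).hom.hom.base).op.map (eqToHom (hV V))) _ = _
      rw [eqToHom_map]
      exact (map_eqToHom_trans _ _ _).trans (map_eqToHom_trans _ _ _).symm
    exact ⟨s, hs⟩
  choose σ hσ using hinv
  let κ : ∀ V : (Opens Z)ᵒᵖ, Z.presheaf.obj V →+* Y.presheaf.obj (op ((Opens.map b).obj V.unop)) := fun V =>
    { toFun := σ V
      map_one' := (h3 _).1 (by rw [hσ]; simp)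
      map_mul' := fun s t => (h3 _).1 (by simp only [map_mul, hσ])
      map_zero' := (h3 _).1 (by rw [hσ]; simp)
      map_add' := fun s t => (h3 _).1 (by simp only [map_add, hσ]) }
  let fbar : Y ⟶ Z := InducedCategory.homMk
    { base := b
      c :=
      { app := fun V => CommRingCat.ofHom (κ V)
        naturality := fun V V' i => by
          refine CommRingCat.hom_ext (RingHom.ext fun t => (h3 _).1 ?_)
          have h4 := ConcreteCategory.congr_hom (f.hom.c.naturality i) t
          have h6 := ConcreteCategory.congr_hom (π.hom.c.naturality ((Opens.map b).op.map i)) (σ V t)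
          refine (hσ V' (Z.presheaf.map i t)).trans (Eq.trans ?_ h6.symm)
          change _ = X.presheaf.map _ (π.hom.c.app _ (σ V t))
          rw [hσ]
          refine (congrArg (X.presheaf.map (eqToHom (hV V'))) h4).trans ?_
          change (X.presheaf.map _ ≫ X.presheaf.map _) (f.hom.c.app V t) =
            (X.presheaf.map _ ≫ X.presheaf.map _) (f.hom.c.app V t)
          rw [← Functor.map_comp, ← Functor.map_comp]
          rfl } }
  refine ⟨fbar, ?_, fun f' hf' => ?_⟩
  · refine SheafedSpace.ext _ _ hb ?_
    ext V t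
    change X.presheaf.map _ (π.hom.c.app _ (σ _ t)) = _
    rw [hσ]
    rw [eqToHom_app]
    exact (map_eqToHom_trans _ _ _).trans (by rw [eqToHom_refl, CategoryTheory.Functor.map_id]; rfl)
  · have hb' : f'.hom.base = b := TopCat.ext fun y => by
      obtain ⟨x, rfl⟩ := h1.surjective y
      refine Eq.trans ?_ (hr x).symm
      exact ConcreteCategory.congr_hom (congrArg (fun m : X ⟶ Z => m.hom.base) hf') x
    obtain ⟨⟨b', c'⟩⟩ := f'
    obtain rfl : b' = b := hb'
    refine SheafedSpace.ext _ _ rfl ?_
    ext V t
    apply (h3 _).1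
    refine Eq.trans ?_ (hσ (op V) t).symm
    have h4 := ConcreteCategory.congr_hom (PresheafedSpace.congr_app (congrArg (fun m : X ⟶ Z => m.hom) hf') (op V)) t
    change (π.hom.c.app _) ((c'.app (op V) ≫ Y.presheaf.map (𝟙 _)) t) = _
    rw [CategoryTheory.Functor.map_id]
    erw [Category.comp_id]
    refine Eq.trans ?_ h4
    rfl

end Groth.Agent.S14885
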