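import Groth.Statements.S14886

import Groth.Agent.Lib.GrpSch.TorsorMap

set_option autoImplicit false
universe u
open CategoryTheory MonoidalCategory CartesianMonoidalCategory MonObj GrpObj AlgebraicGeometry CategoryTheory.Limits
open AlgGrp

namespace Groth.Agent.S14886

set_option backward.isDefEq.respectTransparency.types false
/-- Over an algebraically closed field k of characteristic zero, let G be a connected algebraic group (a
smooth connected k-group scheme of finite type) and H an algebraic subgroup (a smooth closed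
subgroup scheme, j : H → G). Let π : G → B be the quotient of G by H (a geometric quotient for the
action h·g = g·h⁻¹ which is a principal H-bundle: (h, g) ↦ (g·h⁻¹, g) is an isomorphism H × G ≅ G
×_B G and π is flat). Let X and Y be varieties (reduced, separated, of finite type over k) with
H-actions, in each of which every finite set of points lies in an affine open subset, and let qX : G
× X → QX, qY : G × Y → QY and qXY : G × (X × Y) → QXY be the associated bundles G_H(X), G_H(Y) and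
G_H(X × Y): geometric quotients (invariant, surjective, open, fibre-pair map surjective on points,
sections = invariant sections) which are principal H-bundles, for the actions h·(g, x) = (g·h⁻¹,
h·x), h·(g, y) = (g·h⁻¹, h·y) and h·(g, x, y) = (g·h⁻¹, h·x, h·y), with QX, QY, QXY varieties over B
= G/H through pX, pY, pXY satisfying p ∘ q = π ∘ pr₁. Let fX : QXY → QX and fY : QXY → QY be the
morphisms over B induced by the projections, fX ∘ qXY = qX ∘ (id × pr₁) and fY ∘ qXY = qY ∘ (id ×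
pr₂). Then the square formed by fX, fY, pX, pY is cartesian: G_H(X × Y) is the fibre product of
G_H(X) and G_H(Y) over G/H. -/
theorem result (k : Type u) [Field k] [IsAlgClosed k] [CharZero k]
    (G H : Over (Spec (CommRingCat.of k))) [GrpObj G] [Smooth G.hom] [QuasiCompact G.hom]
    [ConnectedSpace ↥G.left] [GrpObj H] (j : H ⟶ G) [IsMonHom j] [IsClosedImmersion j.left] [Smooth H.hom]
    (B : Over (Spec (CommRingCat.of k))) [LocallyOfFiniteType B.hom] [QuasiCompact B.hom] [IsSeparated B.hom] [IsReduced B.left]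
    (r : AlgGrp.Action H G) (hr : ∀ (T : Over (Spec (CommRingCat.of k))) (h : T ⟶ H) (g : T ⟶ G),
      lift h g ≫ r.act = g * (h ≫ j)⁻¹)
    (π : G ⟶ B) (hπinv : GIT.IsInvariant r π)
    (hπ : (Function.Surjective π.left.base ∧ IsOpenMap π.left.base ∧
      Function.Surjective (GIT.PsiY r π hπinv).base ∧
      (∀ U : B.left.Opens, Function.Injective (π.left.app U) ∧
        Set.range (π.left.app U) = {f | GIT.IsInvSection r π U f}) ∧
      IsIso (GIT.PsiY r π hπinv) ∧ Flat π.left))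
    (X Y : Over (Spec (CommRingCat.of k))) [LocallyOfFiniteType X.hom] [QuasiCompact X.hom] [IsSeparated X.hom] [IsReduced X.left] [LocallyOfFiniteType Y.hom] [QuasiCompact Y.hom] [IsSeparated Y.hom] [IsReduced Y.left]
    (hFX : ∀ F : Finset ↥X.left, ∃ U : X.left.Opens, IsAffineOpen U ∧ (↑F : Set ↥X.left) ⊆ (U : Set ↥X.left))
    (hFY : ∀ F : Finset ↥Y.left, ∃ U : Y.left.Opens, IsAffineOpen U ∧ (↑F : Set ↥Y.left) ⊆ (U : Set ↥Y.left))
    (aX : AlgGrp.Action H X) (aY : AlgGrp.Action H Y)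
    (b : AlgGrp.Action H (G ⊗ X))
    (hb : ∀ (T : Over (Spec (CommRingCat.of k))) (h : T ⟶ H) (g : T ⟶ G) (x : T ⟶ X),
      lift h (lift g x) ≫ b.act = lift (g * (h ≫ j)⁻¹) (lift h x ≫ aX.act))
    (c : AlgGrp.Action H (G ⊗ Y))
    (hc : ∀ (T : Over (Spec (CommRingCat.of k))) (h : T ⟶ H) (g : T ⟶ G) (x : T ⟶ Y),
      lift h (lift g x) ≫ c.act = lift (g * (h ≫ j)⁻¹) (lift h x ≫ aY.act))
    (d : AlgGrp.Action H (G ⊗ (X ⊗ Y)))
    (hd : ∀ (T : Over (Spec (CommRingCat.of k))) (h : T ⟶ H) (g : T ⟶ G) (x : T ⟶ X) (y : T ⟶ Y),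
      lift h (lift g (lift x y)) ≫ d.act = lift (g * (h ≫ j)⁻¹) (lift (lift h x ≫ aX.act) (lift h y ≫ aY.act)))
    (QX QY QXY : Over (Spec (CommRingCat.of k))) [LocallyOfFiniteType QX.hom] [QuasiCompact QX.hom] [IsSeparated QX.hom] [IsReduced QX.left] [LocallyOfFiniteType QY.hom] [QuasiCompact QY.hom] [IsSeparated QY.hom] [IsReduced QY.left] [LocallyOfFiniteType QXY.hom] [QuasiCompact QXY.hom] [IsSeparated QXY.hom] [IsReduced QXY.left]
    (qX : G ⊗ X ⟶ QX) (hqXinv : GIT.IsInvariant b qX) (hqX : (Function.Surjective qX.left.base ∧ IsOpenMap qX.left.base ∧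
      Function.Surjective (GIT.PsiY b qX hqXinv).base ∧
      (∀ U : QX.left.Opens, Function.Injective (qX.left.app U) ∧
        Set.range (qX.left.app U) = {f | GIT.IsInvSection b qX U f}) ∧
      IsIso (GIT.PsiY b qX hqXinv) ∧ Flat qX.left))
    (qY : G ⊗ Y ⟶ QY) (hqYinv : GIT.IsInvariant c qY) (hqY : (Function.Surjective qY.left.base ∧ IsOpenMap qY.left.base ∧
      Function.Surjective (GIT.PsiY c qY hqYinv).base ∧
      (∀ U : QY.left.Opens, Function.Injective (qY.left.app U) ∧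
        Set.range (qY.left.app U) = {f | GIT.IsInvSection c qY U f}) ∧
      IsIso (GIT.PsiY c qY hqYinv) ∧ Flat qY.left))
    (qXY : G ⊗ (X ⊗ Y) ⟶ QXY) (hqXYinv : GIT.IsInvariant d qXY) (hqXY : (Function.Surjective qXY.left.base ∧ IsOpenMap qXY.left.base ∧
      Function.Surjective (GIT.PsiY d qXY hqXYinv).base ∧
      (∀ U : QXY.left.Opens, Function.Injective (qXY.left.app U) ∧
        Set.range (qXY.left.app U) = {f | GIT.IsInvSection d qXY U f}) ∧
      IsIso (GIT.PsiY d qXY hqXYinv) ∧ Flat qXY.left))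
    (pX : QX ⟶ B) (hpX : qX ≫ pX = fst G X ≫ π) (pY : QY ⟶ B) (hpY : qY ≫ pY = fst G Y ≫ π)
    (pXY : QXY ⟶ B) (hpXY : qXY ≫ pXY = fst G (X ⊗ Y) ≫ π)
    (fX : QXY ⟶ QX) (hfX : qXY ≫ fX = (G ◁ fst X Y) ≫ qX) (hfXp : fX ≫ pX = pXY)
    (fY : QXY ⟶ QY) (hfY : qXY ≫ fY = (G ◁ snd X Y) ≫ qY) (hfYp : fY ≫ pY = pXY) :
    IsPullback fX.left fY.left pX.left pY.left := by
  obtain ⟨hs', -, -, -, hiso', hfl'⟩ := hπ
  have heX : b.act ≫ fst G X = (H ◁ fst G X) ≫ r.act := by
    have h1 := hb (H ⊗ (G ⊗ X)) (fst _ _) (snd _ _ ≫ fst _ _) (snd _ _ ≫ snd _ _)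
    rw [show lift (snd H (G ⊗ X) ≫ fst G X) (snd H (G ⊗ X) ≫ snd G X) = snd H (G ⊗ X) by ext <;> simp,
      lift_fst_snd, Category.id_comp] at h1
    rw [h1, lift_fst, show H ◁ fst G X = lift (fst H (G ⊗ X)) (snd H (G ⊗ X) ≫ fst G X) by ext <;> simp, hr]
  obtain ⟨hsX, -, -, -, hisoX, hflX⟩ := hqX
  have : QuasiCompact (fst G X).left := Groth.Agent.Lib.GrpSch.fst_left_of (P := @QuasiCompact) G ‹_›
  have : QuasiCompact (G ⊗ X).hom := by rw [← Over.w (fst G X)]; infer_instance
  have : Surjective qX.left := ⟨hsX⟩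
  have : QuasiCompact (qX.left ≫ QX.hom) := by rw [Over.w]; infer_instance
  have : QuasiCompact qX.left := QuasiCompact.of_comp qX.left QX.hom
  have sqX := Groth.Agent.Lib.GrpSch.isPullback_of_torsorMap b r qX π
    (Groth.Agent.Lib.GrpSch.isPullback_of_isIso_PsiY b qX hqXinv hisoX)
    (Groth.Agent.Lib.GrpSch.isPullback_of_isIso_PsiY r π hπinv hiso') (fst G X) heX pX hpX
  have heY : c.act ≫ fst G Y = (H ◁ fst G Y) ≫ r.act := by
    have h1 := hc (H ⊗ (G ⊗ Y)) (fst _ _) (snd _ _ ≫ fst _ _) (snd _ _ ≫ snd _ _)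
    rw [show lift (snd H (G ⊗ Y) ≫ fst G Y) (snd H (G ⊗ Y) ≫ snd G Y) = snd H (G ⊗ Y) by ext <;> simp,
      lift_fst_snd, Category.id_comp] at h1
    rw [h1, lift_fst, show H ◁ fst G Y = lift (fst H (G ⊗ Y)) (snd H (G ⊗ Y) ≫ fst G Y) by ext <;> simp, hr]
  obtain ⟨hsY, -, -, -, hisoY, hflY⟩ := hqY
  have : QuasiCompact (fst G Y).left := Groth.Agent.Lib.GrpSch.fst_left_of (P := @QuasiCompact) G ‹_›
  have : QuasiCompact (G ⊗ Y).hom := by rw [← Over.w (fst G Y)]; infer_instance
  have : Surjective qY.left := ⟨hsY⟩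
  have : QuasiCompact (qY.left ≫ QY.hom) := by rw [Over.w]; infer_instance
  have : QuasiCompact qY.left := QuasiCompact.of_comp qY.left QY.hom
  have sqY := Groth.Agent.Lib.GrpSch.isPullback_of_torsorMap c r qY π
    (Groth.Agent.Lib.GrpSch.isPullback_of_isIso_PsiY c qY hqYinv hisoY)
    (Groth.Agent.Lib.GrpSch.isPullback_of_isIso_PsiY r π hπinv hiso') (fst G Y) heY pY hpY
  have heXY : d.act ≫ fst G (X ⊗ Y) = (H ◁ fst G (X ⊗ Y)) ≫ r.act := by
    have h1 := hd (H ⊗ (G ⊗ (X ⊗ Y))) (fst _ _) (snd _ _ ≫ fst _ _) (snd _ _ ≫ snd _ _ ≫ fst _ _) (snd _ _ ≫ snd _ _ ≫ snd _ _)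
    rw [show lift (snd H (G ⊗ (X ⊗ Y)) ≫ fst G (X ⊗ Y)) (lift (snd H (G ⊗ (X ⊗ Y)) ≫ snd G (X ⊗ Y) ≫ fst X Y)
        (snd H (G ⊗ (X ⊗ Y)) ≫ snd G (X ⊗ Y) ≫ snd X Y)) = snd H (G ⊗ (X ⊗ Y)) by ext <;> simp,
      lift_fst_snd, Category.id_comp] at h1
    rw [h1, lift_fst, show H ◁ fst G (X ⊗ Y) = lift (fst H (G ⊗ (X ⊗ Y))) (snd H (G ⊗ (X ⊗ Y)) ≫ fst G (X ⊗ Y)) by ext <;> simp, hr]
  obtain ⟨hsXY, -, -, -, hisoXY, hflXY⟩ := hqXY
  have : QuasiCompact (fst X Y).left := Groth.Agent.Lib.GrpSch.fst_left_of (P := @QuasiCompact) X ‹_›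
  have : QuasiCompact (X ⊗ Y).hom := by rw [← Over.w (fst X Y)]; infer_instance
  have : QuasiCompact (fst G (X ⊗ Y)).left := Groth.Agent.Lib.GrpSch.fst_left_of (P := @QuasiCompact) G ‹_›
  have : QuasiCompact (G ⊗ (X ⊗ Y)).hom := by rw [← Over.w (fst G (X ⊗ Y))]; infer_instance
  have : Surjective qXY.left := ⟨hsXY⟩
  have : QuasiCompact (qXY.left ≫ QXY.hom) := by rw [Over.w]; infer_instance
  have : QuasiCompact qXY.left := QuasiCompact.of_comp qXY.left QXY.hom
  have sqXY := Groth.Agent.Lib.GrpSch.isPullback_of_torsorMap d r qXY π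
    (Groth.Agent.Lib.GrpSch.isPullback_of_isIso_PsiY d qXY hqXYinv hisoXY)
    (Groth.Agent.Lib.GrpSch.isPullback_of_isIso_PsiY r π hπinv hiso') (fst G (X ⊗ Y)) heXY pXY hpXY
  have hfXl : fX.left ≫ pX.left = pXY.left := congrArg (fun f => f.left) hfXp
  have hfYl : fY.left ≫ pY.left = pXY.left := congrArg (fun f => f.left) hfYp
  -- the square upstairs is cartesian
  have h0 : IsPullback (G ◁ fst X Y) (G ◁ snd X Y) (fst G X) (fst G Y) := by
    refine IsPullback.of_isLimit' ⟨by simp⟩ (Limits.PullbackCone.IsLimit.mk _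
      (fun s => lift (s.fst ≫ fst G X) (lift (s.fst ≫ snd G X) (s.snd ≫ snd G Y)))
      (fun s => by ext <;> simp) (fun s => by ext <;> simp [s.condition])
      (fun s m h₁ h₂ => ?_))
    ext <;> simp [← h₁, ← h₂]
  have up : IsPullback (G ◁ fst X Y).left (G ◁ snd X Y).left (fst G X).left (fst G Y).left := h0.map (Over.forget _)
  let θ : QXY.left ⟶ Limits.pullback pX.left pY.left :=
    Limits.pullback.lift fX.left fY.left (hfXl.trans hfYl.symm)
  let pr : Limits.pullback pX.left pY.left ⟶ B.left := Limits.pullback.fst _ _ ≫ pX.left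
  let R := Limits.pullback π.left pr
  let cX : R ⟶ (G ⊗ X).left := sqX.lift (Limits.pullback.fst π.left pr) (Limits.pullback.snd π.left pr ≫ Limits.pullback.fst _ _)
    (Limits.pullback.condition.trans (Category.assoc _ _ _).symm)
  let cY : R ⟶ (G ⊗ Y).left := sqY.lift (Limits.pullback.fst π.left pr) (Limits.pullback.snd π.left pr ≫ Limits.pullback.snd _ _)
    (Limits.pullback.condition.trans (by
      change _ ≫ Limits.pullback.fst _ _ ≫ pX.left = _
      rw [Category.assoc, Limits.pullback.condition]))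
  let back : R ⟶ (G ⊗ (X ⊗ Y)).left := up.lift cX cY ((sqX.lift_fst _ _ _).trans (sqY.lift_fst _ _ _).symm)
  have hback : back ≫ (fst G (X ⊗ Y)).left = Limits.pullback.fst π.left pr := by
    rw [show (fst G (X ⊗ Y)).left = (G ◁ fst X Y).left ≫ (fst G X).left by
      rw [← Over.comp_left, whiskerLeft_fst]]
    rw [← Category.assoc]
    exact (congrArg (· ≫ _) (up.lift_fst _ _ _)).trans (sqX.lift_fst _ _ _)
  have hq1 : (G ◁ fst X Y).left ≫ qX.left = qXY.left ≫ fX.left := (congrArg (fun f => f.left) hfX).symm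
  have hq2 : (G ◁ snd X Y).left ≫ qY.left = qXY.left ≫ fY.left := (congrArg (fun f => f.left) hfY).symm
  have hθ : pXY.left = θ ≫ pr := by
    change _ = _ ≫ Limits.pullback.fst _ _ ≫ pX.left
    rw [Limits.pullback.lift_fst_assoc, hfXl]
  let fwd : (G ⊗ (X ⊗ Y)).left ⟶ R := Limits.pullback.lift (fst G (X ⊗ Y)).left (qXY.left ≫ θ)
    (by rw [sqXY.w, hθ, Category.assoc])
  have hbX : back ≫ (G ◁ fst X Y).left = cX := up.lift_fst _ _ _
  have hbY : back ≫ (G ◁ snd X Y).left = cY := up.lift_snd _ _ _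
  have h1 : fwd ≫ back = 𝟙 _ := by
    refine up.hom_ext ?_ ?_
    · refine sqX.hom_ext ?_ ?_
      · rw [Category.assoc, Category.assoc, reassoc_of% hbX,
          Category.id_comp, sqX.lift_fst, Limits.pullback.lift_fst, ← Over.comp_left, whiskerLeft_fst]
      · rw [Category.assoc, Category.assoc, reassoc_of% hbX,
          Category.id_comp, sqX.lift_snd, Limits.pullback.lift_snd_assoc, hq1, Category.assoc, Limits.pullback.lift_fst]
    · refine sqY.hom_ext ?_ ?_
      · rw [Category.assoc, Category.assoc, reassoc_of% hbY,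
          Category.id_comp, sqY.lift_fst, Limits.pullback.lift_fst, ← Over.comp_left, whiskerLeft_fst]
      · rw [Category.assoc, Category.assoc, reassoc_of% hbY,
          Category.id_comp, sqY.lift_snd, Limits.pullback.lift_snd_assoc, hq2, Category.assoc, Limits.pullback.lift_snd]
  have h2 : back ≫ fwd = 𝟙 R := by
    apply Limits.pullback.hom_ext
    · rw [Category.assoc, Limits.pullback.lift_fst, hback, Category.id_comp]
    · rw [Category.assoc, Limits.pullback.lift_snd, Category.id_comp]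
      apply Limits.pullback.hom_ext
      · rw [Category.assoc, Category.assoc, Limits.pullback.lift_fst, ← hq1, ← Category.assoc,
          show back ≫ (G ◁ fst X Y).left = cX from up.lift_fst _ _ _, sqX.lift_snd]
      · rw [Category.assoc, Category.assoc, Limits.pullback.lift_snd, ← hq2, ← Category.assoc,
          show back ≫ (G ◁ snd X Y).left = cY from up.lift_snd _ _ _, sqY.lift_snd]
  have hfb : IsIso fwd := ⟨back, h1, h2⟩
  have sqθ : IsPullback qXY.left fwd θ (Limits.pullback.snd π.left pr) := by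
    refine IsPullback.of_bot ?_ (Limits.pullback.lift_snd _ _ _).symm
      (IsPullback.of_hasPullback π.left pr).flip
    rw [Limits.pullback.lift_fst, ← hθ]
    exact sqXY.flip
  have : Surjective π.left := ⟨hs'⟩
  have : QuasiCompact (π.left ≫ B.hom) := by rw [Over.w]; infer_instance
  have : QuasiCompact π.left := QuasiCompact.of_comp π.left B.hom
  have : IsIso θ :=
    MorphismProperty.DescendsAlong.of_isPullback (P := MorphismProperty.isomorphisms Scheme.{u})
      (Q := @Surjective ⊓ @Flat ⊓ @QuasiCompact) sqθ.flip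
      ⟨⟨MorphismProperty.pullback_snd (P := @Surjective) _ _ ‹_›,
        MorphismProperty.pullback_snd (P := @Flat) _ _ hfl'⟩,
        MorphismProperty.pullback_snd (P := @QuasiCompact) _ _ ‹_›⟩ hfb
  exact IsPullback.of_iso_pullback ⟨hfXl.trans hfYl.symm⟩ (asIso θ)
    (Limits.pullback.lift_fst _ _ _) (Limits.pullback.lift_snd _ _ _)


end Groth.Agent.S14886
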