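import Groth.Statements.S14888
import Groth.Agent.H20.FiniteSpectrumLoc
import Mathlib.AlgebraicGeometry.Morphisms.QuasiFinite
import Mathlib.AlgebraicGeometry.Stalk

set_option autoImplicit false
universe u
open CategoryTheory AlgebraicGeometry
open CAlg

namespace Groth.Agent.S14888

/-- Let R be a valuation ring whose spectrum is finite (finite height) and let f : X → Spec R be locally
of finite type with locally quasi-finite fibres. For every x ∈ X the canonical morphism Spec O_{X,x}
→ X is an open immersion, and the composite Spec O_{X,x} → Spec R is locally of finite type; in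
particular O_{X,x} is finitely generated as an R-algebra. (The published statement takes X
quasi-finite over Spec R; the assertions are local at x, so this row assumes only that X is locally
of finite type with discrete fibres.) -/
theorem result
    (R : Type u) [CommRing R] [IsDomain R] [ValuationRing R] [Finite (PrimeSpectrum R)]
    {X : Scheme.{u}} (f : X ⟶ Spec (CommRingCat.of R)) [LocallyOfFiniteType f] [LocallyQuasiFinite f]
    (x : X) :
    IsOpenImmersion (X.fromSpecStalk x) ∧ LocallyOfFiniteType (X.fromSpecStalk x ≫ f) := by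
  obtain ⟨U, hU, hxU, -⟩ := X.isBasis_affineOpens.exists_subset_of_mem_open (Set.mem_univ x) isOpen_univ
  obtain ⟨U, hU', rfl⟩ := hU
  obtain ⟨φ, hφ⟩ := Spec.map_surjective (hU'.fromSpec ≫ f)
  haveI : IsOpenImmersion hU'.fromSpec := IsAffineOpen.isOpenImmersion_fromSpec hU'
  haveI : LocallyQuasiFinite (hU'.fromSpec ≫ f) := MorphismProperty.comp_mem _ _ _ inferInstance inferInstance
  have hqf : φ.hom.QuasiFinite := by
    rw [← HasRingHomProperty.Spec_iff (P := @LocallyQuasiFinite), hφ]
    infer_instance
  let A := Γ(X, U)
  letI : Algebra R A := φ.hom.toAlgebra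
  haveI : Algebra.QuasiFinite R A := hqf
  haveI : Finite (PrimeSpectrum A) := Set.finite_univ_iff.mp
    ((Algebra.QuasiFinite.finite_comap_preimage (R := R) (S := A)
      (Set.finite_univ (α := PrimeSpectrum R))))
  letI := TopCat.Presheaf.algebra_section_stalk X.presheaf (⟨x, hxU⟩ : U)
  haveI := hU'.isLocalization_stalk ⟨x, hxU⟩
  obtain ⟨g, -, hg⟩ :=
    Groth.Agent.H20.FiniteSpectrumLoc.exists_away (hU'.primeIdealOf ⟨x, hxU⟩).asIdeal
  haveI := hg (X.presheaf.stalk x)
  haveI : IsOpenImmersion (X.fromSpecStalk x) := by
    haveI : IsOpenImmersion (Spec.map (X.presheaf.germ U x hxU)) :=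
      IsOpenImmersion.of_isLocalization (S := X.presheaf.stalk x) g
    rw [← hU'.fromSpecStalk_eq_fromSpecStalk hxU]
    exact IsOpenImmersion.comp (Spec.map (X.presheaf.germ U x hxU)) hU'.fromSpec
  exact ⟨inferInstance, inferInstance⟩

end Groth.Agent.S14888
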