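import Groth.Statements.S14891
import Mathlib.RingTheory.Valuation.Extension
import Mathlib.RingTheory.AlgebraicIndependent.TranscendenceBasis
import Mathlib.LinearAlgebra.Dimension.RankNullity
import Mathlib.LinearAlgebra.Dimension.Localization
import Mathlib.Algebra.MvPolynomial.Equiv
import Mathlib.RingTheory.LocalRing.ResidueField.Basic
import Mathlib.Algebra.Module.ZLattice.Basic

set_option autoImplicit false
universe u
open CAlg

namespace Groth.Agent.S14891

set_option maxHeartbeats 800000

/-- Let L/K be an extension of valued fields, i.e. v_L is a valuation on L whose restriction to K is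
equivalent to v_K. Write E for the rational rank of the quotient of value groups |L^×|/|K^×| — here
the rank of the abelian group L^× modulo the subgroup generated by the units of the valuation ring
of v_L and the image of K^× — and F for the transcendence degree of the residue field of v_L over
that of v_K. Then E + F ≤ tr.deg(L/K) (an inequality of cardinals). -/
theorem result
    {K L Γ₀ Γ₁ : Type u} [Field K] [Field L] [Algebra K L]
    [LinearOrderedCommGroupWithZero Γ₀] [LinearOrderedCommGroupWithZero Γ₁]
    (vK : Valuation K Γ₀) (vL : Valuation L Γ₁) [vK.HasExtension vL] :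
    Module.rank ℤ (Additive Lˣ ⧸ Subgroup.toAddSubgroup
        (vL.valuationSubring.unitGroup ⊔ (Units.map (algebraMap K L).toMonoidHom).range)) +
      Algebra.trdeg (IsLocalRing.ResidueField vK.valuationSubring)
        (IsLocalRing.ResidueField vL.valuationSubring) ≤ Algebra.trdeg K L := by
  classical
  let OK := vK.valuationSubring
  let OL := vL.valuationSubring
  let H : Subgroup Lˣ := OL.unitGroup ⊔ (Units.map (algebraMap K L).toMonoidHom).range
  let G := Additive Lˣ ⧸ Subgroup.toAddSubgroup H
  obtain ⟨s, hs, hsi⟩ := exists_set_linearIndependent ℤ G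
  choose lx hlx using fun g : G => QuotientAddGroup.mk_surjective (s := Subgroup.toAddSubgroup H) g
  let x : s → L := fun g => ((lx g.1).toMul : L)
  haveI : FaithfulSMul (IsLocalRing.ResidueField OK) (IsLocalRing.ResidueField OL) :=
    (faithfulSMul_iff_algebraMap_injective _ _).2 (RingHom.injective _)
  obtain ⟨t, ht⟩ := exists_isTranscendenceBasis (IsLocalRing.ResidueField OK) (IsLocalRing.ResidueField OL)
  choose ly hly using fun z : IsLocalRing.ResidueField OL => IsLocalRing.residue_surjective z
  let y : t → L := fun z => (ly z.1 : L)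
  -- value of a polynomial in the `y`
  have hA : ∀ Q : MvPolynomial t K, Q ≠ 0 → ∃ c : K, c ≠ 0 ∧ vL (MvPolynomial.aeval y Q) = vL (algebraMap K L c) := by
    intro Q hQ
    obtain ⟨j, hj, hmax⟩ := Finset.exists_max_image Q.support (fun e => vK (Q.coeff e)) (MvPolynomial.support_nonempty.2 hQ)
    have hc : Q.coeff j ≠ 0 := MvPolynomial.mem_support_iff.1 hj
    have hle : ∀ e, vK (Q.coeff e / Q.coeff j) ≤ 1 := by
      intro e
      rw [map_div₀]
      by_cases he : e ∈ Q.support
      · exact div_le_one_of_le₀ (hmax e he) zero_le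
      · rw [MvPolynomial.notMem_support_iff.1 he, map_zero, zero_div]; exact zero_le
    let Q₀ : MvPolynomial t OK := ∑ e ∈ Q.support, MvPolynomial.monomial e ⟨Q.coeff e / Q.coeff j, hle e⟩
    have hQ0 : MvPolynomial.map (algebraMap OK (IsLocalRing.ResidueField OK)) Q₀ ≠ 0 := by
      intro h
      have := congrArg (MvPolynomial.coeff j) h
      rw [MvPolynomial.coeff_map, MvPolynomial.coeff_sum, Finset.sum_eq_single j
        (fun b _ hb => by rw [MvPolynomial.coeff_monomial, if_neg hb]) (fun h => absurd hj h),
        MvPolynomial.coeff_monomial, if_pos rfl, MvPolynomial.coeff_zero,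
        show (⟨Q.coeff j / Q.coeff j, hle j⟩ : OK) = 1 from Subtype.ext (div_self hc), map_one] at this
      exact one_ne_zero this
    have hev : IsLocalRing.residue OL (MvPolynomial.aeval (fun z : t => ly z.1) Q₀) ≠ 0 := by
      intro h
      apply hQ0
      refine ht.1.eq_zero_of_aeval_eq_zero _ (Eq.trans ?_ h)
      have hcomp : (MvPolynomial.aeval (Subtype.val : t → IsLocalRing.ResidueField OL)).toRingHom.comp
          (MvPolynomial.map (algebraMap OK (IsLocalRing.ResidueField OK))) =
          (IsLocalRing.residue OL).comp (MvPolynomial.aeval (R := OK) (fun z : t => ly z.1)).toRingHom :=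
        MvPolynomial.ringHom_ext (fun r => by
          simp only [AlgHom.toRingHom_eq_coe, RingHom.comp_apply, MvPolynomial.map_C, RingHom.coe_coe, MvPolynomial.aeval_C]
          exact Valuation.HasExtension.algebraMap_residue_eq_residue_algebraMap vK vL r) (fun i => by simp [hly])
      exact RingHom.congr_fun hcomp Q₀
    have hv1 : vL ((MvPolynomial.aeval (fun z : t => ly z.1) Q₀ : OL) : L) = 1 := by
      let w : OL := MvPolynomial.aeval (fun z : t => ly z.1) Q₀
      have hu : IsUnit w := by
        by_contra hnu
        exact hev ((IsLocalRing.residue_eq_zero_iff w).2 hnu)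
      obtain ⟨w', hw'⟩ := isUnit_iff_exists_inv.1 hu
      refine le_antisymm w.2 ?_
      have := congrArg (fun z : OL => vL (z : L)) hw'
      simp only [MulMemClass.coe_mul, map_mul, OneMemClass.coe_one, map_one] at this
      calc (1 : Γ₁) = vL (w : L) * vL (w' : L) := this.symm
        _ ≤ vL (w : L) * 1 := mul_le_mul_right w'.2 _
        _ = _ := mul_one _
    have hQev : MvPolynomial.aeval y Q =
        algebraMap K L (Q.coeff j) * ((MvPolynomial.aeval (fun z : t => ly z.1) Q₀ : OL) : L) := by
      conv_lhs => rw [Q.as_sum]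
      rw [map_sum, map_sum, AddSubmonoidClass.coe_finsetSum, Finset.mul_sum]
      refine Finset.sum_congr rfl fun e _ => ?_
      rw [MvPolynomial.aeval_monomial, MvPolynomial.aeval_monomial, MulMemClass.coe_mul,
        Valuation.HasExtension.coe_algebraMap_valuationSubring_eq, ← mul_assoc, ← map_mul, mul_div_cancel₀ _ hc]
      congr 1
      show _ = OL.subtype _
      rw [map_finsuppProd]
      simp only [map_pow]
      rfl
    exact ⟨_, hc, by rw [hQev, map_mul, hv1, mul_one]⟩
  -- monomials in the `x` have distinct values modulo `K`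
  have hx0 : ∀ g, x g ≠ 0 := fun g => Units.ne_zero _
  have hB : ∀ a a' : s →₀ ℕ, ∀ c c' : K, c ≠ 0 → c' ≠ 0 →
      vL (algebraMap K L c * a.prod fun g k => x g ^ k) = vL (algebraMap K L c' * a'.prod fun g k => x g ^ k) → a = a' := by
    intro a a' c c' hc hc' h
    let mon : (s →₀ ℕ) → Lˣ := fun a => a.prod fun g k => (lx g.1).toMul ^ k
    have hmon : ∀ a, ((mon a : Lˣ) : L) = a.prod fun g k => x g ^ k := fun a => by
      show Units.coeHom L _ = _
      rw [map_finsuppProd]
      simp [x]
    let uc : Lˣ := Units.map (algebraMap K L).toMonoidHom (Units.mk0 c hc)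
    let uc' : Lˣ := Units.map (algebraMap K L).toMonoidHom (Units.mk0 c' hc')
    have hunit : uc * mon a * (uc' * mon a')⁻¹ ∈ OL.unitGroup := by
      rw [ValuationSubring.mem_unitGroup_iff]
      apply (Valuation.isEquiv_iff_val_eq_one.1 (Valuation.isEquiv_valuation_valuationSubring vL)).1
      rw [Units.val_mul, Units.val_inv_eq_inv_val, map_mul, map_inv₀, Units.val_mul, Units.val_mul, hmon, hmon,
        show ((uc : Lˣ) : L) = algebraMap K L c from rfl, show ((uc' : Lˣ) : L) = algebraMap K L c' from rfl,
        h, mul_inv_cancel₀]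
      rw [← hmon, Ne, map_eq_zero]
      exact mul_ne_zero ((map_ne_zero _).2 hc') (Units.ne_zero _)
    have hH : mon a * (mon a')⁻¹ ∈ H := by
      have e : mon a * (mon a')⁻¹ = (uc * mon a * (uc' * mon a')⁻¹) * (uc' * uc⁻¹) := by
        simp only [← div_eq_mul_inv]
        rw [mul_div_mul_comm, mul_comm (uc / uc'), mul_assoc, div_mul_div_cancel, div_self', mul_one]
      rw [e]
      exact mul_mem (Subgroup.mem_sup_left hunit)
        (Subgroup.mem_sup_right (mul_mem ⟨_, rfl⟩ (inv_mem ⟨_, rfl⟩)))
    have hcls : ∀ a, QuotientAddGroup.mk (s := Subgroup.toAddSubgroup H) (Additive.ofMul (mon a)) =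
        Finsupp.linearCombination ℤ (Subtype.val : s → G) (a.mapRange (fun k : ℕ => (k : ℤ)) rfl) := by
      intro a
      rw [Finsupp.linearCombination_apply, Finsupp.sum_mapRange_index (by intro g; exact zero_smul ℤ _)]
      show QuotientAddGroup.mk' (Subgroup.toAddSubgroup H) (Additive.ofMul (a.prod _)) = _
      rw [Finsupp.prod, ofMul_prod, map_sum]
      refine Finset.sum_congr rfl fun g _ => ?_
      rw [ofMul_pow, map_nsmul]
      show _ • QuotientAddGroup.mk (Additive.ofMul (lx g.1).toMul) = _
      rw [ofMul_toMul, hlx]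
      exact (natCast_zsmul _ _).symm
    have hq : QuotientAddGroup.mk (s := Subgroup.toAddSubgroup H) (Additive.ofMul (mon a)) =
        QuotientAddGroup.mk (Additive.ofMul (mon a')) := by
      rw [QuotientAddGroup.eq_iff_sub_mem, ← ofMul_div, div_eq_mul_inv]
      exact hH
    rw [hcls, hcls] at hq
    exact Finsupp.mapRange_injective _ rfl Nat.cast_injective (hsi hq)
  have hind : AlgebraicIndependent K (Sum.elim x y) := by
    rw [algebraicIndependent_iff]
    intro P hP
    by_contra hne
    let Q := MvPolynomial.sumAlgEquiv K s t P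
    have hQne : Q ≠ 0 := fun h => hne ((map_eq_zero_iff _ (MvPolynomial.sumAlgEquiv K s t).injective).1 h)
    have hcomp : MvPolynomial.aeval (Sum.elim x y) P = MvPolynomial.eval₂Hom (MvPolynomial.aeval (R := K) y).toRingHom x Q := by
      have : (MvPolynomial.aeval (R := K) (Sum.elim x y)).toRingHom =
          (MvPolynomial.eval₂Hom (MvPolynomial.aeval (R := K) y).toRingHom x).comp (MvPolynomial.sumAlgEquiv K s t).toRingEquiv.toRingHom := by
        refine MvPolynomial.ringHom_ext (fun r => ?_) (fun i => ?_)
        · simp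
        · cases i <;> simp
      exact RingHom.congr_fun this P
    have hz : ∀ a ∈ Q.support, ∃ c : K, c ≠ 0 ∧ vL (MvPolynomial.aeval y (Q.coeff a) * a.prod fun g k => x g ^ k) =
        vL (algebraMap K L c * a.prod fun g k => x g ^ k) := fun a ha => by
      obtain ⟨c, hc, h⟩ := hA _ (MvPolynomial.mem_support_iff.1 ha)
      exact ⟨c, hc, by rw [map_mul, map_mul, h]⟩
    choose c hc hv using hz
    obtain ⟨j, hj, hmax⟩ := Finset.exists_max_image Q.support
      (fun a => vL (MvPolynomial.aeval y (Q.coeff a) * a.prod fun g k => x g ^ k)) (MvPolynomial.support_nonempty.2 hQne)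
    have hsum := Valuation.map_sum_eq_of_lt vL hj (f := fun a => MvPolynomial.aeval y (Q.coeff a) * a.prod fun g k => x g ^ k)
      (fun i hi => by
        rw [Finset.mem_sdiff, Finset.mem_singleton] at hi
        refine lt_of_le_of_ne (hmax i hi.1) fun h => hi.2 ?_
        rw [hv i hi.1, hv j hj] at h
        exact hB i j _ _ (hc i hi.1) (hc j hj) h)
    have h0 : ∑ a ∈ Q.support, MvPolynomial.aeval y (Q.coeff a) * (a.prod fun g k => x g ^ k) = 0 := by
      rw [← hP, hcomp]
      conv_rhs => rw [Q.as_sum, map_sum]
      exact Finset.sum_congr rfl fun a _ => (MvPolynomial.eval₂Hom_monomial ..).symm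
    rw [h0, map_zero, hv j hj] at hsum
    refine (mul_ne_zero ((map_ne_zero _).2 (hc j hj)) ?_) ((map_eq_zero vL).1 hsum.symm)
    exact Finset.prod_ne_zero_iff.2 fun g _ => pow_ne_zero _ (hx0 g)
  calc _ = Cardinal.mk s + Cardinal.mk t := by rw [hs, ht.cardinalMk_eq_trdeg]
    _ = Cardinal.mk (s ⊕ t) := by simp
    _ ≤ _ := hind.cardinalMk_le_trdeg

end Groth.Agent.S14891
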