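import Groth.Statements.S14892
import Groth.Agent.S0554
import Mathlib.RingTheory.KrullDimension.PID
import Mathlib.RingTheory.AlgebraicIndependent.TranscendenceBasis

set_option autoImplicit false
universe u
open CAlg

namespace Groth.Agent.S14892

/-- If the field K has finite transcendence degree d over its prime subfield, then every valuation
subring of K has height (Krull dimension) at most d + 1. -/
theorem result
    (K : Type u) [Field K] (A : ValuationSubring K) (d : ℕ)
    (hd : Algebra.trdeg (⊥ : Subfield K) K = d) :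
    ringKrullDim A ≤ ((d + 1 : ℕ) : WithBot ℕ∞) := by
  classical
  rw [ringKrullDim, Order.krullDim]
  refine iSup_le fun l => ?_
  let n := l.length
  have hx : ∀ i : Fin n, ∃ x : A, x ∈ (l i.succ).asIdeal ∧ x ∉ (l i.castSucc).asIdeal := fun i =>
    SetLike.exists_of_lt (l.step i)
  choose x hx hx' using hx
  let R : Subring K := ⊥
  let xK : Fin n → K := fun i => (x i : K)
  let B : Subalgebra R K := Algebra.adjoin R (Set.range xK)
  haveI : IsNoetherianRing R := by
    have hs : Function.Surjective ((Int.castRingHom K).codRestrict R fun m => intCast_mem R m) :=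
      fun ⟨r, hr⟩ => by
        obtain ⟨m, rfl⟩ := Subring.mem_bot.mp hr
        exact ⟨m, rfl⟩
    exact isNoetherianRing_of_surjective ℤ R _ hs
  have hdimR : ringKrullDim R ≤ 1 := by
    have hs : Function.Surjective ((Int.castRingHom K).codRestrict R fun m => intCast_mem R m) :=
      fun ⟨r, hr⟩ => by
        obtain ⟨m, rfl⟩ := Subring.mem_bot.mp hr
        exact ⟨m, rfl⟩
    exact (ringKrullDim_le_of_surjective _ hs).trans
      (Ring.krullDimLE_iff.mp (inferInstance : Ring.KrullDimLE 1 ℤ))
  haveI : Algebra.FiniteType R B :=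
    (Subalgebra.fg_iff_finiteType B).mp (Subalgebra.fg_adjoin_finset
      ((Set.finite_range xK).toFinset) |> fun h => by simpa using h)
  haveI : FaithfulSMul R B := (faithfulSMul_iff_algebraMap_injective R B).mpr fun a b h =>
    Subtype.ext (congrArg (fun z : B => (z : K)) h)
  have hBA : ∀ z : B, (z : K) ∈ A := by
    intro z
    refine Algebra.adjoin_induction (fun y hy => ?_) (fun r => ?_) (fun _ _ _ _ => A.add_mem _ _)
      (fun _ _ _ _ => A.mul_mem _ _) z.2
    · obtain ⟨i, rfl⟩ := hy; exact (x i).2
    · obtain ⟨m, hm⟩ := Subring.mem_bot.mp r.2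
      change (r : K) ∈ A
      rw [← hm]
      exact intCast_mem A m
  let ι : B →+* A := B.val.toRingHom.codRestrict A hBA
  let Q : Fin (n + 1) → PrimeSpectrum B := fun i => PrimeSpectrum.comap ι (l i)
  have hstep : ∀ i : Fin n, Q i.castSucc < Q i.succ := by
    intro i
    refine lt_of_le_of_ne (Ideal.comap_mono (l.step i).le) fun h => hx' i ?_
    have hxi : (⟨xK i, Algebra.subset_adjoin ⟨i, rfl⟩⟩ : B) ∈ (Q i.succ).asIdeal := hx i
    rw [← h] at hxi
    exact hxi
  let lB : LTSeries (PrimeSpectrum B) := ⟨n, Q, hstep⟩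
  let q : Ideal B := lB.last.asIdeal
  let p : Ideal R := q.under R
  haveI : q.LiesOver p := ⟨rfl⟩
  have hht : (n : ℕ∞) ≤ q.height := by
    rw [PrimeSpectrum.height_eq_orderHeight]
    exact Order.length_le_height_last (p := lB)
  have hpne : p ≠ ⊤ := (inferInstance : p.IsPrime).ne_top
  have hp : p.height ≤ 1 := WithBot.coe_le_coe.mp
    ((Ideal.height_le_ringKrullDim_of_ne_top hpne).trans hdimR)
  let F : Subfield K := ⊥
  letI algRF : Algebra R F := (Subring.inclusion (show R ≤ F.toSubring from bot_le)).toAlgebra
  haveI : IsScalarTower R F K := IsScalarTower.of_algebraMap_eq fun r => rfl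
  haveI : FaithfulSMul R F := (faithfulSMul_iff_algebraMap_injective R F).mpr fun a b h =>
    Subtype.ext (congrArg (fun z : F => (z : K)) h)
  haveI : Algebra.IsAlgebraic R F := ⟨fun z => by
    obtain ⟨y, hy, w, hw, hz⟩ := Subfield.mem_closure_iff.mp
      (show (z : K) ∈ Subfield.closure (∅ : Set K) by rw [Subfield.closure_empty]; exact z.2)
    rw [Subring.closure_empty] at hy hw
    rcases eq_or_ne w 0 with hw0 | hw0
    · rw [hw0, div_zero] at hz
      rw [show z = 0 from Subtype.ext hz.symm]
      exact isAlgebraic_zero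
    · refine ⟨Polynomial.C (⟨w, hw⟩ : R) * Polynomial.X - Polynomial.C ⟨y, hy⟩, fun h => hw0 ?_, ?_⟩
      · have := congrArg (fun f => Polynomial.coeff f 1) h
        simpa [Subtype.ext_iff] using this
      · refine Subtype.ext ?_
        simp only [map_sub, map_mul, Polynomial.aeval_C, Polynomial.aeval_X]
        change w * (z : K) - y = 0
        rw [← hz, mul_div_cancel₀ _ hw0, sub_self]⟩
  have htr : Algebra.trdeg R B ≤ (d : Cardinal.{u}) := by
    refine (trdeg_le_of_injective B.val Subtype.val_injective).trans ?_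
    rw [← trdeg_add_eq R F (A := K), trdeg_eq_zero (R := R) (A := F), zero_add]
    exact hd.le
  have key := Groth.Agent.S0554.result R B p q
  have hle : (q.height : Cardinal.{u}) ≤ ((d + 1 : ℕ) : Cardinal.{u}) := by
    refine (le_self_add.trans key).trans ?_
    refine (add_le_add (Cardinal.ofENat_le_ofENat.mpr hp) htr).trans (le_of_eq ?_)
    simp [add_comm]
  have h1 : q.height ≤ ((d + 1 : ℕ) : ℕ∞) := by
    rw [← Cardinal.ofENat_le_ofENat (m := q.height)]
    simpa using hle
  have h2 : n ≤ d + 1 := by exact_mod_cast hht.trans h1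
  exact_mod_cast h2

end Groth.Agent.S14892
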