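import Groth.Statements.S14893
import Groth.Agent.S14892
import Mathlib.RingTheory.Valuation.ValuationRing

set_option autoImplicit false
universe u
open CAlg

namespace Groth.Agent.S14893

theorem trdeg_lt_aleph0 {L : Type u} [Field L] (t : Finset L)
    (ht : Subfield.closure (t : Set L) = ⊤) :
    ∃ d : ℕ, Algebra.trdeg (⊥ : Subfield L) L = d := by
  classical
  let F : Subfield L := ⊥
  let B : Subalgebra F L := Algebra.adjoin F (t : Set L)
  haveI : Algebra.IsAlgebraic B L := ⟨fun z => by
    obtain ⟨y, hy, w, hw, hz⟩ := Subfield.mem_closure_iff.mp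
      (show z ∈ Subfield.closure (t : Set L) by rw [ht]; trivial)
    have hmem : ∀ a ∈ Subring.closure (t : Set L), a ∈ B := fun a ha =>
      (Subring.closure_le (t := B.toSubring)).mpr Algebra.subset_adjoin ha
    rcases eq_or_ne w 0 with hw0 | hw0
    · rw [hw0, div_zero] at hz
      rw [← hz]
      exact isAlgebraic_zero
    · refine ⟨Polynomial.C (⟨w, hmem w hw⟩ : B) * Polynomial.X - Polynomial.C ⟨y, hmem y hy⟩,
        fun h => hw0 ?_, ?_⟩
      · have := congrArg (fun f => Polynomial.coeff f 1) h
        simpa [Subtype.ext_iff] using this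
      · simp only [map_sub, map_mul, Polynomial.aeval_C, Polynomial.aeval_X]
        change w * z - y = 0
        rw [← hz, mul_div_cancel₀ _ hw0, sub_self]⟩
  have hB : Algebra.trdeg F B ≤ (t.card : Cardinal.{u}) := by
    let φ : MvPolynomial t F →ₐ[F] B := MvPolynomial.aeval fun i => ⟨i.1, Algebra.subset_adjoin i.2⟩
    have hφ : Function.Surjective φ := by
      rw [← AlgHom.range_eq_top, ← Subalgebra.map_injective (f := B.val) Subtype.val_injective |>.eq_iff,
        Algebra.map_top, Subalgebra.range_val, ← AlgHom.range_comp]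
      have : B.val.comp φ = MvPolynomial.aeval fun i : t => (i.1 : L) := by
        ext i; simp [φ]
      rw [this, ← Algebra.adjoin_range_eq_range_aeval]
      congr 1
      ext; simp
    exact (trdeg_le_of_surjective φ hφ).trans (by simp [MvPolynomial.trdeg_of_isDomain])
  have hFL : Algebra.trdeg F L ≤ (t.card : Cardinal.{u}) := by
    haveI : FaithfulSMul B L := (faithfulSMul_iff_algebraMap_injective B L).mpr Subtype.val_injective
    haveI : FaithfulSMul F B := (faithfulSMul_iff_algebraMap_injective F B).mpr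
      (algebraMap F B).injective
    rw [← trdeg_add_eq F B (A := L), trdeg_eq_zero (R := B) (A := L), add_zero]
    exact hB
  exact Cardinal.lt_aleph0.mp (hFL.trans_lt Cardinal.natCast_lt_aleph0)

/-- Every valuation ring R is a filtered union of subrings which are valuation rings with finite
spectrum (finite height): there is a nonempty directed index type and a monotone family of such
subrings of R whose supremum is R. -/
theorem result
    (R : Type u) [CommRing R] [IsDomain R] [ValuationRing R] :
    ∃ (ι : Type u) (_ : Preorder ι) (_ : IsDirected ι (fun a b ↦ a ≤ b)) (_ : Nonempty ι)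
      (F : ι → Subring R), Monotone F ∧ (⨆ i, F i) = ⊤ ∧
        ∀ i, ValuationRing (F i) ∧ Finite (PrimeSpectrum (F i)) := by
  classical
  let K := FractionRing R
  let φ : R →+* K := algebraMap R K
  have hφ : Function.Injective φ := IsFractionRing.injective R K
  let S : Finset R → Subfield K := fun s => Subfield.closure (φ '' (s : Set R))
  refine ⟨Finset R, inferInstance, inferInstance, inferInstance,
    fun s => (S s).toSubring.comap φ, fun s t h x hx => ?_, ?_, fun s => ?_⟩
  · exact Subfield.closure_mono (Set.image_mono (Finset.coe_subset.mpr h)) hx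
  · refine eq_top_iff.mpr fun r _ => ?_
    exact le_iSup (fun s => (S s).toSubring.comap φ) {r}
      (Subfield.subset_closure ⟨r, by simp, rfl⟩)
  let P := (S s).toSubring.comap φ
  have hVR : ValuationRing P := by
    have : PreValuationRing P := ⟨fun a b => by
      obtain ⟨c, hc⟩ := PreValuationRing.cond (a : R) (b : R)
      rcases eq_or_ne a 0 with ha | ha
      · exact ⟨0, Or.inr (by rw [ha, mul_zero])⟩
      rcases eq_or_ne b 0 with hb | hb
      · exact ⟨0, Or.inl (by rw [hb, mul_zero])⟩
      have hne : ∀ z : P, z ≠ 0 → φ z ≠ 0 := fun z hz h =>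
        hz (Subtype.ext (hφ (by simpa using h)))
      rcases hc with hc | hc
      · refine ⟨⟨c, ?_⟩, Or.inl (Subtype.ext hc)⟩
        show φ c ∈ S s
        rw [show φ c = φ b / φ a by rw [eq_div_iff (hne a ha), ← map_mul, mul_comm, hc]]
        exact div_mem b.2 a.2
      · refine ⟨⟨c, ?_⟩, Or.inr (Subtype.ext hc)⟩
        show φ c ∈ S s
        rw [show φ c = φ a / φ b by rw [eq_div_iff (hne b hb), ← map_mul, mul_comm, hc]]
        exact div_mem a.2 b.2⟩
    exact .mk
  refine ⟨hVR, ?_⟩
  let L := S s
  let A : ValuationSubring L :=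
    { φ.range.comap L.subtype with
      mem_or_inv_mem' := fun x => by
        obtain ⟨a, h⟩ := ValuationRing.isInteger_or_isInteger R (x : K) |>.elim
          (fun ⟨a, h⟩ => (⟨a, Or.inl h⟩ : ∃ a, φ a = (x : K) ∨ φ a = (x : K)⁻¹))
          (fun ⟨a, h⟩ => ⟨a, Or.inr h⟩)
        rcases h with h | h
        · exact Or.inl ⟨a, h⟩
        · exact Or.inr ⟨a, h⟩ }
  let e : P →+* A :=
    { toFun := fun z => ⟨⟨φ z, z.2⟩, ⟨z.1, rfl⟩⟩
      map_one' := Subtype.ext (Subtype.ext (by simp))
      map_mul' := fun a b => Subtype.ext (Subtype.ext (by simp))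
      map_zero' := Subtype.ext (Subtype.ext (by simp))
      map_add' := fun a b => Subtype.ext (Subtype.ext (by simp)) }
  have he : Function.Bijective e := by
    refine ⟨fun a b h => Subtype.ext (hφ (congrArg (fun z : A => ((z : L) : K)) h)), fun z => ?_⟩
    obtain ⟨r, hr⟩ := z.2
    exact ⟨⟨r, show φ r ∈ S s by rw [hr]; exact z.1.2⟩, Subtype.ext (Subtype.ext hr)⟩
  obtain ⟨d, hd⟩ := trdeg_lt_aleph0 (L := L)
    (Finset.univ.image fun r : s => (⟨φ r, Subfield.subset_closure ⟨r, r.2, rfl⟩⟩ : L)) (by
    refine eq_top_iff.mpr fun z _ => ?_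
    have hz : (z : K) ∈ Subfield.closure (φ '' (s : Set R)) := z.2
    rw [show φ '' (s : Set R) = L.subtype '' ↑(Finset.univ.image fun r : s =>
      (⟨φ r, Subfield.subset_closure ⟨r, r.2, rfl⟩⟩ : L)) by
        ext y
        simp only [Set.mem_image, Finset.coe_image, Finset.coe_univ, Set.image_univ, Set.mem_range,
          exists_exists_eq_and]
        exact ⟨fun ⟨x, hx, h⟩ => ⟨⟨x, hx⟩, h⟩, fun ⟨x, h⟩ => ⟨x, x.2, h⟩⟩,
      ← RingHom.map_field_closure] at hz
    obtain ⟨y, hy, hyz⟩ := hz
    rwa [show z = y from Subtype.ext hyz.symm])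
  have hdim : ringKrullDim P ≤ ((d + 1 : ℕ) : WithBot ℕ∞) :=
    (ringKrullDim_eq_of_ringEquiv (RingEquiv.ofBijective e he)).trans_le
      (Groth.Agent.S14892.result L A d hd)
  have hh : ∀ Q : PrimeSpectrum P, Q.asIdeal.height ≤ ((d + 1 : ℕ) : ℕ∞) := fun Q =>
    WithBot.coe_le_coe.mp ((Ideal.height_le_ringKrullDim_of_ne_top Q.2.ne_top).trans hdim)
  haveI := hVR
  refine Finite.of_injective (β := Fin (d + 2)) (fun Q => ⟨Q.asIdeal.height.toNat, ?_⟩) fun Q Q' h => ?_
  · have := ENat.toNat_le_of_le_natCast (hh Q)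
    omega
  · have h' : Q.asIdeal.height.toNat = Q'.asIdeal.height.toNat := congrArg Fin.val h
    have hne : ∀ Q : PrimeSpectrum P, Q.asIdeal.height ≠ ⊤ := fun Q =>
      ne_top_of_le_ne_top (by simp) (hh Q)
    have hEq : Q.asIdeal.height = Q'.asIdeal.height := by
      rw [← ENat.natCast_toNat (hne Q), ← ENat.natCast_toNat (hne Q'), h']
    haveI : ∀ Q : PrimeSpectrum P, Q.asIdeal.FiniteHeight := fun Q => ⟨Or.inr (hne Q)⟩
    by_contra hQ
    rcases (ValuationRing.iff_ideal_total.mp hVR).total Q.asIdeal Q'.asIdeal with hle | hle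
    · exact (Ideal.height_strict_mono_of_isPrime (lt_of_le_of_ne hle fun e => hQ (PrimeSpectrum.ext e))).ne hEq
    · exact (Ideal.height_strict_mono_of_isPrime (lt_of_le_of_ne hle fun e => hQ (PrimeSpectrum.ext e.symm))).ne hEq.symm

end Groth.Agent.S14893
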