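import Groth.Statements.S14895
import Groth.Agent.Lib.Flat55.CurveModification

set_option autoImplicit false
universe u
open CategoryTheory CategoryTheory.Limits AlgebraicGeometry
open FlatMor
open Groth.Agent.Lib.Flat55

namespace Groth.Agent.S14895

/-- Let R be a valuation ring with finite spectrum and separably closed fraction field K, and let φ : C
→ Spec R be a connected, reduced and normal relative curve — flat, locally of finite presentation,
quasi-compact, quasi-separated, every fibre of pure dimension one — with smooth generic fibre C ×_R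
K. Let x ∈ C be a generic point of an irreducible component of its fibre (no other point of the same
fibre specializes to x), and let f : C' → C be proper and restrict to an isomorphism over an open U
⊆ C which is schematically dense in C and whose preimage is schematically dense in C'. Then f⁻¹(x)
is a single point x', the stalk map O_{C,x} → O_{C',x'} is an isomorphism, and f restricts to an
isomorphism over an open of C with finite complement (the modification locus is finite). -/
theorem result
    (R : Type u) [CommRing R] [IsDomain R] [ValuationRing R] [Finite (PrimeSpectrum R)]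
    [IsSepClosed (FractionRing R)]
    {C C' : Scheme.{u}} (φ : C ⟶ Spec (CommRingCat.of R)) [Flat φ] [LocallyOfFinitePresentation φ]
    [QuasiCompact φ] [QuasiSeparated φ] [ConnectedSpace C] [IsReduced C] (hN : Pi1.IsNormalScheme C)
    (hdim : ∀ s : Spec (CommRingCat.of R), ∀ Z ∈ irreducibleComponents (φ.fiber s : Type u),
      topologicalKrullDim Z = 1)
    (hη : Smooth (pullback.snd φ (Spec.map (CommRingCat.ofHom (algebraMap R (FractionRing R))))))
    (x : C) (hx : ∀ y : C, y ⤳ x → φ y = φ x → y = x)
    (f : C' ⟶ C) [IsProper f] (U : C.Opens) (hU : IsSchemeTheoreticallyDominant U.ι)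
    (hU' : IsSchemeTheoreticallyDominant (f ⁻¹ᵁ U).ι) (hfU : IsIso (f ∣_ U)) :
    ((∃ x' : C', f x' = x) ∧ (∀ x₁ x₂ : C', f x₁ = x → f x₂ = x → x₁ = x₂) ∧
      (∀ x' : C', f x' = x → IsIso (f.stalkMap x'))) ∧
    ∃ W : C.Opens, ((W : Set C)ᶜ).Finite ∧ IsIso (f ∣_ W) := by
  haveI : AlgebraicGeometry.IsIntegral C := by
    haveI := CurveModification.irreducibleSpace_of_finite (fun z => (hN z).1)
      (CurveModification.finite_isMax φ)
    exact isIntegral_of_irreducibleSpace_of_isReduced C
  obtain ⟨_, hgen, hbir⟩ := CurveModification.modification f U hU hU' hfU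
  have hdim' : ∀ s : Spec (CommRingCat.of R), ∀ Z ∈ irreducibleComponents (φ.fiber s : Type u),
      topologicalKrullDim Z = ((1 : ℕ) : WithBot ℕ∞) := by
    simpa only [Nat.cast_one] using hdim
  have hxm : FlatEquidim.IsMaxFib φ x := fun z hz hs => hx z hs hz
  obtain ⟨V, hxV, hV⟩ := CurveModification.exists_nhds_isIso φ hN
    ((FlatEquidim.forall_fibre_component_iff φ 1).1 hdim') hxm f hgen hbir
  refine ⟨⟨?_, ?_, ?_⟩, CurveModification.exists_open_finite_compl φ hN hdim' f hgen hbir⟩
  · obtain ⟨a, ha⟩ := (f ∣_ V).surjective ⟨x, hxV⟩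
    have e := congrArg Subtype.val ha
    rw [morphismRestrict_base_coe] at e
    exact ⟨a.1, e⟩
  · intro x₁ x₂ h₁ h₂
    have hm₁ : x₁ ∈ f ⁻¹ᵁ V := by show f x₁ ∈ V; rw [h₁]; exact hxV
    have hm₂ : x₂ ∈ f ⁻¹ᵁ V := by show f x₂ ∈ V; rw [h₂]; exact hxV
    have h : (f ∣_ V) ⟨x₁, hm₁⟩ = (f ∣_ V) ⟨x₂, hm₂⟩ := Subtype.ext (by
      rw [morphismRestrict_base_coe, morphismRestrict_base_coe]; exact h₁.trans h₂.symm)
    exact congrArg Subtype.val ((f ∣_ V).homeomorph.injective h)
  · intro x' hx'
    have hm : x' ∈ f ⁻¹ᵁ V := by show f x' ∈ V; rw [hx']; exact hxV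
    have h0 : IsIso ((f ∣_ V).stalkMap ⟨x', hm⟩) := inferInstance
    exact ((MorphismProperty.isomorphisms CommRingCat).arrow_mk_iso_iff
      (morphismRestrictStalkMap f V ⟨x', hm⟩)).mp h0

end Groth.Agent.S14895
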