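import Groth.Statements.S14897
import Groth.Agent.Lib.ProjSpace.Basic
import Mathlib.AlgebraicGeometry.Morphisms.SchemeTheoreticallyDominant
-- import your own Groth.Agent.* helpers here

set_option autoImplicit false
universe u
open CategoryTheory CategoryTheory.Limits AlgebraicGeometry
open FlatMor

namespace Groth.Agent.S14897

theorem quasiCompact_of_field {X : Scheme.{u}} (K : Type u) [Field K] (f : Spec (CommRingCat.of K) ⟶ X) :
    QuasiCompact f :=
  ⟨fun _ _ _ => (Set.toFinite _).isCompact⟩

theorem isSchemeTheoreticallyDominant_toImage {X Y : Scheme.{u}} (f : X ⟶ Y) [QuasiCompact f] :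
    IsSchemeTheoreticallyDominant f.toImage := by
  rw [isSchemeTheoreticallyDominant_iff]
  refine Scheme.IdealSheafData.ext_of_iSup_eq_top (ι := Y.affineOpens)
    (fun U => ⟨f.imageι ⁻¹ᵁ U.1, U.2.preimage f.imageι⟩) ?_ fun U => ?_
  · exact TopologicalSpace.IsOpenCover.comap (iSup_affineOpens_eq_top Y) f.imageι.base.hom
  · rw [Scheme.Hom.ker_apply, Scheme.IdealSheafData.ideal_bot, Pi.bot_apply]
    exact (RingHom.injective_iff_ker_eq_bot _).1 (f.toImage_app_injective U)


/-- Let S be integral, quasi-compact and quasi-separated, K̄ a field with a dominant morphism η̄ : Spec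
K̄ → S, and f ∈ K̄. Then there is a K̄-modification of S on which f is a rational function defining
a morphism to the projective line: η̄ factors as a schematically dominant s : Spec K̄ → S' followed
by a proper S' → S, and there is F : S' → P¹ (Proj of ℤ[T₀, T₁], universe-lifted) with s ≫ F equal
to the K̄-point [1 : f] of the chart T₀ ≠ 0. -/
theorem result
    {S : Scheme.{u}} [IsIntegral S] [CompactSpace S] [QuasiSeparatedSpace S]
    (Kb : Type u) [Field Kb] (ηb : Spec (CommRingCat.of Kb) ⟶ S) [IsDominant ηb] (f : Kb) :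
    ∃ (S' : Scheme.{u}) (s : Spec (CommRingCat.of Kb) ⟶ S') (q : S' ⟶ S)
      (F : S' ⟶ CohB1.ProjSpace 1 P1.R0.{u}),
      IsSchemeTheoreticallyDominant s ∧ IsProper q ∧ s ≫ q = ηb ∧
      s ≫ F = Spec.map (CommRingCat.ofHom (P1.chartMap 0 Kb f)) ≫
        Proj.awayι P1.grading (P1.T 0) (P1.X_mem 0) one_pos := by
  let toB : CohB1.ProjSpace 1 P1.R0.{u} ⟶ Spec (CommRingCat.of P1.R0.{u}) :=
    CohB1.ProjSpace.toSpec 1 P1.R0.{u}
  haveI : IsProper toB := Groth.Agent.Lib.ProjSpace.Basic.isProper_toSpec 1 P1.R0.{u}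
  let pt : Spec (CommRingCat.of Kb) ⟶ CohB1.ProjSpace 1 P1.R0.{u} :=
    Spec.map (CommRingCat.ofHom (P1.chartMap 0 Kb f)) ≫
      Proj.awayι P1.grading (P1.T 0) (P1.X_mem 0) one_pos
  let t : S ⟶ Spec (CommRingCat.of P1.R0.{u}) := specULiftZIsTerminal.from S
  let g : Spec (CommRingCat.of Kb) ⟶ pullback toB t :=
    pullback.lift pt ηb (specULiftZIsTerminal.hom_ext _ _)
  haveI : QuasiCompact g := quasiCompact_of_field Kb g
  haveI : IsProper (pullback.snd toB t) := MorphismProperty.pullback_snd _ _ ‹IsProper toB›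
  refine ⟨g.image, g.toImage, g.imageι ≫ pullback.snd toB t, g.imageι ≫ pullback.fst toB t,
    isSchemeTheoreticallyDominant_toImage g, inferInstance, ?_, ?_⟩
  · rw [← Category.assoc, g.toImage_imageι, pullback.lift_snd]
  · rw [← Category.assoc, g.toImage_imageι, pullback.lift_fst]
    rfl

end Groth.Agent.S14897
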