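import Groth.Statements.S14898
import Groth.Agent.S0384
import Groth.Agent.Lib.GrpQ.Image
import Mathlib.AlgebraicGeometry.Morphisms.SchemeTheoreticallyDominant

set_option autoImplicit false
universe u
open CategoryTheory CategoryTheory.Limits AlgebraicGeometry
open FlatMor

namespace Groth.Agent.S14898

/-- Let S be integral, quasi-compact and quasi-separated and η̄ : Spec K̄ → S dominant, K̄ a field.
Suppose given finitely many K̄-quasi-modifications of S: schematically dominant t_i : Spec K̄ → T_i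
followed by separated, quasi-compact, locally finite type p_i : T_i → S with t_i ≫ p_i = η̄. Then
there is a K̄-modification of S — a schematically dominant s : Spec K̄ → S' followed by a proper q :
S' → S with s ≫ q = η̄ — and opens V_i ⊆ S' through which s factors, together with proper
S-morphisms r_i : V_i → T_i sending the K̄-point to t_i; that is, each V_i is a K̄-modification of
T_i sitting inside S' as an open subscheme over S. -/
theorem result
    {S : Scheme.{u}} [IsIntegral S] [CompactSpace S] [QuasiSeparatedSpace S]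
    (Kb : Type u) [Field Kb] (ηb : Spec (CommRingCat.of Kb) ⟶ S) [IsDominant ηb]
    {ι : Type u} [Finite ι] (T : ι → Scheme.{u}) (t : ∀ i, Spec (CommRingCat.of Kb) ⟶ T i)
    (p : ∀ i, T i ⟶ S) [∀ i, IsSchemeTheoreticallyDominant (t i)] [∀ i, IsSeparated (p i)]
    [∀ i, LocallyOfFiniteType (p i)] [∀ i, QuasiCompact (p i)] (hp : ∀ i, t i ≫ p i = ηb) :
    ∃ (S' : Scheme.{u}) (s : Spec (CommRingCat.of Kb) ⟶ S') (q : S' ⟶ S),
      IsSchemeTheoreticallyDominant s ∧ IsProper q ∧ s ≫ q = ηb ∧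
      ∀ i, ∃ (V : S'.Opens) (v : Spec (CommRingCat.of Kb) ⟶ (V : Scheme.{u}))
        (r : (V : Scheme.{u}) ⟶ T i),
        v ≫ V.ι = s ∧ IsProper r ∧ v ≫ r = t i ∧ r ≫ p i = V.ι ≫ q := by
  classical
  revert T
  refine Finite.induction_empty_option (P := fun ι : Type u => ∀ (T : ι → Scheme.{u})
    (t : ∀ i, Spec (CommRingCat.of Kb) ⟶ T i) (p : ∀ i, T i ⟶ S)
    [∀ i, IsSchemeTheoreticallyDominant (t i)] [∀ i, IsSeparated (p i)]
    [∀ i, LocallyOfFiniteType (p i)] [∀ i, QuasiCompact (p i)] (_ : ∀ i, t i ≫ p i = ηb),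
    ∃ (S' : Scheme.{u}) (s : Spec (CommRingCat.of Kb) ⟶ S') (q : S' ⟶ S),
      IsSchemeTheoreticallyDominant s ∧ IsProper q ∧ s ≫ q = ηb ∧
      ∀ i, ∃ (V : S'.Opens) (v : Spec (CommRingCat.of Kb) ⟶ (V : Scheme.{u}))
        (r : (V : Scheme.{u}) ⟶ T i),
        v ≫ V.ι = s ∧ IsProper r ∧ v ≫ r = t i ∧ r ≫ p i = V.ι ≫ q) ?_ ?_ ?_ ι
  · -- reindexing
    intro α β e ih T t p _ _ _ _ hp
    obtain ⟨S', s, q, hs, hq, hsq, h⟩ := ih (T ∘ e) (fun i => t (e i)) (fun i => p (e i))
      (fun i => hp (e i))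
    refine ⟨S', s, q, hs, hq, hsq, fun i => ?_⟩
    obtain ⟨j, rfl⟩ := e.surjective i
    exact h j
  · -- no index
    intro T t p _ _ _ _ _
    exact ⟨S, ηb, 𝟙 S, .of_isDominant ηb, inferInstance, Category.comp_id _, fun i => i.elim⟩
  · intro α _ ih T t p _ _ _ _ hp
    obtain ⟨S₁, s₁, q₁, hs₁, hq₁, hsq₁, h₁⟩ := ih (fun i => T (some i)) (fun i => t (some i))
      (fun i => p (some i)) (fun i => hp (some i))
    obtain ⟨Tc, j, g, hj, -, hg, hjg⟩ := Groth.Agent.S0384.result (p none)
    let P := pullback q₁ g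
    let z : Spec (CommRingCat.of Kb) ⟶ P :=
      pullback.lift s₁ (t none ≫ j) (by rw [hsq₁, Category.assoc, hjg, hp none])
    haveI : IsProper (pullback.fst q₁ g) := inferInstance
    haveI : IsProper (pullback.snd q₁ g) := inferInstance
    haveI : QuasiSeparated (pullback.fst q₁ g ≫ q₁) := inferInstance
    haveI : QuasiSeparatedSpace P := quasiSeparatedSpace_of_quasiSeparated (pullback.fst q₁ g ≫ q₁)
    haveI : QuasiCompact z := inferInstance
    let π₁ : z.image ⟶ S₁ := z.imageι ≫ pullback.fst q₁ g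
    let π₂ : z.image ⟶ Tc := z.imageι ≫ pullback.snd q₁ g
    haveI : IsProper π₁ := inferInstance
    haveI : IsProper π₂ := inferInstance
    have hz₁ : z.toImage ≫ π₁ = s₁ := by
      rw [← Category.assoc, Scheme.Hom.toImage_imageι, pullback.lift_fst]
    have hz₂ : z.toImage ≫ π₂ = t none ≫ j := by
      rw [← Category.assoc, Scheme.Hom.toImage_imageι, pullback.lift_snd]
    refine ⟨z.image, z.toImage, π₁ ≫ q₁, Groth.Agent.Lib.GrpQ.Image.std_toImage z, inferInstance,
      by rw [← Category.assoc, hz₁, hsq₁], ?_⟩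
    rintro (_ | i)
    · refine ⟨π₂ ⁻¹ᵁ j.opensRange, IsOpenImmersion.lift (π₂ ⁻¹ᵁ j.opensRange).ι z.toImage ?_,
        (π₂ ∣_ j.opensRange) ≫ j.isoOpensRange.inv, IsOpenImmersion.lift_fac _ _ _, ?_, ?_, ?_⟩
      · rintro _ ⟨x, rfl⟩
        rw [Scheme.Opens.range_ι]
        show π₂ (z.toImage x) ∈ j.opensRange
        rw [← Scheme.Hom.comp_apply, hz₂]
        exact ⟨t none x, rfl⟩
      · haveI : IsProper (π₂ ∣_ j.opensRange) := IsZariskiLocalAtTarget.restrict ‹IsProper π₂› _
        infer_instance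
      · rw [← cancel_mono j]
        simp only [Category.assoc, Scheme.Hom.isoOpensRange_inv_comp, morphismRestrict_ι,
          IsOpenImmersion.lift_fac_assoc]
        exact hz₂
      · rw [← hjg]
        simp only [Category.assoc, Scheme.Hom.isoOpensRange_inv_comp_assoc, morphismRestrict_ι_assoc]
        simp only [π₁, π₂, Category.assoc, pullback.condition]
    · obtain ⟨V, v, r, hv, hr, hvr, hrp⟩ := h₁ i
      haveI := hr
      refine ⟨π₁ ⁻¹ᵁ V, IsOpenImmersion.lift (π₁ ⁻¹ᵁ V).ι z.toImage ?_, (π₁ ∣_ V) ≫ r,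
        IsOpenImmersion.lift_fac _ _ _, ?_, ?_, ?_⟩
      · rintro _ ⟨x, rfl⟩
        rw [Scheme.Opens.range_ι]
        show π₁ (z.toImage x) ∈ V
        rw [← Scheme.Hom.comp_apply, hz₁, ← hv]
        exact (v x).2
      · haveI : IsProper (π₁ ∣_ V) := IsZariskiLocalAtTarget.restrict ‹IsProper π₁› _
        infer_instance
      · rw [← hvr, ← Category.assoc]
        congr 1
        rw [← cancel_mono V.ι, Category.assoc, morphismRestrict_ι, IsOpenImmersion.lift_fac_assoc,
          hv, hz₁]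
      · rw [Category.assoc, hrp, morphismRestrict_ι_assoc]

end Groth.Agent.S14898
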