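import Groth.Statements.S1490
import Groth.Agent.S7827

set_option autoImplicit false
universe u
open FlatMor

namespace Groth.Agent.S1490

open AlgebraicGeometry CategoryTheory Limits in
/-- The cube principle for invertible modules: let X, Y, Z be schemes over S with X → S and Y → S flat,
proper, of finite presentation and with geometrically integral fibres, let x and y be sections of X
→ S and Y → S, and let Z be connected. Let L be an invertible module on (X ×_S Y) ×_S Z. If the
pullbacks of L to Y ×_S Z (along x) and to X ×_S Z (along y) are trivial and L is trivial on the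
fibre over some point z of Z, then L is trivial. -/
theorem result {S X Y Z : Scheme.{u}} (pX : X ⟶ S) (pY : Y ⟶ S) (pZ : Z ⟶ S)
    [Flat pX] [IsProper pX] [LocallyOfFinitePresentation pX] [GeometricallyIntegral pX]
    [Flat pY] [IsProper pY] [LocallyOfFinitePresentation pY] [GeometricallyIntegral pY] [ConnectedSpace ↑Z]
    (x : S ⟶ X) (hx : x ≫ pX = 𝟙 S) (y : S ⟶ Y) (hy : y ≫ pY = 𝟙 S)
    (L : (pullback (pullback.fst pX pY ≫ pX) pZ).Modules) (hL : PicF.IsInvertible L)
    (h₁ : Nonempty ((Scheme.Modules.pullback (pullback.map ((pullback.lift (pY ≫ x) (𝟙 Y) ((Category.assoc pY x pX).trans ((congrArg (fun t => pY ≫ t) hx).trans ((Category.comp_id pY).trans (Category.id_comp pY).symm)))) ≫ (pullback.fst pX pY ≫ pX)) pZ (pullback.fst pX pY ≫ pX) pZ (pullback.lift (pY ≫ x) (𝟙 Y) ((Category.assoc pY x pX).trans ((congrArg (fun t => pY ≫ t) hx).trans ((Category.comp_id pY).trans (Category.id_comp pY).symm)))) (𝟙 Z) (𝟙 S) (Category.comp_id _) ((Category.comp_id pZ).trans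 (Category.id_comp pZ).symm))).obj L ≅ Coh.structureModule _))
    (h₂ : Nonempty ((Scheme.Modules.pullback (pullback.map ((pullback.lift (𝟙 X) (pX ≫ y) ((Category.id_comp pX).trans ((Category.comp_id pX).symm.trans ((congrArg (fun t => pX ≫ t) hy).symm.trans (Category.assoc pX y pY).symm)))) ≫ (pullback.fst pX pY ≫ pX)) pZ (pullback.fst pX pY ≫ pX) pZ (pullback.lift (𝟙 X) (pX ≫ y) ((Category.id_comp pX).trans ((Category.comp_id pX).symm.trans ((congrArg (fun t => pX ≫ t) hy).symm.trans (Category.assoc pX y pY).symm)))) (𝟙 Z) (𝟙 S) (Category.comp_id _) ((Category.comp_id pZ).trans (Category.id_comp pZ).symm))).obj L ≅ Coh.structureModule _))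
    (h₃ : ∃ z : Z, Nonempty ((Scheme.Modules.pullback ((pullback.snd (pullback.fst pX pY ≫ pX) pZ).fiberι z)).obj L ≅ Coh.structureModule _)) :
    Nonempty (L ≅ Coh.structureModule (pullback (pullback.fst pX pY ≫ pX) pZ)) := by
  obtain ⟨z, hz⟩ := h₃
  obtain ⟨W, hW, hzW, ⟨i⟩⟩ :=
    Groth.Agent.S7827.result pX pY pZ x hx y hy L hL h₁ h₂ z hz
  obtain ⟨ι, U, hU, hUc, e, he, c, hc⟩ := Groth.Agent.Lib.Cube.Triv.exists_cocycle hL
  have hiff := fun {P : Scheme.{u}} (f : P ⟶ pullback (pullback.fst pX pY ≫ pX) pZ) =>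
    Groth.Agent.Lib.Cube.Triv.trivAlong_iff e he c hc hUc f
  have htop : W = ⊤ := by
    refine TopologicalSpace.Opens.ext ?_
    exact IsClopen.eq_univ ⟨hW, W.isOpen⟩ ⟨z, hzW⟩
  subst htop
  have h := (hiff _).2 ⟨i⟩
  haveI : IsIso ((pullback.snd (pullback.fst pX pY ≫ pX) pZ) ⁻¹ᵁ (⊤ : Z.Opens)).ι := by
    rw [Scheme.Hom.preimage_top, ← Scheme.topIso_hom]
    infer_instance
  have h' := (h.comp (inv ((pullback.snd (pullback.fst pX pY ≫ pX) pZ) ⁻¹ᵁ (⊤ : Z.Opens)).ι)).of_eq
    (IsIso.inv_hom_id _)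
  obtain ⟨j⟩ := (hiff _).1 h'
  exact ⟨((Scheme.Modules.pullbackId _).app L).symm ≪≫ j⟩

end Groth.Agent.S1490
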