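import Groth.Statements.S14901
import Mathlib
import Groth.Agent.H46.DimFormula
import Groth.Agent.Lib.Cyc.LocalDim
import Groth.Agent.Lib.Cyc.TorPD

set_option autoImplicit false
universe u
open MovLem

namespace Groth.Agent.S14901

open AlgebraicGeometry CategoryTheory Groth.Agent.Lib.Cyc

lemma stalk_dim_zero {F : Scheme.{u}} (z : F) (hmax : ∀ w, w ⤳ z → w = z) :
    ringKrullDim (F.presheaf.stalk z) ≤ 0 := by
  have : Subsingleton (PrimeSpectrum (F.presheaf.stalk z)) := by
    refine ⟨fun a b => (F.fromSpecStalk z).isEmbedding.injective ?_⟩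
    have hmem : ∀ c, F.fromSpecStalk z c = z := fun c => by
      apply hmax
      have : F.fromSpecStalk z c ∈ Set.range (F.fromSpecStalk z) := ⟨c, rfl⟩
      rwa [Scheme.range_fromSpecStalk] at this
    rw [hmem a, hmem b]
  exact Order.krullDim_nonpos_of_subsingleton

lemma constructible_near {α : Type*} [TopologicalSpace α] {s : Set α} (hs : Topology.IsConstructible s) :
    ∀ η, ∃ U : Set α, IsOpen U ∧ η ∈ U ∧ (U ∩ closure {η} ⊆ s ∨ U ∩ closure {η} ⊆ sᶜ) := by
  induction hs using Topology.IsConstructible.empty_union_induction with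
  | open_retrocompact U hU _ =>
    intro η
    by_cases hη : η ∈ U
    · exact ⟨U, hU, hη, Or.inl Set.inter_subset_left⟩
    · exact ⟨Set.univ, isOpen_univ, trivial, Or.inr fun y hy hyU =>
        hη ((specializes_iff_mem_closure.mpr hy.2).mem_open hU hyU)⟩
  | union s _ t _ hs ht =>
    intro η
    obtain ⟨U, hU, hηU, hU'⟩ := hs η
    obtain ⟨V, hV, hηV, hV'⟩ := ht η
    refine ⟨U ∩ V, hU.inter hV, ⟨hηU, hηV⟩, ?_⟩
    rcases hU' with h | h
    · exact Or.inl fun y hy => Or.inl (h ⟨hy.1.1, hy.2⟩)
    · rcases hV' with h' | h'
      · exact Or.inl fun y hy => Or.inr (h' ⟨hy.1.2, hy.2⟩)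
      · exact Or.inr fun y hy hc => hc.elim (h ⟨hy.1.1, hy.2⟩) (h' ⟨hy.1.2, hy.2⟩)
  | compl s _ hs =>
    intro η
    obtain ⟨U, hU, hηU, hU'⟩ := hs η
    exact ⟨U, hU, hηU, hU'.symm.imp id fun h => h.trans (compl_compl s).ge⟩

variable {k : Type u} [Field k] {S X : Scheme.{u}} (f : S ⟶ X) (pX : X ⟶ Spec (CommRingCat.of k))
  [QuasiCompact pX] [IsSeparated pX] [LocallyOfFiniteType pX] [LocallyOfFiniteType f] [QuasiCompact f]

include f pX in
lemma compactSpace_source : CompactSpace S := by
  haveI : CompactSpace X := QuasiCompact.compactSpace_of_compactSpace pX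
  exact QuasiCompact.compactSpace_of_compactSpace f

include pX in
lemma exists_range_specializes {y : X} (hy : y ∈ closure (Set.range f.base)) :
    ∃ η : S, f.base η ⤳ y := by
  haveI := compactSpace_source f pX
  haveI : IsLocallyNoetherian X := LocallyOfFiniteType.isLocallyNoetherian pX
  haveI : IsLocallyNoetherian S := LocallyOfFiniteType.isLocallyNoetherian (f ≫ pX)
  haveI : AlgebraicGeometry.IsNoetherian S := ⟨⟩
  haveI : TopologicalSpace.NoetherianSpace S := inferInstance
  let T : Set S := {η | closure {η} ∈ irreducibleComponents (S : Type u)}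
  have hT : T.Finite := by
    refine Set.Finite.of_finite_image (f := fun η : S => closure ({η} : Set S))
      (TopologicalSpace.NoetherianSpace.finite_irreducibleComponents.subset ?_) ?_
    · rintro _ ⟨η, hη, rfl⟩; exact hη
    · intro a _ b _ hab
      exact (specializes_iff_closure_subset.2 hab.ge).antisymm (specializes_iff_closure_subset.2 hab.le) |>.eq
  have hsub : Set.range f.base ⊆ ⋃ η ∈ T, closure {f.base η} := by
    rintro _ ⟨t, rfl⟩
    obtain ⟨η, hη⟩ := QuasiSober.sober (isIrreducible_irreducibleComponent (x := t)) isClosed_irreducibleComponent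
    refine Set.mem_biUnion (x := η) ?_ ?_
    · show closure {η} ∈ irreducibleComponents (S : Type u)
      rw [hη.def]; exact irreducibleComponent_mem_irreducibleComponents t
    · exact ((hη.specializes mem_irreducibleComponent).map f.continuous).mem_closure
  obtain ⟨η, -, hη⟩ := Set.mem_iUnion₂.mp (closure_minimal hsub (hT.isClosed_biUnion fun _ _ => isClosed_closure) hy)
  exact ⟨η, specializes_iff_mem_closure.mpr hη⟩

lemma le_dim_range (η : S) :
    ((FieldDim.fdelta pX (f.base η)).toNat : WithBot ℕ∞) ≤ topologicalKrullDim (Set.range f.base) := by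
  haveI : CompactSpace X := QuasiCompact.compactSpace_of_compactSpace pX
  haveI : QuasiSeparatedSpace X := quasiSeparatedSpace_of_quasiSeparated pX
  haveI : IsLocallyNoetherian X := LocallyOfFiniteType.isLocallyNoetherian pX
  haveI : LocallyOfFinitePresentation f := inferInstance
  have hc : Topology.IsConstructible (f '' Set.univ) := f.isConstructible_image Topology.IsConstructible.univ
  rw [Set.image_univ] at hc
  obtain ⟨U, hU, hηU, hU'⟩ := constructible_near hc (f.base η)
  have hU'' : U ∩ closure {f.base η} ⊆ Set.range f.base :=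
    hU'.resolve_right fun h => h ⟨hηU, subset_closure rfl⟩ ⟨η, rfl⟩
  let V : X.Opens := ⟨U, hU⟩
  let v : (V : Scheme.{u}) := ⟨f.base η, hηU⟩
  have h1 := FieldDim.topologicalKrullDim_closure (V.ι ≫ pX) v
  rw [Groth.Agent.Lib.Cyc.LocalDim.fdelta_ι] at h1
  change topologicalKrullDim (closure ({v} : Set V)) = ((FieldDim.fdelta pX (f.base η)).toNat : WithBot ℕ∞) at h1
  rw [← h1]
  have hcl : ∀ w : (V : Scheme.{u}), w ∈ closure ({v} : Set V) → V.ι w ∈ Set.range f.base := fun w hw => by
    refine hU'' ⟨w.2, ?_⟩
    exact ((specializes_iff_mem_closure.mpr hw).map V.ι.continuous).mem_closure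
  let g : closure ({v} : Set V) → Set.range f.base := fun w => ⟨V.ι w.1, hcl w.1 w.2⟩
  have hg : Topology.IsInducing g := by
    refine Topology.IsInducing.of_comp (g := Subtype.val) ?_ continuous_subtype_val ?_
    · exact Continuous.subtype_mk (V.ι.continuous.comp continuous_subtype_val) _
    · exact V.ι.isEmbedding.isInducing.comp Topology.IsInducing.subtypeVal
  exact hg.topologicalKrullDim_le


open AlgebraicGeometry CategoryTheory in
/-- Let k be a field, let S and X be separated k-schemes of finite type that are locally equidimensional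
(all irreducible components passing through a given point have the same dimension), let f : S → X be
a k-morphism and Z ⊆ X a closed subset. Let d be the dimension of the image f(S), as a subspace of
X. If every point s of S with f(s) ∈ Z satisfies dim O_{S,s} ≥ d + 1 (equivalently: the closed
subset f⁻¹(Z) of S has local codimension at least d + 1 at each of its points), then f⁻¹(Z) is
empty. -/
theorem result (k : Type u) [Field k] (S X : Scheme.{u})
    (pS : S ⟶ Spec (CommRingCat.of k)) (pX : X ⟶ Spec (CommRingCat.of k))
    [IsSeparated pS] [LocallyOfFiniteType pS] [QuasiCompact pS]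
    [IsSeparated pX] [LocallyOfFiniteType pX] [QuasiCompact pX]
    (hS : ∀ (s : S) (A B : Set S), A ∈ irreducibleComponents (S : Type u) → B ∈ irreducibleComponents (S : Type u) →
      s ∈ A → s ∈ B → topologicalKrullDim A = topologicalKrullDim B)
    (hX : ∀ (x : X) (A B : Set X), A ∈ irreducibleComponents (X : Type u) → B ∈ irreducibleComponents (X : Type u) →
      x ∈ A → x ∈ B → topologicalKrullDim A = topologicalKrullDim B)
    (f : S ⟶ X) (hf : f ≫ pX = pS) (Z : Set X) (hZ : IsClosed Z)
    (h : ∀ s : S, f.base s ∈ Z →
      topologicalKrullDim (Set.range f.base) + 1 ≤ ringKrullDim (S.presheaf.stalk s)) :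
    f.base ⁻¹' Z = ∅ := by
  subst hf
  by_contra hne
  obtain ⟨s₀, hs₀⟩ := Set.nonempty_iff_ne_empty.mpr hne
  haveI hXn : IsLocallyNoetherian X := LocallyOfFiniteType.isLocallyNoetherian pX
  haveI hSn : IsLocallyNoetherian S := LocallyOfFiniteType.isLocallyNoetherian (f ≫ pX)
  haveI : LocallyOfFiniteType f := locallyOfFiniteType_of_comp f pX
  haveI : QuasiCompact f := QuasiCompact.of_comp f pX
  haveI : IsLocallyNoetherian f.image := LocallyOfFiniteType.isLocallyNoetherian (f.imageι ≫ pX)
  haveI : LocallyOfFiniteType f.toImage := by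
    haveI : LocallyOfFiniteType (f.toImage ≫ f.imageι) := by rw [f.toImage_imageι]; infer_instance
    exact locallyOfFiniteType_of_comp f.toImage f.imageι
  -- generic point of a component of a fibre
  let x' := f.toImage s₀
  obtain ⟨z₀, hz₀⟩ := FieldDim.exists_fiberι_eq f.toImage s₀ x' rfl
  obtain ⟨z, hz⟩ := QuasiSober.sober (isIrreducible_irreducibleComponent (x := z₀)) isClosed_irreducibleComponent
  have hmax : ∀ w, w ⤳ z → w = z := by
    intro w hw
    refine (hw.antisymm (hz.specializes ?_)).eq
    have hsub : irreducibleComponent z₀ ⊆ closure {w} := by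
      rw [← hz.def]; exact (specializes_iff_closure_subset.mp hw)
    rw [← (irreducibleComponent_mem_irreducibleComponents z₀).eq_of_ge isIrreducible_singleton.closure hsub]
    exact subset_closure rfl
  set s := f.toImage.fiberι x' z with hs
  have hfs : f.toImage s = x' := FieldDim.apply_fiberι f.toImage x' z
  have hsZ : f.base s ∈ Z := by
    have h1 : f.base s₀ = f.imageι (f.toImage s₀) := by
      exact (congrArg (fun φ : S ⟶ X => φ.base s₀) f.toImage_imageι).symm
    have h2 : f.base s = f.imageι (f.toImage s) := by
      exact (congrArg (fun φ : S ⟶ X => φ.base s) f.toImage_imageι).symm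
    rw [h2, hfs, ← h1]
    exact hs₀
  have hfib : ringKrullDim ((f.toImage.fiber (f.toImage s)).presheaf.stalk (f.toImage.asFiber s)) ≤ 0 := by
    have key : ∀ (y : f.image) (hy : f.toImage s = y),
        ∃ w : f.toImage.fiber y, f.toImage.fiberι y w = s ∧
        (ringKrullDim ((f.toImage.fiber (f.toImage s)).presheaf.stalk (f.toImage.asFiber s)) =
          ringKrullDim ((f.toImage.fiber y).presheaf.stalk w)) := by
      rintro y rfl
      exact ⟨f.toImage.asFiber s, f.toImage.fiberι_asFiber s, rfl⟩
    obtain ⟨w, hw, hw'⟩ := key x' hfs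
    rw [hw', (f.toImage.fiberι x').isEmbedding.injective (hw.trans hs)]
    exact stalk_dim_zero z hmax
  -- dimension of the scheme-theoretic image
  have himg : topologicalKrullDim f.image ≤ topologicalKrullDim (Set.range f.base) := by
    have hpt : ∀ t : f.image, ((FieldDim.fdelta (f.imageι ≫ pX) t).toNat : WithBot ℕ∞) ≤ topologicalKrullDim (Set.range f.base) := by
      intro t
      have hcl : f.imageι t ∈ closure (Set.range f.base) := by
        have h1 : f.imageι t ∈ Set.range f.imageι := Set.mem_range_self t
        rw [show Set.range f.imageι = _ from Scheme.IdealSheafData.range_subschemeι _, Scheme.Hom.support_ker] at h1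
        exact h1
      obtain ⟨η, hη⟩ := exists_range_specializes f pX hcl
      refine le_trans ?_ (le_dim_range f pX η)
      have h2 : FieldDim.fdelta (f.imageι ≫ pX) t = FieldDim.fdelta pX (f.imageι t) := by
        rw [FieldDim.fdelta, FieldDim.fdelta, Residue.trdegAt_comp,
          FieldDim.trdegAt_eq_zero_of_surjective f.imageι t (FieldDim.residueFieldMap_surjective _ _), add_zero]
      rw [h2]
      exact_mod_cast Int.toNat_le_toNat (DimFun.le_of_specializes (FieldDim.isDimFun_fdelta pX) hη)
    generalize topologicalKrullDim (Set.range f.base) = d at hpt ⊢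
    induction d using WithBot.recBotCoe with
    | bot => exact absurd (le_bot_iff.mp (hpt x')) (WithBot.natCast_ne_bot _)
    | coe a =>
      induction a using ENat.recTopCoe with
      | top => exact le_top
      | coe n =>
        refine (Groth.Agent.Lib.Cyc.LocalDim.topologicalKrullDim_le_iff (f.imageι ≫ pX) n).mpr fun t => ?_
        have h' : (FieldDim.fdelta (f.imageι ≫ pX) t).toNat ≤ n := by exact_mod_cast hpt t
        omega
  have h1 := h s hsZ
  have h2 : ringKrullDim (S.presheaf.stalk s) ≤ topologicalKrullDim (Set.range f.base) := by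
    refine (Groth.Agent.H46.DimFormula.le_add_fibre f.toImage s).trans ?_
    refine (add_le_add ((Groth.Agent.Lib.Cyc.TorPD.ringKrullDim_stalk_le (f.toImage s)).trans himg) hfib).trans ?_
    rw [add_zero]
  haveI : IsNoetherianRing (S.presheaf.stalk s) := inferInstance
  have hlt : ringKrullDim (S.presheaf.stalk s) < ⊤ := ringKrullDim_lt_top
  have hge : 0 ≤ ringKrullDim (S.presheaf.stalk s) := ringKrullDim_nonneg_of_nontrivial
  have h3 := h1.trans' (add_le_add_left h2 1)
  generalize ringKrullDim (S.presheaf.stalk s) = d at h3 hlt hge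
  induction d using WithBot.recBotCoe with
  | bot => exact absurd hge (by simp)
  | coe a =>
    induction a using ENat.recTopCoe with
    | top => exact lt_irrefl _ hlt
    | coe d =>
      have : d + 1 ≤ d := by exact_mod_cast h3
      omega

end Groth.Agent.S14901
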