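import Groth.Statements.S14904
import Groth.Agent.Lib.Flat55.GaModel
import Groth.Agent.Lib.GrpSch.SmoothReduced
import Groth.Agent.Lib.RedPts.Ga
import Groth.Agent.Lib.RedPts.BC

set_option autoImplicit false
universe u
open CategoryTheory MonoidalCategory CartesianMonoidalCategory MonObj GrpObj AlgebraicGeometry
open Neron

namespace Groth.Agent.S14904


section

open Limits Polynomial
open Groth.Agent.Lib.RedPts Groth.Agent.Lib.Flat55.GaModel

variable {R : Type u} [CommRing R] [IsDomain R]
  (K : Type u) [Field K] [Algebra R K] [IsFractionRing R K]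
  {G : Over (Spec (CommRingCat.of R))} [GrpObj G] [IsAffineHom G.hom] [Flat G.hom]

/-- The generic fibre of `G`. -/
local notation "GK" => Red.bc (Spec.map (CommRingCat.ofHom (algebraMap R K))) G

theorem isMonHom_gaPt (e : GK ≅ Red.Ga (Spec (CommRingCat.of K))) [IsMonHom e.hom]
    (s : Γ(G.left, ⊤)) (l : K)
    (hs : bcι (algebraMap R K) G s = str GK l * Red.gaFn e.hom) :
    IsMonHom (Ga.gaPt s) := by
  have : IsAffine G.left := isAffine_of_isAffineHom G.hom
  let f := Spec.map (CommRingCat.ofHom (algebraMap R K))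
  have key : ∀ (X : Over (Spec (CommRingCat.of K))) (a : (Over.map f).obj X ⟶ G),
      a.left.appTop s = str X l * Red.gaFn (BC.up f a ≫ e.hom) := by
    intro X a
    have h1 : a.left.appTop s = (BC.up f a).left.appTop (bcι (algebraMap R K) G s) := by
      conv_lhs => rw [← BC.down_up (f := f) a, BC.down_left]
      rfl
    rw [h1, hs, map_mul, appTop_str, ← Ga.gaFn_comp]
  have hgen : ∀ (X : Over (Spec (CommRingCat.of K))) (a b : (Over.map f).obj X ⟶ G),
      (a * b).left.appTop s = a.left.appTop s + b.left.appTop s := by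
    intro X a b
    refine (key X _).trans ?_
    rw [BC.up_mul, MonObj.mul_comp _ _ e.hom, Ga.gaFn_mul, mul_add]
    exact congrArg₂ (· + ·) (key X a).symm (key X b).symm
  have hmul : μ ≫ Ga.gaPt s = (Ga.gaPt s ⊗ₘ Ga.gaPt s) ≫ μ := by
    let W := G ⊗ G
    have hWa : IsAffine W.left := inferInstanceAs (IsAffine (pullback G.hom G.hom))
    have hWf : Flat W.hom := inferInstanceAs (Flat (pullback.fst G.hom G.hom ≫ G.hom))
    let q : (Over.map f).obj (Red.bc f W) ⟶ W := BC.down f (𝟙 _)
    have hq : q.left.appTop.hom = bcι (algebraMap R K) W := by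
      simp only [q, BC.down_left]
      rfl
    have hR : (Ga.gaPt s ⊗ₘ Ga.gaPt s) ≫ μ = (fst G G ≫ Ga.gaPt s) * (snd G G ≫ Ga.gaPt s) := by
      rw [Hom.mul_def, lift_fst_comp_snd_comp]
    rw [hR]
    apply Ga.gaFn_injective
    rw [Ga.gaFn_mul]
    simp only [Ga.gaFn_comp, Ga.gaFn_gaPt]
    apply (bc_injective_and_surj K W).1
    rw [map_add, ← hq, MonObj.mul_eq_mul]
    have h := hgen (Red.bc f W) (q ≫ fst G G) (q ≫ snd G G)
    rw [← MonObj.comp_mul] at h
    exact h
  have hpts : ∀ {T : Over (Spec (CommRingCat.of R))} (a b : T ⟶ G),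
      (a * b) ≫ Ga.gaPt s = (a ≫ Ga.gaPt s) * (b ≫ Ga.gaPt s) := by
    intro T a b
    simp only [Hom.mul_def, Category.assoc, hmul, lift_map_assoc]
  have hone : η ≫ Ga.gaPt s = η := by
    have h := hpts (1 : 𝟙_ (Over (Spec (CommRingCat.of R))) ⟶ G) 1
    rw [_root_.one_mul] at h
    rw [MonObj.one_eq_one, MonObj.one_eq_one]
    have h2 := congrArg Red.gaFn h
    rw [Ga.gaFn_mul, left_eq_add] at h2
    exact Ga.gaFn_injective (h2.trans Ga.gaFn_one.symm)
  exact { one_hom := hone, mul_hom := hmul }

end

section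

open Limits Polynomial
open Groth.Agent.Lib.RedPts Groth.Agent.Lib.Flat55.GaModel

variable {R : Type u} [CommRing R] [IsDomain R] [IsDiscreteValuationRing R]
  [CharZero (IsLocalRing.ResidueField R)]
  {G : Over (Spec (CommRingCat.of R))} [GrpObj G] [IsAffine G.left] [Smooth G.hom]

theorem map_residue_eq_zero {p : R} (hp : Irreducible p) (s : Γ(G.left, ⊤))
    [IsMonHom (Ga.gaPt s)] (hs : ¬ str G p ∣ s) (N : R[X])
    (hN : str G p ∣ eval₂ (str G) s N) : N.map (IsLocalRing.residue R) = 0 := by
  by_contra hne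
  apply hs
  let res := IsLocalRing.residue R
  have hres : Function.Surjective res := IsLocalRing.residue_surjective
  have hker : (RingHom.ker res).map (str G) = Ideal.span {str G p} := by
    rw [IsLocalRing.ker_residue, hp.maximalIdeal_eq, Ideal.map_span, Set.image_singleton]
  have hmem : s ∈ (Ideal.span {str G p}).radical := by
    rw [Ideal.radical_eq_sInf, Submodule.mem_sInf]
    rintro J ⟨hJ, hJp⟩
    let L := FractionRing (Γ(G.left, ⊤) ⧸ J)
    let τ : Γ(G.left, ⊤) →+* L := (algebraMap _ L).comp (Ideal.Quotient.mk J)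
    have hp0 : τ (str G p) = 0 := by
      change algebraMap _ L (Ideal.Quotient.mk J (str G p)) = 0
      rw [Ideal.Quotient.eq_zero_iff_mem.2 (hJ (Ideal.mem_span_singleton_self _)), map_zero]
    have hm : ∀ r ∈ IsLocalRing.maximalIdeal R, (τ.comp (str G)) r = 0 := by
      intro r hr
      rw [hp.maximalIdeal_eq, Ideal.mem_span_singleton] at hr
      obtain ⟨d, rfl⟩ := hr
      simp [hp0]
    let kL : IsLocalRing.ResidueField R →+* L :=
      Ideal.Quotient.lift (IsLocalRing.maximalIdeal R) (τ.comp (str G)) hm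
    have hkL : kL.comp res = τ.comp (str G) := RingHom.ext fun r => rfl
    have : CharZero L := charZero_of_injective_ringHom kL.injective
    let T : Over (Spec (CommRingCat.of R)) := Over.mk (Spec.map (CommRingCat.ofHom (τ.comp (str G))))
    let σ := Scheme.ΓSpecIso (CommRingCat.of L)
    have hstr : ∀ r, σ.hom (str T r) = τ (str G r) := str_spec (τ.comp (str G))
    obtain ⟨g, hg⟩ := exists_hom (X := G) (T := T) (σ.inv.hom.comp τ) (RingHom.ext fun r => by
      change σ.inv (τ (str G r)) = str T r
      rw [← hstr r]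
      exact Iso.hom_inv_id_apply σ _)
    have hv : ∀ n : ℕ, σ.hom ((g ^ n).left.appTop s) = (n : L) * τ s := by
      intro n
      have hpow : ∀ m : ℕ, (g ^ m) ≫ Ga.gaPt s = (g ≫ Ga.gaPt s) ^ m := by
        intro m
        induction m with
        | zero => rw [pow_zero, pow_zero, MonObj.one_comp (Ga.gaPt s)]
        | succ m ih => rw [pow_succ, pow_succ, MonObj.mul_comp _ _ (Ga.gaPt s), ih]
      have h := congrArg Red.gaFn (hpow n)
      rw [Ga.gaFn_comp, Ga.gaFn_gaPt, Ga.gaFn_pow, Ga.gaFn_comp, Ga.gaFn_gaPt] at h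
      rw [h, hg]
      change σ.hom (n • σ.inv (τ s)) = _
      rw [map_nsmul, Iso.inv_hom_id_apply, nsmul_eq_mul]
    have hroot : ∀ n : ℕ, ((N.map res).map kL).IsRoot ((n : L) * τ s) := by
      intro n
      let τn : Γ(G.left, ⊤) →+* L := σ.hom.hom.comp (g ^ n).left.appTop.hom
      have hτn : ∀ r, τn (str G r) = τ (str G r) := fun r =>
        (congrArg σ.hom (appTop_str (g ^ n) r)).trans (hstr r)
      obtain ⟨d, hd⟩ := hN
      have h := congrArg τn hd
      rw [Polynomial.hom_eval₂, map_mul, hτn p, hp0, zero_mul,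
        show τn s = (n : L) * τ s from hv n] at h
      rw [Polynomial.IsRoot, Polynomial.map_map, Polynomial.eval_map, hkL,
        ← show τn.comp (str G) = τ.comp (str G) from RingHom.ext hτn]
      exact h
    have hτs : τ s = 0 := by
      by_contra h0
      refine (Polynomial.map_ne_zero_iff kL.injective).2 hne
        (Polynomial.eq_zero_of_infinite_isRoot _ ?_)
      exact Set.infinite_of_injective_forall_mem
        (f := fun n : ℕ => (n : L) * τ s)
        (fun a b hab => by simpa [h0] using hab) hroot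
    exact Ideal.Quotient.eq_zero_iff_mem.1
      ((map_eq_zero_iff _ (IsFractionRing.injective (Γ(G.left, ⊤) ⧸ J) L)).1 hτs)
  obtain ⟨n, hn⟩ := hmem
  let f := Spec.map (CommRingCat.ofHom res)
  have : Smooth (pullback.snd G.hom f) := MorphismProperty.pullback_snd _ _ inferInstance
  have : IsReduced (Red.bc f G).left :=
    Lib.GrpSch.isReduced_of_smooth_field (k := IsLocalRing.ResidueField R) (pullback.snd G.hom f)
  rw [← hker, ← bc_ker res G hres, RingHom.mem_ker, map_pow] at hn
  have h0 : bcι res G s = 0 := eq_zero_of_pow_eq_zero hn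
  rw [← RingHom.mem_ker, bc_ker res G hres, hker, Ideal.mem_span_singleton] at h0
  exact h0

end

open Limits Polynomial Groth.Agent.Lib.RedPts Groth.Agent.Lib.Flat55.GaModel

/-- Let R be a complete discrete valuation ring with fraction field K of characteristic 0 and
algebraically closed residue field k of characteristic 0, and let G be an affine smooth R-group
scheme of finite type together with an isomorphism of K-group schemes between its generic fibre and
the additive group over K (an affine smooth R-model of the additive group). Then the special fibre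
G_k is connected and G is isomorphic to the additive group over R as an R-group scheme (existence of
an isomorphism of group schemes). -/
theorem result (R : Type u) [CommRing R] [IsDomain R] [IsDiscreteValuationRing R]
    [IsAdicComplete (IsLocalRing.maximalIdeal R) R] (K : Type u) [Field K] [Algebra R K] [IsFractionRing R K] [CharZero K]
    [IsAlgClosed (IsLocalRing.ResidueField R)] [CharZero (IsLocalRing.ResidueField R)]
    (G : Over (Spec (CommRingCat.of R))) [GrpObj G] [Smooth G.hom] [IsAffineHom G.hom] [LocallyOfFiniteType G.hom]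
    (e : Red.bc (Spec.map (CommRingCat.ofHom (algebraMap R K))) G ≅ Red.Ga (Spec (CommRingCat.of K))) [IsMonHom e.hom] :
    ConnectedSpace ↥(Red.bc (Spec.map (CommRingCat.ofHom (IsLocalRing.residue R))) G).left ∧
      ∃ e' : G ≅ Red.Ga (Spec (CommRingCat.of R)), IsMonHom e'.hom := by
  classical
  have : IsAffine G.left := isAffine_of_isAffineHom G.hom
  let φ := algebraMap R K
  have : IsAffine (Red.bc (Spec.map (CommRingCat.ofHom φ)) G).left :=
    inferInstanceAs (IsAffine (Limits.pullback G.hom (Spec.map (CommRingCat.ofHom φ))))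
  let P := Red.bc (Spec.map (CommRingCat.ofHom φ)) G
  let j := bcι φ G
  let t := Red.gaFn e.hom
  have hψ := bijective_eval_of_iso_Ga e
  let ψ : K[X] →+* Γ(P.left, ⊤) := eval₂RingHom (str P) t
  have hψC : ∀ c, ψ (C c) = str P c := fun c => eval₂_C _ _
  have hψX : ψ Polynomial.X = t := eval₂_X _ _
  obtain ⟨hj, hsurj⟩ := bc_injective_and_surj K G
  have : IsDomain Γ(P.left, ⊤) := MulEquiv.isDomain _ (RingEquiv.ofBijective ψ hψ).symm.toMulEquiv
  have : IsDomain Γ(G.left, ⊤) := Function.Injective.isDomain (bcι φ G) hj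
  have : IsLocallyNoetherian G.left := LocallyOfFiniteType.isLocallyNoetherian G.hom
  have : IsNoetherianRing Γ(G.left, ⊤) :=
    IsLocallyNoetherian.component_noetherian ⟨⊤, isAffineOpen_top G.left⟩
  obtain ⟨p, hp⟩ := IsDiscreteValuationRing.exists_irreducible R
  have hpu : ¬ IsUnit (str G p) := fun h => by
    have h1 := (h.map (1 : 𝟙_ (Over (Spec (CommRingCat.of R))) ⟶ G).left.appTop.hom)
    rw [show (1 : 𝟙_ (Over (Spec (CommRingCat.of R))) ⟶ G).left.appTop.hom (str G p) =
      str (𝟙_ (Over (Spec (CommRingCat.of R)))) p from appTop_str _ p] at h1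
    have h2 := h1.map (Scheme.ΓSpecIso (CommRingCat.of R)).hom.hom
    apply hp.not_isUnit
    convert h2 using 1
    exact (Iso.inv_hom_id_apply (Scheme.ΓSpecIso (CommRingCat.of R)) p).symm
  obtain ⟨c, hc, a0, ha0⟩ := hsurj t
  rw [bcι_str] at ha0
  have hφ : ∀ r, r ≠ 0 → φ r ≠ 0 := fun r hr =>
    (map_ne_zero_iff φ (IsFractionRing.injective R K)).2 hr
  have ha0ne : a0 ≠ 0 := by
    rintro rfl
    have h : ψ (C (φ c) * Polynomial.X) = ψ 0 := by
      rw [map_mul, hψC, hψX, map_zero, ← ha0, map_zero]
    exact mul_ne_zero (C_ne_zero.2 (hφ c hc)) X_ne_zero (hψ.injective h)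
  obtain ⟨n, s, hsp, rfl⟩ := WfDvdMonoid.max_power_factor' ha0ne hpu
  let l := (φ p ^ n)⁻¹ * φ c
  have hpn : φ p ^ n ≠ 0 := pow_ne_zero _ (hφ p hp.ne_zero)
  have hl : l ≠ 0 := mul_ne_zero (inv_ne_zero hpn) (hφ c hc)
  have hs : bcι φ G s = str P l * t := by
    rw [map_mul, map_pow, bcι_str, ← map_pow] at ha0
    calc bcι φ G s = str P ((φ p ^ n)⁻¹ * φ p ^ n) * bcι φ G s := by
          rw [inv_mul_cancel₀ hpn, map_one, _root_.one_mul]
      _ = str P (φ p ^ n)⁻¹ * (str P (φ c) * t) := by rw [map_mul, _root_.mul_assoc, ha0]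
      _ = str P l * t := by rw [map_mul, _root_.mul_assoc]
  have this_mon : IsMonHom (Ga.gaPt s) := isMonHom_gaPt K e s l hs
  let ρ : R[X] →+* Γ(G.left, ⊤) := eval₂RingHom (str G) s
  let θ : K → K[X] →+* K[X] := fun d => eval₂RingHom (C : K →+* K[X]) (C d * Polynomial.X)
  have hθ : ∀ d d', d * d' = 1 → ∀ Q, θ d (θ d' Q) = Q := fun d d' hd =>
    RingHom.congr_fun (show (θ d).comp (θ d') = RingHom.id _ from
      Polynomial.ringHom_ext (fun a => by simp [θ]) (by
        simp [θ, ← _root_.mul_assoc, ← C_mul, mul_comm d' d, hd]))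
  have hcomm : ∀ N, j (ρ N) = ψ (θ l (N.map φ)) :=
    RingHom.congr_fun (show j.comp ρ = (ψ.comp (θ l)).comp (mapRingHom φ) from
      Polynomial.ringHom_ext (fun r => by
        simp [j, ρ, θ, hψC, P]
        exact bcι_str φ G r) (by
        simp [j, ρ, θ, hψC, hψX, hs]))
  have hρinj : Function.Injective ρ := fun N N' h => by
    apply Polynomial.map_injective φ (IsFractionRing.injective R K)
    have h1 := hψ.injective ((hcomm N).symm.trans ((congrArg j h).trans (hcomm N')))
    simpa [hθ l⁻¹ l (inv_mul_cancel₀ hl)] using congrArg (θ l⁻¹) h1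
  have hdiv : ∀ N, str G p ∣ ρ N → C p ∣ N := fun N hN => by
    have h0 := map_residue_eq_zero hp s hsp N hN
    refine (C_dvd_iff_dvd_coeff _ _).2 fun i => ?_
    have h1 := congrArg (fun q => q.coeff i) h0
    simp only [coeff_map, coeff_zero, IsLocalRing.residue_eq_zero_iff, hp.maximalIdeal_eq,
      Ideal.mem_span_singleton] at h1
    exact h1
  have hpA : str G p ≠ 0 := fun h => hp.ne_zero
    (C_eq_zero.1 (hρinj (((eval₂_C _ _).trans h).trans (map_zero ρ).symm)))
  have hρsurj : Function.Surjective ρ := by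
    intro a
    obtain ⟨Q, hQ⟩ := hψ.surjective (j a)
    obtain ⟨⟨b, hb⟩, hN⟩ := IsLocalization.integerNormalization_map_to_map (nonZeroDivisors R)
      (θ l⁻¹ Q)
    set N := IsLocalization.integerNormalization (nonZeroDivisors R) (θ l⁻¹ Q) with hNdef
    have hρN : ρ N = str G b * a := by
      apply hj
      rw [map_mul, bcι_str]
      refine (hcomm N).trans ?_
      rw [hN, Algebra.smul_def, map_mul (θ l), hθ l l⁻¹ (mul_inv_cancel₀ hl), map_mul ψ,
        IsScalarTower.algebraMap_apply R K K[X]]
      simp only [Polynomial.algebraMap_eq, θ, coe_eval₂RingHom, eval₂_C]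
      rw [show ψ Q = bcι φ G a from hQ]
      exact congrArg (· * bcι φ G a) (hψC _)
    obtain ⟨m, u, hu⟩ := IsDiscreteValuationRing.eq_unit_mul_pow_irreducible
      (nonZeroDivisors.ne_zero hb) hp
    have step : ∀ (m : ℕ) (N : R[X]) (a : Γ(G.left, ⊤)),
        ρ N = str G p ^ m * a → ∃ N', ρ N' = a := by
      intro m
      induction m with
      | zero => exact fun N a h => ⟨N, by simpa using h⟩
      | succ m ih =>
        intro N a h
        obtain ⟨N1, rfl⟩ := hdiv N ⟨str G p ^ m * a, by rw [h, pow_succ']; ring⟩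
        refine ih N1 a (mul_left_cancel₀ hpA ?_)
        rw [map_mul, show ρ (C p) = str G p from eval₂_C _ _] at h
        rw [h, pow_succ']; ring
    refine step m (C (↑u⁻¹ : R) * N) a ?_
    rw [map_mul, hρN, show ρ (C (↑u⁻¹ : R)) = str G ↑u⁻¹ from eval₂_C _ _, hu, map_mul, map_pow,
      ← _root_.mul_assoc, ← _root_.mul_assoc, ← map_mul, Units.inv_mul, map_one, _root_.one_mul]
  refine ⟨?_, ?_⟩
  · let res := IsLocalRing.residue R
    have hres : Function.Surjective res := IsLocalRing.residue_surjective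
    let Gk := Red.bc (Spec.map (CommRingCat.ofHom res)) G
    have : IsAffine Gk.left :=
      inferInstanceAs (IsAffine (Limits.pullback G.hom (Spec.map (CommRingCat.ofHom res))))
    let χ := (bcι res G).comp ρ
    have hχ : Function.Surjective χ := (bc_surjective res G hres).comp hρsurj
    have hker : RingHom.ker χ = RingHom.ker (mapRingHom res) := by
      rw [ker_mapRingHom, IsLocalRing.ker_residue, ← RingHom.comap_ker, bc_ker res G hres,
        IsLocalRing.ker_residue]
      rw [show (IsLocalRing.maximalIdeal R).map (str G) =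
        ((IsLocalRing.maximalIdeal R).map (C : R →+* R[X])).map ρ by
          rw [Ideal.map_map]
          exact congrArg (fun h => Ideal.map h _) (RingHom.ext fun r => (eval₂_C _ _).symm)]
      exact Ideal.comap_map_of_bijective ρ ⟨hρinj, hρsurj⟩
    have : (RingHom.ker χ).IsPrime := hker ▸ RingHom.ker_isPrime _
    have : IsDomain Γ(Gk.left, ⊤) :=
      MulEquiv.isDomain _ (RingHom.quotientKerEquivOfSurjective hχ).symm.toMulEquiv
    have : Nonempty Gk.left := Nonempty.map Gk.left.isoSpec.inv
      (inferInstanceAs (Nonempty (PrimeSpectrum Γ(Gk.left, ⊤))))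
    have : IsIntegral Gk.left := isIntegral_of_isAffine_of_isDomain Gk.left
    exact inferInstanceAs (ConnectedSpace Gk.left)
  · obtain ⟨e', he'⟩ := exists_iso_Ga_of_bijective s ⟨hρinj, hρsurj⟩
    exact ⟨e', he' ▸ this_mon⟩

end Groth.Agent.S14904
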