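import Groth.Statements.S14905
import Groth.Agent.Lib.Flat55.GaComponent
import Groth.Agent.S14904

set_option autoImplicit false
universe u
open CategoryTheory MonoidalCategory CartesianMonoidalCategory MonObj GrpObj AlgebraicGeometry
open Neron

namespace Groth.Agent.S14905

open Limits Polynomial
open Groth.Agent.Lib.RedPts Groth.Agent.Lib.Flat55.GaModel Groth.Agent.Lib.Flat55.GmPoints
open Groth.Agent.Lib.Flat55.GaComponent

section Arith

variable {R : Type u} [CommRing R] [IsDomain R] [IsDiscreteValuationRing R] {p : R}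

theorem exists_eq_mul_one_add (hp : Irreducible p) {a : ℕ} {x y : R} (hy : ¬ p ^ a ∣ y)
    (hxy : p ^ a ∣ x - y) : ∃ z, p ∣ z ∧ x = y * (1 + z) := by
  have hy0 : y ≠ 0 := fun h => hy (h ▸ dvd_zero _)
  obtain ⟨k, ε, rfl⟩ := IsDiscreteValuationRing.eq_unit_mul_pow_irreducible hy0 hp
  obtain ⟨d, hd⟩ := hxy
  have hk : k < a := not_le.1 fun h => hy ((pow_dvd_pow p h).mul_left _)
  obtain ⟨l, rfl⟩ := Nat.exists_eq_add_of_lt hk
  refine ⟨↑ε⁻¹ * p ^ (l + 1) * d, Dvd.dvd.mul_right (Dvd.dvd.mul_left (dvd_pow_self p l.succ_ne_zero) _) _, ?_⟩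
  have hε : (ε : R) * ↑ε⁻¹ = 1 := Units.mul_inv ε
  rw [show k + l + 1 = k + (l + 1) by omega, pow_add] at hd
  linear_combination hd - p ^ k * p ^ (l + 1) * d * hε

theorem associated_of_sub (hp : Irreducible p) {a : ℕ} {x y : R} (hy : ¬ p ^ a ∣ y)
    (hxy : p ^ a ∣ x - y) : Associated x y := by
  obtain ⟨z, hz, rfl⟩ := exists_eq_mul_one_add hp hy hxy
  have hu : IsUnit (1 + z) := by
    rw [← IsLocalRing.residue_ne_zero_iff_isUnit, map_add, map_one,
      (Lib.Flat55.GmPoly.residue_eq_zero_iff_dvd hp z).2 hz, add_zero]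
    exact one_ne_zero
  exact associated_mul_unit_left y _ hu

theorem associated_prod {J : Type*} (s : Finset J) {f g : J → R} (h : ∀ i ∈ s, Associated (f i) (g i)) :
    Associated (∏ i ∈ s, f i) (∏ i ∈ s, g i) := by
  classical
  induction s using Finset.induction_on with
  | empty => exact Associated.refl _
  | insert i s hi ih =>
    rw [Finset.prod_insert hi, Finset.prod_insert hi]
    exact (h i (Finset.mem_insert_self i s)).mul_mul (ih fun j hj => h j (Finset.mem_insert_of_mem hj))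

end Arith

section

variable {R : Type u} [CommRing R] [IsDomain R] [IsDiscreteValuationRing R]
  [IsAdicComplete (IsLocalRing.maximalIdeal R) R] {K : Type u} [Field K] [Algebra R K]
  [IsFractionRing R K] [IsAlgClosed (IsLocalRing.ResidueField R)]
  {G : Over (Spec (CommRingCat.of R))} [GrpObj G] [Smooth G.hom] [IsAffine G.left]
  [LocallyOfFiniteType G.hom] (D : Coord K G) {p : R}

theorem dvd_of_forall_ev_dvd (hp : Irreducible p) (n : ℕ) (E : Γ(G.left, ⊤))
    (h : ∀ g, p ^ n ∣ ev g E) : str G (p ^ n) ∣ E := by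
  induction n generalizing E with
  | zero => simp
  | succ n ih =>
    obtain ⟨E', rfl⟩ : str G p ∣ E := dvd_of_forall_ev_eq_zero hp E fun x => by
      obtain ⟨g, rfl⟩ := exists_red_eq x
      rw [ev_red, Lib.Flat55.GmPoly.residue_eq_zero_iff_dvd hp]
      exact (dvd_pow_self p n.succ_ne_zero).trans (h g)
    rw [pow_succ', map_mul]
    refine mul_dvd_mul_left _ (ih E' fun g => ?_)
    have := h g
    rw [map_mul, ev_str, pow_succ'] at this
    exact (mul_dvd_mul_iff_left hp.ne_zero).1 this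

theorem exists_idem (hp : Irreducible p) (a : ℕ) (hmin : ∀ j < a, ¬ Good D p j) :
    ∃ E : Γ(G.left, ⊤), ∀ g, (p ^ a ∣ ev g D.τ → IsLocalRing.residue R (ev g E) = 1) ∧
      (¬ p ^ a ∣ ev g D.τ → IsLocalRing.residue R (ev g E) = 0) := by
  classical
  let I := Ideal.span {p ^ a}
  let cl := fun g : 𝟙_ (Over (Spec (CommRingCat.of R))) ⟶ G => Ideal.Quotient.mk I (ev g D.τ)
  let Q := (finite_classes D hp a hmin).toFinset
  let c : R ⧸ I → R := fun q => ev (Function.invFun cl q) D.τ
  have hmem : ∀ q, q ∈ Q ↔ ∃ g, cl g = q := fun q => Set.Finite.mem_toFinset _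
  have hc : ∀ q ∈ Q, Ideal.Quotient.mk I (c q) = q := fun q hq =>
    Function.invFun_eq (f := cl) ((hmem q).1 hq)
  have hmk : ∀ x, Ideal.Quotient.mk I x = 0 ↔ p ^ a ∣ x := fun x =>
    Ideal.Quotient.eq_zero_iff_mem.trans Ideal.mem_span_singleton
  have hsub : ∀ q ∈ Q, ∀ r ∈ Q, q - r ∈ Q := fun q hq r hr => by
    obtain ⟨g, rfl⟩ := (hmem q).1 hq
    obtain ⟨g', rfl⟩ := (hmem r).1 hr
    refine (hmem _).2 ⟨g * g'⁻¹, ?_⟩
    have h := ev_τ_mul D (g * g'⁻¹) g'
    rw [inv_mul_cancel_right] at h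
    change Ideal.Quotient.mk I _ = Ideal.Quotient.mk I _ - Ideal.Quotient.mk I _
    rw [← map_sub, h, add_sub_cancel_right]
  have h0 : (0 : R ⧸ I) ∈ Q := (hmem 0).2 ⟨1, by simp [cl, ev_τ_one]⟩
  let S := Q.erase 0
  let C0 := ∏ q ∈ S, -c q
  have hS : ∀ q ∈ S, ¬ p ^ a ∣ c q := fun q hq h => (Finset.mem_erase.1 hq).1
    ((hc q (Finset.mem_of_mem_erase hq)).symm.trans ((hmk _).2 h))
  have hC0 : C0 ≠ 0 := Finset.prod_ne_zero_iff.2 fun q hq h =>
    hS q hq (neg_eq_zero.1 h ▸ dvd_zero _)
  let F : Γ(G.left, ⊤) := ∏ q ∈ S, (D.τ - str G (c q))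
  have hF : ∀ g, ev g F = ∏ q ∈ S, (ev g D.τ - c q) := fun g => by
    simp only [F, map_prod, map_sub, ev_str]
  have case0 : ∀ g, p ^ a ∣ ev g D.τ → ∃ w, IsLocalRing.residue R w = 1 ∧ ev g F = C0 * w := by
    intro g hg
    have : ∀ q ∈ S, ∃ z, p ∣ z ∧ ev g D.τ - c q = -c q * (1 + z) := fun q hq =>
      exists_eq_mul_one_add hp (fun h => hS q hq (dvd_neg.1 h)) (by simpa using hg)
    choose! z hz hz' using this
    refine ⟨∏ q ∈ S, (1 + z q), ?_, ?_⟩
    · rw [map_prod]
      exact Finset.prod_eq_one fun q hq => by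
        rw [map_add, map_one, (Lib.Flat55.GmPoly.residue_eq_zero_iff_dvd hp _).2 (hz q hq), add_zero]
    · rw [hF, ← Finset.prod_mul_distrib]
      exact Finset.prod_congr rfl hz'
  have case1 : ∀ g, ¬ p ^ a ∣ ev g D.τ → p * C0 ∣ ev g F := by
    intro g hg
    let q0 := cl g
    have hq0 : q0 ∈ Q := (hmem _).2 ⟨g, rfl⟩
    have hne : q0 ≠ 0 := fun h => hg ((hmk _).1 h)
    have hq0S : q0 ∈ S := Finset.mem_erase.2 ⟨hne, hq0⟩
    let T := S.erase q0
    have hdvd : p ^ a ∣ ev g D.τ - c q0 := (hmk _).1 (by rw [map_sub, hc q0 hq0]; exact sub_self _)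
    have hT : ∀ q ∈ T, Associated (ev g D.τ - c q) (c (q0 - q)) := fun q hq => by
      obtain ⟨hqq, hqS⟩ := Finset.mem_erase.1 hq
      have hqQ := Finset.mem_of_mem_erase hqS
      have hrQ := hsub q0 hq0 q hqQ
      refine associated_of_sub hp (fun h => hqq ?_) ((hmk _).1 ?_)
      · exact (sub_eq_zero.1 ((hc _ hrQ).symm.trans ((hmk _).2 h))).symm
      · rw [map_sub, map_sub, hc q hqQ, hc _ hrQ]
        exact sub_self _
    have hbij : ∏ q ∈ T, c (q0 - q) = ∏ q ∈ T, c q := by
      refine Finset.prod_bij' (fun q _ => q0 - q) (fun q _ => q0 - q) ?_ ?_ (fun _ _ => by ring)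
        (fun _ _ => by ring) (fun _ _ => rfl)
      all_goals
        intro q hq
        obtain ⟨hqq, hq1⟩ := Finset.mem_erase.1 hq
        obtain ⟨hq2, hqQ⟩ := Finset.mem_erase.1 hq1
        exact Finset.mem_erase.2 ⟨fun h => hq2 (sub_eq_self.1 h),
          Finset.mem_erase.2 ⟨fun h => hqq (sub_eq_zero.1 h).symm, hsub q0 hq0 q hqQ⟩⟩
    have h1 : Associated C0 (c q0 * ∏ q ∈ T, c q) := by
      rw [show c q0 * ∏ q ∈ T, c q = ∏ q ∈ S, c q from Finset.mul_prod_erase S c hq0S]
      exact associated_prod S fun q _ => (Associated.refl (c q)).neg_left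
    have h2 : p * c q0 ∣ ev g D.τ - c q0 := by
      refine dvd_trans ?_ hdvd
      have hc0 : c q0 ≠ 0 := fun h => hS q0 hq0S (h ▸ dvd_zero _)
      obtain ⟨k, ε, hk⟩ := IsDiscreteValuationRing.eq_unit_mul_pow_irreducible hc0 hp
      have hka : k < a := not_le.1 fun h => hS q0 hq0S (by rw [hk]; exact (pow_dvd_pow p h).mul_left _)
      rw [hk, mul_left_comm, Units.mul_left_dvd, ← pow_succ']
      exact pow_dvd_pow p hka
    rw [hF, ← Finset.mul_prod_erase S _ hq0S]
    refine (Associated.mul_left p h1).dvd.trans ?_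
    rw [← _root_.mul_assoc]
    exact mul_dvd_mul h2 (hbij ▸ (associated_prod T hT).symm.dvd)
  obtain ⟨k, ε, hk⟩ := IsDiscreteValuationRing.eq_unit_mul_pow_irreducible hC0 hp
  obtain ⟨F', hF'⟩ := dvd_of_forall_ev_dvd hp k F fun g => by
    have : C0 ∣ ev g F := by
      by_cases hg : p ^ a ∣ ev g D.τ
      · obtain ⟨w, -, hw⟩ := case0 g hg
        exact ⟨w, hw⟩
      · exact (dvd_mul_left C0 p).trans (case1 g hg)
    exact (Dvd.intro_left _ hk.symm).trans this
  refine ⟨str G ↑ε⁻¹ * F', fun g => ?_⟩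
  have hE : C0 * ev g (str G ↑ε⁻¹ * F') = ev g F := by
    have hε : (ε : R) * ↑ε⁻¹ = 1 := Units.mul_inv ε
    rw [hF', map_mul, map_mul, ev_str, ev_str, hk]
    linear_combination p ^ k * ev g F' * hε
  refine ⟨fun hg => ?_, fun hg => ?_⟩
  · obtain ⟨w, hw1, hw⟩ := case0 g hg
    rw [mul_left_cancel₀ hC0 (hE.trans hw), hw1]
  · obtain ⟨d, hd⟩ := case1 g hg
    rw [Lib.Flat55.GmPoly.residue_eq_zero_iff_dvd hp]
    exact ⟨d, mul_left_cancel₀ hC0 (by rw [hE, hd]; ring)⟩

include D in
theorem exists_open_immersion (hp : Irreducible p) :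
    ∃ j : Red.Ga (Spec (CommRingCat.of R)) ⟶ G, IsMonHom j ∧ IsOpenImmersion j.left := by
  classical
  have hex := exists_good D hp
  let a := Nat.find hex
  have ha : Good D p a := Nat.find_spec hex
  obtain ⟨E, hE⟩ := exists_idem D hp a fun j hj => Nat.find_min hex hj
  obtain ⟨h, hh, hhs, hhτ⟩ := exists_hom_of_good D ha
  let φ := algebraMap R K
  have hinjK := IsFractionRing.injective R K
  have hpK : φ p ≠ 0 := (map_ne_zero_iff _ hinjK).2 hp.ne_zero
  have hev : ∀ g u, ev g D.τ = p ^ a * u → ∀ f, ev g f = (h f).eval u := fun g u hu f =>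
    hinjK (by rw [← eval_H D p a g u hu f, ← hh, eval_map, eval₂_hom])
  have hzero : ∀ P : R[X], (∀ u, IsLocalRing.residue R (P.eval u) = 0) → C p ∣ P := fun P hP => by
    refine (C_dvd_iff_dvd_coeff _ _).2 fun i => ?_
    rw [← Lib.Flat55.GmPoly.residue_eq_zero_iff_dvd hp, ← coeff_map,
      Polynomial.funext (p := P.map (IsLocalRing.residue R)) (q := 0) fun w => by
        obtain ⟨u, rfl⟩ := IsLocalRing.residue_surjective w
        rw [eval_map, eval₂_hom, hP, eval_zero], coeff_zero]
  have hE1 : C p ∣ h E - 1 := hzero _ fun u => by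
    obtain ⟨g, hg⟩ := exists_point_of_good D ha u
    rw [eval_sub, eval_one, ← hev g u hg, map_sub, map_one, (hE g).1 ⟨u, hg⟩, sub_self]
  have hcc : ∀ d d' : K, d * d' = 1 → (C d * Polynomial.X).comp (C d' * Polynomial.X) = Polynomial.X := fun d d' hd => by
    rw [Polynomial.mul_comp, C_comp, X_comp, ← _root_.mul_assoc, ← C_mul, hd, C_1, _root_.one_mul]
  have hinj : Function.Injective h := by
    refine (injective_iff_map_eq_zero _).2 fun f hf => D.χ_inj ?_
    have h0 : (D.χ f).comp (C (φ p ^ a) * Polynomial.X) = 0 := by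
      change H D p a f = 0
      rw [← hh, hf, Polynomial.map_zero]
    have h1 := congrArg (fun q => q.comp (C (φ p ^ a)⁻¹ * Polynomial.X)) h0
    simp only [comp_assoc, Polynomial.zero_comp] at h1
    rw [hcc _ _ (mul_inv_cancel₀ (pow_ne_zero a hpK)), comp_X] at h1
    rw [h1, map_zero]
  have hsp : ∀ b : R[X], ∃ (n : ℕ) (f : Γ(G.left, ⊤)), h f = b * h (str G p) ^ n := fun b => by
    obtain ⟨r, hr, f, hf⟩ := D.χ_den ((b.map φ).comp (C (φ p ^ a)⁻¹ * Polynomial.X))
    obtain ⟨n, ε, rfl⟩ := IsDiscreteValuationRing.eq_unit_mul_pow_irreducible hr hp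
    refine ⟨n, str G ↑ε⁻¹ * f, Polynomial.map_injective φ hinjK ?_⟩
    have hf' : (h f).map φ = C (φ (↑ε * p ^ n)) * b.map φ := by
      rw [hh, H, RingHom.comp_apply, hf, coe_compRingHom_apply, Polynomial.mul_comp, C_comp, comp_assoc,
        hcc _ _ (inv_mul_cancel₀ (pow_ne_zero a hpK)), comp_X]
    rw [map_mul, hhs, hhs, Polynomial.map_mul, Polynomial.map_mul, Polynomial.map_pow, hf', map_C, map_C,
      ← _root_.mul_assoc, ← C_mul, ← map_mul, Units.inv_mul_cancel_left, map_pow, C_pow]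
    ring
  have hkey : ∀ f, C p ∣ h f → str G p ∣ E * f := fun f hf =>
    dvd_of_forall_ev_eq_zero hp _ fun x => by
      obtain ⟨g, rfl⟩ := exists_red_eq x
      rw [ev_red, map_mul, map_mul]
      by_cases hg : p ^ a ∣ ev g D.τ
      · obtain ⟨u, hu⟩ := hg
        obtain ⟨d, hd⟩ := hf
        rw [hev g u hu f, hd, eval_mul, eval_C, map_mul,
          (Lib.Flat55.GmPoly.residue_eq_zero_iff_dvd hp p).2 dvd_rfl, MulZeroClass.zero_mul,
          MulZeroClass.mul_zero]
      · rw [(hE g).2 hg, MulZeroClass.zero_mul]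
  have hsE : ∀ (n : ℕ) (f : Γ(G.left, ⊤)) (b : R[X]), h f = b * h (str G p) ^ n →
      ∃ (m : ℕ) (f' : Γ(G.left, ⊤)), h f' = b * h E ^ m := by
    intro n
    induction n with
    | zero => exact fun f b hf => ⟨0, f, by simpa using hf⟩
    | succ n ih =>
      intro f b hf
      obtain ⟨f1, hf1⟩ := hkey f ⟨b * h (str G p) ^ n, by rw [hf, hhs, pow_succ']; ring⟩
      obtain ⟨m, f', hf'⟩ := ih f1 (b * h E) (mul_left_cancel₀
        (show h (str G p) ≠ 0 by rw [hhs]; exact C_ne_zero.2 hp.ne_zero) (by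
          have h2 : h E * h f = h (str G p) * h f1 := by rw [← map_mul, ← map_mul, hf1]
          rw [hf, pow_succ'] at h2
          linear_combination -h2))
      exact ⟨m + 1, f', by rw [hf', pow_succ']; ring⟩
  have : IsAffine Red.GaZ.left := inferInstanceAs (IsAffine (Spec _))
  have : IsAffine (Red.Ga (Spec (CommRingCat.of R))).left := inferInstanceAs (IsAffine (pullback _ _))
  have hb := bijective_eval_of_iso_Ga (Iso.refl (Red.Ga (Spec (CommRingCat.of R))))
  let ev' := eval₂RingHom (str (Red.Ga (Spec (CommRingCat.of R)))) (Red.gaFn (Iso.refl (Red.Ga (Spec (CommRingCat.of R)))).hom)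
  obtain ⟨j, hj⟩ := exists_hom (X := G) (T := (Red.Ga (Spec (CommRingCat.of R)))) (ev'.comp h) (RingHom.ext fun r => by
    simp [ev', hhs])
  have hUflat : Flat (Red.Ga (Spec (CommRingCat.of R))).hom := by
    rw [HasRingHomProperty.iff_of_isAffine (P := @Flat)]
    have hC : (C : R →+* R[X]).Flat :=
      RingHom.flat_algebraMap_iff.2 (inferInstance : Module.Flat R R[X])
    have hstr : (str (Red.Ga (Spec (CommRingCat.of R)))).Flat := by
      have := RingHom.Flat.comp hC (RingHom.Flat.of_bijective hb)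
      rwa [show (eval₂RingHom (str (Red.Ga (Spec (CommRingCat.of R)))) (Red.gaFn (Iso.refl (Red.Ga (Spec (CommRingCat.of R)))).hom)).comp C = str (Red.Ga (Spec (CommRingCat.of R))) from
        RingHom.ext fun r => eval₂_C _ _] at this
    have := RingHom.Flat.comp (RingHom.Flat.of_bijective
      (ConcreteCategory.bijective_of_isIso (Scheme.ΓSpecIso (CommRingCat.of R)).hom)) hstr
    convert this
    rw [str, RingHom.comp_assoc, ← CommRingCat.hom_comp, Iso.hom_inv_id, CommRingCat.hom_id,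
      RingHom.comp_id]
  refine ⟨j, ?_, ?_⟩
  · have hmonτ := D.isMonHom
    have hψ : IsMonHom (j ≫ Ga.gaPt D.τ) := by
      have hval : Red.gaFn (j ≫ Ga.gaPt D.τ) = str (Red.Ga (Spec (CommRingCat.of R))) (p ^ a) * Red.gaFn (𝟙 (Red.Ga (Spec (CommRingCat.of R)))) := by
        rw [Ga.gaFn_comp, Ga.gaFn_gaPt, hj]
        simp [ev', hhτ, eval₂_pow]
      have hpt : ∀ {T : Over (Spec (CommRingCat.of R))} (z : T ⟶ (Red.Ga (Spec (CommRingCat.of R)))),
          Red.gaFn (z ≫ j ≫ Ga.gaPt D.τ) = str T (p ^ a) * Red.gaFn z := fun z => by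
        rw [Ga.gaFn_comp, hval, map_mul, appTop_str, ← Ga.gaFn_comp, Category.comp_id]
      refine { one_hom := Ga.gaFn_injective ?_, mul_hom := Ga.gaFn_injective ?_ }
      · rw [hpt, MonObj.one_eq_one, Ga.gaFn_one, MulZeroClass.mul_zero]
      · rw [hpt, MonObj.mul_eq_mul, Ga.gaFn_mul, mul_add, ← hpt, ← hpt]
        have hR : ((j ≫ Ga.gaPt D.τ) ⊗ₘ (j ≫ Ga.gaPt D.τ)) ≫ (fst (Red.Ga (Spec (CommRingCat.of R))) (Red.Ga (Spec (CommRingCat.of R))) * snd (Red.Ga (Spec (CommRingCat.of R))) (Red.Ga (Spec (CommRingCat.of R)))) =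
            (fst (Red.Ga (Spec (CommRingCat.of R))) (Red.Ga (Spec (CommRingCat.of R))) ≫ j ≫ Ga.gaPt D.τ) * (snd (Red.Ga (Spec (CommRingCat.of R))) (Red.Ga (Spec (CommRingCat.of R))) ≫ j ≫ Ga.gaPt D.τ) := by
          rw [MonObj.comp_mul, tensorHom_fst, tensorHom_snd]
        rw [hR, Ga.gaFn_mul]
    have huniq : ∀ {T : Over (Spec (CommRingCat.of R))} [IsAffine T.left] [Flat T.hom] (α β : T ⟶ G),
        α ≫ Ga.gaPt D.τ = β ≫ Ga.gaPt D.τ → α = β := by
      intro T _ _ α β hαβ
      refine Lib.Flat55.GaModel.hom_ext (CommRingCat.hom_ext (RingHom.ext fun f => ?_))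
      have hτ := congrArg Red.gaFn hαβ
      rw [Ga.gaFn_comp, Ga.gaFn_comp, Ga.gaFn_gaPt] at hτ
      obtain ⟨b, hb, hN⟩ := IsLocalization.integerNormalization_spec (nonZeroDivisors R) (D.χ f)
      set N := IsLocalization.integerNormalization (nonZeroDivisors R) (D.χ f)
      have hf : str G b * f = eval₂ (str G) D.τ N := D.χ_inj (by
        rw [map_mul, D.χ_str, hom_eval₂, D.χ_τ,
          show D.χ.comp (str G) = (C : K →+* K[X]).comp φ from RingHom.ext D.χ_str, ← eval₂_map,
          eval₂_C_X, hN, Algebra.smul_def, IsScalarTower.algebraMap_apply R K K[X],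
          Polynomial.algebraMap_eq])
      have hγ : ∀ γ : T ⟶ G, str T b * γ.left.appTop f = eval₂ (str T) (γ.left.appTop D.τ) N := fun γ => by
        rw [← appTop_str γ b, ← map_mul, hf, hom_eval₂]
        exact congrArg (fun k => eval₂ k _ N) (RingHom.ext (appTop_str γ))
      refine sub_eq_zero.1 (str_mul_eq_zero T (nonZeroDivisors.ne_zero hb) ?_)
      rw [mul_sub, hγ α, hγ β, hτ, sub_self]
    have : IsAffine ((Red.Ga (Spec (CommRingCat.of R))) ⊗ (Red.Ga (Spec (CommRingCat.of R)))).left := inferInstanceAs (IsAffine (pullback (Red.Ga (Spec (CommRingCat.of R))).hom (Red.Ga (Spec (CommRingCat.of R))).hom))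
    have : Flat ((Red.Ga (Spec (CommRingCat.of R))) ⊗ (Red.Ga (Spec (CommRingCat.of R)))).hom := inferInstanceAs (Flat (pullback.fst (Red.Ga (Spec (CommRingCat.of R))).hom (Red.Ga (Spec (CommRingCat.of R))).hom ≫ (Red.Ga (Spec (CommRingCat.of R))).hom))
    have : IsAffine (𝟙_ (Over (Spec (CommRingCat.of R)))).left := inferInstanceAs (IsAffine (Spec _))
    have : Flat (𝟙_ (Over (Spec (CommRingCat.of R)))).hom :=
      inferInstanceAs (Flat (𝟙 (Spec (CommRingCat.of R))))
    refine { one_hom := huniq _ _ ?_, mul_hom := huniq _ _ ?_ }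
    · rw [Category.assoc, hψ.one_hom, hmonτ.one_hom]
    · rw [Category.assoc, hψ.mul_hom, Category.assoc,
        hmonτ.mul_hom, tensorHom_comp_tensorHom_assoc]
  · rw [MorphismProperty.arrow_mk_iso_iff @IsOpenImmersion (arrowIsoSpecΓOfIsAffine j.left), hj,
      CommRingCat.ofHom_comp, Spec.map_comp]
    have : IsIso (CommRingCat.ofHom ev') := (ConcreteCategory.isIso_iff_bijective _).2 hb
    have : IsOpenImmersion (Spec.map (CommRingCat.ofHom h)) := by
      refine isOpenImmersion_SpecMap h hinj {str G p, E} ?_ ?_ ?_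
      · rintro _ (rfl | rfl)
        · rw [hhs]; exact C_ne_zero.2 hp.ne_zero
        · intro h0
          rw [h0, zero_sub, dvd_neg] at hE1
          exact hp.not_isUnit (isUnit_C.1 (isUnit_of_dvd_one hE1))
      · rw [Ideal.eq_top_iff_one, Set.image_pair]
        obtain ⟨d, hd⟩ := hE1
        exact Ideal.mem_span_pair.2 ⟨-d, 1, by rw [hhs]; linear_combination hd⟩
      · rintro _ (rfl | rfl) b
        · exact hsp b
        · obtain ⟨n, f, hf⟩ := hsp b
          exact hsE n f b hf
    infer_instance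

end

/-- Let R be a complete discrete valuation ring with fraction field K of characteristic 0 and
algebraically closed residue field k of characteristic p > 0, and let G be an affine smooth R-group
scheme of finite type together with an isomorphism of K-group schemes between its generic fibre and
the additive group over K. Then the group of connected components of the special fibre G_k is a
p-group: for every k-point x of G_k some power x^(p^m) lies in the connected component of the
identity; and the identity component of G is the additive group over R: there is a homomorphism of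
R-group schemes from the additive group over R to G which is an open immersion. (The published
statement also asserts that every finite abelian p-group occurs as such a component group; this row
does not state that.) -/
theorem result (R : Type u) [CommRing R] [IsDomain R] [IsDiscreteValuationRing R]
    [IsAdicComplete (IsLocalRing.maximalIdeal R) R] (K : Type u) [Field K] [Algebra R K] [IsFractionRing R K] [CharZero K]
    [IsAlgClosed (IsLocalRing.ResidueField R)]
    (p : ℕ) [Fact p.Prime] [CharP (IsLocalRing.ResidueField R) p]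
    (G : Over (Spec (CommRingCat.of R))) [GrpObj G] [Smooth G.hom] [IsAffineHom G.hom] [LocallyOfFiniteType G.hom]
    (e : Red.bc (Spec.map (CommRingCat.ofHom (algebraMap R K))) G ≅ Red.Ga (Spec (CommRingCat.of K))) [IsMonHom e.hom] :
    (∀ x : 𝟙_ (Over (Spec (CommRingCat.of (IsLocalRing.ResidueField R)))) ⟶ Red.bc (Spec.map (CommRingCat.ofHom (IsLocalRing.residue R))) G,
        ∃ m : ℕ, (x ^ (p ^ m)).left.base (IsLocalRing.closedPoint (IsLocalRing.ResidueField R)) ∈
          connectedComponent ((η[Red.bc (Spec.map (CommRingCat.ofHom (IsLocalRing.residue R))) G]).left.base (IsLocalRing.closedPoint (IsLocalRing.ResidueField R)))) ∧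
      ∃ j : Red.Ga (Spec (CommRingCat.of R)) ⟶ G, IsMonHom j ∧ IsOpenImmersion j.left := by
  have : IsAffine G.left := isAffine_of_isAffineHom G.hom
  obtain ⟨D⟩ := exists_Coord e fun s l h => Groth.Agent.S14904.isMonHom_gaPt K e s l h
  obtain ⟨π, hπ⟩ := IsDiscreteValuationRing.exists_irreducible R
  refine ⟨fun x => ?_, exists_open_immersion D hπ⟩
  obtain ⟨j, hj⟩ := exists_good D hπ
  obtain ⟨g, rfl⟩ := exists_red_eq x
  refine ⟨j + 1, ?_⟩
  have hπp : π ∣ (p : R) := by
    rw [← Lib.Flat55.GmPoly.residue_eq_zero_iff_dvd hπ, map_natCast]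
    exact CharP.cast_eq_zero _ p
  rw [← map_pow, red_eq_one D hπ hj _ (by
    rw [ev_τ_pow, Nat.cast_pow]
    exact (pow_dvd_pow_of_dvd hπp _).mul_right _), MonObj.one_eq_one]
  exact mem_connectedComponent

end Groth.Agent.S14905
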