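import Groth.Statements.S14906
import Groth.Agent.Lib.Flat55.GmPoints
import Groth.Agent.Lib.Tori.DS
import Mathlib.RingTheory.RootsOfUnity.AlgebraicallyClosed

set_option autoImplicit false
universe u
open CategoryTheory MonoidalCategory CartesianMonoidalCategory MonObj GrpObj AlgebraicGeometry
open Neron

namespace Groth.Agent.S14906

open Limits Polynomial
open Groth.Agent.Lib.RedPts Groth.Agent.Lib.Flat55.GaModel Groth.Agent.Lib.Flat55.GmPoints

section

variable {R : Type u} [CommRing R] [IsDomain R] (K : Type u) [Field K] [Algebra R K] [IsFractionRing R K]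
  {G : Over (Spec (CommRingCat.of R))} [GrpObj G] [IsAffineHom G.hom] [Flat G.hom]

theorem isMonHom_of_coord
    (e : Red.bc (Spec.map (CommRingCat.ofHom (algebraMap R K))) G ≅ Red.Gm (Spec (CommRingCat.of K)))
    [IsMonHom e.hom] (s : Γ(G.left, ⊤)) (hs : bcι (algebraMap R K) G s = Red.gmFn e.hom)
    (x : G ⟶ Red.Gm (Spec (CommRingCat.of R))) (hx : Red.gmFn x = s) : IsMonHom x := by
  have : IsAffine G.left := isAffine_of_isAffineHom G.hom
  let f := Spec.map (CommRingCat.ofHom (algebraMap R K))
  have key : ∀ (X : Over (Spec (CommRingCat.of K))) (a : (Over.map f).obj X ⟶ G),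
      a.left.appTop s = Red.gmFn (BC.up f a ≫ e.hom) := by
    intro X a
    have h1 : a.left.appTop s = (BC.up f a).left.appTop (bcι (algebraMap R K) G s) := by
      conv_lhs => rw [← BC.down_up (f := f) a, BC.down_left]
      rfl
    rw [h1, hs, ← Gm.gmFn_comp]
  have hgen : ∀ (X : Over (Spec (CommRingCat.of K))) (a b : (Over.map f).obj X ⟶ G),
      (a * b).left.appTop s = a.left.appTop s * b.left.appTop s := by
    intro X a b
    refine (key X _).trans ?_
    rw [BC.up_mul, MonObj.mul_comp _ _ e.hom, Gm.gmFn_mul]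
    exact congrArg₂ (· * ·) (key X a).symm (key X b).symm
  have hmul : μ ≫ x = (x ⊗ₘ x) ≫ μ := by
    let W := G ⊗ G
    have hWa : IsAffine W.left := inferInstanceAs (IsAffine (pullback G.hom G.hom))
    have hWf : Flat W.hom := inferInstanceAs (Flat (pullback.fst G.hom G.hom ≫ G.hom))
    let q : (Over.map f).obj (Red.bc f W) ⟶ W := BC.down f (𝟙 _)
    have hq : q.left.appTop.hom = bcι (algebraMap R K) W := by
      simp only [q, BC.down_left]
      rfl
    have hR : (x ⊗ₘ x) ≫ μ = (fst G G ≫ x) * (snd G G ≫ x) := by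
      rw [Hom.mul_def, lift_fst_comp_snd_comp]
    rw [hR]
    apply Gm.gmFn_injective
    rw [Gm.gmFn_mul]
    simp only [Gm.gmFn_comp, hx]
    apply (bc_injective_and_surj K W).1
    rw [map_mul, ← hq, MonObj.mul_eq_mul]
    have h := hgen (Red.bc f W) (q ≫ fst G G) (q ≫ snd G G)
    rw [← MonObj.comp_mul] at h
    exact h
  have hone : η ≫ x = η := by
    have h : ((1 : 𝟙_ (Over (Spec (CommRingCat.of R))) ⟶ G) * 1) ≫ x =
        ((1 : 𝟙_ (Over (Spec (CommRingCat.of R))) ⟶ G) ≫ x) *
          ((1 : 𝟙_ (Over (Spec (CommRingCat.of R))) ⟶ G) ≫ x) := by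
      simp only [Hom.mul_def, Category.assoc, hmul, lift_map_assoc]
    rw [_root_.one_mul] at h
    rw [MonObj.one_eq_one, MonObj.one_eq_one]
    have h2 := congrArg Red.gmFn h
    rw [Gm.gmFn_mul] at h2
    exact Gm.gmFn_injective (((Gm.isUnit_gmFn _).mul_left_cancel
      (h2.symm.trans (_root_.mul_one _).symm)).trans Gm.gmFn_one.symm)
  exact { one_hom := hone, mul_hom := hmul }

end

/-- Let R be a complete discrete valuation ring with fraction field K of characteristic 0 and
algebraically closed residue field k, and let G be an affine smooth R-group scheme of finite type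
together with an isomorphism of K-group schemes between its generic fibre and the multiplicative
group over K (an affine smooth R-model of the multiplicative group). Suppose the identity component
of the special fibre G_k is the multiplicative group: there is a homomorphism of k-group schemes
from the multiplicative group over k to G_k which is an open immersion. Then G_k is connected and G
is isomorphic to the multiplicative group over R as an R-group scheme (existence of an isomorphism
of group schemes). -/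
theorem result (R : Type u) [CommRing R] [IsDomain R] [IsDiscreteValuationRing R]
    [IsAdicComplete (IsLocalRing.maximalIdeal R) R] (K : Type u) [Field K] [Algebra R K] [IsFractionRing R K] [CharZero K]
    [IsAlgClosed (IsLocalRing.ResidueField R)]
    (G : Over (Spec (CommRingCat.of R))) [GrpObj G] [Smooth G.hom] [IsAffineHom G.hom] [LocallyOfFiniteType G.hom]
    (e : Red.bc (Spec.map (CommRingCat.ofHom (algebraMap R K))) G ≅ Red.Gm (Spec (CommRingCat.of K))) [IsMonHom e.hom]
    (j₀ : Red.Gm (Spec (CommRingCat.of (IsLocalRing.ResidueField R))) ⟶ Red.bc (Spec.map (CommRingCat.ofHom (IsLocalRing.residue R))) G) [IsMonHom j₀]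
    [IsOpenImmersion j₀.left] :
    ConnectedSpace ↥(Red.bc (Spec.map (CommRingCat.ofHom (IsLocalRing.residue R))) G).left ∧
      ∃ e' : G ≅ Red.Gm (Spec (CommRingCat.of R)), IsMonHom e'.hom := by
  classical
  have : IsAffine G.left := isAffine_of_isAffineHom G.hom
  obtain ⟨p, hp⟩ := IsDiscreteValuationRing.exists_irreducible R
  obtain ⟨s, hsu, hs⟩ := exists_coord e
  have hinj := (bc_injective_and_surj K G).1
  obtain ⟨χ, hχ⟩ := exists_char e hs
  -- values of the coordinate on the special fibre
  have hvals : ∀ l : ℕ, l.Prime → (l : IsLocalRing.ResidueField R) ≠ 0 →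
      ∃ x, IsPrimitiveRoot (χ x) l := by
    intro l hl hl0
    have : NeZero (l : IsLocalRing.ResidueField R) := ⟨hl0⟩
    obtain ⟨ζ, hζ⟩ := HasEnoughRootsOfUnity.exists_primitiveRoot (IsLocalRing.ResidueField R) l
    let σ := Scheme.ΓSpecIso (CommRingCat.of (IsLocalRing.ResidueField R))
    obtain ⟨y, hy⟩ := Gm.exists_gmFn_eq
      (X := 𝟙_ (Over (Spec (CommRingCat.of (IsLocalRing.ResidueField R)))))
      ((hζ.isUnit hl.ne_zero).map σ.inv.hom)
    have hy0 : σ.hom (Red.gmFn y) = ζ := by
      rw [hy]
      exact Iso.inv_hom_id_apply σ ζ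
    have hyl : y ^ l = 1 := Gm.gmFn_injective (by
      rw [Gm.gmFn_pow, Gm.gmFn_one, hy]
      exact (map_pow σ.inv.hom ζ l).symm.trans (by rw [hζ.pow_eq_one, map_one]))
    have hpow : ∀ n : ℕ, (y ^ n) ≫ j₀ = (y ≫ j₀) ^ n := fun n => by
      induction n with
      | zero => rw [pow_zero, pow_zero, MonObj.one_comp j₀]
      | succ m ih => rw [pow_succ, pow_succ, MonObj.mul_comp _ _ j₀, ih]
    have hxl : (y ≫ j₀) ^ l = 1 := by rw [← hpow, hyl, MonObj.one_comp j₀]
    refine ⟨y ≫ j₀, IsPrimitiveRoot.mk_of_lt _ hl.pos (by rw [← map_pow, hxl, map_one])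
      fun m hm hml h1 => ?_⟩
    rw [← map_pow] at h1
    have h2 := eq_one_of_pow_eq_one e hs hl0 ((y ≫ j₀) ^ m)
      (by rw [pow_right_comm, hxl, one_pow]) ((hχ _).symm.trans h1)
    rw [← hpow, ← MonObj.one_comp j₀] at h2
    have hmono : Mono j₀.left := inferInstance
    have h3 : y ^ m = 1 := Over.OverMorphism.ext ((cancel_mono j₀.left).1 (congrArg CommaMorphism.left h2))
    have h4 := congrArg (fun z => σ.hom (Red.gmFn z)) h3
    simp only [Gm.gmFn_pow, Gm.gmFn_one, map_pow, map_one, hy0] at h4
    exact hζ.pow_ne_one_of_pos_of_lt hm.ne' hml h4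
  let ρ : R[X] →+* Γ(G.left, ⊤) := eval₂RingHom (str G) s
  have hdiv : ∀ P, str G p ∣ ρ P → C p ∣ P := by
    rintro P ⟨d, hd⟩
    refine (C_dvd_iff_dvd_coeff _ _).2 fun i => ?_
    suffices h0 : P.map (IsLocalRing.residue R) = 0 by
      rw [← Lib.Flat55.GmPoly.residue_eq_zero_iff_dvd hp, ← coeff_map, h0, coeff_zero]
    by_contra hne
    set Q := P.map (IsLocalRing.residue R) with hQ
    have hroot : ∀ x, Q.IsRoot (χ x) := fun x => by
      have h1 := congrArg (fun a => ev x (bcι (IsLocalRing.residue R) G a)) hd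
      have hres0 : IsLocalRing.residue R p = 0 := (Lib.Flat55.GmPoly.residue_eq_zero_iff_dvd hp p).2 dvd_rfl
      simp only [ρ, coe_eval₂RingHom, map_mul, bcι_str, ev_str, hres0, MulZeroClass.zero_mul, hom_eval₂] at h1
      rw [IsRoot, hQ, eval_map, hχ]
      refine Eq.trans (congrArg (fun f => eval₂ f _ P) (RingHom.ext fun r => ?_)) h1
      exact ((congrArg (ev x) (bcι_str _ G r)).trans (ev_str x _)).symm
    obtain ⟨l, hl, hlp⟩ := Nat.exists_infinite_primes (Q.natDegree + ringChar (IsLocalRing.ResidueField R) + 1)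
    have hl0 : (l : IsLocalRing.ResidueField R) ≠ 0 := fun h => by
      rcases (Nat.dvd_prime hlp).1 (ringChar.dvd h) with h' | h'
      · exact CharP.ringChar_ne_one h'
      · omega
    obtain ⟨x, hx⟩ := hvals l hlp hl0
    have hsub : ((Finset.range l).image (χ x ^ ·)) ⊆ Q.roots.toFinset := fun w hw => by
      obtain ⟨i, -, rfl⟩ := Finset.mem_image.1 hw
      rw [Multiset.mem_toFinset, mem_roots hne, ← map_pow]
      exact hroot _
    have hcard := (Finset.card_le_card hsub).trans (Q.roots.toFinset_card_le.trans Q.card_roots')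
    rw [Finset.card_image_of_injOn fun i hi k hk h =>
      hx.pow_inj (Finset.mem_range.1 hi) (Finset.mem_range.1 hk) h, Finset.card_range] at hcard
    omega
  have hρC : ∀ r, ρ (C r) = str G r := fun r => eval₂_C _ _
  have hpA : ∀ a b, str G p * a = str G p * b → a = b := fun a b h =>
    sub_eq_zero.1 (str_mul_eq_zero G hp.ne_zero (by rw [mul_sub, h, sub_self]))
  have step : ∀ (m : ℕ) (P : R[X]) (a : Γ(G.left, ⊤)),
      ρ P = str G p ^ m * a → ∃ P', ρ P' = a := by
    intro m
    induction m with
    | zero => exact fun P a h => ⟨P, by simpa using h⟩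
    | succ m ih =>
      intro P a h
      obtain ⟨P1, rfl⟩ := hdiv P ⟨str G p ^ m * a, by rw [h, pow_succ']; ring⟩
      refine ih P1 a (hpA _ _ ?_)
      rw [map_mul, hρC] at h
      rw [h, pow_succ']; ring
  let u := hsu.unit
  let ψ : LaurentPolynomial R →+* Γ(G.left, ⊤) := LaurentPolynomial.eval₂ (str G) u
  have hψ : ∀ (P : R[X]), ψ (toLaurent P) = ρ P := fun P => LaurentPolynomial.eval₂_toLaurent _ _ P
  have hsurj : Function.Surjective ψ := fun a => by
    obtain ⟨c, d, P, hc, hP⟩ := exists_repr e hs a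
    obtain ⟨m, ε, rfl⟩ := IsDiscreteValuationRing.eq_unit_mul_pow_irreducible hc hp
    obtain ⟨P', hP'⟩ := step m (C (↑ε⁻¹ : R) * P) (a * s ^ d) (by
      rw [map_mul, hρC]
      change str G ↑ε⁻¹ * eval₂ (str G) s P = _
      rw [← hP, map_mul, map_pow]
      have hεε : str G ↑ε⁻¹ * str G (ε : R) = 1 := by
        rw [← map_mul, Units.inv_mul, map_one]
      linear_combination (str G p ^ m * a * s ^ d) * hεε)
    refine ⟨toLaurent P' * LaurentPolynomial.T (-(d : ℤ)), (hsu.pow d).mul_right_cancel ?_⟩
    rw [map_mul, hψ, hP', LaurentPolynomial.eval₂_T_neg_n, _root_.mul_assoc (a * s ^ d), ← mul_pow,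
      show (↑u⁻¹ : Γ(G.left, ⊤)) * s = 1 from hsu.val_inv_mul, one_pow, _root_.mul_one]
  have hψinj : Function.Injective ψ := by
    rw [injective_iff_map_eq_zero]
    intro L hL
    obtain ⟨d, P, hP⟩ := LaurentPolynomial.exists_T_pow L
    have h1 := congrArg ψ hP
    rw [hψ, map_mul, hL, MulZeroClass.zero_mul] at h1
    have h2 := congrArg (bcι (algebraMap R K) G) h1
    have := isAffine_bc (G := G) (algebraMap R K)
    let w := (Gm.isUnit_gmFn e.hom).unit
    have h3 : LaurentPolynomial.eval₂ (str (Red.bc (Spec.map (CommRingCat.ofHom (algebraMap R K))) G)) w (toLaurent (P.map (algebraMap R K))) = 0 := by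
      have hc : (str (Red.bc (Spec.map (CommRingCat.ofHom (algebraMap R K))) G)).comp (algebraMap R K) =
          (bcι (algebraMap R K) G).comp (str G) :=
        RingHom.ext fun r => (bcι_str (algebraMap R K) G r).symm
      rw [LaurentPolynomial.eval₂_toLaurent, eval₂_map, hc,
        show (w : Γ((Red.bc (Spec.map (CommRingCat.ofHom (algebraMap R K))) G).left, ⊤)) =
          bcι (algebraMap R K) G s from hs.symm, ← hom_eval₂]
      rw [map_zero] at h2
      exact h2
    have h4 : P = 0 := by
      have := (Lib.Flat55.GmModel.bijective_eval_of_iso_Gm e w rfl).1 (h3.trans (map_zero _).symm)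
      rwa [toLaurent_eq_zero, Polynomial.map_eq_zero_iff (IsFractionRing.injective R K)] at this
    rw [h4, map_zero] at hP
    exact (LaurentPolynomial.isUnit_T (d : ℤ)).mul_left_eq_zero.1 hP.symm
  obtain ⟨e', he'⟩ := Lib.Flat55.GmModel.exists_iso_Gm_of_bijective u ⟨hψinj, hsurj⟩
  refine ⟨?_, e', isMonHom_of_coord K e s hs e'.hom he'⟩
  let f := Spec.map (CommRingCat.ofHom (IsLocalRing.residue R))
  let e'' : Red.bc f G ≅ Red.Gm (Spec (CommRingCat.of (IsLocalRing.ResidueField R))) :=
    (Over.pullback f).mapIso e' ≪≫ (Grp.forget _).mapIso (Lib.Tori.DS.dsBC ℤ f)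
  have := isAffine_bc (G := G) (IsLocalRing.residue R)
  have : IsDomain Γ((Red.bc f G).left, ⊤) := MulEquiv.isDomain _
    (RingEquiv.ofBijective _ (Lib.Flat55.GmModel.bijective_eval_of_iso_Gm e''
      (Gm.isUnit_gmFn e''.hom).unit rfl)).symm.toMulEquiv
  have : Nonempty (Red.bc f G).left := Nonempty.map (Red.bc f G).left.isoSpec.inv
    (inferInstanceAs (Nonempty (PrimeSpectrum Γ((Red.bc f G).left, ⊤))))
  have : IsIntegral (Red.bc f G).left := isIntegral_of_isAffine_of_isDomain (Red.bc f G).left
  exact inferInstanceAs (ConnectedSpace (Red.bc f G).left)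

end Groth.Agent.S14906
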