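import Groth.Statements.S14909
import Mathlib.RingTheory.MvPowerSeries.Basic
import Mathlib.RingTheory.MvPowerSeries.Inverse
import Mathlib.RingTheory.DiscreteValuationRing.Basic
import Mathlib.RingTheory.Ideal.Operations
-- import your own Groth.Agent.* helpers here

set_option autoImplicit false
universe u
open Neron

namespace Groth.Agent.S14909

open MvPowerSeries Finset

/-- The exponent `(j, l)`. -/
noncomputable def e (j l : ℕ) : Fin 2 →₀ ℕ := Finsupp.single 0 j + Finsupp.single 1 l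

theorem e_le_iff (j l J L : ℕ) : e j l ≤ e J L ↔ j ≤ J ∧ l ≤ L := by
  simp [e, Finsupp.le_def, Fin.forall_fin_two]

theorem e_sub (j l J L : ℕ) : e J L - e j l = e (J - j) (L - l) := by
  ext i; fin_cases i <;> simp [e]

theorem coeff_mon_mul {R : Type u} [CommRing R] (j l J L : ℕ) (c : MvPowerSeries (Fin 2) R) :
    coeff (e J L) (c * (X 0 ^ j * X 1 ^ l)) = if j ≤ J ∧ l ≤ L then coeff (e (J - j) (L - l)) c else 0 := by
  classical
  rw [X_pow_eq, X_pow_eq, monomial_mul_monomial, coeff_mul_monomial]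
  change (if e j l ≤ e J L then coeff (e J L - e j l) c * (1 * 1) else 0) = _
  simp only [e_le_iff, e_sub, mul_one]

theorem coeff_y_sq {R : Type u} [CommRing R] (J L : ℕ) (c : MvPowerSeries (Fin 2) R) :
    coeff (e J L) (c * X 1 ^ 2) = if 2 ≤ L then coeff (e J (L - 2)) c else 0 := by
  have := coeff_mon_mul 0 2 J L c
  simpa using this

theorem coeff_x_cube {R : Type u} [CommRing R] (J L : ℕ) (c : MvPowerSeries (Fin 2) R) :
    coeff (e J L) (c * X 0 ^ 3) = if 3 ≤ J then coeff (e (J - 3) L) c else 0 := by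
  have := coeff_mon_mul 3 0 J L c
  simpa using this

theorem coeff_x_sq {R : Type u} [CommRing R] (J L : ℕ) (c : MvPowerSeries (Fin 2) R) :
    coeff (e J L) (c * X 0 ^ 2) = if 2 ≤ J then coeff (e (J - 2) L) c else 0 := by
  have := coeff_mon_mul 2 0 J L c
  simpa using this

theorem coeff_x {R : Type u} [CommRing R] (J L : ℕ) (c : MvPowerSeries (Fin 2) R) :
    coeff (e J L) (c * X 0) = if 1 ≤ J then coeff (e (J - 1) L) c else 0 := by
  have := coeff_mon_mul 1 0 J L c
  simpa using this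

theorem coeff_y {R : Type u} [CommRing R] (J L : ℕ) (c : MvPowerSeries (Fin 2) R) :
    coeff (e J L) (c * X 1) = if 1 ≤ L then coeff (e J (L - 1)) c else 0 := by
  have := coeff_mon_mul 0 1 J L c
  simpa using this

theorem coeff_xy {R : Type u} [CommRing R] (J L : ℕ) (c : MvPowerSeries (Fin 2) R) :
    coeff (e J L) (c * (X 0 * X 1)) = if 1 ≤ J ∧ 1 ≤ L then coeff (e (J - 1) (L - 1)) c else 0 := by
  have := coeff_mon_mul 1 1 J L c
  simpa using this

theorem e_degree (j l : ℕ) : (e j l).degree = j + l := by simp [e]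

/-- Coefficientwise description of the powers of `(ϖ, x, y)`. -/
def F {R : Type u} [CommRing R] (ϖ : R) (n : ℕ) : Ideal (MvPowerSeries (Fin 2) R) where
  carrier := {g | ∀ d : Fin 2 →₀ ℕ, ϖ ^ (n - d.degree) ∣ coeff d g}
  zero_mem' d := by simp
  add_mem' {a b} ha hb d := by rw [map_add]; exact dvd_add (ha d) (hb d)
  smul_mem' c g hg d := by
    classical
    rw [smul_eq_mul, coeff_mul]
    refine Finset.dvd_sum fun p hp => Dvd.dvd.mul_left ((pow_dvd_pow ϖ ?_).trans (hg p.2)) _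
    rw [Finset.HasAntidiagonal.mem_antidiagonal] at hp
    rw [← hp, map_add]
    omega

theorem pow_le_F {R : Type u} [CommRing R] (ϖ : R) :
    ∀ n : ℕ, Ideal.span {algebraMap R (MvPowerSeries (Fin 2) R) ϖ, X 0, X 1} ^ n ≤ F ϖ n := by
  classical
  intro n
  induction n with
  | zero => intro g _ d; simp
  | succ n ih =>
    rw [pow_succ, Ideal.mul_le]
    intro g hg h hh d
    have hgn := ih hg
    have h1 : h ∈ F ϖ 1 := by
      revert hh h
      refine Ideal.span_le.2 ?_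
      rintro h (rfl | rfl | rfl) d
      · rw [MvPowerSeries.algebraMap_apply, Algebra.algebraMap_self, RingHom.id_apply, coeff_C]
        split_ifs with h0
        · subst h0; simp
        · simp
      all_goals
        rw [coeff_X]
        split_ifs with h0
        · subst h0; simp
        · simp
    rw [coeff_mul]
    refine Finset.dvd_sum fun p hp => (pow_dvd_pow ϖ ?_).trans ((pow_add ϖ _ _).symm ▸ mul_dvd_mul (hgn p.1) (h1 p.2))
    rw [Finset.HasAntidiagonal.mem_antidiagonal] at hp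
    rw [← hp, map_add]
    omega

/-- The detecting functionals. -/
noncomputable def φ {R : Type u} [CommRing R] (a₆ : R) (v : ℕ) (g : MvPowerSeries (Fin 2) R) : R :=
  ∑ k ∈ range (v + 1), coeff (e 0 (2 * k)) g * a₆ ^ k

/-- The detecting functionals. -/
noncomputable def ψ {R : Type u} [CommRing R] (a₆ : R) (v : ℕ) (g : MvPowerSeries (Fin 2) R) : R :=
  ∑ k ∈ range v, coeff (e 1 (2 * k + 1)) g * a₆ ^ k

/-- The ideal detected by the functionals. -/
noncomputable def K {R : Type u} [CommRing R] (ϖ a₆ : R) (v : ℕ) : Ideal (MvPowerSeries (Fin 2) R) where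
  carrier := {g | ∀ c, ϖ ^ (v + 1) ∣ φ a₆ v (c * g) ∧ ϖ ^ v ∣ ψ a₆ v (c * g)}
  zero_mem' c := by simp [φ, ψ]
  add_mem' {a b} ha hb c := by
    simp only [φ, ψ, mul_add, map_add, add_mul, Finset.sum_add_distrib]
    exact ⟨dvd_add (ha c).1 (hb c).1, dvd_add (ha c).2 (hb c).2⟩
  smul_mem' r g hg c := by rw [smul_eq_mul, ← mul_assoc]; exact hg _

theorem mem_K {R : Type u} [CommRing R] {ϖ a₁ a₆ : R} {v : ℕ} (hv : 1 ≤ v) (h2 : ϖ ^ v ∣ 2)
    (ha₁ : ϖ ^ v ∣ a₁) (ha₆ : ϖ ∣ a₆) :
    (X 1 ^ 2 + a₁ • (X 0 * X 1) - X 0 ^ 3 - algebraMap R (MvPowerSeries (Fin 2) R) a₆) ∈ K ϖ a₆ v ∧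
      (2 * X 1 + a₁ • X 0) ∈ K ϖ a₆ v ∧ (3 * X 0 ^ 2 - a₁ • X 1) ∈ K ϖ a₆ v ∧
      F ϖ (2 * v + 1) ≤ K ϖ a₆ v := by
  have hpk : ∀ {i k n : ℕ}, n ≤ i + k → ∀ r : R, ϖ ^ i ∣ r → ϖ ^ n ∣ r * a₆ ^ k := fun h r hr =>
    ((pow_dvd_pow ϖ h).trans (pow_add ϖ _ _).dvd).trans (mul_dvd_mul hr (pow_dvd_pow_of_dvd ha₆ _))
  refine ⟨fun c => ?_, fun c => ?_, fun c => ?_, fun g hg c => ?_⟩
  · have hc : c * (X 1 ^ 2 + a₁ • (X 0 * X 1) - X 0 ^ 3 - algebraMap R (MvPowerSeries (Fin 2) R) a₆) =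
        c * X 1 ^ 2 + a₁ • (c * (X 0 * X 1)) - c * X 0 ^ 3 - a₆ • c := by
      rw [Algebra.smul_def, Algebra.smul_def, Algebra.smul_def]; ring
    simp only [φ, ψ, hc, map_sub, map_add, coeff_smul, coeff_y_sq, coeff_x_cube, coeff_xy]
    constructor
    · simp only [show ¬ 3 ≤ 0 by omega, show ¬ 1 ≤ 0 by omega, false_and, if_false, mul_zero, add_zero, sub_zero,
        sub_mul, Finset.sum_sub_distrib]
      rw [Finset.sum_range_succ', Finset.sum_range_succ]
      simp only [mul_zero, Nat.zero_le, show ∀ k, 2 ≤ 2 * (k + 1) from fun k => by omega, if_true,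
        show ¬ 2 ≤ 0 by omega, if_false, zero_mul, add_zero, show ∀ k, 2 * (k + 1) - 2 = 2 * k from fun k => by omega]
      rw [← sub_sub, show ∑ k ∈ range v, coeff (e 0 (2 * k)) c * a₆ ^ (k + 1) =
        ∑ k ∈ range v, a₆ * coeff (e 0 (2 * k)) c * a₆ ^ k from Finset.sum_congr rfl fun k _ => by ring, sub_self, zero_sub, dvd_neg]
      exact hpk (i := 1) (by omega) _ (by rw [pow_one]; exact dvd_mul_of_dvd_left ha₆ _)
    · obtain ⟨w, rfl⟩ : ∃ w, v = w + 1 := ⟨v - 1, by omega⟩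
      simp only [show ¬ 3 ≤ 1 by omega, if_false, sub_zero, sub_mul, add_mul, Finset.sum_sub_distrib,
        Finset.sum_add_distrib]
      rw [add_sub_right_comm]
      refine dvd_add ?_ (Finset.dvd_sum fun k _ => dvd_mul_of_dvd_left (dvd_mul_of_dvd_left ha₁ _) _)
      rw [Finset.sum_range_succ', Finset.sum_range_succ]
      simp only [mul_zero, zero_add, show ∀ k, 2 ≤ 2 * (k + 1) + 1 from fun k => by omega, if_true,
        show ¬ 2 ≤ 1 by omega, if_false, zero_mul, add_zero,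
        show ∀ k, 2 * (k + 1) + 1 - 2 = 2 * k + 1 from fun k => by omega]
      rw [← sub_sub, show ∑ k ∈ range w, coeff (e 1 (2 * k + 1)) c * a₆ ^ (k + 1) =
        ∑ k ∈ range w, a₆ * coeff (e 1 (2 * k + 1)) c * a₆ ^ k from Finset.sum_congr rfl fun k _ => by ring, sub_self, zero_sub, dvd_neg]
      exact hpk (i := 1) (by omega) _ (by rw [pow_one]; exact dvd_mul_of_dvd_left ha₆ _)
  · have hc : c * (2 * X 1 + a₁ • X 0) = (2 : R) • (c * X 1) + a₁ • (c * X 0) := by
      rw [Algebra.smul_def, Algebra.smul_def, Algebra.smul_def, map_ofNat]; ring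
    simp only [φ, ψ, hc, map_add, coeff_smul, coeff_y, coeff_x]
    refine ⟨Finset.dvd_sum fun k _ => ?_, Finset.dvd_sum fun k _ => ?_⟩
    · rcases Nat.eq_zero_or_pos k with rfl | hk
      · simp
      · exact hpk (i := v) (by omega) _ (dvd_add (dvd_mul_of_dvd_left h2 _) (dvd_mul_of_dvd_left ha₁ _))
    · exact hpk (i := v) (by omega) _ (dvd_add (dvd_mul_of_dvd_left h2 _) (dvd_mul_of_dvd_left ha₁ _))
  · have hc : c * (3 * X 0 ^ 2 - a₁ • X 1) = (3 : R) • (c * X 0 ^ 2) - a₁ • (c * X 1) := by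
      rw [Algebra.smul_def, Algebra.smul_def, Algebra.smul_def, map_ofNat]; ring
    simp only [φ, ψ, hc, map_sub, coeff_smul, coeff_y, coeff_x_sq, show ¬ 2 ≤ 0 by omega, show ¬ 2 ≤ 1 by omega, if_false, mul_zero, zero_sub]
    refine ⟨Finset.dvd_sum fun k _ => ?_, Finset.dvd_sum fun k _ => ?_⟩
    · rcases Nat.eq_zero_or_pos k with rfl | hk
      · simp
      · exact hpk (i := v) (by omega) _ ((dvd_mul_of_dvd_left ha₁ _).neg_right)
    · exact hpk (i := v) (by omega) _ ((dvd_mul_of_dvd_left ha₁ _).neg_right)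
  · have hcg : c * g ∈ F ϖ (2 * v + 1) := Ideal.mul_mem_left _ c hg
    refine ⟨Finset.dvd_sum fun k hk => ?_, Finset.dvd_sum fun k hk => ?_⟩
    all_goals
      rw [Finset.mem_range] at hk
      refine hpk ?_ _ (hcg _)
      rw [e_degree]
      omega


/-- Let R be a discrete valuation ring with uniformizer ϖ, let a₁, a₆ ∈ R with a₁ of valuation v ≥ 1, a₆
of valuation 1, and 2 of valuation at least v (so the residue characteristic is 2; 2 = 0 is
allowed). In the power series ring S = R[[x, y]] let M = (ϖ, x, y) be the maximal ideal and I the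
ideal generated by y² + a₁xy − x³ − a₆, 2y + a₁x and 3x² − a₁y, so that S/I is a local ring with
maximal ideal m = M/I. Then the classes of y^(2v) and x·y^(2v−1) form a basis of the vector space
m^(2v)/m^(2v+1) over the residue field: M^(2v) + I = (y^(2v), x·y^(2v−1)) + I, and whenever a·y^(2v)
+ b·x·y^(2v−1) ∈ M^(2v+1) + I with a, b ∈ R, both a and b lie in the maximal ideal of R. (Generation
holds with any exponent i ≥ 1 in place of 2v: M^i + I = (y^i, x·y^(i−1)) + I.) -/
theorem result (R : Type u) [CommRing R] [IsDomain R] [IsDiscreteValuationRing R]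
    (ϖ a₁ a₆ : R) (hϖ : Irreducible ϖ) (v : ℕ) (hv : 1 ≤ v) (u₁ u₆ : Rˣ) (ha₁ : a₁ = u₁ * ϖ ^ v) (ha₆ : a₆ = u₆ * ϖ)
    (h2 : (2 : R) ∈ IsLocalRing.maximalIdeal R ^ v)
    (x y : MvPowerSeries (Fin 2) R) (hx : x = MvPowerSeries.X 0) (hy : y = MvPowerSeries.X 1)
    (I M : Ideal (MvPowerSeries (Fin 2) R))
    (hI : I = Ideal.span {y ^ 2 + a₁ • (x * y) - x ^ 3 - algebraMap R (MvPowerSeries (Fin 2) R) a₆,
      2 * y + a₁ • x, 3 * x ^ 2 - a₁ • y})
    (hM : M = Ideal.span {algebraMap R (MvPowerSeries (Fin 2) R) ϖ, x, y}) :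
    M ^ (2 * v) ⊔ I = Ideal.span {y ^ (2 * v), x * y ^ (2 * v - 1)} ⊔ I ∧
      ∀ a b : R, a • y ^ (2 * v) + b • (x * y ^ (2 * v - 1)) ∈ M ^ (2 * v + 1) ⊔ I →
        a ∈ IsLocalRing.maximalIdeal R ∧ b ∈ IsLocalRing.maximalIdeal R := by
  subst hx hy hI hM
  have hmax := Irreducible.maximalIdeal_eq hϖ
  rw [hmax, Ideal.span_singleton_pow, Ideal.mem_span_singleton] at h2
  constructor
  · -- generation
    set I := Ideal.span {X 1 ^ 2 + a₁ • (X 0 * X 1) - X 0 ^ 3 - algebraMap R (MvPowerSeries (Fin 2) R) a₆,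
      2 * X 1 + a₁ • X 0, 3 * X 0 ^ 2 - a₁ • X 1} with hI
    have h3 : IsUnit (3 : R) := by
      by_contra h
      have h3' : (3 : R) ∈ IsLocalRing.maximalIdeal R := h
      have h2' : (2 : R) ∈ IsLocalRing.maximalIdeal R := by
        rw [hmax, Ideal.mem_span_singleton]
        exact (dvd_pow_self ϖ (by omega)).trans h2
      exact (IsLocalRing.maximalIdeal.isMaximal R).ne_top ((Ideal.eq_top_iff_one _).2 (by
        have := Ideal.sub_mem _ h3' h2'; rwa [show (3 : R) - 2 = 1 by norm_num] at this))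
    obtain ⟨t, ht⟩ := h3.exists_right_inv
    obtain ⟨w, rfl⟩ : ∃ w, v = w + 1 := ⟨v - 1, by omega⟩
    set ι := algebraMap R (MvPowerSeries (Fin 2) R) with hι
    let Q : MvPowerSeries (Fin 2) R := ι u₆ - ι (u₁ * ϖ ^ w * (1 - t)) * (X 0 * X 1)
    have hQ : IsUnit Q := by
      rw [MvPowerSeries.isUnit_iff_constantCoeff]
      simp [Q, hι, MvPowerSeries.algebraMap_apply]
    have ht' : ι 3 * ι t = 1 := by rw [← map_mul, ht, map_one]
    have hg1 : X 1 ^ 2 + a₁ • (X 0 * X 1) - X 0 ^ 3 - ι a₆ ∈ I := Ideal.subset_span (Or.inl rfl)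
    have hg3 : 3 * X 0 ^ 2 - a₁ • X 1 ∈ I := Ideal.subset_span (Or.inr (Or.inr rfl))
    have hxx : X 0 ^ 2 - ι t * ι a₁ * X 1 ∈ I := by
      have h := I.mul_mem_left (ι t) hg3
      convert h using 1
      rw [Algebra.smul_def, show (3 : MvPowerSeries (Fin 2) R) = ι 3 from (map_ofNat ι 3).symm]
      linear_combination (- X 0 ^ 2) * ht'
    have hϖQ : ι ϖ * Q - X 1 ^ 2 ∈ I := by
      have h := I.neg_mem (I.add_mem hg1 (I.mul_mem_left (X 0) hxx))
      convert h using 1
      simp only [Q, Algebra.smul_def, ha₁, ha₆, map_mul, map_pow, map_sub, map_one]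
      ring
    obtain ⟨Qi, hQi⟩ := hQ.exists_right_inv
    have hϖ' : ι ϖ - Qi * X 1 ^ 2 ∈ I := by
      convert I.mul_mem_left Qi hϖQ using 1
      linear_combination (-ι ϖ) * hQi
    let J : ℕ → Ideal (MvPowerSeries (Fin 2) R) := fun n => Ideal.span {X 1 ^ n, X 0 * X 1 ^ (n - 1)} ⊔ I
    have hJy : ∀ n m, n ≤ m → (X 1 : MvPowerSeries (Fin 2) R) ^ m ∈ J n := fun n m hnm =>
      pow_mul_pow_sub (X 1 : MvPowerSeries (Fin 2) R) hnm ▸ Ideal.mul_mem_right _ _ (Ideal.mem_sup_left (Ideal.subset_span (Or.inl rfl)))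
    have hstep : ∀ n, 1 ≤ n → J n * Ideal.span ({ι ϖ, X 0, X 1} : Set (MvPowerSeries (Fin 2) R)) ≤ J (n + 1) := by
      intro n hn
      have hI' : ∀ {z}, z ∈ I → z ∈ J (n + 1) := fun hz => Ideal.mem_sup_right hz
      have hxy : X 0 * X 1 ^ n ∈ J (n + 1) := Ideal.mem_sup_left (Ideal.subset_span (Or.inr rfl))
      have hyn := hJy (n + 1) (n + 1) le_rfl
      have hp : ∀ m, n + 1 ≤ m + 2 → ι ϖ * X 1 ^ m ∈ J (n + 1) := fun m hm => by
        have := (J (n + 1)).add_mem (hI' (I.mul_mem_right (X 1 ^ m) hϖ')) (Ideal.mul_mem_left _ Qi (hJy (n + 1) (m + 2) hm))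
        convert this using 1
        ring
      rw [Ideal.sup_mul, sup_le_iff]
      refine ⟨?_, Ideal.mul_le_left.trans le_sup_right⟩
      rw [Ideal.span_mul_span', Ideal.span_le]
      rintro z ⟨p, hp', q, hq, rfl⟩
      show p * q ∈ J (n + 1)
      rcases hp' with rfl | rfl <;> rcases hq with rfl | rfl | rfl
      · rw [mul_comm]; exact hp n (by omega)
      · rw [mul_comm]; exact hxy
      · rw [← pow_succ]; exact hyn
      · have := Ideal.mul_mem_left _ (X 0) (hp (n - 1) (by omega))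
        convert this using 1
        ring
      · have hm : n - 1 + 1 = n := by omega
        have h1 := Ideal.mul_mem_left _ (ι t * ι (u₁ * ϖ ^ w)) (hp n (by omega))
        have := (J (n + 1)).add_mem (hI' (I.mul_mem_right (X 1 ^ (n - 1)) hxx)) h1
        convert this using 1
        rw [show (X 1 : MvPowerSeries (Fin 2) R) ^ n = X 1 ^ (n - 1) * X 1 by rw [← pow_succ, hm]]
        rw [ha₁, map_mul, map_mul, map_pow, map_pow]
        ring
      · rw [mul_assoc, ← pow_succ, show n - 1 + 1 = n by omega]; exact hxy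
    have hbase : Ideal.span ({ι ϖ, X 0, X 1} : Set (MvPowerSeries (Fin 2) R)) ≤ J 1 := by
      rw [Ideal.span_le]
      rintro z (rfl | rfl | rfl)
      · have := (J 1).add_mem (Ideal.mem_sup_right hϖ') (Ideal.mul_mem_left _ Qi (hJy 1 2 (by omega)))
        rw [sub_add_cancel] at this
        exact this
      · exact Ideal.mem_sup_left (Ideal.subset_span (Or.inr (by simp)))
      · exact Ideal.mem_sup_left (Ideal.subset_span (Or.inl (by simp)))
    have hall : ∀ n, Ideal.span ({ι ϖ, X 0, X 1} : Set (MvPowerSeries (Fin 2) R)) ^ (n + 1) ≤ J (n + 1) := by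
      intro n
      induction n with
      | zero => rw [pow_one]; exact hbase
      | succ n ih =>
        rw [pow_succ]
        exact (Ideal.mul_mono_left ih).trans (hstep _ (by omega))
    refine le_antisymm (sup_le ?_ le_sup_right) (sup_le ?_ le_sup_right)
    · have := hall (2 * w + 1)
      rwa [show 2 * w + 1 + 1 = 2 * (w + 1) by ring] at this
    · refine le_trans ?_ le_sup_left
      rw [Ideal.span_le]
      rintro z (rfl | rfl)
      · rw [SetLike.mem_coe]; exact Ideal.pow_mem_pow (Ideal.subset_span (by simp)) _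
      · rw [SetLike.mem_coe, show 2 * (w + 1) = (2 * (w + 1) - 1) + 1 by omega, pow_succ', Nat.add_sub_cancel]
        exact Ideal.mul_mem_mul (Ideal.subset_span (by simp))
          (Ideal.pow_mem_pow (Ideal.subset_span (by simp)) _)
  · -- independence
    intro a b hab
    obtain ⟨k1, k2, k3, kF⟩ := mem_K (R := R) (ϖ := ϖ) (a₁ := a₁) (a₆ := a₆) hv h2
      (by rw [ha₁]; exact dvd_mul_left _ _) (by rw [ha₆]; exact dvd_mul_left _ _)
    have hle : Ideal.span {algebraMap R (MvPowerSeries (Fin 2) R) ϖ, X 0, X 1} ^ (2 * v + 1) ⊔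
        Ideal.span {X 1 ^ 2 + a₁ • (X 0 * X 1) - X 0 ^ 3 - algebraMap R (MvPowerSeries (Fin 2) R) a₆,
          2 * X 1 + a₁ • X 0, 3 * X 0 ^ 2 - a₁ • X 1} ≤ K ϖ a₆ v := by
      refine sup_le ((pow_le_F ϖ _).trans kF) (Ideal.span_le.2 ?_)
      rintro z (rfl | rfl | rfl) <;> assumption
    obtain ⟨hp, hq⟩ := hle hab 1
    rw [one_mul] at hp hq
    have hmon : ∀ (j l J L : ℕ), coeff (e J L) (X 0 ^ j * X 1 ^ l : MvPowerSeries (Fin 2) R) = if J = j ∧ L = l then 1 else 0 := by
      intro j l J L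
      classical
      rw [X_pow_eq, X_pow_eq, monomial_mul_monomial, coeff_monomial, one_mul]
      refine if_congr ?_ rfl rfl
      simp [e, Finsupp.ext_iff, Fin.forall_fin_two]
    have hy' : (X 1 : MvPowerSeries (Fin 2) R) ^ (2 * v) = X 0 ^ 0 * X 1 ^ (2 * v) := by simp
    have hx' : (X 0 : MvPowerSeries (Fin 2) R) * X 1 ^ (2 * v - 1) = X 0 ^ 1 * X 1 ^ (2 * v - 1) := by simp
    rw [hy', hx'] at hp hq
    simp only [φ, ψ, map_add, coeff_smul, hmon, true_and, one_ne_zero,
      false_and, if_false, mul_zero, zero_add, add_zero, show (0 : ℕ) ≠ 1 by omega] at hp hq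
    constructor
    · rw [Finset.sum_eq_single v (fun k _ hk => by rw [if_neg (by omega), mul_zero, zero_mul])
        (fun h => absurd (Finset.self_mem_range_succ v) h), if_pos rfl, mul_one, ha₆, mul_pow,
        pow_succ', ← mul_assoc, mul_dvd_mul_iff_right (pow_ne_zero _ hϖ.ne_zero)] at hp
      rw [hmax, Ideal.mem_span_singleton]
      exact ((u₆.isUnit.pow v).dvd_mul_right).1 hp
    · obtain ⟨w, rfl⟩ : ∃ w, v = w + 1 := ⟨v - 1, by omega⟩
      rw [Finset.sum_eq_single w (fun k _ hk => by rw [if_neg (by omega), mul_zero, zero_mul])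
        (fun h => absurd (Finset.self_mem_range_succ w) h), if_pos (by omega), mul_one, ha₆, mul_pow,
        pow_succ', ← mul_assoc, mul_dvd_mul_iff_right (pow_ne_zero _ hϖ.ne_zero)] at hq
      rw [hmax, Ideal.mem_span_singleton]
      exact ((u₆.isUnit.pow w).dvd_mul_right).1 hq

end Groth.Agent.S14909
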