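import Groth.Statements.S14910
import Groth.Agent.H80.NeronNoGa
import Groth.Agent.H80.NoGaDiv
import Groth.Agent.H52.CompDiv
import Groth.Agent.Lib.GrpSch.BaseChange

set_option autoImplicit false
set_option backward.isDefEq.respectTransparency false
universe u
open CategoryTheory MonoidalCategory CartesianMonoidalCategory MonObj GrpObj AlgebraicGeometry
open Neron

namespace Groth.Agent.S14910

/-- Let R be a complete discrete valuation ring with fraction field K and algebraically closed residue
field k, and N an R-group scheme which is a Néron model of its generic fibre N_K, an abelian variety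
(proper and geometrically integral over K). Assume N_K has semi-abelian reduction: no geometric
fibre of N contains a closed subgroup isomorphic to the additive group. Then N_K has split
reduction: the extension of the component group of the special fibre N_k by the identity component
splits, i.e. for every k-point x of N_k there is a k-point y of N_k lying in the connected component
of x such that, for every n, y^n = 1 if and only if x^n lies in the connected component of the
identity (y has the same order as the component of x). (The published statement covers semi-abelian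
varieties with their Néron lft-models; this row is the case of an abelian variety, where the Néron
model is of finite type.) -/
theorem result (R : Type u) [CommRing R] [IsDomain R]
    [IsDiscreteValuationRing R] [IsAdicComplete (IsLocalRing.maximalIdeal R) R] (K : Type u) [Field K] [Algebra R K]
    [IsFractionRing R K] [IsAlgClosed (IsLocalRing.ResidueField R)]
    (N : Over (Spec (CommRingCat.of R))) [GrpObj N] [IsCommMonObj N] (hN : SGA7.IsNeron R K N)
    [IsProper ((SGA7.genFib R K).obj N).hom] [GeometricallyIntegral ((SGA7.genFib R K).obj N).hom]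
    (hss : SGA7.FibresUnipotentRankZero N)
    (x : 𝟙_ (Over (Spec (CommRingCat.of (IsLocalRing.ResidueField R)))) ⟶ Red.bc (Spec.map (CommRingCat.ofHom (IsLocalRing.residue R))) N) :
    ∃ y : 𝟙_ (Over (Spec (CommRingCat.of (IsLocalRing.ResidueField R)))) ⟶ Red.bc (Spec.map (CommRingCat.ofHom (IsLocalRing.residue R))) N,
      y.left.base (IsLocalRing.closedPoint (IsLocalRing.ResidueField R)) ∈ connectedComponent (x.left.base (IsLocalRing.closedPoint (IsLocalRing.ResidueField R))) ∧
        ∀ n : ℕ, y ^ n = 1 ↔
          (x ^ n).left.base (IsLocalRing.closedPoint (IsLocalRing.ResidueField R)) ∈ connectedComponent ((η[Red.bc (Spec.map (CommRingCat.ofHom (IsLocalRing.residue R))) N]).left.base (IsLocalRing.closedPoint (IsLocalRing.ResidueField R))) := by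
  obtain ⟨hs, -, hqc, -⟩ := hN
  let b := Spec.map (CommRingCat.ofHom (IsLocalRing.residue R))
  let G := Red.bc b N
  haveI : Smooth G.hom := Groth.Agent.Lib.GrpSch.bc_hom_of b N hs
  haveI : QuasiCompact G.hom := Groth.Agent.Lib.GrpSch.bc_hom_of b N hqc
  haveI : IsCommMonObj G := Functor.isCommMonObj_obj
  have hGa : ∀ j : Red.Ga (Spec (CommRingCat.of (IsLocalRing.ResidueField R))) ⟶ G,
      IsMonHom j → IsClosedImmersion j.left → False :=
    fun j hj hjc => Groth.Agent.H80.NeronNoGa.not_closedImmersion_Ga R N (hss _) j hj hjc
  haveI := Groth.Agent.H52.CompDiv.finite_quotient G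
  let xq : (𝟙_ (Over (Spec (CommRingCat.of (IsLocalRing.ResidueField R)))) ⟶ G) ⧸ Groth.Agent.H52.CompDiv.idComp G := QuotientGroup.mk x
  set n := orderOf xq with hndef
  have hn : x ^ n ∈ Groth.Agent.H52.CompDiv.idComp G := by
    rw [← QuotientGroup.eq_one_iff, QuotientGroup.mk_pow, hndef, pow_orderOf_eq_one]
  obtain ⟨z, hz, hzn⟩ := Groth.Agent.H80.NoGaDiv.exists_root G hGa (n := n) (orderOf_pos xq).ne' hn
  refine ⟨x * z⁻¹, (Groth.Agent.H52.CompDiv.mem_connectedComponent_iff (x * z⁻¹) x).2 ?_, fun m => ?_⟩
  · rw [mul_inv_cancel_comm]
    exact Subgroup.inv_mem _ hz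
  refine Iff.trans ?_ (Groth.Agent.H52.CompDiv.mem_idComp_iff (x ^ m)).symm
  refine ⟨fun h => ?_, fun h => ?_⟩
  · rw [mul_pow, inv_pow, mul_inv_eq_one] at h
    rw [h]
    exact Subgroup.pow_mem _ hz m
  · obtain ⟨c, rfl⟩ : n ∣ m := orderOf_dvd_iff_pow_eq_one.2
      (by rw [← QuotientGroup.mk_pow, QuotientGroup.eq_one_iff]; exact h)
    rw [pow_mul, mul_pow, inv_pow, hzn, mul_inv_cancel, one_pow]

end Groth.Agent.S14910
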