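import Groth.Statements.S14931
import Groth.Agent.Lib.H58FrobHomeo
-- import your own Groth.Agent.* helpers here

set_option autoImplicit false
universe u
open CategoryTheory CategoryTheory.Limits AlgebraicGeometry
open Variety

namespace Groth.Agent.S14931

/-- Let p be a prime, S a scheme of characteristic p (p is zero in the structure sheaf) and f : X → S a
morphism of schemes which is locally of finite type. Then the relative Frobenius F_{X/S} : X → X^(p)
= X ×_{S,F_S} S, the morphism over S whose composite with the projection X^(p) → X is the absolute
Frobenius of X, is finite. -/
theorem result (p : ℕ) [Fact p.Prime]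
    {X S : Scheme.{u}} [FrobSch.IsCharP S p] (f : X ⟶ S) [LocallyOfFiniteType f] :
    IsFinite (FrobSch.relFrob f p) := by
  exact Groth.Agent.Lib.H58FrobHomeo.isFinite_relFrob p f

end Groth.Agent.S14931
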