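import Groth.Statements.S14936
import Groth.Agent.H63.TateCor.Span
import Groth.Agent.H63.TateCor.Rank

set_option autoImplicit false
universe u
open CategoryTheory MonoidalCategory CartesianMonoidalCategory MonObj GrpObj AlgebraicGeometry
open AbVar

namespace Groth.Agent.S14936

/-- Clauses 1 and 3: let k be a finite field with q elements and algebraic closure Ω, l a prime number
invertible in k, and A, B abelian varieties over k (proper, geometrically integral commutative group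
schemes over k), with q-Frobenius endomorphisms π_A, π_B (the identity on points and the q-th power
map on sections; they are homomorphisms). Assume, as is the case, that the l-adic Tate modules of
Ω-points T_l A, T_l B are free of finite rank over ℤ_l. Then A and B are isogenous over k — there
are homomorphisms u : A → B and v : B → A and an integer n > 0 with v ∘ u = n_A and u ∘ v = n_B — if
and only if the characteristic polynomials of T_l(π_A) on T_l A and of T_l(π_B) on T_l B are equal. -/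
theorem result (k Ω : Type u) [Field k] [Finite k] [Field Ω] [Algebra k Ω] [IsAlgClosure k Ω]
    (l : ℕ) [Fact l.Prime] (hl : (l : k) ≠ 0) (A B : Over (Spec (CommRingCat.of k)))
    [GrpObj A] [IsCommMonObj A] [IsProper A.hom] [GeometricallyIntegral A.hom]
    [GrpObj B] [IsCommMonObj B] [IsProper B.hom] [GeometricallyIntegral B.hom]
    (πA : A ⟶ A) [IsMonHom πA] (hπAb : πA.left.base = 𝟙 _)
    (hπAle : ∀ U : A.left.Opens, U ≤ πA.left ⁻¹ᵁ U)
    (hπAapp : ∀ (U : A.left.Opens) (s : Γ(A.left, U)), (πA.left.appLE U U (hπAle U)).hom s = s ^ Nat.card k)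
    (πB : B ⟶ B) [IsMonHom πB] (hπBb : πB.left.base = 𝟙 _)
    (hπBle : ∀ U : B.left.Opens, U ≤ πB.left ⁻¹ᵁ U)
    (hπBapp : ∀ (U : B.left.Opens) (s : Γ(B.left, U)), (πB.left.appLE U U (hπBle U)).hom s = s ^ Nat.card k)
    [Module.Free ℤ_[l] (AbDual.TateMod A l (SGA7.pt Ω))] [Module.Finite ℤ_[l] (AbDual.TateMod A l (SGA7.pt Ω))]
    [Module.Free ℤ_[l] (AbDual.TateMod B l (SGA7.pt Ω))] [Module.Finite ℤ_[l] (AbDual.TateMod B l (SGA7.pt Ω))] :
    (∃ (u : A ⟶ B) (_ : IsMonHom u) (v : B ⟶ A) (_ : IsMonHom v) (n : ℕ), 0 < n ∧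
        u ≫ v = (𝟙 A) ^ n ∧ v ≫ u = (𝟙 B) ^ n) ↔
      (AbDual.tateMapₗ (l := l) (T := SGA7.pt Ω) πA).charpoly =
        (AbDual.tateMapₗ (l := l) (T := SGA7.pt Ω) πB).charpoly := by
  constructor
  · rintro ⟨u, hu, v, hv, n, hn, huv, hvu⟩
    haveI := hu; haveI := hv
    set U := (AbDual.tateMapₗ (l := l) (T := SGA7.pt Ω) u).baseChange ℚ_[l]
    set V := (AbDual.tateMapₗ (l := l) (T := SGA7.pt Ω) v).baseChange ℚ_[l]
    have hn0 : (n : ℚ_[l]) ≠ 0 := Nat.cast_ne_zero.2 hn.ne'
    have h1 : V ∘ₗ U = (n : ℚ_[l]) • LinearMap.id := by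
      rw [← LinearMap.baseChange_comp, H63.TateCor.tateMap_comp_eq_nsmul u v huv, LinearMap.baseChange_smul,
        LinearMap.baseChange_id, ← algebraMap_smul ℚ_[l] (n : ℤ_[l]), map_natCast]
    have h2 : U ∘ₗ V = (n : ℚ_[l]) • LinearMap.id := by
      rw [← LinearMap.baseChange_comp, H63.TateCor.tateMap_comp_eq_nsmul v u hvu, LinearMap.baseChange_smul,
        LinearMap.baseChange_id, ← algebraMap_smul ℚ_[l] (n : ℤ_[l]), map_natCast]
    let e : TensorProduct ℤ_[l] ℚ_[l] (AbDual.TateMod A l (SGA7.pt Ω)) ≃ₗ[ℚ_[l]]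
        TensorProduct ℤ_[l] ℚ_[l] (AbDual.TateMod B l (SGA7.pt Ω)) := LinearEquiv.ofLinear U ((n : ℚ_[l])⁻¹ • V) (LinearMap.ext fun x => (map_smul U ((n : ℚ_[l])⁻¹) (V x)).trans
        ((congrArg (((n : ℚ_[l])⁻¹) • ·) (LinearMap.congr_fun h2 x)).trans (inv_smul_smul₀ hn0 x)))
      (LinearMap.ext fun x => (congrArg (((n : ℚ_[l])⁻¹) • ·) (LinearMap.congr_fun h1 x)).trans (inv_smul_smul₀ hn0 x))
    refine Polynomial.map_injective _ (IsFractionRing.injective ℤ_[l] ℚ_[l]) ?_
    rw [← LinearMap.charpoly_baseChange, ← LinearMap.charpoly_baseChange, ← LinearEquiv.charpoly_conj e]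
    congr 1
    refine LinearMap.ext fun y => ?_
    obtain ⟨x, rfl⟩ := e.surjective y
    rw [LinearEquiv.conj_apply_apply, LinearEquiv.symm_apply_apply]
    have hc : U ∘ₗ (AbDual.tateMapₗ (l := l) (T := SGA7.pt Ω) πA).baseChange ℚ_[l] =
        (AbDual.tateMapₗ (l := l) (T := SGA7.pt Ω) πB).baseChange ℚ_[l] ∘ₗ U := by
      rw [← LinearMap.baseChange_comp, ← LinearMap.baseChange_comp]
      congr 1
      refine LinearMap.ext fun z => AbDual.TateMod.ext fun m => congrArg Additive.ofMul ?_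
      show (_ ≫ πA) ≫ u = (_ ≫ u) ≫ πB
      rw [← H63.TateCor.galAct_eq Ω πA hπAle hπAapp, ← H63.TateCor.galAct_eq Ω πB hπBle hπBapp]
      exact Category.assoc _ _ _
    exact LinearMap.congr_fun hc x
  · intro hc
    obtain ⟨e, he⟩ := H63.TateCor.Conj.exists_conj _ _ _
      ((AbDual.tateMapₗ (l := l) (T := SGA7.pt Ω) πA).baseChange ℚ_[l])
      ((AbDual.tateMapₗ (l := l) (T := SGA7.pt Ω) πB).baseChange ℚ_[l]) rfl
      (S14943.result k Ω l hl A πA hπAb hπAle hπAapp) (S14943.result k Ω l hl B πB hπBb hπBle hπBapp)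
      (by rw [LinearMap.charpoly_baseChange, LinearMap.charpoly_baseChange, hc])
    obtain ⟨f, hf, v, hv, n, hn, -, e1, e2⟩ :=
      H63.TateCor.exists_isogeny_of_linearEquiv hl (H63.TateCor.tateSpan hl A B) (H63.TateCor.tateSpan hl B A)
        (H63.TateCor.galAct_eq Ω πA hπAle hπAapp) (H63.TateCor.galAct_eq Ω πB hπBle hπBapp) e (LinearMap.ext he)
    exact ⟨f, hf, v, hv, n, hn, e1, e2⟩

end Groth.Agent.S14936
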