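import Groth.Statements.S14937
import Groth.Agent.H63.TateCor.Span
import Groth.Agent.H63.TateCor.Rank

set_option autoImplicit false
universe u
open CategoryTheory MonoidalCategory CartesianMonoidalCategory MonObj GrpObj AlgebraicGeometry
open AbVar

namespace Groth.Agent.S14937

/-- Lower bound: let A be an abelian variety of dimension g over a finite field k (a proper,
geometrically integral commutative group scheme over k). Then the rank of End_k(A) is at least 2g:
there exist 2g endomorphisms of A (homomorphisms A → A) which are linearly independent over ℤ in the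
additive group of k-morphisms A → A (pointwise product). The upper bound 4g² holds over any field. -/
theorem result (k : Type u) [Field k] [Finite k]
    (A : Over (Spec (CommRingCat.of k)))
    [GrpObj A] [IsCommMonObj A] [IsProper A.hom] [GeometricallyIntegral A.hom]
    (g : ℕ) (hg : topologicalKrullDim A.left = g) :
    ∃ e : Fin (2 * g) → (A ⟶ A), (∀ i, IsMonHom (e i)) ∧
      LinearIndependent ℤ (fun i => Additive.ofMul (e i)) := by
  classical
  let Ω := AlgebraicClosure k
  haveI : IsAlgClosed Ω := inferInstance
  obtain ⟨l, hlp, hl⟩ := H63.HomLattice.exists_prime_ne_zero k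
  haveI : Fact l.Prime := ⟨hlp⟩
  haveI : IsIntegral A.left := GeometricallyIntegral.isIntegral_of_subsingleton A.hom
  obtain ⟨h1, h2, h3⟩ := H63.HomLattice.tate_free_finite Ω A l hl hg
  haveI := h1; haveI := h2
  obtain ⟨π, hb, hle, happ, -, hm⟩ := H63.Tate.FrobGal.exists_frob_galAct k Ω A
  haveI : IsMonHom π := hm
  have hfin := H63.TateCor.finrank_hom_eq_sum hl (H63.TateCor.tateSpan (Ω := Ω) hl A A) π π hb hle happ hb hle happ
  haveI := H63.HomLattice.moduleFree Ω A A l hl
  haveI := H63.HomLattice.moduleFinite Ω A A l hl
  have hle' : 2 * g ≤ Module.finrank ℤ (EndAV.Hom A A) := by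
    rw [hfin]
    set L := (AbDual.tateMapₗ (l := l) (T := SGA7.pt (K := k) Ω) π).baseChange ℚ_[l]
    have hd : L.charpoly.natDegree = 2 * g := by
      rw [LinearMap.charpoly_natDegree, Module.finrank_baseChange]
      exact h3
    set s := UniqueFactorizationMonoid.normalizedFactors L.charpoly
    have hsum : (s.map Polynomial.natDegree).sum = 2 * g := by
      have hp := UniqueFactorizationMonoid.prod_normalizedFactors_eq L.charpoly_monic.ne_zero
      rw [L.charpoly_monic.normalize_eq_self] at hp
      rw [← hd, ← hp, Polynomial.natDegree_multiset_prod]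
      exact UniqueFactorizationMonoid.zero_notMem_normalizedFactors _
    rw [← hsum, Finset.sum_multiset_map_count]
    refine le_of_eq_of_le (Finset.sum_congr rfl fun P hP => rfl) (Finset.sum_le_sum fun P hP => ?_)
    rw [smul_eq_mul]
    exact Nat.mul_le_mul_right _ (Nat.le_mul_self _)
  let b := Module.finBasis ℤ (EndAV.Hom A A)
  let ψ : EndAV.Hom A A →ₗ[ℤ] Additive (A ⟶ A) :=
    (AddMonoidHom.mk' (fun φ => Additive.ofMul φ.toHom) fun _ _ => rfl).toIntLinearMap
  have hψ : Function.Injective ψ := fun φ φ' h => EndAV.Hom.ext (congrArg Additive.toMul h)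
  exact ⟨fun i => (b (Fin.castLE hle' i)).toHom, fun i => inferInstance,
    (b.linearIndependent.map' ψ (LinearMap.ker_eq_bot.2 hψ)).comp _ (Fin.castLE_injective hle')⟩

end Groth.Agent.S14937
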