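import Groth.Statements.S14938
import Groth.Agent.H63.TateCor.Center

set_option autoImplicit false
universe u
open CategoryTheory MonoidalCategory CartesianMonoidalCategory MonObj GrpObj AlgebraicGeometry
open AbVar

namespace Groth.Agent.S14938

/-- Let A be an abelian variety over a finite field k with q elements (a proper, geometrically integral
commutative group scheme over k) and π_A its q-Frobenius endomorphism (the identity on points and
the q-th power map on sections; a homomorphism). If an endomorphism f of A commutes with every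
endomorphism of A, then for some integer N > 0 the multiple N·f is an integral linear combination of
the composition powers π_A^0 = id, π_A, π_A ∘ π_A, …; in other words the centre of ℚ ⊗ End_k(A) is
ℚ[π_A] (the reverse inclusion being that π_A is central). In the statement the group Hom_k(A, A) is
written multiplicatively, so N·f is f^N and the linear combination is a finite product of integer
powers. -/
theorem result (k : Type u) [Field k] [Finite k]
    (A : Over (Spec (CommRingCat.of k)))
    [GrpObj A] [IsCommMonObj A] [IsProper A.hom] [GeometricallyIntegral A.hom]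
    (πA : A ⟶ A) [IsMonHom πA] (hπAb : πA.left.base = 𝟙 _)
    (hπAle : ∀ U : A.left.Opens, U ≤ πA.left ⁻¹ᵁ U)
    (hπAapp : ∀ (U : A.left.Opens) (s : Γ(A.left, U)), (πA.left.appLE U U (hπAle U)).hom s = s ^ Nat.card k)
    (f : A ⟶ A) [IsMonHom f] (hf : ∀ h : A ⟶ A, IsMonHom h → f ≫ h = h ≫ f) :
    ∃ N : ℕ, 0 < N ∧ ∃ (d : ℕ) (a : Fin d → ℤ),
      f ^ N = ∏ i : Fin d, ((fun h : A ⟶ A => h ≫ πA)^[(i : ℕ)] (𝟙 A)) ^ (a i) := by
  classical
  let Ω := AlgebraicClosure k
  haveI : IsAlgClosed Ω := inferInstance
  obtain ⟨l, hlp, hl⟩ := H63.HomLattice.exists_prime_ne_zero k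
  haveI : Fact l.Prime := ⟨hlp⟩
  haveI : IsIntegral A.left := GeometricallyIntegral.isIntegral_of_subsingleton A.hom
  obtain ⟨g, hg⟩ := H63.AVIsogeny.exists_dim (A := A)
  obtain ⟨h1, h2, -⟩ := H63.HomLattice.tate_free_finite Ω A l hl hg
  haveI := h1; haveI := h2
  have hc := H63.TateCor.toEnd0_mem_qadj Ω l A hl πA hπAb hπAle hπAapp (EndAV.End.of f) fun h =>
    EndAV.Hom.ext (hf h.toHom inferInstance).symm
  obtain ⟨F, hF⟩ := Algebra.adjoin_mem_exists_aeval ℚ _ hc
  obtain ⟨M, hM, hG⟩ := IsLocalization.integerNormalization_spec (M := nonZeroDivisors ℤ) F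
  set G := IsLocalization.integerNormalization (nonZeroDivisors ℤ) F
  have hGf : Polynomial.aeval (EndAV.End.of πA) G = M • EndAV.End.of f := by
    apply H63.End0Basic.toEnd0_injective
    rw [← Polynomial.aeval_algHom_apply, ← Polynomial.aeval_map_algebraMap ℚ, hG, map_zsmul, map_zsmul, hF]
  have hM0 : M ≠ 0 := nonZeroDivisors.ne_zero hM
  have hG2 : Polynomial.aeval (EndAV.End.of πA) (M • G) = ((M * M).natAbs : ℤ) • EndAV.End.of f := by
    rw [map_zsmul, hGf, smul_smul, Int.natAbs_of_nonneg (mul_self_nonneg M)]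
  refine ⟨(M * M).natAbs, Int.natAbs_pos.2 (mul_ne_zero hM0 hM0), (M • G).natDegree + 1,
    fun i => (M • G).coeff i, ?_⟩
  have hit : ∀ i : ℕ, (EndAV.End.of πA ^ i).toHom = (fun h : A ⟶ A => h ≫ πA)^[i] (𝟙 A) := by
    intro i
    induction i with
    | zero => rfl
    | succ i ih => rw [pow_succ', Function.iterate_succ_apply', ← ih]; rfl
  let ψ : EndAV.End A →ₗ[ℤ] Additive (A ⟶ A) :=
    (AddMonoidHom.mk' (fun φ => Additive.ofMul φ.toHom) fun _ _ => rfl).toIntLinearMap
  rw [Polynomial.aeval_eq_sum_range, Finset.sum_range] at hG2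
  have h := congrArg ψ hG2
  rw [map_sum, natCast_zsmul, map_nsmul] at h
  refine (congrArg Additive.toMul h.symm).trans ?_
  rw [toMul_sum]
  refine Finset.prod_congr rfl fun i _ => ?_
  rw [map_zsmul, toMul_zsmul]
  exact congrArg (· ^ _) (hit i)

end Groth.Agent.S14938
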