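import Groth.Statements.S15655
import Groth.Agent.H63.End0Basic

set_option autoImplicit false
universe u
open CategoryTheory MonoidalCategory CartesianMonoidalCategory MonObj GrpObj AlgebraicGeometry
open AbVar

namespace Groth.Agent.S15655

/-- Proof step: let A be a simple abelian variety over a field k — a proper, geometrically integral
commutative group scheme over k whose only abelian subvarieties over k (geometrically integral
closed subgroup schemes) are the trivial subgroup and A itself. Then every non-zero element of
End⁰(A) = ℚ ⊗_ℤ End_k(A) (End_k(A) the ring of endomorphisms defined over k) is invertible: End⁰(A)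
is a division algebra. (The published proposition is the semisimplicity of End⁰(A) for every abelian
variety; this row states the step of its proof for simple A.) -/
theorem result (k : Type u) [Field k]
    (A : Over (Spec (CommRingCat.of k)))
    [GrpObj A] [IsCommMonObj A] [IsProper A.hom] [GeometricallyIntegral A.hom]
    (hsimple : ∀ (B : Over (Spec (CommRingCat.of k))) [GrpObj B] [GeometricallyIntegral B.hom] (i : B ⟶ A) [IsMonHom i]
      [IsClosedImmersion i.left], Subsingleton B.left ∨ IsIso i) :
    ∀ x : EndAV.End0 A, x ≠ 0 → IsUnit x := by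
  intro x hx
  haveI : IsIntegral A.left := GeometricallyIntegral.isIntegral_of_subsingleton A.hom
  obtain ⟨g, hg⟩ := H63.AVIsogeny.exists_dim (A := A)
  obtain ⟨N, φ, hN, e⟩ := H63.End0Basic.exists_smul_eq x
  have hNu : IsUnit (algebraMap ℚ (EndAV.End0 A) (N : ℚ)) :=
    (isUnit_iff_ne_zero.2 (Int.cast_ne_zero.2 hN) : IsUnit (N : ℚ)).map _
  have hφ : φ ≠ 0 := fun h => hx (by
    rw [h, map_zero] at e
    exact hNu.mul_right_eq_zero.1 ((Algebra.smul_def _ _).symm.trans e))
  suffices hf : IsFinite φ.toHom.left by
    have h := H63.End0Basic.isUnit_of_isFinite hg φ hf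
    rw [← e] at h
    replace h : IsUnit (algebraMap ℚ (EndAV.End0 A) (N : ℚ) * x) := by convert h using 1; exact (Algebra.smul_def _ _).symm
    exact ((Commute.isUnit_mul_iff (Algebra.commutes (N : ℚ) x)).1 h).2
  haveI : GeometricallyReduced A.hom := inferInstance
  obtain ⟨M, hMg, i, hi, hic, hMp, hMi, hr⟩ := H4.HomImage.exists_image A A φ.toHom
  rcases hsimple M i with hsub | hiso
  · exfalso
    refine hφ ?_
    haveI : IsClosedImmersion η[A].left := by
      haveI : IsClosedImmersion (η[A].left ≫ A.hom) := by
        rw [Over.w η[A]]; exact inferInstanceAs (IsClosedImmersion (𝟙 _))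
      exact IsClosedImmersion.of_comp η[A].left A.hom
    obtain ⟨g', hg'⟩ := H4.HomImage.exists_factor η[A] φ.toHom (by
      rintro _ ⟨a, rfl⟩
      obtain ⟨m, hm⟩ := hr.ge ⟨a, rfl⟩
      haveI := hsub
      refine ⟨IsLocalRing.closedPoint k, ?_⟩
      rw [← hm, ← IsMonHom.one_hom i]
      exact congrArg i.left (Subsingleton.elim _ _))
    apply EndAV.Hom.ext
    show φ.toHom = _
    rw [← hg', toUnit_unique g' (toUnit _)]
    rfl
  · haveI := hiso
    haveI : IsIso i.left := inferInstanceAs (IsIso ((Over.forget _).map i))
    have hs : Surjective φ.toHom.left := ⟨fun a => hr.le (i.left.surjective a)⟩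
    exact (H63.DegreePoly.surjective_iff_isFinite A A hg hg φ.toHom).2 hs

end Groth.Agent.S15655
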