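import Groth.Statements.S14942
import Groth.Agent.H63.FrobSemisimple
import Groth.Agent.S15655

set_option autoImplicit false
universe u
open CategoryTheory MonoidalCategory CartesianMonoidalCategory MonObj GrpObj AlgebraicGeometry
open AbVar

namespace Groth.Agent.S14942

/-- Part 1: let A be a simple abelian variety over a finite field k with q elements — a proper,
geometrically integral commutative group scheme over k whose only abelian subvarieties over k
(geometrically integral closed subgroup schemes) are the trivial subgroup and A itself — with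
q-Frobenius endomorphism π_A (the identity on points, the q-th power map on sections; a
homomorphism). Let Ω be an algebraic closure of k, l a prime invertible in k, and assume (as is the
case) that the l-adic Tate module of Ω-points T_l A is free of finite rank over ℤ_l. Then the
characteristic polynomial of T_l(π_A), which has rational coefficients, is a power of the minimal
polynomial of π_A over ℚ: viewed over ℚ_l it equals h^n for some polynomial h with rational
coefficients irreducible over ℚ and some n. -/
theorem result (k Ω : Type u) [Field k] [Finite k] [Field Ω] [Algebra k Ω] [IsAlgClosure k Ω]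
    (l : ℕ) [Fact l.Prime] (hl : (l : k) ≠ 0) (A : Over (Spec (CommRingCat.of k)))
    [GrpObj A] [IsCommMonObj A] [IsProper A.hom] [GeometricallyIntegral A.hom]
    (hsimple : ∀ (B : Over (Spec (CommRingCat.of k))) [GrpObj B] [GeometricallyIntegral B.hom] (i : B ⟶ A) [IsMonHom i]
      [IsClosedImmersion i.left], Subsingleton B.left ∨ IsIso i)
    (πA : A ⟶ A) [IsMonHom πA] (hπAb : πA.left.base = 𝟙 _)
    (hπAle : ∀ U : A.left.Opens, U ≤ πA.left ⁻¹ᵁ U)
    (hπAapp : ∀ (U : A.left.Opens) (s : Γ(A.left, U)), (πA.left.appLE U U (hπAle U)).hom s = s ^ Nat.card k)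
    [Module.Free ℤ_[l] (AbDual.TateMod A l (SGA7.pt Ω))] [Module.Finite ℤ_[l] (AbDual.TateMod A l (SGA7.pt Ω))] :
    ∃ (h : Polynomial ℚ) (n : ℕ), Irreducible h ∧
      ((AbDual.tateMapₗ (l := l) (T := SGA7.pt Ω) πA).charpoly).map (algebraMap ℤ_[l] ℚ_[l]) =
        (h.map (algebraMap ℚ ℚ_[l])) ^ n := by
  haveI : IsAlgClosed Ω := IsAlgClosure.isAlgClosed k
  haveI : IsIntegral A.left := GeometricallyIntegral.isIntegral_of_subsingleton A.hom
  obtain ⟨g, hg⟩ := H63.AVIsogeny.exists_dim (A := A)
  obtain ⟨P, hm, hd, hv, hc⟩ := H63.TateEnd.exists_charpoly Ω hg (EndAV.End.of πA)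
  have hPC : ((AbDual.tateMapₗ (l := l) (T := SGA7.pt Ω) πA).charpoly).map (algebraMap ℤ_[l] ℚ_[l]) =
      (P.map (Int.castRingHom ℚ)).map (algebraMap ℚ ℚ_[l]) := by
    rw [show (AbDual.tateMapₗ (l := l) (T := SGA7.pt Ω) πA).charpoly = P.map (Int.castRingHom ℤ_[l]) from hc l hl,
      Polynomial.map_map, Polynomial.map_map,
      RingHom.ext_int ((algebraMap ℤ_[l] ℚ_[l]).comp (Int.castRingHom ℤ_[l]))
        ((algebraMap ℚ ℚ_[l]).comp (Int.castRingHom ℚ))]
  rcases subsingleton_or_nontrivial (EndAV.End0 A) with hsub | hnt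
  · refine ⟨Polynomial.X, 0, Polynomial.irreducible_X, ?_⟩
    have hg0 : g = 0 := by
      by_contra hne
      have hd0 := hv 0
      have hone : EndAV.End.of πA - ((0 : ℤ) : EndAV.End A) = 1 := H63.End0Basic.toEnd0_injective (Subsingleton.elim _ _)
      rw [hone] at hd0
      have hP1 := hv 1
      have hone' : EndAV.End.of πA - ((1 : ℤ) : EndAV.End A) = ((1 : ℤ) : EndAV.End A) - ((1 : ℤ) : EndAV.End A) :=
        H63.End0Basic.toEnd0_injective (Subsingleton.elim _ _)
      have h10 : (1 : EndAV.End A) = 0 := H63.End0Basic.toEnd0_injective (Subsingleton.elim _ _)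
      have h2 : ∀ n : ℤ, P.eval n = P.eval 0 := fun n => by
        rw [← hv n, ← hv 0]
        exact congrArg (fun z => ((H63.DegreeHom.deg (EndAV.End.toHom z) : ℕ) : ℤ))
          (H63.End0Basic.toEnd0_injective (Subsingleton.elim _ _))
      have h3 : P = Polynomial.C (P.eval 0) := Polynomial.funext fun n => by rw [Polynomial.eval_C, h2]
      have h4 := congrArg Polynomial.natDegree h3
      rw [hd, Polynomial.natDegree_C] at h4
      omega
    rw [hPC, show P = 1 from hm.natDegree_eq_zero.1 (by rw [hd, hg0]), Polynomial.map_one, Polynomial.map_one, pow_zero]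
  haveI : NoZeroDivisors (EndAV.End0 A) := ⟨fun {a b} hab => by
    by_contra hne
    rw [not_or] at hne
    exact hne.2 ((S15655.result k A hsimple a hne.1).mul_right_eq_zero.1 hab)⟩
  have hirr : Irreducible (minpoly ℚ (EndAV.toEnd0 (EndAV.End.of πA))) := by
    haveI : IsDomain (EndAV.End0 A) := NoZeroDivisors.to_isDomain _
    exact minpoly.irreducible (H63.FrobSemisimple.isIntegral_toEnd0 (EndAV.End.of πA))
  refine ⟨_, 2 * g / (minpoly ℚ (EndAV.toEnd0 (EndAV.End.of πA))).natDegree, hirr, ?_⟩
  rw [hPC, H63.End0Basic.eq_pow_minpoly hg _ P hm hd hv (H63.End0Basic.aeval_eq_zero Ω hg _ P hc) hirr,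
    Polynomial.map_pow]

end Groth.Agent.S14942
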