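import Groth.Statements.S14945
import Groth.Agent.H63.TateCor.Span

set_option autoImplicit false
universe u
open CategoryTheory MonoidalCategory CartesianMonoidalCategory MonObj GrpObj AlgebraicGeometry
open scoped TensorProduct
open AbVar

namespace Groth.Agent.S14945

/-- Clauses 1 and 2: let k be a finite field with algebraic closure Ω, l a prime invertible in k, and A,
B abelian varieties over k (proper, geometrically integral commutative group schemes over k). For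
each k-automorphism τ of Ω let ρ_A(τ), ρ_B(τ) be the ℤ_l-linear endomorphisms of the l-adic Tate
modules of Ω-points acting on every component by the Galois action of τ (this pins them). Then A and
B are isogenous over k — there are homomorphisms u : A → B, v : B → A and n > 0 with v ∘ u = n_A and
u ∘ v = n_B — if and only if V_l(A) = ℚ_l ⊗ T_l(A) and V_l(B) are isomorphic as Galois
representations: there is a ℚ_l-linear isomorphism e : V_l(A) → V_l(B) with e ∘ (ℚ_l ⊗ ρ_A(τ)) =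
(ℚ_l ⊗ ρ_B(τ)) ∘ e for every τ. -/
theorem result (k Ω : Type u) [Field k] [Finite k] [Field Ω] [Algebra k Ω] [IsAlgClosure k Ω]
    (l : ℕ) [Fact l.Prime] (hl : (l : k) ≠ 0) (A B : Over (Spec (CommRingCat.of k)))
    [GrpObj A] [IsCommMonObj A] [IsProper A.hom] [GeometricallyIntegral A.hom]
    [GrpObj B] [IsCommMonObj B] [IsProper B.hom] [GeometricallyIntegral B.hom]
    (ρA : (Ω ≃ₐ[k] Ω) → Module.End ℤ_[l] (AbDual.TateMod A l (SGA7.pt Ω)))
    (hρA : ∀ (τ : Ω ≃ₐ[k] Ω) (z : AbDual.TateMod A l (SGA7.pt Ω)) (m : ℕ),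
      (AbDual.TateMod.component A l (SGA7.pt Ω) m (ρA τ z)).toMul =
        SGA7.galAct τ (AbDual.TateMod.component A l (SGA7.pt Ω) m z).toMul)
    (ρB : (Ω ≃ₐ[k] Ω) → Module.End ℤ_[l] (AbDual.TateMod B l (SGA7.pt Ω)))
    (hρB : ∀ (τ : Ω ≃ₐ[k] Ω) (z : AbDual.TateMod B l (SGA7.pt Ω)) (m : ℕ),
      (AbDual.TateMod.component B l (SGA7.pt Ω) m (ρB τ z)).toMul =
        SGA7.galAct τ (AbDual.TateMod.component B l (SGA7.pt Ω) m z).toMul) :
    (∃ (u : A ⟶ B) (_ : IsMonHom u) (v : B ⟶ A) (_ : IsMonHom v) (n : ℕ), 0 < n ∧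
        u ≫ v = (𝟙 A) ^ n ∧ v ≫ u = (𝟙 B) ^ n) ↔
      ∃ e : (ℚ_[l] ⊗[ℤ_[l]] AbDual.TateMod A l (SGA7.pt Ω)) ≃ₗ[ℚ_[l]] (ℚ_[l] ⊗[ℤ_[l]] AbDual.TateMod B l (SGA7.pt Ω)),
        ∀ τ : Ω ≃ₐ[k] Ω, (e : (ℚ_[l] ⊗[ℤ_[l]] AbDual.TateMod A l (SGA7.pt Ω)) →ₗ[ℚ_[l]] (ℚ_[l] ⊗[ℤ_[l]] AbDual.TateMod B l (SGA7.pt Ω))) ∘ₗ (ρA τ).baseChange ℚ_[l] =
          ((ρB τ).baseChange ℚ_[l]) ∘ₗ (e : (ℚ_[l] ⊗[ℤ_[l]] AbDual.TateMod A l (SGA7.pt Ω)) →ₗ[ℚ_[l]] (ℚ_[l] ⊗[ℤ_[l]] AbDual.TateMod B l (SGA7.pt Ω))) := by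
  obtain ⟨πA, -, hleA, happA, hgA, hmA⟩ := H63.Tate.FrobGal.exists_frob_galAct k Ω A
  obtain ⟨πB, -, hleB, happB, hgB, hmB⟩ := H63.Tate.FrobGal.exists_frob_galAct k Ω B
  haveI : IsMonHom πA := hmA
  haveI : IsMonHom πB := hmB
  constructor
  · rintro ⟨u, hu, v, hv, n, hn, huv, hvu⟩
    haveI := hu; haveI := hv
    have hn0 : (n : ℚ_[l]) ≠ 0 := Nat.cast_ne_zero.2 hn.ne'
    set U := (AbDual.tateMapₗ (l := l) (T := SGA7.pt Ω) u).baseChange ℚ_[l]
    set V := (AbDual.tateMapₗ (l := l) (T := SGA7.pt Ω) v).baseChange ℚ_[l]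
    have h1 : AbDual.tateMapₗ (l := l) (T := SGA7.pt Ω) v ∘ₗ AbDual.tateMapₗ (l := l) (T := SGA7.pt Ω) u = (n : ℤ_[l]) • LinearMap.id := by
      exact H63.TateCor.tateMap_comp_eq_nsmul u v huv
    have h2 : AbDual.tateMapₗ (l := l) (T := SGA7.pt Ω) u ∘ₗ AbDual.tateMapₗ (l := l) (T := SGA7.pt Ω) v = (n : ℤ_[l]) • LinearMap.id := by
      exact H63.TateCor.tateMap_comp_eq_nsmul v u hvu
    have h1' : V ∘ₗ U = (n : ℚ_[l]) • LinearMap.id := by
      rw [← LinearMap.baseChange_comp, h1, LinearMap.baseChange_smul, LinearMap.baseChange_id,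
        ← algebraMap_smul ℚ_[l] (n : ℤ_[l]), map_natCast]
    have h2' : U ∘ₗ V = (n : ℚ_[l]) • LinearMap.id := by
      rw [← LinearMap.baseChange_comp, h2, LinearMap.baseChange_smul, LinearMap.baseChange_id,
        ← algebraMap_smul ℚ_[l] (n : ℤ_[l]), map_natCast]
    refine ⟨LinearEquiv.ofLinear U ((n : ℚ_[l])⁻¹ • V) ?_ ?_, fun τ => ?_⟩
    · rw [LinearMap.comp_smul, h2', inv_smul_smul₀ hn0]
    · rw [LinearMap.smul_comp, h1', inv_smul_smul₀ hn0]
    · show U ∘ₗ _ = _ ∘ₗ U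
      rw [← LinearMap.baseChange_comp, ← LinearMap.baseChange_comp]
      congr 1
      refine LinearMap.ext fun z => AbDual.TateMod.ext fun m => congrArg Additive.ofMul ?_
      show (AbDual.TateMod.component A l (SGA7.pt Ω) m (ρA τ z)).toMul ≫ u =
        (AbDual.TateMod.component B l (SGA7.pt Ω) m (ρB τ (AbDual.tateMapₗ u z))).toMul
      rw [hρA, hρB]
      exact Category.assoc _ _ _
  · rintro ⟨e, he⟩
    haveI : IsAlgClosed Ω := IsAlgClosure.isAlgClosed k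
    haveI : IsIntegral A.left := GeometricallyIntegral.isIntegral_of_subsingleton A.hom
    haveI : IsIntegral B.left := GeometricallyIntegral.isIntegral_of_subsingleton B.hom
    obtain ⟨gA, hA⟩ := H63.AVIsogeny.exists_dim (A := A)
    obtain ⟨gB, hB⟩ := H63.AVIsogeny.exists_dim (A := B)
    obtain ⟨h1, h2, -⟩ := H63.HomLattice.tate_free_finite Ω A l hl hA
    obtain ⟨h3, h4, -⟩ := H63.HomLattice.tate_free_finite Ω B l hl hB
    haveI := h1; haveI := h2; haveI := h3; haveI := h4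
    have hfA : ρA (H63.Tate.FrobGal.frobΩ k Ω) = AbDual.tateMapₗ (l := l) (T := SGA7.pt Ω) πA :=
      LinearMap.ext fun z => AbDual.TateMod.ext fun m => congrArg Additive.ofMul ((hρA _ z m).trans (hgA _))
    have hfB : ρB (H63.Tate.FrobGal.frobΩ k Ω) = AbDual.tateMapₗ (l := l) (T := SGA7.pt Ω) πB :=
      LinearMap.ext fun z => AbDual.TateMod.ext fun m => congrArg Additive.ofMul ((hρB _ z m).trans (hgB _))
    have hcomm := he (H63.Tate.FrobGal.frobΩ k Ω)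
    rw [hfA, hfB] at hcomm
    obtain ⟨f, hf, v, hv, n, hn, -, e1, e2⟩ :=
      H63.TateCor.exists_isogeny_of_linearEquiv hl (H63.TateCor.tateSpan hl A B) (H63.TateCor.tateSpan hl B A) hgA hgB e hcomm
    exact ⟨f, hf, v, hv, n, hn, e1, e2⟩

end Groth.Agent.S14945
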