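import Groth.Statements.S14955
import Groth.Agent.H48.MilGlue

set_option autoImplicit false
universe u
open TensorProduct
open EtAlg

namespace Groth.Agent.S14955

/-- Let B' = B ×_A A' be a fibre product of commutative rings with A' → A surjective. Then the square is
also a pushout of commutative rings: the canonical map B ⊗_{B'} A' → A is an isomorphism. -/
theorem result (B' B A' A : Type u) [CommRing B'] [CommRing B] [CommRing A'] [CommRing A]
    [Algebra B' B] [Algebra B' A'] [Algebra B A] [Algebra A' A] [Algebra B' A] [IsScalarTower B' B A] [IsScalarTower B' A' A]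
    (hsq : EtMil.IsFibreSquare B' B A' A) : Algebra.IsPushout B' B A' A := by
  have hB := Groth.Agent.H48.Mil.surjective_left hsq
  let f : B ⊗[B'] A' →ₗ[B] A :=
    LinearMap.liftBaseChange B (IsScalarTower.toAlgHom B' A' A).toLinearMap
  have hf : Function.Bijective f := by
    refine ⟨(injective_iff_map_eq_zero _).mpr fun x hx => ?_, fun a => ?_⟩
    · obtain ⟨a, rfl⟩ := Groth.Agent.H48.Mil.exists_one_tmul hB x
      obtain ⟨j, hj, rfl⟩ := Groth.Agent.H48.Mil.exists_of_mem_ker hsq (a := a)
        (by simpa [f] using hx)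
      rw [Algebra.algebraMap_eq_smul_one, Groth.Agent.H48.Mil.one_tmul_algebraMap, hj,
        TensorProduct.zero_tmul]
    · obtain ⟨a, rfl⟩ := hsq.1 a
      exact ⟨(1 : B) ⊗ₜ a, by simp [f]⟩
  exact ⟨IsBaseChange.of_equiv (LinearEquiv.ofBijective f hf) fun x => by simp [f]⟩

end Groth.Agent.S14955
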