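import Groth.Statements.S14958
import Groth.Agent.Lib.Tor.Balance
import Groth.Agent.H48.Mil
import Mathlib.Algebra.Category.ModuleCat.Abelian
import Mathlib.Algebra.Homology.HomologySequence
import Mathlib.LinearAlgebra.TensorProduct.Prod

set_option autoImplicit false
set_option linter.style.haveILetI false
universe u
open TensorProduct CategoryTheory CategoryTheory.Limits
open EtAlg

namespace Groth.Agent.S14958

/-- Let B' = B ×_A A' be a fibre product of commutative rings with A' → A surjective and L' a B'-module.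
Then L' is a fixed point of the glueing adjunction, i.e. the canonical map from L' to the compatible
pairs in (B ⊗_{B'} L') × (A' ⊗_{B'} L') is injective (it is always surjective), if and only if the
map Tor_1(L', B) ⊕ Tor_1(L', A') → Tor_1(L', A) over B' induced by B → A and A' → A is surjective.
Here Tor_1(L', –) is the first left derived functor of L' ⊗_{B'} – on B'-modules. -/
theorem result (B' B A' A : Type u) [CommRing B'] [CommRing B] [CommRing A'] [CommRing A]
    [Algebra B' B] [Algebra B' A'] [Algebra B A] [Algebra A' A] [Algebra B' A] [IsScalarTower B' B A] [IsScalarTower B' A' A]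
    (hsq : EtMil.IsFibreSquare B' B A' A)
    (L' : Type u) [AddCommGroup L'] [Module B' L'] :
    (∀ l : L', ((1 : B) ⊗ₜ[B'] l : B ⊗[B'] L') = 0 → ((1 : A') ⊗ₜ[B'] l : A' ⊗[B'] L') = 0 → l = 0) ↔
    Epi (biprod.desc
      (((Tor (ModuleCat.{u} B') 1).obj (ModuleCat.of B' L')).map
        (ModuleCat.ofHom (IsScalarTower.toAlgHom B' B A).toLinearMap))
      (((Tor (ModuleCat.{u} B') 1).obj (ModuleCat.of B' L')).map
        (ModuleCat.ofHom (IsScalarTower.toAlgHom B' A' A).toLinearMap))) := by
  classical
  let M : ModuleCat.{u} B' := ModuleCat.of B' L'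
  let P := (projectiveResolution M).complex
  let E := Groth.Agent.Lib.Tor.Balance.tensorCxFun P
  let F := (Tor (ModuleCat.{u} B') 1).obj M
  let e₀ := Groth.Agent.Lib.Tor.Balance.torIsoOfResolution (projectiveResolution M) 1
  let z₀ := Groth.Agent.Lib.Tor.Balance.zeroIso P ((projectiveResolution M).π.f 0)
    (projectiveResolution M).complex_d_comp_π_f_zero inferInstance
    (Groth.Agent.Lib.Tor.Balance.resolution_exact_zero (projectiveResolution M))
  haveI : E.Additive := ⟨fun {X Y f g} => by
    ext i : 1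
    exact MonoidalPreadditive.whiskerLeft_add ..⟩
  haveI hadd : F.Additive := Functor.additive_of_iso e₀
  let q := (IsScalarTower.toAlgHom B' B A).toLinearMap
  let p := (IsScalarTower.toAlgHom B' A' A).toLinearMap
  let ι : B' →ₗ[B'] B × A' := (Algebra.linearMap B' B).prod (-(Algebra.linearMap B' A'))
  let g : B × A' →ₗ[B'] A := q.coprod p
  have hcomm : ∀ x, algebraMap B A (algebraMap B' B x) = algebraMap A' A (algebraMap B' A' x) :=
    fun x => by rw [← IsScalarTower.algebraMap_apply, ← IsScalarTower.algebraMap_apply]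
  let S : ShortComplex (ModuleCat.{u} B') := ShortComplex.mk (ModuleCat.ofHom ι) (ModuleCat.ofHom g)
    (by ext x; simp [ι, g, q, p])
  have hS : S.ShortExact := by
    haveI : Mono S.f := (ModuleCat.mono_iff_injective _).mpr fun x y h =>
      Groth.Agent.H48.Mil.ext_square hsq (congrArg Prod.fst h) (neg_inj.mp (congrArg Prod.snd h))
    haveI : Epi S.g := (ModuleCat.epi_iff_surjective _).mpr fun a => by
      obtain ⟨a', rfl⟩ := hsq.1 a
      exact ⟨(0, a'), by simp [S, g, p]⟩
    refine ShortComplex.ShortExact.mk' ?_ inferInstance inferInstance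
    rw [ShortComplex.moduleCat_exact_iff]
    rintro ⟨b, a⟩ h
    have h' : algebraMap B A b = algebraMap A' A (-a) := by
      rw [map_neg]
      exact eq_neg_of_add_eq_zero_left (by simpa [S, g, q, p] using h)
    obtain ⟨c, ⟨hc₁, hc₂⟩, -⟩ := hsq.2 b (-a) h'
    exact ⟨c, Prod.ext hc₁ (by simp [S, ι, hc₂])⟩
  have hT := Groth.Agent.Lib.Tor.Balance.shortExact_tensorCxFun P
    (fun i => Groth.Agent.Lib.Tor.Balance.flat_of_projective (P.X i)) S hS
  -- epimorphism on `Tor₁` iff monomorphism on tensor products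
  have h₃ : Epi (F.map S.g) ↔ Mono ((MonoidalCategory.tensorLeft M).map S.f) := by
    have h1 : Epi (F.map S.g) ↔ Epi (HomologicalComplex.homologyMap (E.map S.g) 1) :=
      ((MorphismProperty.epimorphisms (ModuleCat.{u} B')).arrow_mk_iso_iff
        (Arrow.isoMk (e₀.app S.X₂) (e₀.app S.X₃) (e₀.hom.naturality S.g).symm)).symm
    have h2 : Mono ((MonoidalCategory.tensorLeft M).map S.f) ↔ Mono (HomologicalComplex.homologyMap (E.map S.f) 0) :=
      ((MorphismProperty.monomorphisms (ModuleCat.{u} B')).arrow_mk_iso_iff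
        (Arrow.isoMk (z₀.app S.X₁) (z₀.app S.X₂) (z₀.hom.naturality S.f).symm)).symm
    rw [h1, h2]
    constructor
    · intro h
      haveI : Epi (HomologicalComplex.homologyMap (S.map E).g 1) := h
      have : hT.δ 1 0 (by simp) = 0 :=
        (cancel_epi (HomologicalComplex.homologyMap (S.map E).g 1)).1
          ((hT.comp_δ 1 0 (by simp)).trans comp_zero.symm)
      exact (hT.homology_exact₁ 1 0 (by simp)).mono_g this
    · intro h
      haveI : Mono (HomologicalComplex.homologyMap (S.map E).f 0) := h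
      have : hT.δ 1 0 (by simp) = 0 :=
        (cancel_mono (HomologicalComplex.homologyMap (S.map E).f 0)).1
          ((hT.δ_comp 1 0 (by simp)).trans zero_comp.symm)
      exact (hT.homology_exact₃ 1 0 (by simp)).epi_f this
  have h₄ : Mono ((MonoidalCategory.tensorLeft M).map S.f) ↔
      ∀ l : L', ((1 : B) ⊗ₜ[B'] l : B ⊗[B'] L') = 0 → ((1 : A') ⊗ₜ[B'] l : A' ⊗[B'] L') = 0 → l = 0 := by
    rw [ModuleCat.mono_iff_injective]
    let σ : L' ⊗[B'] (B × A') ≃ₗ[B'] (B ⊗[B'] L') × (A' ⊗[B'] L') :=
      TensorProduct.comm B' L' (B × A') ≪≫ₗ TensorProduct.prodLeft B' B' B A' L'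
    have key : ∀ l : L', σ (ι.lTensor L' (l ⊗ₜ[B'] (1 : B'))) =
        (((1 : B) ⊗ₜ[B'] l : B ⊗[B'] L'), -((1 : A') ⊗ₜ[B'] l : A' ⊗[B'] L')) := fun l => by
      simp [σ, ι, TensorProduct.neg_tmul]
    change Function.Injective (ι.lTensor L') ↔ _
    constructor
    · intro h l h₁ h₂
      have : l ⊗ₜ[B'] (1 : B') = 0 := h (σ.injective (by rw [key, h₁, h₂, map_zero, map_zero]; simp))
      simpa using congrArg (TensorProduct.rid B' L') this
    · intro h
      rw [injective_iff_map_eq_zero]
      intro x hx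
      obtain ⟨l, rfl⟩ := (TensorProduct.rid B' L').symm.surjective x
      simp only [TensorProduct.rid_symm_apply] at hx ⊢
      have := key l
      rw [hx, map_zero] at this
      rw [h l (congrArg Prod.fst this).symm (neg_eq_zero.mp (congrArg Prod.snd this).symm),
        TensorProduct.zero_tmul]
  rw [← h₄, ← h₃]
  let fst : S.X₂ ⟶ ModuleCat.of B' B := ModuleCat.ofHom (LinearMap.fst B' B A')
  let snd : S.X₂ ⟶ ModuleCat.of B' A' := ModuleCat.ofHom (LinearMap.snd B' B A')
  let inl : ModuleCat.of B' B ⟶ S.X₂ := ModuleCat.ofHom (LinearMap.inl B' B A')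
  let inr : ModuleCat.of B' A' ⟶ S.X₂ := ModuleCat.ofHom (LinearMap.inr B' B A')
  have e₁ : inl ≫ S.g = ModuleCat.ofHom q := by ext x; simp [S, inl, g]
  have e₂ : inr ≫ S.g = ModuleCat.ofHom p := by ext x; simp [S, inr, g]
  have e₃ : S.g = fst ≫ ModuleCat.ofHom q + snd ≫ ModuleCat.ofHom p := by
    ext x <;> simp [S, fst, snd, g]
  rw [Preadditive.epi_iff_cancel_zero, Preadditive.epi_iff_cancel_zero]
  constructor
  · intro h X k hk
    refine h X k ?_
    rw [e₃, Functor.map_add, Functor.map_comp, Functor.map_comp, Preadditive.add_comp,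
      Category.assoc, Category.assoc]
    have k₁ := congrArg (biprod.inl ≫ ·) hk
    have k₂ := congrArg (biprod.inr ≫ ·) hk
    simp only [biprod.inl_desc_assoc, biprod.inr_desc_assoc, comp_zero] at k₁ k₂
    rw [k₁, k₂, comp_zero, comp_zero, add_zero]
  · intro h X k hk
    refine h X k (biprod.hom_ext' _ _ ?_ ?_)
    · rw [biprod.inl_desc_assoc, comp_zero]
      change F.map (ModuleCat.ofHom q) ≫ k = 0
      rw [← e₁, Functor.map_comp, Category.assoc, hk, comp_zero]
    · rw [biprod.inr_desc_assoc, comp_zero]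
      change F.map (ModuleCat.ofHom p) ≫ k = 0
      rw [← e₂, Functor.map_comp, Category.assoc, hk, comp_zero]

end Groth.Agent.S14958
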