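import Groth.Statements.S1496
import Groth.Agent.Lib.AmpleEmb53.Basic

set_option autoImplicit false
universe u
attribute [local instance] HasDerivedCategory.standard
open FlatMor

namespace Groth.Agent.S1496

open AlgebraicGeometry CategoryTheory Limits in
/-- Let S be a scheme carrying an ample invertible sheaf and f : X → S a morphism. Then f is a closed
immersion into some projective space over S (f factors as a closed immersion X → Pⁿ_S followed by
the projection Pⁿ_S → S, for some n) if and only if f is proper and X carries an ample invertible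
sheaf; and the latter holds if and only if f is proper and some O_X-module is ample relative to f. -/
theorem result {X S : Scheme.{u}} (hS : ∃ N : S.Modules, CohB1.IsAmple N) (f : X ⟶ S) :
    ((∃ (n : ℕ) (i : X ⟶ CohB1.ProjSpaceOver n S), IsClosedImmersion i ∧ i ≫ pullback.snd (CohB1.ProjSpace.toSpec n (ULift.{u} ℤ)) (specULiftZIsTerminal.from S) = f) ↔
      (IsProper f ∧ ∃ L : X.Modules, CohB1.IsAmple L)) ∧
    ((IsProper f ∧ ∃ L : X.Modules, CohB1.IsAmple L) ↔ (IsProper f ∧ ∃ L : X.Modules, RelAmple.IsRelAmple f L)) := by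
  obtain ⟨K, hK⟩ := hS
  have hfwd : ∀ (n : ℕ) (i : X ⟶ CohB1.ProjSpaceOver n S), IsClosedImmersion i →
      i ≫ CohB1.ProjSpaceOver.toBase n S = f →
      IsProper f ∧ ∃ L : X.Modules, RelAmple.IsRelAmple f L := fun n i hi hc => by
    haveI := Lib.ProjSpace.BaseChange.isProper_toBase (n := n) S
    exact ⟨hc ▸ inferInstance, Lib.AmpleEmb53.Basic.exists_isRelAmple f i hc⟩
  have hemb : IsProper f → (∃ L : X.Modules, CohB1.IsAmple L) →
      ∃ (n : ℕ) (i : X ⟶ CohB1.ProjSpaceOver n S), IsClosedImmersion i ∧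
        i ≫ CohB1.ProjSpaceOver.toBase n S = f := fun hp hL => by
    obtain ⟨L, hL⟩ := hL
    obtain ⟨r, i, hi, -, hc⟩ := Lib.AmpleEmb53.Basic.exists_immersion f hL
    haveI := Lib.ProjSpace.BaseChange.isProper_toBase (n := r) S
    haveI : IsProper (i ≫ CohB1.ProjSpaceOver.toBase r S) := hc.symm ▸ hp
    haveI : IsProper i := IsProper.of_comp i (CohB1.ProjSpaceOver.toBase r S)
    exact ⟨r, i, IsClosedImmersion.of_isPreimmersion i i.isClosedMap.isClosed_range, hc⟩
  refine ⟨⟨fun ⟨n, i, hi, hc⟩ => ?_, fun ⟨hp, hL⟩ => hemb hp hL⟩,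
    ⟨fun ⟨hp, hL⟩ => ?_, fun ⟨hp, L, hL⟩ => ⟨hp, Lib.AmpleEmb53.Basic.exists_isAmple f hK hL⟩⟩⟩
  · obtain ⟨hp, L, hL⟩ := hfwd n i hi hc
    exact ⟨hp, Lib.AmpleEmb53.Basic.exists_isAmple f hK hL⟩
  · obtain ⟨n, i, hi, hc⟩ := hemb hp hL
    exact hfwd n i hi hc

end Groth.Agent.S1496
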