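import Groth.Statements.S14966
import Groth.Agent.H48.MilGlue

set_option autoImplicit false
universe u
open EtAlg

namespace Groth.Agent.S14966

/-- Let A → A' be an injective homomorphism of commutative rings and let I ⊆ A be the conductor, i.e.
the annihilator of the A-module A'/A. Then the conductor square formed by A → A/I, A → A', A/I →
A'/IA' and A' → A'/IA' is a fibre product square of rings with A' → A'/IA' surjective: A = A/I
×_{A'/IA'} A'. (The published Lemma is for the conductor square of a finite modification of schemes;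
this row is the underlying statement for one injective ring map, which needs no finiteness.) -/
theorem result (A A' : Type u) [CommRing A] [CommRing A'] [Algebra A A']
    (hinj : Function.Injective (algebraMap A A')) :
    EtMil.IsFibreSquare A (A ⧸ Module.annihilator A (A' ⧸ LinearMap.range (Algebra.linearMap A A'))) A'
      (A' ⧸ Ideal.map (algebraMap A A') (Module.annihilator A (A' ⧸ LinearMap.range (Algebra.linearMap A A')))) := by
  classical
  set I := Module.annihilator A (A' ⧸ LinearMap.range (Algebra.linearMap A A')) with hI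
  have hmem : ∀ a : A, a ∈ I ↔ ∀ x : A', ∃ b : A, algebraMap A A' b = algebraMap A A' a * x := by
    intro a
    rw [hI, Module.mem_annihilator]
    constructor
    · intro h x
      have := h (Submodule.Quotient.mk x)
      rw [← Submodule.Quotient.mk_smul, Submodule.Quotient.mk_eq_zero, LinearMap.mem_range] at this
      obtain ⟨b, hb⟩ := this
      exact ⟨b, by simpa [Algebra.smul_def] using hb⟩
    · intro h q
      obtain ⟨x, rfl⟩ := Submodule.Quotient.mk_surjective _ q
      obtain ⟨b, hb⟩ := h x
      rw [← Submodule.Quotient.mk_smul, Submodule.Quotient.mk_eq_zero, LinearMap.mem_range]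
      exact ⟨b, by simpa [Algebra.smul_def] using hb⟩
  have hIA : ∀ y : A', y ∈ I.map (algebraMap A A') → ∃ b ∈ I, algebraMap A A' b = y := by
    intro y hy
    induction hy using Submodule.span_induction with
    | mem y hy =>
      obtain ⟨a, ha, rfl⟩ := hy
      exact ⟨a, ha, rfl⟩
    | zero => exact ⟨0, I.zero_mem, map_zero _⟩
    | add a b _ _ ha hb =>
      obtain ⟨x, hx, rfl⟩ := ha
      obtain ⟨y, hy, rfl⟩ := hb
      exact ⟨x + y, I.add_mem hx hy, map_add _ _ _⟩
    | smul r a _ ih =>
      obtain ⟨x, hx, rfl⟩ := ih
      obtain ⟨b, hb⟩ := (hmem x).mp hx r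
      refine ⟨b, (hmem b).mpr fun z => ?_, by rw [hb, smul_eq_mul, mul_comm]⟩
      obtain ⟨c, hc⟩ := (hmem x).mp hx (r * z)
      exact ⟨c, by rw [hc, hb, mul_assoc]⟩
  refine ⟨Ideal.Quotient.mk_surjective, fun q a' h => ?_⟩
  obtain ⟨a, rfl⟩ := Ideal.Quotient.mk_surjective q
  have hsub : a' - algebraMap A A' a ∈ I.map (algebraMap A A') := by
    rw [← Ideal.Quotient.eq]
    simpa using h.symm
  obtain ⟨b, hbI, hb⟩ := hIA _ hsub
  refine ⟨a + b, ⟨?_, by rw [map_add, hb]; abel⟩, fun c hc => hinj (by rw [hc.2, map_add, hb]; abel)⟩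
  rw [map_add]
  simp [Ideal.Quotient.eq_zero_iff_mem.mpr hbI]

end Groth.Agent.S14966
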