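import Groth.Statements.S14979
import Groth.Agent.H60.InertiaBr.Inertia
-- import your own Groth.Agent.* helpers here

set_option autoImplicit false
universe u
open CategoryTheory MonoidalCategory CartesianMonoidalCategory MonObj AlgebraicGeometry
open CoactBr

namespace Groth.Agent.S14979

/-- Let `R` be a local commutative ring, `A` a commutative Hopf algebra over `R` which is finite and
flat as an `R`-module (so `G = Spec A` is a finite flat group scheme over `S = Spec R`), and `B` a
commutative `R`-algebra with a coaction of `A` that is an algebra map (an action of `G` on `X = Spec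
B`) whose ring of invariants is `R` itself: the structure map `R → B^A` is bijective, so that `S` is
the quotient `Y = Spec B^A`. Let `K` be a field over `R` in which exactly the maximal ideal of `R`
vanishes and `x : B → K` an `R`-algebra map, a point of `X` over the closed point of `Y`. Then the
action is free — for every scheme `T` over `S`, every `T`-point of `G` fixing a `T`-point of `X` is
the unit — if and only if the inertia group scheme at `x` is trivial: for every `T` over `Spec K`,
every `T`-point of `G` fixing the point of `X` induced by `x` is the unit. (The published statement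
does not say that `G` is finite over `S`; its proof uses it, and it is assumed here.) -/
theorem result
    (R A B K : Type u) [CommRing R] [IsLocalRing R] [CommRing A] [HopfAlgebra R A]
    [Module.Flat R A] [Module.Finite R A]
    [CommRing B] [Algebra R B] [HopfRep.Comod R A B] [GLin.IsCoactAlg R A B]
    (hC : Function.Bijective (algebraMap R (GLin.invariants R A B)))
    [Field K] [Algebra R K] (hK : RingHom.ker (algebraMap R K) = IsLocalRing.maximalIdeal R)
    (x : B →ₐ[R] K) :
    (∀ (T : Over (Spec (CommRingCat.of R))) (ζ : T ⟶ CoactBr.sp R B) (g : T ⟶ CoactBr.sp R A),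
        lift g ζ ≫ (CoactBr.action R A B).act = ζ → g = 1) ↔
      ∀ (T : Over (Spec (CommRingCat.of R))) (h : T ⟶ CoactBr.sp R K) (g : T ⟶ CoactBr.sp R A),
        lift g (h ≫ CoactBr.pt x) ≫ (CoactBr.action R A B).act = h ≫ CoactBr.pt x → g = 1 := by
  constructor
  · intro H T h g hg
    exact H T _ g hg
  · intro H T ζ g hg
    rw [CoactBr.lift_action_act] at hg
    have hx := (H60.InertiaBr.triv_iff x).mp H
    haveI : Module.Free R A := Module.free_of_flat_of_isLocalRing
    haveI := H60.InertiaBr.isIntegral_invariants (R := R) (A := A) (B := B)
    have hRB : (algebraMap R B).IsIntegral := by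
      intro b
      obtain ⟨p, hp, hpb⟩ := Algebra.IsIntegral.isIntegral (R := GLin.invariants R A B) b
      have e : p ∈ Polynomial.lifts (algebraMap R (GLin.invariants R A B)) := by
        rw [Polynomial.lifts_iff_coeff_lifts]
        exact fun i => hC.2 _
      obtain ⟨q, hq, -, hqm⟩ := Polynomial.lifts_and_natDegree_eq_and_monic e hp
      refine ⟨q, hqm, ?_⟩
      rw [← hq, Polynomial.eval₂_map] at hpb
      exact hpb
    have hempty : ∀ P : PrimeSpectrum B, P.asIdeal.IsMaximal →
        P ∉ Module.support B (H60.InertiaBr.InertMod R A B) := by
      intro P hP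
      haveI := RingHom.ker_isPrime x
      refine H60.InertiaBr.notMem_support_of_comap_eq x hx P ?_
      have hm : P.asIdeal.comap (algebraMap R B) = IsLocalRing.maximalIdeal R :=
        IsLocalRing.eq_maximalIdeal (Ideal.isMaximal_comap_of_isIntegral_of_isMaximal' _ hRB _)
      ext ⟨c, hc⟩
      obtain ⟨r, hr⟩ := hC.2 ⟨c, hc⟩
      have hr' : algebraMap R B r = c := congrArg Subtype.val hr
      simp only [Ideal.mem_comap]
      show c ∈ P.asIdeal ↔ c ∈ RingHom.ker x
      rw [← hr', RingHom.mem_ker, AlgHom.commutes, ← Ideal.mem_comap, hm, ← hK, RingHom.mem_ker]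
    have htop : Module.annihilator B (H60.InertiaBr.InertMod R A B) = ⊤ := by
      by_contra h
      obtain ⟨m, hm, hle⟩ := Ideal.exists_le_maximal _ h
      refine hempty ⟨m, hm.isPrime⟩ hm ?_
      rw [Module.support_eq_zeroLocus]
      exact hle
    have := H60.InertiaBr.eq_one ζ g⁻¹ hg fun L _ _ p φ _ => by rw [htop, Ideal.map_top]
    exact inv_eq_one.mp this

end Groth.Agent.S14979
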