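import Groth.Statements.S1498
import Groth.Agent.H54.TwistFlat.Vanish
import Groth.Agent.Lib.ExchangeFP29.Main
-- import your own Groth.Agent.* helpers here

set_option autoImplicit false
universe u
attribute [local instance] HasDerivedCategory.standard
open FlatMor

namespace Groth.Agent.S1498

open AlgebraicGeometry CategoryTheory Limits in
/-- Parts (1) and (2) (the source moreover reconstructs X' as the relative Proj of the resulting
algebra, which is not stated here): let f : X → S be proper, flat and of finite presentation with S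
quasi-compact, and let L be an O_X-module ample relative to f. Then there is d₀ ≥ 0 such that for
every thickening i : S → S', every proper flat morphism of finite presentation f' : X' → S' with a
cartesian square over i, and every invertible O_{X'}-module L' pulling back to L, for all d ≥ d₀ the
cohomology H^p, p > 0, of L'^{⊗d} vanishes over the preimage of every affine open of S' and f'_*
L'^{⊗d} is a finite locally free O_{S'}-module. -/
theorem result {X S : Scheme.{u}} (f : X ⟶ S) [IsProper f] [Flat f] [LocallyOfFinitePresentation f] [CompactSpace ↑S]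
    (L : X.Modules) (hL : RelAmple.IsRelAmple f L) :
    ∃ d₀ : ℕ, ∀ (X' S' : Scheme.{u}) (i : S ⟶ S') (i' : X ⟶ X') (f' : X' ⟶ S') (hi : MoreMor.IsThickening i) (hc : IsPullback i' f f' i)
      (hf'₁ : IsProper f') (hf'₂ : Flat f') (hf'₃ : LocallyOfFinitePresentation f') (L' : X'.Modules) (hL' : PicF.IsInvertible L')
      (e : Nonempty ((Scheme.Modules.pullback i').obj L' ≅ L)) (d : ℕ), d₀ ≤ d →
        (∀ (U : S'.Opens) (p : ℕ), IsAffineOpen U → 0 < p → Subsingleton (Coh.HHon X' (CohB1.tensorPow L' d) (f' ⁻¹ᵁ U) p)) ∧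
        FlatMod.IsFinLocFree ((Scheme.Modules.pushforward f').obj (CohB1.tensorPow L' d)) := by
  obtain ⟨d₀, h⟩ := H54.TwistFlat.eventually_fiberRank f hL
  refine ⟨d₀, fun X' S' i i' f' hi hc hf'₁ hf'₂ hf'₃ L' hL' e d hd => ?_⟩
  haveI := hf'₁
  haveI := hf'₂
  haveI := hf'₃
  obtain ⟨e⟩ := e
  have hl : FlatMod.IsFinLocFree (CohB1.tensorPow L' d) := Lib.TensorMod.LocFree.of_rank
    (Lib.TensorMod.LocFree.of_isInvertible (Lib.TensorMod.Invertible.isInvertible_tensorPow hL' d))
  have hfp := Lib.TensorMod.FPConv.isFP_of_isFinLocFree hl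
  haveI := H26.FreeCrit.isQuasicoherent_of_isFP hfp
  have hfl := ZarCoh.Exchange.NearFibre.isFlatOver_of_isFinLocFree f' hl
  have h0 : ∀ (y : S') (p : ℕ), 1 ≤ p → CohIII.fiberRank f' (CohB1.tensorPow L' d) p y = 0 := by
    intro y p hp
    haveI := hi.2
    obtain ⟨s, rfl⟩ := i.surjective y
    rw [H54.TwistFlat.fiberRank_lift f i i' hc hL' e]
    exact h d hd s p hp
  haveI : HasInjectiveResolutions X'.Modules :=
    haveI := Lib.DerivedOX.Grothendieck.enoughInjectives_modules X'
    inferInstance
  refine ⟨fun U p hU hp => H54.TwistFlat.subsingleton_HHon f' _ hfp hfl p hU fun y _ => h0 y p hp, ?_⟩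
  obtain ⟨z⟩ := Lib.ExchangeFP29.Main.nonempty_zeroIso f' (CohB1.tensorPow L' d)
  exact Lib.TensorMod.LocFree.of_iso z (Lib.ExchangeFP29.Main.isFinLocFree_Rpush f' _ hfp hfl 0
    fun y => ⟨h0 y 1 le_rfl, Or.inl rfl⟩)

end Groth.Agent.S1498
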