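import Groth.Statements.S14982
import Groth.Agent.H60.InertiaBr.Inertia
-- import your own Groth.Agent.* helpers here

set_option autoImplicit false
universe u
open CategoryTheory MonoidalCategory CartesianMonoidalCategory MonObj AlgebraicGeometry
open CoactBr

namespace Groth.Agent.S14982

/-- Let `R` be a commutative ring, `A` a commutative Hopf algebra over `R` which is finite locally free
as an `R`-module (`G = Spec A` a finite flat group scheme over `S = Spec R`), `B` a commutative
`R`-algebra with a coaction of `A` that is an algebra map (an action of `G` on `X = Spec B`), `C =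
B^A` the ring of invariants and `π : X → Y = Spec C` the quotient map. Let `K` be a field over `R`,
`x : B → K` an `R`-algebra map (a point of `X`) and `y` the image in `Y` of the point underlying
`x`. Then the inertia group scheme at `x` is trivial (for every scheme `T` over `Spec K`, every
`T`-point of `G` fixing the point of `X` induced by `x` is the unit) if and only if there is a flat
morphism locally of finite presentation `Y' → Y` whose image contains `y` and over which the action
becomes free: for every scheme `T` over `S` and every `T`-point `ζ` of `X` whose composite with `π`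
lifts to `Y'`, every `T`-point of `G` fixing `ζ` is the unit (this is freeness of the base-changed
action of `G ×_S Y'` on `X ×_Y Y'`, written through points of `G` and `X`). (`G` finite flat is read
as finite locally free. The published result also says that `X ×_Y Y'` is then a torsor under
`G_{Y'}` and gives a third equivalent condition, that after a further fppf base change the action is
induced from an action of the trivial group; neither is stated here.) -/
theorem result
    (R A B K : Type u) [CommRing R] [CommRing A] [HopfAlgebra R A]
    [Module.Flat R A] [Module.Finite R A] [Module.Projective R A]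
    [CommRing B] [Algebra R B] [HopfRep.Comod R A B] [GLin.IsCoactAlg R A B]
    [Field K] [Algebra R K] (x : B →ₐ[R] K) :
    (∀ (T : Over (Spec (CommRingCat.of R))) (h : T ⟶ CoactBr.sp R K) (g : T ⟶ CoactBr.sp R A),
        lift g (h ≫ CoactBr.pt x) ≫ (CoactBr.action R A B).act = h ≫ CoactBr.pt x → g = 1) ↔
      ∃ (Y' : Scheme.{u}) (c : Y' ⟶ Spec (CommRingCat.of (GLin.invariants R A B))),
        Flat c ∧ LocallyOfFinitePresentation c ∧
        (∃ y' : Y', c.base y' =
          (Spec.map (CommRingCat.ofHom (x.toRingHom.comp (GLin.invariants R A B).val.toRingHom))).base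
            (IsLocalRing.closedPoint K)) ∧
        ∀ (T : Over (Spec (CommRingCat.of R))) (ζ : T ⟶ CoactBr.sp R B),
          (∃ t : T.left ⟶ Y', t ≫ c = ζ.left ≫ Spec.map (CommRingCat.ofHom (GLin.invariants R A B).val.toRingHom)) →
          ∀ g : T ⟶ CoactBr.sp R A, lift g ζ ≫ (CoactBr.action R A B).act = ζ → g = 1 := by
  constructor
  · intro H
    have hx := (H60.InertiaBr.triv_iff x).mp H
    haveI := RingHom.ker_isPrime x
    let C := GLin.invariants R A B
    haveI := H60.InertiaBr.isIntegral_invariants (R := R) (A := A) (B := B)
    have hint : C.val.toRingHom.IsIntegral := fun b => Algebra.IsIntegral.isIntegral (R := C) b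
    let Z : Set (PrimeSpectrum C) :=
      PrimeSpectrum.comap C.val.toRingHom '' Module.support B (H60.InertiaBr.InertMod R A B)
    have hZ : IsClosed Z := PrimeSpectrum.isClosedMap_comap_of_isIntegral _ hint _ (by rw [Module.support_eq_zeroLocus]; exact PrimeSpectrum.isClosed_zeroLocus _)
    let U : (Spec (CommRingCat.of C)).Opens := ⟨Zᶜ, hZ.isOpen_compl⟩
    refine ⟨U, U.ι, inferInstance, inferInstance, ⟨⟨_, ?_⟩, rfl⟩, ?_⟩
    · rintro ⟨P, hP, hPy⟩
      refine H60.InertiaBr.notMem_support_of_comap_eq x hx P ?_ hP
      refine (congrArg PrimeSpectrum.asIdeal hPy).trans ?_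
      show Ideal.comap (x.toRingHom.comp C.val.toRingHom) (IsLocalRing.maximalIdeal K) = _
      rw [IsLocalRing.maximalIdeal_eq_bot, ← RingHom.ker_eq_comap_bot, ← RingHom.comap_ker]
      rfl
    · rintro T ζ ⟨t, ht⟩ g hg
      rw [CoactBr.lift_action_act] at hg
      refine inv_eq_one.mp (H60.InertiaBr.eq_one ζ g⁻¹ hg fun L _ _ p φ hφ => ?_)
      by_contra hne
      obtain ⟨m, hm, hle⟩ := Ideal.exists_le_maximal _ hne
      let P : PrimeSpectrum B := PrimeSpectrum.comap φ.toRingHom ⟨m, hm.isPrime⟩
      have hP : P ∈ Module.support B (H60.InertiaBr.InertMod R A B) := by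
        rw [Module.support_eq_zeroLocus]
        exact Ideal.map_le_iff_le_comap.mp hle
      have hmem : U.ι.base ((p.left ≫ t).base ⟨m, hm.isPrime⟩) ∈ Zᶜ :=
        ((p.left ≫ t).base ⟨m, hm.isPrime⟩).2
      refine hmem ⟨P, hP, ?_⟩
      have e : (p.left ≫ t) ≫ U.ι =
          (CoactBr.pt φ).left ≫ Spec.map (CommRingCat.ofHom C.val.toRingHom) := by
        rw [hφ, Category.assoc, ht, Over.comp_left, Category.assoc]
      exact (congrArg (fun f => f.base ⟨m, hm.isPrime⟩) e).symm
  · rintro ⟨Y', c, _, _, ⟨y', hy'⟩, hfree⟩ T h g hg
    let qm : T.left ⟶ Spec (CommRingCat.of (GLin.invariants R A B)) :=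
      h.left ≫ Spec.map (CommRingCat.ofHom (x.toRingHom.comp (GLin.invariants R A B).val.toRingHom))
    let T' : Over (Spec (CommRingCat.of R)) := Over.mk (Limits.pullback.fst qm c ≫ T.hom)
    let π : T' ⟶ T := Over.homMk (Limits.pullback.fst qm c) rfl
    haveI : Surjective π.left := ⟨fun t => by
      obtain ⟨z, hz, -⟩ := Scheme.Pullback.exists_preimage_pullback (f := qm) (g := c) t y' (by
        rw [hy']
        have : Subsingleton ((CoactBr.sp R K).left) := inferInstanceAs (Subsingleton (PrimeSpectrum K))
        show (Spec.map _).base (h.left.base t) = _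
        exact congrArg _ (@Subsingleton.elim _ this _ _))
      exact ⟨z, hz⟩⟩
    haveI : Flat π.left := inferInstanceAs (Flat (Limits.pullback.fst qm c))
    haveI : Epi π.left := Flat.epi_of_flat_of_surjective _
    have h1 : π ≫ g = 1 := by
      refine hfree T' (π ≫ h ≫ CoactBr.pt x) ⟨Limits.pullback.snd qm c, ?_⟩ (π ≫ g) ?_
      · refine Limits.pullback.condition.symm.trans ?_
        rw [Over.comp_left, Over.comp_left, CoactBr.pt_left, Category.assoc, Category.assoc]
        refine congrArg (fun f => Limits.pullback.fst qm c ≫ h.left ≫ f) ?_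
        exact Spec.map_comp (CommRingCat.ofHom (GLin.invariants R A B).val.toRingHom) (CommRingCat.ofHom x.toRingHom)
      · rw [← comp_lift_assoc, hg]
    refine Over.OverMorphism.ext ((cancel_epi π.left).mp ?_)
    rw [← Over.comp_left, ← Over.comp_left, h1, MonObj.comp_one]

end Groth.Agent.S14982
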