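import Groth.Statements.S14984
import Groth.Agent.H66.Tame
-- import your own Groth.Agent.* helpers here

set_option autoImplicit false
universe u v w
open HopfRep

namespace Groth.Agent.S14984

open scoped TensorProduct
set_option synthInstance.maxHeartbeats 400000

/-- Let `R` be a commutative ring, `A` a commutative Hopf algebra over `R`, flat as an `R`-module, `B` a
commutative `R`-algebra with a coaction of `A` that is an algebra map (an action of `G = Spec A` on
`X = Spec B`), and `C = B^A` the ring of invariants. If the action base-changed along `R → C` — the
`C`-Hopf algebra `C ⊗ A` coacting on `C ⊗ B` — is tame, i.e. there is a `C`-linear comodule map `β :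
C ⊗ A → C ⊗ B` (regular coaction on the source, base-changed coaction on the target) with `β 1 = 1`,
then the original action is tame: there is an `R`-linear comodule map `α : A → B` with `α 1 = 1`.
(The converse is the case `S = C` of stability of tameness under base change. The published lemma
also lists, as a third equivalent condition, tameness of the action of `C ⊗ A` on `B` itself over
`C`; that condition is not stated here.) -/
theorem result
    (R : Type u) (A : Type v) (B : Type w)
    [CommRing R] [CommRing A] [HopfAlgebra R A] [Module.Flat R A]
    [CommRing B] [Algebra R B] [HopfRep.Comod R A B] [GLin.IsCoactAlg R A B]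
    (h : ∃ β : TensorProduct R ↥(GLin.invariants R A B) A →ₗ[↥(GLin.invariants R A B)]
        TensorProduct R ↥(GLin.invariants R A B) B,
      @Hoch.IsComodHom ↥(GLin.invariants R A B) _ (TensorProduct R ↥(GLin.invariants R A B) A) _ _ _
        (TensorProduct R ↥(GLin.invariants R A B) A) _ _
        (HopfRep.Comod.regular ↥(GLin.invariants R A B) (TensorProduct R ↥(GLin.invariants R A B) A))
        (TensorProduct R ↥(GLin.invariants R A B) B) _ _
        (CoactBr.Comod.baseChange R ↥(GLin.invariants R A B) A B) β ∧ β 1 = 1) :
    ∃ α : A →ₗ[R] B, Hoch.IsComodHom A α ∧ α 1 = 1 := by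
  obtain ⟨β, hβ, h1⟩ := h
  let m : ↥(GLin.invariants R A B) ⊗[R] B →ₗ[R] B :=
    TensorProduct.lift ((LinearMap.mul R B) ∘ₗ (GLin.invariants R A B).val.toLinearMap)
  refine ⟨m ∘ₗ β.restrictScalars R ∘ₗ TensorProduct.mk R _ A 1, H66.Tame.isComodHom_descend m (fun x => ?_) β hβ, ?_⟩
  · induction x using TensorProduct.induction_on with
    | zero => simp
    | add a b ha hb => simp only [map_add, ha, hb]
    | tmul c b =>
      rw [LinearMap.baseChange_tmul, show m (c ⊗ₜ[R] b) = (c : B) * b from rfl,
        GLin.IsCoactAlg.coact_mul, (GLin.mem_invariants_iff R A B _).1 c.2]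
      induction HopfRep.Comod.coact (k := R) (A := A) b using TensorProduct.induction_on with
      | zero => simp
      | add p q hp hq => simp only [mul_add, TensorProduct.tmul_add, map_add, hp, hq]
      | tmul p q =>
        rw [Algebra.TensorProduct.tmul_mul_tmul, one_mul, TensorProduct.assoc_symm_tmul, LinearMap.rTensor_tmul]
        rfl
  · simp only [LinearMap.comp_apply, LinearMap.restrictScalars_apply, TensorProduct.mk_apply]
    rw [← Algebra.TensorProduct.one_def, h1, Algebra.TensorProduct.one_def]
    simp [m]

end Groth.Agent.S14984
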