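import Groth.Statements.S14987
import Groth.Agent.S10374
import Groth.Agent.Lib.AlgSpDecent.QS
import Groth.Agent.Lib.AlgSpDecent.ClosedPoint
import Groth.Agent.Lib.AlgSpDecent.CodimOneSp
import Groth.Agent.Lib.AlgSpDecent.FlatNbhd
import Groth.Agent.H46.UnivOpenTrdeg

set_option autoImplicit false
universe u
open CategoryTheory CategoryTheory.Limits AlgebraicGeometry Topology TopologicalSpace
open AlgSp

namespace Groth.Agent.S14987

open Topology Groth.Agent Groth.Agent.Lib Groth.Agent.Lib.AlgSpace Groth.Agent.Lib.AlgSpDecent Groth.Agent.Lib.AlgSpMor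
  Groth.Agent.Lib.AlgSpDecent.FlatNbhd

/-- Let X be a Noetherian algebraic space (quasi-compact, quasi-separated, locally Noetherian) over a
scheme S and z a closed point of X. Then there are a Noetherian local ring R over S and a
representable flat morphism φ : h_{Spec R} ⟶ X sending the closed point to z which is a flat
neighbourhood of z: z is represented by a closed immersion Spec k ⟶ X whose base change along φ is
an isomorphism onto Spec k, and for every n ≥ 1 and every closed subspace Z_n of X cut out by the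
n-th power of the ideal sheaf of that closed immersion, the projection Spec R ×_X Z_n ⟶ Z_n is an
isomorphism; moreover dim R equals the dimension of the local ring of X at z. -/
theorem result {S : Scheme.{u}} (X : AlgSp.Space S)
    (hqc : AlgSp.IsQuasiCompactSp X.obj) (hqs : AlgSp.IsQuasiSeparatedSp X.obj)
    (hN : AlgSp.IsLocNoethSp X.obj)
    (z : AlgSp.Points X.obj) (hz : IsClosed ({z} : Set (AlgSp.Points X.obj))) :
    ∃ (R : CommRingCat.{u}) (hR : IsLocalRing ↥R) (str : Spec R ⟶ S)
      (φ : (AlgSp.yon S).obj (Over.mk str) ⟶ X.obj) (p : AlgSp.FieldPt X.obj) (t : p.pt ⟶ Over.mk str),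
      IsNoetherianRing ↥R ∧ AlgSp.RepWith @Flat φ ∧
      AlgSp.Points.ofPt φ (@IsLocalRing.closedPoint ↥R _ hR) = z ∧
      AlgSp.Points.mk p = z ∧ AlgSp.RepWith @IsClosedImmersion p.toHom ∧
      IsPullback ((AlgSp.yon S).map t) (𝟙 ((AlgSp.yon S).obj p.pt)) φ p.toHom ∧
      (∀ (I : AlgSp.IdealEt X.obj), AlgSp.IsCutOutBy I p.toHom → ∀ n : ℕ, 1 ≤ n →
        ∀ (Zn : AlgSp.Sp S) (iZ : Zn ⟶ X.obj), AlgSp.IsCutOutBy (I ^ n) iZ →
          ∀ (P : AlgSp.Sp S) (fst : P ⟶ (AlgSp.yon S).obj (Over.mk str)) (snd : P ⟶ Zn),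
            IsPullback fst snd φ iZ → IsIso snd) ∧
      AlgSp.HasAt (fun U u => ringKrullDim ↥(U.presheaf.stalk u) = ringKrullDim ↥R) X.obj z := by
  have hX := X.property
  have hdec : IsDecent X.obj := QS.isDecent_of_isQuasiSeparatedSp hX hqs
  obtain ⟨U, a, u, hU, ha, hfib⟩ := Groth.Agent.S10374.result X hdec z
  let q : FieldPt X.obj := FieldPt.ofPt a u
  have hmk : Points.mk q = z := ha.ofPt_eq
  have : Mono q.toHom := ha.mono
  have hqc : RepWith @QuasiCompact q.toHom :=
    Decent.repWith_qc_of_finite_fibres hX q (Decent.IsDecent.finite_fibres hdec _)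
  have hcl : RepWith @IsClosedImmersion q.toHom :=
    ClosedPoint.repWith_isClosedImmersion hX hdec q hqc (hmk.symm ▸ hz)
  have : IsLocallyNoetherian U.left := CodimOneSp.isLocallyNoetherian_chart hN ha.etale
  let R := U.left.presheaf.stalk u
  let j : Over.mk (U.left.fromSpecStalk u ≫ U.hom) ⟶ U := Over.homMk (U.left.fromSpecStalk u) rfl
  let φ : (AlgSp.yon S).obj (Over.mk (U.left.fromSpecStalk u ≫ U.hom)) ⟶ X.obj := (AlgSp.yon S).map j ≫ a
  let ι : q.pt ⟶ U := Over.homMk (U.left.fromSpecResidueField u) rfl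
  have hι : (AlgSp.yon S).map ι ≫ a = q.toHom := (FieldPt.toHom_ofPt a u).symm
  let t : q.pt ⟶ Over.mk (U.left.fromSpecStalk u ≫ U.hom) := Over.homMk (Spec.map (U.left.residue u)) (by
    show Spec.map (U.left.residue u) ≫ U.left.fromSpecStalk u ≫ U.hom = U.left.fromSpecResidueField u ≫ U.hom
    rw [← Category.assoc]
    rfl)
  have htj : t ≫ j = ι := Over.OverMorphism.ext rfl
  have hsinglefib : ∀ v : ↥U.left, Points.ofPt a v = z → v = u := fun v hv => hfib.le hv
  -- the base change of the point along the chart is the residue field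
  obtain ⟨E, e₁, e₂, sqE⟩ := exists_isPullback_yon hX.diag a q.toHom
  have : IsClosedImmersion e₁.left := repWith_property hcl sqE.flip
  have : Etale e₂.left := repWith_property ha.etale sqE
  have hEsub : Subsingleton ↥E.left := ⟨fun x y => e₁.left.injective (by
    have h : ∀ x, Points.ofPt a (e₁.left x) = z := fun x => by
      rw [← Core.ofPt_map_comp, sqE.w, Core.ofPt_map_comp, ← hmk]
      exact Points.ofPt_toHom q _
    rw [hsinglefib _ (h x), hsinglefib _ (h y)])⟩
  obtain ⟨s, hs⟩ := (AlgSp.yon S).map_surjective (sqE.lift ((AlgSp.yon S).map ι) (𝟙 _) (by rw [hι, Category.id_comp]))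
  have hs₁ : s ≫ e₁ = ι := (AlgSp.yon S).map_injective (by rw [Functor.map_comp, hs, sqE.lift_fst])
  have hs₂ : s ≫ e₂ = 𝟙 _ := (AlgSp.yon S).map_injective (by
    rw [Functor.map_comp, hs, sqE.lift_snd, CategoryTheory.Functor.map_id])
  have hsiso : IsIso s := by
    have h2 : s.left ≫ e₂.left = 𝟙 _ := congrArg Over.Hom.left hs₂
    have : Etale (s.left ≫ e₂.left) := by rw [h2]; infer_instance
    have : Etale s.left := Etale.of_comp s.left e₂.left
    have : Mono (s.left ≫ e₂.left) := by rw [h2]; infer_instance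
    have : Mono s.left := mono_of_mono s.left e₂.left
    have : IsOpenImmersion s.left := IsOpenImmersion.of_flat_of_mono s.left
    have : Surjective s.left := ⟨fun x => ⟨IsLocalRing.closedPoint q.K, Subsingleton.elim _ _⟩⟩
    have : IsIso ((Over.forget S).map s) :=
      (show IsIso s.left from (isIso_iff_isOpenImmersion_and_surjective _).2 ⟨inferInstance, inferInstance⟩)
    exact isIso_of_reflects_iso s (Over.forget S)
  have sqι : IsPullback ((AlgSp.yon S).map ι) (𝟙 _) a q.toHom := by
    refine sqE.of_iso (asIso ((AlgSp.yon S).map s)).symm (Iso.refl _) (Iso.refl _) (Iso.refl _) ?_ ?_ ?_ ?_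
    · simp only [Iso.refl_hom, Iso.symm_hom, asIso_inv, Category.comp_id]
      rw [IsIso.eq_inv_comp, ← Functor.map_comp, hs₁]
    · simp only [Iso.refl_hom, Iso.symm_hom, asIso_inv, Category.comp_id]
      refine IsIso.eq_inv_of_hom_inv_id ?_
      rw [← Functor.map_comp, hs₂, CategoryTheory.Functor.map_id]
    · simp
    · simp
  have : Mono j.left := inferInstanceAs (Mono (U.left.fromSpecStalk u))
  have : Mono j := (Over.forget S).mono_of_mono_map (show Mono j.left from inferInstance)
  have : IsIso (𝟙 q.pt) := inferInstance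
  refine ⟨R, inferInstance, U.left.fromSpecStalk u ≫ U.hom, φ, q, t, inferInstance, ?_, ?_, hmk, hcl, ?_, ?_, ?_⟩
  · refine repWith_comp ((repWith_yon_map_iff _ j).2 ?_) (Core.flat_of_etale ha.etale)
    exact Unram.BaseChangeNhd.flat_fromSpecStalk u
  · rw [Core.ofPt_map_comp]
    exact (congrArg (Points.ofPt a) (U.left.fromSpecStalk_closedPoint)).trans ha.ofPt_eq
  · have top : IsPullback ((AlgSp.yon S).map t) (𝟙 _) ((AlgSp.yon S).map j) ((AlgSp.yon S).map ι) := by
      have h1 : IsPullback t (𝟙 q.pt) (𝟙 (Over.mk (U.left.fromSpecStalk u ≫ U.hom))) t :=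
        IsPullback.of_vert_isIso ⟨by simp⟩
      have h2 := h1.paste_horiz (IsKernelPair.id_of_mono j)
      rw [Category.comp_id, htj] at h2
      exact isPullback_yon h2
    have := top.paste_vert sqι
    rwa [Category.id_comp] at this
  · intro I hI n hn Zn iZ hZn P fst snd sq
    let E₀ : EtOver X.obj := EtOver.mk a ha.etale
    obtain ⟨hiZ, hpow⟩ := hZn
    have hZn' : IsCutOutBy (I ^ n) iZ := ⟨hiZ, hpow⟩
    let m : hiZ.rep.pullback a ⟶ U := hiZ.rep.snd a
    let n₂ := hiZ.rep.fst a
    have sqn : IsPullback n₂ ((AlgSp.yon S).map m) iZ a := hiZ.rep.isPullback a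
    have : IsClosedImmersion m.left := repWith_property hiZ sqn
    have hrange : Set.range m.left = {u} := by
      have r1 := range_eq_zeroLocus hZn' E₀ hU sqn
      have r2 := range_eq_zeroLocus hI E₀ hU sqι.flip
      rw [AlgSp.IdealEt.pow_ideal, zeroLocus_pow _ hn] at r1
      rw [r1]
      exact r2.symm.trans (U.left.range_fromSpecResidueField u)
    have : IsAffine (hiZ.rep.pullback a).left := isAffine_of_isAffineHom m.left
    have : Subsingleton ↥(hiZ.rep.pullback a).left := ⟨fun x y => m.left.injective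
      ((hrange.le ⟨x, rfl⟩ : m.left x = u).trans (hrange.le ⟨y, rfl⟩ : m.left y = u).symm)⟩
    obtain ⟨e, he⟩ := hrange.ge (Set.mem_singleton u)
    obtain ⟨l₀, hl₀⟩ := exists_lift_fromSpecStalk m.left e he
    let l : hiZ.rep.pullback a ⟶ Over.mk (U.left.fromSpecStalk u ≫ U.hom) := Over.homMk l₀ (by
      show l₀ ≫ U.left.fromSpecStalk u ≫ U.hom = (hiZ.rep.pullback a).hom
      rw [reassoc_of% hl₀, Over.w m])
    have hlj : l ≫ j = m := Over.OverMorphism.ext hl₀
    have topl : IsPullback ((AlgSp.yon S).map l) (𝟙 _) ((AlgSp.yon S).map j) ((AlgSp.yon S).map m) := by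
      have h1 : IsPullback l (𝟙 _) (𝟙 (Over.mk (U.left.fromSpecStalk u ≫ U.hom))) l :=
        IsPullback.of_vert_isIso ⟨by simp⟩
      have h2 := h1.paste_horiz (IsKernelPair.id_of_mono j)
      rw [Category.comp_id, hlj] at h2
      exact isPullback_yon h2
    have sqQ := topl.paste_vert sqn.flip
    rw [Category.id_comp] at sqQ
    let eP := sq.isoIsPullback _ _ sqQ
    have hsnd : eP.hom ≫ n₂ = snd := sq.isoIsPullback_hom_snd _ _ sqQ
    have het : RepWith @Etale n₂ := repWith_baseChange sqn.flip ha.etale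
    have hsurj : Function.Surjective (Points.map n₂) := by
      intro x
      by_cases hx : Points.map iZ x = z
      · obtain ⟨w, hw, -⟩ := Core.exists_point_of_isPullback sqn x (Points.ofScheme U u)
          (by rw [hx, Core.map_ofScheme, ha.ofPt_eq])
        exact ⟨w, hw⟩
      exfalso
      obtain ⟨V₀, b₀, hb₀, hb₀s⟩ := hX.atlas
      obtain ⟨v, hv⟩ := Core.surjective_ofPt hb₀s (Points.map iZ x)
      obtain ⟨O, hO, hvO, hOz⟩ := exists_isAffineOpen_mem_and_subset
        (U := ⟨(Points.ofPt b₀ ⁻¹' {z})ᶜ, (hz.preimage (Points.continuous_ofPt b₀)).isOpen_compl⟩)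
        (show v ∈ (Points.ofPt b₀ ⁻¹' {z})ᶜ from fun h => hx (hv ▸ h))
      let V : Over S := Over.mk (O.ι ≫ V₀.hom)
      let ιV : V ⟶ V₀ := Over.homMk O.ι rfl
      let b : (AlgSp.yon S).obj V ⟶ X.obj := (AlgSp.yon S).map ιV ≫ b₀
      have hb : RepWith @Etale b := repWith_comp (repWith_etale_yon_map (inferInstanceAs (Etale O.ι))) hb₀
      have hVaff : IsAffine V.left := hO
      have hVz : ∀ w : ↥V.left, Points.ofPt b w ≠ z := fun w h => hOz w.2 ((Core.ofPt_map_comp ιV b₀ w).symm.trans h)
      let Eb : EtOver X.obj := EtOver.mk b hb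
      let k := hcl.rep.snd b
      have sk := hcl.rep.isPullback b
      have hk : Set.range k.left = ∅ := by
        rw [Set.range_eq_empty_iff]
        refine ⟨fun w => hVz (k.left w) ?_⟩
        rw [← Core.ofPt_map_comp, ← sk.w, Core.ofPt_comp]
        obtain ⟨t', ht'⟩ := (Points.schemeEquiv q.pt).surjective (Points.ofPt (hcl.rep.fst b) w)
        rw [← ht']
        show Points.map q.toHom (Points.ofScheme q.pt t') = z
        rw [Core.map_ofScheme, Points.ofPt_toHom, hmk]
      have r2 := range_eq_zeroLocus hI Eb hVaff sk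
      have r1 := range_eq_zeroLocus hZn' Eb hVaff (hiZ.rep.isPullback b)
      rw [AlgSp.IdealEt.pow_ideal, zeroLocus_pow _ hn, ← r2, hk] at r1
      obtain ⟨w, -, hw⟩ := Core.exists_point_of_isPullback (hiZ.rep.isPullback b) x (Points.ofScheme V ⟨v, hvO⟩)
        (by rw [Core.map_ofScheme, Core.ofPt_map_comp]; exact hv.symm)
      obtain ⟨w', hw'⟩ := (Points.schemeEquiv _).surjective w
      exact r1.le ⟨w', rfl⟩
    have : Mono n₂ := by
      obtain ⟨D, d₁, d₂, sqD⟩ := exists_isPullback_yon (isAlgSpace_of_representable hiZ.rep hX).diag n₂ n₂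
      obtain ⟨δ, hδ⟩ := (AlgSp.yon S).map_surjective (sqD.lift (𝟙 _) (𝟙 _) rfl)
      have hδ₁ : δ ≫ d₁ = 𝟙 _ := (AlgSp.yon S).map_injective (by
        rw [Functor.map_comp, hδ, sqD.lift_fst, CategoryTheory.Functor.map_id])
      have hδ₂ : δ ≫ d₂ = 𝟙 _ := (AlgSp.yon S).map_injective (by
        rw [Functor.map_comp, hδ, sqD.lift_snd, CategoryTheory.Functor.map_id])
      have : Etale d₁.left := repWith_property het sqD.flip
      have h2 : δ.left ≫ d₁.left = 𝟙 _ := congrArg Over.Hom.left hδ₁
      have : Etale (δ.left ≫ d₁.left) := by rw [h2]; infer_instance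
      have : Etale δ.left := Etale.of_comp δ.left d₁.left
      have : Mono (δ.left ≫ d₁.left) := by rw [h2]; infer_instance
      have : Mono δ.left := mono_of_mono δ.left d₁.left
      have : IsOpenImmersion δ.left := IsOpenImmersion.of_flat_of_mono δ.left
      have : Surjective δ.left := by
        refine ⟨fun x => ⟨d₁.left x, ?_⟩⟩
        let T : Over S := Over.mk (D.left.fromSpecResidueField x ≫ D.hom)
        let τ : T ⟶ D := Over.homMk (D.left.fromSpecResidueField x) rfl
        have hpt : ∀ d : D ⟶ hiZ.rep.pullback a, ∃ c : T ⟶ q.pt, c ≫ ι = τ ≫ d ≫ m := by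
          intro d
          obtain ⟨ρ, hρ⟩ := H46.UnivOpenTrdeg.exists_residue_factor (K := D.left.residueField x)
            (τ.left ≫ (d ≫ m).left) u
            (by
              rw [Scheme.Hom.comp_apply]
              show m.left (d.left _) = u
              exact hrange.le ⟨_, rfl⟩)
          exact ⟨Over.homMk (Spec.map ρ) (by
            show Spec.map ρ ≫ U.left.fromSpecResidueField u ≫ U.hom = T.hom
            rw [reassoc_of% hρ, Over.w (d ≫ m)]
            exact Over.w τ), Over.OverMorphism.ext hρ⟩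
        obtain ⟨c₁, hc₁⟩ := hpt d₁
        obtain ⟨c₂, hc₂⟩ := hpt d₂
        have hc : c₁ = c₂ := (AlgSp.yon S).map_injective ((cancel_mono q.toHom).1 (by
          simp only [← hι]
          rw [← Functor.map_comp_assoc, ← Functor.map_comp_assoc, hc₁, hc₂]
          simp only [Functor.map_comp, Category.assoc, ← sqn.w]
          rw [reassoc_of% sqD.w]))
        have hd : τ.left ≫ d₁.left = τ.left ≫ d₂.left := by
          rw [← cancel_mono m.left]
          have := congrArg Over.Hom.left (hc₁.symm.trans ((congrArg (· ≫ ι) hc).trans hc₂))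
          simpa only [Over.comp_left, Category.assoc] using this
        have hτd : τ ≫ d₁ ≫ δ = τ := by
          refine (AlgSp.yon S).map_injective (sqD.hom_ext ?_ ?_)
          · simp only [← Functor.map_comp, Category.assoc, hδ₁, Category.comp_id]
          · simp only [← Functor.map_comp, Category.assoc, hδ₂, Category.comp_id]
            exact congrArg _ (Over.OverMorphism.ext hd)
        have := congrArg (fun g : T ⟶ D => g.left (IsLocalRing.closedPoint (D.left.residueField x))) hτd
        simp only [Over.comp_left, Scheme.Hom.comp_apply] at this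
        erw [Scheme.fromSpecResidueField_apply] at this
        exact this
      have : IsIso ((Over.forget S).map δ) :=
        (show IsIso δ.left from (isIso_iff_isOpenImmersion_and_surjective _).2 ⟨inferInstance, inferInstance⟩)
      have : IsIso δ := isIso_of_reflects_iso δ (Over.forget S)
      have hd : d₁ = d₂ := by rw [← cancel_epi δ, hδ₁, hδ₂]
      refine ⟨fun g g' h => ?_⟩
      exact (sqD.lift_fst g g' h).symm.trans
        ((congrArg (fun d => sqD.lift g g' h ≫ (AlgSp.yon S).map d) hd).trans (sqD.lift_snd g g' h))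
    have := isIso_of_etale_surjective_mono n₂ het hsurj
    rw [← hsnd]
    infer_instance
  · exact ⟨U, a, u, ha.etale, ha.ofPt_eq, rfl⟩

end Groth.Agent.S14987
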