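import Groth.Statements.S14988
import Groth.Agent.Lib.TensorMod.LocFree
import Mathlib.CategoryTheory.Functor.EpiMono

set_option autoImplicit false
universe u
open CategoryTheory CategoryTheory.Limits AlgebraicGeometry
open ResProp

namespace Groth.Agent.S14988

/-- In the case of schemes, let f : X ⟶ Y be a morphism of quasi-compact quasi-separated schemes. If
every quasi-coherent module on Y is a quotient of a direct sum of finite locally free modules (Y has
the resolution property) and some family (W_i) of finite locally free modules on X is f-generating,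
i.e. every quasi-coherent module on X is a quotient of a direct sum of modules W_i ⊗ f^*N with N
quasi-coherent on Y, then every quasi-coherent module on X is a quotient of a direct sum of finite
locally free modules (X has the resolution property). (The published statement is for quasi-compact
quasi-separated morphisms of algebraic stacks and assumes the family universally f-generating; this
row is the case of schemes and assumes the family only f-generating, which is what the argument
uses.) -/
theorem result {X Y : Scheme.{u}}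
    [CompactSpace X] [QuasiSeparatedSpace X] [CompactSpace Y] [QuasiSeparatedSpace Y] (f : X ⟶ Y)
    (hY : ∀ N : Y.Modules, Coh.IsQCoh N →
      ∃ (κ : Type u) (V : κ → Y.Modules) (π : (∐ V) ⟶ N), (∀ k, FlatMod.IsFinLocFree (V k)) ∧ Epi π)
    {ι : Type u} (W : ι → X.Modules) (hW : ∀ i, FlatMod.IsFinLocFree (W i))
    (hf : ∀ M : X.Modules, Coh.IsQCoh M →
      ∃ (κ : Type u) (j : κ → ι) (N : κ → Y.Modules)
        (π : (∐ fun k => CohB1.tensorMod (W (j k)) ((Scheme.Modules.pullback f).obj (N k))) ⟶ M),
        (∀ k, Coh.IsQCoh (N k)) ∧ Epi π) :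
    ∀ M : X.Modules, Coh.IsQCoh M →
      ∃ (κ : Type u) (E : κ → X.Modules) (π : (∐ E) ⟶ M), (∀ k, FlatMod.IsFinLocFree (E k)) ∧ Epi π := by
  classical
  intro M hM
  obtain ⟨κ, j, N, π, hN, hπ⟩ := hf M hM
  choose κ' V π' hV hπ' using fun k => hY (N k) (hN k)
  let F (k : κ) : Y.Modules ⥤ X.Modules :=
    Lib.TensorMod.Pullback.pb f ⋙ (Lib.TensorMod.Basic.tensorFunctor X).obj (W (j k))
  let E (p : Σ k, κ' k) : X.Modules := (F p.1).obj (V p.1 p.2)
  let q (k : κ) : (F k).obj (N k) ⟶ M :=
    Sigma.ι (fun k => CohB1.tensorMod (W (j k)) ((Scheme.Modules.pullback f).obj (N k))) k ≫ π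
  let g (p : Σ k, κ' k) : E p ⟶ M :=
    (F p.1).map (Sigma.ι (V p.1) p.2 ≫ π' p.1) ≫ q p.1
  refine ⟨_, E, Sigma.desc g, fun p => ?_, ⟨fun {Z} a b h => ?_⟩⟩
  · exact Lib.TensorMod.LocFree.isFinLocFree_tensorMod (hW _)
      (Lib.TensorMod.LocFree.isFinLocFree_pullback f (hV p.1 p.2))
  · rw [← cancel_epi π]
    refine Sigma.hom_ext _ _ fun k => ?_
    have : PreservesColimitsOfSize.{u, u} (Lib.TensorMod.Pullback.pb f) :=
      (Lib.TensorMod.Pullback.pbAdj f).leftAdjoint_preservesColimits
    have h1 : PreservesColimitsOfSize.{u, u} (F k) := inferInstance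
    have h2 : PreservesColimitsOfSize.{0, 0} (F k) := preservesSmallestColimits_of_preservesColimits _
    have := hπ' k
    have : Epi ((F k).map (π' k)) := inferInstance
    suffices q k ≫ a = q k ≫ b from (Category.assoc _ _ _).symm.trans (this.trans (Category.assoc _ _ _))
    refine (cancel_epi ((F k).map (π' k))).1 ?_
    refine (isColimitCofanMkObjOfIsColimit (F k) _ _ (coproductIsCoproduct (V k))).hom_ext fun ⟨l⟩ => ?_
    have hl : g ⟨k, l⟩ ≫ a = g ⟨k, l⟩ ≫ b := by
      have := congrArg (fun t => Sigma.ι E ⟨k, l⟩ ≫ t) h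
      simpa only [Sigma.ι_desc_assoc] using this
    simp only [g, Functor.map_comp, Category.assoc] at hl
    exact hl

end Groth.Agent.S14988
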