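import Groth.Statements.S14989
import Groth.Agent.Lib.FlatQuot36.Basic
import Groth.Agent.Lib.ResDescend36.Affine
import Mathlib.RingTheory.Flat.TorsionFree

set_option autoImplicit false
universe u
open CategoryTheory CategoryTheory.Limits AlgebraicGeometry
open ResProp

namespace Groth.Agent.S14989

open Groth.Agent.Lib Groth.Agent.Lib.Modules.SubStalk Groth.Agent.Lib.Modules.StalkModule

/-- In the case of schemes, on a Noetherian integral scheme Y with affine diagonal (any two affine opens
meet in an affine open) every coherent module is a quotient of a torsion-free coherent module,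
torsion-freeness meaning that each stalk is a torsion-free module over the local ring. (The
published statement is for Noetherian integral algebraic stacks with affine diagonal; this row is
the case of schemes.) -/
theorem result (Y : Scheme.{u}) [IsNoetherian Y] [IsIntegral Y]
    (hd : ∀ V W : Y.Opens, IsAffineOpen V → IsAffineOpen W → IsAffineOpen (V ⊓ W))
    (F : Y.Modules) (hF : Coh.IsCoh F) :
    ∃ (F' : Y.Modules) (π : F' ⟶ F), Coh.IsCoh F' ∧
      (∀ y : Y, NoZeroSMulDivisors ↥(Y.presheaf.stalk y) ↥(F'.presheaf.stalk y)) ∧ Epi π := by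
  classical
  haveI : F.IsQuasicoherent := hF.1
  obtain ⟨Q, p, hQ, hQf, hp⟩ := FlatQuot36.Basic.exists_flat_quotient hd F
  haveI := hQ
  haveI := hp
  have hfin : ∀ V : Y.affineOpens, ∃ (n : ℕ) (t : Fin n → Γ(Q, V.1)),
      Submodule.span Γ(Y, V.1) (Set.range fun i => p.app V.1 (t i)) = ⊤ := fun V => by
    haveI := CohBasics.Closure.finite_sections (M := F) hF V.2
    obtain ⟨n, g, hg⟩ := Module.Finite.exists_fin (R := Γ(Y, V.1)) (M := Γ(F, V.1))
    choose t ht using fun i => QCoh.Closure.sections_surjective_of_epi p V.2 (g i)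
    exact ⟨n, t, by rw [funext ht]; exact hg⟩
  choose n t ht using hfin
  obtain ⟨s, hs, hcov⟩ := isCompact_and_isOpen_iff_finite_and_eq_biUnion_affineOpens.mp
    (⟨isCompact_univ, isOpen_univ⟩ : IsCompact (Set.univ : Set Y) ∧ IsOpen (Set.univ : Set Y))
  obtain ⟨S, hS, hmem⟩ := ResDescend36.Affine.exists_family_finset Q hs.toFinset n t
  refine ⟨subMod S, ι S ≫ p, ⟨isQCoh_subMod hS, isFT_subMod hS⟩, fun y => ?_, ?_⟩
  · haveI : Module.Flat (Y.presheaf.stalk y) (Q.presheaf.stalk y) := hQf y
    haveI : Module.IsTorsionFree (Y.presheaf.stalk y) (Q.presheaf.stalk y) := inferInstance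
    have hi : Function.Injective (stalkMapₗ (ι S) y) :=
      (Modules.Stalk.mono_iff_stalk_injective (ι S)).1 inferInstance y
    refine ⟨fun {c v} h => ?_⟩
    have h' : c • stalkMapₗ (ι S) y v = 0 := by rw [← map_smul, h, map_zero]
    exact (smul_eq_zero.1 h').imp id fun hv => hi (hv.trans (map_zero _).symm)
  · refine (Modules.Stalk.epi_iff_stalk_surjective (ι S ≫ p)).2 fun y (v : F.presheaf.stalk y) => ?_
    obtain ⟨V, hV, hyV⟩ := Set.mem_iUnion₂.mp (hcov ▸ Set.mem_univ y)
    have htop := CohBasics.Affine.germ_span_eq_top V.2 _ (ht V) hyV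
    suffices hr : Submodule.span (Y.presheaf.stalk y)
        (F.presheaf.germ V.1 y hyV '' Set.range fun i => p.app V.1 (t V i)) ≤
          LinearMap.range (stalkMapₗ (ι S ≫ p) y) by
      obtain ⟨w, hw⟩ := hr (htop.ge (Submodule.mem_top (x := v)))
      exact ⟨w, hw⟩
    rw [Submodule.span_le]
    rintro _ ⟨_, ⟨i, rfl⟩, rfl⟩
    obtain ⟨g, hg⟩ := exists_ι_app (hmem V (hs.mem_toFinset.2 hV) i)
    refine ⟨(subMod S).presheaf.germ V.1 y hyV g, (stalkMapₗ_germ (ι S ≫ p) hyV _).trans ?_⟩
    congr 1
    exact congrArg (p.app V.1) hg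

end Groth.Agent.S14989
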