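import Groth.Statements.S1499
import Groth.Agent.H22.AmpleFamily

set_option autoImplicit false
universe u
attribute [local instance] HasDerivedCategory.standard
open FlatMor

namespace Groth.Agent.S1499

open AlgebraicGeometry CategoryTheory Limits in
/-- Let f : X → Y with Y having an ample family of invertible modules, and suppose some O_X-module is
ample relative to f. Then X has an ample family of invertible modules. -/
theorem result {X Y : Scheme.{u}} (f : X ⟶ Y)
    (hY : MoreMor.HasAmpleFamily Y) (L : X.Modules) (hL : RelAmple.IsRelAmple f L) :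
    MoreMor.HasAmpleFamily X := by
  open Groth.Agent.Lib Groth.Agent.Lib.Ample Groth.Agent.Lib.Ample.GenLocus Groth.Agent.Lib.Ample.Pow in
  open Groth.Agent.Lib.TensorMod Groth.Agent.Lib.TensorMod.Pullback in
  obtain ⟨hq, hA⟩ := (Ample.RelAmple.isRelAmple_iff f).1 hL
  haveI := hq
  haveI := hY.1
  haveI : CompactSpace X := QuasiCompact.compactSpace_of_compactSpace f
  have hLi := Ample.RelAmple.isInvertible_of_isRelAmple hL
  choose M n s hM hn hy hs using hY.2
  let G : Y → Y.Opens := fun y => CohB1.genLocus _ (s y)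
  haveI : QuasiSeparatedSpace X := by
    refine QuasiSeparatedSpace.of_isOpenCover (U := fun y => f ⁻¹ᵁ G y)
      (top_le_iff.1 fun x _ => TopologicalSpace.Opens.mem_iSup.2 ⟨f x, hy (f x)⟩) (fun y => ?_) fun y => ?_
    · haveI : IsAffineHom (G y).ι :=
        isAffineHom_genLocus (Invertible.isInvertible_tensorPow (hM y) (n y)) (s y)
      haveI : QuasiCompact (f ⁻¹ᵁ G y).ι :=
        MorphismProperty.of_isPullback (P := @QuasiCompact) (isPullback_morphismRestrict f (G y))
          (inferInstance : QuasiCompact (G y).ι)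
      exact IsRetrocompact_iff_isSpectralMap_subtypeVal.mpr (f ⁻¹ᵁ G y).ι.isSpectralMap
    · exact (isQuasiSeparated_iff_quasiSeparatedSpace _ (f ⁻¹ᵁ G y).isOpen).2
        (Ample.Pullback.quasiSeparatedSpace_of_isAmple (hA _ (hs y)))
  refine ⟨inferInstance, fun x => ?_⟩
  let y := f x
  let P := (pb f).obj (CohB1.tensorPow (M y) (n y))
  have hP : PicF.IsInvertible P :=
    PicLoc.isInvertible_pullback f (Invertible.isInvertible_tensorPow (hM y) (n y))
  let σ := (PicLoc.pullbackStructureIso f).symm.hom ≫ (pb f).map (s y)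
  have hloc : CohB1.genLocus P σ = f ⁻¹ᵁ G y :=
    genLocus_pullback f (Invertible.isInvertible_tensorPow (hM y) (n y)) (s y) _
  let G' := CohB1.genLocus P σ
  have hAG : CohB1.IsAmple ((pb G'.ι).obj L) :=
    Ample.Restrict.isAmple_pb_of_range_eq (f ⁻¹ᵁ G y).ι G'.ι
      (by simp only [Scheme.Opens.range_ι, G']; rw [hloc]) (hA _ (hs y))
  obtain ⟨m, hm, t, hxt, ht⟩ := (Ample.Pow.isAmple_iff.1 hAG).2.2 ⟨x, hloc.ge (hy (f x))⟩
  let e₀ := (pullbackPow G'.ι L m).symm ≪≫
    ((Scheme.Modules.restrictFunctorIsoPullback G'.ι).app (CohB1.tensorPow L m)).symm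
  have hLm := Invertible.isInvertible_tensorPow hLi m
  obtain ⟨k, -, u, hu⟩ := Ample.Restrict.exists_sec_extend hLm hP σ (t ≫ e₀.hom)
  rw [genLocus_comp_iso] at hu
  have hinv := Invertible.isInvertible_tensorMod
    (Invertible.isInvertible_tensorMod hLm (Invertible.isInvertible_tensorPow hP k)) hP
  refine ⟨_, 1, u ≫ (powOne _).symm.hom, hinv, le_rfl, ?_, ?_⟩
  · rw [genLocus_comp_iso, hu]; exact ⟨⟨x, hloc.ge (hy (f x))⟩, hxt, rfl⟩
  · rw [genLocus_comp_iso, hu]; exact ht.image_of_isOpenImmersion G'.ι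

end Groth.Agent.S1499
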