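import Groth.Statements.S14991
import Groth.Agent.Lib.Flat55.LocFreeExtend

set_option autoImplicit false
universe u
open CategoryTheory CategoryTheory.Limits AlgebraicGeometry
open ResProp

namespace Groth.Agent.S14991

/-- In the case of schemes, let X be an integral scheme of dimension 2, separated and of finite type
over a field k and regular in codimension 1, F a coherent module on X, and p ≠ q regular closed
points of X near each of which F is finite locally free. If F restricted to X minus q and F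
restricted to X minus p are both quotients of finite locally free modules, then F is a quotient of a
finite locally free module on X. (The published statement is for algebraic spaces and also assumes F
locally free off a closed subset of codimension 2, an assumption the argument does not use; this row
is the case of schemes without it.) -/
theorem result {k : Type u} [Field k] (X : Scheme.{u})
    [X.Over (Spec (CommRingCat.of k))] [IsIntegral X] [IsSeparated (X ↘ Spec (CommRingCat.of k))]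
    [LocallyOfFiniteType (X ↘ Spec (CommRingCat.of k))] [QuasiCompact (X ↘ Spec (CommRingCat.of k))]
    (hdim : topologicalKrullDim ↥X = 2)
    (hR1 : ∀ x : X, ringKrullDim ↥(X.presheaf.stalk x) ≤ 1 → IsRegularLocalRing ↥(X.presheaf.stalk x))
    (F : X.Modules) (hF : Coh.IsCoh F) (p q : X) (hpq : p ≠ q)
    (hp : IsClosed ({p} : Set X)) (hq : IsClosed ({q} : Set X))
    (hpreg : IsRegularLocalRing ↥(X.presheaf.stalk p)) (hqreg : IsRegularLocalRing ↥(X.presheaf.stalk q))
    (hFp : ∃ W : X.Opens, p ∈ W ∧ FlatMod.IsFinLocFree (F.restrict W.ι))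
    (hFq : ∃ W : X.Opens, q ∈ W ∧ FlatMod.IsFinLocFree (F.restrict W.ι))
    (Up Uq : X.Opens) (hUp : (Up : Set X) = {p}ᶜ) (hUq : (Uq : Set X) = {q}ᶜ)
    (hp' : ∃ (E : (↑Up : Scheme.{u}).Modules) (π : E ⟶ F.restrict Up.ι), FlatMod.IsFinLocFree E ∧ Epi π)
    (hq' : ∃ (E : (↑Uq : Scheme.{u}).Modules) (π : E ⟶ F.restrict Uq.ι), FlatMod.IsFinLocFree E ∧ Epi π) :
    ∃ (E : X.Modules) (π : E ⟶ F), FlatMod.IsFinLocFree E ∧ Epi π := by
  haveI : IsLocallyNoetherian X :=
    LocallyOfFiniteType.isLocallyNoetherian (X ↘ Spec (CommRingCat.of k))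
  have hd : ∀ z : X, IsClosed ({z} : Set X) → ringKrullDim (X.presheaf.stalk z) = 2 := fun z hz => by
    rw [Groth.Agent.Lib.AffineCompl.Dim.ringKrullDim_stalk_of_isClosed
      (X ↘ Spec (CommRingCat.of k)) hz, hdim]
  have hmem : ∀ (r : X) (U : X.Opens), (U : Set X) = {r}ᶜ → ∀ x : X, x ∉ U → x = r := by
    intro r U hU x hx
    by_contra hne
    exact hx (show x ∈ (U : Set X) by rw [hU]; exact hne)
  obtain ⟨E₁, π₁, hE₁, _⟩ := hp'
  obtain ⟨E₂, π₂, hE₂, _⟩ := hq'
  obtain ⟨G₁, φ₁, hG₁, hs₁⟩ := Groth.Agent.Lib.Flat55.LocFreeExtend.exists_extend Up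
    (fun x hx => by rw [hmem p Up hUp x hx]; exact ⟨hpreg, hd p hp⟩) F
    (fun x hx => by rw [hmem p Up hUp x hx]; exact hFp) E₁ hE₁ π₁
  obtain ⟨G₂, φ₂, hG₂, hs₂⟩ := Groth.Agent.Lib.Flat55.LocFreeExtend.exists_extend Uq
    (fun x hx => by rw [hmem q Uq hUq x hx]; exact ⟨hqreg, hd q hq⟩) F
    (fun x hx => by rw [hmem q Uq hUq x hx]; exact hFq) E₂ hE₂ π₂
  refine ⟨G₁ ⨿ G₂, coprod.desc φ₁ φ₂,
    Groth.Agent.Lib.TensorMod.LocFree.isFinLocFree_biprod hG₁ hG₂, ?_⟩
  refine (Groth.Agent.Lib.Modules.Stalk.epi_iff_stalk_surjective _).mpr fun x => ?_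
  have key : ∀ (G : X.Modules) (j : G ⟶ G₁ ⨿ G₂) (φ : G ⟶ F), j ≫ coprod.desc φ₁ φ₂ = φ →
      Function.Surjective (Groth.Agent.Lib.Modules.StalkModule.stalkMapₗ φ x) →
      Function.Surjective
        (Groth.Agent.Lib.Modules.StalkModule.stalkMapₗ (coprod.desc φ₁ φ₂) x) := by
    intro G j φ hφ hs w
    obtain ⟨v, hv⟩ := hs w
    refine ⟨Groth.Agent.Lib.Modules.StalkModule.stalkMapₗ j x v, ?_⟩
    rw [← hv, ← hφ, Groth.Agent.Lib.Modules.StalkModule.stalkMapₗ_comp]
    rfl
  by_cases hx : x ∈ Up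
  · exact key G₁ coprod.inl φ₁ (coprod.inl_desc _ _) (hs₁ x hx)
  · refine key G₂ coprod.inr φ₂ (coprod.inr_desc _ _) (hs₂ x ?_)
    rw [hmem p Up hUp x hx]
    show p ∈ (Uq : Set X)
    rw [hUq]
    exact hpq

end Groth.Agent.S14991
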