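import Groth.Statements.S14994
import Mathlib

set_option autoImplicit false
universe u
open CAlg

namespace Groth.Agent.S14994

/-- Let A be a Noetherian integrally closed domain, M a finitely generated torsion-free A-module, N a
submodule of M and ι : M → M** the canonical map to the double dual. Write N** → M** for the double
dual of the inclusion N → M. Then every m ∈ M whose image ι(m) lies in the image of N** is a torsion
element modulo N: some nonzero a ∈ A satisfies a·m ∈ N. In other words the preimage of N** under ι
is contained in the saturation of N in M (the preimage of the torsion submodule of M/N), and the two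
coincide when M/N is torsion-free. (The published statement asserts equality of the preimage with
the saturation for every N; for N = xA inside M = A = k[x] the saturation is all of M while N** has
image xA = N under the identification M** = M, so only the inclusion stated here holds, and it is
the inclusion later used, for saturated N, where the two sides agree.) -/
theorem result (A : Type u) [CommRing A] [IsDomain A]
    [IsNoetherianRing A] [IsIntegrallyClosed A]
    (M : Type u) [AddCommGroup M] [Module A M] [Module.Finite A M] [NoZeroSMulDivisors A M]
    (N : Submodule A M) :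
    (LinearMap.range N.subtype.dualMap.dualMap).comap (Module.Dual.eval A M) ≤
      (Submodule.torsion A (M ⧸ N)).comap N.mkQ := by
  classical
  intro x hx
  rw [Submodule.mem_comap] at hx ⊢
  by_contra hnt
  set K := FractionRing A
  let Q := M ⧸ N
  let j := TensorProduct.mk A K Q 1
  haveI : IsLocalizedModule (nonZeroDivisors A) j := inferInstance
  have hj : j (N.mkQ x) ≠ 0 := by
    intro h
    obtain ⟨c, hc⟩ := (IsLocalizedModule.eq_zero_iff (nonZeroDivisors A) j).1 h
    exact hnt ((Submodule.mem_torsion_iff _).2 ⟨c, hc⟩)
  obtain ⟨g, hg⟩ : ∃ g : Module.Dual K (TensorProduct A K Q), g (j (N.mkQ x)) ≠ 0 := by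
    by_contra! h
    exact hj ((Module.forall_dual_apply_eq_zero_iff K _).1 h)
  let h0 : M →ₗ[A] K := (g.restrictScalars A) ∘ₗ j ∘ₗ N.mkQ
  obtain ⟨t, ht⟩ := Module.Finite.fg_top (R := A) (M := M)
  obtain ⟨b, hb⟩ := IsLocalization.exist_integer_multiples_of_finset (nonZeroDivisors A) (t.image h0)
  have hrange : ∀ m, (b : A) • h0 m ∈ LinearMap.range (Algebra.linearMap A K) := by
    intro m
    have hm : m ∈ Submodule.span A (t : Set M) := ht ▸ Submodule.mem_top
    induction hm using Submodule.span_induction with
    | mem z hz => obtain ⟨r, hr⟩ := hb _ (Finset.mem_image_of_mem h0 hz); exact ⟨r, hr⟩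
    | zero => simp
    | add u v _ _ hu hv => rw [map_add, smul_add]; exact add_mem hu hv
    | smul c u _ hu => rw [map_smul, smul_comm]; exact Submodule.smul_mem _ _ hu
  let e := LinearEquiv.ofInjective (Algebra.linearMap A K) (IsFractionRing.injective A K)
  let f : M →ₗ[A] A := e.symm.toLinearMap ∘ₗ LinearMap.codRestrict _ ((b : A) • h0) hrange
  have hef : ∀ m, algebraMap A K (f m) = (b : A) • h0 m := fun m => by
    have := congrArg Subtype.val (e.apply_symm_apply ⟨(b : A) • h0 m, hrange m⟩)
    exact this
  obtain ⟨φ, hφ⟩ := hx
  have hf : f ∘ₗ N.subtype = 0 := by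
    ext y
    apply IsFractionRing.injective A K
    show algebraMap A K (f (y : M)) = algebraMap A K 0
    rw [hef, map_zero]
    have : N.mkQ (y : M) = 0 := (Submodule.Quotient.mk_eq_zero N).2 y.2
    simp [h0, this]
  have h2 := LinearMap.congr_fun hφ f
  rw [LinearMap.dualMap_apply, LinearMap.dualMap_apply', hf, map_zero, Module.Dual.eval_apply] at h2
  have h3 := hef x
  rw [← h2, map_zero, Algebra.smul_def, eq_comm, mul_eq_zero] at h3
  rcases h3 with h3 | h3
  · exact nonZeroDivisors.ne_zero b.2 ((map_eq_zero_iff _ (IsFractionRing.injective A K)).1 h3)
  · exact hg h3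

end Groth.Agent.S14994
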