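import Groth.Statements.S14995
import Groth.Agent.H18.ZClos.DepthCrit
import Groth.Agent.H18.ZClos.Criteria

set_option autoImplicit false
universe u
open CategoryTheory CategoryTheory.Limits AlgebraicGeometry
open Coherent

namespace Groth.Agent.S14995

open CategoryTheory AlgebraicGeometry in
/-- The unit of a restriction is invertible on modules of depth at least two outside the open. -/
theorem isIso_unit {Y : Scheme.{u}} [IsLocallyNoetherian Y] {E : Y.Modules} (hE : Coh.IsCoh E) (U : Y.Opens)
    (hd : ∀ y : Y, y ∉ U → (2 : ℕ∞) ≤ LocCoh.depth (Y.presheaf.stalk y) (E.presheaf.stalk y)) :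
    IsIso ((Scheme.Modules.restrictAdjunction U.ι).unit.app E) := by
  let Z : Set Y := (U : Set Y)ᶜ
  have hZ : StableUnderSpecialization Z := U.2.isClosed_compl.stableUnderSpecialization
  haveI := hE.1
  have hc : _root_.ZClos.IsZClosed Z E := (Lib.Modules.Stalk.isIso_iff_stalk_bijective _).2 fun x =>
    (H18.ZClos.isZClosedAt_iff hZ hE x).2 fun x' _ hx' => hd x' hx'
  let T : _root_.ZClos.Cl Z := ⟨⟨(U : Set Y)ᶜ, U.2.isClosed_compl⟩, le_rfl⟩
  have hT : T.U = U := TopologicalSpace.Opens.ext (compl_compl _)
  have key : IsIso (_root_.ZClos.toDiagram Z E T) := (Lib.Modules.Stalk.isIso_iff_app_bijective _).2 fun V =>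
    H18.ZClos.bijective_res_img.2 (H18.ZClos.isZClosed_iff.1 hc V T)
  change IsIso ((_root_.ZClos.resPushUnit U).app E)
  rw [← hT]
  exact key


/-- Let Y be a locally Noetherian scheme, E and F coherent O_Y-modules and U an open subset of Y such
that for every point y of Y outside U the stalk E_y has depth at least 2 as a module over the local
ring O_{Y,y}. Then restricting morphisms to U is a bijection from Hom(F, E) onto Hom(F|_U, E|_U).
(The published statement is the case F = E; this row allows any coherent F.) -/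
theorem result (Y : Scheme.{u}) [IsLocallyNoetherian Y]
    (E F : Y.Modules) (hE : Coh.IsCoh E) (hF : Coh.IsCoh F) (U : Y.Opens)
    (hdepth : ∀ y : Y, y ∉ U → (2 : ℕ∞) ≤ LocCoh.depth (Y.presheaf.stalk y) (E.presheaf.stalk y)) :
    Function.Bijective (fun φ : F ⟶ E => (Scheme.Modules.restrictFunctor U.ι).map φ) := by
  haveI := isIso_unit hE U hdepth
  let adj := Scheme.Modules.restrictAdjunction U.ι
  have h : ∀ φ : F ⟶ E, adj.homEquiv F _ ((Scheme.Modules.restrictFunctor U.ι).map φ) = φ ≫ adj.unit.app E :=
    fun φ => (adj.homEquiv_unit _ _ _).trans (adj.unit.naturality φ).symm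
  refine (Function.Bijective.of_comp_iff' (adj.homEquiv F _).bijective _).1 ⟨fun a b hab => ?_, fun g => ?_⟩
  · have e : a ≫ adj.unit.app E = b ≫ adj.unit.app E := ((h a).symm.trans hab).trans (h b)
    exact (cancel_mono (adj.unit.app E)).1 e
  · exact ⟨g ≫ inv (adj.unit.app E), (h _).trans (by rw [Category.assoc, IsIso.inv_hom_id, Category.comp_id])⟩

end Groth.Agent.S14995
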