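import Groth.Statements.S14997
import Mathlib

set_option autoImplicit false
open HilbPol

namespace Groth.Agent.S14997

lemma lex_lt_of {l : ℕ} {u v s t : Fin l → ℚ}
    (h : ∀ j, (∀ i < j, u i = v i) → t j - s j = v j - u j) (huv : toLex u < toLex v) : toLex s < toLex t := by
  obtain ⟨j, hj, hlt⟩ := huv
  refine ⟨j, fun i hi => ?_, ?_⟩
  · have h1 := h i (fun k hk => hj k (hk.trans hi))
    have h2 : u i = v i := hj i hi
    change s i = t i
    linarith
  · have h1 := h j hj
    change s j < t j
    change u j < v j at hlt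
    linarith

lemma lex_le_iff {l : ℕ} {u v s t : Fin l → ℚ}
    (h : ∀ j, (∀ i < j, u i = v i) → t j - s j = v j - u j) : toLex u ≤ toLex v ↔ toLex s ≤ toLex t := by
  constructor
  · intro h1
    rcases eq_or_lt_of_le h1 with h2 | h2
    · have e : u = v := toLex.injective h2
      subst e
      exact (congrArg toLex (funext fun j => by have := h j (fun _ _ => rfl); linarith)).le
    · exact (lex_lt_of h h2).le
  · intro h1
    by_contra h2
    have h' : ∀ j, (∀ i < j, v i = u i) → s j - t j = u j - v j := fun j hj => by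
      have := h j (fun i hi => (hj i hi).symm); linarith
    exact absurd h1 (not_le.mpr (lex_lt_of h' (not_le.mp h2)))

open Polynomial in
lemma coeff_diff (a : ℚ) (R : ℚ[X]) (d : ℕ) (hR : R.natDegree ≤ d) (i : ℕ) :
    (R - R.comp (X - C a)).coeff i =
      ∑ t ∈ Finset.range d, -((Nat.choose (t + 1 + i) i : ℚ) * (-a) ^ (t + 1)) * R.coeff (t + 1 + i) := by
  rw [show R.comp (X - C a) = taylor (-a) R by rw [taylor_apply, map_neg, sub_eq_add_neg],
    coeff_sub, taylor_coeff, eval_eq_sum_range' (n := d + 1)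
      (lt_of_le_of_lt (natDegree_hasseDeriv_le R i) (by omega)), Finset.sum_range_succ']
  simp only [hasseDeriv_coeff, pow_zero, mul_one, zero_add, Nat.choose_self, Nat.cast_one, one_mul]
  rw [sub_add_eq_sub_sub, sub_right_comm, sub_self, zero_sub, ← Finset.sum_neg_distrib]
  exact Finset.sum_congr rfl fun t _ => by ring

open Polynomial in
/-- Let d and ℓ be natural numbers with ℓ + 1 ≤ d, let a be a nonzero rational number and let P, Q be
polynomials with rational coefficients, both of degree exactly d. For a polynomial R of degree e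
write R(m) = Σ_i α_i(R) m^i / i! (so α_i(R) = i! · coeff_i(R)) and let r_ℓ(R) ∈ ℚ^ℓ be the vector
(α_{e−1}(R)/α_e(R), …, α_{e−ℓ}(R)/α_e(R)) of the ℓ coefficients after the leading one of the reduced
polynomial R/α_e(R), ordered lexicographically. The polynomials P(m) − P(m − a) and Q(m) − Q(m − a)
have degree d − 1, and r_ℓ(P) ≤ r_ℓ(Q) lexicographically if and only if r_ℓ(P(m) − P(m − a)) ≤
r_ℓ(Q(m) − Q(m − a)) lexicographically (hence the same with strict inequalities, by exchanging P and
Q). When P and Q are the Hilbert polynomials of pure d-dimensional coherent sheaves E → F on a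
polarized projective scheme and D is a hypersurface section of degree a containing no associated
point of E or F, the Hilbert polynomials of E|_D and F|_D are P(m) − P(m − a) and Q(m) − Q(m − a),
and the two sides are the comparisons of the ℓ-truncated reduced Hilbert polynomials p_ℓ(E) ≥ p_ℓ(F)
and p_ℓ(E|_D) ≥ p_ℓ(F|_D). (The published statement is phrased for the sheaves; this row is the
statement about their Hilbert polynomials that the displayed coefficient formula yields.) -/
theorem result (d ℓ : ℕ) (hℓ : ℓ + 1 ≤ d) (a : ℚ) (ha : a ≠ 0)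
    (P Q : ℚ[X]) (hP : P.natDegree = d) (hQ : Q.natDegree = d) (hP0 : P ≠ 0) (hQ0 : Q ≠ 0) :
    toLex (fun j : Fin ℓ => ((P).coeff (d - 1 - (j : ℕ)) * (Nat.factorial (d - 1 - (j : ℕ)) : ℚ)) / ((P).coeff (d) * (Nat.factorial (d) : ℚ))) ≤ toLex (fun j : Fin ℓ => ((Q).coeff (d - 1 - (j : ℕ)) * (Nat.factorial (d - 1 - (j : ℕ)) : ℚ)) / ((Q).coeff (d) * (Nat.factorial (d) : ℚ))) ↔
      toLex (fun j : Fin ℓ => ((P - P.comp (X - C a)).coeff ((d - 1) - 1 - (j : ℕ)) * (Nat.factorial ((d - 1) - 1 - (j : ℕ)) : ℚ)) / ((P - P.comp (X - C a)).coeff ((d - 1)) * (Nat.factorial ((d - 1)) : ℚ))) ≤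
        toLex (fun j : Fin ℓ => ((Q - Q.comp (X - C a)).coeff ((d - 1) - 1 - (j : ℕ)) * (Nat.factorial ((d - 1) - 1 - (j : ℕ)) : ℚ)) / ((Q - Q.comp (X - C a)).coeff ((d - 1)) * (Nat.factorial ((d - 1)) : ℚ))) := by
  refine lex_le_iff fun j hagree => ?_
  have hj := j.isLt
  have hPd : P.coeff d ≠ 0 := hP ▸ Polynomial.leadingCoeff_ne_zero.mpr hP0
  have hQd : Q.coeff d ≠ 0 := hQ ▸ Polynomial.leadingCoeff_ne_zero.mpr hQ0
  have hr : ∀ k, d - (j : ℕ) ≤ k → P.coeff k / P.coeff d = Q.coeff k / Q.coeff d := by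
    intro k hk
    rcases lt_trichotomy k d with hk' | rfl | hk'
    · have h := hagree ⟨d - 1 - k, by omega⟩ (by simp only [Fin.lt_def]; omega)
      simp only [show d - 1 - (d - 1 - k) = k by omega] at h
      have : (Nat.factorial k : ℚ) ≠ 0 := by exact_mod_cast k.factorial_ne_zero
      have : (Nat.factorial d : ℚ) ≠ 0 := by exact_mod_cast d.factorial_ne_zero
      field_simp at h ⊢
      linear_combination h
    · rw [div_self hPd, div_self hQd]
    · rw [Polynomial.coeff_eq_zero_of_natDegree_lt (show P.natDegree < k by omega),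
        Polynomial.coeff_eq_zero_of_natDegree_lt (show Q.natDegree < k by omega), zero_div, zero_div]
  obtain ⟨i, hi⟩ : ∃ i, d = i + 2 + (j : ℕ) := ⟨d - 2 - j, by omega⟩
  rw [show d - 1 - (j : ℕ) = i + 1 by omega, show d - 1 - 1 - (j : ℕ) = i by omega]
  obtain ⟨e, he⟩ : ∃ e, d = e + 1 := ⟨d - 1, by omega⟩
  rw [show d - 1 = e by omega]
  have hdiff : (Q - Q.comp (X - C a)).coeff i / Q.coeff d - (P - P.comp (X - C a)).coeff i / P.coeff d =
      ((i : ℚ) + 1) * a * (Q.coeff (i + 1) / Q.coeff d - P.coeff (i + 1) / P.coeff d) := by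
    rw [coeff_diff a Q d hQ.le i, coeff_diff a P d hP.le i, Finset.sum_div, Finset.sum_div, ← Finset.sum_sub_distrib]
    rw [Finset.sum_eq_single 0]
    · simp only [zero_add, pow_one, Nat.choose_succ_self_right, add_comm 1 i]
      push_cast
      ring
    · intro t _ ht
      have := hr (t + 1 + i) (by omega)
      rw [mul_div_assoc, mul_div_assoc, this, sub_self]
    · intro h; exact absurd (Finset.mem_range.mpr (by omega)) h
  have hlead : ∀ R : ℚ[X], R.natDegree = d → (R - R.comp (X - C a)).coeff e = (d : ℚ) * a * R.coeff d := by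
    intro R hR
    rw [coeff_diff a R d hR.le e, Finset.sum_eq_single 0]
    · simp only [zero_add, pow_one, Nat.choose_succ_self_right, add_comm 1 e]
      rw [he]; push_cast; ring
    · intro t _ ht
      rw [Polynomial.coeff_eq_zero_of_natDegree_lt (show R.natDegree < t + 1 + e by omega)]
      ring
    · intro h; exact absurd (Finset.mem_range.mpr (by omega)) h
  rw [hlead P hP, hlead Q hQ, Nat.factorial_succ i]
  have hfd : (Nat.factorial d : ℚ) = (d : ℚ) * (Nat.factorial e : ℚ) := by
    rw [he, Nat.factorial_succ]; push_cast; ring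
  rw [hfd]
  have : (Nat.factorial e : ℚ) ≠ 0 := by exact_mod_cast e.factorial_ne_zero
  have hd0 : (d : ℚ) ≠ 0 := by exact_mod_cast (show d ≠ 0 by omega)
  push_cast
  field_simp at hdiff ⊢
  linear_combination hdiff

end Groth.Agent.S14997
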