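import Groth.Statements.S14998

import Groth.Agent.Lib.DvrCrit.Existence
import Groth.Agent.Lib.DvrCrit.Abstract
import Groth.Agent.Lib.FinCond.Dominant
import Groth.Agent.H75.RedSub
import Groth.Agent.Lib.GrpSch.Basic

set_option autoImplicit false
universe u
open CategoryTheory CategoryTheory.Limits AlgebraicGeometry
open AlgGrp

open CategoryTheory CategoryTheory.Limits MonoidalCategory CartesianMonoidalCategory AlgebraicGeometry

namespace Groth.Agent.S14998

open Groth.Agent.Lib.DvrCrit Groth.Agent.Lib.GrpSch

/-- Let k be a field and G a group scheme over k (a group object of schemes over Spec k) acting on a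
k-scheme R of finite type. Let f : R → S and q : S → T be morphisms of k-schemes of finite type such
that q is separated, f is invariant under the action, and the composite p = q ∘ f is G-universally
closed: p is invariant and for every discrete valuation ring A over k with fraction field K, every
K-point of R and A-point of T over k forming a commutative square with p admit an A-point of R over
T restricting on Spec K to a translate of the given K-point by a K-point of G. Then the
set-theoretic image f(R) is closed in S, and the reduced closed subscheme of S with underlying set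
f(R) is proper over T. (The published statement fixes a connected algebraic group over the complex
numbers; this row allows any group scheme over any field, which is what the printed argument uses.) -/
theorem result (k : Type u) [Field k]
    (G R S T : Over (Spec (CommRingCat.of k))) [GrpObj G]
    [LocallyOfFiniteType R.hom] [CompactSpace ↥R.left] [LocallyOfFiniteType S.hom] [CompactSpace ↥S.left]
    [LocallyOfFiniteType T.hom] [CompactSpace ↥T.left]
    (a : AlgGrp.Action G R) (f : R ⟶ S) (q : S ⟶ T) [IsSeparated q.left]
    (hf : W4c2lssmoduli.IsInvariantMor a f) (hp : W4c2lssmoduli.IsGUnivClosed a (f ≫ q)) :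
    IsClosed (Set.range f.left.base) ∧
      IsProper ((Scheme.IdealSheafData.vanishingIdeal
          (⟨closure (Set.range f.left.base), isClosed_closure⟩ : TopologicalSpace.Closeds ↥S.left)).subschemeι ≫ q.left) := by
  haveI : LocallyOfFiniteType f.left := by
    haveI : LocallyOfFiniteType (f.left ≫ S.hom) := by rw [Over.w f]; infer_instance
    exact locallyOfFiniteType_of_comp f.left S.hom
  haveI : LocallyOfFiniteType q.left := by
    haveI : LocallyOfFiniteType (q.left ≫ T.hom) := by rw [Over.w q]; infer_instance
    exact locallyOfFiniteType_of_comp q.left T.hom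
  haveI : IsLocallyNoetherian T.left := LocallyOfFiniteType.isLocallyNoetherian T.hom
  haveI : IsLocallyNoetherian S.left := LocallyOfFiniteType.isLocallyNoetherian S.hom
  haveI : IsLocallyNoetherian R.left := LocallyOfFiniteType.isLocallyNoetherian R.hom
  haveI : IsNoetherian R.left := {}
  haveI : IsNoetherian S.left := {}
  haveI : QuasiCompact f.left := inferInstance
  haveI : QuasiCompact q.left := inferInstance
  -- lifting of discrete valuation rings
  have key : ∀ (z : R.left) (W : ValuationSubring (R.left.residueField z)), IsDiscreteValuationRing W →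
      ∀ ψ : Spec (CommRingCat.of W) ⟶ T.left,
        gen W ≫ ψ = R.left.fromSpecResidueField z ≫ (f ≫ q).left →
        ∃ i : Spec (CommRingCat.of W) ⟶ R.left, i ≫ (f ≫ q).left = ψ ∧
          gen W ≫ i ≫ f.left = R.left.fromSpecResidueField z ≫ f.left := by
    intro z W hW ψ hψ
    let L := R.left.residueField z
    let j := Spec.map (CommRingCat.ofHom (algebraMap W L))
    have hj : j = gen W := rfl
    let sA : Spec (CommRingCat.of W) ⟶ Spec (CommRingCat.of k) := ψ ≫ T.hom
    let g : Over.mk (j ≫ sA) ⟶ R := Over.homMk (R.left.fromSpecResidueField z) (by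
      change R.left.fromSpecResidueField z ≫ R.hom = j ≫ ψ ≫ T.hom
      rw [hj, ← Category.assoc, hψ, Category.assoc, Over.w (f ≫ q)])
    let h : Over.mk sA ⟶ T := Over.homMk ψ rfl
    have hsq : g ≫ (f ≫ q) = (Over.homMk j rfl : Over.mk (j ≫ sA) ⟶ Over.mk sA) ≫ h :=
      Over.OverMorphism.ext hψ.symm
    obtain ⟨i, γ, hi, hiγ⟩ := hp.2 W L sA g h hsq
    refine ⟨i.left, congrArg CommaMorphism.left hi, ?_⟩
    have e : (Over.homMk j rfl : Over.mk (j ≫ sA) ⟶ Over.mk sA) ≫ i ≫ f = g ≫ f := by
      refine (Category.assoc _ _ _).symm.trans ((congrArg (· ≫ f) hiγ).trans ?_)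
      rw [Category.assoc, show a.act ≫ f = snd G R ≫ f from hf, lift_snd_assoc]
    exact congrArg CommaMorphism.left e
  have hu := uniqueness_of_isSeparated q.left
  -- lifting `φ` itself
  have key' : ∀ (z : R.left) (W : ValuationSubring (R.left.residueField z)), IsDiscreteValuationRing W →
      ∀ φ : Spec (CommRingCat.of W) ⟶ S.left,
        gen W ≫ φ = R.left.fromSpecResidueField z ≫ f.left →
        ∃ i : Spec (CommRingCat.of W) ⟶ R.left, i ≫ f.left = φ := by
    intro z W hW φ hφ
    obtain ⟨i, hi, hig⟩ := key z W hW (φ ≫ q.left) (by
      rw [← Category.assoc, hφ, Category.assoc, Over.comp_left])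
    refine ⟨i, uniqueness_apply hu (K := R.left.residueField z) _ _ ?_ (hig.trans hφ.symm)⟩
    rw [Category.assoc, ← Over.comp_left, hi]
  refine ⟨isClosed_of_closure_subset fun s hs => ?_, ?_⟩
  · obtain ⟨z, hz⟩ := Groth.Agent.Lib.FinCond.exists_specializes_of_mem_closure_range f.left hs
    by_cases hne : f.left z = s
    · exact ⟨z, hne⟩
    obtain ⟨W, hW, φ, hφ, hgen⟩ := exists_dvr_center f.left z s hz hne
    obtain ⟨i, rfl⟩ := key' z W hW φ hgen
    exact ⟨i (IsLocalRing.closedPoint W), (Scheme.Hom.comp_apply i f.left _).symm.trans hφ⟩
  · set I := Scheme.IdealSheafData.vanishingIdeal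
      (⟨closure (Set.range f.left.base), isClosed_closure⟩ : TopologicalSpace.Closeds ↥S.left)
    haveI hCred : IsReduced I.subscheme := Groth.Agent.H75.RedSub.isReduced_vanishingIdeal _
    have hrange : Set.range I.subschemeι = closure (Set.range f.left) := by
      rw [Scheme.IdealSheafData.range_subschemeι, Scheme.IdealSheafData.coe_support_vanishingIdeal]
      rfl
    let J := Scheme.IdealSheafData.vanishingIdeal (⊤ : TopologicalSpace.Closeds ↥R.left)
    haveI : IsReduced J.subscheme := Groth.Agent.H75.RedSub.isReduced_vanishingIdeal _
    have hJ : Set.range J.subschemeι = Set.univ := by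
      rw [Scheme.IdealSheafData.range_subschemeι, Scheme.IdealSheafData.coe_support_vanishingIdeal]
      rfl
    obtain ⟨m, hm⟩ := Groth.Agent.H75.RedKer.exists_lift (J.subschemeι ≫ f.left) I.subschemeι (by
      rw [hrange]
      rintro _ ⟨x, rfl⟩
      exact subset_closure ⟨J.subschemeι x, rfl⟩)
    haveI : LocallyOfFiniteType m := by
      haveI : LocallyOfFiniteType (m ≫ I.subschemeι) := by rw [hm]; infer_instance
      exact locallyOfFiniteType_of_comp m I.subschemeι
    let c := I.subschemeι ≫ q.left
    haveI : UniversallyClosed c := by
      refine universallyClosed_of_dvr_of_generizations c m (fun _ => True) (fun x => ?_)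
        fun z _ W hW φ hφ => ?_
      · obtain ⟨r, hr⟩ := Groth.Agent.Lib.FinCond.exists_specializes_of_mem_closure_range f.left
          (hrange.le ⟨x, rfl⟩)
        obtain ⟨z, rfl⟩ := hJ.ge (Set.mem_univ r)
        refine ⟨z, trivial, ?_⟩
        rw [← I.subschemeι.isEmbedding.isInducing.specializes_iff, ← Scheme.Hom.comp_apply, hm,
          Scheme.Hom.comp_apply]
        exact hr
      · let r := J.subschemeι z
        let ρ : R.left.residueField r ⟶ J.subscheme.residueField z := J.subschemeι.residueFieldMap z
        have hρ : Spec.map ρ ≫ R.left.fromSpecResidueField r =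
            J.subscheme.fromSpecResidueField z ≫ J.subschemeι :=
          J.subschemeι.SpecMap_residueFieldMap_fromSpecResidueField z
        haveI : IsIso ρ := (ConcreteCategory.isIso_iff_bijective _).2 ⟨ρ.hom.injective, fun y => by
          obtain ⟨y, rfl⟩ := IsLocalRing.residue_surjective y
          obtain ⟨x, rfl⟩ := J.subschemeι.stalkMap_surjective z y
          exact ⟨IsLocalRing.residue _ x, rfl⟩⟩
        let e : R.left.residueField r ≃+* J.subscheme.residueField z :=
          (asIso ρ).commRingCatIsoToRingEquiv
        let W' : ValuationSubring (R.left.residueField r) := W.comap e.toRingHom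
        let eW : W' ≃+* W :=
          { toFun := fun x => ⟨e x.1, x.2⟩
            invFun := fun y => ⟨e.symm y.1, by
              change e (e.symm y.1) ∈ W
              rw [e.apply_symm_apply]; exact y.2⟩
            left_inv := fun x => Subtype.ext (e.symm_apply_apply x.1)
            right_inv := fun y => Subtype.ext (e.apply_symm_apply y.1)
            map_mul' := fun x y => Subtype.ext (map_mul e x.1 y.1)
            map_add' := fun x y => Subtype.ext (map_add e x.1 y.1) }
        haveI : IsDiscreteValuationRing W' := by
          haveI := hW
          haveI : IsPrincipalIdealRing W' :=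
            IsPrincipalIdealRing.of_surjective eW.symm.toRingHom eW.symm.surjective
          have hne : IsLocalRing.maximalIdeal W' ≠ ⊥ := fun h => IsDiscreteValuationRing.not_isField W <|
            eW.symm.toMulEquiv.isField (IsLocalRing.isField_iff_maximalIdeal_eq.2 h)
          exact { not_a_field' := hne }
        let wi : CommRingCat.of W' ≅ CommRingCat.of W := eW.toCommRingCatIso
        have hgen : Spec.map ρ ≫ gen W' = gen W ≫ Spec.map wi.hom := by
          rw [gen, gen, ← Spec.map_comp, ← Spec.map_comp]
          rfl
        have h1 : gen W' ≫ Spec.map wi.inv ≫ φ =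
            R.left.fromSpecResidueField r ≫ (f ≫ q).left := by
          rw [← cancel_epi (Spec.map ρ), reassoc_of% hgen, ← Spec.map_comp_assoc wi.inv wi.hom,
            wi.inv_hom_id, Spec.map_id, Category.id_comp, hφ, reassoc_of% hρ, reassoc_of% hm,
            Over.comp_left]
        obtain ⟨i, hi, hig⟩ := key r W' inferInstance (Spec.map wi.inv ≫ φ) h1
        obtain ⟨l, hl⟩ := Groth.Agent.H75.RedKer.exists_lift (Spec.map wi.hom ≫ i ≫ f.left) I.subschemeι (by
          rw [hrange]
          rintro _ ⟨x, rfl⟩
          exact subset_closure ⟨i (Spec.map wi.hom x), rfl⟩)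
        refine ⟨l, ?_, ?_⟩
        · rw [← cancel_mono I.subschemeι, Category.assoc, hl, Category.assoc, hm,
            ← reassoc_of% hgen, hig, reassoc_of% hρ]
        · change l ≫ I.subschemeι ≫ q.left = φ
          rw [reassoc_of% hl, ← Over.comp_left, hi, ← Spec.map_comp_assoc wi.inv wi.hom,
            wi.inv_hom_id, Spec.map_id, Category.id_comp]
    exact { }

end Groth.Agent.S14998
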