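import Groth.Statements.S14999
import Groth.Agent.Lib.DvrCrit.Basic
import Groth.Agent.Lib.Normalization.FiniteField
import Groth.Agent.S6333
-- import your own Groth.Agent.* helpers here

set_option autoImplicit false
universe u
open CategoryTheory CategoryTheory.Limits AlgebraicGeometry
open AlgGrp

namespace Groth.Agent.S14999

open CategoryTheory MonoidalCategory CartesianMonoidalCategory AlgebraicGeometry Opposite

open scoped Polynomial in
theorem isIntegral_of_mem_adjoin_inv {R L : Type u} [CommRing R] [Field L] [Algebra R L] {x : L}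
    (hx : x ≠ 0) (h : x ∈ Algebra.adjoin R ({x⁻¹} : Set L)) : IsIntegral R x := by
  rw [Algebra.adjoin_singleton_eq_range_aeval] at h
  obtain ⟨P, hP : Polynomial.aeval x⁻¹ P = x⟩ := h
  let n := P.natDegree
  let q : R[X] := Polynomial.X ^ (n + 1) -
    ∑ i ∈ Finset.range (n + 1), Polynomial.C (P.coeff i) * Polynomial.X ^ (n - i)
  have hm : q.Monic := Polynomial.monic_X_pow_sub (lt_of_le_of_lt (Polynomial.degree_sum_le _ _)
    ((Finset.sup_lt_iff (WithBot.bot_lt_coe _)).2 fun i _ =>
      lt_of_le_of_lt (Polynomial.degree_C_mul_X_pow_le _ _) (Nat.cast_lt.2 (by omega))))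
  refine ⟨q, hm, ?_⟩
  rw [← Polynomial.aeval_def, map_sub, map_pow, Polynomial.aeval_X, map_sum, sub_eq_zero, pow_succ]
  conv_lhs => enter [2]; rw [← hP, Polynomial.aeval_eq_sum_range]
  rw [Finset.mul_sum]
  refine Finset.sum_congr rfl fun i hi => ?_
  have hi' : i ≤ n := by simpa [Nat.lt_succ_iff] using hi
  rw [map_mul, map_pow, Polynomial.aeval_C, Polynomial.aeval_X, Algebra.smul_def, mul_left_comm,
    inv_pow, ← pow_sub₀ x hx hi']

/-- An element lying in all discrete valuation rings over the image of a Noetherian ring is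
integral. -/
theorem isIntegral_of_forall_dvr {A L : Type u} [CommRing A] [IsNoetherianRing A] [Field L]
    [Algebra A L] (s : Finset L)
    (hs : Subfield.closure (Set.range (algebraMap A L) ∪ (s : Set L)) = ⊤) (x : L)
    (h : ∀ W : ValuationSubring L, IsDiscreteValuationRing W → (∀ c, algebraMap A L c ∈ W) → x ∈ W) :
    IsIntegral A x := by
  by_contra hx
  have hx0 : x ≠ 0 := fun e => hx (e ▸ isIntegral_zero)
  let C := Algebra.adjoin A ({x⁻¹} : Set L)
  haveI : IsNoetherianRing C := isNoetherianRing_of_fg ⟨{x⁻¹}, by simp [C]⟩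
  let y : C := ⟨x⁻¹, Algebra.subset_adjoin rfl⟩
  have hy : ¬ IsUnit y := fun hu => by
    obtain ⟨z, hz⟩ := isUnit_iff_exists_inv.1 hu
    refine hx (isIntegral_of_mem_adjoin_inv hx0 ?_)
    have e : x⁻¹ * (z : L) = 1 := congrArg Subtype.val hz
    have : (z : L) = x := by
      rwa [inv_mul_eq_one₀ hx0, eq_comm] at e
    have h2 : (z : L) ∈ C := z.2
    rwa [this] at h2
  obtain ⟨q, hq, hle⟩ := Ideal.exists_le_maximal (Ideal.span {y})
    (fun e => hy (Ideal.span_singleton_eq_top.1 e))
  have hyq : y ∈ q := hle (Ideal.mem_span_singleton_self y)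
  have hlt : RingHom.ker (C.val : C →+* L) < q := by
    refine lt_of_le_of_ne (fun c hc => ?_) fun e => ?_
    · have : c = 0 := Subtype.ext hc
      exact this ▸ q.zero_mem
    · have h1 : y ∈ RingHom.ker (C.val : C →+* L) := e ▸ hyq
      exact inv_ne_zero hx0 h1
  obtain ⟨W, hW, hmem, hc⟩ := Groth.Agent.Lib.DvrCrit.exists_dvr (C.val : C →+* L) s
    (eq_top_iff.2 (hs ▸ Subfield.closure_mono (Set.union_subset_union
      (by rintro _ ⟨c, rfl⟩; exact ⟨algebraMap A C c, rfl⟩) le_rfl))) q hlt
  have hxW : x ∈ W := h W hW fun c => hmem (algebraMap A C c)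
  rw [← hc] at hyq
  have hu : IsUnit ((C.val : C →+* L).codRestrict W.toSubring hmem y) :=
    IsUnit.of_mul_eq_one (⟨x, hxW⟩ : W) (Subtype.ext (inv_mul_cancel₀ hx0))
  exact hyq hu

/-- The integral closure of a finitely generated algebra in a finitely generated field lies in a
finite submodule. -/
theorem exists_fg_submodule (k : Type u) {A L : Type u} [Field k] [CommRing A] [Algebra k A]
    [Algebra.FiniteType k A] [Field L] [Algebra A L] (s : Finset L)
    (hs : Subfield.closure (Set.range (algebraMap A L) ∪ (s : Set L)) = ⊤) :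
    ∃ N : Submodule A L, N.FG ∧ ∀ x, IsIntegral A x → x ∈ N := by
  classical
  let I := RingHom.ker (algebraMap A L)
  haveI : I.IsPrime := RingHom.ker_isPrime _
  let A' := A ⧸ I
  haveI : Algebra.FiniteType k A' :=
    Algebra.FiniteType.of_surjective (Ideal.Quotient.mkₐ k I) Ideal.Quotient.mk_surjective
  letI : Algebra A' L := (RingHom.kerLift (algebraMap A L)).toAlgebra
  haveI : IsScalarTower A A' L := .of_algebraMap_eq fun c => (RingHom.kerLift_mk _ c).symm
  have hinj : Function.Injective (algebraMap A' L) := RingHom.kerLift_injective _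
  let K := FractionRing A'
  letI : Algebra K L := (IsFractionRing.lift (g := algebraMap A' L) hinj).toAlgebra
  haveI : IsScalarTower A' K L :=
    .of_algebraMap_eq fun c => (IsFractionRing.lift_algebraMap hinj c).symm
  have hfg : (⊤ : IntermediateField K L).FG := by
    refine ⟨s, eq_top_iff.2 fun x _ => ?_⟩
    have hx : x ∈ Subfield.closure (Set.range (algebraMap A L) ∪ (s : Set L)) :=
      hs ▸ Subfield.mem_top x
    refine (Subfield.closure_le.2 ?_ : _ ≤ (IntermediateField.adjoin K (s : Set L)).toSubfield) hx
    rintro _ (⟨c, rfl⟩ | h)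
    · rw [IsScalarTower.algebraMap_apply A A' L, IsScalarTower.algebraMap_apply A' K L]
      exact (IntermediateField.adjoin K (s : Set L)).algebraMap_mem _
    · exact IntermediateField.subset_adjoin K _ h
  let M := algebraicClosure K L
  haveI : FiniteDimensional K M := Groth.Agent.S6333.result hfg
  letI : Algebra A' M := ((algebraMap K M).comp (algebraMap A' K)).toAlgebra
  haveI : IsScalarTower A' K M := .of_algebraMap_eq' rfl
  haveI : IsScalarTower A' M L := .of_algebraMap_eq fun c =>
    IsScalarTower.algebraMap_apply A' K L c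
  haveI : Module.Finite A' (integralClosure A' M) :=
    Groth.Agent.Lib.Normalization.FiniteField.finite_integralClosure k A' K M
  let g : integralClosure A' M →ₗ[A'] L :=
    ((IsScalarTower.toAlgHom A' M L).comp (integralClosure A' M).val).toLinearMap
  refine ⟨(LinearMap.range g).restrictScalars A, ?_, fun x hx => ?_⟩
  · exact Submodule.FG.restrictScalars_of_surjective (LinearMap.range_eq_map g ▸ Module.Finite.fg_top.map g) Ideal.Quotient.mk_surjective
  · have hx' : IsIntegral A' x := hx.tower_top
    have hxM : x ∈ M := (mem_algebraicClosure_iff.2 (hx'.tower_top (A := K)).isAlgebraic)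
    refine ⟨⟨⟨x, hxM⟩, ?_⟩, rfl⟩
    exact (isIntegral_algHom_iff (IsScalarTower.toAlgHom A' M L) Subtype.val_injective).1 hx'


/-- Let k be a field, A a finitely generated k-algebra and G a group scheme over k acting on an integral
k-scheme Y of finite type; let p : Y → Spec A be a morphism over k which is G-universally closed
(invariant under the action, and for every discrete valuation ring over k with fraction field K
every commutative square of a K-point of Y and a point of Spec A with values in that ring lifts, up
to translation of the K-point by a K-point of G, to a point of Y with values in the ring). Call a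
global function s on Y invariant when its pullbacks along the action morphism and along the
projection G ×_k Y → Y agree. Then the invariant global functions form a finite A-module: there are
finitely many invariant functions such that every invariant function is a linear combination of them
with coefficients from A (acting on Γ(Y, O_Y) through p). (The published statement is for an
integral G-stable closed subscheme Y of a G-universally closed scheme over Spec A, with k the
complex numbers and G a connected algebraic group; such a Y is itself G-universally closed over Spec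
A, and the printed argument uses only a field k and a group scheme G.) -/
theorem result (k : Type u) [Field k]
    (G Y : Over (Spec (CommRingCat.of k))) [GrpObj G]
    [LocallyOfFiniteType Y.hom] [CompactSpace ↥Y.left] [IsIntegral Y.left]
    (A : Type u) [CommRing A] [Algebra k A] [Algebra.FiniteType k A]
    (a : AlgGrp.Action G Y)
    (p : Y ⟶ Over.mk (Spec.map (CommRingCat.ofHom (algebraMap k A))))
    (hp : W4c2lssmoduli.IsGUnivClosed a p) :
    ∃ t : Finset ↑Γ(Y.left, ⊤),
      (∀ s ∈ t, a.act.left.appTop s = (CartesianMonoidalCategory.snd G Y).left.appTop s) ∧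
      ∀ s : ↑Γ(Y.left, ⊤), a.act.left.appTop s = (CartesianMonoidalCategory.snd G Y).left.appTop s →
        ∃ c : ↑Γ(Y.left, ⊤) → A,
          s = ∑ x ∈ t, ((Scheme.ΓSpecIso (CommRingCat.of A)).inv ≫ p.left.appTop) (c x) * x := by
  classical
  letI : Algebra A Γ(Y.left, ⊤) :=
    ((Scheme.ΓSpecIso (CommRingCat.of A)).inv ≫ p.left.appTop).hom.toAlgebra
  haveI : IsNoetherianRing A := Algebra.FiniteType.isNoetherianRing k A
  haveI : LocallyOfFiniteType p.left := by
    haveI : LocallyOfFiniteType (p.left ≫ Spec.map (CommRingCat.ofHom (algebraMap k A))) := by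
      rw [show p.left ≫ Spec.map (CommRingCat.ofHom (algebraMap k A)) = Y.hom from Over.w p]
      infer_instance
    exact locallyOfFiniteType_of_comp p.left (Spec.map (CommRingCat.ofHom (algebraMap k A)))
  let z := genericPoint Y.left
  let L := Y.left.residueField z
  let pt : Spec L ⟶ Y.left := Y.left.fromSpecResidueField z
  let e : Γ(Y.left, ⊤) ⟶ L := pt.appTop ≫ (Scheme.ΓSpecIso L).hom
  have he : Function.Injective e := by
    have h1 : e = Y.left.presheaf.germ ⊤ z trivial ≫ Y.left.residue z := by
      simp only [e, pt, Scheme.fromSpecResidueField, Scheme.Hom.comp_appTop, Category.assoc,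
        Scheme.ΓSpecIso_naturality, Scheme.fromSpecStalk_appTop]
      congr 1
      rw [show (homOfLE _).op = 𝟙 (op (⊤ : (Spec (Y.left.presheaf.stalk z)).Opens)) from rfl,
        CategoryTheory.Functor.map_id, Category.id_comp, Iso.inv_hom_id_assoc]
    rw [h1]
    haveI : Nonempty ((⊤ : Y.left.Opens) : Type u) := ⟨⟨z, trivial⟩⟩
    exact RingHom.injective (R := Y.left.functionField) (Y.left.residue z).hom |>.comp
      (Y.left.germToFunctionField_injective ⊤)
  letI : Algebra A L := (e.hom.comp (algebraMap A Γ(Y.left, ⊤))).toAlgebra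
  let ψ : CommRingCat.of A ⟶ L := CommRingCat.ofHom (algebraMap A L)
  have hψ : Spec.map ψ = pt ≫ p.left := by
    apply ext_of_isAffine
    have h2 : ψ = (Scheme.ΓSpecIso (CommRingCat.of A)).inv ≫ (pt ≫ p.left).appTop ≫
        (Scheme.ΓSpecIso L).hom := by
      rw [Scheme.Hom.comp_appTop]
      rfl
    rw [← cancel_mono (Scheme.ΓSpecIso L).hom, Scheme.ΓSpecIso_naturality, h2, Iso.hom_inv_id_assoc]
  obtain ⟨s₀, hs₀⟩ : ∃ s : Finset L,
      Subfield.closure (Set.range (algebraMap A L) ∪ (s : Set L)) = ⊤ := by
    obtain ⟨φ, hφ⟩ := Groth.Agent.Lib.DvrCrit.exists_chart (pt ≫ p.left)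
      (isAffineOpen_top (Spec (CommRingCat.of A))) trivial
    obtain ⟨s, hs⟩ := Groth.Agent.Lib.DvrCrit.exists_fg p.left z _ φ hφ
    refine ⟨s, eq_top_iff.2 (hs ▸ Subfield.closure_mono (Set.union_subset_union ?_ le_rfl))⟩
    have h3 : φ = (Scheme.ΓSpecIso (CommRingCat.of A)).hom ≫ ψ := by
      apply Spec.map_injective
      rw [← cancel_mono (isAffineOpen_top (Spec (CommRingCat.of A))).fromSpec, hφ, Spec.map_comp,
        Category.assoc, IsAffineOpen.fromSpec_top, Scheme.isoSpec_Spec_inv, ← Spec.map_comp,
        Iso.inv_hom_id, Spec.map_id, Category.comp_id, hψ]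
    rintro _ ⟨c, rfl⟩
    exact ⟨(Scheme.ΓSpecIso (CommRingCat.of A)).hom c, by rw [h3]; rfl⟩
  -- invariant functions lie in every valuation ring over `A`
  have key : ∀ x : Γ(Y.left, ⊤), a.act.left.appTop x = (snd G Y).left.appTop x →
      IsIntegral A (e x) := by
    intro x hx
    refine isIntegral_of_forall_dvr s₀ hs₀ _ fun W hW hA => ?_
    haveI := hW
    let j : Spec (CommRingCat.of L) ⟶ Spec (CommRingCat.of W) :=
      Spec.map (CommRingCat.ofHom (algebraMap W L))
    let ψW : CommRingCat.of A ⟶ CommRingCat.of W :=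
      CommRingCat.ofHom ((algebraMap A L).codRestrict W.toSubring hA)
    have hj : j ≫ Spec.map ψW = pt ≫ p.left := by
      rw [← hψ, ← Spec.map_comp]
      rfl
    let sA : Spec (CommRingCat.of W) ⟶ Spec (CommRingCat.of k) :=
      Spec.map ψW ≫ Spec.map (CommRingCat.ofHom (algebraMap k A))
    let g : Over.mk (j ≫ sA) ⟶ Y := Over.homMk pt (by
      change pt ≫ Y.hom = j ≫ sA
      rw [← Category.assoc, hj, Category.assoc]
      exact congrArg (pt ≫ ·) (Over.w p).symm)
    let h : Over.mk sA ⟶ Over.mk (Spec.map (CommRingCat.ofHom (algebraMap k A))) :=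
      Over.homMk (Spec.map ψW) rfl
    obtain ⟨i, γ, -, hi⟩ := hp.2 W L sA g h (Over.OverMorphism.ext hj.symm)
    have h4 : j ≫ i.left = (CartesianMonoidalCategory.lift γ g ≫ a.act).left :=
      congrArg CommaMorphism.left hi
    have h5 : pt.appTop x = j.appTop (i.left.appTop x) := by
      have h6 := congrArg (fun f => Scheme.Hom.appTop f x) h4
      simp only [Over.comp_left, Scheme.Hom.comp_appTop, CommRingCat.comp_apply] at h6
      rw [h6, hx, ← CommRingCat.comp_apply, ← Scheme.Hom.comp_appTop, ← Over.comp_left, lift_snd]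
      rfl
    have h7 : e x = (CommRingCat.ofHom (algebraMap W L))
        ((Scheme.ΓSpecIso (CommRingCat.of W)).hom (i.left.appTop x)) := by
      rw [show e x = (Scheme.ΓSpecIso L).hom (pt.appTop x) from rfl, h5, ← CommRingCat.comp_apply,
        ← CommRingCat.comp_apply _ (CommRingCat.ofHom (algebraMap W L))]
      exact congrArg (fun f => (CommRingCat.Hom.hom f) (i.left.appTop x))
        (Scheme.ΓSpecIso_naturality (CommRingCat.ofHom (algebraMap W L)))
    rw [h7]
    exact SetLike.coe_mem _
  obtain ⟨N, hN, hNmem⟩ := exists_fg_submodule k s₀ hs₀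
  have hinv : ∀ c : A, a.act.left.appTop (algebraMap A Γ(Y.left, ⊤) c) =
      (snd G Y).left.appTop (algebraMap A Γ(Y.left, ⊤) c) := by
    intro c
    have h8 : a.act.left ≫ p.left = (snd G Y).left ≫ p.left := congrArg CommaMorphism.left hp.1
    have := congrArg (fun f => Scheme.Hom.appTop f ((Scheme.ΓSpecIso (CommRingCat.of A)).inv c)) h8
    simp only [Scheme.Hom.comp_appTop, CommRingCat.comp_apply] at this
    exact this
  let P : Submodule A Γ(Y.left, ⊤) :=
    { carrier := {x | a.act.left.appTop x = (snd G Y).left.appTop x}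
      add_mem' := fun {x y} hx hy => (map_add _ x y).trans
        ((congrArg₂ (· + ·) hx hy).trans (map_add _ x y).symm)
      zero_mem' := (map_zero _).trans (map_zero _).symm
      smul_mem' := fun c x hx => by
        change a.act.left.appTop (c • x) = (snd G Y).left.appTop (c • x)
        rw [Algebra.smul_def, map_mul, map_mul, hinv c]
        exact congrArg _ hx }
  haveI : Module.Finite A N := Module.Finite.iff_fg.2 hN
  let f : P →ₗ[A] N :=
    { toFun := fun x => ⟨e x.1, hNmem _ (key _ x.2)⟩
      map_add' := fun x y => Subtype.ext (map_add e.hom x.1 y.1)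
      map_smul' := fun c x => Subtype.ext (by
        change e (c • x.1) = c • e x.1
        rw [Algebra.smul_def, Algebra.smul_def, map_mul]
        rfl) }
  haveI : IsNoetherian A P :=
    isNoetherian_of_injective f fun x y hxy => Subtype.ext (he (congrArg Subtype.val hxy))
  obtain ⟨t, ht⟩ : P.FG := Module.Finite.iff_fg.1 inferInstance
  refine ⟨t, fun x hx => (ht ▸ Submodule.subset_span (Finset.mem_coe.2 hx) : x ∈ P), fun x hx => ?_⟩
  obtain ⟨c, -, hc⟩ := Submodule.mem_span_finset.1 (show x ∈ Submodule.span A (t : Set Γ(Y.left, ⊤)) by rw [ht]; exact hx)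
  exact ⟨c, hc.symm.trans (Finset.sum_congr rfl fun y _ => Algebra.smul_def _ _)⟩

end Groth.Agent.S14999
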