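import Groth.Statements.S15002
import Groth.Agent.Lib.ShStab.MuBasics
import Groth.Agent.Lib.ShStab.SimpleEnd
import Groth.Agent.Lib.UnifReg.OnX
import Groth.Agent.Lib.HProj.QuasiProj
import Groth.Agent.Lib.Ample.Pullback
import Groth.Agent.Lib.TensorMod.Pullback
-- import your own Groth.Agent.* helpers here

set_option autoImplicit false
universe u
open CategoryTheory CategoryTheory.Limits AlgebraicGeometry
open Coherent

namespace Groth.Agent.S15002

open Groth.Agent.Lib Groth.Agent.Lib.ShStab SubLattice TensorMod.Basic ProjCoh.Coherent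

/-- Two lexicographically smaller vectors cannot average to the middle one. -/
theorem lex_contra {ℓ : ℕ} (a b c : Fin ℓ → ℚ) (x y : ℚ) (hx : 0 < x) (hy : 0 < y)
    (h : ∀ j, (x + y) * c j = x * a j + y * b j) (ha : toLex a < toLex c) (hb : toLex b < toLex c) :
    False := by
  obtain ⟨i, hi1, hi2⟩ : ∃ i, (∀ j, j < i → a j = c j) ∧ a i < c i := ha
  obtain ⟨j, hj1, hj2⟩ : ∃ i, (∀ j, j < i → b j = c j) ∧ b i < c i := hb
  rcases lt_trichotomy i j with hij | hij | hij
  · nlinarith [h i, hj1 i hij]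
  · subst hij; nlinarith [h i]
  · nlinarith [h j, hi1 j hij]

variable {k : Type u} [Field k] {X : Scheme.{u}} [X.Over (Spec (CommRingCat.of k))]
  [IsProper (X ↘ Spec (CommRingCat.of k))] {N : ℕ} (ι : X ⟶ CohB1.ProjSpace N k)

theorem euler_iso {M M' : X.Modules} (e : M ≅ M') : Curv2.euler k X M = Curv2.euler k X M' := by
  haveI := Curves.GlobalSections.isNoetherian_of_proper k X
  obtain ⟨d, hd⟩ := Snapper.DimBound.exists_dim_bound k X
  rw [Snapper.Chi.euler_eq_eulerCharLE hd, Snapper.Chi.euler_eq_eulerCharLE hd]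
  exact Snapper.Chi.eulerCharLE_of_iso e d

/-- The Hilbert polynomial computes the Euler characteristic of every integral twist. -/
theorem euler_twistOn [IsClosedImmersion ι] {G : X.Modules} (hG : Coh.IsCoh G)
    (hL : CohB1.IsAmple ((Scheme.Modules.pullback ι).obj (tw N k 1))) (m : ℤ) :
    (Curv2.euler k X (Pic13.twistOn k ι G m) : ℚ) =
      (hp k ((Scheme.Modules.pullback ι).obj (tw N k 1)) G).eval (m : ℚ) := by
  haveI := Curves.GlobalSections.isNoetherian_of_proper k X
  let L := (Scheme.Modules.pullback ι).obj (tw N k 1)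
  have htw : ∀ (F : X.Modules) (a b c : ℤ), a + b = c →
      Curv2.euler k X (Pic13.twistOn k ι (Pic13.twistOn k ι F a) b) =
        Curv2.euler k X (Pic13.twistOn k ι F c) := by
    intro F a b c habc
    subst habc
    exact euler_iso (assoc F _ _ ≪≫ tensorIso (Iso.refl F)
      ((TensorMod.Pullback.pullbackTensorIso ι (tw N k a) (tw N k b)).symm ≪≫
        (Scheme.Modules.pullback ι).mapIso (twTensor a b)))
  have hnat : ∀ {F : X.Modules}, Coh.IsCoh F → ∀ n : ℕ,
      (Curv2.euler k X (Pic13.twistOn k ι F n) : ℚ) = (hp k L F).eval (n : ℚ) := by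
    intro F hF n
    obtain ⟨e⟩ := UnifReg.OnX.nonempty_pow_iso (L := L) ι ⟨Iso.refl _⟩ n
    rw [← isHilbPoly_hp k hL hF n]
    exact congrArg _ (euler_iso (tensorIso (Iso.refl F) e.symm))
  rcases Int.eq_nat_or_neg m with ⟨t, rfl | rfl⟩
  · simpa using hnat hG t
  have hG' : Coh.IsCoh (Pic13.twistOn k ι G (-(t : ℤ))) := isCoh_tensorMod hG
    (Ample.GG.isCoh_of_isInvertible (PicLoc.isInvertible_pullback ι (isInvertible_tw _)))
  have hshift : hp k L (Pic13.twistOn k ι G (-(t : ℤ))) =
      (hp k L G).comp (Polynomial.X - Polynomial.C (t : ℚ)) := by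
    refine Polynomial.eq_of_infinite_eval_eq _ _ (Set.infinite_of_injective_forall_mem
      (f := fun n : ℕ => ((n + t : ℕ) : ℚ)) (fun a b hab => by simpa using hab) fun n => ?_)
    simp only [Set.mem_setOf_eq]
    rw [← hnat hG' (n + t), Polynomial.eval_comp, htw G (-(t : ℤ)) ((n + t : ℕ) : ℤ) (n : ℤ)
      (by push_cast; ring), hnat hG n]
    simp
  have h0 := hnat hG' 0
  rw [htw G (-(t : ℤ)) ((0 : ℕ) : ℤ) (-(t : ℤ)) (by simp), hshift, Polynomial.eval_comp] at h0
  rw [h0]
  simp [L]


open Polynomial in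
/-- Let k be an algebraically closed field and X an integral scheme, smooth and proper over k, with a
closed immersion ι into projective N-space over k compatible with the structure maps; write E(m) = E
⊗ ι^*O(m). Let 1 ≤ ℓ ≤ d and let E be a coherent O_X-module whose Hilbert polynomial P (χ(E(m)) =
P(m) for all integers m) is nonzero of degree d, which is pure of dimension d (every nonzero
coherent subsheaf of E has support of Krull dimension d) and ℓ-stable: writing R(m) = Σ_i α_i(R)
m^i/i! for a polynomial R, for every coherent subsheaf F of E with Hilbert polynomial Q such that 0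
< α_d(Q) < α_d(P), the vector (α_{d−1}(Q)/α_d(Q), …, α_{d−ℓ}(Q)/α_d(Q)) is strictly smaller than
(α_{d−1}(P)/α_d(P), …, α_{d−ℓ}(P)/α_d(P)) in the lexicographic order. Then E is simple: every
endomorphism φ of E is multiplication by a scalar, i.e. there is c ∈ k with φ(s) = c·s for every
local section s of E. (The published statement gives more generally, for such E, that the
endomorphisms of the restriction of E to the complement of any closed subset meeting the support of
E in codimension at least ℓ + 1 are the scalars; this row is the case of the empty closed subset.) -/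
theorem result (k : Type u) [Field k] [IsAlgClosed k]
    (X : Scheme.{u}) [X.Over (Spec (CommRingCat.of k))] [IsIntegral X]
    [Smooth (X ↘ Spec (CommRingCat.of k))] [IsProper (X ↘ Spec (CommRingCat.of k))]
    (N : ℕ) (ι : X ⟶ CohB1.ProjSpace N k) [IsClosedImmersion ι] (hι : ι ≫ CohB1.ProjSpace.toSpec N k = X ↘ Spec (CommRingCat.of k))
    (d ℓ : ℕ) (hℓ : 1 ≤ ℓ) (hℓd : ℓ ≤ d)
    (E : X.Modules) (hE : Coh.IsCoh E) (P : ℚ[X]) (hPd : P.natDegree = d) (hP0 : P ≠ 0)
    (hP : ∀ m : ℤ, (Curv2.euler k X (Pic13.twistOn k ι E m) : ℚ) = P.eval (m : ℚ))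
    (hpure : ∀ (F : X.Modules) (j : F ⟶ E), Mono j → Coh.IsCoh F → ¬ IsZero F →
      topologicalKrullDim (CohB1.support F) = (d : WithBot ℕ∞))
    (hst : ∀ (F : X.Modules) (j : F ⟶ E), Mono j → Coh.IsCoh F → ∀ Q : ℚ[X],
      (∀ m : ℤ, (Curv2.euler k X (Pic13.twistOn k ι F m) : ℚ) = Q.eval (m : ℚ)) →
        0 < Q.coeff d → Q.coeff d < P.coeff d →
          toLex (fun j : Fin ℓ => ((Q).coeff (d - 1 - (j : ℕ)) * (Nat.factorial (d - 1 - (j : ℕ)) : ℚ)) / ((Q).coeff d * (Nat.factorial d : ℚ))) < toLex (fun j : Fin ℓ => ((P).coeff (d - 1 - (j : ℕ)) * (Nat.factorial (d - 1 - (j : ℕ)) : ℚ)) / ((P).coeff d * (Nat.factorial d : ℚ))))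
    (φ : E ⟶ E) :
    ∃ c : k, ∀ (V : X.Opens) (s : E.val.obj (Opposite.op V)),
      (φ.val.app (Opposite.op V)) s = (X.ringCatSheaf.obj.map (homOfLE (le_top : V ≤ ⊤)).op (Coh.toGlobal (X ↘ Spec (CommRingCat.of k)) c : X.ringCatSheaf.obj.obj (Opposite.op ⊤))) • s := by
  haveI := Groth.Agent.Lib.Curves.GlobalSections.isNoetherian_of_proper k X
  set L := (Scheme.Modules.pullback ι).obj (tw N k 1) with hLdef
  have hL : CohB1.IsAmple L :=
    Ample.Pullback.isAmple_pullback ι (Ample.Pullback.isQuasiAffine_of_isAffineHom ι)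
      (HProj.QuasiProj.isAmple_twist_projSpace N k)
  have hpE : hp k L E = P := by
    refine Polynomial.eq_of_infinite_eval_eq _ _ (Set.infinite_of_injective_forall_mem
      (f := fun n : ℕ => ((n : ℤ) : ℚ)) (fun a b hab => by simpa using hab) fun n => ?_)
    exact (euler_twistOn ι hE hL (n : ℤ)).symm.trans (hP _)
  have hpu : ShStab.IsPure X E d := fun F j hj hF h0 => hpure F j hj hF h0
  refine SimpleEnd.exists_scalar_apply k hE (fun ψ hψ => ?_) φ
  have hK := CohBasics.Closure.isCoh_kernel ψ hE hE.1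
  have hI := CohBasics.Closure.isCoh_image ψ hE.1 hE
  have hi : 0 < (hp k L (Abelian.image ψ)).coeff d :=
    pos_of_mul_pos_right (Basics.alpha_pos_of_pure (k := k) hL hpu (Abelian.image.ι ψ) hI
      (Basics.not_isZero_image hψ)) (Nat.cast_nonneg _)
  have h := Basics.hp_kernel_image (k := k) hL ψ hE hE
  have hmono : Mono ψ := Preadditive.mono_of_isZero_kernel _ (by_contra fun hz => by
    have hk : 0 < (hp k L (kernel ψ)).coeff d :=
      pos_of_mul_pos_right (Basics.alpha_pos_of_pure (k := k) hL hpu (kernel.ι ψ) hK hz)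
        (Nat.cast_nonneg _)
    rw [hpE] at h
    have hsum : ∀ i, P.coeff i =
        (hp k L (kernel ψ)).coeff i + (hp k L (Abelian.image ψ)).coeff i := fun i => by
      rw [h, Polynomial.coeff_add]
    have h1 := hst _ (kernel.ι ψ) inferInstance hK _ (euler_twistOn ι hK hL) hk
      (by rw [hsum d]; linarith)
    have h2 := hst _ (Abelian.image.ι ψ) inferInstance hI _ (euler_twistOn ι hI hL) hi
      (by rw [hsum d]; linarith)
    refine lex_contra _ _ _ _ _ hk hi (fun j => ?_) h1 h2
    rw [← hLdef]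
    rw [hsum, hsum]
    have hd0 : ((d.factorial : ℕ) : ℚ) ≠ 0 := by exact_mod_cast d.factorial_ne_zero
    have hne := hk.ne'
    have hne' := hi.ne'
    have hne'' : (hp k L (kernel ψ)).coeff d + (hp k L (Abelian.image ψ)).coeff d ≠ 0 := by
      linarith
    field_simp)
  have hz : IsZero (cokernel ψ) := by
    refine (Interval.isZero_iff (k := k) hL (CohBasics.Closure.isCoh_cokernel ψ hE.1 hE)).2 ?_
    rw [hp_cokernel k hL ψ hE hE, sub_self]
  haveI : Epi ψ := Abelian.epi_of_cokernel_π_eq_zero ψ (hz.eq_of_tgt _ _)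
  exact isIso_of_mono_of_epi ψ

end Groth.Agent.S15002
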