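import Groth.Statements.S15005
import Groth.Agent.Lib.Arrangement.Basic

set_option autoImplicit false
universe u v
open Harb

namespace Groth.Agent.S15005

/-- Let C be a finite family of d curves, recorded as an incidence relation between a type of points and
a finite index type, such that any two distinct curves of the family meet in exactly h points; let
t_k be the number of k-fold points (points lying on exactly k curves of the family). Then f₂ − f₁ =
Σ_{k ≥ 2} k(k − 1) t_k equals h d(d − 1), where f_i = Σ_{k ≥ 2} k^i t_k. (The published statement is
for a transversal arrangement of curves on a geometrically ruled surface with invariant e, all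
numerically equivalent to a C₀ + b f, where any two of the curves meet transversally in h = 2ab −
a²e points; only this common pairwise intersection count enters the proof, and this row states the
identity for an abstract incidence relation.) -/
theorem result (P : Type u) (ι : Type v) [Fintype ι]
    (inc : P → ι → Prop) (h : ℕ)
    (hfin : ∀ i j : ι, i ≠ j → {p : P | inc p i ∧ inc p j}.Finite)
    (hcount : ∀ i j : ι, i ≠ j → {p : P | inc p i ∧ inc p j}.ncard = h) :
    ∑ k ∈ Finset.Icc 2 (Fintype.card ι), k * (k - 1) * Nat.card {p : P // Nat.card {j : ι // inc p j} = k} =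
      h * (Fintype.card ι * (Fintype.card ι - 1)) := by
  classical
  simp only [Groth.Agent.Lib.Arrangement.Basic.card_eq_r inc]
  have hM := Groth.Agent.Lib.Arrangement.Basic.finite_multiple inc hfin
  rw [← Groth.Agent.Lib.Arrangement.Basic.sum_mul_sub_one inc hfin hcount (M := hM.toFinset) (fun p hp => hM.mem_toFinset.mpr hp),
    ← Finset.sum_fiberwise_of_maps_to (s := hM.toFinset) (g := Groth.Agent.Lib.Arrangement.Basic.r inc)
      (t := Finset.Icc 2 (Fintype.card ι)) (fun p hp => Finset.mem_Icc.mpr ⟨hM.mem_toFinset.mp hp, Finset.card_le_univ _⟩)]
  refine Finset.sum_congr rfl fun k hk => ?_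
  rw [Finset.sum_congr rfl (g := fun _ => k * (k - 1)) fun p hp => by rw [(Finset.mem_filter.mp hp).2],
    Finset.sum_const, smul_eq_mul, mul_comm]
  congr 1
  rw [← Nat.card_eq_finsetCard]
  refine Nat.card_congr (Equiv.subtypeEquivRight fun p => ?_)
  simp only [Finset.mem_filter, Set.Finite.mem_toFinset, Set.mem_ofPred_eq]
  exact ⟨fun h => ⟨h ▸ (Finset.mem_Icc.mp hk).1, h⟩, fun h => h.2⟩

end Groth.Agent.S15005
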