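import Groth.Statements.S15008
import Groth.Agent.H15.CanDual.Conductor
import Mathlib
-- import your own Groth.Agent.* helpers here

set_option autoImplicit false
universe u
open CategoryTheory
open TFCurv

namespace Groth.Agent.S15008

open Groth.Agent.H15.CanDual.RLen Groth.Agent.H15.CanDual.Basic Groth.Agent.H15.CanDual.Conductor

/-- Let O be a one-dimensional Noetherian local domain with algebraically closed residue field whose
integral closure O~ in its fraction field K is a finite O-module, and suppose O is not Gorenstein.
If w is an O-submodule of K with O ⊆ w ⊆ O~ whose injective dimension as an O-module is at most one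
(a canonical ideal placed between O and O~), then length(w/O) + length(O~/C) = 2 · length(O~/O),
where C is the conductor of O in O~. -/
theorem result (O : Type u) [CommRing O] [IsDomain O] [IsNoetherianRing O] [IsLocalRing O] (hdim : ringKrullDim O = 1) [IsAlgClosed (IsLocalRing.ResidueField O)] (K : Type u) [Field K] [Algebra O K] [IsFractionRing O K] (hfin : Module.Finite O ↥(integralClosure O K)) (hG : ¬ LocCoh.IsGorensteinLocalRing O) (ω : Submodule O K) (hω1 : (1 : Submodule O K) ≤ ω) (hω2 : ω ≤ (Subalgebra.toSubmodule (integralClosure O K))) (hωinj : HasInjectiveDimensionLT (ModuleCat.of O ↥ω) 2) : Module.length O (↥ω ⧸ Submodule.comap ω.subtype (1 : Submodule O K)) + Module.length O (↥(integralClosure O K) ⧸ ((1 : Submodule O K).colon (Subalgebra.toSubmodule (integralClosure O K))) • (⊤ : Submodule O ↥(integralClosure O K))) = 2 * Module.length O (↥(integralClosure O K) ⧸ Submodule.comap (Subalgebra.toSubmodule (integralClosure O K)).subtype (1 : Submodule O K)) := by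
  have hωfg : ω.FG := Submodule.FG.of_le (fg_nc hfin) hω2
  have hω : IsCan ω := ⟨(Submodule.ne_bot_iff _).mpr ⟨1, hω1 (Submodule.mem_one.mpr ⟨1, map_one _⟩), one_ne_zero⟩, hωfg, hωinj⟩
  have hdd := div_self_eq_one hdim hω
  have hJ := rlen_div hdim hω (fg_nc hfin) one_le_nc
  rw [div_nc_eq hdd hω1 hω2] at hJ
  have hCω : (1 : Submodule O K) / nc O K ≤ ω := by
    rw [← div_nc_eq hdd hω1 hω2]
    intro z hz
    simpa using Submodule.mem_div_iff_forall_mul_mem.mp hz 1 (one_le_nc (Submodule.mem_one.mpr ⟨1, map_one _⟩))
  rw [colon_smul_top]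
  show rlen 1 ω + rlen (1 / nc O K) (nc O K) = 2 * rlen 1 (nc O K)
  rw [rlen_add hCω hω2, hJ, rlen_add hω1 hω2]
  ring

end Groth.Agent.S15008
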