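import Groth.Statements.S1501
import Groth.Agent.Lib.AmpleThick.Basic
import Groth.Agent.Lib.Ample.RelAmple

set_option autoImplicit false
universe u
open FlatMor

namespace Groth.Agent.S1501

open AlgebraicGeometry CategoryTheory Limits in
/-- Let (f, f') : (X ⊂ X') → (S ⊂ S') be a morphism of thickenings (iX : X → X' and iS : S → S'
thickenings with f ≫ iS = iX ≫ f') and L' an invertible O_{X'}-module with pullback L to X. Then L'
is ample relative to f' if and only if L is ample relative to f. -/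
theorem result {X X' S S' : Scheme.{u}} (iX : X ⟶ X') (iS : S ⟶ S') (f : X ⟶ S) (f' : X' ⟶ S')
    (hX : MoreMor.IsThickening iX) (hS : MoreMor.IsThickening iS) (w : iX ≫ f' = f ≫ iS)
    (L' : X'.Modules) (hL' : PicF.IsInvertible L') :
    RelAmple.IsRelAmple f' L' ↔ RelAmple.IsRelAmple f ((Scheme.Modules.pullback iX).obj L') := by
  obtain ⟨hXc, hXs⟩ := hX
  obtain ⟨hSc, hSs⟩ := hS
  have hqA : Mor2.IsQuasiAffine iX := Groth.Agent.Lib.Ample.Pullback.isQuasiAffine_of_isAffineHom iX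
  constructor
  · intro h
    haveI := h.1
    haveI : QuasiCompact f := by
      haveI : QuasiCompact (f ≫ iS) := by rw [← w]; infer_instance
      exact QuasiCompact.of_comp f iS
    have h1 := Groth.Agent.Lib.Ample.RelAmple.isRelAmple_pullback f' iX hqA h
    rw [w] at h1
    exact Groth.Agent.Lib.Ample.RelAmple.isRelAmple_of_comp f iS h1
  · intro h
    haveI := h.1
    have hbij : Function.Bijective iX := ⟨iX.isEmbedding.injective, iX.surjective⟩
    haveI : QuasiCompact f' := by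
      haveI : QuasiCompact (iX ≫ f') := by rw [w]; infer_instance
      refine ⟨fun U hU hU' => ?_⟩
      have h2 := (QuasiCompact.isCompact_preimage (f := iX ≫ f') U hU hU').image iX.continuous
      rwa [show (iX ≫ f') ⁻¹' U = iX ⁻¹' (f' ⁻¹' U) from rfl, Set.image_preimage_eq _ hbij.2] at h2
    refine (Groth.Agent.Lib.Ample.RelAmple.isRelAmple_iff f').2 ⟨inferInstance, fun V' hV' => ?_⟩
    have h1 := ((Groth.Agent.Lib.Ample.RelAmple.isRelAmple_iff f).1 h).2 _ (hV'.preimage iS)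
    haveI : IsClosedImmersion (iX ∣_ (f' ⁻¹ᵁ V')) := IsZariskiLocalAtTarget.restrict hXc _
    haveI : Surjective (iX ∣_ (f' ⁻¹ᵁ V')) := IsZariskiLocalAtTarget.restrict hXs _
    refine Groth.Agent.Lib.AmpleThick.Basic.isAmple_of_pullback (iX ∣_ (f' ⁻¹ᵁ V'))
      (isHomeomorph_iff_isEmbedding_surjective.2 ⟨(iX ∣_ (f' ⁻¹ᵁ V')).isEmbedding, (iX ∣_ (f' ⁻¹ᵁ V')).surjective⟩)
      (PicLoc.isInvertible_pullback _ hL') ?_
    have he : iX ⁻¹ᵁ (f' ⁻¹ᵁ V') = f ⁻¹ᵁ (iS ⁻¹ᵁ V') := by
      rw [← Scheme.Hom.comp_preimage, ← Scheme.Hom.comp_preimage, w]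
    have h2 : CohB1.IsAmple ((Scheme.Modules.pullback (iX ⁻¹ᵁ (f' ⁻¹ᵁ V')).ι).obj
        ((Scheme.Modules.pullback iX).obj L')) :=
      Groth.Agent.Lib.Ample.Restrict.isAmple_pb_of_range_eq _ _ (by rw [he]) h1
    exact Groth.Agent.Lib.Ample.Pow.isAmple_of_iso ((Scheme.Modules.pullbackComp _ _).app L' ≪≫
      (Scheme.Modules.pullbackCongr (morphismRestrict_ι iX (f' ⁻¹ᵁ V')).symm).app L' ≪≫
      ((Scheme.Modules.pullbackComp _ _).app L').symm) h2

end Groth.Agent.S1501
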