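import Groth.Statements.S15010
import Mathlib

set_option autoImplicit false
set_option backward.isDefEq.respectTransparency false
universe u
open TFCurv

namespace Groth.Agent.S15010

variable {O : Type u} [CommRing O] [IsDomain O] {K : Type u} [Field K] [Algebra O K] [IsFractionRing O K]
  {n : ℕ}

/-- Linear maps out of a lattice containing the standard one are given by matrices. -/
theorem exists_matrix (M N : Submodule O (Fin n → K))
    (hM1 : Submodule.pi Set.univ (fun _ : Fin n => (1 : Submodule O K)) ≤ M)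
    (hN2 : N ≤ Submodule.pi Set.univ (fun _ : Fin n => (Subalgebra.toSubmodule (integralClosure O K))))
    (φ : ↥M →ₗ[O] ↥N) :
    ∃ A : Matrix (Fin n) (Fin n) ↥(integralClosure O K), ∀ x : ↥M,
      ((φ x : ↥N) : Fin n → K) = (A.map (algebraMap ↥(integralClosure O K) K)).mulVec (x : Fin n → K) := by
  classical
  have hstd : ∀ c : Fin n → O, (fun i => algebraMap O K (c i)) ∈ M := fun c =>
    hM1 (Submodule.mem_pi.mpr fun i _ => Submodule.mem_one.mpr ⟨c i, rfl⟩)
  let e : Fin n → M := fun j => ⟨_, hstd (Pi.single j 1)⟩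
  let A : Matrix (Fin n) (Fin n) ↥(integralClosure O K) := fun i j =>
    ⟨((φ (e j) : N) : Fin n → K) i, Submodule.mem_pi.mp (hN2 (φ (e j)).2) i trivial⟩
  refine ⟨A, fun x => ?_⟩
  obtain ⟨s, hs⟩ := IsLocalization.exist_integer_multiples_of_finite (nonZeroDivisors O) (fun i => (x : Fin n → K) i)
  choose c hc using hs
  have hsx : (s : O) • x = ∑ j, c j • e j := by
    apply Subtype.ext
    funext i
    rw [AddSubmonoidClass.coe_finset_sum, Finset.sum_apply, Finset.sum_eq_single i]
    · simp [e, ← hc i, Algebra.smul_def]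
    · intro j _ hj; simp [e, Pi.single_eq_of_ne (Ne.symm hj)]
    · intro h; exact absurd (Finset.mem_univ i) h
  funext i
  have hs0 : algebraMap O K s ≠ 0 := IsFractionRing.to_map_ne_zero_of_mem_nonZeroDivisors s.2
  have hφ := congrFun (congrArg Subtype.val (congrArg φ hsx)) i
  rw [map_sum, AddSubmonoidClass.coe_finset_sum, Finset.sum_apply] at hφ
  simp only [map_smul, Submodule.coe_smul, Pi.smul_apply, Algebra.smul_def] at hφ
  refine mul_left_cancel₀ hs0 ?_
  rw [hφ, Matrix.mulVec, dotProduct, Finset.mul_sum]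
  refine Finset.sum_congr rfl fun j _ => ?_
  rw [hc j, Algebra.smul_def]
  show _ = algebraMap O K s * (((φ (e j) : N) : Fin n → K) i * _)
  ring

/-- Let O be a one-dimensional Noetherian local domain with algebraically closed residue field whose
integral closure O~ in its fraction field K is a finite O-module. If M and N are O-submodules of K^n
with O^n ⊆ M ⊆ O~^n and O^n ⊆ N ⊆ O~^n, then every O-linear isomorphism M → N is the restriction of
x ↦ A·x for an invertible n × n matrix A with entries in O~. -/
theorem result (O : Type u) [CommRing O] [IsDomain O] [IsNoetherianRing O] [IsLocalRing O] (hdim : ringKrullDim O = 1) [IsAlgClosed (IsLocalRing.ResidueField O)] (K : Type u) [Field K] [Algebra O K] [IsFractionRing O K] (hfin : Module.Finite O ↥(integralClosure O K)) (n : ℕ) (M N : Submodule O (Fin n → K)) (hM1 : Submodule.pi Set.univ (fun _ : Fin n => (1 : Submodule O K)) ≤ M) (hM2 : M ≤ Submodule.pi Set.univ (fun _ : Fin n => (Subalgebra.toSubmodule (integralClosure O K)))) (hN1 : Submodule.pi Set.univ (fun _ : Fin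 n => (1 : Submodule O K)) ≤ N) (hN2 : N ≤ Submodule.pi Set.univ (fun _ : Fin n => (Subalgebra.toSubmodule (integralClosure O K)))) (φ : ↥M ≃ₗ[O] ↥N) : ∃ A : Matrix (Fin n) (Fin n) ↥(integralClosure O K), IsUnit A ∧ ∀ x : ↥M, ((φ x : ↥N) : Fin n → K) = (A.map (algebraMap ↥(integralClosure O K) K)).mulVec (x : Fin n → K) := by
  classical
  obtain ⟨A, hA⟩ := exists_matrix M N hM1 hN2 φ.toLinearMap
  obtain ⟨B, hB⟩ := exists_matrix N M hN1 hM2 φ.symm.toLinearMap
  refine ⟨A, ?_, hA⟩
  have hinj : Function.Injective (algebraMap ↥(integralClosure O K) K) := Subtype.val_injective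
  have h : A * B = 1 := by
    apply Matrix.map_injective hinj
    simp only [Matrix.map_mul, Matrix.map_one _ (map_zero _) (map_one _)]
    refine Matrix.ext_of_mulVec_single fun j => ?_
    have hj : (Pi.single j 1 : Fin n → K) ∈ N := hN1 (Submodule.mem_pi.mpr fun i _ => by
      rcases eq_or_ne i j with rfl | h
      · rw [Pi.single_eq_same]; exact Submodule.mem_one.mpr ⟨1, map_one _⟩
      · rw [Pi.single_eq_of_ne h]; exact zero_mem _)
    rw [← Matrix.mulVec_mulVec, Matrix.one_mulVec]
    have h1 := hB ⟨_, hj⟩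
    have h2 := hA (φ.symm ⟨_, hj⟩)
    simp only [LinearEquiv.coe_coe, LinearEquiv.apply_symm_apply] at h1 h2
    rw [← h1, ← h2]
  exact IsUnit.of_mul_eq_one B h

end Groth.Agent.S15010
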