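import Groth.Statements.S15011
import Mathlib
import Groth.Agent.S0616
import Groth.Agent.Lib.SemiLocalDimOne.KrullAkizuki

set_option autoImplicit false
universe u
open TFCurv

namespace Groth.Agent.S15011

open Pointwise

theorem spanFinrank_top_eq {O M : Type u} [CommRing O] [IsLocalRing O] [AddCommGroup M] [Module O M] [Module.Finite O M] :
    (⊤ : Submodule O M).spanFinrank = Module.finrank (O ⧸ IsLocalRing.maximalIdeal O) (M ⧸ (IsLocalRing.maximalIdeal O) • (⊤ : Submodule O M)) := by
  rw [IsLocalRing.spanFinrank_eq_finrank_quotient _ Module.Finite.fg_top]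
  exact ((Submodule.Quotient.equiv _ _ Submodule.topEquiv (by
    rw [Submodule.map_smul'', Submodule.map_top, LinearEquiv.range])).extendScalarsOfSurjective
      Ideal.Quotient.mk_surjective).finrank_eq

theorem len_eq {O : Type u} [CommRing O] [IsDomain O] [IsNoetherianRing O] [IsLocalRing O] (hdim : ringKrullDim O = 1)
    (M : Type u) [AddCommGroup M] [Module O M] [Module.Finite O M] [NoZeroSMulDivisors O M] (x : O) (hx : x ≠ 0) (n : ℕ)
    (hn : Module.rank O M = n) :
    Module.length O (M ⧸ x • (⊤ : Submodule O M)) = n * Module.length O (O ⧸ Ideal.span {x}) := by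
  classical
  rw [Groth.Agent.S0616.result hdim M x (fun p hp hxp => by
    rw [IsDomain.minimalPrimes_eq_singleton_bot, Set.mem_singleton_iff] at hp
    rw [hp, Ideal.mem_bot] at hxp
    exact hx hxp)]
  have hker : LinearMap.ker (LinearMap.lsmul O M x) = ⊥ := LinearMap.ker_eq_bot'.mpr fun v hv =>
    (smul_eq_zero.mp (hv : x • v = 0)).resolve_left hx
  have h0 : Module.length O (LinearMap.ker (LinearMap.lsmul O M x)) = 0 := by
    rw [Module.length_eq_zero_iff, hker]; infer_instance
  let b : PrimeSpectrum O := ⟨⊥, Ideal.isPrime_bot⟩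
  rw [h0, zero_add, finsum_eq_single _ b]
  · rw [finsum_eq_if, if_pos (by rw [IsDomain.minimalPrimes_eq_singleton_bot]; rfl), bot_sup_eq]
    congr 1
    let L := Localization.AtPrime b.asIdeal
    have hle : b.asIdeal.primeCompl ≤ nonZeroDivisors O := Ideal.primeCompl_le_nonZeroDivisors _
    have hF : IsField L := by
      rw [IsLocalRing.isField_iff_maximalIdeal_eq, ← IsLocalization.AtPrime.map_eq_maximalIdeal b.asIdeal L]
      exact Ideal.map_bot
    letI := hF.toField
    have hr : Module.rank L (LocalizedModule b.asIdeal.primeCompl M) = (n : Cardinal) := by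
      rw [IsLocalization.rank_eq L b.asIdeal.primeCompl hle,
        IsLocalizedModule.rank_eq b.asIdeal.primeCompl hle (LocalizedModule.mkLinearMap b.asIdeal.primeCompl M), hn]
    rw [Module.length_eq_rank, hr, Cardinal.toENat_nat]
  · intro p hp
    rw [finsum_eq_if, if_neg]
    intro hmem
    rw [IsDomain.minimalPrimes_eq_singleton_bot, Set.mem_singleton_iff] at hmem
    exact hp (PrimeSpectrum.ext hmem)


/-- Let O be a one-dimensional Noetherian local domain with maximal ideal m and algebraically closed
residue field, whose integral closure O~ in its fraction field K is a finite O-module; put e =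
length(O~/m O~), the multiplicity of O. Then a finitely generated torsion-free O-module of rank n
can be generated by at most n·e elements. -/
theorem result (O : Type u) [CommRing O] [IsDomain O] [IsNoetherianRing O] [IsLocalRing O] (hdim : ringKrullDim O = 1) [IsAlgClosed (IsLocalRing.ResidueField O)] (K : Type u) [Field K] [Algebra O K] [IsFractionRing O K] (hfin : Module.Finite O ↥(integralClosure O K)) (M : Type u) [AddCommGroup M] [Module O M] [Module.Finite O M] [NoZeroSMulDivisors O M] (n : ℕ) (hn : Module.finrank K (TensorProduct O K M) = n) : ((⊤ : Submodule O M).spanFinrank : ℕ∞) ≤ (n : ℕ∞) * Module.length O (↥(integralClosure O K) ⧸ (IsLocalRing.maximalIdeal O) • (⊤ : Submodule O ↥(integralClosure O K))) := by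
  classical
  haveI : Ring.KrullDimLE 1 O := Ring.krullDimLE_iff.mpr (le_of_eq hdim)
  let C := integralClosure O K
  haveI : Module.Finite O C := hfin
  haveI : IsDedekindDomain C := Groth.Agent.Lib.SemiLocalDimOne.KrullAkizuki.isDedekindDomain_integralClosure
  haveI : Finite (MaximalSpectrum O) := inferInstance
  haveI : Finite (MaximalSpectrum C) := Groth.Agent.Lib.SemiLocalDimOne.KrullAkizuki.finite_maximalSpectrum_subalgebra C
  have hinjOC : Function.Injective (algebraMap O C) := fun a b h => IsFractionRing.injective O K (congrArg Subtype.val h)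
  let m := IsLocalRing.maximalIdeal O
  have hm0 : m ≠ ⊥ := fun h => by
    have hF := IsLocalRing.isField_iff_maximalIdeal_eq.mpr h
    rw [ringKrullDim_eq_zero_of_isField hF] at hdim
    exact zero_ne_one hdim
  let J := m.map (algebraMap O C)
  have hJ0 : J ≠ ⊥ := fun h => hm0 ((Ideal.map_eq_bot_iff_of_injective hinjOC).mp h)
  have hJP : ∀ P : MaximalSpectrum C, J ≤ P.asIdeal := fun P => by
    haveI := P.isMaximal
    rw [Ideal.map_le_iff_le_comap]
    exact (IsLocalRing.eq_maximalIdeal (Ideal.isMaximal_comap_of_isIntegral_of_isMaximal (R := O) P.asIdeal)).ge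
  let T : MaximalSpectrum C → Ideal O := fun P => (P.asIdeal * J).comap (algebraMap O C)
  let W : MaximalSpectrum C → Subspace (IsLocalRing.ResidueField O) (IsLocalRing.CotangentSpace O) := fun P =>
    { carrier := ((Submodule.comap m.subtype (T P)).map m.toCotangent : Submodule O (IsLocalRing.CotangentSpace O))
      add_mem' := fun ha hb => Submodule.add_mem _ ha hb
      zero_mem' := Submodule.zero_mem _
      smul_mem' := fun r v hv => by
        obtain ⟨r, rfl⟩ := IsLocalRing.residue_surjective r
        show (algebraMap O (IsLocalRing.ResidueField O) r) • v ∈ _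
        rw [algebraMap_smul]
        exact Submodule.smul_mem _ _ hv }
  have hW : ∀ P, W P ≠ ⊤ := by
    intro P hP
    have hle : m ≤ T P := by
      intro x hx
      have hx' : m.toCotangent ⟨x, hx⟩ ∈ W P := by rw [hP]; trivial
      obtain ⟨y, hy, hyx⟩ := hx'
      rw [Ideal.toCotangent_eq] at hyx
      have hsq : m ^ 2 ≤ T P := by
        rw [← Ideal.map_le_iff_le_comap, Ideal.map_pow, pow_two]
        exact Ideal.mul_mono_left (hJP P)
      have hy' : (y : O) ∈ T P := hy
      have h2 := sub_mem hy' (hsq hyx)
      simpa using h2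
    have h3 : J = P.asIdeal * J := le_antisymm (Ideal.map_le_iff_le_comap.mpr hle) Ideal.mul_le_right
    exact P.isMaximal.ne_top (by
      rw [← Ideal.one_eq_top]
      exact (mul_eq_right₀ hJ0).mp h3.symm)
  haveI : Infinite (IsLocalRing.ResidueField O) := IsAlgClosed.instInfinite
  obtain ⟨v, hv⟩ : ∃ v : IsLocalRing.CotangentSpace O, ∀ P, v ∉ W P := by
    by_contra hcon
    push Not at hcon
    obtain ⟨P, hP⟩ := Subspace.exists_eq_top_of_iUnion_eq_univ (p := W)
      (Set.eq_univ_of_forall fun v => Set.mem_iUnion.mpr (hcon v))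
    exact hW P hP
  obtain ⟨⟨x, hxm⟩, rfl⟩ := Ideal.toCotangent_surjective _ v
  have hxT : ∀ P : MaximalSpectrum C, algebraMap O C x ∉ P.asIdeal * J := fun P h => hv P ⟨⟨x, hxm⟩, h, rfl⟩
  have hxJ : Ideal.span {algebraMap O C x} = J := by
    have hle : Ideal.span {algebraMap O C x} ≤ J := by
      rw [Ideal.span_le, Set.singleton_subset_iff]; exact Ideal.mem_map_of_mem _ hxm
    obtain ⟨I, hI⟩ := Ideal.dvd_iff_le.mpr hle
    by_cases hIt : I = ⊤
    · rw [hI, hIt, Ideal.mul_top]
    · obtain ⟨P, hP, hIP⟩ := Ideal.exists_le_maximal I hIt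
      refine absurd ?_ (hxT ⟨P, hP⟩)
      rw [mul_comm P]
      exact Ideal.mul_mono_right hIP (hI ▸ Ideal.mem_span_singleton_self _)
  have hx0 : x ≠ 0 := fun h => hJ0 (by rw [← hxJ, h, map_zero, Ideal.span_singleton_eq_bot])
  have hsmul : m • (⊤ : Submodule O C) = x • (⊤ : Submodule O C) := by
    rw [Ideal.smul_top_eq_map]
    refine Submodule.ext fun z => ?_
    rw [Submodule.restrictScalars_mem, show m.map (algebraMap O C) = J from rfl, ← hxJ, Ideal.mem_span_singleton,
      Submodule.mem_smul_pointwise_iff_exists]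
    simp only [Submodule.mem_top, true_and, Algebra.smul_def]
    exact ⟨fun ⟨c, hc⟩ => ⟨c, hc.symm⟩, fun ⟨c, hc⟩ => ⟨c, hc.symm⟩⟩
  haveI : FiniteDimensional K (TensorProduct O K M) := inferInstance
  have hML := len_eq hdim M x hx0 n (by
    rw [← (TensorProduct.isBaseChange O M K).rank_eq, ← Module.finrank_eq_rank K, hn])
  have hrC : Module.rank O C = 1 := by
    have hK : Module.rank O K = 1 := by
      rw [← IsLocalization.rank_eq K (nonZeroDivisors O) le_rfl, Module.rank_self]
    refine le_antisymm (hK ▸ LinearMap.rank_le_of_injective (IsScalarTower.toAlgHom O C K).toLinearMap Subtype.val_injective) ?_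
    rw [← Module.rank_self O]
    exact LinearMap.rank_le_of_injective (Algebra.linearMap O C) hinjOC
  haveI : NoZeroSMulDivisors O C := ⟨fun {r c} h => by
    rw [Algebra.smul_def] at h
    exact (mul_eq_zero.mp h).imp_left fun h' => hinjOC (h'.trans (map_zero _).symm)⟩
  have hCL := len_eq hdim C x hx0 1 (by rw [hrC, Nat.cast_one])
  rw [Nat.cast_one, one_mul] at hCL
  rw [hsmul, hCL, ← hML]
  refine le_trans ?_ (Module.length_le_of_surjective (Submodule.factor (p := x • (⊤ : Submodule O M))
    (p' := m • (⊤ : Submodule O M)) ?_) (Submodule.factor_surjective _))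
  · have h1 := IsLocalRing.spanFinrank_eq_finrank_quotient (⊤ : Submodule O M) (Module.Finite.fg_top)
    letI : Module (O ⧸ m) (M ⧸ m • (⊤ : Submodule O M)) := inferInstance
    haveI : Module.Finite (O ⧸ m) (M ⧸ m • (⊤ : Submodule O M)) := Module.Finite.of_restrictScalars_finite O _ _
    letI : DivisionRing (O ⧸ m) := (Ideal.Quotient.field m).toDivisionRing
    rw [Module.length_eq_of_surjective (R := O ⧸ m) Ideal.Quotient.mk_surjective, Module.length_eq_finrank (O ⧸ m)]
    refine le_of_eq ?_
    congr 1
    rw [spanFinrank_top_eq]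
  · intro z hz
    obtain ⟨w, -, rfl⟩ := (Submodule.mem_smul_pointwise_iff_exists _ _ _).mp hz
    exact Submodule.smul_mem_smul hxm trivial

end Groth.Agent.S15011
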