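import Groth.Statements.S15012
import Groth.Agent.H15.CanDual.Between
import Groth.Agent.H15.CanDual.Colength
import Groth.Agent.S15009
import Mathlib
-- import your own Groth.Agent.* helpers here

set_option autoImplicit false
universe u
open TFCurv

namespace Groth.Agent.S15012

open Groth.Agent.H15.CanDual.RLen Groth.Agent.H15.CanDual.Basic Groth.Agent.H15.CanDual.Conductor Groth.Agent.H15.CanDual.Between Groth.Agent.H15.CanDual.Colength

/-- A unimodular spanning lattice has colength at most that of the standard one. -/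
theorem rlen_le_of_span_eq_top {O : Type u} [CommRing O] [IsLocalRing O] [IsNoetherianRing O] [IsAlgClosed (IsLocalRing.ResidueField O)]
    {C : Type u} [CommRing C] [Algebra O C] [Algebra.IsIntegral O C] [Module.Finite O C] [Finite (MaximalSpectrum C)] {n : ℕ}
    (L : Submodule O (Fin n → C)) (hL : Submodule.span C (L : Set (Fin n → C)) = ⊤) :
    rlen L ⊤ ≤ n * rlen (Submodule.span O {(1 : C)}) (⊤ : Submodule O C) := by
  classical
  haveI : Module.Finite O ↥L := Module.Finite.iff_fg.mpr (IsNoetherian.noetherian L)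
  obtain ⟨N, g, hg⟩ := Module.Finite.exists_fin (R := O) (M := ↥L)
  set A : Matrix (Fin N) (Fin n) C := Matrix.of fun t s => (g t : Fin n → C) s with hA
  have hspan : Submodule.span C (Set.range fun t => (g t : Fin n → C)) = ⊤ := by
    rw [eq_top_iff, ← hL, Submodule.span_le]
    intro x hx
    have hx' : (⟨x, hx⟩ : ↥L) ∈ Submodule.span O (Set.range g) := hg ▸ Submodule.mem_top
    obtain ⟨c, hc⟩ := (Submodule.mem_span_range_iff_exists_fun O).mp hx'
    refine (Submodule.mem_span_range_iff_exists_fun C).mpr ⟨fun t => algebraMap O C (c t), ?_⟩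
    have := congrArg Subtype.val hc
    simp only [Submodule.coe_sum, Submodule.coe_smul] at this
    simpa [algebraMap_smul] using this
  choose B hB using fun s => (Submodule.mem_span_range_iff_exists_fun C).mp (hspan ▸ Submodule.mem_top (x := (Pi.single s 1 : Fin n → C)))
  have hBA : (Matrix.of fun s t => B s t) * A = 1 := by
    ext s s'
    rw [Matrix.mul_apply, Matrix.one_apply]
    have := congrFun (hB s) s'
    simp only [Finset.sum_apply, Pi.smul_apply, smul_eq_mul, Pi.single_apply] at this
    simpa [A, eq_comm] using this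
  obtain ⟨c, hc⟩ := Groth.Agent.S15009.exists_det_unit (O := O) A _ hBA
  set E : Matrix (Fin n) (Fin n) C := c.map (algebraMap O C) * A with hE
  let U : (Fin n → C) →ₗ[O] (Fin n → C) := (Matrix.vecMulLinear E).restrictScalars O
  have hUi : Function.Injective U := fun x y h => by
    have := congrArg (fun z => Matrix.vecMul z E⁻¹) (show Matrix.vecMul x E = Matrix.vecMul y E from h)
    simpa [Matrix.vecMul_vecMul, Matrix.mul_nonsing_inv _ hc] using this
  have hUs : (⊤ : Submodule O (Fin n → C)).map U = ⊤ := by
    rw [Submodule.map_top, LinearMap.range_eq_top]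
    intro y
    refine ⟨Matrix.vecMul y E⁻¹, ?_⟩
    show Matrix.vecMul (Matrix.vecMul y E⁻¹) E = y
    rw [Matrix.vecMul_vecMul, Matrix.nonsing_inv_mul _ hc, Matrix.vecMul_one]
  set T : Submodule O (Fin n → C) := Submodule.pi Set.univ fun _ => Submodule.span O {(1 : C)} with hT
  have hTL : T.map U ≤ L := by
    rintro _ ⟨x, hx, rfl⟩
    choose o ho using fun s => Submodule.mem_span_singleton.mp (hx s (Set.mem_univ s))
    have : U x = ∑ s, o s • ∑ t, c s t • (g t : Fin n → C) := by
      funext s'
      show Matrix.vecMul x E s' = _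
      rw [Matrix.vecMul, dotProduct, Finset.sum_apply]
      refine Finset.sum_congr rfl fun s _ => ?_
      rw [← ho s, hE, Matrix.mul_apply, Pi.smul_apply, Finset.sum_apply, Finset.smul_sum, Finset.mul_sum]
      refine Finset.sum_congr rfl fun t _ => ?_
      simp [A, Algebra.smul_def]
    rw [this]
    exact Submodule.sum_mem _ fun s _ => L.smul_mem _ (Submodule.sum_mem _ fun t _ => L.smul_mem _ (g t).2)
  calc rlen L ⊤ ≤ rlen (T.map U) ⊤ := rlen_mono hTL le_top
    _ = rlen T ⊤ := by conv_lhs => rw [← hUs]; rw [rlen_map U hUi]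
    _ = n * rlen (Submodule.span O {(1 : C)}) (⊤ : Submodule O C) := by
      rw [hT, show (⊤ : Submodule O (Fin n → C)) = Submodule.pi Set.univ (fun _ => (⊤ : Submodule O C)) by simp, rlen_pi]
      simp

/-- scaling the coordinates with respect to a basis -/
noncomputable def scale {C : Type u} [CommRing C] {n : ℕ} (b : Module.Basis (Fin n) C (Fin n → C)) (e : Fin n → C) :
    (Fin n → C) →ₗ[C] (Fin n → C) :=
  b.constr C fun i => e i • b i

theorem scale_repr {C : Type u} [CommRing C] {n : ℕ} (b : Module.Basis (Fin n) C (Fin n → C)) (e : Fin n → C)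
    (x : Fin n → C) (i : Fin n) : b.repr (scale b e x) i = e i * b.repr x i := by
  classical
  rw [scale, Module.Basis.constr_apply_fintype, map_sum, Finsupp.finsetSum_apply]
  rw [Finset.sum_eq_single i]
  · simp [Module.Basis.equivFun_apply, mul_comm]
  · intro j _ hj; simp [Finsupp.single_eq_of_ne hj.symm]
  · simp

theorem scale_injective {C : Type u} [CommRing C] [IsDomain C] {n : ℕ} (b : Module.Basis (Fin n) C (Fin n → C)) {e : Fin n → C}
    (he : ∀ i, e i ≠ 0) : Function.Injective (scale b e) := fun x y h => b.repr.injective (Finsupp.ext fun i =>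
  mul_left_cancel₀ (he i) (by rw [← scale_repr, ← scale_repr, h]))

theorem rlen_scale {O : Type u} [CommRing O] {C : Type u} [CommRing C] [IsDomain C] [Algebra O C] {n : ℕ}
    (b : Module.Basis (Fin n) C (Fin n → C)) {e : Fin n → C} (he : ∀ i, e i ≠ 0) (L : Submodule O (Fin n → C)) :
    rlen (L.map ((scale b e).restrictScalars O)) ⊤ = rlen L ⊤ + ∑ i, cl O (e i) := by
  classical
  set φ := (scale b e).restrictScalars O
  have hφ : Function.Injective φ := scale_injective b he
  rw [rlen_add (B := (⊤ : Submodule O (Fin n → C)).map φ) (Submodule.map_mono le_top) le_top, rlen_map φ hφ]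
  congr 1
  let R : (Fin n → C) →ₗ[O] (Fin n → C) := (b.equivFun : (Fin n → C) →ₗ[C] (Fin n → C)).restrictScalars O
  have hR : Function.Injective R := b.equivFun.injective
  rw [← rlen_map R hR]
  have h1 : ((⊤ : Submodule O (Fin n → C)).map φ).map R = Submodule.pi Set.univ fun i => (Ideal.span {e i}).restrictScalars O := by
    ext z
    constructor
    · rintro ⟨_, ⟨x, -, rfl⟩, rfl⟩ i -
      exact Ideal.mem_span_singleton'.mpr ⟨b.repr x i, (mul_comm _ _).trans (scale_repr b e x i).symm⟩
    · intro hz
      choose c hc using fun i => Ideal.mem_span_singleton'.mp (hz i (Set.mem_univ i))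
      refine ⟨φ (b.equivFun.symm c), ⟨_, trivial, rfl⟩, funext fun i => ?_⟩
      show b.repr (scale b e (b.equivFun.symm c)) i = z i
      rw [scale_repr, ← Module.Basis.equivFun_apply, b.equivFun.apply_symm_apply, mul_comm, hc]
  have h2 : (⊤ : Submodule O (Fin n → C)).map R = Submodule.pi Set.univ fun _ => (⊤ : Submodule O C) := by
    rw [Submodule.map_top, LinearMap.range_eq_top.mpr (show Function.Surjective R from b.equivFun.surjective)]
    simp
  rw [h1, h2, rlen_pi]
  rfl

set_option maxHeartbeats 1600000 in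

/-- Let O be a one-dimensional Gorenstein local domain with algebraically closed residue field whose
integral closure O~ in its fraction field K is a finite O-module, and let C ⊆ O be the conductor of
O in O~. Every finitely generated torsion-free O-module of rank n is isomorphic to an O-submodule M'
of K^n with C^n ⊆ M' ⊆ O~^n and length(M'/C^n) = n · length(O/C); that is, every isomorphism class
of rank-n torsion-free modules is represented by a submodule of (O~/C)^n of the same length as
(O/C)^n. -/
theorem result (O : Type u) [CommRing O] [IsDomain O] [LocCoh.IsGorensteinLocalRing O] (hdim : ringKrullDim O = 1) [IsAlgClosed (IsLocalRing.ResidueField O)] (K : Type u) [Field K] [Algebra O K] [IsFractionRing O K] (hfin : Module.Finite O ↥(integralClosure O K)) (M : Type u) [AddCommGroup M] [Module O M] [Module.Finite O M] [NoZeroSMulDivisors O M] (n : ℕ) (hn : Module.finrank K (TensorProduct O K M) = n) : ∃ M' : Submodule O (Fin n → K), Submodule.pi Set.univ (fun _ : Fin n => (((1 : Submodule O K).colon (Subalgebra.toSubmodule (integralClosure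 O K))) • (1 : Submodule O K))) ≤ M' ∧ M' ≤ Submodule.pi Set.univ (fun _ : Fin n => (Subalgebra.toSubmodule (integralClosure O K))) ∧ Nonempty (M ≃ₗ[O] ↥M') ∧ Module.length O (↥M' ⧸ Submodule.comap M'.subtype (Submodule.pi Set.univ (fun _ : Fin n => (((1 : Submodule O K).colon (Subalgebra.toSubmodule (integralClosure O K))) • (1 : Submodule O K))))) = (n : ℕ∞) * Module.length O (O ⧸ ((1 : Submodule O K).colon (Subalgebra.toSubmodule (integralClosure O K)))) := by
  classical
  haveI : Ring.KrullDimLE 1 O := Ring.krullDimLE_iff.mpr (le_of_eq hdim)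
  let C := integralClosure O K
  haveI : Module.Finite O C := hfin
  haveI : Algebra.IsIntegral O C := Algebra.IsIntegral.of_finite O C
  haveI : IsDedekindDomain C := Groth.Agent.Lib.SemiLocalDimOne.KrullAkizuki.isDedekindDomain_integralClosure
  haveI hfinmax : Finite (MaximalSpectrum C) := Groth.Agent.Lib.SemiLocalDimOne.KrullAkizuki.finite_maximalSpectrum_subalgebra C
  haveI : IsPrincipalIdealRing C := IsPrincipalIdealRing.of_finite_maximals
    ((Set.finite_range (fun P : MaximalSpectrum C => P.asIdeal)).subset fun I hI => ⟨⟨I, hI⟩, rfl⟩)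
  have hω : IsCan (1 : Submodule O K) := isCan_one hdim
  obtain ⟨N, hN, h1, h2, ⟨eM⟩⟩ := exists_iso_dual_between hdim hfin hω M hn
  set M2 := dual (1 : Submodule O K) N with hM2
  set cd : Submodule O K := (1 : Submodule O K) / nc O K with hcd
  have hF : box n cd ≤ M2 := by
    have := dual_anti (ω := (1 : Submodule O K)) h2
    rwa [dual_box] at this
  have hM2le : M2 ≤ box n 1 := by
    have := dual_anti (ω := (1 : Submodule O K)) h1
    rwa [dual_box, one_div_eq] at this
  -- move to `C^n`
  let inc : (Fin n → C) →ₗ[O] (Fin n → K) := LinearMap.pi fun i => C.val.toLinearMap ∘ₗ LinearMap.proj i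
  have hinc : Function.Injective inc := fun x y h => funext fun i => Subtype.ext (congrFun h i)
  have hrange : ∀ X : Submodule O (Fin n → K), X ≤ box n (nc O K) → (X.comap inc).map inc = X := by
    intro X hX
    refine Submodule.map_comap_eq_self fun x hx => ⟨fun i => ⟨x i, mem_box.mp (hX hx) i⟩, rfl⟩
  have htop : (⊤ : Submodule O (Fin n → C)).map inc = box n (nc O K) := by
    rw [← hrange _ le_rfl]
    congr 1
    exact (eq_top_iff.mpr fun x _ => mem_box.mpr fun i => (x i).2).symm
  have hcdnc : cd ≤ nc O K := fun z hz => one_le_nc (by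
    simpa using Submodule.mem_div_iff_forall_mul_mem.mp hz 1 (one_le_nc (Submodule.mem_one.mpr ⟨1, map_one _⟩)))
  have hcd1 : cd ≤ 1 := fun z hz => by
    simpa using Submodule.mem_div_iff_forall_mul_mem.mp hz 1 (one_le_nc (Submodule.mem_one.mpr ⟨1, map_one _⟩))
  set P := M2.comap inc with hP
  set F := (box n cd).comap inc with hF'
  have hPmap : P.map inc = M2 := hrange _ (hM2le.trans (box_mono one_le_nc))
  have hFmap : F.map inc = box n cd := hrange _ (box_mono hcdnc)
  -- lengths
  have hδ : rlen cd (1 : Submodule O K) = rlen 1 (nc O K) := rlen_div hdim hω (fg_nc hfin) one_le_nc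
  have hδfin : rlen (1 : Submodule O K) (nc O K) ≠ ⊤ := by
    obtain ⟨c, hc, h⟩ := (isLat_box_one (O := O) (K := K) (n := 1)).exists_smul_mem (fg_box (n := 1) (fg_nc hfin))
    refine rlen_ne_top (fg_nc hfin) hc fun a ha => ?_
    have := mem_box.mp (h _ (single_mem_box ha 0)) 0
    rwa [Pi.smul_apply, Pi.single_eq_same] at this
  obtain ⟨δ, hδn⟩ := ENat.ne_top_iff_exists.mp hδfin
  have hFtot : rlen F ⊤ = ((n * δ + n * δ : ℕ) : ℕ∞) := by
    rw [← rlen_map inc hinc, hFmap, htop, rlen_box, rlen_add hcd1 one_le_nc, hδ, ← hδn]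
    push_cast
    ring
  have hspan1 : rlen (Submodule.span O {(1 : C)}) (⊤ : Submodule O C) = (δ : ℕ) := by
    rw [hδn, ← rlen_map C.val.toLinearMap Subtype.val_injective]
    congr 1
    · rw [Submodule.map_span, Set.image_singleton, Submodule.one_eq_span]; rfl
    · rw [Submodule.map_top]
      ext z
      refine Iff.trans LinearMap.mem_range ⟨?_, fun hz => ⟨⟨z, hz⟩, rfl⟩⟩
      rintro ⟨y, rfl⟩
      exact y.2
  have hPge : ((n * δ : ℕ) : ℕ∞) ≤ rlen P ⊤ := by
    rw [← rlen_map inc hinc, hPmap, htop, rlen_add hM2le (box_mono one_le_nc), rlen_box 1, ← hδn, Nat.cast_mul]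
    exact le_add_self
  -- the Smith normal form of the `C`-span
  set E : Submodule C (Fin n → C) := Submodule.span C (P : Set (Fin n → C)) with hE
  obtain ⟨a, ha, hcdK⟩ : ∃ a : C, a ≠ 0 ∧ (a : K) ∈ cd := by
    obtain ⟨o, ho, hoc⟩ := exists_algebraMap_mem (show cd ≠ ⊥ from fun h => by
      obtain ⟨b, hb, hbX⟩ := ((isLat_box_one (O := O) (K := K) (n := 1))).exists_smul_mem (fg_box (n := 1) (fg_nc hfin))
      have hb' : algebraMap O K b ∈ cd := Submodule.mem_div_iff_forall_mul_mem.mpr fun y hy => by
        have := mem_box.mp (hbX _ (single_mem_box hy 0)) 0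
        rwa [Pi.smul_apply, Pi.single_eq_same, Algebra.smul_def] at this
      rw [h, Submodule.mem_bot] at hb'
      exact hb (IsFractionRing.injective O K (hb'.trans (map_zero _).symm)))
    exact ⟨algebraMap O C o, fun h => ho (IsFractionRing.injective O K ((congrArg Subtype.val h).trans (map_zero _).symm)), hoc⟩
  have hcdideal : ∀ (x y : C), (x : K) ∈ cd → ((x * y : C) : K) ∈ cd := by
    intro x y hx
    refine Submodule.mem_div_iff_forall_mul_mem.mpr fun z hz => ?_
    rw [Subalgebra.coe_mul, mul_assoc]
    exact Submodule.mem_div_iff_forall_mul_mem.mp hx _ (C.mul_mem y.2 hz)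
  have hFE : ∀ x : Fin n → C, a • x ∈ E := fun x => Submodule.subset_span <| hF <| mem_box.mpr fun i => hcdideal a (x i) hcdK
  have hrank : Module.finrank C E = Module.finrank C (Fin n → C) := by
    refine le_antisymm (Submodule.finrank_le E) ?_
    let g : (Fin n → C) →ₗ[C] ↥E := LinearMap.codRestrict E (a • LinearMap.id) hFE
    have hg : Function.Injective g := fun x y h => by
      have h' : a • x = a • y := congrArg Subtype.val h
      exact smul_right_injective (Fin n → C) ha h'
    exact LinearMap.finrank_le_finrank_of_injective (f := g) hg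
  obtain ⟨b, d, ab, hab⟩ := Submodule.exists_smith_normal_form_of_rank_eq (Pi.basisFun C (Fin n)) hrank
  have hd0 : ∀ i, d i ≠ 0 := fun i h => ab.ne_zero i (Subtype.ext (by rw [hab, h, zero_smul]; rfl))
  set φ := (scale b d).restrictScalars O with hφ
  have hφi : Function.Injective φ := scale_injective b hd0
  have hPE : ∀ x ∈ P, x ∈ LinearMap.range (scale b d) := by
    intro x hx
    have hxE : x ∈ E := Submodule.subset_span hx
    refine ⟨∑ i, ab.repr ⟨x, hxE⟩ i • b i, ?_⟩
    have := congrArg Subtype.val (ab.sum_repr ⟨x, hxE⟩)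
    simp only [Submodule.coe_sum, Submodule.coe_smul, hab] at this
    rw [map_sum]
    refine Eq.trans (Finset.sum_congr rfl fun i _ => ?_) this
    rw [map_smul, scale, Module.Basis.constr_basis]
  set L0 := P.comap φ with hL0
  have hL0map : L0.map φ = P := Submodule.map_comap_eq_self fun x hx => hPE x hx
  have hL0span : Submodule.span C (L0 : Set (Fin n → C)) = ⊤ := by
    refine Submodule.map_injective_of_injective (f := scale b d) (scale_injective b hd0) ?_
    rw [Submodule.map_span]
    have himg : (scale b d) '' (L0 : Set (Fin n → C)) = (P : Set (Fin n → C)) := by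
      rw [← hL0map]; rfl
    rw [himg, ← hE, Submodule.map_top]
    refine le_antisymm (Submodule.span_le.mpr fun x hx => hPE x hx) ?_
    rintro _ ⟨x, rfl⟩
    have : scale b d x = ∑ i, b.repr x i • (ab i : Fin n → C) := by
      conv_lhs => rw [← b.sum_repr x]
      rw [map_sum]
      refine Finset.sum_congr rfl fun i _ => ?_
      rw [map_smul, scale, Module.Basis.constr_basis, hab]
    rw [this]
    exact Submodule.sum_mem _ fun i _ => E.smul_mem _ (ab i).2
  have hL0le : rlen L0 ⊤ ≤ ((n * δ : ℕ) : ℕ∞) := by
    have := rlen_le_of_span_eq_top L0 hL0span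
    rwa [hspan1, ← Nat.cast_mul] at this
  obtain ⟨l0, hl0⟩ := ENat.ne_top_iff_exists.mp (ne_top_of_le_ne_top (ENat.natCast_ne_top _) hL0le)
  obtain ⟨S, hS, hsub⟩ := exists_dvd_tuple (O := O) d hd0
  have hPcol : rlen P ⊤ = ((l0 + S : ℕ) : ℕ∞) := by
    rw [← hL0map, rlen_scale b hd0, hS, ← hl0, Nat.cast_add]
  rw [hPcol, Nat.cast_le] at hPge
  rw [← hl0, Nat.cast_le] at hL0le
  obtain ⟨e, hed, hesum⟩ := hsub (n * δ - l0) (by omega)
  have he0 : ∀ i, e i ≠ 0 := fun i h => hd0 i (zero_dvd_iff.mp (h ▸ hed i))
  choose k hk using hed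
  have hk0 : ∀ i, k i ≠ 0 := fun i h => hd0 i (by rw [hk i, h, mul_zero])
  set L := L0.map ((scale b e).restrictScalars O) with hL
  have hLcol : rlen L ⊤ = ((n * δ : ℕ) : ℕ∞) := by
    rw [rlen_scale b he0, hesum, ← hl0, ← Nat.cast_add]
    congr 1
    omega
  have hFL : F ≤ L := by
    intro x hx
    have hx' : scale b k x ∈ F := by
      refine mem_box.mpr fun i => ?_
      have : scale b k x = ∑ j, x j • scale b k (Pi.single j 1) := by
        conv_lhs => rw [pi_eq_sum_univ' x]
        simp
      show ((scale b k x i : C) : K) ∈ cd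
      rw [this, Finset.sum_apply, show ((∑ j, (x j • scale b k (Pi.single j 1)) i : C) : K) = ∑ j, (((x j • scale b k (Pi.single j 1)) i : C) : K) from map_sum C.val _ _]
      exact Submodule.sum_mem _ fun j _ => hcdideal (x j) _ (mem_box.mp hx j)
    have hx'' : scale b k x ∈ P := hF hx'
    rw [← hL0map] at hx''
    obtain ⟨y, hy, hyx⟩ := hx''
    refine ⟨y, hy, scale_injective b hk0 ?_⟩
    refine Eq.trans (b.repr.injective (Finsupp.ext fun i => ?_)) hyx
    show b.repr (scale b k (scale b e y)) i = b.repr (scale b d y) i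
    rw [scale_repr, scale_repr, scale_repr, hk i]
    ring
  have hLlen : rlen F L = ((n * δ : ℕ) : ℕ∞) := by
    have := rlen_add hFL (le_top (a := L))
    rw [hFtot, hLcol, Nat.cast_add] at this
    exact ((ENat.add_left_injective_of_ne_top (ENat.natCast_ne_top _)) this).symm
  refine ⟨L.map inc, ?_, ?_, ⟨eM.trans ((LinearEquiv.ofEq _ _ hPmap.symm).trans ((Submodule.equivMapOfInjective inc hinc P).symm.trans
    ((LinearEquiv.ofEq _ _ hL0map.symm).trans ((Submodule.equivMapOfInjective φ hφi L0).symm.trans
      ((Submodule.equivMapOfInjective ((scale b e).restrictScalars O) (scale_injective b he0) L0).trans (Submodule.equivMapOfInjective inc hinc L))))))⟩, ?_⟩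
  · rw [colon_smul_one]
    exact hFmap.symm.le.trans (Submodule.map_mono hFL)
  · rintro _ ⟨x, -, rfl⟩ i -
    exact (x i).2
  · rw [colon_smul_one]
    show rlen (box n cd) (L.map inc) = _
    rw [← hFmap, rlen_map inc hinc, hLlen, Nat.cast_mul, hδn, ← hδ]
    congr 1
    let f : O →ₗ[O] (↥(1 : Submodule O K) ⧸ cd.comap (1 : Submodule O K).subtype) :=
      (cd.comap (1 : Submodule O K).subtype).mkQ ∘ₗ LinearMap.codRestrict (1 : Submodule O K) (Algebra.linearMap O K)
        (fun a => Submodule.mem_one.mpr ⟨a, rfl⟩)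
    have hf : Function.Surjective f := by
      intro y
      obtain ⟨⟨z, hz⟩, rfl⟩ := Submodule.Quotient.mk_surjective _ y
      obtain ⟨a, rfl⟩ := Submodule.mem_one.mp hz
      exact ⟨a, rfl⟩
    have hker : LinearMap.ker f = (1 : Submodule O K).colon (nc O K) := by
      ext a
      rw [LinearMap.mem_ker, Submodule.mem_colon]
      refine (Submodule.Quotient.mk_eq_zero (cd.comap (1 : Submodule O K).subtype)).trans ?_
      show algebraMap O K a ∈ (1 : Submodule O K) / nc O K ↔ _
      rw [Submodule.mem_div_iff_forall_mul_mem]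
      simp only [Algebra.smul_def, SetLike.mem_coe]
    exact ((Submodule.quotEquivOfEq _ _ hker.symm).trans (f.quotKerEquivOfSurjective hf)).length_eq.symm

end Groth.Agent.S15012
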