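import Groth.Statements.S15015
import Groth.Agent.Lib.H84.ValueApprox
import Mathlib

set_option autoImplicit false
universe u
open TFCurv

namespace Groth.Agent.S15015

/-- Let k be an algebraically closed field and A ≠ k[[t]] a k-subalgebra of k[[t]] that is closed in the
t-adic topology, over which k[[t]] is a finite module, and such that every power series is carried
into A by multiplication with some nonzero element of A (so k[[t]] lies in the fraction field of A
and is its normalisation, as for the complete local ring of a unibranch curve singularity), and let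
Γ ⊆ ℕ be the set of t-orders of the nonzero elements of A (its value semigroup). Then ℕ ∖ Γ is
finite and the k-dimension of k[[t]]/A equals the number of gaps of Γ. -/
theorem result (k : Type u) [Field k] [IsAlgClosed k] (A : Subalgebra k (PowerSeries k)) (hA : Module.Finite ↥A (PowerSeries k)) (hcl : ∀ f : PowerSeries k, (∀ n : ℕ, ∃ g ∈ A, (n : ℕ∞) ≤ PowerSeries.order (f - g)) → f ∈ A) (hsing : A ≠ ⊤) (hbir : ∀ f : PowerSeries k, ∃ a ∈ A, a ≠ 0 ∧ a * f ∈ A) (Γ : Set ℕ) (hΓ : ∀ n : ℕ, n ∈ Γ ↔ ∃ f ∈ A, PowerSeries.order f = n) : Γᶜ.Finite ∧ Module.finrank k (PowerSeries k ⧸ Subalgebra.toSubmodule A) = Γᶜ.ncard := by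
  classical
  obtain ⟨s, hs⟩ := hA.fg_top
  choose a haA ha0 hamul using hbir
  set Y := ∏ b ∈ s, a b with hY
  have hYA : Y ∈ A := A.prod_mem fun b _ => haA b
  have hY0 : Y ≠ 0 := Finset.prod_ne_zero_iff.2 fun b _ => ha0 b
  have hYmul : ∀ f : PowerSeries k, Y * f ∈ A := by
    intro f
    have hf : f ∈ Submodule.span ↥A (↑s : Set (PowerSeries k)) := by rw [hs]; trivial
    induction hf using Submodule.span_induction with
    | mem x hx =>
      rw [hY, ← Finset.mul_prod_erase s a hx, mul_right_comm]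
      exact A.mul_mem (hamul x) (A.prod_mem fun b _ => haA b)
    | zero => simp [A.zero_mem]
    | add x y _ _ hx hy => rw [mul_add]; exact A.add_mem hx hy
    | smul r x _ hx =>
      rw [show Y * (r • x) = (r : PowerSeries k) * (Y * x) by
        rw [Subalgebra.smul_def, smul_eq_mul]; ring]
      exact A.mul_mem r.2 hx
  obtain ⟨N, hN⟩ := WithTop.ne_top_iff_exists.1
    (show Y.order ≠ ⊤ from fun h => hY0 (PowerSeries.order_eq_top.1 h))
  have htN : ∀ h : PowerSeries k, (PowerSeries.X : PowerSeries k) ^ N ∣ h → h ∈ A := by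
    rintro h ⟨q, rfl⟩
    obtain ⟨h1, h2⟩ := (PowerSeries.order_eq_nat).1 hN.symm
    obtain ⟨w, hw⟩ : (PowerSeries.X : PowerSeries k) ^ N ∣ Y := PowerSeries.X_pow_dvd_iff.2 h2
    have hwu : IsUnit w := by
      rw [PowerSeries.isUnit_iff_constantCoeff, isUnit_iff_ne_zero]
      intro h0
      apply h1
      rw [hw, PowerSeries.coeff_X_pow_mul', if_pos le_rfl, Nat.sub_self,
        PowerSeries.coeff_zero_eq_constantCoeff_apply, h0]
    obtain ⟨w', hw'⟩ := hwu.exists_right_inv
    rw [show PowerSeries.X ^ N * q = Y * (w' * q) by rw [hw, mul_assoc, ← mul_assoc w, hw', one_mul]]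
    exact hYmul _
  have hgap : ∀ n, n ∉ Γ → n < N := fun n hn => by
    by_contra h
    exact hn ((hΓ n).2 ⟨_, htN _ (pow_dvd_pow _ (not_lt.1 h)), PowerSeries.order_X_pow n⟩)
  have hfin : Γᶜ.Finite := (Set.finite_Iio N).subset fun n hn => hgap n hn
  refine ⟨hfin, ?_⟩
  haveI := hfin.fintype
  let φ : (↥(Γᶜ) → k) →ₗ[k] PowerSeries k :=
    Fintype.linearCombination k fun n : ↥(Γᶜ) => (PowerSeries.X : PowerSeries k) ^ (n : ℕ)
  let ψ := (Subalgebra.toSubmodule A).mkQ.comp φ
  have hφ : ∀ v (m : ℕ), PowerSeries.coeff m (φ v) =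
      ∑ n : ↥(Γᶜ), if m = (n : ℕ) then v n else 0 := by
    intro v m
    simp [φ, Fintype.linearCombination_apply, PowerSeries.coeff_X_pow]
  have hinj : Function.Injective ψ := by
    rw [← LinearMap.ker_eq_bot, LinearMap.ker_eq_bot']
    intro v hv
    have hv' : φ v ∈ A := (Submodule.Quotient.mk_eq_zero (Subalgebra.toSubmodule A)).1 hv
    funext n
    by_contra hne
    have hne0 : φ v ≠ 0 := fun h0 => hne (by
      have := hφ v n
      rw [h0, map_zero, Finset.sum_eq_single n (fun b _ hb => if_neg fun h => hb (Subtype.ext h.symm))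
        (by simp), if_pos rfl] at this
      simpa using this.symm)
    obtain ⟨d, hd⟩ := WithTop.ne_top_iff_exists.1
      (show (φ v).order ≠ ⊤ from fun h => hne0 (PowerSeries.order_eq_top.1 h))
    have hdc := ((PowerSeries.order_eq_nat).1 hd.symm).1
    rw [hφ] at hdc
    obtain ⟨b, -, hb⟩ := Finset.exists_ne_zero_of_sum_ne_zero hdc
    have hbd : d = (b : ℕ) := by by_contra h; simp [h] at hb
    exact b.2 (hbd ▸ (hΓ d).2 ⟨φ v, hv', hd.symm⟩)
  have hsurj : Function.Surjective ψ := by
    intro x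
    obtain ⟨f, rfl⟩ := Submodule.mkQ_surjective _ x
    have hord : ∀ n, 0 ≤ n → ∃ g ∈ Subalgebra.toSubmodule A ⊔ LinearMap.range φ,
        PowerSeries.order g = (n : ℕ) := by
      intro n _
      by_cases hn : n ∈ Γ
      · obtain ⟨g, hg, hgo⟩ := (hΓ n).1 hn
        exact ⟨g, Submodule.mem_sup_left hg, hgo⟩
      · exact ⟨_, Submodule.mem_sup_right ⟨Pi.single ⟨n, hn⟩ 1, by
          simp [φ, Fintype.linearCombination_apply_single]⟩, PowerSeries.order_X_pow n⟩
    obtain ⟨l, hl, hdvd⟩ := Groth.Agent.ValueApprox.exists_approx hord (h := f) (by simp) N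
    have hf : f ∈ Subalgebra.toSubmodule A ⊔ LinearMap.range φ := by
      have h1 : f - l ∈ Subalgebra.toSubmodule A := htN _ (by simpa using hdvd)
      have := Submodule.add_mem _ (Submodule.mem_sup_left (T := LinearMap.range φ) h1) hl
      rwa [sub_add_cancel] at this
    obtain ⟨y, hy, _, ⟨v, rfl⟩, rfl⟩ := Submodule.mem_sup.1 hf
    refine ⟨v, ?_⟩
    simp only [ψ, LinearMap.comp_apply, map_add]
    rw [show (Subalgebra.toSubmodule A).mkQ y = 0 from
      (Submodule.Quotient.mk_eq_zero _).2 hy, zero_add]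
  rw [← (LinearEquiv.ofBijective ψ ⟨hinj, hsurj⟩).finrank_eq, Module.finrank_fintype_fun_eq_card,
    Set.ncard_eq_toFinset_card', Set.toFinset_card]

end Groth.Agent.S15015
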