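import Groth.Statements.S15016
import Groth.Agent.Lib.H84.ValueApprox
import Mathlib

set_option autoImplicit false
universe u
open TFCurv

namespace Groth.Agent.S15016

/-- Let k be an algebraically closed field and A ≠ k[[t]] a k-subalgebra of k[[t]] that is closed in the
t-adic topology and over which k[[t]] is a finite module (as for the complete local ring of a
unibranch curve singularity inside its normalisation), and let Γ ⊆ ℕ be the set of t-orders of the
nonzero elements of A (its value semigroup); let c be the conductor of Γ, so that every n ≥ c lies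
in Γ and c − 1 does not. Then for a power series f, f · k[[t]] ⊆ A holds exactly when the order of f
is at least c: the conductor of A in k[[t]] is t^c · k[[t]], of codimension c. -/
theorem result (k : Type u) [Field k] [IsAlgClosed k] (A : Subalgebra k (PowerSeries k)) (hA : Module.Finite ↥A (PowerSeries k)) (hcl : ∀ f : PowerSeries k, (∀ n : ℕ, ∃ g ∈ A, (n : ℕ∞) ≤ PowerSeries.order (f - g)) → f ∈ A) (hsing : A ≠ ⊤) (Γ : Set ℕ) (hΓ : ∀ n : ℕ, n ∈ Γ ↔ ∃ f ∈ A, PowerSeries.order f = n) (c : ℕ) (hc : ∀ n : ℕ, c ≤ n → n ∈ Γ) (hc0 : c ≠ 0) (hc1 : c - 1 ∉ Γ) (f : PowerSeries k) : (∀ g : PowerSeries k, g * f ∈ A) ↔ (c : ℕ∞) ≤ PowerSeries.order f := by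
  have hmem : ∀ h : PowerSeries k, (PowerSeries.X : PowerSeries k) ^ c ∣ h → h ∈ A := by
    intro h hh
    refine hcl h fun n => ?_
    obtain ⟨l, hl, hd⟩ := Groth.Agent.ValueApprox.exists_approx (L := Subalgebra.toSubmodule A)
      (c := c) (fun m hm => (hΓ m).1 (hc m hm)) hh n
    exact ⟨l, hl, (Groth.Agent.ValueApprox.le_order_iff_dvd n _).2
      (dvd_trans (pow_dvd_pow _ (Nat.le_add_left n c)) hd)⟩
  constructor
  · intro hg
    by_contra hlt
    rw [not_le] at hlt
    obtain ⟨d, hd⟩ := WithTop.ne_top_iff_exists.1 (ne_top_of_lt hlt)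
    rw [← hd] at hlt
    have hdc : d < c := ENat.coe_lt_coe.1 hlt
    refine hc1 ((hΓ (c - 1)).2 ⟨PowerSeries.X ^ (c - 1 - d) * f, hg _, ?_⟩)
    rw [PowerSeries.order_mul, PowerSeries.order_X_pow, ← hd]
    change ((c - 1 - d : ℕ) : ℕ∞) + ((d : ℕ) : ℕ∞) = _
    rw [← Nat.cast_add]
    exact congrArg _ (by omega)
  · intro hf g
    exact hmem _ (Dvd.dvd.mul_left ((Groth.Agent.ValueApprox.le_order_iff_dvd c f).1 hf) _)

end Groth.Agent.S15016
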