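import Groth.Statements.S15017
import Mathlib

set_option autoImplicit false
open TFCurv

namespace Groth.Agent.S15017

/-- Let Γ be a numerical semigroup (a submonoid of (ℕ, +) with finite complement), Γ ≠ ℕ, with conductor
c (every n ≥ c lies in Γ, c − 1 does not). If Γ is symmetric (for x < c, x is a gap exactly when c −
1 − x ∈ Γ) and has multiplicity greater than 2 (neither 1 nor 2 lies in Γ), then Γ is generated by
its elements smaller than c: every minimal generator of Γ is less than the conductor. -/
theorem result (Γ : AddSubmonoid ℕ) (c : ℕ) (hc : ∀ n : ℕ, c ≤ n → n ∈ Γ) (hc0 : c ≠ 0) (hc1 : c - 1 ∉ Γ) (hsymm : ∀ x : ℕ, x < c → (x ∉ Γ ↔ c - 1 - x ∈ Γ)) (he : (1 : ℕ) ∉ Γ ∧ (2 : ℕ) ∉ Γ) : AddSubmonoid.closure {γ : ℕ | γ ∈ Γ ∧ γ < c} = Γ := by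
  apply le_antisymm
  · exact AddSubmonoid.closure_le.2 fun γ hγ => hγ.1
  · obtain ⟨h1, h2⟩ := he
    intro n
    induction n using Nat.strong_induction_on with
    | _ n ih =>
    intro hn
    rcases Nat.lt_or_ge n c with hlt | hge
    · exact AddSubmonoid.subset_closure ⟨hn, hlt⟩
    · have hsum : ∀ a b : ℕ, a ∈ Γ → b ∈ Γ → a ≠ 0 → b ≠ 0 → a + b = n →
          n ∈ AddSubmonoid.closure {γ : ℕ | γ ∈ Γ ∧ γ < c} := by
        intro a b ha hb ha0 hb0 hab
        rw [← hab]
        exact AddSubmonoid.add_mem _ (ih a (by omega) ha) (ih b (by omega) hb)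
      classical
      have hex : ∃ m, m ∈ Γ ∧ m ≠ 0 := ⟨c, hc c le_rfl, hc0⟩
      obtain ⟨e, ⟨heΓ, he0⟩, hemin⟩ : ∃ e, (e ∈ Γ ∧ e ≠ 0) ∧ ∀ m, m ∈ Γ ∧ m ≠ 0 → e ≤ m :=
        ⟨Nat.find hex, Nat.find_spec hex, fun m hm => Nat.find_le hm⟩
      have he3 : 3 ≤ e := by
        by_contra h
        have : e = 1 ∨ e = 2 := by omega
        rcases this with rfl | rfl
        · exact h1 heΓ
        · exact h2 heΓ
      have hgap : ∀ x, 1 ≤ x → x < e → x ∉ Γ := fun x hx1 hx2 hx => by
        have := hemin x ⟨hx, by omega⟩; omega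
      have hec : e < c := by
        have hle := hemin c ⟨hc c le_rfl, hc0⟩
        by_contra h
        have hec : e = c := by omega
        have hx := (hsymm 1 (by omega)).1 (hgap 1 le_rfl (by omega))
        exact hgap (c - 1 - 1) (by omega) (by omega) hx
      by_cases hne : n - e ∈ Γ
      · exact hsum e (n - e) heΓ hne he0 (by omega) (by omega)
      · have hlt' : n - e < c := by
          by_contra h
          exact hne (hc _ (by omega))
        have hm : c - 1 - (n - e) ∈ Γ := (hsymm _ hlt').1 hne
        have hn' : n - e = c - 1 := by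
          by_contra h
          have := hemin _ ⟨hm, by omega⟩
          omega
        have hexa : ∃ a, a ∈ Γ ∧ ¬ e ∣ a ∧ a < c := by
          by_contra h
          push Not at h
          have hdiv : ∀ a, a ∈ Γ → a < c → e ∣ a := fun a ha hac => by
            by_contra hd
            exact absurd hac (not_lt.2 (h a ha hd))
          have d1 := hdiv _ ((hsymm 1 (by omega)).1 h1) (by omega)
          have d2 := hdiv _ ((hsymm 2 (by omega)).1 h2) (by omega)
          have d3 := Nat.dvd_sub d1 d2
          have hc3 : 3 < c := by omega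
          rw [show c - 1 - 1 - (c - 1 - 2) = 1 by omega] at d3
          have := Nat.le_of_dvd one_pos d3
          omega
        obtain ⟨haΓ, hand, hac⟩ := Nat.find_spec hexa
        set a := Nat.find hexa with ha
        have hae : e < a := by
          have h0 : a ≠ 0 := fun h => hand (h ▸ dvd_zero e)
          have := hemin a ⟨haΓ, h0⟩
          rcases Nat.lt_or_ge e a with h | h
          · exact h
          · exact absurd (show e ∣ a by rw [show a = e by omega]) hand
        have hxgap : a - e ∉ Γ := fun hx => by
          have hnd : ¬ e ∣ (a - e) := fun hd => hand (by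
            have := Nat.dvd_add hd (dvd_refl e)
            rwa [Nat.sub_add_cancel hae.le] at this)
          have := Nat.find_min hexa (m := a - e) (by omega)
          exact this ⟨hx, hnd, by omega⟩
        have hb := (hsymm (a - e) (by omega)).1 hxgap
        exact hsum a (c - 1 - (a - e)) haΓ hb (by omega) (by omega) (by omega)

end Groth.Agent.S15017
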