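import Groth.Statements.S15018
import Mathlib

set_option autoImplicit false
open TFCurv

namespace Groth.Agent.S15018

/-- Let Γ be a numerical semigroup (a submonoid of (ℕ, +) with finite complement), Γ ≠ ℕ, with conductor
c (every n ≥ c lies in Γ, c − 1 does not). Then Γ is symmetric (for x < c, x is a gap exactly when c
− 1 − x ∈ Γ) if and only if there is exactly one gap n of Γ such that Γ ∪ {n} is again stable under
adding elements of Γ, i.e. n + γ ∈ Γ for every nonzero γ ∈ Γ. -/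
theorem result (Γ : AddSubmonoid ℕ) (c : ℕ) (hc : ∀ n : ℕ, c ≤ n → n ∈ Γ) (hc0 : c ≠ 0) (hc1 : c - 1 ∉ Γ) : (∀ x : ℕ, x < c → (x ∉ Γ ↔ c - 1 - x ∈ Γ)) ↔ ∃! n : ℕ, n ∉ Γ ∧ ∀ γ : ℕ, γ ∈ Γ → γ ≠ 0 → n + γ ∈ Γ := by
  have hself : ∀ γ : ℕ, γ ∈ Γ → γ ≠ 0 → c - 1 + γ ∈ Γ := fun γ _ hγ0 => hc _ (by omega)
  constructor
  · intro hs
    refine ⟨c - 1, ⟨hc1, hself⟩, ?_⟩
    rintro n ⟨hn, hn'⟩
    have hlt : n < c := not_le.1 fun h => hn (hc n h)
    by_contra hne
    have := hn' _ ((hs n hlt).1 hn) (by omega)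
    rw [show n + (c - 1 - n) = c - 1 by omega] at this
    exact hc1 this
  · rintro ⟨n₀, -, huniq⟩ x hx
    refine ⟨fun hxg => ?_, fun h hxΓ => hc1 (by
      have := Γ.add_mem hxΓ h
      rwa [show x + (c - 1 - x) = c - 1 by omega] at this)⟩
    classical
    let P : ℕ → Prop := fun y => x ≤ y ∧ y ∉ Γ ∧ y - x ∈ Γ
    have hPx : P x := ⟨le_rfl, hxg, by simp⟩
    have hm : P (Nat.findGreatest P c) := Nat.findGreatest_spec (Nat.le_of_lt hx) hPx
    set m := Nat.findGreatest P c with hmdef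
    obtain ⟨hxm, hmΓ, hmx⟩ := hm
    have hmax : ∀ γ : ℕ, γ ∈ Γ → γ ≠ 0 → m + γ ∈ Γ := by
      intro γ hγ hγ0
      by_contra h
      have hlt : m + γ < c := not_le.1 fun h' => h (hc _ h')
      have hP : P (m + γ) := ⟨by omega, h, by
        rw [show m + γ - x = (m - x) + γ by omega]; exact Γ.add_mem hmx hγ⟩
      have := Nat.le_findGreatest (P := P) hlt.le hP
      omega
    have e1 := huniq m ⟨hmΓ, hmax⟩
    have e2 := huniq (c - 1) ⟨hc1, hself⟩
    have : m = c - 1 := by omega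
    rwa [this] at hmx

end Groth.Agent.S15018
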