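import Groth.Statements.S15019
import Mathlib

set_option autoImplicit false
open TFCurv

namespace Groth.Agent.S15019

/-- Let Γ be a numerical semigroup (a submonoid of (ℕ, +) with finite complement), Γ ≠ ℕ, with conductor
c (every n ≥ c lies in Γ, c − 1 does not), let e be its multiplicity (the least nonzero element of
Γ), and let S ⊆ ℕ be a Γ-module in normal form: 0 ∈ S and γ + s ∈ S for all γ ∈ Γ, s ∈ S. Then the
set of gaps n of S with S ∪ {n} again a Γ-module (n + γ ∈ S for every nonzero γ ∈ Γ) has at most e −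
1 elements, and so does the set of nonzero s ∈ S with S ∖ {s} again a Γ-module (s − γ ∉ S for every
nonzero γ ∈ Γ with γ ≤ s). -/
theorem result (Γ : AddSubmonoid ℕ) (c : ℕ) (hc : ∀ n : ℕ, c ≤ n → n ∈ Γ) (hc0 : c ≠ 0) (hc1 : c - 1 ∉ Γ) (e : ℕ) (he : e ∈ Γ) (he0 : e ≠ 0) (hemin : ∀ γ : ℕ, γ ∈ Γ → γ ≠ 0 → e ≤ γ) (S : Set ℕ) (hS0 : (0 : ℕ) ∈ S) (hS : ∀ γ : ℕ, γ ∈ Γ → ∀ s : ℕ, s ∈ S → γ + s ∈ S) : {n : ℕ | n ∉ S ∧ ∀ γ : ℕ, γ ∈ Γ → γ ≠ 0 → n + γ ∈ S}.encard ≤ ((e - 1 : ℕ) : ℕ∞) ∧ {s : ℕ | s ∈ S ∧ s ≠ 0 ∧ ∀ γ : ℕ, γ ∈ Γ → γ ≠ 0 → γ ≤ s → s - γ ∉ S}.encard ≤ ((e - 1 : ℕ) : ℕ∞) := by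
  have hcard : ((Set.Ico 1 e : Set ℕ)).encard = ((e - 1 : ℕ) : ℕ∞) := by
    rw [← Finset.coe_Ico, Set.encard_coe_eq_coe_finsetCard, Nat.card_Ico]
  have hk : ∀ k : ℕ, k * e ∈ Γ := fun k => by simpa using Γ.nsmul_mem he k
  have hkS : ∀ k : ℕ, k * e ∈ S := fun k => by simpa using hS _ (hk k) 0 hS0
  have hdec : ∀ a b : ℕ, a < b → a % e = b % e → ∃ k : ℕ, k ≠ 0 ∧ b = a + k * e := by
    intro a b hab hmod
    obtain ⟨k, hk⟩ := (Nat.modEq_iff_dvd' hab.le).1 hmod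
    refine ⟨k, ?_, by rw [mul_comm] at hk; omega⟩
    rintro rfl
    omega
  have hpos : ∀ a : ℕ, a % e < e := fun a => Nat.mod_lt a (Nat.pos_of_ne_zero he0)
  refine ⟨hcard ▸ Set.encard_le_encard_of_injOn (f := fun n => n % e) ?_ ?_,
    hcard ▸ Set.encard_le_encard_of_injOn (f := fun n => n % e) ?_ ?_⟩
  · rintro n ⟨hn, -⟩
    refine ⟨Nat.one_le_iff_ne_zero.2 fun h => ?_, hpos n⟩
    obtain ⟨k, rfl⟩ := Nat.dvd_of_mod_eq_zero h
    exact hn (mul_comm k e ▸ hkS k)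
  · intro a ha b hb hab
    dsimp only at hab
    rcases lt_trichotomy a b with h | h | h
    · obtain ⟨k, hk0, rfl⟩ := hdec a b h hab
      exact absurd (ha.2 _ (hk k) (Nat.mul_ne_zero hk0 he0)) hb.1
    · exact h
    · obtain ⟨k, hk0, rfl⟩ := hdec b a h hab.symm
      exact absurd (hb.2 _ (hk k) (Nat.mul_ne_zero hk0 he0)) ha.1
  · rintro s ⟨-, hs0, hs⟩
    refine ⟨Nat.one_le_iff_ne_zero.2 fun h => ?_, hpos s⟩
    obtain ⟨k, rfl⟩ := Nat.dvd_of_mod_eq_zero h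
    have := hs (k * e) (hk k) (by rw [mul_comm]; exact hs0) (le_of_eq (mul_comm k e))
    rw [mul_comm e k, Nat.sub_self] at this
    exact this hS0
  · intro a ha b hb hab
    dsimp only at hab
    rcases lt_trichotomy a b with h | h | h
    · obtain ⟨k, hk0, rfl⟩ := hdec a b h hab
      exact absurd ha.1 (by simpa using hb.2.2 _ (hk k) (Nat.mul_ne_zero hk0 he0) (by omega))
    · exact h
    · obtain ⟨k, hk0, rfl⟩ := hdec b a h hab.symm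
      exact absurd hb.1 (by simpa using ha.2.2 _ (hk k) (Nat.mul_ne_zero hk0 he0) (by omega))

end Groth.Agent.S15019
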