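import Groth.Statements.S15022
import Groth.Agent.Lib.CanVal62.Basic

set_option autoImplicit false
universe u
open CategoryTheory
open TFCurv

namespace Groth.Agent.S15022

/-- Let k be an algebraically closed field and A ≠ k[[t]] a k-subalgebra of k[[t]] that is closed in the
t-adic topology and over which k[[t]] is a finite module (as for the complete local ring of a
unibranch curve singularity inside its normalisation), and let Γ ⊆ ℕ be the set of t-orders of the
nonzero elements of A (its value semigroup); let c be the conductor of Γ (every n ≥ c lies in Γ, c −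
1 does not) and suppose A is not Gorenstein. If w is an A-submodule of k[[t]] with 1 ∈ w whose
injective dimension as an A-module is at most one (a canonical ideal of A placed between A and
k[[t]]), then the value set of w is the dual of Γ: a natural number n is the t-order of some element
of w exactly when n ≥ c or c − 1 − n is a gap of Γ. (The published statement does not exclude the
Gorenstein case; this row assumes that A is not Gorenstein.) -/
theorem result (k : Type u) [Field k] [IsAlgClosed k] (A : Subalgebra k (PowerSeries k)) (hA : Module.Finite ↥A (PowerSeries k)) (hcl : ∀ f : PowerSeries k, (∀ n : ℕ, ∃ g ∈ A, (n : ℕ∞) ≤ PowerSeries.order (f - g)) → f ∈ A) (hsing : A ≠ ⊤) (Γ : Set ℕ) (hΓ : ∀ n : ℕ, n ∈ Γ ↔ ∃ f ∈ A, PowerSeries.order f = n) (c : ℕ) (hc : ∀ n : ℕ, c ≤ n → n ∈ Γ) (hc0 : c ≠ 0) (hc1 : c - 1 ∉ Γ) (hG : ¬ LocCoh.IsGorensteinLocalRing ↥A) (ω : Submodule ↥A (PowerSeries k)) (hω1 : (1 : PowerSeries k) ∈ ω) (hωfg : ω.FG) (hωinj : HasInjectiveDimensionLT (ModuleCat.of ↥A ↥ω) 2)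 (n : ℕ) : (∃ f ∈ ω, PowerSeries.order f = n) ↔ (c ≤ n ∨ c - 1 - n ∉ Γ) := by
  have hmem : ∀ h : PowerSeries k, (PowerSeries.X : PowerSeries k) ^ c ∣ h → h ∈ A := by
    intro h hh
    refine hcl h fun n => ?_
    obtain ⟨l, hl, hd⟩ := Groth.Agent.ValueApprox.exists_approx (L := Subalgebra.toSubmodule A)
      (c := c) (fun m hm => (hΓ m).1 (hc m hm)) hh n
    exact ⟨l, hl, (Groth.Agent.ValueApprox.le_order_iff_dvd n _).2
      (dvd_trans (pow_dvd_pow _ (Nat.le_add_left n c)) hd)⟩
  have hgap : ¬ ∃ f ∈ A, PowerSeries.order f = ((c - 1 : ℕ) : ℕ∞) := fun h => hc1 ((hΓ _).2 h)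
  refine Iff.trans ?_ ((Lib.CanVal62.value_D hmem hω1 hωinj hc0 hgap (Submodule.span ↥A {(1 : PowerSeries k)})
    (Submodule.mem_span_singleton_self 1) n).trans ?_)
  · constructor
    · rintro ⟨f, hf, hfn⟩
      refine ⟨f, fun m hm => ?_, hfn⟩
      obtain ⟨a, rfl⟩ := Submodule.mem_span_singleton.mp hm
      rw [mul_smul_comm, mul_one]
      exact ω.smul_mem a hf
    · rintro ⟨u, hu, hun⟩
      exact ⟨u, by simpa using hu 1 (Submodule.mem_span_singleton_self 1), hun⟩
  · refine or_congr Iff.rfl (not_congr ?_)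
    rw [hΓ]
    constructor
    · rintro ⟨m, hm, hmo⟩
      obtain ⟨a, rfl⟩ := Submodule.mem_span_singleton.mp hm
      exact ⟨_, a.2, by simpa [Subalgebra.smul_def] using hmo⟩
    · rintro ⟨f, hf, hfo⟩
      refine ⟨f, Submodule.mem_span_singleton.mpr ⟨⟨f, hf⟩, ?_⟩, hfo⟩
      simp [Subalgebra.smul_def]

end Groth.Agent.S15022
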