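import Groth.Statements.S15023
import Groth.Agent.Lib.H84.ValueCodim
import Groth.Agent.S15015
-- import your own Groth.Agent.* helpers here

set_option autoImplicit false
universe u
open TFCurv

namespace Groth.Agent.S15023

/-- Let k be an algebraically closed field and A ≠ k[[t]] a k-subalgebra of k[[t]] that is closed in the
t-adic topology, over which k[[t]] is a finite module, and such that every power series is carried
into A by multiplication with some nonzero element of A (so k[[t]] lies in the fraction field of A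
and is its normalisation, as for the complete local ring of a unibranch curve singularity), and let
Γ ⊆ ℕ be the set of t-orders of the nonzero elements of A (its value semigroup); assume moreover
that A is the monomial ring of Γ (a power series lies in A exactly when all its exponents lie in Γ),
and let δ be the number of gaps of Γ. Then every finitely generated torsion-free A-module of rank
one is isomorphic to an A-submodule M' of k[[t]] with t^{2δ} k[[t]] ⊆ M' and dim_k(k[[t]]/M') = δ,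
equivalently dim_k(M'/t^{2δ}k[[t]]) = δ: every isomorphism class of rank-one torsion-free modules is
represented by a δ-dimensional A-stable subspace of k[[t]]/t^{2δ}k[[t]]. -/
theorem result (k : Type u) [Field k] [IsAlgClosed k] (A : Subalgebra k (PowerSeries k)) (hA : Module.Finite ↥A (PowerSeries k)) (hcl : ∀ f : PowerSeries k, (∀ n : ℕ, ∃ g ∈ A, (n : ℕ∞) ≤ PowerSeries.order (f - g)) → f ∈ A) (hsing : A ≠ ⊤) (hbir : ∀ f : PowerSeries k, ∃ a ∈ A, a ≠ 0 ∧ a * f ∈ A) (Γ : Set ℕ) (hΓ : ∀ n : ℕ, n ∈ Γ ↔ ∃ f ∈ A, PowerSeries.order f = n) (hmono : ∀ f : PowerSeries k, f ∈ A ↔ ∀ n : ℕ, PowerSeries.coeff n f ≠ 0 → n ∈ Γ) (M : Type u) [AddCommGroup M] [Module ↥A M] [Module.Finite ↥A M] [NoZeroSMulDivisors ↥A M] (hrk : Module.finrank (FractionRing ↥A) (TensorProduct ↥A (FractionRing ↥A) M) = 1) : ∃ M' : Submodule ↥A (PowerSeries k), (Ideal.span {(PowerSeries.X : PowerSeries k) ^ (2 * Γᶜ.ncard)}).restrictScalars ↥A ≤ M' ∧ Nonempty (M ≃ₗ[↥A] ↥M') ∧ Module.finrank k (PowerSeries k ⧸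 M'.restrictScalars k) = Γᶜ.ncard := by
  classical
  obtain ⟨hfin, -⟩ := Groth.Agent.S15015.result k A hA hcl hsing hbir Γ hΓ
  set δ := Γᶜ.ncard with hδ
  set G : Finset ℕ := hfin.toFinset with hG
  have hGcard : G.card = δ := (Set.ncard_eq_toFinset_card _ hfin).symm
  have hGmem : ∀ n, n ∈ G ↔ n ∉ Γ := fun n => hfin.mem_toFinset
  have hadd : ∀ a ∈ Γ, ∀ b ∈ Γ, a + b ∈ Γ := fun a ha b hb => by
    obtain ⟨f, hf, hfo⟩ := (hΓ a).1 ha
    obtain ⟨g, hg, hgo⟩ := (hΓ b).1 hb
    exact (hΓ _).2 ⟨f * g, A.mul_mem hf hg, by rw [PowerSeries.order_mul, hfo, hgo, Nat.cast_add]⟩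
  have hgap : ∀ n, 2 * δ ≤ n → n ∈ Γ := by
    intro n hn
    by_contra hnot
    have hsub : Finset.range (n + 1) ⊆ G ∪ G.image (fun i => n - i) := by
      intro i hi
      rw [Finset.mem_range] at hi
      by_cases hiΓ : i ∈ Γ
      · refine Finset.mem_union_right _ (Finset.mem_image.2 ⟨n - i, (hGmem _).2 fun h => hnot ?_, by omega⟩)
        have := hadd i hiΓ (n - i) h
        rwa [show i + (n - i) = n by omega] at this
      · exact Finset.mem_union_left _ ((hGmem i).2 hiΓ)
    have h1 := (Finset.card_le_card hsub).trans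
      ((Finset.card_union_le _ _).trans (Nat.add_le_add_left Finset.card_image_le _))
    rw [Finset.card_range, hGcard] at h1
    omega
  have hbig : ∀ h : PowerSeries k, (PowerSeries.X : PowerSeries k) ^ (2 * δ) ∣ h → h ∈ A :=
    fun h hh => (hmono h).2 fun n hn => hgap n (not_lt.1 fun hlt =>
      hn (PowerSeries.X_pow_dvd_iff.1 hh n hlt))
  -- an embedding of `M` into `A`
  let K := FractionRing ↥A
  haveI : Module.Finite K (TensorProduct ↥A K M) := inferInstance
  let e : TensorProduct ↥A K M ≃ₗ[K] K :=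
    LinearEquiv.ofFinrankEq _ _ (hrk.trans (Module.finrank_self K).symm)
  let j : M →ₗ[↥A] K := (e.toLinearMap.restrictScalars ↥A) ∘ₗ TensorProduct.mk ↥A K M 1
  have hj : Function.Injective j := by
    refine (injective_iff_map_eq_zero j).2 fun m hm => ?_
    have h1 : TensorProduct.mk ↥A K M 1 m = 0 := e.map_eq_zero_iff.1 hm
    obtain ⟨c, hc⟩ := (IsLocalizedModule.eq_zero_iff (nonZeroDivisors ↥A) (TensorProduct.mk ↥A K M 1)).1 h1
    exact (smul_eq_zero.1 hc).resolve_left (nonZeroDivisors.ne_zero c.2)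
  obtain ⟨s, hs⟩ := Module.Finite.fg_top (R := ↥A) (M := M)
  obtain ⟨b, hb⟩ := IsLocalization.exist_integer_multiples (nonZeroDivisors ↥A) s j
  let T : Submodule ↥A K := LinearMap.range (Algebra.linearMap ↥A K)
  have hT : ∀ m, (b : ↥A) • j m ∈ T := by
    intro m
    have hm : m ∈ Submodule.span ↥A (↑s : Set M) := by rw [hs]; trivial
    have hle : Submodule.span ↥A (↑s : Set M) ≤ T.comap ((b : ↥A) • j) :=
      Submodule.span_le.2 fun x hx => hb x hx
    exact hle hm
  let θ : M →ₗ[↥A] PowerSeries k := (Algebra.linearMap ↥A (PowerSeries k)) ∘ₗ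
    (LinearEquiv.ofInjective (Algebra.linearMap ↥A K) (IsFractionRing.injective ↥A K)).symm.toLinearMap ∘ₗ
    LinearMap.codRestrict T ((b : ↥A) • j) hT
  have hb0 : (b : ↥A) ≠ 0 := nonZeroDivisors.ne_zero b.2
  have hθ : Function.Injective θ := by
    intro x y hxy
    have h1 : LinearMap.codRestrict T ((b : ↥A) • j) hT x = LinearMap.codRestrict T ((b : ↥A) • j) hT y :=
      (LinearEquiv.ofInjective (Algebra.linearMap ↥A K)
        (IsFractionRing.injective ↥A K)).symm.injective (Subtype.ext hxy)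
    exact hj (smul_right_injective K hb0 (congrArg Subtype.val h1))
  have hθA : ∀ m, θ m ∈ A := fun m => SetLike.coe_mem _
  -- the least order
  have hex : ∃ n : ℕ, ∃ m, (θ m).order = n := by
    by_contra hne
    push Not at hne
    have hzero : ∀ m : M, m = 0 := fun m => hθ (by
      rw [map_zero]
      by_contra h0
      obtain ⟨d, hd⟩ := WithTop.ne_top_iff_exists.1 (mt PowerSeries.order_eq_top.1 h0)
      exact hne d m hd.symm)
    haveI : Subsingleton M := ⟨fun x y => (hzero x).trans (hzero y).symm⟩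
    rw [Module.finrank_zero_of_subsingleton] at hrk
    exact zero_ne_one hrk
  set m₀ := Nat.find hex with hm₀
  obtain ⟨w₀, hw₀⟩ := Nat.find_spec hex
  let μ : ℕ → (PowerSeries k →ₗ[↥A] PowerSeries k) := fun n =>
    LinearMap.mulLeft ↥A ((PowerSeries.X : PowerSeries k) ^ n)
  have hμ : ∀ n, Function.Injective (μ n) := fun n =>
    mul_right_injective₀ (pow_ne_zero n PowerSeries.X_ne_zero)
  have hdiv : ∀ m, (PowerSeries.X : PowerSeries k) ^ m₀ ∣ θ m := fun m => by
    rw [← Groth.Agent.ValueApprox.le_order_iff_dvd]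
    by_contra hlt
    obtain ⟨d, hd⟩ := WithTop.ne_top_iff_exists.1 (ne_top_of_lt (not_le.1 hlt))
    rw [← hd] at hlt
    exact hlt (Nat.cast_le.2 (Nat.find_min' hex ⟨m, hd.symm⟩))
  let M₀ : Submodule ↥A (PowerSeries k) := (LinearMap.range θ).comap (μ m₀)
  have hM₀map : M₀.map (μ m₀) = LinearMap.range θ := by
    rw [Submodule.map_comap_eq, inf_eq_right]
    rintro _ ⟨m, rfl⟩
    obtain ⟨q, hq⟩ := hdiv m
    exact ⟨q, hq.symm⟩
  obtain ⟨g, hg⟩ := hdiv w₀
  have hgM : g ∈ M₀ := ⟨w₀, hg⟩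
  have hg0 : g.order = (0 : ℕ) := by
    have h := hw₀
    rw [hg, PowerSeries.order_mul, PowerSeries.order_X_pow] at h
    cases ho : g.order with
    | top => rw [ho] at h; simp at h
    | coe d => rw [ho] at h; norm_cast at h ⊢; omega
  have hgu : IsUnit g := by
    rw [PowerSeries.isUnit_iff_constantCoeff, isUnit_iff_ne_zero, ← PowerSeries.coeff_zero_eq_constantCoeff_apply]
    exact (PowerSeries.order_eq_nat.1 hg0).1
  have hM₀big : ∀ h, (PowerSeries.X : PowerSeries k) ^ (2 * δ) ∣ h → h ∈ M₀ := by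
    intro h hh
    obtain ⟨g', hg'⟩ := hgu.exists_left_inv
    have h1 := M₀.smul_mem ⟨h * g', hbig _ (dvd_mul_of_dvd_left hh _)⟩ hgM
    rwa [Subalgebra.smul_def, smul_eq_mul, mul_assoc, hg', mul_one] at h1
  set Δ := {n : ℕ | ∃ f ∈ M₀.restrictScalars k, f.order = n} with hΔ
  obtain ⟨hΔfin, -⟩ := Groth.Agent.ValueCodim.finrank_quotient_eq_ncard (L := M₀.restrictScalars k) hM₀big
  set H : Finset ℕ := hΔfin.toFinset with hH
  have hHcard : H.card = Δᶜ.ncard := (Set.ncard_eq_toFinset_card _ hΔfin).symm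
  have hHmem : ∀ n, n ∈ H ↔ n ∉ Δ := fun n => hΔfin.mem_toFinset
  have hΓΔ : ∀ a ∈ Γ, ∀ d ∈ Δ, a + d ∈ Δ := by
    rintro a ha d ⟨f, hf, hfo⟩
    obtain ⟨c, hc, hco⟩ := (hΓ a).1 ha
    exact ⟨(⟨c, hc⟩ : ↥A) • f, M₀.smul_mem _ hf, by
      rw [Subalgebra.smul_def, smul_eq_mul, PowerSeries.order_mul, hfo, hco, Nat.cast_add]⟩
  have hle : Δᶜ.ncard ≤ δ := by
    refine Set.ncard_le_ncard (fun n hn hnΓ => hn ?_) hfin
    exact hΓΔ n hnΓ 0 ⟨g, hgM, hg0⟩
  have hF : ∀ n, n ∉ Δ → n + 1 ≤ δ + Δᶜ.ncard := by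
    intro n hn
    have hsub : Finset.range (n + 1) ⊆ G ∪ H.image (fun i => n - i) := by
      intro i hi
      rw [Finset.mem_range] at hi
      by_cases hiΓ : i ∈ Γ
      · refine Finset.mem_union_right _ (Finset.mem_image.2 ⟨n - i, (hHmem _).2 fun h => hn ?_, by omega⟩)
        have := hΓΔ i hiΓ (n - i) h
        rwa [show i + (n - i) = n by omega] at this
      · exact Finset.mem_union_left _ ((hGmem i).2 hiΓ)
    have h1 := (Finset.card_le_card hsub).trans
      ((Finset.card_union_le _ _).trans (Nat.add_le_add_left Finset.card_image_le _))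
    rw [Finset.card_range, hGcard, hHcard] at h1
    omega
  have hM₀cond : ∀ h, (PowerSeries.X : PowerSeries k) ^ (δ + Δᶜ.ncard) ∣ h → h ∈ M₀ := by
    intro h hh
    have hc : ∀ n, δ + Δᶜ.ncard ≤ n → ∃ f ∈ M₀.restrictScalars k, f.order = n := by
      intro n hn
      by_contra hne
      have := hF n hne
      omega
    obtain ⟨l, hl, hdvd⟩ := Groth.Agent.ValueApprox.exists_approx hc hh (2 * δ)
    have h1 := M₀.add_mem (hM₀big _ (dvd_trans (pow_dvd_pow _ (Nat.le_add_left _ _)) hdvd)) hl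
    rwa [sub_add_cancel] at h1
  set r := δ - Δᶜ.ncard with hr
  refine ⟨M₀.map (μ r), ?_, ?_, ?_⟩
  · intro h hh
    obtain ⟨q, rfl⟩ := Ideal.mem_span_singleton.1 hh
    refine ⟨PowerSeries.X ^ (δ + Δᶜ.ncard) * q, hM₀cond _ (dvd_mul_right _ _), ?_⟩
    change PowerSeries.X ^ r * (PowerSeries.X ^ (δ + Δᶜ.ncard) * q) = _
    rw [← mul_assoc, ← pow_add, show r + (δ + Δᶜ.ncard) = 2 * δ by omega]
  · exact ⟨LinearEquiv.ofInjective θ hθ ≪≫ₗ LinearEquiv.ofEq _ _ hM₀map.symm ≪≫ₗ
      (Submodule.equivMapOfInjective (μ m₀) (hμ m₀) M₀).symm ≪≫ₗ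
      Submodule.equivMapOfInjective (μ r) (hμ r) M₀⟩
  · have hN : ∀ h, (PowerSeries.X : PowerSeries k) ^ (2 * δ) ∣ h → h ∈ (M₀.map (μ r)).restrictScalars k := by
      rintro _ ⟨q, rfl⟩
      refine ⟨PowerSeries.X ^ (δ + Δᶜ.ncard) * q, hM₀cond _ (dvd_mul_right _ _), ?_⟩
      change PowerSeries.X ^ r * (PowerSeries.X ^ (δ + Δᶜ.ncard) * q) = _
      rw [← mul_assoc, ← pow_add, show r + (δ + Δᶜ.ncard) = 2 * δ by omega]
    rw [(Groth.Agent.ValueCodim.finrank_quotient_eq_ncard hN).2]
    have hset : {n : ℕ | ∃ f ∈ (M₀.map (μ r)).restrictScalars k, f.order = n}ᶜ =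
        Set.Iio r ∪ (fun n => n + r) '' Δᶜ := by
      ext n
      constructor
      · intro hn
        by_cases hnr : n < r
        · exact Or.inl hnr
        · refine Or.inr ⟨n - r, ?_, by simp only; omega⟩
          rintro ⟨f, hf, hfo⟩
          refine hn ⟨μ r f, Submodule.mem_map_of_mem hf, ?_⟩
          change (PowerSeries.X ^ r * f).order = _
          rw [PowerSeries.order_mul, PowerSeries.order_X_pow, hfo, ← Nat.cast_add]
          exact congrArg _ (by omega)
      · rintro h ⟨_, ⟨f, hf, rfl⟩, hfo⟩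
        change (PowerSeries.X ^ r * f).order = _ at hfo
        rw [PowerSeries.order_mul, PowerSeries.order_X_pow] at hfo
        cases ho : f.order with
        | top => rw [ho] at hfo; simp at hfo
        | coe d =>
          rw [ho] at hfo
          norm_cast at hfo
          rcases h with h | ⟨i, hi, hin⟩
          · have : n < r := h
            omega
          · obtain rfl : i = d := by simp only at hin; omega
            exact hi ⟨f, hf, ho⟩
    rw [hset, Set.ncard_union_eq ?_ (Set.finite_Iio r) (hΔfin.image _),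
      Set.ncard_image_of_injective _ (add_left_injective r), ← Finset.coe_Iio, Set.ncard_coe_finset,
      Nat.card_Iio]
    · change r + Δᶜ.ncard = δ
      omega
    · rw [Set.disjoint_left]
      rintro n hn ⟨i, -, rfl⟩
      simp only [Set.mem_Iio] at hn
      omega

end Groth.Agent.S15023
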