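import Groth.Statements.S15024
import Groth.Agent.Lib.Tor.TorOneKer
import Mathlib
-- import your own Groth.Agent.* helpers here

set_option autoImplicit false
universe u
open CategoryTheory
open TFCurv

namespace Groth.Agent.S15024


/-- Let O be a one-dimensional Noetherian local domain with algebraically closed residue field whose
integral closure O~ in its fraction field K is a finite O-module, M a finitely generated
torsion-free O-module and f : O^n → M an injective O-linear map whose cokernel T has finite length.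
Then Tor_1^O(O~, M) and Tor_1^O(O~, T) are isomorphic (existence of an isomorphism only), and O~ ⊗_O
f : O~ ⊗ O^n → O~ ⊗ M is injective, so that 0 → O~^n → O~ ⊗ M → O~ ⊗ T → 0 is exact. -/
theorem result (O : Type u) [CommRing O] [IsDomain O] [IsNoetherianRing O] [IsLocalRing O] (hdim : ringKrullDim O = 1) [IsAlgClosed (IsLocalRing.ResidueField O)] (K : Type u) [Field K] [Algebra O K] [IsFractionRing O K] (hfin : Module.Finite O ↥(integralClosure O K)) (M : Type u) [AddCommGroup M] [Module O M] [Module.Finite O M] [NoZeroSMulDivisors O M] (n : ℕ) (f : (Fin n → O) →ₗ[O] M) (hf : Function.Injective f) (hT : IsFiniteLength O (M ⧸ LinearMap.range f)) : Nonempty (((Tor (ModuleCat.{u} O) 1).obj (ModuleCat.of O ↥(integralClosure O K))).obj (ModuleCat.of O M) ≅ ((Tor (ModuleCat.{u} O) 1).obj (ModuleCat.of O ↥(integralClosure O K))).obj (ModuleCat.of O (M ⧸ LinearMap.range f))) ∧ Function.Injective (LinearMap.lTensor ↥(integralClosure O K) f) := by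
  classical
  let X := ↥(integralClosure O K)
  have hXtf : ∀ (c : O) (y : X), c ≠ 0 → c • y = 0 → y = 0 := by
    intro c y hc hy
    have h1 : algebraMap O K c * (y : K) = 0 := by
      rw [← Algebra.smul_def]
      exact congrArg Subtype.val hy
    rcases mul_eq_zero.1 h1 with h | h
    · exact absurd (IsFractionRing.injective O K (h.trans (map_zero _).symm)) hc
    · exact Subtype.ext h
  obtain ⟨c, hc0, hc⟩ : ∃ c : O, c ≠ 0 ∧ ∀ v : M, c • v ∈ LinearMap.range f := by
    obtain ⟨x, hxm, hx0⟩ : ∃ x ∈ IsLocalRing.maximalIdeal O, x ≠ 0 := by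
      by_contra hcon
      push Not at hcon
      have hbot : IsLocalRing.maximalIdeal O = ⊥ := (Submodule.eq_bot_iff _).2 hcon
      have hF := IsLocalRing.isField_iff_maximalIdeal_eq.2 hbot
      have := ringKrullDim_eq_zero_of_isField hF
      rw [hdim] at this
      exact one_ne_zero this
    have hart : IsArtinian O (M ⧸ LinearMap.range f) :=
      (isFiniteLength_iff_isNoetherian_isArtinian.1 hT).2
    let T := M ⧸ LinearMap.range f
    let chain : ℕ →o (Submodule O T)ᵒᵈ := ⟨fun k => OrderDual.toDual (Ideal.span {x ^ k} • (⊤ : Submodule O T)),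
      fun k l h => Submodule.smul_mono (Ideal.span_singleton_le_span_singleton.2 (pow_dvd_pow x h)) le_rfl⟩
    obtain ⟨k, hk⟩ := WellFoundedGT.monotone_chain_condition chain
    have heq : Ideal.span {x ^ k} • (⊤ : Submodule O T) = Ideal.span {x} • (Ideal.span {x ^ k} • (⊤ : Submodule O T)) := by
      have := hk (k + 1) (Nat.le_succ k)
      rw [← Submodule.smul_assoc, smul_eq_mul, Ideal.span_singleton_mul_span_singleton, ← pow_succ']
      exact this
    have hz : Ideal.span {x ^ k} • (⊤ : Submodule O T) = ⊥ :=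
      Submodule.eq_bot_of_le_smul_of_le_jacobson_bot (Ideal.span {x}) _ (IsNoetherian.noetherian _) heq.le
        ((Ideal.span_singleton_le_iff_mem _).2 hxm |>.trans (IsLocalRing.maximalIdeal_le_jacobson _))
    refine ⟨x ^ k, pow_ne_zero _ hx0, fun v => ?_⟩
    rw [← Submodule.Quotient.mk_eq_zero, Submodule.Quotient.mk_smul, ← Submodule.mem_bot O, ← hz]
    exact Submodule.smul_mem_smul (Ideal.mem_span_singleton_self _) Submodule.mem_top
  let h : M →ₗ[O] (Fin n → O) := (LinearEquiv.ofInjective f hf).symm.toLinearMap ∘ₗ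
    LinearMap.codRestrict (LinearMap.range f) (c • LinearMap.id) hc
  have hh : h ∘ₗ f = c • LinearMap.id := by
    refine LinearMap.ext fun m => hf ?_
    have h1 : f (h (f m)) = c • f m := by
      simp [h, LinearEquiv.ofInjective_symm_apply]
    simpa using h1
  have hinjR : Function.Injective (LinearMap.rTensor X f) := by
    rw [injective_iff_map_eq_zero]
    intro y hy
    have h2 := congrArg (LinearMap.rTensor X h) hy
    rw [← LinearMap.comp_apply, ← LinearMap.rTensor_comp, hh, LinearMap.rTensor_smul, LinearMap.rTensor_id,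
      map_zero, LinearMap.smul_apply, LinearMap.id_apply] at h2
    let P := (TensorProduct.comm O (Fin n → O) X).trans (TensorProduct.piScalarRight O O X (Fin n))
    apply P.injective
    rw [map_zero]
    funext i
    refine hXtf c _ hc0 ?_
    have h3 := congrArg (fun z => P z i) h2
    simpa only [map_smul, map_zero, Pi.smul_apply, Pi.zero_apply] using h3
  refine ⟨?_, ?_⟩
  swap
  · intro y z hyz
    apply (TensorProduct.comm O X (Fin n → O)).injective
    apply hinjR
    have := congrArg (TensorProduct.comm O X M) hyz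
    simpa [LinearMap.lTensor, LinearMap.rTensor, TensorProduct.map_comm] using this
  obtain ⟨m, p, hp⟩ := Module.Finite.exists_fin' O M
  choose s0 hs0 using fun i => hp (f (Pi.single i 1))
  let s : (Fin n → O) →ₗ[O] (Fin m → O) := (Pi.basisFun O (Fin n)).constr O s0
  have hps : p ∘ₗ s = f := (Pi.basisFun O (Fin n)).ext fun i => by
    simp [s, Pi.basisFun_apply, hs0]
  let ι : ↥(LinearMap.ker p) →ₗ[O] (Fin m → O) := (LinearMap.ker p).subtype
  let ι' : (↥(LinearMap.ker p) × (Fin n → O)) →ₗ[O] (Fin m → O) := ι.coprod s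
  let q : (Fin m → O) →ₗ[O] M ⧸ LinearMap.range f := (LinearMap.range f).mkQ ∘ₗ p
  have hpι : ∀ k, p (ι k) = 0 := fun k => k.2
  have hι' : Function.Injective ι' := by
    rw [injective_iff_map_eq_zero]
    rintro ⟨k, v⟩ hkv
    have hv : f v = 0 := by
      rw [← hps, LinearMap.comp_apply]
      have h4 := congrArg p hkv
      simpa [ι', hpι k] using h4
    have hv0 : v = 0 := hf (hv.trans (map_zero f).symm)
    subst hv0
    have : ι k = 0 := by simpa [ι'] using hkv
    exact Prod.ext (Subtype.ext this) rfl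
  have hex : Function.Exact ι' q := by
    intro x
    constructor
    · intro hx
      obtain ⟨v, hv⟩ := (Submodule.Quotient.mk_eq_zero _).mp hx
      refine ⟨(⟨x - s v, ?_⟩, v), by simp [ι', ι]⟩
      rw [LinearMap.mem_ker, map_sub, ← LinearMap.comp_apply p s, hps, hv, sub_self]
    · rintro ⟨⟨k, v⟩, rfl⟩
      refine (Submodule.Quotient.mk_eq_zero _).mpr ⟨v, ?_⟩
      rw [← hps]
      simp [ι', hpι k]
  obtain ⟨eT⟩ := Groth.Agent.Lib.Tor.TorOneKer.torOne_iso_ker (ModuleCat.ofHom ι') (ModuleCat.ofHom q) hι'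
    ((Submodule.mkQ_surjective _).comp hp) hex (ModuleCat.of O X)
  obtain ⟨eM⟩ := Groth.Agent.Lib.Tor.TorOneKer.torOne_iso_ker (ModuleCat.ofHom ι) (ModuleCat.ofHom p)
    Subtype.val_injective hp (LinearMap.exact_subtype_ker_map p) (ModuleCat.of O X)
  let J := LinearMap.rTensor X (LinearMap.inl O ↥(LinearMap.ker p) (Fin n → O))
  have hJ : LinearMap.rTensor X ι' ∘ₗ J = LinearMap.rTensor X ι := by
    rw [← LinearMap.rTensor_comp, LinearMap.coprod_inl]
  have hJi : Function.Injective J := by
    refine Function.LeftInverse.injective (g := LinearMap.rTensor X (LinearMap.fst O _ _)) fun z => ?_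
    rw [← LinearMap.comp_apply, ← LinearMap.rTensor_comp, LinearMap.fst_comp_inl, LinearMap.rTensor_id, LinearMap.id_apply]
  let φ : ↥(LinearMap.ker (LinearMap.rTensor X ι)) →ₗ[O] ↥(LinearMap.ker (LinearMap.rTensor X ι')) :=
    (J ∘ₗ (LinearMap.ker (LinearMap.rTensor X ι)).subtype).codRestrict _ fun z =>
      LinearMap.mem_ker.mpr ((LinearMap.congr_fun hJ z.1).trans z.2)
  have hφ : Function.Bijective φ := by
    refine ⟨fun a b hab => Subtype.ext (hJi (congrArg Subtype.val hab)), fun w => ?_⟩
    obtain ⟨w, hw⟩ := w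
    set v := LinearMap.rTensor X (LinearMap.snd O ↥(LinearMap.ker p) (Fin n → O)) w with hv
    have hv0 : v = 0 := by
      apply hinjR
      rw [map_zero, hv, ← LinearMap.comp_apply, ← LinearMap.rTensor_comp]
      have : f ∘ₗ LinearMap.snd O ↥(LinearMap.ker p) (Fin n → O) = p ∘ₗ ι' := LinearMap.ext fun z => by
        rw [← hps]; simp [ι', hpι z.1]
      rw [this, LinearMap.rTensor_comp, LinearMap.comp_apply, LinearMap.mem_ker.mp hw, map_zero]
    set a := LinearMap.rTensor X (LinearMap.fst O ↥(LinearMap.ker p) (Fin n → O)) w with ha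
    have hwa : J a = w := by
      have hsum : (LinearMap.inl O ↥(LinearMap.ker p) (Fin n → O) ∘ₗ LinearMap.fst O _ _) +
          (LinearMap.inr O ↥(LinearMap.ker p) (Fin n → O) ∘ₗ LinearMap.snd O _ _) = LinearMap.id :=
        LinearMap.ext fun z => by simp
      have h5 := LinearMap.congr_fun (congrArg (LinearMap.rTensor X) hsum) w
      rw [LinearMap.rTensor_add, LinearMap.rTensor_comp, LinearMap.rTensor_comp, LinearMap.rTensor_id, LinearMap.add_apply,
        LinearMap.comp_apply, LinearMap.comp_apply, ← hv, hv0, map_zero, add_zero, LinearMap.id_apply] at h5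
      exact h5
    refine ⟨⟨a, LinearMap.mem_ker.mpr ?_⟩, Subtype.ext hwa⟩
    rw [← hJ, LinearMap.comp_apply, hwa]
    exact hw
  exact ⟨(Groth.Agent.Lib.Tor.Balance.torFlipIso _ _ 1).symm ≪≫ eM ≪≫ (LinearEquiv.ofBijective φ hφ).toModuleIso ≪≫
    eT.symm ≪≫ (Groth.Agent.Lib.Tor.Balance.torFlipIso _ _ 1)⟩

end Groth.Agent.S15024
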