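import Groth.Statements.S15025
import Groth.Agent.Lib.Tor.TorOneKer
import Mathlib.RingTheory.Length
import Mathlib.RingTheory.KrullDimension.Field
import Mathlib.Algebra.Module.Torsion.Free
import Mathlib.RingTheory.Nakayama
import Mathlib.LinearAlgebra.TensorProduct.Pi

set_option autoImplicit false
universe u
open CategoryTheory
open TFCurv

namespace Groth.Agent.S15025

/-- Let O be a one-dimensional Noetherian local domain with algebraically closed residue field whose
integral closure O~ in its fraction field K is a finite O-module, M a finitely generated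
torsion-free O-module and g : M → O^n an injective O-linear map whose cokernel T' has finite length.
Then the torsion submodule of O~ ⊗_O M is O-linearly isomorphic to Tor_1^O(O~, T') (existence of an
isomorphism only). -/
theorem result (O : Type u) [CommRing O] [IsDomain O] [IsNoetherianRing O] [IsLocalRing O] (hdim : ringKrullDim O = 1) [IsAlgClosed (IsLocalRing.ResidueField O)] (K : Type u) [Field K] [Algebra O K] [IsFractionRing O K] (hfin : Module.Finite O ↥(integralClosure O K)) (M : Type u) [AddCommGroup M] [Module O M] [Module.Finite O M] [NoZeroSMulDivisors O M] (n : ℕ) (g : M →ₗ[O] (Fin n → O)) (hg : Function.Injective g) (hT : IsFiniteLength O ((Fin n → O) ⧸ LinearMap.range g)) : Nonempty (↥(Submodule.torsion O (TensorProduct O ↥(integralClosure O K) M)) ≃ₗ[O] ↑(((Tor (ModuleCat.{u} O) 1).obj (ModuleCat.of O ↥(integralClosure O K))).obj (ModuleCat.of O ((Fin n → O) ⧸ LinearMap.range g)))) := by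
  classical
  obtain ⟨e1⟩ := Groth.Agent.Lib.Tor.TorOneKer.torOne_iso_ker (ModuleCat.ofHom g)
    (ModuleCat.ofHom (LinearMap.range g).mkQ) hg (Submodule.mkQ_surjective _) (LinearMap.exact_map_mkQ_range g)
    (ModuleCat.of O ↥(integralClosure O K))
  let X := ↥(integralClosure O K)
  have hXtf : ∀ (c : O) (y : X), c ≠ 0 → c • y = 0 → y = 0 := by
    intro c y hc hy
    have h1 : algebraMap O K c * (y : K) = 0 := by
      rw [← Algebra.smul_def]
      exact congrArg Subtype.val hy
    rcases mul_eq_zero.1 h1 with h | h
    · exact absurd (IsFractionRing.injective O K (h.trans (map_zero _).symm)) hc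
    · exact Subtype.ext h
  -- some nonzero `c` carries `O^n` into the image of `g`
  obtain ⟨c, hc0, hc⟩ : ∃ c : O, c ≠ 0 ∧ ∀ v : Fin n → O, c • v ∈ LinearMap.range g := by
    obtain ⟨x, hxm, hx0⟩ : ∃ x ∈ IsLocalRing.maximalIdeal O, x ≠ 0 := by
      by_contra hcon
      push Not at hcon
      have hbot : IsLocalRing.maximalIdeal O = ⊥ := (Submodule.eq_bot_iff _).2 hcon
      have hF := IsLocalRing.isField_iff_maximalIdeal_eq.2 hbot
      have := ringKrullDim_eq_zero_of_isField hF
      rw [hdim] at this
      exact one_ne_zero this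
    have hart : IsArtinian O ((Fin n → O) ⧸ LinearMap.range g) :=
      (isFiniteLength_iff_isNoetherian_isArtinian.1 hT).2
    let T := (Fin n → O) ⧸ LinearMap.range g
    let f : ℕ →o (Submodule O T)ᵒᵈ := ⟨fun k => OrderDual.toDual (Ideal.span {x ^ k} • (⊤ : Submodule O T)),
      fun k l h => Submodule.smul_mono (Ideal.span_singleton_le_span_singleton.2 (pow_dvd_pow x h)) le_rfl⟩
    obtain ⟨k, hk⟩ := WellFoundedGT.monotone_chain_condition f
    have heq : Ideal.span {x ^ k} • (⊤ : Submodule O T) = Ideal.span {x} • (Ideal.span {x ^ k} • (⊤ : Submodule O T)) := by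
      have := hk (k + 1) (Nat.le_succ k)
      rw [← Submodule.smul_assoc, smul_eq_mul, Ideal.span_singleton_mul_span_singleton, ← pow_succ']
      exact this
    have hz : Ideal.span {x ^ k} • (⊤ : Submodule O T) = ⊥ :=
      Submodule.eq_bot_of_le_smul_of_le_jacobson_bot (Ideal.span {x}) _ (IsNoetherian.noetherian _) heq.le
        ((Ideal.span_singleton_le_iff_mem _).2 hxm |>.trans (IsLocalRing.maximalIdeal_le_jacobson _))
    refine ⟨x ^ k, pow_ne_zero _ hx0, fun v => ?_⟩
    rw [← Submodule.Quotient.mk_eq_zero, Submodule.Quotient.mk_smul, ← Submodule.mem_bot O, ← hz]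
    exact Submodule.smul_mem_smul (Ideal.mem_span_singleton_self _) Submodule.mem_top
  let h : (Fin n → O) →ₗ[O] M := (LinearEquiv.ofInjective g hg).symm.toLinearMap ∘ₗ
    LinearMap.codRestrict (LinearMap.range g) (c • LinearMap.id) hc
  have hh : h ∘ₗ g = c • LinearMap.id := by
    refine LinearMap.ext fun m => hg ?_
    have h1 : g (h (g m)) = c • g m := by
      simp [h, LinearEquiv.ofInjective_symm_apply]
    simpa using h1
  have hker : LinearMap.ker (LinearMap.rTensor X g) = Submodule.torsion O (TensorProduct O M X) := by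
    ext y
    constructor
    · intro hy
      refine ⟨⟨c, mem_nonZeroDivisors_of_ne_zero hc0⟩, ?_⟩
      change c • y = 0
      have := congrArg (LinearMap.rTensor X h) (LinearMap.mem_ker.1 hy)
      rw [← LinearMap.comp_apply, ← LinearMap.rTensor_comp, hh, LinearMap.rTensor_smul, LinearMap.rTensor_id,
        map_zero] at this
      exact this
    · rintro ⟨⟨d, hd⟩, hy⟩
      rw [LinearMap.mem_ker]
      apply ((TensorProduct.comm O (Fin n → O) X).trans (TensorProduct.piScalarRight O O X (Fin n))).injective
      rw [map_zero]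
      funext i
      refine hXtf d _ (nonZeroDivisors.ne_zero hd) ?_
      have h2 := congrArg (fun z => ((TensorProduct.comm O (Fin n → O) X).trans
        (TensorProduct.piScalarRight O O X (Fin n))) (LinearMap.rTensor X g z) i) hy
      simp only [Submonoid.smul_def, map_smul, map_zero, Pi.smul_apply, Pi.zero_apply] at h2
      exact h2
  let c2 := TensorProduct.comm O M X
  have hmap : (Submodule.torsion O (TensorProduct O M X)).map (c2 : TensorProduct O M X →ₗ[O] TensorProduct O X M) =
      Submodule.torsion O (TensorProduct O X M) := by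
    ext y
    rw [Submodule.mem_map_equiv]
    constructor
    · rintro ⟨d, hd⟩
      exact ⟨d, c2.symm.injective (by rw [Submonoid.smul_def, map_smul, map_zero]; exact hd)⟩
    · rintro ⟨d, hd⟩
      exact ⟨d, by rw [Submonoid.smul_def, ← map_smul, ← Submonoid.smul_def, hd, map_zero]⟩
  exact ⟨(LinearEquiv.ofEq _ _ hmap.symm).trans ((c2.submoduleMap _).symm.trans ((LinearEquiv.ofEq _ _ hker.symm).trans
    (e1.symm ≪≫ (Groth.Agent.Lib.Tor.Balance.torFlipIso _ _ 1)).toLinearEquiv))⟩

end Groth.Agent.S15025
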