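import Groth.Statements.S15026
import Groth.Agent.H84.TFCurve.PushGen
import Groth.Agent.Lib.Cyc.CH.Line
import Groth.Agent.Lib.Curves.GlobalSections
import Groth.Agent.Lib.TensorMod.LocFree
-- import your own Groth.Agent.* helpers here

set_option autoImplicit false
universe u
open CategoryTheory CategoryTheory.Limits AlgebraicGeometry
open TFCurv

namespace Groth.Agent.S15026

open Groth.Agent.Lib Groth.Agent.Lib.Modules.StalkModule Groth.Agent.H84.TFCurve TopologicalSpace

/-- Pointwise multipliers into a submodule of a finite module give a uniform one. -/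
theorem exists_uniform_smul {R M : Type u} [CommRing R] [IsDomain R] [AddCommGroup M] [Module R M]
    [Module.Finite R M] (Λ : Submodule R M) (h : ∀ v : M, ∃ a : R, a ≠ 0 ∧ a • v ∈ Λ) :
    ∃ a : R, a ≠ 0 ∧ ∀ v : M, a • v ∈ Λ := by
  classical
  obtain ⟨n, s, hs⟩ := Module.Finite.exists_fin (R := R) (M := M)
  choose a ha0 ha using fun i => h (s i)
  refine ⟨∏ i, a i, Finset.prod_ne_zero_iff.2 fun i _ => ha0 i, fun v => ?_⟩
  have hv : v ∈ Submodule.span R (Set.range s) := hs.symm ▸ trivial
  induction hv using Submodule.span_induction with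
  | mem x hx =>
    obtain ⟨j, rfl⟩ := hx
    rw [← Finset.prod_erase_mul _ _ (Finset.mem_univ j), mul_smul]
    exact Λ.smul_mem _ (ha j)
  | zero => simp
  | add x y _ _ hx hy => rw [smul_add]; exact Λ.add_mem hx hy
  | smul r x _ hx => rw [smul_comm]; exact Λ.smul_mem _ hx

/-- Let X be an integral proper curve (integral, proper, of dimension one) over an algebraically closed
field k, with normalisation ν : X~ → X. Then every invertible module N on X~ is isomorphic to ν^*L
for some invertible module L on X: the pullback map Pic(X) → Pic(X~) is surjective. (The published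
statement is the short exact sequence 0 → ⊕_x O~_x^×/O_x^× → Pic(X) → Pic(X~) → 0; only its
surjectivity is stated here.) -/
theorem result (k : Type u) [Field k] [IsAlgClosed k] (X : Scheme.{u}) [X.Over (Spec (CommRingCat.of k))] [IsIntegral X] [IsProper (X ↘ Spec (CommRingCat.of k))] (hdim : topologicalKrullDim X = 1) [QuasiCompact (X.fromSpecStalk (genericPoint X))] [QuasiSeparated (X.fromSpecStalk (genericPoint X))] (N : (Curv2.normalization X).Modules) (hN : PicF.IsInvertible N) : ∃ L : X.Modules, PicF.IsInvertible L ∧ Nonempty ((Scheme.Modules.pullback (Curv2.normalizationι X)).obj L ≅ N) := by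
  classical
  haveI := Curves.GlobalSections.isNoetherian_of_proper k X
  let ν := Curv2.normalizationι X
  haveI : IsFinite ν := Normalization.InFieldVariety.isFinite_normalizationι k X
  haveI : IsDominant ν := ⟨(Normalization.Basic.surjective_normalizationι X).denseRange⟩
  have hNc := Ample.GG.isCoh_of_isInvertible hN
  have hNf := TensorMod.LocFree.of_rank (TensorMod.LocFree.of_isInvertible hN)
  let M := (Coh.push ν).obj N
  have hM : Coh.IsCoh M := CohDelta.IdealMul.FinPush.isCoh_push ν hNc
  have hT : TorSh.IsTorsionFree M :=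
    Groth.Agent.H93.TorFree.isTorsionFree_pushforward ν N (CurveBundle.Coherent.isTorsionFree hNf)
  haveI := hM.1
  -- a generator along each fibre
  choose U hU hxU hUsub using fun x : X =>
    exists_isAffineOpen_mem_and_subset (X := X) (x := x) (U := ⊤) trivial
  choose e he using fun x : X => PushGen.exists_fibre_gen ν N hN (hU x) (hxU x)
  let E : ∀ x : X, M.presheaf.stalk x := fun x => M.presheaf.germ (U x) x (hxU x) (e x)
  have hE : ∀ x, E x ≠ 0 := by
    intro x hx
    obtain ⟨y, rfl⟩ := Normalization.Basic.surjective_normalizationι X x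
    have h1 := PushGen.germY_mem_span ν N y (hxU _) (e (ν y)) 0 (by
      rw [show M.presheaf.germ (U (ν y)) (ν y) (hxU _) (e (ν y)) = 0 from hx]
      exact Submodule.zero_mem _)
    obtain ⟨g, hg, hinj⟩ := Cyc.C1Indep.exists_free_gen hN y
    have h0 : PushGen.germY ν N y (hxU (ν y)) (0 : Γ(M, U (ν y))) = 0 := map_zero _
    rw [h0, Submodule.span_zero_singleton, Submodule.mem_bot] at h1
    have h2 : g ∈ Submodule.span _ {PushGen.germY ν N y (hxU (ν y)) (e (ν y))} :=
      (he (ν y) y rfl).ge trivial
    rw [h1, Submodule.span_zero_singleton, Submodule.mem_bot] at h2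
    exact one_ne_zero (hinj 1 (by rw [h2, smul_zero]))
  have hinj : ∀ x, Function.Injective (LinearMap.toSpanSingleton (X.presheaf.stalk x) _ (E x)) := by
    intro x
    haveI := hT x
    exact (injective_iff_map_eq_zero _).2 fun a ha => (smul_eq_zero.1 ha).resolve_right (hE x)
  have hmul : ∀ x, ∃ a : X.presheaf.stalk x, a ≠ 0 ∧
      ∀ v : M.presheaf.stalk x, a • v ∈ Submodule.span (X.presheaf.stalk x) {E x} := by
    intro x
    haveI := RefHull.Reflexive.finite_stalk hM x
    refine exists_uniform_smul _ fun v => ?_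
    obtain ⟨c, s, hc, hcs⟩ := QCoh.Stalk.exists_smul_eq_germ M (hU x) (hxU x) v
    obtain ⟨a, ha, has⟩ := PushGen.exists_smul_mem X (hU x) (hxU x) hN s (e x) (hE x)
    refine ⟨a * X.presheaf.germ (U x) x (hxU x) c,
      mul_ne_zero ha ((X.mem_basicOpen c x (hxU x)).1 hc).ne_zero, ?_⟩
    rw [mul_smul, hcs]
    exact has
  -- the finite set to be modified
  let S : Set X := {x | ¬ Module.Free (X.presheaf.stalk x) (M.presheaf.stalk x)}
  have hSη : genericPoint X ∉ S := fun h => h (by
    letI : Field (X.presheaf.stalk (genericPoint X)) := inferInstanceAs (Field X.functionField)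
    exact Module.Free.of_divisionRing _ _)
  have hSf : S.Finite := SmoothCurve.Curve.finite_of_isClosed hdim
    (RefHull.LocFree.isOpen_free hM).isClosed_compl hSη
  obtain ⟨x₀, -, hx₀⟩ := IsClosed.exists_closed_singleton (isClosed_univ (X := X)) Set.univ_nonempty
  let T : Finset X := insert x₀ hSf.toFinset
  have hTc : ∀ y ∈ T, IsClosed ({y} : Set X) := by
    intro y hy
    rcases Finset.mem_insert.1 hy with rfl | hy
    · exact hx₀
    · exact (SmoothCurve.Curve.eq_genericPoint_or_isClosed hdim y).resolve_left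
        fun h => hSη (h ▸ hSf.mem_toFinset.1 hy)
  obtain ⟨K, i, hi, hK, hiinj, hrange, hbij⟩ := Lattice.exists_sub hdim.le hM T hTc
    (fun x => Submodule.span (X.presheaf.stalk x) {E x}) (fun x _ => hmul x)
  have hKT : ∀ x, x ∈ T → Nonempty (X.presheaf.stalk x ≃ₗ[X.presheaf.stalk x] K.presheaf.stalk x) :=
    fun x hx => ⟨LinearEquiv.ofInjective _ (hinj x) ≪≫ₗ
      LinearEquiv.ofEq _ _ ((LinearMap.range_toSpanSingleton (E x)).trans (hrange x hx).symm) ≪≫ₗ
      (LinearEquiv.ofInjective _ (hiinj x)).symm⟩
  have hKf : ∀ x, Module.Free (X.presheaf.stalk x) (K.presheaf.stalk x) := by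
    intro x
    by_cases hx : x ∈ T
    · obtain ⟨f⟩ := hKT x hx
      exact Module.Free.of_equiv f
    · haveI : Module.Free (X.presheaf.stalk x) (M.presheaf.stalk x) :=
        not_not.1 fun h => hx (Finset.mem_insert_of_mem (hSf.mem_toFinset.2 h))
      exact Module.Free.of_equiv (LinearEquiv.ofBijective _ (hbij x hx)).symm
  have hKr := Lattice.isFinLocFreeOfRank_of_free hK hKf
  have hK1 : Module.finrank (X.presheaf.stalk (genericPoint X)) (K.presheaf.stalk (genericPoint X)) = 1 := by
    obtain ⟨b⟩ := CurveBundle.Coherent.exists_basis_stalk hKr x₀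
    obtain ⟨f⟩ := hKT x₀ (Finset.mem_insert_self _ _)
    have h := Module.finrank_eq_card_basis b
    rw [← f.finrank_eq, Module.finrank_self, Fintype.card_fin] at h
    exact h.symm
  rw [hK1] at hKr
  have hKi : PicF.IsInvertible K := TensorMod.LocFree.isInvertible_of_rank_one hKr
  refine ⟨K, hKi, ?_⟩
  let φ : (Scheme.Modules.pullback ν).obj K ⟶ N :=
    ((Scheme.Modules.pullbackPushforwardAdjunction ν).homEquiv K N).symm i
  haveI : Epi φ := by
    rw [epi_iff_stalkMapₗ_surjective]
    intro y
    obtain ⟨z, hz, -⟩ := Cyc.C1Indep.exists_free_gen hKi (ν y)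
    haveI := hK.1
    obtain ⟨c, t, hc, hct⟩ := QCoh.Stalk.exists_smul_eq_germ K (hU (ν y)) (hxU (ν y)) z
    have htop : Submodule.span (X.presheaf.stalk (ν y)) {K.presheaf.germ (U (ν y)) (ν y) (hxU _) t} = ⊤ := by
      rw [← hct, Submodule.span_singleton_smul_eq ((X.mem_basicOpen c _ (hxU (ν y))).1 hc), hz]
    have hEmem : E (ν y) ∈ Submodule.span (X.presheaf.stalk (ν y))
        {M.presheaf.germ (U (ν y)) (ν y) (hxU _) (i.app (U (ν y)) t)} := by
      have hr : E (ν y) ∈ LinearMap.range (stalkMapₗ i (ν y)) := by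
        by_cases hx : ν y ∈ T
        · rw [hrange _ hx]; exact Submodule.mem_span_singleton_self _
        · exact (hbij _ hx).2 _
      obtain ⟨w, hw⟩ := hr
      obtain ⟨r, rfl⟩ := Submodule.mem_span_singleton.1
        (show w ∈ Submodule.span (X.presheaf.stalk (ν y)) {K.presheaf.germ (U (ν y)) (ν y) (hxU _) t}
          from htop.ge trivial)
      rw [← hw, map_smul, stalkMapₗ_germ]
      exact Submodule.smul_mem _ _ (Submodule.mem_span_singleton_self _)
    have hspan : Submodule.span ((Curv2.normalization X).presheaf.stalk y)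
        {PushGen.germY ν N y (hxU _) (i.app (U (ν y)) t)} = ⊤ :=
      eq_top_iff.2 ((he (ν y) y rfl).ge.trans (Submodule.span_le.2 (Set.singleton_subset_iff.2
        (PushGen.germY_mem_span ν N y (hxU _) (e (ν y)) (i.app (U (ν y)) t) hEmem))))
    let u : Γ((Scheme.Modules.pullback ν).obj K, ν ⁻¹ᵁ U (ν y)) :=
      ((Scheme.Modules.pullbackPushforwardAdjunction ν).unit.app K).app (U (ν y)) t
    have hu : φ.app (ν ⁻¹ᵁ U (ν y)) u = i.app (U (ν y)) t := by
      have h := (Scheme.Modules.pullbackPushforwardAdjunction ν).homEquiv_unit K N φ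
      rw [Equiv.apply_symm_apply] at h
      rw [h]
      rfl
    intro v
    obtain ⟨r, rfl⟩ := Submodule.mem_span_singleton.1
      (show v ∈ Submodule.span ((Curv2.normalization X).presheaf.stalk y)
        {PushGen.germY ν N y (hxU _) (i.app (U (ν y)) t)} from hspan.ge trivial)
    have hyU : y ∈ ν ⁻¹ᵁ U (ν y) := hxU (ν y)
    refine ⟨r • ((Scheme.Modules.pullback ν).obj K).presheaf.germ (ν ⁻¹ᵁ U (ν y)) y hyU u, ?_⟩
    rw [map_smul]
    refine congrArg (r • ·) ((stalkMapₗ_germ φ hyU u).trans ?_)
    rw [hu]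
  haveI := Cyc.CH.isIso_of_epi_invertible (PicLoc.isInvertible_pullback ν hKi) hN φ
  exact ⟨asIso φ⟩

end Groth.Agent.S15026
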