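import Groth.Statements.S15028
import Groth.Agent.Lib.Curves.Positivity
import Groth.Agent.Lib.Curves.Finiteness
-- import your own Groth.Agent.* helpers here

set_option autoImplicit false
universe u
open CategoryTheory CategoryTheory.Limits AlgebraicGeometry
open TFCurv

namespace Groth.Agent.S15028
open Groth.Agent.Lib.Curves Groth.Agent.Lib.Curves.Euler Groth.Agent.Lib.Curves.LES


/-- Let X be an integral proper curve (integral, proper, of dimension one) over an algebraically closed
field k, and let f : E → F be a monomorphism of coherent torsion-free O_X-modules which is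
generically an isomorphism (the stalk of its cokernel at the generic point vanishes), with E of rank
n at the generic point. Then deg E ≤ deg F, degrees being taken as modules of rank n (Euler
characteristic minus n times that of O_X), and equality holds if and only if f is an isomorphism.
(The published statement covers in the same words bundles with parabolic structure and a weight α <
1; only the case without parabolic structure is stated here.) -/
theorem result (k : Type u) [Field k] [IsAlgClosed k] (X : Scheme.{u}) [X.Over (Spec (CommRingCat.of k))] [IsIntegral X] [IsProper (X ↘ Spec (CommRingCat.of k))] (hdim : topologicalKrullDim X = 1) (E F : X.Modules) (hEc : Coh.IsCoh E) (hFc : Coh.IsCoh F) (hEt : TorSh.IsTorsionFree E) (hFt : TorSh.IsTorsionFree F) (n : ℕ) (hn : Module.finrank (X.presheaf.stalk (genericPoint X)) (E.presheaf.stalk (genericPoint X)) = n) (f : E ⟶ F) [Mono f] (hgen : Subsingleton ((cokernel f).presheaf.stalk (genericPoint X))) : Curv2.deg k X E n ≤ Curv2.deg k X F n ∧ (Curv2.deg k X E n = Curv2.deg k X F n ↔ IsIso f) := by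
  haveI : IsLocallyNoetherian X := LocallyOfFiniteType.isLocallyNoetherian (X ↘ Spec (CommRingCat.of k))
  haveI : CompactSpace X := QuasiCompact.compactSpace_of_compactSpace (X ↘ Spec (CommRingCat.of k))
  haveI : IsNoetherian X := {}
  have hd : topologicalKrullDim X ≤ 1 := hdim.le
  have gE := Finiteness.isGood_of_isCoh (k := k) hd hEc
  have gF := Finiteness.isGood_of_isCoh (k := k) hd hFc
  have hS := Positivity.cokerSES_shortExact f
  have hT : Positivity.IsTorsion (cokernel f) := fun x hx => by
    rw [Positivity.eq_genericPoint_of_isGenPt hx]
    exact hgen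
  haveI := gE.fin₁
  haveI := gF.fin₀
  have h0 : FiniteDimensional k (Coh.HH X (Positivity.cokerSES f).X₃ 0) :=
    finite_of_exact (exactK₃ k hS 0 1 rfl)
  have gQ : IsGood k X (Positivity.cokerSES f).X₃ := hT.isGood hd h0
  have hadd := euler_add hS gE gF gQ
  have hQ : Curv2.euler k X (Positivity.cokerSES f).X₃ = (Euler.hdim k X (cokernel f) 0 : ℤ) :=
    hT.euler hd
  have key : Curv2.deg k X F n = Curv2.deg k X E n + Euler.hdim k X (cokernel f) 0 := by
    unfold Curv2.deg
    linarith
  refine ⟨by linarith [Int.natCast_nonneg (Euler.hdim k X (cokernel f) 0)], fun h => ?_, fun h => ?_⟩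
  · haveI : FiniteDimensional k (Coh.HH X (cokernel f) 0) := h0
    have hs : Subsingleton (Coh.HH X (cokernel f) 0) := by
      rw [← Module.finrank_zero_iff (R := k)]
      have : (Euler.hdim k X (cokernel f) 0 : ℤ) = 0 := by linarith
      exact_mod_cast this
    haveI := hT.flasque hd
    have hz : IsZero (cokernel f) := Positivity.isZero_of_flasque hs
    haveI : Epi f := Abelian.epi_of_cokernel_π_eq_zero f (hz.eq_of_tgt _ _)
    exact isIso_of_mono_of_epi f
  · exact deg_eq_of_iso (k := k) (asIso f) n

end Groth.Agent.S15028
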