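import Groth.Statements.S1503
import Groth.Agent.H54.PCHom
import Groth.Agent.S7067
import Mathlib.AlgebraicGeometry.Noetherian
-- import your own Groth.Agent.* helpers here

set_option autoImplicit false
universe u
attribute [local instance] HasDerivedCategory.standard
open FlatMor

namespace Groth.Agent.S1503

open AlgebraicGeometry CategoryTheory Limits in
/-- Let f : X → S with S locally Noetherian. Then f is pseudo-coherent (affine-locally: pseudo-coherent
ring maps) if and only if f is locally of finite type. -/
theorem result {X S : Scheme.{u}} (f : X ⟶ S) [IsLocallyNoetherian S] :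
    MoreMor.IsPseudoCoherentMor f ↔ LocallyOfFiniteType f := by
  refine ⟨fun hf => ⟨fun {V} hV {U} hU e => ?_⟩, fun hf U V hU hV e => ?_⟩
  · algebraize [(f.appLE V U e).hom]
    have := Groth.Agent.H54.PCHom.finitePresentation_of_isPseudoCoherentHom (hf U V hU hV e)
    exact (inferInstance : Algebra.FiniteType Γ(S, V) Γ(X, U))
  · have : IsNoetherianRing Γ(S, V) := IsLocallyNoetherian.component_noetherian ⟨V, hV⟩
    algebraize [(f.appLE V U e).hom]
    have : Algebra.FiniteType Γ(S, V) Γ(X, U) := f.finiteType_appLE hV hU e
    exact Groth.Agent.S7067.result Γ(S, V) Γ(X, U)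

end Groth.Agent.S1503
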