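import Groth.Statements.S15036
import Mathlib

set_option autoImplicit false
open TFCurv

namespace Groth.Agent.S15036

/-- Let Γ be a numerical semigroup (a submonoid of (ℕ, +) with finite complement), Γ ≠ ℕ, with conductor
c (every n ≥ c lies in Γ, c − 1 does not); let S ⊆ ℕ be a Γ-module in normal form (0 ∈ S, γ + s ∈ S
for γ ∈ Γ, s ∈ S) with conductor c(S) (all n ≥ c(S) in S, c(S) − 1 ∉ S), and let s be a gap of S
such that S ∪ {s} is again a Γ-module. Enumerate S increasingly as s_0 < s_1 < ⋯ and put τ_i(S) =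
s_i + ℓ(S), where ℓ counts the gaps of Γ filled; since ℓ(S ∪ {s}) = ℓ(S) + 1, the termwise
comparison τ(S) ≤ τ(S ∪ {s}) says that the i-th element of S is at most one more than the i-th
element of S ∪ {s} for every i. This holds if and only if s = c(S) − 1, the largest gap of S. -/
theorem result (Γ : AddSubmonoid ℕ) (c : ℕ) (hc : ∀ n : ℕ, c ≤ n → n ∈ Γ) (hc0 : c ≠ 0) (hc1 : c - 1 ∉ Γ) (S : Set ℕ) (hS0 : (0 : ℕ) ∈ S) (hS : ∀ γ : ℕ, γ ∈ Γ → ∀ s : ℕ, s ∈ S → γ + s ∈ S) (cS : ℕ) (hcS : ∀ n : ℕ, cS ≤ n → n ∈ S) (hcS0 : cS ≠ 0) (hcS1 : cS - 1 ∉ S) (s : ℕ) (hs : s ∉ S) (hs' : ∀ γ : ℕ, γ ∈ Γ → γ ≠ 0 → s + γ ∈ S) : (∀ i : ℕ, Nat.nth (fun m => m ∈ S) i ≤ Nat.nth (fun m => m ∈ insert s S) i + 1) ↔ s + 1 = cS := by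
  classical
  have hfin : ∀ T : Set ℕ, (∀ n, cS ≤ n → n ∈ T) → (setOf fun m => m ∈ T).Infinite := fun T hT =>
    (Set.Ici_infinite cS).mono fun n hn => hT n hn
  have hSinf := hfin S hcS
  have hTinf := hfin (insert s S) fun n hn => Or.inr (hcS n hn)
  have hslt : s < cS := not_le.1 fun h => hs (hcS s h)
  have hcount : ∀ t, Nat.count (fun m => m ∈ insert s S) t =
      Nat.count (fun m => m ∈ S) t + if s < t then 1 else 0 := by
    intro t
    induction t with
    | zero => simp
    | succ t ih =>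
      rw [Nat.count_succ, Nat.count_succ, ih]
      by_cases h1 : t = s
      · subst h1; simp [hs]
      · simp only [Set.mem_insert_iff, h1, false_or]
        split_ifs <;> omega
  constructor
  · intro h
    by_contra hne
    have hi : Nat.nth (fun m => m ∈ S) (Nat.count (fun m => m ∈ S) (cS - 1)) = cS := by
      have e : Nat.count (fun m => m ∈ S) cS = Nat.count (fun m => m ∈ S) (cS - 1) := by
        conv_lhs => rw [show cS = cS - 1 + 1 by omega]
        rw [Nat.count_succ, if_neg hcS1, add_zero]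
      rw [← e]; exact Nat.nth_count (hcS cS le_rfl)
    have hlt := Nat.nth_lt_of_lt_count (p := fun m => m ∈ insert s S)
      (n := cS - 1) (k := Nat.count (fun m => m ∈ S) (cS - 1))
      (by rw [hcount, if_pos (show s < cS - 1 by omega)]; omega)
    have := h (Nat.count (fun m => m ∈ S) (cS - 1))
    omega
  · intro hsc i
    set t := Nat.nth (fun m => m ∈ insert s S) i with ht
    have hT : Nat.count (fun m => m ∈ insert s S) (t + 1) = i + 1 :=
      Nat.count_nth_succ_of_infinite hTinf i
    have hmono : Nat.count (fun m => m ∈ S) (t + 1) ≤ Nat.count (fun m => m ∈ S) (t + 2) :=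
      Nat.count_monotone _ (by omega)
    have hlt : i < Nat.count (fun m => m ∈ S) (t + 2) := by
      rw [hcount] at hT
      by_cases hst : s < t + 1
      · rw [if_pos hst] at hT
        rw [Nat.count_succ, if_pos (hcS (t + 1) (by omega))]
        omega
      · rw [if_neg hst] at hT
        omega
    have := Nat.nth_lt_of_lt_count hlt
    omega

end Groth.Agent.S15036
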