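import Groth.Statements.S15037
import Mathlib

set_option autoImplicit false
open TFCurv

namespace Groth.Agent.S15037

/-- Let Γ be a numerical semigroup (a submonoid of (ℕ, +) with finite complement), Γ ≠ ℕ, with conductor
c (every n ≥ c lies in Γ, c − 1 does not); let S and S' ⊆ ℕ be Γ-modules in normal form with
conductors c(S), c(S'), let δ(S), δ(S') be their numbers of gaps and r(S), r(S') their numbers of
elements below the conductor, and enumerate them increasingly as s_i, s'_i (i ≥ 0). With τ_i(S) =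
s_i + ℓ(S) and ℓ(S) = δ(Γ) − δ(S), the termwise order τ(S) ≤ τ(S') reads s_i + δ(S') ≤ s'_i + δ(S)
for all i. It holds if and only if r(S') ≤ r(S) and s_i + δ(S') ≤ s'_i + δ(S) for all i < r(S')
(beyond r(S) the entries τ_i(S) = i + δ(Γ) are the largest possible). -/
theorem result (Γ : AddSubmonoid ℕ) (c : ℕ) (hc : ∀ n : ℕ, c ≤ n → n ∈ Γ) (hc0 : c ≠ 0) (hc1 : c - 1 ∉ Γ) (S : Set ℕ) (hS0 : (0 : ℕ) ∈ S) (hS : ∀ γ : ℕ, γ ∈ Γ → ∀ s : ℕ, s ∈ S → γ + s ∈ S) (cS : ℕ) (hcS : ∀ n : ℕ, cS ≤ n → n ∈ S) (hcS1 : cS = 0 ∨ cS - 1 ∉ S) (S' : Set ℕ) (hS'0 : (0 : ℕ) ∈ S') (hS' : ∀ γ : ℕ, γ ∈ Γ → ∀ s : ℕ, s ∈ S' → γ + s ∈ S') (cS' : ℕ) (hcS' : ∀ n : ℕ, cS' ≤ n → n ∈ S') (hcS'1 : cS' = 0 ∨ cS' - 1 ∉ S') : (∀ i : ℕ, Nat.nth (fun m => m ∈ S) i + S'ᶜ.ncard ≤ Nat.nth (fun m => m ∈ S') i + Sᶜ.ncard) ↔ ((S' ∩ Set.Iio cS').ncard ≤ (S ∩ Set.Iio cS).ncard ∧ ∀ i : ℕ, i < (S' ∩ Set.Iio cS').ncard → Nat.nth (fun m => m ∈ S) i + S'ᶜ.ncard ≤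 Nat.nth (fun m => m ∈ S') i + Sᶜ.ncard) := by
  classical
  have main : ∀ (T : Set ℕ) (cT : ℕ), (∀ n, cT ≤ n → n ∈ T) → (cT = 0 ∨ cT - 1 ∉ T) →
      (∀ i, Nat.nth (fun m => m ∈ T) i ≤ i + Tᶜ.ncard) ∧
      (∀ i, (T ∩ Set.Iio cT).ncard ≤ i → Nat.nth (fun m => m ∈ T) i = i + Tᶜ.ncard) ∧
      (∀ i, i < (T ∩ Set.Iio cT).ncard → Nat.nth (fun m => m ∈ T) i < i + Tᶜ.ncard) := by
    intro T cT hT hT1
    have hsub : Tᶜ ⊆ Set.Iio cT := fun x hx => not_le.1 fun h => hx (hT x h)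
    have hfinc : Tᶜ.Finite := (Set.finite_Iio cT).subset hsub
    have hinf : (setOf fun m => m ∈ T).Infinite := (Set.Ici_infinite cT).mono fun n hn => hT n hn
    have hcnt : ∀ t, Nat.count (fun m => m ∈ T) t = (T ∩ Set.Iio t).ncard := by
      intro t
      rw [Nat.count_eq_card_filter_range, ← Set.ncard_coe_finset]
      congr 1
      ext x
      simp [and_comm]
    have hsplit : ∀ t, (T ∩ Set.Iio t).ncard + (Tᶜ ∩ Set.Iio t).ncard = t := by
      intro t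
      have hd := Set.ncard_inter_add_ncard_sdiff_eq_ncard (Set.Iio t) T (Set.finite_Iio t)
      have hI : (Set.Iio t).ncard = t := by
        rw [← Finset.coe_Iio, Set.ncard_coe_finset, Nat.card_Iio]
      rw [hI] at hd
      rw [Set.inter_comm T, Set.inter_comm Tᶜ, ← Set.sdiff_eq]
      exact hd
    have htot : (T ∩ Set.Iio cT).ncard + Tᶜ.ncard = cT := by
      have := hsplit cT
      rwa [Set.inter_eq_left.2 hsub] at this
    have key : ∀ i, Nat.nth (fun m => m ∈ T) i + 0 =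
        i + (Tᶜ ∩ Set.Iio (Nat.nth (fun m => m ∈ T) i)).ncard := by
      intro i
      have h1 := hsplit (Nat.nth (fun m => m ∈ T) i)
      rw [← hcnt, Nat.count_nth_of_infinite hinf] at h1
      omega
    refine ⟨fun i => ?_, fun i hi => ?_, fun i hi => ?_⟩
    · have := key i
      have := Set.ncard_le_ncard (s := Tᶜ ∩ Set.Iio (Nat.nth (fun m => m ∈ T) i)) Set.inter_subset_left hfinc
      omega
    · have hge : cT ≤ i + Tᶜ.ncard := by omega
      have h1 := hsplit (i + Tᶜ.ncard)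
      rw [Set.inter_eq_left.2 (hsub.trans (Set.Iio_subset_Iio hge)), ← hcnt] at h1
      have h2 := Nat.nth_count (p := fun m => m ∈ T) (hT _ hge)
      rwa [show Nat.count (fun m => m ∈ T) (i + Tᶜ.ncard) = i by omega] at h2
    · have hlt : Nat.nth (fun m => m ∈ T) i < cT := Nat.nth_lt_of_lt_count (by rwa [hcnt])
      have h1 : cT - 1 ∉ T := hT1.resolve_left (by omega)
      have hmem : Nat.nth (fun m => m ∈ T) i ∈ T := Nat.nth_mem_of_infinite hinf i
      have hss : Tᶜ ∩ Set.Iio (Nat.nth (fun m => m ∈ T) i) ⊂ Tᶜ := by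
        rw [Set.ssubset_iff_of_subset Set.inter_subset_left]
        refine ⟨cT - 1, h1, fun h => ?_⟩
        have h' : cT - 1 < Nat.nth (fun m => m ∈ T) i := h.2
        omega
      have := Set.ncard_lt_ncard hss hfinc
      have := key i
      omega
  obtain ⟨hle, heq, hlts⟩ := main S cS hcS hcS1
  obtain ⟨hle', heq', hlts'⟩ := main S' cS' hcS' hcS'1
  constructor
  · intro h
    refine ⟨le_of_not_gt fun hlt => ?_, fun i _ => h i⟩
    have := h (S ∩ Set.Iio cS).ncard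
    have := heq _ (le_refl (S ∩ Set.Iio cS).ncard)
    have := hlts' _ hlt
    omega
  · rintro ⟨hr, h⟩ i
    rcases Nat.lt_or_ge i (S' ∩ Set.Iio cS').ncard with hi | hi
    · exact h i hi
    · have := hle i
      have := heq' i hi
      omega

end Groth.Agent.S15037
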