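import Groth.Statements.S15038
import Mathlib

set_option autoImplicit false
open TFCurv

namespace Groth.Agent.S15038

/-- Let Γ be a numerical semigroup (a submonoid of (ℕ, +) with finite complement), Γ ≠ ℕ, with conductor
c (every n ≥ c lies in Γ, c − 1 does not). If Γ is symmetric (for x < c, x is a gap exactly when c −
1 − x ∈ Γ) and its multiplicity e, the least nonzero element of Γ, is greater than 2, then Γ is
generated as an additive monoid by at most e − 1 elements. -/
theorem result (Γ : AddSubmonoid ℕ) (c : ℕ) (hc : ∀ n : ℕ, c ≤ n → n ∈ Γ) (hc0 : c ≠ 0) (hc1 : c - 1 ∉ Γ) (hsymm : ∀ x : ℕ, x < c → (x ∉ Γ ↔ c - 1 - x ∈ Γ)) (e : ℕ) (he : e ∈ Γ) (he0 : e ≠ 0) (hemin : ∀ γ : ℕ, γ ∈ Γ → γ ≠ 0 → e ≤ γ) (he2 : 2 < e) : ∃ G : Finset ℕ, G.card ≤ e - 1 ∧ AddSubmonoid.closure (↑G : Set ℕ) = Γ := by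
  classical
  have hepos : 0 < e := Nat.pos_of_ne_zero he0
  have hex : ∀ r : ℕ, ∃ w, w ∈ Γ ∧ w % e = r % e := by
    intro r
    refine ⟨r + c * e, hc _ ?_, by simp [Nat.add_mul_mod_self_right]⟩
    have := Nat.le_mul_of_pos_right c hepos
    omega
  let w : ℕ → ℕ := fun r => Nat.find (hex r)
  have hmul : ∀ k : ℕ, k * e ∈ Γ := fun k => by simpa using Γ.nsmul_mem he k
  set r0 := (c - 1) % e with hr0
  have hr0pos : r0 ≠ 0 := fun h => by
    obtain ⟨k, hk⟩ := Nat.dvd_of_mod_eq_zero h
    exact hc1 (hk ▸ mul_comm k e ▸ hmul k)
  let R : Finset ℕ := ((Finset.range e).erase 0).erase r0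
  refine ⟨insert e (R.image w), ?_, ?_⟩
  · refine (Finset.card_insert_le _ _).trans ?_
    have h1 : R.card = e - 2 := by
      have hr : r0 ∈ (Finset.range e).erase 0 :=
        Finset.mem_erase.2 ⟨hr0pos, Finset.mem_range.2 (Nat.mod_lt _ hepos)⟩
      rw [Finset.card_erase_of_mem hr, Finset.card_erase_of_mem (Finset.mem_range.2 hepos),
        Finset.card_range]
      omega
    have := Finset.card_image_le (s := R) (f := w)
    omega
  · apply le_antisymm
    · rw [AddSubmonoid.closure_le]
      intro x hx
      rcases Finset.mem_insert.1 (Finset.mem_coe.1 hx) with rfl | hx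
      · exact he
      · obtain ⟨r, -, rfl⟩ := Finset.mem_image.1 hx
        exact (Nat.find_spec (hex r)).1
    · intro n
      induction n using Nat.strong_induction_on with
      | _ n ih =>
      intro hn
      rcases Nat.eq_zero_or_pos n with rfl | hn0
      · exact AddSubmonoid.zero_mem _
      have hsum : ∀ a b : ℕ, a ∈ Γ → b ∈ Γ → a ≠ 0 → b ≠ 0 → a + b = n →
          n ∈ AddSubmonoid.closure (↑(insert e (R.image w)) : Set ℕ) := by
        intro a b ha hb ha0 hb0 hab
        rw [← hab]
        exact AddSubmonoid.add_mem _ (ih a (by omega) ha) (ih b (by omega) hb)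
      have hne : n = e → n ∈ AddSubmonoid.closure (↑(insert e (R.image w)) : Set ℕ) := fun h =>
        AddSubmonoid.subset_closure (by simp [h])
      by_cases hsub : e ≤ n ∧ n - e ∈ Γ
      · rcases Nat.eq_zero_or_pos (n - e) with h | h
        · exact hne (by omega)
        · exact hsum e (n - e) he hsub.2 he0 (by omega) (by omega)
      have hw : w (n % e) = n := by
        have hs := Nat.find_spec (hex (n % e))
        have hle : w (n % e) ≤ n := Nat.find_le ⟨hn, (Nat.mod_mod n e).symm⟩
        by_contra hne'
        have hs2 : w (n % e) ≡ n [MOD e] := hs.2.trans (Nat.mod_mod n e)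
        obtain ⟨k, hk⟩ := (Nat.modEq_iff_dvd' hle).1 hs2
        obtain ⟨k', rfl⟩ : ∃ k', k = k' + 1 := ⟨k - 1, by
          rcases Nat.eq_zero_or_pos k with rfl | h
          · simp at hk; omega
          · omega⟩
        rw [Nat.mul_add, mul_one] at hk
        refine hsub ⟨by omega, ?_⟩
        rw [show n - e = w (n % e) + e * k' by omega, mul_comm e k']
        exact Γ.add_mem hs.1 (hmul k')
      have hn0' : n % e ≠ 0 := fun h => by
        obtain ⟨k, hk⟩ := Nat.dvd_of_mod_eq_zero h
        obtain ⟨k', rfl⟩ : ∃ k', k = k' + 1 := ⟨k - 1, by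
          rcases Nat.eq_zero_or_pos k with rfl | h
          · simp at hk; omega
          · omega⟩
        rw [Nat.mul_add, mul_one] at hk
        exact hsub ⟨by omega, by rw [show n - e = e * k' by omega, mul_comm]; exact hmul k'⟩
      by_cases hr : n % e = r0
      · have hnc : n = c - 1 + e := by
          rcases lt_trichotomy n (c - 1 + e) with h | h | h
          · exfalso
            obtain ⟨k, hk⟩ := (Nat.modEq_iff_dvd' h.le).1
              (show n ≡ c - 1 + e [MOD e] by
                unfold Nat.ModEq; rw [Nat.add_mod_right, hr])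
            obtain ⟨k', rfl⟩ : ∃ k', k = k' + 1 := ⟨k - 1, by
              rcases Nat.eq_zero_or_pos k with rfl | h'
              · simp at hk; omega
              · omega⟩
            rw [Nat.mul_add, mul_one] at hk
            exact hc1 (by
              rw [show c - 1 = n + e * k' by omega, mul_comm e k']
              exact Γ.add_mem hn (hmul k'))
          · exact h
          · exfalso
            exact hsub ⟨by omega, hc _ (by omega)⟩
        have hgap : ∀ x, 1 ≤ x → x < e → x ∉ Γ := fun x hx1 hx2 hx => by
          have := hemin x hx (by omega); omega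
        have hec : e < c := by
          have hle := hemin c (hc c le_rfl) hc0
          by_contra h
          have hx := (hsymm 1 (by omega)).1 (hgap 1 le_rfl (by omega))
          exact hgap (c - 1 - 1) (by omega) (by omega) hx
        have hexa : ∃ a, a ∈ Γ ∧ ¬ e ∣ a ∧ a < c := by
          by_contra h
          push Not at h
          have hdiv : ∀ a, a ∈ Γ → a < c → e ∣ a := fun a ha hac => by
            by_contra hd
            exact absurd hac (not_lt.2 (h a ha hd))
          have d1 := hdiv _ ((hsymm 1 (by omega)).1 (hgap 1 le_rfl (by omega))) (by omega)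
          have d2 := hdiv _ ((hsymm 2 (by omega)).1 (hgap 2 (by omega) he2)) (by omega)
          have d3 := Nat.dvd_sub d1 d2
          rw [show c - 1 - 1 - (c - 1 - 2) = 1 by omega] at d3
          have := Nat.le_of_dvd one_pos d3
          omega
        obtain ⟨haΓ, hand, hac⟩ := Nat.find_spec hexa
        set a := Nat.find hexa with ha
        have hae : e < a := by
          have h0 : a ≠ 0 := fun h => hand (h ▸ dvd_zero e)
          have := hemin a haΓ h0
          rcases Nat.lt_or_ge e a with h | h
          · exact h
          · exact absurd (show e ∣ a by rw [show a = e by omega]) hand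
        have hxgap : a - e ∉ Γ := fun hx => by
          have hnd : ¬ e ∣ (a - e) := fun hd => hand (by
            have := Nat.dvd_add hd (dvd_refl e)
            rwa [Nat.sub_add_cancel hae.le] at this)
          exact Nat.find_min hexa (m := a - e) (by omega) ⟨hx, hnd, by omega⟩
        have hb := (hsymm (a - e) (by omega)).1 hxgap
        exact hsum a (c - 1 - (a - e)) haΓ hb (by omega) (by omega) (by omega)
      · refine AddSubmonoid.subset_closure (Finset.mem_coe.2 (Finset.mem_insert_of_mem ?_))
        exact Finset.mem_image.2 ⟨n % e, Finset.mem_erase.2 ⟨hr, Finset.mem_erase.2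
          ⟨hn0', Finset.mem_range.2 (Nat.mod_lt _ hepos)⟩⟩, hw⟩

end Groth.Agent.S15038
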