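import Groth.Statements.S15039
import Groth.Agent.H84.TFCurve.PushGeneric
import Groth.Agent.Lib.CurveBundle.Saturation
import Groth.Agent.Lib.Curves.GlobalSections
-- import your own Groth.Agent.* helpers here

set_option autoImplicit false
universe u
open CategoryTheory CategoryTheory.Limits AlgebraicGeometry
open TFCurv

namespace Groth.Agent.S15039

open Groth.Agent.Lib Groth.Agent.Lib.Modules.StalkModule Groth.Agent.H84.TFCurve TopologicalSpace
open Groth.Agent.Lib.DerivedOX.PullbackStalk (pushStalkMap pushStalkMap_germ pushStalkMap_natural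
  pushStalkMap_smul)

/-- Local models of the normalization are torsion-free. -/
theorem isTorsionFree_model (R K : Type u) [CommRing R] [IsDomain R] [Field K] [Algebra R K]
    [IsFractionRing R K] (n : ℕ) (M : Type u) [AddCommGroup M] [Module R M]
    (g : M ≃ₗ[R] (Fin n → integralClosure R K)) : Module.IsTorsionFree R M := by
  refine ⟨fun r hr => (isSMulRegular_iff_right_eq_zero_of_smul).2 fun v hv => g.injective ?_⟩
  rw [map_zero]
  funext j
  have h : r • (g v) j = 0 := by rw [← Pi.smul_apply, ← map_smul, hv, map_zero, Pi.zero_apply]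
  have h' : algebraMap R K r * ((g v) j : K) = 0 := by
    rw [← Algebra.smul_def]; exact congrArg Subtype.val h
  exact Subtype.ext ((mul_eq_zero.1 h').resolve_left
    fun h0 => hr.ne_zero ((IsFractionRing.injective R K) (h0.trans (map_zero _).symm)))

/-- The generic rank of a module with normal local models. -/
theorem finrank_generic {X : Scheme.{u}} [IsIntegral X] {F : X.Modules} {n : ℕ} {x : X}
    (hx : x = genericPoint X)
    (g : F.presheaf.stalk x ≃ₗ[X.presheaf.stalk x]
      (Fin n → ↥(integralClosure (X.presheaf.stalk x) X.functionField))) :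
    Module.finrank (X.presheaf.stalk x) (F.presheaf.stalk x) = n := by
  letI : Field (X.presheaf.stalk x) := (show IsField (X.presheaf.stalk x) by
    rw [hx]; exact Field.toIsField X.functionField).toField
  let φ := algebraMap (X.presheaf.stalk x) X.functionField
  have hs : ∀ a : X.functionField, ∃ b, φ b = a := fun a => by
    obtain ⟨p, q, -, h⟩ := IsFractionRing.div_surjective (A := X.presheaf.stalk x) a
    exact ⟨p / q, (map_div₀ φ p q).trans h⟩
  let e : X.presheaf.stalk x ≃ₗ[X.presheaf.stalk x]
      ↥(integralClosure (X.presheaf.stalk x) X.functionField) :=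
    LinearEquiv.ofBijective (Algebra.linearMap _ _)
      ⟨fun a b h => φ.injective (congrArg Subtype.val h),
        fun z => (hs z.1).imp fun b hb => Subtype.ext hb⟩
  rw [(g ≪≫ₗ LinearEquiv.piCongrRight (fun _ => e.symm)).finrank_eq, Module.finrank_fin_fun]

/-- Let X be an integral proper curve (integral, proper, of dimension one) over an algebraically closed
field k, with normalisation ν : X~ → X, and write Õ_x for the integral closure of the local ring
O_{X,x} in the function field of X. Then ν_* induces a bijection from isomorphism classes of locally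
free modules of rank n on X~ to isomorphism classes of coherent O_X-modules all of whose stalks F_x
are isomorphic to Õ_x^n as O_{X,x}-modules: every such module is isomorphic to ν_*E for some locally
free E of rank n on X~, and two locally free modules of rank n on X~ with isomorphic direct images
are isomorphic. -/
theorem result (k : Type u) [Field k] [IsAlgClosed k] (X : Scheme.{u}) [X.Over (Spec (CommRingCat.of k))] [IsIntegral X] [IsProper (X ↘ Spec (CommRingCat.of k))] (hdim : topologicalKrullDim X = 1) [QuasiCompact (X.fromSpecStalk (genericPoint X))] [QuasiSeparated (X.fromSpecStalk (genericPoint X))] (n : ℕ) : (∀ F : X.Modules, Coh.IsCoh F → (∀ x : X, Nonempty (↑(F.presheaf.stalk x) ≃ₗ[↑(X.presheaf.stalk x)] (Fin n → ↥(integralClosure ↑(X.presheaf.stalk x) X.functionField)))) → ∃ E : (Curv2.normalization X).Modules, FlatMod.IsFinLocFreeOfRank n E ∧ Nonempty ((Coh.push (Curv2.normalizationι X)).obj E ≅ F)) ∧ (∀ E E' : (Curv2.normalization X).Modules, FlatMod.IsFinLocFreeOfRank n E → FlatMod.IsFinLocFreeOfRank n E' → Nonempty ((Coh.push (Curv2.normalizationι X)).obj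 E ≅ (Coh.push (Curv2.normalizationι X)).obj E') → Nonempty (E ≅ E')) := by
  classical
  haveI := Curves.GlobalSections.isNoetherian_of_proper k X
  let ν := Curv2.normalizationι X
  let Y := Curv2.normalization X
  haveI : IsFinite ν := Normalization.InFieldVariety.isFinite_normalizationι k X
  haveI : IsDominant ν := ⟨(Normalization.Basic.surjective_normalizationι X).denseRange⟩
  haveI : IsLocallyNoetherian Y := Normalization.DimOne.isLocallyNoetherian_normalization X hdim.le
  let adj := Scheme.Modules.pullbackPushforwardAdjunction ν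
  refine ⟨fun F hF hg => ?_, fun E E' hE hE' ⟨e⟩ => ?_⟩
  · haveI := hF.1
    have hFt : TorSh.IsTorsionFree F := fun x => by
      obtain ⟨g⟩ := hg x
      exact isTorsionFree_model _ X.functionField n _ g
    have hQ := Cyc.FP.Stalk.isCoh_pullback ν hF
    obtain ⟨T, q, hq, hT, hTt, hqη⟩ :=
      CurveBundle.Saturation.exists_torsionFree_quotient ((Scheme.Modules.pullback ν).obj F) hQ
    haveI := hT.1
    haveI := hQ.1
    let M := (Scheme.Modules.pushforward ν).obj T
    haveI : M.IsQuasicoherent := QCoh.Pushforward.isQCoh_pushforward ν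
    have hMt : TorSh.IsTorsionFree M := Groth.Agent.H93.TorFree.isTorsionFree_pushforward ν T hTt
    let η' := genericPoint Y
    let f : F ⟶ M := adj.unit.app F ≫ (Scheme.Modules.pushforward ν).map q
    have hfη : ∀ a, pushStalkMap ν η' T (stalkMapₗ f (ν η') a) =
        stalkMapₗ q η' (pushStalkMap ν η' _ (stalkMapₗ (adj.unit.app F) (ν η') a)) := fun a =>
      (congrArg _ (LinearMap.congr_fun (stalkMapₗ_comp _ _ _) a)).trans
        (pushStalkMap_natural ν η' q _)
    have hinjη : Function.Injective (stalkMapₗ f (ν η')) := fun a b h =>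
      (PushGeneric.bijective_unitStalk X F).1 (hqη (((hfη a).symm.trans (congrArg _ h)).trans (hfη b)))
    have hrank : Module.finrank (Y.presheaf.stalk η') (T.presheaf.stalk η') = n := by
      have hall : ∀ x : X, x = genericPoint X →
          Module.finrank (X.presheaf.stalk x) (F.presheaf.stalk x) = n := by
        intro x hx
        obtain ⟨g⟩ := hg x
        exact finrank_generic hx g
      rw [← hall (ν η') (PushGeneric.genericPoint_map X)]
      let j : F.presheaf.stalk (ν η') →+ T.presheaf.stalk η' :=
        AddMonoidHom.mk' (fun a => stalkMapₗ q η'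
          (pushStalkMap ν η' _ (stalkMapₗ (adj.unit.app F) (ν η') a))) fun a b => by
          simp only [map_add]
      have hj : Function.Bijective j := (Function.Bijective.comp
        ⟨hqη, (epi_iff_stalkMapₗ_surjective q).1 hq η'⟩ (PushGeneric.bijective_unitStalk X F) : _)
      refine congrArg Cardinal.toNat (rank_eq_of_equiv_equiv (((ν).stalkMap η').hom)
        (AddEquiv.ofBijective j hj) (PushGeneric.bijective_stalkMap X) fun r a => ?_).symm
      show stalkMapₗ q η' (pushStalkMap ν η' _ (stalkMapₗ (adj.unit.app F) (ν η') (r • a))) =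
        ((ν).stalkMap η').hom r •
          stalkMapₗ q η' (pushStalkMap ν η' _ (stalkMapₗ (adj.unit.app F) (ν η') a))
      rw [map_smul]
      exact (congrArg _ (pushStalkMap_smul ν η' _ r _)).trans (map_smul _ _ _)
    have hTr : FlatMod.IsFinLocFreeOfRank n T := by
      rw [← hrank]
      exact CurveBundle.LocFree.isFinLocFreeOfRank (PushGeneric.isPrincipal_stalk X hdim.le) hT hTt
    refine ⟨T, hTr, ⟨?_⟩⟩
    haveI hmono : Mono f := by
      refine CurveBundle.Rank.mono_of_generic_injective hFt f ?_
      have hall : ∀ x : X, x = ν η' → Function.Injective (stalkMapₗ f x) := by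
        rintro x rfl; exact hinjη
      exact hall _ (PushGeneric.genericPoint_map X).symm
    haveI : IsIso f := by
      rw [isIso_iff_stalkMapₗ_bijective]
      intro x
      refine ⟨(mono_iff_stalkMapₗ_injective f).1 hmono x, fun z => ?_⟩
      obtain ⟨U, hU, hxU, -⟩ := exists_isAffineOpen_mem_and_subset (X := X) (x := x) (U := ⊤) trivial
      haveI : Nonempty U := ⟨⟨x, hxU⟩⟩
      obtain ⟨g⟩ := hg x
      suffices hsec : ∀ s : Γ(M, U), M.presheaf.germ U x hxU s ∈ LinearMap.range (stalkMapₗ f x) by
        obtain ⟨c, s, hc, hcs⟩ := QCoh.Stalk.exists_smul_eq_germ M hU hxU z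
        obtain ⟨v, hv⟩ := ((X.mem_basicOpen c x hxU).1 hc).exists_left_inv
        have h := Submodule.smul_mem _ v (hsec s)
        rw [← hcs, smul_smul, hv, one_smul] at h
        exact h
      have hgen : ∀ (b : Γ(Y, ν ⁻¹ᵁ U)) (m : Γ(F, U)),
          M.presheaf.germ U x hxU (show Γ(M, U) from b • (show Γ(T, ν ⁻¹ᵁ U) from f.app U m)) ∈
            LinearMap.range (stalkMapₗ f x) := by
        intro b m
        obtain ⟨a, c, hc, hca⟩ := PushGeneric.exists_frac X hU b
        haveI := functionField_isFractionRing_of_isAffineOpen X U hU
        letI : Algebra Γ(X, U) (X.presheaf.stalk x) :=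
          TopCat.Presheaf.algebra_section_stalk X.presheaf (⟨x, hxU⟩ : U)
        haveI : IsScalarTower Γ(X, U) (X.presheaf.stalk x) X.functionField :=
          functionField_isScalarTower X U ⟨x, hxU⟩
        let z₀ : ↥(integralClosure (X.presheaf.stalk x) X.functionField) :=
          ⟨(Normalization.Basic.sectionsEquiv X hU b).1,
            IsIntegral.tower_top (Normalization.Basic.sectionsEquiv X hU b).2⟩
        let γ := X.presheaf.germ U x hxU
        have hz₀ : γ c • z₀ = γ a • (1 : ↥(integralClosure (X.presheaf.stalk x) X.functionField)) := by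
          apply Subtype.ext
          have h := congrArg Subtype.val (congrArg (Normalization.Basic.sectionsEquiv X hU) hca)
          rw [map_mul, MulMemClass.coe_mul, Normalization.Basic.sectionsEquiv_app,
            Normalization.Basic.sectionsEquiv_app] at h
          change algebraMap (X.presheaf.stalk x) X.functionField (γ c) * _ =
            algebraMap (X.presheaf.stalk x) X.functionField (γ a) * 1
          rw [mul_one]
          refine Eq.trans ?_ (h.trans (IsScalarTower.algebraMap_apply _ (X.presheaf.stalk x) _ a))
          exact congrArg (· * _) (IsScalarTower.algebraMap_apply _ (X.presheaf.stalk x) _ c).symm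
        let v : F.presheaf.stalk x := g.symm (fun i => z₀ * g (F.presheaf.germ U x hxU m) i)
        have hv : γ c • v = γ a • F.presheaf.germ U x hxU m := by
          apply g.injective
          rw [map_smul, map_smul, LinearEquiv.apply_symm_apply]
          funext i
          rw [Pi.smul_apply, Pi.smul_apply, ← smul_mul_assoc, hz₀, smul_mul_assoc, one_mul]
        have hc0 : γ c ≠ 0 := fun h =>
          hc (germ_injective_of_isIntegral X x hxU (h.trans (map_zero _).symm))
        refine ⟨v, ?_⟩
        haveI := hMt x
        refine smul_right_injective (M.presheaf.stalk x) hc0 ?_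
        show γ c • stalkMapₗ f x v = γ c • _
        rw [← map_smul, hv, map_smul, stalkMapₗ_germ, ← germ_smul, ← germ_smul]
        refine congrArg (M.presheaf.germ U x hxU) ?_
        show ν.app U a • (show Γ(T, ν ⁻¹ᵁ U) from f.app U m) =
          ν.app U c • b • (show Γ(T, ν ⁻¹ᵁ U) from f.app U m)
        rw [← mul_smul, hca]
      intro s
      have hV : IsAffineOpen (ν ⁻¹ᵁ U) := hU.preimage ν
      obtain ⟨z', hz'⟩ := QCoh.Closure.sections_surjective_of_epi q hV
        (show Γ(T, ν ⁻¹ᵁ U) from s)
      obtain ⟨w, hw⟩ := (ZarCoh.FlatBC.PullbackSections.bijective_pbTensor ν F hU hV le_rfl).2 z'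
      subst hw
      rw [show s = (show Γ(M, U) from
        q.app (ν ⁻¹ᵁ U) (ZarCoh.FlatBC.PullbackSections.pbTensor ν F le_rfl w)) from hz'.symm]
      clear hz'
      letI := (ν.appLE U (ν ⁻¹ᵁ U) le_rfl).hom.toAlgebra
      induction w using TensorProduct.induction_on with
      | zero =>
        convert Submodule.zero_mem (LinearMap.range (stalkMapₗ f x))
        rw [map_zero, map_zero]
        exact map_zero _
      | add w₁ w₂ h₁ h₂ =>
        convert Submodule.add_mem _ h₁ h₂ using 1
        rw [map_add, map_add]
        exact map_add _ _ _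
      | tmul b m =>
        convert hgen b m using 3
        rw [ZarCoh.FlatBC.PullbackSections.pbTensor_tmul, Scheme.Modules.Hom.app_smul]
        refine congrArg (b • ·) ?_
        show q.app (ν ⁻¹ᵁ U) (((Scheme.Modules.pullback ν).obj F).presheaf.map (homOfLE le_rfl).op
          ((adj.unit.app F).app U m)) = q.app (ν ⁻¹ᵁ U) ((adj.unit.app F).app U m)
        rw [show (homOfLE (le_refl (ν ⁻¹ᵁ U))).op = 𝟙 _ from rfl,
          CategoryTheory.Functor.map_id]
        rfl
    exact (asIso f).symm
  · have hEf := TensorMod.LocFree.of_rank hE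
    have hEf' := TensorMod.LocFree.of_rank hE'
    haveI := CurveBundle.Coherent.isQCoh hEf
    haveI := CurveBundle.Coherent.isQCoh hEf'
    have hEt := CurveBundle.Coherent.isTorsionFree hEf
    have hEt' := CurveBundle.Coherent.isTorsionFree hEf'
    obtain ⟨θ, hθ⟩ := PushGeneric.exists_map_eq X hEt hEt' e.hom
    obtain ⟨θ', hθ'⟩ := PushGeneric.exists_map_eq X hEt' hEt e.inv
    refine ⟨⟨θ, θ', PushGeneric.map_injective X _ _ ?_, PushGeneric.map_injective X _ _ ?_⟩⟩
    · rw [Functor.map_comp, hθ, hθ', CategoryTheory.Functor.map_id]
      exact e.hom_inv_id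
    · rw [Functor.map_comp, hθ, hθ', CategoryTheory.Functor.map_id]
      exact e.inv_hom_id

end Groth.Agent.S15039
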