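import Groth.Statements.S15040
import Groth.Agent.H15.CanDual.DualExt
import Mathlib
-- import your own Groth.Agent.* helpers here

set_option autoImplicit false
universe u
open CategoryTheory
open TFCurv

namespace Groth.Agent.S15040

open CategoryTheory CategoryTheory.Abelian in
theorem subsingleton_ext_of_iso {O : Type u} [CommRing O] {X A B : ModuleCat.{u} O} (e : A ≅ B) (n : ℕ)
    (h : Subsingleton (Ext X A n)) : Subsingleton (Ext X B n) := by
  refine subsingleton_of_forall_eq 0 fun x => ?_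
  have h1 : x = (x.comp (Ext.mk₀ e.inv) (add_zero n)).comp (Ext.mk₀ e.hom) (add_zero n) := by
    rw [Ext.comp_assoc _ _ _ (add_zero n) (zero_add 0) (by omega), Ext.mk₀_comp_mk₀, e.inv_hom_id, Ext.comp_mk₀_id]
  rw [h1, Subsingleton.elim (x.comp (Ext.mk₀ e.inv) (add_zero n)) 0, Ext.zero_comp]

open Groth.Agent.H15.CanDual.Basic Groth.Agent.H15.CanDual.Conductor Groth.Agent.H15.CanDual.DualExt

/-- Let O be a one-dimensional Gorenstein local domain with algebraically closed residue field whose
integral closure O~ in its fraction field K is a finite O-module, and let M be an intermediate ring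
O ⊆ M ⊆ O~ (an overring of O), viewed as an O-module. Put M⁻¹ = {x ∈ K | x·M ⊆ O}, which lies in O
and is identified with an ideal of O. Then Ext¹_O(M, M) and Hom_O(M⁻¹, O/M⁻¹) are isomorphic abelian
groups (existence of an additive isomorphism only). -/
theorem result (O : Type u) [CommRing O] [IsDomain O] [LocCoh.IsGorensteinLocalRing O] (hdim : ringKrullDim O = 1) [IsAlgClosed (IsLocalRing.ResidueField O)] (K : Type u) [Field K] [Algebra O K] [IsFractionRing O K] (hfin : Module.Finite O ↥(integralClosure O K)) (M : Subalgebra O K) (hM : M ≤ integralClosure O K) : Nonempty (Abelian.Ext (ModuleCat.of O ↥M) (ModuleCat.of O ↥M) 1 ≃+ (↥((1 : Submodule O K) / Subalgebra.toSubmodule M) →ₗ[O] (O ⧸ Submodule.comap (Algebra.linearMap O K) ((1 : Submodule O K) / Subalgebra.toSubmodule M)))) := by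
  classical
  have hω : IsCan (1 : Submodule O K) := isCan_one hdim
  haveI : Module.Finite O ↥M := Module.Finite.iff_fg.mpr
    (Submodule.FG.of_le (fg_nc hfin) (show Subalgebra.toSubmodule M ≤ nc O K from hM))
  haveI : NoZeroSMulDivisors O ↥M := ⟨fun {c v} h => by
    have h1 : (algebraMap O K c) * (v : K) = 0 := by rw [← Algebra.smul_def]; exact congrArg Subtype.val h
    rcases mul_eq_zero.mp h1 with h2 | h2
    · exact Or.inl (IsFractionRing.injective O K (h2.trans (map_zero _).symm))
    · exact Or.inr (Subtype.ext h2)⟩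
  haveI : Module.Finite O ↥(1 : Submodule O K) := Module.Finite.iff_fg.mpr fg_one
  haveI := noZeroSMul_hom (1 : Submodule O K) ↥M
  obtain ⟨e1⟩ := ext_dual hdim hfin hω 1 ↥M ↥M
  let e : O ≃ₗ[O] ↥(1 : Submodule O K) :=
    (LinearEquiv.ofInjective (Algebra.linearMap O K) (IsFractionRing.injective O K)).trans
      (LinearEquiv.ofEq _ _ Submodule.one_eq_range.symm)
  have he : ∀ a, ((e a : ↥(1 : Submodule O K)) : K) = algebraMap O K a := fun a => rfl
  have hmul : ∀ (φ : ↥M →ₗ[O] ↥(1 : Submodule O K)) (y : ↥M), ((φ y : ↥(1 : Submodule O K)) : K) = (y : K) * ((φ 1 : ↥(1 : Submodule O K)) : K) := by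
    intro φ y
    obtain ⟨⟨o, s⟩, hys⟩ := IsLocalization.surj (nonZeroDivisors O) (y : K)
    have hs0 : algebraMap O K (s : O) ≠ 0 := Groth.Agent.H15.CanDual.Hom.algebraMap_ne (nonZeroDivisors.ne_zero s.2)
    have h1 : (s : O) • y = o • (1 : ↥M) := Subtype.ext (by
      show (s : O) • (y : K) = o • (1 : K)
      rw [Algebra.smul_def, Algebra.smul_def, mul_one, mul_comm]; exact hys)
    have h2 : (s : O) • ((φ y : ↥(1 : Submodule O K)) : K) = o • ((φ 1 : ↥(1 : Submodule O K)) : K) :=
      congrArg Subtype.val (show (s : O) • φ y = o • φ 1 by rw [← map_smul, ← map_smul, h1])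
    rw [Algebra.smul_def, Algebra.smul_def] at h2
    apply mul_left_cancel₀ hs0
    rw [h2, ← hys]
    ring
  set J : Ideal O := Submodule.comap (Algebra.linearMap O K) ((1 : Submodule O K) / Subalgebra.toSubmodule M) with hJ
  let ι : (↥M →ₗ[O] ↥(1 : Submodule O K)) →ₗ[O] O := e.symm.toLinearMap ∘ₗ LinearMap.applyₗ (1 : ↥M)
  have hι : ∀ φ, algebraMap O K (ι φ) = ((φ 1 : ↥(1 : Submodule O K)) : K) := fun φ => by
    rw [← he]; simp [ι]
  have hιinj : Function.Injective ι := fun φ ψ h => LinearMap.ext fun y => Subtype.ext (by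
    rw [hmul φ, hmul ψ, ← hι, ← hι, h])
  have hιJ : ∀ φ, ι φ ∈ J := fun φ => by
    show algebraMap O K (ι φ) ∈ (1 : Submodule O K) / Subalgebra.toSubmodule M
    refine Submodule.mem_div_iff_forall_mul_mem.mpr fun y hy => ?_
    rw [hι, mul_comm, ← hmul φ ⟨y, hy⟩]
    exact (φ _).2
  let S : ShortComplex (ModuleCat.{u} O) := ShortComplex.mk (ModuleCat.ofHom ι) (ModuleCat.ofHom J.mkQ)
    (ModuleCat.hom_ext (LinearMap.ext fun φ => (Submodule.Quotient.mk_eq_zero _).mpr (hιJ φ)))
  have hS : S.ShortExact :=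
    { exact := (ShortComplex.moduleCat_exact_iff_ker_sub_range _).2 fun a ha => by
        have ha' : a ∈ J := (Submodule.Quotient.mk_eq_zero _).mp ha
        refine ⟨LinearMap.codRestrict (1 : Submodule O K) (a • (Subalgebra.toSubmodule M).subtype) (fun y => ?_), ?_⟩
        · show a • (y : K) ∈ (1 : Submodule O K)
          rw [Algebra.smul_def]
          exact Submodule.mem_div_iff_forall_mul_mem.mp ha' _ y.2
        · refine IsFractionRing.injective O K ((hι _).trans ?_)
          show a • (1 : K) = algebraMap O K a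
          rw [Algebra.smul_def, mul_one]
      mono_f := (ModuleCat.mono_iff_injective _).2 hιinj
      epi_g := (ModuleCat.epi_iff_surjective _).2 J.mkQ_surjective }
  have e2 := Groth.Agent.H15.CanDual.ExtShift.one₂ hS (ModuleCat.of O (↥M →ₗ[O] ↥(1 : Submodule O K)))
    (subsingleton_ext_of_iso e.symm.toModuleIso 1 (ext_omega_subsingleton hdim hfin hω _ 1 le_rfl))
  have hbot : (Groth.Agent.H15.CanDual.ExtShift.postHom S (ModuleCat.of O (↥M →ₗ[O] ↥(1 : Submodule O K)))).range = ⊥ := by
    rw [AddSubgroup.eq_bot_iff_forall]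
    rintro _ ⟨ψ, rfl⟩
    refine ModuleCat.hom_ext (LinearMap.ext fun φ => (Submodule.Quotient.mk_eq_zero _).mpr ?_)
    obtain ⟨m, hm⟩ := (ev_bijective hdim hfin hω ↥M).2 (e.toLinearMap ∘ₗ ψ.hom)
    show algebraMap O K (ψ.hom φ) ∈ (1 : Submodule O K) / Subalgebra.toSubmodule M
    have h3 : algebraMap O K (ψ.hom φ) = (m : K) * ((φ 1 : ↥(1 : Submodule O K)) : K) := by
      rw [← hmul, ← he]
      exact congrArg Subtype.val (LinearMap.congr_fun hm φ).symm
    refine Submodule.mem_div_iff_forall_mul_mem.mpr fun y hy => ?_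
    rw [h3, show (m : K) * ((φ 1 : ↥(1 : Submodule O K)) : K) * y = ((m * ⟨y, hy⟩ : ↥M) : K) * ((φ 1 : ↥(1 : Submodule O K)) : K) by
      rw [Subalgebra.coe_mul]; ring, ← hmul]
    exact (φ _).2
  let Ψ : ↥((1 : Submodule O K) / Subalgebra.toSubmodule M) →ₗ[O] (↥M →ₗ[O] ↥(1 : Submodule O K)) :=
    { toFun := fun v => LinearMap.codRestrict (1 : Submodule O K) (LinearMap.mulLeft O (v : K) ∘ₗ (Subalgebra.toSubmodule M).subtype)
        (fun y => Submodule.mem_div_iff_forall_mul_mem.mp v.2 _ y.2)
      map_add' := fun v w => LinearMap.ext fun y => Subtype.ext (add_mul (v : K) (w : K) (y : K))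
      map_smul' := fun c v => LinearMap.ext fun y => Subtype.ext (smul_mul_assoc c (v : K) (y : K)) }
  have hΨ : Function.Bijective Ψ := by
    refine ⟨fun v w h => Subtype.ext ?_, fun φ => ?_⟩
    · have := congrArg Subtype.val (LinearMap.congr_fun h (1 : ↥M))
      exact (mul_one (v : K)).symm.trans (this.trans (mul_one (w : K)))
    · refine ⟨⟨(φ 1 : ↥(1 : Submodule O K)), ?_⟩, LinearMap.ext fun y => Subtype.ext ?_⟩
      · refine Submodule.mem_div_iff_forall_mul_mem.mpr fun y hy => ?_
        rw [mul_comm, ← hmul φ ⟨y, hy⟩]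
        exact (φ _).2
      · show ((φ 1 : ↥(1 : Submodule O K)) : K) * (y : K) = _
        rw [hmul φ y, mul_comm]
  exact ⟨e1.trans (e2.symm.trans (((QuotientAddGroup.quotientAddEquivOfEq hbot).trans QuotientAddGroup.quotientBot).trans
    (ModuleCat.homAddEquiv.trans (LinearEquiv.congrLeft (O ⧸ J) O (LinearEquiv.ofBijective Ψ hΨ).symm).toAddEquiv)))⟩

end Groth.Agent.S15040
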