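import Groth.Statements.S15045
import Groth.Agent.Lib.QuietLib.Lift
import Groth.Agent.Lib.QuietLib.RelFrob
import Groth.Agent.Lib.QuietLib.Syn
import Mathlib.AlgebraicGeometry.Morphisms.ClosedImmersion
import Mathlib.RingTheory.Etale.Locus
import Mathlib.RingTheory.Unramified.LocalStructure

set_option autoImplicit false
open CategoryTheory AlgebraicGeometry
universe u
open Quiet

namespace Groth.Agent.S15045

/-- Let `T` be a scheme of prime characteristic `p`, `i : U ⟶ T` a closed immersion which is surjective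
on points, and `f' : U' ⟶ U` quasi-etale (locally on `U'` an extraction of `p`-th roots followed by
an etale morphism). Then every point of `U'` has an open neighbourhood `V` which is the base change
along `i` of a quasi-etale `T`-scheme: there are a quasi-etale `q : T' ⟶ T` and `j : V ⟶ T'` making
`V`, with `j` and `V ⟶ U' ⟶ U`, the fibre product of `q` and `i`. (The published statement asks `U ⟶
T` to be a closed nil-immersion, a term it does not define; this row takes any closed immersion that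
is surjective on points, which is all the printed argument uses.) -/
theorem result (p : ℕ) [Fact p.Prime] {T U U' : Scheme.{u}}
    [FrobSch.IsCharP T p] (i : U ⟶ T) [IsClosedImmersion i] [Surjective i] (f' : U' ⟶ U)
    (hf' : Quiet.IsQuiet p f') (u : U') :
    ∃ (V : U'.Opens) (T' : Scheme.{u}) (q : T' ⟶ T) (j : (V : Scheme.{u}) ⟶ T'),
      u ∈ V ∧ Quiet.IsQuiet p q ∧ IsPullback j (V.ι ≫ f') q i := by
  obtain ⟨V, U₁, r, e, hu, hr, he, hre⟩ := hf' u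
  haveI := he
  obtain ⟨z, hz⟩ : ∃ z : U₁, z = r ⟨u, hu⟩ := ⟨_, rfl⟩
  obtain ⟨Ur, hzUr, hgood⟩ := (Groth.Agent.Lib.QuietLib.Pth.isPthRoot_iff p r).mp hr z
  obtain ⟨T₀, hT₀, hzT, -⟩ := exists_isAffineOpen_mem_and_subset (x := i (e z)) (U := ⊤) trivial
  have hU₀ : IsAffineOpen (i ⁻¹ᵁ T₀) := hT₀.preimage i
  obtain ⟨W, hW, hzW, hWle⟩ := exists_isAffineOpen_mem_and_subset (x := z) (U := Ur ⊓ e ⁻¹ᵁ (i ⁻¹ᵁ T₀)) ⟨hzUr, hzT⟩
  have hWe : W ≤ e ⁻¹ᵁ (i ⁻¹ᵁ T₀) := fun w hw => (hWle hw).2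
  letI aW : Algebra Γ(U, i ⁻¹ᵁ T₀) Γ(U₁, W) := (e.appLE _ W hWe).hom.toAlgebra
  haveI : Algebra.Etale Γ(U, i ⁻¹ᵁ T₀) Γ(U₁, W) := HasRingHomProperty.appLE @Etale e he ⟨_, hU₀⟩ ⟨W, hW⟩ hWe
  obtain ⟨g, hg, hstd⟩ := Algebra.IsEtaleAt.exists_isStandardEtale (R := Γ(U, i ⁻¹ᵁ T₀)) (hW.primeIdealOf ⟨_, hzW⟩).asIdeal
  have hW' : IsAffineOpen (U₁.basicOpen g) := hW.basicOpen g
  have hzW' : z ∈ U₁.basicOpen g := by
    have h : hW.fromSpec (hW.primeIdealOf ⟨z, hzW⟩) ∈ U₁.basicOpen g :=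
      (Set.ext_iff.mp (congrArg SetLike.coe (hW.fromSpec_preimage_basicOpen g)) _).mpr hg
    rw [hW.fromSpec_primeIdealOf] at h
    exact h
  have hW'e : U₁.basicOpen g ≤ e ⁻¹ᵁ (i ⁻¹ᵁ T₀) := (U₁.basicOpen_le g).trans hWe
  letI aB : Algebra Γ(U, i ⁻¹ᵁ T₀) Γ(U₁, U₁.basicOpen g) := (e.appLE _ _ hW'e).hom.toAlgebra
  haveI : IsScalarTower Γ(U, i ⁻¹ᵁ T₀) Γ(U₁, W) Γ(U₁, U₁.basicOpen g) := IsScalarTower.of_algebraMap_eq fun x => by
    show (e.appLE _ _ hW'e).hom x = (U₁.presheaf.map (homOfLE (U₁.basicOpen_le g)).op).hom ((e.appLE _ W hWe).hom x)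
    rw [← RingHom.comp_apply, ← CommRingCat.hom_comp, Scheme.Hom.appLE_map]
  haveI := hW.isLocalization_basicOpen g
  haveI hB : Algebra.IsStandardEtale Γ(U, i ⁻¹ᵁ T₀) Γ(U₁, U₁.basicOpen g) :=
    Algebra.IsStandardEtale.of_equiv
      ((IsLocalization.algEquiv (Submonoid.powers g) (Localization.Away g) Γ(U₁, U₁.basicOpen g)).restrictScalars _)
  letI aA : Algebra Γ(T, T₀) Γ(U, i ⁻¹ᵁ T₀) := (i.app T₀).hom.toAlgebra
  have hsA : Function.Surjective (algebraMap Γ(T, T₀) Γ(U, i ⁻¹ᵁ T₀)) := i.app_surjective T₀ hT₀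
  obtain ⟨A', _, _, hA', ⟨e₁⟩⟩ := Groth.Agent.Lib.QuietLib.Lift.exists_lift_standardEtale hsA Γ(U₁, U₁.basicOpen g)
  obtain ⟨-, hrW, hT'⟩ := Groth.Agent.Lib.QuietLib.Pth.good_mono p hgood hW'
    (fun w hw => (hWle (U₁.basicOpen_le g hw)).1)
  obtain ⟨n, hn⟩ := (Groth.Agent.Lib.QuietLib.Pth.towerHom_restrict p r (U₁.basicOpen g)).mp hT'
  letI aC : Algebra Γ(U₁, U₁.basicOpen g) Γ((V : Scheme.{u}), r ⁻¹ᵁ U₁.basicOpen g) := (r.app _).hom.toAlgebra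
  letI aA'B : Algebra A' Γ(U₁, U₁.basicOpen g) := (Groth.Agent.Lib.QuietLib.Lift.rightMap e₁).toAlgebra
  obtain ⟨C, _, _, hC, ⟨e₂⟩⟩ := Groth.Agent.Lib.QuietLib.Lift.exists_lift_tower n
    (Groth.Agent.Lib.QuietLib.Lift.rightMap_surjective hsA e₁ : Function.Surjective (algebraMap A' Γ(U₁, U₁.basicOpen g)))
    _ hn
  let m₂ : C →+* Γ((V : Scheme.{u}), r ⁻¹ᵁ U₁.basicOpen g) :=
    @Groth.Agent.Lib.QuietLib.Lift.rightMap _ _ _ _ _ _ _ _ _ _ aC e₂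
  have P1 := (isPullback_SpecMap_of_isPushout _ _ _ _ (Groth.Agent.Lib.QuietLib.Lift.isPushout_of_tensor e₁)).flip
  have P2 := (isPullback_SpecMap_of_isPushout _ _ _ _ (Groth.Agent.Lib.QuietLib.Lift.isPushout_of_tensor e₂)).flip
  have P0 : IsPullback (Spec.map (i.app T₀)) hU₀.fromSpec hT₀.fromSpec i := by
    refine IsOpenImmersion.isPullback _ _ _ _ ?_ ?_
    · rw [Scheme.Hom.app_eq_appLE]
      exact (IsAffineOpen.SpecMap_appLE_fromSpec i hT₀ hU₀ le_rfl).symm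
    · rw [IsAffineOpen.opensRange_fromSpec, IsAffineOpen.opensRange_fromSpec]
  have P := (P2.paste_vert P1).paste_vert P0
  let V₂ : U'.Opens := V.ι ''ᵁ (r ⁻¹ᵁ U₁.basicOpen g)
  let θ := (V.ι.isoImage (r ⁻¹ᵁ U₁.basicOpen g)).symm ≪≫ hrW.isoSpec
  let q := (Spec.map (CommRingCat.ofHom (algebraMap A' C)) ≫ Spec.map (CommRingCat.ofHom (algebraMap Γ(T, T₀) A'))) ≫ hT₀.fromSpec
  refine ⟨V₂, Spec (CommRingCat.of C), q, θ.hom ≫ Spec.map (CommRingCat.ofHom m₂), ⟨⟨u, hu⟩, show r ⟨u, hu⟩ ∈ U₁.basicOpen g from hz ▸ hzW', rfl⟩, ?_, ?_⟩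
  · haveI : IsIso (⊤ : (Spec (CommRingCat.of C)).Opens).ι := inferInstanceAs (IsIso (Spec (CommRingCat.of C)).topIso.hom)
    haveI : Etale (Spec.map (CommRingCat.ofHom (algebraMap Γ(T, T₀) A'))) :=
      HasRingHomProperty.Spec_iff.mpr (RingHom.etale_algebraMap.mpr hA')
    haveI : FrobSch.IsCharP (Spec (CommRingCat.of A')) p :=
      FrobSch.IsCharP.of_hom (Spec.map (CommRingCat.ofHom (algebraMap Γ(T, T₀) A')) ≫ hT₀.fromSpec) p
    exact fun y => ⟨⊤, _, (⊤ : (Spec (CommRingCat.of C)).Opens).ι ≫ Spec.map (CommRingCat.ofHom (algebraMap A' C)),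
      Spec.map (CommRingCat.ofHom (algebraMap Γ(T, T₀) A')) ≫ hT₀.fromSpec, trivial,
      Groth.Agent.Lib.QuietLib.Pth.isPthRoot_comp p
        (Groth.Agent.Lib.QuietLib.RelFrob.isPthRoot_SpecMap p _
          ((Groth.Agent.Lib.QuietLib.Pth.towerHom_algebraMap p).mpr ⟨n, hC⟩))
        (Groth.Agent.Lib.QuietLib.Pth.isPthRoot_of_isIso p _), inferInstance, by simp [q]⟩
  · refine P.of_iso θ.symm (Iso.refl _) (Iso.refl _) (Iso.refl _) (by simp only [m₂, Iso.symm_hom, Iso.refl_hom, Category.comp_id, Iso.inv_hom_id_assoc]; rfl) ?_ (by simp [q]) (by simp)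
    simp only [Iso.symm_hom, Iso.refl_hom, Category.comp_id]
    rw [Iso.eq_inv_comp]
    show θ.hom ≫ (Spec.map (r.app (U₁.basicOpen g)) ≫ Spec.map (e.appLE _ _ hW'e)) ≫ hU₀.fromSpec = V₂.ι ≫ f'
    rw [Category.assoc, IsAffineOpen.SpecMap_appLE_fromSpec e hU₀ hW' hW'e, Scheme.Hom.app_eq_appLE,
      IsAffineOpen.SpecMap_appLE_fromSpec_assoc r hW' hrW le_rfl]
    simp only [θ, Iso.trans_hom, Iso.symm_hom, Category.assoc]
    rw [IsAffineOpen.isoSpec_hom_fromSpec_assoc, hre]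
    exact Scheme.Hom.isoImage_inv_ι_assoc _ _ _

end Groth.Agent.S15045
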