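import Groth.Statements.S15046
import Groth.Agent.Lib.QuietLib.RelFrob
import Groth.Agent.Lib.QuietLib.Syn
import Groth.Agent.Lib.Synt92.MorCrit
import Groth.Agent.Lib.Perfection.Basic
import Mathlib.RingTheory.RingHom.FaithfullyFlat
import Mathlib.RingTheory.RingHom.Smooth

set_option autoImplicit false
open CategoryTheory AlgebraicGeometry
universe u
open Quiet

namespace Groth.Agent.S15046

/-- Let `k` be a perfect field of prime characteristic `p` and `A` a smooth `k`-algebra of
characteristic `p`. Then the Frobenius endomorphism `a ↦ a ^ p` of `A` is faithfully flat, and the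
endomorphism of `Spec A` it induces is an extraction of `p`-th roots: every point has an affine open
neighbourhood with affine preimage over which the induced ring map is a tower of finitely many
elementary extractions `B → B[x]/(x^p - b)`. -/
theorem result (p : ℕ) [Fact p.Prime]
    (k : Type u) [Field k] [CharP k p] [PerfectRing k p] (A : Type u) [CommRing A] [Algebra k A]
    [CharP A p] [Algebra.Smooth k A] :
    (frobenius A p).FaithfullyFlat ∧
      Quiet.IsPthRoot p (Spec.map (CommRingCat.ofHom (frobenius A p))) := by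
  let hX : Spec (CommRingCat.of A) ⟶ Spec (CommRingCat.of k) := Spec.map (CommRingCat.ofHom (algebraMap k A))
  haveI : Smooth hX := HasRingHomProperty.Spec_iff.mpr (RingHom.smooth_algebraMap.mpr inferInstance)
  haveI : IsIso (FrobSch.frob (Spec (CommRingCat.of k)) p) := Groth.Agent.Lib.Perfection.Basic.isPerfect_Spec p k
  have hA : (p : A) = 0 := CharP.cast_eq_zero A p
  have hfr : Spec.map (CommRingCat.ofHom (frobenius A p)) = FrobSch.frob (Spec (CommRingCat.of A)) p := by
    rw [Groth.Agent.Lib.QuietLib.RelFrob.frob_Spec p (CommRingCat.of A) hA]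
    rfl
  have hroot : Quiet.IsPthRoot p (Spec.map (CommRingCat.ofHom (frobenius A p))) := by
    rw [hfr, ← FrobSch.relFrob_fst hX p]
    exact Groth.Agent.Lib.QuietLib.Pth.isPthRoot_comp p (Groth.Agent.Lib.QuietLib.Pth.isPthRoot_of_isIso p _)
      (Groth.Agent.Lib.QuietLib.RelFrob.isPthRoot_relFrob p hX)
  haveI : IsIso (⊤ : (Spec (CommRingCat.of A)).Opens).ι := inferInstanceAs (IsIso (Spec (CommRingCat.of A)).topIso.hom)
  have hflat : Flat (Spec.map (CommRingCat.ofHom (frobenius A p))) :=
    Groth.Agent.Lib.Synt92.MorCrit.flat_of_isSyntomicMor _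
      (Groth.Agent.Lib.QuietLib.Syn.isSyntomicMor_of_isQuiet (p := p) _ fun y =>
        ⟨⊤, _, (⊤ : Scheme.Opens _).ι ≫ Spec.map (CommRingCat.ofHom (frobenius A p)), 𝟙 _, trivial,
          Groth.Agent.Lib.QuietLib.Pth.isPthRoot_comp p hroot
            (Groth.Agent.Lib.QuietLib.Pth.isPthRoot_of_isIso p _), inferInstance, Category.comp_id _⟩)
  refine ⟨RingHom.FaithfullyFlat.iff_flat_and_comap_surjective.mpr ⟨HasRingHomProperty.Spec_iff.mp hflat, fun q => ⟨q, ?_⟩⟩, hroot⟩
  refine PrimeSpectrum.ext (Ideal.ext fun a => ?_)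
  show a ^ p ∈ q.asIdeal ↔ a ∈ q.asIdeal
  exact ⟨fun h => q.isPrime.mem_of_pow_mem p h, fun h => q.asIdeal.pow_mem_of_mem h p (Fact.out : p.Prime).pos⟩

end Groth.Agent.S15046
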