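import Groth.Statements.S15047
import Groth.Agent.S1156
import Mathlib.RingTheory.Flat.FaithfullyFlat.Algebra

set_option autoImplicit false
set_option backward.isDefEq.respectTransparency false
set_option backward.isDefEq.respectTransparency.types false
universe u
open TensorProduct
open Desc

namespace Groth.Agent.S15047

/-- Let A → A' be a faithfully flat homomorphism of commutative rings and M, N any A-modules. An
A'-linear map f : A' ⊗_A M → A' ⊗_A N whose two base changes to A' ⊗_A A' (along a ↦ a ⊗ 1 and a ↦ 1
⊗ a) coincide is the base change of a unique A-linear map h : M → N. Since (A' ⊗_A A') ⊗_A M is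
generated over A' ⊗_A A' by the elements 1 ⊗ m, the agreement of the two base changes is stated on
these generators: for every m, the two images of f (1 ⊗ m) in (A' ⊗_A A') ⊗_A N agree. Equivalently,
the sequence Hom_A(M, N) → Hom_{A'}(A' ⊗ M, A' ⊗ N) ⇉ Hom_{A' ⊗ A'}(A' ⊗ A' ⊗ M, A' ⊗ A' ⊗ N) is an
equalizer diagram. -/
theorem result (A A' : Type u) [CommRing A] [CommRing A'] [Algebra A A']
    [Module.FaithfullyFlat A A'] (M N : Type u) [AddCommGroup M] [Module A M] [AddCommGroup N] [Module A N]
    (f : A' ⊗[A] M →ₗ[A'] A' ⊗[A] N)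
    (hf : ∀ m : M,
      LinearMap.rTensor N (Algebra.TensorProduct.includeLeft : A' →ₐ[A] A' ⊗[A] A').toLinearMap (f (1 ⊗ₜ[A] m)) =
        LinearMap.rTensor N (Algebra.TensorProduct.includeRight : A' →ₐ[A] A' ⊗[A] A').toLinearMap (f (1 ⊗ₜ[A] m))) :
    ∃! h : M →ₗ[A] N, h.baseChange A' = f := by
  have inj : Function.Injective (TensorProduct.mk A A' N 1) :=
    Module.FaithfullyFlat.tensorProduct_mk_injective N
  have hex : ∀ m : M, f (1 ⊗ₜ[A] m) ∈ LinearMap.range (TensorProduct.mk A A' N 1) := by
    intro m
    refine Groth.Agent.S1156.result A A' N _ ?_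
    have key := congrArg (TensorProduct.assoc A A' A' N) (hf m)
    have e1 : ∀ z : A' ⊗[A] N, TensorProduct.assoc A A' A' N (LinearMap.rTensor N
        (Algebra.TensorProduct.includeLeft : A' →ₐ[A] A' ⊗[A] A').toLinearMap z) =
        LinearMap.lTensor A' (TensorProduct.mk A A' N 1) z := by
      intro z
      induction z using TensorProduct.induction_on with
      | zero => simp
      | tmul a n => simp
      | add _ _ h1 h2 => simp only [map_add, h1, h2]
    have e2 : ∀ z : A' ⊗[A] N, TensorProduct.assoc A A' A' N (LinearMap.rTensor N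
        (Algebra.TensorProduct.includeRight : A' →ₐ[A] A' ⊗[A] A').toLinearMap z) =
        TensorProduct.mk A A' (A' ⊗[A] N) 1 z := by
      intro z
      induction z using TensorProduct.induction_on with
      | zero => simp
      | tmul a n => simp
      | add _ _ h1 h2 => simp only [map_add, h1, h2]
    rw [e1, e2] at key
    exact key.symm
  choose h hh using hex
  let hl : M →ₗ[A] N :=
    { toFun := h
      map_add' := fun x y ↦ inj (by simp only [map_add, hh, tmul_add])
      map_smul' := fun a x ↦ inj (by
        simp only [map_smul, RingHom.id_apply, hh, tmul_smul, LinearMap.map_smul_of_tower]) }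
  refine ⟨hl, ?_, ?_⟩
  · apply TensorProduct.AlgebraTensorModule.ext
    intro a m
    rw [LinearMap.baseChange_tmul]
    have e : (1 : A') ⊗ₜ[A] h m = f (1 ⊗ₜ[A] m) := hh m
    have h1 : a ⊗ₜ[A] m = a • ((1 : A') ⊗ₜ[A] m) := by rw [smul_tmul', smul_eq_mul, mul_one]
    rw [h1, map_smul, ← e, smul_tmul', smul_eq_mul, mul_one]
    rfl
  · intro g hg
    apply LinearMap.ext
    intro m
    apply inj
    show (1 : A') ⊗ₜ[A] g m = TensorProduct.mk A A' N 1 (h m)
    rw [hh m, ← hg, LinearMap.baseChange_tmul]

end Groth.Agent.S15047
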