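import Groth.Statements.S15050
import Groth.Agent.Lib.H84.LT.Statement
import Mathlib

set_option autoImplicit false
universe u
open LubinTate

namespace Groth.Agent.S15050

/-- Let O be a discrete valuation ring with finite residue field of cardinality q, π a uniformizer of O,
and f = πT + T^q ∈ O[[T]]. For every α ∈ O there is a unique power series g = [α] ∈ O[[T]] with zero
constant term and linear coefficient α which commutes with f under substitution, g(f(T)) = f(g(T)).
(The published statement is for the ring of integers of a finite extension of ℚ_p or of 𝔽_q((X));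
completeness is not used and any discrete valuation ring with finite residue field is allowed here.) -/
theorem result (O : Type u) [CommRing O] [IsDomain O] [IsDiscreteValuationRing O]
    [Finite (IsLocalRing.ResidueField O)] (π : O) (hπ : Irreducible π) (f : PowerSeries O)
    (hf : f = π • PowerSeries.X + PowerSeries.X ^ Nat.card (IsLocalRing.ResidueField O)) (α : O) :
    ∃! g : PowerSeries O, g.constantCoeff = 0 ∧ g.coeff 1 = α ∧
      PowerSeries.subst g f = PowerSeries.subst f g := by
  subst hf
  obtain ⟨g, h0, h1, h2⟩ := Groth.Agent.LT84.exists_commutes (σ := Unit) hπ (fun _ => α)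
  refine ⟨g, ⟨h0, h1 (), (Groth.Agent.LT84.commutes_ps h0).1 h2⟩, ?_⟩
  rintro g' ⟨h0', h1', h2'⟩
  exact Groth.Agent.LT84.Commutes.ext Finite.one_lt_card (Groth.Agent.LT84.inj_lt hπ) h0' h0
    (fun i => by rw [h1]; exact h1') ((Groth.Agent.LT84.commutes_ps h0').2 h2') h2

end Groth.Agent.S15050
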