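import Groth.Statements.S15054
import Mathlib

set_option autoImplicit false
universe u
open CategoryTheory CategoryTheory.Limits MonoidalCategory CartesianMonoidalCategory MonObj GrpObj AlgebraicGeometry
open BTGrp

open CategoryTheory AlgebraicGeometry MonoidalCategory CartesianMonoidalCategory MonObj
namespace Groth.Agent.S15054

lemma mono_of_isKernel {S : Scheme.{u}} {N G Q : Over S} [GrpObj Q] {i : N ⟶ G} {q : G ⟶ Q}
    (h : AlgGrp.IsKernel i q) : Mono i :=
  ⟨fun a b e => CategoryTheory.IsPullback.hom_ext h e (toUnit_unique _ _)⟩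

lemma lift_of_isKernel {S : Scheme.{u}} {N G Q : Over S} [GrpObj Q] {i : N ⟶ G} {q : G ⟶ Q}
    (h : AlgGrp.IsKernel i q) {T : Over S} (x : T ⟶ G) (hx : x ≫ q = 1) : ∃ y : T ⟶ N, y ≫ i = x :=
  ⟨CategoryTheory.IsPullback.lift h x (toUnit T) hx, CategoryTheory.IsPullback.lift_fst _ _ _ _⟩

lemma isKernel_mk {S : Scheme.{u}} {N G Q : Over S} [GrpObj Q] (i : N ⟶ G) (q : G ⟶ Q)
    (hw : i ≫ q = 1) (hm : Mono i) (hl : ∀ (T : Over S) (x : T ⟶ G), x ≫ q = 1 → ∃ y : T ⟶ N, y ≫ i = x) :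
    AlgGrp.IsKernel i q := by
  have := hm
  have hs : ∀ s : Limits.PullbackCone q η[Q], ∃ y : s.pt ⟶ N, y ≫ i = s.fst := fun s =>
    hl _ s.fst (by rw [s.condition, toUnit_unique s.snd (toUnit _)]; rfl)
  choose f hf using hs
  exact ⟨⟨hw⟩, ⟨Limits.PullbackCone.IsLimit.mk _ f hf (fun s => toUnit_unique _ _)
    fun s m h1 _ => by rw [← cancel_mono i, h1, hf]⟩⟩

/-- Let ℓ be a prime and G = (G_ν)_ν an ℓ-divisible (Barsotti–Tate) group of height h over a scheme S,
given as the system of its finite locally free layers G_ν of order ℓ^{νh} with inclusions G_ν →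
G_{ν+1} exhibiting G_ν as the ℓ^ν-torsion of G_{ν+1} and projections G_{ν+1} → G_ν (multiplication
by ℓ). Let i_t : G_1 → G_{t+1} denote the iterated inclusions, pinned by i_0 = id and i_{t+1} = i_t
followed by G_{t+1} → G_{t+2}. Then for every t, i_t identifies G_1 with the kernel of
multiplication by ℓ on G_{t+1}: the ℓ-torsion of every layer is the first layer. (The published
statement identifies G_v with the ℓ^v-torsion of G_{v+t} for all v; this row is its case v = 1. The
published base is the spectrum of a Noetherian ring; the argument is formal and any base scheme is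
allowed here.) -/
theorem result {S : Scheme.{u}} (ℓ h : ℕ) [Fact ℓ.Prime] (G : BTGrp.ProBT ℓ S h)
    (i : (t : ℕ) → (G.G 1 ⟶ G.G (t + 1))) (hi0 : i 0 = 𝟙 (G.G 1))
    (hi : ∀ t : ℕ, i (t + 1) = i t ≫ G.incl (t + 1)) (t : ℕ) :
    AlgGrp.IsKernel (i t) ((𝟙 (G.G (t + 1))) ^ ℓ) := by
  have hk : ∀ ν, AlgGrp.IsKernel (G.incl ν) ((𝟙 (G.G (ν + 1))) ^ (ℓ ^ ν)) := G.isKernel
  have hmono : ∀ ν, Mono (G.incl ν) := fun ν => mono_of_isKernel (hk ν)
  induction t with
  | zero =>
    rw [hi0]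
    have h1 : (𝟙 (G.G 1)) ^ ℓ = (1 : G.G 1 ⟶ G.G 1) := by
      have := hmono 1
      rw [← cancel_mono (G.incl 1), MonObj.pow_comp, Category.id_comp, MonObj.one_comp]
      have h2 : G.incl 1 ≫ (𝟙 (G.G (1 + 1))) ^ (ℓ ^ 1) = 1 := (hk 1).w
      rw [MonObj.comp_pow, Category.comp_id, pow_one] at h2
      exact h2
    refine isKernel_mk _ _ (by rw [Category.id_comp]; exact h1) inferInstance fun T x _ => ⟨x, Category.comp_id x⟩
  | succ t ih =>
    have hmi : Mono (i t) := mono_of_isKernel ih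
    have := hmono (t + 1)
    have hwi : i t ≫ (𝟙 (G.G (t + 1))) ^ ℓ = 1 := ih.w
    rw [hi t]
    refine isKernel_mk _ _ ?_ (mono_comp _ _) fun T x hx => ?_
    · rw [Category.assoc, MonObj.comp_pow, Category.comp_id, ← Category.id_comp (G.incl (t + 1)),
        ← MonObj.pow_comp, ← Category.assoc, hwi, MonObj.one_comp]
    · have hxl : x ≫ (𝟙 (G.G (t + 1 + 1))) ^ (ℓ ^ (t + 1)) = 1 := by
        rw [MonObj.comp_pow, Category.comp_id] at hx ⊢
        rw [pow_succ', pow_mul, hx, one_pow]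
      obtain ⟨y, hy⟩ := lift_of_isKernel (hk (t + 1)) x hxl
      have hyl : y ≫ (𝟙 (G.G (t + 1))) ^ ℓ = 1 := by
        rw [← cancel_mono (G.incl (t + 1)), MonObj.comp_pow, Category.comp_id, MonObj.pow_comp, hy, MonObj.one_comp]
        rw [MonObj.comp_pow, Category.comp_id] at hx
        exact hx
      obtain ⟨z, hz⟩ := lift_of_isKernel ih y hyl
      exact ⟨z, by rw [← Category.assoc, hz, hy]⟩

end Groth.Agent.S15054
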