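import Groth.Statements.S15055
import Groth.Agent.S15054
import Groth.Agent.Lib.GrpQ.FfMonoGrp
import Groth.Agent.Lib.GrpQ.Desc
import Groth.Agent.Lib.Flat55.FlatDescend
import Groth.Agent.Lib.FinLocFreeRank.Basic
import Mathlib.AlgebraicGeometry.ZariskisMainTheorem
-- import your own Groth.Agent.* helpers here

set_option autoImplicit false
universe u
open CategoryTheory CategoryTheory.Limits MonoidalCategory CartesianMonoidalCategory MonObj GrpObj AlgebraicGeometry
open BTGrp

namespace Groth.Agent.S15055

open Groth.Agent.Lib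

/-- Let R be a Noetherian ring, ℓ a prime and G = (G_ν)_ν an ℓ-divisible (Barsotti–Tate) group of height
h over Spec R, given as the system of its finite locally free layers G_ν of order ℓ^{νh} with
inclusions exhibiting G_ν as the ℓ^ν-torsion of G_{ν+1} and projections j_t : G_{t+1} → G_t through
which multiplication by ℓ on G_{t+1} factors. Let i_t : G_1 → G_{t+1} be the iterated inclusions
(i_0 = id, i_{t+1} = i_t followed by G_{t+1} → G_{t+2}). Then for every t the sequence 1 → G_1 →
G_{t+1} → G_t → 1 is exact: i_t is the kernel of j_t, and j_t is finite locally free of degree ℓ^h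
and surjective; in particular multiplication by ℓ is an epimorphism of fppf sheaves on the
ℓ-divisible group, with kernel of order ℓ^h. (The published statement treats the sequence 0 → G_v →
G_{v+t} → G_t → 0 for every v; this row is its case v = 1, combined with the consequence, stated
separately in the text, that multiplication by ℓ on the ℓ-divisible group is finite locally free of
degree ℓ^h and surjective.) -/
theorem result (R : Type u) [CommRing R] [IsNoetherianRing R] (ℓ h : ℕ)
    [Fact ℓ.Prime] (G : BTGrp.ProBT ℓ (Spec (CommRingCat.of R)) h)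
    (i : (t : ℕ) → (G.G 1 ⟶ G.G (t + 1))) (hi0 : i 0 = 𝟙 (G.G 1))
    (hi : ∀ t : ℕ, i (t + 1) = i t ≫ G.incl (t + 1)) (t : ℕ) :
    AlgGrp.IsKernel (i t) (G.proj t) ∧ Mor2.IsFinLocFreeOfDeg (ℓ ^ h) (G.proj t).left ∧
      Surjective (G.proj t).left := by
  have hf : ∀ ν, IsFinite (G.G ν).hom ∧ Flat (G.G ν).hom ∧ LocallyOfFinitePresentation (G.G ν).hom := fun ν =>
    (G.finLocFree ν).1
  have hℓ : AlgGrp.IsKernel (i t) ((𝟙 (G.G (t + 1))) ^ ℓ) := S15054.result ℓ h G i hi0 hi t
  have : Mono (i t) := S15054.mono_of_isKernel hℓ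
  have hincl : Mono (G.incl t) := S15054.mono_of_isKernel (G.isKernel t)
  have hker : AlgGrp.IsKernel (i t) (G.proj t) := by
    refine S15054.isKernel_mk _ _ ?_ inferInstance fun T x hx => S15054.lift_of_isKernel hℓ x ?_
    · rw [← cancel_mono (G.incl t), Category.assoc, G.proj_incl, MonObj.one_comp]
      exact hℓ.w
    · rw [← G.proj_incl, ← Category.assoc, hx, MonObj.one_comp]
  refine ⟨hker, ?_⟩
  have : IsFinite (G.G (t + 1)).hom := (hf _).1
  have : Flat (G.G (t + 1)).hom := (hf _).2.1
  have : LocallyOfFinitePresentation (G.G (t + 1)).hom := (hf _).2.2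
  have : IsFinite (G.G t).hom := (hf _).1
  have : Flat (G.G t).hom := (hf _).2.1
  have : IsFinite (G.G 1).hom := (hf _).1
  have : Flat (G.G 1).hom := (hf _).2.1
  obtain ⟨Q, _, p, m, _, _, hpm, hps, hpf, hpl, hm, hQl, hpb, -⟩ :=
    Groth.Agent.Lib.GrpQ.FfMono.exists_quot_kernel (G.proj t) (i t) hker (hf 1).2.1 (Or.inl inferInstance)
  have : Mono m.left := inferInstanceAs (Mono ((Over.forget _).map m))
  have hQsep : IsSeparated Q.hom := by
    rw [← Over.w m]; infer_instance
  have hpfin : IsFinite p.left := by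
    have : IsFinite (p.left ≫ Q.hom) := by rw [Over.w]; infer_instance
    exact IsFinite.of_comp p.left Q.hom
  have huc : UniversallyClosed Q.hom := by
    have : UniversallyClosed (p.left ≫ Q.hom) := by rw [Over.w]; infer_instance
    exact UniversallyClosed.of_comp_surjective p.left Q.hom
  have hmc : IsClosedImmersion m.left := by
    have : IsProper Q.hom := { }
    have : IsProper (m.left ≫ (G.G t).hom) := by rw [Over.w]; infer_instance
    exact (IsClosedImmersion.iff_isProper_and_mono m.left).2 ⟨IsProper.of_comp m.left (G.G t).hom, inferInstance⟩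
  have hQfin : IsFinite Q.hom := by rw [← Over.w m]; infer_instance
  have hQflat : Flat Q.hom := by
    have : Flat (p.left ≫ Q.hom) := by rw [Over.w]; infer_instance
    exact Groth.Agent.Lib.Flat55.FlatDescend.flat_of_comp p.left Q.hom
  have hdeg : ∀ y, p.left.finrank y = ℓ ^ h := fun y => by
    obtain ⟨x, rfl⟩ := p.left.surjective y
    obtain ⟨z, hz⟩ : ∃ z, (fst (G.G (t + 1)) (G.G 1)).left z = x := by
      refine ⟨(lift (𝟙 (G.G (t + 1))) (toUnit _ ≫ η[G.G 1])).left x, ?_⟩
      rw [← Scheme.Hom.comp_apply, ← Over.comp_left, lift_fst]; rfl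
    have hsq : IsPullback ((G.G (t + 1) ◁ i t) ≫ μ[G.G (t + 1)]).left (fst (G.G (t + 1)) (G.G 1)).left p.left p.left :=
      (hpb.map (Over.forget _)).flip
    rw [← Scheme.Hom.finrank_of_isPullback _ _ _ _ hsq x]
    have h2 := Scheme.Hom.finrank_pullback_fst (G.G 1).hom (G.G (t + 1)).hom x
    rw [(G.finLocFree 1).2, _root_.one_mul] at h2
    exact h2
  have hd : ∀ z, (G.G (t + 1)).hom.finrank z = ℓ ^ h * Q.hom.finrank z := fun z => by
    rw [← FinLocFreeRank.finrank_comp p.left Q.hom _ hdeg z]
    simp only [Over.w]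
  have hrank : ∀ z, (m.left ≫ (G.G t).hom).finrank z = (G.G t).hom.finrank z := fun z => by
    simp only [Over.w]
    have h3 := hd z
    rw [(G.finLocFree (t + 1)).2, add_mul, _root_.one_mul, pow_add, _root_.mul_comm] at h3
    rw [(G.finLocFree t).2]
    exact (Nat.eq_of_mul_eq_mul_left (pow_pos (Fact.out : ℓ.Prime).pos _) h3).symm
  have : IsIso m.left := by
    have : Flat (m.left ≫ (G.G t).hom) := by rw [Over.w]; infer_instance
    exact FinLocFreeRank.isIso_of_isClosedImmersion m.left (G.G t).hom hrank
  have hu : (G.proj t).left = p.left ≫ m.left := by rw [← hpm, Over.comp_left]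
  rw [hu]
  refine ⟨⟨⟨inferInstance, inferInstance, inferInstance⟩, fun y => ?_⟩, inferInstance⟩
  obtain ⟨y', rfl⟩ := m.left.surjective y
  have hsq : IsPullback (𝟙 _) p.left (p.left ≫ m.left) m.left := IsPullback.of_horiz_isIso ⟨by simp⟩
  rw [← Scheme.Hom.finrank_of_isPullback _ _ _ _ hsq y', hdeg]

end Groth.Agent.S15055
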