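import Groth.Statements.S15056
import Mathlib
-- import your own Groth.Agent.* helpers here

set_option autoImplicit false
universe u
open scoped TensorProduct
open FrobAlg

namespace Groth.Agent.S15056

/-- Let p be a prime number, R a Noetherian ring of characteristic p and A a finitely generated
commutative Hopf algebra over R (an affine algebraic R-group G = Spec A). The n-fold relative
Frobenius of G is the trivial homomorphism exactly when a^(p^n) = 0 for every a in the augmentation
ideal; G has finite Frobenius height when this holds for some n. Then G has finite Frobenius height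
if and only if A is a finite R-module and, for every algebraically closed field K and every ring
homomorphism R → K, the base change K ⊗_R A is a local ring (G is finite over R with connected
geometric fibres). -/
theorem result (p : ℕ) [Fact p.Prime] (R : Type u) [CommRing R] [CharP R p]
    [IsNoetherianRing R] (A : Type u) [CommRing A] [HopfAlgebra R A] [Algebra.FiniteType R A] :
    (∃ n : ℕ, ∀ a : A, Bialgebra.counitAlgHom R A a = 0 → a ^ p ^ n = 0) ↔
      (Module.Finite R A ∧ ∀ (K : Type u) [Field K] [IsAlgClosed K] [Algebra R K], IsLocalRing (K ⊗[R] A)) := by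
  classical
  set ε := Bialgebra.counitAlgHom R A with hε
  have key : ∀ (a : A), ε (a - algebraMap R A (ε a)) = 0 := fun a => by
    rw [map_sub, AlgHom.commutes, Algebra.algebraMap_self, RingHom.id_apply, sub_self]
  constructor
  · rintro ⟨n, hn⟩
    have hnil : ∀ a : A, IsNilpotent (a - algebraMap R A (ε a)) := fun a => ⟨p ^ n, hn _ (key a)⟩
    have hint : Algebra.IsIntegral R A := ⟨fun a => by
      rw [← sub_add_cancel a (algebraMap R A (ε a))]
      obtain ⟨j, hj⟩ := hnil a
      exact IsIntegral.add ⟨Polynomial.X ^ j, Polynomial.monic_X_pow j, by simp [hj]⟩ isIntegral_algebraMap⟩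
    refine ⟨Algebra.IsIntegral.finite, fun K _ _ _ => ?_⟩
    let εK : K ⊗[R] A →ₐ[K] K :=
      Algebra.TensorProduct.lift (Algebra.ofId K K) ((Algebra.ofId R K).comp ε) fun _ _ => Commute.all _ _
    have hnilK : ∀ z : K ⊗[R] A, IsNilpotent (z - algebraMap K (K ⊗[R] A) (εK z)) := by
      intro z
      induction z using TensorProduct.induction_on with
      | zero => rw [map_zero, map_zero, sub_zero]; exact IsNilpotent.zero
      | tmul x a =>
        have e : x ⊗ₜ[R] a - algebraMap K (K ⊗[R] A) (εK (x ⊗ₜ[R] a)) =
            algebraMap K (K ⊗[R] A) x * Algebra.TensorProduct.includeRight (a - algebraMap R A (ε a)) := by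
          rw [map_sub, mul_sub, AlgHom.commutes, IsScalarTower.algebraMap_apply R K (K ⊗[R] A), ← map_mul]
          congr 1
          simp [Algebra.TensorProduct.algebraMap_apply]
        rw [e]
        exact (Commute.all _ _).isNilpotent_mul_left ((hnil a).map _)
      | add x y hx hy =>
        rw [map_add, map_add, add_sub_add_comm]
        exact (Commute.all _ _).isNilpotent_add hx hy
    have : Nontrivial (K ⊗[R] A) := εK.toRingHom.domain_nontrivial
    have hunit : ∀ z, εK z ≠ 0 → IsUnit z := fun z hz => by
      rw [← sub_add_cancel z (algebraMap K (K ⊗[R] A) (εK z))]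
      exact (hnilK z).isUnit_add_right_of_commute ((IsUnit.mk0 _ hz).map (algebraMap K (K ⊗[R] A))) (Commute.all _ _)
    exact IsLocalRing.of_isUnit_or_isUnit_one_sub_self fun z => by
      by_cases hz : εK z = 0
      · exact Or.inr (hunit _ (by simp [hz]))
      · exact Or.inl (hunit _ hz)
  · rintro ⟨_, hloc⟩
    have aux : ∀ (K : Type u) [Field K] [IsAlgClosed K] [Algebra R K] (φ : A →ₐ[R] K) (a : A),
        ε a = 0 → φ a = 0 := by
      intro K _ _ _ φ a ha
      have := hloc K
      let g1 : K ⊗[R] A →ₐ[K] K := Algebra.TensorProduct.lift (Algebra.ofId K K) φ fun _ _ => Commute.all _ _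
      let g2 : K ⊗[R] A →ₐ[K] K :=
        Algebra.TensorProduct.lift (Algebra.ofId K K) ((Algebra.ofId R K).comp ε) fun _ _ => Commute.all _ _
      by_contra hne
      have hu : IsUnit (algebraMap K (K ⊗[R] A) (φ a)) := (IsUnit.mk0 _ hne).map _
      rw [show algebraMap K (K ⊗[R] A) (φ a) =
        (1 : K) ⊗ₜ[R] a + (algebraMap K (K ⊗[R] A) (φ a) - (1 : K) ⊗ₜ[R] a) by ring] at hu
      rcases IsLocalRing.isUnit_or_isUnit_of_isUnit_add hu with h | h
      · exact not_isUnit_zero (M₀ := K) (by simpa [g2, ha] using h.map g2)
      · exact not_isUnit_zero (M₀ := K) (by simpa [g1] using h.map g1)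
    have hrad : ∀ a : A, ε a = 0 → a ∈ nilradical A := by
      intro a ha
      rw [nilradical_eq_sInf, Ideal.mem_sInf]
      intro Q hQ
      have : Q.IsPrime := hQ
      let L := FractionRing (A ⧸ Q)
      let f : A →+* AlgebraicClosure L :=
        (algebraMap L (AlgebraicClosure L)).comp ((algebraMap (A ⧸ Q) L).comp (Ideal.Quotient.mk Q))
      let _ : Algebra R (AlgebraicClosure L) := (f.comp (algebraMap R A)).toAlgebra
      have h := aux (AlgebraicClosure L) ⟨f, fun _ => rfl⟩ a ha
      change f a = 0 at h
      rw [RingHom.comp_apply, map_eq_zero, RingHom.comp_apply] at h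
      exact Ideal.Quotient.eq_zero_iff_mem.1 ((IsFractionRing.to_map_eq_zero_iff (K := L)).1 h)
    have : IsNoetherianRing A := Algebra.FiniteType.isNoetherianRing R A
    obtain ⟨N, hN⟩ := IsNoetherianRing.isNilpotent_nilradical A
    refine ⟨N, fun a ha => ?_⟩
    have h1 : a ^ N ∈ nilradical A ^ N := Ideal.pow_mem_pow (hrad a ha) N
    rw [hN] at h1
    exact pow_eq_zero_of_le (Nat.lt_pow_self (Fact.out : p.Prime).one_lt).le h1

end Groth.Agent.S15056
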