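import Groth.Statements.S15064
import Groth.Agent.Lib.OT67.SimpleGrp
import Groth.Agent.Lib.OT67.Height1
import Groth.Agent.Lib.DualEval
import Groth.Prelude.Def_AlphaP
import Mathlib

set_option autoImplicit false
universe u
open scoped TensorProduct
open Hopf

namespace Groth.Agent.S15064

/-- Let k be a field of characteristic p > 0 and A a finite-dimensional commutative and cocommutative
Hopf algebra over k (a finite commutative k-group G = Spec A) which is bi-infinitesimal — A is a
local ring and so is the dual algebra Hom_k(A, k) with the convolution product (G and its Cartier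
dual are connected) — with dim_k A > 1, and assume G is simple: every Hopf ideal of A is either zero
or the augmentation ideal (G has no closed subgroup schemes other than G and 1). Then G is
isomorphic to α_p: A has a primitive element x (Δ(x) = x ⊗ 1 + 1 ⊗ x) with x^p = 0 whose powers 1,
x, …, x^(p−1) are linearly independent over k, and dim_k A = p (so A = k[x]/(x^p) with x primitive). -/
theorem result (k : Type u) [Field k] (p : ℕ) [Fact p.Prime] [CharP k p]
    (A : Type u) [CommRing A] [HopfAlgebra k A] [Coalgebra.IsCocomm k A] [FiniteDimensional k A] [IsLocalRing A]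
    (hdual : IsLocalRing (WithConv (A →ₗ[k] k))) (hA : 1 < Module.finrank k A)
    (hsimple : ∀ I : Ideal A, I.IsHopfIdeal k → I = ⊥ ∨ I = RingHom.ker (Bialgebra.counitAlgHom k A)) :
    ∃ x : A, Coalgebra.comul x = x ⊗ₜ[k] (1 : A) + (1 : A) ⊗ₜ[k] x ∧ x ^ p = 0 ∧
      LinearIndependent k (fun i : Fin p => x ^ (i : ℕ)) ∧ Module.finrank k A = p := by
  classical
  haveI : IsLocalRing (CartDual.D k A) := hdual
  haveI : IsArtinianRing (CartDual.D k A) := IsArtinianRing.of_finite k _
  haveI : IsArtinianRing A := IsArtinianRing.of_finite k A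
  haveI : Nontrivial A := (Bialgebra.algebraMap_injective (R := k) A).nontrivial
  have hp2 := (Fact.out : p.Prime).two_le
  obtain ⟨xs, ds, S, hgen⟩ := Groth.Agent.Lib.OT67.exists_sys (k := k) (A := CartDual.D k A)
  revert xs ds
  generalize Module.finrank k (Groth.Agent.Lib.OT67.aug k (CartDual.D k A)).Cotangent = r
  intro xs ds S hgen
  set J := Groth.Agent.Lib.OT67.aug k (CartDual.D k A)
  obtain ⟨i₀⟩ : Nonempty (Fin r) := by
    rw [← not_isEmpty_iff]
    intro hr
    have hsq : ∀ a ∈ J, a ∈ J ^ 2 := fun a ha => by simpa using hgen a ha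
    have hpow : ∀ n, J ≤ J ^ (n + 1) := by
      intro n
      induction n with
      | zero => rw [pow_one]
      | succ n ih => calc J ≤ J ^ 2 := hsq
            _ ≤ J ^ (n + 1) * J := by rw [sq]; exact Ideal.mul_mono_left ih
            _ = _ := (pow_succ _ _).symm
    obtain ⟨N, hN⟩ := IsArtinianRing.isNilpotent_nilradical (R := CartDual.D k A)
    have hJ : J ≤ nilradical (CartDual.D k A) := by
      rw [Ring.KrullDimLE.nilradical_eq_maximalIdeal]
      exact IsLocalRing.le_maximalIdeal (RingHom.ker_ne_top _)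
    have hJ0 : J = ⊥ := le_bot_iff.1 <| (hpow N).trans <| (Ideal.pow_right_mono hJ _).trans
      (by rw [pow_succ, hN, zero_mul]; exact le_rfl)
    have hle : Module.finrank k (CartDual.D k A) ≤ 1 := finrank_le_one 1 fun φ => ⟨φ.ofConv 1, by
      have h := Groth.Agent.Lib.OT67.sub_counit_mem (k := k) φ
      rw [show Groth.Agent.Lib.OT67.aug k (CartDual.D k A) = ⊥ from hJ0, Ideal.mem_bot, sub_eq_zero] at h
      exact h.symm⟩
    rw [(CartDual.toDual k A).finrank_eq, Subspace.dual_finrank_eq] at hle
    omega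
  obtain ⟨x₀, ⟨hx₀, hx₀'⟩, -⟩ := Groth.Agent.Lib.DualEval.primitive_eval.1 (ds i₀) fun φ ψ => by
    refine (S.hd i₀ φ ψ).trans ?_
    show φ.ofConv 1 * ds i₀ ψ + ψ.ofConv 1 * ds i₀ φ = _
    ring
  have hx₀ne : x₀ ≠ 0 := fun h => by
    have h1 := S.hdx i₀ i₀
    rw [hx₀', h, map_zero, if_pos rfl] at h1
    exact zero_ne_one h1
  -- a primitive element with vanishing p-th power
  haveI : CharP A p := charP_of_injective_algebraMap (algebraMap k A).injective p
  haveI : Nontrivial (A ⊗[k] A) := (Bialgebra.algebraMap_injective (R := k) (A ⊗[k] A)).nontrivial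
  haveI : CharP (A ⊗[k] A) p := charP_of_injective_algebraMap (algebraMap k (A ⊗[k] A)).injective p
  have hεprim : ∀ x : A, Coalgebra.comul (R := k) x = x ⊗ₜ[k] (1 : A) + (1 : A) ⊗ₜ[k] x →
      Coalgebra.counit (R := k) x = 0 := fun x hx => by
    have h := Coalgebra.rTensor_counit_comul (R := k) x
    rw [hx, map_add, LinearMap.rTensor_tmul, LinearMap.rTensor_tmul, Bialgebra.counit_one] at h
    have h2 := congrArg (fun z => Coalgebra.counit (R := k) (TensorProduct.lid k A z)) h
    simpa using h2
  have hprimpow : ∀ j : ℕ, Coalgebra.comul (R := k) (x₀ ^ (p ^ j)) =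
      (x₀ ^ (p ^ j)) ⊗ₜ[k] (1 : A) + (1 : A) ⊗ₜ[k] (x₀ ^ (p ^ j)) := fun j => by
    rw [Bialgebra.comul_pow, hx₀, add_pow_char_pow, Algebra.TensorProduct.tmul_pow, Algebra.TensorProduct.tmul_pow,
      one_pow]
  have hex : ∃ j : ℕ, x₀ ^ (p ^ j) = 0 := by
    obtain ⟨n, hn⟩ : IsNilpotent x₀ := by
      rw [← mem_nilradical, Ring.KrullDimLE.nilradical_eq_maximalIdeal, IsLocalRing.mem_maximalIdeal, mem_nonunits_iff]
      intro hu
      have h := hu.map (Bialgebra.counitAlgHom k A)
      rw [Bialgebra.counitAlgHom_apply, hεprim _ hx₀, isUnit_zero_iff] at h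
      exact zero_ne_one h
    exact ⟨n, pow_eq_zero_of_le (Nat.lt_pow_self (Fact.out : p.Prime).one_lt).le hn⟩
  obtain ⟨x, hx, hx0, hxp⟩ : ∃ x : A, Coalgebra.comul (R := k) x = x ⊗ₜ[k] (1 : A) + (1 : A) ⊗ₜ[k] x ∧
      x ≠ 0 ∧ x ^ p = 0 := by
    have hpos : Nat.find hex ≠ 0 := fun h0 => hx₀ne (by simpa [h0] using Nat.find_spec hex)
    refine ⟨x₀ ^ (p ^ (Nat.find hex - 1)), hprimpow _, Nat.find_min hex (by omega), ?_⟩
    rw [← pow_mul, ← pow_succ, Nat.sub_add_cancel (by omega)]
    exact Nat.find_spec hex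
  -- the powers below p are non-zero
  have hm : ∀ (a b c : A) (n : ℕ), (a ⊗ₜ[k] b) * (n : A ⊗[k] A) * ((1 : A) ⊗ₜ[k] c) = (n : k) • (a ⊗ₜ[k] (b * c)) := by
    intro a b c n
    rw [← nsmul_eq_mul', smul_mul_assoc, Nat.cast_smul_eq_nsmul k]
    simp
  have hpow : ∀ j : ℕ, 1 ≤ j → j < p → x ^ j ≠ 0 := by
    intro j
    induction j with
    | zero => omega
    | succ j ih =>
      intro _ hjp h0
      rcases Nat.eq_zero_or_pos j with rfl | hj
      · exact hx0 (by simpa using h0)
      have h := congrArg (fun z => Coalgebra.comul (R := k) z * ((1 : A) ⊗ₜ[k] (x ^ (j - 1)))) h0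
      simp only [map_zero, zero_mul, Bialgebra.comul_pow, hx, add_pow, Finset.sum_mul] at h
      rw [Finset.sum_eq_single j] at h
      · rw [Algebra.TensorProduct.tmul_pow, Algebra.TensorProduct.tmul_pow, one_pow, one_pow,
          Algebra.TensorProduct.tmul_mul_tmul, mul_one, one_mul, Nat.add_sub_cancel_left, pow_one] at h
        replace h : (((j + 1).choose j : ℕ) : k) • ((x ^ j) ⊗ₜ[k] (x * x ^ (j - 1))) = 0 := by
          rw [← hm]; exact h
        rw [← pow_succ', Nat.sub_add_cancel hj, smul_eq_zero] at h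
        rcases h with h | h
        · rw [CharP.cast_eq_zero_iff k p, Nat.choose_succ_self_right] at h
          exact absurd (Nat.le_of_dvd (by omega) h) (by omega)
        · obtain ⟨φ, hφ⟩ := Module.Projective.exists_dual_ne_zero k (ih hj (by omega))
          have h1 := congrArg (fun z => LinearMap.mul' k k (TensorProduct.map φ φ z)) h
          simp only [TensorProduct.map_tmul, LinearMap.mul'_apply, map_zero, mul_eq_zero, or_self] at h1
          exact hφ h1
      · intro i hi hij
        have hi' := Finset.mem_range.1 hi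
        rw [Algebra.TensorProduct.tmul_pow, Algebra.TensorProduct.tmul_pow, one_pow, one_pow,
          Algebra.TensorProduct.tmul_mul_tmul, mul_one, one_mul]
        refine Eq.trans (b := (((j + 1).choose i : ℕ) : k) • ((x ^ i) ⊗ₜ[k] (x ^ (j + 1 - i) * x ^ (j - 1)))) ?_ ?_
        · rw [← hm]
        rw [← pow_add]
        rcases Nat.lt_or_gt_of_ne hij with hlt | hgt
        · rw [show x ^ (j + 1 - i + (j - 1)) = 0 from pow_eq_zero_of_le (by omega) h0, TensorProduct.tmul_zero,
            smul_zero]
        · rw [show x ^ i = 0 from pow_eq_zero_of_le (by omega) h0, TensorProduct.zero_tmul, smul_zero]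
      · intro hh; exact absurd (Finset.mem_range.2 (by omega)) hh
  have hli : LinearIndependent k (fun i : Fin p => x ^ (i : ℕ)) := by
    rw [Fintype.linearIndependent_iff]
    intro g hg
    suffices hind : ∀ m, ∀ i : Fin p, (i : ℕ) = m → g i = 0 from fun i => hind _ i rfl
    intro m
    induction m using Nat.strong_induction_on with
    | _ m ih =>
      intro i him
      have h := congrArg (fun z => z * x ^ (p - 1 - m)) hg
      simp only [Finset.sum_mul, zero_mul, smul_mul_assoc, ← pow_add] at h
      rw [Finset.sum_eq_single i] at h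
      · rw [him, Nat.add_sub_cancel' (by omega), smul_eq_zero] at h
        exact h.resolve_right (hpow _ (by omega) (by omega))
      · intro j _ hji
        rcases Nat.lt_or_gt_of_ne (fun e => hji (Fin.ext e) : (j : ℕ) ≠ i) with hlt | hgt
        · rw [ih _ (him ▸ hlt) j rfl, zero_smul]
        · rw [pow_eq_zero_of_le (by omega) hxp, smul_zero]
      · simp
  let f₀ : AlphaP.A p k →ₐ[k] A := AlphaP.lift p k x hxp
  let f : AlphaP.A p k →ₐc[k] A := BialgHom.ofAlgHom f₀
    (AlphaP.algHom_ext (by
      show Coalgebra.counit (R := k) (f₀ (AlphaP.x p k)) = Coalgebra.counit (R := k) (AlphaP.x p k)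
      rw [AlphaP.lift_x, AlphaP.counit_x, hεprim _ hx]))
    (AlphaP.algHom_ext (by
      show Algebra.TensorProduct.map f₀ f₀ (Coalgebra.comul (R := k) (AlphaP.x p k)) =
        Coalgebra.comul (R := k) (f₀ (AlphaP.x p k))
      rw [AlphaP.comul_x, map_add, Algebra.TensorProduct.map_tmul, Algebra.TensorProduct.map_tmul, map_one,
        AlphaP.lift_x, hx]))
  have hinj : Function.Injective f := (injective_iff_map_eq_zero f).2 fun z hz => by
    change f₀ z = 0 at hz
    rw [← (AlphaP.basis p k).sum_repr z] at hz ⊢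
    simp only [map_sum, map_smul, AlphaP.basis_apply, map_pow, f₀, AlphaP.lift_x] at hz
    simp [Fintype.linearIndependent_iff.1 hli _ hz]
  have hbij := Groth.Agent.Lib.OT67.bijective_of_simple hsimple f hinj (b := AlphaP.x p k)
    (fun h => hx0 (by rw [← AlphaP.lift_x (p := p) (R := k) x hxp, h, map_zero]))
    (by rw [Bialgebra.counitAlgHom_apply, AlphaP.counit_x])
  refine ⟨x, hx, hxp, hli, ?_⟩
  rw [← (LinearEquiv.ofBijective (f : AlphaP.A p k →ₗ[k] A) hbij).finrank_eq, AlphaP.finrank_eq]

end Groth.Agent.S15064
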