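import Groth.Statements.S15065
import Groth.Agent.Lib.OT67.Points

set_option autoImplicit false
universe u
open Hopf

namespace Groth.Agent.S15065

/-- Let k be an algebraically closed field and A a finite-dimensional commutative and cocommutative Hopf
algebra over k which is reduced (a finite étale commutative k-group G = Spec A), with dim_k A > 1,
and assume G is simple: every Hopf ideal of A is either zero or the augmentation ideal (no closed
subgroup schemes other than G and 1). Then the order dim_k A is a prime number ℓ, so that G is the
constant group ℤ/ℓℤ. (The published statement lists the simple finite commutative groups over an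
algebraically closed field of characteristic p > 0; the étale case does not use the characteristic
and is stated here for any algebraically closed field.) -/
theorem result (k : Type u) [Field k] [IsAlgClosed k] (A : Type u) [CommRing A] [HopfAlgebra k A]
    [Coalgebra.IsCocomm k A] [FiniteDimensional k A] [IsReduced A] (hA : 1 < Module.finrank k A)
    (hsimple : ∀ I : Ideal A, I.IsHopfIdeal k → I = ⊥ ∨ I = RingHom.ker (Bialgebra.counitAlgHom k A)) :
    (Module.finrank k A).Prime := by
  classical
  open Groth.Agent.Lib.OT67 in
  haveI := finite_points (k := k) (A := A)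
  open Groth.Agent.Lib.OT67 in
  cases nonempty_fintype (WithConv (A →ₐ[k] k))
  rw [← Groth.Agent.Lib.OT67.card_points (k := k) (A := A)]
  letI : CommGroup (WithConv (A →ₐ[k] k)) := inferInstance
  haveI : Nontrivial (WithConv (A →ₐ[k] k)) := by
    rw [← Finite.one_lt_card_iff_nontrivial, Groth.Agent.Lib.OT67.card_points]
    exact hA
  let δ : WithConv (A →ₐ[k] k) → A := fun g => (Groth.Agent.Lib.OT67.gelfand (k := k) (A := A)).symm (Pi.single g 1)
  have hδ : ∀ g g', g'.ofConv (δ g) = (Pi.single g (1 : k) : WithConv (A →ₐ[k] k) → k) g' := fun g g' => by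
    rw [← Groth.Agent.Lib.OT67.gelfand_apply, AlgEquiv.apply_symm_apply]
  have hsum : ∀ a : A, ∑ g, g.ofConv a • δ g = a := fun a => by
    apply (Groth.Agent.Lib.OT67.gelfand (k := k) (A := A)).injective
    funext g'
    rw [map_sum, Finset.sum_apply, Finset.sum_eq_single g']
    · rw [map_smul, Pi.smul_apply, Groth.Agent.Lib.OT67.gelfand_apply, Groth.Agent.Lib.OT67.gelfand_apply, hδ,
        Pi.single_eq_same, smul_eq_mul, mul_one]
    · intro g _ hg
      rw [map_smul, Pi.smul_apply, Groth.Agent.Lib.OT67.gelfand_apply, hδ, Pi.single_eq_of_ne (Ne.symm hg), smul_zero]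
    · exact fun h => absurd (Finset.mem_univ _) h
  haveI : IsSimpleGroup (WithConv (A →ₐ[k] k)) := ⟨fun H _ => by
    let I : Ideal A := ⨅ h : H, RingHom.ker (h : WithConv (A →ₐ[k] k)).ofConv
    have hI : ∀ a, a ∈ I ↔ ∀ h ∈ H, h.ofConv a = 0 := fun a => by simp [I, Ideal.mem_iInf, RingHom.mem_ker]
    have hmul : ∀ (g g' : WithConv (A →ₐ[k] k)) (a : A), (g * g').ofConv a =
        Algebra.TensorProduct.lift g.ofConv g'.ofConv (fun _ _ => .all ..) (Coalgebra.comul (R := k) a) :=
      fun g g' a => AlgHom.convMul_apply g g' a
    have hz : ∀ z : TensorProduct k A A, z = ∑ g, ∑ g',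
        Algebra.TensorProduct.lift g.ofConv g'.ofConv (fun _ _ => .all ..) z • TensorProduct.tmul k (δ g) (δ g') := by
      intro z
      induction z using TensorProduct.induction_on with
      | zero => simp
      | add a b ha hb =>
        conv_lhs => rw [ha, hb]
        simp only [map_add, add_smul, Finset.sum_add_distrib]
      | tmul a b =>
        conv_lhs => rw [← hsum a, ← hsum b]
        rw [TensorProduct.sum_tmul]
        refine Finset.sum_congr rfl fun g _ => ?_
        rw [TensorProduct.tmul_sum]
        refine Finset.sum_congr rfl fun g' _ => ?_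
        rw [TensorProduct.tmul_smul, ← TensorProduct.smul_tmul', smul_smul, Algebra.TensorProduct.lift_tmul, mul_comm]
    have hco : (I.restrictScalars k).IsCoideal := by
      refine ⟨fun x hx => ((hI x).1 hx 1 H.one_mem : _), fun x hx => ?_⟩
      rw [hz (Coalgebra.comul (R := k) x), map_sum]
      refine Finset.sum_eq_zero fun g _ => ?_
      rw [map_sum]
      refine Finset.sum_eq_zero fun g' _ => ?_
      rw [map_smul, TensorProduct.map_tmul, ← hmul]
      by_cases hg : g ∈ H
      · by_cases hg' : g' ∈ H
        · rw [(hI x).1 hx _ (H.mul_mem hg hg'), zero_smul]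
        · have : Submodule.mkQ (I.restrictScalars k) (δ g') = 0 := by
            rw [Submodule.mkQ_apply, Submodule.Quotient.mk_eq_zero, Submodule.restrictScalars_mem, hI]
            intro h hh
            rw [hδ, Pi.single_eq_of_ne (fun e : h = g' => hg' (by rw [← e]; exact hh))]
          rw [this, TensorProduct.tmul_zero, smul_zero]
      · have : Submodule.mkQ (I.restrictScalars k) (δ g) = 0 := by
          rw [Submodule.mkQ_apply, Submodule.Quotient.mk_eq_zero, Submodule.restrictScalars_mem, hI]
          intro h hh
          rw [hδ, Pi.single_eq_of_ne (fun e : h = g => hg (by rw [← e]; exact hh))]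
        rw [this, TensorProduct.zero_tmul, smul_zero]
    have hHopf : I.IsHopfIdeal k :=
      { toIsCoideal := hco
        antipode_mem := fun x hx => (hI _).2 fun h hh => ((hI x).1 hx h⁻¹ (H.inv_mem hh) : _) }
    rcases hsimple I hHopf with h0 | h0
    · right
      rw [eq_top_iff]
      intro g _
      by_contra hg
      have hm : δ g ∈ I := (hI _).2 fun h hh => by rw [hδ, Pi.single_eq_of_ne (fun e : h = g => hg (by rw [← e]; exact hh))]
      rw [h0, Ideal.mem_bot] at hm
      have h1 := hδ g g
      rw [hm, map_zero, Pi.single_eq_same] at h1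
      exact zero_ne_one h1
    · left
      rw [Subgroup.eq_bot_iff_forall]
      intro g hg
      by_contra hne
      have hm : δ g ∈ RingHom.ker (Bialgebra.counitAlgHom k A) := by
        rw [RingHom.mem_ker]
        exact (hδ g 1).trans (Pi.single_eq_of_ne (Ne.symm hne) _)
      rw [← h0, hI] at hm
      have h1 := hm g hg
      rw [hδ, Pi.single_eq_same] at h1
      exact one_ne_zero h1⟩
  exact IsSimpleGroup.prime_card

end Groth.Agent.S15065
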