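import Groth.Statements.S15066
import Groth.Agent.Lib.OT67.SimpleGrp
import Groth.Agent.Lib.Hopf.Points
import Groth.Agent.Lib.DualEval
import Mathlib

set_option autoImplicit false
universe u
open Hopf

namespace Groth.Agent.S15066

/-- Let k be an algebraically closed field of characteristic p > 0 and A a finite-dimensional
commutative and cocommutative Hopf algebra over k (a finite commutative k-group G = Spec A) which is
a local ring (G connected) and whose dual algebra Hom_k(A, k) with the convolution product is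
reduced (the Cartier dual of G is étale, i.e. G is multiplicative), with dim_k A > 1, and assume G
is simple: every Hopf ideal of A is either zero or the augmentation ideal (no closed subgroup
schemes other than G and 1). Then G is isomorphic to μ_p: A has a group-like element g (Δ(g) = g ⊗
g, ε(g) = 1) with g^p = 1 whose powers 1, g, …, g^(p−1) are linearly independent over k, and dim_k A
= p (so A = k[g]/(g^p − 1)). -/
theorem result (k : Type u) [Field k] [IsAlgClosed k] (p : ℕ) [Fact p.Prime]
    [CharP k p] (A : Type u) [CommRing A] [HopfAlgebra k A] [Coalgebra.IsCocomm k A] [FiniteDimensional k A]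
    [IsLocalRing A] (hdual : IsReduced (WithConv (A →ₗ[k] k))) (hA : 1 < Module.finrank k A)
    (hsimple : ∀ I : Ideal A, I.IsHopfIdeal k → I = ⊥ ∨ I = RingHom.ker (Bialgebra.counitAlgHom k A)) :
    ∃ g : A, IsGroupLikeElem k g ∧ g ^ p = 1 ∧ LinearIndependent k (fun i : Fin p => g ^ (i : ℕ)) ∧
      Module.finrank k A = p := by
  classical
  haveI := hdual
  obtain ⟨x, hx, hx1⟩ : ∃ x : A, IsGroupLikeElem k x ∧ x ≠ 1 := by
    by_contra hcon
    push_neg at hcon
    haveI : Module.Finite k (WithConv (A →ₗ[k] k)) :=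
      Module.Finite.equiv (WithConv.linearEquiv k (A →ₗ[k] k)).symm
    have hone : ∀ φ : WithConv (A →ₗ[k] k), φ = φ.ofConv 1 • (1 : WithConv (A →ₗ[k] k)) := fun φ => by
      refine sub_eq_zero.1 (Groth.Agent.Lib.Hopf.Points.eq_zero_of_forall_point_eq_zero (k := k) (A := WithConv (A →ₗ[k] k)) fun g => ?_)
      obtain ⟨x, ⟨hx, hgx⟩, -⟩ := Groth.Agent.Lib.DualEval.groupLike_eval.1 g
      have h1 := hgx φ.ofConv
      rw [WithConv.toConv_ofConv, hcon x hx] at h1
      rw [map_sub, map_smul, map_one g, h1, smul_eq_mul, mul_one, sub_self]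
    have hle : Module.finrank k (WithConv (A →ₗ[k] k)) ≤ 1 :=
      finrank_le_one 1 fun φ => ⟨_, (hone φ).symm⟩
    rw [(WithConv.linearEquiv k (A →ₗ[k] k)).finrank_eq, Subspace.dual_finrank_eq] at hle
    omega
  have hnil : IsNilpotent (x - 1) := by
    haveI : IsArtinianRing A := IsArtinianRing.of_finite k A
    rw [← mem_nilradical, Ring.KrullDimLE.nilradical_eq_maximalIdeal, IsLocalRing.mem_maximalIdeal, mem_nonunits_iff]
    intro hu
    have h := hu.map (Bialgebra.counitAlgHom k A)
    simp [hx.counit_eq_one] at h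
  haveI : Nontrivial A := (Bialgebra.algebraMap_injective (R := k) A).nontrivial
  haveI : CharP A p := charP_of_injective_algebraMap (algebraMap k A).injective p
  obtain ⟨n, hn⟩ := hnil
  have hex : ∃ j : ℕ, x ^ (p ^ j) = 1 := ⟨n, by
    have h : (x - 1) ^ (p ^ n) = 0 :=
      pow_eq_zero_of_le (Nat.lt_pow_self (Fact.out : p.Prime).one_lt).le hn
    rwa [sub_pow_char_pow, one_pow, sub_eq_zero] at h⟩
  obtain ⟨g, hg, hgp, hg1⟩ : ∃ g : A, IsGroupLikeElem k g ∧ g ^ p = 1 ∧ g ≠ 1 := by
    have hpos : Nat.find hex ≠ 0 := fun h0 => hx1 (by simpa [h0] using Nat.find_spec hex)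
    refine ⟨x ^ (p ^ (Nat.find hex - 1)), hx.pow, ?_, Nat.find_min hex (by omega)⟩
    rw [← pow_mul, ← pow_succ, Nat.sub_add_cancel (by omega)]
    exact Nat.find_spec hex
  let φ : Multiplicative (ZMod p) →* A :=
    { toFun := fun a => g ^ (Multiplicative.toAdd a).val
      map_one' := by simp
      map_mul' := fun a b => by rw [toAdd_mul, ZMod.val_add, ← pow_eq_pow_mod _ hgp, pow_add] }
  have hφ : ∀ a, φ a = g ^ (Multiplicative.toAdd a).val := fun a => rfl
  have hgl : ∀ a, IsGroupLikeElem k (φ a) := fun a => by rw [hφ]; exact hg.pow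
  let f₀ := MonoidAlgebra.lift k A (Multiplicative (ZMod p)) φ
  have hfs : ∀ a, f₀ (MonoidAlgebra.single a 1) = φ a := fun a => by simp [f₀]
  let f : MonoidAlgebra k (Multiplicative (ZMod p)) →ₐc[k] A := BialgHom.ofAlgHom f₀
    (AlgHom.toLinearMap_injective ((MonoidAlgebra.basis _ k).ext fun a => by
      rw [MonoidAlgebra.basis_apply]
      show Coalgebra.counit (R := k) (f₀ (MonoidAlgebra.single a 1)) = Coalgebra.counit (R := k) (MonoidAlgebra.single a (1 : k))
      rw [hfs, (hgl a).counit_eq_one]; simp))
    (AlgHom.toLinearMap_injective ((MonoidAlgebra.basis _ k).ext fun a => by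
      rw [MonoidAlgebra.basis_apply]
      show Algebra.TensorProduct.map f₀ f₀ (Coalgebra.comul (R := k) (MonoidAlgebra.single a (1 : k))) =
        Coalgebra.comul (R := k) (f₀ (MonoidAlgebra.single a 1))
      rw [hfs, (hgl a).comul_eq_tmul_self, MonoidAlgebra.comul_single, CommSemiring.comul_apply,
        TensorProduct.map_tmul, Algebra.TensorProduct.map_tmul]
      simp [hfs]))
  have hord : orderOf g = p := orderOf_eq_prime hgp hg1
  have hφi : Function.Injective φ := fun a b h => by
    rw [hφ, hφ] at h
    exact Multiplicative.toAdd.injective (ZMod.val_injective p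
      (pow_injOn_Iio_orderOf (show (Multiplicative.toAdd a).val < orderOf g by rw [hord]; exact ZMod.val_lt _)
        (show (Multiplicative.toAdd b).val < orderOf g by rw [hord]; exact ZMod.val_lt _) h))
  have hli : LinearIndependent k φ :=
    linearIndepOn_isGroupLikeElem.linearIndependent.comp (fun a => ⟨φ a, hgl a⟩)
      fun a b h => hφi (congrArg Subtype.val h)
  have hinj : Function.Injective f := (injective_iff_map_eq_zero f).2 fun z hz => by
    change f₀ z = 0 at hz
    rw [← (MonoidAlgebra.basis (Multiplicative (ZMod p)) k).sum_repr z] at hz ⊢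
    simp only [map_sum, map_smul, MonoidAlgebra.basis_apply, hfs] at hz
    simp [Fintype.linearIndependent_iff.1 hli _ hz]
  have hbij : Function.Bijective f := Groth.Agent.Lib.OT67.bijective_of_simple hsimple f hinj
    (b := MonoidAlgebra.single (Multiplicative.ofAdd 1) 1 - 1)
    (fun h => by
      have h1 := congrArg f₀ h
      rw [map_sub, hfs, map_one f₀, map_zero, sub_eq_zero, hφ, toAdd_ofAdd, ZMod.val_one, pow_one] at h1
      exact hg1 h1)
    (by simp)
  refine ⟨g, hg, hgp, ?_, ?_⟩
  · have h := hli.comp (fun i : Fin p => Multiplicative.ofAdd ((i : ℕ) : ZMod p)) fun i j h => by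
      have := congrArg (ZMod.val ∘ Multiplicative.toAdd) h
      simpa [ZMod.val_natCast, Nat.mod_eq_of_lt i.2, Nat.mod_eq_of_lt j.2, Fin.val_inj] using this
    convert h using 1
    funext i
    simp [hφ, ZMod.val_natCast, Nat.mod_eq_of_lt i.2]
  · rw [← (LinearEquiv.ofBijective (f : MonoidAlgebra k (Multiplicative (ZMod p)) →ₗ[k] A) hbij).finrank_eq,
      Module.finrank_eq_card_basis (MonoidAlgebra.basis _ k), Fintype.card_multiplicative, ZMod.card]

end Groth.Agent.S15066
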