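import Groth.Statements.S15067
import Groth.Agent.Lib.OT67.UnitComp

set_option autoImplicit false
universe u
open scoped TensorProduct
open Hopf

namespace Groth.Agent.S15067

/-- Let R be a henselian Noetherian local ring, A and A'' commutative Hopf algebras over R which are
finite and flat as R-modules (finite flat R-groups G = Spec A, G'' = Spec A''), and A'' → A an
R-algebra homomorphism compatible with the comultiplications and counits (a homomorphism π : G →
G'') making A a faithfully flat A''-module (π faithfully flat). Let J ⊆ A be the ideal generated by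
the image of the augmentation ideal of A'', so that G' = Spec A/J is the kernel of π and 1 → G' → G
→ G'' → 1 is an exact sequence of finite flat R-groups. Then: (2) if A'' and A/J are local rings
(G'' and G' connected), A is a local ring (G is connected); (3) if A'' and A/J are étale over R (G''
and G' finite étale), A is étale over R (G is finite étale). -/
theorem result (R : Type u) [CommRing R] [HenselianLocalRing R] [IsNoetherianRing R]
    (A A'' : Type u) [CommRing A] [HopfAlgebra R A] [Module.Finite R A] [Module.Flat R A]
    [CommRing A''] [HopfAlgebra R A''] [Module.Finite R A''] [Module.Flat R A'']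
    [Algebra A'' A] [IsScalarTower R A'' A] [Module.FaithfullyFlat A'' A]
    (hΔ : (Bialgebra.comulAlgHom R A).comp (IsScalarTower.toAlgHom R A'' A) =
      (Algebra.TensorProduct.map (IsScalarTower.toAlgHom R A'' A) (IsScalarTower.toAlgHom R A'' A)).comp
        (Bialgebra.comulAlgHom R A''))
    (hε : (Bialgebra.counitAlgHom R A).comp (IsScalarTower.toAlgHom R A'' A) = Bialgebra.counitAlgHom R A'') :
    ((IsLocalRing A'' ∧
        IsLocalRing (A ⧸ (RingHom.ker (Bialgebra.counitAlgHom R A'')).map (algebraMap A'' A))) → IsLocalRing A) ∧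
      ((Algebra.Etale R A'' ∧
        Algebra.Etale R (A ⧸ (RingHom.ker (Bialgebra.counitAlgHom R A'')).map (algebraMap A'' A))) →
        Algebra.Etale R A) := by
  classical
  let εA := Bialgebra.counitAlgHom R A
  let J := (RingHom.ker (Bialgebra.counitAlgHom R A'')).map (algebraMap A'' A)
  have hεJ : J ≤ RingHom.ker εA := by
    rw [Ideal.map_le_iff_le_comap]
    intro x hx
    exact (DFunLike.congr_fun hε x).trans hx
  refine ⟨fun ⟨h1, h2⟩ => ?_, fun ⟨h1, h2⟩ => ?_⟩
  · haveI := h1
    haveI := h2
    haveI : Nontrivial A := (Bialgebra.algebraMap_injective (R := R) A).nontrivial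
    haveI : Module.Finite A'' A := Module.Finite.of_restrictScalars_finite R A'' A
    haveI : Algebra.IsIntegral A'' A := Algebra.IsIntegral.of_finite A'' A
    have hle : ∀ M : Ideal A, M.IsMaximal → J ≤ M := by
      intro M hM
      haveI := hM
      rw [Ideal.map_le_iff_le_comap]
      have h : (M.comap (algebraMap A'' A)).IsMaximal := Ideal.isMaximal_comap_of_isIntegral_of_isMaximal M
      rw [IsLocalRing.eq_maximalIdeal h]
      exact IsLocalRing.le_maximalIdeal (RingHom.ker_ne_top _)
    refine IsLocalRing.of_unique_max_ideal ⟨(IsLocalRing.maximalIdeal (A ⧸ J)).comap (Ideal.Quotient.mk J),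
      Ideal.comap_isMaximal_of_surjective _ Ideal.Quotient.mk_surjective, fun M hM => ?_⟩
    have hne : M.map (Ideal.Quotient.mk J) ≠ ⊤ := by
      intro h
      have h' := congrArg (Ideal.comap (Ideal.Quotient.mk J)) h
      rw [Ideal.comap_map_of_surjective _ Ideal.Quotient.mk_surjective, ← RingHom.ker_eq_comap_bot, Ideal.mk_ker,
        Ideal.comap_top, sup_eq_left.2 (hle M hM)] at h'
      exact hM.ne_top h'
    exact hM.eq_of_le (Ideal.comap_ne_top _ (IsLocalRing.maximalIdeal.isMaximal _).ne_top)
      (Ideal.map_le_iff_le_comap.1 (IsLocalRing.le_maximalIdeal hne))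
  · haveI := h1
    haveI := h2
    haveI : Module.Free R A'' := Module.free_of_flat_of_isLocalRing
    haveI : Module.Free R A := Module.free_of_flat_of_isLocalRing
    rw [Groth.Agent.S18472.result R A]
    refine le_antisymm (Ideal.pow_le_self (by norm_num)) fun x hx => ?_
    have hJ2 : J ≤ RingHom.ker εA ^ 2 := by
      have h := (Groth.Agent.S18472.result R A'').1 h1
      show Ideal.map _ _ ≤ _
      rw [← h, Ideal.map_pow]
      exact Ideal.pow_right_mono hεJ 2
    let δ : (A ⧸ J) →ₐ[R] R := Ideal.Quotient.liftₐ J εA fun a ha => hεJ ha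
    obtain ⟨t, ht, ht1⟩ := Algebra.FormallyUnramified.iff_exists_tensorProduct.1
      (inferInstance : Algebra.FormallyUnramified R (A ⧸ J))
    let F := Algebra.TensorProduct.lift (AlgHom.id R (A ⧸ J)) ((Algebra.ofId R (A ⧸ J)).comp δ) (fun _ _ => Commute.all _ _)
    have hkill : Ideal.Quotient.mk J x * F t = 0 := by
      have h := congrArg F (ht (Ideal.Quotient.mk J x))
      have hδ : δ (Ideal.Quotient.mk J x) = 0 := hx
      rw [map_mul, map_sub, map_zero] at h
      simp only [F, Algebra.TensorProduct.lift_tmul, map_one, mul_one, one_mul, AlgHom.id_apply, AlgHom.comp_apply,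
        hδ, map_zero, zero_sub, neg_mul, neg_eq_zero] at h
      exact h
    have hδt : δ (F t) = 1 := by
      have : δ.comp F = δ.comp (Algebra.TensorProduct.lmul' R) := Algebra.TensorProduct.ext' fun a b => by simp [F]
      rw [← AlgHom.comp_apply, this, AlgHom.comp_apply, ht1, map_one]
    obtain ⟨s, hs⟩ := Ideal.Quotient.mk_surjective (F t)
    have hs1 : 1 - s ∈ RingHom.ker εA := by
      rw [RingHom.mem_ker, map_sub, map_one, sub_eq_zero]
      rw [← hs] at hδt
      exact hδt.symm
    rw [← hs, ← map_mul, Ideal.Quotient.eq_zero_iff_mem] at hkill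
    rw [show x = x * (1 - s) + x * s by ring]
    refine add_mem ?_ (hJ2 hkill)
    rw [sq]
    exact Ideal.mul_mem_mul hx hs1

end Groth.Agent.S15067
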