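import Groth.Statements.S15068
import Groth.Agent.Lib.OT67.UnitComp

set_option autoImplicit false
universe u
open scoped TensorProduct
open Hopf

namespace Groth.Agent.S15068

/-- Let R be a henselian Noetherian local ring, A and A'' commutative Hopf algebras over R which are
finite and flat as R-modules, and A'' → A an R-algebra homomorphism compatible with
comultiplications and counits making A faithfully flat over A'' (a faithfully flat homomorphism π :
G → G'' of finite flat R-groups); let J ⊆ A be the ideal generated by the image of the augmentation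
ideal of A'' (G' = Spec A/J = ker π, so 1 → G' → G → G'' → 1 is exact). Assume A'' is a local ring
(G'' connected) and A/J is étale over R (G' finite étale), and let e ∈ A be an idempotent with ε(e)
= 1 such that A/(1 − e) is local (G⁰ = Spec A/(1 − e), the unit component of G). Then the composite
A'' → A → A/(1 − e) is bijective: the restriction G⁰ → G'' of π is an isomorphism, whose inverse
splits the extension, G ≅ G' × G''. -/
theorem result (R : Type u) [CommRing R] [HenselianLocalRing R]
    [IsNoetherianRing R] (A A'' : Type u) [CommRing A] [HopfAlgebra R A] [Module.Finite R A] [Module.Flat R A]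
    [CommRing A''] [HopfAlgebra R A''] [Module.Finite R A''] [Module.Flat R A'']
    [Algebra A'' A] [IsScalarTower R A'' A] [Module.FaithfullyFlat A'' A]
    (hΔ : (Bialgebra.comulAlgHom R A).comp (IsScalarTower.toAlgHom R A'' A) =
      (Algebra.TensorProduct.map (IsScalarTower.toAlgHom R A'' A) (IsScalarTower.toAlgHom R A'' A)).comp
        (Bialgebra.comulAlgHom R A''))
    (hε : (Bialgebra.counitAlgHom R A).comp (IsScalarTower.toAlgHom R A'' A) = Bialgebra.counitAlgHom R A'')
    [IsLocalRing A''] [Algebra.Etale R (A ⧸ (RingHom.ker (Bialgebra.counitAlgHom R A'')).map (algebraMap A'' A))]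
    (e : A) (he : IsIdempotentElem e) (heε : Bialgebra.counitAlgHom R A e = 1)
    [IsLocalRing (A ⧸ Ideal.span ({1 - e} : Set A))] :
    Function.Bijective ((Ideal.Quotient.mkₐ R (Ideal.span ({1 - e} : Set A))).comp (IsScalarTower.toAlgHom R A'' A)) := by
  classical
  let εA := Bialgebra.counitAlgHom R A
  let J := (RingHom.ker (Bialgebra.counitAlgHom R A'')).map (algebraMap A'' A)
  let I := Ideal.span ({1 - e} : Set A)
  haveI : Module.Finite A'' A := Module.Finite.of_restrictScalars_finite R A'' A
  haveI : Module.Finite A'' (A ⧸ I) := Module.Finite.quotient A'' I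
  haveI : Module.Flat A'' (A ⧸ I) := Groth.Agent.Lib.OT67.flat_component (R := A'') he
  haveI : Module.Free A'' (A ⧸ I) := Module.free_of_flat_of_isLocalRing
  have hεJ : J ≤ RingHom.ker εA := by
    rw [Ideal.map_le_iff_le_comap]
    intro x hx
    exact (DFunLike.congr_fun hε x).trans hx
  have hεI : I ≤ RingHom.ker εA := by
    rw [Ideal.span_le, Set.singleton_subset_iff, SetLike.mem_coe, RingHom.mem_ker, map_sub, map_one, heε, sub_self]
  let εQ : (A ⧸ (J ⊔ I)) →ₐ[R] R := Ideal.Quotient.liftₐ (J ⊔ I) εA fun a ha => sup_le hεJ hεI ha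
  haveI : Nontrivial (A ⧸ (J ⊔ I)) := εQ.toRingHom.domain_nontrivial
  haveI : IsLocalRing (A ⧸ (J ⊔ I)) :=
    IsLocalRing.of_surjective' (Ideal.Quotient.factor (le_sup_right : I ≤ J ⊔ I))
      (Ideal.Quotient.factor_surjective _)
  have hx : ∀ x : A, x - algebraMap R A (εA x) ∈ J ⊔ I := fun x => by
    let δ : (A ⧸ J) →ₐ[R] R := Ideal.Quotient.liftₐ J εA fun a ha => hεJ ha
    have h := DFunLike.congr_fun (Groth.Agent.Lib.OT67.algHom_eq_of_unramified εQ
      (Ideal.Quotient.factorₐ R (le_sup_left : J ≤ J ⊔ I)) ((Algebra.ofId R _).comp δ)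
      (AlgHom.ext fun y => by
        obtain ⟨a, rfl⟩ := Ideal.Quotient.mk_surjective y
        exact (εQ.commutes _).symm)) (Ideal.Quotient.mk J x)
    exact (Ideal.Quotient.eq (I := J ⊔ I)).1 h
  refine ⟨(injective_iff_map_eq_zero _).2 fun a ha => ?_, ?_⟩
  · let b := Module.Free.chooseBasis A'' (A ⧸ I)
    obtain ⟨i⟩ := b.index_nonempty
    have h : a • b i = 0 := by
      rw [Algebra.smul_def]
      exact mul_eq_zero_of_left ha _
    simpa using congrArg (fun v => b.repr v i) h
  · let N : Submodule A'' (A ⧸ I) := LinearMap.range (Algebra.linearMap A'' (A ⧸ I))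
    let m := RingHom.ker (Bialgebra.counitAlgHom R A'')
    have htop : (⊤ : Submodule A'' (A ⧸ I)) ≤ N := by
      refine Submodule.le_of_le_smul_of_le_jacobson_bot (I := m) Module.Finite.fg_top ?_ ?_
      · rw [IsLocalRing.jacobson_eq_maximalIdeal ⊥ bot_ne_top]
        exact IsLocalRing.le_maximalIdeal (RingHom.ker_ne_top _)
      · intro y _
        obtain ⟨x, rfl⟩ := Ideal.Quotient.mk_surjective y
        obtain ⟨j, hj, i, hi, hji⟩ := Submodule.mem_sup.1 (hx x)
        refine Submodule.mem_sup.2 ⟨Ideal.Quotient.mk I (algebraMap R A (εA x)), ⟨algebraMap R A'' (εA x), ?_⟩,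
          Ideal.Quotient.mk I j, ?_, ?_⟩
        · show Ideal.Quotient.mk I (algebraMap A'' A (algebraMap R A'' (εA x))) = _
          rw [← IsScalarTower.algebraMap_apply]
        · rw [Ideal.smul_top_eq_map]
          show Ideal.Quotient.mk I j ∈ Ideal.map (algebraMap A'' (A ⧸ I)) m
          rw [show algebraMap A'' (A ⧸ I) = (Ideal.Quotient.mk I).comp (algebraMap A'' A) from rfl, ← Ideal.map_map]
          exact Ideal.mem_map_of_mem _ hj
        · rw [← map_add, Ideal.Quotient.eq]
          rw [show algebraMap R A (εA x) + j - x = -i by linear_combination hji]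
          exact neg_mem hi
    intro y
    obtain ⟨a, ha⟩ := htop (Submodule.mem_top (x := y))
    exact ⟨a, ha⟩

end Groth.Agent.S15068
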