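import Groth.Statements.S15070
import Groth.Agent.Lib.Perfect.Coherent
import Groth.Agent.Lib.JacCrit.OverField
import Groth.Agent.Lib.CohBasics.Closure
import Groth.Agent.Lib.ZarCoh.FP
import Groth.Agent.Lib.TensorMod.FPConv
import Groth.Agent.Lib.TensorMod.FPCrit
import Groth.Agent.Lib.Cyc.TorPD
import Groth.Agent.Lib.Regular.Serre
import Groth.Agent.H18.AB
import Groth.Agent.Lib.JacCrit.FlatRegular

set_option autoImplicit false
universe u
open CategoryTheory CategoryTheory.Limits AlgebraicGeometry
open OrdSurf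

namespace Groth.Agent.S15070

/-- Let k be an algebraically closed field of characteristic zero and X a smooth projective surface over
k (an integral k-scheme, smooth over k, of dimension two, admitting a closed immersion over k into
some projective space P^n_k). Let N be a coherent O_X-module all of whose stalks are torsion-free
modules over the local rings, M a finite locally free O_X-module and φ : M → N an epimorphism of
O_X-modules. Then the kernel of φ is a finite locally free O_X-module. -/
theorem result (k : Type u) [Field k] [IsAlgClosed k] [CharZero k]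
    (X : Scheme.{u}) [X.Over (Spec (CommRingCat.of k))] [IsIntegral X]
    [Smooth (X ↘ Spec (CommRingCat.of k))] (hdim : topologicalKrullDim X = 2)
    (hproj : ∃ (n : ℕ) (ι : X ⟶ CohB1.ProjSpace n k), IsClosedImmersion ι ∧
      ι ≫ CohB1.ProjSpace.toSpec n k = X ↘ Spec (CommRingCat.of k))
    (N : X.Modules) (hN : Coh.IsCoh N) (hNtf : TorSh.IsTorsionFree N)
    (M : X.Modules) (hM : FlatMod.IsFinLocFree M) (φ : M ⟶ N) [Epi φ] :
    FlatMod.IsFinLocFree (kernel φ) := by
  haveI : IsLocallyNoetherian X := LocallyOfFiniteType.isLocallyNoetherian (X ↘ Spec (CommRingCat.of k))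
  have hFc : Coh.IsCoh M := Groth.Agent.Lib.Perfect.Coherent.isCoh_of_isFinLocFree hM
  have hK : Coh.IsCoh (kernel φ) :=
    Groth.Agent.Lib.CohBasics.Closure.isCoh_kernel φ hFc hN.1
  haveI := Groth.Agent.Lib.ZarCoh.FP.isFP_of_isCoh _ hK
  refine Groth.Agent.Lib.TensorMod.FPCrit.isFinLocFree_of_free_stalks _ fun x => ?_
  haveI := hFc.2
  haveI := hN.2
  haveI := hK.2
  haveI := Groth.Agent.Lib.Modules.GenStalk.finite_stalk M x
  haveI := Groth.Agent.Lib.Modules.GenStalk.finite_stalk N x
  haveI := Groth.Agent.Lib.Modules.GenStalk.finite_stalk (kernel φ) x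
  haveI := Groth.Agent.Lib.TensorMod.FPConv.free_stalk_of_isFinLocFree hM x
  haveI hR : IsRegularLocalRing (X.presheaf.stalk x) :=
    Groth.Agent.Lib.JacCrit.OverField.isRegularLocalRing_stalk (X ↘ Spec (CommRingCat.of k)) x
      (by rw [Scheme.Hom.smoothLocus_eq_top]; trivial)
  have hd2 : ringKrullDim (X.presheaf.stalk x) ≤ 2 :=
    hdim ▸ Groth.Agent.Lib.Cyc.TorPD.ringKrullDim_stalk_le x
  have hd := IsRegularLocalRing.spanFinrank_maximalIdeal (R := X.presheaf.stalk x)
  let π := Groth.Agent.Lib.Modules.StalkModule.stalkMapₗ φ x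
  have hsurj : Function.Surjective π :=
    (Groth.Agent.Lib.Modules.StalkModule.epi_iff_stalkMapₗ_surjective φ).mp inferInstance x
  have hpd : Groth.Agent.Lib.Regular.PD.PDle (X.presheaf.stalk x)
      (N.presheaf.stalk x) 1 := by
    have hall := Groth.Agent.Lib.Regular.Serre.pdle_all (R := X.presheaf.stalk x)
      (N.presheaf.stalk x)
    by_cases h1 : (IsLocalRing.maximalIdeal (X.presheaf.stalk x)).spanFinrank ≤ 1
    · exact Groth.Agent.Lib.Regular.PD.pdle_mono hall h1
    by_cases hs : Subsingleton (N.presheaf.stalk x)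
    · exact Groth.Agent.Lib.Regular.PD.pdle_mono
        (Groth.Agent.Lib.Regular.PD.pdle_zero_iff.mpr Module.Projective.of_free) zero_le_one
    haveI : Nontrivial (N.presheaf.stalk x) :=
      not_subsingleton_iff_nontrivial.mp hs
    have hR2 : ringKrullDim (X.presheaf.stalk x) = 2 := by
      refine le_antisymm hd2 ?_
      rw [← hd]
      exact_mod_cast (not_le.mp h1)
    have hm0 : IsLocalRing.maximalIdeal (X.presheaf.stalk x) ≠ ⊥ := fun h => by
      rw [ringKrullDim_eq_zero_of_isField (IsLocalRing.isField_iff_maximalIdeal_eq.mpr h)] at hR2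
      exact absurd hR2 (by decide)
    obtain ⟨a, ham, ha0⟩ := (Submodule.ne_bot_iff _).mp hm0
    haveI := hNtf x
    have hreg : IsSMulRegular (N.presheaf.stalk x) a :=
      Module.IsTorsionFree.isSMulRegular (isRegular_iff_ne_zero.mpr ha0)
    obtain ⟨p, hp⟩ : ∃ p : ℕ, LocCoh.depth (X.presheaf.stalk x) (N.presheaf.stalk x) = p :=
      (ENat.ne_top_iff_exists.mp (Groth.Agent.Lib.Depth.Assoc.depth_ne_top _)).imp fun _ h => h.symm
    have hp1 := Groth.Agent.H18.AB.one_le_depth_of_regular ham hreg
    rw [hp] at hp1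
    have hdep : LocCoh.depth (X.presheaf.stalk x) (X.presheaf.stalk x) = (2 : ℕ) := by
      haveI := Groth.Agent.Lib.JacCrit.FlatRegular.isCohenMacaulayLocalRing (X.presheaf.stalk x)
      have h := LocCoh.IsCohenMacaulayLocalRing.supportDim_eq_depth (R := X.presheaf.stalk x)
      rw [Module.supportDim_self_eq_ringKrullDim, hR2] at h
      exact (WithBot.coe_inj.mp h).symm
    exact ((Groth.Agent.H18.AB.pdle_iff 2 _ hdep _ ⟨_, hall⟩ p hp).2 1).mpr
      (by have : (1 : ℕ) ≤ p := (by exact_mod_cast hp1); omega)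
  have hker : Module.Projective (X.presheaf.stalk x) (LinearMap.ker π) :=
    Groth.Agent.Lib.Regular.PD.pdle_zero_iff.mp
      ((Groth.Agent.Lib.Regular.PD.pdle_succ_iff hsurj 0).mp hpd)
  let ψ := Groth.Agent.Lib.Modules.StalkModule.stalkMapₗ (kernel.ι φ) x
  have hinj : Function.Injective ψ :=
    (Groth.Agent.Lib.Modules.StalkModule.mono_iff_stalkMapₗ_injective _).mp inferInstance x
  have hrange : LinearMap.range ψ = LinearMap.ker π := by
    have hex := ((CategoryTheory.ShortComplex.mk (kernel.ι φ) φ (kernel.condition φ)).exact_of_f_is_kernel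
      (kernelIsKernel φ)).map (Groth.Agent.Lib.Modules.StalkModule.stalkModFunctor X x)
    exact (CategoryTheory.ShortComplex.moduleCat_exact_iff_range_eq_ker _).mp hex
  haveI : Module.Projective (X.presheaf.stalk x) ((kernel φ).presheaf.stalk x) :=
    Module.Projective.of_equiv
      ((LinearEquiv.ofInjective ψ hinj).trans (LinearEquiv.ofEq _ _ hrange)).symm
  exact Module.free_of_flat_of_isLocalRing

end Groth.Agent.S15070
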