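import Groth.Statements.S15075
import Groth.Agent.Lib.TFOne.Generic
import Mathlib.Algebra.Category.ModuleCat.Stalk
import Mathlib.Topology.Sober
import Mathlib.RingTheory.SimpleModule.Basic

set_option autoImplicit false
universe u
open CategoryTheory CategoryTheory.Limits AlgebraicGeometry TopologicalSpace Opposite
open OrdSurf

namespace Groth.Agent.S15075

section Helpers

open CategoryTheory AlgebraicGeometry TopologicalSpace Opposite

variable {X : Scheme.{u}} {A : Sheaf (Opens.grothendieckTopology X) RingCat.{u}}
  {M N : SheafOfModules.{u} A} (ψ : M ⟶ N) (x : X)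

/-- The map on stalks, linear over the stalk of `A`. -/
noncomputable def stalkLin :
    ↑(TopCat.Presheaf.stalk (C := Ab.{u}) (X := X.carrier) M.val.presheaf x) →ₗ[↑(TopCat.Presheaf.stalk (C := RingCat.{u}) (X := X.carrier) A.obj x)]
      ↑(TopCat.Presheaf.stalk (C := Ab.{u}) (X := X.carrier) N.val.presheaf x) where
  toFun := ((TopCat.Presheaf.stalkFunctor Ab.{u} x).map
    ((PresheafOfModules.toPresheaf _).map ψ.val)).hom
  map_add' := map_add _
  map_smul' r m := by
    obtain ⟨U, hU, r, rfl⟩ := TopCat.Presheaf.exists_germ_eq A.obj r
    obtain ⟨V, hV, m, rfl⟩ := TopCat.Presheaf.exists_germ_eq (X := X.carrier) M.val.presheaf m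
    have h : x ∈ U ⊓ V := ⟨hU, hV⟩
    rw [← TopCat.Presheaf.germ_res_apply A.obj (homOfLE (inf_le_left : U ⊓ V ≤ U)) x h r,
      ← TopCat.Presheaf.germ_res_apply (X := X.carrier) M.val.presheaf
        (homOfLE (inf_le_right : U ⊓ V ≤ V)) x h m]
    refine (congrArg _ (PresheafOfModules.germ_ringCat_smul M.val x _ h _ _).symm).trans ?_
    erw [TopCat.Presheaf.stalkFunctor_map_germ_apply, TopCat.Presheaf.stalkFunctor_map_germ_apply]
    refine (congrArg _ ((ψ.val.app (op (U ⊓ V))).hom.map_smul _ _)).trans ?_
    exact PresheafOfModules.germ_ringCat_smul N.val x _ h _ _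

instance restrictScalars_faithful {R R' : Sheaf (Opens.grothendieckTopology X) RingCat.{u}} (α : R ⟶ R') :
    (SheafOfModules.restrictScalars.{u} α).Faithful where
  map_injective h := SheafOfModules.Hom.ext
    ((PresheafOfModules.restrictScalars α.hom).map_injective (congrArg SheafOfModules.Hom.val h))

/-- A nonzero morphism of torsion-free `A`-modules with simple generic source is injective on
underlying modules. -/
theorem mono_map [IsIntegral X] [IsLocallyNoetherian X] (φ : X.ringCatSheaf ⟶ A)
    (hMc : Coh.IsCoh (X := X) ((SheafOfModules.restrictScalars φ).obj M))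
    (hNc : Coh.IsCoh (X := X) ((SheafOfModules.restrictScalars φ).obj N))
    (hMt : TorSh.IsTorsionFree (X := X) ((SheafOfModules.restrictScalars φ).obj M))
    (hNt : TorSh.IsTorsionFree (X := X) ((SheafOfModules.restrictScalars φ).obj N))
    (hMη : IsSimpleModule (↑(TopCat.Presheaf.stalk (C := RingCat.{u}) (X := X.carrier) A.obj (genericPoint X))) (↑(TopCat.Presheaf.stalk (C := Ab.{u}) (X := X.carrier) M.val.presheaf (genericPoint X))))
    (hψ : ψ ≠ 0) : Mono (C := X.Modules) ((SheafOfModules.restrictScalars φ).map ψ) := by
  let η := genericPoint X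
  haveI := hMη
  let f := (SheafOfModules.restrictScalars φ).map ψ
  haveI := restrictScalars_faithful φ
  haveI : SheafOfModules.IsQuasicoherent (R := X.ringCatSheaf) ((SheafOfModules.restrictScalars φ).obj M) := hMc.1
  haveI : SheafOfModules.IsQuasicoherent (R := X.ringCatSheaf) ((SheafOfModules.restrictScalars φ).obj N) := hNc.1
  have hgen : genericPoints X = {η} := genericPoints_eq_singleton
  have hinj : Function.Injective (Groth.Agent.Lib.Modules.StalkModule.stalkMapₗ (X := X) f η) := by
    rcases LinearMap.injective_or_eq_zero (stalkLin ψ η) with h | h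
    · exact h
    · refine absurd ?_ hψ
      refine (SheafOfModules.restrictScalars φ).map_injective ?_
      refine Eq.trans ?_ (SheafOfModules.Hom.ext (PresheafOfModules.hom_ext fun U => rfl) :
        0 = (SheafOfModules.restrictScalars φ).map (0 : M ⟶ N))
      refine Groth.Agent.Lib.TFOne.Generic.eq_zero_of_generic (X := X) hNt f fun ξ hξ => ?_
      rw [hgen] at hξ
      obtain rfl : ξ = η := hξ
      exact DFunLike.ext _ _ fun v => (DFunLike.congr_fun h v :)
  haveI : Mono f := Groth.Agent.Lib.TFOne.Generic.mono_of_generic (X := X) hMt f fun ξ hξ => by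
    rw [hgen] at hξ
    obtain rfl : ξ = η := hξ
    exact hinj
  exact ‹Mono f›


end Helpers

/-- Let k be an algebraically closed field of characteristic zero and X a smooth projective surface over
k (an integral k-scheme, smooth over k, of dimension two, admitting a closed immersion over k into
some projective space P^n_k), with generic point η. Let A be a sheaf of rings on X with a morphism φ
: O_X → A of sheaves of rings with central image (a sheaf of O_X-algebras) whose generic stalk A_η
is a division ring, i.e. simple as a left module over itself. Let M and N be sheaves of A-modules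
whose underlying O_X-modules (through φ) are coherent with torsion-free stalks, and whose generic
stalks M_η and N_η are simple A_η-modules (one-dimensional over the division ring A_η). Then every
nonzero morphism of sheaves of A-modules M → N is a monomorphism. (The published statement takes A
to be an order on X — coherent and torsion-free over O_X with A_η a central division algebra over
k(X) — and M, N torsion-free A-modules of rank one; of these hypotheses only the ones listed are
assumed here, the others playing no role in the argument.) -/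
theorem result (k : Type u) [Field k] [IsAlgClosed k] [CharZero k]
    (X : Scheme.{u}) [X.Over (Spec (CommRingCat.of k))] [IsIntegral X]
    [Smooth (X ↘ Spec (CommRingCat.of k))] (hdim : topologicalKrullDim X = 2)
    (hproj : ∃ (n : ℕ) (ι : X ⟶ CohB1.ProjSpace n k), IsClosedImmersion ι ∧
      ι ≫ CohB1.ProjSpace.toSpec n k = X ↘ Spec (CommRingCat.of k))
    (A : Sheaf (Opens.grothendieckTopology X) RingCat.{u}) (φ : X.ringCatSheaf ⟶ A)
    (hcen : ∀ (U : (Opens X)ᵒᵖ) (s : X.ringCatSheaf.obj.obj U) (a : A.obj.obj U),
      φ.hom.app U s * a = a * φ.hom.app U s)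
    (hAη : IsSimpleModule (↑(TopCat.Presheaf.stalk (C := RingCat.{u}) (X := X.carrier) A.obj (genericPoint X))) (↑(TopCat.Presheaf.stalk (C := RingCat.{u}) (X := X.carrier) A.obj (genericPoint X))))
    (M N : SheafOfModules.{u} A)
    (hMc : Coh.IsCoh (X := X) ((SheafOfModules.restrictScalars φ).obj M))
    (hNc : Coh.IsCoh (X := X) ((SheafOfModules.restrictScalars φ).obj N))
    (hMt : TorSh.IsTorsionFree (X := X) ((SheafOfModules.restrictScalars φ).obj M))
    (hNt : TorSh.IsTorsionFree (X := X) ((SheafOfModules.restrictScalars φ).obj N))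
    (hMη : IsSimpleModule (↑(TopCat.Presheaf.stalk (C := RingCat.{u}) (X := X.carrier) A.obj (genericPoint X))) (↑(TopCat.Presheaf.stalk (C := Ab.{u}) (X := X.carrier) M.val.presheaf (genericPoint X))))
    (hNη : IsSimpleModule (↑(TopCat.Presheaf.stalk (C := RingCat.{u}) (X := X.carrier) A.obj (genericPoint X))) (↑(TopCat.Presheaf.stalk (C := Ab.{u}) (X := X.carrier) N.val.presheaf (genericPoint X))))
    (ψ : M ⟶ N) (hψ : ψ ≠ 0) : Mono ψ := by
  haveI : IsLocallyNoetherian X :=
    LocallyOfFiniteType.isLocallyNoetherian (X ↘ Spec (CommRingCat.of k))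
  haveI := restrictScalars_faithful φ
  exact (SheafOfModules.restrictScalars φ).mono_of_mono_map (mono_map ψ φ hMc hNc hMt hNt hMη hψ)

end Groth.Agent.S15075
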