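import Groth.Statements.S15076
import Groth.Agent.Lib.TensorMod.FPCrit
import Groth.Agent.Lib.ZarCoh.FP
import Groth.Agent.Lib.TensorMod.FPConv
import Mathlib.RingTheory.LocalRing.Module

set_option autoImplicit false
universe u
open CategoryTheory CategoryTheory.Limits AlgebraicGeometry TopologicalSpace Opposite
open OrdSurf

namespace Groth.Agent.S15076

/-- Restriction of scalars to `O_X`. -/
noncomputable abbrev res {X : Scheme.{u}} {A : Sheaf (Opens.grothendieckTopology X) RingCat.{u}}
    (φ : X.ringCatSheaf ⟶ A) (Q : SheafOfModules.{u} A) : X.Modules :=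
  (SheafOfModules.restrictScalars φ).obj Q

theorem projective_trans {O A P : Type u} [CommRing O] [Ring A] [AddCommGroup P] [Module A P] [Module O P]
    (ψ : O →+* A) (hsmul : ∀ (r : O) (p : P), r • p = ψ r • p)
    (hA : letI := Module.compHom A ψ; Module.Projective O A) [Module.Projective A P] :
    Module.Projective O P := by
  letI : Module O A := Module.compHom A ψ
  obtain ⟨s, hs⟩ := (inferInstance : Module.Projective A P).out
  haveI : IsScalarTower O A P := ⟨fun r a p => by
    rw [hsmul r (a • p)]
    exact mul_smul (ψ r) a p⟩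
  haveI : Module.Projective O A := hA
  haveI : IsScalarTower O A A := ⟨fun r a b => mul_assoc (ψ r) a b⟩
  haveI : IsScalarTower O A (P →₀ A) := ⟨fun r a b => Finsupp.ext fun i => mul_assoc (ψ r) a (b i)⟩
  haveI : Module.Projective O (P →₀ A) := by
    classical
    exact Module.Projective.of_equiv (finsuppLEquivDirectSum O A P).symm
  exact Module.Projective.of_split (s.restrictScalars O)
    ((Finsupp.linearCombination A id).restrictScalars O) (LinearMap.ext hs)

/-- Let k be an algebraically closed field of characteristic zero and X a smooth projective surface over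
k (an integral k-scheme, smooth over k, of dimension two, admitting a closed immersion over k into
some projective space P^n_k). Let A be a sheaf of rings on X with a morphism φ : O_X → A of sheaves
of rings with central image (a sheaf of O_X-algebras) such that A is finite locally free as an
O_X-module through φ. Let M be a sheaf of A-modules whose underlying O_X-module is coherent and
which is locally projective over A in the sense that every stalk M_x is a projective module over the
stalk A_x. Then the underlying O_X-module of M is finite locally free. (The published statement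
takes A to be a maximal order on X, which is locally free of finite rank; only that consequence is
assumed here, together with the stalkwise reading of local projectivity.) -/
theorem result (k : Type u) [Field k] [IsAlgClosed k] [CharZero k]
    (X : Scheme.{u}) [X.Over (Spec (CommRingCat.of k))] [IsIntegral X]
    [Smooth (X ↘ Spec (CommRingCat.of k))] (hdim : topologicalKrullDim X = 2)
    (hproj : ∃ (n : ℕ) (ι : X ⟶ CohB1.ProjSpace n k), IsClosedImmersion ι ∧
      ι ≫ CohB1.ProjSpace.toSpec n k = X ↘ Spec (CommRingCat.of k))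
    (A : Sheaf (Opens.grothendieckTopology X) RingCat.{u}) (φ : X.ringCatSheaf ⟶ A)
    (hcen : ∀ (U : (Opens X)ᵒᵖ) (s : X.ringCatSheaf.obj.obj U) (a : A.obj.obj U),
      φ.hom.app U s * a = a * φ.hom.app U s)
    (hA : FlatMod.IsFinLocFree (X := X) ((SheafOfModules.restrictScalars φ).obj (SheafOfModules.unit A)))
    (M : SheafOfModules.{u} A)
    (hMc : Coh.IsCoh (X := X) ((SheafOfModules.restrictScalars φ).obj M))
    (hMp : ∀ x : X, Module.Projective ↑(TopCat.Presheaf.stalk (C := RingCat.{u}) (X := X.carrier) A.obj x)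
      ↑(TopCat.Presheaf.stalk (C := Ab.{u}) (X := X.carrier) M.val.presheaf x)) :
    FlatMod.IsFinLocFree (X := X) ((SheafOfModules.restrictScalars φ).obj M) := by
  let α : X.presheaf ⋙ forget₂ CommRingCat RingCat ⟶ A.obj := φ.hom
  haveI : IsLocallyNoetherian X :=
    LocallyOfFiniteType.isLocallyNoetherian (X ↘ Spec (CommRingCat.of k))
  let N : X.Modules := (SheafOfModules.restrictScalars φ).obj M
  haveI : SheafOfModules.IsFinitePresentation (R := X.ringCatSheaf) N :=
    Lib.ZarCoh.FP.isFP_of_isCoh N hMc
  refine Lib.TensorMod.FPCrit.isFinLocFree_of_free_stalks (X := X) N fun x => ?_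
  haveI := hMc.1
  haveI : SheafOfModules.IsFiniteType (R := X.ringCatSheaf) N := hMc.2
  haveI := Lib.Modules.GenStalk.finite_stalk N x
  let ψ : X.presheaf.stalk x →+* ↑(TopCat.Presheaf.stalk (C := RingCat.{u}) (X := X.carrier) A.obj x) :=
    ((TopCat.Presheaf.stalkFunctor RingCat.{u} x).map α).hom.comp
      ((preservesColimitIso (forget₂ CommRingCat.{u} RingCat.{u})
        ((OpenNhds.inclusion x).op ⋙ X.presheaf)).hom.hom)
  have hψ : ∀ (U : X.Opens) (hx : x ∈ U) (r : X.presheaf.obj (op U)),
      ψ (X.presheaf.germ U x hx r) = TopCat.Presheaf.germ A.obj U x hx (φ.hom.app (op U) r) := by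
    intro U hx r
    refine Eq.trans (congrArg ((TopCat.Presheaf.stalkFunctor RingCat.{u} x).map α).hom ?_)
      (TopCat.Presheaf.stalkFunctor_map_germ_apply U x hx α r)
    exact congr($(ι_preservesColimitIso_hom (forget₂ CommRingCat.{u} RingCat.{u})
      ((OpenNhds.inclusion x).op ⋙ X.presheaf) (op ⟨U, hx⟩)).hom r)
  have key : ∀ (Q : SheafOfModules.{u} A) (r : X.presheaf.stalk x)
      (m : ↑((res φ Q).presheaf.stalk x)),
      r • m = HSMul.hSMul (β := ↑(TopCat.Presheaf.stalk (C := Ab.{u}) (X := X.carrier) Q.val.presheaf x))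
        (ψ r) m := by
    intro Q r m
    obtain ⟨U, hxU, r, rfl⟩ := TopCat.Presheaf.exists_germ_eq X.presheaf r
    obtain ⟨V, hxV, m, rfl⟩ := TopCat.Presheaf.exists_germ_eq (res φ Q).presheaf m
    rw [← TopCat.Presheaf.germ_res_apply X.presheaf (homOfLE inf_le_left : U ⊓ V ⟶ U) x ⟨hxU, hxV⟩ r,
      ← TopCat.Presheaf.germ_res_apply (res φ Q).presheaf (homOfLE inf_le_right : U ⊓ V ⟶ V) x ⟨hxU, hxV⟩ m,
      ]
    refine Eq.trans ?_ (congrArg
      (fun a => HSMul.hSMul (β := ↑(TopCat.Presheaf.stalk (C := Ab.{u}) (X := X.carrier) Q.val.presheaf x)) a _)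
      (hψ (U ⊓ V) ⟨hxU, hxV⟩ _).symm)
    exact (PresheafOfModules.germ_smul (R := X.presheaf) (res φ Q).val x (U ⊓ V) ⟨hxU, hxV⟩ _ _).symm.trans
      (PresheafOfModules.germ_ringCat_smul Q.val x (U ⊓ V) ⟨hxU, hxV⟩ _ _)
  let As := ↑(TopCat.Presheaf.stalk (C := RingCat.{u}) (X := X.carrier) A.obj x)
  have hproj : letI := Module.compHom As ψ; Module.Projective (X.presheaf.stalk x) As := by
    letI : Module (X.presheaf.stalk x) As := Module.compHom As ψ
    haveI := Lib.TensorMod.FPConv.free_stalk_of_isFinLocFree hA x
    let P : SheafOfModules.{u} A := SheafOfModules.unit A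
    let S := ↑(TopCat.Presheaf.stalk (C := Ab.{u}) (X := X.carrier) P.val.presheaf x)
    haveI : Module.Free (X.presheaf.stalk x) ↑((res φ P).presheaf.stalk x) :=
      Lib.TensorMod.FPConv.free_stalk_of_isFinLocFree hA x
    let f : S →+ As :=
      let c : Cocone ((OpenNhds.inclusion x).op ⋙ P.val.presheaf) :=
          { pt := (forget₂ RingCat.{u} AddCommGrpCat.{u}).obj
              (TopCat.Presheaf.stalk (C := RingCat.{u}) (X := X.carrier) A.obj x)
            ι :=
              { app := fun W => (forget₂ RingCat.{u} AddCommGrpCat.{u}).map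
                  (TopCat.Presheaf.germ A.obj W.unop.1 x W.unop.2)
                naturality := fun W W' g => by
                  ext a
                  exact TopCat.Presheaf.germ_res_apply A.obj _ x _ a } }
      (colimit.desc _ c).hom
    have hf : ∀ (W : X.Opens) (hx : x ∈ W) (a : A.obj.obj (op W)),
        f (TopCat.Presheaf.germ (C := Ab.{u}) (X := X.carrier) P.val.presheaf W x hx a) =
          TopCat.Presheaf.germ A.obj W x hx a := fun W hx a =>
      ConcreteCategory.congr_hom (colimit.ι_desc (F := (OpenNhds.inclusion x).op ⋙ P.val.presheaf) _ (op ⟨W, hx⟩)) a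
    have hbij : Function.Bijective f := by
      constructor
      · rw [injective_iff_map_eq_zero]
        intro s hs
        obtain ⟨W, hxW, a, rfl⟩ := TopCat.Presheaf.exists_germ_eq (C := Ab.{u}) (X := X.carrier) P.val.presheaf s
        replace hs : TopCat.Presheaf.germ A.obj W x hxW a = TopCat.Presheaf.germ A.obj W x hxW 0 :=
          ((hf W hxW a).symm.trans hs).trans (map_zero (TopCat.Presheaf.germ A.obj W x hxW).hom).symm
        obtain ⟨W', hxW', i, j, hij⟩ := TopCat.Presheaf.germ_eq A.obj x hxW hxW a 0 hs
        refine (TopCat.Presheaf.germ_ext (C := Ab.{u}) (X := X.carrier) P.val.presheaf (W := W') hxW' i j ?_).trans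
          (map_zero (TopCat.Presheaf.germ (C := Ab.{u}) (X := X.carrier) P.val.presheaf W x hxW).hom)
        exact hij
      · intro s
        obtain ⟨W, hxW, a, rfl⟩ := TopCat.Presheaf.exists_germ_eq (C := RingCat.{u}) (X := X.carrier) A.obj s
        exact ⟨_, hf W hxW a⟩
    have hlin : ∀ (a : As) (s : S), f (a • s) = a * f s := by
      intro a s
      obtain ⟨W, hxW, a, rfl⟩ := TopCat.Presheaf.exists_germ_eq (C := RingCat.{u}) (X := X.carrier) A.obj a
      obtain ⟨W', hxW', b, rfl⟩ := TopCat.Presheaf.exists_germ_eq (C := Ab.{u}) (X := X.carrier) P.val.presheaf s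
      rw [← TopCat.Presheaf.germ_res_apply A.obj (homOfLE inf_le_left : W ⊓ W' ⟶ W) x ⟨hxW, hxW'⟩ a,
        ← TopCat.Presheaf.germ_res_apply P.val.presheaf (homOfLE inf_le_right : W ⊓ W' ⟶ W') x ⟨hxW, hxW'⟩ b]
      refine (congrArg f (PresheafOfModules.germ_ringCat_smul P.val x (W ⊓ W') ⟨hxW, hxW'⟩ _ _).symm).trans ?_
      exact (hf _ _ _).trans ((map_mul (TopCat.Presheaf.germ A.obj (W ⊓ W') x _).hom _ _).trans
        (congrArg _ (hf _ _ _).symm))
    let e : ↑((res φ P).presheaf.stalk x) ≃ₗ[X.presheaf.stalk x] As :=
      { AddEquiv.ofBijective f hbij with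
        map_smul' := fun r s => (congrArg f (key P r s)).trans (hlin (ψ r) s) }
    exact Module.Projective.of_equiv e
  haveI := hMp x
  letI : Module As ↑(N.presheaf.stalk x) :=
    (inferInstance : Module As ↑(TopCat.Presheaf.stalk (C := Ab.{u}) (X := X.carrier) M.val.presheaf x))
  haveI : Module.Projective As ↑(N.presheaf.stalk x) := hMp x
  haveI : Module.Projective (X.presheaf.stalk x) ↑(N.presheaf.stalk x) :=
    projective_trans (P := ↑(N.presheaf.stalk x)) ψ (fun r m => key M r m) hproj
  exact Module.free_of_flat_of_isLocalRing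

end Groth.Agent.S15076
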