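import Groth.Statements.S15077
import Groth.Agent.Lib.CurveBundle.Indec
import Groth.Agent.Lib.TensorMod.Invertible
import Groth.Agent.Lib.ProjSpace.Basic
import Groth.Agent.Lib.ParaF.Pair

set_option autoImplicit false
universe u
open CategoryTheory CategoryTheory.Limits AlgebraicGeometry
open OrdSurf

namespace Groth.Agent.S15077

section Helpers

open CategoryTheory CategoryTheory.Limits AlgebraicGeometry MonoidalCategory
open Groth.Agent.Lib Groth.Agent.Lib.TensorMod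

variable {X : Scheme.{u}}

theorem tmap_add (N : X.Modules) {A B : X.Modules} (f g : A ⟶ B) :
    Basic.tmap (f + g) (𝟙 N) = Basic.tmap f (𝟙 N) + Basic.tmap g (𝟙 N) := by
  haveI : (Basic.sh X).Additive := 
    haveI : (Basic.fgt X).Additive := { map_add := fun {_ _ _ _} => rfl }
    (Basic.adj X).left_adjoint_additive
  show (Basic.sh X).map ((Basic.fgt X).map (f + g) ⊗ₘ (Basic.fgt X).map (𝟙 N)) =
    (Basic.sh X).map ((Basic.fgt X).map f ⊗ₘ (Basic.fgt X).map (𝟙 N)) +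
      (Basic.sh X).map ((Basic.fgt X).map g ⊗ₘ (Basic.fgt X).map (𝟙 N))
  rw [← (Basic.sh X).map_add]
  congr 1
  refine PresheafOfModules.hom_ext fun U => ModuleCat.hom_ext (TensorProduct.ext' fun a b => ?_)
  exact TensorProduct.add_tmul _ _ _

/-- Tensoring by a fixed module distributes over biproducts. -/
theorem tensor_biprod (A B N : X.Modules) :
    Nonempty (CohB1.tensorMod (A ⊞ B) N ≅ CohB1.tensorMod A N ⊞ CohB1.tensorMod B N) := by
  let t : ∀ {P Q : X.Modules}, (P ⟶ Q) → (CohB1.tensorMod P N ⟶ CohB1.tensorMod Q N) :=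
    fun f => Basic.tmap f (𝟙 N)
  have hc : ∀ {P Q R : X.Modules} (f : P ⟶ Q) (g : Q ⟶ R), t (f ≫ g) = t f ≫ t g := fun f g => by
    show Basic.tmap _ _ = _
    rw [← Basic.tmap_comp, Category.id_comp]
  have h0 : ∀ P Q : X.Modules, t (0 : P ⟶ Q) = 0 := fun P Q => by
    have := tmap_add N (0 : P ⟶ Q) 0
    rw [add_zero] at this
    exact left_eq_add.mp this
  refine ⟨{ hom := biprod.lift (t biprod.fst) (t biprod.snd), inv := biprod.desc (t biprod.inl) (t biprod.inr),
            hom_inv_id := ?_, inv_hom_id := ?_ }⟩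
  · rw [biprod.lift_desc, ← hc, ← hc]
    show Basic.tmap _ _ + Basic.tmap _ _ = _
    rw [← tmap_add, biprod.total, Basic.tmap_id]
  · apply biprod.hom_ext <;> apply biprod.hom_ext' <;>
      simp only [Category.assoc, biprod.lift_fst, biprod.lift_snd, biprod.inl_desc_assoc, biprod.inr_desc_assoc,
        Category.comp_id, Category.id_comp, ← hc, biprod.inl_fst, biprod.inl_snd, biprod.inr_fst, biprod.inr_snd,
        h0] <;> exact Basic.tmap_id _ _

theorem isZero_not_of_isInvertible [IsIntegral X] {L : X.Modules} (hL : PicF.IsInvertible L) : ¬ IsZero L :=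
  CurveBundle.Indec.not_isZero_of_rank one_pos (TensorMod.LocFree.of_isInvertible hL)

/-- A retract of invertible modules is an isomorphism. -/
theorem iso_of_isIso_comp [IsIntegral X] {L M : X.Modules} (hL : PicF.IsInvertible L) (hM : PicF.IsInvertible M)
    (a : L ⟶ M) (b : M ⟶ L) [IsIso (a ≫ b)] : Nonempty (L ≅ M) := by
  let q : M ⟶ L := b ≫ inv (a ≫ b)
  have hq : a ≫ q = 𝟙 L := by rw [← Category.assoc, IsIso.hom_inv_id]
  rcases CurveBundle.Indec.idempotent_trivial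
    (CurveBundle.Indec.indecomposable_of_rank_one (TensorMod.LocFree.of_isInvertible hM)) (q ≫ a)
    (by rw [Category.assoc, reassoc_of% hq]) with h | h
  · refine absurd ((IsZero.iff_id_eq_zero L).mpr ?_) (isZero_not_of_isInvertible hL)
    calc 𝟙 L = a ≫ (q ≫ a) ≫ q := by rw [Category.assoc, reassoc_of% hq, hq]
      _ = 0 := by rw [h, Limits.zero_comp, Limits.comp_zero]
  · exact ⟨⟨a, q, hq, h⟩⟩

/-- An invertible retract of a biproduct, summand by summand. -/
theorem isIso_component (k : Type u) [Field k] [IsAlgClosed k] [X.Over (Spec (CommRingCat.of k))] [IsIntegral X]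
    [IsProper (X ↘ Spec (CommRingCat.of k))] {L A B : X.Modules} (hL : PicF.IsInvertible L)
    (s : L ⟶ A ⊞ B) (r : A ⊞ B ⟶ L) [IsIso (s ≫ r)] :
    IsIso ((s ≫ biprod.fst) ≫ biprod.inl ≫ r) ∨ IsIso ((s ≫ biprod.snd) ≫ biprod.inr ≫ r) := by
  have h1 : FlatMod.IsFinLocFreeOfRank 1 L := TensorMod.LocFree.of_isInvertible hL
  have e : s ≫ r = (s ≫ biprod.fst) ≫ biprod.inl ≫ r + (s ≫ biprod.snd) ≫ biprod.inr ≫ r := by
    conv_lhs => rw [← Category.comp_id s, ← biprod.total]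
    simp only [Preadditive.comp_add, Preadditive.add_comp, Category.assoc]
  haveI : IsIso ((s ≫ biprod.fst) ≫ biprod.inl ≫ r + (s ≫ biprod.snd) ≫ biprod.inr ≫ r) := e ▸ ‹IsIso (s ≫ r)›
  exact CurveBundle.Indec.isIso_of_add k h1 (CurveBundle.Indec.indecomposable_of_rank_one h1) _ _

/-- `(A, B, C, D) ↦ (B, A, D, C)`. -/
noncomputable def perm₁ (A B C D : X.Modules) : A ⊞ B ⊞ C ⊞ D ≅ B ⊞ A ⊞ D ⊞ C :=
  (biprod.associator A B (C ⊞ D)).symm ≪≫ biprod.mapIso (biprod.braiding A B) (biprod.braiding C D) ≪≫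
    biprod.associator B A (D ⊞ C)

/-- `(A, B, C, D) ↦ (C, D, A, B)`. -/
noncomputable def perm₂ (A B C D : X.Modules) : A ⊞ B ⊞ C ⊞ D ≅ C ⊞ D ⊞ A ⊞ B :=
  (biprod.associator A B (C ⊞ D)).symm ≪≫ biprod.braiding (A ⊞ B) (C ⊞ D) ≪≫
    biprod.associator C D (A ⊞ B)

end Helpers

/-- Let k be an algebraically closed field of characteristic zero and X a smooth projective surface over
k (an integral k-scheme, smooth over k, of dimension two, admitting a closed immersion over k into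
some projective space P^n_k). Let I and J be invertible O_X-modules that are two-torsion, I ⊗ I ≅
O_X and J ⊗ J ≅ O_X, let K = I ⊗ J, and let F = O_X ⊕ I ⊕ J ⊕ K (so that O_X, I, J, K form a Klein
four-group of classes in Pic X when I, J, K are nontrivial and distinct). Then for every invertible
O_X-module L, the O_X-modules F ⊗ L and F are isomorphic if and only if L is isomorphic to one of
O_X, I, J, K. (The published statement is for the abelian surface E_1 × E_2, with I and J pulled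
back from two-torsion line bundles on the two elliptic curves and F the underlying module of the
quaternion algebra built from them; this row is stated on any smooth projective surface for any
two-torsion invertible I and J.) -/
theorem result (k : Type u) [Field k] [IsAlgClosed k] [CharZero k]
    (X : Scheme.{u}) [X.Over (Spec (CommRingCat.of k))] [IsIntegral X]
    [Smooth (X ↘ Spec (CommRingCat.of k))] (hdim : topologicalKrullDim X = 2)
    (hproj : ∃ (n : ℕ) (ι : X ⟶ CohB1.ProjSpace n k), IsClosedImmersion ι ∧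
      ι ≫ CohB1.ProjSpace.toSpec n k = X ↘ Spec (CommRingCat.of k))
    (I J : X.Modules) (hI : PicF.IsInvertible I) (hJ : PicF.IsInvertible J)
    (hI2 : Nonempty (CohB1.tensorMod I I ≅ Coh.structureModule X))
    (hJ2 : Nonempty (CohB1.tensorMod J J ≅ Coh.structureModule X))
    (L : X.Modules) (hL : PicF.IsInvertible L) :
    Nonempty (CohB1.tensorMod (Coh.structureModule X ⊞ I ⊞ J ⊞ CohB1.tensorMod I J) L ≅
        Coh.structureModule X ⊞ I ⊞ J ⊞ CohB1.tensorMod I J) ↔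
      (Nonempty (L ≅ Coh.structureModule X) ∨ Nonempty (L ≅ I) ∨ Nonempty (L ≅ J) ∨
        Nonempty (L ≅ CohB1.tensorMod I J)) := by
  haveI : IsProper (X ↘ Spec (CommRingCat.of k)) := by
    obtain ⟨n, ι, hι, hfac⟩ := hproj
    haveI := hι
    haveI : IsProper (CohB1.ProjSpace.toSpec n k) := Groth.Agent.Lib.ProjSpace.Basic.isProper_toSpec n k
    rw [← hfac]
    infer_instance
  let O := Coh.structureModule X
  let K := CohB1.tensorMod I J
  let T := fun A B : X.Modules => CohB1.tensorMod A B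
  obtain ⟨eII⟩ := hI2
  obtain ⟨eJJ⟩ := hJ2
  obtain ⟨a₁⟩ := tensor_biprod O (I ⊞ J ⊞ K) L
  obtain ⟨a₂⟩ := tensor_biprod I (J ⊞ K) L
  obtain ⟨a₃⟩ := tensor_biprod J K L
  let dist : T (O ⊞ I ⊞ J ⊞ K) L ≅ T O L ⊞ T I L ⊞ T J L ⊞ T K L :=
    a₁ ≪≫ biprod.mapIso (Iso.refl _) (a₂ ≪≫ biprod.mapIso (Iso.refl _) a₃)
  have hK : PicF.IsInvertible K := Groth.Agent.Lib.TensorMod.Invertible.isInvertible_tensorMod hI hJ
  have hO : PicF.IsInvertible O := Groth.Agent.Lib.ParaF.Pair.isInvertible_structureModule X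
  -- the products
  let rI : ∀ M : X.Modules, T O M ≅ M := Groth.Agent.Lib.TensorMod.Basic.leftUnit
  let rO : ∀ M : X.Modules, T M O ≅ M := Groth.Agent.Lib.TensorMod.Basic.rightUnit
  let eKI : T K I ≅ J :=
    Groth.Agent.Lib.TensorMod.Basic.tensorIso (Groth.Agent.Lib.TensorMod.Basic.comm I J) (Iso.refl I) ≪≫
      Groth.Agent.Lib.TensorMod.Basic.assoc J I I ≪≫
      Groth.Agent.Lib.TensorMod.Basic.tensorIso (Iso.refl J) eII ≪≫ rO J
  let eKJ : T K J ≅ I :=
    Groth.Agent.Lib.TensorMod.Basic.assoc I J J ≪≫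
      Groth.Agent.Lib.TensorMod.Basic.tensorIso (Iso.refl I) eJJ ≪≫ rO I
  let eKK : T K K ≅ O :=
    (Groth.Agent.Lib.TensorMod.Basic.assoc K I J).symm ≪≫
      Groth.Agent.Lib.TensorMod.Basic.tensorIso eKI (Iso.refl J) ≪≫ eJJ
  let cm := Groth.Agent.Lib.TensorMod.Basic.comm (X := X)
  let chg : ∀ {M : X.Modules} (_ : L ≅ M) (A : X.Modules), T A L ≅ T A M := fun e A =>
    Groth.Agent.Lib.TensorMod.Basic.tensorIso (Iso.refl A) e
  let fin : ∀ {M A B C D : X.Modules} (_ : L ≅ M) (_ : T O M ≅ A) (_ : T I M ≅ B) (_ : T J M ≅ C) (_ : T K M ≅ D),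
      T (O ⊞ I ⊞ J ⊞ K) L ≅ A ⊞ B ⊞ C ⊞ D := fun e eA eB eC eD =>
    dist ≪≫ biprod.mapIso (chg e O ≪≫ eA) (biprod.mapIso (chg e I ≪≫ eB) (biprod.mapIso (chg e J ≪≫ eC) (chg e K ≪≫ eD)))
  refine ⟨fun ⟨α⟩ => ?_, fun h => ?_⟩
  · let σ := biprod.inl ≫ dist.inv ≫ α.hom
    let ρ := α.inv ≫ dist.hom ≫ biprod.fst
    let s : L ⟶ O ⊞ I ⊞ J ⊞ K := (rI L).inv ≫ σ
    let r : O ⊞ I ⊞ J ⊞ K ⟶ L := ρ ≫ (rI L).hom
    haveI : IsIso (s ≫ r) := by
      have h1 : σ ≫ ρ = 𝟙 (T O L) := by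
        simp only [σ, ρ, Category.assoc]
        erw [α.hom_inv_id_assoc, dist.inv_hom_id_assoc]
        exact biprod.inl_fst
      have h2 : s ≫ r = 𝟙 L := by
        show ((rI L).inv ≫ σ) ≫ ρ ≫ (rI L).hom = 𝟙 L
        rw [Category.assoc, ← Category.assoc σ, h1, Category.id_comp, Iso.inv_hom_id]
      rw [h2]
      infer_instance
    rcases isIso_component k hL s r with h1 | h1
    · exact Or.inl (iso_of_isIso_comp hL hO (s ≫ biprod.fst) (biprod.inl ≫ r))
    rcases isIso_component k hL (s ≫ biprod.snd) (biprod.inr ≫ r) with h2 | h2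
    · exact Or.inr (Or.inl (iso_of_isIso_comp hL hI ((s ≫ biprod.snd) ≫ biprod.fst) (biprod.inl ≫ biprod.inr ≫ r)))
    rcases isIso_component k hL ((s ≫ biprod.snd) ≫ biprod.snd) (biprod.inr ≫ biprod.inr ≫ r) with h3 | h3
    · exact Or.inr (Or.inr (Or.inl (iso_of_isIso_comp hL hJ (((s ≫ biprod.snd) ≫ biprod.snd) ≫ biprod.fst) (biprod.inl ≫ biprod.inr ≫ biprod.inr ≫ r))))
    · exact Or.inr (Or.inr (Or.inr (iso_of_isIso_comp hL hK (((s ≫ biprod.snd) ≫ biprod.snd) ≫ biprod.snd) (biprod.inr ≫ biprod.inr ≫ biprod.inr ≫ r))))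
  · rcases h with ⟨⟨e⟩⟩ | ⟨⟨e⟩⟩ | ⟨⟨e⟩⟩ | ⟨⟨e⟩⟩
    · exact ⟨fin e (rI O) (rO I) (rO J) (rO K)⟩
    · exact ⟨fin e (rI I) eII (cm J I) eKI ≪≫ perm₁ I O K J⟩
    · exact ⟨fin e (rI J) (Iso.refl K) eJJ eKJ ≪≫ perm₂ J K O I⟩
    · exact ⟨fin e (rI K) (cm I K ≪≫ eKI) (cm J K ≪≫ eKJ) eKK ≪≫ perm₁ K J I O ≪≫ perm₂ J K O I⟩

end Groth.Agent.S15077
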