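import Groth.Statements.S15078
import Mathlib
-- import your own Groth.Agent.* helpers here

set_option autoImplicit false
universe u v
open MovLem

namespace Groth.Agent.S15078

open Polynomial in
theorem top {σ : Type*} {k : Type u} [Field k] {K : Type v} [Field K] [Algebra k K] (g : σ → K) (N : ℕ)
    (c : MvPolynomial σ k) (D : ℕ) (hD : c.totalDegree ≤ D) :
    (MvPolynomial.aeval (fun i => C (MvPolynomial.X i) + C (MvPolynomial.C (g i)) * X ^ N) c :
        Polynomial (MvPolynomial σ K)).natDegree ≤ D * N ∧
      (0 < N → (MvPolynomial.aeval (fun i => C (MvPolynomial.X i) + C (MvPolynomial.C (g i)) * X ^ N) c :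
          Polynomial (MvPolynomial σ K)).coeff (D * N) =
        MvPolynomial.C (MvPolynomial.aeval g (MvPolynomial.homogeneousComponent D c))) := by
  classical
  set z : σ → Polynomial (MvPolynomial σ K) := fun i => C (MvPolynomial.X i) + C (MvPolynomial.C (g i)) * X ^ N
  have hz1 : ∀ i, (z i).natDegree ≤ N := fun i => (Polynomial.natDegree_add_le _ _).trans (max_le (by simp) (Polynomial.natDegree_C_mul_X_pow_le _ _))
  have hz2 : ∀ i, 0 < N → (z i).coeff N = MvPolynomial.C (g i) := fun i hN => by simp [z, Polynomial.coeff_C, hN.ne']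
  have hmon : ∀ (e : σ →₀ ℕ), (e.prod fun i n => z i ^ n).natDegree ≤ e.degree * N ∧
      (0 < N → (e.prod fun i n => z i ^ n).coeff (e.degree * N) = MvPolynomial.C (e.prod fun i n => g i ^ n)) := by
    intro e
    induction e using Finsupp.induction with
    | zero => simp
    | single_add i n e hie hn ih =>
      have hpow : ∀ n : ℕ, (z i ^ n).natDegree ≤ n * N ∧ (0 < N → (z i ^ n).coeff (n * N) = MvPolynomial.C (g i ^ n)) := fun n =>
        ⟨Polynomial.natDegree_pow_le_of_le n (hz1 i), fun hN => by
          rw [Polynomial.coeff_pow_of_natDegree_le (hz1 i), hz2 i hN, map_pow]⟩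
      rw [Finsupp.prod_add_index' (fun _ => pow_zero _) (fun _ _ _ => pow_add _ _ _), Finsupp.prod_single_index (h := fun i n => z i ^ n) (pow_zero _),
        Finsupp.prod_add_index' (fun _ => pow_zero _) (fun _ _ _ => pow_add _ _ _), Finsupp.prod_single_index (h := fun i n => g i ^ n) (pow_zero _),
        map_add, Finsupp.degree_single, add_mul]
      refine ⟨Polynomial.natDegree_mul_le.trans (Nat.add_le_add (hpow n).1 ih.1), fun hN => ?_⟩
      rw [Polynomial.coeff_mul_add_eq_of_natDegree_le (hpow n).1 ih.1, (hpow n).2 hN, ih.2 hN, map_mul]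
  have hdeg : ∀ e ∈ c.support, e.degree ≤ D := fun e he =>
    le_trans (le_of_eq (by rw [Finsupp.degree_apply]; rfl)) ((MvPolynomial.le_totalDegree he).trans hD)
  constructor
  · nth_rw 1 [c.as_sum]
    rw [map_sum]
    refine Polynomial.natDegree_sum_le_of_forall_le _ _ fun e he => ?_
    rw [MvPolynomial.aeval_monomial]
    refine Polynomial.natDegree_mul_le.trans ?_
    rw [Polynomial.algebraMap_apply, Polynomial.natDegree_C, zero_add]
    exact (hmon e).1.trans (Nat.mul_le_mul_right N (hdeg e he))
  · intro hN
    rw [MvPolynomial.homogeneousComponent_apply]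
    nth_rw 1 [c.as_sum]
    rw [map_sum (MvPolynomial.aeval z), Polynomial.finsetSum_coeff, map_sum, map_sum, Finset.sum_filter]
    refine Finset.sum_congr rfl fun e he => ?_
    rw [MvPolynomial.aeval_monomial, Polynomial.algebraMap_apply, Polynomial.coeff_C_mul]
    split_ifs with h
    · rw [← h, (hmon e).2 hN, MvPolynomial.aeval_monomial, map_mul]
      rfl
    · rw [Polynomial.coeff_eq_zero_of_natDegree_lt ((hmon e).1.trans_lt ?_), mul_zero]
      exact Nat.mul_lt_mul_of_pos_right (lt_of_le_of_ne (hdeg e he) h) hN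


/-- Let k be an infinite perfect field, r, m ≥ 1, and let f be a nonzero polynomial in the variable t
with coefficients in the polynomial ring k[x_1, …, x_r]. Then there are a nonzero polynomial h in
k[x_1, …, x_r] and an integer s₀ such that for every s ≥ s₀, every field K over k and every point g
of K^r with h(g) ≠ 0, the polynomial obtained from f by the substitution x_i ↦ x_i + t^{s(m+1)} g_i,
t ↦ t has as leading coefficient in t a nonzero constant of K; in particular, after dividing by that
constant it is monic in t over K[x_1, …, x_r]. (The published statement asks for a nonempty open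
subset of affine r-space over k, independent of s, such that this holds at each of its points g with
residue field K = k(g); the locus h ≠ 0 used here is such an open subset, and every nonempty open
subset contains one of this form.) -/
theorem result
    {k : Type u} [Field k] [Infinite k] [PerfectField k] (r m : ℕ) (hr : 1 ≤ r) (hm : 1 ≤ m)
    (f : Polynomial (MvPolynomial (Fin r) k)) (hf : f ≠ 0) :
    ∃ h : MvPolynomial (Fin r) k, h ≠ 0 ∧ ∃ s₀ : ℕ, ∀ s : ℕ, s₀ ≤ s →
      ∀ (K : Type v) [Field K] [Algebra k K] (g : Fin r → K), MvPolynomial.aeval g h ≠ 0 →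
        ∃ c : K, c ≠ 0 ∧
          (Polynomial.eval₂ (MvPolynomial.aeval (fun i : Fin r => Polynomial.C (MvPolynomial.X i) + Polynomial.C (MvPolynomial.C (g i)) * Polynomial.X ^ (s * (m + 1))) : MvPolynomial (Fin r) k →ₐ[k] Polynomial (MvPolynomial (Fin r) K)).toRingHom Polynomial.X f).leadingCoeff = MvPolynomial.C c := by
  classical
  obtain ⟨j₁, hj₁⟩ := Polynomial.support_nonempty.2 hf
  obtain ⟨j₀, hj₀, hmax⟩ := Finset.exists_max_image f.support (fun j => (f.coeff j).totalDegree * (f.natDegree + 1) + j) ⟨j₁, hj₁⟩
  set D := (f.coeff j₀).totalDegree with hD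
  set h := MvPolynomial.homogeneousComponent D (f.coeff j₀) with hh
  have hne : h ≠ 0 := by
    have hc : f.coeff j₀ ≠ 0 := Polynomial.mem_support_iff.1 hj₀
    obtain ⟨e, he, hemax⟩ := Finset.exists_mem_eq_sup _ (MvPolynomial.support_nonempty.2 hc) (fun e : Fin r →₀ ℕ => e.sum fun _ n => n)
    intro h0
    have := congrArg (MvPolynomial.coeff e) h0
    rw [hh, MvPolynomial.coeff_homogeneousComponent, if_pos, MvPolynomial.coeff_zero] at this
    · exact MvPolynomial.mem_support_iff.1 he this
    · rw [hD, Finsupp.degree_apply]; exact hemax.symm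
  refine ⟨h, hne, f.natDegree + 1, fun s hs K _ _ g hg => ⟨MvPolynomial.aeval g h, hg, ?_⟩⟩
  set N := s * (m + 1) with hN
  have hNs : f.natDegree + 1 ≤ N := hs.trans (Nat.le_mul_of_pos_right s m.succ_pos)
  have hlt : ∀ j ∈ f.support, j ≠ j₀ → (f.coeff j).totalDegree * N + j < D * N + j₀ := by
    intro j hj hne'
    have h1 := hmax j hj
    have hj' := Polynomial.le_natDegree_of_mem_supp j hj
    have hj0' := Polynomial.le_natDegree_of_mem_supp j₀ hj₀
    rcases Nat.lt_trichotomy (f.coeff j).totalDegree D with h2 | h2 | h2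
    · calc (f.coeff j).totalDegree * N + j < (f.coeff j).totalDegree * N + N := by omega
        _ = ((f.coeff j).totalDegree + 1) * N := by ring
        _ ≤ D * N := Nat.mul_le_mul_right N h2
        _ ≤ _ := Nat.le_add_right _ _
    · rw [h2] at h1 ⊢; omega
    · exfalso
      have : (D + 1) * (f.natDegree + 1) ≤ (f.coeff j).totalDegree * (f.natDegree + 1) := Nat.mul_le_mul_right _ h2
      rw [add_mul, one_mul] at this
      omega
  set Φ := Polynomial.eval₂ (MvPolynomial.aeval (fun i : Fin r => Polynomial.C (MvPolynomial.X i) + Polynomial.C (MvPolynomial.C (g i)) * Polynomial.X ^ N) : MvPolynomial (Fin r) k →ₐ[k] Polynomial (MvPolynomial (Fin r) K)).toRingHom Polynomial.X f with hΦ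
  have hsum : Φ = ∑ j ∈ f.support, MvPolynomial.aeval (fun i : Fin r => Polynomial.C (MvPolynomial.X i) + Polynomial.C (MvPolynomial.C (g i)) * Polynomial.X ^ N) (f.coeff j) * Polynomial.X ^ j := by
    rw [hΦ, Polynomial.eval₂_eq_sum, Polynomial.sum]; rfl
  have hle : Φ.natDegree ≤ D * N + j₀ := by
    rw [hsum]
    refine Polynomial.natDegree_sum_le_of_forall_le _ _ fun j hj => ?_
    refine Polynomial.natDegree_mul_le.trans ((Nat.add_le_add (top g N _ _ le_rfl).1 (Polynomial.natDegree_X_pow_le j)).trans ?_)
    rcases eq_or_ne j j₀ with rfl | hne'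
    · exact le_rfl
    · exact (hlt j hj hne').le
  have hcoeff : Φ.coeff (D * N + j₀) = MvPolynomial.C (MvPolynomial.aeval g h) := by
    rw [hsum, Polynomial.finsetSum_coeff, Finset.sum_eq_single j₀]
    · rw [Polynomial.coeff_mul_X_pow]; exact (top g N _ _ le_rfl).2 (by omega)
    · intro j hj hne'
      refine Polynomial.coeff_eq_zero_of_natDegree_lt ?_
      exact (Polynomial.natDegree_mul_le.trans (Nat.add_le_add (top g N _ _ le_rfl).1 (Polynomial.natDegree_X_pow_le j))).trans_lt (hlt j hj hne')
    · exact fun h0 => absurd hj₀ h0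
  rw [Polynomial.leadingCoeff, Polynomial.natDegree_eq_of_le_of_coeff_ne_zero hle (by rw [hcoeff]; exact fun h0 => hg (MvPolynomial.C_eq_zero.1 h0)), hcoeff]

end Groth.Agent.S15078
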