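import Groth.Statements.S15079
import Mathlib
-- import your own Groth.Agent.* helpers here

set_option autoImplicit false
universe u v
open MovLem

namespace Groth.Agent.S15079

theorem subst_bound {k : Type u} [Field k] {r : ℕ} {K : Type v} [Field K] [Algebra k K] (g : Fin r → K) (M : ℕ)
    (q : MvPolynomial (Fin r) k) (D : ℕ) (hq : q.totalDegree ≤ D) :
    (MvPolynomial.aeval (fun i : Fin r => Polynomial.C (MvPolynomial.X i) + Polynomial.C (MvPolynomial.C (g i)) * Polynomial.X ^ M) q :
        Polynomial (MvPolynomial (Fin r) K)).natDegree ≤ M * D ∧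
    (0 < M → (MvPolynomial.aeval (fun i : Fin r => Polynomial.C (MvPolynomial.X i) + Polynomial.C (MvPolynomial.C (g i)) * Polynomial.X ^ M) q :
        Polynomial (MvPolynomial (Fin r) K)).coeff (M * D) = MvPolynomial.C (MvPolynomial.aeval g (MvPolynomial.homogeneousComponent D q))) := by
  classical
  set Φ : Fin r → Polynomial (MvPolynomial (Fin r) K) := fun i => Polynomial.C (MvPolynomial.X i) + Polynomial.C (MvPolynomial.C (g i)) * Polynomial.X ^ M with hΦ
  have hΦd : ∀ i, (Φ i).natDegree ≤ M := fun i => (Polynomial.natDegree_add_le _ _).trans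
    (max_le (by simp) (Polynomial.natDegree_C_mul_X_pow_le _ _))
  have hpd : ∀ (m : Fin r →₀ ℕ), (∏ i, Φ i ^ m i).natDegree ≤ M * ∑ i, m i := fun m =>
    (Polynomial.natDegree_prod_le _ _).trans (by
      rw [Finset.mul_sum]
      exact Finset.sum_le_sum fun i _ => Polynomial.natDegree_pow_le.trans (by rw [mul_comm]; exact Nat.mul_le_mul_right _ (hΦd i)))
  have hcoef : 0 < M → ∀ (m : Fin r →₀ ℕ), (∏ i, Φ i ^ m i).coeff (M * ∑ i, m i) = MvPolynomial.C (∏ i, g i ^ m i) := by
    intro hM m
    have hind : ∀ t : Finset (Fin r), (∏ i ∈ t, Φ i ^ m i).natDegree ≤ M * ∑ i ∈ t, m i ∧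
        (∏ i ∈ t, Φ i ^ m i).coeff (M * ∑ i ∈ t, m i) = MvPolynomial.C (∏ i ∈ t, g i ^ m i) := by
      intro t
      induction t using Finset.induction_on with
      | empty => simp
      | insert a t ha ih =>
        rw [Finset.prod_insert ha, Finset.sum_insert ha, Finset.prod_insert ha, mul_add]
        have h1 : (Φ a ^ m a).natDegree ≤ M * m a :=
          Polynomial.natDegree_pow_le.trans (by rw [mul_comm]; exact Nat.mul_le_mul_right _ (hΦd a))
        refine ⟨Polynomial.natDegree_mul_le.trans (add_le_add h1 ih.1), ?_⟩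
        rw [Polynomial.coeff_mul_add_eq_of_natDegree_le h1 ih.1, ih.2, mul_comm M (m a),
          Polynomial.coeff_pow_of_natDegree_le (hΦd a)]
        simp [hΦ, Polynomial.coeff_C, hM.ne', map_mul]
    exact (hind Finset.univ).2
  rw [show MvPolynomial.aeval Φ q = ∑ m ∈ q.support, Polynomial.C (MvPolynomial.C (algebraMap k K (MvPolynomial.coeff m q))) * ∏ i, Φ i ^ m i by
    rw [MvPolynomial.aeval_def, MvPolynomial.eval₂_eq']
    rfl]
  have hdeg : ∀ m ∈ q.support, ∑ i, m i ≤ D := fun m hm =>
    le_trans (le_of_eq (by rw [Finsupp.sum_fintype]; simp)) ((MvPolynomial.le_totalDegree hm).trans hq)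
  refine ⟨Polynomial.natDegree_sum_le_of_forall_le _ _ fun m hm => (Polynomial.natDegree_C_mul_le _ _).trans
    ((hpd m).trans (Nat.mul_le_mul_left _ (hdeg m hm))), fun hM => ?_⟩
  rw [Polynomial.finsetSum_coeff, MvPolynomial.homogeneousComponent_apply, map_sum, map_sum, Finset.sum_filter]
  refine Finset.sum_congr rfl fun m hm => ?_
  rw [Polynomial.coeff_C_mul]
  have hmd : m.degree = ∑ i, m i := Finsupp.degree_eq_sum m
  split_ifs with h
  · rw [← h, hmd, hcoef hM m, ← map_mul]
    congr 1
    rw [MvPolynomial.aeval_monomial, Finsupp.prod_fintype _ _ (fun i => pow_zero _)]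
  · rw [Polynomial.coeff_eq_zero_of_natDegree_lt (lt_of_le_of_lt (hpd m) ?_), mul_zero]
    exact Nat.mul_lt_mul_of_pos_left (lt_of_le_of_ne (hdeg m hm) (by rw [← hmd]; exact h)) hM


/-- Let k be an infinite perfect field, r, m ≥ 1, and let f be an irreducible polynomial in t over
k[x_1, …, x_r] whose constant term in t is a unit of k[x_1, …, x_r], so that the hypersurface Z : f
= 0 in affine (r+1)-space with coordinates x_1, …, x_r, t is integral and does not meet the divisor
t = 0 (the modulus condition in cubical degree one). Then there are a nonzero polynomial h in k[x_1,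
…, x_r] and an integer s₀ such that for every s ≥ s₀, every field K over k and every point g of K^r
with h(g) ≠ 0, the translate of Z_K by the automorphism x_i ↦ x_i + t^{s(m+1)} g_i, t ↦ t is finite
and surjective over affine r-space over K: the quotient of K[x_1, …, x_r][t] by the translated
equation is a finitely generated K[x_1, …, x_r]-module and K[x_1, …, x_r] maps injectively into it.
(The published statement allows every nonzero point g of affine r-space; for r = 2 and f = x_1 t − 1
the point g = (0, 1) translates Z to itself, which is not finite over the affine plane, so the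
conclusion is stated here for g in a nonempty open subset h ≠ 0, which is what the published proof
establishes.) -/
theorem result
    {k : Type u} [Field k] [Infinite k] [PerfectField k] (r m : ℕ) (hr : 1 ≤ r) (hm : 1 ≤ m)
    (f : Polynomial (MvPolynomial (Fin r) k)) (hirr : Irreducible f) (h0 : IsUnit (f.coeff 0)) :
    ∃ h : MvPolynomial (Fin r) k, h ≠ 0 ∧ ∃ s₀ : ℕ, ∀ s : ℕ, s₀ ≤ s →
      ∀ (K : Type v) [Field K] [Algebra k K] (g : Fin r → K), MvPolynomial.aeval g h ≠ 0 →
        ∀ F : Polynomial (MvPolynomial (Fin r) K),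
          F = Polynomial.eval₂ (MvPolynomial.aeval (fun i : Fin r => Polynomial.C (MvPolynomial.X i) + Polynomial.C (MvPolynomial.C (g i)) * Polynomial.X ^ (s * (m + 1))) : MvPolynomial (Fin r) k →ₐ[k] Polynomial (MvPolynomial (Fin r) K)).toRingHom Polynomial.X f →
          Module.Finite (MvPolynomial (Fin r) K) (Polynomial (MvPolynomial (Fin r) K) ⧸ Ideal.span {F}) ∧
          Function.Injective ((Ideal.Quotient.mk (Ideal.span {F})).comp (algebraMap (MvPolynomial (Fin r) K) (Polynomial (MvPolynomial (Fin r) K)))) := by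
  classical
  have hf0 : f ≠ 0 := hirr.ne_zero
  set D := f.support.sup (fun j => (f.coeff j).totalDegree) with hD
  set T := f.support.filter (fun j => (f.coeff j).totalDegree = D) with hT
  have hTne : T.Nonempty := by
    obtain ⟨j, hj, hj'⟩ := Finset.exists_mem_eq_sup f.support (Polynomial.support_nonempty.mpr hf0) (fun j => (f.coeff j).totalDegree)
    exact ⟨j, Finset.mem_filter.mpr ⟨hj, hj'.symm⟩⟩
  set J := T.max' hTne with hJ
  obtain ⟨hJs, hJD⟩ := Finset.mem_filter.mp (T.max'_mem hTne)
  refine ⟨MvPolynomial.homogeneousComponent D (f.coeff J), ?_, f.natDegree + 1, fun s hs K _ _ g hg F hF => ?_⟩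
  · intro h0
    have hne : f.coeff J ≠ 0 := Polynomial.mem_support_iff.mp hJs
    obtain ⟨m, hm, hmd⟩ := Finset.exists_mem_eq_sup (f.coeff J).support (MvPolynomial.support_nonempty.mpr hne) (fun m => m.sum fun _ e => e)
    have := congrArg (MvPolynomial.coeff m) h0
    rw [MvPolynomial.coeff_homogeneousComponent, MvPolynomial.coeff_zero, if_pos] at this
    · exact MvPolynomial.mem_support_iff.mp hm this
    · rw [← hJD]; exact hmd.symm
  set M := s * (m + 1) with hM
  have hMlt : f.natDegree < M := lt_of_lt_of_le (Nat.lt_of_succ_le hs) (Nat.le_mul_of_pos_right s (Nat.succ_pos m))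
  set φ := (MvPolynomial.aeval (fun i : Fin r => Polynomial.C (MvPolynomial.X i) + Polynomial.C (MvPolynomial.C (g i)) * Polynomial.X ^ M) : MvPolynomial (Fin r) k →ₐ[k] Polynomial (MvPolynomial (Fin r) K))
  have hFsum : F = ∑ j ∈ f.support, φ (f.coeff j) * Polynomial.X ^ j := by
    rw [hF, Polynomial.eval₂_eq_sum, Polynomial.sum_def]
    rfl
  have hterm : ∀ j ∈ f.support, j ≠ J → (φ (f.coeff j) * Polynomial.X ^ j).natDegree < M * D + J := by
    intro j hj hne
    refine lt_of_le_of_lt (Polynomial.natDegree_mul_le.trans (add_le_add (subst_bound g M _ _ le_rfl).1 (Polynomial.natDegree_X_pow_le j))) ?_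
    have hjD : (f.coeff j).totalDegree ≤ D := Finset.le_sup (f := fun j => (f.coeff j).totalDegree) hj
    rcases hjD.lt_or_eq with hlt | heq
    · have hjn : j ≤ f.natDegree := Polynomial.le_natDegree_of_mem_supp _ hj
      have : M * (f.coeff j).totalDegree + M ≤ M * D := by rw [← Nat.mul_succ]; exact Nat.mul_le_mul_left _ hlt
      omega
    · rw [heq]
      have : j ≤ J := Finset.le_max' T j (Finset.mem_filter.mpr ⟨hj, heq⟩)
      omega
  set L : MvPolynomial (Fin r) K := MvPolynomial.C (MvPolynomial.aeval g (MvPolynomial.homogeneousComponent D (f.coeff J))) with hL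
  have hFd : F.natDegree ≤ M * D + J := by
    rw [hFsum]
    refine Polynomial.natDegree_sum_le_of_forall_le _ _ fun j hj => ?_
    by_cases h : j = J
    · subst h
      exact Polynomial.natDegree_mul_le.trans (add_le_add (subst_bound g M _ D (le_of_eq hJD)).1 (Polynomial.natDegree_X_pow_le _))
    · exact (hterm j hj h).le
  have hFc : F.coeff (M * D + J) = L := by
    rw [hFsum, Polynomial.finsetSum_coeff, Finset.sum_eq_single_of_mem J hJs]
    · rw [Polynomial.coeff_mul_X_pow, (subst_bound g M _ D (le_of_eq hJD)).2 (by omega)]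
    · intro j hj hne
      exact Polynomial.coeff_eq_zero_of_natDegree_lt (hterm j hj hne)
  have hLu : IsUnit L := (IsUnit.mk0 _ hg).map MvPolynomial.C
  obtain ⟨u, hu⟩ := hLu
  have hpos : 0 < M * D + J := by
    by_contra hcon
    have hJ0 : J = 0 := by omega
    have hD0 : M * D = 0 := by omega
    have hD00 : D = 0 := by
      rcases Nat.mul_eq_zero.mp hD0 with h | h
      · omega
      · exact h
    apply hirr.not_isUnit
    have hsub : ∀ j ∈ f.support, j = 0 := fun j hj => Nat.le_zero.mp (hJ0 ▸ Finset.le_max' T j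
      (Finset.mem_filter.mpr ⟨hj, by
        have := Finset.le_sup (f := fun j => (f.coeff j).totalDegree) hj
        omega⟩))
    rw [Polynomial.eq_C_of_natDegree_eq_zero (p := f) (Nat.le_zero.mp (Polynomial.natDegree_le_iff_coeff_eq_zero.mpr fun j hj => by
      by_contra hne
      have := hsub j (Polynomial.mem_support_iff.mpr hne)
      omega))]
    exact h0.map Polynomial.C
  set F' := Polynomial.C (↑u⁻¹ : MvPolynomial (Fin r) K) * F with hF'
  have hF'm : F'.Monic := by
    refine Polynomial.monic_of_natDegree_le_of_coeff_eq_one (M * D + J) ((Polynomial.natDegree_C_mul_le _ _).trans hFd) ?_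
    rw [hF', Polynomial.coeff_C_mul, hFc, ← hu, Units.inv_mul]
  have hspan : Ideal.span {F} = Ideal.span {F'} := by
    rw [hF', Ideal.span_singleton_mul_left_unit (Polynomial.isUnit_C.mpr (Units.isUnit _))]
  rw [hspan]
  refine ⟨hF'm.finite_quotient, ?_⟩
  rw [injective_iff_map_eq_zero]
  intro a ha
  rw [RingHom.comp_apply, Ideal.Quotient.eq_zero_iff_mem, Ideal.mem_span_singleton] at ha
  by_contra hne
  have hdeg : F'.natDegree = M * D + J := Polynomial.natDegree_eq_of_le_of_coeff_ne_zero ((Polynomial.natDegree_C_mul_le _ _).trans hFd) (by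
    rw [hF', Polynomial.coeff_C_mul, hFc, ← hu, Units.inv_mul]; exact one_ne_zero)
  have := Polynomial.natDegree_le_of_dvd ha (by simpa [Polynomial.algebraMap_eq] using hne)
  rw [Polynomial.algebraMap_eq, Polynomial.natDegree_C, hdeg] at this
  omega

end Groth.Agent.S15079
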