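import Groth.Statements.S15083
import Mathlib

set_option autoImplicit false
universe u
open MovLem

namespace Groth.Agent.S15083

section
open Matrix Matrix.SpecialLinearGroup
variable {ι : Type*} [Fintype ι] [DecidableEq ι] {K : Type*} [Field K]

lemma path {i j : ι} (hij : i ≠ j) (a : K) :
    ∃ M : Matrix.SpecialLinearGroup ι (Polynomial K),
      Matrix.SpecialLinearGroup.map (Polynomial.evalRingHom (0 : K)) M = 1 ∧
      Matrix.SpecialLinearGroup.map (Polynomial.evalRingHom (1 : K)) M =
        Matrix.SpecialLinearGroup.transvection hij a := by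
  refine ⟨Matrix.SpecialLinearGroup.transvection hij (Polynomial.C a * Polynomial.X), ?_, ?_⟩ <;>
  · refine Subtype.ext (Matrix.ext fun k l => ?_)
    by_cases h1 : i = k <;> by_cases h2 : j = l <;>
      simp [Matrix.SpecialLinearGroup.transvection_coe, Matrix.one_apply, h1, h2, Matrix.single, apply_ite]

lemma mul_path {A B : Matrix.SpecialLinearGroup ι K}
    (hA : ∃ M : Matrix.SpecialLinearGroup ι (Polynomial K),
      Matrix.SpecialLinearGroup.map (Polynomial.evalRingHom (0 : K)) M = 1 ∧
      Matrix.SpecialLinearGroup.map (Polynomial.evalRingHom (1 : K)) M = A)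
    (hB : ∃ M : Matrix.SpecialLinearGroup ι (Polynomial K),
      Matrix.SpecialLinearGroup.map (Polynomial.evalRingHom (0 : K)) M = 1 ∧
      Matrix.SpecialLinearGroup.map (Polynomial.evalRingHom (1 : K)) M = B) :
    ∃ M : Matrix.SpecialLinearGroup ι (Polynomial K),
      Matrix.SpecialLinearGroup.map (Polynomial.evalRingHom (0 : K)) M = 1 ∧
      Matrix.SpecialLinearGroup.map (Polynomial.evalRingHom (1 : K)) M = A * B := by
  obtain ⟨M, h0, h1⟩ := hA
  obtain ⟨N, g0, g1⟩ := hB
  exact ⟨M * N, by rw [map_mul, h0, g0, one_mul], by rw [map_mul, h1, g1]⟩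

lemma w_eq {i j : ι} (hij : i ≠ j) (a : K) (ha : a ≠ 0) :
    (1 + Matrix.single i j a) * (1 + Matrix.single j i (-a⁻¹)) * (1 + Matrix.single i j a) =
      1 + Matrix.single i i (-1 : K) + Matrix.single j j (-1 : K) + Matrix.single i j a +
        Matrix.single j i (-a⁻¹) := by
  simp [mul_add, add_mul, hij, hij.symm, ha]
  ext k l
  simp [Matrix.single, Matrix.one_apply]
  split_ifs <;> simp_all <;> ring

lemma diag_eq {i j : ι} (hij : i ≠ j) (a : K) (ha : a ≠ 0) :
    diag2n hij a ha =
      (Matrix.SpecialLinearGroup.transvection hij a *
        Matrix.SpecialLinearGroup.transvection hij.symm (-a⁻¹) *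
        Matrix.SpecialLinearGroup.transvection hij a) *
      (Matrix.SpecialLinearGroup.transvection hij (-1 : K) *
        Matrix.SpecialLinearGroup.transvection hij.symm (-(-1 : K)⁻¹) *
        Matrix.SpecialLinearGroup.transvection hij (-1 : K)) := by
  apply Subtype.ext
  simp only [Matrix.SpecialLinearGroup.coe_mul, Matrix.SpecialLinearGroup.transvection_coe, diag2n_coe]
  rw [w_eq hij a ha, w_eq hij (-1 : K) (by norm_num)]
  simp only [mul_add, add_mul, one_mul, mul_one, Matrix.single_mul_single_same,
    Matrix.single_mul_single_of_ne _ _ _ _ hij, Matrix.single_mul_single_of_ne _ _ _ _ hij.symm]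
  ext k l
  simp only [Matrix.single, Matrix.of_apply, Matrix.one_apply, Matrix.diagonal_apply, Matrix.add_apply, Matrix.zero_apply]
  by_cases hki : k = i
  · subst hki
    by_cases hlk : l = k
    · subst hlk; simp [hij, hij.symm]
    · by_cases hlj : l = j
      · subst hlj; simp [hij, hij.symm]
      · simp [hij, hij.symm, hlk, hlj, Ne.symm hlk, Ne.symm hlj]
  · by_cases hkj : k = j
    · subst hkj
      by_cases hlk : l = k
      · subst hlk; simp [hij, hij.symm]
      · by_cases hli : l = i
        · subst hli; simp [hij, hij.symm]
        · simp [hij, hij.symm, hlk, hli, Ne.symm hlk, Ne.symm hli]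
    · simp [hki, hkj, Ne.symm hki, Ne.symm hkj]

end

/-- Let K be a field and r ≥ 1. For every element A of the special linear group SL_{r+1}(K) there is an
algebraic path in SL_{r+1} from the identity to A defined over K: a matrix M of determinant 1 with
entries in the polynomial ring K[y] such that M(0) is the identity matrix and M(1) = A. (The
published statement takes K to be the function field of SL_{r+1} over the ground field, A its
generic point viewed as a K-rational point, and the parameter space to be the projective line minus
the point 1, with endpoints 0 and ∞; this row gives the path for an arbitrary K-point A on the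
affine line with endpoints 0 and 1, which is what the published construction provides before
composing with the coordinate change y ↦ y/(y − 1).) -/
theorem result
    (K : Type u) [Field K] (r : ℕ) (hr : 1 ≤ r)
    (A : Matrix.SpecialLinearGroup (Fin (r + 1)) K) :
    ∃ M : Matrix.SpecialLinearGroup (Fin (r + 1)) (Polynomial K),
      Matrix.SpecialLinearGroup.map (Polynomial.evalRingHom (0 : K)) M = 1 ∧
      Matrix.SpecialLinearGroup.map (Polynomial.evalRingHom (1 : K)) M = A := by
  obtain ⟨r, rfl⟩ : ∃ s, r = s + 1 := ⟨r - 1, by omega⟩
  refine Matrix.SpecialLinearGroup.diagonal_transvection_induction'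
    (fun A => ∃ M : Matrix.SpecialLinearGroup (Fin (r + 1 + 1)) (Polynomial K),
      Matrix.SpecialLinearGroup.map (Polynomial.evalRingHom (0 : K)) M = 1 ∧
      Matrix.SpecialLinearGroup.map (Polynomial.evalRingHom (1 : K)) M = A) A ?_
    (fun i j hij a => path hij a) (fun A B hA hB => mul_path hA hB)
  intro i j hij c hc
  rw [diag_eq hij c hc]
  exact mul_path (mul_path (mul_path (path hij _) (path hij.symm _)) (path hij _))
    (mul_path (mul_path (path hij _) (path hij.symm _)) (path hij _))

end Groth.Agent.S15083
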