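import Groth.Statements.S15084
import Mathlib

set_option autoImplicit false
universe u
open MovLem

namespace Groth.Agent.S15084

/-- Let A be a Noetherian integrally closed domain with fraction field K, let B be a domain with
fraction field L, and let A → B be an injective ring homomorphism, with K → L the induced map of
fraction fields, such that Spec B → Spec A is surjective (every prime ideal of A is the contraction
of a prime ideal of B). If a ∈ K is such that its image in L lies in B, then a ∈ A. (The published
statement: for a surjective morphism f : Y → X of normal integral separated schemes of finite type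
over a perfect field and a Cartier divisor D on X, if f^*D is effective then D is effective; a
Cartier divisor is locally the divisor of a nonzero rational function a, effectivity of div(a) on a
normal scheme means that a is a regular function, and this row is that local statement, which is
what the published proof establishes.) -/
theorem result
    (A B K L : Type u) [CommRing A] [IsDomain A] [IsNoetherianRing A] [IsIntegrallyClosed A]
    [CommRing B] [IsDomain B] [Field K] [Field L]
    [Algebra A B] [Algebra A K] [IsFractionRing A K] [Algebra B L] [IsFractionRing B L]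
    [Algebra K L] [Algebra A L] [IsScalarTower A K L] [IsScalarTower A B L]
    (hinj : Function.Injective (algebraMap A B))
    (hsurj : ∀ p : Ideal A, p.IsPrime → ∃ q : Ideal B, q.IsPrime ∧ q.comap (algebraMap A B) = p)
    (a : K) (ha : algebraMap K L a ∈ (algebraMap B L).range) :
    a ∈ (algebraMap A K).range := by
  by_contra hna
  let N : Submodule A K := LinearMap.range (Algebra.linearMap A K)
  let col : K → Ideal A := fun c => N.comap (LinearMap.toSpanSingleton A K c)
  have hcol : ∀ c t, t ∈ col c ↔ t • c ∈ (algebraMap A K).range := fun c t => Iff.rfl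
  let S : Set (Ideal A) := {I | ∃ t : A, t • a ∉ (algebraMap A K).range ∧ I = col (t • a)}
  obtain ⟨p, ⟨t, ht, rfl⟩, hmax⟩ := set_has_maximal_iff_noetherian.2 inferInstance S ⟨_, 1, by rwa [one_smul], rfl⟩
  set c := t • a with hc
  set p := col c with hp
  have hpprime : p.IsPrime := by
    refine ⟨fun h => ht ?_, fun {x y} hxy => ?_⟩
    · have : (1 : A) ∈ p := h ▸ Submodule.mem_top
      simpa [hcol] using (hcol c 1).1 this
    · by_contra h
      push Not at h
      have hle : p ≤ col ((x * t) • a) := fun z hz => by
        rw [hcol, mul_smul, smul_comm, ← hc]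
        obtain ⟨w, hw⟩ := (hcol c z).1 hz
        exact ⟨x * w, by rw [map_mul, hw, Algebra.smul_def x]⟩
      have he : p = col ((x * t) • a) :=
        eq_of_le_of_not_lt hle (hmax _ ⟨x * t, by rw [mul_smul, ← hc]; exact fun hh => h.1 ((hcol c x).2 hh), rfl⟩)
      apply h.2
      rw [he, hcol, mul_smul, ← hc, ← mul_smul, mul_comm]
      exact (hcol c _).1 hxy
  have hp0 : p ≠ ⊥ := by
    obtain ⟨⟨x, y⟩, hxy⟩ := IsLocalization.surj (nonZeroDivisors A) a
    intro h
    have : (y : A) ∈ p := by
      rw [hp, hcol, hc, smul_comm]
      refine ⟨t * x, ?_⟩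
      rw [map_mul, ← hxy, Algebra.smul_def t, Algebra.smul_def (y : A)]; ring
    rw [h] at this
    exact nonZeroDivisors.ne_zero y.2 this
  have hex : ∃ s ∈ p, ∃ u, algebraMap A K u = s • c ∧ u ∉ p := by
    by_contra hh
    push Not at hh
    refine ht ?_
    refine IsIntegrallyClosed.algebraMap_eq_of_integral (R := A) (x := c) ?_
    refine isIntegral_of_smul_mem_submodule (Submodule.map (Algebra.linearMap A K) p) ?_ ((IsNoetherian.noetherian p).map _) c ?_
    · intro h
      apply hp0
      rw [Submodule.eq_bot_iff] at h ⊢
      exact fun z hz => IsFractionRing.injective A K ((h _ ⟨z, hz, rfl⟩).trans (map_zero _).symm)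
    · rintro _ ⟨s, hs, rfl⟩
      obtain ⟨u, hu⟩ := (hcol c s).1 hs
      exact ⟨u, hh s hs u hu, by rw [Algebra.linearMap_apply, hu, Algebra.linearMap_apply, Algebra.smul_def, smul_eq_mul, mul_comm]⟩
  obtain ⟨s, hs, u, hu, hup⟩ := hex
  obtain ⟨q, hq, hqp⟩ := hsurj p hpprime
  obtain ⟨b, hb⟩ := ha
  apply hup
  rw [← hqp, Ideal.mem_comap]
  have : algebraMap A B u = algebraMap A B s * (algebraMap A B t * b) := by
    apply IsFractionRing.injective B L
    rw [map_mul, map_mul, ← IsScalarTower.algebraMap_apply A B L, ← IsScalarTower.algebraMap_apply A B L, ← IsScalarTower.algebraMap_apply A B L, hb,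
      IsScalarTower.algebraMap_apply A K L u, hu, hc, Algebra.smul_def, Algebra.smul_def, map_mul, map_mul, ← IsScalarTower.algebraMap_apply, ← IsScalarTower.algebraMap_apply]
  rw [this]
  exact q.mul_mem_right _ (by rwa [← Ideal.mem_comap, hqp])

end Groth.Agent.S15084
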