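import Groth.Statements.S15085
import Groth.Agent.Lib.GrpSch.DenseDim
import Groth.Agent.Lib.Flat55.DimSums
import Mathlib.AlgebraicGeometry.Morphisms.Immersion

set_option autoImplicit false
universe u
open CategoryTheory CategoryTheory.Limits AlgebraicGeometry
open MovLem

namespace Groth.Agent.S15085

/-- Let k be a field, X an affine scheme of finite type over k which is equidimensional (all irreducible
components have the same dimension), B̂ a proper smooth geometrically integral k-scheme and B ⊆ B̂ a
nonempty affine open subscheme. Let Z be an integral closed subscheme of X ×_k B of dimension dim X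
(that is, of codimension dim B, the product X ×_k B being equidimensional of dimension dim X + dim
B). Then the projection Z → X is finite and maps Z onto an irreducible component of X if and only if
Z is closed in X ×_k B̂. (The published statement allows X to be essentially of finite type, i.e.
also a localization of such a scheme at finitely many points, takes B̂ projective of positive
dimension, and phrases the dimension condition as codimension dim B; this row is the finite-type
case with properness in place of projectivity.) -/
theorem result
    {k : Type u} [Field k] {X Bhat Z : Scheme.{u}}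
    (sX : X ⟶ Spec (CommRingCat.of k)) (sB : Bhat ⟶ Spec (CommRingCat.of k))
    [IsAffine X] [LocallyOfFiniteType sX]
    (hXeq : ∀ T ∈ irreducibleComponents (X : Type u), topologicalKrullDim T = topologicalKrullDim X)
    [IsProper sB] [Smooth sB] [GeometricallyIntegral sB]
    (B : Bhat.Opens) (hB : IsAffineOpen B) (hBne : (B : Set Bhat).Nonempty)
    [IsIntegral Z] (ι : Z ⟶ ((pullback.snd sX sB) ⁻¹ᵁ B).toScheme) [IsClosedImmersion ι]
    (hZ : topologicalKrullDim Z = topologicalKrullDim X)
    (j : Z ⟶ pullback sX sB) (hj : j = ι ≫ ((pullback.snd sX sB) ⁻¹ᵁ B).ι) :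
    (IsFinite (j ≫ pullback.fst sX sB) ∧
        Set.range (j ≫ pullback.fst sX sB).base ∈ irreducibleComponents (X : Type u)) ↔
      IsClosed (Set.range j.base) := by
  have : IsAffine B.toScheme := hB
  have hjimm : IsImmersion j := hj ▸ inferInstance
  have : IsAffineHom sX := isAffineHom_of_isAffine _
  have : IsAffineHom (pullback.snd sX sB) := MorphismProperty.of_isPullback (P := @IsAffineHom) (IsPullback.of_hasPullback sX sB) inferInstance
  have : IsAffine ((pullback.snd sX sB) ⁻¹ᵁ B).toScheme := hB.preimage _
  have : IsAffine Z := isAffine_of_isAffineHom ι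
  have : CompactSpace X := inferInstance
  refine ⟨fun ⟨hfin, _⟩ => ?_, fun hc => ?_⟩
  · haveI := hfin
    have : IsProper j := IsProper.of_comp j (pullback.fst sX sB)
    exact j.isClosedMap.isClosed_range
  · haveI : IsClosedImmersion j := .of_isPreimmersion _ hc
    have : IsAffineHom (j ≫ pullback.fst sX sB) := isAffineHom_of_isAffine _
    have : IsFinite (j ≫ pullback.fst sX sB) :=
      IsFinite.iff_isProper_and_isAffineHom.2 ⟨inferInstance, inferInstance⟩
    refine ⟨inferInstance, ?_⟩
    set p := j ≫ pullback.fst sX sB
    set T := Set.range p.base
    have hTc : IsClosed T := p.isClosedMap.isClosed_range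
    have hTirr : IsIrreducible T := by
      rw [show T = p.base '' Set.univ from Set.image_univ.symm]
      exact (irreducibleSpace_def Z).1 inferInstance |>.image _ p.continuous.continuousOn
    obtain ⟨T', hT', hsub⟩ := exists_mem_irreducibleComponents_subset_of_isIrreducible T hTirr
    rcases hsub.eq_or_ssubset with h | h
    · exact h ▸ hT'
    · exfalso
      have hT'c : IsClosed T' := isClosed_of_mem_irreducibleComponents T' hT'
      obtain ⟨e, he⟩ := QuasiSober.sober hT'.1 hT'c
      have heT : e ∉ T := fun h' => h.2 <| by
        rw [← he.def]
        exact closure_minimal (Set.singleton_subset_iff.2 h') hTc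
      have hlt := Lib.GrpSch.topologicalKrullDim_boundary_lt sX hT'c hTc.isOpen_compl
        ⟨e, he.mem⟩ (fun x hx => ⟨e, ⟨heT, he.mem⟩, he.specializes hx⟩)
      have e1 : T' \ (Tᶜ ∩ T') = T := by
        ext x
        constructor
        · intro ⟨h1, h2⟩
          by_contra h3
          exact h2 ⟨h3, h1⟩
        · intro hx
          exact ⟨h.1 hx, fun h' => h'.1 hx⟩
      rw [e1] at hlt
      have h2 : topologicalKrullDim ↥(Tᶜ ∩ T') ≤ topologicalKrullDim ↥T' :=
        (Topology.IsEmbedding.inclusion (Set.inter_subset_right)).isInducing.topologicalKrullDim_le
      have h3 : topologicalKrullDim ↥T = topologicalKrullDim ↥T' := by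
        rw [hXeq T' hT', ← hZ]
        exact (Lib.Flat55.DimSums.dim_eq_of_isFinite p).symm
      exact (hlt.trans_le h2).ne h3

end Groth.Agent.S15085
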