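import Groth.Statements.S15086
import Groth.Agent.H14.MovLem.FibreCard
import Mathlib.LinearAlgebra.Trace

set_option autoImplicit false
universe u
open CategoryTheory CategoryTheory.Limits AlgebraicGeometry
open MovLem

namespace Groth.Agent.S15086

/-- Let k be an infinite perfect field with algebraic closure k̄, let φ : X → Y be a finite morphism of
k-schemes locally of finite type, let x be a closed point of X and y = φ(x). Let π_X : X_{k̄} → X
and π_Y : Y_{k̄} → Y be the base-change projections and φ_{k̄} : X_{k̄} → Y_{k̄} the induced
morphism. Then the number of points of π_Y⁻¹(y) is at most the number of points of π_X⁻¹(x);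
equality holds if and only if the residue field extension k(y) → k(x) is an isomorphism; and
equality holds whenever φ_{k̄} is injective on π_X⁻¹(x). (Cardinalities are taken in ℕ ∪ {∞}; both
fibres are in fact finite.) -/
theorem result
    {k : Type u} [Field k] [Infinite k] [PerfectField k] {X Y : Scheme.{u}}
    (sX : X ⟶ Spec (CommRingCat.of k)) (sY : Y ⟶ Spec (CommRingCat.of k))
    [LocallyOfFiniteType sX] [LocallyOfFiniteType sY]
    (φ : X ⟶ Y) (hφ : φ ≫ sY = sX) [IsFinite φ]
    (i : Spec (CommRingCat.of (AlgebraicClosure k)) ⟶ Spec (CommRingCat.of k))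
    (hi : i = Spec.map (CommRingCat.ofHom (algebraMap k (AlgebraicClosure k))))
    (φbar : pullback sX i ⟶ pullback sY i)
    (h1 : φbar ≫ pullback.fst sY i = pullback.fst sX i ≫ φ)
    (h2 : φbar ≫ pullback.snd sY i = pullback.snd sX i)
    (x : X) (hx : IsClosed ({x} : Set X)) :
    ((pullback.fst sY i).base ⁻¹' {φ.base x}).encard ≤ ((pullback.fst sX i).base ⁻¹' {x}).encard ∧
      (((pullback.fst sY i).base ⁻¹' {φ.base x}).encard = ((pullback.fst sX i).base ⁻¹' {x}).encard ↔
          Function.Bijective (φ.residueFieldMap x).hom) ∧
      (Set.InjOn φbar.base ((pullback.fst sX i).base ⁻¹' {x}) →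
        ((pullback.fst sY i).base ⁻¹' {φ.base x}).encard = ((pullback.fst sX i).base ⁻¹' {x}).encard) := by
  have hy : IsClosed ({φ.base x} : Set Y) := by
    have h := φ.isClosedMap {x} hx
    rwa [Set.image_singleton] at h
  set SY := (pullback.fst sY i).base ⁻¹' {φ.base x} with hSY
  set SX := (pullback.fst sX i).base ⁻¹' {x} with hSX
  let αX := Groth.H14.MovLem.structMap sX x
  let αY := Groth.H14.MovLem.structMap sY (φ.base x)
  have hcomp : αY ≫ φ.residueFieldMap x = αX := by
    apply Spec.map_injective
    rw [Spec.map_comp, Groth.H14.MovLem.specMap_structMap, Groth.H14.MovLem.specMap_structMap,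
      Scheme.Hom.SpecMap_residueFieldMap_fromSpecResidueField_assoc, hφ]
  letI := αX.hom.toAlgebra
  letI := αY.hom.toAlgebra
  letI := (φ.residueFieldMap x).hom.toAlgebra
  haveI : IsScalarTower k (Y.residueField (φ.base x)) (X.residueField x) :=
    IsScalarTower.of_algebraMap_eq fun r => (congrArg (fun t => t.hom r) hcomp).symm
  haveI : Module.Finite k (X.residueField x) := Groth.H14.MovLem.finite_structMap sX x hx
  haveI : Module.Finite k (Y.residueField (φ.base x)) :=
    Groth.H14.MovLem.finite_structMap sY (φ.base x) hy
  haveI : Module.Finite (Y.residueField (φ.base x)) (X.residueField x) :=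
    Module.Finite.of_restrictScalars_finite k _ _
  have cX : SX.encard = (Module.finrank k (X.residueField x) : ℕ∞) :=
    Groth.H14.MovLem.encard_fibre sX i hi x hx
  have cY : SY.encard = (Module.finrank k (Y.residueField (φ.base x)) : ℕ∞) :=
    Groth.H14.MovLem.encard_fibre sY i hi (φ.base x) hy
  have htower := Module.finrank_mul_finrank k (Y.residueField (φ.base x)) (X.residueField x)
  have hposX : 0 < Module.finrank (Y.residueField (φ.base x)) (X.residueField x) :=
    Module.finrank_pos
  have hposY : 0 < Module.finrank k (Y.residueField (φ.base x)) := Module.finrank_pos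
  have hle : SY.encard ≤ SX.encard := by
    rw [cX, cY, ← htower]
    exact_mod_cast Nat.le_mul_of_pos_right _ hposX
  refine ⟨hle, ⟨fun h => ?_, fun h => ?_⟩, fun hinj => ?_⟩
  · rw [cX, cY, ← htower] at h
    have h' : Module.finrank k (Y.residueField (φ.base x)) =
        Module.finrank k (Y.residueField (φ.base x)) *
          Module.finrank (Y.residueField (φ.base x)) (X.residueField x) := by exact_mod_cast h
    have h1 : Module.finrank (Y.residueField (φ.base x)) (X.residueField x) = 1 := by
      have := Nat.eq_of_mul_eq_mul_left hposY (h'.symm.trans (mul_one _).symm)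
      exact this
    exact Module.Free.bijective_algebraMap_of_finrank_eq_one h1
  · have h1 : Module.finrank (Y.residueField (φ.base x)) (X.residueField x) = 1 :=
      ((LinearEquiv.ofBijective (Algebra.linearMap (Y.residueField (φ.base x)) (X.residueField x))
        h).finrank_eq).symm.trans (Module.finrank_self _)
    rw [cX, cY, ← htower, h1, mul_one]
  · have hmaps : φbar.base '' SX = SY := by
      apply Set.Subset.antisymm
      · rintro _ ⟨z, hz, rfl⟩
        have hz' : (pullback.fst sX i).base z = x := hz
        show (pullback.fst sY i).base (φbar.base z) = φ.base x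
        rw [← Scheme.Hom.comp_apply, h1, Scheme.Hom.comp_apply, hz']
      · intro q hq
        obtain ⟨z, hz1, hz2⟩ := Scheme.Pullback.exists_preimage_pullback
          (f := φ) (g := pullback.fst sY i) x q hq.symm
        let w : pullback φ (pullback.fst sY i) ⟶ pullback sX i :=
          pullback.lift (pullback.fst _ _) (pullback.snd _ _ ≫ pullback.snd sY i) (by
            rw [← hφ, pullback.condition_assoc, pullback.condition, Category.assoc])
        have hw : w ≫ φbar = pullback.snd _ _ := by
          apply pullback.hom_ext
          · rw [Category.assoc, h1, pullback.lift_fst_assoc, pullback.condition]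
          · rw [Category.assoc, h2, pullback.lift_snd]
        refine ⟨w.base z, ?_, ?_⟩
        · show (pullback.fst sX i).base (w.base z) = x
          rw [← Scheme.Hom.comp_apply, pullback.lift_fst]
          exact hz1
        · rw [← Scheme.Hom.comp_apply, hw]
          exact hz2
    rw [← hmaps, hinj.encard_image]

end Groth.Agent.S15086
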