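import Groth.Statements.S15087
import Groth.Agent.H15.DimKernel
import Mathlib.RingTheory.Jacobson.Ring

set_option autoImplicit false
universe u v w
open MovLem

namespace Groth.Agent.S15087

open scoped TensorProduct

lemma finite_quot {k : Type u} [Field k] {r : ℕ} (P : Ideal (MvPolynomial (Fin r) k)) (hP : P.IsMaximal) :
    Module.Finite k (MvPolynomial (Fin r) k ⧸ P) := by
  letI := Ideal.Quotient.field P
  exact finite_of_finite_type_of_isJacobsonRing k (MvPolynomial (Fin r) k ⧸ P)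

lemma exists_poly {k : Type u} [Field k] (r d N : ℕ) (J : Ideal (MvPolynomial (Fin r ⊕ (Unit ⊕ Fin d)) k))
    (hdimJ : ringKrullDim (MvPolynomial (Fin r ⊕ (Unit ⊕ Fin d)) k ⧸ J) < (r : ℕ))
    (c : MvPolynomial (Fin r ⊕ (Unit ⊕ Fin d)) k)
    (hc : c * MvPolynomial.X (Sum.inr (Sum.inl ())) - 1 ∈ J)
    (P : Ideal (MvPolynomial (Fin r) k)) (hP : P.IsMaximal) :
    ∃ h : MvPolynomial (Fin r) k, h ≠ 0 ∧
      ∀ (L : Type w) [Field L] [Algebra k L] (ξ : Fin r → L) (pt : Fin r ⊕ (Unit ⊕ Fin d) → L) (g : Fin r → L),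
        (∀ p ∈ P, MvPolynomial.aeval ξ p = 0) → (∀ q ∈ J, MvPolynomial.aeval pt q = 0) →
        (∀ i, pt (Sum.inl i) = ξ i + pt (Sum.inr (Sum.inl ())) ^ N * g i) → MvPolynomial.aeval g h = 0 := by
  haveI := finite_quot P hP
  obtain ⟨h, hne, hh⟩ := Groth.Agent.H15.DimKernel.exists_relation.{u, w} k
    (MvPolynomial (Fin r ⊕ (Unit ⊕ Fin d)) k ⧸ J) (MvPolynomial (Fin r) k ⧸ P) hdimJ
    (fun i => Ideal.Quotient.mk J (MvPolynomial.X (Sum.inl i))) (fun i => Ideal.Quotient.mk P (MvPolynomial.X i))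
    (Ideal.Quotient.mk J c) 1 N
  refine ⟨h, hne, fun L _ _ ξ pt g hξ hq hpt => ?_⟩
  refine hh L (Ideal.Quotient.liftₐ J (MvPolynomial.aeval pt) hq) (Ideal.Quotient.liftₐ P (MvPolynomial.aeval ξ) hξ) g fun i => ?_
  have hct : MvPolynomial.aeval pt c * pt (Sum.inr (Sum.inl ())) = 1 := by
    have := hq _ hc
    simpa [sub_eq_zero] using this
  change g i = (MvPolynomial.aeval pt (MvPolynomial.X (Sum.inl i)) - MvPolynomial.aeval ξ (MvPolynomial.X i)) *
    (MvPolynomial.aeval pt c * (Ideal.Quotient.liftₐ P (MvPolynomial.aeval ξ) hξ) 1) ^ N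
  rw [map_one, mul_one, MvPolynomial.aeval_X, MvPolynomial.aeval_X, hpt i]
  calc g i = g i * (MvPolynomial.aeval pt c * pt (Sum.inr (Sum.inl ()))) ^ N := by rw [hct, one_pow, mul_one]
    _ = (ξ i + pt (Sum.inr (Sum.inl ())) ^ N * g i - ξ i) * MvPolynomial.aeval pt c ^ N := by ring

/-- Let k be an infinite perfect field, r, m, s ≥ 1 and d ≥ 0, and put N = s(m+1). In affine space with
coordinates x_1, …, x_r, t, y_1, …, y_d (the cube of dimension d taken as affine d-space with faces
given by setting some coordinates equal to 0 or 1), let Z = V(I) be an integral closed subscheme of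
dimension r which does not meet the hyperplane t = 0 and which meets every face {y_i = ε_i for i ∈
S} (S nonempty, ε_i ∈ {0, 1}) in dimension at most r − |S|. Let Σ be a finite set of closed points
of affine r-space over k. Then there is a nonzero polynomial h in k[g_1, …, g_r] such that for every
field K over k and every g ∈ K^r with h(g) ≠ 0, the translate of Z_K by x ↦ x + t^N g meets no set
{x ∈ Σ} × A^1 × F with F a proper face: for every field L over K, every point ξ of affine r-space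
over L lying on a point of Σ, every t ∈ L and every y ∈ L^d lying on a proper face, the point (ξ +
t^N g, t, y) is not a zero of I. (The published statement assumes that Z is an irreducible
admissible additive cycle meeting the faces through Σ properly; the two consequences of
admissibility that its proof uses — Z misses t = 0, and Z meets all faces properly — are the
hypotheses here, and the dense open subset of affine r-space is given as the locus h ≠ 0.) -/
theorem result
    {k : Type u} [Field k] [Infinite k] [PerfectField k] (r m s d : ℕ) (hr : 1 ≤ r) (hm : 1 ≤ m) (hs : 1 ≤ s)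
    (I : Ideal (MvPolynomial (Fin r ⊕ (Unit ⊕ Fin d)) k)) (hI : I.IsPrime)
    (hdim : ringKrullDim (MvPolynomial (Fin r ⊕ (Unit ⊕ Fin d)) k ⧸ I) = r)
    (ht0 : I ⊔ Ideal.span {MvPolynomial.X (Sum.inr (Sum.inl ()))} = ⊤)
    (hface : ∀ (S : Finset (Fin d)), S.Nonempty → ∀ (ε : Fin d → k), (∀ i, ε i = 0 ∨ ε i = 1) →
      ringKrullDim (MvPolynomial (Fin r ⊕ (Unit ⊕ Fin d)) k ⧸
        (I ⊔ Ideal.span ((fun i => MvPolynomial.X (Sum.inr (Sum.inr i)) - MvPolynomial.C (ε i)) '' (S : Set (Fin d))))) ≤ (r - S.card : ℕ))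
    (Sigma : Finset (Ideal (MvPolynomial (Fin r) k))) (hSigma : ∀ P ∈ Sigma, P.IsMaximal) :
    ∃ h : MvPolynomial (Fin r) k, h ≠ 0 ∧
      ∀ (K : Type v) [Field K] [Algebra k K] (g : Fin r → K), MvPolynomial.aeval g h ≠ 0 →
        ∀ (L : Type w) [Field L] [Algebra k L] [Algebra K L] [IsScalarTower k K L]
          (ξ : Fin r → L) (t : L) (y : Fin d → L),
          ∀ P ∈ Sigma, (∀ p ∈ P, MvPolynomial.aeval ξ p = 0) →
            ∀ (S : Finset (Fin d)), S.Nonempty → ∀ (ε : Fin d → k), (∀ i, ε i = 0 ∨ ε i = 1) →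
              (∀ i ∈ S, y i = algebraMap k L (ε i)) →
                ¬ (∀ q ∈ I, MvPolynomial.aeval
                    (Sum.elim (fun i => ξ i + t ^ (s * (m + 1)) * algebraMap K L (g i))
                      (Sum.elim (fun _ : Unit => t) y)) q = 0) := by
  classical
  obtain ⟨i₀, hi₀, w, hw, hiw⟩ := Submodule.mem_sup.mp ((Ideal.eq_top_iff_one _).mp ht0)
  obtain ⟨c, rfl⟩ := Ideal.mem_span_singleton'.mp hw
  have hJ : ∀ (S : Finset (Fin d)) (b : Fin d → Bool), c * MvPolynomial.X (Sum.inr (Sum.inl ())) - 1 ∈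
      I ⊔ Ideal.span ((fun i => MvPolynomial.X (Sum.inr (Sum.inr i)) -
        MvPolynomial.C (if b i then (1:k) else 0)) '' (S : Set (Fin d))) := by
    intro S b
    refine Ideal.mem_sup_left ?_
    have : c * MvPolynomial.X (Sum.inr (Sum.inl ())) - 1 = -i₀ := by rw [← hiw]; ring
    rw [this]
    exact neg_mem hi₀
  have hh : ∀ x : {P // P ∈ Sigma} × {S : Finset (Fin d) // S.Nonempty} × (Fin d → Bool),
      ringKrullDim (MvPolynomial (Fin r ⊕ (Unit ⊕ Fin d)) k ⧸
        (I ⊔ Ideal.span ((fun i => MvPolynomial.X (Sum.inr (Sum.inr i)) -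
          MvPolynomial.C (if x.2.2 i then (1:k) else 0)) '' (x.2.1.1 : Set (Fin d))))) < (r : ℕ) := by
    intro x
    refine lt_of_le_of_lt (hface x.2.1.1 x.2.1.2 _ (fun i => by by_cases hb : x.2.2 i = true <;> simp [hb])) ?_
    have hc : 1 ≤ x.2.1.1.card := x.2.1.2.card_pos
    have : r - x.2.1.1.card < r := by omega
    exact_mod_cast this
  choose h hne hprop using fun x => exists_poly.{u, w} r d (s * (m + 1)) _ (hh x) c (hJ x.2.1.1 x.2.2) x.1.1 (hSigma _ x.1.2)
  refine ⟨∏ x, h x, Finset.prod_ne_zero_iff.mpr fun x _ => hne x, ?_⟩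
  intro K _ _ g hg L _ _ _ _ ξ t y P hP hξ S hS ε hε hy hzero
  rw [map_prod] at hg
  apply Finset.prod_ne_zero_iff.mp hg (⟨P, hP⟩, ⟨S, hS⟩, fun i => decide (ε i = 1)) (Finset.mem_univ _)
  have hb : ∀ i, (if decide (ε i = 1) then (1:k) else 0) = ε i := by
    intro i
    rcases hε i with h' | h' <;> simp [h']
  apply (algebraMap K L).injective
  rw [map_zero, ← MvPolynomial.aeval_algebraMap_apply]
  refine hprop _ L ξ (Sum.elim (fun i => ξ i + t ^ (s * (m + 1)) * algebraMap K L (g i))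
      (Sum.elim (fun _ : Unit => t) y)) _ hξ ?_ (fun i => by rfl)
  intro q hq
  refine (Ideal.span_le.mpr ?_ : Ideal.span ((fun i => MvPolynomial.X (Sum.inr (Sum.inr i)) -
          MvPolynomial.C (if decide (ε i = 1) then (1:k) else 0)) '' (S : Set (Fin d))) ≤ RingHom.ker (MvPolynomial.aeval (Sum.elim (fun i => ξ i + t ^ (s * (m + 1)) * algebraMap K L (g i))
      (Sum.elim (fun _ : Unit => t) y)) : MvPolynomial (Fin r ⊕ (Unit ⊕ Fin d)) k →ₐ[k] L)) |> fun h2 => (sup_le (fun q hq => hzero q hq) h2 : I ⊔ _ ≤ RingHom.ker (MvPolynomial.aeval (Sum.elim (fun i => ξ i + t ^ (s * (m + 1)) * algebraMap K L (g i))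
      (Sum.elim (fun _ : Unit => t) y)) : MvPolynomial (Fin r ⊕ (Unit ⊕ Fin d)) k →ₐ[k] L)) hq
  rintro _ ⟨i, hi, rfl⟩
  rcases hε i with h' | h' <;> simp [RingHom.mem_ker, hy i hi, h']


end Groth.Agent.S15087
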