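import Groth.Statements.S15088
import Groth.Agent.H15.DimKernel
import Groth.Agent.Lib.Dim.Basic
import Mathlib.RingTheory.Jacobson.Ring
import Mathlib.RingTheory.AdjoinRoot

set_option autoImplicit false
universe u v
open MovLem

namespace Groth.Agent.S15088

open scoped TensorProduct

lemma finite_quot {k : Type u} [Field k] {r : ℕ} (P : Ideal (MvPolynomial (Fin r) k)) (hP : P.IsMaximal) :
    Module.Finite k (MvPolynomial (Fin r) k ⧸ P) := by
  letI := Ideal.Quotient.field P
  exact finite_of_finite_type_of_isJacobsonRing k (MvPolynomial (Fin r) k ⧸ P)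

lemma exists_poly {k : Type u} [Field k] (r N : ℕ) (P0 : MvPolynomial (Fin r) k) (hP0 : P0 ≠ 0)
    (q : Polynomial k) (hq : q.Monic) (hq0 : q.coeff 0 ≠ 0)
    (P : Ideal (MvPolynomial (Fin r) k)) (hP : P.IsMaximal) :
    ∃ h : MvPolynomial (Fin r) k, h ≠ 0 ∧
      ∀ (Ω : Type v) [CommRing Ω] [Algebra k Ω] (ξ : Fin r → Ω) (t : Ω) (g : Fin r → Ω),
        (∀ p ∈ P, MvPolynomial.aeval ξ p = 0) → Polynomial.aeval t q = 0 →
        MvPolynomial.aeval (fun i => ξ i + t ^ N * g i) P0 = 0 → MvPolynomial.aeval g h = 0 := by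
  haveI := finite_quot P hP
  haveI : Module.Finite k (AdjoinRoot q) := hq.finite_adjoinRoot
  have hdimB : ringKrullDim (MvPolynomial (Fin r) k ⧸ Ideal.span {P0}) < (r : ℕ) := by
    have h1 := ringKrullDim_quotient_succ_le_of_nonZeroDivisor (mem_nonZeroDivisors_of_ne_zero hP0)
    rw [Groth.Agent.Lib.Dim.Basic.ringKrullDim_mvPolynomial] at h1
    simp only [Nat.card_eq_fintype_card, Fintype.card_fin] at h1
    generalize ringKrullDim (MvPolynomial (Fin r) k ⧸ Ideal.span {P0}) = D at h1 ⊢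
    induction D using WithBot.recBotCoe with
    | bot => exact WithBot.bot_lt_coe _
    | coe a =>
      induction a using ENat.recTopCoe with
      | top =>
        exfalso
        have h2 : ((⊤ : ℕ∞) + 1) ≤ (r : ℕ) := by exact_mod_cast h1
        simp at h2
      | coe n =>
        have : n + 1 ≤ r := by exact_mod_cast h1
        have : n < r := by omega
        exact_mod_cast this
  obtain ⟨h, hne, hh⟩ := Groth.Agent.H15.DimKernel.exists_relation.{u, v} k
    (MvPolynomial (Fin r) k ⧸ Ideal.span {P0}) (AdjoinRoot q ⊗[k] (MvPolynomial (Fin r) k ⧸ P)) hdimB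
    (fun i => Ideal.Quotient.mk (Ideal.span {P0}) (MvPolynomial.X i))
    (fun i => 1 ⊗ₜ[k] Ideal.Quotient.mk P (MvPolynomial.X i)) 1
    ((algebraMap k (AdjoinRoot q) (-(q.coeff 0)⁻¹) * Polynomial.aeval (AdjoinRoot.root q) q.divX) ⊗ₜ[k] 1) N
  refine ⟨h, hne, fun Ω _ _ ξ t g hξ ht hP0' => ?_⟩
  have hB : ∀ p ∈ Ideal.span {P0}, MvPolynomial.aeval (fun i => ξ i + t ^ N * g i) p = 0 := by
    intro p hp
    obtain ⟨c, rfl⟩ := Ideal.mem_span_singleton'.mp hp
    rw [map_mul, hP0', mul_zero]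
  let ψ := AdjoinRoot.liftAlgHom q (Algebra.ofId k Ω) t ht
  refine hh Ω (Ideal.Quotient.liftₐ (Ideal.span {P0}) (MvPolynomial.aeval (fun i => ξ i + t ^ N * g i)) hB)
    (Algebra.TensorProduct.lift ψ (Ideal.Quotient.liftₐ P (MvPolynomial.aeval ξ) hξ) (fun _ _ => Commute.all _ _)) g
    fun i => ?_
  have hut : t * (algebraMap k Ω (-(q.coeff 0)⁻¹) * Polynomial.aeval t q.divX) = 1 := by
    have h1 := congrArg (Polynomial.aeval t) q.X_mul_divX_add
    rw [map_add, map_mul, Polynomial.aeval_X, Polynomial.aeval_C, ht] at h1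
    calc t * (algebraMap k Ω (-(q.coeff 0)⁻¹) * Polynomial.aeval t q.divX)
        = algebraMap k Ω (-(q.coeff 0)⁻¹) * (t * Polynomial.aeval t q.divX) := by ring
      _ = algebraMap k Ω (-(q.coeff 0)⁻¹) * algebraMap k Ω (-q.coeff 0) := by
          rw [map_neg (algebraMap k Ω) (q.coeff 0), eq_neg_of_add_eq_zero_left h1]
      _ = 1 := by rw [← map_mul, neg_mul_neg, inv_mul_cancel₀ hq0, map_one]
  have hu : ψ (algebraMap k (AdjoinRoot q) (-(q.coeff 0)⁻¹) * Polynomial.aeval (AdjoinRoot.root q) q.divX) =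
      algebraMap k Ω (-(q.coeff 0)⁻¹) * Polynomial.aeval t q.divX := by
    rw [map_mul, AlgHom.commutes, ← Polynomial.aeval_algHom_apply,
      show ψ (AdjoinRoot.root q) = t from AdjoinRoot.liftAlgHom_root _ _ _ _]
  rw [Algebra.TensorProduct.lift_tmul, Algebra.TensorProduct.lift_tmul, map_one, map_one, map_one,
    one_mul, one_mul, mul_one, hu]
  change g i = (MvPolynomial.aeval (fun i => ξ i + t ^ N * g i) (MvPolynomial.X i) - MvPolynomial.aeval ξ (MvPolynomial.X i)) * _
  rw [MvPolynomial.aeval_X, MvPolynomial.aeval_X]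
  calc g i = g i * (t * (algebraMap k Ω (-(q.coeff 0)⁻¹) * Polynomial.aeval t q.divX)) ^ N := by rw [hut, one_pow, mul_one]
    _ = (ξ i + t ^ N * g i - ξ i) * (algebraMap k Ω (-(q.coeff 0)⁻¹) * Polynomial.aeval t q.divX) ^ N := by rw [mul_pow]; ring

/-- Let k be an infinite perfect field, r, m, s ≥ 1 and d ≥ 0, and put N = s(m+1). In affine space with
coordinates x_1, …, x_r, t, y_1, …, y_d let Z = V(I) be an integral closed subscheme of dimension r
which does not meet t = 0 and such that neither the projection of Z to the x-coordinates nor its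
projection to the t-line is dominant (I contains a nonzero polynomial in the x's alone and a nonzero
polynomial in t alone). Let Σ be a finite set of closed points of affine r-space over k. Then there
is a nonzero polynomial h in k[g_1, …, g_r] such that for every field K over k and every g ∈ K^r
with h(g) ≠ 0 the translate Z_g = {(x, t, y) : (x + t^N g, t, y) ∈ Z_K} of Z_K is empty over an open
neighbourhood of the points of affine r-space over K lying over Σ: the closure of the image of Z_g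
in affine r-space over K (the zero set of the contraction to K[x_1, …, x_r] of the ideal of Z_g)
contains no point lying over a point of Σ. (The published statement assumes that Z is an irreducible
admissible additive cycle meeting the faces through Σ properly; of this its proof uses only that Z
misses t = 0, which is a hypothesis here, and the dense open subset of affine r-space is given as
the locus h ≠ 0.) -/
theorem result
    {k : Type u} [Field k] [Infinite k] [PerfectField k] (r m s d : ℕ) (hr : 1 ≤ r) (hm : 1 ≤ m) (hs : 1 ≤ s)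
    (I : Ideal (MvPolynomial (Fin r ⊕ (Unit ⊕ Fin d)) k)) (hI : I.IsPrime)
    (hdim : ringKrullDim (MvPolynomial (Fin r ⊕ (Unit ⊕ Fin d)) k ⧸ I) = r)
    (ht0 : I ⊔ Ideal.span {MvPolynomial.X (Sum.inr (Sum.inl ()))} = ⊤)
    (hx : Ideal.comap (MvPolynomial.rename (Sum.inl : Fin r → Fin r ⊕ (Unit ⊕ Fin d)) :
        MvPolynomial (Fin r) k →ₐ[k] MvPolynomial (Fin r ⊕ (Unit ⊕ Fin d)) k) I ≠ ⊥)
    (ht : Ideal.comap (MvPolynomial.rename (fun _ : Unit => (Sum.inr (Sum.inl ()) : Fin r ⊕ (Unit ⊕ Fin d))) :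
        MvPolynomial Unit k →ₐ[k] MvPolynomial (Fin r ⊕ (Unit ⊕ Fin d)) k) I ≠ ⊥)
    (Sigma : Finset (Ideal (MvPolynomial (Fin r) k))) (hSigma : ∀ P ∈ Sigma, P.IsMaximal) :
    ∃ h : MvPolynomial (Fin r) k, h ≠ 0 ∧
      ∀ (K : Type v) [Field K] [Algebra k K] (g : Fin r → K), MvPolynomial.aeval g h ≠ 0 →
        ∀ P ∈ Sigma,
          Ideal.comap (MvPolynomial.rename (Sum.inl : Fin r → Fin r ⊕ (Unit ⊕ Fin d)) :
              MvPolynomial (Fin r) K →ₐ[K] MvPolynomial (Fin r ⊕ (Unit ⊕ Fin d)) K)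
            (Ideal.map (MvPolynomial.aeval
                (Sum.elim (fun i : Fin r => MvPolynomial.X (Sum.inl i) +
                    MvPolynomial.X (Sum.inr (Sum.inl ())) ^ (s * (m + 1)) * MvPolynomial.C (g i))
                  (fun j : Unit ⊕ Fin d => MvPolynomial.X (Sum.inr j))) :
                MvPolynomial (Fin r ⊕ (Unit ⊕ Fin d)) k →ₐ[k] MvPolynomial (Fin r ⊕ (Unit ⊕ Fin d)) K) I) ⊔
            Ideal.map (MvPolynomial.map (algebraMap k K) : MvPolynomial (Fin r) k →+* MvPolynomial (Fin r) K) P = ⊤ := by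
  classical
  set tI : MvPolynomial (Fin r ⊕ (Unit ⊕ Fin d)) k := MvPolynomial.X (Sum.inr (Sum.inl ())) with htI
  have htnot : tI ∉ I := by
    intro hmem
    apply hI.ne_top
    rw [← ht0, eq_comm, sup_eq_left, Ideal.span_le, Set.singleton_subset_iff]
    exact hmem
  obtain ⟨P0, hP0I, hP0⟩ := Submodule.exists_mem_ne_zero_of_ne_bot hx
  obtain ⟨p, hpI, hp⟩ := Submodule.exists_mem_ne_zero_of_ne_bot ht
  have hq : ∃ q : Polynomial k, q.Monic ∧ q.coeff 0 ≠ 0 ∧ Polynomial.aeval tI q ∈ I := by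
    have hQI : Polynomial.aeval tI (MvPolynomial.pUnitAlgEquiv k p) ∈ I := by
      have he : (Polynomial.aeval tI).comp (MvPolynomial.pUnitAlgEquiv k).toAlgHom =
          MvPolynomial.rename (fun _ : Unit => (Sum.inr (Sum.inl ()) : Fin r ⊕ (Unit ⊕ Fin d))) := by
        apply MvPolynomial.algHom_ext
        intro i
        simp [htI]
      have := AlgHom.congr_fun he p
      rw [show Polynomial.aeval tI (MvPolynomial.pUnitAlgEquiv k p) = _ from this]
      exact hpI
    have hQ0 : MvPolynomial.pUnitAlgEquiv k p ≠ 0 := (MvPolynomial.pUnitAlgEquiv k).map_ne_zero_iff.mpr hp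
    generalize MvPolynomial.pUnitAlgEquiv k p = Q at hQI hQ0
    obtain ⟨Q', hQ', hndvd⟩ := Polynomial.exists_eq_pow_rootMultiplicity_mul_and_not_dvd Q hQ0 0
    rw [map_zero, sub_zero] at hQ' hndvd
    have hc0 : Q'.coeff 0 ≠ 0 := fun h0 => hndvd (Polynomial.X_dvd_iff.mpr h0)
    have hQ'ne : Q' ≠ 0 := fun h0 => hc0 (by simp [h0])
    refine ⟨Q' * Polynomial.C Q'.leadingCoeff⁻¹, Polynomial.monic_mul_leadingCoeff_inv hQ'ne, ?_, ?_⟩
    · rw [Polynomial.coeff_mul_C]
      exact mul_ne_zero hc0 (inv_ne_zero (Polynomial.leadingCoeff_ne_zero.mpr hQ'ne))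
    · rw [map_mul]
      refine I.mul_mem_right _ ?_
      rw [hQ', map_mul, map_pow, Polynomial.aeval_X] at hQI
      exact (hI.mem_or_mem hQI).resolve_left fun hpow => htnot (hI.mem_of_pow_mem _ hpow)
  obtain ⟨q, hqm, hq0, hqI⟩ := hq
  choose h hne hprop using fun x : {P // P ∈ Sigma} =>
    exists_poly.{u, v} r (s * (m + 1)) P0 hP0 q hqm hq0 x.1 (hSigma _ x.2)
  refine ⟨∏ x, h x, Finset.prod_ne_zero_iff.mpr fun x _ => hne x, ?_⟩
  intro K _ _ g hg P hP
  rw [map_prod] at hg
  by_contra htop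
  obtain ⟨M, hM, hle⟩ := Ideal.exists_le_maximal _ htop
  apply Finset.prod_ne_zero_iff.mp hg ⟨P, hP⟩ (Finset.mem_univ _)
  set θ : MvPolynomial (Fin r ⊕ (Unit ⊕ Fin d)) k →ₐ[k] MvPolynomial (Fin r ⊕ (Unit ⊕ Fin d)) K :=
    MvPolynomial.aeval
      (Sum.elim (fun i : Fin r => MvPolynomial.X (Sum.inl i) +
          MvPolynomial.X (Sum.inr (Sum.inl ())) ^ (s * (m + 1)) * MvPolynomial.C (g i))
        (fun j : Unit ⊕ Fin d => MvPolynomial.X (Sum.inr j))) with hθ
  let S := MvPolynomial (Fin r) K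
  let qS : Polynomial S := q.map (algebraMap k S)
  haveI : Module.Finite S (AdjoinRoot qS) := (hqm.map _).finite_adjoinRoot
  let R0 : AdjoinRoot qS := MvPolynomial.aeval
      (fun i => algebraMap S (AdjoinRoot qS) (MvPolynomial.X i) +
        AdjoinRoot.root qS ^ (s * (m + 1)) * algebraMap S (AdjoinRoot qS) (MvPolynomial.C (g i))) P0
  let E := AdjoinRoot qS ⧸ Ideal.span {R0}
  haveI : Module.Finite S E :=
    Module.Finite.of_surjective (Ideal.Quotient.mkₐ S (Ideal.span {R0})).toLinearMap Ideal.Quotient.mk_surjective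
  -- the comparison map to the coordinate ring of the translate
  let π := Ideal.Quotient.mkₐ k (Ideal.map θ I)
  let f : S →+* MvPolynomial (Fin r ⊕ (Unit ⊕ Fin d)) K ⧸ Ideal.map θ I :=
    (Ideal.Quotient.mk (Ideal.map θ I)).comp
      (MvPolynomial.rename (Sum.inl : Fin r → Fin r ⊕ (Unit ⊕ Fin d)) : S →ₐ[K] _).toRingHom
  let T := Ideal.Quotient.mk (Ideal.map θ I) (MvPolynomial.X (Sum.inr (Sum.inl ())))
  have hfk : f.comp (algebraMap k S) = algebraMap k _ := by
    ext a
    simp only [f, RingHom.coe_comp, Function.comp_apply]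
    rw [IsScalarTower.algebraMap_apply k K S]
    simp [IsScalarTower.algebraMap_apply k K (MvPolynomial (Fin r ⊕ (Unit ⊕ Fin d)) K), MvPolynomial.algebraMap_eq]
    rfl
  have hfq : Polynomial.eval₂ f T qS = 0 := by
    rw [Polynomial.eval₂_map, hfk]
    change Polynomial.aeval (π (MvPolynomial.X (Sum.inr (Sum.inl ())))) q = 0
    have : π (MvPolynomial.X (Sum.inr (Sum.inl ()))) = π (θ tI) := by simp [hθ, htI]
    rw [this, Polynomial.aeval_algHom_apply, Polynomial.aeval_algHom_apply]
    exact Ideal.Quotient.eq_zero_iff_mem.mpr (Ideal.mem_map_of_mem _ hqI)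
  let Φ : AdjoinRoot qS →+* _ := AdjoinRoot.lift f T hfq
  have hΦR : Φ R0 = 0 := by
    have h1 : Φ R0 = MvPolynomial.aeval (fun i => π (θ (MvPolynomial.X (Sum.inl i)))) P0 := by
      simp only [R0, MvPolynomial.aeval_def, MvPolynomial.eval₂_comp_left, MvPolynomial.hom_eval₂]
      congr 1
      · rw [← hfk]
        ext a
        simp only [RingHom.coe_comp, Function.comp_apply]
        rw [IsScalarTower.algebraMap_apply k S (AdjoinRoot qS), AdjoinRoot.algebraMap_eq]
        exact AdjoinRoot.lift_of hfq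
      · funext i
        simp only [map_add, map_mul, map_pow, AdjoinRoot.algebraMap_eq, Φ, AdjoinRoot.lift_root hfq, AdjoinRoot.lift_of hfq]
        simp [f, T, hθ, π]
        erw [MvPolynomial.rename_X, MvPolynomial.rename_C]
    have h2 : MvPolynomial.aeval (fun i => π (θ (MvPolynomial.X (Sum.inl i)))) P0 =
        π (θ (MvPolynomial.rename (Sum.inl : Fin r → Fin r ⊕ (Unit ⊕ Fin d)) P0)) := by
      change _ = ((π.comp θ).comp (MvPolynomial.rename _)) P0
      congr 1
      apply MvPolynomial.algHom_ext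
      intro i
      simp
    rw [h1, h2]
    exact Ideal.Quotient.eq_zero_iff_mem.mpr (Ideal.mem_map_of_mem _ hP0I)
  have hker : RingHom.ker (algebraMap S E) ≤ M := by
    intro x hx'
    refine hle (Ideal.mem_sup_left ?_)
    rw [RingHom.mem_ker, IsScalarTower.algebraMap_apply S (AdjoinRoot qS) E, Ideal.Quotient.algebraMap_eq,
      Ideal.Quotient.eq_zero_iff_mem, Ideal.mem_span_singleton'] at hx'
    obtain ⟨c, hc⟩ := hx'
    have h2 : Φ (algebraMap S (AdjoinRoot qS) x) = 0 := by rw [← hc, map_mul, hΦR, mul_zero]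
    rw [AdjoinRoot.algebraMap_eq] at h2
    rw [show Φ (AdjoinRoot.of qS x) = f x from AdjoinRoot.lift_of hfq] at h2
    exact Ideal.mem_comap.mpr (Ideal.Quotient.eq_zero_iff_mem.mp h2)
  obtain ⟨Q, hQmax, hQ⟩ := Ideal.exists_ideal_over_maximal_of_isIntegral (S := E) M hker
  let Ω := E ⧸ Q
  haveI : Nontrivial Ω := Ideal.Quotient.nontrivial_iff.mpr hQmax.ne_top
  let σ : K →ₐ[k] Ω := (IsScalarTower.toAlgHom k S Ω).comp (IsScalarTower.toAlgHom k K S)
  apply σ.toRingHom.injective
  rw [map_zero]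
  change σ (MvPolynomial.aeval g (h ⟨P, hP⟩)) = 0
  rw [MvPolynomial.comp_aeval_apply]
  let ρ : AdjoinRoot qS →ₐ[k] Ω := (Ideal.Quotient.mkₐ k Q).comp (Ideal.Quotient.mkₐ k (Ideal.span {R0}))
  refine hprop ⟨P, hP⟩ Ω (fun i => algebraMap S Ω (MvPolynomial.X i)) (ρ (AdjoinRoot.root qS)) _ ?_ ?_ ?_
  · intro p hp
    have h1 : MvPolynomial.aeval (fun i => algebraMap S Ω (MvPolynomial.X i)) p =
        algebraMap S Ω (MvPolynomial.map (algebraMap k K) p) := by
      change _ = ((IsScalarTower.toAlgHom k S Ω).comp (MvPolynomial.mapAlgHom (Algebra.ofId k K))) p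
      congr 1
      apply MvPolynomial.algHom_ext
      intro i
      simp
      congr 1
      exact (MvPolynomial.map_X _ i).symm
    rw [h1]
    have h2 : MvPolynomial.map (algebraMap k K) p ∈ M := hle (Ideal.mem_sup_right (Ideal.mem_map_of_mem _ hp))
    rw [← hQ, Ideal.mem_comap] at h2
    exact Ideal.Quotient.eq_zero_iff_mem.mpr h2
  · rw [Polynomial.aeval_algHom_apply, ← Polynomial.aeval_map_algebraMap S]
    rw [AdjoinRoot.aeval_eq, AdjoinRoot.mk_self, map_zero]
  · have h1 : ρ R0 = 0 := by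
      change Ideal.Quotient.mk Q (Ideal.Quotient.mk (Ideal.span {R0}) R0) = 0
      rw [Ideal.Quotient.eq_zero_iff_mem.mpr (Ideal.mem_span_singleton_self R0), map_zero]
    rw [← h1]
    simp only [R0, MvPolynomial.comp_aeval_apply]
    congr 2

end Groth.Agent.S15088
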