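import Groth.Statements.S15092
import Groth.Agent.Lib.SurfRR.Fibre
import Groth.Agent.Lib.SurfRR.Connected
import Groth.Agent.Lib.SurfRR.Cycles
import Groth.Agent.Lib.SurfInt.ConeForm
import Groth.Agent.Lib.PicGen.OpenUFD
import Groth.Agent.Lib.FundLocal.Rank
import Groth.Agent.H75.RedKer
import Mathlib.AlgebraicGeometry.AlgClosed.Basic

set_option autoImplicit false
set_option linter.style.haveILetI false
universe u
open CategoryTheory CategoryTheory.Limits AlgebraicGeometry
open Surf
open Groth.Agent.Lib Groth.Agent.Lib.SurfRR Groth.Agent.Lib.TensorMod.Basic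

namespace Groth.Agent.S15092

variable {k : Type u} [Field k] [IsAlgClosed k] {X : Scheme.{u}} [X.Over (Spec (CommRingCat.of k))]
  [IsProper (X ↘ (Spec (CommRingCat.of k)))] [Smooth (X ↘ (Spec (CommRingCat.of k)))] [IsIntegral X]
  [AlgebraicGeometry.IsNoetherian X] (hdim : topologicalKrullDim X = 2)

include k hdim

/-- A divisor of square zero bounds the divisors orthogonal to it. -/
theorem sq_nonpos_of_orth {F D : X.IdealSheafData} (hF : BlowUp.IsEffCartierIdeal F) (hF0 : F ≠ ⊤)
    (hD : BlowUp.IsEffCartierIdeal D)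
    (hFF : FGA.intNum k X 2 ![ClSub.idealMod F, ClSub.idealMod F] (Coh.structureModule X) = 0)
    (hDF : FGA.intNum k X 2 ![ClSub.idealMod D, ClSub.idealMod F] (Coh.structureModule X) = 0) :
    FGA.intNum k X 2 ![ClSub.idealMod D, ClSub.idealMod D] (Coh.structureModule X) ≤ 0 := by
  obtain ⟨r, ι, hc, -⟩ := Proper.exists_embedding (k := k) (X := X) hdim
  haveI := hc
  have hH := SurfInt.ProjSurf.isAmple ι
  set H := (Scheme.Modules.pullback ι).obj (Twist.twistProjSpace r k 1)
  by_contra hpos
  push Not at hpos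
  have h0 := Connected.eq_zero_of_sq_nonneg (k := k) hdim hH (SurfInt.Effective.isInvertible_idealMod hD)
    (SurfInt.Effective.isInvertible_idealMod hF) hpos hDF hFF.ge hH.1
  exact (SurfInt.NegDef.intNum_eff_ample_neg (Snapper.Finite.cohFinite k X) hdim
    (SurfInt.NegDef.regular_of_smooth (k := k) (X := X)) hH hF hF0).ne h0

/-- Two orthogonal divisors of square zero are proportional in intersection numbers. -/
theorem exists_proportional {F D : X.IdealSheafData} (hF : BlowUp.IsEffCartierIdeal F) (hF0 : F ≠ ⊤)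
    (hD : BlowUp.IsEffCartierIdeal D) (hD0 : D ≠ ⊤)
    (hFF : FGA.intNum k X 2 ![ClSub.idealMod F, ClSub.idealMod F] (Coh.structureModule X) = 0)
    (hDF : FGA.intNum k X 2 ![ClSub.idealMod D, ClSub.idealMod F] (Coh.structureModule X) = 0)
    (hDD : FGA.intNum k X 2 ![ClSub.idealMod D, ClSub.idealMod D] (Coh.structureModule X) = 0) :
    ∃ a b : ℕ, 0 < a ∧ 0 < b ∧ ∀ Q : X.Modules, PicF.IsInvertible Q →
      (a : ℤ) * FGA.intNum k X 2 ![ClSub.idealMod D, Q] (Coh.structureModule X) =
        (b : ℤ) * FGA.intNum k X 2 ![ClSub.idealMod F, Q] (Coh.structureModule X) := by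
  have hfin := Snapper.Finite.cohFinite k X
  have hreg := SurfInt.NegDef.regular_of_smooth (k := k) (X := X)
  have hd : topologicalKrullDim X ≤ 2 := hdim.le
  have hO := Snapper.Twist.isCoh_structureModule X
  obtain ⟨r, ι, hc, -⟩ := Proper.exists_embedding (k := k) (X := X) hdim
  haveI := hc
  have hH := SurfInt.ProjSurf.isAmple ι
  set H := (Scheme.Modules.pullback ι).obj (Twist.twistProjSpace r k 1)
  have hFH := SurfInt.NegDef.intNum_eff_ample_neg hfin hdim hreg hH hF hF0
  have hDH := SurfInt.NegDef.intNum_eff_ample_neg hfin hdim hreg hH hD hD0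
  obtain ⟨a, ha⟩ : ∃ n : ℕ, -FGA.intNum k X 2 ![ClSub.idealMod F, H] (Coh.structureModule X) = ((n + 1 : ℕ) : ℤ) :=
    ⟨(-FGA.intNum k X 2 ![ClSub.idealMod F, H] (Coh.structureModule X)).toNat - 1, by omega⟩
  obtain ⟨b, hb⟩ : ∃ n : ℕ, -FGA.intNum k X 2 ![ClSub.idealMod D, H] (Coh.structureModule X) = ((n + 1 : ℕ) : ℤ) :=
    ⟨(-FGA.intNum k X 2 ![ClSub.idealMod D, H] (Coh.structureModule X)).toNat - 1, by omega⟩
  refine ⟨a + 1, b + 1, a.succ_pos, b.succ_pos, fun Q hQ => ?_⟩
  have hDa := SurfInt.Effective.isInvertible_idealMod (Ideal.EffCartier.isEffCartier_pow hD (a + 1))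
  have hFb := SurfInt.Effective.isInvertible_idealMod (Ideal.EffCartier.isEffCartier_pow hF (b + 1))
  have hFb' := TensorMod.Invertible.isInvertible_dual hFb
  let P := CohB1.tensorMod (ClSub.idealMod (D ^ (a + 1))) (TensorMod.Dual.dual (ClSub.idealMod (F ^ (b + 1))))
  have hP : PicF.IsInvertible P := TensorMod.Invertible.isInvertible_tensorMod hDa hFb'
  have hPR : ∀ R : X.Modules, PicF.IsInvertible R →
      FGA.intNum k X 2 ![P, R] (Coh.structureModule X) =
        ((a + 1 : ℕ) : ℤ) * FGA.intNum k X 2 ![ClSub.idealMod D, R] (Coh.structureModule X) -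
          ((b + 1 : ℕ) : ℤ) * FGA.intNum k X 2 ![ClSub.idealMod F, R] (Coh.structureModule X) := fun R hR => by
    rw [Snapper.IntNum.intNum_pair_tensor_left hfin hd hDa hFb' hR hO,
      Snapper.IntNum.intNum_pair_inverse hfin hd hFb hFb' (TensorMod.Invertible.tensorDualIso hFb) hR hO,
      SurfInt.JPow.intNum_pow hfin hdim hD hR, SurfInt.JPow.intNum_pow hfin hdim hF hR]
    ring
  have hDi := SurfInt.Effective.isInvertible_idealMod hD
  have hFi := SurfInt.Effective.isInvertible_idealMod hF
  have hHP : FGA.intNum k X 2 ![H, P] (Coh.structureModule X) = 0 := by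
    rw [Snapper.IntNum.intNum_pair_comm, hPR _ hH.1, ← ha, ← hb]
    ring
  have hPP : FGA.intNum k X 2 ![P, P] (Coh.structureModule X) = 0 := by
    rw [hPR _ hP, Snapper.IntNum.intNum_pair_comm (ClSub.idealMod D), hPR _ hDi,
      Snapper.IntNum.intNum_pair_comm (ClSub.idealMod F) P, hPR _ hFi, hDD, hDF, hFF,
      Snapper.IntNum.intNum_pair_comm (ClSub.idealMod F) (ClSub.idealMod D), hDF]
    ring
  have h0 := Connected.eq_zero_of_sq_nonneg (k := k) hdim hH hH.1 hP
    (SurfInt.ConeForm.disc_int.self_pos hfin hdim hreg hH) hHP hPP.ge hQ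
  rw [hPR Q hQ] at h0
  linarith

/-- A fibre over a closed point has zero intersection with the curves in fibres. -/
theorem intNum_fibre_vertical {C : Scheme.{u}} (f : X ⟶ C) {q : C} (hq : IsClosed ({q} : Set C))
    {F : X.IdealSheafData} (hF : BlowUp.IsEffCartierIdeal F)
    (hFs : (F.support : Set X) = f.base ⁻¹' {q}) {W : X.Opens} (g : Γ(X, W)) (hg : g ≠ 0)
    (hW : (F.support : Set X) ⊆ W)
    (hst : ∀ (y : X) (_ : y ∈ F.support) (hy : y ∈ W),
      Ideal.Prime.stalkIdeal F y = _root_.Ideal.span {X.presheaf.germ W y hy g})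
    (E : X.IdealSheafData) [IsIntegral E.subscheme] (hEd : topologicalKrullDim (E.support : Set X) = 1)
    (hEv : ∃ c : C, ∀ x : X, x ∈ E.support → f.base x = c) :
    FGA.intNum k X 2 ![ClSub.idealMod E, ClSub.idealMod F] (Coh.structureModule X) = 0 := by
  obtain ⟨c, hc⟩ := hEv
  by_cases hcq : c = q
  · have hsub : (E.support : Set X) ⊆ (F.support : Set X) := fun x hx =>
      hFs.ge (show f.base x = q from (hc x hx).trans hcq)
    rw [Snapper.IntNum.intNum_pair_comm]
    exact Transform.intNum_eq_zero_of_principal (k := k) hdim E hEd hF g hg (hsub.trans hW)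
      fun y hy hyW => hst y (hsub hy) hyW
  · exact Contraction.intNum_eq_zero_of_disjoint (k := k) hdim E hEd hF
      (Set.eq_empty_of_forall_notMem fun x hx => hcq ((hc x hx.1).symm.trans (hFs.le hx.2)))

end Groth.Agent.S15092

namespace Groth.Agent.S15092

/-- Let k be an algebraically closed field, X a smooth projective surface over k (integral, proper and
smooth, of dimension 2), C a smooth projective curve over k (integral, proper and smooth, of
dimension 1) and f : X → C a semi-stable fibration: a surjective k-morphism with O_C → f_*O_X an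
isomorphism which is an at-worst-nodal family (flat, of finite presentation, all fibres
one-dimensional with at worst nodal singularities), whose fibre over some closed point q₀ is smooth
with χ(O) = 1 − g for some g ≥ 2 (computed on X through the direct image of the structure sheaf of
the fibre), and with no exceptional curve of the first kind in a fibre (no integral vertical curve E
with χ(O_E) = 1 and E² = −1). Let ω_{X/C} = ω_X ⊗ (f^*Ω_{C/k})^{-1} be the relative dualizing
module, ω_X a second exterior power of Ω_{X/k} and (f^*Ω_{C/k})^{-1} a tensor inverse of f^*Ω_{C/k}.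
Let D ⊆ X be an integral curve (integral closed subscheme of dimension 1) lying in a fibre of f, and
O_X(D) a tensor inverse of its ideal sheaf. Then (ω_{X/C}·O_X(D)) ≥ 0; and if (ω_{X/C}·O_X(D)) = 0
then χ(O_D) = 1 and (D·D) = −2, that is, D is a smooth rational curve of self-intersection −2. Here
(L·L') = χ(O_X) − χ(L) − χ(L') + χ(L ⊗ L') for invertible L, L'. -/
theorem result (k : Type u) [Field k] [IsAlgClosed k]
    (X : Scheme.{u}) [X.Over (Spec (CommRingCat.of k))] [IsProper (X ↘ (Spec (CommRingCat.of k)))]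
    [Smooth (X ↘ (Spec (CommRingCat.of k)))] [IsIntegral X] (hdim : topologicalKrullDim X = 2)
    (C : Scheme.{u}) [C.Over (Spec (CommRingCat.of k))] [IsProper (C ↘ (Spec (CommRingCat.of k)))]
    [Smooth (C ↘ (Spec (CommRingCat.of k)))] [IsIntegral C] (hdimC : topologicalKrullDim C = 1)
    (f : X ⟶ C) [f.IsOver (Spec (CommRingCat.of k))] [Surjective f] (hconn : IsIso (ClSub.unitToPush f))
    (hss : Curv2.IsNodalFamily f)
    (q₀ : C) (hq₀ : IsClosed ({q₀} : Set C)) (hsm : Smooth (f.fiberToSpecResidueField q₀))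
    (g : ℕ) (hg2 : 2 ≤ g) (hg : Curv2.euler k X (ClSub.quotMod (f.fiberι q₀).ker) = 1 - (g : ℤ))
    (hmin : ∀ E : X.IdealSheafData, IsIntegral E.subscheme → topologicalKrullDim (E.support : Set X) = 1 →
      (∃ c : C, ∀ x : X, x ∈ E.support → f.base x = c) → Curv2.euler k X (ClSub.quotMod E) = 1 →
      FGA.intNum k X 2 ![ClSub.idealMod E, ClSub.idealMod E] (Coh.structureModule X) ≠ -1)
    (WX : X.Modules) (hWX : ExtPow.IsExtPow 2 (Omega.sheaf (X ↘ (Spec (CommRingCat.of k)))) WX)
    (M : X.Modules) (hM : ClSub.IsInverseOf M ((Scheme.Modules.pullback f).obj (Omega.sheaf (C ↘ (Spec (CommRingCat.of k))))))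
    (D : X.IdealSheafData) (hD : IsIntegral D.subscheme) (hD1 : topologicalKrullDim (D.support : Set X) = 1)
    (hDv : ∃ c : C, ∀ x : X, x ∈ D.support → f.base x = c)
    (LD : X.Modules) (hLD : ClSub.IsInverseOf LD (ClSub.idealMod D)) :
    0 ≤ FGA.intNum k X 2 ![(CohB1.tensorMod WX M), LD] (Coh.structureModule X) ∧
      (FGA.intNum k X 2 ![(CohB1.tensorMod WX M), LD] (Coh.structureModule X) = 0 →
        Curv2.euler k X (ClSub.quotMod D) = 1 ∧ FGA.intNum k X 2 ![LD, LD] (Coh.structureModule X) = -2) := by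
  classical
  haveI := Curves.GlobalSections.isNoetherian_of_proper k X
  haveI := Curves.GlobalSections.isNoetherian_of_proper k C
  haveI : IsProper f := by
    have h : IsProper (f ≫ (C ↘ Spec (CommRingCat.of k))) := by rw [comp_over]; infer_instance
    exact IsProper.of_comp f (C ↘ Spec (CommRingCat.of k))
  haveI : SmoothOfRelativeDimension 1 (C ↘ Spec (CommRingCat.of k)) :=
    Proper.smoothOfRelativeDimension (k := k) 1 (by rw [hdimC]; rfl)
  have hfin := Snapper.Finite.cohFinite k X
  have hreg := SurfInt.NegDef.regular_of_smooth (k := k) (X := X)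
  have hd : topologicalKrullDim X ≤ 2 := hdim.le
  have hO := Snapper.Twist.isCoh_structureModule X
  have hp := hq₀
  let p := q₀
  haveI := WeilExt.Basic.isRegularLocalRing_stalk (C ↘ Spec (CommRingCat.of k)) p
  have hdimp : ringKrullDim (C.presheaf.stalk p) = 1 := by
    simpa using ProjSpace.SmoothDimEq.ringKrullDim_stalk_closed k (C ↘ Spec (CommRingCat.of k)) 1 hp
  haveI : (IsLocalRing.maximalIdeal (C.presheaf.stalk p)).IsPrincipal := by
    have h := IsRegularLocalRing.spanFinrank_maximalIdeal (R := C.presheaf.stalk p)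
    rw [hdimp] at h
    refine ⟨?_⟩
    have h1 : (IsLocalRing.maximalIdeal (C.presheaf.stalk p)).spanFinrank = 1 := by exact_mod_cast h
    have hfg := IsNoetherian.noetherian (IsLocalRing.maximalIdeal (C.presheaf.stalk p))
    obtain ⟨s, hcard, hspan⟩ := Submodule.FG.exists_span_set_encard_eq_spanFinrank hfg
    rw [h1, Nat.cast_one, Set.encard_eq_one] at hcard
    obtain ⟨t, rfl⟩ := hcard
    exact ⟨t, hspan.symm⟩
  obtain ⟨t, ht⟩ := Submodule.IsPrincipal.principal (IsLocalRing.maximalIdeal (C.presheaf.stalk p))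
  obtain ⟨V, hpV, s, hs⟩ := C.presheaf.exists_germ_eq (x := p) t
  have hI : Ideal.Prime.stalkIdeal (Scheme.IdealSheafData.vanishingIdeal (⟨{q₀}, hp⟩ : TopologicalSpace.Closeds C)) p =
      IsLocalRing.maximalIdeal (C.presheaf.stalk p) := by
    obtain ⟨A, hA, hpA, -⟩ := exists_isAffineOpen_mem_and_subset (show p ∈ (⊤ : C.Opens) from trivial)
    have hpre : hA.fromSpec ⁻¹' ({p} : Set C) = {hA.primeIdealOf ⟨p, hpA⟩} := by
      ext q
      constructor
      · intro hq
        exact hA.fromSpec.isOpenEmbedding.injective (hq.trans (hA.fromSpec_primeIdealOf ⟨p, hpA⟩).symm)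
      · rintro rfl
        exact hA.fromSpec_primeIdealOf ⟨p, hpA⟩
    rw [Ideal.Prime.stalkIdeal_eq _ ⟨A, hA⟩ hpA, Scheme.IdealSheafData.vanishingIdeal_ideal]
    erw [hpre, PrimeSpectrum.vanishingIdeal_singleton]
    letI algx := C.presheaf.algebra_section_stalk ⟨p, hpA⟩
    haveI := hA.isLocalization_stalk ⟨p, hpA⟩
    exact IsLocalization.AtPrime.map_eq_maximalIdeal (hA.primeIdealOf ⟨p, hpA⟩).asIdeal (C.presheaf.stalk p)
  have ht0 : t ≠ 0 := by
    intro h0
    rw [h0, Submodule.span_singleton_eq_bot.2 rfl] at ht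
    have hF : IsField (C.presheaf.stalk p) := IsLocalRing.isField_iff_maximalIdeal_eq.2 ht
    have := ringKrullDim_eq_zero_of_isField hF
    rw [hdimp] at this
    exact one_ne_zero this
  -- the fibre is cut out by a function
  set F := (Scheme.IdealSheafData.vanishingIdeal (⟨{q₀}, hp⟩ : TopologicalSpace.Closeds C)).comap f with hFdef
  have hFs : (F.support : Set X) = f.base ⁻¹' {p} := by
    rw [hFdef, Scheme.IdealSheafData.support_comap, TopologicalSpace.Closeds.coe_preimage,
      Scheme.IdealSheafData.coe_support_vanishingIdeal]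
    rfl
  have hsub : (F.support : Set X) ⊆ (f ⁻¹ᵁ V : X.Opens) := fun y hy => by
    have hy' : f y = p := hFs.le hy
    change f y ∈ V
    rw [hy']; exact hpV
  have hst : ∀ (y : X) (_ : y ∈ F.support) (hy : y ∈ f ⁻¹ᵁ V), Ideal.Prime.stalkIdeal F y =
      _root_.Ideal.span {X.presheaf.germ (f ⁻¹ᵁ V) y hy (f.app V s)} := by
    intro y hyE hy
    have hy' : f y = p := hFs.le hyE
    subst hy'
    rw [hFdef, CartierDescent.stalkIdeal_comap, hI, ht, _root_.Ideal.submodule_span_eq,
      _root_.Ideal.map_span, Set.image_singleton, ← hs]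
    exact congrArg (fun c => _root_.Ideal.span {c}) (Scheme.Hom.germ_stalkMap_apply f V y hy s)
  have hs0 : s ≠ 0 := fun h0 => ht0 (by rw [← hs, h0, map_zero])
  have hdom : f (genericPoint X) = genericPoint C := by
    refine ((genericPoint_spec X).image f.continuous).eq ?_
    rw [Set.image_univ, f.surjective.range_eq, closure_univ]
    exact genericPoint_spec C
  have hg0 : f.app V s ≠ 0 := by
    intro h0
    haveI : Nonempty V := ⟨⟨p, hpV⟩⟩
    have hzV : f (genericPoint X) ∈ V := by
      rw [hdom]; exact (genericPoint_spec C).mem_open_set_iff V.2 |>.2 ⟨p, trivial, hpV⟩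
    have h2 := Scheme.Hom.germ_stalkMap_apply f V (genericPoint X) hzV s
    rw [h0, map_zero] at h2
    have hfield : IsField (C.presheaf.stalk (f (genericPoint X))) := by
      rw [hdom]; exact Field.toIsField C.functionField
    letI := hfield.toField
    refine hs0 (germ_injective_of_isIntegral C (f (genericPoint X)) hzV ?_)
    rw [map_zero]
    exact (RingHom.injective (f.stalkMap (genericPoint X)).hom) (h2.trans (map_zero _).symm)
  have hFc : BlowUp.IsEffCartierIdeal F := by
    refine Groth.Agent.H4.CartierUFD.isEffCartier_of_stalks F fun x => ?_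
    by_cases hx : x ∈ F.support
    · refine ⟨_, mem_nonZeroDivisors_of_ne_zero fun h0 => hg0 ?_, hst x hx (hsub hx)⟩
      exact germ_injective_of_isIntegral X x (hsub hx) (h0.trans (map_zero _).symm)
    · exact ⟨1, one_mem _, by rw [Transform.stalkIdeal_eq_top hx, _root_.Ideal.span_singleton_one]⟩
  have hFfib : (f.fiberι q₀).ker = F := by
    haveI : IsClosedImmersion (C.fromSpecResidueField q₀) := by
      rw [IsClosedImmersion.iff_isPreimmersion]
      refine ⟨inferInstance, ?_⟩
      rw [Scheme.range_fromSpecResidueField]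
      exact hp
    refine (Scheme.IdealSheafData.ker_fst_of_isClosedImmersion (C.fromSpecResidueField q₀) f).trans ?_
    rw [hFdef, H75.RedKer.ker_eq_vanishingIdeal]
    congr 2
    ext1
    simp only [Scheme.range_fromSpecResidueField, hp.closure_eq]
  have hF0 : F ≠ ⊤ := by
    intro h
    obtain ⟨x, hx⟩ := f.surjective q₀
    have : x ∈ (F.support : Set X) := hFs.ge hx
    rw [h, Scheme.IdealSheafData.support_top] at this
    exact this
  have hFi := SurfInt.Effective.isInvertible_idealMod hFc
  have hvert := fun (E : X.IdealSheafData) (hE : IsIntegral E.subscheme)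
      (hEd : topologicalKrullDim (E.support : Set X) = 1) (hEv : ∃ c : C, ∀ x : X, x ∈ E.support → f.base x = c) =>
    intNum_fibre_vertical (k := k) hdim f hq₀ hFc hFs (f.app V s) hg0 hsub hst E hEd hEv
  have hFF : FGA.intNum k X 2 ![ClSub.idealMod F, ClSub.idealMod F] (Coh.structureModule X) = 0 :=
    SurfInt.Mul.induction (X ↘ Spec (CommRingCat.of k)) hdim hreg
      (P := fun G => (G.support : Set X) ⊆ F.support →
        FGA.intNum k X 2 ![ClSub.idealMod G, ClSub.idealMod F] (Coh.structureModule X) = 0)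
      (fun _ => SurfInt.NegDef.intNum_top hfin hdim hFi)
      (fun E hint G hEd hG ih hsup => by
        haveI := hint
        rw [Scheme.IdealSheafData.support_mul] at hsup
        rw [SurfInt.NegDef.intNum_mul hfin hdim (Fundamental.isEff (k := k) hdim hEd) hG hFi,
          hvert E hint hEd ⟨q₀, fun x hx => hFs.le (hsup (Or.inl hx))⟩,
          ih fun x hx => hsup (Or.inr hx), add_zero]) hFc subset_rfl
  haveI := hD
  have hDc := Fundamental.isEff (k := k) hdim hD1
  have hD0 : D ≠ ⊤ := Fundamental.ne_top (k := k) hdim hD1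
  have hDi := SurfInt.Effective.isInvertible_idealMod hDc
  have hWi := Duality.isInvertible_canonical (k := k) hdim hWX
  -- `χ(O_D) ≤ 1`
  have hχ : Curv2.euler k X (ClSub.quotMod D) ≤ 1 := by
    rw [SurfInt.Surface.euler_quot D]
    letI := SurfInt.Surface.overSub (k := k) D
    haveI : IsProper (D.subscheme ↘ Spec (CommRingCat.of k)) :=
      inferInstanceAs (IsProper (D.subschemeι ≫ (X ↘ Spec (CommRingCat.of k))))
    have hd1 : topologicalKrullDim D.subscheme ≤ ((1 : ℕ) : WithBot ℕ∞) := by
      exact_mod_cast ((SurfInt.Surface.dim_subscheme D).trans hD1).le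
    have h0 := Curves.GlobalSections.finrank_h0_structure k D.subscheme
    haveI := Curves.GlobalSections.noetherianSpace_of_proper k D.subscheme
    rw [Snapper.Chi.euler_eq_eulerCharLE hd1]
    simp only [FGA.eulerCharLE, Finset.sum_range_succ, Finset.sum_range_zero, h0]
    push_cast
    omega
  -- the base contributes nothing along `D`
  obtain ⟨eM⟩ := hM
  obtain ⟨eD⟩ := hLD
  have hΩ : PicF.IsInvertible (Omega.sheaf (C ↘ Spec (CommRingCat.of k))) :=
    TensorMod.LocFree.isInvertible_of_rank_one (FundLocal.Rank.isFinLocFreeOfRank_omega _ 1)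
  have hMi : PicF.IsInvertible M := TensorMod.TensorInv.isInvertible_of_tensor_iso eM
  have hLDi : PicF.IsInvertible LD := TensorMod.TensorInv.isInvertible_of_tensor_iso eD
  have hPi := PicLoc.isInvertible_pullback f hΩ
  have hDP : FGA.intNum k X 2 ![ClSub.idealMod D,
      (Scheme.Modules.pullback f).obj (Omega.sheaf (C ↘ Spec (CommRingCat.of k)))] (Coh.structureModule X) = 0 := by
    rw [SurfInt.Surface.intNum_ideal_eq_neg_deg hfin hd hDi hPi]
    letI := SurfInt.Surface.overSub (k := k) D
    obtain ⟨c, hc⟩ := hDv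
    have hDne : (D.support : Set X).Nonempty := ⟨_, Ideal.Prime.gen_mem D⟩
    have hcc : IsClosed ({c} : Set C) := by
      have : f.base '' (D.support : Set X) = {c} :=
        Set.eq_singleton_iff_nonempty_unique_mem.2 ⟨hDne.image _, by rintro _ ⟨x, hx, rfl⟩; exact hc x hx⟩
      exact this ▸ f.isClosedMap _ D.support.isClosed
    let xc := pointOfClosedPoint (C ↘ Spec (CommRingCat.of k)) c hcc
    have heq : D.subschemeι ≫ f = (D.subscheme ↘ Spec (CommRingCat.of k)) ≫ xc := by
      haveI : LocallyOfFiniteType ((D.subschemeι ≫ f) ≫ (C ↘ Spec (CommRingCat.of k))) := by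
        rw [Category.assoc, comp_over]; infer_instance
      refine ext_of_apply_eq (C ↘ Spec (CommRingCat.of k)) Set.univ isClosed_univ.isLocallyClosed dense_univ
        (fun x _ _ => ?_) ?_
      · refine (hc _ ?_).trans (pointOfClosedPoint_apply _ _ _ _).symm
        exact D.range_subschemeι.le ⟨x, rfl⟩
      · rw [Category.assoc, comp_over, Category.assoc, pointOfClosedPoint_comp, Category.comp_id]
        rfl
    obtain ⟨e1⟩ := PicGen.OpenUFD.nonempty_iso_spec k _ (PicLoc.isInvertible_pullback xc hΩ)
    let e0 : (Scheme.Modules.pullback D.subschemeι).obj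
        ((Scheme.Modules.pullback f).obj (Omega.sheaf (C ↘ Spec (CommRingCat.of k)))) ≅
        Coh.structureModule D.subscheme :=
      ((Scheme.Modules.pullbackComp D.subschemeι f).app _) ≪≫
        (Scheme.Modules.pullbackCongr heq).app _ ≪≫
        ((Scheme.Modules.pullbackComp _ xc).app _).symm ≪≫ (Scheme.Modules.pullback _).mapIso e1 ≪≫
          PicLoc.pullbackStructureIso _
    rw [Curves.Euler.deg_eq_of_iso e0 1]
    simp [Curv2.deg]
  have hDM : FGA.intNum k X 2 ![ClSub.idealMod D, M] (Coh.structureModule X) = 0 := by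
    rw [Snapper.IntNum.intNum_pair_comm,
      Snapper.IntNum.intNum_pair_inverse hfin hd hPi hMi (comm _ M ≪≫ eM) hDi hO,
      Snapper.IntNum.intNum_pair_comm, hDP, neg_zero]
  have hinv : ∀ P : X.Modules, PicF.IsInvertible P →
      FGA.intNum k X 2 ![LD, P] (Coh.structureModule X) =
        - FGA.intNum k X 2 ![ClSub.idealMod D, P] (Coh.structureModule X) := fun P hP =>
    Snapper.IntNum.intNum_pair_inverse hfin hd hDi hLDi (comm _ LD ≪≫ eD) hP hO
  have hω : FGA.intNum k X 2 ![CohB1.tensorMod WX M, LD] (Coh.structureModule X) =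
      - FGA.intNum k X 2 ![ClSub.idealMod D, WX] (Coh.structureModule X) := by
    rw [Snapper.IntNum.intNum_pair_tensor_left hfin hd hWi hMi hLDi hO,
      Snapper.IntNum.intNum_pair_comm WX, Snapper.IntNum.intNum_pair_comm M, hinv _ hWi, hinv _ hMi, hDM]
    ring
  have hLL : FGA.intNum k X 2 ![LD, LD] (Coh.structureModule X) =
      FGA.intNum k X 2 ![ClSub.idealMod D, ClSub.idealMod D] (Coh.structureModule X) := by
    rw [hinv _ hLDi, Snapper.IntNum.intNum_pair_comm, hinv _ hDi]
    ring
  have hadjD := Cycles.adjunction (k := k) hdim hDc hWX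
  have hadjF := Cycles.adjunction (k := k) hdim hFc hWX
  rw [hFF, ← hFfib, hg] at hadjF
  rw [hFfib] at hadjF
  have hDF := hvert D hD hD1 hDv
  have hsq := sq_nonpos_of_orth (k := k) hdim hFc hF0 hDc hFF hDF
  have hm := hmin D hD hD1 hDv
  rw [hω, hLL]
  rcases hsq.lt_or_eq with hlt | heq
  · rcases lt_or_eq_of_le hχ with h1 | h1
    · exact ⟨by omega, fun h => absurd h (by omega)⟩
    · have := hm h1
      exact ⟨by omega, fun h => ⟨h1, by omega⟩⟩
  · obtain ⟨a, b, ha, hb, hab⟩ := exists_proportional (k := k) hdim hFc hF0 hDc hD0 hFF hDF heq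
    have h2 := hab WX hWi
    have hneg : FGA.intNum k X 2 ![ClSub.idealMod D, WX] (Coh.structureModule X) < 0 := by
      have hFW : FGA.intNum k X 2 ![ClSub.idealMod F, WX] (Coh.structureModule X) < 0 := by
        push_cast at hadjF
        linarith [(by exact_mod_cast hg2 : (2 : ℤ) ≤ (g : ℤ))]
      have hb' : (0 : ℤ) < b := by exact_mod_cast hb
      have ha' : (0 : ℤ) < a := by exact_mod_cast ha
      by_contra hge
      push Not at hge
      nlinarith
    exact ⟨by omega, fun h => absurd h (by omega)⟩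

end Groth.Agent.S15092
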