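import Groth.Statements.S15098
import Groth.Agent.Lib.SurfRR.Connected

set_option autoImplicit false
universe u
open CategoryTheory CategoryTheory.Limits AlgebraicGeometry
open Surf

namespace Groth.Agent.S15098

/-- Let k be an algebraically closed field, X a smooth projective surface over k (integral, proper and
smooth, of dimension 2) and D an effective Cartier divisor on X, given by its ideal sheaf I_D, which
is numerically positive: (D·D) > 0 and (D·Γ) ≥ 0 for every integral curve Γ ⊆ X, that is χ(O_Γ ⊗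
I_D) − χ(O_Γ) ≤ 0. Then D is numerically connected: whenever D = D₁ + D₂ with D₁, D₂ non-zero
effective Cartier divisors (I_D = I_{D₁}·I_{D₂} with both ideal sheaves different from O_X), (D₁·D₂)
> 0. Intersection numbers of divisors are computed on their ideal sheaves: (D₁·D₂) = χ(O_X) −
χ(I_{D₁}) − χ(I_{D₂}) + χ(I_{D₁} ⊗ I_{D₂}). (The published lemma sits in a positive-characteristic
setting; its argument does not use the characteristic, so none is assumed here.) -/
theorem result (k : Type u) [Field k] [IsAlgClosed k]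
    (X : Scheme.{u}) [X.Over (Spec (CommRingCat.of k))] [IsProper (X ↘ (Spec (CommRingCat.of k)))]
    [Smooth (X ↘ (Spec (CommRingCat.of k)))] [IsIntegral X] (hdim : topologicalKrullDim X = 2)
    (D : X.IdealSheafData) (hD : FGA.IsEffCartier D)
    (hpos : 0 < FGA.intNum k X 2 ![(ClSub.idealMod D), (ClSub.idealMod D)] (Coh.structureModule X))
    (hnef : ∀ Γ : X.IdealSheafData, IsIntegral Γ.subscheme → topologicalKrullDim (Γ.support : Set X) = 1 →
      Curv2.euler k X (CohB1.tensorMod (ClSub.quotMod Γ) (ClSub.idealMod D)) - Curv2.euler k X (ClSub.quotMod Γ) ≤ 0)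
    (D₁ D₂ : X.IdealSheafData) (hD₁ : FGA.IsEffCartier D₁) (hD₂ : FGA.IsEffCartier D₂)
    (hne₁ : D₁ ≠ ⊤) (hne₂ : D₂ ≠ ⊤) (hsum : D = D₁ * D₂) :
    0 < FGA.intNum k X 2 ![(ClSub.idealMod D₁), (ClSub.idealMod D₂)] (Coh.structureModule X) := by
  haveI := Lib.Curves.GlobalSections.isNoetherian_of_proper k X
  haveI : Infinite k := inferInstance
  have hfin := Lib.Snapper.Finite.cohFinite k X
  have hI := Lib.SurfInt.Effective.isInvertible_idealMod hD
  have hI₁ := Lib.SurfInt.Effective.isInvertible_idealMod hD₁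
  have hI₂ := Lib.SurfInt.Effective.isInvertible_idealMod hD₂
  have hN := Lib.TensorMod.Invertible.isInvertible_dual hI
  have e := Lib.TensorMod.Invertible.tensorDualIso hI
  have hO := Lib.Snapper.Twist.isCoh_structureModule X
  have hneg : ∀ {F : X.IdealSheafData}, BlowUp.IsEffCartierIdeal F →
      0 ≤ FGA.intNum k X 2 ![ClSub.idealMod F, ClSub.idealMod D] (Coh.structureModule X) := by
    intro F hF
    have h := Lib.SurfInt.NefInt.nonneg_effective (k := k) hdim hN (fun C hC hC1 => by
      haveI := hC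
      have hJ := Lib.SurfInt.Effective.isInvertible_idealMod
        (Lib.SurfInt.Curve.isEffCartier (X ↘ Spec (CommRingCat.of k)) hdim
          (Lib.SurfInt.NegDef.regular_of_smooth (k := k)) C hC1)
      rw [Lib.Snapper.IntNum.intNum_pair_comm,
        Lib.Snapper.IntNum.intNum_pair_inverse hfin hdim.le hI hN e hJ hO,
        Lib.Snapper.IntNum.intNum_pair_comm, Lib.SurfRR.Minimal.intNum_eq (k := k) hdim C hC1 hI]
      have := hnef C hC hC1
      omega) hF
    rw [Lib.Snapper.IntNum.intNum_pair_comm,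
      Lib.Snapper.IntNum.intNum_pair_inverse hfin hdim.le hI hN e
        (Lib.SurfInt.Effective.isInvertible_idealMod hF) hO,
      Lib.Snapper.IntNum.intNum_pair_comm] at h
    omega
  subst hsum
  have hmul := fun {M : X.Modules} (hM : PicF.IsInvertible M) =>
    Lib.SurfInt.NegDef.intNum_mul (k := k) hfin hdim hD₁ hD₂ hM
  have h1 := hneg hD₁
  have h2 := hneg hD₂
  rw [Lib.Snapper.IntNum.intNum_pair_comm, hmul hI₁,
    Lib.Snapper.IntNum.intNum_pair_comm (ClSub.idealMod D₂) (ClSub.idealMod D₁)] at h1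
  rw [Lib.Snapper.IntNum.intNum_pair_comm, hmul hI₂] at h2
  rw [hmul hI, Lib.Snapper.IntNum.intNum_pair_comm, hmul hI₁,
    Lib.Snapper.IntNum.intNum_pair_comm (ClSub.idealMod D₂) (ClSub.idealMod (D₁ * D₂)), hmul hI₂,
    Lib.Snapper.IntNum.intNum_pair_comm (ClSub.idealMod D₂) (ClSub.idealMod D₁)] at hpos
  rcases lt_or_eq_of_le h1 with h1' | h1'
  · exact Lib.SurfRR.Connected.pos_of_pos (k := k) hdim hD₁ hD₂ hne₂ h1' (by linarith)
  · rw [Lib.Snapper.IntNum.intNum_pair_comm]
    refine Lib.SurfRR.Connected.pos_of_pos (k := k) hdim hD₂ hD₁ hne₁ ?_ ?_ <;>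
      rw [Lib.Snapper.IntNum.intNum_pair_comm (ClSub.idealMod D₂) (ClSub.idealMod D₁)] <;> linarith

end Groth.Agent.S15098

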