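import Groth.Statements.S15099
import Groth.Agent.Lib.SurfRR.Ramanujam

set_option autoImplicit false
set_option linter.style.haveILetI false
universe u
open CategoryTheory CategoryTheory.Limits AlgebraicGeometry TopologicalSpace
open Surf

namespace Groth.Agent.S15099

/-- Let k be an algebraically closed field, X a smooth projective surface over k (integral, proper and
smooth, of dimension 2) and D a non-zero effective Cartier divisor on X (ideal sheaf I_D ≠ O_X)
which is numerically connected: whenever D = D₁ + D₂ with D₁, D₂ non-zero effective Cartier divisors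
(I_D = I_{D₁}·I_{D₂}, both different from O_X), (D₁·D₂) = χ(O_X) − χ(I_{D₁}) − χ(I_{D₂}) + χ(I_{D₁}
⊗ I_{D₂}) > 0. Then H⁰(D, O_D) = k, i.e. it is one-dimensional over k (computed on X through the
direct image of O_D). (The published lemma sits in a positive-characteristic setting; the printed
argument does not use the characteristic, so none is assumed here.) -/
theorem result (k : Type u) [Field k] [IsAlgClosed k]
    (X : Scheme.{u}) [X.Over (Spec (CommRingCat.of k))] [IsProper (X ↘ (Spec (CommRingCat.of k)))]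
    [Smooth (X ↘ (Spec (CommRingCat.of k)))] [IsIntegral X] (hdim : topologicalKrullDim X = 2)
    (D : X.IdealSheafData) (hD : FGA.IsEffCartier D) (hD0 : D ≠ ⊤)
    (hnc : ∀ D₁ D₂ : X.IdealSheafData, FGA.IsEffCartier D₁ → FGA.IsEffCartier D₂ → D₁ ≠ ⊤ → D₂ ≠ ⊤ →
      D = D₁ * D₂ → 0 < FGA.intNum k X 2 ![(ClSub.idealMod D₁), (ClSub.idealMod D₂)] (Coh.structureModule X)) :
    Module.finrank k (Coh.HH X (ClSub.quotMod D) 0) = 1 := by
  haveI := Groth.Agent.Lib.Curves.GlobalSections.isNoetherian_of_proper k X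
  have hD' := Groth.Agent.Lib.SurfInt.Effective.isEffCartierIdeal hD
  have e := (Groth.Agent.Lib.TensorMod.Basic.leftUnit (ClSub.quotMod D)).symm
  have hle := Groth.Agent.Lib.SurfRR.Ramanujam.finrank_le_one (k := k) hdim hD'
    (fun Z₁ Z₂ h₁ h₂ => hnc Z₁ Z₂ h₁ h₂) (PicLoc.isInvertible_structureModule X)
    (fun C _ _ _ => by
      rw [Groth.Agent.Lib.Curves.Euler.euler_eq_of_iso
        (Groth.Agent.Lib.TensorMod.Basic.rightUnit (ClSub.quotMod C)), sub_self]) hD0
  rw [← (Groth.Agent.Lib.Curves.LES.isoK k e 0).finrank_eq] at hle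
  refine le_antisymm hle (Nat.one_le_iff_ne_zero.2 fun h0 => hD0 ?_)
  haveI := Groth.Agent.Lib.Snapper.Finite.cohFinite k X _
    (Groth.Agent.Lib.SurfInt.Effective.isCoh_quotMod D) 0
  have hz : ClSub.toSubscheme D = 0 :=
    Groth.Agent.Lib.SurfRR.Ramanujam.hom_eq_zero (Module.finrank_zero_iff.1 h0) _
  haveI := Groth.Agent.Lib.ClSub.Quot.epi_toSubscheme D
  have hQ : IsZero (ClSub.quotMod D) := IsZero.of_epi_eq_zero _ hz
  rw [← Groth.Agent.Lib.Modules.Support.support_eq_empty_iff,
    Groth.Agent.Lib.ClSub.Quot.support_quotMod] at hQ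
  exact D.support_eq_bot_iff.mp (SetLike.ext' hQ)

end Groth.Agent.S15099

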