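import Groth.Statements.S15100
import Mathlib

set_option autoImplicit false
universe u
open TensorProduct
open CAlg

namespace Groth.Agent.S15100

section

variable {A : Type u} [CommRing A] [IsDomain A] {N M : Type u} [AddCommGroup N] [Module A N]
  [AddCommGroup M] [Module A M]

/-- Where both coordinates of the relation vanish, the cokernel is not free. -/
theorem not_free_at (B : Module.Basis (Fin 2) A N) (π : N →ₗ[A] M) (hπ : Function.Surjective π)
    (v : N) (hker : LinearMap.ker π = Submodule.span A {v}) (hv : v ≠ 0) (P : Ideal A) [P.IsPrime]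
    (hc : ∀ i, B.repr v i ∈ P) :
    ¬ Module.Free (Localization.AtPrime P) (LocalizedModule P.primeCompl M) := by
  intro hfree
  let π' := LocalizedModule.map P.primeCompl π
  let v' : LocalizedModule P.primeCompl N := LocalizedModule.mk v 1
  have hsurj : Function.Surjective π' := fun y => by
    induction y using LocalizedModule.induction_on with
    | h m s =>
      obtain ⟨n, rfl⟩ := hπ m
      exact ⟨LocalizedModule.mk n s, LocalizedModule.map_mk _ _ _ _⟩
  have hmem : ∀ y, π' y = 0 → ∃ l : Localization.AtPrime P, y = l • v' := by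
    intro y hy
    induction y using LocalizedModule.induction_on with
    | h n s =>
      rw [LocalizedModule.map_mk, ← LocalizedModule.zero_mk 1, LocalizedModule.mk_eq] at hy
      obtain ⟨c, hc'⟩ := hy
      simp only [one_smul, smul_zero, Submonoid.smul_def] at hc'
      rw [← map_smul, ← LinearMap.mem_ker, hker, Submodule.mem_span_singleton] at hc'
      obtain ⟨r, hr⟩ := hc'
      refine ⟨Localization.mk r (c * s), ?_⟩
      rw [LocalizedModule.mk_smul_mk, mul_one, hr, ← Submonoid.smul_def,
        LocalizedModule.mk_cancel_common_left]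
  obtain ⟨σ, hσ⟩ := Module.projective_lifting_property π' LinearMap.id hsurj
  have hσ' : ∀ y, π' (σ y) = y := fun y => LinearMap.congr_fun hσ y
  choose l hl using fun i : Fin 2 => hmem
    (LocalizedModule.mk (B i) 1 - σ (π' (LocalizedModule.mk (B i) 1)))
    (by rw [map_sub, hσ', sub_self])
  have hπv : π' v' = 0 := by
    rw [LocalizedModule.map_mk, show π v = 0 from LinearMap.mem_ker.1 (hker ▸
      Submodule.mem_span_singleton_self v), LocalizedModule.zero_mk]
  let mk₁ := LocalizedModule.mkLinearMap P.primeCompl N
  have hexp : v' = ∑ i, algebraMap A (Localization.AtPrime P) (B.repr v i) • mk₁ (B i) := by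
    simp only [algebraMap_smul, ← map_smul, ← map_sum, B.sum_repr]
    rfl
  have hfix : (∑ i, algebraMap A (Localization.AtPrime P) (B.repr v i) * l i) • v' = v' := by
    calc (∑ i, algebraMap A (Localization.AtPrime P) (B.repr v i) * l i) • v'
        = ∑ i, algebraMap A (Localization.AtPrime P) (B.repr v i) •
            (mk₁ (B i) - σ (π' (mk₁ (B i)))) := by
          rw [Finset.sum_smul]
          refine Finset.sum_congr rfl fun i _ => ?_
          rw [mul_smul, ← hl i]
          rfl
      _ = v' - σ (π' v') := by
          rw [hexp]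
          simp only [map_sum, map_smul, smul_sub, Finset.sum_sub_distrib]
      _ = v' := by rw [hπv, map_zero, sub_zero]
  have hu : IsUnit (1 - ∑ i, algebraMap A (Localization.AtPrime P) (B.repr v i) * l i) := by
    refine (IsLocalRing.isUnit_or_isUnit_one_sub_self _).resolve_left ?_
    refine (IsLocalRing.mem_maximalIdeal _).1 (Ideal.sum_mem _ fun i _ => Ideal.mul_mem_right _ _ ?_)
    exact (IsLocalization.AtPrime.to_map_mem_maximal_iff (Localization.AtPrime P) P (B.repr v i)).2 (hc i)
  have h0 : v' = 0 := by
    have h : (1 - ∑ i, algebraMap A (Localization.AtPrime P) (B.repr v i) * l i) • v' = 0 := by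
      rw [sub_smul, one_smul, hfix, sub_self]
    exact hu.smul_eq_zero.1 h
  obtain ⟨c, hc'⟩ := LocalizedModule.mk_eq.1 (h0.trans (LocalizedModule.zero_mk 1).symm)
  simp only [one_smul, smul_zero, Submonoid.smul_def] at hc'
  have h : ∀ i, (c : A) * B.repr v i = 0 := fun i => by
    simpa using congrArg (fun w => B.repr w i) hc'
  refine hv (B.repr.injective (Finsupp.ext fun i => ?_))
  rw [map_zero, Finsupp.zero_apply]
  exact (mul_eq_zero.1 (h i)).resolve_left fun h0 => c.2 (h0 ▸ zero_mem P)

/-- A unimodular relation gives a free cokernel. -/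
theorem free_of_not_le [IsLocalRing A] [IsNoetherianRing A] [Module.Free A N] [Module.Finite A N]
    (B : Module.Basis (Fin 2) A N) (π : N →ₗ[A] M) (hπ : Function.Surjective π) (v : N)
    (hker : LinearMap.ker π = Submodule.span A {v}) (i : Fin 2) (hu : IsUnit (B.repr v i)) :
    Module.Free A M := by
  obtain ⟨u, hu⟩ := hu
  let lam : N →ₗ[A] A := ((u⁻¹ : Aˣ) : A) • B.coord i
  have hlam : lam v = 1 := by
    simp [lam, Module.Basis.coord_apply, ← hu]
  let p : N →ₗ[A] N := LinearMap.id - lam.smulRight v
  let s : M →ₗ[A] N := ((LinearMap.ker π).liftQ p (by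
    rw [hker, Submodule.span_le, Set.singleton_subset_iff, SetLike.mem_coe, LinearMap.mem_ker]
    simp [p, hlam])).comp (π.quotKerEquivOfSurjective hπ).symm.toLinearMap
  haveI : Module.Finite A M := Module.Finite.of_surjective π hπ
  haveI : Module.Projective A M := Module.Projective.of_split s π (LinearMap.ext fun m => by
    obtain ⟨n, rfl⟩ := hπ m
    have hn : π.quotKerEquivOfSurjective hπ (Submodule.Quotient.mk n) = π n := rfl
    have hv : π v = 0 := LinearMap.mem_ker.1 (hker ▸ Submodule.mem_span_singleton_self v)
    simp only [s, LinearMap.comp_apply, LinearEquiv.coe_coe, ← hn, LinearEquiv.symm_apply_apply,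
      Submodule.liftQ_apply, p, LinearMap.sub_apply, LinearMap.id_apply, LinearMap.smulRight_apply,
      map_sub, map_smul, hv, smul_zero, sub_zero])
  haveI : Module.FinitePresentation A M := Module.finitePresentation_of_finite A M
  exact Module.free_of_flat_of_isLocalRing

end

/-- Let V be a discrete valuation ring with uniformizer u and V → R → A commutative V-algebras with A an
R-algebra compatibly; assume A is a Noetherian local domain of Krull dimension 3 with u in its
maximal ideal, that Ω_{A/V} is a free A-module of rank 2 and that A ⊗_R Ω_{R/V} is a free A-module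
of rank 1. Suppose that on the special fibre Ω_{A/R} is locally free exactly away from the closed
point: for every prime P of A containing u other than the maximal ideal the localization (Ω_{A/R})_P
is free over A_P, while Ω_{A/R} is not free over A. Then Ω_{A/R} is not locally free on the generic
fibre: there is a prime Q of A not containing u with (Ω_{A/R})_Q not free over A_Q. (In the
published statement R is a regular local ring of dimension 2 and A a local ring of dimension 3, both
smooth over V, which yields the two freeness hypotheses used here, and the hypothesis is phrased as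
local freeness of Ω of the special fibre of A over that of R away from the closed point.) -/
theorem result
    (V R A : Type u) [CommRing V] [IsDomain V] [IsDiscreteValuationRing V] [CommRing R] [CommRing A]
    [IsDomain A] [IsNoetherianRing A] [IsLocalRing A]
    [Algebra V R] [Algebra V A] [Algebra R A] [IsScalarTower V R A]
    (u : V) (hu : Irreducible u) (huA : algebraMap V A u ∈ IsLocalRing.maximalIdeal A)
    (hdimA : ringKrullDim A = 3)
    (hΩA : Module.Free A (Ω[A⁄V])) (hrkA : Module.finrank A (Ω[A⁄V]) = 2)
    (hΩR : Module.Free A (A ⊗[R] Ω[R⁄V])) (hrkR : Module.finrank A (A ⊗[R] Ω[R⁄V]) = 1)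
    (h0 : ∀ P : PrimeSpectrum A, algebraMap V A u ∈ P.asIdeal → P.asIdeal ≠ IsLocalRing.maximalIdeal A →
      Module.Free (Localization.AtPrime P.asIdeal) (LocalizedModule P.asIdeal.primeCompl (Ω[A⁄R])))
    (hm : ¬ Module.Free A (Ω[A⁄R])) :
    ∃ Q : PrimeSpectrum A, algebraMap V A u ∉ Q.asIdeal ∧
      ¬ Module.Free (Localization.AtPrime Q.asIdeal) (LocalizedModule Q.asIdeal.primeCompl (Ω[A⁄R])) := by
  classical
  let m := IsLocalRing.maximalIdeal A
  haveI : Module.Finite A (Ω[A⁄V]) := Module.finite_of_finrank_eq_succ hrkA
  haveI : Module.Finite A (A ⊗[R] Ω[R⁄V]) := Module.finite_of_finrank_eq_succ hrkR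
  let B := Module.finBasisOfFinrankEq A (Ω[A⁄V]) hrkA
  let e := Module.finBasisOfFinrankEq A (A ⊗[R] Ω[R⁄V]) hrkR
  let π := KaehlerDifferential.map V R A A
  have hπ : Function.Surjective π := KaehlerDifferential.map_surjective V R A
  let v := KaehlerDifferential.mapBaseChange V R A (e 0)
  have hker : LinearMap.ker π = Submodule.span A {v} := by
    rw [← KaehlerDifferential.range_mapBaseChange, ← Submodule.map_top, ← e.span_eq,
      Submodule.map_span]
    congr 1
    ext z
    simp [v, eq_comm]
  have hv : v ≠ 0 := by
    intro h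
    rw [h, Submodule.span_zero_singleton, LinearMap.ker_eq_bot] at hker
    exact hm (Module.Free.of_equiv (LinearEquiv.ofBijective π ⟨hker, hπ⟩))
  have hI : ∀ i, B.repr v i ∈ m := fun i => by
    rw [IsLocalRing.mem_maximalIdeal]
    exact fun hu => hm (free_of_not_le B π hπ v hker i hu)
  let I : Ideal A := Ideal.span (Set.range fun i => B.repr v i)
  by_contra hQ
  push Not at hQ
  have hmin : m ∈ I.minimalPrimes := by
    refine ⟨⟨inferInstance, Ideal.span_le.2 (Set.range_subset_iff.2 hI)⟩, ?_⟩
    rintro Q ⟨hQp, hIQ⟩ hQm
    by_contra hne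
    have hQne : Q ≠ m := fun h => hne h.ge
    have hfree : Module.Free (Localization.AtPrime Q) (LocalizedModule Q.primeCompl (Ω[A⁄R])) := by
      by_cases hu : algebraMap V A u ∈ Q
      · exact h0 ⟨Q, hQp⟩ hu hQne
      · exact hQ ⟨Q, hQp⟩ hu
    exact not_free_at B π hπ v hker hv Q (fun i => hIQ (Ideal.subset_span ⟨i, rfl⟩)) hfree
  have hh := Ideal.height_le_spanRank_toENat_of_mem_minimalPrimes I m hmin
  have h2 : I.spanRank ≤ 2 := by
    refine (Submodule.spanRank_span_le_card _).trans ?_
    have h := Cardinal.mk_range_le_lift (f := fun i => B.repr v i)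
    simpa using h
  have h3 : (m.height : WithBot ℕ∞) = 3 := by
    rw [IsLocalRing.maximalIdeal_height_eq_ringKrullDim, hdimA]
  have h4 : m.height ≤ 2 := hh.trans ((OrderHomClass.mono Cardinal.toENat h2).trans (le_of_eq (map_ofNat Cardinal.toENat 2)))
  have h5 : m.height = 3 := WithBot.coe_inj.1 (h3.trans rfl)
  rw [h5] at h4
  exact absurd h4 (by norm_num)

end Groth.Agent.S15100
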