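import Groth.Statements.S3345
import Groth.Agent.S2431
import Groth.Agent.Lib.ModelFibre.DivisorBound
import Groth.Agent.Lib.ModelFibre.RedFibre
import Groth.Agent.Lib.ModelFibre.P1Curve
-- import your own Groth.Agent.* helpers here

set_option autoImplicit false
universe u
open CategoryTheory CategoryTheory.Limits AlgebraicGeometry
open Models

namespace Groth.Agent.S3345
open Groth.Agent.Lib.ModelFibre Groth.Agent.Lib

/-- In the following situation (R a discrete valuation ring with residue field k, C a smooth proper
curve over its fraction field K with H^0(C, O_C) = K, X a regular proper model, Γ_1, …, Γ_n the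
irreducible components of the closed fibre with multiplicities m_i) assume X is a minimal model,
gcd(m_1, …, m_n) = 1 and H^0((X_k)_red, O) = k. Then dim_k H^1((X_k)_red, O) ≤ dim_k H^1(X_k, O),
and the inequality is strict when X_k is not reduced (k-dimensions computed as R-lengths of the
cohomology on X of the structure sheaves of the two closed subschemes). The published statement is
the stronger one that H^1(X_k, O_{X_k}) → H^1((X_k)_red, O) is surjective, with non-zero kernel when
X_k is not reduced; this is its form in terms of dimensions. -/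
theorem result (R : Type u) [CommRing R] [IsDomain R] [IsDiscreteValuationRing R]
    (C X : Scheme.{u}) (f : C ⟶ Spec (CommRingCat.of (FractionRing R))) (p : X ⟶ Spec (CommRingCat.of R))
    (hC : Curve.IsSmoothProperCurve (FractionRing R) C f) (hH0 : IsIso f.appTop)
    (hX : Models.IsRegularProperModel R X p C f)
    {n : ℕ} (Γ : Fin n → ArSurf.VertComp R (Over.mk p)) (hΓ : Models.IsComponentList R (Over.mk p) Γ)
    (hmin : Models.IsMinimalModel R X p C f) (hgcd : Models.multGcd R (Over.mk p) Γ = 1)
    (hH0k : Models.lengthH R (Over.mk p) (ClSub.quotMod (Models.redFibreIdeal R (Over.mk p))) 0 = 1) :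
    Models.lengthH R (Over.mk p) (ClSub.quotMod (Models.redFibreIdeal R (Over.mk p))) 1 ≤
        Models.lengthH R (Over.mk p) (ClSub.quotMod (Models.specialFibreIdeal R (Over.mk p))) 1 ∧
      (Models.specialFibreIdeal R (Over.mk p) ≠ Models.redFibreIdeal R (Over.mk p) →
        Models.lengthH R (Over.mk p) (ClSub.quotMod (Models.redFibreIdeal R (Over.mk p))) 1 <
          Models.lengthH R (Over.mk p) (ClSub.quotMod (Models.specialFibreIdeal R (Over.mk p))) 1) := by
  have hS := Inter.IsSurf.of_model hC hX
  have hcov : ∀ x ∈ Models.specialFibreSet R (Over.mk p), ∃ i, x ∈ Set.range ((Γ i).ι.base : (Γ i).curve.left → X) :=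
    fun x hx => ConnFibre.mem_component Γ hΓ x hx
  have hconn := ConnFibre.isPreconnected_specialFibreSet @Groth.Agent.S2431.result hC hH0 hX
  have hn : 0 < n := by
    obtain ⟨⟨-, -, -, g, hg⟩, hp, -⟩ := hX
    haveI := hp
    haveI := hC.2.2.1
    obtain ⟨y, hy⟩ := GlobalFun.exists_special p f g hg
    obtain ⟨i, -⟩ := hcov y hy
    exact i.pos
  let D : Fin n → ℕ := fun i => Models.mult R (Over.mk p) (Γ i)
  have hpos : ∀ i, 0 < D i := fun i => InterForm.mult_pos hS (Γ i)
  obtain ⟨L, hL⟩ := EulerFormula.exists_inverses hS Γ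
  have hclimb := DivisorField.climb_fibre hS Γ hΓ hcov hconn L hL (a₀ := D) (d := 1)
    (fun j => (one_mul _).symm) hgcd
  have hspec : Models.specialFibreIdeal R (Over.mk p) = DivisorField.div Γ D :=
    RedFibre.specialFibreIdeal_eq hS Γ hΓ
  have hred : Models.redFibreIdeal R (Over.mk p) = DivisorField.div Γ fun _ => 1 := by
    rw [RedFibre.redFibreIdeal_eq hS Γ hΓ]
    simp only [DivisorField.div, pow_one]
  obtain ⟨h0, hchi, hstrict⟩ := DivisorBound.compare hS Γ L hL hclimb hn
    (fun i => Inter.sum_mult_mul_inter hS (Γ i) Γ hΓ L hL)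
    (fun i h => hmin.2 (Γ i) (P1Curve.exc_of_h1_zero_and_selfInter hS (Γ i) (hL i) h.1 h.2))
    _ (fun _ => 1) (fun i => hpos i) (fun _ => one_pos) rfl
  have hone : 1 ≤ Models.lengthH R (Over.mk p) (ClSub.quotMod (DivisorField.div Γ D)) 0 := by
    have hfld := DivisorField.isField hS Γ hΓ hcov hconn hn hpos ⟨1, fun j => (one_mul _).symm⟩ hgcd
    haveI : Nontrivial ((_root_.ClSub.quotMod (DivisorField.div Γ D)).val.obj (Opposite.op ⊤) : Type u) := by
      obtain ⟨a, b, hab⟩ := hfld.exists_pair_ne
      exact ⟨⟨a, b, hab⟩⟩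
    haveI : Nontrivial (Coh.HH (Over.mk p).left (_root_.ClSub.quotMod (DivisorField.div Γ D)) 0) :=
      (Curves.GlobalSections.h0Equiv (_root_.ClSub.quotMod (DivisorField.div Γ D))).symm.injective.nontrivial
    have hfin := (EulerStep.finite_prod hS Γ D Finset.univ).1
    refine Nat.one_le_iff_ne_zero.mpr fun h => ?_
    unfold Models.lengthH at h
    exact (Module.length_pos (R := R)
      (M := Coh.HH (Over.mk p).left (_root_.ClSub.quotMod (DivisorField.div Γ D)) 0)).ne'
      ((ENat.toNat_eq_zero.mp h).resolve_right hfin)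
  rw [hred] at hH0k
  rw [hspec, hred]
  unfold LenEuler.chi at hchi hstrict
  refine ⟨by omega, fun hne => ?_⟩
  have := hstrict fun h => hne (by rw [← h])
  omega

end Groth.Agent.S3345
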