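import Groth.Statements.S15104
import Groth.Agent.S2431
import Groth.Agent.S3345
import Groth.Agent.Lib.ModelFibre.CurveOfModel
import Groth.Agent.Lib.ModelFibre.DivisorChain
import Groth.Agent.Lib.ModelFibre.RatPoint
-- import your own Groth.Agent.* helpers here

set_option autoImplicit false
universe u
open CategoryTheory CategoryTheory.Limits AlgebraicGeometry
open Models

namespace Groth.Agent.S15104
open Groth.Agent.Lib.ModelFibre Groth.Agent.Lib

/-- Let R be a discrete valuation ring with algebraically closed residue field k and fraction field K, C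
a smooth proper curve over K with H⁰(C, O_C) = K and dim_K H¹(C, O_C) = g ≥ 2, and X → Spec R a
minimal regular model of C: a regular proper model none of whose vertical prime divisors is an
exceptional curve of the first kind. Let Γ₁, …, Γ_n enumerate the irreducible components of the
closed fibre, with multiplicities r_i having gcd 1, and suppose the closed fibre is not reduced
(some r_i ≥ 2). Then dim_k H¹((X_k)_red, O) < g, the left side computed as the R-length of H¹(X, O_X
/ I) for I the ideal sheaf of the reduced closed fibre. (The published lemma states this for any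
regular model with gcd(r_i) = 1; its proof uses, in the last step, that the component added last is
not an exceptional curve, the standing hypothesis of the result it serves, and the inequality fails
after blowing up a node of a reduced semi-stable fibre, so minimality is assumed here.) -/
theorem result
    (R : Type u) [CommRing R] [IsDomain R] [IsDiscreteValuationRing R]
    (hk : IsAlgClosed (IsLocalRing.ResidueField R))
    (C : Scheme.{u}) (fC : C ⟶ (Spec (CommRingCat.of (FractionRing R)))) [IsProper fC] [Smooth fC]
    (hC0 : Models.hRank (FractionRing R) C fC (Coh.structureModule C) 0 = 1)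
    (g : ℕ) (hg2 : 2 ≤ g) (hg : Models.curveGenus (FractionRing R) C fC = g)
    (X : Scheme.{u}) (p : X ⟶ (Spec (CommRingCat.of R))) (hX : Models.IsMinimalModel R X p C fC)
    {n : ℕ} (Γ : Fin n → ArSurf.VertComp R (Over.mk p)) (hΓ : Models.IsComponentList R (Over.mk p) Γ)
    (hgcd : Models.multGcd R (Over.mk p) Γ = 1) (hnr : ∃ i, 2 ≤ Models.mult R (Over.mk p) (Γ i)) :
    Models.lengthH R (Over.mk p) (ClSub.quotMod (Models.redFibreIdeal R (Over.mk p))) 1 < g := by
  have hg0 : 0 < Models.curveGenus (FractionRing R) C fC := by rw [hg]; omega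
  obtain ⟨hC, hH0⟩ := CurveOfModel.isSmoothProperCurve hC0 hg0 hX.1 Γ hΓ
  have hS := Inter.IsSurf.of_model hC hX.1
  have hcov : ∀ x ∈ Models.specialFibreSet R (Over.mk p), ∃ i, x ∈ Set.range ((Γ i).ι.base : (Γ i).curve.left → X) :=
    fun x hx => ConnFibre.mem_component Γ hΓ x hx
  have hconn := ConnFibre.isPreconnected_specialFibreSet @Groth.Agent.S2431.result hC hH0 hX.1
  obtain ⟨i, hi⟩ := hnr
  obtain ⟨L, hL⟩ := EulerFormula.exists_inverses hS Γ
  have hedge := DivisorField.edge_fibre hS Γ hΓ hcov hconn L hL
  -- the reduced fibre has the residue field as functions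
  let D := DivisorField.div Γ fun _ => 1
  have hred : Models.redFibreIdeal R (Over.mk p) = D := by
    rw [RedFibre.redFibreIdeal_eq hS Γ hΓ]
    simp only [D, DivisorField.div, pow_one]
  have hfld : IsField Γ(D.subscheme, ⊤) := DivisorField.isField_of hS Γ hΓ.1 L hL hedge i.pos
    (fun _ => one_pos) (DivisorField.climb_one hS Γ hΓ.1 L hL hedge)
  let φ : R →+* Γ(D.subscheme, ⊤) := Coh.toGlobal (D.subschemeι ≫ p)
  have hfin : φ.Finite := DivisorChain.finite_ringHom hS Γ fun _ => 1
  letI : Field Γ(D.subscheme, ⊤) := hfld.toField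
  have hker : ∀ r ∈ IsLocalRing.maximalIdeal R, φ r = 0 := by
    intro r hr
    by_contra h
    have hinj : Function.Injective φ := by
      rw [RingHom.injective_iff_ker_eq_bot]
      by_contra hb
      have hp' : (RingHom.ker φ).IsPrime := RingHom.ker_isPrime φ
      exact h (RingHom.mem_ker.mp (((hp'.isMaximal hb).eq_of_le (IsLocalRing.maximalIdeal.isMaximal R).ne_top
          (IsLocalRing.le_maximalIdeal hp'.ne_top)).ge hr))
    letI : Algebra R Γ(D.subscheme, ⊤) := φ.toAlgebra
    haveI : Module.Finite R Γ(D.subscheme, ⊤) := hfin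
    exact IsDiscreteValuationRing.not_isField R (isField_of_isIntegral_of_isField hinj hfld)
  let ψ : IsLocalRing.ResidueField R →+* Γ(D.subscheme, ⊤) := Ideal.Quotient.lift _ φ hker
  have hψ : Function.Surjective ψ := by
    letI : Algebra (IsLocalRing.ResidueField R) Γ(D.subscheme, ⊤) := ψ.toAlgebra
    haveI := hk
    haveI : Module.Finite (IsLocalRing.ResidueField R) Γ(D.subscheme, ⊤) := by
      have : ψ.Finite := RingHom.Finite.of_comp_finite (f := IsLocalRing.residue R) (by
        have e : ψ.comp (IsLocalRing.residue R) = φ := RingHom.ext fun r => rfl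
        rw [e]
        exact hfin)
      exact this
    exact (IsAlgClosed.algebraMap_bijective_of_isIntegral (k := IsLocalRing.ResidueField R)).2
  have hφ : Function.Surjective φ := fun t => by
    obtain ⟨c, rfl⟩ := hψ t
    obtain ⟨r, rfl⟩ := Ideal.Quotient.mk_surjective c
    exact ⟨r, rfl⟩
  have hH0k : Models.lengthH R (Over.mk p) (ClSub.quotMod (Models.redFibreIdeal R (Over.mk p))) 0 = 1 := by
    rw [hred]
    letI := Curves.GlobalSections.secModule R (_root_.ClSub.quotMod D)
    let φ' : R →ₗ[R] ((_root_.ClSub.quotMod D).val.obj (Opposite.op ⊤) : Type u) :=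
      { toFun := fun r => (φ r : Γ(D.subscheme, ⊤))
        map_add' := fun a b => map_add φ a b
        map_smul' := fun a b => map_mul φ a b }
    have h1 := RatPoint.length_eq_one φ' hφ hker (by
      show φ 1 ≠ 0
      rw [map_one]; exact one_ne_zero)
    show (Module.length R (Coh.HH (Over.mk p).left (_root_.ClSub.quotMod D) 0)).toNat = 1
    rw [(Curves.GlobalSections.h0Linear R (_root_.ClSub.quotMod D)).length_eq, h1]
    rfl
  have hlt := (Groth.Agent.S3345.result R C X fC p hC hH0 hX.1 Γ hΓ hX hgcd hH0k).2 ?_
  · refine hlt.trans_le (le_of_eq ?_)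
    -- the fibre has genus g
    have hfib := EulerFibre.chi_fibre hC hH0 hX.1 Γ hΓ
    unfold EulerFibre.fibreIdeal at hfib
    rw [← RedFibre.specialFibreIdeal_eq hS Γ hΓ, LenEuler.chi, hg] at hfib
    have h0 : Models.lengthH R (Over.mk p) (ClSub.quotMod (Models.specialFibreIdeal R (Over.mk p))) 0 = 1 := by
      have hclimb := DivisorField.climb_fibre hS Γ hΓ hcov hconn L hL (d := 1)
        (fun j => (one_mul _).symm) hgcd
      obtain ⟨h0, -, -⟩ := DivisorBound.compare hS Γ L hL hclimb i.pos
        (fun l => Inter.sum_mult_mul_inter hS (Γ l) Γ hΓ L hL)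
        (fun l h => hX.2 (Γ l) (P1Curve.exc_of_h1_zero_and_selfInter hS (Γ l) (hL l) h.1 h.2))
        _ (fun _ => 1) (fun l => InterForm.mult_pos hS (Γ l)) (fun _ => one_pos) rfl
      have hspec := RedFibre.specialFibreIdeal_eq hS Γ hΓ
      rw [hred] at hH0k
      have hne : Models.lengthH R (Over.mk p) (ClSub.quotMod (Models.specialFibreIdeal R (Over.mk p))) 0 ≠ 0 := by
        have hfld' := DivisorField.isField hS Γ hΓ hcov hconn i.pos (fun l => InterForm.mult_pos hS (Γ l))
          ⟨1, fun j => (one_mul _).symm⟩ hgcd
        rw [hspec]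
        haveI : Nontrivial ((_root_.ClSub.quotMod (DivisorField.div Γ fun l => Models.mult R (Over.mk p) (Γ l))).val.obj
            (Opposite.op ⊤) : Type u) := by
          obtain ⟨a, b, hab⟩ := hfld'.exists_pair_ne
          exact ⟨⟨a, b, hab⟩⟩
        haveI : Nontrivial (Coh.HH (Over.mk p).left
            (_root_.ClSub.quotMod (DivisorField.div Γ fun l => Models.mult R (Over.mk p) (Γ l))) 0) :=
          (Curves.GlobalSections.h0Equiv _).symm.injective.nontrivial
        intro h
        unfold Models.lengthH at h
        exact (Module.length_pos (R := R) (M := Coh.HH (Over.mk p).left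
            (_root_.ClSub.quotMod (DivisorField.div Γ fun l => Models.mult R (Over.mk p) (Γ l))) 0)).ne'
          ((ENat.toNat_eq_zero.mp h).resolve_right (EulerStep.finite_prod hS Γ _ Finset.univ).1)
      rw [hspec] at hne ⊢
      change _ ≤ Models.lengthH R (Over.mk p) (ClSub.quotMod D) 0 at h0
      change Models.lengthH R (Over.mk p) (ClSub.quotMod (DivisorField.div Γ fun l => Models.mult R (Over.mk p) (Γ l))) 0 = 1
      change Models.lengthH R (Over.mk p) (ClSub.quotMod (DivisorField.div Γ fun l => Models.mult R (Over.mk p) (Γ l))) 0 ≠ 0 at hne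
      omega
    rw [h0] at hfib
    omega
  · -- not reduced
    intro h
    obtain ⟨π, hπ⟩ := IsDiscreteValuationRing.exists_irreducible R
    have := DivisorBound.compare hS Γ L hL (DivisorField.climb_fibre hS Γ hΓ hcov hconn L hL (d := 1)
        (fun j => (one_mul _).symm) hgcd) i.pos
        (fun l => Inter.sum_mult_mul_inter hS (Γ l) Γ hΓ L hL)
        (fun l h => hX.2 (Γ l) (P1Curve.exc_of_h1_zero_and_selfInter hS (Γ l) (hL l) h.1 h.2))
        _ (fun _ => 1) (fun l => InterForm.mult_pos hS (Γ l)) (fun _ => one_pos) rfl
    obtain ⟨-, -, hstrict⟩ := this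
    have hne : (fun _ => 1 : Fin n → ℕ) ≠ fun l => Models.mult R (Over.mk p) (Γ l) := fun e => by
      have : 1 = Models.mult R (Over.mk p) (Γ i) := congrFun e i
      omega
    have := hstrict hne
    rw [RedFibre.specialFibreIdeal_eq hS Γ hΓ, hred] at h
    change DivisorField.div Γ (fun l => Models.mult R (Over.mk p) (Γ l)) = D at h
    rw [h] at this
    exact lt_irrefl _ this

end Groth.Agent.S15104
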