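import Groth.Statements.S15115
import Groth.Agent.H66.Tame
import Mathlib.RingTheory.IsTensorProduct
-- import your own Groth.Agent.* helpers here

set_option autoImplicit false
universe u
open HopfRep

namespace Groth.Agent.S15115

open scoped TensorProduct

open TensorProduct in
/-- Let k be an algebraically closed field, H a finite-dimensional commutative Hopf algebra over k all
of whose finite-dimensional comodules are semisimple (a finite linearly reductive group scheme G
over k), A a commutative k-algebra, and M an A-module with an H-coaction that is A-linear (G acts on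
M by A-module maps, A carrying the trivial action). Let A' be a commutative A-algebra and N = A' ⊗_A
M its base change, exhibited by an A-linear map φ : M → N, with the induced coaction: A'-linear and
compatible with φ. Then invariants commute with this base change: writing M^G for the A-submodule of
coinvariant elements of M, the natural map A' ⊗_A M^G → N, a' ⊗ m ↦ a' φ(m), is injective and its
image is exactly the set of coinvariant elements of N. (The published statement is the isomorphism
ρ^* π_* F → π'_* σ^* F for a tame Deligne–Mumford stack with coarse moduli space π and any base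
change ρ of the coarse space; this row is the statement about invariants to which its proof reduces
it, for modules that need not be finitely generated.) -/
theorem result (k : Type u) [Field k] [IsAlgClosed k]
    (H : Type u) [CommRing H] [HopfAlgebra k H] [Module.Finite k H] (hred : HopfRep.IsLinearlyReductive k H)
    (A : Type u) [CommRing A] [Algebra k A]
    (M : Type u) [AddCommGroup M] [Module k M] [Module A M] [IsScalarTower k A M] [HopfRep.Comod k H M]
    (hlin : ∀ (a : A) (m : M), HopfRep.Comod.coact (k := k) (A := H) (a • m) = a • HopfRep.Comod.coact (k := k) (A := H) m)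
    (A' : Type u) [CommRing A'] [Algebra k A'] [Algebra A A'] [IsScalarTower k A A']
    (N : Type u) [AddCommGroup N] [Module k N] [Module A N] [Module A' N]
    [IsScalarTower k A N] [IsScalarTower A A' N] [IsScalarTower k A' N] [HopfRep.Comod k H N]
    (φ : M →ₗ[A] N) (hφ : IsBaseChange A' φ)
    (hcomp : ∀ m : M, HopfRep.Comod.coact (k := k) (A := H) (φ m) =
      LinearMap.rTensor H (φ.restrictScalars k) (HopfRep.Comod.coact (k := k) (A := H) m))
    (hlinN : ∀ (a' : A') (n : N), HopfRep.Comod.coact (k := k) (A := H) (a' • n) = a' • HopfRep.Comod.coact (k := k) (A := H) n)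
    (P : Submodule A M) (hP : (P : Set M) = (HopfRep.fixedPts k H M : Set M)) :
    Function.Injective (TensorProduct.lift (((Algebra.lsmul A A N : A' →ₐ[A] Module.End A N).toLinearMap).compl₂ (φ ∘ₗ P.subtype))) ∧
      Set.range (TensorProduct.lift (((Algebra.lsmul A A N : A' →ₐ[A] Module.End A N).toLinearMap).compl₂ (φ ∘ₗ P.subtype))) =
        (HopfRep.fixedPts k H N : Set N) := by
  classical
  obtain ⟨α, hα1, hα⟩ := H66.Tame.hasIntegral_iff.2 hred
  have hαc : @Hoch.IsComodHom k _ H _ _ _ H _ _ _ k _ _ (HopfRep.Comod.trivial k H k) α := LinearMap.ext hα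
  letI := HopfRep.Comod.trivial k H k
  haveI := H66.Integral.isHopfMod_trivial k H M
  haveI := H66.Integral.isHopfMod_trivial k H N
  let α' : H →ₗ[k] k := α ∘ₗ HopfAlgebraStruct.antipode (R := k) (A := H)
  have hr : ∀ (X : Type u) [AddCommGroup X] [Module k X] [HopfRep.Comod k H X] (x : X),
      TameAct.reynolds k H k X α x = Lib.Comod.Basic.dact X α' x := by
    intro X _ _ _ x
    simp only [TameAct.reynolds, LinearMap.comp_apply, Lib.Comod.Basic.dact_apply]
    induction HopfRep.Comod.coact (k := k) (A := H) x using TensorProduct.induction_on with
    | zero => simp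
    | add a b ha hb => simp only [map_add, ha, hb]
    | tmul a b => simp [α']
  have hsmul : ∀ {S X : Type u} [CommRing S] [Algebra k S] [AddCommGroup X] [Module k X] [Module S X]
      [IsScalarTower k S X] (s : S) (z : X ⊗[k] H),
      Lib.Comod.Basic.contract X α' (s • z) = s • Lib.Comod.Basic.contract X α' z := by
    intro S X _ _ _ _ _ _ s z
    induction z using TensorProduct.induction_on with
    | zero => simp
    | add a b ha hb => simp only [smul_add, map_add, ha, hb]
    | tmul a b => simp [TensorProduct.smul_tmul', smul_comm s]
  let r : M →ₗ[A] P :=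
    { toFun := fun m => ⟨Lib.Comod.Basic.dact M α' m, by
        rw [← SetLike.mem_coe, hP, ← hr]; exact H66.Integral.reynolds_mem hαc m⟩
      map_add' := fun a b => Subtype.ext (map_add _ a b)
      map_smul' := fun a m => Subtype.ext (by
        simp only [Lib.Comod.Basic.dact_apply, hlin, hsmul]; rfl) }
  have hrP : ∀ p : P, r p = p := fun p => Subtype.ext (by
    have hp : (p : M) ∈ HopfRep.fixedPts k H M := by rw [← SetLike.mem_coe, ← hP]; exact p.2
    exact (hr M (p : M)).symm.trans (H66.Integral.reynolds_eq_self hα1 hp))
  let T := TensorProduct.lift (((Algebra.lsmul A A N : A' →ₐ[A] Module.End A N).toLinearMap).compl₂ (φ ∘ₗ P.subtype))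
  have hT : ∀ (a' : A') (p : P), T (a' ⊗ₜ p) = a' • φ p := fun a' p => rfl
  let back : N →ₗ[A'] A' ⊗[A] P := hφ.lift ((TensorProduct.mk A A' P 1) ∘ₗ r)
  have hback : ∀ z, back (T z) = z := by
    intro z
    induction z using TensorProduct.induction_on with
    | zero => simp
    | add a b ha hb => simp only [map_add, ha, hb]
    | tmul a' p =>
      rw [hT, map_smul, hφ.lift_eq, LinearMap.comp_apply, hrP, TensorProduct.mk_apply, TensorProduct.smul_tmul',
        smul_eq_mul, mul_one]
  refine ⟨Function.LeftInverse.injective hback, Set.ext fun n => ⟨?_, fun hn => ?_⟩⟩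
  · rintro ⟨z, rfl⟩
    induction z using TensorProduct.induction_on with
    | zero => exact (map_zero T).symm ▸ (HopfRep.fixedPts k H N).zero_mem
    | add a b ha hb => exact (map_add T a b).symm ▸ (HopfRep.fixedPts k H N).add_mem ha hb
    | tmul a' p =>
      change HopfRep.Comod.coact (k := k) (A := H) (a' • φ p) = (a' • φ p) ⊗ₜ[k] (1 : H)
      have hp : (p : M) ∈ HopfRep.fixedPts k H M := by rw [← SetLike.mem_coe, ← hP]; exact p.2
      rw [hlinN, hcomp, show HopfRep.Comod.coact (k := k) (A := H) (p : M) = (p : M) ⊗ₜ[k] (1 : H) from hp,
        LinearMap.rTensor_tmul, TensorProduct.smul_tmul']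
      rfl
  · have key : ∀ n : N, Lib.Comod.Basic.dact N α' n = T (back n) := by
      intro n
      induction n using hφ.inductionOn with
      | zero => simp
      | tmul m =>
        rw [hφ.lift_eq, LinearMap.comp_apply, TensorProduct.mk_apply, hT, one_smul, Lib.Comod.Basic.dact_apply, hcomp,
          Lib.Comod.Basic.contract_rTensor]
        rfl
      | smul a n ih =>
        rw [Lib.Comod.Basic.dact_apply, hlinN, hsmul, ← Lib.Comod.Basic.dact_apply, ih, map_smul]
        induction back n using TensorProduct.induction_on with
        | zero => simp
        | add a b ha hb => simp only [smul_add, map_add, ha, hb]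
        | tmul b p => rw [TensorProduct.smul_tmul', hT, hT, smul_eq_mul, mul_smul]
      | add a b ha hb => simp only [map_add, ha, hb]
    exact ⟨back n, by rw [← key, ← hr]; exact H66.Integral.reynolds_eq_self hα1 hn⟩

end Groth.Agent.S15115
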