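import Groth.Statements.S15116
import Mathlib
-- import your own Groth.Agent.* helpers here

set_option autoImplicit false
universe u v
open NRGIT

namespace Groth.Agent.S15116

/-- Let k be a characteristic-zero field and A a commutative k-algebra, graded by the integers with all
pieces of positive degree zero, and D a k-derivation of A that raises degrees by a fixed positive
integer l. If no maximal ideal of A contains both every piece of negative degree and the image of D,
then there is f with D f = 1. (The published statement is for an affine variety with an action of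
the semidirect product of the additive and multiplicative groups, the multiplicative group acting on
the coordinate ring with non-positive weights and on the Lie algebra of the additive group with
positive weight: the derivation is a generator of that Lie algebra, the maximal ideals containing
the pieces of negative degree are the limit points under the multiplicative group, and a limit point
has trivial additive stabiliser exactly when the image of D is not contained in its ideal; this row
keeps only this algebraic content, for any such graded algebra. The first assertion of the published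
lemma, that every point has a limit in the variety under the multiplicative group as t → 0, is not
part of this row.) -/
theorem result (k : Type u) [Field k] [CharZero k]
    (A : Type v) [CommRing A] [Algebra k A] (𝒜 : ℤ → Submodule k A) [GradedAlgebra 𝒜]
    (hpos : ∀ i : ℤ, 0 < i → 𝒜 i = ⊥)
    (D : Derivation k A A) (l : ℤ) (hl : 0 < l)
    (hD : ∀ (i : ℤ) (a : A), a ∈ 𝒜 i → D a ∈ 𝒜 (i + l))
    (hfree : ∀ m : Ideal A, m.IsMaximal → (∀ i : ℤ, i < 0 → (𝒜 i : Set A) ⊆ m) → ∃ a : A, D a ∉ m) :
    ∃ f : A, D f = 1 := by
  classical
  let N : Ideal A := Ideal.span (⋃ i : {i : ℤ // i < 0}, (𝒜 i : Set A)) ⊔ Ideal.span (Set.range D)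
  have htop : N = ⊤ := by
    by_contra hne
    obtain ⟨m, hm, hle⟩ := Ideal.exists_le_maximal _ hne
    obtain ⟨a, ha⟩ := hfree m hm fun i hi x hx =>
      hle (Ideal.mem_sup_left (Ideal.subset_span (Set.mem_iUnion.2 ⟨⟨i, hi⟩, hx⟩)))
    exact ha (hle (Ideal.mem_sup_right (Ideal.subset_span ⟨a, rfl⟩)))
  -- the degree zero part of the ideal consists of derivatives
  let P : A → A := fun a => (DirectSum.decompose 𝒜 a 0 : A)
  have hmulneg : ∀ (c a : A) (i : ℤ), i < 0 → a ∈ 𝒜 i → P (c * a) = 0 := by
    intro c a i hi ha
    simp only [P]
    rw [← DirectSum.sum_support_decompose 𝒜 c, Finset.sum_mul, DirectSum.decompose_sum, DFinsupp.finsetSum_apply,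
      Submodule.coe_sum]
    refine Finset.sum_eq_zero fun j _ => ?_
    have hja : ((DirectSum.decompose 𝒜 c j : A) * a) ∈ 𝒜 (j + i) := SetLike.mul_mem_graded (Subtype.prop _) ha
    by_cases hj : j + i = 0
    · have hbot : 𝒜 j = ⊥ := hpos j (by omega)
      have : (DirectSum.decompose 𝒜 c j : A) = 0 :=
        (Submodule.mem_bot k).1 (hbot ▸ (DirectSum.decompose 𝒜 c j).2)
      rw [this, zero_mul, DirectSum.decompose_zero]; rfl
    · exact DirectSum.decompose_of_mem_ne 𝒜 hja hj
  have hDzero : ∀ b ∈ 𝒜 0, D b = 0 := fun b hb => by
    have := hD 0 b hb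
    rw [zero_add, hpos l hl] at this
    exact (Submodule.mem_bot k).1 this
  have hmain : ∀ a ∈ N, ∃ f, D f = P a := by
    intro a ha
    obtain ⟨u, hu, v, hv, rfl⟩ := Submodule.mem_sup.1 ha
    have hadd : ∀ x y, P (x + y) = P x + P y := fun x y => by simp [P]
    rw [hadd]
    clear ha
    have hu0 : P u = 0 := by
      clear hv
      induction hu using Submodule.span_induction with
      | mem x hx =>
        obtain ⟨⟨i, hi⟩, hxi⟩ := Set.mem_iUnion.1 hx
        rw [← one_mul x]; exact hmulneg 1 x i hi hxi
      | zero => simp [P]
      | add x y _ _ hx hy => rw [hadd, hx, hy, add_zero]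
      | smul c x hx0 ih =>
        clear ih
        induction hx0 using Submodule.span_induction generalizing c with
        | mem x hx =>
          obtain ⟨⟨i, hi⟩, hxi⟩ := Set.mem_iUnion.1 hx
          exact hmulneg c x i hi hxi
        | zero => simp [P]
        | add x y _ _ hx hy => rw [smul_add, hadd, hx, hy, add_zero]
        | smul e x _ hx => rw [smul_smul]; exact hx _
    rw [hu0, zero_add]
    clear hu hu0
    have hgen : ∀ (c b : A), ∃ f, D f = P (c * D b) := by
      intro c b
      have hlin : ∀ (s : Finset ℤ) (F : ℤ → A), (∀ i ∈ s, ∃ f, D f = P (F i)) → ∃ f, D f = P (∑ i ∈ s, F i) := by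
        intro s F h
        choose! f hf using h
        refine ⟨∑ i ∈ s, f i, ?_⟩
        rw [map_sum, Finset.sum_congr rfl hf]
        simp [P, DirectSum.decompose_sum, DFinsupp.finsetSum_apply]
      rw [← DirectSum.sum_support_decompose 𝒜 b, map_sum, Finset.mul_sum]
      refine hlin _ _ fun i _ => ?_
      set bi := (DirectSum.decompose 𝒜 b i : A)
      rw [← DirectSum.sum_support_decompose 𝒜 c, Finset.sum_mul]
      refine hlin _ _ fun j _ => ?_
      set cj := (DirectSum.decompose 𝒜 c j : A)
      have hm : cj * D bi ∈ 𝒜 (j + (i + l)) := SetLike.mul_mem_graded (Subtype.prop _) (hD i bi (Subtype.prop _))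
      by_cases hj : j + (i + l) = 0
      · rcases lt_trichotomy j 0 with hj0 | hj0 | hj0
        · have h0 : D bi = 0 := by
            have := hD i bi (Subtype.prop _)
            rw [hpos (i + l) (by omega)] at this
            exact (Submodule.mem_bot k).1 this
          exact ⟨0, by rw [h0, mul_zero, map_zero]; simp [P]⟩
        · refine ⟨cj * bi, ?_⟩
          rw [Derivation.leibniz, hDzero cj (hj0 ▸ Subtype.prop _), smul_zero, add_zero, smul_eq_mul]
          exact (DirectSum.decompose_of_mem_same 𝒜 (hj ▸ hm)).symm
        · have h0 : cj = 0 := (Submodule.mem_bot k).1 (hpos j hj0 ▸ (Subtype.prop _ : cj ∈ 𝒜 j))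
          exact ⟨0, by rw [h0, zero_mul, map_zero]; simp [P]⟩
      · exact ⟨0, by rw [map_zero]; exact (DirectSum.decompose_of_mem_ne 𝒜 hm hj).symm⟩
    induction hv using Submodule.span_induction with
    | mem x hx => obtain ⟨b, rfl⟩ := hx; simpa using hgen 1 b
    | zero => exact ⟨0, by simp [P]⟩
    | add x y _ _ hx hy =>
      obtain ⟨f, hf⟩ := hx
      obtain ⟨g, hg⟩ := hy
      exact ⟨f + g, by rw [map_add, hf, hg, hadd]⟩
    | smul c x hx0 ih =>
      clear ih
      induction hx0 using Submodule.span_induction generalizing c with
      | mem x hx => obtain ⟨b, rfl⟩ := hx; exact hgen c b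
      | zero => exact ⟨0, by simp [P]⟩
      | add x y _ _ hx hy =>
        obtain ⟨f, hf⟩ := hx c
        obtain ⟨g, hg⟩ := hy c
        exact ⟨f + g, by rw [map_add, hf, hg, smul_add, hadd]⟩
      | smul e x _ hx => rw [smul_smul]; exact hx _
  obtain ⟨f, hf⟩ := hmain 1 (htop ▸ Submodule.mem_top)
  exact ⟨f, hf.trans (DirectSum.decompose_of_mem_same 𝒜 SetLike.GradedOne.one_mem)⟩

end Groth.Agent.S15116
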