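import Groth.Statements.S15117
import Groth.Agent.Lib.Comod.Basic
import Mathlib.LinearAlgebra.Basis.VectorSpace
-- import your own Groth.Agent.* helpers here

set_option autoImplicit false
universe u v w
open TensorProduct
open NRGIT

namespace Groth.Agent.S15117

/-- Let k be a field, π : A → B a map of commutative bialgebras over k, W a right A-comodule and V ⊆ W a
subcomodule all of whose elements are coinvariant for the B-coaction induced through π. Then the
coaction of every v ∈ V lies in V ⊗ A' ⊆ W ⊗ A, where A' ⊆ A is the set of elements a with (π ⊗
id)(Δ a) = 1 ⊗ a, i.e. coinvariant for the coaction of B on A through π on the left factor; the row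
states membership in the span of the pure tensors w ⊗ a with w ∈ V and a ∈ A'. (The published
statement is for a linear algebraic group H over an algebraically closed field of characteristic
zero, a normal subgroup N and an H-stable space V of N-invariant sections of a linearised line
bundle, with the coaction landing in O(H)^N ⊗ V, where O(H)^N is the ring of functions on H
invariant under N acting by right multiplication; this row is the comodule form, for any bialgebra
map over a field, where normality of N is not needed.) -/
theorem result (k : Type u) [Field k]
    (A B : Type v) [CommRing A] [CommRing B] [Bialgebra k A] [Bialgebra k B] (π : A →ₐc[k] B)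
    (W : Type w) [AddCommGroup W] [Module k W] [HopfRep.Comod k A W]
    (V : Submodule k W) (hV : HopfRep.IsSubcomod (k := k) (A := A) V)
    (hfix : ∀ v ∈ V, (π.toLinearMap.lTensor W) (HopfRep.Comod.coact (k := k) (A := A) v) = v ⊗ₜ[k] (1 : B))
    (v : W) (hv : v ∈ V) :
    HopfRep.Comod.coact (k := k) (A := A) v ∈
      Submodule.span k {x : W ⊗[k] A | ∃ w ∈ V, ∃ a : A,
        (π.toLinearMap.rTensor A) (Coalgebra.comul (R := k) a) = (1 : B) ⊗ₜ[k] a ∧ x = w ⊗ₜ[k] a} := by
  classical
  obtain ⟨z, hz⟩ := hV v hv
  let bV := Module.Free.chooseBasis k V
  let sV := TensorProduct.equivFinsuppOfBasisLeft bV (N := A) z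
  have hz' : z = sV.sum fun i a => bV i ⊗ₜ[k] a := by
    rw [← TensorProduct.equivFinsuppOfBasisLeft_symm_apply]
    exact (LinearEquiv.symm_apply_apply _ _).symm
  have hcoeff : ∀ (i) (y : V ⊗[k] A), TensorProduct.equivFinsuppOfBasisLeft bV y i =
      TensorProduct.lid k A ((bV.coord i).rTensor A y) := by
    intro i y
    induction y using TensorProduct.induction_on with
    | zero => simp
    | add x y hx hy => simp [hx, hy]
    | tmul x a => simp
  have key : ∀ i, (π.toLinearMap.rTensor A) (Coalgebra.comul (R := k) (sV i)) = (1 : B) ⊗ₜ[k] sV i := by
    intro i
    obtain ⟨ψ, hψ⟩ := LinearMap.exists_extend (bV.coord i)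
    have hsi : sV i = TensorProduct.lid k A (ψ.rTensor A (HopfRep.Comod.coact (k := k) (A := A) v)) := by
      rw [← hz, ← LinearMap.rTensor_comp_apply, hψ]
      exact hcoeff i z
    have e1 : ∀ y : W ⊗[k] A,
        (π.toLinearMap.rTensor A) (Coalgebra.comul (R := k) (TensorProduct.lid k A (ψ.rTensor A y))) =
          TensorProduct.lid k (B ⊗[k] A) (ψ.rTensor (B ⊗[k] A) ((π.toLinearMap.rTensor A).lTensor W
            ((Coalgebra.comul (R := k)).lTensor W y))) := by
      intro y
      induction y using TensorProduct.induction_on with
      | zero => simp
      | add x y hx hy => simp only [map_add, hx, hy]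
      | tmul w a => simp
    have e2 : ∀ y : (W ⊗[k] A) ⊗[k] A,
        (π.toLinearMap.rTensor A).lTensor W (TensorProduct.assoc k W A A y) =
          TensorProduct.assoc k W B A ((π.toLinearMap.lTensor W).rTensor A y) := by
      intro y
      induction y using TensorProduct.induction_on with
      | zero => simp
      | add x y hx hy => simp only [map_add, hx, hy]
      | tmul x a =>
        induction x using TensorProduct.induction_on with
        | zero => simp
        | add x y hx hy => simp only [map_add, TensorProduct.add_tmul, hx, hy]
        | tmul w a' => simp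
    have h := LinearMap.congr_fun (HopfRep.Comod.coassoc (k := k) (A := A) (V := W)) v
    simp only [LinearMap.comp_apply, LinearEquiv.coe_coe] at h
    rw [hsi, e1, ← h, e2, ← hz]
    clear hsi h e1 e2 hz hz' sV
    induction z using TensorProduct.induction_on with
    | zero => simp
    | add x y hx hy => simp only [map_add, TensorProduct.tmul_add, hx, hy]
    | tmul x a =>
      simp only [LinearMap.rTensor_tmul, Submodule.subtype_apply]
      rw [hfix _ x.2]
      simp
  rw [← hz, hz', Finsupp.sum, map_sum]
  refine Submodule.sum_mem _ fun i _ => Submodule.subset_span ⟨(bV i : V), (bV i).2, sV i, key i, ?_⟩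
  simp

end Groth.Agent.S15117
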