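import Groth.Statements.S15121
import Mathlib
-- import your own Groth.Agent.* helpers here

set_option autoImplicit false
universe u v w
open InvQ

namespace Groth.Agent.S15121


/-- Let k be a field of characteristic zero and A a commutative k-algebra graded by a finitely generated
free abelian group Λ (the character group of a torus acting on Spec A) whose grading monoid is
positive: if the pieces of degrees w and −w are both non-zero then w = 0. Let δ be a locally
nilpotent k-derivation of A (an action of the additive group) that is homogeneous of degree d, with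
the piece of degree d equal to zero (the graded condition on the Lie algebra weight). Suppose that
no maximal ideal of A contains both all graded pieces of non-zero degree and the image of δ (every
torus-fixed closed point has trivial stabiliser under the additive group). Then δ has a homogeneous
slice: some s of degree −d with δ s = 1. (The published statement is for the coordinate ring of an
affine variety over an algebraically closed field of characteristic zero and concludes moreover that
the quotient map by the additive group is a trivial principal bundle, which follows from the slice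
by a standard argument not restated here; this row keeps the algebraic content, for any such graded
algebra.) -/
theorem result
    (k : Type u) [Field k] [CharZero k]
    (A : Type v) [CommRing A] [Algebra k A]
    (Λ : Type w) [AddCommGroup Λ] [DecidableEq Λ] [Module.Free ℤ Λ] [Module.Finite ℤ Λ]
    (𝒜 : Λ → Submodule k A) [GradedAlgebra 𝒜]
    (hpos : ∀ w : Λ, 𝒜 w ≠ ⊥ → 𝒜 (-w) ≠ ⊥ → w = 0)
    (δ : Derivation k A A) (hnil : ∀ a : A, ∃ n : ℕ, ((δ : A →ₗ[k] A) ^ n) a = 0)
    (d : Λ) (hhom : ∀ (w : Λ) (a : A), a ∈ 𝒜 w → δ a ∈ 𝒜 (w + d)) (hd : 𝒜 d = ⊥)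
    (hfix : ∀ m : Ideal A, m.IsMaximal → (∀ w : Λ, w ≠ 0 → (𝒜 w : Set A) ⊆ m) → ¬ (Set.range δ ⊆ m)) :
    ∃ s ∈ 𝒜 (-d), δ s = 1 := by
  classical
  by_contra hne
  push_neg at hne
  have hdz : ∀ a ∈ 𝒜 0, δ a = 0 := fun a ha => by
    have := hhom 0 a ha
    rw [zero_add, hd] at this
    exact (Submodule.mem_bot k).mp this
  let J : Ideal ↥(𝒜 0) :=
    { carrier := {a | ∃ s ∈ 𝒜 (-d), δ s = (a : A)}
      zero_mem' := ⟨0, zero_mem _, by rw [map_zero]; rfl⟩
      add_mem' := fun {a b} ⟨s, hs, hs'⟩ ⟨t, ht, ht'⟩ => ⟨s + t, add_mem hs ht, by rw [map_add, hs', ht']; rfl⟩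
      smul_mem' := fun r {a} ⟨s, hs, hs'⟩ => ⟨(r : A) * s, zero_add (-d) ▸ SetLike.mul_mem_graded r.2 hs, by
        rw [Derivation.leibniz, hdz _ r.2, smul_zero, add_zero, hs']
        rfl⟩ }
  have hJ : J ≠ ⊤ := fun h => by
    obtain ⟨s, hs, hs'⟩ := (Ideal.eq_top_iff_one J).mp h
    exact hne s hs hs'
  obtain ⟨N, hN, hJN⟩ := Ideal.exists_le_maximal J hJ
  let π : A →ₗ[k] ↥(𝒜 0) := (DirectSum.component k Λ (fun i => ↥(𝒜 i)) 0) ∘ₗ (DirectSum.decomposeLinearEquiv 𝒜).toLinearMap
  have hπ : ∀ a, (π a : A) = (DirectSum.decompose 𝒜 a 0 : A) := fun a => rfl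
  have hπ0 : ∀ a, π a = DirectSum.decompose 𝒜 a 0 := fun a => rfl
  have hπof : ∀ (w : Λ) (a : A), a ∈ 𝒜 w → w ≠ 0 → π a = 0 := fun w a ha hw =>
    Subtype.ext ((hπ a).trans (DirectSum.decompose_of_mem_ne 𝒜 ha hw))
  have hπid : ∀ a : ↥(𝒜 0), π (a : A) = a := fun a => Subtype.ext ((hπ a).trans (DirectSum.decompose_of_mem_same 𝒜 a.2))
  have hπmul : ∀ a b, π (a * b) = π a * π b := by
    intro a b
    induction a using DirectSum.Decomposition.inductionOn 𝒜 with
    | zero => simp
    | add x y hx hy => rw [add_mul, map_add, map_add, hx, hy, add_mul]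
    | @homogeneous u x =>
      induction b using DirectSum.Decomposition.inductionOn 𝒜 with
      | zero => simp
      | add x' y' hx' hy' => rw [mul_add, map_add, map_add, hx', hy', mul_add]
      | @homogeneous v y =>
        by_cases hu : u = 0
        · subst hu
          by_cases hv : v = 0
          · subst hv
            rw [hπid, hπid, ← hπid (x * y)]
            rfl
          · rw [hπof v _ y.2 hv, mul_zero, hπof _ _ (SetLike.mul_mem_graded x.2 y.2) (by rwa [zero_add])]
        · rw [hπof u _ x.2 hu, zero_mul]
          by_cases huv : u + v = 0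
          · obtain rfl : v = -u := eq_neg_of_add_eq_zero_right huv
            by_cases hx0 : 𝒜 u = ⊥
            · rw [(Submodule.mem_bot k).mp (hx0 ▸ x.2 : (x : A) ∈ (⊥ : Submodule k A)), zero_mul, map_zero]
            · by_cases hy0 : 𝒜 (-u) = ⊥
              · rw [(Submodule.mem_bot k).mp (hy0 ▸ y.2 : (y : A) ∈ (⊥ : Submodule k A)), mul_zero, map_zero]
              · exact absurd (hpos u hx0 hy0) hu
          · exact hπof _ _ (SetLike.mul_mem_graded x.2 y.2) huv
  let πr : A →+* ↥(𝒜 0) :=
    { π.toAddMonoidHom with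
      map_one' := hπid 1
      map_mul' := hπmul }
  have hsurj : Function.Surjective πr := fun a => ⟨(a : A), hπid a⟩
  haveI := hN
  refine hfix (N.comap πr) (Ideal.comap_isMaximal_of_surjective πr hsurj) (fun w hw a ha => ?_) ?_
  · show π a ∈ N
    rw [hπof w a ha hw]
    exact zero_mem _
  · rintro _ ⟨a, rfl⟩
    show π (δ a) ∈ N
    induction a using DirectSum.Decomposition.inductionOn 𝒜 with
    | zero => simp
    | add x y hx hy => rw [map_add, map_add]; exact add_mem hx hy
    | @homogeneous u x =>
      by_cases hu : u + d = 0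
      · obtain rfl : u = -d := eq_neg_of_add_eq_zero_left hu
        have h0 : δ (x : A) ∈ 𝒜 0 := hu ▸ hhom _ _ x.2
        rw [show δ (x : A) = ((⟨δ x, h0⟩ : ↥(𝒜 0)) : A) from rfl, hπid]
        exact hJN ⟨x, x.2, rfl⟩
      · rw [hπof _ _ (hhom _ _ x.2) hu]
        exact zero_mem _

end Groth.Agent.S15121
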