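import Groth.Statements.S15122
import Mathlib

set_option autoImplicit false
universe u v w
open GIT

namespace Groth.Agent.S15122

/-- Let R be a commutative ring, A a commutative R-algebra graded by the natural numbers, σ a
homogeneous element of degree zero, and B the localisation of A away from σ, equipped with a grading
by the natural numbers for which the localisation map ι : A → B is a graded ring homomorphism (such
a grading is necessarily the one induced from A). Then the homogeneous ideal of B generated by the
image of the irrelevant ideal of A is the whole irrelevant ideal of B; in other words the induced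
rational map from Proj B to Proj A is defined everywhere. (The published statement also assumes σ a
non-zero-divisor, which this step does not use, and goes on to conclude that Proj B → Proj A is an
open immersion onto the basic open set of σ.) -/
theorem result
    (R : Type u) (A : Type v) (B : Type w) [CommRing R] [CommRing A] [CommRing B] [Algebra R A] [Algebra R B]
    [Algebra A B] [IsScalarTower R A B]
    (𝒜 : ℕ → Submodule R A) [GradedAlgebra 𝒜] (ℬ : ℕ → Submodule R B) [GradedAlgebra ℬ]
    (σ : A) (hσ0 : σ ∈ 𝒜 0) [IsLocalization.Away σ B]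
    (ι : 𝒜 →+*ᵍ ℬ) (hι : ∀ a : A, ι a = algebraMap A B a) :
    (HomogeneousIdeal.irrelevant 𝒜).map ι = HomogeneousIdeal.irrelevant ℬ := by
  classical
  have hpos : ∀ a : A, a ∈ (HomogeneousIdeal.irrelevant 𝒜).toIdeal → ι a ∈ (HomogeneousIdeal.irrelevant ℬ).toIdeal := by
    intro a ha
    rw [← DirectSum.sum_support_decompose 𝒜 a, map_sum]
    refine Ideal.sum_mem _ fun n _ => ?_
    rcases Nat.eq_zero_or_pos n with rfl | hn
    · have h0 : (DirectSum.decompose 𝒜 a 0 : A) = 0 := by
        have := (HomogeneousIdeal.mem_irrelevant_iff 𝒜 a).mp ha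
        rwa [GradedRing.proj_apply] at this
      rw [h0, map_zero]; exact zero_mem _
    · exact HomogeneousIdeal.mem_irrelevant_of_mem ℬ hn (ι.map_mem (DirectSum.decompose 𝒜 a n).2)
  apply HomogeneousIdeal.ext
  refine le_antisymm (Ideal.map_le_iff_le_comap.2 hpos) fun b hb => ?_
  obtain ⟨m, a, ha⟩ := IsLocalization.Away.surj σ b
  have hb' : ι a ∈ (HomogeneousIdeal.irrelevant ℬ).toIdeal := by
    rw [hι, ← ha]; exact Ideal.mul_mem_right _ _ hb
  set a0 : A := (DirectSum.decompose 𝒜 a 0 : A)
  have ha0m : a0 ∈ 𝒜 0 := (DirectSum.decompose 𝒜 a 0).2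
  have ha' : a - a0 ∈ (HomogeneousIdeal.irrelevant 𝒜).toIdeal := by
    rw [show a - a0 ∈ (HomogeneousIdeal.irrelevant 𝒜).toIdeal ↔ a - a0 ∈ HomogeneousIdeal.irrelevant 𝒜 from Iff.rfl,
      HomogeneousIdeal.mem_irrelevant_iff, map_sub, GradedRing.proj_apply, GradedRing.proj_apply,
      DirectSum.decompose_of_mem_same 𝒜 ha0m, sub_self]
  have h0 : ι a0 = 0 := by
    have h1 : ι a0 ∈ (HomogeneousIdeal.irrelevant ℬ).toIdeal := by
      have := Ideal.sub_mem _ hb' (hpos _ ha')
      rwa [← map_sub, sub_sub_cancel] at this
    have h2 := (HomogeneousIdeal.mem_irrelevant_iff ℬ (ι a0)).mp h1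
    rw [GradedRing.proj_apply] at h2
    exact (DirectSum.decompose_of_mem_same ℬ (ι.map_mem ha0m)).symm.trans h2
  have h3 : b * algebraMap A B (σ ^ m) ∈ ((HomogeneousIdeal.irrelevant 𝒜).map ι).toIdeal := by
    rw [map_pow, ha, ← hι, show ι a = ι (a - a0) by rw [map_sub, h0, sub_zero]]
    exact Ideal.mem_map_of_mem _ ha'
  exact ((((HomogeneousIdeal.irrelevant 𝒜).map ι).toIdeal).mul_unit_mem_iff_mem
    (IsLocalization.map_units B ⟨σ ^ m, pow_mem (Submonoid.mem_powers σ) m⟩)).1 h3

end Groth.Agent.S15122
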