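import Groth.Statements.S15129
import Groth.Agent.H22.NilLocal

set_option autoImplicit false
universe u v
open CAlg

namespace Groth.Agent.S15129

/-- Over an Artinian local ring A with residue field k, for an exact sequence 0 → M → N → P → 0 of
A-modules with N flat: if k ⊗_A M → k ⊗_A N is injective then P is flat; if P is flat then M is flat
and k ⊗_A M → k ⊗_A N is injective. (The published statement is for local Artinian algebras over an
algebraically closed field of characteristic zero having that field as residue field; this row
allows any Artinian local ring.) -/
theorem result
    (A : Type u) [CommRing A] [IsLocalRing A] [IsArtinianRing A]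
    (M N P : Type v) [AddCommGroup M] [Module A M] [AddCommGroup N] [Module A N]
    [AddCommGroup P] [Module A P] [Module.Flat A N] (f : M →ₗ[A] N) (g : N →ₗ[A] P)
    (hf : Function.Injective f) (hg : Function.Surjective g) (hfg : Function.Exact f g) :
    (Function.Injective (f.lTensor (IsLocalRing.ResidueField A)) → Module.Flat A P) ∧
    (Module.Flat A P → Module.Flat A M ∧ Function.Injective (f.lTensor (IsLocalRing.ResidueField A))) := by
  refine ⟨fun hi => H22.NilLocal.flat_coker_of_lTensor_injective
    H22.NilLocal.isNilpotent_maximal f g hg hfg hi, fun hP => ⟨?_, ?_⟩⟩
  · exact H22.Nil.flat_left_of_exact f g hf hfg hg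
  · exact LinearMap.lTensor_injective_of_exact_of_flat g hg f hf hfg _

end Groth.Agent.S15129
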