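import Groth.Statements.S15130
import Mathlib
import Groth.Agent.H15.ArtFlat

set_option autoImplicit false
universe u v
open CAlg

namespace Groth.Agent.S15130

/-- Let A be an Artinian local ring with residue field k and P → Q → R → M → 0 a complex of A-modules
with P, Q, R flat which is exact at R and at M. If the reduced complex k ⊗ P → k ⊗ Q → k ⊗ R is
exact (the rest of the reduced sequence is then automatically exact), then M is flat and the
original complex is exact at Q as well. (The published statement is for local Artinian algebras over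
an algebraically closed field of characteristic zero having that field as residue field; this row
allows any Artinian local ring.) -/
theorem result
    (A : Type u) [CommRing A] [IsLocalRing A] [IsArtinianRing A]
    (P Q R M : Type v) [AddCommGroup P] [Module A P] [AddCommGroup Q] [Module A Q]
    [AddCommGroup R] [Module A R] [AddCommGroup M] [Module A M]
    [Module.Flat A P] [Module.Flat A Q] [Module.Flat A R]
    (f : P →ₗ[A] Q) (g : Q →ₗ[A] R) (h : R →ₗ[A] M)
    (hfg : g ∘ₗ f = 0) (hgh : Function.Exact g h) (hh : Function.Surjective h)
    (hred : Function.Exact (f.lTensor (IsLocalRing.ResidueField A)) (g.lTensor (IsLocalRing.ResidueField A))) :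
    Module.Flat A M ∧ Function.Exact f g := by
  open Groth.Agent.H15.ArtFlat in
  have hU : LinearMap.range f ≤ LinearMap.ker g := LinearMap.range_le_ker_iff.2 hfg
  open Groth.Agent.H15.ArtFlat in
  have hred' : ∀ x, g x ∈ IsLocalRing.maximalIdeal A • (⊤ : Submodule A R) → x ∈ LinearMap.range f ⊔ IsLocalRing.maximalIdeal A • (⊤ : Submodule A Q) := by
    intro x hx
    have hkR := LinearMap.ker_tensorProductMk (I := IsLocalRing.maximalIdeal A) (Q := R)
    have hkQ := LinearMap.ker_tensorProductMk (I := IsLocalRing.maximalIdeal A) (Q := Q)
    have h1 : TensorProduct.mk A (IsLocalRing.ResidueField A) R 1 (g x) = 0 := LinearMap.mem_ker.1 (hkR.ge hx)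
    obtain ⟨z, hz⟩ := (hred (TensorProduct.mk A (IsLocalRing.ResidueField A) Q 1 x)).1 (by simpa using h1)
    obtain ⟨p, rfl⟩ := TensorProduct.mk_surjective A P (IsLocalRing.ResidueField A) Ideal.Quotient.mk_surjective z
    have h2 : x - f p ∈ LinearMap.ker (TensorProduct.mk A (IsLocalRing.ResidueField A) Q 1) := by
      rw [LinearMap.mem_ker, map_sub, sub_eq_zero]
      simpa using hz.symm
    exact Submodule.mem_sup.2 ⟨f p, LinearMap.mem_range_self f p, x - f p, hkQ.le h2, add_sub_cancel _ _⟩
  open Groth.Agent.H15.ArtFlat in
  have hk := key g (LinearMap.range f) hU hred'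
  refine ⟨flat_coker g h hgh hh fun J x hx => sup_le_sup_right hU _ (hk J x hx), fun x => ⟨fun hx => ?_, ?_⟩⟩
  · have := hk ⊥ x (by rw [hx]; exact zero_mem _)
    rw [Submodule.bot_smul, sup_bot_eq] at this
    exact this
  · rintro ⟨p, rfl⟩; exact LinearMap.congr_fun hfg p

end Groth.Agent.S15130
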