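import Groth.Statements.S15133
import Mathlib
import Groth.Agent.H15.ArtFlat

set_option autoImplicit false
universe u
open CategoryTheory
open CAlg

namespace Groth.Agent.S15133

/-- Let A be an Artinian local ring with residue field k, n ≥ 1, and 0 → I → P₀ → P₁ → ⋯ → Pₙ a complex
of A-modules with P₀, …, Pₙ flat whose reduction 0 → k ⊗ I → k ⊗ P₀ → ⋯ → k ⊗ Pₙ is exact. Then I
and coker(Pₙ₋₁ → Pₙ) are flat. The complex is written as a cochain complex C indexed by ℕ with C⁰ =
I and Cⁱ⁺¹ = Pᵢ; its terms in degrees above n + 1 play no role. (The published statement adds that I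
maps onto the kernel of k ⊗ P₀ → k ⊗ P₁, which is already part of the exactness hypothesis, and is
for local Artinian algebras over an algebraically closed field of characteristic zero having that
field as residue field; this row allows any Artinian local ring.) -/
theorem result
    (A : Type u) [CommRing A] [IsLocalRing A] [IsArtinianRing A] (n : ℕ) (hn : 0 < n)
    (C : CochainComplex (ModuleCat.{u} A) ℕ)
    (hflat : ∀ i, i ≤ n → Module.Flat A (C.X (i + 1)))
    (hred : ∀ j, j ≤ n →
      (((MonoidalCategory.tensorLeft (ModuleCat.of A (IsLocalRing.ResidueField A))).mapHomologicalComplex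
        (ComplexShape.up ℕ)).obj C).ExactAt j) :
    Module.Flat A (C.X 0) ∧ Module.Flat A (C.X (n + 1) ⧸ LinearMap.range (C.d n (n + 1)).hom) := by
  classical
  open Groth.Agent.H15.ArtFlat in
  have hsat : ∀ j, j ≤ n → ∀ x, (C.d j (j + 1)).hom x ∈ IsLocalRing.maximalIdeal A • (⊤ : Submodule A (C.X (j + 1))) →
      x ∈ LinearMap.range (C.d (j - 1) j).hom ⊔ IsLocalRing.maximalIdeal A • (⊤ : Submodule A (C.X j)) := by
    intro j hj x hx
    have hex := hred j hj
    have hprev : (ComplexShape.up ℕ).prev j = j - 1 := by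
      rcases Nat.eq_zero_or_pos j with rfl | h
      · simp
      · exact (ComplexShape.up ℕ).prev_eq' (by simp; omega)
    rw [HomologicalComplex.exactAt_iff' _ (j - 1) j (j + 1) hprev (CochainComplex.next ℕ j),
      ShortComplex.moduleCat_exact_iff_ker_sub_range] at hex
    let k := IsLocalRing.ResidueField A
    have h1 : TensorProduct.mk A k (C.X (j + 1)) 1 ((C.d j (j + 1)).hom x) = 0 :=
      LinearMap.mem_ker.1 ((LinearMap.ker_tensorProductMk (I := IsLocalRing.maximalIdeal A) (Q := C.X (j + 1))).ge hx)
    have h2 : TensorProduct.mk A k (C.X j) 1 x ∈ LinearMap.range ((C.d (j - 1) j).hom.lTensor k) :=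
      hex (show ((C.d j (j + 1)).hom.lTensor k) (TensorProduct.mk A k (C.X j) 1 x) = 0 by simpa using h1)
    obtain ⟨z, hz⟩ := h2
    obtain ⟨y, rfl⟩ := TensorProduct.mk_surjective A (C.X (j - 1)) k Ideal.Quotient.mk_surjective z
    have h3 : x - (C.d (j - 1) j).hom y ∈ LinearMap.ker (TensorProduct.mk A k (C.X j) 1) := by
      rw [LinearMap.mem_ker, map_sub, sub_eq_zero]
      simpa using hz.symm
    exact Submodule.mem_sup.2 ⟨_, LinearMap.mem_range_self _ y, _,
      (LinearMap.ker_tensorProductMk (I := IsLocalRing.maximalIdeal A) (Q := C.X j)).le h3, add_sub_cancel _ _⟩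
  have hU : ∀ j, LinearMap.range (C.d (j - 1) j).hom ≤ LinearMap.ker (C.d j (j + 1)).hom := by
    rintro j _ ⟨y, rfl⟩
    rw [LinearMap.mem_ker, ← LinearMap.comp_apply, ← ModuleCat.hom_comp, HomologicalComplex.d_comp_d]
    rfl
  refine ⟨?_, ?_⟩
  · haveI := hflat 0 (Nat.zero_le n)
    have h0 : LinearMap.range (C.d (0 - 1) 0).hom = ⊥ := by
      rw [show C.d (0 - 1) 0 = 0 from C.shape _ _ (by simp)]
      simp
    set g := (C.d 0 (0 + 1)).hom with hg
    have hk := Groth.Agent.H15.ArtFlat.key g ⊥ bot_le (fun x hx => h0 ▸ hsat 0 (Nat.zero_le n) x hx)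
    have hinj : Function.Injective g := by
      rw [injective_iff_map_eq_zero]
      intro x hx
      simpa using hk ⊥ x (by rw [hx]; exact zero_mem _)
    haveI hc : Module.Flat A (C.X (0 + 1) ⧸ LinearMap.range g) :=
      Groth.Agent.H15.ArtFlat.flat_coker g (LinearMap.range g).mkQ
        (LinearMap.exact_iff.2 (Submodule.ker_mkQ _)) (Submodule.mkQ_surjective _)
        (fun J x hx => Submodule.mem_sup_right (by simpa using hk J x hx))
    haveI := Groth.Agent.H15.ArtFlat.free_of_flat (R := A) (C.X (0 + 1) ⧸ LinearMap.range g)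
    obtain ⟨l, hl⟩ := Module.projective_lifting_property (LinearMap.range g).mkQ LinearMap.id (Submodule.mkQ_surjective _)
    let p : C.X (0 + 1) →ₗ[A] LinearMap.range g := LinearMap.codRestrict _ (LinearMap.id - l ∘ₗ (LinearMap.range g).mkQ) (fun y => by
      rw [← Submodule.Quotient.mk_eq_zero]
      have := LinearMap.congr_fun hl ((LinearMap.range g).mkQ y)
      simp only [LinearMap.comp_apply, LinearMap.id_apply, Submodule.mkQ_apply] at this
      simp [this])
    exact Module.Flat.of_retract (f := hflat 0 (Nat.zero_le n)) g ((LinearEquiv.ofInjective g hinj).symm.toLinearMap ∘ₗ p)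
      (LinearMap.ext fun x => by
        have : p (g x) = ⟨g x, LinearMap.mem_range_self g x⟩ := by
          apply Subtype.ext
          have h : (LinearMap.range g).mkQ (g x) = 0 := (Submodule.Quotient.mk_eq_zero _).2 (LinearMap.mem_range_self g x)
          simp [p, h]
        rw [LinearMap.comp_apply, LinearMap.comp_apply, this]
        exact (LinearEquiv.ofInjective g hinj).symm_apply_apply x)
  · haveI := hflat n le_rfl
    exact Groth.Agent.H15.ArtFlat.flat_coker (C.d n (n + 1)).hom (LinearMap.range (C.d n (n + 1)).hom).mkQ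
      (LinearMap.exact_iff.2 (Submodule.ker_mkQ _)) (Submodule.mkQ_surjective _)
      (fun J x hx => sup_le_sup_right (hU n) _ (Groth.Agent.H15.ArtFlat.key _ _ (hU n) (hsat n le_rfl) J x hx))

end Groth.Agent.S15133
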