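import Groth.Statements.S15134
import Groth.Agent.Lib.ArtinFun.Versal

set_option autoImplicit false
universe u v
open CategoryTheory
open ArtFun
open Groth.Agent.Lib.ArtinFun

namespace Groth.Agent.S15134

/-- Let k be a field and F a functor on local Artinian k-algebras with residue field k with F(k) a
point. If F satisfies (H2') — the comparison map F(A₁ ×_k A₂) → F(A₁) × F(A₂) is bijective for every
pair of objects — then F satisfies condition (L): for every small extension f : B → A with kernel J,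
writing P = B ×_k B, Q = A ×_k A, r : P → Q for the map induced by f, and C = P/K with K the ideal
of P consisting of the pairs (b, b) with b ∈ J, every element of F(Q) whose two images in F(A) agree
lifts along F(C) → F(Q). Here P and Q are pinned as fibre products over k, K is described through
the two projections, and the two inequalities on K (it lies in the maximal ideal of P and is killed
by r), which always hold, are taken as hypotheses so that the quotient object and the factored map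
can be named. -/
theorem result
    {k : Type u} [Field k] (F : ArtFun.Art k k ⥤ Type v) (h0 : ArtFun.H0 F)
    (h2' : ∀ ⦃P A' A'' : ArtFun.Art k k⦄ (p' : P ⟶ A') (p'' : P ⟶ A'')
      (h : ArtFun.Art.IsFibreProd p' p'' (ArtFun.Art.toBase A') (ArtFun.Art.toBase A'')),
      Function.Bijective (ArtFun.cmp F h))
    ⦃B A : ArtFun.Art k k⦄ (f : B ⟶ A) (hf : ArtFun.Art.IsSmallExt f)
    ⦃P : ArtFun.Art k k⦄ (p₁ p₂ : P ⟶ B)
    (hP : ArtFun.Art.IsFibreProd p₁ p₂ (ArtFun.Art.toBase B) (ArtFun.Art.toBase B))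
    ⦃Q : ArtFun.Art k k⦄ (q₁ q₂ : Q ⟶ A)
    (hQ : ArtFun.Art.IsFibreProd q₁ q₂ (ArtFun.Art.toBase A) (ArtFun.Art.toBase A))
    (r : P ⟶ Q) (hr₁ : r ≫ q₁ = p₁ ≫ f) (hr₂ : r ≫ q₂ = p₂ ≫ f)
    (hK : Ideal.span {z : P | p₁ z = p₂ z ∧ f (p₁ z) = 0} ≤ IsLocalRing.maximalIdeal P)
    (hKr : Ideal.span {z : P | p₁ z = p₂ z ∧ f (p₁ z) = 0} ≤ RingHom.ker r.toAlgHom)
    (y : F.obj Q) (hy : F.map q₁ y = F.map q₂ y) :
    ∃ z : F.obj (ArtFun.Art.quot P (Ideal.span {z : P | p₁ z = p₂ z ∧ f (p₁ z) = 0}) hK),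
      F.map (ArtFun.Art.quotFactor hK r hKr) z = y := by
  set K := Ideal.span {z : P | p₁ z = p₂ z ∧ f (p₁ z) = 0}
  let d : B ⟶ P := IsFibreProd.lift hP (𝟙 B) (𝟙 B) rfl
  have hd₁ : ∀ b, p₁ (d b) = b := fun b => IsFibreProd.lift_fst_apply hP (𝟙 B) (𝟙 B) rfl b
  have hd₂ : ∀ b, p₂ (d b) = b := fun b => IsFibreProd.lift_snd_apply hP (𝟙 B) (𝟙 B) rfl b
  let e : B ⟶ Art.quot P K hK := d ≫ Art.quotMk P K hK
  obtain ⟨s, hs⟩ := exists_hom_of_ker_le (C := A) (D := Art.quot P K hK)
    (⟨f.toAlgHom, f.res_comp⟩ : HomSet B B.res A) hf.1 ⟨e.toAlgHom, e.res_comp⟩ (fun b hb => by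
      change e b = 0
      rw [show e b = Art.quotMk P K hK (d b) from rfl, quotMk_eq_zero_iff]
      exact Ideal.subset_span ⟨by rw [hd₁, hd₂], by rw [hd₁]; exact hb⟩)
  have hsb : ∀ b, s (f b) = e b := fun b => AlgHom.congr_fun (congrArg Subtype.val hs) b
  have h₁ : (s ≫ Art.quotFactor hK r hKr) ≫ q₁ = 𝟙 A := hom_ext_apply fun a => by
    obtain ⟨b, rfl⟩ := hf.1 a
    rw [hom_comp_apply, hom_comp_apply, hsb, show e b = Art.quotMk P K hK (d b) from rfl,
      quotFactor_quotMk_apply, show q₁ (r (d b)) = f (p₁ (d b)) from hom_congr_apply hr₁ (d b), hd₁]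
    rfl
  have h₂ : (s ≫ Art.quotFactor hK r hKr) ≫ q₂ = 𝟙 A := hom_ext_apply fun a => by
    obtain ⟨b, rfl⟩ := hf.1 a
    rw [hom_comp_apply, hom_comp_apply, hsb, show e b = Art.quotMk P K hK (d b) from rfl,
      quotFactor_quotMk_apply, show q₂ (r (d b)) = f (p₂ (d b)) from hom_congr_apply hr₂ (d b), hd₂]
    rfl
  refine ⟨F.map s (F.map q₁ y), (h2' q₁ q₂ hQ).1 (FibProd.ext ?_ ?_)⟩
  · change F.map q₁ _ = F.map q₁ y
    rw [map_map, map_map, map_map, map_congr (show q₁ ≫ s ≫ Art.quotFactor hK r hKr ≫ q₁ = q₁ by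
      rw [← Category.assoc s, h₁, Category.comp_id])]
  · change F.map q₂ _ = F.map q₂ y
    rw [map_map, map_map, map_map, map_congr (show q₁ ≫ s ≫ Art.quotFactor hK r hKr ≫ q₂ = q₁ by
      rw [← Category.assoc s, h₂, Category.comp_id]), hy]

end Groth.Agent.S15134
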