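import Groth.Statements.S15135


set_option autoImplicit false
universe u v
open Deform

namespace Groth.Agent.S15135

/-- For R-modules M ⊆ N, the first-order embedded deformations of M in N are in canonical bijection with
Hom_R(M, N/M). Writing N ⊗ k[ε] = N ⊕ εN as N × N (the pair (x, y) standing for x + εy), such a
deformation is an R-submodule L of N × N which is stable under multiplication by ε (if (x, y) ∈ L
then (0, x) ∈ L), reduces to M (x ∈ M exactly when (x, y) ∈ L for some y) and is flat over the dual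
numbers, flatness being stated elementwise as: (0, y) ∈ L only if y ∈ M (for a submodule reducing to
M this is the equality of the kernel and the image of ε on L, i.e. flatness over k[ε] when R is an
algebra over a field k). To φ : M → N/M corresponds the submodule of all (x, y) with x ∈ M and y ≡
φ(x) mod M. The first clause says this rule defines exactly one submodule for each φ; the second
says that a submodule has the three properties precisely when its membership is given by this rule
for some φ. (The published statement is a linear isomorphism t_G ≅ Hom_R(M, N/M) for the functor G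
of flat deformations of M inside N ⊗ A over local Artinian algebras A; this row states only the
underlying bijection, and the obstruction half is not stated here.) -/
theorem result
    (R : Type u) [CommRing R] (N : Type v) [AddCommGroup N] [Module R N] (M : Submodule R N) :
    (∀ φ : M →ₗ[R] (N ⧸ M), ∃! L : Submodule R (N × N),
        ∀ x y : N, (x, y) ∈ L ↔ ∃ h : x ∈ M, Submodule.Quotient.mk y = φ ⟨x, h⟩) ∧
    (∀ L : Submodule R (N × N),
      ((∀ x y : N, (x, y) ∈ L → ((0 : N), x) ∈ L) ∧
        (∀ x : N, x ∈ M ↔ ∃ y : N, (x, y) ∈ L) ∧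
        (∀ y : N, ((0 : N), y) ∈ L → y ∈ M)) ↔
      ∃ φ : M →ₗ[R] (N ⧸ M), ∀ x y : N, (x, y) ∈ L ↔ ∃ h : x ∈ M, Submodule.Quotient.mk y = φ ⟨x, h⟩) := by
  refine ⟨fun φ => ?_, fun L => ⟨?_, ?_⟩⟩
  · refine ⟨{ carrier := {p | ∃ h : p.1 ∈ M, Submodule.Quotient.mk p.2 = φ ⟨p.1, h⟩}
              zero_mem' := ⟨M.zero_mem, (Submodule.Quotient.mk_zero M).trans φ.map_zero.symm⟩
              add_mem' := ?_, smul_mem' := ?_ }, fun x y => Iff.rfl, fun L hL => ?_⟩
    · rintro p q ⟨hp, ep⟩ ⟨hq, eq⟩
      refine ⟨M.add_mem hp hq, ?_⟩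
      show Submodule.Quotient.mk (p.2 + q.2) = φ _
      rw [Submodule.Quotient.mk_add, ep, eq, ← map_add]
      rfl
    · rintro r p ⟨hp, ep⟩
      refine ⟨M.smul_mem r hp, ?_⟩
      show Submodule.Quotient.mk (r • p.2) = φ _
      rw [Submodule.Quotient.mk_smul, ep, ← map_smul]
      rfl
    · exact SetLike.ext fun p => hL p.1 p.2
  · rintro ⟨h1, h2, h3⟩
    have hex : ∀ x : M, ∃ y, ((x : N), y) ∈ L := fun x => (h2 x).1 x.2
    choose y hy using hex
    have huniq : ∀ (x : M) (z : N), ((x : N), z) ∈ L →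
        (Submodule.Quotient.mk z : N ⧸ M) = Submodule.Quotient.mk (y x) := fun x z hz => by
      rw [Submodule.Quotient.eq]
      apply h3
      have h := L.sub_mem hz (hy x)
      simpa using h
    refine ⟨{ toFun := fun x => Submodule.Quotient.mk (y x), map_add' := ?_, map_smul' := ?_ },
      fun x z => ⟨fun hz => ⟨(h2 x).2 ⟨z, hz⟩, huniq ⟨x, (h2 x).2 ⟨z, hz⟩⟩ z hz⟩, ?_⟩⟩
    · intro a b
      rw [← Submodule.Quotient.mk_add]
      exact (huniq (a + b) _ (L.add_mem (hy a) (hy b))).symm
    · intro r a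
      rw [RingHom.id_apply, ← Submodule.Quotient.mk_smul]
      exact (huniq (r • a) _ (L.smul_mem r (hy a))).symm
    · rintro ⟨hx, hz⟩
      have hd : z - y ⟨x, hx⟩ ∈ M := (Submodule.Quotient.eq M).1 hz
      obtain ⟨w, hw⟩ := (h2 _).1 hd
      have h := L.add_mem (hy ⟨x, hx⟩) (h1 _ _ hw)
      simpa using h
  · rintro ⟨φ, hφ⟩
    refine ⟨fun x y h => ?_, fun x => ⟨fun hx => ?_, fun ⟨y, hy⟩ => ((hφ x y).1 hy).1⟩, fun y h => ?_⟩
    · obtain ⟨hx, -⟩ := (hφ x y).1 h
      refine (hφ 0 x).2 ⟨M.zero_mem, ?_⟩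
      rw [(Submodule.Quotient.mk_eq_zero M).2 hx]
      exact (φ.map_zero).symm
    · obtain ⟨y, hy⟩ := Submodule.Quotient.mk_surjective M (φ ⟨x, hx⟩)
      exact ⟨y, (hφ x y).2 ⟨hx, hy⟩⟩
    · obtain ⟨h0, hy⟩ := (hφ 0 y).1 h
      rw [← Submodule.Quotient.mk_eq_zero M, hy]
      exact φ.map_zero

end Groth.Agent.S15135
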