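import Groth.Statements.S15136
import Groth.Agent.Lib.ModelFibre.FlatSeq
-- import your own Groth.Agent.* helpers here

set_option autoImplicit false
universe u
open CategoryTheory CategoryTheory.Limits AlgebraicGeometry Opposite
open Models

namespace Groth.Agent.S15136

/-- Let R be a discrete valuation ring with residue field k and let X be a scheme proper and flat over
Spec R, with closed fibre X_s = X ×_R Spec k, the closed subscheme cut out by the ideal sheaf 𝔪_R ·
O_X. Then X is cohomologically flat over R in dimension 0, in the sense that the restriction map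
H^0(X, O_X) → H^0(X_s, O_{X_s}) is surjective (equivalently H^0(X, O_X) ⊗_R k ≅ H^0(X_s, O_{X_s})),
precisely when H^1(X, O_X) has no R-torsion. (The published statement is for a proper relative curve
over R, normal with smooth geometrically connected generic fibre and with the fraction field of R of
characteristic zero, and phrases cohomological flatness as the formation of the direct image of O_X
commuting with every base change; the argument uses only properness and flatness, and for X proper
and flat over R that condition amounts to surjectivity onto the sections of the closed fibre, which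
is the form taken here.) -/
theorem result (R : Type u) [CommRing R] [IsDomain R]
    [IsDiscreteValuationRing R] (X : Scheme.{u}) [X.Over (Spec (CommRingCat.of R))]
    [IsProper (X ↘ Spec (CommRingCat.of R))] [Flat (X ↘ Spec (CommRingCat.of R))] :
    Function.Surjective (Sheaf.H.map ((SheafOfModules.toSheaf X.ringCatSheaf).map
      (ClSub.toSubscheme (Models.specialFibreIdeal R (Over.mk (X ↘ Spec (CommRingCat.of R)))))) 0) ↔
      NoZeroSMulDivisors R (Coh.HH X (Coh.structureModule X) 1) := by
  let Y := Over.mk (X ↘ Spec (CommRingCat.of R))
  haveI : Flat Y.hom := inferInstanceAs (Flat (X ↘ Spec (CommRingCat.of R)))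
  obtain ⟨π, hπ⟩ := IsDiscreteValuationRing.exists_irreducible R
  obtain ⟨w, hS⟩ := Groth.Agent.Lib.ModelFibre.FlatSeq.flatSeq Y hπ
  have hσ : ∀ x : Coh.HH Y.left (Coh.structureModule Y.left) 1,
      Groth.Agent.Lib.Curves.LES.mapK R (Groth.Agent.Lib.CurveBundle.EndAlg.scal (Coh.structureModule Y.left)
        (Coh.toGlobal Y.hom π)) 1 x = π • x := fun _ => rfl
  have e₂ := Groth.Agent.Lib.Curves.LES.exactK₃ R hS 0 1 rfl
  have e₃ := Groth.Agent.Lib.Curves.LES.exactK₁ R hS 0 1 rfl
  show Function.Surjective (Groth.Agent.Lib.Curves.LES.mapK (A := R) (X := Y.left)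
    (ClSub.toSubscheme (Models.specialFibreIdeal R Y)) 0) ↔
      NoZeroSMulDivisors R (Coh.HH Y.left (Coh.structureModule Y.left) 1)
  constructor
  · intro hsurj
    have hinj : ∀ x : Coh.HH Y.left (Coh.structureModule Y.left) 1, π • x = 0 → x = 0 := fun x hx => by
      obtain ⟨y, rfl⟩ := (e₃ x).mp ((hσ x).trans hx)
      exact (e₂ y).mpr (hsurj y)
    refine ⟨fun {r x} hrx => ?_⟩
    by_contra h
    push Not at h
    obtain ⟨hr, hx⟩ := h
    obtain ⟨n, u, rfl⟩ := IsDiscreteValuationRing.eq_unit_mul_pow_irreducible hr hπ
    rw [mul_smul] at hrx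
    replace hrx : π ^ n • x = 0 := by
      rw [← one_smul R (π ^ n • x), ← u.inv_mul, mul_smul, hrx, smul_zero]
    clear hr
    induction n with
    | zero => exact hx (by rwa [pow_zero, one_smul] at hrx)
    | succ m ih => exact ih (hinj _ (by rwa [pow_succ', mul_smul] at hrx))
  · intro h y
    refine (e₂ y).mp ?_
    have h1 := (hσ _).symm.trans ((e₃ _).mpr ⟨y, rfl⟩)
    exact (h.eq_zero_or_eq_zero_of_smul_eq_zero h1).resolve_left hπ.ne_zero

end Groth.Agent.S15136
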