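import Groth.Statements.S15138
import Groth.Agent.Lib.RatSing74.FiniteExt
import Mathlib.RingTheory.IntegralClosure.GoingDown
import Mathlib.RingTheory.Ideal.KrullsHeightTheorem

set_option autoImplicit false
set_option linter.style.haveILetI false
universe u
open CategoryTheory CategoryTheory.Limits AlgebraicGeometry
open Resolve

namespace Groth.Agent.S15138

open Groth.Agent.Lib

/-- Rational singularities are invariant under ring isomorphisms. -/
theorem isRationalSing_of_equiv {A B : Type u} [CommRing A] [CommRing B] (e : A ≃+* B)
    (h : Curv2.IsRationalSing A) : Curv2.IsRationalSing B := by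
  intro X f hf hint hn ⟨U, hU, hiso⟩
  let i : Spec (CommRingCat.of B) ⟶ Spec (CommRingCat.of A) := Spec.map e.toCommRingCatIso.hom
  haveI := hiso
  refine h X (f ≫ i) inferInstance hint hn ⟨i ''ᵁ U, ?_, ?_⟩
  · obtain ⟨x, hx⟩ := hU
    exact ⟨i x, x, hx, rfl⟩
  · rw [morphismRestrict_comp]
    have h1 : IsIso (f ∣_ i ⁻¹ᵁ i ''ᵁ U) := by
      rw [i.preimage_image_eq]
      exact hiso
    have h2 : IsIso (i ∣_ i ''ᵁ U) :=
      (MorphismProperty.isomorphisms Scheme).of_isPullback (isPullback_morphismRestrict i _).flip
        (show IsIso i by infer_instance)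
    exact @IsIso.comp_isIso _ _ _ _ _ _ _ h1 h2

/-- Let A → B be a finite injective ring map between excellent Noetherian normal domains of Krull
dimension two (the affine form of a finite surjective morphism of two-dimensional excellent normal
integral schemes), let K ⊆ L be the induced extension of fraction fields, and assume that the degree
[L : K] is a unit in A. If B has rational singularities, in the sense that its localization at every
maximal ideal of height two defines a rational singularity (every proper morphism onto the spectrum
from an integral normal scheme which is an isomorphism over a nonempty open has H^1 of the structure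
sheaf zero), then A has rational singularities in the same sense. (The published statement is for
schemes; the property is local on the target and a finite morphism is affine, so this row is its
affine form.) -/
theorem result (A B : Type u) [CommRing A] [CommRing B]
    [IsDomain A] [IsDomain B] [IsNoetherianRing A] [IsNoetherianRing B] [IsIntegrallyClosed A] [IsIntegrallyClosed B]
    (hAe : EGA4.IsExcellent A) (hBe : EGA4.IsExcellent B) (hA2 : ringKrullDim A = 2) (hB2 : ringKrullDim B = 2)
    [Algebra A B] [Module.Finite A B] (hinj : Function.Injective (algebraMap A B))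
    (K L : Type u) [Field K] [Field L] [Algebra A K] [IsFractionRing A K] [Algebra B L] [IsFractionRing B L]
    [Algebra K L] [Algebra A L] [IsScalarTower A K L] [IsScalarTower A B L]
    (hdeg : IsUnit ((Module.finrank K L : ℕ) : A))
    (hB : ∀ (n : Ideal B) [n.IsMaximal], ringKrullDim (Localization.AtPrime n) = 2 →
      Curv2.IsRationalSing (Localization.AtPrime n))
    (m : Ideal A) [m.IsMaximal] (hm : ringKrullDim (Localization.AtPrime m) = 2) :
    Curv2.IsRationalSing (Localization.AtPrime m) := by
  haveI : FaithfulSMul A B := (faithfulSMul_iff_algebraMap_injective A B).mpr hinj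
  haveI : Algebra.IsIntegral A B := Algebra.IsIntegral.of_finite A B
  haveI : FiniteDimensional K L := by
    refine Module.finite_of_finrank_pos (Nat.pos_of_ne_zero fun h0 => ?_)
    rw [h0, Nat.cast_zero] at hdeg
    exact not_isUnit_zero hdeg
  let A' := Localization.AtPrime m
  let M := Algebra.algebraMapSubmonoid B m.primeCompl
  let B' := Localization M
  have hM : M ≤ nonZeroDivisors B := by
    rintro _ ⟨a, ha, rfl⟩
    refine mem_nonZeroDivisors_of_ne_zero ?_
    rw [map_ne_zero_iff _ hinj]
    rintro rfl
    exact ha (zero_mem _)
  letI : Algebra A' B' := localizationAlgebra m.primeCompl B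
  haveI : IsScalarTower A A' B' :=
    IsScalarTower.of_algebraMap_eq fun a => (IsScalarTower.algebraMap_apply A B B' a).trans
      (IsLocalization.map_eq (S := A') (show m.primeCompl ≤ M.comap (algebraMap A B) from
        m.primeCompl.le_comap_map) a).symm
  haveI : Module.Finite A' B' := Module.Finite.of_isLocalization A B m.primeCompl
  haveI : IsDomain B' := IsLocalization.isDomain_of_le_nonZeroDivisors _ hM
  haveI : IsIntegrallyClosed B' := isIntegrallyClosed_of_isLocalization B' M hM
  haveI : IsNoetherianRing B' := IsLocalization.isNoetherianRing M B' inferInstance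
  have hKu : ∀ y : m.primeCompl, IsUnit (algebraMap A K y) := fun y =>
    IsUnit.mk0 _ ((map_ne_zero_iff _ (IsFractionRing.injective A K)).mpr fun h => y.2 (h ▸ zero_mem m))
  have hLu : ∀ y : M, IsUnit (algebraMap B L y) := fun y =>
    IsUnit.mk0 _ ((map_ne_zero_iff _ (IsFractionRing.injective B L)).mpr (nonZeroDivisors.ne_zero (hM y.2)))
  letI : Algebra A' K := (IsLocalization.lift (S := A') hKu).toAlgebra
  haveI : IsScalarTower A A' K :=
    IsScalarTower.of_algebraMap_eq fun a => (IsLocalization.lift_eq hKu a).symm
  haveI : IsFractionRing A' K :=
    IsFractionRing.isFractionRing_of_isDomain_of_isLocalization m.primeCompl A' K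
  letI : Algebra B' L := (IsLocalization.lift (S := B') hLu).toAlgebra
  haveI : IsScalarTower B B' L :=
    IsScalarTower.of_algebraMap_eq fun a => (IsLocalization.lift_eq hLu a).symm
  haveI : IsFractionRing B' L :=
    IsFractionRing.isFractionRing_of_isDomain_of_isLocalization M B' L
  letI : Algebra A' L := ((algebraMap K L).comp (algebraMap A' K)).toAlgebra
  haveI : IsScalarTower A' K L := IsScalarTower.of_algebraMap_eq' rfl
  haveI : IsScalarTower A' B' L := by
    refine IsScalarTower.of_algebraMap_eq' (IsLocalization.ringHom_ext m.primeCompl ?_)
    ext a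
    show algebraMap K L (algebraMap A' K (algebraMap A A' a)) =
      algebraMap B' L (algebraMap A' B' (algebraMap A A' a))
    rw [← IsScalarTower.algebraMap_apply A A' K, ← IsScalarTower.algebraMap_apply A A' B',
      IsScalarTower.algebraMap_apply A B B', ← IsScalarTower.algebraMap_apply B B' L,
      ← IsScalarTower.algebraMap_apply A K L, ← IsScalarTower.algebraMap_apply A B L]
  have hd' : IsUnit ((Module.finrank K L : ℕ) : A') := by
    have h := hdeg.map (algebraMap A A')
    rwa [map_natCast] at h
  refine RatSing74.FiniteExt.isRationalSing_of_finite A' B' K L hd' fun x hx => ?_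
  let P : PrimeSpectrum B' := x
  haveI hPmax : P.asIdeal.IsMaximal := (PrimeSpectrum.isClosed_singleton_iff_isMaximal P).mp hx
  let n := P.asIdeal.comap (algebraMap B B')
  haveI : n.IsPrime := Ideal.comap_isPrime _ _
  have hnm : n.comap (algebraMap A B) = m := by
    haveI h1 : (P.asIdeal.comap (algebraMap A' B')).IsMaximal :=
      Ideal.isMaximal_comap_of_isIntegral_of_isMaximal P.asIdeal
    rw [Ideal.comap_comap, ← IsScalarTower.algebraMap_eq A B B', IsScalarTower.algebraMap_eq A A' B',
      ← Ideal.comap_comap, IsLocalRing.eq_maximalIdeal h1]
    exact IsLocalization.AtPrime.comap_maximalIdeal A' m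
  haveI : n.IsMaximal := Ideal.isMaximal_of_isIntegral_of_isMaximal_comap (R := A) n (by rw [hnm]; infer_instance)
  haveI : n.LiesOver m := ⟨hnm.symm⟩
  have hn2 : ringKrullDim (Localization.AtPrime n) = 2 := by
    refine le_antisymm ?_ ?_
    · rw [IsLocalization.AtPrime.ringKrullDim_eq_height n, ← hB2]
      exact Ideal.height_le_ringKrullDim_of_ne_top (Ideal.IsPrime.ne_top inferInstance)
    · rw [← hm, IsLocalization.AtPrime.ringKrullDim_eq_height n (Localization.AtPrime n),
        IsLocalization.AtPrime.ringKrullDim_eq_height m (Localization.AtPrime m),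
        Ideal.height_eq_height_add_of_liesOver_of_hasGoingDown m n]
      exact_mod_cast le_self_add
  have key : ∀ q : PrimeSpectrum B', q.asIdeal = P.asIdeal →
      Curv2.IsRationalSing ((Spec.structureSheaf B').presheaf.stalk q) := fun q hq => by
    obtain rfl : q = P := PrimeSpectrum.ext hq
    exact isRationalSing_of_equiv
      (((IsLocalization.localizationLocalizationAtPrimeIsoLocalization M q.asIdeal).toRingEquiv).trans
        (IsLocalization.algEquiv q.asIdeal.primeCompl (Localization.AtPrime q.asIdeal)
          ((Spec.structureSheaf B').presheaf.stalk q)).toRingEquiv)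
      (hB n hn2)
  exact key P rfl

end Groth.Agent.S15138
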