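import Groth.Statements.S1649
import Groth.Agent.Lib.Amp36.Modif.AffinePushGG
import Groth.Agent.Lib.Lim.LocalLimit
import Groth.Agent.Lib.SchImage.Integral
import Groth.Agent.Lib.RatSing74.FiniteExt
import Groth.Agent.H22.Birational12426.Over
import Groth.Agent.Lib.ZarCoh.Morph
import Groth.Agent.Lib.ZarCoh.PushH
import Groth.Agent.S0384
import Groth.Agent.S0566
import Groth.Agent.S0591
import Groth.Agent.S2074
import Groth.Agent.S7298
import Groth.Agent.S9673
import Groth.Agent.S9674

set_option autoImplicit false
universe u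
open CategoryTheory CategoryTheory.Limits AlgebraicGeometry
open Resolve

namespace Groth.Agent.S1649

open Groth.Agent.Lib

/-- The left factor of a preimmersion is a preimmersion. -/
theorem preimm_of_comp {X Y Z : Scheme.{u}} (f : X ⟶ Y) (g : Y ⟶ Z) [IsPreimmersion (f ≫ g)] :
    IsPreimmersion f where
  isEmbedding := Topology.IsEmbedding.of_comp f.continuous g.continuous (f ≫ g).isEmbedding
  stalkMap_surjective x := by
    have h := (f ≫ g).stalkMap_surjective x
    rw [Scheme.Hom.stalkMap_comp] at h
    exact Function.Surjective.of_comp h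

/-- Equality of fraction fields. -/
theorem isFractionRing_of_hfrac {A B : Type u} [CommRing A] [IsDomain A] [CommRing B] [IsDomain B]
    [Algebra A B]
    (hinj : Function.Injective (algebraMap A B))
    (hfrac : ∀ b : B, ∃ a a' : A, a' ≠ 0 ∧ algebraMap A B a' * b = algebraMap A B a) :
    IsFractionRing A (FractionRing B) := by
  let L := FractionRing B
  have hinjL : Function.Injective (algebraMap A L) := by
    rw [IsScalarTower.algebraMap_eq A B L]
    exact (IsFractionRing.injective B L).comp hinj
  haveI : FaithfulSMul A L := (faithfulSMul_iff_algebraMap_injective A L).2 hinjL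
  refine IsFractionRing.of_field A L fun x => ?_
  obtain ⟨c, d, hd, rfl⟩ := IsFractionRing.div_surjective (A := B) x
  obtain ⟨a, a', ha', h1⟩ := hfrac c
  obtain ⟨e, e', he', h2⟩ := hfrac d
  have hd0 : algebraMap B L d ≠ 0 := IsFractionRing.to_map_ne_zero_of_mem_nonZeroDivisors hd
  have g1 : algebraMap A L a' * algebraMap B L c = algebraMap A L a := by
    rw [IsScalarTower.algebraMap_apply A B L a', ← map_mul, h1, ← IsScalarTower.algebraMap_apply]
  have g2 : algebraMap A L e' * algebraMap B L d = algebraMap A L e := by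
    rw [IsScalarTower.algebraMap_apply A B L e', ← map_mul, h2, ← IsScalarTower.algebraMap_apply]
  have hne : algebraMap A L e' ≠ 0 := (map_ne_zero_iff _ hinjL).2 he'
  have hne' : algebraMap A L a' ≠ 0 := (map_ne_zero_iff _ hinjL).2 ha'
  have he0 : algebraMap A L e ≠ 0 := g2 ▸ mul_ne_zero hne hd0
  refine ⟨a * e', a' * e, ?_⟩
  rw [map_mul, map_mul, div_eq_div_iff hd0 (mul_ne_zero hne' he0), ← g1, ← g2]
  ring


section Stage

variable {A B : Type u} [CommRing A] [IsNoetherianRing A] [CommRing B] [IsLocalRing B] [Algebra A B]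
  [Algebra.EssFiniteType A B]

set_option backward.isDefEq.respectTransparency.types false in
/-- A proper scheme over an essentially finite type local ring sits as a preimmersion in a separated
scheme of finite type over the base. -/
theorem exists_stage (W : Scheme.{u}) (f : W ⟶ Spec (CommRingCat.of B)) [IsProper f] :
    ∃ (W₂ : Scheme.{u}) (w : W ⟶ W₂) (s : W₂ ⟶ Spec (CommRingCat.of A)),
      IsPreimmersion w ∧ IsSeparated s ∧ QuasiCompact s ∧ LocallyOfFiniteType s ∧
        w ≫ s = f ≫ Spec.map (CommRingCat.ofHom (algebraMap A B)) := by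
  let C := Algebra.EssFiniteType.subalgebra A B
  haveI : IsNoetherianRing B := Algebra.EssFiniteType.isNoetherianRing A B
  haveI : IsNoetherianRing C := Algebra.FiniteType.isNoetherianRing A C
  let q : Ideal C := (IsLocalRing.maximalIdeal B).comap (algebraMap C B)
  haveI : q.IsPrime := Ideal.IsPrime.comap _
  have hq : q.primeCompl = Algebra.EssFiniteType.submonoid A B := by
    ext c
    exact IsLocalRing.notMem_maximalIdeal
  haveI : IsLocalization.AtPrime B q := by
    show IsLocalization q.primeCompl B
    rw [hq]; infer_instance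
  let p : PrimeSpectrum (CommRingCat.of C) := ⟨q, inferInstance⟩
  let e : Localization.AtPrime q ≃ₐ[C] B :=
    IsLocalization.algEquiv q.primeCompl (Localization.AtPrime q) B
  let σ : Spec (CommRingCat.of B) ≅ (Lim.LocalLimit.cone p).pt :=
    Scheme.Spec.mapIso (e.toRingEquiv.toCommRingCatIso).op
  let f' : W ⟶ (Lim.LocalLimit.cone p).pt := f ≫ σ.hom
  haveI : IsProper f' := inferInstanceAs (IsProper (f ≫ σ.hom))
  haveI : IsLocallyNoetherian (Lim.LocalLimit.cone p).pt :=
    inferInstanceAs (IsLocallyNoetherian (Spec (CommRingCat.of (Localization.AtPrime q))))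
  haveI : LocallyOfFinitePresentation f' := inferInstance
  haveI : ∀ r, CompactSpace ((Lim.LocalLimit.diag p).obj r) := fun r => inferInstance
  haveI : ∀ r, QuasiSeparatedSpace ((Lim.LocalLimit.diag p).obj r) := fun r => inferInstance
  haveI : ∀ (r t) (h : r ⟶ t), IsAffineHom ((Lim.LocalLimit.diag p).map h) :=
    fun r t h => isAffineHom_of_isAffine _
  obtain ⟨i₀, W₁, f₁, g, hlfp, hqc, hqs, hg⟩ :=
    Groth.Agent.S0591.result (Lim.LocalLimit.diag p) _ (Lim.LocalLimit.isLimit p) W f'
  haveI := hlfp
  haveI := hqc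
  haveI := hqs
  haveI : CompactSpace W₁ := QuasiCompact.compactSpace_of_compactSpace f₁
  haveI : QuasiSeparatedSpace W₁ := quasiSeparatedSpace_of_quasiSeparated f₁
  obtain ⟨i, φ, W₂, Y₂, f₂, g₂, pY, pX, hY, hX, hprop⟩ :=
    Groth.Agent.S2074.result (Lim.LocalLimit.diag p) _ (Lim.LocalLimit.isLimit p) i₀ f₁
      (𝟙 ((Lim.LocalLimit.diag p).obj i₀)) f' (𝟙 _) ((Lim.LocalLimit.cone p).π.app i₀) g
      IsPullback.of_id_snd hg
  haveI := hprop
  haveI : IsIso g₂ := hY.isIso_snd_of_isIso
  let v : W ⟶ Y₂ := f' ≫ (Lim.LocalLimit.cone p).π.app i ≫ inv g₂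
  have hpY : pY = g₂ ≫ (Lim.LocalLimit.diag p).map φ := by simpa using hY.w
  have hv : g ≫ f₁ = v ≫ pY := by
    rw [hg.w, hpY]
    simp only [v, Category.assoc, IsIso.inv_hom_id_assoc]
    rw [Cone.w]
  let w : W ⟶ W₂ := hX.lift g v hv
  haveI : IsPreimmersion ((Lim.LocalLimit.cone p).π.app i₀) := by
    haveI : IsPreimmersion ((Lim.LocalLimit.cone p).π.app i₀ ≫ (Lim.LocalLimit.op' p i₀).ι) := by
      rw [Lim.LocalLimit.cone_π_ι]
      exact IsPreimmersion.of_isLocalization q.primeCompl
    exact preimm_of_comp _ (Lim.LocalLimit.op' p i₀).ι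
  haveI : IsPreimmersion g := MorphismProperty.of_isPullback hg.flip inferInstance
  haveI : LocallyOfFiniteType pY := by
    rw [hpY]
    haveI : LocallyOfFiniteType ((Lim.LocalLimit.diag p).map φ) :=
      inferInstanceAs (LocallyOfFiniteType ((Spec (CommRingCat.of C)).homOfLE (leOfHom φ)))
    infer_instance
  haveI : IsAffine Y₂ := IsAffine.of_isIso g₂
  haveI : IsSeparated pY := inferInstance
  haveI : IsSeparated pX := MorphismProperty.of_isPullback hX.flip inferInstance
  haveI : IsPreimmersion w := by
    haveI : IsPreimmersion (w ≫ pX) := by rw [hX.lift_fst]; infer_instance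
    exact preimm_of_comp w pX
  let sC : Spec (CommRingCat.of C) ⟶ Spec (CommRingCat.of A) :=
    Spec.map (CommRingCat.ofHom (algebraMap A C))
  haveI : LocallyOfFiniteType sC :=
    (HasRingHomProperty.Spec_iff (P := @LocallyOfFiniteType)).2
      (RingHom.finiteType_algebraMap.2 inferInstance)
  haveI : QuasiCompact (Lim.LocalLimit.op' p i).ι := inferInstance
  let s : W₂ ⟶ Spec (CommRingCat.of A) :=
    f₂ ≫ g₂ ≫ (Lim.LocalLimit.op' p i).ι ≫ sC
  have hι : IsSeparated ((Lim.LocalLimit.op' p i).ι ≫ sC) := inferInstance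
  haveI hlι : LocallyOfFiniteType ((Lim.LocalLimit.op' p i).ι ≫ sC) :=
    MorphismProperty.comp_mem (W := @LocallyOfFiniteType) _ _
      (inferInstance : LocallyOfFiniteType (Lim.LocalLimit.op' p i).ι) ‹LocallyOfFiniteType sC›
  haveI : IsSeparated s := inferInstanceAs (IsSeparated (f₂ ≫ g₂ ≫ (Lim.LocalLimit.op' p i).ι ≫ sC))
  haveI : QuasiCompact s := inferInstanceAs (QuasiCompact (f₂ ≫ g₂ ≫ (Lim.LocalLimit.op' p i).ι ≫ sC))
  haveI : LocallyOfFiniteType s :=
    MorphismProperty.comp_mem _ f₂ _ inferInstance (MorphismProperty.comp_mem (W := @LocallyOfFiniteType) g₂ _ inferInstance hlι)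
  refine ⟨W₂, w, s, inferInstance, inferInstance, inferInstance, inferInstance, ?_⟩
  show hX.lift g v hv ≫ f₂ ≫ g₂ ≫ (Lim.LocalLimit.op' p i).ι ≫ sC = _
  rw [hX.lift_snd_assoc]
  simp only [v, f', Category.assoc, IsIso.inv_hom_id_assoc]
  rw [reassoc_of% (Lim.LocalLimit.cone_π_ι p i)]
  show f ≫ Spec.map e.toRingEquiv.toCommRingCatIso.hom ≫
    Spec.map (CommRingCat.ofHom (algebraMap C (Localization.AtPrime q))) ≫ sC = _
  rw [← Spec.map_comp, ← Spec.map_comp]
  congr 2
  ext a
  show e (algebraMap C _ (algebraMap A C a)) = algebraMap A B a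
  rw [e.commutes]
  rfl

end Stage

section Model

variable {A B : Type u} [CommRing A] [IsDomain A] [IsNoetherianRing A] [CommRing B] [IsDomain B]
  [IsLocalRing B] [Algebra A B] [Algebra.EssFiniteType A B]

theorem injective_genericPoint_stalk {X Y : Scheme.{u}} (r : X ⟶ Y) [IsIntegral Y] (x : X)
    [Nontrivial (X.presheaf.stalk x)] (hx : r x = genericPoint Y) : Function.Injective (r.stalkMap x) := by
  have h : IsField (Y.presheaf.stalk (r x)) := by rw [hx]; exact Field.toIsField Y.functionField
  letI := h.toField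
  exact (r.stalkMap x).hom.injective

theorem residueFieldMap_surjective {X Y : Scheme.{u}} (g : X ⟶ Y) (y : X)
    (h : Function.Surjective (g.stalkMap y)) : Function.Surjective (g.residueFieldMap y).hom := by
  intro a
  obtain ⟨a, rfl⟩ := Scheme.residue_surjective _ y a
  obtain ⟨d, rfl⟩ := h a
  exact ⟨Y.residue (g y) d,
    DFunLike.congr_fun (congrArg CommRingCat.Hom.hom (Scheme.residue_residueFieldMap g y)) d⟩

set_option backward.isDefEq.respectTransparency.types false in
/-- A proper normal modification of `Spec B` sits as a preimmersion in a proper normal modification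
of `Spec A`. -/
theorem exists_model (hN : CAlg.IsNagata A) (hinj : Function.Injective (algebraMap A B))
    (hfrac : ∀ b : B, ∃ a a' : A, a' ≠ 0 ∧ algebraMap A B a' * b = algebraMap A B a)
    (W : Scheme.{u}) (f : W ⟶ Spec (CommRingCat.of B)) [IsProper f] [IsIntegral W]
    (hW : Pi1.IsNormalScheme W) (U : (Spec (CommRingCat.of B)).Opens)
    (hU : (U : Set (Spec (CommRingCat.of B))).Nonempty) [IsIso (f ∣_ U)] :
    ∃ (X : Scheme.{u}) (p : X ⟶ Spec (CommRingCat.of A)) (r : W ⟶ X),
      IsProper p ∧ IsIntegral X ∧ Pi1.IsNormalScheme X ∧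
      (∃ V : (Spec (CommRingCat.of A)).Opens, (V : Set (Spec (CommRingCat.of A))).Nonempty ∧
        IsIso (p ∣_ V)) ∧
      IsPreimmersion r ∧ r ≫ p = f ≫ Spec.map (CommRingCat.ofHom (algebraMap A B)) := by
  obtain ⟨W₂, w, s, hw, hsep, hqc, hlft, hws⟩ := exists_stage (A := A) W f
  haveI := hw; haveI := hsep; haveI := hqc; haveI := hlft
  obtain ⟨Z, j, qZ, hj, hjqc, hqZ, hjq⟩ := Groth.Agent.S0384.result s
  haveI := hj; haveI := hqZ
  haveI : IsNoetherianRing B := Algebra.EssFiniteType.isNoetherianRing A B
  haveI : IsLocallyNoetherian W := LocallyOfFiniteType.isLocallyNoetherian f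
  haveI : CompactSpace W := QuasiCompact.compactSpace_of_compactSpace f
  haveI : IsNoetherian W := {}
  let b : Spec (CommRingCat.of B) ⟶ Spec (CommRingCat.of A) :=
    Spec.map (CommRingCat.ofHom (algebraMap A B))
  let h : W ⟶ Z := w ≫ j
  have hh : h ≫ qZ = f ≫ b := by rw [Category.assoc, hjq, hws]
  haveI : QuasiCompact h := by
    haveI : QuasiCompact (h ≫ qZ) := by rw [hh]; infer_instance
    exact QuasiCompact.of_comp h qZ
  let t : W ⟶ h.image := h.toImage
  let q₀ : h.image ⟶ Spec (CommRingCat.of A) := h.imageι ≫ qZ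
  haveI : IsIntegral h.image := SchImage.Integral.isIntegral h
  haveI : IsPreimmersion t := by
    haveI : IsPreimmersion (t ≫ h.imageι) := by
      rw [Scheme.Hom.toImage_imageι]
      exact inferInstanceAs (IsPreimmersion (w ≫ j))
    exact preimm_of_comp t h.imageι
  haveI : IsProper q₀ := inferInstanceAs (IsProper (h.imageι ≫ qZ))
  have htq : t ≫ q₀ = f ≫ b := by
    show h.toImage ≫ h.imageι ≫ qZ = _
    rw [Scheme.Hom.toImage_imageι_assoc, hh]
  haveI : IsSeparated (t ≫ q₀) := by rw [htq]; infer_instance
  haveI : QuasiCompact (t ≫ q₀) := by rw [htq]; infer_instance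
  haveI : QuasiCompact t := QuasiCompact.of_comp t q₀
  haveI : IsSeparated t := IsSeparated.of_comp t q₀
  have hNaf : ∀ V : h.image.affineOpens, CAlg.IsNagata Γ(h.image, V.1) := by
    intro V
    have hle : V.1 ≤ q₀ ⁻¹ᵁ ⊤ := le_top
    let := (q₀.appLE ⊤ V.1 hle).hom.toAlgebra
    have : Algebra.FiniteType Γ(Spec (CommRingCat.of A), ⊤) Γ(h.image, V.1) :=
      q₀.finiteType_appLE (isAffineOpen_top _) V.2 hle
    have hA : CAlg.IsNagata Γ(Spec (CommRingCat.of A), ⊤) := by
      letI : Algebra A Γ(Spec (CommRingCat.of A), ⊤) :=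
        (Scheme.ΓSpecIso (CommRingCat.of A)).inv.hom.toAlgebra
      haveI : Algebra.FiniteType A Γ(Spec (CommRingCat.of A), ⊤) :=
        RingHom.FiniteType.of_surjective (Scheme.ΓSpecIso (CommRingCat.of A)).inv.hom
          (ConcreteCategory.bijective_of_isIso _).2
      exact Groth.Agent.S0566.result A hN _
    exact Groth.Agent.S0566.result _ hA _
  have hres : ∀ x : W, Function.Surjective (t.residueFieldMap x).hom := fun x =>
    residueFieldMap_surjective t x (t.stalkMap_surjective x)
  haveI : Finite ↑(irreducibleComponents ↥W) :=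
    TopologicalSpace.NoetherianSpace.finite_irreducibleComponents.to_subtype
  haveI hfin : IsFinite t.fromNormalization :=
    Groth.Agent.S9674.result t hNaf (locallyFinite_of_finite _) fun x _ =>
      RingHom.FiniteType.essFiniteType (RingHom.FiniteType.of_surjective _ (hres x))
  obtain ⟨hn, -, -, -⟩ := Groth.Agent.S9673.result t hW (locallyFinite_of_finite _)
  haveI : IsIntegral t.normalization := inferInstance
  let p : t.normalization ⟶ Spec (CommRingCat.of A) := t.fromNormalization ≫ q₀
  haveI : IsPreimmersion t.toNormalization := by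
    haveI : IsPreimmersion (t.toNormalization ≫ t.fromNormalization) := by
      rw [Scheme.Hom.toNormalization_fromNormalization]; infer_instance
    exact preimm_of_comp _ t.fromNormalization
  have hrp : t.toNormalization ≫ p = f ≫ b := by
    show t.toNormalization ≫ t.fromNormalization ≫ q₀ = _
    rw [Scheme.Hom.toNormalization_fromNormalization_assoc, htq]
  haveI : IsProper p := inferInstanceAs (IsProper (t.fromNormalization ≫ q₀))
  refine ⟨t.normalization, p, t.toNormalization, inferInstance, inferInstance, hn, ?_, inferInstance, hrp⟩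
  -- birationality
  obtain ⟨hfη, hfst⟩ := S15137.gen_props f U hU
  let L := FractionRing B
  let sL : Spec (CommRingCat.of L) ⟶ Spec (CommRingCat.of B) :=
    Spec.map (CommRingCat.ofHom (algebraMap B L))
  obtain ⟨z⟩ := (inferInstance : Nonempty (Spec (CommRingCat.of L)))
  haveI : IsFractionRing A L := isFractionRing_of_hfrac hinj hfrac
  obtain ⟨hz, hzs⟩ := RatSing74.FiniteExt.specMap_point B L z
  obtain ⟨hz', hzs'⟩ := RatSing74.FiniteExt.specMap_point A L z
  have hcomp : sL ≫ b = Spec.map (CommRingCat.ofHom (algebraMap A L)) := by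
    rw [← Spec.map_comp]; rfl
  have hbη : b (genericPoint (Spec (CommRingCat.of B))) = genericPoint (Spec (CommRingCat.of A)) := by
    rw [← hz, ← Scheme.Hom.comp_apply]
    exact (congrArg (fun m : Spec (CommRingCat.of L) ⟶ Spec (CommRingCat.of A) => m z) hcomp).trans hz'
  have hbst : Function.Surjective (b.stalkMap (genericPoint (Spec (CommRingCat.of B)))) := by
    rw [← hz]
    have key : ∀ (m : Spec (CommRingCat.of L) ⟶ Spec (CommRingCat.of A)),
        Function.Surjective (m.stalkMap z) → m = sL ≫ b →
        Function.Surjective ((sL ≫ b).stalkMap z) := by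
      rintro _ h rfl; exact h
    have hs := key _ hzs' hcomp.symm
    rw [Scheme.Hom.stalkMap_comp] at hs
    intro c
    obtain ⟨a, ha⟩ := hs (sL.stalkMap z c)
    exact ⟨a, injective_genericPoint_stalk sL z hz ha⟩
  have hrη : t.toNormalization (genericPoint W) = genericPoint t.normalization := by
    apply ((genericPoint_spec W).image t.toNormalization.continuous).eq
    rw [Set.image_univ, t.toNormalization.denseRange.closure_range]
    exact genericPoint_spec t.normalization
  have hpη : p (genericPoint t.normalization) = genericPoint (Spec (CommRingCat.of A)) := by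
    rw [← hrη, ← Scheme.Hom.comp_apply, hrp, Scheme.Hom.comp_apply, hfη, hbη]
  refine Groth.Agent.H22.Birational12426.exists_isIso_open p hpη ⟨(p.residueFieldMap _).hom.injective, ?_⟩
  rw [← hrη]
  refine residueFieldMap_surjective p _ ?_
  have hs : Function.Surjective ((t.toNormalization ≫ p).stalkMap (genericPoint W)) := by
    have key : ∀ (m : W ⟶ Spec (CommRingCat.of A)), Function.Surjective (m.stalkMap (genericPoint W)) →
        m = t.toNormalization ≫ p →
        Function.Surjective ((t.toNormalization ≫ p).stalkMap (genericPoint W)) := by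
      rintro _ h rfl; exact h
    refine key (f ≫ b) ?_ hrp.symm
    rw [Scheme.Hom.stalkMap_comp]
    haveI := hfst
    have hb' : Function.Surjective (b.stalkMap (f (genericPoint W))) := by rw [hfη]; exact hbst
    exact ((ConcreteCategory.bijective_of_isIso (f.stalkMap (genericPoint W))).2).comp hb'
  rw [Scheme.Hom.stalkMap_comp] at hs
  intro c
  obtain ⟨a, ha⟩ := hs (t.toNormalization.stalkMap (genericPoint W) c)
  exact ⟨a, injective_genericPoint_stalk t.toNormalization _ hrη ha⟩

end Model


/-- Let A be a local normal Nagata domain of dimension two defining a rational singularity, and B a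
normal two-dimensional local domain containing A, with A → B local, essentially of finite type and
inducing an equality of fraction fields. Then B defines a rational singularity. -/
theorem result (A B : Type u) [CommRing A] [CommRing B] [IsDomain A] [IsDomain B]
    [IsLocalRing A] [IsLocalRing B] [IsNoetherianRing A] [IsIntegrallyClosed A] (hN : CAlg.IsNagata A) (hdimA : ringKrullDim A = 2)
    (hA : Curv2.IsRationalSing A) [Algebra A B] [IsLocalHom (algebraMap A B)] (hinj : Function.Injective (algebraMap A B))
    [Algebra.EssFiniteType A B] (hfrac : ∀ b : B, ∃ a a' : A, a' ≠ 0 ∧ algebraMap A B a' * b = algebraMap A B a)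
    [IsIntegrallyClosed B] (hdimB : ringKrullDim B = 2) : Curv2.IsRationalSing B := by
  intro W f hf hint hW ⟨U, hU, hiso⟩
  haveI := hf
  haveI := hint
  haveI := hiso
  obtain ⟨X, p, r, hp, hXi, hXn, hbir, hr, hrp⟩ := exists_model hN hinj hfrac W f hW U hU
  haveI := hp
  haveI := hXi
  haveI := hr
  let b : Spec (CommRingCat.of B) ⟶ Spec (CommRingCat.of A) :=
    Spec.map (CommRingCat.ofHom (algebraMap A B))
  let l : W ⟶ pullback p b := pullback.lift r f hrp
  haveI : IsProper l := by
    haveI : IsProper (l ≫ pullback.snd p b) := by rw [pullback.lift_snd]; infer_instance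
    exact IsProper.of_comp l (pullback.snd p b)
  haveI : IsPreimmersion l := by
    haveI : IsPreimmersion (l ≫ pullback.fst p b) := by rw [pullback.lift_fst]; infer_instance
    exact preimm_of_comp l (pullback.fst p b)
  haveI : IsClosedImmersion l := IsClosedImmersion.of_isPreimmersion l l.isClosedMap.isClosed_range
  haveI : IsAffineHom (pullback.fst p b) :=
    MorphismProperty.pullback_fst _ _ (isAffineHom_of_isAffine b)
  haveI : IsNoetherianRing B := Algebra.EssFiniteType.isNoetherianRing A B
  haveI : (Coh.structureModule W).IsQuasicoherent := TensorMod.QCohInv.isQCoh_structureModule _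
  let u := l ≫ pullback.fst p b
  haveI : IsAffineHom u := inferInstanceAs (IsAffineHom (l ≫ pullback.fst p b))
  haveI hq : ((Coh.push u).obj (Coh.structureModule W)).IsQuasicoherent :=
    Groth.Agent.Lib.QCoh.Pushforward.isQCoh_pushforward u (M := Coh.structureModule W)
  have hsub : Subsingleton (Coh.HH X ((Coh.push u).obj (Coh.structureModule W)) 1) :=
    Groth.Agent.S7298.result A hN hdimA hA X p hXn hbir _ hq
      (Groth.Agent.Lib.Amp36.Modif.AffinePushGG.gg_push p b l)
  exact @Function.Surjective.subsingleton _ _ _ hsub (ZarCoh.PushH.pushH_bijective_of u.base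
    (Coh.toAb (Coh.structureModule W)) 1 (ZarCoh.Morph.pushMap_bijective u (Coh.structureModule W) ⊤ 1)).2

end Groth.Agent.S1649
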