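import Groth.Statements.S15139
import Groth.Agent.S1649
import Groth.Agent.S15136
import Groth.Agent.S15137
import Groth.Agent.Lib.Amp36.Modif.Extend
import Groth.Agent.Lib.Amp36.Modif.Birat
import Groth.Agent.Lib.ModelFibre.SmoothGeneric
import Groth.Agent.Lib.DvrCrit.EssFT
import Groth.Agent.Lib.Cohen.NagataFormalFibres
import Groth.Agent.Lib.Cohen.DedekindGRing
import Groth.Agent.Lib.RelDimFormula.Basic
import Groth.Agent.Lib.StCurv.Smooth
import Groth.Agent.H46.SubStalk
import Groth.Agent.H2.FibreDimPullback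
import Groth.Agent.H68.FlatDedekind
import Groth.Agent.Lib.RG.GeomComp

set_option autoImplicit false
universe u
open CategoryTheory CategoryTheory.Limits AlgebraicGeometry Opposite
open Models

namespace Groth.Agent.S15139

open Groth.Agent Groth.Agent.Lib Groth.Agent.Lib.Amp36.Modif TopologicalSpace
open Groth.Agent.H46.DimData Groth.Agent.H46.FibreTrdeg

/-- The closed points of a proper flat model of a curve have two-dimensional local rings. -/
theorem dim_two {R : Type u} [CommRing R] [IsDomain R] [IsDiscreteValuationRing R] {K : Type u} [Field K]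
    {C : Scheme.{u}} (f : C ⟶ Spec (CommRingCat.of K)) [SmoothOfRelativeDimension 1 f] [IsIntegral C]
    {X : Scheme.{u}} [IsIntegral X] (p : X ⟶ Spec (CommRingCat.of R)) [IsProper p] [Flat p]
    (g : C ⟶ X) [IsOpenImmersion g] {φ : Spec (CommRingCat.of K) ⟶ Spec (CommRingCat.of R)}
    (hg : IsPullback g f p φ) (x : X) (hx : IsClosed ({x} : Set X)) :
    ringKrullDim (X.presheaf.stalk x) = 2 := by
  haveI : IsLocallyNoetherian X := LocallyOfFiniteType.isLocallyNoetherian p
  have hs : p x = IsLocalRing.closedPoint R := by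
    have h := p.isClosedMap _ hx
    rw [Set.image_singleton] at h
    exact ((IsLocalRing.specializes_closedPoint (p x)).mem_closed h rfl).symm
  have h1 : ringKrullDim ((Spec (CommRingCat.of R)).presheaf.stalk (p x)) = 1 := by
    rw [hs, ringKrullDim_eq_of_ringEquiv (stalkClosedPointIso (CommRingCat.of R)).commRingCatIsoToRingEquiv]
    exact IsDiscreteValuationRing.ringKrullDim_eq_one R
  haveI : IsLocallyNoetherian (Spec (CommRingCat.of R)) := inferInstance
  have hη : g (genericPoint C) = genericPoint X := genericPoint_eq_of_isOpenImmersion g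
  haveI : Smooth f := SmoothOfRelativeDimension.smooth 1 f
  haveI : LocallyOfFiniteType f := inferInstance
  have hfd : FlatMor.fibreDimAt p x = ((1 : ℕ) : WithBot ℕ∞) := by
    refine Flat55.DimIneqFibre.fibreDimAt_eq_of_dim_le_one p x h1.le 1 fun Z hZ _ η hη' => ?_
    rw [irreducibleComponents_eq_singleton] at hZ
    rw [Set.mem_singleton_iff.1 hZ] at hη'
    rw [hη'.eq (genericPoint_spec X), ← hη, ← H2.FibreDimPullback.fibreDimAt_of_isPullback hg]
    exact ((Lib.StCurv.smoothOfRelativeDimension_iff 1 f).1 inferInstance _).2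
  have htr : trd p x = 0 := H46.SubStalk.trd_eq_zero_of_closed p x fun x' _ h => h.mem_closed hx rfl
  have h2 := fd_add_trd p x
  rw [htr, add_zero] at h2
  have h3 : fe p x = 1 := by
    have := H46.DimData.fibreDimAt_eq p x
    rw [hfd] at this
    exact_mod_cast this.symm
  have h4 : sd (p x) = 1 := by
    have := ringKrullDim_stalk (Z := Spec (CommRingCat.of R)) (p x)
    rw [h1] at this
    exact_mod_cast this.symm
  rw [ringKrullDim_stalk, RelDimFormula.Basic.sd_eq_add p x, h2, h3, h4]
  rfl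

set_option backward.isDefEq.respectTransparency.types false in
/-- Normal modifications of models with rational singularities have rational singularities. -/
theorem isRationalSing {R : Type u} [CommRing R] [IsNoetherianRing R] (hN : CAlg.IsNagata R)
    {X X' : Scheme.{u}} [IsIntegral X] [IsIntegral X'] (hn : Pi1.IsNormalScheme X)
    (hn' : Pi1.IsNormalScheme X') (q : X ⟶ Spec (CommRingCat.of R)) [LocallyOfFiniteType q]
    (ρ : X' ⟶ X) [IsProper ρ] (U : X.Opens) (hU : (U : Set X).Nonempty) [IsIso (ρ ∣_ U)]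
    (x' : X') (h : ringKrullDim (X.presheaf.stalk (ρ x')) = 2)
    (h' : ringKrullDim (X'.presheaf.stalk x') = 2)
    (hrat : Curv2.IsRationalSing (X.presheaf.stalk (ρ x'))) :
    Curv2.IsRationalSing (X'.presheaf.stalk x') := by
  haveI : IsLocallyNoetherian X := LocallyOfFiniteType.isLocallyNoetherian q
  let A := X.presheaf.stalk (ρ x')
  let B := X'.presheaf.stalk x'
  haveI : IsIntegrallyClosed A := (hn _).2
  haveI : IsIntegrallyClosed B := (hn' _).2
  have hAN : CAlg.IsNagata A := by
    let ψ : CommRingCat.of R ⟶ A := Spec.preimage (X.fromSpecStalk (ρ x') ≫ q)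
    letI : Algebra R A := ψ.hom.toAlgebra
    haveI : Algebra.EssFiniteType R A := by
      obtain ⟨V, φ, hVφ, hφ⟩ := DvrCrit.exists_essFiniteType_stalk q (ρ x')
      let ιV : CommRingCat.of R ⟶ Γ(Spec (CommRingCat.of R), V.1) := Spec.preimage V.2.fromSpec
      have e : ψ = ιV ≫ φ := Spec.map_injective (by
        rw [Spec.map_comp, Spec.map_preimage]
        exact hVφ.symm.trans (congrArg (Spec.map φ ≫ ·) (Spec.map_preimage V.2.fromSpec).symm))
      have hι : ιV.hom.FiniteType := by
        refine (HasRingHomProperty.Spec_iff (P := @LocallyOfFiniteType)).1 ?_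
        rw [Spec.map_preimage]
        infer_instance
      show ψ.hom.EssFiniteType
      rw [e]
      exact Normalization.Relative.essFiniteType_comp hι.essFiniteType hφ
    exact Cohen.NagataFormalFibres.isNagata_of_essFiniteType hN
  letI : Algebra A B := (ρ.stalkMap x').hom.toAlgebra
  haveI : IsLocalHom (algebraMap A B) := inferInstanceAs (IsLocalHom (ρ.stalkMap x').hom)
  haveI : Algebra.EssFiniteType A B := by
    show (ρ.stalkMap x').hom.EssFiniteType
    obtain ⟨V, hV, hxV, -⟩ := exists_isAffineOpen_mem_and_subset (U := (⊤ : X.Opens)) (x := ρ x') trivial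
    obtain ⟨W, hW, hxW, hWV⟩ := exists_isAffineOpen_mem_and_subset (U := ρ ⁻¹ᵁ V) (x := x') hxV
    have h1 : (ρ.appLE V W hWV).hom.FiniteType := ρ.finiteType_appLE hV hW hWV
    have h2 : (X'.presheaf.germ W x' hxW).hom.EssFiniteType := by
      letI := X'.presheaf.algebra_section_stalk ⟨x', hxW⟩
      haveI := hW.isLocalization_stalk ⟨x', hxW⟩
      exact Algebra.EssFiniteType.of_isLocalization B (hW.primeIdealOf ⟨x', hxW⟩).asIdeal.primeCompl
    have h3 : ((X.presheaf.germ V (ρ x') hxV) ≫ ρ.stalkMap x').hom.EssFiniteType := by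
      have e : X.presheaf.germ V (ρ x') hxV ≫ ρ.stalkMap x' =
          ρ.appLE V W hWV ≫ X'.presheaf.germ W x' hxW := by
        rw [Scheme.Hom.germ_stalkMap, Scheme.Hom.appLE, Category.assoc]
        simp only [TopCat.Presheaf.germ_res]
      rw [e]
      exact Normalization.Relative.essFiniteType_comp h1.essFiniteType h2
    algebraize [(X.presheaf.germ V (ρ x') hxV).hom, (X.presheaf.germ V (ρ x') hxV ≫ ρ.stalkMap x').hom]
    haveI : IsScalarTower Γ(X, V) A B := IsScalarTower.of_algebraMap_eq fun _ => rfl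
    exact Algebra.EssFiniteType.of_comp Γ(X, V) A B
  obtain ⟨hgen, hiso⟩ := S15137.gen_props ρ U hU
  haveI := hiso
  -- the two function fields
  have hsp : genericPoint X' ⤳ x' := genericPoint_specializes x'
  let a : A ⟶ X.presheaf.stalk (ρ (genericPoint X')) :=
    X.presheaf.stalkSpecializes (hsp.map ρ.continuous)
  let b : B ⟶ X'.presheaf.stalk (genericPoint X') := X'.presheaf.stalkSpecializes hsp
  have hab : ∀ z, b (ρ.stalkMap x' z) = ρ.stalkMap (genericPoint X') (a z) := fun z =>
    (congr($(Scheme.Hom.stalkSpecializes_stalkMap ρ _ _ hsp) z)).symm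
  have hinjab : ∀ (Y : Scheme.{u}) [IsIntegral Y] (y y₀ : Y) (_ : y₀ = genericPoint Y) (hs : y₀ ⤳ y),
      Function.Injective (Y.presheaf.stalkSpecializes hs) ∧
      ∀ v : Y.presheaf.stalk y₀, ∃ c d : Y.presheaf.stalk y, d ≠ 0 ∧
        v * Y.presheaf.stalkSpecializes hs d = Y.presheaf.stalkSpecializes hs c := by
    rintro Y _ y y₀ rfl hs
    haveI : IsFractionRing (Y.presheaf.stalk y) Y.functionField := inferInstance
    refine ⟨IsFractionRing.injective (Y.presheaf.stalk y) Y.functionField, fun v => ?_⟩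
    obtain ⟨c, d, hd, hcd⟩ := IsFractionRing.div_surjective (Y.presheaf.stalk y) (v : Y.functionField)
    exact ⟨c, d, nonZeroDivisors.ne_zero hd, by
      have hd' : algebraMap (Y.presheaf.stalk y) Y.functionField d ≠ 0 :=
        IsFractionRing.to_map_ne_zero_of_mem_nonZeroDivisors hd
      exact (eq_div_iff hd').1 hcd.symm⟩
  obtain ⟨hainj, hasurj⟩ := hinjab X (ρ x') _ hgen (hsp.map ρ.continuous)
  obtain ⟨hbinj, -⟩ := hinjab X' x' _ rfl hsp
  have hinj : Function.Injective (algebraMap A B) := fun z w hzw =>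
    hainj ((ConcreteCategory.bijective_of_isIso (ρ.stalkMap (genericPoint X'))).1
      ((hab z).symm.trans ((congrArg b hzw).trans (hab w))))
  refine S1649.result A B hAN h hrat hinj (fun z => ?_) h'
  obtain ⟨v, hv⟩ := (ConcreteCategory.bijective_of_isIso (ρ.stalkMap (genericPoint X'))).2 (b z)
  obtain ⟨c, d, hd, hcd⟩ := hasurj v
  refine ⟨c, d, hd, hbinj ?_⟩
  show b (ρ.stalkMap x' d * z) = b (ρ.stalkMap x' c)
  rw [map_mul, hab, hab, ← hv, ← map_mul, mul_comm (a d) v]
  exact congrArg _ hcd

/-- Let R be a discrete valuation ring whose fraction field K has characteristic zero, and let C be a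
proper K-curve, smooth of relative dimension 1 and geometrically connected over K. An admissible
model of C is a scheme X with a proper flat morphism p : X → Spec R (hence of finite type) and a
morphism g : C → X making C the generic fibre of p, such that X is normal, cohomologically flat over
R in dimension 0 (the restriction H^0(X, O_X) → H^0(X_s, O_{X_s}) to the closed fibre X_s, cut out
by 𝔪_R · O_X, is surjective), and has rational singularities (the local ring at every closed point
defines a rational singularity: every proper morphism onto its spectrum from an integral normal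
scheme which is an isomorphism over a nonempty open has H^1 of the structure sheaf zero). Then any
two admissible models (X₁, p₁, g₁) and (X₂, p₂, g₂) of C are dominated by a third: there are an
admissible model (X₃, p₃, g₃) of C and proper R-morphisms ρ₁ : X₃ → X₁ and ρ₂ : X₃ → X₂ with g₃ ≫ ρ₁
= g₁ and g₃ ≫ ρ₂ = g₂ (so ρ₁ and ρ₂ are proper and birational, inducing the given identifications on
generic fibres). -/
theorem result (R : Type u) [CommRing R] [IsDomain R]
    [IsDiscreteValuationRing R] [CharZero (FractionRing R)]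
    (C : Scheme.{u}) (f : C ⟶ Spec (CommRingCat.of (FractionRing R)))
    [SmoothOfRelativeDimension 1 f] [IsProper f] [GeometricallyConnected f]
    (X₁ X₂ : Scheme.{u}) (p₁ : X₁ ⟶ Spec (CommRingCat.of R)) (p₂ : X₂ ⟶ Spec (CommRingCat.of R))
    [IsProper p₁] [Flat p₁] [IsProper p₂] [Flat p₂]
    (g₁ : C ⟶ X₁) (g₂ : C ⟶ X₂)
    (hg₁ : IsPullback g₁ f p₁ (Spec.map (CommRingCat.ofHom (algebraMap R (FractionRing R)))))
    (hg₂ : IsPullback g₂ f p₂ (Spec.map (CommRingCat.ofHom (algebraMap R (FractionRing R)))))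
    (hn₁ : Pi1.IsNormalScheme X₁) (hn₂ : Pi1.IsNormalScheme X₂)
    (hcf₁ : Function.Surjective (Sheaf.H.map ((SheafOfModules.toSheaf X₁.ringCatSheaf).map
        (ClSub.toSubscheme (Models.specialFibreIdeal R (Over.mk p₁)))) 0))
    (hcf₂ : Function.Surjective (Sheaf.H.map ((SheafOfModules.toSheaf X₂.ringCatSheaf).map
        (ClSub.toSubscheme (Models.specialFibreIdeal R (Over.mk p₂)))) 0))
    (hrat₁ : ∀ x : X₁, IsClosed ({x} : Set X₁) → Curv2.IsRationalSing (X₁.presheaf.stalk x))
    (hrat₂ : ∀ x : X₂, IsClosed ({x} : Set X₂) → Curv2.IsRationalSing (X₂.presheaf.stalk x)) :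
    ∃ (X₃ : Scheme.{u}) (p₃ : X₃ ⟶ Spec (CommRingCat.of R)) (g₃ : C ⟶ X₃) (ρ₁ : X₃ ⟶ X₁) (ρ₂ : X₃ ⟶ X₂),
      IsProper p₃ ∧ Flat p₃ ∧
      IsPullback g₃ f p₃ (Spec.map (CommRingCat.ofHom (algebraMap R (FractionRing R)))) ∧
      Pi1.IsNormalScheme X₃ ∧
      Function.Surjective (Sheaf.H.map ((SheafOfModules.toSheaf X₃.ringCatSheaf).map
        (ClSub.toSubscheme (Models.specialFibreIdeal R (Over.mk p₃)))) 0) ∧
      (∀ x : X₃, IsClosed ({x} : Set X₃) → Curv2.IsRationalSing (X₃.presheaf.stalk x)) ∧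
      IsProper ρ₁ ∧ IsProper ρ₂ ∧ ρ₁ ≫ p₁ = p₃ ∧ ρ₂ ≫ p₂ = p₃ ∧ g₃ ≫ ρ₁ = g₁ ∧ g₃ ≫ ρ₂ = g₂ := by
  have : Smooth f := SmoothOfRelativeDimension.smooth 1 f
  haveI : ConnectedSpace C := by
    haveI : Subsingleton (Spec (CommRingCat.of (FractionRing R))) :=
      inferInstanceAs (Subsingleton (PrimeSpectrum (FractionRing R)))
    haveI : Nonempty (Spec (CommRingCat.of (FractionRing R))) :=
      inferInstanceAs (Nonempty (PrimeSpectrum (FractionRing R)))
    exact GeometricallyConnected.connectedSpace_of_subsingleton f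
  haveI : IsIntegral C := RG.GeomComp.isIntegral_of_smooth_connected f
  haveI : IsIntegral X₁ := ModelFibre.SmoothGeneric.isIntegral hg₁
  haveI : IsIntegral X₂ := ModelFibre.SmoothGeneric.isIntegral hg₂
  haveI := ModelFibre.SmoothGeneric.isOpenImmersion_gK hg₁
  haveI := ModelFibre.SmoothGeneric.isOpenImmersion_gK hg₂
  haveI : IsLocallyNoetherian C := LocallyOfFiniteType.isLocallyNoetherian f
  haveI : CompactSpace C := QuasiCompact.compactSpace_of_compactSpace f
  haveI : IsNoetherian C := {}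
  have hnC : Pi1.IsNormalScheme C := fun c => by
    haveI := ModelFibre.SmoothGeneric.isRegularLocalRing_stalk_XK (fK := f) c
    exact ⟨Regular.Quotient.isDomain _, Regular.UFD.isIntegrallyClosed _⟩
  haveI : CharZero R := ⟨fun m n h => Nat.cast_injective (R := FractionRing R) (by
    rw [← map_natCast (algebraMap R (FractionRing R)) m, ← map_natCast (algebraMap R (FractionRing R)) n, h])⟩
  have hN : CAlg.IsNagata R := Cohen.DedekindGRing.isNagata_of_charZero R
  set φ := Spec.map (CommRingCat.ofHom (algebraMap R (FractionRing R)))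
  haveI : IsOpenImmersion φ := by
    obtain ⟨π, hπ⟩ := IsDiscreteValuationRing.exists_irreducible R
    have := ModelFibre.SmoothGeneric.isLocalization_away hπ
    exact IsOpenImmersion.of_isLocalization π
  -- the graph
  let Z := pullback p₁ p₂
  let qZ : Z ⟶ Spec (CommRingCat.of R) := pullback.fst p₁ p₂ ≫ p₁
  let h : C ⟶ Z := pullback.lift g₁ g₂ (by rw [hg₁.w, hg₂.w])
  have h₁ : h ≫ pullback.fst p₁ p₂ = g₁ := pullback.lift_fst _ _ _
  have h₂ : h ≫ pullback.snd p₁ p₂ = g₂ := pullback.lift_snd _ _ _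
  haveI : QuasiCompact (h ≫ qZ) := by
    rw [← Category.assoc, h₁, hg₁.w]; infer_instance
  haveI : QuasiCompact h := QuasiCompact.of_comp h qZ
  haveI : IsPreimmersion h := by
    haveI : IsPreimmersion (h ≫ pullback.fst p₁ p₂) := by rw [h₁]; infer_instance
    exact S1649.preimm_of_comp h (pullback.fst p₁ p₂)
  let t : C ⟶ h.image := h.toImage
  let q₀ : h.image ⟶ Spec (CommRingCat.of R) := h.imageι ≫ qZ
  haveI : IsIntegral h.image := SchImage.Integral.isIntegral h
  haveI : IsPreimmersion t := by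
    haveI : IsPreimmersion (t ≫ h.imageι) := by
      rw [Scheme.Hom.toImage_imageι]; infer_instance
    exact S1649.preimm_of_comp t h.imageι
  haveI : IsProper q₀ := inferInstanceAs (IsProper (h.imageι ≫ qZ))
  have htq : t ≫ q₀ = h ≫ qZ := Scheme.Hom.toImage_imageι_assoc h qZ
  haveI : IsSeparated (t ≫ q₀) := by rw [htq, ← Category.assoc, h₁, hg₁.w]; infer_instance
  haveI : QuasiCompact (t ≫ q₀) := by rw [htq]; infer_instance
  haveI : QuasiCompact t := QuasiCompact.of_comp t q₀
  haveI : IsSeparated t := IsSeparated.of_comp t q₀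
  haveI : Finite ↑(irreducibleComponents ↥C) :=
    TopologicalSpace.NoetherianSpace.finite_irreducibleComponents.to_subtype
  haveI hfin : IsFinite t.fromNormalization :=
    Groth.Agent.S9674.result t (Amp36.Modif.Extend.isNagata_sections hN q₀) (locallyFinite_of_finite _)
      fun x _ => RingHom.FiniteType.essFiniteType (RingHom.FiniteType.of_surjective _
        (S1649.residueFieldMap_surjective t x (t.stalkMap_surjective x)))
  obtain ⟨hn₃, -, -, -⟩ := Groth.Agent.S9673.result t hnC (locallyFinite_of_finite _)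
  haveI : IsIntegral t.normalization := inferInstance
  let X₃ := t.normalization
  let g₃ : C ⟶ X₃ := t.toNormalization
  let ρ₁ : X₃ ⟶ X₁ := t.fromNormalization ≫ h.imageι ≫ pullback.fst p₁ p₂
  let ρ₂ : X₃ ⟶ X₂ := t.fromNormalization ≫ h.imageι ≫ pullback.snd p₁ p₂
  let p₃ : X₃ ⟶ Spec (CommRingCat.of R) := t.fromNormalization ≫ q₀
  have hρ₁ : ρ₁ ≫ p₁ = p₃ := by simp only [ρ₁, p₃, q₀, qZ, Category.assoc]
  have hρ₂ : ρ₂ ≫ p₂ = p₃ := by simp only [ρ₂, p₃, q₀, qZ, Category.assoc, pullback.condition]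
  have hgρ₁ : g₃ ≫ ρ₁ = g₁ := by
    simp only [g₃, ρ₁]
    rw [Scheme.Hom.toNormalization_fromNormalization_assoc, Scheme.Hom.toImage_imageι_assoc, h₁]
  have hgρ₂ : g₃ ≫ ρ₂ = g₂ := by
    simp only [g₃, ρ₂]
    rw [Scheme.Hom.toNormalization_fromNormalization_assoc, Scheme.Hom.toImage_imageι_assoc, h₂]
  haveI : IsProper p₃ := inferInstanceAs (IsProper (t.fromNormalization ≫ q₀))
  haveI : IsProper ρ₁ := by
    haveI : IsProper (ρ₁ ≫ p₁) := by rw [hρ₁]; infer_instance
    exact IsProper.of_comp ρ₁ p₁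
  haveI : IsProper ρ₂ := by
    haveI : IsProper (ρ₂ ≫ p₂) := by rw [hρ₂]; infer_instance
    exact IsProper.of_comp ρ₂ p₂
  have hgp : g₃ ≫ p₃ = f ≫ φ := by rw [← hρ₁, ← Category.assoc, hgρ₁, hg₁.w]
  have hgη : g₃ (genericPoint C) = genericPoint X₃ := by
    apply ((genericPoint_spec C).image g₃.continuous).eq
    rw [Set.image_univ, t.toNormalization.denseRange.closure_range]
    exact genericPoint_spec t.normalization
  haveI hflat : Flat p₃ := by
    refine (H68.FlatDedekind.flat_iff_dominant p₃ (fun y => ?_) (fun y => ?_)).2 fun W hW => ?_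
    · have := (IsRegularRing.isRegularLocalRing_localization (R := R) : _)
      exact IsRegularLocalRing.of_ringEquiv
        (StructureSheaf.stalkIso R y).toRingEquiv
    · refine (Cyc.TorPD.ringKrullDim_stalk_le y).trans ?_
      exact ((PrimeSpectrum.topologicalKrullDim_eq_ringKrullDim R).trans
        (IsDiscreteValuationRing.ringKrullDim_eq_one R)).le
    rw [irreducibleComponents_eq_singleton] at hW
    rw [Set.mem_singleton_iff.1 hW, Set.image_univ]
    have hgen : p₃ (genericPoint X₃) = genericPoint (Spec (CommRingCat.of R)) := by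
      rw [← hgη, ← Scheme.Hom.comp_apply, hgp, Scheme.Hom.comp_apply,
        Subsingleton.elim (h := inferInstanceAs (Subsingleton (PrimeSpectrum (FractionRing R))))
          (f (genericPoint C)) (genericPoint (Spec (CommRingCat.of (FractionRing R))))]
      exact genericPoint_eq_of_isOpenImmersion φ
    exact dense_iff_closure_eq.2 (eq_top_iff.2 fun y _ =>
      closure_mono (s := {genericPoint (Spec (CommRingCat.of R))}) (t := Set.range p₃) (Set.singleton_subset_iff.2 ⟨genericPoint X₃, hgen⟩)
        ((genericPoint_spec (Spec (CommRingCat.of R))).def.ge trivial))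
  -- the generic fibre
  let P := pullback p₃ φ
  let σ : C ⟶ P := pullback.lift g₃ f hgp
  let s : P ⟶ C := hg₁.lift (pullback.fst p₃ φ ≫ ρ₁) (pullback.snd p₃ φ)
    (by rw [Category.assoc, hρ₁, pullback.condition])
  have hσs : σ ≫ s = 𝟙 C := hg₁.hom_ext
    (by rw [Category.assoc, hg₁.lift_fst, pullback.lift_fst_assoc, hgρ₁, Category.id_comp])
    (by rw [Category.assoc, hg₁.lift_snd, pullback.lift_snd, Category.id_comp])
  haveI : IsSeparated (s ≫ f) := by rw [hg₁.lift_snd]; infer_instance
  haveI : IsSeparated s := IsSeparated.of_comp s f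
  haveI : IsClosedImmersion σ := by
    haveI : IsClosedImmersion (σ ≫ s) := by rw [hσs]; infer_instance
    exact IsClosedImmersion.of_comp σ s
  haveI : Surjective σ := by
    refine ⟨fun z => ?_⟩
    have h1 : genericPoint X₃ ⤳ pullback.fst p₃ φ z := genericPoint_specializes _
    rw [← hgη, ← pullback.lift_fst g₃ f hgp, Scheme.Hom.comp_apply] at h1
    have h2 : σ (genericPoint C) ⤳ z :=
      (pullback.fst p₃ φ).isOpenEmbedding.isInducing.specializes_iff.1 h1
    exact h2.mem_closed σ.isClosedEmbedding.isClosed_range ⟨_, rfl⟩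
  haveI : IsReduced P := isReduced_of_isOpenImmersion (pullback.fst p₃ φ)
  haveI : IsIso σ := isIso_of_isClosedImmersion_of_surjective σ
  have hpb₃ : IsPullback g₃ f p₃ φ :=
    (IsPullback.of_hasPullback p₃ φ).of_iso' (asIso σ) (Iso.refl _) (Iso.refl _) (Iso.refl _)
      (by simp only [asIso_hom, Iso.refl_hom, Category.comp_id]; exact pullback.lift_fst _ _ _)
      (by simp only [asIso_hom, Iso.refl_hom, Category.comp_id]; exact pullback.lift_snd _ _ _) (by simp) (by simp)
  haveI : IsOpenImmersion g₃ := ModelFibre.SmoothGeneric.isOpenImmersion_gK hpb₃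
  -- birationality
  let U : X₁.Opens := p₁ ⁻¹ᵁ φ.opensRange
  have hU : (U : Set X₁).Nonempty :=
    ⟨g₁ (genericPoint C), ⟨f (genericPoint C), by rw [← Scheme.Hom.comp_apply, ← hg₁.w]; rfl⟩⟩
  haveI : IsIso (ρ₁ ∣_ U) := by
    have hr₁ : g₁.opensRange = U := by
      ext1
      rw [Scheme.Hom.coe_opensRange, ← hg₁.isoPullback_hom_fst, Scheme.Hom.comp_base, TopCat.coe_comp,
        Set.range_comp, Set.range_eq_univ.2 hg₁.isoPullback.hom.surjective, Set.image_univ,
        Scheme.Pullback.range_fst]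
      rfl
    have hr₃ : g₃.opensRange = ρ₁ ⁻¹ᵁ U := by
      ext1
      rw [Scheme.Hom.coe_opensRange, ← hpb₃.isoPullback_hom_fst, Scheme.Hom.comp_base, TopCat.coe_comp,
        Set.range_comp, Set.range_eq_univ.2 hpb₃.isoPullback.hom.surjective, Set.image_univ,
        Scheme.Pullback.range_fst, ← hρ₁]
      rfl
    let i₁ := IsOpenImmersion.isoOfRangeEq g₁ U.ι (by rw [Scheme.Opens.range_ι, ← hr₁]; rfl)
    let i₃ := IsOpenImmersion.isoOfRangeEq g₃ (ρ₁ ⁻¹ᵁ U).ι (by rw [Scheme.Opens.range_ι, ← hr₃]; rfl)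
    have e : i₃.hom ≫ (ρ₁ ∣_ U) = i₁.hom := by
      rw [← cancel_mono U.ι, Category.assoc, morphismRestrict_ι,
        IsOpenImmersion.isoOfRangeEq_hom_fac_assoc, IsOpenImmersion.isoOfRangeEq_hom_fac, hgρ₁]
    have e' : ρ₁ ∣_ U = i₃.inv ≫ i₁.hom := by rw [← e, Iso.inv_hom_id_assoc]
    rw [e']
    infer_instance
  refine ⟨X₃, p₃, g₃, ρ₁, ρ₂, inferInstance, hflat, hpb₃, hn₃, ?_, ?_, inferInstance, inferInstance,
    hρ₁, hρ₂, hgρ₁, hgρ₂⟩
  · letI : X₁.Over (Spec (CommRingCat.of R)) := ⟨p₁⟩
    letI : X₃.Over (Spec (CommRingCat.of R)) := ⟨p₃⟩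
    haveI : IsProper (X₁ ↘ Spec (CommRingCat.of R)) := ‹IsProper p₁›
    haveI : IsProper (X₃ ↘ Spec (CommRingCat.of R)) := ‹IsProper p₃›
    haveI : Flat (X₁ ↘ Spec (CommRingCat.of R)) := ‹Flat p₁›
    haveI : Flat (X₃ ↘ Spec (CommRingCat.of R)) := hflat
    obtain ⟨-, -, ⟨e⟩⟩ := S15137.result R X₁ C f
      ⟨‹Flat p₁›, (inferInstance : LocallyOfFiniteType p₁), (inferInstance : QuasiCompact p₁), g₁, hg₁⟩
      hn₁ hrat₁ X₃ ρ₁ hρ₁ hn₃ ⟨U, hU, inferInstance⟩
    have h1 := (S15136.result R X₁).1 hcf₁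
    exact (S15136.result R X₃).2 (Function.Injective.noZeroSMulDivisors e.symm e.symm.injective
      e.symm.map_zero fun r x => e.symm.map_smul r x)
  · intro x hx
    have hx₁ : IsClosed ({ρ₁ x} : Set X₁) := by
      have := ρ₁.isClosedMap _ hx
      rwa [Set.image_singleton] at this
    exact isRationalSing hN hn₁ hn₃ p₁ ρ₁ U hU x (dim_two f p₁ g₁ hg₁ _ hx₁)
      (dim_two f p₃ g₃ hpb₃ x hx) (hrat₁ _ hx₁)

end Groth.Agent.S15139
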