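import Groth.Statements.S15140
import Groth.Agent.Lib.ModelFibre.FlatCodimOne

set_option autoImplicit false
universe u
open CategoryTheory CategoryTheory.Limits AlgebraicGeometry
open Models

namespace Groth.Agent.S15140

set_option backward.isDefEq.respectTransparency.types false in
/-- Let R be a discrete valuation ring whose fraction field has characteristic zero and let X and Y be
relative curves over R: flat, of finite type and separated over Spec R, normal and integral, of
dimension two (pure relative dimension one; properness is not assumed). Let f : X → Y be a finite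
surjective morphism over R. Then there is an open subset V ⊆ Y such that the complement of V in Y
and the complement of f⁻¹(V) in X are finite sets of points at which the local rings have Krull
dimension two (closed points of the closed fibres), and f is flat over V. -/
theorem result (R : Type u) [CommRing R] [IsDomain R]
    [IsDiscreteValuationRing R] [CharZero (FractionRing R)]
    (X Y : Scheme.{u}) (pX : X ⟶ Spec (CommRingCat.of R)) (pY : Y ⟶ Spec (CommRingCat.of R))
    [Flat pX] [LocallyOfFiniteType pX] [QuasiCompact pX] [IsSeparated pX]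
    [Flat pY] [LocallyOfFiniteType pY] [QuasiCompact pY] [IsSeparated pY]
    [IsIntegral X] [IsIntegral Y] (hnX : Pi1.IsNormalScheme X) (hnY : Pi1.IsNormalScheme Y)
    (hdX : topologicalKrullDim X = 2) (hdY : topologicalKrullDim Y = 2)
    (f : X ⟶ Y) [IsFinite f] [Surjective f] (hf : f ≫ pY = pX) :
    ∃ V : Y.Opens, ((V : Set Y)ᶜ).Finite ∧ (∀ y : Y, y ∉ V → ringKrullDim (Y.presheaf.stalk y) = 2) ∧
      (((f ⁻¹ᵁ V : X.Opens) : Set X)ᶜ).Finite ∧ (∀ x : X, x ∉ f ⁻¹ᵁ V → ringKrullDim (X.presheaf.stalk x) = 2) ∧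
      Flat (f ∣_ V) := by
  classical
  have : IsLocallyNoetherian X := LocallyOfFiniteType.isLocallyNoetherian pX
  have : IsLocallyNoetherian Y := LocallyOfFiniteType.isLocallyNoetherian pY
  have : CompactSpace Y := (quasiCompact_iff_compactSpace pY).mp inferInstance
  have : AlgebraicGeometry.IsNoetherian Y := {}
  let 𝒮 : Set Y.Opens := {W | Flat (f ∣_ W)}
  refine ⟨sSup 𝒮, ?_⟩
  set V := sSup 𝒮 with hV
  have hmem : ∀ y : Y, ringKrullDim (Y.presheaf.stalk y) ≤ 1 → y ∈ V := fun y hy => by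
    obtain ⟨U, hyU, hU⟩ :=
      Groth.Agent.Lib.ModelFibre.FlatCodimOne.exists_flat_restrict f y (hnY y).2 hy
    exact TopologicalSpace.Opens.mem_sSup.2 ⟨U, hU, hyU⟩
  have hdim2 : ∀ y : Y, y ∉ V → ringKrullDim (Y.presheaf.stalk y) = 2 := fun y hy => by
    have hle := Groth.Agent.Lib.Cyc.TorPD.ringKrullDim_stalk_le y
    rw [hdY] at hle
    have hlt : ¬ ringKrullDim (Y.presheaf.stalk y) ≤ 1 := fun h => hy (hmem y h)
    revert hle hlt
    generalize ringKrullDim (Y.presheaf.stalk y) = d
    cases d with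
    | bot => exact fun _ h => absurd bot_le h
    | coe d =>
      cases d with
      | top => exact fun h => absurd (WithBot.coe_le_coe.1 h) (by decide)
      | coe d =>
        intro h1 h2
        have h1' : d ≤ 2 := Nat.cast_le.1 (WithBot.coe_le_coe.1 h1 : ((d : ℕ∞)) ≤ ((2 : ℕ) : ℕ∞))
        have h2' : ¬ d ≤ 1 := fun h => h2 (WithBot.coe_le_coe.2 (Nat.cast_le.2 h : ((d : ℕ∞)) ≤ ((1 : ℕ) : ℕ∞)))
        have : d = 2 := by omega
        subst this
        rfl
  have hclosedpt : ∀ y : Y, y ∉ V → ∀ z : Y, y ⤳ z → z = y := fun y hy z hyz => by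
    by_contra hne
    have hz := hdim2 z fun h => hy (hyz.mem_open V.2 h)
    obtain ⟨U, hU, hzU, -⟩ := exists_isAffineOpen_mem_and_subset (show z ∈ (⊤ : Y.Opens) from trivial)
    have hyU : y ∈ U := hyz.mem_open U.2 hzU
    have hd := hdim2 y hy
    rw [Groth.Agent.Lib.Ideal.Prime.ringKrullDim_stalk_eq_height hU hzU] at hz
    rw [Groth.Agent.Lib.Ideal.Prime.ringKrullDim_stalk_eq_height hU hyU] at hd
    have hle := (Groth.Agent.Lib.AssPt.Basic.specializes_iff_primeIdealOf hU hzU hyU).1 hyz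
    have hlt : (hU.primeIdealOf ⟨y, hyU⟩).asIdeal < (hU.primeIdealOf ⟨z, hzU⟩).asIdeal := by
      refine lt_of_le_of_ne hle fun he => hne ?_
      have h1 := congrArg hU.fromSpec (PrimeSpectrum.ext he)
      rw [hU.fromSpec_primeIdealOf, hU.fromSpec_primeIdealOf] at h1
      exact h1.symm
    have : IsNoetherianRing Γ(Y, U) := IsLocallyNoetherian.component_noetherian ⟨U, hU⟩
    have h2 := Ideal.height_strict_mono_of_isPrime hlt
    rw [WithBot.coe_inj.1 (hd.trans hz.symm)] at h2
    exact lt_irrefl _ h2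
  have hfin : ((V : Set Y)ᶜ).Finite := by
    have hsub : IsClosed ((V : Set Y)ᶜ) := V.2.isClosed_compl
    have : ∀ S ∈ irreducibleComponents ((V : Set Y)ᶜ : Set Y), S.Subsingleton := fun S hS a ha b hb => by
      obtain ⟨c, hc⟩ := QuasiSober.sober ((hS.1).image _ continuous_subtype_val.continuousOn).closure
        isClosed_closure
      have hcV : c ∉ V := by
        have h1 : c ∈ closure (Subtype.val '' S) := hc ▸ subset_closure rfl
        exact closure_minimal (Subtype.coe_image_subset _ _) hsub h1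
      have key : ∀ z ∈ S, z.1 = c := fun z hz =>
        hclosedpt c hcV z.1 (specializes_iff_mem_closure.2 (hc ▸ subset_closure ⟨z, hz, rfl⟩))
      exact Subtype.ext ((key a ha).trans (key b hb).symm)
    have huniv : (Set.univ : Set ((V : Set Y)ᶜ : Set Y)).Finite := by
      rw [← sUnion_irreducibleComponents]
      exact TopologicalSpace.NoetherianSpace.finite_irreducibleComponents.sUnion fun S hS => (this S hS).finite
    have := huniv.image Subtype.val
    rwa [Set.image_univ, Subtype.range_coe] at this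
  refine ⟨hfin, hdim2, ?_, fun x hx => ?_, ?_⟩
  · exact hfin.preimage' fun y _ => IsFinite.finite_preimage_singleton f y
  · refine le_antisymm ((Groth.Agent.Lib.Cyc.TorPD.ringKrullDim_stalk_le x).trans hdX.le) ?_
    have hy := hdim2 (f x) hx
    obtain ⟨U, hU, hyU, -⟩ := exists_isAffineOpen_mem_and_subset (show f x ∈ (⊤ : Y.Opens) from trivial)
    have : Nonempty U := ⟨⟨_, hyU⟩⟩
    have : IsIntegrallyClosed Γ(Y, U) :=
      Groth.Agent.Lib.ModelFibre.GoingDown.isIntegrallyClosed_section (fun z => (hnY z).2) hU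
    have hW : IsAffineOpen (f ⁻¹ᵁ U) := hU.preimage f
    have : IsNoetherianRing Γ(X, f ⁻¹ᵁ U) := IsLocallyNoetherian.component_noetherian ⟨f ⁻¹ᵁ U, hW⟩
    letI := (f.app U).hom.toAlgebra
    have : Algebra.IsIntegral Γ(Y, U) Γ(X, f ⁻¹ᵁ U) := ⟨(IsFinite.finite_app f U hU).to_isIntegral⟩
    have : FaithfulSMul Γ(Y, U) Γ(X, f ⁻¹ᵁ U) :=
      (faithfulSMul_iff_algebraMap_injective _ _).2 (Groth.Agent.Lib.ModelFibre.GoingDown.injective_app f U)
    have : IsDomain Γ(X, f ⁻¹ᵁ U) :=
      @IsIntegral.component_integral _ _ (f ⁻¹ᵁ U) ⟨⟨x, hyU⟩⟩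
    have h1 := congrArg PrimeSpectrum.asIdeal (IsAffineOpen.comap_primeIdealOf_appLE U hU (f ⁻¹ᵁ U) hW
      (le_refl _) (show x ∈ f ⁻¹ᵁ U from hyU))
    rw [Scheme.Hom.appLE_eq_app] at h1
    have : (hW.primeIdealOf ⟨x, hyU⟩).asIdeal.LiesOver (hU.primeIdealOf ⟨f x, hyU⟩).asIdeal := ⟨h1.symm⟩
    rw [Groth.Agent.Lib.Ideal.Prime.ringKrullDim_stalk_eq_height hW (show x ∈ f ⁻¹ᵁ U from hyU)]
    rw [Groth.Agent.Lib.Ideal.Prime.ringKrullDim_stalk_eq_height hU hyU] at hy
    have : IsNoetherianRing Γ(Y, U) := IsLocallyNoetherian.component_noetherian ⟨U, hU⟩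
    rw [← hy, WithBot.coe_le_coe, Ideal.height_eq_height_add_of_liesOver_of_hasGoingDown
      (hU.primeIdealOf ⟨f x, hyU⟩).asIdeal (hW.primeIdealOf ⟨x, hyU⟩).asIdeal]
    exact le_self_add
  · let Us : ↥𝒮 → (V : Scheme.{u}).Opens := fun W => V.ι ⁻¹ᵁ W.1
    refine (IsZariskiLocalAtTarget.iff_of_iSup_eq_top (P := @Flat.{u}) Us ?_).2 fun W => ?_
    · rw [eq_top_iff]
      rintro ⟨z, hz⟩ -
      obtain ⟨W, hW, hzW⟩ := TopologicalSpace.Opens.mem_sSup.1 hz
      exact TopologicalSpace.Opens.mem_iSup.2 ⟨⟨W, hW⟩, hzW⟩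
    · refine ((MorphismProperty.arrow_mk_iso_iff @Flat.{u}) (morphismRestrictRestrict f V (Us W))).2 ?_
      have e : V.ι ''ᵁ Us W = W.1 := by
        rw [Scheme.Hom.image_preimage_eq_opensRange_inf, Scheme.Opens.opensRange_ι]
        exact inf_eq_right.2 (le_sSup W.2)
      exact ((MorphismProperty.arrow_mk_iso_iff @Flat.{u}) (morphismRestrictEq f e)).2 W.2

end Groth.Agent.S15140
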