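import Groth.Statements.S15142
import Groth.Agent.S15138
import Groth.Agent.S1648
import Groth.Agent.S2654
import Groth.Agent.Lib.WildAS.Subring
import Groth.Agent.Lib.Excellent.Nagata
import Mathlib.FieldTheory.Galois.IsGaloisGroup
import Mathlib.RingTheory.DedekindDomain.IntegralClosure

set_option autoImplicit false
universe u
open CategoryTheory CategoryTheory.Limits AlgebraicGeometry
open Resolve

namespace Groth.Agent.S15142

/-- Let R be a Noetherian domain, let A be an excellent Noetherian regular domain of Krull dimension two
(all localizations at primes are regular local rings) which is essentially of finite type over R,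
and suppose a finite group G acts on A through ring automorphisms that commute with the R-action. If
the order of G is a unit in A, then the ring of invariants A^G has rational singularities: its
localization at every maximal ideal of height two defines a rational singularity (every proper
morphism onto the spectrum from an integral normal scheme which is an isomorphism over a nonempty
open has H^1 of the structure sheaf zero). (The published statement does not assume the ring of
invariants excellent; its argument passes through the finite extension A^G ⊆ A of two-dimensional
excellent normal domains of degree dividing the order of G, and this row carries the excellence of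
A^G as a hypothesis.) -/
theorem result (R A : Type u) [CommRing R] [IsDomain R]
    [IsNoetherianRing R] [CommRing A] [IsDomain A] [IsNoetherianRing A] [Algebra R A] [Algebra.EssFiniteType R A]
    (hAe : EGA4.IsExcellent A) (hA2 : ringKrullDim A = 2)
    (hreg : ∀ (p : Ideal A) [p.IsPrime], IsRegularLocalRing (Localization.AtPrime p))
    (G : Type u) [Group G] [Finite G] [MulSemiringAction G A] [SMulCommClass G R A]
    (hG : IsUnit ((Nat.card G : ℕ) : A))
    (hGe : EGA4.IsExcellent (FixedPoints.subring A G))
    (m : Ideal (FixedPoints.subring A G)) [m.IsMaximal] (hm : ringKrullDim (Localization.AtPrime m) = 2) :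
    Curv2.IsRationalSing (Localization.AtPrime m) := by
  classical
  haveI : IsIntegrallyClosed A := IsIntegrallyClosed.of_localization_maximal fun P _ hP =>
    haveI := hreg P
    Groth.Agent.Lib.Regular.UFD.isIntegrallyClosed _
  haveI : IsNoetherianRing (FixedPoints.subring A G) := hGe.1
  haveI : IsIntegrallyClosed (FixedPoints.subring A G) :=
    Groth.Agent.Lib.WildAS.Subring.isIntegrallyClosed
  haveI : FaithfulSMul (FixedPoints.subring A G) A :=
    (faithfulSMul_iff_algebraMap_injective _ _).mpr Subtype.val_injective
  haveI : Algebra.IsIntegral (FixedPoints.subring A G) A :=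
    Algebra.IsInvariant.isIntegral (FixedPoints.subring A G) A G
  -- the effective group
  let H : Subgroup (A ≃+* A) := (MulSemiringAction.toRingAut G A).range
  haveI : Finite H := Finite.of_surjective _ (MulSemiringAction.toRingAut G A).rangeRestrict_surjective
  haveI hHG : IsGaloisGroup H (FixedPoints.subring A G) A :=
    { faithful := ⟨fun {h₁ h₂} e => Subtype.ext (RingEquiv.ext fun a => e a)⟩
      commutes := ⟨fun h b x => by
        obtain ⟨_, g, rfl⟩ := h
        show g • ((b : A) * x) = (b : A) * g • x
        rw [smul_mul', show g • (b : A) = b from b.2 g]⟩
      isInvariant := ⟨fun a ha => ⟨⟨a, fun g => ha ⟨_, g, rfl⟩⟩, rfl⟩⟩ }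
  let K := FractionRing (FixedPoints.subring A G)
  let L := FractionRing A
  letI := FractionRing.liftAlgebra (FixedPoints.subring A G) L
  letI := IsFractionRing.mulSemiringAction H A L
  haveI : IsGaloisGroup H K L :=
    IsGaloisGroup.to_isFractionRing_of_isIntegral H (FixedPoints.subring A G) A K L
  haveI : IsGalois K L := IsGaloisGroup.isGalois H K L
  haveI : FiniteDimensional K L := IsGaloisGroup.finiteDimensional H K L
  haveI : IsIntegralClosure A (FixedPoints.subring A G) L :=
    IsIntegralClosure.of_isIntegrallyClosed A (FixedPoints.subring A G) L
  haveI : Module.Finite (FixedPoints.subring A G) A :=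
    IsIntegralClosure.finite (FixedPoints.subring A G) K L A
  have hdim : ringKrullDim (FixedPoints.subring A G) = 2 := by
    rw [← hA2]
    exact (Groth.Agent.Lib.Dim.Integral.ringKrullDim_eq_of_isIntegral
      (R := FixedPoints.subring A G) (A := A)).symm
  have hdeg : IsUnit ((Module.finrank K L : ℕ) : FixedPoints.subring A G) := by
    haveI : IsLocalHom (algebraMap (FixedPoints.subring A G) A) :=
      Algebra.IsIntegral.isLocalHom _ _
    refine (isUnit_map_iff (algebraMap (FixedPoints.subring A G) A) _).1 ?_
    rw [map_natCast, ← IsGaloisGroup.card_eq_finrank H K L]
    obtain ⟨c, hc⟩ := Subgroup.card_range_dvd (MulSemiringAction.toRingAut G A)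
    rw [hc, Nat.cast_mul] at hG
    exact isUnit_of_mul_isUnit_left hG
  refine Groth.Agent.S15138.result (FixedPoints.subring A G) A hGe hAe hdim hA2
    Subtype.val_injective K L hdeg (fun n _ hn => ?_) m hm
  haveI := hreg n
  refine Groth.Agent.S1648.result _ ?_ hn
  exact Groth.Agent.Lib.Excellent.Nagata.isNagata_of_isLocalization n.primeCompl
    (Groth.Agent.S2654.result A ⟨hAe.1, hAe.2.2.1, hAe.2.2.2⟩)

end Groth.Agent.S15142
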