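import Groth.Statements.S15145
import Groth.Agent.Lib.CohFlat74.Final
import Groth.Agent.S2431
import Groth.Agent.Lib.ModelFibre.SmoothModel
import Groth.Agent.Lib.RG.GeomComp
import Groth.Agent.H2.Rigid.Smooth
import Groth.Agent.H2.Rigid.H0

set_option autoImplicit false
set_option backward.isDefEq.respectTransparency.types false
universe u
open CategoryTheory CategoryTheory.Limits AlgebraicGeometry Opposite
open Models

namespace Groth.Agent.S15145

/-- Let R be a discrete valuation ring whose fraction field K has characteristic zero, with residue
field k; let C be a proper K-curve, smooth of relative dimension 1 and geometrically connected, and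
let X be a model of C over R (flat and of finite type with generic fibre C) which is proper over R
and normal, with rational singularities: the local ring at every closed point defines a rational
singularity (every proper morphism onto its spectrum from an integral normal scheme which is an
isomorphism over a nonempty open has H^1 of the structure sheaf zero). If k has characteristic zero,
or if the structure morphism X → Spec R has a section, then X is cohomologically flat over R in
dimension 0: the restriction H^0(X, O_X) → H^0(X_s, O_{X_s}) to the closed fibre X_s, cut out by 𝔪_R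
· O_X, is surjective; so X is admissible. (The published statement in residue characteristic p > 0
allows, instead of a section, an étale quasi-section, i.e. a section over a strict henselization of
R, or that the components of the closed fibre have geometric multiplicities whose greatest common
divisor is prime to p; this row keeps the case of a section over R and the
residue-characteristic-zero case.) -/
theorem result (R : Type u) [CommRing R]
    [IsDomain R] [IsDiscreteValuationRing R] [CharZero (FractionRing R)]
    (X C : Scheme.{u}) [X.Over (Spec (CommRingCat.of R))]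
    (f : C ⟶ Spec (CommRingCat.of (FractionRing R)))
    [SmoothOfRelativeDimension 1 f] [IsProper f] [GeometricallyConnected f]
    (hX : Models.IsModel R X (X ↘ Spec (CommRingCat.of R)) C f)
    [IsProper (X ↘ Spec (CommRingCat.of R))] (hn : Pi1.IsNormalScheme X)
    (hrat : ∀ x : X, IsClosed ({x} : Set X) → Curv2.IsRationalSing (X.presheaf.stalk x))
    (h : CharZero (IsLocalRing.ResidueField R) ∨
      ∃ σ : Spec (CommRingCat.of R) ⟶ X, σ ≫ (X ↘ Spec (CommRingCat.of R)) = 𝟙 (Spec (CommRingCat.of R))) :
    Function.Surjective (Sheaf.H.map ((SheafOfModules.toSheaf X.ringCatSheaf).map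
      (ClSub.toSubscheme (Models.specialFibreIdeal R (Over.mk (X ↘ Spec (CommRingCat.of R)))))) 0) := by
  haveI := SmoothOfRelativeDimension.smooth (n := 1) f
  haveI : ConnectedSpace C := GeometricallyConnected.connectedSpace_of_subsingleton (f := f)
  haveI : IsIntegral C := Groth.Agent.Lib.RG.GeomComp.isIntegral_of_smooth_connected f
  haveI : GeometricallyReduced f := Groth.Agent.H2.Rigid.geometricallyReduced_of_smooth f
  have hbc : IsPullback (𝟙 C) f f (𝟙 (Spec (CommRingCat.of (FractionRing R)))) :=
    IsPullback.of_horiz_isIso ⟨by simp⟩
  have hsurj := (Groth.Agent.H2.Rigid.H0.of_geometrically f).isPullback hbc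
  haveI : Nonempty ((⊤ : C.Opens) : Set C) := ⟨⟨genericPoint C, trivial⟩⟩
  have hinj : Function.Injective f.appTop.hom := by
    have h1 : Function.Injective ((Scheme.ΓSpecIso (CommRingCat.of (FractionRing R))).inv ≫ f.appTop).hom :=
      RingHom.injective _
    intro a b h
    have hb := ConcreteCategory.bijective_of_isIso (Scheme.ΓSpecIso (CommRingCat.of (FractionRing R))).inv
    obtain ⟨a', rfl⟩ := hb.2 a
    obtain ⟨b', rfl⟩ := hb.2 b
    exact congrArg _ (h1 h)
  obtain ⟨hflat, -, -, g, hg⟩ := hX
  haveI := hflat
  haveI : IsIntegral X := Groth.Agent.Lib.ModelFibre.SmoothModel.isIntegral _ f g hg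
  have hbij := Groth.Agent.Lib.ModelFibre.GlobalFun.bijective_toGlobal _ f g hg ⟨hinj, hsurj⟩
  have hiso := Groth.Agent.Lib.ModelFibre.GlobalFun.isIso_app _ f g hg ⟨hinj, hsurj⟩
  haveI := (Groth.Agent.S2431.result (X ↘ Spec (CommRingCat.of R)) hiso).1 (IsLocalRing.closedPoint R)
  have hconn := Groth.Agent.Lib.ModelFibre.GlobalFun.connected_specialFibreSet (X ↘ Spec (CommRingCat.of R))
  let X' : Over (Spec (CommRingCat.of R)) := Over.mk (X ↘ Spec (CommRingCat.of R))
  haveI : Flat X'.hom := hflat
  haveI : IsProper X'.hom := ‹IsProper (X ↘ Spec (CommRingCat.of R))›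
  haveI : IsIntegral X'.left := ‹IsIntegral X›
  rw [show Models.specialFibreIdeal R X' = Groth.Agent.Lib.ModelFibre.LiftH0.powI X' 1 from
    (Groth.Agent.Lib.ModelFibre.LiftH0.powI_one X').symm]
  intro z
  obtain ⟨π, hπ⟩ := IsDiscreteValuationRing.exists_irreducible R
  let θ := Groth.Agent.Lib.Curves.GlobalSections.h0Equiv
    (_root_.ClSub.quotMod (Groth.Agent.Lib.ModelFibre.LiftH0.powI X' 1)) z
  obtain ⟨r, hr⟩ := Groth.Agent.Lib.CohFlat74.Final.exists_eq X' hπ hn hconn hbij h θ
  refine ⟨(Groth.Agent.Lib.Curves.GlobalSections.h0Equiv (Coh.structureModule X'.left)).symm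
    (Coh.toGlobal X'.hom r), (Groth.Agent.Lib.Curves.GlobalSections.h0Equiv _).injective ?_⟩
  refine (Groth.Agent.Lib.ProjKoszul.Regularity.h0Equiv_mapK (R := R) _ _).trans ?_
  refine Eq.trans ?_ hr.symm
  exact congrArg _ ((Groth.Agent.Lib.Curves.GlobalSections.h0Equiv
    (Coh.structureModule X'.left)).apply_symm_apply _)

end Groth.Agent.S15145
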