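import Groth.Statements.S15146
import Mathlib

set_option autoImplicit false
universe u
open HilbZeta

namespace Groth.Agent.S15146

/-- Let k be a field, s a natural number and R a k-subalgebra of the product of s copies of the power
series ring k[[x]], of finite codimension δ over k and local with residue field k (all components of
an element of R have the same constant term); write v_i for the x-adic order of the i-th component
of an s-tuple, and let c = (c_1, …, c_s) be the conductor exponents, so that an s-tuple f satisfies
f·g ∈ R for every s-tuple g exactly when v_i(f) ≥ c_i for all i (over an algebraically closed field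
such an R is precisely the completed local ring of a reduced curve singularity having s branches
sitting inside its normalisation, δ is its delta invariant and the conductor ideal is generated by
the x_i^{c_i}). If J is an ideal of R of finite colength which contains, for each i, an element f_i
with v_i(f_i) = l_i, then every s-tuple g with v_i(g) ≥ l_i + c_i for all i lies in R and belongs to
J. (The published statement is over an algebraically closed field; this row allows any field.) -/
theorem result (k : Type u) [Field k] (s : ℕ)
    (R : Subalgebra k (Fin s → PowerSeries k))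
    (hfin : Module.Finite k ((Fin s → PowerSeries k) ⧸ Subalgebra.toSubmodule R))
    (hloc : ∀ f ∈ R, ∀ i j : Fin s, PowerSeries.constantCoeff (f i) = PowerSeries.constantCoeff (f j))
    (c : Fin s → ℕ)
    (hc : ∀ f : Fin s → PowerSeries k,
      (∀ g : Fin s → PowerSeries k, g * f ∈ R) ↔ ∀ i, ((c i : ℕ) : ℕ∞) ≤ (f i).order)
    (J : Ideal ↥R) (hJ : Module.Finite k (↥R ⧸ J))
    (l : Fin s → ℕ) (hl : ∀ i : Fin s, ∃ f ∈ J, ((f : Fin s → PowerSeries k) i).order = ((l i : ℕ) : ℕ∞))
    (g : Fin s → PowerSeries k) (hg : ∀ i : Fin s, ((l i + c i : ℕ) : ℕ∞) ≤ (g i).order) :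
    ∃ hgR : g ∈ R, (⟨g, hgR⟩ : ↥R) ∈ J := by
  classical
  have hgR : g ∈ R := by
    have := (hc g).2 (fun i => le_trans (by exact_mod_cast Nat.le_add_left (c i) (l i)) (hg i)) 1
    rwa [one_mul] at this
  refine ⟨hgR, ?_⟩
  have step : ∀ i, ∃ z : R, z ∈ J ∧ (z : Fin s → PowerSeries k) = Pi.single i (g i) := by
    intro i
    obtain ⟨f, hfJ, hfl⟩ := hl i
    have hf0 : (f : Fin s → PowerSeries k) i ≠ 0 := fun h => by simp [h] at hfl
    obtain ⟨u, hu, hfu⟩ : ∃ u : PowerSeries k, IsUnit u ∧ (f : Fin s → PowerSeries k) i = PowerSeries.X ^ l i * u := by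
      obtain ⟨u, hu⟩ := (PowerSeries.X_pow_dvd_iff (n := l i) (φ := (f : Fin s → PowerSeries k) i)).2 fun m hm =>
        PowerSeries.coeff_of_lt_order m (by rw [hfl]; exact_mod_cast hm)
      refine ⟨u, ?_, hu⟩
      rw [PowerSeries.isUnit_iff_constantCoeff, isUnit_iff_ne_zero]
      intro h0
      have hne : PowerSeries.coeff (l i) ((f : Fin s → PowerSeries k) i) ≠ 0 := (PowerSeries.order_eq_nat.1 hfl).1
      apply hne
      rw [hu, PowerSeries.coeff_X_pow_mul' ]
      simpa using h0
    obtain ⟨w, hw⟩ := (PowerSeries.X_pow_dvd_iff (n := l i + c i) (φ := g i)).2 fun m hm =>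
      PowerSeries.coeff_of_lt_order m (lt_of_lt_of_le (by exact_mod_cast hm) (hg i))
    obtain ⟨u', hu'⟩ := hu.exists_right_inv
    set h : Fin s → PowerSeries k := Pi.single i (PowerSeries.X ^ c i * w * u') with hh
    have hhR : h ∈ R := by
      have := (hc h).2 (fun j => ?_) 1
      · rwa [one_mul] at this
      · rcases eq_or_ne j i with rfl | hne
        · rw [hh, Pi.single_eq_same]
          refine PowerSeries.nat_le_order _ _ fun m hm => ?_
          rw [mul_assoc, PowerSeries.coeff_X_pow_mul', if_neg (by omega)]
        · rw [hh, Pi.single_eq_of_ne hne, PowerSeries.order_zero]; exact le_top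
    refine ⟨⟨h, hhR⟩ * f, J.mul_mem_left _ hfJ, ?_⟩
    show h * (f : Fin s → PowerSeries k) = _
    funext j
    rcases eq_or_ne j i with rfl | hne
    · rw [Pi.mul_apply, hh, Pi.single_eq_same, Pi.single_eq_same, hfu, hw, pow_add]
      linear_combination (PowerSeries.X ^ c j * w * PowerSeries.X ^ l j) * hu'
    · rw [Pi.mul_apply, hh, Pi.single_eq_of_ne hne, Pi.single_eq_of_ne hne, zero_mul]
  choose z hz hzv using step
  have : (⟨g, hgR⟩ : R) = ∑ i, z i := by
    apply Subtype.ext
    rw [AddSubmonoidClass.coe_finset_sum]
    simp only [hzv, Finset.univ_sum_single]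
  rw [this]
  exact J.sum_mem fun i _ => hz i

end Groth.Agent.S15146
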