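import Groth.Statements.S15148
import Mathlib

set_option autoImplicit false
universe u
open HilbZeta

namespace Groth.Agent.S15148

variable {k : Type u} [Field k] {s : ℕ}

/-- tuples of order at least `n i`. -/
noncomputable def coeffMap (n : Fin s → ℕ) : (Fin s → PowerSeries k) →ₗ[k] ((i : Fin s) → Fin (n i) → k) :=
  LinearMap.pi fun i => LinearMap.pi fun j => (PowerSeries.coeff (j : ℕ)).comp (LinearMap.proj i)

lemma coeffMap_surjective (n : Fin s → ℕ) : Function.Surjective (coeffMap (k := k) n) := by
  intro v
  refine ⟨fun i => PowerSeries.mk fun j => if h : j < n i then v i ⟨j, h⟩ else 0, ?_⟩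
  funext i j
  simp [coeffMap, j.2]

lemma mem_ker_coeffMap {n : Fin s → ℕ} {f : Fin s → PowerSeries k} :
    f ∈ LinearMap.ker (coeffMap (k := k) n) ↔ ∀ i, ((n i : ℕ) : ℕ∞) ≤ (f i).order := by
  rw [LinearMap.mem_ker]
  constructor
  · intro h i
    refine PowerSeries.nat_le_order _ _ fun j hj => ?_
    simpa [coeffMap] using congrFun (congrFun h i) ⟨j, hj⟩
  · intro h
    funext i j
    simp only [coeffMap, LinearMap.pi_apply, LinearMap.coe_comp, LinearMap.coe_proj, Function.comp_apply,
      Function.eval, Pi.zero_apply]
    exact PowerSeries.coeff_of_lt_order _ (lt_of_lt_of_le (by exact_mod_cast j.2) (h i))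

lemma finrank_quot_coeffMap (n : Fin s → ℕ) :
    Module.finrank k ((Fin s → PowerSeries k) ⧸ LinearMap.ker (coeffMap (k := k) n)) = ∑ i, n i := by
  have e := LinearMap.quotKerEquivOfSurjective (coeffMap (k := k) n) (coeffMap_surjective n)
  refine e.finrank_eq.trans ?_
  simp [Module.finrank_pi_fintype]

lemma finite_quot_coeffMap (n : Fin s → ℕ) :
    Module.Finite k ((Fin s → PowerSeries k) ⧸ LinearMap.ker (coeffMap (k := k) n)) := by
  have e := LinearMap.quotKerEquivOfSurjective (coeffMap (k := k) n) (coeffMap_surjective n)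
  exact Module.Finite.equiv e.symm


/-- Let k be a field, s a natural number and R a k-subalgebra of the product of s copies of the power
series ring k[[x]], of finite codimension δ over k and local with residue field k (all components of
an element of R have the same constant term); write v_i for the x-adic order of the i-th component
of an s-tuple, and let c = (c_1, …, c_s) be the conductor exponents, so that an s-tuple f satisfies
f·g ∈ R for every s-tuple g exactly when v_i(f) ≥ c_i for all i (over an algebraically closed field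
such an R is precisely the completed local ring of a reduced curve singularity having s branches
sitting inside its normalisation, δ is its delta invariant and the conductor ideal is generated by
the x_i^{c_i}), and put C = c_1 + ⋯ + c_s. Let I be an ideal of R of finite colength d with
branch-length vector a (for every i the ideal of k[[x]] generated by the i-th components of the
elements of I is (x^{a_i})). Then −δ ≤ d − Σ a_i ≤ C − δ, and the second inequality is strict when R
is not the whole product (the singularity is not smooth). (The published statement is over an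
algebraically closed field; this row allows any field.) -/
theorem result (k : Type u) [Field k] (s : ℕ)
    (R : Subalgebra k (Fin s → PowerSeries k))
    (hfin : Module.Finite k ((Fin s → PowerSeries k) ⧸ Subalgebra.toSubmodule R))
    (hloc : ∀ f ∈ R, ∀ i j : Fin s, PowerSeries.constantCoeff (f i) = PowerSeries.constantCoeff (f j))
    (c : Fin s → ℕ)
    (hc : ∀ f : Fin s → PowerSeries k,
      (∀ g : Fin s → PowerSeries k, g * f ∈ R) ↔ ∀ i, ((c i : ℕ) : ℕ∞) ≤ (f i).order)
    (I : Ideal ↥R) (hI : Module.Finite k (↥R ⧸ I)) (a : Fin s → ℕ)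
    (ha : (∀ i : Fin s, Ideal.map ((Pi.evalAlgHom k (fun _ : Fin s => PowerSeries k) i).comp R.val) I = Ideal.span {PowerSeries.X ^ (a i)})) :
    (∑ i, a i) ≤ Module.finrank k (↥R ⧸ I) + Module.finrank k ((Fin s → PowerSeries k) ⧸ Subalgebra.toSubmodule R) ∧
    Module.finrank k (↥R ⧸ I) + Module.finrank k ((Fin s → PowerSeries k) ⧸ Subalgebra.toSubmodule R) ≤ (∑ i, a i) + ∑ i, c i ∧
    (R ≠ ⊤ → Module.finrank k (↥R ⧸ I) + Module.finrank k ((Fin s → PowerSeries k) ⧸ Subalgebra.toSubmodule R) < (∑ i, a i) + ∑ i, c i) := by
  classical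
  let I' : Submodule k (Fin s → PowerSeries k) := (I.restrictScalars k).map R.val.toLinearMap
  have hmemI : ∀ f, f ∈ I' ↔ ∃ z ∈ I, (z : Fin s → PowerSeries k) = f := fun f => Iff.rfl
  have hIJ : I' ≤ LinearMap.ker (coeffMap a) := by
    rintro _ ⟨z, hz, rfl⟩
    rw [mem_ker_coeffMap]
    intro i
    have h1 : (z : Fin s → PowerSeries k) i ∈ Ideal.span {PowerSeries.X ^ (a i)} := by
      rw [← ha i]
      exact Ideal.mem_map_of_mem ((Pi.evalAlgHom k (fun _ : Fin s => PowerSeries k) i).comp R.val) hz
    obtain ⟨w, hw⟩ := Ideal.mem_span_singleton.mp h1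
    change _ ≤ ((z : Fin s → PowerSeries k) i).order
    rw [hw, PowerSeries.order_mul, PowerSeries.order_X_pow]
    exact le_self_add
  have hex : ∀ i : Fin s, ∃ z ∈ I, ∃ w : PowerSeries k, IsUnit w ∧ (z : Fin s → PowerSeries k) i = PowerSeries.X ^ (a i) * w := by
    intro i
    by_contra hcon
    push_neg at hcon
    have hle : Ideal.map ((Pi.evalAlgHom k (fun _ : Fin s => PowerSeries k) i).comp R.val) I ≤ Ideal.span {PowerSeries.X ^ (a i + 1)} := by
      rw [Ideal.map_le_iff_le_comap]
      intro z hz
      have h1 : (z : Fin s → PowerSeries k) i ∈ Ideal.span {PowerSeries.X ^ (a i)} := by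
        rw [← ha i]
        exact Ideal.mem_map_of_mem ((Pi.evalAlgHom k (fun _ : Fin s => PowerSeries k) i).comp R.val) hz
      obtain ⟨w, hw⟩ := Ideal.mem_span_singleton.mp h1
      have hw0 : ¬ IsUnit w := fun hu => hcon z hz w hu hw
      have hX : PowerSeries.X ∣ w := by
        rw [PowerSeries.X_dvd_iff]
        rw [PowerSeries.isUnit_iff_constantCoeff, isUnit_iff_ne_zero, not_not] at hw0
        exact hw0
      change (z : Fin s → PowerSeries k) i ∈ Ideal.span {PowerSeries.X ^ (a i + 1)}
      rw [hw, Ideal.mem_span_singleton, pow_succ]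
      exact mul_dvd_mul_left _ hX
    rw [ha i] at hle
    have h2 := Ideal.mem_span_singleton.mp (hle (Ideal.mem_span_singleton_self _))
    exact absurd ((pow_dvd_pow_iff PowerSeries.X_ne_zero PowerSeries.X_irreducible.not_isUnit).mp h2) (by omega)
  choose z hzI w hw hzw using hex
  have hKI : LinearMap.ker (coeffMap fun i => a i + c i) ≤ I' := by
    intro f hf
    rw [mem_ker_coeffMap] at hf
    have hdec : f = ∑ i, Pi.single i (f i) := (Finset.univ_sum_single f).symm
    rw [hdec]
    refine Submodule.sum_mem _ fun i _ => ?_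
    obtain ⟨g, hg⟩ : PowerSeries.X ^ (a i + c i) ∣ f i :=
      (pow_dvd_pow _ (le_refl _)).trans (by
        rw [PowerSeries.X_pow_dvd_iff]
        exact fun m hm => PowerSeries.coeff_of_lt_order _ (lt_of_lt_of_le (by exact_mod_cast hm) (hf i)))
    obtain ⟨v, hv⟩ := hw i
    let q : Fin s → PowerSeries k := Pi.single i (PowerSeries.X ^ (c i) * ((↑v⁻¹ : PowerSeries k) * g))
    have hq : q ∈ R := by
      have := ((hc q).mpr fun j => ?_) 1
      · simpa using this
      rcases eq_or_ne j i with rfl | hne
      · simp only [q, Pi.single_eq_same]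
        rw [PowerSeries.order_mul, PowerSeries.order_X_pow]
        exact le_self_add
      · simp [q, Pi.single_eq_of_ne hne]
    refine (hmemI _).mpr ⟨⟨q, hq⟩ * z i, I.mul_mem_left _ (hzI i), ?_⟩
    funext j
    rcases eq_or_ne j i with rfl | hne
    · simp only [MulMemClass.coe_mul, Pi.mul_apply, q, Pi.single_eq_same, hzw j, hg, ← hv]
      calc PowerSeries.X ^ c j * (↑v⁻¹ * g) * (PowerSeries.X ^ a j * ↑v)
          = PowerSeries.X ^ (a j + c j) * g * ((↑v⁻¹ : PowerSeries k) * ↑v) := by ring
        _ = _ := by rw [Units.inv_mul, mul_one]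
    · simp [q, Pi.single_eq_of_ne hne]
  haveI : Module.Finite k ((Fin s → PowerSeries k) ⧸ LinearMap.ker (coeffMap (k := k) fun i => a i + c i)) :=
    finite_quot_coeffMap _
  haveI : Module.Finite k ((Fin s → PowerSeries k) ⧸ I') :=
    Module.Finite.of_surjective (Submodule.factor hKI) (Submodule.factor_surjective hKI)
  -- additivity
  have hsum : Module.finrank k (↥R ⧸ I) + Module.finrank k ((Fin s → PowerSeries k) ⧸ Subalgebra.toSubmodule R) =
      Module.finrank k ((Fin s → PowerSeries k) ⧸ I') := by
    have hI'R : I' ≤ Subalgebra.toSubmodule R := by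
      rintro _ ⟨y, -, rfl⟩
      exact y.2
    let φ : ↥R →ₗ[k] (Fin s → PowerSeries k) ⧸ I' := I'.mkQ.comp R.val.toLinearMap
    let ψ := Submodule.factor hI'R
    have hkerφ : LinearMap.ker φ = I.restrictScalars k := by
      ext y
      simp only [φ, LinearMap.mem_ker, LinearMap.coe_comp, Function.comp_apply, Submodule.mkQ_apply,
        Submodule.Quotient.mk_eq_zero]
      refine ⟨?_, fun h => ⟨y, h, rfl⟩⟩
      rintro ⟨y', hy', he⟩
      obtain rfl : y' = y := Subtype.ext he
      exact hy'
    have hrange : LinearMap.range φ = LinearMap.ker ψ := by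
      ext x
      obtain ⟨y, rfl⟩ := Submodule.Quotient.mk_surjective _ x
      rw [LinearMap.mem_ker, show ψ (Submodule.Quotient.mk y) = Submodule.Quotient.mk y from rfl, Submodule.Quotient.mk_eq_zero, LinearMap.mem_range]
      constructor
      · rintro ⟨y', hy'⟩
        have h1 := (Submodule.Quotient.eq I').mp hy'
        have := sub_mem y'.2 (hI'R h1)
        simpa using this
      · exact fun hy => ⟨⟨y, hy⟩, rfl⟩
    have h1 := LinearMap.finrank_range_add_finrank_ker ψ
    have h2 : Module.finrank k (↥R ⧸ I) = Module.finrank k (LinearMap.range φ) := by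
      rw [← φ.quotKerEquivRange.finrank_eq, hkerφ]
      exact (Submodule.Quotient.restrictScalarsEquiv k I).finrank_eq.symm
    rw [LinearMap.range_eq_top.mpr (Submodule.factor_surjective hI'R), finrank_top] at h1
    rw [h2, hrange, ← h1, add_comm]
  rw [hsum, ← finrank_quot_coeffMap (k := k) a]
  have htot : (∑ i, a i) + ∑ i, c i = Module.finrank k ((Fin s → PowerSeries k) ⧸ LinearMap.ker (coeffMap (k := k) fun i => a i + c i)) := by
    rw [finrank_quot_coeffMap, Finset.sum_add_distrib]
  have hle2 := LinearMap.finrank_le_finrank_of_surjective (f := Submodule.factor hKI) (Submodule.factor_surjective hKI)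
  refine ⟨LinearMap.finrank_le_finrank_of_surjective (f := Submodule.factor hIJ) (Submodule.factor_surjective hIJ), ?_, ?_⟩
  · rw [finrank_quot_coeffMap, htot]
    exact hle2
  intro hR
  rw [finrank_quot_coeffMap, htot]
  refine lt_of_le_of_ne hle2 fun heq => hR ?_
  have hinj := (LinearMap.injective_iff_surjective_of_finrank_eq_finrank heq.symm (f := Submodule.factor hKI)).mpr
    (Submodule.factor_surjective hKI)
  have hc0 : ∀ i, c i = 0 := by
    intro i
    have hz : (z i : Fin s → PowerSeries k) ∈ I' := (hmemI _).mpr ⟨z i, hzI i, rfl⟩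
    have hzK : (z i : Fin s → PowerSeries k) ∈ LinearMap.ker (coeffMap (k := k) fun i => a i + c i) := by
      rw [← Submodule.Quotient.mk_eq_zero]
      apply hinj
      rw [map_zero]
      exact (Submodule.Quotient.mk_eq_zero _).mpr hz
    have h3 : (((a i + c i : ℕ)) : ℕ∞) ≤ ((z i : Fin s → PowerSeries k) i).order := mem_ker_coeffMap.mp hzK i
    rw [hzw i, PowerSeries.order_mul, PowerSeries.order_X_pow, PowerSeries.order_zero_of_unit (hw i), add_zero] at h3
    have : a i + c i ≤ a i := by exact_mod_cast h3
    omega
  rw [eq_top_iff]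
  intro f _
  have := (hc f).mpr (fun i => by simp [hc0 i]) 1
  simpa using this


end Groth.Agent.S15148
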