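import Groth.Statements.S15149
import Mathlib.RingTheory.PowerSeries.Inverse
import Mathlib.RingTheory.Length


set_option autoImplicit false
universe u
open HilbZeta

namespace Groth.Agent.S15149

section

variable {k : Type u} [Field k] {V : Type u} [AddCommGroup V] [Module k V]

theorem isFiniteLength_of_finite [Module.Finite k V] : IsFiniteLength k V :=
  isFiniteLength_iff_isNoetherian_isArtinian.mpr ⟨inferInstance, inferInstance⟩

theorem finite_of_length_ne_top (h : Module.length k V ≠ ⊤) : Module.Finite k V :=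
  have := (isFiniteLength_iff_isNoetherian_isArtinian.mp (Module.length_ne_top_iff.mp h)).1
  inferInstance

theorem length_quot_map (μ : V →ₗ[k] V) (hμ : Function.Injective μ) (A : Submodule k V) :
    Module.length k (V ⧸ A.map μ) = Module.length k (V ⧸ A) + Module.length k (V ⧸ LinearMap.range μ) := by
  refine Module.length_eq_add_of_exact (A.mapQ (A.map μ) μ (Submodule.le_comap_map μ A))
    (Submodule.factor (LinearMap.map_le_range)) ?_ (Submodule.factor_surjective _) ?_
  · rw [← LinearMap.ker_eq_bot, Submodule.ker_mapQ, Submodule.comap_map_eq_of_injective hμ,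
      Submodule.mkQ_map_self]
  · rw [LinearMap.exact_iff, Submodule.factor, Submodule.ker_mapQ, Submodule.comap_id,
      Submodule.range_mapQ]

theorem length_quot_range {s : ℕ} (j : Fin s) {ξ : Fin s → PowerSeries k}
    (μ : (Fin s → PowerSeries k) →ₗ[k] (Fin s → PowerSeries k)) (hμ : ∀ f, μ f = ξ * f)
    (_h0 : ∀ i, ξ i ≠ 0) (hj : ξ j = PowerSeries.X) (hi : ∀ i, i ≠ j → ξ i = 1) :
    Module.length k ((Fin s → PowerSeries k) ⧸ LinearMap.range μ) = 1 := by
  let φ : (Fin s → PowerSeries k) →ₗ[k] k :=
    (PowerSeries.coeff 0).comp (LinearMap.proj j)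
  have hker : LinearMap.ker φ = LinearMap.range μ := by
    ext f
    simp only [LinearMap.mem_ker, LinearMap.mem_range, hμ]
    constructor
    · intro h
      obtain ⟨q, hq⟩ := PowerSeries.X_dvd_iff.mpr
        ((PowerSeries.coeff_zero_eq_constantCoeff_apply (f j)).symm.trans h)
      refine ⟨Function.update f j q, funext fun i => ?_⟩
      rcases eq_or_ne i j with rfl | hij
      · simp [hj, hq]
      · simp [hi i hij, Function.update_of_ne hij]
    · rintro ⟨g, rfl⟩
      simp [φ, hj]
  have hsur : Function.Surjective φ := fun x =>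
    ⟨Pi.single j (PowerSeries.C x), by simp [φ]⟩
  rw [← hker, (φ.quotKerEquivOfSurjective hsur).length_eq, Module.length_eq_finrank,
    Module.finrank_self, Nat.cast_one]

theorem length_quot_sub {s : ℕ} (R : Subalgebra k (Fin s → PowerSeries k)) (I : Ideal ↥R) :
    Module.length k ((Fin s → PowerSeries k) ⧸ (I.restrictScalars k).map R.val.toLinearMap) =
      Module.length k (↥R ⧸ I) +
        Module.length k ((Fin s → PowerSeries k) ⧸ Subalgebra.toSubmodule R) := by
  set A := (I.restrictScalars k).map R.val.toLinearMap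
  have hle : A ≤ Subalgebra.toSubmodule R := by
    rintro _ ⟨g, -, rfl⟩; exact g.2
  have e : Module.length k (↥R ⧸ I) = Module.length k (↥R ⧸ I.restrictScalars k) :=
    (Submodule.Quotient.restrictScalarsEquiv k I).symm.length_eq
  rw [e]
  refine Module.length_eq_add_of_exact
    ((I.restrictScalars k).mapQ A R.val.toLinearMap (Submodule.le_comap_map _ _))
    (Submodule.factor hle) ?_ (Submodule.factor_surjective _) ?_
  · rw [← LinearMap.ker_eq_bot, Submodule.ker_mapQ,
      Submodule.comap_map_eq_of_injective (fun _ _ h => Subtype.ext h), Submodule.mkQ_map_self]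
  · rw [LinearMap.exact_iff, Submodule.factor, Submodule.ker_mapQ, Submodule.comap_id,
      Submodule.range_mapQ]
    refine congrArg (Submodule.map A.mkQ) ?_
    ext f
    exact ⟨fun h => ⟨⟨f, h⟩, rfl⟩, fun ⟨g, e⟩ => e ▸ g.2⟩

end


/-- Let k be a field, s a natural number and R a k-subalgebra of the product of s copies of the power
series ring k[[x]], of finite codimension δ over k and local with residue field k (all components of
an element of R have the same constant term); write v_i for the x-adic order of the i-th component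
of an s-tuple, and let c = (c_1, …, c_s) be the conductor exponents, so that an s-tuple f satisfies
f·g ∈ R for every s-tuple g exactly when v_i(f) ≥ c_i for all i (over an algebraically closed field
such an R is precisely the completed local ring of a reduced curve singularity having s branches
sitting inside its normalisation, δ is its delta invariant and the conductor ideal is generated by
the x_i^{c_i}). Fix a branch j, a colength d and a branch-length vector a = (a_1, …, a_s) with a_j ≥
c_j, and let ξ be the s-tuple with x in the j-th place and 1 elsewhere. Call an ideal I of R of type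
(d, a) when it has colength d and, for every i, the ideal of k[[x]] generated by the i-th components
of its elements is (x^{a_i}). Then multiplication by ξ is a bijection from the ideals of type (d, a)
onto the ideals of type (d + 1, a + e_j), where a + e_j is a with its j-th entry raised by one: for
every ideal I of type (d, a) the set ξ·I is (the image of) an ideal of type (d + 1, a + e_j), and
every ideal of type (d + 1, a + e_j) is ξ·I for some ideal I of type (d, a). (The published
statement is the equality, in the Grothendieck ring of varieties, of the classes of the two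
corresponding branch-length strata of the punctual Hilbert scheme; this row states the bijection on
ideals underlying it, which is what the argument establishes; the published statement is over an
algebraically closed field, and this row allows any field.) -/
theorem result (k : Type u) [Field k] (s : ℕ)
    (R : Subalgebra k (Fin s → PowerSeries k))
    (hfin : Module.Finite k ((Fin s → PowerSeries k) ⧸ Subalgebra.toSubmodule R))
    (hloc : ∀ f ∈ R, ∀ i j : Fin s, PowerSeries.constantCoeff (f i) = PowerSeries.constantCoeff (f j))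
    (c : Fin s → ℕ)
    (hc : ∀ f : Fin s → PowerSeries k,
      (∀ g : Fin s → PowerSeries k, g * f ∈ R) ↔ ∀ i, ((c i : ℕ) : ℕ∞) ≤ (f i).order)
    (j : Fin s) (d : ℕ) (a : Fin s → ℕ) (hj : c j ≤ a j) :
    (∀ I ∈ {I : Ideal ↥R | Module.Finite k (↥R ⧸ I) ∧ Module.finrank k (↥R ⧸ I) = d ∧ (∀ i : Fin s, Ideal.map ((Pi.evalAlgHom k (fun _ : Fin s => PowerSeries k) i).comp R.val) I = Ideal.span {PowerSeries.X ^ (a i)})},
      ∃ J ∈ {I : Ideal ↥R | Module.Finite k (↥R ⧸ I) ∧ Module.finrank k (↥R ⧸ I) = d + 1 ∧ (∀ i : Fin s, Ideal.map ((Pi.evalAlgHom k (fun _ : Fin s => PowerSeries k) i).comp R.val) I = Ideal.span {PowerSeries.X ^ ((Function.update a j (a j + 1)) i)})},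
        (Subtype.val '' (J : Set ↥R)) = (fun f => Pi.mulSingle j PowerSeries.X * f) '' (Subtype.val '' (I : Set ↥R))) ∧
    (∀ J ∈ {I : Ideal ↥R | Module.Finite k (↥R ⧸ I) ∧ Module.finrank k (↥R ⧸ I) = d + 1 ∧ (∀ i : Fin s, Ideal.map ((Pi.evalAlgHom k (fun _ : Fin s => PowerSeries k) i).comp R.val) I = Ideal.span {PowerSeries.X ^ ((Function.update a j (a j + 1)) i)})},
      ∃ I ∈ {I : Ideal ↥R | Module.Finite k (↥R ⧸ I) ∧ Module.finrank k (↥R ⧸ I) = d ∧ (∀ i : Fin s, Ideal.map ((Pi.evalAlgHom k (fun _ : Fin s => PowerSeries k) i).comp R.val) I = Ideal.span {PowerSeries.X ^ (a i)})},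
        (Subtype.val '' (J : Set ↥R)) = (fun f => Pi.mulSingle j PowerSeries.X * f) '' (Subtype.val '' (I : Set ↥R))) := by
  set ξ : Fin s → PowerSeries k := Pi.mulSingle j PowerSeries.X with hξ
  set μ : (Fin s → PowerSeries k) →ₗ[k] (Fin s → PowerSeries k) := LinearMap.mulLeft k ξ
  have hξj : ξ j = PowerSeries.X := Pi.mulSingle_eq_same j _
  have hξi : ∀ i, i ≠ j → ξ i = 1 := fun i hi => Pi.mulSingle_eq_of_ne hi _
  have hξ0 : ∀ i, ξ i ≠ 0 := fun i => by
    rcases eq_or_ne i j with rfl | hi
    · rw [hξj]; exact PowerSeries.X_ne_zero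
    · rw [hξi i hi]; exact one_ne_zero
  have hμ : Function.Injective μ := fun f g h => funext fun i =>
    mul_left_cancel₀ (hξ0 i) (congrFun h i)
  -- elements with high `j`-th order and zero elsewhere lie in `R`
  have hcond : ∀ g : PowerSeries k, PowerSeries.X ^ a j ∣ g → Pi.single j g ∈ R := by
    rintro g ⟨g', rfl⟩
    have := (hc (Pi.single j (PowerSeries.X ^ a j * g'))).mpr (fun i => ?_) 1
    · rwa [one_mul] at this
    · rcases eq_or_ne i j with rfl | hi
      · rw [Pi.single_eq_same]
        refine PowerSeries.nat_le_order _ _ fun m hm => ?_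
        exact PowerSeries.X_pow_dvd_iff.mp (dvd_mul_right _ _) m (lt_of_lt_of_le hm hj)
      · rw [Pi.single_eq_of_ne hi, PowerSeries.order_zero]; exact le_top
  have hsub : ∀ f : Fin s → PowerSeries k,
      ξ * f = f + Pi.single j ((PowerSeries.X - 1) * f j) := fun f => funext fun i => by
    rcases eq_or_ne i j with rfl | hi
    · simp [hξj]; ring
    · simp [hξi i hi, Pi.single_eq_of_ne hi]
  let ev := fun i : Fin s => (Pi.evalAlgHom k (fun _ : Fin s => PowerSeries k) i).comp R.val
  have hmem : ∀ {I : Ideal ↥R} {n : ℕ} {i : Fin s},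
      Ideal.map (ev i) I = Ideal.span {PowerSeries.X ^ n} →
        ∀ f ∈ I, PowerSeries.X ^ n ∣ (f : Fin s → PowerSeries k) i := fun {I n i} h f hf =>
    Ideal.mem_span_singleton.mp (h ▸ Ideal.mem_map_of_mem (ev i) hf)
  -- the ideals of the components
  have hmap : ∀ I J : Ideal ↥R,
      (∀ f : ↥R, f ∈ J ↔ ∃ g ∈ I, ξ * g.1 = f.1) → (∀ g ∈ I, ξ * g.1 ∈ R) →
        ∀ i, Ideal.map (ev i) J = Ideal.span {ξ i} * Ideal.map (ev i) I := by
    intro I J hIJ hR i
    refine le_antisymm (Ideal.map_le_iff_le_comap.mpr fun f hf => ?_) ?_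
    · obtain ⟨g, hg, e⟩ := (hIJ f).mp hf
      have : ev i f = ξ i * ev i g := (congrFun e i).symm
      exact Ideal.mem_comap.mpr (this ▸
        Ideal.mul_mem_mul (Ideal.mem_span_singleton_self _) (Ideal.mem_map_of_mem _ hg))
    · rw [Ideal.span_singleton_mul_le_iff]
      intro z hz
      refine Submodule.span_induction (p := fun z _ => ξ i * z ∈ Ideal.map (ev i) J) ?_ (by simp)
        (fun x y _ _ hx hy => by rw [mul_add]; exact add_mem hx hy)
        (fun r x _ hx => by rw [smul_eq_mul, mul_left_comm]; exact Ideal.mul_mem_left _ r hx) hz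
      rintro _ ⟨g, hg, rfl⟩
      exact Ideal.mem_map_of_mem (ev i)
        (show (⟨ξ * g.1, hR g hg⟩ : ↥R) ∈ J from (hIJ _).mpr ⟨g, hg, rfl⟩)
  have hspan : ∀ i, Ideal.span {ξ i} * Ideal.span {PowerSeries.X ^ a i} =
      Ideal.span {PowerSeries.X ^ Function.update a j (a j + 1) i} := fun i => by
    rw [Ideal.span_singleton_mul_span_singleton]
    rcases eq_or_ne i j with rfl | hi
    · rw [hξj, Function.update_self, pow_succ']
    · rw [hξi i hi, Function.update_of_ne hi, one_mul]
  -- colengths
  let sub : Ideal ↥R → Submodule k (Fin s → PowerSeries k) :=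
    fun I => (I.restrictScalars k).map R.val.toLinearMap
  have hlen : ∀ I J : Ideal ↥R, sub J = (sub I).map μ →
      Module.length k (↥R ⧸ J) = Module.length k (↥R ⧸ I) + 1 := by
    intro I J h
    have hI := length_quot_sub R I
    have hJ := length_quot_sub R J
    have hμI := length_quot_map μ hμ (sub I)
    rw [← h, hI, hJ] at hμI
    rw [length_quot_range (k := k) j μ (fun f => rfl) hξ0 hξj hξi] at hμI
    set δ := Module.length k ((Fin s → PowerSeries k) ⧸ Subalgebra.toSubmodule R)
    have hδ : δ ≠ ⊤ := Module.length_ne_top_iff.mpr isFiniteLength_of_finite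
    exact WithTop.add_right_cancel hδ (hμI.trans (add_right_comm _ _ _))
  have hfr : ∀ (I : Ideal ↥R) (n : ℕ), Module.length k (↥R ⧸ I) = n →
      Module.Finite k (↥R ⧸ I) ∧ Module.finrank k (↥R ⧸ I) = n := fun I n h => by
    have : Module.Finite k (↥R ⧸ I) := finite_of_length_ne_top (by rw [h]; simp)
    refine ⟨this, ?_⟩
    rw [Module.length_eq_finrank] at h
    exact_mod_cast h
  constructor
  · rintro I ⟨hIf, hId, hIa⟩
    have hR : ∀ g ∈ I, ξ * g.1 ∈ R := fun g hg => by
      rw [hsub]
      exact R.add_mem g.2 (hcond _ ((hmem (hIa j) g hg).mul_left _))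
    let J : Ideal ↥R :=
      { carrier := {f | ∃ g ∈ I, ξ * g.1 = f.1}
        add_mem' := by
          rintro f f' ⟨g, hg, e⟩ ⟨g', hg', e'⟩
          exact ⟨g + g', add_mem hg hg', by simp [mul_add, e, e']⟩
        zero_mem' := ⟨0, zero_mem _, by simp⟩
        smul_mem' := by
          rintro r f ⟨g, hg, e⟩
          exact ⟨r * g, I.mul_mem_left r hg, by simp [mul_left_comm, e]⟩ }
    have hIJ : ∀ f : ↥R, f ∈ J ↔ ∃ g ∈ I, ξ * g.1 = f.1 := fun f => Iff.rfl
    have hJ : sub J = (sub I).map μ := by
      ext f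
      constructor
      · rintro ⟨f, ⟨g, hg, e⟩, rfl⟩; exact ⟨g.1, ⟨g, hg, rfl⟩, e⟩
      · rintro ⟨_, ⟨g, hg, rfl⟩, rfl⟩; exact ⟨⟨_, hR g hg⟩, ⟨g, hg, rfl⟩, rfl⟩
    have hl := hlen I J hJ
    rw [Module.length_eq_finrank k (↥R ⧸ I), hId] at hl
    refine ⟨J, ⟨(hfr J (d + 1) (by rw [hl]; simp)).1, (hfr J (d + 1) (by rw [hl]; simp)).2,
      fun i => ?_⟩, ?_⟩
    · exact ((hmap I J hIJ hR i).trans (by rw [hIa i])).trans (hspan i)
    · have := congrArg (fun M : Submodule k (Fin s → PowerSeries k) => SetLike.coe M) hJ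
      simpa [sub, μ, show ⇑(LinearMap.mulLeft k ξ) = (fun f => ξ * f) from rfl] using this
  · rintro J ⟨hJf, hJd, hJa⟩
    have hdiv : ∀ f ∈ J, PowerSeries.X ^ (a j + 1) ∣ (f : Fin s → PowerSeries k) j := fun f hf => by
      simpa using hmem (hJa j) f hf
    have hlift : ∀ f ∈ J, ∃ g : ↥R, ξ * g.1 = f.1 := by
      intro f hf
      obtain ⟨q, hq⟩ := hdiv f hf
      refine ⟨⟨f.1 + Pi.single j ((1 - PowerSeries.X) * (PowerSeries.X ^ a j * q)),
        R.add_mem f.2 (hcond _ ((dvd_mul_right _ q).mul_left _))⟩, funext fun i => ?_⟩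
      rcases eq_or_ne i j with rfl | hi
      · simp [hξj, hq, pow_succ']; ring
      · simp [hξi i hi, Pi.single_eq_of_ne hi]
    let I : Ideal ↥R :=
      { carrier := {g | ∃ f ∈ J, ξ * g.1 = f.1}
        add_mem' := by
          rintro g g' ⟨f, hf, e⟩ ⟨f', hf', e'⟩
          exact ⟨f + f', add_mem hf hf', by simp [mul_add, e, e']⟩
        zero_mem' := ⟨0, zero_mem _, by simp⟩
        smul_mem' := by
          rintro r g ⟨f, hf, e⟩
          exact ⟨r * f, J.mul_mem_left r hf, by simp [mul_left_comm, e]⟩ }
    have hR : ∀ g ∈ I, ξ * g.1 ∈ R := by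
      rintro g ⟨f, -, e⟩; rw [e]; exact f.2
    have hIJ : ∀ f : ↥R, f ∈ J ↔ ∃ g ∈ I, ξ * g.1 = f.1 := fun f => by
      refine ⟨fun hf => ?_, ?_⟩
      · obtain ⟨g, hg⟩ := hlift f hf; exact ⟨g, ⟨f, hf, hg⟩, hg⟩
      · rintro ⟨g, ⟨f', hf', e⟩, e'⟩
        rwa [show f = f' from Subtype.ext (e'.symm.trans e)]
    have hJ : sub J = (sub I).map μ := by
      ext f
      constructor
      · rintro ⟨f, hf, rfl⟩
        obtain ⟨g, hg, e⟩ := (hIJ f).mp hf
        exact ⟨g.1, ⟨g, hg, rfl⟩, e⟩
      · rintro ⟨_, ⟨g, hg, rfl⟩, rfl⟩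
        exact ⟨⟨_, hR g hg⟩, (hIJ _).mpr ⟨g, hg, rfl⟩, rfl⟩
    have hl := hlen I J hJ
    rw [Module.length_eq_finrank k (↥R ⧸ J), hJd, Nat.cast_add, Nat.cast_one] at hl
    have hl' := WithTop.add_right_cancel ENat.one_ne_top hl.symm
    refine ⟨I, ⟨(hfr I d hl').1, (hfr I d hl').2, fun i => ?_⟩, ?_⟩
    · refine (Ideal.span_singleton_mul_right_inj (hξ0 i)).mp ?_
      exact ((hmap I J hIJ hR i).symm.trans (hJa i)).trans (hspan i).symm
    · have := congrArg (fun M : Submodule k (Fin s → PowerSeries k) => SetLike.coe M) hJ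
      simpa [sub, μ, show ⇑(LinearMap.mulLeft k ξ) = (fun f => ξ * f) from rfl] using this

end Groth.Agent.S15149
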