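import Groth.Statements.S2206
import Groth.Agent.H25.DiagTor.Regular
import Groth.Agent.Lib.JacCrit.GeomRegular
import Mathlib.RingTheory.Smooth.Fiber

set_option autoImplicit false
universe u
open TensorProduct
open LCI

namespace Groth.Agent.S2206

/-- Let A be a Noetherian ring and B a flat A-algebra of finite type, viewed as an algebra over B
tensor_A B through the multiplication map. If B, as a module over B tensor_A B, has finite
Tor-dimension (the diagonal is a perfect ring map), then B is smooth over A. -/
theorem result {A B : Type u} [CommRing A] [CommRing B]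
    [Algebra A B] [IsNoetherianRing A] [Algebra.FiniteType A B] [Module.Flat A B]
    [Algebra (B ⊗[A] B) B]
    (hmul : ∀ x y : B, algebraMap (B ⊗[A] B) B (x ⊗ₜ[A] y) = x * y)
    (h : DRing.HasFiniteTorDim (B ⊗[A] B) B) : Algebra.Smooth A B := by
  haveI : IsNoetherianRing B := Algebra.FiniteType.isNoetherianRing A B
  haveI : IsNoetherianRing (B ⊗[A] B) :=
    Algebra.FiniteType.isNoetherianRing B (B ⊗[A] B)
  haveI : Algebra.FinitePresentation A B := Algebra.FinitePresentation.of_finiteType.mp inferInstance
  refine Algebra.Smooth.of_formallySmooth_fiber fun p _ => ?_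
  suffices h' : CAlg.IsGeometricallyRegular p.ResidueField (p.Fiber B) from
    ((Lib.JacCrit.GeomRegular.smooth_iff_isGeometricallyRegular p.ResidueField).mpr h').1
  intro k _ _ _
  letI : Algebra A k := ((algebraMap p.ResidueField k).comp (algebraMap A p.ResidueField)).toAlgebra
  haveI : IsScalarTower A p.ResidueField k := IsScalarTower.of_algebraMap_eq fun _ => rfl
  haveI : IsNoetherianRing (k ⊗[A] B) := Algebra.FiniteType.isNoetherianRing k _
  haveI : IsRegularRing (k ⊗[A] B) :=
    isRegularRing_iff.mpr fun Q _ => H25.DiagTor.regular_fibre hmul h k Q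
  exact IsRegularRing.of_ringEquiv
    (Algebra.TensorProduct.cancelBaseChange A p.ResidueField p.ResidueField k B).symm.toRingEquiv

end Groth.Agent.S2206
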