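import Groth.Statements.S1515
import Groth.Agent.H54.SmoothDiagScheme
import Groth.Agent.H54.PerfMor
import Groth.Agent.H54.KoszulPerf
import Groth.Agent.S2206
import Mathlib.AlgebraicGeometry.Morphisms.Smooth
-- import your own Groth.Agent.* helpers here

set_option autoImplicit false
universe u
attribute [local instance] HasDerivedCategory.standard
open FlatMor

namespace Groth.Agent.S1515

open AlgebraicGeometry CategoryTheory CategoryTheory.Limits in
theorem smooth_of_perfect {X Y : Scheme.{u}} (f : X ⟶ Y) [IsSeparated f] [LocallyOfFiniteType f]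
    [Flat f] [IsLocallyNoetherian Y] (h : MoreMor.IsPerfectMor (pullback.diagonal f)) : Smooth f := by
  rw [HasRingHomProperty.iff_appLE (P := @Smooth)]
  rintro ⟨V, hV⟩ ⟨U, hU⟩ e
  let A : Type u := Γ(Y, V)
  let B : Type u := Γ(X, U)
  let : Algebra A B := (f.appLE V U e).hom.toAlgebra
  have : IsNoetherianRing A := IsLocallyNoetherian.component_noetherian ⟨V, hV⟩
  have : Algebra.FiniteType A B := HasRingHomProperty.appLE @LocallyOfFiniteType f ‹_› ⟨V, hV⟩ ⟨U, hU⟩ e
  have : Module.Flat A B := f.flat_appLE hV hU e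
  let E := TensorProduct A B B
  let μ : E →+* B := (Algebra.TensorProduct.lmul' A (S := B)).toRingHom
  let iU : Spec (CommRingCat.of B) ⟶ X := hU.fromSpec
  have hsq : Spec.map (CommRingCat.ofHom (algebraMap A B)) ≫ hV.fromSpec = iU ≫ f :=
    IsAffineOpen.SpecMap_appLE_fromSpec f hV hU e
  let m := pullback.map (Spec.map (CommRingCat.ofHom (algebraMap A B)))
    (Spec.map (CommRingCat.ofHom (algebraMap A B))) f f iU iU hV.fromSpec hsq hsq
  let j : Spec (CommRingCat.of E) ⟶ pullback f f := (pullbackSpecIso A B B).inv ≫ m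
  have hjfst : j ≫ pullback.fst f f = Spec.map (CommRingCat.ofHom
      Algebra.TensorProduct.includeLeftRingHom) ≫ iU := by
    simp only [j, m, Category.assoc, pullback.map, pullback.lift_fst]
    rw [pullbackSpecIso_inv_fst_assoc]
  have hjsnd : j ≫ pullback.snd f f = Spec.map (CommRingCat.ofHom
      (Algebra.TensorProduct.includeRight (R := A) (A := B) (B := B)).toRingHom) ≫ iU := by
    simp only [j, m, Category.assoc, pullback.map, pullback.lift_snd]
    rw [pullbackSpecIso_inv_snd_assoc]
    rfl
  have hH : iU ≫ pullback.diagonal f = Spec.map (CommRingCat.ofHom μ) ≫ j := by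
    have e1 : μ.comp Algebra.TensorProduct.includeLeftRingHom = RingHom.id B :=
      RingHom.ext fun b => mul_one b
    have e2 : μ.comp (Algebra.TensorProduct.includeRight (R := A) (A := B) (B := B)).toRingHom =
        RingHom.id B := RingHom.ext fun b => one_mul b
    apply pullback.hom_ext
    · rw [Category.assoc, pullback.diagonal_fst, Category.comp_id, Category.assoc, hjfst,
        ← Spec.map_comp_assoc, ← CommRingCat.ofHom_comp, e1, CommRingCat.ofHom_id, Spec.map_id,
        Category.id_comp]
    · rw [Category.assoc, pullback.diagonal_snd, Category.comp_id, Category.assoc, hjsnd,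
        ← Spec.map_comp_assoc, ← CommRingCat.ofHom_comp, e2, CommRingCat.ofHom_id, Spec.map_id,
        Category.id_comp]
  have hH' : pullback.diagonal f ⁻¹ᵁ j.opensRange = iU.opensRange := by
    ext y
    simp only [Scheme.Hom.coe_preimage, Scheme.Hom.coe_opensRange, Set.mem_preimage, Set.mem_range]
    constructor
    · rintro ⟨z, hz⟩
      refine ⟨Spec.map (CommRingCat.ofHom Algebra.TensorProduct.includeLeftRingHom) z, ?_⟩
      rw [← Scheme.Hom.comp_apply, ← hjfst, Scheme.Hom.comp_apply, hz, ← Scheme.Hom.comp_apply,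
        pullback.diagonal_fst]
      rfl
    · rintro ⟨z, rfl⟩
      exact ⟨Spec.map (CommRingCat.ofHom μ) z, (congrArg (fun m => m z) hH).symm⟩
  have hpb := (IsOpenImmersion.isPullback (Spec.map (CommRingCat.ofHom μ)) iU j (pullback.diagonal f)
    hH hH').flip
  have hμ : Groth.Agent.H54.PerfMor.Qp μ :=
    (HasRingHomProperty.Spec_iff (P := Groth.Agent.H54.PerfMor.perfMor)).mp
      (IsZariskiLocalAtTarget.of_isPullback (P := Groth.Agent.H54.PerfMor.perfMor) hpb h)
  let : Algebra E B := μ.toAlgebra
  exact (Groth.Agent.S2206.result (A := A) (B := B) (fun x y => Algebra.TensorProduct.lmul'_apply_tmul x y)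
    hμ.2 :)

open AlgebraicGeometry CategoryTheory Limits in
/-- (1) ⇔ (2) ⇔ (4): let f : X → Y be separated and of finite type between locally Noetherian schemes,
with diagonal Δ (a closed immersion). Then f is smooth iff f is flat and Δ is a regular closed
immersion, iff f is flat and Δ is a perfect morphism. -/
theorem result {X Y : Scheme.{u}} (f : X ⟶ Y) [IsSeparated f] [LocallyOfFiniteType f] [QuasiCompact f] [IsLocallyNoetherian X] [IsLocallyNoetherian Y] :
    (Smooth f ↔ Flat f ∧ Mor2.IsRegularClosedImmersion (pullback.diagonal f)) ∧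
    (Smooth f ↔ Flat f ∧ MoreMor.IsPerfectMor (pullback.diagonal f)) := by
  have key : ∀ g : X ⟶ Y, IsSeparated g → LocallyOfFiniteType g → Flat g →
      MoreMor.IsPerfectMor (pullback.diagonal g) → Smooth g := fun g _ _ _ h =>
    smooth_of_perfect g h
  refine ⟨⟨fun h => ⟨inferInstance, Groth.Agent.H54.SmoothDiagScheme.isRegularClosedImmersion_diagonal f⟩,
      fun h => key f ‹_› ‹_› h.1
        (Groth.Agent.H54.KoszulPerf.mor_of_regularClosedImmersion _ h.2)⟩,
    ⟨fun h => ⟨inferInstance, Groth.Agent.H54.KoszulPerf.mor_of_regularClosedImmersion _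
      (Groth.Agent.H54.SmoothDiagScheme.isRegularClosedImmersion_diagonal f)⟩,
      fun h => key f ‹_› ‹_› h.1 h.2⟩⟩

end Groth.Agent.S1515
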