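import Groth.Statements.S15150
import Mathlib.RingTheory.Spectrum.Prime.FreeLocus
import Mathlib.RingTheory.Artinian.Ring
import Mathlib.RingTheory.Finiteness.Projective
import Mathlib.RingTheory.LocalRing.ResidueField.Ideal

set_option autoImplicit false
universe u
open HilbZeta

namespace Groth.Agent.S15150

open scoped TensorProduct

theorem eq_zero_of_residueFields {A : Type u} [CommRing A] [IsReduced A] {M : Type u} [AddCommGroup M]
    [Module A M] [Module.Finite A M] [Module.Projective A M] {x : M}
    (h : ∀ p : PrimeSpectrum A, (1 : p.asIdeal.ResidueField) ⊗ₜ[A] x = 0) : x = 0 := by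
  obtain ⟨n, f, g, -, hg, -⟩ := Module.Finite.exists_comp_eq_id_of_projective A M
  refine hg (Eq.trans ?_ (map_zero g).symm)
  funext i
  have : IsNilpotent (g x i) := by
    rw [← mem_nilradical, nilradical_eq_sInf]
    refine Ideal.mem_sInf.mpr fun {J} hJ => ?_
    haveI : J.IsPrime := hJ
    have hp := congrArg (fun t => TensorProduct.rid A _ (((LinearMap.proj i).comp g).baseChange
      J.ResidueField t)) (h ⟨J, hJ⟩)
    rw [LinearMap.baseChange_tmul, map_zero, map_zero, TensorProduct.rid_tmul, Algebra.smul_def,
      mul_one] at hp
    exact (Ideal.algebraMap_residueField_eq_zero (I := J)).mp hp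
  exact this.eq_zero

theorem pow_finrank_eq_bot {K B : Type u} [Field K] [CommRing B] [Algebra K B] [Module.Finite K B]
    {J : Ideal B} (hJ : J ≤ nilradical B) {d : ℕ} (hd : Module.finrank K B ≤ d) : J ^ d = ⊥ := by
  have : IsArtinianRing B := isArtinian_of_tower K inferInstance
  obtain ⟨n, hn⟩ := IsArtinianRing.isNilpotent_nilradical (R := B)
  have hn' : J ^ n = ⊥ := eq_bot_iff.mpr ((Ideal.pow_right_mono hJ n).trans hn.le)
  have key : ∀ i, J ^ i = ⊥ ∨
      Module.finrank K ((J ^ i).restrictScalars K) + i ≤ Module.finrank K B := by
    intro i
    induction i with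
    | zero => exact Or.inr (by simpa using Submodule.finrank_le _)
    | succ i ih =>
      by_cases h : J ^ (i + 1) = ⊥
      · exact Or.inl h
      rcases ih with h0 | hle
      · exact (h (by rw [pow_succ, h0, Ideal.bot_mul])).elim
      refine Or.inr ?_
      have hlt : (J ^ (i + 1)).restrictScalars K < (J ^ i).restrictScalars K := by
        refine lt_of_le_of_ne (Ideal.pow_le_pow_right i.le_succ) fun he => h ?_
        have he' : J ^ (i + 1) = J ^ i := Submodule.restrictScalars_injective K _ _ he
        have : ∀ j, J ^ (i + j) = J ^ i := fun j => by
          induction j with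
          | zero => rfl
          | succ j ihj => rw [← add_assoc, pow_succ, ihj, ← pow_succ, he']
        rw [he', ← this n, pow_add, hn', Ideal.mul_bot]
      have := Submodule.finrank_lt_finrank_of_lt hlt
      omega
  rcases key d with h | h
  · exact h
  · have h0 : Module.finrank K ((J ^ d).restrictScalars K) = 0 := by omega
    exact (Submodule.restrictScalars_eq_bot_iff K B B).1 (Submodule.finrank_eq_zero.mp h0)

theorem finrank_residueField {A : Type u} [CommRing A] {M : Type u} [AddCommGroup M] [Module A M]
    [Module.Finite A M] [Module.Projective A M] (p : PrimeSpectrum A) :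
    Module.finrank p.asIdeal.ResidueField (p.asIdeal.ResidueField ⊗[A] M) =
      Module.rankAtStalk (R := A) M p := by
  rw [Module.rankAtStalk_eq_finrank_tensorProduct]
  have : Module.Free (Localization.AtPrime p.asIdeal) (Localization.AtPrime p.asIdeal ⊗[A] M) :=
    Module.free_of_flat_of_isLocalRing
  rw [← Module.finrank_baseChange (R := p.asIdeal.ResidueField) (S := Localization.AtPrime p.asIdeal)]
  exact (TensorProduct.AlgebraTensorModule.cancelBaseChange A (Localization.AtPrime p.asIdeal)
    p.asIdeal.ResidueField p.asIdeal.ResidueField M).finrank_eq.symm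


/-- Let A be a reduced commutative ring, S an A-algebra together with an A-algebra homomorphism π : S →
A (a section of Spec S → Spec A), with kernel m, and I an ideal of S such that S/I is a finite
projective A-module of constant rank d and m is contained in the radical of I (the finite flat
subscheme Spec S/I of degree d lies, as a set, on the section). Then m^d ⊆ I: the subscheme lies in
the (d−1)-st infinitesimal neighbourhood of the section. (The published statement is for a closed
subscheme, flat and proper of degree d over a Noetherian base, of a family of reduced curve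
singularities with a section, with no reducedness assumption on the base; over the dual numbers k[ε]
the ideal (x − ε) of k[ε][x] has quotient free of rank one and radical containing x but does not
contain x, so the base is taken reduced here, and the statement is given in its affine form, to
which the argument reduces at once; the curve hypotheses play no role and are dropped; the condition
that Spec S/I lies set-theoretically on the section, which the published argument deduces from
properness of Z inside the germ, is a hypothesis here.) -/
theorem result (A : Type u) [CommRing A] [IsReduced A]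
    (S : Type u) [CommRing S] [Algebra A S] (π : S →ₐ[A] A) (I : Ideal S) (d : ℕ)
    [Module.Finite A (S ⧸ I)] [Module.Projective A (S ⧸ I)]
    (hrank : ∀ p : PrimeSpectrum A, Module.rankAtStalk (R := A) (S ⧸ I) p = d)
    (hsupp : RingHom.ker π ≤ I.radical) :
    RingHom.ker π ^ d ≤ I := by
  rw [← Ideal.mk_ker (I := I)]
  intro y hy
  rw [RingHom.mem_ker]
  refine eq_zero_of_residueFields (A := A) fun p => ?_
  let K := p.asIdeal.ResidueField
  let θ : S →+* K ⊗[A] (S ⧸ I) :=
    (Algebra.TensorProduct.includeRight (R := A) (A := K) (B := S ⧸ I)).toRingHom.comp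
      (Ideal.Quotient.mk I)
  show θ y = 0
  have hd : Module.finrank K (K ⊗[A] (S ⧸ I)) = d := by rw [finrank_residueField, hrank]
  have h1 : (RingHom.ker π).map θ ≤ nilradical (K ⊗[A] (S ⧸ I)) := by
    rw [Ideal.map_le_iff_le_comap]
    intro x hx
    obtain ⟨n, hn⟩ := hsupp hx
    refine ⟨n, ?_⟩
    rw [← map_pow, RingHom.comp_apply, Ideal.Quotient.eq_zero_iff_mem.mpr hn, map_zero]
    exact Set.mem_singleton _
  have h2 : y ∈ (RingHom.ker π) ^ d := hy
  have h3 : θ y ∈ ((RingHom.ker π).map θ) ^ d := by
    rw [← Ideal.map_pow]; exact Ideal.mem_map_of_mem θ h2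
  rw [pow_finrank_eq_bot h1 hd.le] at h3
  exact h3

end Groth.Agent.S15150
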