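import Groth.Statements.S15151
import Mathlib.AlgebraicGeometry.Morphisms.SchemeTheoreticallyDominant
import Mathlib.RingTheory.Flat.TorsionFree

set_option autoImplicit false
universe u
open CategoryTheory AlgebraicGeometry
open HilbZeta

namespace Groth.Agent.S15151
set_option backward.isDefEq.respectTransparency false

/-- Let k be a field, and let f : X → Y and g : Y → Spec k[t] be morphisms of schemes with f
quasi-compact and with zero kernel ideal sheaf (Y is the scheme-theoretic image of f), such that the
composite X → Spec k[t] is flat. Then g is flat; in particular a k[t]-subalgebra of a flat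
k[t]-algebra is flat. (The published statement has no quasi-compactness hypothesis on f and is over
an algebraically closed field; this row assumes f quasi-compact and allows any field.) -/
theorem result (k : Type u) [Field k]
    (X Y : Scheme.{u}) (f : X ⟶ Y) (g : Y ⟶ Spec (CommRingCat.of (Polynomial k)))
    [QuasiCompact f] (hker : f.ker = ⊥) [Flat (f ≫ g)] : Flat g := by
  haveI : IsSchemeTheoreticallyDominant f := ⟨hker⟩
  have := HasRingHomProperty.HasAffineProperty @Flat
  rw [HasAffineProperty.iff_of_isAffine (P := @Flat)]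
  intro V
  have key : ∀ (a : Γ(Spec (CommRingCat.of (Polynomial k)), ⊤)) (s : Γ(Y, V.1)),
      a ≠ 0 → (g.appLE ⊤ V.1 le_top) a * s = 0 → s = 0 := by
    intro a s ha hs
    refine f.app_injective V.1 (Eq.trans ?_ (map_zero _).symm)
    refine X.IsSheaf.section_ext fun x hx => ?_
    obtain ⟨W, hW, hxW, hWV⟩ := exists_isAffineOpen_mem_and_subset hx
    refine ⟨W, hWV, hxW, ?_⟩
    rw [map_zero]
    have hfl := HasRingHomProperty.appLE @Flat (f ≫ g) inferInstance ⟨⊤, isAffineOpen_top _⟩
      ⟨W, hW⟩ le_top
    letI := ((f ≫ g).appLE ⊤ W le_top).hom.toAlgebra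
    haveI : Module.Flat Γ(Spec (CommRingCat.of (Polynomial k)), ⊤) Γ(X, W) :=
      RingHom.flat_algebraMap_iff.mp hfl
    haveI : IsDomain Γ(Spec (CommRingCat.of (Polynomial k)), ⊤) :=
      (Scheme.ΓSpecIso (CommRingCat.of (Polynomial k))).commRingCatIsoToRingEquiv.toMulEquiv.isDomain
    have h := congrArg ((f.appLE V.1 W hWV).hom) hs
    rw [map_mul, map_zero, ← CommRingCat.comp_apply, Scheme.Hom.appLE_comp_appLE] at h
    have hreg := (IsRegular.of_ne_zero ha).left.isSMulRegular.of_flat (S := Γ(X, W))
    refine Eq.trans ?_ (hreg (show a • (f.appLE V.1 W hWV).hom s = a • 0 by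
      rw [smul_zero, Algebra.smul_def]; exact h))
    simp [Scheme.Hom.appLE]
  let ε := (Scheme.ΓSpecIso (CommRingCat.of (Polynomial k))).inv
  have hb : Function.Bijective ε.hom := ConcreteCategory.bijective_of_isIso _
  have h2 : (ε ≫ g.appLE ⊤ V.1 le_top).hom.Flat := by
    letI := (ε ≫ g.appLE ⊤ V.1 le_top).hom.toAlgebra
    refine RingHom.flat_algebraMap_iff.mpr ?_
    rw [Module.Flat.flat_iff_torsion_eq_bot_of_isBezout, eq_bot_iff]
    rintro s ⟨⟨a, ha⟩, hs⟩
    have ha' : a ≠ 0 := nonZeroDivisors.ne_zero ha
    exact key (ε a) s (fun h => ha' (hb.1 (h.trans (map_zero _).symm))) hs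
  have := RingHom.Flat.comp (RingHom.Flat.of_bijective
    (ConcreteCategory.bijective_of_isIso (Scheme.ΓSpecIso (CommRingCat.of (Polynomial k))).hom)) h2
  rwa [← CommRingCat.hom_comp, Iso.hom_inv_id_assoc] at this

end Groth.Agent.S15151
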