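import Groth.Statements.S15152
import Mathlib

set_option autoImplicit false
universe u
open HilbZeta

namespace Groth.Agent.S15152

variable {k : Type u} [Field k] {s : ℕ}

lemma order_sub_trunc (f : PowerSeries k) (n : ℕ) :
    ((n : ℕ) : ℕ∞) ≤ (f - ((PowerSeries.trunc n f : Polynomial k) : PowerSeries k)).order := by
  refine PowerSeries.nat_le_order _ _ fun j hj => ?_
  rw [map_sub, Polynomial.coeff_coe, PowerSeries.coeff_trunc, if_pos hj, sub_self]


/-- Let k be a field, s a natural number and R a k-subalgebra of the product of s copies of the power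
series ring k[[x]], of finite codimension δ over k and local with residue field k (all components of
an element of R have the same constant term); write v_i for the x-adic order of the i-th component
of an s-tuple, and let c = (c_1, …, c_s) be the conductor exponents, so that an s-tuple f satisfies
f·g ∈ R for every s-tuple g exactly when v_i(f) ≥ c_i for all i (over an algebraically closed field
such an R is precisely the completed local ring of a reduced curve singularity having s branches
sitting inside its normalisation, δ is its delta invariant and the conductor ideal is generated by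
the x_i^{c_i}). Let A be the k-subalgebra of the product of s polynomial rings k[x] consisting of
the tuples whose image in the power series product lies in R, and m₀ its ideal of tuples with zero
constant terms. Then: A is of finite type over k and has no idempotents besides 0 and 1; the product
of polynomial rings is a finite A-module, and for some N every product of N elements of m₀
multiplies all of it into A; every element of R is approximated to any x-adic order by elements of
A; and for every N there is an M such that every element of A whose components are all divisible by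
x^M lies in m₀^N. In words: Y = Spec A is a connected affine curve whose normalisation is the
disjoint union of s affine lines and is an isomorphism away from the origin, and the completed local
ring of Y at the origin is R, compatibly with the inclusion of the polynomial product in the power
series product. (The published statement asserts the existence of such a curve Y and is over an
algebraically closed field; this row names Y and allows any field.) -/
theorem result (k : Type u) [Field k] (s : ℕ)
    (R : Subalgebra k (Fin s → PowerSeries k))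
    (hfin : Module.Finite k ((Fin s → PowerSeries k) ⧸ Subalgebra.toSubmodule R))
    (hloc : ∀ f ∈ R, ∀ i j : Fin s, PowerSeries.constantCoeff (f i) = PowerSeries.constantCoeff (f j))
    (c : Fin s → ℕ)
    (hc : ∀ f : Fin s → PowerSeries k,
      (∀ g : Fin s → PowerSeries k, g * f ∈ R) ↔ ∀ i, ((c i : ℕ) : ℕ∞) ≤ (f i).order)
    (A : Subalgebra k (Fin s → Polynomial k))
    (hA : ∀ g : Fin s → Polynomial k, g ∈ A ↔ (fun i => ((g i : Polynomial k) : PowerSeries k)) ∈ R) :
    Algebra.FiniteType k ↥A ∧
    (∀ e ∈ A, e * e = e → e = 0 ∨ e = 1) ∧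
    Module.Finite ↥A (Fin s → Polynomial k) ∧
    (∃ N : ℕ, ∀ g : Fin N → (Fin s → Polynomial k),
      (∀ n, g n ∈ A ∧ ∀ i, (g n i).coeff 0 = 0) → ∀ p : Fin s → Polynomial k, p * ∏ n, g n ∈ A) ∧
    (∀ f ∈ R, ∀ N : ℕ, ∃ g ∈ A, ∀ i : Fin s, (N : ℕ∞) ≤ (f i - ((g i : Polynomial k) : PowerSeries k)).order) ∧
    (∀ N : ℕ, ∃ M : ℕ, ∀ g : ↥A, (∀ i : Fin s, Polynomial.X ^ M ∣ (g : Fin s → Polynomial k) i) →
      g ∈ (Ideal.span {h : ↥A | ∀ i : Fin s, ((h : Fin s → Polynomial k) i).coeff 0 = 0}) ^ N) := by
  classical
  let C := ∑ i, c i
  have hCle : ∀ i, c i ≤ C := fun i => Finset.single_le_sum (fun j _ => Nat.zero_le (c j)) (Finset.mem_univ i)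
  have hcond : ∀ f : Fin s → PowerSeries k, (∀ i, ((C : ℕ) : ℕ∞) ≤ (f i).order) → f ∈ R := by
    intro f hf
    have := (hc f).mpr (fun i => le_trans (by exact_mod_cast hCle i) (hf i)) 1
    simpa using this
  have hXA : ∀ g : Fin s → Polynomial k, (∀ i, Polynomial.X ^ C ∣ g i) → g ∈ A := by
    intro g hg
    rw [hA]
    refine hcond _ fun i => ?_
    obtain ⟨w, hw⟩ := hg i
    rw [hw, Polynomial.coe_mul, Polynomial.coe_pow, Polynomial.coe_X, PowerSeries.order_mul, PowerSeries.order_X_pow]
    exact le_self_add
  have hfinite : Module.Finite ↥A (Fin s → Polynomial k) := by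
    let G : Finset (Fin s → Polynomial k) := insert 1 ((Finset.univ ×ˢ Finset.range C).image fun x : Fin s × ℕ => Pi.single x.1 (Polynomial.X ^ x.2))
    refine ⟨⟨G, ?_⟩⟩
    rw [eq_top_iff]
    intro p _
    have hlow : ∀ (i : Fin s) (j : ℕ) (x : k), j < C → (Pi.single i (Polynomial.C x * Polynomial.X ^ j) : Fin s → Polynomial k) ∈ Submodule.span ↥A (G : Set (Fin s → Polynomial k)) := by
      intro i j x hj
      have he : (Pi.single i (Polynomial.C x * Polynomial.X ^ j) : Fin s → Polynomial k) =
          (algebraMap k ↥A x) • (Pi.single i (Polynomial.X ^ j) : Fin s → Polynomial k) := by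
        rw [algebraMap_smul]
        funext l
        rcases eq_or_ne l i with rfl | hne
        · simp [Polynomial.smul_eq_C_mul]
        · simp [Pi.single_eq_of_ne hne]
      rw [he]
      refine Submodule.smul_mem _ _ (Submodule.subset_span ?_)
      simp only [G, Finset.coe_insert, Finset.coe_image, Set.mem_insert_iff, Set.mem_image]
      exact Or.inr ⟨(i, j), by simp [hj], rfl⟩
    have hhigh : (fun i => Polynomial.X ^ C * Polynomial.divByMonic (p i) (Polynomial.X ^ C)) ∈ Submodule.span ↥A (G : Set (Fin s → Polynomial k)) := by
      have := Submodule.smul_mem (Submodule.span ↥A (G : Set (Fin s → Polynomial k)))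
        (⟨_, hXA (fun i => Polynomial.X ^ C * Polynomial.divByMonic (p i) (Polynomial.X ^ C)) fun i => dvd_mul_right _ _⟩ : ↥A)
        (Submodule.subset_span (show (1 : Fin s → Polynomial k) ∈ (G : Set (Fin s → Polynomial k)) by simp [G]))
      simpa [Subalgebra.smul_def] using this
    have hp : p = (∑ i, ∑ j ∈ Finset.range C, Pi.single i (Polynomial.C ((p i).coeff j) * Polynomial.X ^ j)) +
        fun i => Polynomial.X ^ C * Polynomial.divByMonic (p i) (Polynomial.X ^ C) := by
      funext l
      rw [Pi.add_apply, Finset.sum_apply, Finset.sum_eq_single l (fun i _ hne => by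
        rw [Finset.sum_apply]; exact Finset.sum_eq_zero fun j _ => Pi.single_eq_of_ne (Ne.symm hne) _) (by simp)]
      rw [Finset.sum_apply]
      simp only [Pi.single_eq_same]
      refine Polynomial.ext fun n => ?_
      have hd := Polynomial.modByMonic_add_div (p l) (Polynomial.X ^ C)
      have hdeg := Polynomial.degree_modByMonic_lt (p l) (Polynomial.monic_X_pow (R := k) C)
      rw [Polynomial.degree_X_pow] at hdeg
      rw [Polynomial.coeff_add, Polynomial.finsetSum_coeff]
      simp only [Polynomial.coeff_C_mul, Polynomial.coeff_X_pow, mul_ite, mul_one, mul_zero, Finset.sum_ite_eq, Finset.mem_range]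
      by_cases hn : n < C
      · rw [if_pos hn, Polynomial.coeff_X_pow_mul', if_neg (not_le.mpr hn), add_zero]
      · rw [if_neg hn, zero_add]
        conv_lhs => rw [← hd]
        rw [Polynomial.coeff_add, Polynomial.coeff_eq_zero_of_degree_lt (lt_of_lt_of_le hdeg (by exact_mod_cast not_lt.mp hn)), zero_add]
    rw [hp]
    exact Submodule.add_mem _ (Submodule.sum_mem _ fun i _ => Submodule.sum_mem _ fun j hj => hlow i j _ (Finset.mem_range.mp hj)) hhigh
  refine ⟨?_, ?_, hfinite, ?_, ?_, ?_⟩
  · exact ⟨(Subalgebra.fg_top A).mpr (by
      have := fg_of_fg_of_fg k ↥A (Fin s → Polynomial k) (Algebra.FiniteType.out) hfinite.fg_top Subtype.val_injective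
      exact (Subalgebra.fg_top A).mp this)⟩
  · intro e he hee
    have hi : ∀ i, e i = 0 ∨ e i = 1 := fun i => by
      have h1 : e i * e i = e i := congrFun hee i
      rcases eq_or_ne (e i) 0 with h | h
      · exact Or.inl h
      · exact Or.inr (mul_right_cancel₀ h (by rw [h1, one_mul]))
    have hconst := fun i j => hloc _ ((hA e).mp he) i j
    by_cases hex : ∃ i, e i = 1
    · obtain ⟨i, hi1⟩ := hex
      refine Or.inr (funext fun j => (hi j).resolve_left fun hj0 => ?_)
      have := hconst i j
      simp [hi1, hj0] at this
    · exact Or.inl (funext fun j => (hi j).resolve_right fun hj1 => hex ⟨j, hj1⟩)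
  · refine ⟨C, fun g hg p => hXA _ fun i => ?_⟩
    rw [Pi.mul_apply, Finset.prod_apply]
    refine Dvd.dvd.mul_left ?_ _
    have h1 : ∏ _n : Fin C, (Polynomial.X : Polynomial k) ∣ ∏ n, g n i :=
      Finset.prod_dvd_prod_of_dvd _ _ fun n _ => Polynomial.X_dvd_iff.mpr ((hg n).2 i)
    simpa using h1
  · intro f hf N
    refine ⟨fun i => PowerSeries.trunc (max N C) (f i), ?_, fun i => le_trans (by exact_mod_cast le_max_left N C) (order_sub_trunc (f i) _)⟩
    rw [hA]
    have h1 : (fun i => f i - ((PowerSeries.trunc (max N C) (f i) : Polynomial k) : PowerSeries k)) ∈ R :=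
      hcond _ fun i => le_trans (by exact_mod_cast le_max_right N C) (order_sub_trunc (f i) _)
    have h2 := sub_mem hf h1
    convert h2 using 1
    funext i
    simp
  · intro N
    refine ⟨(C + 1) * N, fun g hg => ?_⟩
    rcases Nat.eq_zero_or_pos N with rfl | hN
    · simp
    choose w hw using hg
    set m0 : Ideal ↥A := Ideal.span {h : ↥A | ∀ i : Fin s, ((h : Fin s → Polynomial k) i).coeff 0 = 0} with hm0
    let t : ↥A := ⟨fun _ => Polynomial.X ^ (C + 1), hXA _ fun i => pow_dvd_pow _ (Nat.le_succ C)⟩
    let y : ↥A := ⟨fun i => Polynomial.X ^ (C + 1) * w i, hXA _ fun i => dvd_mul_of_dvd_left (pow_dvd_pow _ (Nat.le_succ C)) _⟩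
    have ht : t ∈ m0 := Ideal.subset_span fun i => by simp [t]
    have hy : y ∈ m0 := Ideal.subset_span fun i => by simp [y, Polynomial.coeff_X_pow_mul']
    obtain ⟨M, rfl⟩ : ∃ M, N = M + 1 := ⟨N - 1, by omega⟩
    have he : g = t ^ M * y := by
      refine Subtype.ext (funext fun i => ?_)
      simp only [t, y, MulMemClass.coe_mul, SubmonoidClass.coe_pow, Pi.mul_apply, Pi.pow_apply, hw i]
      ring
    rw [he, pow_succ]
    exact Ideal.mul_mem_mul (Ideal.pow_mem_pow ht M) hy


end Groth.Agent.S15152
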