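import Groth.Statements.S15153
import Mathlib.RingTheory.Flat.EquationalCriterion
import Mathlib.RingTheory.Finiteness.Projective
import Mathlib.RingTheory.Spectrum.Prime.Noetherian
import Mathlib.RingTheory.Spectrum.Prime.Topology
import Mathlib.Topology.Constructible
import Mathlib.RingTheory.LocalRing.ResidueField.Ideal
import Mathlib.LinearAlgebra.Matrix.Rank

set_option autoImplicit false
universe u
open TensorProduct
open HilbZeta

namespace Groth.Agent.S15153

set_option linter.style.haveILetI false
theorem le_finrank_span_iff {K : Type*} [Field K] {ι κ : Type*} [Fintype ι] [Finite κ]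
    (w : κ → ι → K) (n : ℕ) :
    n ≤ Module.finrank K (Submodule.span K (Set.range w)) ↔
      ∃ (f : Fin n → κ) (g : Fin n → ι), (Matrix.of fun a b => w (f a) (g b)).det ≠ 0 := by
  classical
  constructor
  · intro h
    obtain ⟨γ, a, ha, hspan, hli⟩ := exists_linearIndependent' K w
    haveI : Fintype γ := @Fintype.ofFinite _ (Finite.of_injective a ha)
    rw [← hspan, finrank_span_eq_card hli] at h
    obtain ⟨e⟩ := Function.Embedding.nonempty_of_card_le
      (α := Fin n) (β := γ) (by rwa [Fintype.card_fin])
    let Mx : Matrix (Fin n) ι K := Matrix.of fun b c => w (a (e b)) c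
    have hM : LinearIndependent K Mx.row := hli.comp e e.injective
    have hr : Module.finrank K (Submodule.span K (Set.range Mx.col)) = n := by
      rw [← Matrix.rank_eq_finrank_span_cols, hM.rank_matrix, Fintype.card_fin]
    obtain ⟨γ', g, hg, hspan', hli'⟩ := exists_linearIndependent' K Mx.col
    haveI : Fintype γ' := @Fintype.ofFinite _ (Finite.of_injective g hg)
    rw [← hspan', finrank_span_eq_card hli'] at hr
    let e' : Fin n ≃ γ' := (Fintype.equivFinOfCardEq hr).symm
    refine ⟨fun b => a (e b), fun c => g (e' c), ?_⟩
    have h2 : LinearIndependent K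
        (Matrix.of fun b c => w (a (e b)) (g (e' c))).transpose.row := hli'.comp e' e'.injective
    rw [← Matrix.det_transpose]
    exact ((Matrix.isUnit_iff_isUnit_det _).mp
      (Matrix.linearIndependent_rows_iff_isUnit.mp h2)).ne_zero
  · rintro ⟨f, g, hd⟩
    have h1 := Matrix.linearIndependent_rows_iff_isUnit.mpr
      ((Matrix.isUnit_iff_isUnit_det _).mpr (isUnit_iff_ne_zero.mpr hd))
    have h2 : LinearIndependent K (w ∘ f) :=
      LinearIndependent.of_comp (LinearMap.funLeft K K g) h1
    calc n = Module.finrank K (Submodule.span K (Set.range (w ∘ f))) := by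
          rw [finrank_span_eq_card h2, Fintype.card_fin]
      _ ≤ _ := Submodule.finrank_mono (Submodule.span_mono (Set.range_comp_subset_range f w))

theorem isOpen_le_rank {A : Type u} [CommRing A] {ι κ : Type*} [Fintype ι] [Finite κ]
    (v : κ → ι → A) (n : ℕ) :
    IsOpen {p : PrimeSpectrum A | n ≤ Module.finrank p.asIdeal.ResidueField
      (Submodule.span p.asIdeal.ResidueField
        (Set.range fun j => fun c => algebraMap A p.asIdeal.ResidueField (v j c)))} := by
  have : {p : PrimeSpectrum A | n ≤ Module.finrank p.asIdeal.ResidueField
      (Submodule.span p.asIdeal.ResidueField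
        (Set.range fun j => fun c => algebraMap A p.asIdeal.ResidueField (v j c)))} =
      ⋃ (f : Fin n → κ) (g : Fin n → ι),
        (PrimeSpectrum.basicOpen (Matrix.of fun a b => v (f a) (g b)).det : Set _) := by
    ext p
    rw [Set.mem_ofPred_eq, le_finrank_span_iff]
    simp only [Set.mem_iUnion]
    refine exists_congr fun f => exists_congr fun g => ?_
    rw [SetLike.mem_coe, PrimeSpectrum.mem_basicOpen,
      ← Ideal.algebraMap_residueField_eq_zero, RingHom.map_det]
    rfl
  rw [this]
  exact isOpen_iUnion fun f => isOpen_iUnion fun g => PrimeSpectrum.isOpen_basicOpen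

/-- Matrix coordinates on the endomorphisms of the base change of a projective module. -/
theorem exists_coord {A : Type u} [CommRing A] {Q : Type u} [AddCommGroup Q] [Module A Q]
    (K : Type u) [CommRing K] [Algebra A K] {N : ℕ} (i : Q →ₗ[A] (Fin N → A))
    (r : (Fin N → A) →ₗ[A] Q) (hri : r ∘ₗ i = LinearMap.id) :
    ∃ E : (K ⊗[A] Q →ₗ[K] K ⊗[A] Q) →ₗ[K] (Fin N × Fin N → K), Function.Injective E ∧
      ∀ g : Q →ₗ[A] Q, E (g.baseChange K) =
        fun ab => algebraMap A K (i (g (r (Pi.single ab.2 1))) ab.1) := by
  let P := TensorProduct.piScalarRight A K K (Fin N)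
  let E : (K ⊗[A] Q →ₗ[K] K ⊗[A] Q) →ₗ[K] (Fin N × Fin N → K) :=
    { toFun := fun f ab => P (i.baseChange K (f (r.baseChange K (1 ⊗ₜ Pi.single ab.2 1)))) ab.1
      map_add' := fun f g => by funext ab; simp
      map_smul' := fun x f => by funext ab; simp }
  have hir : ∀ x, r.baseChange K (i.baseChange K x) = x := fun x => by
    rw [← LinearMap.comp_apply, ← LinearMap.baseChange_comp, hri, LinearMap.baseChange_id]; rfl
  refine ⟨E, fun f₁ f₂ hf => ?_, fun g => ?_⟩
  · have h1 : ∀ b, f₁ (r.baseChange K (1 ⊗ₜ Pi.single b 1)) =
        f₂ (r.baseChange K (1 ⊗ₜ Pi.single b 1)) := fun b => by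
      have h2 : P (i.baseChange K (f₁ (r.baseChange K (1 ⊗ₜ Pi.single b 1)))) =
          P (i.baseChange K (f₂ (r.baseChange K (1 ⊗ₜ Pi.single b 1)))) :=
        funext fun a => congrFun hf (a, b)
      rw [← hir (f₁ _), P.injective h2, hir]
    have h3 : (f₁ ∘ₗ r.baseChange K) ∘ₗ P.symm.toLinearMap =
        (f₂ ∘ₗ r.baseChange K) ∘ₗ P.symm.toLinearMap :=
      LinearMap.pi_ext' fun b => LinearMap.ext_ring (by simpa [P] using h1 b)
    refine LinearMap.ext fun x => ?_
    have h4 := LinearMap.congr_fun h3 (P (i.baseChange K x))
    simpa [hir] using h4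
  · funext ab
    simp [E, P, Algebra.smul_def]


/-- Let A be a Noetherian commutative ring, S a commutative A-algebra and Q an S-module which is finite
and flat as an A-module. For a prime p of A with residue field κ(p), multiplication by an element of
S induces a κ(p)-linear endomorphism of the fibre κ(p) ⊗_A Q; let φ(p) be the κ(p)-dimension of the
span of these endomorphisms, which is the colength of the annihilator of the fibre module κ(p) ⊗_A Q
in the fibre algebra κ(p) ⊗_A S (the length of the smallest subscheme of the fibre carrying it).
Then p ↦ φ(p) is a constructible function: for every n the primes with φ(p) = n form a constructible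
subset of Spec A. (The published statement is for a coherent sheaf, flat and finite over a
Noetherian base, on a family of reduced curve singularities with a section, and its function of the
base point is this colength; the curve hypotheses play no role and the row is the affine form over
any Noetherian ring.) -/
theorem result (A : Type u) [CommRing A] [IsNoetherianRing A]
    (S : Type u) [CommRing S] [Algebra A S]
    (Q : Type u) [AddCommGroup Q] [Module A Q] [Module S Q] [IsScalarTower A S Q]
    [Module.Finite A Q] [Module.Flat A Q] (n : ℕ) :
    Topology.IsConstructible {p : PrimeSpectrum A |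
      Module.finrank p.asIdeal.ResidueField
        (Submodule.span p.asIdeal.ResidueField
          (Set.range fun s : S =>
            LinearMap.baseChange p.asIdeal.ResidueField (DistribSMul.toLinearMap A Q s))) = n} := by
  haveI : Module.FinitePresentation A Q := Module.finitePresentation_of_finite A Q
  haveI : Module.Projective A Q := Module.Flat.projective_of_finitePresentation
  obtain ⟨N, r, i, -, -, hri⟩ := Module.Finite.exists_comp_eq_id_of_projective A Q
  let T : (Q →ₗ[A] Q) →ₗ[A] (Fin N × Fin N → A) := LinearMap.pi fun ab =>
    (LinearMap.proj ab.1).comp ((LinearMap.applyₗ (Pi.single ab.2 (1 : A))).comp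
      (((LinearMap.llcomp A (Fin N → A) Q (Fin N → A)) i).comp (LinearMap.lcomp A Q r)))
  let M : Submodule A (Fin N × Fin N → A) :=
    Submodule.span A (Set.range fun s : S => T (DistribSMul.toLinearMap A Q s))
  obtain ⟨m, v, hv⟩ := Submodule.fg_iff_exists_fin_generating_family.mp (IsNoetherian.noetherian M)
  have key : ∀ p : PrimeSpectrum A, Module.finrank p.asIdeal.ResidueField
      (Submodule.span p.asIdeal.ResidueField (Set.range fun s : S =>
        LinearMap.baseChange p.asIdeal.ResidueField (DistribSMul.toLinearMap A Q s))) =
      Module.finrank p.asIdeal.ResidueField (Submodule.span p.asIdeal.ResidueField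
        (Set.range fun j => fun ab => algebraMap A p.asIdeal.ResidueField (v j ab))) := by
    intro p
    obtain ⟨E, hE, hEb⟩ := exists_coord p.asIdeal.ResidueField i r hri
    refine (LinearEquiv.finrank_eq (Submodule.equivMapOfInjective E hE _)).trans ?_
    rw [Submodule.map_span, ← Set.range_comp]
    let c : (Fin N × Fin N → A) →ₗ[A] (Fin N × Fin N → p.asIdeal.ResidueField) :=
      (Algebra.linearMap A p.asIdeal.ResidueField).compLeft (Fin N × Fin N)
    have h1 : (E ∘ fun s : S => LinearMap.baseChange p.asIdeal.ResidueField (DistribSMul.toLinearMap A Q s)) =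
        c ∘ fun s : S => T (DistribSMul.toLinearMap A Q s) := by
      funext s
      rw [Function.comp_apply, hEb]
      rfl
    have h2 : (fun j => fun ab => algebraMap A p.asIdeal.ResidueField (v j ab)) = c ∘ v := rfl
    have h3 : Submodule.span p.asIdeal.ResidueField
          (c '' Set.range fun s : S => T (DistribSMul.toLinearMap A Q s)) =
        Submodule.span p.asIdeal.ResidueField (c '' Set.range v) := by
      rw [← Submodule.span_span_of_tower A p.asIdeal.ResidueField
          (c '' Set.range fun s : S => T (DistribSMul.toLinearMap A Q s)),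
        ← Submodule.span_span_of_tower A p.asIdeal.ResidueField (c '' Set.range v),
        ← Submodule.map_span, ← Submodule.map_span, hv]
    rw [h1, h2, Set.range_comp, Set.range_comp, h3]
  have hopen : ∀ j, Topology.IsConstructible {p : PrimeSpectrum A | j ≤ Module.finrank
      p.asIdeal.ResidueField (Submodule.span p.asIdeal.ResidueField
        (Set.range fun j => fun ab => algebraMap A p.asIdeal.ResidueField (v j ab)))} :=
    fun j => (TopologicalSpace.NoetherianSpace.isCompact _).isConstructible (isOpen_le_rank v j)
  convert (hopen n).sdiff (hopen (n + 1)) using 1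
  ext p
  simp only [Set.mem_ofPred_eq, Set.mem_sdiff, key p]
  omega

end Groth.Agent.S15153
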