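import Groth.Statements.S15155
import Mathlib

set_option autoImplicit false
set_option backward.isDefEq.respectTransparency false
open CAlg

namespace Groth.Agent.S15155

open Matrix

theorem det_skew_field {K : Type*} [Field K] (h2 : (2 : K) ≠ 0) : ∀ (n : ℕ) (M : Matrix (Fin n) (Fin n) K),
    M.transpose = -M → ∃ c, M.det = c ^ 2 := by
  classical
  intro n
  induction n using Nat.strong_induction_on with
  | _ n ih =>
  intro M hM
  have hd : ∀ i, M i i = 0 := fun i => by
    have := congrFun (congrFun hM i) i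
    simp only [Matrix.transpose_apply, Matrix.neg_apply] at this
    have h' : (2 : K) * M i i = 0 := by linear_combination this
    exact (mul_eq_zero.mp h').resolve_left h2
  match n, M with
  | 0, M => exact ⟨1, by simp⟩
  | 1, M => exact ⟨0, by simp [hd]⟩
  | n + 2, M =>
    by_cases h0 : ∀ j, M 0 j = 0
    · exact ⟨0, by rw [Matrix.det_eq_zero_of_row_eq_zero 0 h0]; ring⟩
    obtain ⟨j, hj⟩ := not_forall.mp h0
    have hj0 : j ≠ 0 := fun h => hj (h ▸ hd 0)
    let σ : Equiv.Perm (Fin (n + 2)) := Equiv.swap 1 j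
    let e : Fin 2 ⊕ Fin n ≃ Fin (n + 2) := (finSumFinEquiv.trans (finCongr (Nat.add_comm 2 n))).trans σ
    let N : Matrix (Fin 2 ⊕ Fin n) (Fin 2 ⊕ Fin n) K := M.submatrix e e
    have hNdet : N.det = M.det := Matrix.det_submatrix_equiv_self e M
    have hN : N.transpose = -N := by
      rw [Matrix.transpose_submatrix, hM]; rfl
    have hA : N.toBlocks₁₁.transpose = -N.toBlocks₁₁ := by
      ext i k; exact congrFun (congrFun hN (Sum.inl i)) (Sum.inl k)
    have hC : N.toBlocks₂₁ = -N.toBlocks₁₂.transpose := by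
      ext i k
      have := congrFun (congrFun hN (Sum.inl k)) (Sum.inr i)
      simpa [Matrix.toBlocks₂₁, Matrix.toBlocks₁₂] using this
    have hD : N.toBlocks₂₂.transpose = -N.toBlocks₂₂ := by
      ext i k; exact congrFun (congrFun hN (Sum.inr i)) (Sum.inr k)
    have e0 : e (Sum.inl 0) = 0 := by
      simp only [e, σ, Equiv.trans_apply]
      rw [Equiv.swap_apply_of_ne_of_ne]
      · rfl
      · exact fun h => by simpa [finCongr] using congrArg Fin.val h
      · exact fun h => hj0 (h.symm.trans rfl)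
    have e1 : e (Sum.inl 1) = j := by
      simp only [e, σ, Equiv.trans_apply]
      rw [show (finCongr (Nat.add_comm 2 n)) (finSumFinEquiv (Sum.inl (1 : Fin 2))) = (1 : Fin (n + 2)) from Fin.ext (by simp)]
      exact Equiv.swap_apply_left _ _
    have hdetA : N.toBlocks₁₁.det = M 0 j ^ 2 := by
      rw [Matrix.det_fin_two]
      show M (e _) (e _) * M (e _) (e _) - M (e _) (e _) * M (e _) (e _) = _
      rw [e0, e1, hd, hd]
      have := congrFun (congrFun hM 0) j
      simp only [Matrix.transpose_apply, Matrix.neg_apply] at this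
      rw [this]; ring
    haveI : Invertible N.toBlocks₁₁ := Matrix.invertibleOfIsUnitDet _ (by
      rw [hdetA]; exact (pow_ne_zero 2 hj).isUnit)
    rw [← hNdet, ← Matrix.fromBlocks_toBlocks N, Matrix.det_fromBlocks₁₁, hdetA]
    obtain ⟨c, hc⟩ := ih n (by omega)
      (N.toBlocks₂₂ - N.toBlocks₂₁ * ⅟N.toBlocks₁₁ * N.toBlocks₁₂) (by
        have hinv : (⅟N.toBlocks₁₁).transpose = -⅟N.toBlocks₁₁ := by
          rw [Matrix.invOf_eq_nonsing_inv, Matrix.transpose_nonsing_inv, hA]
          refine Matrix.inv_eq_right_inv ?_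
          rw [neg_mul_neg, Matrix.mul_nonsing_inv _ (by rw [hdetA]; exact (pow_ne_zero 2 hj).isUnit)]
        rw [Matrix.transpose_sub, Matrix.transpose_mul, Matrix.transpose_mul, hinv, hC, hD,
          Matrix.transpose_neg, Matrix.transpose_transpose]
        simp only [Matrix.neg_mul, Matrix.mul_neg, neg_neg, sub_eq_add_neg, Matrix.mul_assoc, neg_add])
    exact ⟨M 0 j * c, by rw [hc]; ring⟩

theorem det_skew {R : Type*} [CommRing R] [IsDomain R] [IsIntegrallyClosed R] (h2 : (2 : R) ≠ 0)
    {ι : Type*} [Fintype ι] [DecidableEq ι] (M : Matrix ι ι R) (hM : M.transpose = -M) :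
    ∃ c, M.det = c ^ 2 := by
  let f := algebraMap R (FractionRing R)
  obtain ⟨c, hc⟩ := det_skew_field (K := FractionRing R)
    (fun h => h2 (IsFractionRing.injective R (FractionRing R) (by rw [map_zero, map_ofNat]; exact h)))
    (Fintype.card ι) ((M.submatrix (Fintype.equivFin ι).symm (Fintype.equivFin ι).symm).map f) (by
      ext i j
      have := congrFun (congrFun hM ((Fintype.equivFin ι).symm i)) ((Fintype.equivFin ι).symm j)
      simp only [Matrix.transpose_apply, Matrix.neg_apply] at this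
      simp [this])
  rw [← RingHom.mapMatrix_apply, ← RingHom.map_det, Matrix.det_submatrix_equiv_self] at hc
  have hint : IsIntegral R c := IsIntegral.of_pow two_pos (hc ▸ isIntegral_algebraMap)
  obtain ⟨d, rfl⟩ := IsIntegrallyClosed.isIntegral_iff.mp hint
  exact ⟨d, IsFractionRing.injective R (FractionRing R) (by rw [map_pow]; exact hc)⟩

theorem exists_pf (k : Type*) [CommRing k] [IsDomain k] [UniqueFactorizationMonoid k] (half : k)
    (hhalf : half * 2 = 1) (m : ℕ) :
    ∃ Q : MvPolynomial ((Fin m ⊕ Fin m) × (Fin m ⊕ Fin m)) k,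
      ∀ A : Matrix (Fin m ⊕ Fin m) (Fin m ⊕ Fin m) k,
        A.transpose * Matrix.fromBlocks 0 1 (-1) 0 = Matrix.fromBlocks 0 1 (-1) 0 * A →
        A.det = (MvPolynomial.eval (fun ij => A ij.1 ij.2) Q) ^ 2 := by
  classical
  have h2 : (2 : k) ≠ 0 := fun h => by simp [h] at hhalf
  let J : Matrix (Fin m ⊕ Fin m) (Fin m ⊕ Fin m) k := Matrix.fromBlocks 0 1 (-1) 0
  have hJ : J.transpose = -J := by
    simp [J, Matrix.fromBlocks_transpose, Matrix.fromBlocks_neg]
  have hJJ : J.det * J.det = 1 := by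
    have hsq : J * J.transpose = 1 := by
      simp [J, Matrix.fromBlocks_transpose, Matrix.fromBlocks_multiply, Matrix.fromBlocks_one]
    have := congrArg Matrix.det hsq
    rwa [Matrix.det_mul, Matrix.det_transpose, Matrix.det_one] at this
  obtain ⟨cJ, hcJ⟩ := det_skew h2 J hJ
  let P : Matrix (Fin m ⊕ Fin m) (Fin m ⊕ Fin m)
      (MvPolynomial ((Fin m ⊕ Fin m) × (Fin m ⊕ Fin m)) k) :=
    Matrix.of (fun i j => MvPolynomial.X (i, j))
  let G := (MvPolynomial.C half : MvPolynomial ((Fin m ⊕ Fin m) × (Fin m ⊕ Fin m)) k) • (J.map MvPolynomial.C * P - (J.map MvPolynomial.C * P).transpose)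
  have hG : G.transpose = -G := by
    simp only [G, Matrix.transpose_smul, Matrix.transpose_sub, Matrix.transpose_transpose, ← smul_neg, neg_sub]
  obtain ⟨p, hp⟩ := det_skew (fun h => h2 (MvPolynomial.C_injective _ _ (by rw [map_ofNat, map_zero]; exact h))) G hG
  refine ⟨MvPolynomial.C cJ * p, fun A hA => ?_⟩
  let ev := MvPolynomial.eval (fun ij : (Fin m ⊕ Fin m) × (Fin m ⊕ Fin m) => A ij.1 ij.2)
  have hPA : P.map ev = A := by ext i j; simp [P, ev]
  have hJC : (J.map MvPolynomial.C).map ev = J := by ext i j; simp [ev]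
  have hN : (J * A).transpose = -(J * A) := by
    rw [Matrix.transpose_mul, hJ, mul_neg, hA]
  have hGev : G.map ev = J * A := by
    ext i j
    have := congrFun (congrFun hN i) j
    simp only [Matrix.transpose_apply, Matrix.neg_apply] at this
    simp only [G, Matrix.map_apply, Matrix.smul_apply, Matrix.sub_apply, Matrix.transpose_apply, smul_eq_mul,
      map_mul, map_sub]
    rw [← Matrix.map_apply (f := ev) (M := J.map MvPolynomial.C * P),
      ← Matrix.map_apply (f := ev) (M := J.map MvPolynomial.C * P), Matrix.map_mul, hJC, hPA, this]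
    simp only [ev, MvPolynomial.eval_C]
    linear_combination (J * A) i j * hhalf
  have hdet : (J * A).det = (ev p) ^ 2 := by
    rw [← hGev, ← RingHom.mapMatrix_apply, ← RingHom.map_det, hp, map_pow]
  rw [Matrix.det_mul] at hdet
  calc A.det = J.det * (J.det * A.det) := by rw [← mul_assoc, hJJ, one_mul]
    _ = _ := by rw [hdet, hcJ, map_mul, MvPolynomial.eval_C, mul_pow]


/-- Let J be the 2m × 2m block matrix with blocks 0, I_m in the first row and −I_m, 0 in the second,
over the complex numbers. On the set of complex 2m × 2m matrices A with ᵗA · J = J · A (equivalently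
ᵗA = J A J⁻¹, J being invertible), the characteristic polynomial is the square of a single
polynomial in the entries of A with coefficients in ℂ[X], and the determinant is the square of a
single polynomial in the entries of A. -/
theorem result (m : ℕ) :
    (∃ P : MvPolynomial ((Fin m ⊕ Fin m) × (Fin m ⊕ Fin m)) (Polynomial ℂ),
      ∀ A : Matrix (Fin m ⊕ Fin m) (Fin m ⊕ Fin m) ℂ,
        A.transpose * Matrix.fromBlocks 0 1 (-1) 0 = Matrix.fromBlocks 0 1 (-1) 0 * A →
        A.charpoly = (MvPolynomial.eval (fun ij => Polynomial.C (A ij.1 ij.2)) P) ^ 2) ∧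
    (∃ Q : MvPolynomial ((Fin m ⊕ Fin m) × (Fin m ⊕ Fin m)) ℂ,
      ∀ A : Matrix (Fin m ⊕ Fin m) (Fin m ⊕ Fin m) ℂ,
        A.transpose * Matrix.fromBlocks 0 1 (-1) 0 = Matrix.fromBlocks 0 1 (-1) 0 * A →
        A.det = (MvPolynomial.eval (fun ij => A ij.1 ij.2) Q) ^ 2) := by
  classical
  obtain ⟨Q, hQ⟩ := exists_pf ℂ (2⁻¹ : ℂ) (inv_mul_cancel₀ two_ne_zero) m
  obtain ⟨Q', hQ'⟩ := exists_pf (Polynomial ℂ) (Polynomial.C (2⁻¹ : ℂ))
    (by rw [← Polynomial.C_ofNat, ← Polynomial.C_mul, inv_mul_cancel₀ two_ne_zero, Polynomial.C_1]) m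
  refine ⟨⟨MvPolynomial.bind₁ (fun ij => (if ij.1 = ij.2 then MvPolynomial.C Polynomial.X else 0) - MvPolynomial.X ij) Q',
    fun A hA => ?_⟩, Q, hQ⟩
  have hA' : (A.charmatrix).transpose * Matrix.fromBlocks 0 1 (-1) 0 =
      Matrix.fromBlocks 0 1 (-1) 0 * A.charmatrix := by
    have hJ : (Matrix.fromBlocks 0 1 (-1) 0 : Matrix (Fin m ⊕ Fin m) (Fin m ⊕ Fin m) (Polynomial ℂ)) =
        Polynomial.C.mapMatrix (Matrix.fromBlocks 0 1 (-1) 0) := by
      simp [Matrix.fromBlocks_map, Matrix.map_zero, Matrix.map_one, Matrix.map_neg]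
    rw [hJ, Matrix.charmatrix, Matrix.transpose_sub, sub_mul, mul_sub, Matrix.scalar_apply,
      Matrix.diagonal_transpose, ← Matrix.scalar_apply,
      (Matrix.scalar_commute Polynomial.X (fun r => Commute.all _ _) (Polynomial.C.mapMatrix
        (Matrix.fromBlocks 0 1 (-1) 0 : Matrix (Fin m ⊕ Fin m) (Fin m ⊕ Fin m) ℂ))).eq]
    congr 1
    rw [RingHom.mapMatrix_apply, RingHom.mapMatrix_apply, ← Matrix.transpose_map, ← Matrix.map_mul, hA, Matrix.map_mul]
  rw [Matrix.charpoly, hQ' _ hA']
  congr 1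
  simp only [MvPolynomial.eval]
  rw [MvPolynomial.eval₂Hom_bind₁]
  refine MvPolynomial.eval₂Hom_congr rfl (funext fun ij => ?_) rfl
  simp only [map_sub, MvPolynomial.eval₂Hom_X', Matrix.charmatrix_apply, Matrix.diagonal_apply]
  split_ifs <;> simp

end Groth.Agent.S15155
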