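import Groth.Statements.S15156
import Groth.Agent.Lib.CurveBundle.SlopeMax
import Groth.Agent.Lib.CurveBundle.Ctx
import Mathlib.Analysis.Complex.Polynomial.Basic
import Groth.Agent.Lib.SurfInt.PushIso
import Groth.Agent.Lib.TensorMod.LocIso
import Groth.Agent.Lib.QCoh.Pullback

set_option autoImplicit false
open CategoryTheory CategoryTheory.Limits AlgebraicGeometry
open VBCurve

namespace Groth.Agent.S15156

/-- Let X be a smooth proper integral curve of genus at least 2 over the complex numbers with an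
involution σ ≠ id over the complex numbers, and (E, φ) a σ-linearized finite locally free module of
rank r ≥ 1: φ : σ^*E ≅ E with φ ∘ σ^*φ equal to the canonical identification σ^*σ^*E ≅ E. A
submodule F ⊂ E is σ-invariant when the composite σ^*F → σ^*E → E factors through F. Then (E, φ) is
semistable with respect to σ-invariant finite locally free submodules (deg F · r ≤ deg E · rk F for
each such F of positive rank) if and only if E is slope-semistable (the same inequality for every
finite locally free submodule of positive rank); degrees are χ − rank · χ(O). -/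
theorem result
    (X : Scheme.{0}) [X.Over (Spec (CommRingCat.of ℂ))] [IsIntegral X] [IsProper (X ↘ Spec (CommRingCat.of ℂ))] [Smooth (X ↘ Spec (CommRingCat.of ℂ))]
    (hdim : topologicalKrullDim X = 1) (hg : 2 ≤ Curv2.genus ℂ X)
    (σ : X ⟶ X) (hσS : σ ≫ (X ↘ Spec (CommRingCat.of ℂ)) = X ↘ Spec (CommRingCat.of ℂ)) (hσ : σ ≫ σ = 𝟙 X) (hσ1 : σ ≠ 𝟙 X)
    (r : ℕ) (hr : 0 < r) (E : X.Modules) (hE : FlatMod.IsFinLocFreeOfRank r E)
    (φ : (Scheme.Modules.pullback σ).obj E ≅ E)
    (hφ : (Scheme.Modules.pullback σ).map φ.hom ≫ φ.hom =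
      (Scheme.Modules.pullbackComp σ σ).hom.app E ≫ (Scheme.Modules.pullbackCongr hσ).hom.app E ≫
        (Scheme.Modules.pullbackId X).hom.app E) :
    (∀ (F : X.Modules) (r' : ℕ) (i : F ⟶ E), Mono i → 0 < r' → FlatMod.IsFinLocFreeOfRank r' F →
      (∃ j : (Scheme.Modules.pullback σ).obj F ⟶ F, j ≫ i = (Scheme.Modules.pullback σ).map i ≫ φ.hom) →
      Curv2.deg ℂ X F r' * (r : ℤ) ≤ Curv2.deg ℂ X E r * (r' : ℤ)) ↔
    (∀ (F : X.Modules) (r' : ℕ) (i : F ⟶ E), Mono i → 0 < r' → FlatMod.IsFinLocFreeOfRank r' F →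
      Curv2.deg ℂ X F r' * (r : ℤ) ≤ Curv2.deg ℂ X E r * (r' : ℤ)) := by
  open Groth.Agent.Lib Groth.Agent.Lib.CurveBundle in
    refine ⟨fun h => ?_, fun h F r' i hi hr' hF _ => h F r' i hi hr' hF⟩
    have := Ctx.ofIntegral ℂ hdim
    obtain ⟨hEc, hET, eE, hEd⟩ := Slope.bundle (k := ℂ) hE
    obtain ⟨G, i, hi, hG, h0, h1, h2⟩ := SlopeMax.exists_max (k := ℂ) hEc hET (by omega)
    obtain ⟨hGb, hGd⟩ := Slope.sub_bundle (k := ℂ) i hG hET
    let P := Scheme.Modules.pullback σ
    let Φ : P ⋙ P ≅ 𝟭 X.Modules := Scheme.Modules.pullbackComp σ σ ≪≫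
      Scheme.Modules.pullbackCongr hσ ≪≫ Scheme.Modules.pullbackId X
    have : P.Faithful := ⟨fun {A B} f g hfg => by
      have e : (P ⋙ P).map f = (P ⋙ P).map g := congrArg P.map hfg
      rw [← cancel_epi (Φ.hom.app A)]
      exact (Φ.hom.naturality f).symm.trans ((congrArg (· ≫ Φ.hom.app B) e).trans (Φ.hom.naturality g))⟩
    have : Mono (P.map i) := P.mono_of_mono_map (by
      have e : P.map (P.map i) = Φ.hom.app G ≫ i ≫ Φ.inv.app E := by
        rw [← Category.assoc]
        exact (Iso.app Φ E).eq_comp_inv.mpr (Φ.hom.naturality i)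
      rw [e]
      infer_instance)
    have hPb := TensorMod.LocFree.rank_pullback σ hGb
    obtain ⟨hPc, -, ePr, -⟩ := Slope.bundle (k := ℂ) hPb
    haveI : IsIso σ := ⟨σ, hσ, hσ⟩
    have hPd : Degree.dg ℂ (P.obj G) = Degree.dg ℂ G := by
      haveI := hPc.1
      haveI := TensorMod.LocIso.isIso_unit_of_isFinLocFree σ (fun U => inferInstance)
        (TensorMod.LocFree.of_rank hGb)
      have he : Curv2.euler ℂ X (P.obj G) = Curv2.euler ℂ X G := by
        rw [← SurfInt.Push.euler_push σ hσS]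
        exact (Curves.Euler.euler_eq_of_iso
          (asIso ((Scheme.Modules.pullbackPushforwardAdjunction σ).unit.app G))).symm
      rw [Degree.dg, Degree.dg, he]
      congr 2
      exact_mod_cast ePr
    obtain ⟨a, ha⟩ := SlopeMax.factors (k := ℂ) i (P.map i ≫ φ.hom) hEc hET hG hPc h0 h1
      (fun Q q hq hQ _ hQ0 => by haveI := hq; exact SlopeMax.drop_of_max i hEc hG h1 h2 q hQ hQ0)
      (by rw [hPd, ePr])
    have hG' := h G _ i hi h0 hGb ⟨a, ha⟩
    intro F r' j hj hr' hF
    obtain ⟨hFc, -, eF, hFd⟩ := Slope.bundle (k := ℂ) hF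
    have h3 := h1 F j hj hFc
    rw [eF] at h3
    rw [hEd, hFd]
    rw [hEd, hGd] at hG'
    have hr0 : (0 : ℤ) < Degree.gr ℂ G := by exact_mod_cast h0
    refine le_of_mul_le_mul_right ?_ hr0
    nlinarith [mul_le_mul_of_nonneg_right h3 (show (0 : ℤ) ≤ r by positivity),
      mul_le_mul_of_nonneg_right hG' (show (0 : ℤ) ≤ r' by positivity)]


end Groth.Agent.S15156
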