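import Groth.Statements.S15159
import Groth.Agent.H15.BilinStab

set_option autoImplicit false
open CAlg

namespace Groth.Agent.S15159

/-- Let W be a finite-dimensional complex vector space with an involution s, H a finite-dimensional
complex vector space and q : H → H → W a nonzero bilinear map with q(x)(y) = s(q(y)(x)). Write V^⊥ =
{x | q(x)(y) = 0 for all y ∈ V} and call V totally isotropic when q vanishes on V × V. The pair (H,
q) is semistable (dim V + dim V^⊥ ≤ dim H for every nonzero totally isotropic subspace V),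
respectively stable (strict inequality), if and only if the line of q is semistable, respectively
stable, for the action of SL(H), the latter being expressed through one-parameter subgroups: for
every decomposition H = ⊕_i H_i into subspaces with integer weights m_i such that Σ_i m_i dim H_i =
0 and some nonzero H_i has nonzero weight, there are indices i, j with q(H_i, H_j) ≠ 0 and m_i + m_j
≤ 0, respectively m_i + m_j < 0. (The published statement speaks of semistability and stability of
the point of the projective space of such forms under SL(H); this row states the numerical condition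
on one-parameter subgroups to which that is equivalent and which the published argument verifies.) -/
theorem result
    (W : Type) [AddCommGroup W] [Module ℂ W] [FiniteDimensional ℂ W]
    (s : W →ₗ[ℂ] W) (hs : s ∘ₗ s = LinearMap.id)
    (H : Type) [AddCommGroup H] [Module ℂ H] [FiniteDimensional ℂ H]
    (q : H →ₗ[ℂ] H →ₗ[ℂ] W) (hq : ∀ x y : H, q x y = s (q y x)) (hq0 : q ≠ 0) :
    ((∀ V : Submodule ℂ H, V ≠ ⊥ → (∀ x ∈ V, ∀ y ∈ V, q x y = 0) →
        Module.finrank ℂ V + Module.finrank ℂ ↥(⨅ (y : H) (_ : y ∈ V), LinearMap.ker (q.flip y) : Submodule ℂ H) ≤ Module.finrank ℂ H) ↔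
      (∀ (ι : Type) [Fintype ι] [DecidableEq ι] (Hs : ι → Submodule ℂ H) (m : ι → ℤ),
        DirectSum.IsInternal Hs → (∑ i, m i * (Module.finrank ℂ (Hs i) : ℤ)) = 0 →
        (∃ i, m i ≠ 0 ∧ Hs i ≠ ⊥) →
        ∃ i j, (∃ x ∈ Hs i, ∃ y ∈ Hs j, q x y ≠ 0) ∧ m i + m j ≤ 0)) ∧
    ((∀ V : Submodule ℂ H, V ≠ ⊥ → (∀ x ∈ V, ∀ y ∈ V, q x y = 0) →
        Module.finrank ℂ V + Module.finrank ℂ ↥(⨅ (y : H) (_ : y ∈ V), LinearMap.ker (q.flip y) : Submodule ℂ H) < Module.finrank ℂ H) ↔
      (∀ (ι : Type) [Fintype ι] [DecidableEq ι] (Hs : ι → Submodule ℂ H) (m : ι → ℤ),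
        DirectSum.IsInternal Hs → (∑ i, m i * (Module.finrank ℂ (Hs i) : ℤ)) = 0 →
        (∃ i, m i ≠ 0 ∧ Hs i ≠ ⊥) →
        ∃ i j, (∃ x ∈ Hs i, ∃ y ∈ Hs j, q x y ≠ 0) ∧ m i + m j < 0)) := by
  have hsym : ∀ x y, q x y = 0 → q y x = 0 := fun x y h => by rw [hq y x, h, map_zero]
  refine ⟨⟨fun h ι _ _ Hs m hint hsum hne => ?_, fun h V hV hiso => ?_⟩,
    ⟨fun h ι _ _ Hs m hint hsum hne => ?_, fun h V hV hiso => ?_⟩⟩
  · by_contra hcon
    push Not at hcon
    obtain ⟨V, hV, hiso, hlt⟩ := (Groth.Agent.H15.BilinStab.exists_bad Hs m hint hsum hne).1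
      (fun i j hp => hcon i j hp)
    exact (h V hV hiso).not_gt hlt
  · by_contra hcon
    obtain ⟨Hs, m, hint, hsum, hne, hp⟩ :=
      Groth.Agent.H15.BilinStab.exists_weights_pos hsym hq0 V hiso (not_le.1 hcon)
    obtain ⟨i, j, hij, hle⟩ := h (Fin 3) Hs m hint hsum hne
    exact (hp i j hij).not_ge hle
  · by_contra hcon
    push Not at hcon
    obtain ⟨V, hV, hiso, hle⟩ := (Groth.Agent.H15.BilinStab.exists_bad Hs m hint hsum hne).2
      (fun i j hp => hcon i j hp)
    exact (h V hV hiso).not_ge hle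
  · by_contra hcon
    obtain ⟨Hs, m, hint, hsum, hne, hp⟩ :=
      Groth.Agent.H15.BilinStab.exists_weights_nonneg hsym hq0 V hV hiso (not_lt.1 hcon)
    obtain ⟨i, j, hij, hlt⟩ := h (Fin 3) Hs m hint hsum hne
    exact (hp i j hij).not_gt hlt

end Groth.Agent.S15159
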