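import Groth.Statements.S15163
import Groth.Agent.Lib.BddFin.GLTwo
import Mathlib.Data.ZMod.Basic

set_option autoImplicit false
open Matrix
open BddFin

namespace Groth.Agent.S15163

/-- Let Γ be a finite subgroup of GL_2(ℤ) and d > 6 an integer. Suppose some vector w of (ℤ/dℤ)², with
m·w ≠ 0 for all 0 < m < d, is fixed by the reduction modulo d of every element of Γ. Then some
non-zero vector of ℤ² is fixed by all of Γ. -/
theorem result
    (Γ : Subgroup (Matrix.GeneralLinearGroup (Fin 2) ℤ)) [Finite Γ] (d : ℕ) (hd : 6 < d)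
    (w : Fin 2 → ZMod d) (hw : ∀ m : ℕ, 0 < m → m < d → m • w ≠ 0)
    (hfix : ∀ γ ∈ Γ, ((γ : Matrix (Fin 2) (Fin 2) ℤ).map (Int.castRingHom (ZMod d))) *ᵥ w = w) :
    ∃ v : Fin 2 → ℤ, v ≠ 0 ∧ ∀ γ ∈ Γ, (γ : Matrix (Fin 2) (Fin 2) ℤ) *ᵥ v = v := by
  refine Groth.Agent.Lib.BddFin.GLTwo.exists_common_fixed fun γ hγ => ?_
  haveI : NeZero d := ⟨by omega⟩
  let M : Matrix (Fin 2) (Fin 2) (ZMod d) :=
    ((γ : Matrix (Fin 2) (Fin 2) ℤ) - 1).map (Int.castRingHom (ZMod d))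
  have hM : M *ᵥ w = 0 := by
    rw [show M = (γ : Matrix (Fin 2) (Fin 2) ℤ).map (Int.castRingHom (ZMod d)) - 1 from by
      show (Int.castRingHom (ZMod d)).mapMatrix _ = (Int.castRingHom (ZMod d)).mapMatrix _ - 1
      rw [map_sub, map_one], Matrix.sub_mulVec, Matrix.one_mulVec, hfix γ hγ, sub_self]
  have hdet : M.det • w = 0 := by
    have := congrArg (M.adjugate *ᵥ ·) hM
    simpa [Matrix.mulVec_mulVec, Matrix.adjugate_mul, Matrix.smul_mulVec] using this
  set z := ((γ : Matrix (Fin 2) (Fin 2) ℤ) - 1).det with hz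
  have hMz : M.det = (z : ZMod d) := by
    simp only [M, ← RingHom.mapMatrix_apply, ← RingHom.map_det]; rfl
  have hzero : (z : ZMod d) = 0 := by
    by_contra hne
    apply hw (z : ZMod d).val (Nat.pos_of_ne_zero ((ZMod.val_ne_zero _).mpr hne)) (ZMod.val_lt _)
    rw [← Nat.cast_smul_eq_nsmul (ZMod d), ZMod.natCast_zmod_val, ← hMz]
    exact hdet
  rw [ZMod.intCast_zmod_eq_zero_iff_dvd] at hzero
  have hb : |z| < d := by
    have h1 := Groth.Agent.Lib.BddFin.GLTwo.abs_trace_le _ (Groth.Agent.Lib.BddFin.GLTwo.det_pm γ)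
      (orderOf_pos (⟨γ, hγ⟩ : Γ)) (by
        have := congrArg ((Units.coeHom (Matrix (Fin 2) (Fin 2) ℤ)).comp Γ.subtype)
          (pow_orderOf_eq_one (⟨γ, hγ⟩ : Γ))
        rw [map_pow, map_one] at this
        exact this)
    have h2 := Groth.Agent.Lib.BddFin.GLTwo.det_pm γ
    rw [hz, Groth.Agent.Lib.BddFin.GLTwo.det_sub_one, abs_lt]
    rw [abs_le] at h1
    constructor <;> rcases h2 with h | h <;> rw [h] <;> omega
  exact Int.eq_zero_of_abs_lt_dvd hzero hb

end Groth.Agent.S15163
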