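import Groth.Statements.S15164
import Groth.Agent.Lib.BddFin.Isometry
import Mathlib.Algebra.CharP.Algebra

set_option autoImplicit false
universe u v
open BddFin

namespace Groth.Agent.S15164

/-- Let K be a field of characteristic p > 2, V a finite-dimensional K-vector space and q a quadratic
form on V that does not represent zero (q x = 0 only for x = 0). Then the group of K-linear
automorphisms of V preserving q has no element of order p: if g preserves q and g ^ p = 1 then g =
1. (Non-degeneracy of q, also assumed in the published statement, follows from anisotropy since 2 is
invertible, so it is not repeated here.) -/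
theorem result
    (K : Type u) [Field K] (p : ℕ) [Fact p.Prime] [CharP K p] (hp : p ≠ 2)
    (V : Type v) [AddCommGroup V] [Module K V] [FiniteDimensional K V]
    (q : QuadraticForm K V) (hq : q.Anisotropic)
    (g : V ≃ₗ[K] V) (hg : ∀ x : V, q (g x) = q x) (hgp : g ^ p = 1) : g = 1 := by
  have h2 : (2 : K) ≠ 0 := by
    intro h
    have : ((2 : ℕ) : K) = 0 := by exact_mod_cast h
    rw [CharP.cast_eq_zero_iff K p] at this
    exact hp ((Nat.prime_dvd_prime_iff_eq Fact.out Nat.prime_two).mp this)
  haveI : Nontrivial (Module.End K V) ∨ Subsingleton V := by
    rcases subsingleton_or_nontrivial V with h | h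
    · exact Or.inr h
    · exact Or.inl inferInstance
  rcases this with hV | hV
  · haveI : CharP (Module.End K V) p := (algebraMap K (Module.End K V)).charP_iff_charP p |>.mp inferInstance
    have h : ((g : Module.End K V) - 1) ^ p = 0 := by
      rw [sub_pow_char_of_commute (p := p) (Commute.one_right _), one_pow, sub_eq_zero]
      have := congrArg LinearEquiv.automorphismGroup.toLinearMapMonoidHom hgp
      rw [map_pow, map_one] at this
      exact this
    have := Groth.Agent.Lib.BddFin.Isometry.eq_one_of_nilpotent h2 q hq (g : Module.End K V) hg h
    exact LinearEquiv.toLinearMap_injective this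
  · exact LinearEquiv.ext fun x => Subsingleton.elim _ _

end Groth.Agent.S15164
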