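import Groth.Statements.S15166
import Groth.Agent.Lib.BddFin.Isometry

set_option autoImplicit false
universe u v
open Polynomial
open BddFin

namespace Groth.Agent.S15166

/-- Let K be a field of characteristic different from 2 such that K contains all roots of unity (for
every n ≥ 1 the polynomial X^n − 1 splits into linear factors over K), V a finite-dimensional
K-vector space and q a quadratic form on V that does not represent zero. Then every finite subgroup
of the group of K-linear automorphisms of V preserving q is abelian and has order at most 2 ^ (dim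
V). (The published statement also covers perfect fields of characteristic 2; this row is the case of
characteristic ≠ 2.) -/
theorem result
    (K : Type u) [Field K] (hK : ∀ n : ℕ, 0 < n → (X ^ n - 1 : K[X]).Splits) (h2 : (2 : K) ≠ 0)
    (V : Type v) [AddCommGroup V] [Module K V] [FiniteDimensional K V]
    (q : QuadraticForm K V) (hq : q.Anisotropic)
    (G : Subgroup (V ≃ₗ[K] V)) [Finite G] (hG : ∀ g ∈ G, ∀ x : V, q (g x) = q x) :
    (∀ g ∈ G, ∀ h ∈ G, g * h = h * g) ∧ Nat.card G ≤ 2 ^ Module.finrank K V := by
  classical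
  let φ : G →* Module.End K V := LinearEquiv.automorphismGroup.toLinearMapMonoidHom.comp G.subtype
  have hφ : Function.Injective φ := fun a b h => Subtype.ext (LinearEquiv.toLinearMap_injective h)
  have hsq : ∀ a : G, φ a * φ a = 1 := fun a => by
    rw [← sq]
    exact Groth.Agent.Lib.BddFin.Isometry.sq_eq_one hK h2 q hq (φ a) (hG a.1 a.2)
      (orderOf_pos a) (by rw [← map_pow, pow_orderOf_eq_one, map_one])
  have hinv : ∀ a : G, a * a = 1 := fun a => hφ (by rw [map_mul, hsq, map_one])
  have hcomm : ∀ a b : G, a * b = b * a := fun a b => by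
    have ha : a⁻¹ = a := inv_eq_of_mul_eq_one_right (hinv a)
    have hb : b⁻¹ = b := inv_eq_of_mul_eq_one_right (hinv b)
    have hab : (a * b)⁻¹ = a * b := inv_eq_of_mul_eq_one_right (hinv (a * b))
    rw [mul_inv_rev, ha, hb] at hab
    exact hab.symm
  refine ⟨fun g hg h hh => congrArg Subtype.val (hcomm ⟨g, hg⟩ ⟨h, hh⟩), ?_⟩
  rw [← Nat.card_range_of_injective hφ, Nat.card_coe_set_eq]
  refine Groth.Agent.Lib.BddFin.Isometry.ncard_le h2 _ V rfl _ (Set.finite_range φ) ?_ ?_
  · rintro _ ⟨a, rfl⟩; exact hsq a
  · rintro _ ⟨a, rfl⟩ _ ⟨b, rfl⟩; rw [← map_mul, ← map_mul, hcomm]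

end Groth.Agent.S15166
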