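import Groth.Statements.S1517


set_option autoImplicit false
universe u
open Brauer

namespace Groth.Agent.S1517

/-- Let A be a ring with no nontrivial two-sided ideals and M a nonzero right ideal, viewed as a right
A-module with endomorphism ring A'. Then every A'-linear endomorphism of M is right multiplication
by exactly one element of A; that is, the natural map from A to the bicommutant of M is a bijection. -/
theorem result (A : Type u) [Ring A] [IsSimpleRing A]
    (M : Submodule Aᵐᵒᵖ A) (hM : M ≠ ⊥)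
    (g : Module.End (Module.End Aᵐᵒᵖ M) M) :
    ∃! a : A, ∀ m : M, (g m : A) = (m : A) * a := by
  obtain ⟨m₀, hm₀, hm₀0⟩ := (Submodule.ne_bot_iff M).mp hM
  have hright : ∀ (m : M) (x : A), (m : A) * x ∈ M := fun m x =>
    M.smul_mem (MulOpposite.op x) m.2
  -- left multiplication by an element of `M` commutes with `g`
  let lm : ∀ y : M, Module.End Aᵐᵒᵖ M := fun y =>
    { toFun := fun z => ⟨(y : A) * (z : A), hright y _⟩
      map_add' := fun a b => Subtype.ext (mul_add _ _ _)
      map_smul' := fun c z => Subtype.ext (by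
        show (y : A) * ((z : A) * c.unop) = (y : A) * (z : A) * c.unop
        rw [mul_assoc]) }
  have hg : ∀ y z : M, (g (lm y z) : A) = (y : A) * (g z : A) := fun y z =>
    congrArg Subtype.val (g.map_smul (lm y) z)
  let J : TwoSidedIdeal A := TwoSidedIdeal.mk' (AddSubgroup.closure {x : A | ∃ a : A, ∃ m ∈ M, x = a * m} : Set A)
    (zero_mem _) (fun hx hy => add_mem hx hy) (fun hx => neg_mem hx)
    (fun {r x} hx => by
      induction hx using AddSubgroup.closure_induction with
      | mem z hz =>
        obtain ⟨a, m, hm, rfl⟩ := hz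
        exact AddSubgroup.subset_closure ⟨r * a, m, hm, (mul_assoc _ _ _).symm⟩
      | zero => simp
      | add a b _ _ ha hb => rw [mul_add]; exact add_mem ha hb
      | neg a _ ha => rw [mul_neg]; exact neg_mem ha)
    (fun {x r} hx => by
      induction hx using AddSubgroup.closure_induction with
      | mem z hz =>
        obtain ⟨a, m, hm, rfl⟩ := hz
        exact AddSubgroup.subset_closure ⟨a, m * r, hright ⟨m, hm⟩ r, mul_assoc _ _ _⟩
      | zero => simp
      | add a b _ _ ha hb => rw [add_mul]; exact add_mem ha hb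
      | neg a _ ha => rw [neg_mul]; exact neg_mem ha)
  have h1 : (1 : A) ∈ AddSubgroup.closure {x : A | ∃ a : A, ∃ m ∈ M, x = a * m} := by
    have h : (1 : A) ∈ J := IsSimpleRing.one_mem_of_ne_zero_mem J hm₀0 (by
      rw [TwoSidedIdeal.mem_mk']
      exact AddSubgroup.subset_closure ⟨1, m₀, hm₀, (one_mul _).symm⟩)
    rwa [TwoSidedIdeal.mem_mk'] at h
  have key : ∀ t ∈ AddSubgroup.closure {x : A | ∃ a : A, ∃ m ∈ M, x = a * m},
      ∃ c : A, ∀ y : M, (g ⟨(y : A) * t, hright y t⟩ : A) = (y : A) * c := by
    intro t ht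
    induction ht using AddSubgroup.closure_induction with
    | mem z hz =>
      obtain ⟨a, m, hm, rfl⟩ := hz
      refine ⟨a * (g ⟨m, hm⟩ : A), fun y => ?_⟩
      have h := hg ⟨(y : A) * a, hright y a⟩ ⟨m, hm⟩
      simpa [lm, mul_assoc] using h
    | zero =>
      refine ⟨0, fun y => ?_⟩
      rw [show (⟨(y : A) * 0, hright y 0⟩ : M) = 0 from Subtype.ext (mul_zero _), map_zero, mul_zero]
      rfl
    | add a b _ _ ha hb =>
      obtain ⟨c, hc⟩ := ha
      obtain ⟨d, hd⟩ := hb
      refine ⟨c + d, fun y => ?_⟩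
      rw [show (⟨(y : A) * (a + b), hright y _⟩ : M) =
        ⟨(y : A) * a, hright y a⟩ + ⟨(y : A) * b, hright y b⟩ from Subtype.ext (mul_add _ _ _),
        map_add, Submodule.coe_add, hc, hd, mul_add]
    | neg a _ ha =>
      obtain ⟨c, hc⟩ := ha
      refine ⟨-c, fun y => ?_⟩
      rw [show (⟨(y : A) * -a, hright y _⟩ : M) = -⟨(y : A) * a, hright y a⟩ from
        Subtype.ext (mul_neg _ _), map_neg, Submodule.coe_neg, hc, mul_neg]
  obtain ⟨c, hc⟩ := key 1 h1
  refine ⟨c, fun m => by simpa using hc m, fun d hd => ?_⟩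
  have hz : ∀ t ∈ AddSubgroup.closure {x : A | ∃ a : A, ∃ m ∈ M, x = a * m}, t * (d - c) = 0 := by
    intro t ht
    induction ht using AddSubgroup.closure_induction with
    | mem z hz =>
      obtain ⟨a, m, hm, rfl⟩ := hz
      have e := hd ⟨m, hm⟩
      have e' : (g ⟨m, hm⟩ : A) = m * c := by simpa using hc ⟨m, hm⟩
      rw [mul_assoc, mul_sub, ← e, e', sub_self, mul_zero]
    | zero => simp
    | add a b _ _ ha hb => rw [add_mul, ha, hb, add_zero]
    | neg a _ ha => rw [neg_mul, ha, neg_zero]
  simpa [sub_eq_zero] using hz 1 h1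

end Groth.Agent.S1517
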