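import Groth.Statements.S15172
import Mathlib.Algebra.Polynomial.Roots
import Mathlib.Algebra.Polynomial.AlgebraMap

set_option autoImplicit false
universe u v
open Polynomial
open BddFin

namespace Groth.Agent.S15172

/-- Let L be a field of characteristic p > 0 and s a finite subset of L containing 0 and closed under
addition (a finite additive subgroup). Then the polynomial f = ∏_{a ∈ s} (X - a) is additive: f (x +
y) = f x + f y for all x, y in any commutative L-algebra (equivalently, as an identity of
polynomials in two variables). -/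
theorem result
    (L : Type u) [Field L] (p : ℕ) [Fact p.Prime] [CharP L p] (s : Finset L) (h0 : (0 : L) ∈ s)
    (hadd : ∀ a ∈ s, ∀ b ∈ s, a + b ∈ s) (R : Type v) [CommRing R] [Algebra L R] (x y : R) :
    aeval (x + y) (∏ a ∈ s, (X - C a)) = aeval x (∏ a ∈ s, (X - C a)) + aeval y (∏ a ∈ s, (X - C a)) := by
  classical
  set f : Polynomial L := ∏ a ∈ s, (X - C a) with hf
  have hdeg : f.natDegree = s.card := Polynomial.natDegree_finsetProd_X_sub_C_eq_card s id
  have hroot : ∀ a ∈ s, aeval (C a : Polynomial L) f = 0 := fun a ha => by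
    rw [hf, map_prod]
    exact Finset.prod_eq_zero ha (by simp [Polynomial.algebraMap_eq])
  have hshift : ∀ a ∈ s, aeval (X + C a) f = f := fun a ha => by
    rw [hf, map_prod]
    have himg : s.image (fun b => b - a) = s := by
      refine (Finset.eq_of_subset_of_card_le (fun b hb => ?_) ?_).symm
      · exact Finset.mem_image.mpr ⟨b + a, hadd b hb a ha, by simp⟩
      · rw [Finset.card_image_of_injective _ (sub_left_injective)]
    conv_rhs => rw [← himg, Finset.prod_image fun b _ b' _ h => sub_left_injective h]
    refine Finset.prod_congr rfl fun b _ => ?_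
    simp [Polynomial.algebraMap_eq]
    ring
  let φ : L[X] →ₐ[L] R := aeval y
  let S := Polynomial (Polynomial L)
  let P : S := (f.map (C : L →+* L[X])).comp (X + C X) - f.map C - C f
  have hcard0 : 0 < s.card := Finset.card_pos.mpr ⟨0, h0⟩
  have hev : ∀ a ∈ s, P.eval (C a) = 0 := fun a ha => by
    have h1 : ((f.map (C : L →+* L[X])).comp (X + C X)).eval (C a) = f := by
      rw [eval_comp]
      simp only [eval_add, eval_X, eval_C, eval_map]
      rw [add_comm]
      exact hshift a ha
    have h2 : (f.map (C : L →+* L[X])).eval (C a) = 0 := by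
      rw [eval_map]; exact hroot a ha
    simp [P, h1, h2]
  have hPdeg : P.natDegree < s.card := by
    have hm : (f.map (C : L →+* L[X])).Monic := (monic_prod_X_sub_C id s).map _
    have hm2 : ((f.map (C : L →+* L[X])).comp (X + C X)).Monic := hm.comp_X_add_C _
    have hn1 : ((f.map (C : L →+* L[X])).comp (X + C X)).natDegree = s.card := by
      rw [natDegree_comp, natDegree_X_add_C, mul_one, natDegree_map_eq_of_injective C_injective, hdeg]
    have hn2 : (f.map (C : L →+* L[X])).natDegree = s.card := by
      rw [natDegree_map_eq_of_injective C_injective, hdeg]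
    by_cases hP : ((f.map (C : L →+* L[X])).comp (X + C X) - f.map C) = 0
    · simp [P, hP, hcard0]
    refine lt_of_le_of_lt ((natDegree_sub_C).le) ?_
    rw [← hn1]
    exact natDegree_lt_natDegree hP (degree_sub_lt
      (by rw [degree_eq_natDegree hm2.ne_zero, degree_eq_natDegree hm.ne_zero, hn1, hn2])
      hm2.ne_zero (by rw [hm.leadingCoeff, hm2.leadingCoeff]))
  have hP0 : P = 0 := by
    refine eq_zero_of_natDegree_lt_card_of_eval_eq_zero' P (s.image C)
      (fun z hz => ?_) (by rwa [Finset.card_image_of_injective _ C_injective])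
    obtain ⟨a, ha, rfl⟩ := Finset.mem_image.mp hz
    exact hev a ha
  have hfin := congrArg (fun Q : S => eval₂ (φ : L[X] →+* R) x Q) hP0
  have hc : ((φ : L[X] →+* R).comp C) = algebraMap L R := by ext; simp [φ]
  simp only [P, eval₂_sub, eval₂_comp, eval₂_map, eval₂_add, eval₂_X, eval₂_C, eval₂_zero, hc,
    RingHom.coe_coe] at hfin
  rw [sub_sub, sub_eq_zero] at hfin
  simpa [φ, aeval_def] using hfin

end Groth.Agent.S15172
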