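import Groth.Statements.S15173
import Mathlib.GroupTheory.FiniteAbelian.Basic
import Mathlib.Algebra.CharP.Algebra
import Mathlib.Algebra.CharP.Lemmas
import Mathlib.FieldTheory.Separable
import Mathlib.GroupTheory.Index

set_option autoImplicit false
universe u v
open Polynomial
open BddFin

namespace Groth.Agent.S15173

/-- Let K be a field of characteristic p > 0 such that K contains all roots of unity (for every n ≥ 1
the polynomial X^n − 1 splits into linear factors over K), and A a finite-dimensional central
division algebra over K. If A contains an element w not in K with w ^ p in K, then the quotient of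
the unit group of A by that of K has unbounded finite subgroups: for every N there is a subgroup H
of the units of A containing the units of K as a subgroup of finite index greater than N. (The
published statement assumes only that some element of A is inseparable over K and passes at once to
a purely inseparable subfield of degree p; this row assumes an element generating such a subfield
directly, which is what the rest of the printed argument uses.) -/
theorem result
    (K : Type u) [Field K] (p : ℕ) [Fact p.Prime] [CharP K p] (hK : ∀ n : ℕ, 0 < n → (X ^ n - 1 : K[X]).Splits)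
    (A : Type v) [DivisionRing A] [Algebra K A] [Algebra.IsCentral K A] [FiniteDimensional K A]
    (w : A) (hw : w ^ p ∈ (algebraMap K A).range) (hwK : w ∉ (algebraMap K A).range) (N : ℕ) :
    ∃ H : Subgroup Aˣ, (Units.map (algebraMap K A : K →* A)).range ≤ H ∧
      N < ((Units.map (algebraMap K A : K →* A)).range).relIndex H := by
  classical
  haveI : Infinite K := by
    refine ⟨fun hfin => ?_⟩
    haveI := Fintype.ofFinite K
    let n := p * Fintype.card K + 1
    have hn : (n : K) ≠ 0 := by simp [n]
    have hs : (X ^ n - 1 : K[X]).Separable := by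
      simpa using separable_X_pow_sub_C (1 : K) hn one_ne_zero
    have h1 := (hK n (Nat.succ_pos _)).natDegree_eq_card_roots
    rw [show (X ^ n - 1 : K[X]).natDegree = n by
      rw [← map_one (C : K →+* K[X]), natDegree_X_pow_sub_C]] at h1
    have h2 : ((X ^ n - 1 : K[X]).roots).card ≤ Fintype.card K := by
      rw [← Multiset.toFinset_card_of_nodup (nodup_roots hs)]
      exact Finset.card_le_univ _
    have := (Fact.out : p.Prime).two_le
    have : 2 * Fintype.card K ≤ p * Fintype.card K := Nat.mul_le_mul_right _ this
    omega
  let S := Algebra.adjoin K ({w} : Set A)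
  letI : CommRing S := Algebra.adjoinCommRingOfComm K (fun a ha b hb => by
    rw [Set.mem_singleton_iff.mp ha, Set.mem_singleton_iff.mp hb])
  haveI : CharP S p := charP_of_injective_algebraMap (algebraMap K S).injective p
  have hpow : ∀ x : S, x ^ p ∈ (algebraMap K S).range := by
    intro x
    obtain ⟨x, hx⟩ := x
    induction hx using Algebra.adjoin_induction with
    | mem y hy =>
      rw [Set.mem_singleton_iff] at hy
      subst hy
      obtain ⟨c, hc⟩ := hw
      exact ⟨c, Subtype.ext hc⟩
    | algebraMap r => exact ⟨r ^ p, by rw [map_pow]; rfl⟩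
    | add a b ha hb iha ihb =>
      show ((⟨a, ha⟩ : S) + ⟨b, hb⟩) ^ p ∈ _
      rw [add_pow_char]; exact add_mem iha ihb
    | mul a b ha hb iha ihb =>
      show ((⟨a, ha⟩ : S) * ⟨b, hb⟩) ^ p ∈ _
      rw [mul_pow]; exact mul_mem iha ihb
  let e : Fin (N + 1) ↪ K := Fin.valEmbedding.trans (Infinite.natEmbedding K)
  let w' : S := ⟨w, Algebra.subset_adjoin rfl⟩
  have hunit : ∀ a : K, IsUnit (algebraMap K S a + w') := by
    intro a
    obtain ⟨c, hc⟩ := hpow (algebraMap K S a + w')
    refine (isUnit_pow_iff (Fact.out : p.Prime).ne_zero).mp (hc ▸ ?_)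
    refine (isUnit_iff_ne_zero.mpr ?_).map _
    rintro rfl
    rw [map_zero] at hc
    have hne : (algebraMap K A a + w) ≠ 0 := fun h =>
      hwK ⟨-a, by rw [map_neg, eq_comm, eq_neg_iff_add_eq_zero, add_comm, h]⟩
    exact pow_ne_zero p hne (congrArg Subtype.val hc).symm
  let Z : Subgroup Sˣ := (Units.map (algebraMap K S : K →* S)).range
  let T : Subgroup (Sˣ ⧸ Z) :=
    Subgroup.closure (Set.range fun i => QuotientGroup.mk (hunit (e i)).unit)
  let ι : Sˣ →* Aˣ := Units.map (S.val : S →* A)
  have hι : Function.Injective ι := Units.map_injective Subtype.val_injective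
  have hZ : Z.map ι = (Units.map (algebraMap K A : K →* A)).range := by
    rw [MonoidHom.map_range]; rfl
  refine ⟨(T.comap (QuotientGroup.mk' Z)).map ι, ?_, ?_⟩
  · rw [← hZ]
    exact Subgroup.map_mono fun z hz => by
      rw [Subgroup.mem_comap, QuotientGroup.mk'_apply, (QuotientGroup.eq_one_iff z).mpr hz]
      exact one_mem _
  rw [← hZ, Subgroup.relIndex_map_map_of_injective _ _ hι]
  have hrel : Z.relIndex (T.comap (QuotientGroup.mk' Z)) = Nat.card T := by
    have h := Subgroup.relIndex_comap (⊥ : Subgroup (Sˣ ⧸ Z)) (QuotientGroup.mk' Z)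
      (T.comap (QuotientGroup.mk' Z))
    rw [MonoidHom.comap_bot, QuotientGroup.ker_mk',
      Subgroup.map_comap_eq_self_of_surjective (QuotientGroup.mk'_surjective Z),
      Subgroup.relIndex_bot_left] at h
    exact h
  rw [hrel]
  haveI : Group.FG T := (Group.fg_iff_subgroup_fg T).mpr
    ((Subgroup.fg_iff T).mpr ⟨_, rfl, Set.finite_range _⟩)
  have htor : Monoid.IsTorsion T := fun t => by
    rw [isOfFinOrder_iff_pow_eq_one]
    refine ⟨p, (Fact.out : p.Prime).pos, ?_⟩
    obtain ⟨u, hu⟩ := QuotientGroup.mk'_surjective Z t.1
    refine Subtype.ext ?_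
    rw [SubmonoidClass.coe_pow, ← hu, ← map_pow, OneMemClass.coe_one, QuotientGroup.mk'_apply,
      QuotientGroup.eq_one_iff]
    obtain ⟨c, hc⟩ := hpow (u : S)
    have hc0 : c ≠ 0 := by
      rintro rfl
      exact (u ^ p).ne_zero (by rw [Units.val_pow_eq_pow_val, ← hc, map_zero])
    exact ⟨Units.mk0 c hc0, Units.ext (by simpa using hc)⟩
  haveI : Finite T := CommGroup.finite_of_fg_torsion T htor
  let f : Fin (N + 1) → T := fun i =>
    ⟨QuotientGroup.mk (hunit (e i)).unit, Subgroup.subset_closure ⟨i, rfl⟩⟩
  have hf : Function.Injective f := fun i j h => by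
    have h1 := QuotientGroup.eq.mp (congrArg Subtype.val h)
    obtain ⟨c, hc⟩ := h1
    have h2 : (algebraMap K S (e i) + w') * algebraMap K S (c : K) = algebraMap K S (e j) + w' := by
      have h3 := congrArg Units.val (eq_inv_mul_iff_mul_eq.mp hc)
      exact h3
    have h4 : (algebraMap K A (e i) + w) * algebraMap K A c = algebraMap K A (e j) + w :=
      congrArg Subtype.val h2
    by_cases hc1 : (c : K) = 1
    · rw [hc1, map_one, mul_one, add_left_inj] at h4
      exact e.injective ((algebraMap K A).injective h4)
    · refine absurd ⟨(e j - e i * c) / (c - 1), ?_⟩ hwK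
      have hc' : algebraMap K A ((c : K) - 1) ≠ 0 := by simpa [sub_eq_zero] using hc1
      apply mul_left_cancel₀ hc'
      rw [← map_mul, mul_div_cancel₀ _ (sub_ne_zero.mpr hc1), map_sub, map_sub, map_mul, map_one,
        sub_mul, one_mul, Algebra.commutes (c : K) w]
      rw [add_mul] at h4
      linear_combination (norm := abel) h4.symm
  calc N < Nat.card (Fin (N + 1)) := by simp
    _ ≤ Nat.card T := Nat.card_le_card_of_injective f hf

end Groth.Agent.S15173
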