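import Groth.Statements.S15174
import Groth.Agent.Lib.TorusDescent.Scheme

set_option autoImplicit false
universe u
open CategoryTheory MonoidalCategory CartesianMonoidalCategory MonObj GrpObj AlgebraicGeometry
open BddFin

namespace Groth.Agent.S15174

open Groth.Agent.Lib.TorusDescent

/-- Let n and d be positive integers with d larger than the order of every finite subgroup of GL_n(ℤ);
let K be a field whose characteristic does not divide d and which contains a primitive d-th root of
unity; let T be a K-group scheme that is an n-dimensional torus (it becomes isomorphic, as a group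
scheme, to the split torus D(ℤ^n) = 𝔾_m^n after some field extension L of K). Write T(K) for the
group of sections Spec K → T. If T(K) has an element of order d, then some homomorphism 𝔾_m → T of
K-group schemes is a monomorphism (T has a subtorus isomorphic to 𝔾_m). -/
theorem result
    (n d : ℕ) (hn : 0 < n) (hd : 0 < d)
    (hΥ : ∀ H : Subgroup (Matrix.GeneralLinearGroup (Fin n) ℤ), Finite H → Nat.card H < d)
    (K : Type u) [Field K] (hdK : (d : K) ≠ 0) (ζ : K) (hζ : IsPrimitiveRoot ζ d)
    (T : Over (Spec (CommRingCat.of K))) [GrpObj T]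
    (hT : ∃ (L : Type u) (_ : Field L) (_ : Algebra K L),
      Red.IsSplitTorusWith (Fin n → ℤ) (Red.bc (Spec.map (CommRingCat.ofHom (algebraMap K L))) T))
    (x : 𝟙_ (Over (Spec (CommRingCat.of K))) ⟶ T) (hx : orderOf x = d) :
    ∃ i : Red.Gm (Spec (CommRingCat.of K)) ⟶ T, IsMonHom i ∧ Mono i := by
  obtain ⟨L, _, _, hL⟩ := hT
  obtain ⟨A, _, _, e, he, N, _, _, _, _, ⟨s⟩⟩ := exists_splitting hL
  rcases exists_lam_or_sum s with ⟨lam, hsurj, hlam⟩ | hsum
  · obtain ⟨φ, hφ, hmul⟩ := exists_hom s lam hlam hsurj
    exact exists_mono_Gm e φ hφ hmul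
  · exfalso
    let y := ratPts e x
    have hy : orderOf y = d := (orderOf_injective (ratPts e).toMonoidHom (ratPts e).injective x).trans hx
    have : NeZero d := ⟨hd.ne'⟩
    have hval : ∀ m, val s y.ofConv m ∈ Set.range (algebraMap K N) := fun m => by
      obtain ⟨i, -, hi⟩ := (hζ.map_of_injective (algebraMap K N).injective).eq_pow_of_pow_eq_one
        ((pow_eq_one_iff s y d).1 (hy ▸ pow_orderOf_eq_one y) m)
      exact ⟨ζ ^ i, by rw [map_pow, hi]⟩
    have h1 := orderOf_le_of_pow_eq_one Nat.card_pos (pow_card_eq_one s hsum y hval)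
    have h2 := hΥ (actGL s).range inferInstance
    omega

end Groth.Agent.S15174
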