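import Groth.Statements.S15175
import Groth.Agent.Lib.TorusDescent.Scheme

set_option autoImplicit false
universe u
open CategoryTheory MonoidalCategory CartesianMonoidalCategory MonObj GrpObj AlgebraicGeometry
open Polynomial
open BddFin

namespace Groth.Agent.S15175

open Groth.Agent.Lib.TorusDescent

/-- Let K be a field such that K contains all roots of unity (for every n ≥ 1 the polynomial X^n − 1
splits into linear factors over K), and T a K-group scheme that is an n-dimensional torus (it
becomes isomorphic, as a group scheme, to the split torus D(ℤ^n) = 𝔾_m^n after some field extension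
L of K) and is anisotropic (no homomorphism 𝔾_m → T of K-group schemes is a monomorphism, i.e. T
contains no subtorus isomorphic to 𝔾_m); T(K) is the group of sections Spec K → T. Then a torsion
element of T(K) has order invertible in K (prime to the characteristic) and at most |H| for some
finite subgroup H of GL_n(ℤ) (that is, at most Υ(n), the largest such order), and a finite subgroup
of T(K) has at most |H| ^ n elements for some finite subgroup H of GL_n(ℤ) (at most Υ(n) ^ n). (The
published corollary also records that a finite subgroup of T(K) has order prime to the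
characteristic; that follows from the first clause applied to its elements of prime order and is not
restated.) -/
theorem result
    (K : Type u) [Field K] (hK : ∀ n : ℕ, 0 < n → (X ^ n - 1 : K[X]).Splits) (n : ℕ)
    (T : Over (Spec (CommRingCat.of K))) [GrpObj T]
    (hT : ∃ (L : Type u) (_ : Field L) (_ : Algebra K L),
      Red.IsSplitTorusWith (Fin n → ℤ) (Red.bc (Spec.map (CommRingCat.ofHom (algebraMap K L))) T))
    (haniso : ∀ i : Red.Gm (Spec (CommRingCat.of K)) ⟶ T, IsMonHom i → Mono i → False) :
    (∀ x : 𝟙_ (Over (Spec (CommRingCat.of K))) ⟶ T, IsOfFinOrder x →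
        ((orderOf x : ℕ) : K) ≠ 0 ∧
        ∃ H : Subgroup (Matrix.GeneralLinearGroup (Fin n) ℤ), Finite H ∧ orderOf x ≤ Nat.card H) ∧
    (∀ G : Subgroup (𝟙_ (Over (Spec (CommRingCat.of K))) ⟶ T), Finite G →
        ∃ H : Subgroup (Matrix.GeneralLinearGroup (Fin n) ℤ), Finite H ∧ Nat.card G ≤ Nat.card H ^ n) := by
  obtain ⟨L, _, _, hL⟩ := hT
  obtain ⟨A, _, _, e, he, N, _, _, _, _, ⟨s⟩⟩ := exists_splitting hL
  rcases exists_lam_or_sum s with ⟨lam, hsurj, hlam⟩ | hsum
  · obtain ⟨φ, hφ, hmul⟩ := exists_hom s lam hlam hsurj
    obtain ⟨i, hi, hi'⟩ := exists_mono_Gm e φ hφ hmul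
    exact (haniso i hi hi').elim
  · have hkill : ∀ y : WithConv (A →ₐ[K] K), IsOfFinOrder y → y ^ Nat.card (actGL s).range = 1 := fun y hy =>
      pow_card_eq_one s hsum y fun m => mem_range_of_splits hy.orderOf_pos (hK _ hy.orderOf_pos)
        ((pow_eq_one_iff s y _).1 (pow_orderOf_eq_one y) m)
    refine ⟨fun x hx => ?_, fun G hG => ?_⟩
    · have hy : IsOfFinOrder (ratPts e x) := (ratPts e).toMonoidHom.isOfFinOrder hx
      have ho : orderOf (ratPts e x) = orderOf x :=
        orderOf_injective (ratPts e).toMonoidHom (ratPts e).injective x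
      rw [← ho]
      exact ⟨orderOf_ne_zero s _ hy, (actGL s).range, inferInstance,
        orderOf_le_of_pow_eq_one Nat.card_pos (hkill _ hy)⟩
    · refine ⟨(actGL s).range, inferInstance, ?_⟩
      have h := (card_le_pow s Nat.card_pos (ratPts e '' (G : Set _)) (by
        rintro _ ⟨z, hz, rfl⟩
        refine hkill _ ((ratPts e).toMonoidHom.isOfFinOrder ?_)
        exact (Submonoid.isOfFinOrder_coe (x := (⟨z, hz⟩ : G.toSubmonoid))).2 (isOfFinOrder_of_finite (⟨z, hz⟩ : G)))).2
      rwa [Nat.card_image_of_injective (ratPts e).injective] at h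

end Groth.Agent.S15175
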