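import Groth.Statements.S15176
import Groth.Agent.Lib.TorusDescent.Scheme
import Groth.Agent.Lib.TorusDescent.RankTwo

set_option autoImplicit false
universe u
open CategoryTheory MonoidalCategory CartesianMonoidalCategory MonObj GrpObj AlgebraicGeometry
open Polynomial
open BddFin

namespace Groth.Agent.S15176

open Groth.Agent.Lib.TorusDescent

/-- Let K be a field such that K contains all roots of unity (for every n ≥ 1 the polynomial X^n − 1
splits into linear factors over K), and T a K-group scheme that is a 2-dimensional torus (it becomes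
isomorphic, as a group scheme, to the split torus D(ℤ^2) = 𝔾_m^2 after some field extension L of K)
and is anisotropic (no homomorphism 𝔾_m → T of K-group schemes is a monomorphism, i.e. T contains no
subtorus isomorphic to 𝔾_m); T(K) is the group of sections Spec K → T. Then torsion elements of T(K)
have order ≤ 6, and finite subgroups of T(K) have at most 36 elements. -/
theorem result
    (K : Type u) [Field K] (hK : ∀ n : ℕ, 0 < n → (X ^ n - 1 : K[X]).Splits)
    (T : Over (Spec (CommRingCat.of K))) [GrpObj T]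
    (hT : ∃ (L : Type u) (_ : Field L) (_ : Algebra K L),
      Red.IsSplitTorusWith (Fin 2 → ℤ) (Red.bc (Spec.map (CommRingCat.ofHom (algebraMap K L))) T))
    (haniso : ∀ i : Red.Gm (Spec (CommRingCat.of K)) ⟶ T, IsMonHom i → Mono i → False) :
    (∀ x : 𝟙_ (Over (Spec (CommRingCat.of K))) ⟶ T, IsOfFinOrder x → orderOf x ≤ 6) ∧
    (∀ G : Subgroup (𝟙_ (Over (Spec (CommRingCat.of K))) ⟶ T), Finite G → Nat.card G ≤ 36) := by
  obtain ⟨L, _, _, hL⟩ := hT
  obtain ⟨A, _, _, e, he, N, _, _, _, _, ⟨s⟩⟩ := exists_splitting hL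
  rcases exists_lam_or_sum s with ⟨lam, hsurj, hlam⟩ | hsum
  · obtain ⟨φ, hφ, hmul⟩ := exists_hom s lam hlam hsurj
    obtain ⟨i, hi, hi'⟩ := exists_mono_Gm e φ hφ hmul
    exact (haniso i hi hi').elim
  · obtain ⟨k, hk, hk6, hkill'⟩ := exists_exponent_le_six s hsum
    have hkill : ∀ y : WithConv (A →ₐ[K] K), IsOfFinOrder y → y ^ k = 1 := fun y hy =>
      hkill' y fun m => mem_range_of_splits hy.orderOf_pos (hK _ hy.orderOf_pos)
        ((pow_eq_one_iff s y _).1 (pow_orderOf_eq_one y) m)
    refine ⟨fun x hx => ?_, fun G hG => ?_⟩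
    · rw [← orderOf_injective (ratPts e).toMonoidHom (ratPts e).injective x]
      exact (orderOf_le_of_pow_eq_one hk (hkill _ ((ratPts e).toMonoidHom.isOfFinOrder hx))).trans hk6
    · have h := (card_le_pow s hk (ratPts e '' (G : Set _)) (by
        rintro _ ⟨z, hz, rfl⟩
        refine hkill _ ((ratPts e).toMonoidHom.isOfFinOrder ?_)
        exact (Submonoid.isOfFinOrder_coe (x := (⟨z, hz⟩ : G.toSubmonoid))).2 (isOfFinOrder_of_finite (⟨z, hz⟩ : G)))).2
      rw [Nat.card_image_of_injective (ratPts e).injective] at h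
      exact h.trans (Nat.pow_le_pow_left hk6 2)

end Groth.Agent.S15176
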