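import Groth.Statements.S15177
import Groth.Agent.H66.UnipPow

set_option autoImplicit false
universe u v
open BddFin

namespace Groth.Agent.S15177

/-- Let K be a field and Γ a unipotent linear algebraic group over K, given here by its coordinate Hopf
algebra A (a finitely generated, formally smooth commutative Hopf algebra over K all of whose
non-zero finite-dimensional comodules have a non-zero fixed vector). Then the group Γ(K) of K-points
(K-algebra maps A → K under convolution) has no non-trivial element of finite order coprime to the
characteristic of K: an element of finite order whose order is non-zero in K is the identity. -/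
theorem result
    (K : Type u) [Field K] (A : Type v) [CommRing A] [HopfAlgebra K A] [Algebra.FiniteType K A]
    [Algebra.FormallySmooth K A] (hU : HopfRep.IsUnipotent K A)
    (g : WithConv (A →ₐ[K] K)) (hg : IsOfFinOrder g) (hcop : ((orderOf g : ℕ) : K) ≠ 0) : g = 1 := by
  have key : ∀ (j : ℕ) (a : A), ((H66.UnipPow.T g - 1) ^ j) a = 0 → (H66.UnipPow.T g - 1) a = 0 := by
    intro j
    induction j with
    | zero =>
      intro a ha
      rw [pow_zero, Module.End.one_apply] at ha
      rw [ha, map_zero]
    | succ j ih =>
      intro a ha
      rw [pow_succ, Module.End.mul_apply] at ha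
      have h2 : (H66.UnipPow.T g - 1) ((H66.UnipPow.T g - 1) a) = 0 := ih _ ha
      set N := H66.UnipPow.T g - 1
      have hpow : ∀ i : ℕ, (H66.UnipPow.T g ^ i) a = a + i • N a := by
        intro i
        induction i with
        | zero => simp
        | succ i hi =>
          have e : H66.UnipPow.T g = N + 1 := (sub_add_cancel _ _).symm
          rw [pow_succ', Module.End.mul_apply, hi, e]
          simp only [LinearMap.add_apply, Module.End.one_apply, map_add, map_nsmul, h2, smul_zero, add_zero]
          rw [succ_nsmul]
          abel_nf
      have h := hpow (orderOf g)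
      rw [← H66.UnipPow.T_pow, pow_orderOf_eq_one, H66.UnipPow.T_one, Module.End.one_apply,
        left_eq_add, ← Nat.cast_smul_eq_nsmul K, smul_eq_zero] at h
      exact h.resolve_left hcop
  refine WithConv.ext (AlgHom.ext fun a => ?_)
  obtain ⟨n, hn⟩ := H66.Unip.mem_fil_exists hU a
  have h0 := key n a (H66.UnipPow.sub_one_pow_eq_zero g n hn)
  rw [LinearMap.sub_apply, sub_eq_zero, Module.End.one_apply] at h0
  rw [← H66.UnipPow.counit_T g a, h0, ← H66.UnipPow.counit_T 1 a, H66.UnipPow.T_one, Module.End.one_apply]

end Groth.Agent.S15177
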