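import Groth.Statements.S15179
import Groth.Agent.H83.Elem.ConjPairAut

set_option autoImplicit false
universe u
attribute [local instance] MvPolynomial.gradedAlgebra
open BddFin

namespace Groth.Agent.S15179

open MvPolynomial

/-- A splitting of an irreducible binary quadratic form. -/
theorem exists_data {K : Type u} [Field K] {q : MvPolynomial (Fin 2) K} (hq : q.IsHomogeneous 2)
    (hirr : Irreducible q)
    (hdisc : (q.coeff (Finsupp.single 0 1 + Finsupp.single 1 1)) ^ 2 -
      4 * q.coeff (Finsupp.single 0 2) * q.coeff (Finsupp.single 1 2) ≠ 0) :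
    Nonempty (Groth.Agent.H83.ConjPair.Data q (AlgebraicClosure K)) := by
  classical
  set a := q.coeff (Finsupp.single 0 2)
  set b := q.coeff (Finsupp.single 0 1 + Finsupp.single 1 1)
  set c := q.coeff (Finsupp.single 1 2)
  have hsup : q.support ⊆ {Finsupp.single 0 2, Finsupp.single 0 1 + Finsupp.single 1 1,
      Finsupp.single 1 2} := by
    intro d hd
    have h2 := hq (MvPolynomial.mem_support_iff.1 hd)
    rw [Finsupp.weight_apply, Finsupp.sum_fintype _ _ (fun _ => by simp), Fin.sum_univ_two] at h2
    simp only [Pi.one_apply, smul_eq_mul, mul_one] at h2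
    simp only [Finset.mem_insert, Finset.mem_singleton]
    rcases (show d 0 = 2 ∨ d 0 = 1 ∨ d 0 = 0 by omega) with h | h | h
    · left; ext i; fin_cases i <;> simp <;> omega
    · right; left; ext i; fin_cases i <;> simp <;> omega
    · right; right; ext i; fin_cases i <;> simp <;> omega
  have hq3 : q = C a * X 0 ^ 2 + C b * (X 0 * X 1) + C c * X 1 ^ 2 := by
    conv_lhs => rw [q.as_sum, Finset.sum_subset hsup
      (fun d _ hd => by rw [MvPolynomial.notMem_support_iff.1 hd, monomial_zero])]
    rw [Finset.sum_insert (by
        simp only [Finset.mem_insert, Finset.mem_singleton]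
        rintro (h | h) <;> simpa using DFunLike.congr_fun h 0),
      Finset.sum_insert (by
        simp only [Finset.mem_singleton]
        intro h
        simpa using DFunLike.congr_fun h 0),
      Finset.sum_singleton]
    simp [monomial_eq, Finsupp.prod_fintype, Fin.prod_univ_two, a, b, c]
    ring
  have hunit : ∀ P : MvPolynomial (Fin 2) K, eval (0 : Fin 2 → K) P = 0 → ¬ IsUnit P :=
    fun P hP hu => (hu.map (eval (0 : Fin 2 → K))).ne_zero hP
  have ha : a ≠ 0 := by
    intro ha
    have hprod : q = X 1 * (C b * X 0 + C c * X 1) := by rw [hq3, ha, map_zero]; ring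
    rcases hirr.isUnit_or_isUnit hprod with h | h
    · exact hunit _ (by simp) h
    · exact hunit _ (by simp) h
  have hroot : ∀ r : K, a * r ^ 2 + b * r + c ≠ 0 := by
    intro r hr
    have hc : C a * C r ^ 2 + C b * C r + C c = (0 : MvPolynomial (Fin 2) K) := by
      rw [← map_pow, ← map_mul, ← map_mul, ← map_add, ← map_add, hr, map_zero]
    have hprod : q = (X 0 - C r * X 1) * (C a * X 0 + (C a * C r + C b) * X 1) := by
      rw [hq3]; linear_combination X 1 ^ 2 * hc
    rcases hirr.isUnit_or_isUnit hprod with h | h
    · exact hunit _ (by simp) h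
    · exact hunit _ (by simp) h
  set L := AlgebraicClosure K
  set s : K := -b / a with hs
  set p : K := c / a with hp
  set P : Polynomial K := Polynomial.X ^ 2 + Polynomial.C (-s) * Polynomial.X + Polynomial.C p with hP
  have hPd : P.natDegree = 2 := by rw [hP]; compute_degree!
  have hPm : P.Monic := by rw [hP]; monicity!
  obtain ⟨α, hα⟩ := IsAlgClosed.exists_aeval_eq_zero L P (by
    rw [Polynomial.degree_eq_natDegree hPm.ne_zero, hPd]; norm_num)
  have hPeval : ∀ z : L, Polynomial.aeval z P = z ^ 2 - algebraMap K L s * z + algebraMap K L p := by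
    intro z; simp [hP]; ring
  rw [hPeval] at hα
  set β := algebraMap K L s - α with hβd
  have hint : IsIntegral K α := Algebra.IsIntegral.isIntegral α
  have hmin : minpoly K α = P := by
    refine (Polynomial.eq_of_monic_of_dvd_of_natDegree_le (minpoly.monic hint) hPm
      (minpoly.dvd K α (by rw [hPeval, hα])) ?_).symm
    rw [hPd]
    by_contra hlt
    push Not at hlt
    have hpos := minpoly.natDegree_pos hint
    obtain ⟨r, hr⟩ := minpoly.natDegree_eq_one_iff.1 (show (minpoly K α).natDegree = 1 by omega)
    refine hroot r ((algebraMap K L).injective ?_)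
    rw [map_zero, map_add, map_add, map_mul, map_mul, map_pow, hr]
    have e1 : algebraMap K L a * algebraMap K L s = -algebraMap K L b := by
      rw [← map_mul, ← map_neg, hs, mul_div_cancel₀ _ ha]
    have e2 : algebraMap K L a * algebraMap K L p = algebraMap K L c := by
      rw [← map_mul, hp, mul_div_cancel₀ _ ha]
    linear_combination algebraMap K L a * hα + α * e1 - e2
  obtain ⟨σ, hσ⟩ := minpoly.exists_algEquiv_of_root' (K := K) (L := L) (x := β) (y := α)
    hint.isAlgebraic (by rw [hmin, hPeval, hβd]; linear_combination hα)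
  refine ⟨{ a := a, s := s, p := p, α := α, β := β, σ := σ.toAlgHom, a_ne := ha,
            q_eq := ?_, disc := ?_, hs := by rw [hβd]; ring,
            hp := by rw [hβd]; linear_combination -hα,
            σα := hσ, σβ := ?_ }⟩
  · rw [hq3, hs, hp]
    have e1 : (C a : MvPolynomial (Fin 2) K) * C (-b / a) = -C b := by
      rw [← map_mul, mul_div_cancel₀ _ ha, map_neg]
    have e2 : (C a : MvPolynomial (Fin 2) K) * C (c / a) = C c := by
      rw [← map_mul, mul_div_cancel₀ _ ha]
    linear_combination X 0 * X 1 * e1 - X 1 ^ 2 * e2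
  · rw [hs, hp]
    intro h
    refine hdisc ?_
    field_simp at h
    linear_combination h
  · show σ β = α
    rw [hβd, map_sub, AlgEquiv.commutes, hσ, hβd]; ring


/-- Let K be a field such that K contains all roots of unity (for every n ≥ 1 the polynomial X^n − 1
splits into linear factors over K). Let q be an irreducible binary quadratic form over K with
non-zero discriminant, so that its zero locus in the projective line over K is a single closed point
with separable quadratic residue field over K (a pair of distinct conjugate geometric points), and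
let U be the complement of that point: the affine curve whose coordinate ring is the ring of
degree-0 fractions f / q ^ k (f a binary form of degree 2k). Then for every finite group G of
K-automorphisms of U (K-linear ring automorphisms of its coordinate ring), every g ∈ G satisfies g ^
2 = 1 and G has at most 4 elements. -/
theorem result
    (K : Type u) [Field K] (hK : ∀ n : ℕ, 0 < n → (Polynomial.X ^ n - 1 : Polynomial K).Splits)
    (q : MvPolynomial (Fin 2) K) (hq : q.IsHomogeneous 2) (hirr : Irreducible q)
    (hdisc : (q.coeff (Finsupp.single 0 1 + Finsupp.single 1 1)) ^ 2 -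
      4 * q.coeff (Finsupp.single 0 2) * q.coeff (Finsupp.single 1 2) ≠ 0)
    (G : Subgroup (HomogeneousLocalization.Away (MvPolynomial.homogeneousSubmodule (Fin 2) K) q ≃+* HomogeneousLocalization.Away (MvPolynomial.homogeneousSubmodule (Fin 2) K) q)) [Finite G]
    (hG : ∀ g ∈ G, ∀ (k : K) (z : HomogeneousLocalization.Away (MvPolynomial.homogeneousSubmodule (Fin 2) K) q), g (k • z) = k • g z) :
    (∀ g ∈ G, g ^ 2 = 1) ∧ Nat.card G ≤ 4 := by
  classical
  obtain ⟨D⟩ := exists_data hq hirr hdisc
  have hinj := Groth.Agent.H83.ConjPair.phi_injective D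
  have hlin : ∀ g : G, Groth.Agent.H83.ConjPair.IsLin (q := q) g.1 := fun g => hG g g.2
  let N : G → ℤ := fun g => Groth.Agent.H83.ConjPair.nn D (hlin g)
  let c : G → AlgebraicClosure K := fun g => Groth.Agent.H83.ConjPair.cc D (hlin g)
  have hmul : ∀ g h : G, N (g * h) = N g * N h ∧ c (g * h) = c h * c g ^ N h := fun g h =>
    Groth.Agent.H83.ConjPair.tau_mul D (hlin g) (hlin h) (hlin (g * h))
  have hone : N 1 = 1 ∧ c 1 = 1 := Groth.Agent.H83.ConjPair.nn_one D (hlin 1)
  have hext : ∀ g h : G, c g = c h → N g = N h → g = h := fun g h hc hn =>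
    Subtype.ext (Groth.Agent.H83.ConjPair.ext_of_tau D (hlin g) (hlin h) hc hn hinj)
  have hN : ∀ g : G, N g = 1 ∨ N g = -1 := fun g => by
    have h1 : N g * N g⁻¹ = 1 := by rw [← (hmul g g⁻¹).1, mul_inv_cancel, hone.1]
    exact Int.isUnit_iff.1 (IsUnit.of_mul_eq_one _ h1)
  have hroot : ∀ g : G, N g = 1 → c g = 1 ∨ c g = -1 := by
    intro g hg
    have hpow : ∀ m : ℕ, N (g ^ m) = 1 ∧ c (g ^ m) = c g ^ m := by
      intro m
      induction m with
      | zero => simpa using hone
      | succ m ih =>
        rw [pow_succ, (hmul _ _).1, (hmul _ _).2, ih.1, ih.2, hg, zpow_one, mul_one, pow_succ']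
        exact ⟨rfl, rfl⟩
    have hfin := orderOf_pos g
    have h1 : c g ^ orderOf g = 1 := by rw [← (hpow _).2, pow_orderOf_eq_one, hone.2]
    have hne : (Polynomial.X ^ orderOf g - 1 : Polynomial K) ≠ 0 :=
      (Polynomial.monic_X_pow_sub_C (1 : K) hfin.ne').ne_zero
    obtain ⟨r, hr⟩ := (hK (orderOf g) hfin).mem_range_of_isRoot hne
      (i := algebraMap K (AlgebraicClosure K)) (x := c g) (by simp [h1])
    obtain ⟨h0, -, -, hσ⟩ := Groth.Agent.H83.ConjPair.cc_nn_spec D (hlin g)
    have e : c g = (c g)⁻¹ := by
      refine Eq.trans ?_ hσ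
      show c g = D.σ (c g)
      rw [← hr, AlgHom.commutes]
    exact sq_eq_one_iff.1 (by rw [sq]; nth_rewrite 2 [e]; exact mul_inv_cancel₀ h0)
  constructor
  · intro g hg
    suffices h : (⟨g, hg⟩ : G) ^ 2 = 1 by simpa using congrArg Subtype.val h
    generalize (⟨g, hg⟩ : G) = x
    obtain ⟨hm1, hm2⟩ := hmul x x
    rw [← pow_two] at hm1 hm2
    refine hext _ _ ?_ ?_
    · rw [hm2, hone.2]
      rcases hN x with h | h
      · rw [h, zpow_one]
        rcases hroot x h with h' | h' <;> rw [h'] <;> ring
      · rw [h, zpow_neg_one]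
        exact mul_inv_cancel₀ (Groth.Agent.H83.ConjPair.cc_nn_spec D (hlin x)).1
    · rw [hm1, hone.1]
      rcases hN x with h | h <;> rw [h] <;> rfl
  · by_cases hall : ∀ g : G, N g = 1
    · refine le_trans (Nat.card_le_card_of_injective (fun g : G => decide (c g = 1)) ?_) (by simp)
      intro g h hgh
      refine hext g h ?_ (by rw [hall g, hall h])
      rcases hroot g (hall g) with a | a <;> rcases hroot h (hall h) with b | b <;>
        simp [a, b] at hgh ⊢ <;> first | exact hgh | exact hgh.symm
    · push Not at hall
      obtain ⟨g₀, hg₀⟩ := hall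
      have hg₀' : N g₀ = -1 := (hN g₀).resolve_left hg₀
      refine le_trans (Nat.card_le_card_of_injective (fun g : G => (decide (N g = 1),
        decide (c (if N g = 1 then g else g * g₀) = 1))) ?_) (by simp)
      intro g h hgh
      simp only [Prod.mk.injEq, decide_eq_decide] at hgh
      obtain ⟨h1, h2⟩ := hgh
      have key : ∀ x y : G, N x = 1 → N y = 1 → (c x = 1 ↔ c y = 1) → x = y := by
        intro x y hx hy hxy
        refine hext x y ?_ (by rw [hx, hy])
        rcases hroot x hx with a | a <;> rcases hroot y hy with b | b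
        · rw [a, b]
        · rw [a, hxy.1 a]
        · rw [b, hxy.2 b]
        · rw [a, b]
      by_cases hg : N g = 1
      · rw [if_pos hg, if_pos (h1.1 hg)] at h2
        exact key g h hg (h1.1 hg) h2
      · have hh : ¬ N h = 1 := fun hh => hg (h1.2 hh)
        rw [if_neg hg, if_neg hh] at h2
        have n1 : ∀ x : G, ¬ N x = 1 → N (x * g₀) = 1 := fun x hx => by
          rw [(hmul x g₀).1, (hN x).resolve_left hx, hg₀']; rfl
        exact mul_right_cancel (key _ _ (n1 g hg) (n1 h hh) h2)

end Groth.Agent.S15179
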