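import Groth.Statements.S15183
import Groth.Agent.Lib.CSA.Basic
import Mathlib.RingTheory.RootsOfUnity.PrimitiveRoots
import Mathlib.FieldTheory.Separable
import Mathlib.Algebra.Group.Pi.Units
import Mathlib.RingTheory.RootsOfUnity.AlgebraicallyClosed

set_option autoImplicit false
universe u v
open Polynomial
open BddFin

namespace Groth.Agent.S15183

/-- Let K be a field such that K contains all roots of unity (for every n ≥ 1 the polynomial X^n − 1
splits into linear factors over K), and A a finite-dimensional central simple K-algebra which is not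
a division algebra (some non-zero element is not a unit). Then the quotient of the unit group of A
by that of K has elements of every finite order invertible in K: for every d ≥ 1 with d ≠ 0 in K
there is a unit x of A with x ^ d in K and x ^ k not in K for 0 < k < d. (The published assertion is
phrased for the automorphism group of the Severi–Brauer variety of A, which is isomorphic to the
units of A modulo those of K; this row is the algebra-side statement its proof establishes.) -/
theorem result
    (K : Type u) [Field K] (hK : ∀ n : ℕ, 0 < n → (X ^ n - 1 : K[X]).Splits)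
    (A : Type v) [Ring A] [Algebra K A] [Algebra.IsCentral K A] [IsSimpleRing A] [FiniteDimensional K A]
    (hA : ∃ y : A, y ≠ 0 ∧ ¬ IsUnit y) (d : ℕ) (hd : 0 < d) (hdK : (d : K) ≠ 0) :
    ∃ x : A, IsUnit x ∧ x ^ d ∈ (algebraMap K A).range ∧
      ∀ k : ℕ, 0 < k → k < d → x ^ k ∉ (algebraMap K A).range := by
  obtain ⟨n, hn, D, _, _, _, _, ⟨e⟩⟩ := Groth.Agent.Lib.CSA.Basic.exists_algEquiv_matrix_central_divisionRing K A
  have h2 : 2 ≤ n := by
    by_contra hlt
    have : n = 1 := by have := NeZero.ne n; omega
    subst this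
    obtain ⟨y, hy, hyu⟩ := hA
    have hM : Matrix.diagonal (fun i => e y i i) = e y := by
      ext i j; rw [Subsingleton.elim j i, Matrix.diagonal_apply_eq]
    refine hyu ((MulEquiv.isUnit_map e).mp ?_)
    rw [← hM]
    refine (Pi.isUnit_iff.mpr fun i => isUnit_iff_ne_zero.mpr fun h0 => hy ?_).map
      (Matrix.diagonalRingHom (Fin 1) D)
    apply e.injective
    ext i' j
    rw [Subsingleton.elim i' i, Subsingleton.elim j i, h0, map_zero, Matrix.zero_apply]
  obtain ⟨ζ, hζ⟩ : ∃ ζ : K, IsPrimitiveRoot ζ d := by
    haveI : NeZero d := ⟨hd.ne'⟩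
    haveI : NeZero (d : K) := ⟨hdK⟩
    haveI : NeZero (d : AlgebraicClosure K) := ⟨by
      rw [← map_natCast (algebraMap K (AlgebraicClosure K)) d]
      exact fun h => hdK ((map_eq_zero _).mp h)⟩
    obtain ⟨z, hz⟩ := HasEnoughRootsOfUnity.prim (M := AlgebraicClosure K) (n := d)
    obtain ⟨ζ, rfl⟩ := (hK d hd).mem_range_of_isRoot
      (by simpa using X_pow_sub_C_ne_zero hd (1 : K)) (i := algebraMap K (AlgebraicClosure K)) (x := z)
      (by simp [hz.pow_eq_one])
    exact ⟨ζ, hz.of_map_of_injective (algebraMap K (AlgebraicClosure K)).injective⟩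
  let i₀ : Fin n := ⟨0, by omega⟩
  let i₁ : Fin n := ⟨1, by omega⟩
  let f : Fin n → D := Function.update 1 i₀ (algebraMap K D ζ)
  have hfp : ∀ k : ℕ, f ^ k = Function.update (1 : Fin n → D) i₀ (algebraMap K D (ζ ^ k)) := fun k => by
    funext i
    by_cases hi : i = i₀
    · subst hi; simp [f]
    · simp [f, Function.update_of_ne hi]
  have hf : IsUnit f := IsUnit.of_pow_eq_one (n := d) (by rw [hfp, hζ.pow_eq_one, map_one]; simp) hd.ne'
  refine ⟨e.symm (Matrix.diagonal f), (hf.map (Matrix.diagonalRingHom (Fin n) D)).map e.symm,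
    ⟨1, ?_⟩, fun k hk hkd => ?_⟩
  · rw [map_one, ← map_pow, Matrix.diagonal_pow, hfp, hζ.pow_eq_one, map_one]
    simp
  · rintro ⟨c, hc⟩
    rw [← map_pow, Matrix.diagonal_pow, hfp] at hc
    have h := congrArg e hc
    rw [e.commutes, e.apply_symm_apply] at h
    have h0 := congrFun (congrFun h i₀) i₀
    have h1 := congrFun (congrFun h i₁) i₁
    have hne : i₁ ≠ i₀ := fun h => by simpa [i₀, i₁] using congrArg Fin.val h
    simp [Matrix.algebraMap_matrix_apply, Function.update_of_ne hne] at h0 h1
    apply hζ.pow_ne_one_of_pos_of_lt hk.ne' hkd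
    apply (algebraMap K D).injective
    rw [map_pow, ← h0, h1, map_one]

end Groth.Agent.S15183
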