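import Groth.Statements.S15185
import Groth.Agent.Lib.Brauer.PowCenter
import Mathlib.Algebra.CharP.Algebra

set_option autoImplicit false
universe u v
open Polynomial
open BddFin

namespace Groth.Agent.S15185

/-- Let K be a field of characteristic p > 0 such that K contains all roots of unity (for every n ≥ 1
the polynomial X^n − 1 splits into linear factors over K), A a central division algebra of dimension
n ^ 2 over K, and write n = n' · p ^ m with n' prime to p; let N be the reduced norm of A. Consider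
the kernel of the homomorphism from the units of A modulo those of K to Kˣ/(Kˣ)^(p^m) induced by N.
Every element of finite order of that kernel has order dividing n': if x ≠ 0 in A has x ^ r in K for
some r ≥ 1 and N x is a (p ^ m)-th power of a non-zero element of K, then x ^ n' lies in K. -/
theorem result
    (K : Type u) [Field K] (p : ℕ) [Fact p.Prime] [CharP K p] (hK : ∀ n : ℕ, 0 < n → (X ^ n - 1 : K[X]).Splits)
    (A : Type v) [DivisionRing A] [Algebra K A] [Algebra.IsCentral K A] [FiniteDimensional K A]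
    (n n' m : ℕ) (hA : Module.finrank K A = n ^ 2) (hn : n = n' * p ^ m) (hn' : ¬ p ∣ n')
    (N : A →* K) (hN : CSAGal.IsRedNorm K A N)
    (x : A) (hx : x ≠ 0) (hxr : ∃ r : ℕ, 0 < r ∧ x ^ r ∈ (algebraMap K A).range)
    (hNx : ∃ b : K, b ≠ 0 ∧ N x = b ^ (p ^ m)) :
    x ^ n' ∈ (algebraMap K A).range := by
  obtain ⟨b, -, hb⟩ := hNx
  obtain ⟨k, hk, c, hc⟩ := hxr
  have hc0 : c ≠ 0 := fun h => pow_ne_zero k hx (by rw [← hc, h, map_zero])
  obtain ⟨r, hr, -, hf⟩ := Groth.Agent.Lib.Brauer.PowCenter.exists_degree hK hA x hk hc0 hc.symm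
  have hint : IsIntegral K x := Algebra.IsIntegral.isIntegral x
  obtain ⟨a, ha⟩ := hf _ (minpoly.irreducible hint) (minpoly.monic hint) dvd_rfl
  obtain ⟨j, hj, hrcp⟩ := Groth.Agent.Lib.Brauer.PowCenter.rcp_eq_pow A hA x
  rw [ha, natDegree_X_pow_sub_C] at hj
  have h0 := minpoly.aeval K x
  rw [ha, map_sub, map_pow, aeval_X, aeval_C, sub_eq_zero] at h0
  have hNa : N x = (-1) ^ (n + j) * a ^ j := by
    rw [Groth.Agent.Lib.Brauer.RedNorm.eq_redNorm hA hN, Groth.Agent.Lib.Brauer.RedNorm.redNorm,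
      hrcp, ha, coeff_zero_eq_eval_zero, eval_pow, eval_sub, eval_pow, eval_X, eval_C,
      zero_pow hr.ne', zero_sub, neg_pow a, pow_add, mul_assoc]
  have hxn : x ^ n = algebraMap K A ((-1) ^ (n + j) * b ^ (p ^ m)) := by
    rw [← hb, hNa, ← mul_assoc, ← pow_add, Even.neg_one_pow ⟨n + j, rfl⟩, one_mul, ← hj,
      mul_comm j r, pow_mul, h0, map_pow]
  haveI : CharP A p := (algebraMap K A).charP_iff_charP p |>.mp inferInstance
  refine ⟨(-1) ^ (n + j) * b, ?_⟩
  have hsign : ((-1 : K) ^ (n + j)) ^ (p ^ m) = (-1) ^ (n + j) := by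
    have hm1 : ((-1 : K)) ^ (p ^ m) = -1 := by
      rw [← iterateFrobenius_def, map_neg, map_one]
    rw [← pow_mul, mul_comm, pow_mul, hm1]
  have hcom : Commute (x ^ n') (algebraMap K A ((-1) ^ (n + j) * b)) :=
    (Algebra.commutes _ _).symm
  have hz : (x ^ n' - algebraMap K A ((-1) ^ (n + j) * b)) ^ (p ^ m) = 0 := by
    rw [sub_pow_char_pow_of_commute (p := p) m hcom, ← pow_mul, ← hn, ← map_pow, mul_pow, hsign, hxn, sub_self]
  exact (sub_eq_zero.mp (eq_zero_of_pow_eq_zero hz)).symm

end Groth.Agent.S15185
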