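import Groth.Statements.S15189
import Groth.Agent.Lib.SBAut.Main
import Groth.Agent.Lib.SBAut.Torsion
import Groth.Agent.S15184
import Groth.Agent.Lib.BddFin.PrimeDegree
import Groth.Agent.Lib.CSA.Basic
import Mathlib.Algebra.Group.Pi.Units

set_option autoImplicit false
universe u
open CategoryTheory CategoryTheory.Limits AlgebraicGeometry
open BddFin

namespace Groth.Agent.S15189

/-- Let p be 2 or 3, k an infinite field of characteristic p, A a central simple k-algebra of dimension
p², and X → Spec k the Severi–Brauer variety of A (X represents the functor of left ideals of A with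
projective quotient of corank p² − p; X has dimension p − 1). Then the group of automorphisms of X
over k has unbounded finite subgroups: for every N it has a finite subgroup of order greater than N. -/
theorem result
    (k : Type u) [Field k] [Infinite k] (p : ℕ) [Fact p.Prime] [CharP k p] (hp : p = 2 ∨ p = 3)
    (A : Type u) [Ring A] [Algebra k A] [Algebra.IsCentral k A] [IsSimpleRing A]
    (hA : Module.finrank k A = p * p)
    {X : Scheme.{u}} (f : X ⟶ Spec (CommRingCat.of k)) (hX : BrSev.IsSBOf k A (p * p - p) f) (N : ℕ) :
    ∃ G : Subgroup (Aut (Over.mk f)), Finite G ∧ N < Nat.card G := by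
  have hp0 : 0 < p := (Fact.out : p.Prime).pos
  haveI : FiniteDimensional k A := Module.finite_of_finrank_pos (by rw [hA]; positivity)
  haveI : Nontrivial A := inferInstance
  obtain ⟨σ⟩ := hX
  have hker := Groth.Agent.Lib.SBAut.toAut_ker hp0 hA σ
  obtain ⟨x, r, hx, hxk⟩ : ∃ (x : A) (r : k), x ^ p = algebraMap k A r ∧ x ∉ (algebraMap k A).range := by
    by_cases hdiv : ∀ y : A, IsUnit y ∨ y = 0
    · letI : DivisionRing A := DivisionRing.ofIsUnitOrEqZero hdiv
      have hA2 : Module.finrank k A = p ^ 2 := by rw [hA, sq]
      obtain ⟨v, hv⟩ := Groth.Agent.S15184.result k p A hA2 hp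
      obtain ⟨h1, ⟨r, hr⟩⟩ :=
        Groth.Agent.Lib.BddFin.PrimeDegree.pow_mem_of_not_isSeparable (Fact.out : p.Prime) hA2 hv
      exact ⟨v, r, hr.symm, h1⟩
    · push Not at hdiv
      obtain ⟨y, hyu, hy⟩ := hdiv
      obtain ⟨d, hd, D, _, _, _, _, ⟨e⟩⟩ :=
        Groth.Agent.Lib.CSA.Basic.exists_algEquiv_matrix_central_divisionRing k A
      have h2 : 2 ≤ d := by
        by_contra hlt
        have hd1 : d = 1 := by have := NeZero.ne d; omega
        subst hd1
        have hM : Matrix.diagonal (fun i => e y i i) = e y := by
          ext i j; rw [Subsingleton.elim j i, Matrix.diagonal_apply_eq]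
        refine hyu ((MulEquiv.isUnit_map e).mp ?_)
        rw [← hM]
        refine (Pi.isUnit_iff.mpr fun i => isUnit_iff_ne_zero.mpr fun h0 => hy ?_).map
          (Matrix.diagonalRingHom (Fin 1) D)
        apply e.injective
        ext i' j
        rw [Subsingleton.elim i' i, Subsingleton.elim j i, h0, map_zero, Matrix.zero_apply]
      let i : Fin d := ⟨0, by omega⟩
      let j : Fin d := ⟨1, by omega⟩
      have hij : i ≠ j := by simp [i, j]
      refine ⟨e.symm (Matrix.single i j 1), 0, ?_, ?_⟩
      · obtain ⟨q, hq⟩ : ∃ q, p = 2 + q := ⟨p - 2, by have := (Fact.out : p.Prime).two_le; omega⟩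
        rw [map_zero, ← map_pow, hq, pow_add, pow_two, Matrix.single_mul_single_of_ne (h := hij.symm),
          zero_mul, map_zero]
      · rintro ⟨c, hc⟩
        have h := congrArg e hc
        rw [e.commutes, e.apply_symm_apply] at h
        have h0 := congrFun (congrFun h i) j
        simp [Matrix.algebraMap_matrix_apply, hij] at h0
  exact Groth.Agent.Lib.SBAut.exists_subgroup_large p (Groth.Agent.Lib.SBAut.toAut σ) hker hx hxk N

end Groth.Agent.S15189
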