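import Groth.Statements.S1519
import Groth.Agent.H97.CurvePositivity
-- import your own Groth.Agent.* helpers here

set_option autoImplicit false
universe u
open CategoryTheory CategoryTheory.Limits AlgebraicGeometry
open Variety

namespace Groth.Agent.S1519

theorem genLocus_eq_top_of_isIso {X : Scheme.{u}} {L : X.Modules} (s : Coh.structureModule X ⟶ L) [IsIso s] :
    CohB1.genLocus L s = ⊤ := by
  have h := Groth.Agent.Lib.Ample.GenLocus.genLocus_comp_iso (𝟙 (Coh.structureModule X)) (asIso s)
  rw [Groth.Agent.Lib.Ample.GenLocus.genLocus_id] at h
  simpa using h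

/-- On a proper curve over a field, if an invertible module has a nonzero global section which vanishes
at some point (the section does not generate the module near that point), then the degree is
positive. -/
theorem result (k : Type u) [Field k] (X : Scheme.{u}) [X.Over (Spec (CommRingCat.of k))]
    [IsIntegral X] [IsProper (X ↘ (Spec (CommRingCat.of k)))] (hdim : topologicalKrullDim X = 1)
    (L : X.Modules) (hL : PicF.IsInvertible L) (s : Coh.structureModule X ⟶ L) (hs : s ≠ 0)
    (x : X) (hx : x ∉ CohB1.genLocus L s) :
    0 < Curv2.deg k X L 1 := by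
  haveI := Groth.Agent.Lib.Curves.GlobalSections.noetherianSpace_of_proper k X
  have gO := Groth.Agent.Lib.Curves.Degree.isGood_structureModule (k := k) (X := X) hdim.le
  have gL := Groth.Agent.Lib.Curves.Degree.isGood (k := k) hdim.le hL
  have hO := PicLoc.isInvertible_structureModule X
  have hle := Groth.Agent.Lib.Curves.Positivity.deg_le_of_ne_zero hdim.le hO hL gO gL hs
  rw [Groth.Agent.Lib.Curves.Degree.deg_structureModule] at hle
  refine lt_of_le_of_ne hle fun h => hx ?_
  haveI := Groth.Agent.Lib.Curves.Positivity.isIso_of_deg_eq hdim.le hO hL gO gL hs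
    (by rw [Groth.Agent.Lib.Curves.Degree.deg_structureModule]; exact h)
  rw [genLocus_eq_top_of_isIso]
  trivial

end Groth.Agent.S1519
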