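import Groth.Statements.S15190
import Groth.Agent.Lib.SBAut.Main
import Groth.Agent.Lib.SBAut.Torsion

set_option autoImplicit false
universe u
open CategoryTheory CategoryTheory.Limits AlgebraicGeometry Polynomial
open BddFin

namespace Groth.Agent.S15190

/-- Let k be a field of characteristic p > 0 such that k contains all roots of unity (for every r ≥ 1
the polynomial X^r − 1 splits into linear factors over k), A a central division algebra of dimension
n² over k with n = n' · p ^ m and n' prime to p, and X → Spec k the Severi–Brauer variety of A (X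
represents the functor of left ideals of A with projective quotient of corank n² − n). Then every
finite subgroup G of the group of automorphisms of X over k is a semidirect product: there are
subgroups H and S of G with H normal in G, H ∩ S trivial and H S = G, such that every element of H
has order prime to p and S is abelian with s ^ (p ^ m) = 1 for all s in S. (The published statement
also bounds the order of H; that bound is not part of this row.) -/
theorem result
    (k : Type u) [Field k] (p : ℕ) [Fact p.Prime] [CharP k p]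
    (hk : ∀ r : ℕ, 0 < r → (X ^ r - 1 : k[X]).Splits)
    (A : Type u) [DivisionRing A] [Algebra k A] [Algebra.IsCentral k A]
    (n n' m : ℕ) (hn0 : 0 < n) (hA : Module.finrank k A = n * n) (hn : n = n' * p ^ m) (hn' : ¬ p ∣ n')
    {X : Scheme.{u}} (f : X ⟶ Spec (CommRingCat.of k)) (hX : BrSev.IsSBOf k A (n * n - n) f)
    (G : Subgroup (Aut (Over.mk f))) [Finite G] :
    ∃ H S : Subgroup (Aut (Over.mk f)), H ≤ G ∧ S ≤ G ∧
      (∀ g ∈ G, ∀ h ∈ H, g * h * g⁻¹ ∈ H) ∧ H ⊓ S = ⊥ ∧ H ⊔ S = G ∧
      (∀ h ∈ H, ((orderOf h : ℕ) : k) ≠ 0) ∧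
      (∀ s ∈ S, ∀ t ∈ S, s * t = t * s) ∧ (∀ s ∈ S, s ^ (p ^ m) = 1) := by
  haveI : FiniteDimensional k A := Module.finite_of_finrank_pos (by rw [hA]; positivity)
  obtain ⟨σ⟩ := hX
  have hcop : Nat.Coprime n' (p ^ m) :=
    Nat.Coprime.pow_right m (((Fact.out : p.Prime).coprime_iff_not_dvd.mpr hn').symm)
  obtain ⟨H, S, h1, h2, h3, h4, h5, h6, h7, h8⟩ :=
    Groth.Agent.Lib.SBAut.exists_semidirect_units hk hA hn hcop (Groth.Agent.Lib.SBAut.toAut σ)
      (Groth.Agent.Lib.SBAut.toAut_surjective hn0 hA σ) (Groth.Agent.Lib.SBAut.toAut_ker hn0 hA σ) G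
  refine ⟨H, S, h1, h2, h3, h4, h5, fun h hh hz => ?_, h7, h8⟩
  exact hn' (((CharP.cast_eq_zero_iff k p _).mp hz).trans (orderOf_dvd_of_pow_eq_one (h6 h hh)))

end Groth.Agent.S15190
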