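import Groth.Statements.S1521
import Groth.Agent.H97.CurvePositivity
-- import your own Groth.Agent.* helpers here

set_option autoImplicit false
universe u
open CategoryTheory CategoryTheory.Limits AlgebraicGeometry
open Variety

namespace Groth.Agent.S1521

/-- On a proper curve over a field, a nonzero map N → L of invertible modules forces deg N ≤ deg L, and
if the degrees are equal the map is an isomorphism. -/
theorem result (k : Type u) [Field k] (X : Scheme.{u}) [X.Over (Spec (CommRingCat.of k))]
    [IsIntegral X] [IsProper (X ↘ (Spec (CommRingCat.of k)))] (hdim : topologicalKrullDim X = 1)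
    (N L : X.Modules) (hN : PicF.IsInvertible N) (hL : PicF.IsInvertible L) (φ : N ⟶ L) (hφ : φ ≠ 0) :
    Curv2.deg k X N 1 ≤ Curv2.deg k X L 1 ∧ (Curv2.deg k X N 1 = Curv2.deg k X L 1 → IsIso φ) := by
  haveI := Groth.Agent.Lib.Curves.GlobalSections.noetherianSpace_of_proper k X
  have gN := Groth.Agent.Lib.Curves.Degree.isGood (k := k) hdim.le hN
  have gL := Groth.Agent.Lib.Curves.Degree.isGood (k := k) hdim.le hL
  exact ⟨Groth.Agent.Lib.Curves.Positivity.deg_le_of_ne_zero hdim.le hN hL gN gL hφ,
    Groth.Agent.Lib.Curves.Positivity.isIso_of_deg_eq hdim.le hN hL gN gL hφ⟩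

end Groth.Agent.S1521
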