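import Groth.Statements.S15218
import Groth.Agent.Lib.ShStab.Saturation

set_option autoImplicit false
open CategoryTheory CategoryTheory.Limits AlgebraicGeometry Polynomial
universe u
open ShStab

namespace Groth.Agent.S15218

open Groth.Agent.Lib Groth.Agent.Lib.ShStab

/-- Let X be a scheme proper over a field k with an ample invertible sheaf L, all Hilbert polynomials
being taken with respect to L, and let d ≥ 1. For an O_X-module E the following are equivalent: (i)
E is stable of dimension d in the sense of Gieseker, i.e. coherent, nonzero, pure of dimension d,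
with reduced Hilbert polynomial p(F) < p(E) for every nonzero proper coherent submodule F; (ii) E is
ℓ-stable of dimension d for ℓ = d, i.e. coherent, nonzero, pure of dimension d, and p_d(F) < p_d(E)
for the reduced d-truncated Hilbert polynomials of every coherent submodule F whose multiplicity
satisfies 0 < α_d(F) < α_d(E). (The published remark is made for coherent sheaves on a connected
smooth projective variety with a very ample polarisation and records no argument; this row states
the equivalence for X proper over any field with L ample.) -/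
theorem result (k : Type u) [Field k] (X : Scheme.{u})
    [X.Over (Spec (CommRingCat.of k))] [IsProper (X ↘ Spec (CommRingCat.of k))]
    (L : X.Modules) (hL : CohB1.IsAmple L) (d : ℕ) (hd : 1 ≤ d) (E : X.Modules) :
    ShStab.IsStable k X L E d ↔ ShStab.IsEllStable k X L E d d := by
  haveI := Groth.Agent.Lib.Curves.GlobalSections.isNoetherian_of_proper k X
  constructor
  · intro h
    obtain ⟨hE, h0, hpu, hss⟩ := h
    refine ⟨hE, h0, hpu, fun F ι hι hF pF pE hpF hpE hpos hlt => ?_⟩
    rw [← SubLattice.hp_eq k L hpF] at hpos hlt ⊢
    rw [← SubLattice.hp_eq k L hpE] at hlt ⊢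
    have hz : ¬ IsZero F := fun h => by
      rw [SubLattice.hp_isZero k hL h] at hpos
      simp [StabCat.alpha] at hpos
    rw [Basics.topPart_self (Basics.natDegree_le_of_pure hL hpu ι hF),
      Basics.topPart_self (Basics.natDegree_le_of_pure hL hpu (𝟙 E) hE)]
    exact hss F ι hι hF hz (fun hi => hlt.ne (by
      haveI := hi
      rw [SubLattice.hp_iso k hL (asIso ι) hF])) _ _ (SubLattice.isHilbPoly_hp k hL hF)
      (SubLattice.isHilbPoly_hp k hL hE)
  · intro ⟨hE, h0, hpu, hss⟩
    refine ⟨hE, h0, hpu, fun F ι hι hF hz hiso pF pE hpF hpE => ?_⟩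
    rw [← SubLattice.hp_eq k L hpF, ← SubLattice.hp_eq k L hpE]
    have hC := CohBasics.Closure.isCoh_cokernel ι hF.1 hE
    have hsum : SubLattice.hp k L E = SubLattice.hp k L F + SubLattice.hp k L (cokernel ι) := by
      rw [SubLattice.hp_cokernel k hL ι hF hE]; ring
    have hlc := Interval.lc_pos (k := k) hL hC fun hz' => hiso (by
      haveI := Preadditive.epi_of_isZero_cokernel ι hz'
      exact isIso_of_mono_of_epi ι)
    have hpos := Basics.alpha_pos_of_pure (k := k) hL hpu ι hF hz
    have hCd : (SubLattice.hp k L (cokernel ι)).natDegree ≤ d := by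
      rw [SubLattice.hp_cokernel k hL ι hF hE]
      exact (Polynomial.natDegree_sub_le _ _).trans (max_le (Basics.natDegree_le_of_pure hL hpu (𝟙 E) hE)
        (Basics.natDegree_le_of_pure hL hpu ι hF))
    rcases hCd.lt_or_eq with hC' | hC'
    · rw [hsum]
      exact (Basics.redLT_add_of_alpha_eq_zero hpos (by rw [StabCat.alpha, Polynomial.coeff_eq_zero_of_natDegree_lt hC', mul_zero]) hlc)
    · have hlt : StabCat.alpha d (SubLattice.hp k L F) < StabCat.alpha d (SubLattice.hp k L E) := by
        rw [hsum, PolyOrder.alpha_add]
        linarith [PolyOrder.alpha_pos hC' hlc]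
      have h := hss F ι hι hF _ _ (SubLattice.isHilbPoly_hp k hL hF) (SubLattice.isHilbPoly_hp k hL hE) hpos hlt
      rwa [Basics.topPart_self (Basics.natDegree_le_of_pure hL hpu ι hF),
        Basics.topPart_self (Basics.natDegree_le_of_pure hL hpu (𝟙 E) hE)] at h

end Groth.Agent.S15218
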