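import Groth.Statements.S15221
import Groth.Agent.Lib.CurveBundle.Point
import Groth.Agent.Lib.ShStab.MuBasics
import Groth.Agent.Lib.ShStab.HomVanish
import Groth.Agent.Lib.ShStab.Interval
import Groth.Agent.Lib.SurfInt.Push
import Groth.Agent.Lib.ExtOne.Realize
import Groth.Agent.Lib.ExtHH.Basic
import Groth.Agent.Lib.ClSub.Quot
import Groth.Agent.Lib.SurfInt.Stalk
import Groth.Agent.Lib.Devissage.LocFreeK0

set_option autoImplicit false
set_option linter.style.haveILetI false
open CategoryTheory CategoryTheory.Limits AlgebraicGeometry Polynomial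
universe u
open ShStab

namespace Groth.Agent.S15221

section Helpers

open Groth.Agent.Lib Groth.Agent.Lib.ShStab SubLattice

variable {k : Type u} [Field k] {X : Scheme.{u}} [X.Over (Spec (CommRingCat.of k))]
  [IsProper (X ↘ Spec (CommRingCat.of k))] [AlgebraicGeometry.IsNoetherian X] [IsIntegral X]
  {L : X.Modules} (hL : CohB1.IsAmple L) {n : ℕ} (hn : topologicalKrullDim X = (n : WithBot ℕ∞))

include hL hn in
/-- The cokernel of a nonzero map into a submodule of the structure sheaf has multiplicity zero. -/
theorem alpha_cokernel_eq_zero {J M : X.Modules} (j : J ⟶ M) [Mono j] (e : M ⟶ Coh.structureModule X) [Mono e]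
    (hJ : Coh.IsCoh J) (hM : Coh.IsCoh M) (hT : TorSh.IsTorsionFree M) (h0 : ¬ IsZero J) :
    StabCat.alpha n (hp k L (cokernel j)) = 0 := by
  by_cases hz : IsZero (cokernel j)
  · rw [hp_isZero k hL hz]; simp [StabCat.alpha]
  have hQ := CohBasics.Closure.isCoh_cokernel j hJ.1 hM
  haveI := hQ.1
  haveI := hQ.2
  haveI := hJ.1
  haveI := hJ.2
  set η := genericPoint X
  have hne : η ∉ CohB1.support (cokernel j) := by
    intro hη
    have hJη : ∃ v : J.presheaf.stalk η, v ≠ 0 := by
      by_contra h
      push Not at h
      exact h0 (by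
        rw [IsZero.iff_id_eq_zero]
        exact CurveBundle.Rank.eq_zero_of_generic (CurveBundle.Rank.isTorsionFree_of_mono j hT) _
          (LinearMap.ext fun v => by rw [h v, map_zero, map_zero]))
    obtain ⟨v, hv⟩ := hJη
    refine hη (subsingleton_of_forall_eq 0 fun q => ?_)
    obtain ⟨w, rfl⟩ := (Modules.StalkModule.epi_iff_stalkMapₗ_surjective (cokernel.π j)).1 inferInstance η q
    let _ : Field (X.presheaf.stalk η) := inferInstanceAs (Field X.functionField)
    have hinj := (Modules.StalkModule.mono_iff_stalkMapₗ_injective e).1 inferInstance η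
    have hjinj := (Modules.StalkModule.mono_iff_stalkMapₗ_injective j).1 inferInstance η
    have hu : Modules.StalkModule.stalkMapₗ e η (Modules.StalkModule.stalkMapₗ j η v) ≠ 0 := fun h =>
      hv (hjinj ((hinj (h.trans (map_zero _).symm)).trans (map_zero _).symm))
    obtain ⟨c, hc⟩ : ∃ c : X.presheaf.stalk η,
        c • Modules.StalkModule.stalkMapₗ e η (Modules.StalkModule.stalkMapₗ j η v) =
          Modules.StalkModule.stalkMapₗ e η w := by
      have h1 : Module.finrank (X.presheaf.stalk η) ((Coh.structureModule X).presheaf.stalk η) = 1 :=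
        (SurfInt.Stalk.oStalk η).finrank_eq.trans (Module.finrank_self _)
      exact (finrank_eq_one_iff_of_nonzero' _ hu).1 h1 _
    rw [← map_smul, ← map_smul] at hc
    rw [← hinj hc, ← LinearMap.comp_apply, ← Modules.StalkModule.stalkMapₗ_comp, cokernel.condition,
      Modules.StalkModule.stalkMapₗ_zero, LinearMap.zero_apply]
  have hd : (hp k L (cokernel j)).natDegree < n := by
    have hle : ((hp k L (cokernel j)).natDegree : WithBot ℕ∞) ≤ (n : WithBot ℕ∞) := by
      rw [← Interval.dim_eq (k := k) hL hQ hz, ← hn]
      exact Topology.IsInducing.subtypeVal.topologicalKrullDim_le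
    refine lt_of_le_of_ne (by exact_mod_cast hle) fun h => hne ?_
    rw [HomVanish.eq_univ_of_dim (Modules.Support.isClosed_support (cokernel j)) hn
      ((Interval.dim_eq_iff (k := k) hL hQ hz n).2 h)]
    exact Set.mem_univ _
  simp [StabCat.alpha, Polynomial.coeff_eq_zero_of_natDegree_lt hd]

end Helpers

set_option maxHeartbeats 1000000 in
/-- Let k be an algebraically closed field and X an integral scheme, smooth and proper over k, of
dimension n ≥ 2, with a closed immersion ι into projective N-space over k compatible with the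
structure maps, polarised by the ample O_X(1) = ι^*O(1), and suppose H^1(X, O_X) ≠ 0. Then there is
an O_X-module E which is stable of dimension n in the sense of Gieseker (coherent, nonzero,
torsion-free, with reduced Hilbert polynomial p(F) < p(E) for every nonzero proper coherent
submodule F), of rank 2 in the sense that α_n(E) = 2 α_n(O_X) for the multiplicities of the Hilbert
polynomials, and which is not slope-stable: E has a nonzero proper coherent submodule F with 0 <
α_n(F) < α_n(E) whose ratio α_{n-1}(F)/α_n(F) equals α_{n-1}(E)/α_n(E). Here a Hilbert polynomial is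
written Σ_i α_i m^i/i!. (The published example is stated over an arbitrary field and without a
dimension bound; it uses a closed point with residue field k, so k is taken algebraically closed
here, and for n = 1 the sheaf it constructs, a non-split extension of O_X by the ideal of a point on
a curve of positive genus, is slope-stable, so n ≥ 2 is assumed.) -/
theorem result (k : Type u) [Field k] [IsAlgClosed k]
    (X : Scheme.{u}) [X.Over (Spec (CommRingCat.of k))] [IsIntegral X]
    [Smooth (X ↘ Spec (CommRingCat.of k))] [IsProper (X ↘ Spec (CommRingCat.of k))]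
    (N : ℕ) (ι : X ⟶ CohB1.ProjSpace N k) [IsClosedImmersion ι]
    (hι : ι ≫ CohB1.ProjSpace.toSpec N k = X ↘ Spec (CommRingCat.of k))
    (hL : CohB1.IsAmple ((Scheme.Modules.pullback ι).obj (Twist.twistProjSpace N k 1)))
    (n : ℕ) (hn : topologicalKrullDim ↥X = (n : WithBot ℕ∞)) (h2 : 2 ≤ n)
    (h1 : Nontrivial (Coh.HH X (Coh.structureModule X) 1)) :
    ∃ E : X.Modules, ShStab.IsStable k X ((Scheme.Modules.pullback ι).obj (Twist.twistProjSpace N k 1)) E n ∧
      (∀ pO pE : Polynomial ℚ, ShStab.IsHilbPoly k X ((Scheme.Modules.pullback ι).obj (Twist.twistProjSpace N k 1)) (Coh.structureModule X) pO →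
        ShStab.IsHilbPoly k X ((Scheme.Modules.pullback ι).obj (Twist.twistProjSpace N k 1)) E pE → StabCat.alpha n pE = 2 * StabCat.alpha n pO) ∧
      ∃ (F : X.Modules) (j : F ⟶ E), Mono j ∧ Coh.IsCoh F ∧ ¬ IsZero F ∧ ¬ IsIso j ∧
        ∀ pF pE : Polynomial ℚ, ShStab.IsHilbPoly k X ((Scheme.Modules.pullback ι).obj (Twist.twistProjSpace N k 1)) F pF → ShStab.IsHilbPoly k X ((Scheme.Modules.pullback ι).obj (Twist.twistProjSpace N k 1)) E pE →
          0 < StabCat.alpha n pF ∧ StabCat.alpha n pF < StabCat.alpha n pE ∧
            StabCat.hatSlope n pF = StabCat.hatSlope n pE := by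
  open Groth.Agent.Lib Groth.Agent.Lib.ShStab SubLattice Polynomial in
    haveI := Curves.GlobalSections.isNoetherian_of_proper k X
    set L := (Scheme.Modules.pullback ι).obj (Twist.twistProjSpace N k 1) with hLdef
    haveI : CompactSpace X := QuasiCompact.compactSpace_of_compactSpace (X ↘ Spec (CommRingCat.of k))
    obtain ⟨x, -, hx⟩ := IsClosed.exists_closed_singleton (S := (Set.univ : Set X)) isClosed_univ Set.univ_nonempty
    let 𝔪 := Scheme.IdealSheafData.vanishingIdeal (X := X) ⟨{x}, hx⟩
    let O := Coh.structureModule X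
    let q := _root_.ClSub.quotMod 𝔪
    have hfin : (𝔪.support : Set X).Finite := by
      rw [Scheme.IdealSheafData.coe_support_vanishingIdeal]
      exact Set.finite_singleton x
    have hOlf := TensorMod.LocFree.of_rank (TensorMod.LocFree.of_isInvertible (PicLoc.isInvertible_structureModule X))
    have hOT : TorSh.IsTorsionFree O := CurveBundle.Coherent.isTorsionFree hOlf
    have hO : Coh.IsCoh O := Ample.GG.isCoh_of_isInvertible (PicLoc.isInvertible_structureModule X)
    have hq : Coh.IsCoh q := by
      haveI : (Coh.structureModule 𝔪.subscheme).IsQuasicoherent := TensorMod.QCohInv.isQCoh_structureModule _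
      haveI : (_root_.ClSub.quotMod 𝔪).IsQuasicoherent := QCoh.Pushforward.isQCoh_pushforward _
      haveI := ClSub.Quot.epi_toSubscheme 𝔪
      exact CohBasics.Closure.isCoh_of_epi (_root_.ClSub.toSubscheme 𝔪) hO
    obtain ⟨I, i, p, hw, hses, hI⟩ : ∃ (I : X.Modules) (i : I ⟶ O) (p : O ⟶ q) (hw : i ≫ p = 0),
        (ShortComplex.mk i p hw).ShortExact ∧ Coh.IsCoh I :=
      ⟨_, _, _, _, ClSub.Quot.idealSeq_shortExact 𝔪, CohBasics.Closure.isCoh_kernel _ hO hq.1⟩
    haveI : Mono i := hses.mono_f
    have hIT : TorSh.IsTorsionFree I := CurveBundle.Rank.isTorsionFree_of_mono i hOT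
    -- the extension
    haveI : Subsingleton (Coh.HH X q 1) := SurfInt.Push.subsingleton_HH_quotMod k 𝔪 hfin one_pos
    haveI : Subsingleton (Abelian.Ext.{u} O q 1) := (ExtHH.Basic.extUnitEquiv k q 1).toEquiv.subsingleton
    haveI : Nontrivial (Coh.HH X O 1) := h1
    obtain ⟨ξ₀, hξ₀⟩ := @exists_ne _ ((ExtHH.Basic.extUnitEquiv k O 1).toEquiv.nontrivial) (0 : Abelian.Ext.{u} O O 1)
    obtain ⟨ξ, hξ⟩ := Abelian.Ext.covariant_sequence_exact₂ O hses ξ₀ (Subsingleton.elim _ _)
    obtain ⟨E, f, g, w, hE, hcls⟩ := ExtOne.exists_shortExact_extClass (P := I) (E := O) ξ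
    have hξne : ξ ≠ 0 := fun h => hξ₀ (by rw [← hξ, h, Abelian.Ext.zero_comp])
    have hsplit : ∀ s : O ⟶ E, s ≫ g ≠ 𝟙 O := fun s hs => hξne (by
      rw [← hcls, ← Abelian.Ext.mk₀_id_comp hE.extClass, ← hs, ← Abelian.Ext.mk₀_comp_mk₀,
        Abelian.Ext.comp_assoc_of_second_deg_zero, hE.comp_extClass, Abelian.Ext.comp_zero])
    haveI : Mono f := hE.mono_f
    haveI : Epi g := hE.epi_g
    have hEc : Coh.IsCoh E := Devissage.LocFreeK0.isCoh_extension hE hI hO
    have hET : TorSh.IsTorsionFree E := fun y => by
      obtain ⟨hfi, hex, -⟩ := CurveBundle.Rank.stalk_exact hE y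
      haveI := hIT y
      haveI := hOT y
      refine ⟨fun c hc a b hab => ?_⟩
      have h : c • (a - b) = 0 := by rw [smul_sub]; exact sub_eq_zero.2 hab
      have hg : Modules.StalkModule.stalkMapₗ g y (a - b) = 0 :=
        (hc.isSMulRegular (M := O.presheaf.stalk y)) (show c • _ = c • _ by rw [← map_smul, h, map_zero, smul_zero])
      obtain ⟨v, hv⟩ := (hex (a - b)).1 hg
      have hv0 : v = 0 := (hc.isSMulRegular (M := I.presheaf.stalk y)) (show c • _ = c • _ by
        rw [smul_zero]; refine hfi ?_; rw [map_smul, map_zero]; exact hv.symm ▸ h)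
      rw [hv0, map_zero] at hv
      exact sub_eq_zero.1 hv.symm
    have hEp : ShStab.IsPure X E n := MuBasics.isPure_of_isTorsionFree hET n hn
    have hIp : ShStab.IsPure X I n := MuBasics.isPure_of_isTorsionFree hIT n hn
    have hOp : ShStab.IsPure X O n := MuBasics.isPure_of_isTorsionFree hOT n hn
    -- polynomials
    set A := hp k L O with hA
    have hq1 : hp k L q = 1 := by
      have hz : ¬ IsZero q := fun hz => by
        have := Modules.Stalk.isZero_iff_stalk_subsingleton.1 hz x
        have hm : x ∈ CohB1.support q := by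
          show x ∈ CohB1.support (_root_.ClSub.quotMod 𝔪)
          rw [ClSub.Quot.support_quotMod, Scheme.IdealSheafData.coe_support_vanishingIdeal]
          exact rfl
        exact hm this
      have hdeg : (hp k L q).natDegree = 0 := (Interval.dim_eq_iff (k := k) hL hq hz 0).1 (by
        rw [show CohB1.support q = ({x} : Set X) by
          rw [ClSub.Quot.support_quotMod, Scheme.IdealSheafData.coe_support_vanishingIdeal]; rfl]
        haveI : Unique ({x} : Set X) := Set.uniqueSingleton x
        refine le_antisymm (topologicalKrullDim_zero_of_discreteTopology _) ?_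
        haveI : Nonempty (TopologicalSpace.IrreducibleCloseds ({x} : Set X)) :=
          ⟨⟨closure {⟨x, rfl⟩}, isIrreducible_singleton.closure, isClosed_closure⟩⟩
        exact Order.krullDim_nonneg)
      rw [Polynomial.eq_C_of_natDegree_eq_zero hdeg, Polynomial.coeff_zero_eq_eval_zero,
        ← map_one Polynomial.C]
      refine congrArg Polynomial.C ?_
      have h := isHilbPoly_hp k hL hq 0
      rw [Nat.cast_zero] at h
      rw [← h]
      have h2 : Curv2.euler k X (ShStab.twist X L q 0) = 1 := by
        obtain ⟨d, hd⟩ := Snapper.DimBound.exists_dim_bound k X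
        rw [Snapper.Chi.euler_eq_eulerCharLE hd]
        refine (Snapper.Chi.eulerCharLE_of_iso (TensorMod.Basic.rightUnit q) d).trans ?_
        rw [SurfInt.Push.eulerCharLE_quotMod_of_finite 𝔪 hfin]
        exact_mod_cast CurveBundle.Point.hdim_quotMod k hx
      rw [h2, Int.cast_one]
    have hpI : hp k L I = A - 1 := by
      rw [← hq1, hA]
      exact eq_sub_of_add_eq (hp_add k hL hses hI hO hq).symm
    have hpE : hp k L E = (A - 1) + A := by
      have h := hp_add k hL (S := ShortComplex.mk f g w) hE hI hEc hO
      dsimp only at h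
      rw [h, hpI]
    have hαone : StabCat.alpha n (1 : ℚ[X]) = 0 := by
      simp [StabCat.alpha, Polynomial.coeff_one, show n ≠ 0 by omega]
    have hαO : 0 < StabCat.alpha n A := by
      refine Saturation.alpha_pos hL hO (fun hz => ?_) hOp
      have := Modules.Stalk.isZero_iff_stalk_subsingleton.1 hz x
      haveI := (SurfInt.Stalk.oStalk x).symm.injective.subsingleton
      exact not_subsingleton (X.presheaf.stalk x) inferInstance
    have hαI : StabCat.alpha n (hp k L I) = StabCat.alpha n A := by
      rw [hpI, PolyOrder.alpha_sub, hαone, sub_zero]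
    have hαE : StabCat.alpha n (hp k L E) = 2 * StabCat.alpha n A := by
      rw [hpE, PolyOrder.alpha_add, PolyOrder.alpha_sub, hαone, sub_zero, two_mul]
    have hIz : ¬ IsZero I := fun hz => by
      have := hp_isZero k hL hz
      rw [this] at hαI
      exact hαO.ne' (hαI.symm.trans (by simp [StabCat.alpha]))
    have hEz : ¬ IsZero E := fun hz => hIz (IsZero.of_mono f hz)
    have hlt : ∀ P Q : ℚ[X], 0 < (Q - P).leadingCoeff → StabCat.PolyLT P Q := fun P Q h => by
      have := Basics.polyLT_add (A := P) (B := Q - P) h
      rwa [add_sub_cancel] at this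
    have hcore : ∀ P T : ℚ[X], P = A - T → StabCat.alpha n T = 0 → 0 < (2 * T - 1).leadingCoeff →
        StabCat.RedLT n P (hp k L E) := by
      intro P T hP hT hpos
      rw [StabCat.RedLT, hαE, show StabCat.alpha n P = StabCat.alpha n A by
        rw [hP, PolyOrder.alpha_sub, hT, sub_zero]]
      refine hlt _ _ ?_
      rw [show StabCat.alpha n A • hp k L E - (2 * StabCat.alpha n A) • P =
        StabCat.alpha n A • (2 * T - 1) by
          rw [hP, hpE]; simp only [Polynomial.smul_eq_C_mul, map_mul, map_ofNat]; ring]
      rw [Polynomial.smul_eq_C_mul, Polynomial.leadingCoeff_mul, Polynomial.leadingCoeff_C]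
      exact mul_pos hαO hpos
    have hnat : ∀ T : X.Modules, Coh.IsCoh T → ¬ IsZero T → ∀ c : ℚ, 0 ≤ c → c ≤ 1 →
        0 < (2 * hp k L T - Polynomial.C c).leadingCoeff := by
      intro T hT hT0 c hc0 hc1
      have hl := Interval.lc_pos (k := k) hL hT hT0
      by_cases hd : (hp k L T).natDegree = 0
      · obtain ⟨z, hz⟩ := Interval.int_val (k := k) hL hT 0
        rw [Polynomial.eq_C_of_natDegree_eq_zero hd] at hz hl ⊢
        rw [Polynomial.eval_C] at hz
        rw [Polynomial.leadingCoeff_C, hz] at hl
        rw [hz, ← Polynomial.C_ofNat, ← map_mul, ← map_sub, Polynomial.leadingCoeff_C]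
        have : (1 : ℚ) ≤ z := by exact_mod_cast (show (1 : ℤ) ≤ z by exact_mod_cast hl)
        linarith
      · rw [Polynomial.leadingCoeff_sub_of_degree_lt]
        · rw [Polynomial.leadingCoeff_mul, ← Polynomial.C_ofNat, Polynomial.leadingCoeff_C]
          exact mul_pos two_pos hl
        · refine Polynomial.degree_C_le.trans_lt (Polynomial.natDegree_pos_iff_degree_pos.1 ?_)
          rw [← Polynomial.C_ofNat, Polynomial.natDegree_C_mul (two_ne_zero : (2 : ℚ) ≠ 0)]
          exact Nat.pos_of_ne_zero hd
    have hstab : ShStab.IsStable k X L E n := by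
      refine ⟨hEc, hEz, hEp, fun F j hj hF hF0 hjne pF pE hpF hpE' => ?_⟩
      rw [← hp_eq k L hpF, ← hp_eq k L hpE']
      haveI := hj
      have hFT := CurveBundle.Rank.isTorsionFree_of_mono j hET
      by_cases ha : j ≫ g = 0
      · let b : F ⟶ I := hE.fIsKernel.lift (KernelFork.ofι j ha)
        have hb : b ≫ f = j := hE.fIsKernel.fac (KernelFork.ofι j ha) WalkingParallelPair.zero
        haveI : Mono (b ≫ f) := hb ▸ hj
        haveI : Mono b := mono_of_mono b f
        have hT := alpha_cokernel_eq_zero (k := k) hL hn b i hF hI hIT hF0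
        have hsum : hp k L F = A - (1 + hp k L (cokernel b)) := by
          rw [hp_cokernel k hL b hF hI, hpI]; ring
        refine hcore _ _ hsum (by rw [PolyOrder.alpha_add, hαone, hT, add_zero]) ?_
        rw [show 2 * (1 + hp k L (cokernel b)) - 1 = 2 * hp k L (cokernel b) + Polynomial.C 1 by
          rw [map_one]; ring]
        by_cases hz : IsZero (cokernel b)
        · rw [hp_isZero k hL hz, mul_zero, zero_add, Polynomial.leadingCoeff_C]; exact one_pos
        · have hC := CohBasics.Closure.isCoh_cokernel b hF.1 hI
          have hl := Interval.lc_pos (k := k) hL hC hz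
          by_cases hd : (hp k L (cokernel b)).natDegree = 0
          · rw [Polynomial.eq_C_of_natDegree_eq_zero hd] at hl ⊢
            rw [Polynomial.leadingCoeff_C] at hl
            rw [← Polynomial.C_ofNat, ← map_mul, ← map_add, Polynomial.leadingCoeff_C]
            positivity
          · rw [Polynomial.leadingCoeff_add_of_degree_lt']
            · rw [Polynomial.leadingCoeff_mul, ← Polynomial.C_ofNat, Polynomial.leadingCoeff_C]
              exact mul_pos two_pos hl
            · refine Polynomial.degree_C_le.trans_lt (Polynomial.natDegree_pos_iff_degree_pos.1 ?_)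
              rw [← Polynomial.C_ofNat, Polynomial.natDegree_C_mul (two_ne_zero : (2 : ℚ) ≠ 0)]
              exact Nat.pos_of_ne_zero hd
      · let a : F ⟶ O := j ≫ g
        have hJ : Coh.IsCoh (Abelian.image a) := CohBasics.Closure.isCoh_image a hF.1 hO
        have hJT := alpha_cokernel_eq_zero (k := k) hL hn (Abelian.image.ι a) (𝟙 O) hJ hO hOT
          (Basics.not_isZero_image ha)
        have hK : Coh.IsCoh (kernel a) := CohBasics.Closure.isCoh_kernel a hF hO.1
        have hpFK : hp k L F = hp k L (kernel a) + hp k L (Abelian.image a) :=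
          Basics.hp_kernel_image hL a hF hO
        have hpJ : hp k L (Abelian.image a) = A - hp k L (cokernel (Abelian.image.ι a)) := by
          rw [hp_cokernel k hL _ hJ hO, sub_sub_cancel]
        by_cases hK0 : IsZero (kernel a)
        · rw [hp_isZero k hL hK0, zero_add, hpJ] at hpFK
          refine hcore _ _ hpFK hJT ?_
          have hQ0 : ¬ IsZero (cokernel (Abelian.image.ι a)) := fun hz => by
            haveI : Epi (Abelian.image.ι a) := Abelian.epi_of_cokernel_π_eq_zero _ (hz.eq_of_tgt _ _)
            haveI : Epi a := by rw [← Abelian.image.fac a]; exact epi_comp _ _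
            haveI : Mono a := Preadditive.mono_of_kernel_zero (hK0.eq_of_src _ _)
            haveI : IsIso a := isIso_of_mono_of_epi a
            exact hsplit (inv a ≫ j) (by rw [Category.assoc]; exact IsIso.inv_hom_id a)
          have := hnat _ (CohBasics.Closure.isCoh_cokernel _ hJ.1 hO) hQ0 1 zero_le_one le_rfl
          rwa [map_one] at this
        · have hc : (kernel.ι a ≫ j) ≫ g = 0 := by rw [Category.assoc]; exact kernel.condition a
          let b : kernel a ⟶ I := hE.fIsKernel.lift (KernelFork.ofι (kernel.ι a ≫ j) hc)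
          have hb : b ≫ f = kernel.ι a ≫ j :=
            hE.fIsKernel.fac (KernelFork.ofι (kernel.ι a ≫ j) hc) WalkingParallelPair.zero
          haveI : Mono (b ≫ f) := hb ▸ mono_comp _ _
          haveI : Mono b := mono_of_mono b f
          have hKT := alpha_cokernel_eq_zero (k := k) hL hn b i hK hI hIT hK0
          have hC := CohBasics.Closure.isCoh_cokernel j hF.1 hEc
          have hCz : ¬ IsZero (cokernel j) := fun hz => hjne (by
            haveI : Epi j := Abelian.epi_of_cokernel_π_eq_zero _ (hz.eq_of_tgt _ _)
            exact isIso_of_mono_of_epi j)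
          have hsum : hp k L E = hp k L F + hp k L (cokernel j) := by
            rw [hp_cokernel k hL j hF hEc]; ring
          rw [hsum]
          refine Basics.redLT_add_of_alpha_eq_zero (Basics.alpha_pos_of_pure hL hEp j hF hF0) ?_
            (Interval.lc_pos (k := k) hL hC hCz)
          rw [hp_cokernel k hL j hF hEc, hpFK, hpJ, hpE,
            show hp k L (kernel a) = (A - 1) - hp k L (cokernel b) by
              rw [hp_cokernel k hL b hK hI, hpI, sub_sub_cancel],
            show A - 1 + A - (A - 1 - hp k L (cokernel b) + (A - hp k L (cokernel (Abelian.image.ι a)))) =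
              hp k L (cokernel b) + hp k L (cokernel (Abelian.image.ι a)) by ring,
            PolyOrder.alpha_add, hKT, hJT, add_zero]
    refine ⟨E, hstab, fun pO pE hpO hpE' => ?_, I, f, inferInstance, hI, hIz, ?_, fun pF pE hpF hpE' => ?_⟩
    · rw [← hp_eq k L hpO, ← hp_eq k L hpE']
      exact hαE
    · intro hi
      have : IsZero O := by
        rw [IsZero.iff_id_eq_zero, ← cancel_epi g, ← cancel_epi f, reassoc_of% w, Limits.zero_comp, Limits.comp_zero, Limits.comp_zero]
      have := hp_isZero k hL this
      rw [← hA] at this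
      rw [this] at hαO
      simp [StabCat.alpha] at hαO
    · rw [← hp_eq k L hpF, ← hp_eq k L hpE', hαI, hαE]
      refine ⟨hαO, by linarith, ?_⟩
      have hone : StabCat.alpha (n - 1) (1 : ℚ[X]) = 0 := by
        simp [StabCat.alpha, Polynomial.coeff_one, show n - 1 ≠ 0 by omega]
      rw [StabCat.hatSlope, StabCat.hatSlope, hαI, hαE, hpI, hpE, PolyOrder.alpha_add,
        PolyOrder.alpha_sub, hone, sub_zero, ← two_mul, mul_div_mul_left _ _ (two_ne_zero : (2 : ℚ) ≠ 0)]


end Groth.Agent.S15221
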