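import Groth.Statements.S15224
import Mathlib.Algebra.Algebra.Rat
import Mathlib.Data.Nat.Choose.Sum
import Mathlib.Data.Nat.Choose.Cast
import Mathlib.Algebra.BigOperators.Intervals
import Mathlib.Tactic.FieldSimp
import Mathlib.Tactic.Ring

set_option autoImplicit false
open Finset
open W4c2rk2extmaps

namespace Groth.Agent.S15224

theorem alt_divPow (R : Type*) [CommRing R] [Algebra ℚ R] (y : R) (c : ℕ → R)
    (hc : ∀ k : ℕ, c k = ((Nat.factorial k : ℚ)⁻¹) • y ^ k) (k : ℕ) (hk : 1 ≤ k) :
    ∑ i ∈ Finset.Ico 1 (k + 1), (-1 : R) ^ (i - 1) * c i * c (k - i) = c k := by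
  have hcc : ∀ i, i ≤ k → c i * c (k - i) = (k.choose i : R) * c k := by
    intro i hi
    rw [hc, hc, hc, smul_mul_smul_comm, ← pow_add, Nat.add_sub_cancel' hi, mul_smul_comm,
      ← nsmul_eq_mul, ← Nat.cast_smul_eq_nsmul ℚ, smul_smul, Nat.cast_choose ℚ hi]
    congr 1
    have := Nat.factorial_ne_zero k
    field_simp
  have h : ∀ i ∈ Finset.Ico 1 (k + 1), (-1 : R) ^ (i - 1) * c i * c (k - i) =
      -((((-1 : ℤ) ^ i * (k.choose i : ℤ)) : ℤ) : R) * c k := by
    intro i hi
    simp at hi
    obtain ⟨j, rfl⟩ : ∃ j, i = j + 1 := ⟨i - 1, by omega⟩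
    rw [mul_assoc, hcc _ (by omega)]
    push_cast
    simp [pow_succ]; ring
  rw [Finset.sum_congr rfl h, ← Finset.sum_mul, Finset.sum_neg_distrib, ← Int.cast_sum,
    Finset.sum_Ico_eq_sub _ (by omega), Int.alternating_sum_range_choose_of_ne (by omega)]
  simp

/-- In a commutative ℚ-algebra R let y be an element and put c_k = y^k / k! for every k. Then for k ≥ 2,
Σ_{i=1}^{k-1} (-1)^(i-1) c_i c_(k-i) + (-1)^(k-1) c_k = c_k. (The published statement concerns the
Chern classes of a specific vector bundle on a Jacobian, which are of the form c_k = (4θ)^k / k!;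
the printed argument establishes the identity for every sequence of this form in a commutative
ℚ-algebra, which is the form stated here.) -/
theorem result (R : Type*) [CommRing R] [Algebra ℚ R] (y : R)
    (c : ℕ → R) (hc : ∀ k : ℕ, c k = ((Nat.factorial k : ℚ)⁻¹) • y ^ k)
    (k : ℕ) (hk : 2 ≤ k) :
    (∑ i ∈ Finset.Ico 1 k, (-1 : R) ^ (i - 1) * c i * c (k - i)) + (-1 : R) ^ (k - 1) * c k = c k := by
  have h := alt_divPow R y c hc k (by omega)
  rw [Finset.sum_Ico_succ_top (by omega)] at h
  have h0 : c 0 = 1 := by simp [hc]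
  simpa [h0] using h

end Groth.Agent.S15224
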