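import Groth.Statements.S15227
import Groth.Agent.Lib.CurveBundle.SecantDivisor

set_option autoImplicit false
open CategoryTheory CategoryTheory.Limits AlgebraicGeometry MonoidalCategory
open VBCurve

namespace Groth.Agent.S15227

/-- Let X be a smooth proper integral curve over ℂ of genus g ≥ 3 which is non-hyperelliptic, K a module
isomorphic to its sheaf of differentials, and N an invertible module of degree g − 1 with H^0(N) =
0, so that the complete linear system of K ⊗ N maps X to a projective space of dimension 2g − 3 as a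
curve of degree 3g − 3. An effective divisor D of degree d, recorded through its invertible ideal
sheaf I ⊂ O_X (of degree −d), is a d-secant when its linear span has dimension d − 2, i.e. h^0(I ⊗ K
⊗ N) = h^0(K ⊗ N) − d + 1. Then there is no (g − 1)-secant: no invertible ideal I ⊂ O_X of degree 1
− g satisfies h^0(I ⊗ K ⊗ N) + (g − 2) = h^0(K ⊗ N). -/
theorem result
    (X : Scheme.{0}) [X.Over (Spec (CommRingCat.of ℂ))] [IsIntegral X]
    [IsProper (X ↘ Spec (CommRingCat.of ℂ))] [Smooth (X ↘ Spec (CommRingCat.of ℂ))]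
    (hdim : topologicalKrullDim X = 1) (hg : 2 ≤ Curv2.genus ℂ X)
    (hnh : ∀ M : X.Modules, PicF.IsInvertible M → Curv2.deg ℂ X M 1 = 2 →
      Module.finrank ℂ (Coh.HH X M 0) ≤ 1)
    (K : X.Modules) (eK : K ≅ Omega.sheaf (X ↘ Spec (CommRingCat.of ℂ)))
    (g : ℕ) (hg3 : 3 ≤ g) (hgen : Curv2.genus ℂ X = g)
    (N : X.Modules) (hN : PicF.IsInvertible N) (hdN : Curv2.deg ℂ X N 1 = (g : ℤ) - 1)
    (h0 : Module.finrank ℂ (Coh.HH X N 0) = 0) :
    ¬ ∃ (I : X.Modules) (ι : I ⟶ Coh.structureModule X),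
        PicF.IsInvertible I ∧ Mono ι ∧ Curv2.deg ℂ X I 1 = -((g : ℤ) - 1) ∧
        Module.finrank ℂ (Coh.HH X (CohB1.tensorMod I (CohB1.tensorMod K N)) 0) + (g - 2) =
          Module.finrank ℂ (Coh.HH X (CohB1.tensorMod K N) 0) := by
  open Groth.Agent.Lib Groth.Agent.Lib.CurveBundle in
    have := Ctx.ofIntegral ℂ hdim
    rintro ⟨I, ι, hI, hι, hdI, hh⟩
    obtain ⟨hK, hKd, -⟩ := SecantDivisor.canonical_facts (k := ℂ) hdim eK
    have h2 := SecantDivisor.h0_of_deg (k := ℂ) hdim
      (TensorMod.Invertible.isInvertible_tensorMod hK hN)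
      (by rw [Curves.Degree.deg_tensor hdim.le hK hN, hKd, hdN]; omega)
    rw [Curves.Degree.deg_tensor hdim.le hK hN, hKd, hdN] at h2
    obtain ⟨e⟩ := SecantDivisor.tensor_iso (k := ℂ) hdim eK hI hN (by rw [hdI, hdN]; ring) (by omega)
    have := (‹Degree.CurveCtx ℂ X›.good _ (SlopeLine.line (k := ℂ) hN).1).fin₀
    exact SecantDivisor.ne_zero_of_mono (k := ℂ) hI ι (SecantDivisor.sect_injective hN e
      ((SecantDivisor.hom_eq_zero (Module.finrank_zero_iff.mp h0) _).trans
        (SecantDivisor.hom_eq_zero (Module.finrank_zero_iff.mp h0) _).symm))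


end Groth.Agent.S15227
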