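import Groth.Statements.S15228
import Groth.Agent.Lib.CurveBundle.SecantDivisor

set_option autoImplicit false
open CategoryTheory CategoryTheory.Limits AlgebraicGeometry MonoidalCategory
open VBCurve

namespace Groth.Agent.S15228

/-- Let X be a smooth proper integral curve over ℂ of genus g ≥ 3 which is non-hyperelliptic, K a module
isomorphic to its sheaf of differentials, and N an invertible module of degree g with h^0(N) ≤ 1, so
that the complete linear system of K ⊗ N maps X to a projective space of dimension 2g − 2 as a curve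
of degree 3g − 2. An effective divisor D of degree d, recorded through its invertible ideal sheaf I
⊂ O_X (of degree −d), is a d-secant when its linear span has dimension d − 2, i.e. h^0(I ⊗ K ⊗ N) =
h^0(K ⊗ N) − d + 1. Then X has exactly one g-secant: some invertible ideal I ⊂ O_X of degree −g
satisfies h^0(I ⊗ K ⊗ N) + (g − 1) = h^0(K ⊗ N), and any two such ideals are equal as subobjects of
O_X (an isomorphism between them commutes with the inclusions). -/
theorem result
    (X : Scheme.{0}) [X.Over (Spec (CommRingCat.of ℂ))] [IsIntegral X]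
    [IsProper (X ↘ Spec (CommRingCat.of ℂ))] [Smooth (X ↘ Spec (CommRingCat.of ℂ))]
    (hdim : topologicalKrullDim X = 1) (hg : 2 ≤ Curv2.genus ℂ X)
    (hnh : ∀ M : X.Modules, PicF.IsInvertible M → Curv2.deg ℂ X M 1 = 2 →
      Module.finrank ℂ (Coh.HH X M 0) ≤ 1)
    (K : X.Modules) (eK : K ≅ Omega.sheaf (X ↘ Spec (CommRingCat.of ℂ)))
    (g : ℕ) (hg3 : 3 ≤ g) (hgen : Curv2.genus ℂ X = g)
    (N : X.Modules) (hN : PicF.IsInvertible N) (hdN : Curv2.deg ℂ X N 1 = (g : ℤ))
    (h0 : Module.finrank ℂ (Coh.HH X N 0) ≤ 1) :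
    (∃ (I : X.Modules) (ι : I ⟶ Coh.structureModule X),
        PicF.IsInvertible I ∧ Mono ι ∧ Curv2.deg ℂ X I 1 = -((g : ℤ)) ∧
        Module.finrank ℂ (Coh.HH X (CohB1.tensorMod I (CohB1.tensorMod K N)) 0) + (g - 1) =
          Module.finrank ℂ (Coh.HH X (CohB1.tensorMod K N) 0)) ∧
      ∀ (I I' : X.Modules) (ι : I ⟶ Coh.structureModule X) (ι' : I' ⟶ Coh.structureModule X),
        (PicF.IsInvertible I ∧ Mono ι ∧ Curv2.deg ℂ X I 1 = -((g : ℤ)) ∧
        Module.finrank ℂ (Coh.HH X (CohB1.tensorMod I (CohB1.tensorMod K N)) 0) + (g - 1) =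
          Module.finrank ℂ (Coh.HH X (CohB1.tensorMod K N) 0)) →
        (PicF.IsInvertible I' ∧ Mono ι' ∧ Curv2.deg ℂ X I' 1 = -((g : ℤ)) ∧
        Module.finrank ℂ (Coh.HH X (CohB1.tensorMod I' (CohB1.tensorMod K N)) 0) + (g - 1) =
          Module.finrank ℂ (Coh.HH X (CohB1.tensorMod K N) 0)) →
        ∃ φ : I' ≅ I, φ.hom ≫ ι = ι' := by
  open Groth.Agent.Lib Groth.Agent.Lib.CurveBundle Groth.Agent.Lib.TensorMod.Basic in
    have := Ctx.ofIntegral ℂ hdim
    obtain ⟨hK, hKd, hKh⟩ := SecantDivisor.canonical_facts (k := ℂ) hdim eK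
    have hKN := TensorMod.Invertible.isInvertible_tensorMod hK hN
    have h2 := SecantDivisor.h0_of_deg (k := ℂ) hdim hKN
      (by rw [Curves.Degree.deg_tensor hdim.le hK hN, hKd, hdN]; omega)
    rw [Curves.Degree.deg_tensor hdim.le hK hN, hKd, hdN] at h2
    refine ⟨?_, fun I I' ι ι' ⟨hI, _, hdI, hh⟩ ⟨hI', _, hdI', hh'⟩ => ?_⟩
    swap
    · obtain ⟨e⟩ := SecantDivisor.tensor_iso (k := ℂ) hdim eK hI hN (by rw [hdI, hdN]; ring) (by omega)
      obtain ⟨e'⟩ := SecantDivisor.tensor_iso (k := ℂ) hdim eK hI' hN (by rw [hdI', hdN]; ring)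
        (by omega)
      exact SecantDivisor.eq_of_h0_le_one (k := ℂ) hI hI' hN ι ι' e e' h0
    have hN' := TensorMod.Invertible.isInvertible_dual hN
    obtain ⟨hNc, -, eN, -⟩ := SlopeLine.line (k := ℂ) hN
    have hh := (‹Degree.CurveCtx ℂ X›.good _ hNc).euler
    have hne : Nontrivial (Coh.HH X N 0) := by
      have := (‹Degree.CurveCtx ℂ X›.good _ hNc).fin₀
      refine Module.nontrivial_of_finrank_pos (R := ℂ) (Nat.pos_of_ne_zero fun hz => ?_)
      have hr := (‹Degree.CurveCtx ℂ X›.good _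
        (SlopeLine.line (k := ℂ) (PicLoc.isInvertible_structureModule X)).1).euler
      have d1 : Degree.dg ℂ N = Curv2.euler ℂ X N -
          (Degree.gr ℂ N : ℤ) * Curv2.euler ℂ X (Coh.structureModule X) := rfl
      rw [eN, Degree.dg_eq_deg ℂ (TensorMod.LocFree.of_isInvertible hN), hdN] at d1
      have a0 : Curves.Euler.hdim ℂ X (Coh.structureModule X) 0 = 1 :=
        Curves.GlobalSections.finrank_h0_structure ℂ X
      have a1 : Curves.Euler.hdim ℂ X (Coh.structureModule X) 1 = g := hgen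
      have a2 : Curves.Euler.hdim ℂ X N 0 = 0 := hz
      omega
    obtain ⟨s, hs⟩ := Curves.Positivity.exists_section_of_nontrivial hne
    obtain ⟨_, -⟩ := SlopeLine.of_ne_zero (k := ℂ) (PicLoc.isInvertible_structureModule X) hN s hs
    have hses : (ShortComplex.mk s (cokernel.π s) (cokernel.condition s)).ShortExact :=
      { exact := ShortComplex.exact_cokernel s }
    have := (Twist.shortExact hN' hses).mono_f
    have hd' : Curv2.deg ℂ X (TensorMod.Dual.dual N) 1 = -(g : ℤ) := by
      rw [← Degree.dg_eq_deg ℂ (TensorMod.LocFree.of_isInvertible hN'), H0Crit.dg_dual hN,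
        Degree.dg_eq_deg ℂ (TensorMod.LocFree.of_isInvertible hN), hdN]
    refine ⟨TensorMod.Dual.dual N, (leftUnit _).inv ≫ tmap s (𝟙 _) ≫
      (TensorMod.Invertible.tensorDualIso hN).hom, hN', inferInstance, hd', ?_⟩
    have e : Module.finrank ℂ (Coh.HH X
        (CohB1.tensorMod (TensorMod.Dual.dual N) (CohB1.tensorMod K N)) 0) = g := by
      have := Curves.Euler.hdim_eq_of_iso (k := ℂ)
        (comm (TensorMod.Dual.dual N) (CohB1.tensorMod K N) ≪≫
          LineQuot.cancel (TensorMod.Invertible.tensorDualIso hN)) 0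
      exact this.trans (hKh.trans hgen)
    omega


end Groth.Agent.S15228
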