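import Groth.Statements.S15229
import Mathlib.Algebra.Algebra.Rat
import Mathlib.Data.Nat.Choose.Sum
import Mathlib.Data.Nat.Choose.Cast
import Mathlib.Algebra.BigOperators.Intervals
import Mathlib.Tactic.FieldSimp
import Mathlib.Tactic.Ring
import Mathlib.Tactic.LinearCombination

set_option autoImplicit false
open Finset
open W4c2rk2extmaps

namespace Groth.Agent.S15229

theorem alt_divPow (R : Type*) [CommRing R] [Algebra ℚ R] (y : R) (c : ℕ → R)
    (hc : ∀ k : ℕ, c k = ((Nat.factorial k : ℚ)⁻¹) • y ^ k) (k : ℕ) (hk : 1 ≤ k) :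
    ∑ i ∈ Finset.Ico 1 (k + 1), (-1 : R) ^ (i - 1) * c i * c (k - i) = c k := by
  have hcc : ∀ i, i ≤ k → c i * c (k - i) = (k.choose i : R) * c k := by
    intro i hi
    rw [hc, hc, hc, smul_mul_smul_comm, ← pow_add, Nat.add_sub_cancel' hi, mul_smul_comm,
      ← nsmul_eq_mul, ← Nat.cast_smul_eq_nsmul ℚ, smul_smul, Nat.cast_choose ℚ hi]
    congr 1
    have := Nat.factorial_ne_zero k
    field_simp
  have h : ∀ i ∈ Finset.Ico 1 (k + 1), (-1 : R) ^ (i - 1) * c i * c (k - i) =
      -((((-1 : ℤ) ^ i * (k.choose i : ℤ)) : ℤ) : R) * c k := by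
    intro i hi
    simp at hi
    obtain ⟨j, rfl⟩ : ∃ j, i = j + 1 := ⟨i - 1, by omega⟩
    rw [mul_assoc, hcc _ (by omega)]
    push_cast
    simp [pow_succ]; ring
  rw [Finset.sum_congr rfl h, ← Finset.sum_mul, Finset.sum_neg_distrib, ← Int.cast_sum,
    Finset.sum_Ico_eq_sub _ (by omega), Int.alternating_sum_range_choose_of_ne (by omega)]
  simp

/-- In a commutative ℚ-algebra R let θ, η be elements and g a natural number, and put c_k = (4θ)^k / k!.
Suppose θ^(g+1) = 0 and that η satisfies the relation η^(g+1) = Σ_{i=1}^{g+1} (-1)^(i-1) c_i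
η^(g+1-i). Then η^(g+k) θ^(g-k) = c_k η^g θ^(g-k) for every 1 ≤ k ≤ g. (The published statement
concerns the first Chern class η of the tautological line bundle on a projective bundle P(U) over a
g-dimensional Jacobian, with c_k the Chern classes of U, which are (4θ)^k / k!; there θ^(g+1)
vanishes for dimension reasons and the displayed relation is the projective-bundle relation, and the
printed argument derives the identity from exactly these three inputs, which is the form stated
here.) -/
theorem result (R : Type*) [CommRing R] [Algebra ℚ R]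
    (θ η : R) (g : ℕ) (c : ℕ → R) (hc : ∀ k : ℕ, c k = ((Nat.factorial k : ℚ)⁻¹) • ((4 : R) * θ) ^ k)
    (hθ : θ ^ (g + 1) = 0)
    (hrel : η ^ (g + 1) = ∑ i ∈ Finset.Ico 1 (g + 2), (-1 : R) ^ (i - 1) * c i * η ^ (g + 1 - i))
    (k : ℕ) (hk1 : 1 ≤ k) (hkg : k ≤ g) :
    η ^ (g + k) * θ ^ (g - k) = c k * η ^ g * θ ^ (g - k) := by
  have h0 : c 0 = 1 := by simp [hc]
  suffices ∀ k, k ≤ g → η ^ (g + k) * θ ^ (g - k) = c k * η ^ g * θ ^ (g - k) from this k hkg
  intro k
  induction k using Nat.strong_induction_on with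
  | _ k ih =>
    intro hk
    rcases Nat.eq_zero_or_pos k with rfl | hpos
    · simp [h0]
    have e : η ^ (g + k) * θ ^ (g - k) = ∑ i ∈ Finset.Ico 1 (g + 2),
        (-1 : R) ^ (i - 1) * c i * η ^ (g + 1 - i) * η ^ (k - 1) * θ ^ (g - k) := by
      rw [show g + k = (g + 1) + (k - 1) by omega, pow_add, hrel, Finset.sum_mul, Finset.sum_mul]
    rw [e, ← Finset.sum_subset (Finset.Ico_subset_Ico_right (show k + 1 ≤ g + 2 by omega))
      (fun i hi hi' => ?_)]
    · rw [show c k = ∑ i ∈ Finset.Ico 1 (k + 1), (-1 : R) ^ (i - 1) * c i * c (k - i) from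
        (alt_divPow R _ c hc k hpos).symm, Finset.sum_mul, Finset.sum_mul]
      refine Finset.sum_congr rfl fun i hi => ?_
      simp at hi
      have hh := ih (k - i) (by omega) (by omega)
      have hci : c i = ((Nat.factorial i : ℚ)⁻¹ • (4 : R) ^ i) * θ ^ i := by
        rw [hc, mul_pow, smul_mul_assoc]
      rw [show g - (k - i) = i + (g - k) by omega, pow_add] at hh
      rw [show η ^ (g + 1 - i) = η ^ (g + 1 - i) from rfl, mul_assoc _ (η ^ (g + 1 - i)),
        ← pow_add, show g + 1 - i + (k - 1) = g + (k - i) by omega, hci]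
      linear_combination ((-1 : R) ^ (i - 1) * ((Nat.factorial i : ℚ)⁻¹ • (4 : R) ^ i)) * hh
    · simp at hi hi'
      have hz : c i * θ ^ (g - k) = 0 := by
        rw [hc, mul_pow, smul_mul_assoc, mul_assoc, ← pow_add,
          show i + (g - k) = (g + 1) + (i - k - 1) by omega, pow_add, hθ]
        simp
      linear_combination ((-1 : R) ^ (i - 1) * η ^ (g + 1 - i) * η ^ (k - 1)) * hz

end Groth.Agent.S15229
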