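import Groth.Statements.S15231
import Groth.Agent.Lib.DR.LTensorModule
import Groth.Agent.Lib.DR.Nilp
import Mathlib.RingTheory.Jacobson.Ideal
import Mathlib.RingTheory.Nakayama

set_option autoImplicit false
universe u
open CategoryTheory CategoryTheory.Limits
attribute [local instance] HasDerivedCategory.standard
open DRing

open Groth.Agent.Lib.DR.Basic Groth.Agent.Lib.DR.FiniteComplex Groth.Agent.Lib.DR.PseudoCoherent Groth.Agent.Lib.DR.TopCohomology
open CategoryTheory CategoryTheory.Limits CategoryTheory.Pretriangulated
open Groth.Agent.Lib.DR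
open scoped TensorProduct

namespace Groth.Agent.S15231

/-- Let R be a Noetherian local commutative ring with residue field κ, let P be any object of D(R) and
a, b integers. Suppose that H^i(P ⊗^L_R κ) = 0 for every i outside [a, b] (over the field κ this
says exactly that P ⊗^L_R κ has tor amplitude in [a, b] as an object of D(κ)). Then for every
R-module N of finite length, H^i(P ⊗^L_R N) = 0 for every i outside [a, b]. The derived base change
to κ and the derived tensor products with R-modules are the total left derived functors on D(R),
assumed to exist for every R-module (as they do). -/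
theorem result (R : Type u) [CommRing R] [IsNoetherianRing R]
    [IsLocalRing R] [DRing.HasLBaseChange (IsLocalRing.residue R)] [∀ M : ModuleCat.{u} R, DRing.HasLTensor R M]
    (P : Dual.D R) (a b : ℤ)
    (h : ∀ i : ℤ, (i < a ∨ b < i) →
      Subsingleton (Dual.HD (IsLocalRing.ResidueField R) ((DRing.LBaseChange (IsLocalRing.residue R)).obj P) i))
    (N : Type u) [AddCommGroup N] [Module R N] (hN : IsFiniteLength R N) (i : ℤ) (hi : i < a ∨ b < i) :
    Subsingleton (Dual.HD R ((DRing.LTensor R (ModuleCat.of R N)).obj P) i) := by
  obtain ⟨G, hG, hGp, ⟨e⟩⟩ := BaseChangeU.exists_rep P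
  have hGf : ∀ t, Module.Flat R (G.X t) := fun t => by
    have : Module.Projective R (G.X t) := hGp t
    exact Module.Flat.of_projective
  let φ := IsLocalRing.residue R
  have hext : ((BaseChange.ext φ).obj G).ExactAt i := by
    rw [HomologicalComplex.exactAt_iff_isZero_homology]
    have := h i hi
    exact (@ModuleCat.isZero_of_subsingleton _ _ ((DerivedCategory.homologyFunctor
        (ModuleCat.{u} (IsLocalRing.ResidueField R)) i).obj ((DRing.LBaseChange φ).obj P)) this).of_iso
      ((homologyQIso _ i).symm ≪≫ (DerivedCategory.homologyFunctor _ i).mapIso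
        ((BaseChange.bc φ G).symm ≪≫ (DRing.LBaseChange φ).mapIso e))
  have hN' : ∀ (s : Unit) (V : ModuleCat.{u} (IsLocalRing.ResidueField R)),
      ((TorAmp.tens V).obj ((BaseChange.ext φ).obj G)).ExactAt i := fun _ V => by
    have : PreservesFiniteLimits (MonoidalCategory.tensorRight V) :=
      haveI : Module.Flat (IsLocalRing.ResidueField R) V := Module.Flat.of_free
      inferInstance
    have : PreservesColimitsOfSize.{u, u} (MonoidalCategory.tensorLeft V) := inferInstance
    have : PreservesColimitsOfSize.{u, u} (MonoidalCategory.tensorRight V) :=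
      preservesColimits_of_natIso (BraidedCategory.tensorLeftIsoTensorRight V)
    have : PreservesFiniteColimits (MonoidalCategory.tensorRight V) :=
      PreservesColimitsOfSize.preservesFiniteColimits _
    rw [HomologicalComplex.exactAt_iff] at hext ⊢
    exact hext.map (MonoidalCategory.tensorRight V)
  have key : ∀ (M : Type u) [AddCommGroup M] [Module R M], IsFiniteLength R M →
      Function.Exact ((G.d (i - 1) i).hom.lTensor M) ((G.d i (i + 1)).hom.lTensor M) := by
    intro M _ _ hM
    induction hM with
    | @of_subsingleton M _ _ _ =>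
      exact fun z => ⟨fun _ => ⟨0, Subsingleton.elim _ _⟩, fun _ => Subsingleton.elim _ _⟩
    | @of_simple_quotient M _ _ N _ _ ih =>
      refine Nilp.exact_ext G hGf _ _ _ M N ih (Nilp.exact_killed (ι := Unit) (fun _ => φ)
        (fun _ => IsLocalRing.residue_surjective) G (i - 1) i (i + 1) (by lia) rfl () (hN' ()) _ ?_)
      rw [IsLocalRing.ker_residue]
      have : Nontrivial (M ⧸ N) := IsSimpleModule.nontrivial R _
      rcases eq_bot_or_eq_top (IsLocalRing.maximalIdeal R • (⊤ : Submodule R (M ⧸ N))) with h0 | h0
      · exact h0
      · exact absurd (Submodule.eq_bot_of_le_smul_of_le_jacobson_bot _ _ (Module.Finite.fg_top) h0.ge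
          (IsLocalRing.maximalIdeal_le_jacobson _)) top_ne_bot
  have h0 : ((TorAmp.tens (ModuleCat.of R N)).obj G).ExactAt i := by
    rw [HomologicalComplex.exactAt_iff' _ (i - 1) i (i + 1) (by simp) (by simp),
      ShortComplex.ShortExact.moduleCat_exact_iff_function_exact]
    exact (Function.Exact.iff_of_ladder_linearEquiv (e₁ := TensorProduct.comm R N (G.X (i - 1)))
      (e₂ := TensorProduct.comm R N (G.X i)) (e₃ := TensorProduct.comm R N (G.X (i + 1)))
      (TensorProduct.ext' fun _ _ => rfl) (TensorProduct.ext' fun _ _ => rfl)).2 (key N hN)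
  rw [HomologicalComplex.exactAt_iff_isZero_homology] at h0
  exact ModuleCat.subsingleton_of_isZero (h0.of_iso ((DerivedCategory.homologyFunctor _ i).mapIso
    ((DRing.LTensor R (ModuleCat.of R N)).mapIso e.symm ≪≫ LTensorModule.lt (ModuleCat.of R N) G) ≪≫
      homologyQIso _ i))

end Groth.Agent.S15231
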