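import Groth.Statements.S15232
import Groth.Agent.Lib.DR.FibreApp
import Mathlib.RingTheory.Ideal.Quotient.Operations

set_option autoImplicit false
universe u
open CategoryTheory CategoryTheory.Limits
attribute [local instance] HasDerivedCategory.standard
open DRing

open Groth.Agent.Lib.DR.Basic Groth.Agent.Lib.DR.FiniteComplex Groth.Agent.Lib.DR.PseudoCoherent Groth.Agent.Lib.DR.TopCohomology
open CategoryTheory CategoryTheory.Limits
open Groth.Agent.Lib.DR Groth.Agent.Lib.DR.Representative Groth.Agent.Lib.DR.BaseChange Groth.Agent.Lib.DR.TorAmp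

namespace Groth.Agent.S15232

/-- Let R be a Noetherian commutative ring and I an ideal contained in the Jacobson radical of R, and
assume the derived base change D(R) → D(R/I) exists. Let P be a pseudo-coherent object of D(R) and
a, b integers. If P ⊗^L_R R/I has tor amplitude in [a, b] as an object of D(R/I), then P has tor
amplitude in [a, b] as an object of D(R). Tor amplitude is taken in the flat-representative form
(isomorphic in the derived category to a complex of flat modules vanishing outside [a, b]). -/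
theorem result (R : Type u) [CommRing R] [IsNoetherianRing R]
    (I : Ideal R) (hI : I ≤ Ideal.jacobson (⊥ : Ideal R)) [DRing.HasLBaseChange (Ideal.Quotient.mk I)]
    (P : Dual.D R) (hP : DRing.IsPseudoCoherent' R P) (a b : ℤ)
    (h : DRing.HasTorAmplitudeIn (R ⧸ I) a b ((DRing.LBaseChange (Ideal.Quotient.mk I)).obj P)) :
    DRing.HasTorAmplitudeIn R a b P := by
  refine (hasTorAmplitudeIn_iff a b P).2 (Bdd.of_le flat_of_fproj
    (FibreApp.bdd_fproj_of_mem_sup ((isPseudoCoherent'_iff_forall P).1 hP) a b ?_))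
  intro E c hE hp e m hm i j k hij hjk hj y hy
  let φ := Ideal.Quotient.mk I
  have hIm : I ≤ m := hI.trans (sInf_le ⟨bot_le, hm⟩)
  have hf : ∀ i, flat R (E.X i) := fun i => flat_of_fproj _ (fproj_of_ff _ (hp i))
  let m' : Ideal (R ⧸ I) := m.map φ
  let E' := (ext φ).obj E
  have hE'z : ∀ i, c < i → IsZero (E'.X i) := fun i hi => (ModuleCat.extendScalars φ).map_isZero (hE i hi)
  have hamp : Bdd (flat (R ⧸ I)) a b (DerivedCategory.Q.obj E') :=
    ((hasTorAmplitudeIn_iff a b _).1 h).of_iso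
      ((DRing.LBaseChange φ).mapIso e.symm ≪≫ bcFlat φ E c hE hf)
  let N := ModuleCat.of (R ⧸ I) ((R ⧸ I) ⧸ m')
  have hex : ((tens N).obj E').ExactAt j := by
    rcases hj with hj | hj
    · exact exactAt_tens_of_bdd N E' hE'z (fun i => ext_flat φ _ (hf i)) hamp j hj
    · obtain ⟨G, hG, hGp, ⟨eG⟩⟩ := hamp
      obtain ⟨g⟩ := nonempty_tens_iso N (max b c) (fun i hi => hG i (Or.inr (by lia)))
        (fun i hi => hE'z i (by lia)) hGp (fun i => ext_flat φ _ (hf i)) eG
      have h0 : ((tens N).obj G).ExactAt j := HomologicalComplex.ExactAt.of_isZero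
        ((MonoidalCategory.tensorRight N).map_isZero (hG j (Or.inr hj)))
      rw [HomologicalComplex.exactAt_iff_isZero_homology] at h0 ⊢
      exact h0.of_iso ((homologyQIso _ j).symm ≪≫
        ((DerivedCategory.homologyFunctor _ j).mapIso g).symm ≪≫ homologyQIso _ j)
  rw [HomologicalComplex.exactAt_iff' _ i j k (by simp; lia) (by simp; lia),
    ShortComplex.ShortExact.moduleCat_exact_iff_function_exact] at hex
  have hex' : Function.Exact ((E'.d i j).hom.lTensor ((R ⧸ I) ⧸ m')) ((E'.d j k).hom.lTensor ((R ⧸ I) ⧸ m')) :=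
    (Function.Exact.iff_of_ladder_linearEquiv
      (e₁ := TensorProduct.comm (R ⧸ I) ((R ⧸ I) ⧸ m') (E'.X i))
      (e₂ := TensorProduct.comm (R ⧸ I) ((R ⧸ I) ⧸ m') (E'.X j))
      (e₃ := TensorProduct.comm (R ⧸ I) ((R ⧸ I) ⧸ m') (E'.X k))
      (TensorProduct.ext' fun _ _ => rfl) (TensorProduct.ext' fun _ _ => rfl)).1 hex
  let ee := FlatBC.resEquiv R (R ⧸ I)
  let one : (ModuleCat.restrictScalars φ).obj (ModuleCat.of (R ⧸ I) (R ⧸ I)) := (1 : R ⧸ I)
  let q : ∀ t, E.X t →ₛₗ[φ] E'.X t := fun t =>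
    { toFun := fun x => TensorProduct.tmul R one x
      map_add' := fun x x' => TensorProduct.tmul_add _ x x'
      map_smul' := fun r x => (TensorProduct.tmul_smul r one x).trans rfl }
  have hq : ∀ t (x : E.X t), x ∈ m • (⊤ : Submodule R (E.X t)) → q t x ∈ m' • (⊤ : Submodule (R ⧸ I) (E'.X t)) := by
    intro t x hx
    refine Submodule.smul_induction_on hx (fun r hr x _ => ?_) fun x x' hx hx' => by
      rw [map_add]; exact add_mem hx hx'
    rw [LinearMap.map_smulₛₗ]
    exact Submodule.smul_mem_smul (Ideal.mem_map_of_mem φ hr) trivial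
  have hcomm : ∀ s t (x : E.X s), (E'.d s t).hom (q s x) = q t ((E.d s t).hom x) := fun s t x => rfl
  let cg : ∀ t, _ ≃ₗ[R] TensorProduct R (R ⧸ I) (E.X t) := fun t =>
    TensorProduct.congr ee (LinearEquiv.refl R (E.X t))
  have hsurj : ∀ t, Function.Surjective (q t) := fun t w => by
    obtain ⟨x, hx⟩ := TensorProduct.mk_surjective R (E.X t) (R ⧸ I) Ideal.Quotient.mk_surjective (cg t w)
    exact ⟨x, (cg t).injective (Eq.trans rfl hx)⟩
  obtain ⟨u, ⟨x', rfl⟩, v, hv, huv⟩ := Submodule.mem_sup.1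
    (Fibre.mem_sup_of_exact m' (E'.d i j).hom (E'.d j k).hom hex' (q j y) (by rw [hcomm]; exact hq k _ hy))
  obtain ⟨x, rfl⟩ := hsurj i x'
  have hker : ∀ z : E.X j, q j z = 0 → z ∈ m • (⊤ : Submodule R (E.X j)) := fun z hz => by
    have hz' : z ∈ LinearMap.ker ((TensorProduct.mk R (R ⧸ I) (E.X j)) 1) :=
      (congrArg (cg j) hz).trans (map_zero _)
    rw [LinearMap.ker_tensorProductMk] at hz'
    exact Submodule.smul_mono_left hIm hz'
  have hlift : ∀ w, w ∈ m' • (⊤ : Submodule (R ⧸ I) (E'.X j)) → ∃ z ∈ m • (⊤ : Submodule R (E.X j)), q j z = w := by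
    intro w hw
    refine Submodule.smul_induction_on hw (fun r hr z _ => ?_) fun w w' ⟨z, hz, hz'⟩ ⟨t, ht, ht'⟩ =>
      ⟨z + t, add_mem hz ht, by rw [map_add, hz', ht']⟩
    obtain ⟨r', hr', rfl⟩ := (Ideal.mem_map_iff_of_surjective φ Ideal.Quotient.mk_surjective).1 hr
    obtain ⟨z', rfl⟩ := hsurj j z
    exact ⟨r' • z', Submodule.smul_mem_smul hr' trivial, LinearMap.map_smulₛₗ _ _ _⟩
  obtain ⟨z, hz, rfl⟩ := hlift v hv
  rw [← sub_add_cancel y ((E.d i j).hom x), add_comm]
  refine Submodule.add_mem_sup ⟨x, rfl⟩ ?_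
  have hsplit : y - (E.d i j).hom x = (y - (E.d i j).hom x - z) + z := by abel
  rw [hsplit]
  refine add_mem (hker _ ?_) hz
  rw [map_sub, map_sub, ← huv, hcomm]
  abel

end Groth.Agent.S15232
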