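import Groth.Statements.S15233
import Mathlib.CategoryTheory.Sites.LocallySurjective
import Mathlib.CategoryTheory.Sites.Abelian
import Mathlib.Algebra.Category.Grp.Zero
import Groth.Agent.Lib.SiteCoh.Kill
-- import your own Groth.Agent.* helpers here

set_option autoImplicit false
universe u
open CategoryTheory CategoryTheory.Limits Opposite
open CohSite

namespace Groth.Agent.S15233

/-- Let C be a small category with a Grothendieck topology J, and let B be a class of objects forming a
prebasis: for every object V and every covering sieve S of V, the arrows of S whose domain lies in B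
generate a covering sieve of V. If F is a presheaf of abelian groups on C such that F(U) = 0 for
every object U in B, then the sheafification of F is zero. -/
theorem result {C : Type u} [SmallCategory C] (J : GrothendieckTopology C)
    (B : ObjectProperty C)
    (hB : ∀ (V : C) (S : Sieve V), S ∈ J V →
      Sieve.generate (fun (U : C) => {g : U ⟶ V | S.arrows g ∧ B U}) ∈ J V)
    (F : Cᵒᵖ ⥤ AddCommGrpCat.{u}) (hF : ∀ U : C, B U → IsZero (F.obj (op U))) :
    IsZero ((presheafToSheaf J AddCommGrpCat.{u}).obj F) := by
  rw [IsZero.iff_id_eq_zero]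
  apply Sheaf.hom_ext
  ext U x
  obtain ⟨V⟩ := U
  let G := (presheafToSheaf J AddCommGrpCat.{u}).obj F
  change x = (0 : G.obj.obj (op V))
  have hlift := Presheaf.imageSieve_mem J (toSheafify J F) (U := op V) x
  have hcov := hB V _ hlift
  apply (Presieve.IsSheaf.isSeparated
    ((isSheaf_iff_isSheaf_of_type J _).1 (sheafCompose J (forget AddCommGrpCat.{u}) |>.obj G).property)
    _ hcov).ext
  rintro W g ⟨Y, h, k, ⟨⟨t, ht⟩, hY⟩, rfl⟩
  have ht0 : t = 0 := by
    have := AddCommGrpCat.subsingleton_of_isZero (hF Y hY)
    exact Subsingleton.elim _ _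
  subst ht0
  change G.obj.map (h ≫ k).op x = G.obj.map (h ≫ k).op 0
  rw [map_zero, op_comp, Functor.map_comp, ConcreteCategory.comp_apply]
  erw [← ht]
  simp

end Groth.Agent.S15233
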