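import Groth.Statements.S15235
import Groth.Agent.H77.MLUtil


set_option autoImplicit false
universe u
open CategoryTheory Opposite
open HomAlg3

namespace Groth.Agent.S15235

/-- Let (G_j) be an inverse system of abelian groups indexed by the natural numbers, with transition
maps G_{j+1} → G_j, and let j₀ be a natural number such that the transition map G_{j+1} → G_j is
surjective for every j ≥ j₀. Then: (a) the system satisfies the Mittag-Leffler condition; (b) the
evaluation map from the inverse limit (realised as the set of compatible families) to G_{j₀} is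
surjective; (c) if in addition the transition maps G_{j+1} → G_j are injective for every j ≥ j₀,
that evaluation map is bijective. (The published statement indexes the system by the negative
integers and assumes j₀ ≥ 1; this row indexes it by the natural numbers and allows j₀ = 0, which
changes nothing.) -/
theorem result (G : ℕᵒᵖ ⥤ AddCommGrpCat.{u})
    (j₀ : ℕ) (hs : ∀ j : ℕ, j₀ ≤ j → Function.Surjective (G.map (homOfLE (Nat.le_succ j)).op).hom) :
    (G ⋙ forget AddCommGrpCat.{u}).IsMittagLeffler ∧
      Function.Surjective (fun s : (G ⋙ forget AddCommGrpCat.{u}).sections => s.1 (op j₀)) ∧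
      ((∀ j : ℕ, j₀ ≤ j → Function.Injective (G.map (homOfLE (Nat.le_succ j)).op).hom) →
        Function.Bijective (fun s : (G ⋙ forget AddCommGrpCat.{u}).sections => s.1 (op j₀))) := by
  have hsur : ∀ (k : ℕ) (h : j₀ ≤ k) (j : ℕ) (hj : j₀ ≤ j) (hjk : j ≤ k),
      Function.Surjective (Groth.Agent.Lib.MLSeq.Basic.tr G hjk) := by
    intro k h j hj hjk
    induction hjk with
    | refl => exact fun x => ⟨x, Groth.Agent.Lib.MLSeq.Basic.tr_self _ x⟩
    | @step k hk ih =>
      intro x
      obtain ⟨y, hy⟩ := ih (hj.trans hk) x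
      obtain ⟨z, hz⟩ := hs k (hj.trans hk) y
      exact ⟨z, by rw [← Groth.Agent.Lib.MLSeq.Basic.tr_tr (F := G) hk (Nat.le_succ k), ← hy]; exact congrArg _ hz⟩
  have hML : Groth.Agent.Lib.MLSeq.Basic.ML G := fun i => by
    refine ⟨max i j₀, le_max_left _ _, fun k hk x => ?_⟩
    let l := max k (max i j₀)
    obtain ⟨y, hy⟩ := hsur l ((le_max_right i j₀).trans (le_max_right _ _)) _ (le_max_right i j₀)
      (le_max_right k _) x
    exact ⟨Groth.Agent.Lib.MLSeq.Basic.tr G (le_max_left k (max i j₀)) y, by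
      rw [← hy, Groth.Agent.Lib.MLSeq.Basic.tr_tr, Groth.Agent.Lib.MLSeq.Basic.tr_tr]⟩
  have hS : Function.Surjective (fun s : (G ⋙ forget AddCommGrpCat.{u}).sections => s.1 (Opposite.op j₀)) := by
    intro x
    obtain ⟨β, hβ, hβx⟩ := Groth.Agent.Lib.MLSeq.Basic.exists_through (φ := id) monotone_id
      (fun i => ⟨i, le_rfl⟩) hML j₀ (Groth.Agent.Lib.MLSeq.Basic.mem_evImage.2 fun k hk =>
        hsur k hk j₀ le_rfl hk x)
    exact ⟨⟨fun i => β i.unop, fun f => hβ (leOfHom f.unop)⟩, hβx⟩
  refine ⟨(Groth.Agent.Lib.MLSeq.Basic.ml_iff G).2 hML, hS, fun hi => ⟨fun s t hst => ?_, hS⟩⟩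
  have hinj : ∀ (k : ℕ) (h : j₀ ≤ k), Function.Injective (Groth.Agent.Lib.MLSeq.Basic.tr G h) := by
    intro k h
    induction h with
    | refl =>
      intro x y hxy
      rwa [Groth.Agent.Lib.MLSeq.Basic.tr_self, Groth.Agent.Lib.MLSeq.Basic.tr_self] at hxy
    | @step k hk ih =>
      intro x y hxy
      rw [← Groth.Agent.Lib.MLSeq.Basic.tr_tr (F := G) hk (Nat.le_succ k),
        ← Groth.Agent.Lib.MLSeq.Basic.tr_tr (F := G) hk (Nat.le_succ k)] at hxy
      exact hi k hk (ih hxy)
  apply Subtype.ext
  funext i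
  have hk : j₀ ≤ max i.unop j₀ := le_max_right _ _
  have hst' : s.1 (Opposite.op (max i.unop j₀)) = t.1 (Opposite.op (max i.unop j₀)) := by
    refine hinj _ hk ?_
    exact (s.2 (homOfLE hk).op).trans (hst.trans (t.2 (homOfLE hk).op).symm)
  rw [← s.2 (homOfLE (le_max_left i.unop j₀)).op, ← t.2 (homOfLE (le_max_left i.unop j₀)).op, hst']

end Groth.Agent.S15235
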