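import Groth.Statements.S15236
import Groth.Agent.Lib.Lim.FPDescend
import Groth.Agent.H2.Rigid.SubDiagram
import Mathlib.FieldTheory.IsAlgClosed.Classification
import Mathlib.AlgebraicGeometry.AlgClosed.Basic
import Mathlib.AlgebraicGeometry.FunctionField
-- import your own Groth.Agent.* helpers here

set_option autoImplicit false
open CategoryTheory CategoryTheory.Limits AlgebraicGeometry
universe u
open Variety

namespace Groth.Agent.S15236


open Cardinal

/-- Uncountable algebraically closed fields of the same cardinality are isomorphic over a countable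
subring. -/
theorem exists_ringEquiv {R K L : Type u} [CommRing R] [Countable R] [Field K] [IsAlgClosed K]
    [Field L] [IsAlgClosed L] (i : R →+* K) (j : R →+* L) (hi : Function.Injective i)
    (hj : Function.Injective j) (hK : ℵ₀ < #K) (hKL : #K = #L) :
    ∃ σ : K ≃+* L, σ.toRingHom.comp i = j := by
  let := i.toAlgebra
  let := j.toAlgebra
  haveI : FaithfulSMul R K := (faithfulSMul_iff_algebraMap_injective R K).2 hi
  haveI : FaithfulSMul R L := (faithfulSMul_iff_algebraMap_injective R L).2 hj
  haveI : Nontrivial R := RingHom.domain_nontrivial i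
  obtain ⟨s, hs⟩ := exists_isTranscendenceBasis R K
  obtain ⟨t, ht⟩ := exists_isTranscendenceBasis R L
  have h1 : #K = #s := IsAlgClosed.cardinal_eq_cardinal_transcendence_basis_of_aleph0_lt' _ hs
    Cardinal.mk_le_aleph0 hK
  have h2 : #L = #t := IsAlgClosed.cardinal_eq_cardinal_transcendence_basis_of_aleph0_lt' _ ht
    Cardinal.mk_le_aleph0 (hKL ▸ hK)
  obtain ⟨e⟩ : Nonempty (s ≃ t) := Cardinal.eq.1 (h1.symm.trans (hKL.trans h2))
  letI := IsAlgClosed.isAlgClosure_of_transcendence_basis ((↑) : s → K) hs
  letI := IsAlgClosed.isAlgClosure_of_transcendence_basis ((↑) : t → L) ht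
  let e' := hs.1.aevalEquiv.symm.trans ((MvPolynomial.renameEquiv R e).trans ht.1.aevalEquiv)
  refine ⟨IsAlgClosure.equivOfEquiv K L e'.toRingEquiv, RingHom.ext fun r => ?_⟩
  exact (IsAlgClosure.equivOfEquiv_algebraMap K L e'.toRingEquiv
    (algebraMap R _ r)).trans (congrArg Subtype.val (e'.commutes r))

variable {X T : Scheme.{u}}

/-- Pulling back along an isomorphic morphism. -/
noncomputable def pullbackIsoOfIso {Y Y' : Scheme.{u}} (f : X ⟶ T) (e : Y ⟶ Y') [IsIso e] (r : Y' ⟶ T) :
    pullback f (e ≫ r) ≅ pullback f r :=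
  haveI : IsIso (pullback.map f (e ≫ r) f r (𝟙 X) e (𝟙 T) (by simp) (by simp)) :=
    inferInstance
  asIso (pullback.map f (e ≫ r) f r (𝟙 X) e (𝟙 T) _ _)

/-- Base change through a model. -/
theorem nonempty_iso_model (f : X ⟶ T) {A Y S X₀ : Scheme.{u}} (j : A ⟶ T)
    {f₀ : X₀ ⟶ S} {π : A ⟶ S} {g : pullback f j ⟶ X₀}
    (hg : IsPullback g (pullback.snd f j) f₀ π) (q : Y ⟶ A) :
    Nonempty (pullback f (q ≫ j) ≅ pullback f₀ (q ≫ π)) :=
  ⟨(pullbackLeftPullbackSndIso f j q).symm ≪≫
    ((IsPullback.of_hasPullback (pullback.snd f j) q).paste_horiz hg).isoPullback⟩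

/-- The statement for any algebraic closure of the generic residue field. -/
theorem main (k : Type u) [Field k] [IsAlgClosed k] [Uncountable k] (T X : Scheme.{u})
    (sT : T ⟶ Spec (CommRingCat.of k)) [IsIntegral T]
    [LocallyOfFiniteType sT] [QuasiCompact sT] (f : X ⟶ T) [LocallyOfFiniteType f] [QuasiCompact f]
    (L : Type u) [Field L] [IsAlgClosed L] [Algebra (T.residueField (genericPoint T)) L]
    [Algebra.IsAlgebraic (T.residueField (genericPoint T)) L] :
    ∃ Z : ℕ → TopologicalSpace.Closeds T, (∀ n, (Z n : Set T) ≠ Set.univ) ∧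
      ∀ t : T, IsClosed ({t} : Set T) → (∀ n, t ∉ Z n) →
        Nonempty (f.fiber t ≅ pullback f (Spec.map (CommRingCat.ofHom (algebraMap
          (T.residueField (genericPoint T)) L)) ≫ T.fromSpecResidueField (genericPoint T))) := by
  classical
  haveI : IsLocallyNoetherian T := LocallyOfFiniteType.isLocallyNoetherian sT
  haveI : IsLocallyNoetherian X := LocallyOfFiniteType.isLocallyNoetherian f
  haveI : LocallyOfFinitePresentation f :=
    LocallyOfFinitePresentation.iff_locallyOfFiniteType.2 inferInstance
  -- an affine open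
  obtain ⟨U, hU, hηU, -⟩ := exists_isAffineOpen_mem_and_subset (U := (⊤ : T.Opens))
    (x := genericPoint T) trivial
  haveI : Nonempty U := ⟨⟨_, hηU⟩⟩
  let A := Γ(T, U)
  let j : Spec A ⟶ T := hU.fromSpec
  let f' := pullback.snd f j
  haveI : LocallyOfFinitePresentation f' := MorphismProperty.pullback_snd _ _ inferInstance
  haveI : CompactSpace ↥(pullback f j) := QuasiCompact.compactSpace_of_compactSpace f'
  haveI : IsLocallyNoetherian (pullback f j) :=
    LocallyOfFiniteType.isLocallyNoetherian (pullback.fst f j)
  let f'' : pullback f j ⟶ (H2.Rigid.SubDiagram.cone A).pt := f'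
  haveI : LocallyOfFinitePresentation f'' := ‹LocallyOfFinitePresentation f'›
  obtain ⟨i, X₀, f₀, g, -, -, -, hg⟩ := Lib.Lim.FPDescend.exists_descent
    (D := H2.Rigid.SubDiagram.diagram A) (H2.Rigid.SubDiagram.isLimitCone A) f''
  let A₀ := Algebra.adjoin ℤ ((i.unop : Finset A) : Set A)
  let ι : A₀ →+* A := A₀.val.toRingHom
  let π : Spec A ⟶ Spec (CommRingCat.of A₀) := Spec.map (CommRingCat.ofHom ι)
  -- the countable family
  haveI : Countable A₀ := by
    haveI : Algebra.FiniteType ℤ A₀ :=
      (Subalgebra.fg_iff_finiteType _).1 (Subalgebra.fg_def.2 ⟨_, (i.unop).finite_toSet, rfl⟩)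
    obtain ⟨n, φ, hφ⟩ := Algebra.FiniteType.iff_quotient_mvPolynomial''.1
      (inferInstance : Algebra.FiniteType ℤ A₀)
    haveI : Countable (MvPolynomial (Fin n) ℤ) := Cardinal.mk_le_aleph0_iff.1
      (MvPolynomial.cardinalMk_le_max.trans (max_le (max_le Cardinal.mk_le_aleph0 Cardinal.mk_le_aleph0) le_rfl))
    exact hφ.countable
  obtain ⟨a, ha⟩ := exists_surjective_nat A₀
  let b : ℕ → A := fun n => if (a n : A) = 0 then 1 else (a n : A)
  have hb : ∀ n, b n ≠ 0 := fun n => by
    dsimp only [b]
    split_ifs with h
    · exact one_ne_zero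
    · exact h
  refine ⟨fun n => ⟨((T.basicOpen (b n) : T.Opens) : Set T)ᶜ, (T.basicOpen (b n)).2.isClosed_compl⟩,
    fun n h => hb n ?_, fun t ht hZ => ?_⟩
  · rw [← basicOpen_eq_bot_iff]
    exact TopologicalSpace.Opens.ext (compl_injective (h.trans Set.compl_empty.symm))
  have htU : t ∈ U := T.basicOpen_le (b 0) (not_not.1 (hZ 0))
  -- the closed point as a `k`-point
  let p := pointOfClosedPoint sT t ht
  have hpU : Set.range p ⊆ Set.range j := by
    rw [hU.range_fromSpec]
    rintro _ ⟨z, rfl⟩
    rw [pointOfClosedPoint_apply]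
    exact htU
  let qt := IsOpenImmersion.lift j p hpU
  let ev : A →+* k := (Spec.preimage qt).hom
  have hev : Function.Injective (ev.comp ι) := by
    rw [injective_iff_map_eq_zero]
    intro x hx
    obtain ⟨n, rfl⟩ := ha x
    by_contra hne
    have hne' : (a n : A) ≠ 0 := fun h => hne (Subtype.ext h)
    have h1 : qt (IsLocalRing.closedPoint k) ∈ j ⁻¹ᵁ T.basicOpen (b n) := by
      show j (qt (IsLocalRing.closedPoint k)) ∈ T.basicOpen (b n)
      rw [← Scheme.Hom.comp_apply, IsOpenImmersion.lift_fac, pointOfClosedPoint_apply]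
      exact not_not.1 (hZ n)
    rw [hU.fromSpec_preimage_basicOpen, ← Spec.map_preimage qt] at h1
    apply h1
    change ev (b n) ∈ IsLocalRing.maximalIdeal k
    simp only [b, if_neg hne']
    rw [show ev (a n : A) = 0 from hx]
    exact zero_mem _
  -- the geometric generic point
  let Kη := T.residueField (genericPoint T)
  let pη : Spec (CommRingCat.of L) ⟶ T :=
    Spec.map (CommRingCat.ofHom (algebraMap Kη L)) ≫ T.fromSpecResidueField (genericPoint T)
  have hηr : ∀ z, pη z = genericPoint T := fun z => by
    rw [Scheme.Hom.comp_apply, Scheme.fromSpecResidueField_apply]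
  have hLU : Set.range pη ⊆ Set.range j := by
    rw [hU.range_fromSpec]
    rintro _ ⟨z, rfl⟩
    rw [hηr]
    exact hηU
  let qL := IsOpenImmersion.lift j pη hLU
  let iL : A →+* L := (Spec.preimage qL).hom
  have hiL : Function.Injective iL := by
    haveI : IsIntegral (Spec A) := isIntegral_of_isOpenImmersion j
    have h0 : qL (IsLocalRing.closedPoint L) = genericPoint (Spec A) := by
      apply j.isOpenEmbedding.injective
      rw [genericPoint_eq_of_isOpenImmersion]
      exact ((Scheme.Hom.comp_apply qL j _).symm.trans
        (by rw [IsOpenImmersion.lift_fac])).trans (hηr _)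
    rw [genericPoint_eq_bot_of_affine, ← Spec.map_preimage qL] at h0
    rw [injective_iff_map_eq_zero]
    intro x hx
    have : x ∈ (Spec.map (Spec.preimage qL) (IsLocalRing.closedPoint L)).asIdeal := by
      change iL x ∈ IsLocalRing.maximalIdeal L
      rw [hx]
      exact zero_mem _
    rw [h0] at this
    exact this
  -- cardinalities
  have hk : ℵ₀ < #k := Cardinal.aleph0_lt_mk
  let φ : k →+* A := (Spec.preimage (j ≫ sT)).hom
  have hφ : φ.FiniteType := by
    rw [← HasRingHomProperty.Spec_iff (P := @LocallyOfFiniteType) (φ := Spec.preimage (j ≫ sT)),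
      Spec.map_preimage]
    infer_instance
  have hA : #A ≤ #k := by
    let := φ.toAlgebra
    obtain ⟨n, ψ, hψ⟩ := Algebra.FiniteType.iff_quotient_mvPolynomial''.1 (hφ : Algebra.FiniteType k A)
    refine (Cardinal.mk_le_of_surjective hψ).trans (MvPolynomial.cardinalMk_le_max_lift.trans ?_)
    simp only [Cardinal.lift_id, Cardinal.mk_fin, Cardinal.lift_natCast, Cardinal.lift_uzero]
    exact max_le (max_le le_rfl ((Cardinal.nat_lt_aleph0 n).le.trans hk.le)) hk.le
  have hKη : #Kη ≤ #k := by
    haveI := functionField_isFractionRing_of_isAffineOpen T U hU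
    calc #Kη ≤ #T.functionField := Cardinal.mk_le_of_surjective (T.residue_surjective (genericPoint T))
      _ ≤ #(A × A) := Cardinal.mk_le_of_surjective (f := fun x : A × A =>
          algebraMap A T.functionField x.1 / algebraMap A T.functionField x.2) fun z => by
            obtain ⟨x, y, -, rfl⟩ := IsFractionRing.div_surjective (A := A) z
            exact ⟨(x, y), rfl⟩
      _ ≤ #k := by
        rw [Cardinal.mk_prod, Cardinal.lift_id]
        exact (mul_le_mul' hA hA).trans (Cardinal.mul_eq_self hk.le).le
  have hL : #k = #L := le_antisymm (Cardinal.mk_le_of_injective (iL.comp φ).injective)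
    ((Algebra.IsAlgebraic.cardinalMk_le_max Kη L).trans (max_le hKη hk.le))
  -- the isomorphism
  obtain ⟨σ, hσ⟩ := exists_ringEquiv (ev.comp ι) (iL.comp ι) hev (hiL.comp Subtype.val_injective) hk hL
  let e : Spec (CommRingCat.of L) ⟶ Spec (CommRingCat.of k) := Spec.map σ.toCommRingCatIso.hom
  have hcomp : qL ≫ π = e ≫ qt ≫ π := by
    rw [← Spec.map_preimage qL, ← Spec.map_preimage qt]
    simp only [e, π, ← Spec.map_comp]
    exact congrArg Spec.map (CommRingCat.hom_ext hσ.symm)
  obtain ⟨e₁⟩ := nonempty_iso_model f j hg qt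
  obtain ⟨e₂⟩ := nonempty_iso_model f j hg qL
  haveI : IsIso (Spec.map (residueFieldIsoBase sT t ht).hom) := inferInstance
  exact ⟨(pullbackIsoOfIso f (Spec.map (residueFieldIsoBase sT t ht).hom)
      (T.fromSpecResidueField t)).symm ≪≫ pullback.congrHom rfl (IsOpenImmersion.lift_fac j p hpU).symm ≪≫
    e₁ ≪≫ (pullbackIsoOfIso f₀ e (qt ≫ π)).symm ≪≫ pullback.congrHom rfl hcomp.symm ≪≫
    e₂.symm ≪≫ pullback.congrHom rfl (IsOpenImmersion.lift_fac j pη hLU)⟩

/-- Let k be an uncountable algebraically closed field of characteristic zero, T an integral k-scheme of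
finite type and f : X → T a flat morphism of finite type. Then there are countably many closed
subsets Z₀, Z₁, … of T, none of them equal to T, such that for every closed point t of T lying in no
Zₙ the fibre X_t = X ×_T Spec κ(t) is isomorphic, as a scheme, to the geometric generic fibre X ×_T
Spec L, where L is an algebraic closure of the residue field of T at its generic point (existence of
an isomorphism of schemes only; that such an isomorphism preserves rational equivalence of algebraic
cycles, as the published statement adds, is automatic and is not restated). (The published statement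
fixes the countable family of closed subsets before the family X → T and allows any flat T-scheme X
over any integral k-scheme T. Both fail: for T the affine line and X the spectrum of its function
field every closed fibre is empty while the geometric generic fibre is a point, and for any fixed
countable family of proper closed subsets of the affine line, X the complement of a closed point
outside all of them has an empty fibre there. This row takes T and f of finite type and lets the
closed subsets depend on f.) -/
theorem result (k : Type u) [Field k] [IsAlgClosed k]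
    [CharZero k] [Uncountable k] (T X : Scheme.{u}) (sT : T ⟶ Spec (CommRingCat.of k)) [IsIntegral T]
    [LocallyOfFiniteType sT] [QuasiCompact sT] (f : X ⟶ T) [Flat f] [LocallyOfFiniteType f]
    [QuasiCompact f] :
    ∃ Z : ℕ → TopologicalSpace.Closeds T, (∀ n, (Z n : Set T) ≠ Set.univ) ∧
      ∀ t : T, IsClosed ({t} : Set T) → (∀ n, t ∉ Z n) →
        Nonempty (f.fiber t ≅ pullback f (Spec.map (CommRingCat.ofHom (algebraMap
          (T.residueField (genericPoint T)) (AlgebraicClosure (T.residueField (genericPoint T))))) ≫
            T.fromSpecResidueField (genericPoint T))) := by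
  exact main k T X sT f _

end Groth.Agent.S15236
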