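import Groth.Statements.S15240
import Mathlib.AlgebraicGeometry.AlgClosed.Basic
-- import your own Groth.Agent.* helpers here

set_option autoImplicit false
universe u
open CategoryTheory CategoryTheory.Limits MonoidalCategory CartesianMonoidalCategory MonObj GrpObj AlgebraicGeometry
open AGF

namespace Groth.Agent.S15240

open CategoryTheory MonoidalCategory CartesianMonoidalCategory AlgebraicGeometry

variable {k : Type u} [Field k]

/-- The point of a section. -/
noncomputable abbrev pt {X : Over (Spec (CommRingCat.of k))} (x : 𝟙_ (Over (Spec (CommRingCat.of k))) ⟶ X) :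
    ↥X.left := x.left.base (IsLocalRing.closedPoint k)

theorem pt_comp {X Y : Over (Spec (CommRingCat.of k))} (x : 𝟙_ (Over (Spec (CommRingCat.of k))) ⟶ X)
    (f : X ⟶ Y) : pt (x ≫ f) = f.left.base (pt x) := Scheme.Hom.comp_apply x.left f.left _

theorem toUnit_comp_apply {X Y : Over (Spec (CommRingCat.of k))}
    (y : 𝟙_ (Over (Spec (CommRingCat.of k))) ⟶ Y) (v : ↥X.left) :
    (toUnit X ≫ y).left.base v = pt y := by
  refine (Scheme.Hom.comp_apply (toUnit X).left y.left v).trans (congrArg y.left.base ?_)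
  exact Subsingleton.elim (α := PrimeSpectrum k) _ _

theorem comp_orbitMap' {B X T : Over (Spec (CommRingCat.of k))} [GrpObj B] (a : AlgGrp.Action B X)
    (g : T ⟶ B) (o : 𝟙_ (Over (Spec (CommRingCat.of k))) ⟶ X) :
    g ≫ a.orbitMap o = lift g (toUnit T ≫ o) ≫ a.act := by
  rw [AlgGrp.Action.orbitMap, comp_lift_assoc, Category.comp_id, ← Category.assoc,
    toUnit_unique (g ≫ toUnit B) (toUnit T)]

theorem exists_pt [IsAlgClosed k] {X : Over (Spec (CommRingCat.of k))} [LocallyOfFiniteType X.hom] {x : ↥X.left}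
    (hx : x ∈ closedPoints ↥X.left) : ∃ p : 𝟙_ (Over (Spec (CommRingCat.of k))) ⟶ X, pt p = x :=
  ⟨Over.homMk (pointOfClosedPoint X.hom x hx) (pointOfClosedPoint_comp X.hom x hx),
    pointOfClosedPoint_apply X.hom x hx _⟩


/-- Let k be an algebraically closed field, B a connected solvable affine algebraic group over k
(affine, smooth, connected, solvable k-group scheme) acting on a complete k-scheme X (separated, of
finite type and proper over k) with finitely many orbits (finitely many subsets of X arise as images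
of orbit maps of k-points), and Y a separated k-scheme of finite type on which B acts trivially.
Then every closed irreducible subset Z of X ×_k Y which is stable under the translations by all
k-points of B (acting on the first factor) is of the form V × W: there are a B-stable closed
irreducible subset V of X and a closed irreducible subset W of Y with Z equal to the set of points
whose two projections lie in V and in W. -/
theorem result (k : Type u) [Field k] [IsAlgClosed k]
    (B X Y : Over (Spec (CommRingCat.of k))) [GrpObj B] [IsAffine B.left] [Smooth B.hom] [ConnectedSpace ↥B.left]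
    (hsolv : Red.IsSolvableGrp B)
    [IsProper X.hom]
    [IsSeparated Y.hom] [LocallyOfFiniteType Y.hom] [QuasiCompact Y.hom]
    (a : AlgGrp.Action B X)
    (hfin : Set.Finite {S : Set ↥X.left | ∃ x : 𝟙_ (Over (Spec (CommRingCat.of k))) ⟶ X, S = Set.range ⇑(a.orbitMap x).left.base})
    (Z : Set ↥(X ⊗ Y).left) (hZc : IsClosed Z) (hZi : IsIrreducible Z)
    (hZs : ∀ b : 𝟙_ (Over (Spec (CommRingCat.of k))) ⟶ B,
      ⇑(CartesianMonoidalCategory.lift (CartesianMonoidalCategory.toUnit (X ⊗ Y) ≫ b) (𝟙 (X ⊗ Y)) ≫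
          (α_ B X Y).inv ≫ (a.act ▷ Y)).left.base '' Z ⊆ Z) :
    ∃ (V : Set ↥X.left) (W : Set ↥Y.left), IsClosed V ∧ IsIrreducible V ∧ IsClosed W ∧ IsIrreducible W ∧
      (∀ b : 𝟙_ (Over (Spec (CommRingCat.of k))) ⟶ B,
        ⇑(CartesianMonoidalCategory.lift (CartesianMonoidalCategory.toUnit X ≫ b) (𝟙 X) ≫ a.act).left.base '' V ⊆ V) ∧
      Z = ⇑(CartesianMonoidalCategory.fst X Y).left.base ⁻¹' V ∩ ⇑(CartesianMonoidalCategory.snd X Y).left.base ⁻¹' W := by
  classical
  haveI : LocallyOfFiniteType (X ⊗ Y).hom :=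
    inferInstanceAs (LocallyOfFiniteType (Limits.pullback.fst X.hom Y.hom ≫ X.hom))
  haveI : JacobsonSpace ↥(X ⊗ Y).left := LocallyOfFiniteType.jacobsonSpace (X ⊗ Y).hom
  haveI : JacobsonSpace ↥B.left := LocallyOfFiniteType.jacobsonSpace B.hom
  let p := ⇑(fst X Y).left.base
  let q := ⇑(snd X Y).left.base
  let sX : (𝟙_ _ ⟶ Y) → (X ⟶ X ⊗ Y) := fun y => lift (𝟙 X) (toUnit X ≫ y)
  let sY : (𝟙_ _ ⟶ X) → (Y ⟶ X ⊗ Y) := fun x => lift (toUnit Y ≫ x) (𝟙 Y)
  let τ : (𝟙_ _ ⟶ B) → (X ⊗ Y ⟶ X ⊗ Y) := fun b =>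
    lift (toUnit (X ⊗ Y) ≫ b) (𝟙 (X ⊗ Y)) ≫ (α_ B X Y).inv ≫ (a.act ▷ Y)
  let τX : (𝟙_ _ ⟶ B) → (X ⟶ X) := fun b => lift (toUnit X ≫ b) (𝟙 X) ≫ a.act
  let O : (𝟙_ _ ⟶ X) → Set ↥X.left := fun x => Set.range (a.orbitMap x).left.base
  let W : (𝟙_ _ ⟶ X) → Set ↥Y.left := fun x => (sY x).left.base ⁻¹' Z
  let P : (𝟙_ _ ⟶ X) → Set ↥(X ⊗ Y).left := fun x => p ⁻¹' closure (O x) ∩ q ⁻¹' W x
  have hτ : ∀ b (x : 𝟙_ _ ⟶ X) (y : 𝟙_ _ ⟶ Y),
      lift x y ≫ τ b = lift (b ≫ a.orbitMap x) y := by
    intro b x y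
    rw [comp_orbitMap']
    apply hom_ext
    · simp only [τ, Category.assoc, whiskerRight_fst, lift_fst, associator_inv_fst_fst,
        lift_map, comp_lift_assoc]
      rw [← Category.assoc (α_ B X Y).inv, ← Category.assoc, ← Category.assoc]
      congr 1
      apply hom_ext <;> simp only [Category.assoc, lift_fst, lift_snd, associator_inv_fst_fst,
        associator_inv_fst_snd, lift_snd_assoc, Category.comp_id]
      · rw [← Category.assoc, toUnit_unique (lift x y ≫ toUnit (X ⊗ Y)) (𝟙 _), Category.id_comp]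
      · rw [toUnit_unique (toUnit (𝟙_ (Over (Spec (CommRingCat.of k))))) (𝟙 _), Category.id_comp]
    · simp only [τ, Category.assoc, whiskerRight_snd, lift_snd, associator_inv_snd, lift_snd_assoc,
        Category.id_comp]
  -- a slice contains the orbit closures of its closed points
  have key : ∀ (x : 𝟙_ _ ⟶ X) (y : 𝟙_ _ ⟶ Y), pt (lift x y) ∈ Z →
      closure (O x) ⊆ (sX y).left.base ⁻¹' Z := by
    intro x y hxy
    have hC : IsClosed ((sX y).left.base ⁻¹' Z) := hZc.preimage (sX y).left.continuous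
    refine closure_minimal ?_ hC
    have hsub : closedPoints ↥B.left ⊆ (a.orbitMap x).left.base ⁻¹' ((sX y).left.base ⁻¹' Z) := by
      intro c hc
      obtain ⟨b, rfl⟩ := exists_pt hc
      have e : (sX y).left.base ((a.orbitMap x).left.base (pt b)) = (τ b).left.base (pt (lift x y)) := by
        rw [← pt_comp, ← pt_comp, ← pt_comp, hτ]
        simp only [sX, comp_lift, Category.comp_id, ← Category.assoc,
          toUnit_unique ((b ≫ a.orbitMap x) ≫ toUnit X) (𝟙 _), Category.id_comp]
      show (sX y).left.base _ ∈ Z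
      rw [e]
      exact hZs b ⟨_, hxy, rfl⟩
    rintro _ ⟨c, rfl⟩
    exact closure_minimal hsub (hC.preimage (a.orbitMap x).left.continuous)
      (show c ∈ closure (closedPoints ↥B.left) by rw [closure_closedPoints]; trivial)
  have hmem : ∀ x, pt x ∈ O x := fun x => ⟨pt η[B], by
    rw [← pt_comp, comp_orbitMap', toUnit_unique (toUnit _) (𝟙 _), Category.id_comp]
    have e : lift η[B] x ≫ a.act = x := by
      have h1 : lift η[B] x = lift (𝟙 _) x ≫ (η[B] ▷ X) := by
        rw [lift_whiskerRight, Category.id_comp]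
      rw [h1, Category.assoc, a.one_act, leftUnitor_hom, lift_snd]
    rw [e]⟩
  have hclosedP : ∀ x, IsClosed (P x) := fun x =>
    (isClosed_closure.preimage (fst X Y).left.continuous).inter
      ((hZc.preimage (sY x).left.continuous).preimage (snd X Y).left.continuous)
  have hPZ : ∀ x, P x ⊆ Z := fun x => by
    rw [← closure_inter_closedPoints (hclosedP x)]
    refine closure_minimal ?_ hZc
    rintro w ⟨⟨hw1, hw2⟩, hwc⟩
    obtain ⟨v, rfl⟩ := exists_pt hwc
    obtain ⟨v₁, v₂, rfl⟩ : ∃ v₁ v₂, v = lift v₁ v₂ :=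
      ⟨v ≫ fst _ _, v ≫ snd _ _, hom_ext _ _ (lift_fst _ _).symm (lift_snd _ _).symm⟩
    have e2 : q (pt (lift v₁ v₂)) = pt v₂ := (pt_comp _ _).symm.trans (by rw [lift_snd])
    have e1 : p (pt (lift v₁ v₂)) = pt v₁ := (pt_comp _ _).symm.trans (by rw [lift_fst])
    rw [Set.mem_preimage, e2] at hw2
    rw [Set.mem_preimage, e1] at hw1
    have h0 : pt (lift x v₂) ∈ Z := by
      have : (sY x).left.base (pt v₂) = pt (lift x v₂) := by
        rw [← pt_comp]
        simp only [sY, comp_lift, Category.comp_id, ← Category.assoc,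
          toUnit_unique (v₂ ≫ toUnit Y) (𝟙 _), Category.id_comp]
      exact this ▸ hw2
    have h1 := key x v₂ h0 hw1
    have : (sX v₂).left.base (pt v₁) = pt (lift v₁ v₂) := by
      rw [← pt_comp]
      simp only [sX, comp_lift, Category.comp_id, ← Category.assoc,
        toUnit_unique (v₁ ≫ toUnit X) (𝟙 _), Category.id_comp]
    exact this ▸ h1
  -- finitely many orbits
  haveI := hfin.fintype
  choose r hr using fun S : {S : Set ↥X.left | ∃ x : 𝟙_ (Over (Spec (CommRingCat.of k))) ⟶ X,
    S = Set.range ⇑(a.orbitMap x).left.base} => S.2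
  obtain ⟨_, hU, hZU⟩ := isIrreducible_iff_sUnion_isClosed.1 hZi
    (Finset.univ.image fun S => P (r S)) (fun C hC => by
      obtain ⟨S, -, rfl⟩ := Finset.mem_image.1 hC
      exact hclosedP _) (by
      refine (closure_inter_closedPoints hZc).symm.subset.trans (closure_minimal ?_ ?_)
      · rintro w ⟨hwZ, hwc⟩
        obtain ⟨v, rfl⟩ := exists_pt hwc
        let x := v ≫ fst X Y
        let y := v ≫ snd X Y
        have hv : v = lift x y := hom_ext _ _ (lift_fst _ _).symm (lift_snd _ _).symm
        let S : {S : Set ↥X.left | ∃ x : 𝟙_ (Over (Spec (CommRingCat.of k))) ⟶ X,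
            S = Set.range ⇑(a.orbitMap x).left.base} := ⟨O x, x, rfl⟩
        have hS : O x = O (r S) := hr S
        refine Set.mem_sUnion.2 ⟨P (r S), Finset.mem_coe.2 (Finset.mem_image_of_mem _ (Finset.mem_univ S)),
          ?_, ?_⟩
        · show p (pt v) ∈ closure (O (r S))
          rw [← hS, show p (pt v) = pt x from (pt_comp _ _).symm]
          exact subset_closure (hmem x)
        · show (sY (r S)).left.base (q (pt v)) ∈ Z
          have h1 := key x y (hv ▸ hwZ) (subset_closure (hS.symm ▸ hmem (r S)))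
          have e : (sX y).left.base (pt (r S)) = (sY (r S)).left.base (q (pt v)) := by
            rw [show q (pt v) = pt y from (pt_comp _ _).symm, ← pt_comp, ← pt_comp]
            simp only [sX, sY, y, comp_lift, Category.comp_id, ← Category.assoc,
              toUnit_unique (r S ≫ toUnit X) (𝟙 _), toUnit_unique ((v ≫ snd X Y) ≫ toUnit Y) (𝟙 _),
              Category.id_comp]
          exact e ▸ h1
      · rw [Set.sUnion_eq_biUnion]
        exact Set.Finite.isClosed_biUnion (Finset.finite_toSet _) (fun C hC => by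
          obtain ⟨S, -, rfl⟩ := Finset.mem_image.1 (Finset.mem_coe.1 hC)
          exact hclosedP _))
  obtain ⟨S, -, rfl⟩ := Finset.mem_image.1 hU
  set x₀ := r S
  have hZeq : Z = P x₀ := Set.Subset.antisymm hZU (hPZ x₀)
  obtain ⟨w, hw, hwc⟩ := nonempty_inter_closedPoints hZi.1 hZc.isLocallyClosed
  obtain ⟨v, rfl⟩ := exists_pt hwc
  have hy₀ : pt (v ≫ snd X Y) ∈ W x₀ := by
    rw [pt_comp]; exact (hZU hw).2
  have hV : closure (O x₀) = p '' Z := by
    have e1 : ∀ u, p ((sX (v ≫ snd X Y)).left.base u) = u := fun u => by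
      refine (Scheme.Hom.comp_apply _ (fst X Y).left u).symm.trans ?_
      rw [← Over.comp_left, lift_fst]
      rfl
    have e2 : ∀ u, q ((sX (v ≫ snd X Y)).left.base u) = pt (v ≫ snd X Y) := fun u => by
      refine (Scheme.Hom.comp_apply _ (snd X Y).left u).symm.trans ?_
      rw [← Over.comp_left, lift_snd]
      exact toUnit_comp_apply _ _
    refine Set.Subset.antisymm (fun u hu => ⟨(sX (v ≫ snd X Y)).left.base u,
      hPZ x₀ ⟨Set.mem_preimage.2 ((e1 u).symm ▸ hu), Set.mem_preimage.2 ((e2 u).symm ▸ hy₀)⟩, e1 u⟩) ?_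
    rintro _ ⟨w, hw, rfl⟩
    exact (hZU hw).1
  have hW : W x₀ = q '' Z := by
    refine Set.Subset.antisymm (fun u hu => ⟨(sY x₀).left.base u, hu, ?_⟩) ?_
    · refine (Scheme.Hom.comp_apply _ (snd X Y).left u).symm.trans ?_
      rw [← Over.comp_left, lift_snd]
      rfl
    · rintro _ ⟨w, hw, rfl⟩; exact (hZU hw).2
  refine ⟨closure (O x₀), W x₀, isClosed_closure, hV ▸ hZi.image p (fst X Y).left.continuous.continuousOn,
    hZc.preimage (sY x₀).left.continuous, hW ▸ hZi.image q (snd X Y).left.continuous.continuousOn,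
    fun b => ?_, hZeq⟩
  rw [hV]
  rintro _ ⟨_, ⟨w, hw, rfl⟩, rfl⟩
  refine ⟨(τ b).left.base w, hZs b ⟨w, hw, rfl⟩, ?_⟩
  refine (Scheme.Hom.comp_apply _ (fst X Y).left w).symm.trans
    (Eq.trans ?_ (Scheme.Hom.comp_apply (fst X Y).left (τX b).left w))
  have e : τ b ≫ fst X Y = fst X Y ≫ τX b := by
    simp only [τ, τX, Category.assoc, whiskerRight_fst]
    rw [← Category.assoc (α_ B X Y).inv, ← Category.assoc, ← Category.assoc (fst X Y)]
    congr 1
    apply hom_ext <;> simp only [Category.assoc, lift_fst, lift_snd, associator_inv_fst_fst,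
      associator_inv_fst_snd, comp_toUnit_assoc, lift_snd_assoc, lift_fst_assoc, Category.id_comp,
      Category.comp_id]
  rw [← Over.comp_left, ← Over.comp_left, e]

end Groth.Agent.S15240
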