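import Groth.Statements.S15241
import Groth.Agent.H26.KleimanDim
import Groth.Agent.Lib.CohDelta.DevApps


set_option autoImplicit false
set_option maxHeartbeats 1000000
set_option linter.all false
universe u
open CategoryTheory CategoryTheory.Limits MonoidalCategory CartesianMonoidalCategory MonObj GrpObj AlgebraicGeometry
open AGF

namespace Groth.Agent.S15241

/-- Let k be an algebraically closed field of characteristic zero, G a group variety over k (an
integral, separated k-group scheme of finite type) acting on a variety X over k (integral,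
separated, of finite type) of dimension n such that G(k) acts transitively on X(k), and let Y₁, Y₂
be closed irreducible subsets of X of dimensions r and s. Then for g in a nonempty open subset of G
the translate g · Y₁ meets Y₂ properly: there is a nonempty open V ⊆ G such that for every k-point g
of G lying in V, the intersection of Y₂ with the image of Y₁ under x ↦ g · x is either empty or has
every irreducible component of dimension exactly r + s − n (and then n ≤ r + s). (The published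
statement also asserts multiplicity one along each component, which is not stated here. The
published setting is over the complex numbers with G affine; this row assumes an algebraically
closed field of characteristic zero and any group variety, which is all the printed argument uses.) -/
theorem result (k : Type u) [Field k] [IsAlgClosed k] [CharZero k]
    (G X : Over (Spec (CommRingCat.of k))) [GrpObj G] (a : AlgGrp.Action G X)
    [IsIntegral G.left] [IsSeparated G.hom] [LocallyOfFiniteType G.hom] [QuasiCompact G.hom]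
    [IsIntegral X.left] [IsSeparated X.hom] [LocallyOfFiniteType X.hom] [QuasiCompact X.hom]
    (htrans : ∀ x x' : 𝟙_ (Over (Spec (CommRingCat.of k))) ⟶ X,
      ∃ σ : 𝟙_ (Over (Spec (CommRingCat.of k))) ⟶ G, CartesianMonoidalCategory.lift σ x ≫ a.act = x')
    (Y₁ Y₂ : Set ↥X.left) (h₁c : IsClosed Y₁) (h₁i : IsIrreducible Y₁) (h₂c : IsClosed Y₂) (h₂i : IsIrreducible Y₂)
    (n r s : ℕ) (hn : topologicalKrullDim ↥X.left = n) (hr : topologicalKrullDim ↥Y₁ = r)
    (hs : topologicalKrullDim ↥Y₂ = s) :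
    ∃ V : G.left.Opens, (V : Set ↥G.left).Nonempty ∧
      ∀ σ : 𝟙_ (Over (Spec (CommRingCat.of k))) ⟶ G, Set.range ⇑σ.left.base ⊆ (V : Set ↥G.left) →
        ⇑(CartesianMonoidalCategory.lift (CartesianMonoidalCategory.toUnit X ≫ σ) (𝟙 X) ≫ a.act).left.base '' Y₁ ∩ Y₂ = ∅ ∨
        (n ≤ r + s ∧ ∀ C ∈ irreducibleComponents
            ↥(⇑(CartesianMonoidalCategory.lift (CartesianMonoidalCategory.toUnit X ≫ σ) (𝟙 X) ≫ a.act).left.base '' Y₁ ∩ Y₂),
          topologicalKrullDim ↥C = ((r + s - n : ℕ) : WithBot ℕ∞)) := by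
  classical
  obtain ⟨Z₁, i₁, hi₁, hZ₁, hr₁, -⟩ :=
    Groth.Agent.Lib.CohDelta.DevApps.exists_integral (X := X.left) h₁i.genericPoint
  obtain ⟨Z₂, i₂, hi₂, hZ₂, hr₂, -⟩ :=
    Groth.Agent.Lib.CohDelta.DevApps.exists_integral (X := X.left) h₂i.genericPoint
  haveI := hi₁
  haveI := hi₂
  haveI := hZ₁
  haveI := hZ₂
  have e₁ : Set.range i₁ = Y₁ := by
    rw [hr₁, h₁i.genericPoint_closure_eq, h₁c.closure_eq]
  have e₂ : Set.range i₂ = Y₂ := by
    rw [hr₂, h₂i.genericPoint_closure_eq, h₂c.closure_eq]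
  have d₁ : topologicalKrullDim Z₁ = r := by
    rw [i₁.isClosedEmbedding.isEmbedding.toHomeomorph.isHomeomorph.topologicalKrullDim_eq, e₁, hr]
  have d₂ : topologicalKrullDim Z₂ = s := by
    rw [i₂.isClosedEmbedding.isEmbedding.toHomeomorph.isHomeomorph.topologicalKrullDim_eq, e₂, hs]
  obtain ⟨V, hVne, hV⟩ := Groth.Agent.H26.KleimanDim.equidim G X a htrans i₁ i₂ n r s hn d₁ d₂
  refine ⟨V, hVne, fun σ hσ => ?_⟩
  let T := (CartesianMonoidalCategory.lift (CartesianMonoidalCategory.toUnit X ≫ σ) (𝟙 X) ≫ a.act).left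
  haveI : IsIso T :=
    ((Over.forget _).mapIso (Groth.Agent.H26.Kleiman.transIso G X a σ)).isIso_hom
  let fσ : Z₁ ⟶ X.left := i₁ ≫ T
  have hfσ : fσ = (CartesianMonoidalCategory.lift (CartesianMonoidalCategory.toUnit (Over.mk (i₁ ≫ X.hom)) ≫ σ)
      (Over.homMk i₁) ≫ a.act).left := by
    rw [← Groth.Agent.H26.Kleiman.comp_trans]
    rfl
  let mI := pullback.fst fσ i₂ ≫ fσ
  have hrange : Set.range mI = ⇑T '' Y₁ ∩ Y₂ := by
    ext x
    constructor
    · rintro ⟨c, rfl⟩
      refine ⟨⟨i₁ (pullback.fst fσ i₂ c), e₁ ▸ ⟨_, rfl⟩, rfl⟩, ?_⟩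
      show (pullback.fst fσ i₂ ≫ fσ) c ∈ Y₂
      rw [pullback.condition, ← e₂]
      exact ⟨_, rfl⟩
    · rintro ⟨⟨y, hy, rfl⟩, hx₂⟩
      rw [← e₁] at hy
      obtain ⟨z₁, rfl⟩ := hy
      rw [← e₂] at hx₂
      obtain ⟨z₂, hz₂⟩ := hx₂
      obtain ⟨c, hc, -⟩ := Scheme.Pullback.exists_preimage_pullback (f := fσ) (g := i₂) z₁ z₂ hz₂.symm
      exact ⟨c, by show fσ (pullback.fst fσ i₂ c) = T (i₁ z₁); rw [hc]; rfl⟩
  let pF : pullback fσ i₂ ⟶ Spec (CommRingCat.of k) := pullback.fst fσ i₂ ≫ i₁ ≫ X.hom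
  haveI : IsClosedImmersion mI := inferInstance
  let e : ↥(pullback fσ i₂) ≃ₜ ↥(⇑T '' Y₁ ∩ Y₂) :=
    mI.isClosedEmbedding.isEmbedding.toHomeomorph.trans (Homeomorph.setCongr hrange)
  by_cases hne : ⇑T '' Y₁ ∩ Y₂ = ∅
  · exact Or.inl hne
  refine Or.inr ?_
  obtain ⟨x, hx⟩ := Set.nonempty_iff_ne_empty.mpr hne
  haveI : Nonempty ↥(pullback fσ i₂) := ⟨e.symm ⟨x, hx⟩⟩
  haveI : JacobsonSpace ↥(pullback fσ i₂) := LocallyOfFiniteType.jacobsonSpace pF
  obtain ⟨c0, -, hc0⟩ := nonempty_inter_closedPoints (X := ↥(pullback fσ i₂)) (Z := Set.univ) Set.univ_nonempty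
    isClosed_univ.isLocallyClosed
  obtain ⟨d0, -, hd0⟩ := hV σ hσ fσ hfσ c0 hc0
  refine ⟨by omega, fun C hC => ?_⟩
  have hC' : e ⁻¹' C ∈ irreducibleComponents ↥(pullback fσ i₂) := by
    refine preimage_mem_irreducibleComponents hC e.isOpenEmbedding ?_
    obtain ⟨y, hy⟩ := hC.1.nonempty
    exact ⟨y, hy, e.surjective y⟩
  rw [← (e.sets (s := e ⁻¹' C) (t := C) rfl).isHomeomorph.topologicalKrullDim_eq]
  refine Groth.Agent.H26.KleimanDim.dim_component pF (r + s - n) (fun c hc => ?_) _ hC'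
  obtain ⟨d, hd, hd'⟩ := hV σ hσ fσ hfσ c hc
  rw [hd]
  congr 1
  omega

end Groth.Agent.S15241
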