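import Groth.Statements.S15243
import Groth.Agent.H26.OrbitInterDim


set_option autoImplicit false
set_option maxHeartbeats 1000000
set_option linter.all false
universe u
open CategoryTheory CategoryTheory.Limits MonoidalCategory CartesianMonoidalCategory MonObj GrpObj AlgebraicGeometry
open AGF

namespace Groth.Agent.S15243

/-- Let k be an algebraically closed field of characteristic zero, G a group variety over k (integral,
separated, of finite type k-group scheme) acting on a smooth variety X over k (integral, separated,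
smooth of finite type) of dimension n with finitely many orbits (finitely many subsets of X arise as
images of orbit maps of k-points), and let Y₁, Y₂ be closed irreducible subsets of X of
complementary dimensions r + s = n which meet every orbit closure properly: for every k-point x of X
with orbit O of dimension d (dimension of its closure), every irreducible component of Y₁ ∩
closure(O), resp. Y₂ ∩ closure(O), has dimension r + d − n, resp. s + d − n. Then for g in a
nonempty open subset of G the finite set g · Y₁ ∩ Y₂ lies in the open orbit: there is a nonempty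
open V ⊆ G such that for every k-point g of G in V and every k-point x₀ of X whose orbit is open,
the translate of Y₁ by g meets Y₂ only inside the orbit of x₀. (The published setting is over the
complex numbers with G affine; this row assumes an algebraically closed field of characteristic zero
and any group variety, which is all the printed argument uses.) -/
theorem result (k : Type u) [Field k] [IsAlgClosed k]
    [CharZero k] (G X : Over (Spec (CommRingCat.of k))) [GrpObj G] (a : AlgGrp.Action G X)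
    [IsIntegral G.left] [IsSeparated G.hom] [LocallyOfFiniteType G.hom] [QuasiCompact G.hom]
    [IsIntegral X.left] [IsSeparated X.hom] [Smooth X.hom] [QuasiCompact X.hom]
    (hfin : Set.Finite {S : Set ↥X.left | ∃ x : 𝟙_ (Over (Spec (CommRingCat.of k))) ⟶ X, S = Set.range ⇑(a.orbitMap x).left.base})
    (Y₁ Y₂ : Set ↥X.left) (h₁c : IsClosed Y₁) (h₁i : IsIrreducible Y₁) (h₂c : IsClosed Y₂) (h₂i : IsIrreducible Y₂)
    (n r s : ℕ) (hn : topologicalKrullDim ↥X.left = n) (hr : topologicalKrullDim ↥Y₁ = r)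
    (hs : topologicalKrullDim ↥Y₂ = s) (hrs : r + s = n)
    (hproper : ∀ (x : 𝟙_ (Over (Spec (CommRingCat.of k))) ⟶ X) (d : ℕ), topologicalKrullDim ↥(closure (Set.range ⇑(a.orbitMap x).left.base)) = d →
      (∀ C ∈ irreducibleComponents ↥(Y₁ ∩ closure (Set.range ⇑(a.orbitMap x).left.base)),
          n ≤ r + d ∧ topologicalKrullDim ↥C = ((r + d - n : ℕ) : WithBot ℕ∞)) ∧
      (∀ C ∈ irreducibleComponents ↥(Y₂ ∩ closure (Set.range ⇑(a.orbitMap x).left.base)),
          n ≤ s + d ∧ topologicalKrullDim ↥C = ((s + d - n : ℕ) : WithBot ℕ∞))) :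
    ∃ V : G.left.Opens, (V : Set ↥G.left).Nonempty ∧
      ∀ σ : 𝟙_ (Over (Spec (CommRingCat.of k))) ⟶ G, Set.range ⇑σ.left.base ⊆ (V : Set ↥G.left) →
        ∀ x₀ : 𝟙_ (Over (Spec (CommRingCat.of k))) ⟶ X, IsOpen (Set.range ⇑(a.orbitMap x₀).left.base) →
          ⇑(CartesianMonoidalCategory.lift (CartesianMonoidalCategory.toUnit X ≫ σ) (𝟙 X) ≫ a.act).left.base '' Y₁ ∩ Y₂ ⊆ Set.range ⇑(a.orbitMap x₀).left.base := by
  classical
  haveI : LocallyOfFiniteType X.hom := inferInstance
  let 𝒮 := {S : Set ↥X.left | ∃ x : 𝟙_ (Over (Spec (CommRingCat.of k))) ⟶ X, S = Set.range ⇑(a.orbitMap x).left.base}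
  have hrep : ∀ S : 𝒮, ∃ x : 𝟙_ (Over (Spec (CommRingCat.of k))) ⟶ X, S.1 = Set.range ⇑(a.orbitMap x).left.base :=
    fun S => S.2
  choose rep hrep using hrep
  have hb := fun S : 𝒮 => Groth.Agent.H26.OrbitInter.orbit_bound G X a (rep S) Y₁ Y₂ h₁c h₂c
  choose V hVne hV using hb
  haveI : Finite 𝒮 := hfin.to_subtype
  refine ⟨⟨⋂ S, (V S : Set G.left), isOpen_iInter_of_finite fun S => (V S).2⟩, ?_, ?_⟩
  · refine ⟨genericPoint G.left, Set.mem_iInter.mpr fun S => ?_⟩
    exact ((genericPoint_spec G.left).mem_open_set_iff (V S).2).mpr (by simpa using hVne S)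
  intro σ hσ x₀ hx₀ p hp
  by_contra hpO
  let T := (Groth.Agent.H26.Kleiman.trans G X a σ).left
  haveI : IsIso T := ((Over.forget _).mapIso (Groth.Agent.H26.Kleiman.transIso G X a σ)).isIso_hom
  have hA : IsClosed ((⇑T '' Y₁ ∩ Y₂) \ Set.range ⇑(a.orbitMap x₀).left.base) :=
    ((T.isClosedEmbedding.isClosedMap _ h₁c).inter h₂c).sdiff hx₀
  obtain ⟨x, hx⟩ := Groth.Agent.Lib.GrpSch.exists_point_mem (X := X) hA ⟨p, hp, hpO⟩
  let S : 𝒮 := ⟨Set.range ⇑(a.orbitMap x).left.base, x, rfl⟩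
  let q : ↥X.left := x.left (IsLocalRing.closedPoint k)
  have hq : q ∈ (⇑T '' Y₁ ∩ Y₂) \ Set.range ⇑(a.orbitMap x₀).left.base := hx ⟨_, rfl⟩
  have hqS : q ∈ Set.range (a.orbitMap (rep S)).left :=
    (hrep S).le (Groth.Agent.Lib.GrpSch.range_subset_range_orbit a x ⟨_, rfl⟩)
  obtain ⟨y₁, y₂, ζ, hζ, ⟨hy₁, hm₁⟩, ⟨hy₂, hm₂⟩, hle⟩ :=
    hV S σ (hσ.trans (Set.iInter_subset _ S)) q hqS hq.1
  obtain ⟨d, hd⟩ : ∃ d : ℕ, d = (Groth.Agent.Lib.Cyc.FieldDim.fdelta X.hom ζ).toNat := ⟨_, rfl⟩
  have hdim : topologicalKrullDim ↥(closure (Set.range ⇑(a.orbitMap (rep S)).left.base)) = d := by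
    rw [← hζ, Groth.Agent.Lib.Cyc.FieldDim.topologicalKrullDim_closure X.hom ζ, hd]
  obtain ⟨C₁, hC₁, hC₁d⟩ := Groth.Agent.H26.OrbitInterDim.exists_component X.hom
    (h₁c.inter isClosed_closure) y₁ hy₁ hm₁
  obtain ⟨C₂, hC₂, hC₂d⟩ := Groth.Agent.H26.OrbitInterDim.exists_component X.hom
    (h₂c.inter isClosed_closure) y₂ hy₂ hm₂
  obtain ⟨hr₁, hr₁'⟩ := (hproper (rep S) d hdim).1 C₁ hC₁
  obtain ⟨hr₂, hr₂'⟩ := (hproper (rep S) d hdim).2 C₂ hC₂
  rw [hC₁d] at hr₁'
  rw [hC₂d] at hr₂'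
  norm_cast at hr₁' hr₂'
  have hnd : n ≤ d := by
    have := Groth.Agent.Lib.Cyc.FieldDim.fdelta_nonneg X.hom q
    have := Groth.Agent.Lib.Cyc.FieldDim.fdelta_nonneg X.hom y₁
    have := Groth.Agent.Lib.Cyc.FieldDim.fdelta_nonneg X.hom y₂
    omega
  have huniv : closure (Set.range ⇑(a.orbitMap (rep S)).left.base) = Set.univ := by
    rw [← hζ]
    exact Groth.Agent.H26.OrbitInterDim.closure_eq_univ X.hom n hn ζ (hd ▸ hnd)
  obtain ⟨U, hU, hUe⟩ := Groth.Agent.Lib.GrpSch.exists_open_orbit_eq a (rep S)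
  have hopen : IsOpen (Set.range ⇑(a.orbitMap (rep S)).left.base) := by
    rw [huniv, Set.inter_univ] at hUe
    exact hUe ▸ hU
  obtain ⟨z, -, hz, hz'⟩ := (IrreducibleSpace.isIrreducible_univ ↥X.left).2 _ _ hopen hx₀
    ⟨q, trivial, hqS⟩ (by
      obtain ⟨t, ht⟩ : (Set.range ⇑(a.orbitMap x₀).left.base).Nonempty := ⟨_,
        Groth.Agent.Lib.GrpSch.range_subset_range_orbit a x₀ ⟨IsLocalRing.closedPoint k, rfl⟩⟩
      exact ⟨t, trivial, ht⟩)
  have hst := Groth.Agent.Lib.GrpSch.range_orbit_subset a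
    ((Groth.Agent.Lib.GrpSch.isStableSet_range_orbit a x₀).compl a) x (by
      rintro _ ⟨s, rfl⟩
      exact (hx ⟨s, rfl⟩).2)
  exact hst ((hrep S).ge hz) hz'

end Groth.Agent.S15243
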