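import Groth.Statements.S15245
import Groth.Agent.H83.RootBridge
-- import your own Groth.Agent.* helpers here

set_option autoImplicit false
universe u
open CategoryTheory AlgebraicGeometry
open RedSub

namespace Groth.Agent.S15245

open Set Function Groth.Agent.H83.RootBridge Groth.Agent.Lib.RootDatum Groth.Agent.Lib.RootDatum.Basic
  Groth.Agent.Lib.RootDatum.PosSys Groth.Agent.Lib.RootDatum.Weyl

variable {idx M N : Type} [AddCommGroup M] [AddCommGroup N] (P : RootPairing idx ℤ M N)

/-- The inverted positive roots. -/
def inv' (b : P.Base) (g : P.Aut) : Set idx :=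
  {a | a ∈ RedSub.posRoots P b ∧ g • a ∉ RedSub.posRoots P b}

theorem key [Finite idx] (b : P.Base) (c : idx) (hc : c ∈ RedSub.posRoots P b) (g : P.Aut)
    (hg : g⁻¹ • c ∈ RedSub.posRoots P b) :
    (inv' P b g).ncard < (inv' P b (refl P c * g)).ncard := by
  classical
  set γ := g⁻¹ • c with hγ
  let F : idx → idx := fun a =>
    if (refl P c * g) • a ∈ RedSub.posRoots P b then g⁻¹ • (refl P c * g) • a else a
  have hgF : ∀ a, (refl P c * g) • a ∈ RedSub.posRoots P b → g • F a = (refl P c * g) • a :=
    fun a ha => by rw [show F a = g⁻¹ • (refl P c * g) • a from if_pos ha, smul_inv_smul]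
  have hswγ : (refl P c * g) • γ = negIdx P c := by
    rw [mul_smul, hγ, smul_inv_smul]; rfl
  have hrr : ∀ x : idx, refl P c • refl P c • x = x := fun x => by
    rw [← mul_smul, show refl P c * refl P c = 1 from reflection_mul_self P c, one_smul]
  have hmem : ∀ a ∈ inv' P b g, F a ∈ inv' P b (refl P c * g) := by
    rintro a ⟨ha, hga⟩
    by_cases h : (refl P c * g) • a ∈ RedSub.posRoots P b
    · simp only [F, if_pos h]
      have h' : refl P c • g • a ∈ RedSub.posRoots P b := by rwa [← mul_smul]
      have hr : P.root (refl P c • g • a) = P.root (g • a) - pz P (g • a) c • P.root c :=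
        root_reflectionPerm_eq P c (g • a)
      have hz : pz P (g • a) c ≤ 0 := by
        by_contra hz
        apply hga
        show P.root (g • a) ∈ RootD.natSpan P (b.support : Set idx)
        rw [show P.root (g • a) = P.root (refl P c • g • a) + pz P (g • a) c • P.root c by
          rw [hr]; abel]
        obtain ⟨n, hn⟩ := Int.eq_ofNat_of_zero_le (not_le.1 hz).le
        rw [hn, natCast_zsmul]
        exact add_mem h' (nsmul_mem hc n)
      constructor
      · show P.root _ ∈ RootD.natSpan P (b.support : Set idx)
        rw [mul_smul, root_smul, hr, smul_sub, ← root_smul, inv_smul_smul,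
          show g⁻¹ • (pz P (g • a) c • P.root c) = pz P (g • a) c • (g⁻¹ • P.root c) from
            map_zsmul (RootPairing.Equiv.weightHom P g⁻¹) _ _, ← root_smul, ← hγ, sub_eq_add_neg,
          ← neg_smul]
        obtain ⟨n, hn⟩ := Int.eq_ofNat_of_zero_le (neg_nonneg.2 hz)
        rw [hn, natCast_zsmul]
        exact add_mem ha (nsmul_mem hg n)
      · rw [mul_smul, smul_inv_smul, mul_smul, hrr]
        exact hga
    · simp only [F, if_neg h]
      exact ⟨ha, h⟩
  have hinj : InjOn F (inv' P b g) := by
    intro a ha a' ha' e
    by_cases h : (refl P c * g) • a ∈ RedSub.posRoots P b <;>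
      by_cases h' : (refl P c * g) • a' ∈ RedSub.posRoots P b
    · rw [show F a = g⁻¹ • (refl P c * g) • a from if_pos h,
        show F a' = g⁻¹ • (refl P c * g) • a' from if_pos h'] at e
      exact smul_left_cancel _ (smul_left_cancel _ e)
    · exfalso
      have e' := congrArg (g • ·) e
      simp only [hgF a h, F, if_neg h'] at e'
      exact ha'.2 (e' ▸ h)
    · exfalso
      have e' := congrArg (g • ·) e
      simp only [hgF a' h', F, if_neg h] at e'
      exact ha.2 (e' ▸ h')
    · rwa [show F a = a from if_neg h, show F a' = a' from if_neg h'] at e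
  rw [← hinj.ncard_image]
  refine ncard_lt_ncard ((ssubset_iff_of_subset (by rintro _ ⟨a, ha, rfl⟩; exact hmem a ha)).2 ⟨γ, ⟨hg, ?_⟩, ?_⟩)
    (Set.toFinite _)
  · rw [hswγ]
    exact posSys_disjoint P (isPosSys P b) c hc
  · rintro ⟨a, ha, e⟩
    by_cases h : (refl P c * g) • a ∈ RedSub.posRoots P b
    · have e' := congrArg (g • ·) e
      simp only [hgF a h] at e'
      rw [hγ, smul_inv_smul, mul_smul] at e'
      have h2 : g • a = negIdx P c := by
        have h3 := congrArg (refl P c • ·) e'
        simp only [hrr] at h3
        exact h3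
      have h4 : a = negIdx P γ := by
        rw [hγ, ← smul_negIdx, ← h2, inv_smul_smul]
      exact posSys_disjoint P (isPosSys P b) γ hg (h4 ▸ ha.1)
    · simp only [F, if_neg h] at e
      exact ha.2 (by rw [e, hγ, smul_inv_smul]; exact hc)


/-- Let Φ be a finite reduced root system (a reduced root pairing over ℤ on a finite index set) with a
base b, w an element of its Weyl group, given as the product of the reflections along a word l and
acting on the roots, and γ a positive root. Writing ℓ(u) for the number of positive roots a with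
u(a) negative, one has ℓ(w) < ℓ(σ_γ w) if and only if w⁻¹(γ) is positive. (Here the length is taken
as the number of inverted positive roots.) -/
theorem result {idx M N : Type}
    [AddCommGroup M] [AddCommGroup N] [Finite idx]
    (P : RootPairing idx ℤ M N) [P.IsReduced] (b : P.Base) (l : List idx) (c : idx)
    (hc : c ∈ RedSub.posRoots P b) :
    Set.ncard {a : idx | a ∈ RedSub.posRoots P b ∧ RedSub.wordPerm P l a ∈ RedSub.negRoots P b} <
        Set.ncard {a : idx | a ∈ RedSub.posRoots P b ∧
          (P.reflectionPerm c * RedSub.wordPerm P l) a ∈ RedSub.negRoots P b} ↔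
      (RedSub.wordPerm P l)⁻¹ c ∈ RedSub.posRoots P b := by
  have e1 : ∀ a, RedSub.wordPerm P l a = wordProd P l • a := wordPerm_apply P l
  have e2 : ∀ a, (P.reflectionPerm c * RedSub.wordPerm P l) a = (refl P c * wordProd P l) • a := by
    intro a
    rw [Equiv.Perm.mul_apply, e1, mul_smul]
    rfl
  have eN : ∀ g : P.Aut, {a : idx | a ∈ RedSub.posRoots P b ∧ g • a ∈ RedSub.negRoots P b} =
      inv' P b g := fun g => by
    ext a; simp [inv', mem_negRoots_iff_notMem]
  simp only [e1, e2]
  rw [eN, eN, Equiv.Perm.inv_def, wordPerm_symm_apply]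
  constructor
  · intro h
    by_contra hn
    have hn' := (not_mem_iff P (isPosSys P b)).1 hn
    have hc' : (refl P c * wordProd P l)⁻¹ • c ∈ RedSub.posRoots P b := by
      rw [_root_.mul_inv_rev, refl_inv, mul_smul]
      show (wordProd P l)⁻¹ • negIdx P c ∈ RedSub.posRoots P b
      rwa [smul_negIdx]
    have := key P b c hc _ hc'
    rw [← _root_.mul_assoc, show refl P c * refl P c = 1 from reflection_mul_self P c,
      _root_.one_mul] at this
    exact absurd h (not_lt_of_ge this.le)
  · exact key P b c hc _

end Groth.Agent.S15245
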