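import Groth.Statements.S19416
import Groth.Agent.H19.IntMult.Diagonal

set_option autoImplicit false
universe u
open CategoryTheory AlgebraicGeometry
open IntMult

namespace Groth.Agent.S19416

open CategoryTheory.Limits Groth.Agent.H75 Groth.Agent.Lib Groth.Agent.Lib.Cyc Groth.Agent.Lib.VarDim.Basic Groth.Agent.H19.IntMult.Diagonal

theorem irreducibleSpace_of_homeo {α : Type*} [TopologicalSpace α] {β : Type*} [TopologicalSpace β]
    {V : Set β} (e : α ≃ₜ ↥V) (h : IsIrreducible V) : IrreducibleSpace α := by
  haveI : IrreducibleSpace ↥V := Subtype.irreducibleSpace h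
  exact e.irreducibleSpace_iff.mpr inferInstance


/-- Let k be a field and X a smooth variety over k (the structure morphism X → Spec k smooth, separated
and quasi-compact, X integral) of dimension n, and let V, W ⊆ X be closed irreducible subsets of
dimensions r and s. Then every irreducible component Z of V ∩ W has dimension at least r + s − n,
stated as r + s ≤ dim Z + n with Krull dimensions of the subspaces; equivalently the codimension of
Z is at most the sum of the codimensions of V and W. The base field is arbitrary here; the same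
statement over an algebraically closed field is the classical dimension count for intersections on a
nonsingular variety. -/
theorem result (k : Type u) [Field k] (X : Scheme.{u})
    (f : X ⟶ Spec (CommRingCat.of k)) [Smooth f] [IsSeparated f] [QuasiCompact f] [IsIntegral X]
    (n r s : ℕ) (hn : topologicalKrullDim X = n) (V W : Set X) (hVc : IsClosed V)
    (hVi : IsIrreducible V) (hWc : IsClosed W) (hWi : IsIrreducible W)
    (hr : topologicalKrullDim ↥V = r) (hs : topologicalKrullDim ↥W = s) (Z : Set ↥(V ∩ W))
    (hZ : Z ∈ irreducibleComponents ↥(V ∩ W)) :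
    ((r + s : ℕ) : WithBot ℕ∞) ≤ topologicalKrullDim ↥Z + n := by
  let IV := Scheme.IdealSheafData.vanishingIdeal (⟨V, hVc⟩ : TopologicalSpace.Closeds X)
  let IW := Scheme.IdealSheafData.vanishingIdeal (⟨W, hWc⟩ : TopologicalSpace.Closeds X)
  let IT := Scheme.IdealSheafData.vanishingIdeal (⟨V ∩ W, hVc.inter hWc⟩ : TopologicalSpace.Closeds X)
  have rV : Set.range IV.subschemeι = V := by simp [IV, Scheme.IdealSheafData.range_subschemeι,
    Scheme.IdealSheafData.coe_support_vanishingIdeal]
  have rW : Set.range IW.subschemeι = W := by simp [IW, Scheme.IdealSheafData.range_subschemeι,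
    Scheme.IdealSheafData.coe_support_vanishingIdeal]
  have rT : Set.range IT.subschemeι = V ∩ W := by simp [IT, Scheme.IdealSheafData.range_subschemeι,
    Scheme.IdealSheafData.coe_support_vanishingIdeal]
  let eV : ↥IV.subscheme ≃ₜ ↥V := IV.subschemeι.isEmbedding.toHomeomorph.trans (Homeomorph.setCongr rV)
  let eW : ↥IW.subscheme ≃ₜ ↥W := IW.subschemeι.isEmbedding.toHomeomorph.trans (Homeomorph.setCongr rW)
  haveI : IrreducibleSpace ↥IV.subscheme := irreducibleSpace_of_homeo eV hVi
  haveI : IrreducibleSpace ↥IW.subscheme := irreducibleSpace_of_homeo eW hWi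
  have hVr := hasRelDim_irreducible (IV.subschemeι ≫ f)
    ((IsHomeomorph.topologicalKrullDim_eq _ eV.isHomeomorph).trans hr)
  have hWs := hasRelDim_irreducible (IW.subschemeι ≫ f)
    ((IsHomeomorph.topologicalKrullDim_eq _ eW.isHomeomorph).trans hs)
  have hP := hasRelDim_prod _ _ hVr hWs
  let jV : IT.subscheme ⟶ IV.subscheme :=
    Scheme.IdealSheafData.inclusion (Scheme.IdealSheafData.vanishingIdeal_antimono Set.inter_subset_left)
  let jW : IT.subscheme ⟶ IW.subscheme :=
    Scheme.IdealSheafData.inclusion (Scheme.IdealSheafData.vanishingIdeal_antimono Set.inter_subset_right)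
  have hjV : jV ≫ IV.subschemeι = IT.subschemeι := Scheme.IdealSheafData.inclusion_subschemeι _
  have hjW : jW ≫ IW.subschemeι = IT.subschemeι := Scheme.IdealSheafData.inclusion_subschemeι _
  let qC := pullback.fst (IV.subschemeι ≫ f) (IW.subschemeι ≫ f) ≫ IV.subschemeι ≫ f
  let π : pullback (IV.subschemeι ≫ f) (IW.subschemeι ≫ f) ⟶ pullback f f :=
    pullback.map _ _ f f IV.subschemeι IW.subschemeι (𝟙 _) (Category.comp_id _) (Category.comp_id _)
  haveI : IsClosedImmersion π :=
    MorphismProperty.pullbackMap (P := @IsClosedImmersion) (inferInstance : IsClosedImmersion IV.subschemeι) (inferInstance : IsClosedImmersion IW.subschemeι) rfl rfl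
  haveI : LocallyOfFiniteType qC := inferInstance
  let t : IT.subscheme ⟶ pullback (IV.subschemeι ≫ f) (IW.subschemeι ≫ f) :=
    pullback.lift jV jW (by rw [← Category.assoc, ← Category.assoc, hjV, hjW])
  have htπ : t ≫ π = IT.subschemeι ≫ pullback.diagonal f := by
    refine pullback.hom_ext ?_ ?_
    · rw [Category.assoc, Category.assoc, pullback.lift_fst, ← Category.assoc, pullback.lift_fst,
        hjV, pullback.diagonal_fst]
      exact (Category.comp_id _).symm
    · rw [Category.assoc, Category.assoc, pullback.lift_snd, ← Category.assoc, pullback.lift_snd,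
        hjW, pullback.diagonal_snd]
      exact (Category.comp_id _).symm
  obtain ⟨ζ, hζ, hmax, -, hdim⟩ := VarDimX.exists_component f (hVc.inter hWc).isLocallyClosed hZ
  obtain ⟨ζ', hζ'⟩ : ζ ∈ Set.range IT.subschemeι := rT.symm ▸ hζ
  let c := t ζ'
  have hπc : π c = pullback.diagonal f ζ := by
    rw [← Scheme.Hom.comp_apply, htπ, Scheme.Hom.comp_apply, hζ']
  have hfd : ∀ x, pullback.fst f f (pullback.diagonal f x) = x := fun x => by
    rw [← Scheme.Hom.comp_apply, pullback.diagonal_fst]; rfl
  have hsd : ∀ x, pullback.snd f f (pullback.diagonal f x) = x := fun x => by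
    rw [← Scheme.Hom.comp_apply, pullback.diagonal_snd]; rfl
  obtain ⟨ξ, hξ, hξmax⟩ := DimFun.exists_isMaxPt_specializes c
  have key := VarDimX.pdim_le_add_of_maximal qC π (pullback.diagonal f) (diagonal_regular f hn) hξ
    (hπc ▸ ⟨ζ, rfl⟩) (fun z _ hzc hzr => by
      obtain ⟨x, hx⟩ := hzr
      have hxV : x ∈ V := by
        rw [← rV, ← hfd x, hx, ← Scheme.Hom.comp_apply, pullback.lift_fst, Scheme.Hom.comp_apply]
        exact ⟨_, rfl⟩
      have hxW : x ∈ W := by
        rw [← rW, ← hsd x, hx, ← Scheme.Hom.comp_apply, pullback.lift_snd, Scheme.Hom.comp_apply]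
        exact ⟨_, rfl⟩
      have hsp : x ⤳ ζ := by
        have := (hzc.map π.continuous).map (pullback.fst f f).continuous
        rwa [← hx, hπc, hfd, hfd] at this
      have : x = ζ := hmax x ⟨hxV, hxW⟩ hsp
      subst this
      exact π.isEmbedding.injective (hx.symm.trans hπc.symm))
  haveI : IsPreimmersion (t ≫ π) := htπ ▸ inferInstance
  haveI : IsPreimmersion t := IsPreimmersion.of_comp t π
  have hc : pdim qC c = pdim f ζ := by
    have h1 : t ≫ qC = IT.subschemeι ≫ f := by
      show t ≫ pullback.fst _ _ ≫ IV.subschemeι ≫ f = _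
      rw [← Category.assoc t, pullback.lift_fst, ← Category.assoc, hjV]
    have e2 : pdim (IT.subschemeι ≫ f) ζ' = pdim f ζ := by
      rw [VarDimX.pdim_comp_preimmersion f IT.subschemeι ζ', hζ']
    have e1 : ∀ (g : IT.subscheme ⟶ Spec (CommRingCat.of k)) (_ : LocallyOfFiniteType g),
        t ≫ qC = g → pdim g ζ' = pdim qC c := by
      rintro g hg rfl
      exact VarDimX.pdim_comp_preimmersion qC t ζ'
    rw [← e1 _ inferInstance h1, e2]
  rw [pdim_maxPt qC hP hξmax, hc] at key
  rw [hdim]
  exact_mod_cast key


end Groth.Agent.S19416
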