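import Groth.Statements.S15246
import Groth.Agent.H26.OrbitGeom
import Groth.Agent.S19416


set_option autoImplicit false
set_option maxHeartbeats 1000000
set_option linter.all false
universe u
open CategoryTheory CategoryTheory.Limits MonoidalCategory CartesianMonoidalCategory MonObj GrpObj AlgebraicGeometry
open AGF

namespace Groth.Agent.S15246

/-- Let k be an algebraically closed field of characteristic zero, G a group variety over k (integral,
separated, of finite type k-group scheme) acting on a smooth variety X over k (integral, separated,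
smooth of finite type) of dimension n with finitely many orbits (finitely many subsets of X arise as
images of orbit maps of k-points), and let Y₁, Y₂ be closed irreducible subsets of X of dimensions r
and s which meet every orbit closure properly: for every k-point x of X whose orbit closure has
dimension d, every irreducible component of Y₁ ∩ closure(orbit), resp. Y₂ ∩ closure(orbit), has
dimension r + d − n, resp. s + d − n. Then there is a nonempty open V ⊆ G such that for every
k-point g of G lying in V the translate g · Y₁ meets Y₂ properly — every irreducible component of g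
· Y₁ ∩ Y₂ has dimension r + s − n — and g · Y₁ ∩ Y₂ meets every orbit closure properly — for every
k-point x whose orbit closure has dimension d, every irreducible component of (g · Y₁ ∩ Y₂) ∩
closure(orbit) has dimension r + s + d − 2n. (The published statement also asserts multiplicity one
along each component of g · Y₁ ∩ Y₂, which is not stated here. The published setting is over the
complex numbers with G affine; this row assumes an algebraically closed field of characteristic zero
and any group variety, which is all the printed argument uses.) -/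
theorem result (k : Type u) [Field k] [IsAlgClosed k]
    [CharZero k] (G X : Over (Spec (CommRingCat.of k))) [GrpObj G] (a : AlgGrp.Action G X)
    [IsIntegral G.left] [IsSeparated G.hom] [LocallyOfFiniteType G.hom] [QuasiCompact G.hom]
    [IsIntegral X.left] [IsSeparated X.hom] [Smooth X.hom] [QuasiCompact X.hom]
    (hfin : Set.Finite {S : Set ↥X.left | ∃ x : 𝟙_ (Over (Spec (CommRingCat.of k))) ⟶ X, S = Set.range ⇑(a.orbitMap x).left.base})
    (Y₁ Y₂ : Set ↥X.left) (h₁c : IsClosed Y₁) (h₁i : IsIrreducible Y₁) (h₂c : IsClosed Y₂) (h₂i : IsIrreducible Y₂)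
    (n r s : ℕ) (hn : topologicalKrullDim ↥X.left = n) (hr : topologicalKrullDim ↥Y₁ = r)
    (hs : topologicalKrullDim ↥Y₂ = s)
    (hproper : ∀ (x : 𝟙_ (Over (Spec (CommRingCat.of k))) ⟶ X) (d : ℕ), topologicalKrullDim ↥(closure (Set.range ⇑(a.orbitMap x).left.base)) = d →
      (∀ C ∈ irreducibleComponents ↥(Y₁ ∩ closure (Set.range ⇑(a.orbitMap x).left.base)),
          n ≤ r + d ∧ topologicalKrullDim ↥C = ((r + d - n : ℕ) : WithBot ℕ∞)) ∧
      (∀ C ∈ irreducibleComponents ↥(Y₂ ∩ closure (Set.range ⇑(a.orbitMap x).left.base)),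
          n ≤ s + d ∧ topologicalKrullDim ↥C = ((s + d - n : ℕ) : WithBot ℕ∞))) :
    ∃ V : G.left.Opens, (V : Set ↥G.left).Nonempty ∧
      ∀ σ : 𝟙_ (Over (Spec (CommRingCat.of k))) ⟶ G, Set.range ⇑σ.left.base ⊆ (V : Set ↥G.left) →
        (∀ C ∈ irreducibleComponents ↥(⇑(CartesianMonoidalCategory.lift (CartesianMonoidalCategory.toUnit X ≫ σ) (𝟙 X) ≫ a.act).left.base '' Y₁ ∩ Y₂),
          n ≤ r + s ∧ topologicalKrullDim ↥C = ((r + s - n : ℕ) : WithBot ℕ∞)) ∧
        ∀ (x : 𝟙_ (Over (Spec (CommRingCat.of k))) ⟶ X) (d : ℕ), topologicalKrullDim ↥(closure (Set.range ⇑(a.orbitMap x).left.base)) = d →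
          ∀ C ∈ irreducibleComponents ↥((⇑(CartesianMonoidalCategory.lift (CartesianMonoidalCategory.toUnit X ≫ σ) (𝟙 X) ≫ a.act).left.base '' Y₁ ∩ Y₂) ∩ closure (Set.range ⇑(a.orbitMap x).left.base)),
            2 * n ≤ r + s + d ∧ topologicalKrullDim ↥C = ((r + s + d - 2 * n : ℕ) : WithBot ℕ∞) := by
  classical
  haveI : LocallyOfFiniteType X.hom := inferInstance
  let 𝒮 := {S : Set ↥X.left | ∃ x : 𝟙_ (Over (Spec (CommRingCat.of k))) ⟶ X, S = Set.range ⇑(a.orbitMap x).left.base}
  have hrep : ∀ S : 𝒮, ∃ x : 𝟙_ (Over (Spec (CommRingCat.of k))) ⟶ X, S.1 = Set.range ⇑(a.orbitMap x).left.base :=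
    fun S => S.2
  choose rep hrep using hrep
  have hb := fun S : 𝒮 => Groth.Agent.H26.OrbitInter.orbit_bound G X a (rep S) Y₁ Y₂ h₁c h₂c
  choose V hVne hV using hb
  haveI : Finite 𝒮 := hfin.to_subtype
  refine ⟨⟨⋂ S, (V S : Set G.left), isOpen_iInter_of_finite fun S => (V S).2⟩, ?_, ?_⟩
  · refine ⟨genericPoint G.left, Set.mem_iInter.mpr fun S => ?_⟩
    exact ((genericPoint_spec G.left).mem_open_set_iff (V S).2).mpr (by simpa using hVne S)
  intro σ hσ
  let T := (Groth.Agent.H26.Kleiman.trans G X a σ).left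
  haveI : IsIso T := ((Over.forget _).mapIso (Groth.Agent.H26.Kleiman.transIso G X a σ)).isIso_hom
  have hTY : IsClosed (⇑T '' Y₁) := T.isClosedEmbedding.isClosedMap _ h₁c
  -- the upper bound
  have upper : ∀ p ∈ ⇑T '' Y₁ ∩ Y₂, ∀ (W : Set ↥X.left) (d : ℕ), IsClosed W →
      Groth.Agent.Lib.GrpSch.IsStableSet a W → topologicalKrullDim ↥W = d → p ∈ W →
      Groth.Agent.Lib.Cyc.FieldDim.fdelta X.hom p + 2 * n ≤ ((r + s + d : ℕ) : ℤ) := by
    intro p hp W d hWc hWs hWd hpW
    obtain ⟨x, hx⟩ := Groth.Agent.H26.OrbitGeom.exists_orbit_mem a hfin p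
    let S : 𝒮 := ⟨Set.range ⇑(a.orbitMap x).left.base, x, rfl⟩
    have hpS : p ∈ Set.range (a.orbitMap (rep S)).left := (hrep S).le hx
    obtain ⟨y₁, y₂, ζ, hζ, ⟨hy₁, hm₁⟩, ⟨hy₂, hm₂⟩, hle⟩ :=
      hV S σ (hσ.trans (Set.iInter_subset _ S)) p hpS hp
    obtain ⟨d', hd'⟩ : ∃ d' : ℕ, d' = (Groth.Agent.Lib.Cyc.FieldDim.fdelta X.hom ζ).toNat := ⟨_, rfl⟩
    have hdim : topologicalKrullDim ↥(closure (Set.range ⇑(a.orbitMap (rep S)).left.base)) = d' := by
      rw [← hζ, Groth.Agent.Lib.Cyc.FieldDim.topologicalKrullDim_closure X.hom ζ, hd']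
    have hdd : d' ≤ d := by
      have hsub : closure (Set.range ⇑(a.orbitMap (rep S)).left.base) ⊆ W :=
        closure_minimal (Groth.Agent.H26.OrbitGeom.range_orbit_subset_of_mem a (rep S) hWc hWs hpS hpW) hWc
      have := (Topology.IsEmbedding.inclusion hsub).isInducing.topologicalKrullDim_le
      rw [hdim, hWd] at this
      exact_mod_cast this
    obtain ⟨C₁, hC₁, hC₁d⟩ := Groth.Agent.H26.OrbitInterDim.exists_component X.hom
      (h₁c.inter isClosed_closure) y₁ hy₁ hm₁
    obtain ⟨C₂, hC₂, hC₂d⟩ := Groth.Agent.H26.OrbitInterDim.exists_component X.hom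
      (h₂c.inter isClosed_closure) y₂ hy₂ hm₂
    obtain ⟨hr₁, hr₁'⟩ := (hproper (rep S) d' hdim).1 C₁ hC₁
    obtain ⟨hr₂, hr₂'⟩ := (hproper (rep S) d' hdim).2 C₂ hC₂
    rw [hC₁d] at hr₁'
    rw [hC₂d] at hr₂'
    norm_cast at hr₁' hr₂'
    have := Groth.Agent.Lib.Cyc.FieldDim.fdelta_nonneg X.hom ζ
    have := Groth.Agent.Lib.Cyc.FieldDim.fdelta_nonneg X.hom y₁
    have := Groth.Agent.Lib.Cyc.FieldDim.fdelta_nonneg X.hom y₂
    push_cast
    omega
  -- components and their generic points
  have gen : ∀ (A : Set ↥X.left), IsClosed A → ∀ C ∈ irreducibleComponents ↥A,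
      ∃ η' ∈ A, (Subtype.val : A → ↥X.left) '' C = closure {η'} ∧
        topologicalKrullDim ↥C = ((Groth.Agent.Lib.Cyc.FieldDim.fdelta X.hom η').toNat : WithBot ℕ∞) := by
    intro A hA C hC
    have hi : IsIrreducible ((Subtype.val : A → ↥X.left) '' C) :=
      hC.1.image _ continuous_subtype_val.continuousOn
    have hc : IsClosed ((Subtype.val : A → ↥X.left) '' C) :=
      hA.isClosedEmbedding_subtypeVal.isClosedMap _ (isClosed_of_mem_irreducibleComponents C hC)
    have hg := hi.isGenericPoint_genericPoint_closure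
    rw [hc.closure_eq] at hg
    refine ⟨hi.genericPoint, ?_, hg.def.symm, ?_⟩
    · obtain ⟨c, -, hcv⟩ := hg.mem
      exact hcv ▸ c.2
    · rw [← Groth.Agent.Lib.Cyc.FieldDim.topologicalKrullDim_closure X.hom, hg.def]
      exact ((hA.isClosedEmbedding_subtypeVal.isEmbedding.homeomorphImage C)).isHomeomorph.topologicalKrullDim_eq
  -- the lower bound
  have lower : ∀ (K B : Set ↥X.left) (rK : ℕ), IsClosed K → IsIrreducible K → topologicalKrullDim ↥K = rK →
      K ∩ Y₂ ⊆ B → IsClosed B → ∀ C ∈ irreducibleComponents ↥B, ∀ η' : ↥X.left,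
      (Subtype.val : B → ↥X.left) '' C = closure {η'} → η' ∈ K ∩ Y₂ →
      ((rK + s : ℕ) : ℤ) ≤ Groth.Agent.Lib.Cyc.FieldDim.fdelta X.hom η' + n := by
    intro K B rK hKc hKi hKd hsub hBc C hC η' hη' hmem
    have hmax : ∀ z ∈ K ∩ Y₂, z ⤳ η' → z = η' := by
      intro z hz hzη
      have hle : C ⊆ closure {(⟨z, hsub hz⟩ : B)} := by
        intro c hc
        rw [hBc.isClosedEmbedding_subtypeVal.isInducing.closure_eq_preimage_closure_image,
          Set.image_singleton]
        refine (specializes_iff_mem_closure.mp (hzη.trans ?_))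
        exact specializes_iff_mem_closure.mpr (hη' ▸ ⟨c, hc, rfl⟩)
      have he : closure {(⟨z, hsub hz⟩ : B)} ⊆ C := hC.2 isIrreducible_singleton.closure hle
      have : z ∈ closure ({η'} : Set ↥X.left) := hη' ▸ ⟨_, he (subset_closure rfl), rfl⟩
      exact (hzη.antisymm (specializes_iff_mem_closure.mpr this)).eq
    obtain ⟨Z, hZ, hZd⟩ := Groth.Agent.H26.OrbitInterDim.exists_component X.hom (hKc.inter h₂c) η' hmem hmax
    have h := Groth.Agent.S19416.result k X.left X.hom n rK s hn K Y₂ hKc hKi h₂c h₂i hKd hs Z hZ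
    rw [hZd] at h
    norm_cast at h
    have := Groth.Agent.Lib.Cyc.FieldDim.fdelta_nonneg X.hom η'
    omega
  constructor
  · intro C hC
    obtain ⟨η', hη'A, hη'C, hdC⟩ := gen _ (hTY.inter h₂c) C hC
    have hu := upper η' hη'A Set.univ n isClosed_univ (fun p _ => Set.mem_univ p) (by
      rw [(Homeomorph.Set.univ ↥X.left).isHomeomorph.topologicalKrullDim_eq, hn]) (Set.mem_univ _)
    have hl := lower (⇑T '' Y₁) _ r hTY (h₁i.image _ T.continuous.continuousOn) (by
      rw [← hr]
      exact ((T.isClosedEmbedding.isEmbedding.homeomorphImage Y₁)).symm.isHomeomorph.topologicalKrullDim_eq)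
      subset_rfl (hTY.inter h₂c) C hC η' hη'C hη'A
    have := Groth.Agent.Lib.Cyc.FieldDim.fdelta_nonneg X.hom η'
    refine ⟨by omega, ?_⟩
    refine hdC.trans ?_
    congr 1
    omega
  intro x d hd C hC
  have hWs := (Groth.Agent.Lib.GrpSch.isStableSet_range_orbit a x).closure a
  obtain ⟨η', hη'A, hη'C, hdC⟩ := gen _ ((hTY.inter h₂c).inter isClosed_closure) C hC
  have hu := upper η' hη'A.1 _ d isClosed_closure hWs hd hη'A.2
  obtain ⟨⟨w, hw, hwη⟩, -⟩ := hη'A.1
  have hwW : w ∈ closure (Set.range ⇑(a.orbitMap x).left.base) := by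
    have h := hη'A.2
    rw [← hwη, ← Groth.Agent.H26.OrbitGeom.image_trans a hWs σ] at h
    obtain ⟨w', hw', hww⟩ := h
    exact T.isClosedEmbedding.injective hww ▸ hw'
  let w' : ↥(Y₁ ∩ closure (Set.range ⇑(a.orbitMap x).left.base)) := ⟨w, hw, hwW⟩
  obtain ⟨hre, hKd⟩ := (hproper x d hd).1 _ (irreducibleComponent_mem_irreducibleComponents w')
  let K : Set ↥X.left := (fun p : ↥(Y₁ ∩ closure (Set.range ⇑(a.orbitMap x).left.base)) => T p.1) '' irreducibleComponent w'
  have hem : Topology.IsClosedEmbedding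
      (fun p : ↥(Y₁ ∩ closure (Set.range ⇑(a.orbitMap x).left.base)) => T p.1) :=
    T.isClosedEmbedding.comp (h₁c.inter isClosed_closure).isClosedEmbedding_subtypeVal
  have hKsub : K ∩ Y₂ ⊆ (⇑T '' Y₁ ∩ Y₂) ∩ closure (Set.range ⇑(a.orbitMap x).left.base) := by
    rintro _ ⟨⟨p, -, rfl⟩, hp₂⟩
    exact ⟨⟨⟨p.1, p.2.1, rfl⟩, hp₂⟩, Groth.Agent.H26.OrbitGeom.mapsTo_trans a hWs σ p.2.2⟩
  have hl := lower K _ (r + d - n) (hem.isClosedMap _ isClosed_irreducibleComponent)
    (isIrreducible_irreducibleComponent.image _ hem.continuous.continuousOn) (by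
      rw [← hKd]
      exact (hem.isEmbedding.homeomorphImage _).symm.isHomeomorph.topologicalKrullDim_eq)
    hKsub ((hTY.inter h₂c).inter isClosed_closure) C hC η' hη'C
    ⟨⟨w', mem_irreducibleComponent, hwη⟩, hη'A.1.2⟩
  have := Groth.Agent.Lib.Cyc.FieldDim.fdelta_nonneg X.hom η'
  refine ⟨by omega, ?_⟩
  refine hdC.trans ?_
  congr 1
  omega

end Groth.Agent.S15246
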