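import Groth.Statements.S15247
import Groth.Agent.Lib.PolyFun45.Forms
import Groth.Agent.Lib.Dim.Basic

set_option autoImplicit false
open Fano

namespace Groth.Agent.S15247

open Lib.PolyFun45.Forms H83.LineExist

theorem choose_le_choose_of_le (N : ℕ) {a b : ℕ} (hab : a ≤ b) (hb : b ≤ N / 2) :
    N.choose a ≤ N.choose b := by
  induction b, hab using Nat.le_induction with
  | base => exact le_rfl
  | succ b _ ih => exact (ih (by omega)).trans (Nat.choose_le_succ_of_lt_half_left (by omega))

/-- Over ℂ, let Y be an irreducible closed subscheme of projective m-space of dimension m − d, where 1 ≤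
d and d + 1 ≤ m. Then the hypersurfaces of degree d + 1 containing Y form a linear family of
codimension at least m + 1 (that is, greater than m) in the projective space of all hypersurfaces of
degree d + 1. Here Y is given by a homogeneous ideal I of ℂ[x_0, …, x_m] whose radical is prime and
with dim ℂ[x_0, …, x_m]/I = m + 1 − d, a hypersurface contains Y when its form lies in I, and the
conclusion reads: the forms of degree d + 1 in I span a subspace of codimension at least m + 1 in
the space of all forms of degree d + 1. -/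
theorem result (m d : ℕ) (hd : 1 ≤ d) (hdm : d + 1 ≤ m)
    (I : Ideal (MvPolynomial (Fin (m + 1)) ℂ))
    (hI : I.IsHomogeneous (CohB1.polyGrading m ℂ))
    (hirr : I.radical.IsPrime)
    (hdim : ringKrullDim (MvPolynomial (Fin (m + 1)) ℂ ⧸ I) = ((m + 1 - d : ℕ) : WithBot ℕ∞)) :
    m + 1 + Module.finrank ℂ ↥(CohB1.polyGrading m ℂ (d + 1) ⊓ Submodule.restrictScalars ℂ I)
      ≤ Module.finrank ℂ (LefPen.Form m ℂ (d + 1)) := by
  classical
  let P := I.radical
  have hker : RingHom.ker (Ideal.Quotient.mk P) = P := Ideal.mk_ker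
  have hdP : ringKrullDim (MvPolynomial (Fin (m + 1)) ℂ ⧸ P) = ((m + 1 - d : ℕ) : WithBot ℕ∞) := by
    rw [← hdim, ringKrullDim_quotient, ringKrullDim_quotient, PrimeSpectrum.zeroLocus_radical]
  set x : Fin (m + 1) → MvPolynomial (Fin (m + 1)) ℂ ⧸ P := fun i =>
    Ideal.Quotient.mkₐ ℂ P (MvPolynomial.X i)
  have hgen : Algebra.adjoin ℂ (Set.range x) = ⊤ := by
    rw [Algebra.adjoin_range_eq_range_aeval, AlgHom.range_eq_top,
      show MvPolynomial.aeval x = Ideal.Quotient.mkₐ ℂ P from MvPolynomial.algHom_ext fun i => by simp [x]]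
    exact Ideal.Quotient.mkₐ_surjective _ _
  have halg : Algebra.IsAlgebraic (Algebra.adjoin ℂ (Set.range x)) (MvPolynomial (Fin (m + 1)) ℂ ⧸ P) :=
    ⟨fun z => isAlgebraic_algebraMap (⟨z, hgen ▸ Algebra.mem_top⟩ : Algebra.adjoin ℂ (Set.range x))⟩
  obtain ⟨s, hs, hb⟩ := exists_isTranscendenceBasis_subset (R := ℂ) (Set.range x)
  have hcard : Cardinal.mk s = (m + 1 - d : ℕ) := by
    rw [hb.cardinalMk_eq_trdeg, Lib.Dim.Basic.trdeg_eq_trdegNat]
    rw [Lib.Dim.Basic.ringKrullDim_eq_trdegNat ℂ] at hdP
    congr 1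
    exact_mod_cast hdP
  obtain ⟨es⟩ : Nonempty (Fin (m - d + 1) ≃ s) := by
    refine Cardinal.lift_mk_eq'.1 ?_
    simp [hcard, show m + 1 - d = m - d + 1 by omega]
  choose r hr using fun b => hs (es b).2
  have hrinj : Function.Injective r := fun a b h =>
    es.injective (Subtype.ext ((hr a).symm.trans ((congrArg x h).trans (hr b))))
  have hind : AlgebraicIndependent ℂ (x ∘ r) := by
    rw [show x ∘ r = Subtype.val ∘ es from funext fun b => hr b]
    exact hb.1.comp _ es.injective
  let mon : Idx (m - d) (d + 1) → LefPen.Form m ℂ (d + 1) := fun a =>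
    ⟨MvPolynomial.rename r (MvPolynomial.monomial a.1 1),
      (MvPolynomial.mem_homogeneousSubmodule _ _).2
        ((MvPolynomial.isHomogeneous_monomial _ a.2).rename_isHomogeneous)⟩
  let L : (Idx (m - d) (d + 1) → ℂ) →ₗ[ℂ] LefPen.Form m ℂ (d + 1) := Fintype.linearCombination ℂ mon
  have hval : ∀ c, (L c).1 = MvPolynomial.rename r (form c) := fun c => by
    rw [Fintype.linearCombination_apply, form, map_sum, AddSubmonoidClass.coe_finsetSum]
    refine Finset.sum_congr rfl fun a _ => ?_
    rw [SetLike.val_smul, ← map_smul, MvPolynomial.smul_monomial, smul_eq_mul, mul_one]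
  let φ : LefPen.Form m ℂ (d + 1) →ₗ[ℂ] MvPolynomial (Fin (m + 1)) ℂ ⧸ P :=
    (Ideal.Quotient.mkₐ ℂ P).toLinearMap.comp (CohB1.polyGrading m ℂ (d + 1)).subtype
  have hinj : Function.Injective (φ.comp L) := by
    rw [← LinearMap.ker_eq_bot, LinearMap.ker_eq_bot']
    intro c hc
    have h0 : form c = 0 := by
      refine (AlgebraicIndependent.eq_zero_of_aeval_eq_zero hind) _ ?_
      rw [← MvPolynomial.aeval_rename, show MvPolynomial.aeval x = Ideal.Quotient.mkₐ ℂ P from
        MvPolynomial.algHom_ext fun i => by simp [x], ← hval]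
      exact hc
    funext a
    have := congrArg (MvPolynomial.coeff a.1) h0
    simpa [coeff_form] using this
  have hrank : Nat.card (Idx (m - d) (d + 1)) ≤ Module.finrank ℂ (LinearMap.range φ) := by
    have h1 := LinearMap.finrank_range_of_inj hinj
    rw [Module.finrank_fintype_fun_eq_card, ← Nat.card_eq_fintype_card] at h1
    rw [← h1]
    have : Module.Finite ℂ (LefPen.Form m ℂ (d + 1)) := Module.Finite.equiv coef.symm
    exact Submodule.finrank_mono (LinearMap.range_comp_le_range _ _)
  have : Module.Finite ℂ (LefPen.Form m ℂ (d + 1)) := Module.Finite.equiv coef.symm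
  have hrn := LinearMap.finrank_range_add_finrank_ker φ
  have hle : Module.finrank ℂ ↥(CohB1.polyGrading m ℂ (d + 1) ⊓ Submodule.restrictScalars ℂ I) ≤
      Module.finrank ℂ (LinearMap.ker φ) := by
    let f : ↥(CohB1.polyGrading m ℂ (d + 1) ⊓ Submodule.restrictScalars ℂ I) →ₗ[ℂ] LinearMap.ker φ :=
      (Submodule.inclusion inf_le_left).codRestrict _ fun z =>
        Ideal.Quotient.eq_zero_iff_mem.2 (Ideal.le_radical z.2.2)
    exact LinearMap.finrank_le_finrank_of_injective (f := f) fun a b h =>
      Subtype.ext (congrArg (fun z => z.1.1) h)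
  have hc : m + 1 ≤ (m - d + (d + 1)).choose (d + 1) := by
    rw [show m - d + (d + 1) = m + 1 by omega]
    rcases Nat.lt_or_ge (d + 1) m with h | h
    · exact (Nat.choose_one_right (m + 1)).symm.le.trans (by
        rcases Nat.lt_or_ge ((m + 1) / 2) (d + 1) with h2 | h2
        · rw [← Nat.choose_symm (show d + 1 ≤ m + 1 by omega)]
          exact Groth.Agent.S15247.choose_le_choose_of_le _ (by omega) (by omega)
        · exact Groth.Agent.S15247.choose_le_choose_of_le _ (by omega) h2)
    · rw [show d + 1 = m by omega, Nat.choose_succ_self_right]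
  rw [card_idx] at hrank
  omega

end Groth.Agent.S15247
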