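import Groth.Statements.S15249
import Groth.Agent.Lib.PolyFun45.Lines
import Mathlib.Analysis.Complex.Polynomial.Basic

set_option autoImplicit false
open Fano

namespace Groth.Agent.S15249

/-- Over ℂ, let 1 ≤ d ≤ n − 3. For a general hypersurface X of degree d in projective n-space and every
point p of X, the lines contained in X and passing through p form a family of dimension at most n −
d − 1. Here X is given by a form Φ of degree d in n + 1 variables; general means on a set of forms
containing the non-vanishing locus of a nonzero polynomial function; a point of X is a nonzero zero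
v of Φ; and the family of lines through [v] on X is measured by the cone C_v of all w in ℂ^(n+1)
such that Φ vanishes identically on the span of v and w, whose codimension in ℂ^(n+1) is asked to be
at least d (C_v is the inverse image in ℂ^(n+1) of the affine cone over that family of lines, a
subset of the projective space of lines through [v], so this says the family has dimension at most n
− d − 1). (The published statement concludes that, for general X, the projection onto X of the
scheme of pointed lines on X is flat with fibres of dimension n − d − 1; this row states only the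
upper bound n − d − 1 on the dimension of the family of lines through each point of X.) -/
theorem result (n d : ℕ) (hd : 1 ≤ d) (hdn : d + 3 ≤ n) :
    LefPen.IsGeneric ℂ {Φ : LefPen.Form n ℂ d |
      ∀ v : Fin (n + 1) → ℂ, v ≠ 0 → MvPolynomial.eval v Φ.1 = 0 →
        LefPen.CodimGE ℂ {w : Fin (n + 1) → ℂ | ∀ s t : ℂ, MvPolynomial.eval (s • v + t • w) Φ.1 = 0} d} := by
  classical
  obtain ⟨m, rfl⟩ : ∃ m, n = m + 1 := ⟨n - 1, by omega⟩
  obtain ⟨g, hg0, hg⟩ := Lib.PolyFun45.Lines.exists_avoid (k := ℂ) (m := m) (d := d) (by omega)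
  refine Lib.PolyFun45.Basic.isGeneric_of Lib.PolyFun45.Forms.coef (p := g) hg0 fun Φ hΦ v hv hvΦ => ?_
  obtain ⟨r, hr⟩ := Function.ne_iff.1 hv
  simp only [Pi.zero_apply] at hr
  set v' : Fin (m + 1) → ℂ := fun a => v (r.succAbove a) / v r
  have hv' : r.insertNth (α := fun _ => ℂ) 1 v' = (v r)⁻¹ • v := funext fun i => by
    rcases Fin.eq_self_or_eq_succAbove r i with rfl | ⟨a, rfl⟩
    · simp [hr]
    · simp [v', div_eq_inv_mul]
  have hhom : Φ.1.IsHomogeneous d := (MvPolynomial.mem_homogeneousSubmodule _ _).1 Φ.2
  have hzero : MvPolynomial.eval (r.insertNth (α := fun _ => ℂ) 1 v') Φ.1 = 0 := by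
    rw [hv', MvPolynomial.eval_eq']
    have h1 : ∀ e ∈ Φ.1.support, MvPolynomial.coeff e Φ.1 * ∏ i, ((v r)⁻¹ • v) i ^ e i =
        (v r)⁻¹ ^ d * (MvPolynomial.coeff e Φ.1 * ∏ i, v i ^ e i) := fun e he => by
      have hdeg : e.degree = d := by
        by_contra h
        exact MvPolynomial.mem_support_iff.1 he (hhom.coeff_eq_zero h)
      simp only [Pi.smul_apply, smul_eq_mul, mul_pow, Finset.prod_mul_distrib]
      rw [Finset.prod_pow_eq_pow_sum, ← Finsupp.degree_eq_sum, hdeg]
      ring
    rw [Finset.sum_congr rfl h1, ← Finset.mul_sum, ← MvPolynomial.eval_eq', hvΦ, mul_zero]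
  set c := Lib.PolyFun45.Lines.expansion (d := d) r v' Φ.1
  have hgood : Lib.PolyFun45.Seq.Good d c := by
    by_contra hbad
    refine hΦ ?_
    rw [← hg r v' c hbad]
    refine congrArg (fun f => MvPolynomial.eval f g) (funext fun e => ?_)
    rw [Lib.PolyFun45.Lines.eval_P, Lib.PolyFun45.Lines.shift_expand r v' hhom hzero]
    rfl
  refine Lib.PolyFun45.Basic.codimGE_of (LinearEquiv.refl ℂ _) fun Q hQ hmem =>
    Lib.PolyFun45.Lines.height_cone (by omega) r v' hgood Q fun j => hmem _ fun w hw => ?_
  have hw' : ∀ s t : ℂ,
      MvPolynomial.eval (s • r.insertNth (α := fun _ => ℂ) 1 v' + t • w) Φ.1 = 0 := fun s t => by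
    rw [hv', smul_smul]
    exact hw _ t
  rw [LinearEquiv.refl_apply, Lib.PolyFun45.Basic.eval_comp,
    ← Lib.PolyFun45.Lines.eval_expansion r v' hhom hzero hw' j]
  refine congrArg (fun f => MvPolynomial.eval f _) (funext fun a => ?_)
  simp [mul_comm]

end Groth.Agent.S15249
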