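import Groth.Statements.S15252
import Groth.Agent.S14372
import Mathlib

set_option autoImplicit false
open Fano

namespace Groth.Agent.S15252

open MvPolynomial

theorem cubic_shape (g : MvPolynomial (Fin 3) ℂ) (hg : g.IsHomogeneous 3) :
    ∃ a : Fin 10 → ℂ, ∀ x : Fin 3 → ℂ, eval x g = a 0 * x 0 ^ 3 * x 1 ^ 0 * x 2 ^ 0 + a 1 * x 0 ^ 2 * x 1 ^ 1 * x 2 ^ 0 + a 2 * x 0 ^ 2 * x 1 ^ 0 * x 2 ^ 1 + a 3 * x 0 ^ 1 * x 1 ^ 2 * x 2 ^ 0 + a 4 * x 0 ^ 1 * x 1 ^ 1 * x 2 ^ 1 + a 5 * x 0 ^ 1 * x 1 ^ 0 * x 2 ^ 2 + a 6 * x 0 ^ 0 * x 1 ^ 3 * x 2 ^ 0 + a 7 * x 0 ^ 0 * x 1 ^ 2 * x 2 ^ 1 + a 8 * x 0 ^ 0 * x 1 ^ 1 * x 2 ^ 2 + a 9 * x 0 ^ 0 * x 1 ^ 0 * x 2 ^ 3 := by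
  classical
  have mono : ∀ (d : Fin 3 →₀ ℕ) (c : ℂ), d 0 + d 1 + d 2 = 3 →
      ∃ a : Fin 10 → ℂ, ∀ x : Fin 3 → ℂ, eval x (monomial d c) = a 0 * x 0 ^ 3 * x 1 ^ 0 * x 2 ^ 0 + a 1 * x 0 ^ 2 * x 1 ^ 1 * x 2 ^ 0 + a 2 * x 0 ^ 2 * x 1 ^ 0 * x 2 ^ 1 + a 3 * x 0 ^ 1 * x 1 ^ 2 * x 2 ^ 0 + a 4 * x 0 ^ 1 * x 1 ^ 1 * x 2 ^ 1 + a 5 * x 0 ^ 1 * x 1 ^ 0 * x 2 ^ 2 + a 6 * x 0 ^ 0 * x 1 ^ 3 * x 2 ^ 0 + a 7 * x 0 ^ 0 * x 1 ^ 2 * x 2 ^ 1 + a 8 * x 0 ^ 0 * x 1 ^ 1 * x 2 ^ 2 + a 9 * x 0 ^ 0 * x 1 ^ 0 * x 2 ^ 3 := by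
    intro d c hd
    have he : ∀ x : Fin 3 → ℂ, eval x (monomial d c) = c * (x 0 ^ d 0 * x 1 ^ d 1 * x 2 ^ d 2) := by
      intro x
      rw [eval_monomial, Finsupp.prod_fintype _ _ (by simp), Fin.prod_univ_three]
    simp only [he]
    obtain h | h | h | h | h | h | h | h | h | h :
        (d 0 = 3 ∧ d 1 = 0 ∧ d 2 = 0) ∨ (d 0 = 2 ∧ d 1 = 1 ∧ d 2 = 0) ∨ (d 0 = 2 ∧ d 1 = 0 ∧ d 2 = 1) ∨ (d 0 = 1 ∧ d 1 = 2 ∧ d 2 = 0) ∨ (d 0 = 1 ∧ d 1 = 1 ∧ d 2 = 1) ∨ (d 0 = 1 ∧ d 1 = 0 ∧ d 2 = 2) ∨ (d 0 = 0 ∧ d 1 = 3 ∧ d 2 = 0) ∨ (d 0 = 0 ∧ d 1 = 2 ∧ d 2 = 1) ∨ (d 0 = 0 ∧ d 1 = 1 ∧ d 2 = 2) ∨ (d 0 = 0 ∧ d 1 = 0 ∧ d 2 = 3) := by omega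
    · exact ⟨Pi.single 0 c, fun x => by simp [h.1, h.2.1, h.2.2, Pi.single_apply, Fin.ext_iff, mul_assoc]⟩
    · exact ⟨Pi.single 1 c, fun x => by simp [h.1, h.2.1, h.2.2, Pi.single_apply, Fin.ext_iff, mul_assoc]⟩
    · exact ⟨Pi.single 2 c, fun x => by simp [h.1, h.2.1, h.2.2, Pi.single_apply, Fin.ext_iff, mul_assoc]⟩
    · exact ⟨Pi.single 3 c, fun x => by simp [h.1, h.2.1, h.2.2, Pi.single_apply, Fin.ext_iff, mul_assoc]⟩
    · exact ⟨Pi.single 4 c, fun x => by simp [h.1, h.2.1, h.2.2, Pi.single_apply, Fin.ext_iff, mul_assoc]⟩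
    · exact ⟨Pi.single 5 c, fun x => by simp [h.1, h.2.1, h.2.2, Pi.single_apply, Fin.ext_iff, mul_assoc]⟩
    · exact ⟨Pi.single 6 c, fun x => by simp [h.1, h.2.1, h.2.2, Pi.single_apply, Fin.ext_iff, mul_assoc]⟩
    · exact ⟨Pi.single 7 c, fun x => by simp [h.1, h.2.1, h.2.2, Pi.single_apply, Fin.ext_iff, mul_assoc]⟩
    · exact ⟨Pi.single 8 c, fun x => by simp [h.1, h.2.1, h.2.2, Pi.single_apply, Fin.ext_iff, mul_assoc]⟩
    · exact ⟨Pi.single 9 c, fun x => by simp [h.1, h.2.1, h.2.2, Pi.single_apply, Fin.ext_iff, mul_assoc]⟩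
  suffices ∀ (S : Finset (Fin 3 →₀ ℕ)), (∀ d ∈ S, d 0 + d 1 + d 2 = 3) →
      ∃ a : Fin 10 → ℂ, ∀ x : Fin 3 → ℂ, eval x (∑ d ∈ S, monomial d (coeff d g)) = a 0 * x 0 ^ 3 * x 1 ^ 0 * x 2 ^ 0 + a 1 * x 0 ^ 2 * x 1 ^ 1 * x 2 ^ 0 + a 2 * x 0 ^ 2 * x 1 ^ 0 * x 2 ^ 1 + a 3 * x 0 ^ 1 * x 1 ^ 2 * x 2 ^ 0 + a 4 * x 0 ^ 1 * x 1 ^ 1 * x 2 ^ 1 + a 5 * x 0 ^ 1 * x 1 ^ 0 * x 2 ^ 2 + a 6 * x 0 ^ 0 * x 1 ^ 3 * x 2 ^ 0 + a 7 * x 0 ^ 0 * x 1 ^ 2 * x 2 ^ 1 + a 8 * x 0 ^ 0 * x 1 ^ 1 * x 2 ^ 2 + a 9 * x 0 ^ 0 * x 1 ^ 0 * x 2 ^ 3 by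
    obtain ⟨a, ha⟩ := this g.support (fun d hd => by
      have := hg (mem_support_iff.1 hd)
      rw [Finsupp.weight_apply, Finsupp.sum_fintype _ _ (by simp), Fin.sum_univ_three] at this
      simpa using this)
    exact ⟨a, fun x => by rw [← ha x, ← g.as_sum]⟩
  intro S
  induction S using Finset.induction_on with
  | empty => exact fun _ => ⟨0, fun x => by simp⟩
  | insert d S hd ih =>
    intro h
    obtain ⟨a, ha⟩ := ih fun e he => h e (Finset.mem_insert_of_mem he)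
    obtain ⟨b, hb⟩ := mono d (coeff d g) (h d (Finset.mem_insert_self _ _))
    exact ⟨a + b, fun x => by
      rw [Finset.sum_insert hd, map_add, ha, hb]
      simp only [Pi.add_apply]
      ring⟩

theorem plane_key (g : MvPolynomial (Fin 3) ℂ) (hg : g.IsHomogeneous 3)
    (h1 : ∀ x y : ℂ, eval ![x, y, 0] g = 0) (h2 : ∀ x y : ℂ, eval ![x, 0, y] g = 0)
    (hne : ∃ x, eval x g ≠ 0) :
    ∃ t0 : ℂ, ∀ t s : ℂ, (∀ x1 x2 : ℂ, eval ![x1 * t + x2 * s, x1, x2] g = 0) → t = t0 := by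
  obtain ⟨a, ha⟩ := cubic_shape g hg
  have p1 := h1 1 0
  have p2 := h1 0 1
  have p3 := h1 1 1
  have p4 := h1 1 (-1)
  have q2 := h2 0 1
  have q3 := h2 1 1
  have q4 := h2 1 (-1)
  simp [ha] at p1 p2 p3 p4 q2 q3 q4
  refine ⟨-(a 7) / a 4, fun t s h => ?_⟩
  have r1 := h 1 1
  have r2 := h 1 (-1)
  have r3 := h 2 1
  simp [ha] at r1 r2 r3
  have b0 : a 0 = 0 := p1
  have b6 : a 6 = 0 := p2
  have b9 : a 9 = 0 := q2
  have b1 : a 1 = 0 := by linear_combination (1/2 : ℂ) * p3 - (1/2 : ℂ) * p4 - b6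
  have b3 : a 3 = 0 := by linear_combination (1/2 : ℂ) * p3 + (1/2 : ℂ) * p4 - b0
  have b2 : a 2 = 0 := by linear_combination (1/2 : ℂ) * q3 - (1/2 : ℂ) * q4 - b9
  have b5 : a 5 = 0 := by linear_combination (1/2 : ℂ) * q3 + (1/2 : ℂ) * q4 - b0
  simp [b0, b1, b2, b3, b5, b6, b9] at r1 r2 r3
  have e1 : a 4 * t + a 7 = 0 := by linear_combination (1/2:ℂ) * r3 - r1
  by_cases h4 : a 4 = 0
  · exfalso
    have b7 : a 7 = 0 := by linear_combination e1 - t * h4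
    have b8 : a 8 = 0 := by linear_combination r1 - e1 - s * h4
    obtain ⟨x, hx⟩ := hne
    exact hx (by simp [ha, b0, b1, b2, b3, b5, b6, b9, h4, b7, b8])
  · rw [eq_div_iff h4]
    linear_combination e1

/-- Let X be a smooth cubic hypersurface in projective 4-space over ℂ and let L₁, L₂ be two distinct
lines on X which meet. Then there is a finite set G of points of L₁ such that every line on X
meeting both L₁ and L₂ passes through a point of G. Here X is given by a cubic form f in five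
variables satisfying the Jacobian smoothness condition at every nonzero zero, a line on X is a
2-dimensional subspace of ℂ^5 on which f vanishes, two lines meet when the subspaces intersect
non-trivially, and a point of L₁ is a 1-dimensional subspace of it. (The published statement also
covers two disjoint lines; this row assumes that L₁ and L₂ meet.) -/
theorem result
    (f : MvPolynomial (Fin 5) ℂ) (hf : f.IsHomogeneous 3)
    (hsm : ∀ u : Fin 5 → ℂ, u ≠ 0 → MvPolynomial.eval u f = 0 →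
      ∃ i : Fin 5, MvPolynomial.eval u (MvPolynomial.pderiv i f) ≠ 0)
    (L₁ L₂ : Submodule ℂ (Fin 5 → ℂ)) (h₁ : Module.finrank ℂ ↥L₁ = 2) (h₂ : Module.finrank ℂ ↥L₂ = 2)
    (hf₁ : ∀ u ∈ L₁, MvPolynomial.eval u f = 0) (hf₂ : ∀ u ∈ L₂, MvPolynomial.eval u f = 0)
    (hne : L₁ ≠ L₂) (hmeet : L₁ ⊓ L₂ ≠ ⊥) :
    ∃ G : Set (Submodule ℂ (Fin 5 → ℂ)), G.Finite ∧ (∀ g ∈ G, Module.finrank ℂ ↥g = 1 ∧ g ≤ L₁) ∧
      ∀ L : Submodule ℂ (Fin 5 → ℂ), Module.finrank ℂ ↥L = 2 → (∀ u ∈ L, MvPolynomial.eval u f = 0) →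
        L ⊓ L₁ ≠ ⊥ → L ⊓ L₂ ≠ ⊥ → ∃ g ∈ G, g ≤ L := by
  classical
  have hPi : ∀ W : Submodule ℂ (Fin 5 → ℂ), 3 ≤ Module.finrank ℂ ↥W →
      ∃ u ∈ W, MvPolynomial.eval u f ≠ 0 := by
    intro W hW
    by_contra hc
    push Not at hc
    have := Groth.Agent.S14372.result ℂ 4 3 (by norm_num) f hf W hc
      (fun u hu h0 => hsm u h0 (hc u hu))
    exact absurd (le_trans (Nat.mul_le_mul_left 2 hW) this) (by norm_num)
  obtain ⟨p, hp, hp0⟩ := Submodule.exists_mem_ne_zero_of_ne_bot hmeet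
  obtain ⟨hp1, hp2⟩ := Submodule.mem_inf.1 hp
  have hinf : Module.finrank ℂ ↥(L₁ ⊓ L₂) < 2 := by
    have : L₁ ⊓ L₂ < L₁ := lt_of_le_of_ne inf_le_left fun h => hne <|
      Submodule.eq_of_le_of_finrank_le (inf_eq_left.1 h) (by omega)
    have := Submodule.finrank_lt_finrank_of_lt this
    omega
  have hspan : L₁ ⊓ L₂ = Submodule.span ℂ {p} := (Submodule.eq_of_le_of_finrank_le
    ((Submodule.span_singleton_le_iff_mem _ _).2 hp) (by rw [finrank_span_singleton hp0]; omega)).symm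
  have hline : ∀ M : Submodule ℂ (Fin 5 → ℂ), Module.finrank ℂ ↥M = 2 → p ∈ M →
      ∃ e ∈ M, (∀ w ∈ M, ∃ x y : ℂ, w = x • p + y • e) ∧ e ∉ Submodule.span ℂ {p} := by
    intro M hM hpM
    have hlt : Submodule.span ℂ {p} < M := lt_of_le_of_ne
      ((Submodule.span_singleton_le_iff_mem _ _).2 hpM) fun h => by
        rw [← h, finrank_span_singleton hp0] at hM; omega
    obtain ⟨e, he, he'⟩ := SetLike.exists_of_lt hlt
    refine ⟨e, he, fun w hw => ?_, he'⟩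
    have hle : Submodule.span ℂ {p, e} ≤ M := Submodule.span_le.2 (by
      rintro z (rfl | rfl) <;> assumption)
    have hlt2 : Submodule.span ℂ {p} < Submodule.span ℂ {p, e} := lt_of_le_of_ne
      (Submodule.span_mono (by simp)) fun h => he' (h ▸ Submodule.subset_span (by simp))
    have := Submodule.finrank_lt_finrank_of_lt hlt2
    rw [finrank_span_singleton hp0] at this
    rw [← Submodule.eq_of_le_of_finrank_le hle (by omega)] at hw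
    obtain ⟨x, y, hxy⟩ := Submodule.mem_span_pair.1 hw
    exact ⟨x, y, hxy.symm⟩
  obtain ⟨e1, he1, hb1, hn1⟩ := hline L₁ h₁ hp1
  obtain ⟨e2, he2, hb2, hn2⟩ := hline L₂ h₂ hp2
  let E : Fin 5 → MvPolynomial (Fin 3) ℂ := fun i =>
    MvPolynomial.C (p i) * MvPolynomial.X 0 + MvPolynomial.C (e1 i) * MvPolynomial.X 1 +
      MvPolynomial.C (e2 i) * MvPolynomial.X 2
  let g := MvPolynomial.aeval E f
  have hg : g.IsHomogeneous 3 := by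
    refine hf.aeval E (n := 1) fun i => ?_
    refine (MvPolynomial.IsHomogeneous.add ?_ ?_).add ?_ <;>
      exact (MvPolynomial.isHomogeneous_X _ _).C_mul _
  have hev : ∀ x : Fin 3 → ℂ,
      MvPolynomial.eval x g = MvPolynomial.eval (x 0 • p + x 1 • e1 + x 2 • e2) f := by
    intro x
    show (MvPolynomial.aeval x : MvPolynomial (Fin 3) ℂ →ₐ[ℂ] ℂ) (MvPolynomial.aeval E f) = _
    rw [← AlgHom.comp_apply, MvPolynomial.comp_aeval, MvPolynomial.aeval_eq_eval]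
    congr 2
    funext i
    simp [E]
    ring
  obtain ⟨t0, ht0⟩ := plane_key g hg
    (fun x y => by rw [hev]; simpa using hf₁ _ (L₁.add_mem (L₁.smul_mem x hp1) (L₁.smul_mem y he1)))
    (fun x y => by rw [hev]; simpa using hf₂ _ (L₂.add_mem (L₂.smul_mem x hp2) (L₂.smul_mem y he2)))
    (by
      have hlt : L₁ < L₁ ⊔ L₂ := lt_of_le_of_ne le_sup_left fun h => hne <|
        (Submodule.eq_of_le_of_finrank_le (sup_eq_left.1 h.symm) (by omega)).symm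
      obtain ⟨u, hu, hu0⟩ := hPi (L₁ ⊔ L₂) (by
        have := Submodule.finrank_lt_finrank_of_lt hlt
        omega)
      obtain ⟨v, hv, w, hw, rfl⟩ := Submodule.mem_sup.1 hu
      obtain ⟨a, b, rfl⟩ := hb1 v hv
      obtain ⟨c, d, rfl⟩ := hb2 w hw
      refine ⟨![a + c, b, d], ?_⟩
      rw [hev]
      convert hu0 using 3
      simp [add_smul]
      abel)
  have hz : t0 • p + e1 ≠ 0 := fun h => hn1 <| Submodule.mem_span_singleton.2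
    ⟨-t0, by rw [neg_smul]; exact (eq_neg_of_add_eq_zero_right h).symm⟩
  refine ⟨{Submodule.span ℂ {p}, Submodule.span ℂ {t0 • p + e1}}, by simp, ?_, ?_⟩
  · rintro G (rfl | rfl)
    · exact ⟨finrank_span_singleton hp0, (Submodule.span_singleton_le_iff_mem _ _).2 hp1⟩
    · exact ⟨finrank_span_singleton hz, (Submodule.span_singleton_le_iff_mem _ _).2
        (L₁.add_mem (L₁.smul_mem _ hp1) he1)⟩
  intro L _ hfL hm1 hm2
  by_cases hpL : p ∈ L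
  · exact ⟨_, Or.inl rfl, (Submodule.span_singleton_le_iff_mem _ _).2 hpL⟩
  obtain ⟨a, ha, ha0⟩ := Submodule.exists_mem_ne_zero_of_ne_bot hm1
  obtain ⟨b, hb, hb0⟩ := Submodule.exists_mem_ne_zero_of_ne_bot hm2
  obtain ⟨haL, ha1⟩ := Submodule.mem_inf.1 ha
  obtain ⟨hbL, hb2'⟩ := Submodule.mem_inf.1 hb
  have norm : ∀ (e v : Fin 5 → ℂ) (x y : ℂ), v ∈ L → v ≠ 0 → v = x • p + y • e →
      (x / y) • p + e ∈ L := by
    intro e v x y hv hv0 h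
    have hy : y ≠ 0 := by
      rintro rfl
      rw [zero_smul, add_zero] at h
      have hx : x ≠ 0 := fun hx => hv0 (by rw [h, hx, zero_smul])
      exact hpL ((L.smul_mem_iff hx).1 (h ▸ hv))
    have : (x / y) • p + e = y⁻¹ • v := by
      rw [h, smul_add, smul_smul, smul_smul, inv_mul_cancel₀ hy, one_smul, div_eq_inv_mul]
    rw [this]
    exact L.smul_mem _ hv
  obtain ⟨x, y, hxy⟩ := hb1 a ha1
  obtain ⟨x', y', hxy'⟩ := hb2 b hb2'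
  have hA := norm e1 a x y haL ha0 hxy
  have hB := norm e2 b x' y' hbL hb0 hxy'
  have ht := ht0 (x / y) (x' / y') fun x1 x2 => by
    rw [hev]
    convert hfL _ (L.add_mem (L.smul_mem x1 hA) (L.smul_mem x2 hB)) using 3
    simp [add_smul, smul_add, mul_smul]
    abel
  exact ⟨_, Or.inr rfl, (Submodule.span_singleton_le_iff_mem _ _).2 (ht ▸ hA)⟩

end Groth.Agent.S15252
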