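import Groth.Statements.S15253
import Groth.Agent.Lib.Exchange.HomAdj
import Groth.Agent.Lib.Cyc.Dev.Scheme
import Groth.Agent.Lib.Cyc.SheafLen
import Groth.Agent.Lib.Curves.GlobalSections
import Groth.Agent.Lib.CurveFF.SkySections
import Groth.Agent.Lib.Modules.UnitKer
import Groth.Agent.Lib.SurfInt.JPow
import Groth.Agent.Lib.SurfFactor85.Main
import Groth.Agent.H19.IntMult.DiagChi

set_option autoImplicit false
universe u
open CategoryTheory CategoryTheory.Limits AlgebraicGeometry TopologicalSpace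
open W4c2seshadripos

namespace Groth.Agent.S15253

open CategoryTheory.Limits TopologicalSpace Opposite IsLocalRing
open scoped TensorProduct
open Groth.Agent.Lib Groth.Agent.Lib.Modules.StalkModule

/-- Adding the degrees of two approximation properties. -/
theorem approx_tmul {R M N : Type u} [CommRing R] [AddCommGroup M] [Module R M] [AddCommGroup N] [Module R N]
    (I : Ideal R) (SM : Set M) (SN : Set N) (A : AddSubgroup (M ⊗[R] N))
    (hA : ∀ s ∈ SM, ∀ t ∈ SN, s ⊗ₜ[R] t ∈ A) (i j : ℕ)
    (hM : ∀ a : M, ∃ s ∈ SM, a - s ∈ I ^ (i + 1) • (⊤ : Submodule R M))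
    (hN : ∀ b : N, ∃ t ∈ SN, b - t ∈ I ^ (j + 1) • (⊤ : Submodule R N)) (z : M ⊗[R] N) :
    ∃ a ∈ A, z - a ∈ I ^ (i + j + 1) • (⊤ : Submodule R (M ⊗[R] N)) := by
  set P : ℕ → AddSubgroup (M ⊗[R] N) := fun d => (I ^ d • (⊤ : Submodule R (M ⊗[R] N))).toAddSubgroup
  have hsmul : ∀ (d e : ℕ) (x : M) (y : N), x ∈ I ^ d • (⊤ : Submodule R M) → y ∈ I ^ e • (⊤ : Submodule R N) →
      x ⊗ₜ[R] y ∈ P (d + e) := by
    intro d e x y hx hy
    show x ⊗ₜ[R] y ∈ I ^ (d + e) • (⊤ : Submodule R (M ⊗[R] N))
    refine Submodule.smul_induction_on hx (fun r hr m _ => ?_) (fun a b ha hb => ?_)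
    · refine Submodule.smul_induction_on hy (fun q hq n _ => ?_) (fun a b ha hb => ?_)
      · rw [TensorProduct.tmul_smul, TensorProduct.smul_tmul', smul_smul, ← TensorProduct.smul_tmul']
        exact Submodule.smul_mem_smul (by rw [pow_add, mul_comm q r]; exact Ideal.mul_mem_mul hr hq) trivial
      · rw [TensorProduct.tmul_add]; exact add_mem ha hb
    · rw [TensorProduct.add_tmul]; exact add_mem ha hb
  have hanti : ∀ {d e : ℕ}, d ≤ e → P e ≤ P d := fun h x hx =>
    Submodule.smul_mono_left (Ideal.pow_le_pow_right h) hx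
  have step : ∀ d, d ≤ i + j → P d ≤ A ⊔ P (d + 1) := by
    intro d hd z hz
    obtain ⟨α, β, rfl, hα, hβ⟩ : ∃ α β, d = α + β ∧ α ≤ i ∧ β ≤ j :=
      ⟨min d i, d - min d i, by omega, by omega, by omega⟩
    change z ∈ I ^ (α + β) • (⊤ : Submodule R (M ⊗[R] N)) at hz
    refine Submodule.smul_induction_on hz (fun r hr w _ => ?_) (fun a b ha hb => add_mem ha hb)
    rw [pow_add] at hr
    refine Submodule.mul_induction_on hr (fun p hp q hq => ?_)
      (fun a b ha hb => by rw [add_smul]; exact add_mem ha hb)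
    induction w using TensorProduct.induction_on with
    | zero => rw [smul_zero]; exact zero_mem _
    | add x y hx hy => rw [smul_add]; exact add_mem (hx trivial) (hy trivial)
    | tmul x y =>
      rw [show (p * q) • (x ⊗ₜ[R] y) = (p • x) ⊗ₜ[R] (q • y) from TensorProduct.smul_tmul_smul p q x y |>.symm]
      have hpx : p • x ∈ I ^ α • (⊤ : Submodule R M) := Submodule.smul_mem_smul hp trivial
      have hqy : q • y ∈ I ^ β • (⊤ : Submodule R N) := Submodule.smul_mem_smul hq trivial
      obtain ⟨s, hs, hs'⟩ := hM (p • x)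
      obtain ⟨t, ht, ht'⟩ := hN (q • y)
      have hsα : s ∈ I ^ α • (⊤ : Submodule R M) := by
        have := sub_mem hpx (Submodule.smul_mono_left (Ideal.pow_le_pow_right (by omega : α ≤ i + 1)) hs')
        rwa [sub_sub_cancel] at this
      have e : (p • x) ⊗ₜ[R] (q • y) = s ⊗ₜ[R] t + ((p • x - s) ⊗ₜ[R] (q • y) + s ⊗ₜ[R] (q • y - t)) := by
        rw [TensorProduct.sub_tmul, TensorProduct.tmul_sub]; abel
      rw [e]
      refine add_mem (AddSubgroup.mem_sup_left (hA s hs t ht)) (AddSubgroup.mem_sup_right (add_mem ?_ ?_))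
      · exact hanti (by omega) (hsmul (i + 1) β _ _ hs' hqy)
      · exact hanti (by omega) (hsmul α (j + 1) _ _ hsα ht')
  have key : ∀ d, d ≤ i + j + 1 → P 0 ≤ A ⊔ P d := by
    intro d
    induction d with
    | zero => exact fun _ => le_sup_right
    | succ d ih => exact fun hd => (ih (by omega)).trans (sup_le le_sup_left (step d (by omega)))
  have hz : z ∈ P 0 := by show z ∈ I ^ 0 • (⊤ : Submodule R (M ⊗[R] N)); simp
  obtain ⟨a, ha, b, hb, rfl⟩ := AddSubgroup.mem_sup.1 (key _ le_rfl hz)
  exact ⟨a, ha, by rwa [add_sub_cancel_left]⟩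

variable {X : Scheme.{u}} (x : X) (hx : IsClosed ({x} : Set X))

/-- The germs of global sections approximate the stalk to order `n`. -/
def Approx (F : X.Modules) (n : ℕ) : Prop :=
  ∀ v : F.presheaf.stalk x, ∃ t : Γ(F, ⊤), v - F.presheaf.germ ⊤ x trivial t ∈
    maximalIdeal (X.presheaf.stalk x) ^ n • (⊤ : Submodule (X.presheaf.stalk x) (F.presheaf.stalk x))

/-- The kernel of `F → F|_Z` on the stalk at a point of `Z`. -/
theorem mem_smul_iff_unit_eq_zero (I : X.IdealSheafData) (F : X.Modules) (z : I.subscheme)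
    (v : F.presheaf.stalk (I.subschemeι z)) :
    v ∈ Ideal.Prime.stalkIdeal I (I.subschemeι z) •
        (⊤ : Submodule (X.presheaf.stalk (I.subschemeι z)) (F.presheaf.stalk (I.subschemeι z))) ↔
      stalkMapₗ (Modules.UnitKer.η I F) (I.subschemeι z) v = 0 := by
  have hker : RingHom.ker (I.subschemeι.stalkMap z).hom = Ideal.Prime.stalkIdeal I (I.subschemeι z) := by
    rw [← H19.IntMult.DiagChi.stalkIdeal_ker_closed I.subschemeι z, Scheme.IdealSheafData.ker_subschemeι]
    rfl
  constructor
  · intro hv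
    refine Submodule.smul_induction_on hv (fun r hr m _ => ?_) (fun a b ha hb => by rw [map_add, ha, hb, add_zero])
    rw [map_smul]
    apply (Cyc.SheafLen.pushStalk_bijective I.subschemeι ((Scheme.Modules.pullback I.subschemeι).obj F) z).1
    refine ((Cyc.SheafLen.pushStalk_smul I.subschemeι _ z r _).trans ?_).trans (map_zero _).symm
    have h0 : I.subschemeι.stalkMap z r = 0 := by
      rw [← hker] at hr
      exact hr
    rw [h0, zero_smul]
  · intro hv
    have h := Cyc.Dev.SchemeCase.stalk_kernel_unit_le I.subschemeι F z v hv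
    rwa [hker] at h

set_option maxHeartbeats 800000 in
/-- Restriction on `H⁰` is surjective exactly when it is so on global sections. -/
theorem surjective_map_H_zero {M N : X.Modules} (φ : M ⟶ N) :
    Function.Surjective (Sheaf.H.map ((SheafOfModules.toSheaf X.ringCatSheaf).map φ) 0) ↔
      Function.Surjective (φ.app ⊤) := by
  have hn : ∀ w : Coh.HH X M 0, Curves.GlobalSections.h0Equiv N
      (Sheaf.H.map ((SheafOfModules.toSheaf X.ringCatSheaf).map φ) 0 w) =
      φ.app ⊤ (Curves.GlobalSections.h0Equiv M w) := fun w => by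
    change Sheaf.H.equiv₀ (Coh.toAb N) _
      (Sheaf.H.map ((SheafOfModules.toSheaf X.ringCatSheaf).map φ) 0 w) = _
    rw [← Sheaf.H.equiv₀_naturality]
    rfl
  constructor
  · intro h q
    obtain ⟨w, hw⟩ := h ((Curves.GlobalSections.h0Equiv N).symm q)
    exact ⟨Curves.GlobalSections.h0Equiv M w, by rw [← hn, hw]; exact AddEquiv.apply_symm_apply _ _⟩
  · intro h q
    obtain ⟨t, ht⟩ := h (Curves.GlobalSections.h0Equiv N q)
    exact ⟨(Curves.GlobalSections.h0Equiv M).symm t, (Curves.GlobalSections.h0Equiv N).injective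
      ((hn _).trans ((congrArg (φ.app ⊤) (AddEquiv.apply_symm_apply _ _)).trans ht))⟩

theorem separatesJets_iff (F : X.Modules) (l : ℕ) :
    W4c2seshadripos.SeparatesJets F x hx l ↔ Approx x F (l + 1) := by
  set I := W4c2seshadripos.pointIdeal x hx ^ (l + 1) with hI
  let Q := (Modules.UnitKer.onD I).obj F
  let η : F ⟶ Q := Modules.UnitKer.η I F
  have hst : Ideal.Prime.stalkIdeal I x = maximalIdeal (X.presheaf.stalk x) ^ (l + 1) := by
    rw [hI, SurfInt.JPow.stalkIdeal_pow]
    exact congrArg (· ^ (l + 1)) (SurfFactor85.Main.stalkIdeal_vanishingIdeal_self x hx)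
  have hsupp : (I.support : Set X) = {x} := by
    rw [hI, Scheme.IdealSheafData.support_pow_succ]
    simp [W4c2seshadripos.pointIdeal]
  obtain ⟨z, hz⟩ : x ∈ Set.range I.subschemeι := by
    rw [Scheme.IdealSheafData.range_subschemeι, hsupp]; rfl
  have hkill : ∀ v : F.presheaf.stalk x,
      v ∈ maximalIdeal (X.presheaf.stalk x) ^ (l + 1) • (⊤ : Submodule (X.presheaf.stalk x) (F.presheaf.stalk x)) ↔
        stalkMapₗ η x v = 0 := by
    have hk := mem_smul_iff_unit_eq_zero I F z
    rw [hz, hst] at hk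
    exact hk
  have hoff : ∀ y : X, y ∉ ({x} : Finset X) → Subsingleton (Q.presheaf.stalk y) := fun y hy =>
    Cyc.SheafLen.subsingleton_push_stalk I.subschemeι _ {x} hx
      (fun w _ => by
        have hw : I.subschemeι w ∈ Set.range I.subschemeι := ⟨w, rfl⟩
        rw [Scheme.IdealSheafData.range_subschemeι, hsupp] at hw
        exact hw)
      y (by simpa using hy)
  have hbij := CurveFF.SkySections.bijective_germs Q ({x} : Finset X)
    (fun y hy => by rw [Finset.mem_singleton.1 hy]; exact hx) hoff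
  have hgerm : ∀ t : Γ(F, ⊤), stalkMapₗ η x (F.presheaf.germ ⊤ x trivial t) =
      Q.presheaf.germ ⊤ x trivial (η.app ⊤ t) := fun t => stalkMapₗ_germ η _ t
  refine (surjective_map_H_zero η).trans ?_
  constructor
  · intro h v
    obtain ⟨q, hq⟩ := hbij.2 fun y => by
      rcases y with ⟨y, hy⟩
      exact (Finset.mem_singleton.1 hy) ▸ stalkMapₗ η x v
    obtain ⟨t, rfl⟩ := h q
    refine ⟨t, (hkill _).2 ?_⟩
    rw [map_sub, hgerm]
    have := congrFun hq ⟨x, Finset.mem_singleton_self x⟩
    rw [sub_eq_zero]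
    exact this.symm
  · intro h q
    obtain ⟨v, hv⟩ := (Modules.Stalk.epi_iff_stalk_surjective η).1 inferInstance x (Q.presheaf.germ ⊤ x trivial q)
    obtain ⟨t, ht⟩ := h v
    refine ⟨t, hbij.1 (funext fun y => ?_)⟩
    obtain ⟨y, hy⟩ := y
    obtain rfl := Finset.mem_singleton.1 hy
    have h0 := (hkill _).1 ht
    exact ((hgerm t).symm.trans (sub_eq_zero.1 ((map_sub (stalkMapₗ η y) _ _).symm.trans h0)).symm).trans hv

/-- Let X be a scheme, x a closed point of X with ideal sheaf m_x, and F, G quasi-coherent O_X-modules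
of finite type (coherent modules when X is locally Noetherian). A module M separates l-jets at x
when the restriction map H^0(X, M) → H^0(X, M / m_x^(l+1) M) is surjective. If F separates i-jets at
x and G separates j-jets at x, with i, j ≥ 0, then F ⊗ G separates (i+j)-jets at x; in other words
s(F; x) + s(G; x) ≤ s(F ⊗ G; x) whenever both terms are ≥ 0, where s(M; x) is the largest l such
that M separates l-jets at x. -/
theorem result (X : Scheme.{u}) (x : X) (hx : IsClosed ({x} : Set X))
    (F G : X.Modules) (hF : Coh.IsCoh F) (hG : Coh.IsCoh G) (i j : ℕ)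
    (hi : W4c2seshadripos.SeparatesJets F x hx i) (hj : W4c2seshadripos.SeparatesJets G x hx j) :
    W4c2seshadripos.SeparatesJets (CohB1.tensorMod F G) x hx (i + j) := by
  rw [separatesJets_iff] at hi hj ⊢
  intro v
  let e := DerivedOX.TensorSheaf.tensorStalk x F G
  let A : AddSubgroup (F.presheaf.stalk x ⊗[X.presheaf.stalk x] G.presheaf.stalk x) :=
    (e.toLinearMap.toAddMonoidHom.comp
      ((CohB1.tensorMod F G).presheaf.germ ⊤ x trivial).hom).range
  obtain ⟨a, ⟨t, rfl⟩, ht⟩ := approx_tmul (maximalIdeal (X.presheaf.stalk x))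
    (Set.range fun s : Γ(F, ⊤) => F.presheaf.germ ⊤ x trivial s)
    (Set.range fun s : Γ(G, ⊤) => G.presheaf.germ ⊤ x trivial s) A
    (by
      rintro _ ⟨s, rfl⟩ _ ⟨r, rfl⟩
      exact ⟨TensorMod.Free.pairM (𝟙 _) s r, ZarCoh.Exchange.HomAdj.tensorStalk_germ _ s r⟩)
    i j (fun a => (hi a).elim fun s hs => ⟨_, ⟨s, rfl⟩, hs⟩)
    (fun b => (hj b).elim fun s hs => ⟨_, ⟨s, rfl⟩, hs⟩) (e v)
  refine ⟨t, ?_⟩
  have hm := Submodule.mem_map_of_mem (f := e.symm.toLinearMap) ht
  rw [Submodule.map_smul'', Submodule.map_top, LinearEquiv.range, map_sub] at hm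
  have h1 : e.symm (e v) = v := LinearEquiv.symm_apply_apply e v
  have h2 : ∀ w, e.symm (e w) = w := fun w => LinearEquiv.symm_apply_apply e w
  exact (congrArg₂ (· - ·) h1 (h2 _)) ▸ hm

end Groth.Agent.S15253
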