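import Groth.Statements.S15254
import Groth.Agent.Lib.SurfInt.Bound
import Groth.Agent.Lib.SurfInt.AmpleVanish
-- import your own Groth.Agent.* helpers here

set_option autoImplicit false
set_option linter.style.haveILetI false
universe u
open CategoryTheory CategoryTheory.Limits AlgebraicGeometry TopologicalSpace
open W4c2seshadripos

namespace Groth.Agent.S15254

/-- Let X be an integral scheme proper over a field k (the published statement: a projective variety), x
a closed point of X with ideal sheaf m_x, and L an ample invertible O_X-module. Then there is m₀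
such that for every m ≥ m₀, every i > 1 and every a ≥ 0 the cohomology group H^i(X, m_x^a ⊗ L^{⊗m})
vanishes (here m_x^a ⊗ L^{⊗m} = m_x^a · L^{⊗m}, the ideal sheaf m_x^a being taken as an O_X-module). -/
theorem result (k : Type u) [Field k] (X : Scheme.{u})
    [X.Over (Spec (CommRingCat.of k))] [IsProper (X ↘ (Spec (CommRingCat.of k)))] [IsIntegral X]
    (x : X) (hx : IsClosed ({x} : Set X)) (L : X.Modules) (hL : CohB1.IsAmple L) :
    ∃ m₀ : ℕ, ∀ m : ℕ, m₀ ≤ m → ∀ i : ℕ, 1 < i → ∀ a : ℕ,
      Subsingleton (Coh.HH X (CohB1.tensorMod (ClSub.idealMod ((W4c2seshadripos.pointIdeal x hx) ^ a))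
        (CohB1.tensorPow L m)) i) := by
  haveI : IsNoetherian X := Groth.Agent.Lib.Curves.GlobalSections.isNoetherian_of_proper k X
  obtain ⟨n₀, hn₀⟩ := Groth.Agent.Lib.SurfInt.AmpleVanish.exists_subsingleton (k := k) hL
    (Groth.Agent.Lib.Snapper.Twist.isCoh_structureModule X)
  refine ⟨n₀, fun m hm i hi a => ?_⟩
  obtain ⟨q, rfl⟩ : ∃ q, i = q + 2 := ⟨i - 2, by omega⟩
  set J := (W4c2seshadripos.pointIdeal x hx) ^ a with hJ
  set M := CohB1.tensorPow L m with hMdef
  have hM : PicF.IsInvertible M := Groth.Agent.Lib.TensorMod.Invertible.isInvertible_tensorPow hL.1 m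
  have hS := Groth.Agent.Lib.Snapper.Twist.twistSeq_shortExact hM
    (Groth.Agent.Lib.ClSub.Quot.idealSeq_shortExact J)
  haveI hQ : Subsingleton (Coh.HH X (CohB1.tensorMod M (ClSub.quotMod J)) (q + 1)) := by
    refine Groth.Agent.Lib.SurfInt.Bound.subsingleton_HH_of_finite (X ↘ Spec (CommRingCat.of k)) _ hx
      (Set.finite_singleton x) ?_ (Nat.succ_pos q)
    rw [Groth.Agent.Lib.Snapper.Twist.support_twist hM, Groth.Agent.Lib.ClSub.Quot.support_quotMod]
    rcases a with _ | a
    · rw [hJ, pow_zero, Scheme.IdealSheafData.one_eq_top, Scheme.IdealSheafData.support_top]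
      simp
    · rw [hJ, Scheme.IdealSheafData.support_pow_succ]
      exact (Scheme.IdealSheafData.coe_support_vanishingIdeal _).le
  haveI hMv : Subsingleton (Coh.HH X (CohB1.tensorMod M (Coh.structureModule X)) (q + 2)) := by
    haveI := hn₀ m hm (q + 1)
    exact (Groth.Agent.Lib.Curves.LES.isoK k
      (Groth.Agent.Lib.TensorMod.Basic.comm M (Coh.structureModule X)) (q + 2)).toEquiv.subsingleton
  haveI : Subsingleton (Coh.HH X (CohB1.tensorMod M (ClSub.idealMod J)) (q + 2)) := by
    refine subsingleton_of_forall_eq 0 fun v => ?_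
    obtain ⟨w, rfl⟩ := (Groth.Agent.Lib.Curves.LES.exactK₁ k hS (q + 1) (q + 2) rfl v).1
      (@Subsingleton.elim _ hMv _ _)
    exact (congrArg _ (@Subsingleton.elim _ hQ w 0)).trans (map_zero _)
  exact (Groth.Agent.Lib.Curves.LES.isoK k
    (Groth.Agent.Lib.TensorMod.Basic.comm (ClSub.idealMod J) M) (q + 2)).toEquiv.subsingleton

end Groth.Agent.S15254
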