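import Groth.Statements.S15255
import Groth.Agent.Lib.SurfInt.Bound
import Groth.Agent.Lib.SurfInt.Seq
import Groth.Agent.Lib.ModelFibre.StalkIdeal
-- import your own Groth.Agent.* helpers here

set_option autoImplicit false
universe u
open CategoryTheory CategoryTheory.Limits AlgebraicGeometry TopologicalSpace
open W4c2seshadripos

namespace Groth.Agent.S15255

open Groth.Agent.Lib Groth.Agent.Lib.Modules Groth.Agent.Lib.SurfInt.Stalk
open Groth.Agent.Lib.Ideal.Prime (stalkIdeal)
open Groth.Agent.Lib.TensorMod.Basic (tmap comm)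
open Groth.Agent.Lib.TensorMod

/-- The inclusion `J ⊆ I` of ideal modules, with cokernel supported in `I.support ∪ J.support`. -/
theorem exists_incl {X : Scheme.{u}} {I J : X.IdealSheafData} (h : J ≤ I) :
    ∃ φ : ClSub.idealMod J ⟶ ClSub.idealMod I,
      CohB1.support (cokernel φ) ⊆ (I.support : Set X) ∪ J.support ∧ Mono φ := by
  obtain ⟨π, hπ⟩ := SurfInt.Seq.exists_descend h
  have w : ClSub.idealModι J ≫ ClSub.toSubscheme I = 0 := by
    rw [← hπ, ← Category.assoc]
    erw [(Groth.Agent.Lib.ClSub.Quot.idealSeq J).zero]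
    exact zero_comp
  have := Groth.Agent.Lib.ClSub.Quot.mono_idealModι I
  have := Groth.Agent.Lib.ClSub.Quot.mono_idealModι J
  obtain ⟨φ, hφ⟩ : ∃ φ : ClSub.idealMod J ⟶ ClSub.idealMod I,
      φ ≫ ClSub.idealModι I = ClSub.idealModι J :=
    ⟨_, (KernelFork.IsLimit.lift'
      (Groth.Agent.Lib.ClSub.Quot.idealSeq_shortExact I).fIsKernel (ClSub.idealModι J) w).2⟩
  refine ⟨φ, fun y hy => ?_, mono_of_mono_fac hφ⟩
  by_contra hy'
  rw [Set.mem_union, not_or] at hy'
  apply hy
  have hsurj : Function.Surjective (StalkModule.stalkMapₗ φ y) := by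
    intro a
    obtain ⟨b, hb⟩ : idealStalk I y a ∈ LinearMap.range (idealStalk J y) := by
      rw [range_idealStalk, (ModelFibre.StalkIdeal.stalkIdeal_eq_top_iff J y).mpr hy'.2]
      trivial
    refine ⟨b, idealStalk_injective I y (Eq.trans ?_ hb)⟩
    simp only [idealStalk, ← hφ, StalkModule.stalkMapₗ_comp, LinearMap.comp_apply]
  refine subsingleton_of_forall_eq 0 fun v => ?_
  obtain ⟨a, rfl⟩ := (StalkModule.epi_iff_stalkMapₗ_surjective (cokernel.π φ)).mp inferInstance y v
  obtain ⟨b, rfl⟩ := hsurj a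
  rw [← LinearMap.comp_apply, ← StalkModule.stalkMapₗ_comp, cokernel.condition,
    StalkModule.stalkMapₗ_zero, LinearMap.zero_apply]

/-- Let X be an integral scheme proper over a field k (the published statement: a projective variety), x
a closed point of X with ideal sheaf m_x, L an invertible O_X-module and a, m > 0 integers. If
H^1(X, m_x^a ⊗ L^{⊗m}) is nonzero then so is H^1(X, m_x^(a+1) ⊗ L^{⊗m}) (the ideal sheaves m_x^a
being taken as O_X-modules, so that m_x^a ⊗ L^{⊗m} = m_x^a · L^{⊗m}). -/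
theorem result (k : Type u) [Field k]
    (X : Scheme.{u}) [X.Over (Spec (CommRingCat.of k))] [IsProper (X ↘ (Spec (CommRingCat.of k)))]
    [IsIntegral X] (x : X) (hx : IsClosed ({x} : Set X)) (L : X.Modules) (hL : PicF.IsInvertible L)
    (a m : ℕ) (ha : 0 < a) (hm : 0 < m)
    (h : Nontrivial (Coh.HH X (CohB1.tensorMod (ClSub.idealMod ((W4c2seshadripos.pointIdeal x hx) ^ a))
      (CohB1.tensorPow L m)) 1)) :
    Nontrivial (Coh.HH X (CohB1.tensorMod (ClSub.idealMod ((W4c2seshadripos.pointIdeal x hx) ^ (a + 1)))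
      (CohB1.tensorPow L m)) 1) := by
  have hI : ∀ b : ℕ, (((W4c2seshadripos.pointIdeal x hx) ^ (b + 1)).support : Set X) = {x} := by
    intro b
    rw [Scheme.IdealSheafData.support_pow_succ]
    exact Scheme.IdealSheafData.coe_support_vanishingIdeal _
  obtain ⟨a, rfl⟩ : ∃ c, a = c + 1 := ⟨a - 1, by omega⟩
  set I := (W4c2seshadripos.pointIdeal x hx) ^ (a + 1) with hIdef
  set J := (W4c2seshadripos.pointIdeal x hx) ^ (a + 1 + 1) with hJdef
  have hJI : J ≤ I := by
    rw [hJdef, pow_succ, ← hIdef]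
    exact fun U => by simp only [Scheme.IdealSheafData.ideal_mul, Pi.mul_apply]; exact Ideal.mul_le_left
  obtain ⟨φ, hsupp, hmono⟩ := exists_incl hJI
  have := hmono
  let S : ShortComplex X.Modules := ShortComplex.mk φ (cokernel.π φ) (cokernel.condition φ)
  have hS : S.ShortExact :=
    { exact := ShortComplex.exact_of_g_is_cokernel _ (cokernelIsCokernel φ) }
  have hM : PicF.IsInvertible (CohB1.tensorPow L m) := Invertible.isInvertible_tensorPow hL m
  have hS' := Snapper.Twist.twistSeq_shortExact hM hS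
  have : IsNoetherian X := Curves.GlobalSections.isNoetherian_of_proper k X
  have : Subsingleton (Coh.HH X (Snapper.Twist.twistSeq (CohB1.tensorPow L m) S).X₃ 1) := by
    refine SurfInt.Bound.subsingleton_HH_of_finite (X ↘ Spec (CommRingCat.of k)) _ hx
      (Set.finite_singleton x) ?_ one_pos
    change CohB1.support (CohB1.tensorMod (CohB1.tensorPow L m) (cokernel φ)) ⊆ _
    rw [Snapper.Twist.support_twist hM]
    refine hsupp.trans ?_
    rw [hIdef, hJdef, hI, hI, Set.union_self]
  have hsur : Function.Surjective (Curves.LES.mapK k (tmap (𝟙 (CohB1.tensorPow L m)) φ) 1) := by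
    intro z
    exact ((Curves.LES.exactK₂ k hS' 1) z).mp (Subsingleton.elim _ _)
  let e : ∀ P : X.Modules, Coh.HH X (CohB1.tensorMod (CohB1.tensorPow L m) P) 1 ≃ₗ[k]
      Coh.HH X (CohB1.tensorMod P (CohB1.tensorPow L m)) 1 := fun P =>
    Curves.LES.isoK k (comm _ _) 1
  exact Function.Surjective.nontrivial
    (((e _).surjective.comp hsur).comp (e _).symm.surjective)

end Groth.Agent.S15255
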