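import Groth.Statements.S15259
import Groth.Agent.H95.LocEFT

set_option autoImplicit false
universe u
open CategoryTheory CategoryTheory.Limits AlgebraicGeometry TopologicalSpace
open W4c2seshadripos

namespace Groth.Agent.S15259

/-- Call f : X → Y locally essentially of finite type when Y has a cover by affine opens U = Spec A such
that each f⁻¹(U) has a cover by affine opens Spec B with A → B essentially of finite type (a
localization of a finite-type A-algebra; Mathlib's RingHom.EssFiniteType), and essentially of finite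
type when moreover f is quasi-compact. Then f is essentially of finite type exactly when every
affine open U = Spec A of Y has f⁻¹(U) covered by finitely many affine opens V = Spec B of X with A
→ B essentially of finite type. -/
theorem result {X Y : Scheme.{u}} (f : X ⟶ Y) :
    ((∃ S : Set Y.affineOpens, (⋃ U ∈ S, ((U : Y.Opens) : Set ↥Y)) = Set.univ ∧
      ∀ U ∈ S, ∃ T : Set X.affineOpens, (⋃ V ∈ T, ((V : X.Opens) : Set ↥X)) = ((f ⁻¹ᵁ (U : Y.Opens)) : Set ↥X) ∧
        ∀ V ∈ T, ∃ e : (V : X.Opens) ≤ f ⁻¹ᵁ (U : Y.Opens), (f.appLE (U : Y.Opens) (V : X.Opens) e).hom.EssFiniteType) ∧ QuasiCompact f) ↔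
    ∀ U : Y.affineOpens, ∃ T : Set X.affineOpens, T.Finite ∧ (⋃ V ∈ T, ((V : X.Opens) : Set ↥X)) = ((f ⁻¹ᵁ (U : Y.Opens)) : Set ↥X) ∧
        ∀ V ∈ T, ∃ e : (V : X.Opens) ≤ f ⁻¹ᵁ (U : Y.Opens), (f.appLE (U : Y.Opens) (V : X.Opens) e).hom.EssFiniteType := by
  constructor
  · rintro ⟨h, hqc⟩ U
    obtain ⟨T, hT1, hT2⟩ := (H95.LocEFT.left_iff f).mp (H95.LocEFT.left_of_cover f h) U
    have hc : IsCompact ((f ⁻¹ᵁ (U : Y.Opens)) : Set ↥X) := f.isCompact_preimage U.2.isCompact
    obtain ⟨T', hT', hfin, hcov⟩ := hc.elim_finite_subcover_image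
      (fun (V : X.affineOpens) _ => (V : X.Opens).isOpen) hT1.ge
    refine ⟨T', hfin, le_antisymm ?_ hcov, fun V hV => hT2 V (hT' hV)⟩
    exact (Set.biUnion_subset_biUnion_left hT').trans hT1.le
  · intro h
    refine ⟨⟨Set.univ, ?_, fun U _ => ?_⟩, ?_⟩
    · ext y
      simp only [Set.mem_univ, Set.mem_iUnion, exists_true_left, iff_true, SetLike.mem_coe]
      obtain ⟨U, hU, hy, _⟩ := Opens.isBasis_iff_nbhd.mp Y.isBasis_affineOpens (Opens.mem_top y)
      exact ⟨⟨U, hU⟩, hy⟩
    · obtain ⟨T, _, h1, h2⟩ := h U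
      exact ⟨T, h1, h2⟩
    · rw [quasiCompact_iff_forall_isAffineOpen]
      intro U hU
      obtain ⟨T, hT, h1, _⟩ := h ⟨U, hU⟩
      change IsCompact ((f ⁻¹ᵁ U : X.Opens) : Set X)
      rw [← h1]
      exact hT.isCompact_biUnion fun V _ => V.2.isCompact

end Groth.Agent.S15259
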