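import Groth.Statements.S15267
import Groth.Agent.Lib.ShStab.HomVanish
import Groth.Agent.Lib.Curves.GlobalSections

set_option autoImplicit false
open CategoryTheory CategoryTheory.Limits AlgebraicGeometry
open Coherent

namespace Groth.Agent.S15267

/-- Over the complex numbers, let X be an irreducible proper scheme of dimension d with an ample
invertible sheaf L, and let ξ be a complex point of X. Let E and F be coherent sheaves on X which
are semistable of dimension d with respect to L (nonzero, pure of dimension d, and the reduced
Hilbert polynomial of every nonzero proper coherent subsheaf is at most that of the sheaf for large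
arguments), with the same reduced Hilbert polynomial (r(F)·p_E = r(E)·p_F for Hilbert polynomials
p_E, p_F, r denoting d! times the degree-d coefficient), and suppose that each of E and F has a
filtration by coherent subsheaves with stable d-dimensional successive quotients of the same reduced
Hilbert polynomial whose associated graded sheaf (the direct sum of the quotients) is finite locally
free on some open neighbourhood of ξ. Then every morphism f from E to F whose pull-back along ξ is
the zero map is zero. (The published statement is for modules over a sheaf of rings of differential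
operators on a projective flat family X over S with irreducible fibres of dimension d and a section
ξ, the conditions being imposed on all closed fibres; this row is the case of the structure sheaf
over a single complex fibre, to which the published proof reduces.) -/
theorem result
    (X : Scheme.{0}) [X.Over (Spec (CommRingCat.of ℂ))] [IsProper (X ↘ Spec (CommRingCat.of ℂ))]
    [IrreducibleSpace X] (d : ℕ) (hX : topologicalKrullDim X = (d : WithBot ℕ∞))
    (L : X.Modules) (hL : CohB1.IsAmple L)
    (E F : X.Modules) (hE : ShStab.IsSemistable ℂ X L E d) (hF : ShStab.IsSemistable ℂ X L F d)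
    (pE pF : Polynomial ℚ) (hpE : ShStab.IsHilbPoly ℂ X L E pE) (hpF : ShStab.IsHilbPoly ℂ X L F pF)
    (hred : StabCat.RedEq d pE pF)
    (ξ : Spec (CommRingCat.of ℂ) ⟶ X) (hξ : ξ ≫ (X ↘ Spec (CommRingCat.of ℂ)) = 𝟙 (Spec (CommRingCat.of ℂ)))
    (sE : LTSeries (Subobject E)) (hsE : ShStab.IsJHFiltration ℂ X L E d sE)
    (hgrE : ∀ x ∈ Set.range ξ.base, ∃ U : X.Opens, x ∈ U ∧ FlatMod.IsFinLocFree ((StabCat.grObj sE).restrict U.ι))
    (sF : LTSeries (Subobject F)) (hsF : ShStab.IsJHFiltration ℂ X L F d sF)
    (hgrF : ∀ x ∈ Set.range ξ.base, ∃ U : X.Opens, x ∈ U ∧ FlatMod.IsFinLocFree ((StabCat.grObj sF).restrict U.ι))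
    (f : E ⟶ F) (hf : (Scheme.Modules.pullback ξ).map f = 0) : f = 0 := by
  open Groth.Agent.Lib Groth.Agent.Lib.ShStab in
    haveI := Groth.Agent.Lib.Curves.GlobalSections.isNoetherian_of_proper ℂ X
    rw [← SubLattice.hp_eq ℂ L hpE, ← SubLattice.hp_eq ℂ L hpF] at hred
    haveI : IsClosedImmersion ξ := by
      haveI : IsClosedImmersion (ξ ≫ (X ↘ Spec (CommRingCat.of ℂ))) := by
        rw [hξ]; infer_instance
      exact IsClosedImmersion.of_comp ξ (X ↘ Spec (CommRingCat.of ℂ))
    obtain ⟨z⟩ : Nonempty (Spec (CommRingCat.of ℂ)) := inferInstanceAs (Nonempty (PrimeSpectrum ℂ))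
    exact HomVanish.hom_eq_zero hL hX hE hF hred ξ z hsE
      (FreeFactor.fr_factor (hgrE _ ⟨z, rfl⟩)) hsF (FreeFactor.fr_factor (hgrF _ ⟨z, rfl⟩)) f hf


end Groth.Agent.S15267
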