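import Groth.Statements.S15270
import Groth.Agent.Lib.ShStab.FreeFactor
import Groth.Agent.S9769
import Groth.Agent.Lib.ZarCoh.FP

set_option autoImplicit false
open CategoryTheory CategoryTheory.Limits AlgebraicGeometry
open Coherent

namespace Groth.Agent.S15270

/-- Over the complex numbers, let S be a separated scheme of finite type, X a closed subscheme of
projective n-space over S which is flat over S, and ξ a section of X over S. Let F be a coherent
sheaf on X, flat over S, such that for every complex point t of S the restriction F_t to the fibre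
X_t, polarised by the pull-back of O(1), is semistable of dimension d (nonzero, pure of dimension d,
reduced Hilbert polynomials of nonzero proper coherent subsheaves at most that of F_t for large
arguments) and has a filtration by coherent subsheaves with stable d-dimensional successive
quotients of the reduced Hilbert polynomial of F_t whose associated graded sheaf is finite locally
free on an open neighbourhood of the point ξ(t). Then F is locally free along ξ: for every complex
point t of S, F is finite locally free on an open neighbourhood of the point ξ(t) of X. (The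
published statement is for modules over a sheaf of rings of differential operators, on a projective
flat family with irreducible fibres of dimension d, and uses closed points; this row is the case of
the structure sheaf with complex points, which are the closed points here, and does not assume the
fibres irreducible.) -/
theorem result
    (S : Scheme.{0}) (sS : S ⟶ Spec (CommRingCat.of ℂ)) [LocallyOfFiniteType sS] [QuasiCompact sS] [IsSeparated sS]
    (n : ℕ) (X : Scheme.{0}) (i : X ⟶ CohB1.ProjSpaceOver n S) [IsClosedImmersion i] [Flat (i ≫ (CohB1.ProjSpaceOver n S ↘ S))] (d : ℕ)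
    (ξ : S ⟶ X) (hξ : ξ ≫ (i ≫ (CohB1.ProjSpaceOver n S ↘ S)) = 𝟙 S)
    (F : X.Modules) (hF : Coh.IsCoh F) (hFfl : FlatMod.IsFlatOver (i ≫ (CohB1.ProjSpaceOver n S ↘ S)) F)
    (hss : ∀ (t : Spec (CommRingCat.of ℂ) ⟶ S), t ≫ sS = 𝟙 (Spec (CommRingCat.of ℂ)) →
      @ShStab.IsSemistable ℂ _ (PicF.XT (i ≫ (CohB1.ProjSpaceOver n S ↘ S)) (Over.mk t)) ⟨PicF.XTproj (i ≫ (CohB1.ProjSpaceOver n S ↘ S)) (Over.mk t)⟩ ((Scheme.Modules.pullback (pullback.fst (i ≫ (CohB1.ProjSpaceOver n S ↘ S)) (Over.mk t).hom ≫ i)).obj (Twist.twistOver n S 1)) ((Scheme.Modules.pullback (pullback.fst (i ≫ (CohB1.ProjSpaceOver n S ↘ S)) (Over.mk t).hom)).obj F) d)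
    (hLF : ∀ (t : Spec (CommRingCat.of ℂ) ⟶ S), t ≫ sS = 𝟙 (Spec (CommRingCat.of ℂ)) →
      ∃ sF : LTSeries (Subobject ((Scheme.Modules.pullback (pullback.fst (i ≫ (CohB1.ProjSpaceOver n S ↘ S)) (Over.mk t).hom)).obj F)), @ShStab.IsJHFiltration ℂ _ (PicF.XT (i ≫ (CohB1.ProjSpaceOver n S ↘ S)) (Over.mk t)) ⟨PicF.XTproj (i ≫ (CohB1.ProjSpaceOver n S ↘ S)) (Over.mk t)⟩ ((Scheme.Modules.pullback (pullback.fst (i ≫ (CohB1.ProjSpaceOver n S ↘ S)) (Over.mk t).hom ≫ i)).obj (Twist.twistOver n S 1)) ((Scheme.Modules.pullback (pullback.fst (i ≫ (CohB1.ProjSpaceOver n S ↘ S)) (Over.mk t).hom)).obj F) d sF ∧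
        ∀ x ∈ Set.range (PicF.secT (i ≫ (CohB1.ProjSpaceOver n S ↘ S)) ξ hξ (Over.mk t)).base, ∃ V : (PicF.XT (i ≫ (CohB1.ProjSpaceOver n S ↘ S)) (Over.mk t)).Opens, x ∈ V ∧ FlatMod.IsFinLocFree ((StabCat.grObj sF).restrict V.ι))
    (t : Spec (CommRingCat.of ℂ) ⟶ S) (ht : t ≫ sS = 𝟙 (Spec (CommRingCat.of ℂ))) :
    ∀ x ∈ Set.range (t ≫ ξ).base, ∃ U : X.Opens, x ∈ U ∧ FlatMod.IsFinLocFree (F.restrict U.ι) := by
  open Groth.Agent.Lib Groth.Agent.Lib.ShStab in
    haveI : IsLocallyNoetherian S := LocallyOfFiniteType.isLocallyNoetherian sS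
    set f := i ≫ (CohB1.ProjSpaceOver n S ↘ S) with hf
    haveI : LocallyOfFiniteType (CohB1.ProjSpaceOver n S ↘ S) :=
      inferInstanceAs (LocallyOfFiniteType (Limits.pullback.snd _ _))
    haveI : LocallyOfFiniteType f := inferInstance
    haveI : IsLocallyNoetherian X := LocallyOfFiniteType.isLocallyNoetherian f
    haveI : LocallyOfFinitePresentation f := inferInstance
    rintro x ⟨w, rfl⟩
    obtain ⟨sF, hsF, hgr⟩ := hLF t ht
    set z := (PicF.secT f ξ hξ (Over.mk t)).base w
    have hfr : FreeAt.Fr ((Scheme.Modules.pullback (Limits.pullback.fst f (Over.mk t).hom)).obj F) z :=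
      FreeFactor.fr_whole hsF.1 hsF.2.1 (FreeFactor.fr_factor (hgr z ⟨w, rfl⟩))
    have hz : (Limits.pullback.fst f (Over.mk t).hom) z = ξ (t w) := by
      show (PicF.secT f ξ hξ (Over.mk t) ≫ Limits.pullback.fst f (Over.mk t).hom).base w = (t ≫ ξ).base w
      exact congrArg (fun φ : Spec (CommRingCat.of ℂ) ⟶ X => φ.base w) (Limits.pullback.lift_fst _ _ _)
    have hfree := (Set.ext_iff.1 (Groth.Agent.S9769.result f F (ZarCoh.FP.isFP_of_isCoh F hF) hFfl
      (Over.mk t).hom (Limits.pullback.snd f (Over.mk t).hom) (Limits.pullback.fst f (Over.mk t).hom)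
      (IsPullback.of_hasPullback _ _)) z).1 hfr.1
    have hfr' : FreeAt.Fr F ((t ≫ ξ).base w) := by
      rw [show (t ≫ ξ).base w = ξ (t w) from rfl, ← hz]
      obtain ⟨_, ⟨V, hV, rfl⟩, hxV, -⟩ := X.isBasis_affineOpens.exists_subset_of_mem_open
        (show (Limits.pullback.fst f (Over.mk t).hom) z ∈ (⊤ : X.Opens) from trivial) isOpen_univ
      have := hF.1
      haveI : Module.Finite Γ(X, V) Γ(F, V) := CohBasics.Closure.finite_sections hF hV
      letI := X.presheaf.algebra_section_stalk ⟨_, hxV⟩
      letI := StalkLoc.Basic.moduleSections F hxV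
      haveI := StalkLoc.Basic.isScalarTower_sections F hxV
      haveI := hV.isLocalization_stalk ⟨_, hxV⟩
      haveI := StalkLoc.Basic.isLocalizedModule_germ (M := F) hV hxV
      exact ⟨hfree, Module.Finite.of_isLocalizedModule (hV.primeIdealOf ⟨_, hxV⟩).asIdeal.primeCompl
        (StalkLoc.Basic.germₗ F hxV)⟩
    exact FreeAt.exists_nhd hF hfr'

end Groth.Agent.S15270
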