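import Groth.Statements.S15268
import Groth.Agent.Lib.H99Hom.Fibre
import Groth.Agent.Lib.H99Hom.Step
import Groth.Agent.Lib.Curves.GlobalSections
import Groth.Agent.Lib.Flat55.FlatOverAt
import Groth.Agent.S15270
import Groth.Agent.S9769
import Mathlib.AlgebraicGeometry.AlgClosed.Basic

set_option autoImplicit false
set_option linter.style.haveILetI false
set_option linter.unusedVariables false
open CategoryTheory CategoryTheory.Limits AlgebraicGeometry
open Coherent

namespace Groth.Agent.S15268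

open Groth.Agent.Lib in
theorem mem_smul_map {X : Scheme.{0}} {M N : X.Modules} (g : M ⟶ N) (x : X) (I : Ideal (X.presheaf.stalk x))
    (v : M.presheaf.stalk x) (hv : v ∈ I • (⊤ : Submodule (X.presheaf.stalk x) (M.presheaf.stalk x))) :
    Modules.StalkModule.stalkMapₗ g x v ∈ I • (⊤ : Submodule (X.presheaf.stalk x) (N.presheaf.stalk x)) := by
  have h := Submodule.mem_map_of_mem (f := Modules.StalkModule.stalkMapₗ g x) hv
  rw [Submodule.map_smul''] at h
  exact Submodule.smul_mono le_rfl le_top h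

theorem surjective_stalkClosedPointTo_of_comp_eq_id {S : Scheme.{0}} {K : CommRingCat.{0}} [IsLocalRing K]
    (t : Spec K ⟶ S) (sS : S ⟶ Spec K) (ht : t ≫ sS = 𝟙 _) :
    Function.Surjective (Scheme.stalkClosedPointTo t).hom := by
  have key : ∀ (u : Spec K ⟶ Spec K), u = 𝟙 _ → Function.Surjective (Scheme.stalkClosedPointTo u).hom := by
    rintro u rfl
    intro c
    refine ⟨(Spec K).presheaf.germ ⊤ _ trivial ((Scheme.ΓSpecIso K).inv c), ?_⟩
    have h := Scheme.germ_stalkClosedPointTo_Spec (𝟙 K)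
    rw [Spec.map_id] at h
    refine (DFunLike.congr_fun (congrArg CommRingCat.Hom.hom h) ((Scheme.ΓSpecIso K).inv c)).trans ?_
    show ((Scheme.ΓSpecIso K).inv ≫ (Scheme.ΓSpecIso K).hom ≫ 𝟙 K) c = c
    rw [Category.comp_id, Iso.inv_hom_id]
    rfl
  intro c
  obtain ⟨a, ha⟩ := key _ ht c
  rw [Scheme.stalkClosedPointTo_comp] at ha
  exact ⟨_, ha⟩

open Groth.Agent.Lib in
/-- The transport of the fibrewise vanishing along a composition. -/
theorem key_transport {X₀ X' X : Scheme.{0}} (j : X₀ ⟶ X') (g' : X' ⟶ X) (a₀ : X₀ ⟶ X) (h : j ≫ g' = a₀)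
    {E F : X.Modules} (z : X₀)
    (hfib : ∀ χ : (Scheme.Modules.pullback a₀).obj E ⟶ (Scheme.Modules.pullback a₀).obj F,
      (∀ v, Modules.StalkModule.stalkMapₗ χ z v ∈ IsLocalRing.maximalIdeal (X₀.presheaf.stalk z) •
        (⊤ : Submodule (X₀.presheaf.stalk z) (((Scheme.Modules.pullback a₀).obj F).presheaf.stalk z))) → χ = 0)
    (χ : (Scheme.Modules.pullback j).obj ((Scheme.Modules.pullback g').obj E) ⟶
      (Scheme.Modules.pullback j).obj ((Scheme.Modules.pullback g').obj F))
    (hχ : ∀ v, Modules.StalkModule.stalkMapₗ χ z v ∈ IsLocalRing.maximalIdeal (X₀.presheaf.stalk z) •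
        (⊤ : Submodule (X₀.presheaf.stalk z)
          (((Scheme.Modules.pullback j).obj ((Scheme.Modules.pullback g').obj F)).presheaf.stalk z))) :
    χ = 0 := by
  subst h
  let eE := (Scheme.Modules.pullbackComp j g').app E
  let eF := (Scheme.Modules.pullbackComp j g').app F
  have h0 := hfib (eE.inv ≫ χ ≫ eF.hom) fun v => by
    rw [Modules.StalkModule.stalkMapₗ_comp, Modules.StalkModule.stalkMapₗ_comp]
    exact mem_smul_map eF.hom _ _ _ (hχ _)
  rw [← cancel_epi eE.inv, ← cancel_mono eF.hom, Category.assoc, h0, comp_zero, zero_comp]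

open Groth.Agent.Lib in
/-- The point over the closed point. -/
theorem apply_closedPoint_eq {X₀ X' : Scheme.{0}} {K A : CommRingCat.{0}} [IsLocalRing K] [IsLocalRing A]
    (hA : Subsingleton (Spec A)) (s : Spec K ⟶ X₀) (j : X₀ ⟶ X') (σ : Spec A ⟶ X') (r : Spec K ⟶ Spec A)
    (h : s ≫ j = r ≫ σ) (p : Spec K) : j (s p) = σ (IsLocalRing.closedPoint A) := by
  show (s ≫ j) p = _
  rw [h]
  exact congrArg σ (Subsingleton.elim _ _)

open Groth.Agent.Lib in
/-- The small extension step. -/
theorem pullback_eq_zero_of_small {X S : Scheme.{0}} (f : X ⟶ S) [IsSeparated f]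
    [LocallyOfFinitePresentation f]
    (ξ : S ⟶ X) (hξ : ξ ≫ f = 𝟙 S) {E F : X.Modules} (hFfp : CohB1.IsFP F) (hFfl : FlatMod.IsFlatOver f F)
    (φ : E ⟶ F) (hφ : (Scheme.Modules.pullback ξ).map φ = 0)
    (t : Spec (CommRingCat.of ℂ) ⟶ S) [IsClosedImmersion t]
    (hfree : Module.Free (X.presheaf.stalk (ξ (t (IsLocalRing.closedPoint ℂ))))
      (F.presheaf.stalk (ξ (t (IsLocalRing.closedPoint ℂ)))))
    (hfib : ∀ χ : (Scheme.Modules.pullback (pullback.fst f (Over.mk t).hom)).obj E ⟶
        (Scheme.Modules.pullback (pullback.fst f (Over.mk t).hom)).obj F,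
      (∀ v, Modules.StalkModule.stalkMapₗ χ ((PicF.secT f ξ hξ (Over.mk t)) (IsLocalRing.closedPoint ℂ)) v ∈
        IsLocalRing.maximalIdeal ((PicF.XT f (Over.mk t)).presheaf.stalk
          ((PicF.secT f ξ hξ (Over.mk t)) (IsLocalRing.closedPoint ℂ))) • (⊤ : Submodule ((PicF.XT f (Over.mk t)).presheaf.stalk
          ((PicF.secT f ξ hξ (Over.mk t)) (IsLocalRing.closedPoint ℂ))) _)) → χ = 0)
    {A B : CommRingCat.{0}} [IsLocalRing A] [Nontrivial B] (hA : Subsingleton (Spec A))
    (g : Spec A ⟶ S) [IsClosedImmersion g]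
    (hgpt : g (IsLocalRing.closedPoint A) = t (IsLocalRing.closedPoint ℂ))
    (rA : A ⟶ CommRingCat.of ℂ) (hrAs : Function.Surjective rA.hom) (hrA : Spec.map rA ≫ g = t)
    (a : A) (ha : a ≠ 0) (ham : ∀ x ∈ IsLocalRing.maximalIdeal A, a * x = 0)
    (q : A ⟶ B) (hqs : Function.Surjective q.hom) (hqk : RingHom.ker q.hom = Ideal.span {a})
    (g₂ : Spec B ⟶ S) (hq : Spec.map q ≫ g = g₂)
    (h₂ : (Scheme.Modules.pullback (pullback.fst f g₂)).map φ = 0) :
    (Scheme.Modules.pullback (pullback.fst f g)).map φ = 0 := by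
    let pt : ↥(Spec (CommRingCat.of ℂ)) := IsLocalRing.closedPoint ℂ
    haveI : IsClosedImmersion (Over.mk t).hom := ‹IsClosedImmersion t›
    let a₀ := pullback.fst f (Over.mk t).hom
    let ξ₀ : Spec (CommRingCat.of ℂ) ⟶ pullback f (Over.mk t).hom := PicF.secT f ξ hξ (Over.mk t)
    have hξ₀ : ξ₀ ≫ a₀ = t ≫ ξ := pullback.lift_fst _ _ _
    let g' := pullback.fst f g
    let fA := pullback.snd f g
    haveI : IsClosedImmersion g' := inferInstanceAs (IsClosedImmersion (pullback.fst f g))
    haveI : IsSeparated fA := inferInstanceAs (IsSeparated (pullback.snd f g))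
    let kX : pullback f g₂ ⟶ pullback f g := pullback.lift (pullback.fst f g₂) (pullback.snd f g₂ ≫ Spec.map q)
      (by rw [pullback.condition, Category.assoc, hq])
    have hkX : IsPullback kX (pullback.snd f g₂) fA (Spec.map q) := by
      refine IsPullback.of_right ?_ (pullback.lift_snd _ _ _) (IsPullback.of_hasPullback f g)
      rw [pullback.lift_fst, hq]
      exact IsPullback.of_hasPullback f g₂
    haveI : IsClosedImmersion (Spec.map q) :=
      IsClosedImmersion.spec_of_surjective _ hqs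
    haveI : IsClosedImmersion kX := MorphismProperty.of_isPullback (P := @IsClosedImmersion) hkX.flip inferInstance
    let jX : pullback f (Over.mk t).hom ⟶ pullback f g :=
      pullback.lift a₀ (pullback.snd f (Over.mk t).hom ≫ Spec.map rA)
        (by rw [pullback.condition, Category.assoc, hrA]; rfl)
    have hjX : IsPullback jX (pullback.snd f (Over.mk t).hom) fA (Spec.map rA) := by
      refine IsPullback.of_right ?_ (pullback.lift_snd _ _ _) (IsPullback.of_hasPullback f g)
      rw [pullback.lift_fst, hrA]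
      exact IsPullback.of_hasPullback f (Over.mk t).hom
    haveI : IsClosedImmersion (Spec.map rA) := IsClosedImmersion.spec_of_surjective _ hrAs
    haveI : IsClosedImmersion jX := MorphismProperty.of_isPullback (P := @IsClosedImmersion) hjX.flip inferInstance
    -- the section
    let σ : Spec A ⟶ pullback f g := pullback.lift (g ≫ ξ) (𝟙 _) (by rw [Category.assoc, hξ, Category.comp_id, Category.id_comp])
    have hσ : σ ≫ fA = 𝟙 _ := pullback.lift_snd _ _ _
    have hσ' : σ ≫ g' = g ≫ ξ := pullback.lift_fst _ _ _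
    haveI : IsClosedImmersion σ := by
      haveI : IsClosedImmersion (σ ≫ fA) := by rw [hσ]; infer_instance
      exact IsClosedImmersion.of_comp σ fA
    have hσpt : g' (σ (IsLocalRing.closedPoint A)) = ξ (t pt) := by
      show (σ ≫ g') (IsLocalRing.closedPoint A) = _
      rw [hσ']
      exact congrArg ξ hgpt
    refine H99Hom.step fA hA ((Scheme.Modules.pullback g').map φ)
      (fun y => Flat55.FlatOverAt.isFlatOverAt_baseChange f fA g' g (IsPullback.of_hasPullback f g) F y (hFfl _))
      a ha ham rA hrAs (IsLocalRing.eq_maximalIdeal (RingHom.ker_isMaximal_of_surjective _ hrAs))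
      jX (pullback.snd f (Over.mk t).hom) hjX q hqs hqk kX (pullback.snd f g₂) hkX
      ((H99Hom.pullback_map_comp_eq_zero_iff kX g' _ (pullback.lift_fst _ _ _) φ).1 h₂)
      σ hσ ((H99Hom.pullback_map_comp_eq_zero_iff σ g' _ hσ' φ).1
        ((H99Hom.pullback_map_comp_eq_zero_iff g ξ _ rfl φ).2 (by rw [hφ, Functor.map_zero]))) ?_ ?_ |> fun h =>
          (H99Hom.pullback_map_comp_eq_zero_iff (𝟙 _) g' g' (Category.id_comp _) φ).2 (by rw [h, Functor.map_zero])
    · exact (Set.ext_iff.1 (Groth.Agent.S9769.result f F hFfp hFfl g fA g' (IsPullback.of_hasPullback f g))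
        (σ (IsLocalRing.closedPoint A))).2 (by
          show Module.Free (X.presheaf.stalk (g' (σ (IsLocalRing.closedPoint A))))
            (F.presheaf.stalk (g' (σ (IsLocalRing.closedPoint A))))
          rw [hσpt]
          exact hfree)
    · intro χ hχ
      have h : ξ₀ ≫ jX = Spec.map rA ≫ σ := by
        refine pullback.hom_ext ?_ ?_
        · simp only [jX, σ, Category.assoc, pullback.lift_fst]
          rw [hξ₀, ← Category.assoc, hrA]
        · simp only [jX, σ, Category.assoc, pullback.lift_snd, Category.comp_id]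
          rw [← Category.assoc, show ξ₀ ≫ pullback.snd f (Over.mk t).hom = 𝟙 _ from pullback.lift_snd _ _ _]
          exact Category.id_comp _
      exact key_transport jX g' a₀ (pullback.lift_fst _ _ _) (ξ₀ pt) hfib χ
        (hχ _ (apply_closedPoint_eq hA ξ₀ jX σ (Spec.map rA) h pt))

open Groth.Agent.Lib in
/-- A morphism vanishing along the section vanishes on all infinitesimal neighbourhoods of a fibre. -/
theorem pullback_eq_zero_of_pow_le {X S : Scheme.{0}} (f : X ⟶ S) [IsLocallyNoetherian S] [IsSeparated f]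
    [LocallyOfFinitePresentation f]
    (ξ : S ⟶ X) (hξ : ξ ≫ f = 𝟙 S) {E F : X.Modules} (hFfp : CohB1.IsFP F) (hFfl : FlatMod.IsFlatOver f F)
    (φ : E ⟶ F) (hφ : (Scheme.Modules.pullback ξ).map φ = 0)
    (sS : S ⟶ Spec (CommRingCat.of ℂ)) [IsSeparated sS]
    (t : Spec (CommRingCat.of ℂ) ⟶ S) (ht : t ≫ sS = 𝟙 _)
    (hfree : Module.Free (X.presheaf.stalk (ξ (t (IsLocalRing.closedPoint ℂ))))
      (F.presheaf.stalk (ξ (t (IsLocalRing.closedPoint ℂ)))))
    (hfib : ∀ χ : (Scheme.Modules.pullback (pullback.fst f (Over.mk t).hom)).obj E ⟶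
        (Scheme.Modules.pullback (pullback.fst f (Over.mk t).hom)).obj F,
      (∀ v, Modules.StalkModule.stalkMapₗ χ ((PicF.secT f ξ hξ (Over.mk t)) (IsLocalRing.closedPoint ℂ)) v ∈
        IsLocalRing.maximalIdeal ((PicF.XT f (Over.mk t)).presheaf.stalk
          ((PicF.secT f ξ hξ (Over.mk t)) (IsLocalRing.closedPoint ℂ))) • (⊤ : Submodule ((PicF.XT f (Over.mk t)).presheaf.stalk
          ((PicF.secT f ξ hξ (Over.mk t)) (IsLocalRing.closedPoint ℂ))) _)) → χ = 0)
    (J : Ideal (S.presheaf.stalk (t (IsLocalRing.closedPoint ℂ)))) (hJ : J ≤ IsLocalRing.maximalIdeal _)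
    (N : ℕ) (hN : IsLocalRing.maximalIdeal _ ^ N ≤ J) :
    (Scheme.Modules.pullback (pullback.fst f (Spec.map (CommRingCat.ofHom (Ideal.Quotient.mk J)) ≫
      S.fromSpecStalk (t (IsLocalRing.closedPoint ℂ))))).map φ = 0 := by
  let pt : ↥(Spec (CommRingCat.of ℂ)) := IsLocalRing.closedPoint ℂ
  let R := S.presheaf.stalk (t pt)
  let r : R ⟶ CommRingCat.of ℂ := Scheme.stalkClosedPointTo t
  have hr : Function.Surjective r.hom := surjective_stalkClosedPointTo_of_comp_eq_id t sS ht
  have hrt : Spec.map r ≫ S.fromSpecStalk (t pt) = t := Scheme.Spec_stalkClosedPointTo_fromSpecStalk t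
  have hrk : RingHom.ker r.hom = IsLocalRing.maximalIdeal R :=
    IsLocalRing.eq_maximalIdeal (RingHom.ker_isMaximal_of_surjective _ hr)
  haveI : IsClosedImmersion t := by
    haveI : IsClosedImmersion (t ≫ sS) := by rw [ht]; infer_instance
    exact IsClosedImmersion.of_comp t sS
  let a₀ := pullback.fst f (Over.mk t).hom
  haveI : IsClosedImmersion (Over.mk t).hom := ‹IsClosedImmersion t›
  haveI : IsClosedImmersion a₀ := inferInstanceAs (IsClosedImmersion (pullback.fst f (Over.mk t).hom))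
  haveI : IsSeparated (pullback.snd f (Over.mk t).hom) := inferInstance
  let ξ₀ : Spec (CommRingCat.of ℂ) ⟶ pullback f (Over.mk t).hom := PicF.secT f ξ hξ (Over.mk t)
  have hξ₀ : ξ₀ ≫ a₀ = t ≫ ξ := pullback.lift_fst _ _ _
  -- the fibre
  have hfibre : (Scheme.Modules.pullback a₀).map φ = 0 := by
    refine hfib _ fun v => ?_
    haveI : IsClosedImmersion ξ₀ := by
      haveI : IsClosedImmersion (ξ₀ ≫ pullback.snd f (Over.mk t).hom) := by
        rw [show ξ₀ ≫ pullback.snd f (Over.mk t).hom = 𝟙 _ from pullback.lift_snd _ _ _]; infer_instance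
      exact IsClosedImmersion.of_comp ξ₀ (pullback.snd f (Over.mk t).hom)
    exact Submodule.smul_mono_left (IsLocalRing.le_maximalIdeal (RingHom.ker_ne_top _))
      (H99Hom.values_mem_of_pullback_eq_zero ξ₀ _ ((H99Hom.pullback_map_comp_eq_zero_iff ξ₀ a₀ _ hξ₀ φ).1
        ((H99Hom.pullback_map_comp_eq_zero_iff t ξ _ rfl φ).2 (by rw [hφ, Functor.map_zero]))) pt v)
  suffices H : ∀ J : Ideal R, J ≤ IsLocalRing.maximalIdeal R → ∀ N : ℕ, IsLocalRing.maximalIdeal R ^ N ≤ J →
      (Scheme.Modules.pullback (pullback.fst f (Spec.map (CommRingCat.ofHom (Ideal.Quotient.mk J)) ≫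
        S.fromSpecStalk (t pt)))).map φ = 0 from H J hJ N hN
  clear hN N hJ J
  intro J
  induction J using WellFoundedGT.induction with
  | _ J ih =>
  intro hJ N hN
  let g : Spec (CommRingCat.of (R ⧸ J)) ⟶ S :=
    Spec.map (CommRingCat.ofHom (Ideal.Quotient.mk J)) ≫ S.fromSpecStalk (t pt)
  rcases eq_or_lt_of_le hJ with hJm | hJm
  · -- the closed fibre
    let e : CommRingCat.of ℂ ⟶ CommRingCat.of (R ⧸ J) := CommRingCat.ofHom (RingHom.liftOfSurjective r.hom hr
      ⟨Ideal.Quotient.mk J, by rw [Ideal.mk_ker, hrk, hJm]⟩)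
    have he : r ≫ e = CommRingCat.ofHom (Ideal.Quotient.mk J) :=
      CommRingCat.hom_ext (RingHom.liftOfSurjective_comp r.hom hr _)
    have hg : g = Spec.map e ≫ t := by
      show Spec.map _ ≫ _ = _
      rw [← he, Spec.map_comp, Category.assoc, hrt]
    let u : pullback f g ⟶ pullback f (Over.mk t).hom :=
      pullback.lift (pullback.fst f g) (pullback.snd f g ≫ Spec.map e) (by
        rw [pullback.condition, Category.assoc]
        exact congrArg (pullback.snd f g ≫ ·) hg)
    refine (H99Hom.pullback_map_comp_eq_zero_iff u a₀ _ (pullback.lift_fst _ _ _) φ).2 ?_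
    rw [hfibre, Functor.map_zero]
  · classical
    have hex : ∃ k, IsLocalRing.maximalIdeal R ^ k ≤ J := ⟨N, hN⟩
    obtain ⟨k, hk⟩ : ∃ k, Nat.find hex = k + 2 := by
      have h := Nat.find_spec hex
      rcases hf : Nat.find hex with _ | _ | k
      · rw [hf, pow_zero, Ideal.one_eq_top, top_le_iff] at h
        exact absurd (h ▸ hJ) (fun h' => (IsLocalRing.maximalIdeal.isMaximal R).ne_top (top_le_iff.1 h'))
      · rw [hf, zero_add, pow_one] at h
        exact absurd h hJm.not_ge
      · exact ⟨k, rfl⟩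
    obtain ⟨a, ham, haJ⟩ := SetLike.not_le_iff_exists.1 (Nat.find_min hex (show k + 1 < Nat.find hex by omega))
    have hkJ : IsLocalRing.maximalIdeal R ^ (k + 1) * IsLocalRing.maximalIdeal R ≤ J := by
      rw [← pow_succ, show k + 1 + 1 = Nat.find hex by omega]
      exact Nat.find_spec hex
    let J' := J ⊔ Ideal.span {a}
    have hJJ' : J < J' := lt_of_le_of_ne le_sup_left fun h =>
      haJ (h.symm ▸ Ideal.mem_sup_right (Ideal.mem_span_singleton_self a))
    have hJ'm : J' ≤ IsLocalRing.maximalIdeal R := sup_le hJ ((Ideal.span_singleton_le_iff_mem _).2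
      (Ideal.pow_le_self (Nat.succ_ne_zero k) ham))
    have hJ'ne : J' ≠ ⊤ := fun h => (IsLocalRing.maximalIdeal.isMaximal R).ne_top (top_le_iff.1 (h ▸ hJ'm))
    have hJne : J ≠ ⊤ := fun h => hJ'ne (top_le_iff.1 (h ▸ hJJ'.le))
    haveI : Nontrivial (R ⧸ J) := Ideal.Quotient.nontrivial_iff.2 hJne
    haveI : Nontrivial (R ⧸ J') := Ideal.Quotient.nontrivial_iff.2 hJ'ne
    let A := CommRingCat.of (R ⧸ J)
    haveI : IsLocalRing (R ⧸ J) := IsLocalRing.of_surjective' _ Ideal.Quotient.mk_surjective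
    haveI : IsLocalRing A := ‹IsLocalRing (R ⧸ J)›
    haveI : IsLocalHom (Ideal.Quotient.mk J) := IsLocalHom.of_surjective _ Ideal.Quotient.mk_surjective
    have hA : Subsingleton (Spec A) := ⟨fun p q => by
      have key : ∀ p : PrimeSpectrum (R ⧸ J), p.asIdeal.comap (Ideal.Quotient.mk J) =
          IsLocalRing.maximalIdeal R := fun p => by
        refine le_antisymm (IsLocalRing.le_maximalIdeal (Ideal.comap_ne_top _ p.isPrime.ne_top)) ?_
        refine (Ideal.IsPrime.comap (Ideal.Quotient.mk J)).le_of_pow_le (n := N) (hN.trans fun x hx => ?_)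
        rw [Ideal.mem_comap, Ideal.Quotient.eq_zero_iff_mem.2 hx]
        exact zero_mem _
      exact PrimeSpectrum.ext (Ideal.comap_injective_of_surjective _ Ideal.Quotient.mk_surjective
        ((key p).trans (key q).symm))⟩
    -- the closed immersion of `Spec A`
    have hgpt : g (IsLocalRing.closedPoint A) = t pt := by
      show S.fromSpecStalk (t pt) (Spec.map (CommRingCat.ofHom (Ideal.Quotient.mk J))
        (IsLocalRing.closedPoint A)) = t pt
      rw [show Spec.map (CommRingCat.ofHom (Ideal.Quotient.mk J)) (IsLocalRing.closedPoint A) =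
        IsLocalRing.closedPoint R from IsLocalRing.comap_closedPoint (Ideal.Quotient.mk J),
        Scheme.fromSpecStalk_closedPoint]
    haveI : IsClosedImmersion g := by
      haveI : IsClosedImmersion (Spec.map (CommRingCat.ofHom (Ideal.Quotient.mk J))) :=
        IsClosedImmersion.spec_of_surjective _ Ideal.Quotient.mk_surjective
      haveI : IsPreimmersion g := inferInstanceAs (IsPreimmersion (_ ≫ _))
      refine IsClosedImmersion.of_isPreimmersion g ?_
      have : Set.range g = Set.range t := by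
        ext y
        constructor
        · rintro ⟨p, rfl⟩
          exact ⟨pt, by rw [Subsingleton.elim p (IsLocalRing.closedPoint A), hgpt]⟩
        · rintro ⟨p, rfl⟩
          exact ⟨IsLocalRing.closedPoint A, by rw [hgpt]; exact congrArg t (Subsingleton.elim (α := PrimeSpectrum ℂ) _ _)⟩
      rw [this]
      exact t.isClosedEmbedding.isClosed_range
    let q : A ⟶ CommRingCat.of (R ⧸ J') := CommRingCat.ofHom (Ideal.Quotient.factor hJJ'.le)
    let rA : A ⟶ CommRingCat.of ℂ := CommRingCat.ofHom (Ideal.Quotient.lift J r.hom fun x hx => by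
      rw [← RingHom.mem_ker, hrk]; exact hJ hx)
    refine pullback_eq_zero_of_small f ξ hξ hFfp hFfl φ hφ t hfree hfib hA g hgpt rA ?_ ?_
      (Ideal.Quotient.mk J a) (fun h => haJ (Ideal.Quotient.eq_zero_iff_mem.1 h)) ?_
      q (Ideal.Quotient.factor_surjective hJJ'.le) ?_
      (Spec.map (CommRingCat.ofHom (Ideal.Quotient.mk J')) ≫ S.fromSpecStalk (t pt)) ?_
      (ih J' hJJ' hJ'm N (hN.trans hJJ'.le))
    · intro c
      obtain ⟨x, rfl⟩ := hr c
      exact ⟨Ideal.Quotient.mk J x, rfl⟩
    · have h : CommRingCat.ofHom (Ideal.Quotient.mk J) ≫ rA = r :=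
        CommRingCat.hom_ext (RingHom.ext fun x => rfl)
      show Spec.map rA ≫ Spec.map (CommRingCat.ofHom (Ideal.Quotient.mk J)) ≫ S.fromSpecStalk (t pt) = t
      rw [← Category.assoc, ← Spec.map_comp, h, hrt]
    · intro x hx
      obtain ⟨y, rfl⟩ := Ideal.Quotient.mk_surjective x
      rw [← map_mul]
      refine Ideal.Quotient.eq_zero_iff_mem.2 (hkJ (Ideal.mul_mem_mul ham ?_))
      exact fun hu => hx (hu.map (Ideal.Quotient.mk J))
    · ext x
      obtain ⟨y, rfl⟩ := Ideal.Quotient.mk_surjective x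
      rw [RingHom.mem_ker]
      show Ideal.Quotient.factor hJJ'.le (Ideal.Quotient.mk J y) = 0 ↔ _
      rw [Ideal.Quotient.factor_mk, Ideal.Quotient.eq_zero_iff_mem, ← Set.image_singleton, ← Ideal.map_span,
        Ideal.mem_map_iff_of_surjective _ Ideal.Quotient.mk_surjective, Submodule.mem_sup]
      constructor
      · rintro ⟨u, hu, w, hw, rfl⟩
        exact ⟨w, hw, by rw [map_add, Ideal.Quotient.eq_zero_iff_mem.2 hu, zero_add]⟩
      · rintro ⟨w, hw, h⟩
        exact ⟨y - w, Ideal.Quotient.eq.1 h.symm, w, hw, sub_add_cancel _ _⟩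
    · have h : CommRingCat.ofHom (Ideal.Quotient.mk J) ≫ q = CommRingCat.ofHom (Ideal.Quotient.mk J') :=
        CommRingCat.hom_ext (RingHom.ext fun x => rfl)
      show Spec.map q ≫ Spec.map (CommRingCat.ofHom (Ideal.Quotient.mk J)) ≫ S.fromSpecStalk (t pt) = _
      rw [← Category.assoc, ← Spec.map_comp, h]

/-- Over the complex numbers, let S be a separated scheme of finite type, X a closed subscheme of
projective n-space over S which is flat over S and whose fibre X_t over every complex point t of S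
is irreducible of dimension d, and ξ a section of X over S. Let E and F be coherent sheaves on X,
flat over S, such that for every complex point t of S, on the fibre X_t polarised by the pull-back
of O(1): the restrictions E_t and F_t are semistable of dimension d (nonzero, pure of dimension d,
reduced Hilbert polynomials of nonzero proper coherent subsheaves at most that of the sheaf for
large arguments) with the same reduced Hilbert polynomial (r(F_t)·p_{E_t} = r(E_t)·p_{F_t}, r
denoting d! times the degree-d coefficient), and each of E_t, F_t has a filtration by coherent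
subsheaves with stable d-dimensional successive quotients of that reduced Hilbert polynomial whose
associated graded sheaf is finite locally free on an open neighbourhood of the point ξ(t). Then
every morphism φ from E to F whose pull-back along ξ is the zero map is zero. (The published
statement is for modules over a sheaf of rings of differential operators and imposes the fibre
conditions at the closed points of the base; this row is the case of the structure sheaf, with the
conditions at complex points, which are the closed points here.) -/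
theorem result
    (S : Scheme.{0}) (sS : S ⟶ Spec (CommRingCat.of ℂ)) [LocallyOfFiniteType sS] [QuasiCompact sS] [IsSeparated sS]
    (n : ℕ) (X : Scheme.{0}) (i : X ⟶ CohB1.ProjSpaceOver n S) [IsClosedImmersion i] [Flat (i ≫ (CohB1.ProjSpaceOver n S ↘ S))] (d : ℕ)
    (ξ : S ⟶ X) (hξ : ξ ≫ (i ≫ (CohB1.ProjSpaceOver n S ↘ S)) = 𝟙 S)
    (hfib : ∀ (t : Spec (CommRingCat.of ℂ) ⟶ S), t ≫ sS = 𝟙 (Spec (CommRingCat.of ℂ)) →
      IrreducibleSpace (PicF.XT (i ≫ (CohB1.ProjSpaceOver n S ↘ S)) (Over.mk t)) ∧ topologicalKrullDim (PicF.XT (i ≫ (CohB1.ProjSpaceOver n S ↘ S)) (Over.mk t)) = (d : WithBot ℕ∞))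
    (E F : X.Modules) (hE : Coh.IsCoh E) (hF : Coh.IsCoh F)
    (hEfl : FlatMod.IsFlatOver (i ≫ (CohB1.ProjSpaceOver n S ↘ S)) E) (hFfl : FlatMod.IsFlatOver (i ≫ (CohB1.ProjSpaceOver n S ↘ S)) F)
    (hss : ∀ (t : Spec (CommRingCat.of ℂ) ⟶ S), t ≫ sS = 𝟙 (Spec (CommRingCat.of ℂ)) →
      @ShStab.IsSemistable ℂ _ (PicF.XT (i ≫ (CohB1.ProjSpaceOver n S ↘ S)) (Over.mk t)) ⟨PicF.XTproj (i ≫ (CohB1.ProjSpaceOver n S ↘ S)) (Over.mk t)⟩ ((Scheme.Modules.pullback (pullback.fst (i ≫ (CohB1.ProjSpaceOver n S ↘ S)) (Over.mk t).hom ≫ i)).obj (Twist.twistOver n S 1)) ((Scheme.Modules.pullback (pullback.fst (i ≫ (CohB1.ProjSpaceOver n S ↘ S)) (Over.mk t).hom)).obj E) d ∧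
      @ShStab.IsSemistable ℂ _ (PicF.XT (i ≫ (CohB1.ProjSpaceOver n S ↘ S)) (Over.mk t)) ⟨PicF.XTproj (i ≫ (CohB1.ProjSpaceOver n S ↘ S)) (Over.mk t)⟩ ((Scheme.Modules.pullback (pullback.fst (i ≫ (CohB1.ProjSpaceOver n S ↘ S)) (Over.mk t).hom ≫ i)).obj (Twist.twistOver n S 1)) ((Scheme.Modules.pullback (pullback.fst (i ≫ (CohB1.ProjSpaceOver n S ↘ S)) (Over.mk t).hom)).obj F) d ∧
      ∀ pE pF : Polynomial ℚ, @ShStab.IsHilbPoly ℂ _ (PicF.XT (i ≫ (CohB1.ProjSpaceOver n S ↘ S)) (Over.mk t)) ⟨PicF.XTproj (i ≫ (CohB1.ProjSpaceOver n S ↘ S)) (Over.mk t)⟩ ((Scheme.Modules.pullback (pullback.fst (i ≫ (CohB1.ProjSpaceOver n S ↘ S)) (Over.mk t).hom ≫ i)).obj (Twist.twistOver n S 1)) ((Scheme.Modules.pullback (pullback.fst (i ≫ (CohB1.ProjSpaceOver n S ↘ S)) (Over.mk t).hom)).obj E) pE →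
        @ShStab.IsHilbPoly ℂ _ (PicF.XT (i ≫ (CohB1.ProjSpaceOver n S ↘ S)) (Over.mk t)) ⟨PicF.XTproj (i ≫ (CohB1.ProjSpaceOver n S ↘ S)) (Over.mk t)⟩ ((Scheme.Modules.pullback (pullback.fst (i ≫ (CohB1.ProjSpaceOver n S ↘ S)) (Over.mk t).hom ≫ i)).obj (Twist.twistOver n S 1)) ((Scheme.Modules.pullback (pullback.fst (i ≫ (CohB1.ProjSpaceOver n S ↘ S)) (Over.mk t).hom)).obj F) pF → StabCat.RedEq d pE pF)
    (hLF : ∀ (t : Spec (CommRingCat.of ℂ) ⟶ S), t ≫ sS = 𝟙 (Spec (CommRingCat.of ℂ)) →
      (∃ sE : LTSeries (Subobject ((Scheme.Modules.pullback (pullback.fst (i ≫ (CohB1.ProjSpaceOver n S ↘ S)) (Over.mk t).hom)).obj E)), @ShStab.IsJHFiltration ℂ _ (PicF.XT (i ≫ (CohB1.ProjSpaceOver n S ↘ S)) (Over.mk t)) ⟨PicF.XTproj (i ≫ (CohB1.ProjSpaceOver n S ↘ S)) (Over.mk t)⟩ ((Scheme.Modules.pullback (pullback.fst (i ≫ (CohB1.ProjSpaceOver n S ↘ S)) (Over.mk t).hom ≫ i)).obj (Twist.twistOver n S 1)) ((Scheme.Modules.pullback (pullback.fst (i ≫ (CohB1.ProjSpaceOver n S ↘ S)) (Over.mk t).hom)).obj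 E) d sE ∧
          ∀ x ∈ Set.range (PicF.secT (i ≫ (CohB1.ProjSpaceOver n S ↘ S)) ξ hξ (Over.mk t)).base, ∃ U : (PicF.XT (i ≫ (CohB1.ProjSpaceOver n S ↘ S)) (Over.mk t)).Opens, x ∈ U ∧ FlatMod.IsFinLocFree ((StabCat.grObj sE).restrict U.ι)) ∧
      (∃ sF : LTSeries (Subobject ((Scheme.Modules.pullback (pullback.fst (i ≫ (CohB1.ProjSpaceOver n S ↘ S)) (Over.mk t).hom)).obj F)), @ShStab.IsJHFiltration ℂ _ (PicF.XT (i ≫ (CohB1.ProjSpaceOver n S ↘ S)) (Over.mk t)) ⟨PicF.XTproj (i ≫ (CohB1.ProjSpaceOver n S ↘ S)) (Over.mk t)⟩ ((Scheme.Modules.pullback (pullback.fst (i ≫ (CohB1.ProjSpaceOver n S ↘ S)) (Over.mk t).hom ≫ i)).obj (Twist.twistOver n S 1)) ((Scheme.Modules.pullback (pullback.fst (i ≫ (CohB1.ProjSpaceOver n S ↘ S)) (Over.mk t).hom)).obj F) d sF ∧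
          ∀ x ∈ Set.range (PicF.secT (i ≫ (CohB1.ProjSpaceOver n S ↘ S)) ξ hξ (Over.mk t)).base, ∃ U : (PicF.XT (i ≫ (CohB1.ProjSpaceOver n S ↘ S)) (Over.mk t)).Opens, x ∈ U ∧ FlatMod.IsFinLocFree ((StabCat.grObj sF).restrict U.ι)))
    (φ : E ⟶ F) (hφ : (Scheme.Modules.pullback ξ).map φ = 0) : φ = 0 := by
  open Groth.Agent.Lib in
    haveI : IsLocallyNoetherian S := LocallyOfFiniteType.isLocallyNoetherian sS
    haveI : IsProper (CohB1.ProjSpaceOver n S ↘ S) := ProjSpace.BaseChange.isProper_toBase n S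
    haveI : IsProper (i ≫ (CohB1.ProjSpaceOver n S ↘ S)) := inferInstance
    set f := i ≫ (CohB1.ProjSpaceOver n S ↘ S) with hf
    haveI : LocallyOfFiniteType (f ≫ sS) := inferInstance
    haveI : IsLocallyNoetherian X := LocallyOfFiniteType.isLocallyNoetherian f
    haveI : LocallyOfFinitePresentation f := inferInstance
    haveI : JacobsonSpace X := LocallyOfFiniteType.jacobsonSpace (f ≫ sS)
    refine H99Hom.eq_zero_of_closedPoints φ fun y hy => LinearMap.ext fun e => ?_
    obtain ⟨⟨u, hu⟩, hu'⟩ : ∃ u, pointEquivClosedPoint (f ≫ sS) u = ⟨y, hy⟩ :=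
      (pointEquivClosedPoint (f ≫ sS)).surjective _
    obtain rfl : u (IsLocalRing.closedPoint ℂ) = y := congrArg Subtype.val hu'
    clear hu' hy
    let pt : ↥(Spec (CommRingCat.of ℂ)) := IsLocalRing.closedPoint ℂ
    let t := u ≫ f
    have ht : t ≫ sS = 𝟙 _ := (Category.assoc _ _ _).trans hu
    haveI : IsClosedImmersion t := by
      haveI : IsClosedImmersion (t ≫ sS) := by rw [ht]; infer_instance
      exact IsClosedImmersion.of_comp t sS
    let XT := PicF.XT f (Over.mk t)
    letI : XT.Over (Spec (CommRingCat.of ℂ)) := ⟨PicF.XTproj f (Over.mk t)⟩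
    haveI : IsProper (XT ↘ Spec (CommRingCat.of ℂ)) :=
      inferInstanceAs (IsProper (pullback.snd f (Over.mk t).hom))
    haveI := Curves.GlobalSections.isNoetherian_of_proper ℂ XT
    haveI : IrreducibleSpace XT := (hfib t ht).1
    have hL : CohB1.IsAmple ((Scheme.Modules.pullback (pullback.fst f (Over.mk t).hom ≫ i)).obj (Twist.twistOver n S 1)) := by
      have h1 := ProjMor.Conv.isRelAmple_of_immersion f n i rfl
      have h2 := Ample.RelAmple.isRelAmple_baseChange f (Over.mk t).hom h1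
      exact Ample.Pow.isAmple_of_iso
        ((Scheme.Modules.pullbackComp (pullback.fst f (Over.mk t).hom) i).app _)
        ((Ample.RelAmple.isRelAmple_iff_isAmple (Y := Spec (CommRingCat.of ℂ)) (pullback.snd f (Over.mk t).hom)).1 h2)
    obtain ⟨hssE, hssF, hred⟩ := hss t ht
    obtain ⟨⟨sE, hsE, hgrE⟩, ⟨sF, hsF, hgrF⟩⟩ := hLF t ht
    have hfree : Module.Free (X.presheaf.stalk (ξ (t pt))) (F.presheaf.stalk (ξ (t pt))) := by
      obtain ⟨U, hU, hUF⟩ := Groth.Agent.S15270.result S sS n X i d ξ hξ F hF hFfl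
        (fun t ht => (hss t ht).2.1) (fun t ht => (hLF t ht).2) t ht (ξ (t pt)) ⟨pt, rfl⟩
      exact (ShStab.FreeAt.fr_of_nhd hU hUF).1
    have hzero := pullback_eq_zero_of_pow_le f ξ hξ (ZarCoh.FP.isFP_of_isCoh F hF) hFfl φ hφ sS t ht hfree
      (fun χ hχ => H99Hom.Fibre.hom_eq_zero hL (hfib t ht).2 hssE hssF
        (hred _ _ (ShStab.SubLattice.isHilbPoly_hp ℂ hL hssE.1) (ShStab.SubLattice.isHilbPoly_hp ℂ hL hssF.1))
        ((PicF.secT f ξ hξ (Over.mk t)) pt) hsE (ShStab.FreeFactor.fr_factor (hgrE _ ⟨pt, rfl⟩))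
        hsF (ShStab.FreeFactor.fr_factor (hgrF _ ⟨pt, rfl⟩)) χ hχ)
    let c : S.presheaf.stalk (t pt) ⟶ X.presheaf.stalk (u pt) := f.stalkMap (u pt)
    have hcomm : X.fromSpecStalk (u pt) ≫ f = Spec.map c ≫ S.fromSpecStalk (t pt) :=
      (Scheme.SpecMap_stalkMap_fromSpecStalk f).symm
    have hmem : ∀ N : ℕ, Modules.StalkModule.stalkMapₗ φ (u pt) e ∈
        IsLocalRing.maximalIdeal (X.presheaf.stalk (u pt)) ^ (N + 1) •
          (⊤ : Submodule (X.presheaf.stalk (u pt)) (F.presheaf.stalk (u pt))) := by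
      intro N
      let R := S.presheaf.stalk (t pt)
      let J := IsLocalRing.maximalIdeal R ^ (N + 1)
      let qJ : R ⟶ CommRingCat.of (R ⧸ J) := CommRingCat.ofHom (Ideal.Quotient.mk J)
      let g := Spec.map qJ ≫ S.fromSpecStalk (t pt)
      let r : R ⟶ CommRingCat.of ℂ := Scheme.stalkClosedPointTo t
      have hr : Function.Surjective r.hom := surjective_stalkClosedPointTo_of_comp_eq_id t sS ht
      have hrk : RingHom.ker r.hom = IsLocalRing.maximalIdeal R :=
        IsLocalRing.eq_maximalIdeal (RingHom.ker_isMaximal_of_surjective _ hr)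
      have hJle : J ≤ IsLocalRing.maximalIdeal R := Ideal.pow_le_self (Nat.succ_ne_zero N)
      let rA : CommRingCat.of (R ⧸ J) ⟶ CommRingCat.of ℂ := CommRingCat.ofHom (Ideal.Quotient.lift J r.hom fun x hx => by
        rw [← RingHom.mem_ker, hrk]; exact hJle hx)
      have hrA : Spec.map rA ≫ g = t := by
        show Spec.map rA ≫ Spec.map _ ≫ _ = _
        rw [← Category.assoc, ← Spec.map_comp]
        exact Scheme.Spec_stalkClosedPointTo_fromSpecStalk t
      haveI hsub : Subsingleton (Spec (CommRingCat.of (R ⧸ J))) := ⟨fun p q => by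
        have key : ∀ p : PrimeSpectrum (R ⧸ J), p.asIdeal.comap (Ideal.Quotient.mk J) =
            IsLocalRing.maximalIdeal R := fun p => by
          refine le_antisymm (IsLocalRing.le_maximalIdeal (Ideal.comap_ne_top _ p.isPrime.ne_top)) ?_
          refine (Ideal.IsPrime.comap (Ideal.Quotient.mk J)).le_of_pow_le (n := N + 1) fun x hx => ?_
          rw [Ideal.mem_comap, Ideal.Quotient.eq_zero_iff_mem.2 hx]
          exact zero_mem _
        exact PrimeSpectrum.ext (Ideal.comap_injective_of_surjective _ Ideal.Quotient.mk_surjective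
          ((key p).trans (key q).symm))⟩
      haveI : IsClosedImmersion g := by
        haveI : IsClosedImmersion (Spec.map qJ) := IsClosedImmersion.spec_of_surjective _ Ideal.Quotient.mk_surjective
        haveI : IsPreimmersion g := inferInstanceAs (IsPreimmersion (_ ≫ _))
        refine IsClosedImmersion.of_isPreimmersion g ?_
        have : Set.range g = Set.range t := by
          ext y
          constructor
          · rintro ⟨p, rfl⟩
            refine ⟨pt, ?_⟩
            rw [Subsingleton.elim p (Spec.map rA pt), ← hrA]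
            rfl
          · rintro ⟨p, rfl⟩
            exact ⟨Spec.map rA p, by rw [← hrA]; rfl⟩
        rw [this]
        exact t.isClosedEmbedding.isClosed_range
      haveI : IsClosedImmersion (pullback.fst f g) :=
        inferInstanceAs (IsClosedImmersion (pullback.fst f g))
      have h0 := hzero J hJle (N + 1) le_rfl
      let z : ↥(pullback f g) := (pullback.lift u (Spec.map rA) (by rw [hrA]) : _ ⟶ pullback f g) pt
      have hz : pullback.fst f g z = u pt := by
        show (pullback.lift u (Spec.map rA) (by rw [hrA]) ≫ pullback.fst f g) pt = u pt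
        rw [pullback.lift_fst]
      have hgen : ∀ (y : X) (hy : pullback.fst f g z = y) (e : E.presheaf.stalk y)
          (c : R ⟶ X.presheaf.stalk y), X.fromSpecStalk y ≫ f = Spec.map c ≫ S.fromSpecStalk (t pt) →
          Modules.StalkModule.stalkMapₗ φ y e ∈ J.map c.hom •
            (⊤ : Submodule (X.presheaf.stalk y) (F.presheaf.stalk y)) := by
        rintro y rfl e c hc
        refine Submodule.smul_mono_left ?_ (H99Hom.values_mem_of_pullback_eq_zero (pullback.fst f g) φ h0 z e)
        have h := H99Hom.ker_stalkMap_le f g (pullback.fst f g) (pullback.snd f g) (IsPullback.of_hasPullback f g)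
          z _ c hc qJ Ideal.Quotient.mk_surjective rfl
        rwa [show RingHom.ker qJ.hom = J from Ideal.mk_ker] at h
      refine Submodule.smul_mono_left ?_ (hgen _ hz e c hcomm)
      haveI : IsLocalHom c.hom := inferInstanceAs (IsLocalHom (f.stalkMap (u pt)).hom)
      rw [Ideal.map_pow]
      refine Ideal.pow_right_mono ?_ _
      rw [Ideal.map_le_iff_le_comap]
      exact fun x hx => map_nonunit c.hom x hx
    obtain ⟨_, ⟨V, hV, rfl⟩, hxV, -⟩ := X.isBasis_affineOpens.exists_subset_of_mem_open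
      (show u pt ∈ (⊤ : X.Opens) from trivial) isOpen_univ
    have := hF.1
    haveI : Module.Finite Γ(X, V) Γ(F, V) := CohBasics.Closure.finite_sections hF hV
    letI := X.presheaf.algebra_section_stalk ⟨_, hxV⟩
    letI := StalkLoc.Basic.moduleSections F hxV
    haveI := StalkLoc.Basic.isScalarTower_sections F hxV
    haveI := hV.isLocalization_stalk ⟨_, hxV⟩
    haveI := StalkLoc.Basic.isLocalizedModule_germ (M := F) hV hxV
    haveI : Module.Finite (X.presheaf.stalk (u pt)) (F.presheaf.stalk (u pt)) :=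
      Module.Finite.of_isLocalizedModule (hV.primeIdealOf ⟨_, hxV⟩).asIdeal.primeCompl
        (StalkLoc.Basic.germₗ F hxV)
    rw [LinearMap.zero_apply, ← Submodule.mem_bot (R := X.presheaf.stalk (u pt)),
      ← Ideal.iInf_pow_smul_eq_bot_of_isLocalRing (M := F.presheaf.stalk (u pt))
        (IsLocalRing.maximalIdeal (X.presheaf.stalk (u pt))) (IsLocalRing.maximalIdeal.isMaximal _).ne_top,
      Submodule.mem_iInf]
    exact fun N => Submodule.smul_mono_left (Ideal.pow_le_pow_right N.le_succ) (hmem N)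


end Groth.Agent.S15268
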