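import Groth.Statements.S1527
import Groth.Agent.H34.DefAmple
import Groth.Agent.Lib.Devissage.Dim
import Groth.Agent.Lib.Modules.Support
import Groth.Agent.Lib.Curves.GlobalSections
-- import your own Groth.Agent.* helpers here

set_option autoImplicit false
universe u
open CategoryTheory CategoryTheory.Limits AlgebraicGeometry
open Variety

namespace Groth.Agent.S1527

theorem stalk_subsingleton {X : Scheme.{u}} (F : X.Modules) (hF : Coh.IsCoh F)
    (hsupp : topologicalKrullDim (CohB1.support F) ≤ 0) [CompactSpace X] (x : X)
    (hx : ¬ IsClosed ({x} : Set X)) : Subsingleton (F.presheaf.stalk x) := by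
  by_contra hne
  have hxs : x ∈ CohB1.support F := Classical.not_not.1 (mt Groth.Agent.Lib.Modules.Support.not_mem_support_iff.1 hne)
  haveI := hF.2
  have hcl := Groth.Agent.Lib.Modules.Support.isClosed_support F
  obtain ⟨y, hyx, hy⟩ := IsClosed.exists_closed_singleton (isClosed_closure (s := ({x} : Set X)))
    ⟨x, subset_closure rfl⟩
  have hle : ∀ z ∈ CohB1.support F, topologicalKrullDim (closure {z} : Set X) ≤ 0 := fun z hz =>
    (Groth.Agent.Lib.Devissage.Dim.dim_closure_le hcl hz).trans hsupp
  have hy0 : topologicalKrullDim (closure {y} : Set X) = ((0 : ℕ) : WithBot ℕ∞) := by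
    refine le_antisymm (hle y (Groth.Agent.Lib.Devissage.Basic.closure_subset_of_mem hcl hxs hyx)) ?_
    haveI : Nonempty (closure {y} : Set X) := ⟨⟨y, subset_closure rfl⟩⟩
    haveI : Nonempty (TopologicalSpace.IrreducibleCloseds (closure {y} : Set X)) :=
      ⟨⟨closure {⟨y, subset_closure rfl⟩}, isIrreducible_singleton.closure, isClosed_closure⟩⟩
    exact Order.krullDim_nonneg
  exact hx (Groth.Agent.Lib.Devissage.Dim.eq_of_specializes (specializes_iff_mem_closure.2 hyx) hy0
    (hle x hxs) ▸ hy)

/-- On a proper scheme over a field, a coherent module whose support has dimension at most zero is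
globally generated (a quotient of a free module). -/
theorem result (k : Type u) [Field k] (X : Scheme.{u}) [X.Over (Spec (CommRingCat.of k))] [IsProper (X ↘ (Spec (CommRingCat.of k)))]
    (F : X.Modules) (hF : Coh.IsCoh F) (hsupp : topologicalKrullDim (CohB1.support F) ≤ 0) :
    Curv2.IsGloballyGenerated F := by
  haveI := Groth.Agent.Lib.Curves.GlobalSections.isNoetherian_of_proper k X
  exact Groth.Agent.H34.DefAmple.gg_of_torsion (stalk_subsingleton F hF hsupp)

end Groth.Agent.S1527
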