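import Groth.Statements.S15272
import Groth.Agent.Lib.ShStab.Abelian
import Groth.Agent.Lib.Curves.GlobalSections

set_option autoImplicit false
open CategoryTheory CategoryTheory.Limits AlgebraicGeometry
open Coherent

namespace Groth.Agent.S15272

open Groth.Agent.Lib Groth.Agent.Lib.ShStab

/-- Over the complex numbers, let X be a proper scheme with an ample invertible sheaf L, and let E and F
be coherent sheaves on X which are semistable of dimension d with respect to L (nonzero, pure of
dimension d, and the reduced Hilbert polynomial of every nonzero proper coherent subsheaf is at most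
that of the sheaf for large arguments), with the same reduced Hilbert polynomial (r(F)·p_E =
r(E)·p_F for Hilbert polynomials p_E of E and p_F of F with respect to L, r denoting d! times the
degree-d coefficient). Then for every morphism f from E to F: the kernel of f is either zero or
semistable of dimension d with every Hilbert polynomial p_K of it satisfying r(E)·p_K = r(K)·p_E;
and the cokernel of f is either zero or semistable of dimension d with every Hilbert polynomial p_Q
of it satisfying r(E)·p_Q = r(Q)·p_E. In other words the semistable sheaves of dimension d with a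
fixed reduced Hilbert polynomial form an abelian subcategory. (The published statement is for
modules over a sheaf of rings of differential operators; this row is the case of the structure
sheaf.) -/
theorem result
    (X : Scheme.{0}) [X.Over (Spec (CommRingCat.of ℂ))] [IsProper (X ↘ Spec (CommRingCat.of ℂ))]
    (L : X.Modules) (hL : CohB1.IsAmple L) (d : ℕ)
    (E F : X.Modules) (hE : ShStab.IsSemistable ℂ X L E d) (hF : ShStab.IsSemistable ℂ X L F d)
    (pE pF : Polynomial ℚ) (hpE : ShStab.IsHilbPoly ℂ X L E pE) (hpF : ShStab.IsHilbPoly ℂ X L F pF)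
    (hred : StabCat.RedEq d pE pF) (f : E ⟶ F) :
    (IsZero (kernel f) ∨ (ShStab.IsSemistable ℂ X L (kernel f) d ∧
        ∀ pK : Polynomial ℚ, ShStab.IsHilbPoly ℂ X L (kernel f) pK → StabCat.RedEq d pK pE)) ∧
    (IsZero (cokernel f) ∨ (ShStab.IsSemistable ℂ X L (cokernel f) d ∧
        ∀ pQ : Polynomial ℚ, ShStab.IsHilbPoly ℂ X L (cokernel f) pQ → StabCat.RedEq d pQ pE)) := by
  haveI := Groth.Agent.Lib.Curves.GlobalSections.isNoetherian_of_proper ℂ X
  rw [← SubLattice.hp_eq ℂ L hpE, ← SubLattice.hp_eq ℂ L hpF] at hred
  rw [← SubLattice.hp_eq ℂ L hpE]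
  refine ⟨or_iff_not_imp_left.2 fun hz => ?_, or_iff_not_imp_left.2 fun hz => ?_⟩
  · obtain ⟨h1, h2⟩ := AbelianSub.kernel_isSemistable hL hE hF hred f hz
    exact ⟨h1, fun p hp => by rw [← SubLattice.hp_eq ℂ L hp]; exact h2⟩
  · obtain ⟨h1, h2⟩ := AbelianSub.cokernel_isSemistable hL hE hF hred f hz
    exact ⟨h1, fun p hp => by rw [← SubLattice.hp_eq ℂ L hp]; exact h2⟩

end Groth.Agent.S15272
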