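import Groth.Statements.S15285
import Mathlib.CategoryTheory.Monoidal.Functor
import Mathlib.CategoryTheory.Groupoid


set_option autoImplicit false
universe v v' u u'
open PicCat

namespace Groth.Agent.S15285

open CategoryTheory MonoidalCategory in
/-- Let C and D be Picard categories (monoidal groupoids in which tensoring on either side with any
object is an equivalence of categories) and F : C ⥤ D a lax monoidal functor. If F induces a
bijection on isomorphism classes of objects (it is essentially surjective, and F X ≅ F Y only when X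
≅ Y) and a bijection on endomorphisms of the unit object, then F is an equivalence of categories. -/
theorem result
    {C : Type u} [Category.{v} C] [MonoidalCategory C] [IsGroupoid C]
    {D : Type u'} [Category.{v'} D] [MonoidalCategory D] [IsGroupoid D]
    (hC : ∀ X : C, (tensorLeft X).IsEquivalence ∧ (tensorRight X).IsEquivalence)
    (hD : ∀ X : D, (tensorLeft X).IsEquivalence ∧ (tensorRight X).IsEquivalence)
    (F : C ⥤ D) [F.LaxMonoidal] [F.EssSurj]
    (h0 : ∀ X Y : C, Nonempty (F.obj X ≅ F.obj Y) → Nonempty (X ≅ Y))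
    (h1 : Function.Bijective (fun φ : 𝟙_ C ⟶ 𝟙_ C => F.map φ)) :
    F.IsEquivalence := by
  open Functor.LaxMonoidal in
  have key : ∀ (X : C) (φ : 𝟙_ C ⟶ 𝟙_ C), F.map φ ▷ F.obj X =
      Functor.LaxMonoidal.μ F (𝟙_ C) X ≫ F.map (φ ▷ X) ≫ inv (Functor.LaxMonoidal.μ F (𝟙_ C) X) := by
    intro X φ
    rw [← Functor.LaxMonoidal.μ_natural_left_assoc, IsIso.hom_inv_id, Category.comp_id]
  have endFull : ∀ (X : C) (a : F.obj X ⟶ F.obj X), ∃ b : X ⟶ X, F.map b = a := by
    intro X a
    have := (hD (F.obj X)).2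
    obtain ⟨χ, hχ⟩ := (tensorRight (F.obj X)).map_surjective
      (Functor.LaxMonoidal.μ F (𝟙_ C) X ≫ (F.map (λ_ X).hom ≫ a ≫ F.map (λ_ X).inv) ≫
        inv (Functor.LaxMonoidal.μ F (𝟙_ C) X))
    obtain ⟨φ, hφ⟩ := h1.2 χ
    refine ⟨(λ_ X).inv ≫ (φ ▷ X) ≫ (λ_ X).hom, ?_⟩
    have h2 : F.map (φ ▷ X) = F.map (λ_ X).hom ≫ a ≫ F.map (λ_ X).inv := by
      rw [← cancel_mono (inv (Functor.LaxMonoidal.μ F (𝟙_ C) X)),
        ← cancel_epi (Functor.LaxMonoidal.μ F (𝟙_ C) X), ← key X φ]
      simp only [hφ]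
      exact hχ
    simp only [Functor.map_comp, h2, Category.assoc, Iso.map_inv_hom_id, Iso.map_inv_hom_id_assoc, Category.comp_id]
  have endFaith : ∀ (X : C) (b : X ⟶ X), F.map b = 𝟙 _ → b = 𝟙 _ := by
    intro X b hb
    have := (hC X).2
    obtain ⟨φ, hφ⟩ := (tensorRight X).map_surjective ((λ_ X).hom ≫ b ≫ (λ_ X).inv)
    dsimp at hφ
    have h2 : F.map (φ ▷ X) = 𝟙 _ := by
      rw [hφ]; simp [hb]
    have := (hD (F.obj X)).2
    have h3 : F.map φ = 𝟙 _ := (tensorRight (F.obj X)).map_injective (by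
      dsimp
      rw [key X φ, h2, Category.id_comp, IsIso.hom_inv_id, MonoidalCategory.id_whiskerRight])
    have h4 : φ = 𝟙 _ := h1.1 (show F.map φ = F.map (𝟙 _) by rw [h3, F.map_id])
    rw [h4, MonoidalCategory.id_whiskerRight] at hφ
    rw [← cancel_epi (λ_ X).hom, ← cancel_mono (λ_ X).inv, Category.assoc, ← hφ]
    simp
  have : F.Full := ⟨fun {X Y} ψ => by
    obtain ⟨e⟩ := h0 X Y ⟨asIso ψ⟩
    obtain ⟨b, hb⟩ := endFull X (ψ ≫ F.map e.inv)
    exact ⟨b ≫ e.hom, by simp [hb, ← F.map_comp]⟩⟩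
  have : F.Faithful := ⟨fun {X Y} a b hab => by
    have := endFaith X (a ≫ inv b) (by rw [F.map_comp, hab, ← F.map_comp, IsIso.hom_inv_id, F.map_id])
    exact (IsIso.comp_inv_eq b).1 this |>.trans (Category.id_comp b)⟩
  exact { }

end Groth.Agent.S15285
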