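import Groth.Statements.S15286
import Mathlib

set_option autoImplicit false
set_option backward.isDefEq.respectTransparency false
universe v v' u u'
open PicCat

namespace Groth.Agent.S15286

section

open CategoryTheory MonoidalCategory

variable {D : Type u'} [Category.{v'} D] [MonoidalCategory D]

/-- Action of the endomorphisms of the unit. -/
def act (φ : 𝟙_ D ⟶ 𝟙_ D) (Z : D) : Z ⟶ Z := (λ_ Z).inv ≫ φ ▷ Z ≫ (λ_ Z).hom

theorem act_naturality (φ : 𝟙_ D ⟶ 𝟙_ D) {Z W : D} (f : Z ⟶ W) : f ≫ act φ W = act φ Z ≫ f := by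
  simp only [act, ← Category.assoc, leftUnitor_inv_naturality]
  simp only [Category.assoc]
  rw [whisker_exchange_assoc, leftUnitor_naturality]

theorem act_id (Z : D) : act (𝟙 (𝟙_ D)) Z = 𝟙 Z := by simp [act]

theorem act_comp (φ ψ : 𝟙_ D ⟶ 𝟙_ D) (Z : D) : act (φ ≫ ψ) Z = act φ Z ≫ act ψ Z := by simp [act]

theorem act_unit (φ : 𝟙_ D ⟶ 𝟙_ D) : act φ (𝟙_ D) = φ := by
  simp [act, unitors_equal, unitors_inv_equal]

theorem act_tensor_left (φ : 𝟙_ D ⟶ 𝟙_ D) (Z W : D) : act φ (Z ⊗ W) = act φ Z ▷ W := by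
  simp [act, comp_whiskerRight]

theorem act_tensor_right [BraidedCategory D] (φ : 𝟙_ D ⟶ 𝟙_ D) (Z W : D) : act φ (Z ⊗ W) = Z ◁ act φ W := by
  rw [← cancel_mono (β_ Z W).hom, BraidedCategory.braiding_naturality_right, ← act_tensor_left, ← act_naturality]

theorem act_bijective (h : ∀ Z : D, (tensorRight Z).IsEquivalence) (Z : D) :
    Function.Bijective fun φ : 𝟙_ D ⟶ 𝟙_ D => act φ Z := by
  haveI := h Z
  constructor
  · intro φ ψ e
    simp only [act, cancel_epi, cancel_mono] at e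
    exact (tensorRight Z).map_injective e
  · intro f
    obtain ⟨φ, hφ⟩ := (tensorRight Z).map_surjective (X := 𝟙_ D) (Y := 𝟙_ D) ((λ_ Z).hom ≫ f ≫ (λ_ Z).inv)
    change φ ▷ Z = _ at hφ
    exact ⟨φ, by simp [act, hφ]⟩

end

open CategoryTheory MonoidalCategory in
/-- Let C be a Picard category, D a commutative (braided) Picard category, F, G : C ⥤ D lax monoidal
functors and θ₀ : F ⟶ G a monoidal natural transformation. Identify an endomorphism φ of the unit of
D with the automorphism λ⁻¹ ≫ (φ ▷ Z) ≫ λ of any object Z. Then the monoidal natural transformations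
F ⟶ G form a torsor under the monoid homomorphisms χ from the monoid of isomorphism classes of C to
End(𝟙_D): every monoidal θ : F ⟶ G is X ↦ θ₀_X ≫ (action of χ[X] on G X) for a unique such χ, and
for every χ this formula defines a monoidal natural transformation. (The published statement allows
D non-commutative; for a non-braided monoidal groupoid the classes so obtained are crossed rather
than plain homomorphisms, so D is taken braided here.) -/
theorem result
    {C : Type u} [Category.{v} C] [MonoidalCategory C] [IsGroupoid C]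
    {D : Type u'} [Category.{v'} D] [MonoidalCategory D] [BraidedCategory D] [IsGroupoid D]
    (hC : ∀ X : C, (tensorLeft X).IsEquivalence ∧ (tensorRight X).IsEquivalence)
    (hD : ∀ X : D, (tensorLeft X).IsEquivalence ∧ (tensorRight X).IsEquivalence)
    (F G : C ⥤ D) [F.LaxMonoidal] [G.LaxMonoidal] (θ₀ : F ⟶ G) [NatTrans.IsMonoidal θ₀] :
    (∀ θ : F ⟶ G, NatTrans.IsMonoidal θ →
      ∃! χ : Skeleton C →* End (𝟙_ D), ∀ X : C,
        θ.app X = θ₀.app X ≫ (λ_ (G.obj X)).inv ≫
          ((χ (toSkeleton X) : 𝟙_ D ⟶ 𝟙_ D) ▷ G.obj X) ≫ (λ_ (G.obj X)).hom) ∧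
    (∀ χ : Skeleton C →* End (𝟙_ D), ∃ θ : F ⟶ G, NatTrans.IsMonoidal θ ∧ ∀ X : C,
        θ.app X = θ₀.app X ≫ (λ_ (G.obj X)).inv ≫
          ((χ (toSkeleton X) : 𝟙_ D ⟶ 𝟙_ D) ▷ G.obj X) ≫ (λ_ (G.obj X)).hom) := by
  haveI hiso : ∀ X, IsIso (θ₀.app X) := fun X => inferInstance
  have hR : ∀ Z : D, (tensorRight Z).IsEquivalence := fun Z => (hD Z).2
  have hcomm : ∀ φ ψ : 𝟙_ D ⟶ 𝟙_ D, φ ≫ ψ = ψ ≫ φ := fun φ ψ => by
    have := act_naturality ψ φ
    rwa [act_unit] at this
  refine ⟨fun θ hθ => ?_, fun χ => ?_⟩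
  · choose φ hφ using fun X : C => (act_bijective hR (G.obj X)).2 (inv (θ₀.app X) ≫ θ.app X)
    have hθ' : ∀ X, θ.app X = θ₀.app X ≫ act (φ X) (G.obj X) := fun X => by
      rw [show act (φ X) (G.obj X) = _ from hφ X, IsIso.hom_inv_id_assoc]
    have hwd : ∀ X Y : C, (X ≅ Y) → φ X = φ Y := fun X Y e => by
      refine (act_bijective hR (G.obj X)).1 ?_
      have h1 := θ.naturality e.hom
      rw [hθ', hθ', ← Category.assoc, θ₀.naturality, Category.assoc, Category.assoc, cancel_epi,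
        act_naturality] at h1
      exact ((cancel_mono (G.map e.hom)).mp h1).symm
    have hmul : ∀ X Y : C, φ (X ⊗ Y) = φ X ≫ φ Y := fun X Y => by
      refine (act_bijective hR (G.obj X ⊗ G.obj Y)).1 ?_
      have h1 := NatTrans.IsMonoidal.tensor (τ := θ) X Y
      rw [hθ', hθ' X, hθ' Y, NatTrans.IsMonoidal.tensor_assoc (τ := θ₀), MonoidalCategory.tensorHom_comp_tensorHom_assoc .. |>.symm,
        act_naturality] at h1
      rw [cancel_epi, cancel_mono] at h1
      show act _ _ = act _ _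
      rw [h1, act_comp, MonoidalCategory.tensorHom_def, ← act_tensor_left, ← act_tensor_right]
    have hone : φ (𝟙_ C) = 𝟙 _ := by
      refine (act_bijective hR (𝟙_ D)).1 ?_
      have h1 := NatTrans.IsMonoidal.unit (τ := θ)
      rw [hθ', NatTrans.IsMonoidal.unit_assoc (τ := θ₀), act_naturality] at h1
      show act _ _ = act _ _
      rw [act_id]
      rw [← cancel_mono (Functor.LaxMonoidal.ε G), h1, Category.id_comp]
    let r : Skeleton C → C := (fromSkeleton C).obj
    have hr : ∀ X : C, φ (r (toSkeleton X)) = φ X := fun X => hwd _ _ (fromSkeletonToSkeletonIso X)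
    let χ : Skeleton C →* End (𝟙_ D) :=
      { toFun := fun q => φ (r q)
        map_one' := by
          show φ (r (toSkeleton (𝟙_ C))) = 𝟙 _
          rw [hr, hone]
        map_mul' := fun p q => by
          obtain ⟨X, rfl⟩ : ∃ X, toSkeleton X = p := ⟨r p, toSkeleton_eq_iff.mpr ⟨Iso.refl _⟩⟩
          obtain ⟨Y, rfl⟩ : ∃ Y, toSkeleton Y = q := ⟨r q, toSkeleton_eq_iff.mpr ⟨Iso.refl _⟩⟩
          rw [← Skeleton.toSkeleton_tensorObj]
          show φ (r _) = φ (r _) ≫ φ (r _)
          rw [hr, hr, hr, hmul, hcomm] }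
    refine ⟨χ, fun X => ?_, fun χ' hχ' => ?_⟩
    · show _ = θ₀.app X ≫ act (φ (r (toSkeleton X))) (G.obj X)
      rw [hr]
      exact hθ' X
    · refine MonoidHom.ext fun q => ?_
      obtain ⟨X, rfl⟩ : ∃ X, toSkeleton X = q := ⟨r q, toSkeleton_eq_iff.mpr ⟨Iso.refl _⟩⟩
      refine (act_bijective hR (G.obj X)).1 ?_
      have h1 : θ₀.app X ≫ act (χ' (toSkeleton X)) (G.obj X) = θ₀.app X ≫ act (φ X) (G.obj X) :=
        (hχ' X).symm.trans (hθ' X)
      show act _ _ = act (φ (r _)) _
      rw [hr]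
      exact (cancel_epi _).mp h1
  · let a : C → (𝟙_ D ⟶ 𝟙_ D) := fun X => χ (toSkeleton X)
    let θ : F ⟶ G :=
      { app := fun X => θ₀.app X ≫ act (a X) (G.obj X)
        naturality := fun X Y f => by
          have : a X = a Y := congrArg (fun q => (χ q : 𝟙_ D ⟶ 𝟙_ D))
            (toSkeleton_eq_iff.mpr ⟨(asIso f).trans (fromSkeletonToSkeletonIso Y).symm⟩)
          rw [θ₀.naturality_assoc, Category.assoc, this, act_naturality] }
    refine ⟨θ, ⟨?_, fun X Y => ?_⟩, fun X => rfl⟩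
    · show Functor.LaxMonoidal.ε F ≫ θ₀.app _ ≫ act (a _) _ = _
      have : a (𝟙_ C) = 𝟙 _ := χ.map_one
      rw [this, act_id, Category.comp_id, NatTrans.IsMonoidal.unit (τ := θ₀)]
    · show Functor.LaxMonoidal.μ F X Y ≫ θ₀.app _ ≫ act (a _) _ = ((θ₀.app X ≫ act (a X) _) ⊗ₘ (θ₀.app Y ≫ act (a Y) _)) ≫ _
      have : a (X ⊗ Y) = a X ≫ a Y := by
        show χ (toSkeleton (X ⊗ Y)) = _
        rw [Skeleton.toSkeleton_tensorObj, map_mul]
        exact hcomm _ _
      rw [NatTrans.IsMonoidal.tensor_assoc (τ := θ₀), act_naturality, this, act_comp, ← MonoidalCategory.tensorHom_comp_tensorHom,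
        MonoidalCategory.tensorHom_def (act (a X) _), ← act_tensor_left, ← act_tensor_right]
      simp only [Category.assoc]

end Groth.Agent.S15286
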