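import Groth.Statements.S15287
import Groth.Agent.Lib.Ample.GG
-- import your own Groth.Agent.* helpers here

set_option autoImplicit false
universe u
open CategoryTheory AlgebraicGeometry
open PicF

namespace Groth.Agent.S15287

open Groth.Agent.Lib
open TensorMod TensorMod.Basic TensorMod.Dual TensorMod.Gen Ample Ample.GenLocus Ample.Pow Ample.Basis

theorem main {Y : Scheme.{u}} [QuasiSeparatedSpace Y] (A : Y.Modules) (hA : CohB1.IsAmple A)
    (L : Y.Modules) (hL : PicF.IsInvertible L) (Z : Set Y) (hZ : Z.Finite) :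
    ∃ N₀ : ℕ, ∀ N : ℕ, N₀ ≤ N →
      ∃ s : Coh.structureModule Y ⟶ CohB1.tensorMod L (CohB1.tensorPow A N),
        Z ⊆ CohB1.genLocus (CohB1.tensorMod L (CohB1.tensorPow A N)) s := by
  classical
  obtain ⟨hi, hc, -⟩ := isAmple_iff.1 hA
  have := hc
  -- closed points of `Z` for the specialization order
  let Z₀ : Set Y := {z ∈ Z | ∀ z' ∈ Z, z ⤳ z' → z' = z}
  have hmin : ∀ z ∈ Z, ∃ z' ∈ Z₀, z ⤳ z' := by
    intro z hz
    obtain ⟨z', ⟨hz', hzz'⟩, hmax⟩ := (hZ.subset (Set.sep_subset Z (z ⤳ ·))).exists_minimalFor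
      (fun w => closure ({w} : Set Y)) {w ∈ Z | z ⤳ w} ⟨z, hz, specializes_rfl⟩
    refine ⟨z', ⟨hz', fun w hw hzw => ?_⟩, hzz'⟩
    have h1 : closure ({w} : Set Y) ⊆ closure {z'} := specializes_iff_closure_subset.1 hzw
    have h2 := hmax ⟨hw, hzz'.trans hzw⟩ h1
    exact (Inseparable.eq ((specializes_iff_closure_subset.2 h2).antisymm hzw))
  have : Fintype Z₀ := (hZ.subset (Set.sep_subset _ _)).fintype
  have hsel : ∀ z : Z₀, ∃ n : ℕ, 0 < n ∧ ∃ s : Coh.structureModule Y ⟶ CohB1.tensorPow A n,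
      (z : Y) ∈ CohB1.genLocus _ s ∧
        ∀ z' : Z₀, z' ≠ z → (z' : Y) ∉ CohB1.genLocus _ s := by
    intro z
    let C : Set Y := ⋃ z' : {z' : Z₀ // z' ≠ z}, closure {(z'.1 : Y)}
    have hC : IsClosed C := isClosed_iUnion_of_finite fun _ => isClosed_closure
    have hzC : (z : Y) ∉ C := fun h => by
      obtain ⟨⟨z', hne⟩, hz'⟩ := Set.mem_iUnion.1 h
      exact hne (Subtype.ext ((z'.2.2 z z.2.1 (specializes_iff_mem_closure.2 hz')).symm))
    obtain ⟨n, hn, s, hzs, hsU, hsa⟩ := exists_locus_subset hA (U := ⟨Cᶜ, hC.isOpen_compl⟩)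
      (x := (z : Y)) hzC
    exact ⟨n, hn, s, hzs, fun z' hne hz' =>
      (hsU hz') (Set.mem_iUnion.2 ⟨⟨z', hne⟩, subset_closure rfl⟩)⟩
  choose n hn s hzs hoth using hsel
  let K := ∏ z, n z
  have hK : 0 < K := Finset.prod_pos fun z _ => hn z
  let k : Z₀ → ℕ := fun z => ∏ w ∈ Finset.univ.erase z, n w
  have hnk : ∀ z, n z * k z = K := fun z => Finset.mul_prod_erase _ _ (Finset.mem_univ z)
  let σ : Z₀ → (Coh.structureModule Y ⟶ CohB1.tensorPow A K) := fun z =>
    SecTwist.powHom (s z) (k z) ≫ (powMul A (n z) (k z) ≪≫ powCongr A (hnk z)).hom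
  have hσ : ∀ z, CohB1.genLocus _ (σ z) = CohB1.genLocus _ (s z) := fun z => by
    rw [genLocus_comp_iso, genLocus_powHom (Invertible.isInvertible_tensorPow hi _) _ _
      (Finset.prod_pos fun w _ => hn w)]
  obtain ⟨n₀, hn₀⟩ := GG.eventually_genAt_twist hA L (GG.isCoh_of_isInvertible hL)
  refine ⟨n₀ + K, fun N hN => ?_⟩
  have hP : PicF.IsInvertible (CohB1.tensorMod L (CohB1.tensorPow A (N - K))) :=
    Invertible.isInvertible_tensorMod hL (Invertible.isInvertible_tensorPow hi _)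
  choose v hv using fun z : Z₀ =>
    GG.exists_genLocus_of_genAt hP (hn₀ (N - K) (by omega) (z : Y))
  let e : CohB1.tensorMod (CohB1.tensorMod L (CohB1.tensorPow A (N - K))) (CohB1.tensorPow A K) ≅
      CohB1.tensorMod L (CohB1.tensorPow A N) :=
    Basic.assoc _ _ _ ≪≫ tensorIso (Iso.refl L)
      ((powAdd A (N - K) K).symm ≪≫ powCongr A (by omega))
  let τ : Z₀ → (Coh.structureModule Y ⟶ CohB1.tensorMod L (CohB1.tensorPow A N)) := fun z =>
    SecTwist.tmulHom (v z) (σ z) ≫ e.hom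
  have hτ : ∀ z, CohB1.genLocus _ (τ z) = CohB1.genLocus _ (v z) ⊓ CohB1.genLocus _ (s z) := fun z => by
    rw [genLocus_comp_iso, genLocus_tmulHom hP (Invertible.isInvertible_tensorPow hi K), hσ]
  refine ⟨∑ z, τ z, fun z hz => ?_⟩
  obtain ⟨z', hz', hzz'⟩ := hmin z hz
  refine hzz'.mem_open (CohB1.genLocus _ _).isOpen (mem_genLocus_sum
    (Invertible.isInvertible_tensorMod hL (Invertible.isInvertible_tensorPow hi N))
    _ τ (Finset.mem_univ ⟨z', hz'⟩) (hτ ⟨z', hz'⟩ ▸ ⟨hv _, hzs _⟩) fun w _ hne h => ?_)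
  exact hoth w ⟨z', hz'⟩ hne.symm ((hτ w).le h).2

/-- Let Y be a scheme proper over a field k carrying an ample invertible O_Y-module A, let L be an
invertible O_Y-module and y_1, …, y_m finitely many points of Y. Then there is N₀ such that for
every N ≥ N₀ the module L ⊗ A^{⊗ N} has a global section generating it at every y_i (each y_i lies
in the largest open over which the section is a basis). (The published statement takes Y projective
over k and A very ample; this row takes Y proper over k and A ample.) -/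
theorem result
    (k : Type u) [Field k] (Y : Scheme.{u}) (f : Y ⟶ Spec (CommRingCat.of k)) [IsProper f]
    (A : Y.Modules) (hA : CohB1.IsAmple A) (L : Y.Modules) (hL : PicF.IsInvertible L)
    (ι : Type) [Finite ι] (y : ι → ↥Y) :
    ∃ N₀ : ℕ, ∀ N : ℕ, N₀ ≤ N →
      ∃ s : Coh.structureModule Y ⟶ CohB1.tensorMod L (CohB1.tensorPow A N),
        ∀ i : ι, y i ∈ CohB1.genLocus (CohB1.tensorMod L (CohB1.tensorPow A N)) s := by
  have : QuasiSeparatedSpace Y := quasiSeparatedSpace_of_quasiSeparated f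
  obtain ⟨N₀, h⟩ := main A hA L hL (Set.range y) (Set.finite_range y)
  refine ⟨N₀, fun N hN => ?_⟩
  obtain ⟨s, hs⟩ := h N hN
  exact ⟨s, fun i => hs ⟨i, rfl⟩⟩

end Groth.Agent.S15287
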