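import Groth.Statements.S1529
import Mathlib.AlgebraicGeometry.Artinian
import Mathlib.AlgebraicGeometry.Morphisms.Finite
import Mathlib.RingTheory.Jacobson.Artinian
-- import your own Groth.Agent.* helpers here

set_option autoImplicit false
universe u
open CategoryTheory CategoryTheory.Limits AlgebraicGeometry
open Variety

namespace Groth.Agent.S1529

set_option backward.isDefEq.respectTransparency.types false in
/-- A scheme of finite type over a field whose underlying topological space has Krull dimension at most
zero is affine, and its structure morphism is finite. -/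
theorem result (k : Type u) [Field k] (X : Scheme.{u}) [X.Over (Spec (CommRingCat.of k))]
    [LocallyOfFiniteType (X ↘ (Spec (CommRingCat.of k)))] [QuasiCompact (X ↘ (Spec (CommRingCat.of k)))]
    (hdim : topologicalKrullDim X ≤ 0) :
    IsAffine X ∧ IsFinite (X ↘ (Spec (CommRingCat.of k))) := by
  set f := X ↘ (Spec (CommRingCat.of k))
  have : IsLocallyNoetherian X := LocallyOfFiniteType.isLocallyNoetherian f
  have : CompactSpace X := QuasiCompact.compactSpace_of_compactSpace f
  have hA : IsLocallyArtinian X := IsLocallyArtinian.of_topologicalKrullDim_le_zero hdim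
  have : IsArtinianScheme X := {}
  have hd : DiscreteTopology X := inferInstance
  let U : X → X.Opens := fun x => ⟨{x}, isOpen_discrete _⟩
  have hU : ∀ x, IsAffineOpen (U x) := by
    intro x
    obtain ⟨V, hV, hxV, hVU⟩ :=
      exists_isAffineOpen_mem_and_subset (X := X) (x := x) (U := U x) rfl
    have : V = U x := le_antisymm hVU fun y hy => by
      rw [Set.mem_singleton_iff.1 hy]; exact hxV
    exact this ▸ hV
  have hX : IsAffine X := by
    have h := IsAffineOpen.iSup_of_disjoint hU (fun a b hab => by
      rw [Function.onFun, ← TopologicalSpace.Opens.coe_disjoint]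
      exact Set.disjoint_singleton.2 hab)
    have htop : iSup U = ⊤ := top_le_iff.1 fun y _ => TopologicalSpace.Opens.mem_iSup.2 ⟨y, rfl⟩
    rw [htop] at h
    haveI : IsAffine (⊤ : X.Opens).toScheme := h
    exact IsAffine.of_isIso X.topIso.inv
  refine ⟨hX, ?_⟩
  refine (HasAffineProperty.iff_of_isAffine (P := @IsFinite.{u})
    (Q := fun X _ f _ ↦ IsAffine X ∧ RingHom.Finite (f.appTop).hom) (f := f)).2 ⟨hX, ?_⟩
  have hft : f.appTop.hom.FiniteType :=
    (HasRingHomProperty.iff_of_isAffine (P := @LocallyOfFiniteType)).1 inferInstance
  letI := f.appTop.hom.toAlgebra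
  have : Algebra.FiniteType Γ(Spec (CommRingCat.of k), ⊤) Γ(X, ⊤) := hft
  have : IsArtinianRing Γ(Spec (CommRingCat.of k), ⊤) := inferInstance
  exact (Module.finite_iff_isArtinianRing (R := Γ(Spec (CommRingCat.of k), ⊤)) (A := Γ(X, ⊤))).2
    inferInstance


end Groth.Agent.S1529
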