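import Groth.Statements.S15291
import Mathlib.CategoryTheory.Monoidal.Braided.Basic
import Mathlib.CategoryTheory.Monoidal.NaturalTransformation
import Mathlib.CategoryTheory.Groupoid

set_option autoImplicit false
open CategoryTheory MonoidalCategory

namespace Groth.Agent.S15291Aux

universe u' v' u v

/-- Formal expressions. -/
inductive Obj (A : Type u) : Type u
  | of : A → Obj A
  | unit : Obj A
  | tensor : Obj A → Obj A → Obj A
  | inv : Obj A → Obj A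

open Obj

/-- Formal morphisms. -/
inductive Pre (A : Type u) [Category.{v} A] [MonoidalCategory A] : Obj A → Obj A → Type (max u v)
  | id (X : Obj A) : Pre A X X
  | comp {X Y Z : Obj A} (f : Pre A X Y) (g : Pre A Y Z) : Pre A X Z
  | symm {X Y : Obj A} (f : Pre A X Y) : Pre A Y X
  | tens {X Y X' Y' : Obj A} (f : Pre A X Y) (g : Pre A X' Y') : Pre A (X.tensor X') (Y.tensor Y')
  | assoc (X Y Z : Obj A) : Pre A ((X.tensor Y).tensor Z) (X.tensor (Y.tensor Z))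
  | lu (X : Obj A) : Pre A (Obj.unit.tensor X) X
  | ru (X : Obj A) : Pre A (X.tensor Obj.unit) X
  | braid (X Y : Obj A) : Pre A (X.tensor Y) (Y.tensor X)
  | map {a b : A} (f : a ⟶ b) : Pre A (Obj.of a) (Obj.of b)
  | eps : Pre A Obj.unit (Obj.of (𝟙_ A))
  | mu (a b : A) : Pre A ((Obj.of a).tensor (Obj.of b)) (Obj.of (a ⊗ b))
  | counit (X : Obj A) : Pre A (X.tensor X.inv) Obj.unit

section eval

variable {A : Type u} [Category.{v} A] [MonoidalCategory A] [SymmetricCategory A]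
  {P : Type u'} [Category.{v'} P] [MonoidalCategory P] [SymmetricCategory P] [IsGroupoid P]
  (hP : ∀ X : P, (tensorLeft X).IsEquivalence) (Φ : A ⥤ P) [Φ.LaxBraided]

/-- Value of an expression in a Picard category. -/
noncomputable def evObj : Obj A → P
  | .of a => Φ.obj a
  | .unit => 𝟙_ P
  | .tensor X Y => evObj X ⊗ evObj Y
  | .inv X => have := hP (evObj X); (tensorLeft (evObj X)).objPreimage (𝟙_ P)

/-- Value of a formal morphism in a Picard category. -/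
noncomputable def ev : ∀ {X Y : Obj A}, Pre A X Y → (evObj hP Φ X ⟶ evObj hP Φ Y)
  | _, _, .id _ => 𝟙 _
  | _, _, .comp f g => ev f ≫ ev g
  | _, _, .symm f => CategoryTheory.inv (ev f)
  | _, _, .tens f g => ev f ⊗ₘ ev g
  | _, _, .assoc _ _ _ => (α_ _ _ _).hom
  | _, _, .lu _ => (λ_ _).hom
  | _, _, .ru _ => (ρ_ _).hom
  | _, _, .braid _ _ => (β_ _ _).hom
  | _, _, .map f => Φ.map f
  | _, _, .eps => Functor.LaxMonoidal.ε Φ
  | _, _, .mu a b => Functor.LaxMonoidal.μ Φ a b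
  | _, _, .counit X => have := hP (evObj hP Φ X); ((tensorLeft (evObj hP Φ X)).objObjPreimageIso (𝟙_ P)).hom

end eval

variable {A : Type u} [Category.{v} A] [MonoidalCategory A] [SymmetricCategory A]

/-- Two formal morphisms are equal if they agree in every Picard category. -/
def Rel {X Y : Obj A} (f g : Pre A X Y) : Prop :=
  ∀ (P : Type u') [Category.{v'} P] [MonoidalCategory P] [SymmetricCategory P] [IsGroupoid P]
    (hP : ∀ X : P, (tensorLeft X).IsEquivalence) (Φ : A ⥤ P) [Φ.LaxBraided],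
    ev hP Φ f = ev hP Φ g

/-- The Picardification. `D` only records the universes of the test categories. -/
structure V (A : Type u) (D : Type u' → Type v') : Type u where
  /-- underlying expression -/
  obj : Obj A

variable {D : Type u' → Type v'}

def homSetoid (X Y : V A D) : Setoid (Pre A X.obj Y.obj) where
  r := Rel.{u', v'}
  iseqv := ⟨fun _ _ => by intros; rfl, fun h P => by intros; exact (h P _ _).symm,
    fun h h' P => by intros; exact (h P _ _).trans (h' P _ _)⟩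

instance : Category.{max u v} (V A D) where
  Hom X Y := Quotient (homSetoid X Y)
  id X := Quotient.mk _ (.id X.obj)
  comp := Quotient.map₂ Pre.comp fun _ _ hf _ _ hg P => by
    intros; simp only [ev]; rw [hf P, hg P]
  id_comp := by
    intro X Y f; induction f using Quotient.ind
    exact Quotient.sound fun P => by intros; exact Category.id_comp _
  comp_id := by
    intro X Y f; induction f using Quotient.ind
    exact Quotient.sound fun P => by intros; exact Category.comp_id _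
  assoc := by
    intro W X Y Z f g h
    induction f using Quotient.ind; induction g using Quotient.ind; induction h using Quotient.ind
    exact Quotient.sound fun P => by intros; exact Category.assoc _ _ _

/-- The class of a formal morphism. -/
def mk {X Y : V A D} (f : Pre A X.obj Y.obj) : X ⟶ Y := Quotient.mk _ f

theorem mk_surjective {X Y : V A D} (f : X ⟶ Y) : ∃ g, mk g = f := Quotient.exists_rep f

theorem mk_eq {X Y : V A D} {f g : Pre A X.obj Y.obj}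
    (h : ∀ (P : Type u') [Category.{v'} P] [MonoidalCategory P] [SymmetricCategory P] [IsGroupoid P]
      (hP : ∀ X : P, (tensorLeft X).IsEquivalence) (Φ : A ⥤ P) [Φ.LaxBraided],
      ev hP Φ f = ev hP Φ g) : mk f = mk g := Quotient.sound h

theorem mk_comp {X Y Z : V A D} (f : Pre A X.obj Y.obj) (g : Pre A Y.obj Z.obj) :
    mk f ≫ mk g = (mk (f.comp g) : X ⟶ Z) := rfl

theorem id_eq (X : V A D) : 𝟙 X = mk (Pre.id X.obj) := rfl

/-- Isomorphism of a formal morphism. -/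
def mkIso {X Y : V A D} (f : Pre A X.obj Y.obj) : X ≅ Y where
  hom := mk f
  inv := mk f.symm
  hom_inv_id := mk_eq fun P => by intros; simp [ev, evObj]
  inv_hom_id := mk_eq fun P => by intros; simp [ev, evObj]

instance : IsGroupoid (V A D) where
  all_isIso f := by
    obtain ⟨g, rfl⟩ := mk_surjective f
    exact (mkIso g).isIso_hom

/-- Tensor product of classes. -/
def tens {X Y X' Y' : V A D} :
    (X ⟶ Y) → (X' ⟶ Y') → ((⟨X.obj.tensor X'.obj⟩ : V A D) ⟶ ⟨Y.obj.tensor Y'.obj⟩) :=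
  Quotient.map₂ Pre.tens fun _ _ hf _ _ hg P => by intros; simp only [ev]; rw [hf P, hg P]

instance : MonoidalCategory (V A D) where
  tensorObj X Y := ⟨X.obj.tensor Y.obj⟩
  tensorHom f g := tens f g
  whiskerLeft X _ _ f := tens (𝟙 X) f
  whiskerRight f Y := tens f (𝟙 Y)
  tensorUnit := ⟨.unit⟩
  associator X Y Z := mkIso (.assoc X.obj Y.obj Z.obj)
  leftUnitor X := mkIso (.lu X.obj)
  rightUnitor X := mkIso (.ru X.obj)
  tensorHom_def := by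
    intro _ _ _ _ f g
    obtain ⟨f, rfl⟩ := mk_surjective f; obtain ⟨g, rfl⟩ := mk_surjective g
    exact mk_eq fun P => by intros; simp [ev, evObj, MonoidalCategory.tensorHom_def]
  id_tensorHom_id _ _ := mk_eq fun P => by intros; simp [ev, evObj]
  tensorHom_comp_tensorHom := by
    intro _ _ _ _ _ _ f₁ f₂ g₁ g₂
    obtain ⟨f₁, rfl⟩ := mk_surjective f₁; obtain ⟨f₂, rfl⟩ := mk_surjective f₂
    obtain ⟨g₁, rfl⟩ := mk_surjective g₁; obtain ⟨g₂, rfl⟩ := mk_surjective g₂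
    exact mk_eq fun P => by intros; simp [ev, evObj]
  whiskerLeft_id _ _ := mk_eq fun P => by intros; simp [ev, evObj]
  id_whiskerRight _ _ := mk_eq fun P => by intros; simp [ev, evObj]
  associator_naturality := by
    intro _ _ _ _ _ _ f₁ f₂ f₃
    obtain ⟨f₁, rfl⟩ := mk_surjective f₁; obtain ⟨f₂, rfl⟩ := mk_surjective f₂
    obtain ⟨f₃, rfl⟩ := mk_surjective f₃
    exact mk_eq fun P => by intros; simp [ev, evObj]
  leftUnitor_naturality := by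
    intro _ _ f
    obtain ⟨f, rfl⟩ := mk_surjective f
    exact mk_eq fun P => by intros; simp [ev, evObj]
  rightUnitor_naturality := by
    intro _ _ f
    obtain ⟨f, rfl⟩ := mk_surjective f
    exact mk_eq fun P => by intros; simp [ev, evObj]
  pentagon _ _ _ _ := mk_eq fun P => by intros; simp [ev, evObj]
  triangle _ _ := mk_eq fun P => by intros; simp [ev, evObj]

@[simp] theorem tensor_obj (X Y : V A D) : (X ⊗ Y).obj = X.obj.tensor Y.obj := rfl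

@[simp] theorem unit_obj : (𝟙_ (V A D)).obj = Obj.unit := rfl

instance : SymmetricCategory (V A D) where
  braiding X Y := mkIso (.braid X.obj Y.obj)
  braiding_naturality_right := by
    intro _ _ _ f
    obtain ⟨f, rfl⟩ := mk_surjective f
    exact mk_eq fun P => by intros; simp [ev, evObj, tensorHom_id, id_tensorHom]
  braiding_naturality_left := by
    intro _ _ f _
    obtain ⟨f, rfl⟩ := mk_surjective f
    exact mk_eq fun P => by intros; simp [ev, evObj]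
  hexagon_forward _ _ _ := mk_eq fun P => by intros; simp [ev, evObj, BraidedCategory.hexagon_forward]
  hexagon_reverse _ _ _ := mk_eq fun P => by intros; simp [ev, evObj, BraidedCategory.hexagon_reverse]
  symmetry _ _ := mk_eq fun P => by intros; simp [ev, evObj]

theorem pic (X : V A D) : (tensorLeft X).IsEquivalence ∧ (tensorRight X).IsEquivalence := by
  let Xb : V A D := ⟨X.obj.inv⟩
  let c : X ⊗ Xb ≅ 𝟙_ (V A D) := mkIso (.counit X.obj)
  let η : 𝟭 (V A D) ≅ tensorLeft X ⋙ tensorLeft Xb :=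
    ((tensorLeftTensor Xb X).symm ≪≫ (curriedTensor (V A D)).mapIso ((β_ Xb X) ≪≫ c) ≪≫
      leftUnitorNatIso (V A D)).symm
  let ε : tensorLeft Xb ⋙ tensorLeft X ≅ 𝟭 (V A D) :=
    (tensorLeftTensor X Xb).symm ≪≫ (curriedTensor (V A D)).mapIso c ≪≫ leftUnitorNatIso (V A D)
  have h : (tensorLeft X).IsEquivalence :=
    (CategoryTheory.Equivalence.mk (tensorLeft X) (tensorLeft Xb) η ε).isEquivalence_functor
  exact ⟨h, Functor.isEquivalence_of_iso (BraidedCategory.tensorLeftIsoTensorRight X)⟩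

variable (A D) in
/-- The canonical functor. -/
def incl : A ⥤ V A D where
  obj a := ⟨.of a⟩
  map f := mk (.map f)
  map_id _ := mk_eq fun P => by intros; simp [ev, evObj]
  map_comp _ _ := mk_eq fun P => by intros; simp [ev, evObj]

@[simp] theorem incl_obj (a : A) : ((incl A D).obj a).obj = Obj.of a := rfl

instance : (incl A D).LaxBraided where
  ε := mk .eps
  μ a b := mk (.mu a b)
  μ_natural_left _ _ := mk_eq fun P => by intros; simp [ev, evObj]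
  μ_natural_right _ _ := mk_eq fun P => by intros; simp [ev, evObj]
  associativity _ _ _ := mk_eq fun P => by intros; simp [ev, evObj]
  left_unitality _ := mk_eq fun P => by intros; simp [ev, evObj]
  right_unitality _ := mk_eq fun P => by intros; simp [ev, evObj]
  braided _ _ := mk_eq fun P => by intros; simp [ev, evObj, Functor.LaxBraided.braided]

variable {P : Type u'} [Category.{v'} P] [MonoidalCategory P] [SymmetricCategory P] [IsGroupoid P]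
  (hP : ∀ X : P, (tensorLeft X).IsEquivalence)

variable (D) in
/-- The extension of a functor to the Picardification. -/
noncomputable def ext (Φ : A ⥤ P) [Φ.LaxBraided] : V A D ⥤ P where
  obj X := evObj hP Φ X.obj
  map := Quotient.lift (fun f => ev hP Φ f) fun _ _ h => h P hP Φ
  map_id _ := rfl
  map_comp := by
    intro _ _ _ f g
    obtain ⟨f, rfl⟩ := mk_surjective f; obtain ⟨g, rfl⟩ := mk_surjective g
    rfl

noncomputable instance (Φ : A ⥤ P) [Φ.LaxBraided] : (ext D hP Φ).LaxBraided where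
  ε := 𝟙 (𝟙_ P)
  μ X Y := 𝟙 (evObj hP Φ X.obj ⊗ evObj hP Φ Y.obj)
  μ_natural_left := by
    intro _ _ f _
    obtain ⟨f, rfl⟩ := mk_surjective f
    show ev hP Φ f ▷ _ ≫ 𝟙 _ = 𝟙 _ ≫ (ev hP Φ f ⊗ₘ 𝟙 _)
    simp
  μ_natural_right := by
    intro _ _ _ f
    obtain ⟨f, rfl⟩ := mk_surjective f
    show _ ◁ ev hP Φ f ≫ 𝟙 _ = 𝟙 _ ≫ (𝟙 _ ⊗ₘ ev hP Φ f)
    simp
  associativity X Y Z := by
    show 𝟙 _ ▷ _ ≫ 𝟙 _ ≫ (α_ _ _ _).hom = (α_ _ _ _).hom ≫ _ ◁ 𝟙 _ ≫ 𝟙 _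
    simp [ext, evObj]
  left_unitality X := by
    show (λ_ _).hom = 𝟙 _ ▷ _ ≫ 𝟙 _ ≫ (λ_ _).hom
    simp [ext, evObj]
  right_unitality X := by
    show (ρ_ _).hom = _ ◁ 𝟙 _ ≫ 𝟙 _ ≫ (ρ_ _).hom
    simp [ext, evObj]
  braided X Y := by
    show 𝟙 _ ≫ (β_ _ _).hom = (β_ _ _).hom ≫ 𝟙 _
    simp [ext, evObj]

theorem exists_ext (Φ : A ⥤ P) [Φ.LaxBraided] :
    ∃ η : incl A D ⋙ ext D hP Φ ≅ Φ, NatTrans.IsMonoidal η.hom := by
  refine ⟨NatIso.ofComponents (fun a => Iso.refl (Φ.obj a)) fun f => ?_, ⟨?_, fun a b => ?_⟩⟩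
  · show Φ.map f ≫ 𝟙 _ = 𝟙 _ ≫ Φ.map f
    simp
  · show (𝟙 _ ≫ Functor.LaxMonoidal.ε Φ) ≫ 𝟙 _ = Functor.LaxMonoidal.ε Φ
    simp
  · show (𝟙 _ ≫ Functor.LaxMonoidal.μ Φ a b) ≫ 𝟙 _ = (𝟙 _ ⊗ₘ 𝟙 _) ≫ Functor.LaxMonoidal.μ Φ a b
    simp [ext, evObj, incl]

open Functor.LaxMonoidal

variable (Ψ Ψ' : V A D ⥤ P) [Ψ.LaxBraided] [Ψ'.LaxBraided] (τ : incl A D ⋙ Ψ ⟶ incl A D ⋙ Ψ')

/-- Extension of a natural transformation. -/
noncomputable def θ : ∀ X : Obj A, Ψ.obj ⟨X⟩ ⟶ Ψ'.obj ⟨X⟩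
  | .of a => τ.app a
  | .unit => CategoryTheory.inv (ε Ψ) ≫ ε Ψ'
  | .tensor X Y => CategoryTheory.inv (μ Ψ ⟨X⟩ ⟨Y⟩) ≫ (θ X ⊗ₘ θ Y) ≫ μ Ψ' ⟨X⟩ ⟨Y⟩
  | .inv X =>
    have := hP (Ψ.obj ⟨X⟩)
    (tensorLeft (Ψ.obj ⟨X⟩)).preimage
      (μ Ψ ⟨X⟩ ⟨X.inv⟩ ≫ Ψ.map (mk (X := ⟨X.tensor X.inv⟩) (Y := ⟨.unit⟩) (.counit X)) ≫
        (CategoryTheory.inv (ε Ψ) ≫ ε Ψ') ≫
        CategoryTheory.inv (μ Ψ' ⟨X⟩ ⟨X.inv⟩ ≫ Ψ'.map (mk (X := ⟨X.tensor X.inv⟩) (Y := ⟨.unit⟩) (.counit X))) ≫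
        (CategoryTheory.inv (θ X) ▷ Ψ'.obj ⟨X.inv⟩))

/-- The extension, indexed by objects of the Picardification. -/
noncomputable abbrev θ' (X : V A D) : Ψ.obj X ⟶ Ψ'.obj X := θ hP Ψ Ψ' τ X.obj

theorem θ'_tensor (X Y : V A D) : μ Ψ X Y ≫ θ' hP Ψ Ψ' τ (X ⊗ Y) =
    (θ' hP Ψ Ψ' τ X ⊗ₘ θ' hP Ψ Ψ' τ Y) ≫ μ Ψ' X Y := by
  show μ Ψ X Y ≫ CategoryTheory.inv (μ Ψ X Y) ≫ _ = _
  rw [IsIso.hom_inv_id_assoc]

theorem θ'_unit : ε Ψ ≫ θ' hP Ψ Ψ' τ (𝟙_ (V A D)) = ε Ψ' := by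
  show ε Ψ ≫ CategoryTheory.inv (ε Ψ) ≫ ε Ψ' = _
  rw [IsIso.hom_inv_id_assoc]

theorem θ_natural (hτ : NatTrans.IsMonoidal τ) : ∀ {X Y : Obj A} (f : Pre A X Y),
    Ψ.map (mk (X := ⟨X⟩) (Y := ⟨Y⟩) f) ≫ θ' hP Ψ Ψ' τ ⟨Y⟩ =
      θ' hP Ψ Ψ' τ ⟨X⟩ ≫ Ψ'.map (mk (X := ⟨X⟩) (Y := ⟨Y⟩) f) := by
  intro X Y f
  induction f with
  | id X =>
    rw [show mk (X := (⟨X⟩ : V A D)) (Y := ⟨X⟩) (Pre.id X) = 𝟙 _ from rfl]
    simp
  | @comp X Y Z f g hf hg =>
    rw [← mk_comp (X := (⟨X⟩ : V A D)) (Y := ⟨Y⟩) (Z := ⟨Z⟩) f g, Functor.map_comp, Functor.map_comp,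
      Category.assoc, hg, reassoc_of% hf]
  | @symm X Y f hf =>
    let e : (⟨X⟩ : V A D) ≅ ⟨Y⟩ := mkIso f
    show Ψ.map e.inv ≫ _ = _ ≫ Ψ'.map e.inv
    rw [← cancel_epi (Ψ.map e.hom), Iso.map_hom_inv_id_assoc]
    show _ = Ψ.map (mk f) ≫ _ ≫ _
    rw [reassoc_of% hf]
    show _ = _ ≫ Ψ'.map e.hom ≫ _
    simp
  | @tens X Y X' Y' f g hf hg =>
    show Ψ.map (mk (X := (⟨X⟩ : V A D)) (Y := ⟨Y⟩) f ⊗ₘ mk (X := (⟨X'⟩ : V A D)) (Y := ⟨Y'⟩) g) ≫
      θ' hP Ψ Ψ' τ (⟨Y⟩ ⊗ ⟨Y'⟩) = θ' hP Ψ Ψ' τ (⟨X⟩ ⊗ ⟨X'⟩) ≫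
      Ψ'.map (mk (X := (⟨X⟩ : V A D)) (Y := ⟨Y⟩) f ⊗ₘ mk (X := (⟨X'⟩ : V A D)) (Y := ⟨Y'⟩) g)
    rw [← cancel_epi (μ Ψ ⟨X⟩ ⟨X'⟩), ← μ_natural_assoc, θ'_tensor, reassoc_of% θ'_tensor,
      ← μ_natural, tensorHom_comp_tensorHom_assoc, hf, hg, ← tensorHom_comp_tensorHom_assoc]
  | assoc X Y Z =>
    show Ψ.map (α_ (⟨X⟩ : V A D) ⟨Y⟩ ⟨Z⟩).hom ≫ θ' hP Ψ Ψ' τ (⟨X⟩ ⊗ ⟨Y⟩ ⊗ ⟨Z⟩) =
      θ' hP Ψ Ψ' τ ((⟨X⟩ ⊗ ⟨Y⟩) ⊗ ⟨Z⟩) ≫ Ψ'.map (α_ (⟨X⟩ : V A D) ⟨Y⟩ ⟨Z⟩).hom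
    rw [← cancel_epi (μ Ψ (⟨X⟩ ⊗ ⟨Y⟩) ⟨Z⟩), ← cancel_epi (μ Ψ ⟨X⟩ ⟨Y⟩ ▷ Ψ.obj ⟨Z⟩),
      associativity_assoc, θ'_tensor, reassoc_of% θ'_tensor]
    simp only [← id_tensorHom, ← tensorHom_id, tensorHom_comp_tensorHom_assoc, Category.id_comp,
      θ'_tensor]
    rw [← Category.comp_id (θ' hP Ψ Ψ' τ ⟨X⟩), ← tensorHom_comp_tensorHom_assoc,
      ← associator_naturality_assoc, id_tensorHom, ← associativity, ← tensorHom_id,
      tensorHom_comp_tensorHom_assoc]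
    simp
  | lu X =>
    show Ψ.map (λ_ (⟨X⟩ : V A D)).hom ≫ θ' hP Ψ Ψ' τ ⟨X⟩ =
      θ' hP Ψ Ψ' τ (𝟙_ _ ⊗ ⟨X⟩) ≫ Ψ'.map (λ_ (⟨X⟩ : V A D)).hom
    rw [← cancel_epi (μ Ψ (𝟙_ _) ⟨X⟩), ← cancel_epi (ε Ψ ▷ Ψ.obj ⟨X⟩), ← left_unitality_assoc,
      reassoc_of% θ'_tensor, ← tensorHom_id, tensorHom_comp_tensorHom_assoc, θ'_unit,
      Category.id_comp, MonoidalCategory.tensorHom_def', Category.assoc, ← left_unitality,
      leftUnitor_naturality]
  | ru X =>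
    show Ψ.map (ρ_ (⟨X⟩ : V A D)).hom ≫ θ' hP Ψ Ψ' τ ⟨X⟩ =
      θ' hP Ψ Ψ' τ (⟨X⟩ ⊗ 𝟙_ _) ≫ Ψ'.map (ρ_ (⟨X⟩ : V A D)).hom
    rw [← cancel_epi (μ Ψ ⟨X⟩ (𝟙_ _)), ← cancel_epi (Ψ.obj ⟨X⟩ ◁ ε Ψ), ← right_unitality_assoc,
      reassoc_of% θ'_tensor, ← id_tensorHom, tensorHom_comp_tensorHom_assoc, θ'_unit,
      Category.id_comp, MonoidalCategory.tensorHom_def, Category.assoc, ← right_unitality,
      rightUnitor_naturality]
  | braid X Y =>
    show Ψ.map (β_ (⟨X⟩ : V A D) ⟨Y⟩).hom ≫ θ' hP Ψ Ψ' τ (⟨Y⟩ ⊗ ⟨X⟩) =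
      θ' hP Ψ Ψ' τ (⟨X⟩ ⊗ ⟨Y⟩) ≫ Ψ'.map (β_ (⟨X⟩ : V A D) ⟨Y⟩).hom
    rw [← cancel_epi (μ Ψ ⟨X⟩ ⟨Y⟩), Functor.LaxBraided.braided_assoc, θ'_tensor,
      reassoc_of% θ'_tensor, Functor.LaxBraided.braided, BraidedCategory.braiding_naturality_assoc]
  | map f =>
    exact τ.naturality f
  | eps =>
    have h := hτ.unit
    simp only [comp_ε, Category.assoc] at h
    show Ψ.map _ ≫ _ = θ' hP Ψ Ψ' τ (𝟙_ _) ≫ _
    rw [← cancel_epi (ε Ψ), reassoc_of% θ'_unit]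
    exact h
  | mu a b =>
    have h := hτ.tensor a b
    simp only [comp_μ, Category.assoc] at h
    show Ψ.map _ ≫ _ = θ' hP Ψ Ψ' τ ((incl A D).obj a ⊗ (incl A D).obj b) ≫ _
    rw [← cancel_epi (μ Ψ ((incl A D).obj a) ((incl A D).obj b)), ]
    erw [reassoc_of% θ'_tensor]
    exact h
  | counit X =>
    have := hP (Ψ.obj ⟨X⟩)
    let c : (⟨X⟩ : V A D) ⊗ ⟨X.inv⟩ ⟶ 𝟙_ _ := mk (.counit X)
    show Ψ.map c ≫ θ' hP Ψ Ψ' τ (𝟙_ _) = θ' hP Ψ Ψ' τ (⟨X⟩ ⊗ ⟨X.inv⟩) ≫ Ψ'.map c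
    rw [← cancel_epi (μ Ψ ⟨X⟩ ⟨X.inv⟩), reassoc_of% θ'_tensor, MonoidalCategory.tensorHom_def']
    show _ = ((tensorLeft (Ψ.obj ⟨X⟩)).map (θ hP Ψ Ψ' τ X.inv) ≫ θ hP Ψ Ψ' τ X ▷ _) ≫ _
    rw [θ, Functor.map_preimage]
    simp only [Category.assoc, ← comp_whiskerRight_assoc, IsIso.inv_hom_id, id_whiskerRight,
      Category.id_comp]
    erw [IsIso.inv_hom_id, Category.comp_id]
    rfl

include hP in
theorem exists_unique_ext (hτ : NatTrans.IsMonoidal τ) :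
    ∃! t : Ψ ⟶ Ψ', NatTrans.IsMonoidal t ∧ Functor.whiskerLeft (incl A D) t = τ := by
  let t : Ψ ⟶ Ψ' :=
    { app := θ' hP Ψ Ψ' τ
      naturality := by
        intro X Y f
        obtain ⟨g, rfl⟩ := mk_surjective f
        exact θ_natural hP Ψ Ψ' τ hτ g }
  refine ⟨t, ⟨⟨θ'_unit hP Ψ Ψ' τ, θ'_tensor hP Ψ Ψ' τ⟩, rfl⟩, ?_⟩
  rintro s ⟨hs, hsτ⟩
  ext ⟨X⟩
  show s.app _ = θ' hP Ψ Ψ' τ _
  induction X with
  | of a => exact congr($(hsτ).app a)
  | unit =>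
    show s.app (𝟙_ _) = θ' hP Ψ Ψ' τ (𝟙_ _)
    rw [← cancel_epi (ε Ψ), hs.unit, θ'_unit]
  | tensor X Y hX hY =>
    show s.app (⟨X⟩ ⊗ ⟨Y⟩) = θ' hP Ψ Ψ' τ (⟨X⟩ ⊗ ⟨Y⟩)
    rw [← cancel_epi (μ Ψ ⟨X⟩ ⟨Y⟩), hs.tensor, θ'_tensor, hX, hY]
  | inv X hX =>
    let c : (⟨X⟩ : V A D) ⊗ ⟨X.inv⟩ ⟶ 𝟙_ _ := mk (.counit X)
    have h1 : t.app (𝟙_ _) = s.app (𝟙_ _) := by
      rw [← cancel_epi (ε Ψ), hs.unit]; exact θ'_unit hP Ψ Ψ' τ
    have h2 := (s.naturality c).symm.trans ((congrArg (Ψ.map c ≫ ·) h1.symm).trans (t.naturality c))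
    rw [cancel_mono, ← cancel_epi (μ Ψ ⟨X⟩ ⟨X.inv⟩), hs.tensor] at h2
    change _ = μ Ψ _ _ ≫ θ' hP Ψ Ψ' τ (⟨X⟩ ⊗ ⟨X.inv⟩) at h2
    rw [θ'_tensor, cancel_mono, hX, MonoidalCategory.tensorHom_def',
      MonoidalCategory.tensorHom_def', cancel_mono] at h2
    have := hP (Ψ.obj ⟨X⟩)
    exact (tensorLeft (Ψ.obj ⟨X⟩)).map_injective h2

end Groth.Agent.S15291Aux

section
universe v v' u u'
open PicCat

namespace Groth.Agent.S15291

open CategoryTheory MonoidalCategory in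
/-- Every symmetric monoidal groupoid A has a Picardification: a commutative Picard category V (a
symmetric monoidal groupoid in which tensoring with any object on either side is an equivalence of
categories) with a symmetric lax monoidal functor i : A ⥤ V such that, for every commutative Picard
category P, (a) every symmetric lax monoidal functor Φ : A ⥤ P is isomorphic through a monoidal
natural isomorphism to i ⋙ Ψ for some symmetric lax monoidal Ψ : V ⥤ P, and (b) for symmetric lax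
monoidal Ψ, Ψ' : V ⥤ P, whiskering with i is a bijection from the monoidal natural transformations Ψ
⟶ Ψ' onto the monoidal natural transformations i ⋙ Ψ ⟶ i ⋙ Ψ'. Here V has its objects in the
universe of the objects of A and its morphisms in the larger of A's two universe levels, and P
ranges over one arbitrary pair of universe levels. -/
theorem result
    (A : Type u) [Category.{v} A] [MonoidalCategory A] [SymmetricCategory A] [IsGroupoid A] :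
    ∃ (V : Type u) (_ : Category.{max u v} V) (_ : MonoidalCategory V) (_ : SymmetricCategory V)
      (i : A ⥤ V) (_ : i.LaxBraided),
      IsGroupoid V ∧ (∀ X : V, (tensorLeft X).IsEquivalence ∧ (tensorRight X).IsEquivalence) ∧
      ∀ (P : Type u') [Category.{v'} P] [MonoidalCategory P] [SymmetricCategory P] [IsGroupoid P],
        (∀ X : P, (tensorLeft X).IsEquivalence ∧ (tensorRight X).IsEquivalence) →
        (∀ (Φ : A ⥤ P) [Φ.LaxBraided], ∃ (Ψ : V ⥤ P) (_ : Ψ.LaxBraided) (η : i ⋙ Ψ ≅ Φ),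
            NatTrans.IsMonoidal η.hom) ∧
        (∀ (Ψ Ψ' : V ⥤ P) [Ψ.LaxBraided] [Ψ'.LaxBraided] (τ : i ⋙ Ψ ⟶ i ⋙ Ψ'),
            NatTrans.IsMonoidal τ →
              ∃! θ : Ψ ⟶ Ψ', NatTrans.IsMonoidal θ ∧ Functor.whiskerLeft i θ = τ) := by
  let D : Type u' → Type v' := fun _ => PUnit
  refine ⟨S15291Aux.V A D, inferInstance, inferInstance, inferInstance, S15291Aux.incl A D,
    inferInstance, inferInstance, fun X => S15291Aux.pic X, fun P _ _ _ _ hP => ⟨?_, ?_⟩⟩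
  · intro Φ _
    obtain ⟨η, hη⟩ := S15291Aux.exists_ext (D := D) (fun X => (hP X).1) Φ
    exact ⟨_, inferInstance, η, hη⟩
  · intro Ψ Ψ' _ _ τ hτ
    exact S15291Aux.exists_unique_ext (fun X => (hP X).1) Ψ Ψ' τ hτ

end Groth.Agent.S15291

end
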