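import Groth.Statements.S15295
import Groth.Agent.Lib.DeRhamAlg.BaseChange
import Mathlib.RingTheory.Kaehler.TensorProduct

set_option autoImplicit false
universe u
open DeRham

namespace Groth.Agent.S15295

open exteriorPower TensorProduct in
/-- The de Rham complex commutes with base change. Let R → A and R → S be ring maps and B = S ⊗_R A (an
R-algebra over A and S with the pushout property), and let ψ be the induced map of de Rham complexes
from the p-forms of A over R to the p-forms of B over S (additive maps sending b₀ db₁ ∧ … ∧ db_p to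
g(b₀) d(g b₁) ∧ … ∧ d(g b_p), g : A → B the structure map). Then in each degree p the S-linear
extension S ⊗_R ⋀^p Ω_{A/R} → ⋀^p Ω_{B/S}, s ⊗ x ↦ s · ψ_p(x), is bijective. (This row states the
degreewise bijectivity, with the base change written S ⊗_R − rather than − ⊗_R S; the compatibility
of ψ with the differentials, which makes this an isomorphism of complexes, holds for any square of
ring maps.) -/
theorem result (R S A B : Type u) [CommRing R] [CommRing S] [CommRing A] [CommRing B]
    [Algebra R S] [Algebra R A] [Algebra R B] [Algebra A B] [Algebra S B]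
    [IsScalarTower R A B] [IsScalarTower R S B] [Algebra.IsPushout R S A B]
    (ψ : ∀ p : ℕ, ↥(⋀[A]^p (Ω[A⁄R])) →+ ↥(⋀[B]^p (Ω[B⁄S])))
    (hψ : DeRham.IsCxMap (KaehlerDifferential.D R A) (KaehlerDifferential.D S B) (algebraMap A B) ψ)
    (p : ℕ) (Φ : S ⊗[R] ↥(⋀[A]^p (Ω[A⁄R])) →+ ↥(⋀[B]^p (Ω[B⁄S])))
    (hΦ : ∀ (s : S) (x : ↥(⋀[A]^p (Ω[A⁄R]))), Φ (s ⊗ₜ[R] x) = s • ψ p x) :
    Function.Bijective Φ := by
  set l : Ω[A⁄R] →ₗ[A] Ω[B⁄S] := KaehlerDifferential.map R S A B with hldef
  have hl : IsBaseChange B l := by
    refine IsBaseChange.of_equiv (KaehlerDifferential.tensorKaehlerEquiv R S A B) fun x => ?_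
    have h : (KaehlerDifferential.tensorKaehlerEquiv R S A B).toLinearMap.restrictScalars A ∘ₗ
        TensorProduct.mk A B (Ω[A⁄R]) 1 = l := by
      refine LinearMap.ext_on (KaehlerDifferential.span_range_derivation R A) ?_
      rintro _ ⟨a, rfl⟩
      rw [LinearMap.comp_apply, TensorProduct.mk_apply, LinearMap.restrictScalars_apply,
        LinearEquiv.coe_coe, KaehlerDifferential.tensorKaehlerEquiv_tmul_D, one_smul, hldef,
        KaehlerDifferential.map_D]
    exact LinearMap.congr_fun h x
  have hbc := Groth.Agent.Lib.DeRhamAlg.BaseChange.isBaseChange_semimap l hl p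
  have hψl : ∀ x, ψ p x = Groth.Agent.Lib.DeRhamAlg.Basic.semimap (B := B) l p x := by
    intro x
    induction x using Groth.Agent.Lib.DeRhamAlg.Basic.gen_induction (KaehlerDifferential.D R A)
      (Groth.Agent.Lib.DeRhamAlg.Basic.span_range_D_eq_top R A) with
    | zero => simp
    | add x y hx hy => simp only [map_add, hx, hy]
    | gen b₀ b =>
      rw [hψ]
      simp only [DeRham.gen, map_smul, Groth.Agent.Lib.DeRhamAlg.Basic.semimap_ιMulti,
        algebraMap_smul, hldef]
      congr 2
      funext i
      exact (KaehlerDifferential.map_D R S A B (b i)).symm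
  let c := (Algebra.IsPushout.cancelBaseChange R S A B ↥(⋀[A]^p (Ω[A⁄R]))).symm
  have hΦ' : (Φ : _ → _) = fun z => hbc.equiv (c z) := by
    funext z
    induction z with
    | zero => simp
    | add a b ha hb => rw [map_add, ha, hb, map_add, map_add]
    | tmul s x =>
      rw [hΦ, hψl, Algebra.IsPushout.cancelBaseChange_symm_tmul, IsBaseChange.equiv_tmul,
        algebraMap_smul]
  rw [hΦ']
  exact hbc.equiv.bijective.comp c.bijective

end Groth.Agent.S15295
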