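import Groth.Statements.S15296
import Groth.Agent.Lib.DeRhamAlg.Basic

set_option autoImplicit false
universe u
open DeRham

namespace Groth.Agent.S15296

open exteriorPower in
/-- Let R → A be a ring map, π a surjective A-linear map from the Kähler differentials of A over R onto
an A-module Ω', δ = π ∘ d the induced derivation A → Ω', and d_A a de Rham differential of the
Kähler differentials. Suppose the kernel of π is generated over A by elements ω with π(ω) = 0 whose
differential d_A(ω) is killed by the second exterior power of π. Then the exterior powers of Ω' over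
A carry a de Rham differential for δ: a family of R-linear maps d from p-forms to (p+1)-forms with
d(f₀ δf₁ ∧ … ∧ δf_p) = δf₀ ∧ δf₁ ∧ … ∧ δf_p and d ∘ d = 0; moreover d is compatible with d_A through
the exterior powers of π. -/
theorem result (R A Ω' : Type u) [CommRing R] [CommRing A] [Algebra R A]
    [AddCommGroup Ω'] [Module A Ω'] [Module R Ω'] [IsScalarTower R A Ω']
    (π : Ω[A⁄R] →ₗ[A] Ω') (hπ : Function.Surjective π)
    (dA : ∀ p : ℕ, ↥(⋀[A]^p (Ω[A⁄R])) →ₗ[R] ↥(⋀[A]^(p + 1) (Ω[A⁄R])))
    (hdA : DeRham.IsDiff (KaehlerDifferential.D R A) dA)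
    (hker : LinearMap.ker π ≤ Submodule.span A {ω : Ω[A⁄R] | π ω = 0 ∧
      exteriorPower.map 2 π (dA 1 ((exteriorPower.oneEquiv A (Ω[A⁄R])).symm ω)) = 0}) :
    ∃ d : ∀ p : ℕ, ↥(⋀[A]^p Ω') →ₗ[R] ↥(⋀[A]^(p + 1) Ω'),
      DeRham.IsDiff (π.compDer (KaehlerDifferential.D R A)) d ∧
        ∀ (p : ℕ) (x : ↥(⋀[A]^p (Ω[A⁄R]))),
          d p (exteriorPower.map p π x) = exteriorPower.map (p + 1) π (dA p x) := by
  let δ := KaehlerDifferential.D R A
  have hδ := Groth.Agent.Lib.DeRhamAlg.Basic.span_range_D_eq_top R A
  have h1gen : ∀ ω : Ω[A⁄R], (exteriorPower.oneEquiv A (Ω[A⁄R])).symm ω =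
      exteriorPower.ιMulti A 1 (fun _ => ω) := by
    intro ω
    apply (exteriorPower.oneEquiv A (Ω[A⁄R])).injective
    rw [LinearEquiv.apply_symm_apply, exteriorPower.oneEquiv_ιMulti]
  let good : Set (Ω[A⁄R]) := {ω | π ω = 0 ∧
      exteriorPower.map 2 π (dA 1 ((exteriorPower.oneEquiv A (Ω[A⁄R])).symm ω)) = 0}
  let W := fun (m : Ω[A⁄R]) (p : ℕ) => Groth.Agent.Lib.DeRhamAlg.Basic.wedge (A := A) m p
  -- the composite `map ∘ dA` kills the kernel
  have hK : ∀ (p : ℕ), ∀ x, exteriorPower.map p π x = 0 →
      exteriorPower.map (p + 1) π (dA p x) = 0 := by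
    intro p
    induction p with
    | zero =>
      intro x hx
      have h := congrArg (exteriorPower.zeroEquiv A Ω') hx
      rw [← LinearEquiv.coe_coe, ← LinearMap.comp_apply,
        exteriorPower.zeroEquiv_naturality, map_zero, LinearEquiv.coe_coe] at h
      rw [(LinearEquiv.map_eq_zero_iff _).mp h, map_zero, map_zero]
    | succ p ih =>
      -- wedges of good elements with arbitrary forms
      have hgood : ∀ ω ∈ good, ∀ y : ↥(⋀[A]^p (Ω[A⁄R])),
          exteriorPower.map (p + 1 + 1) π (dA (p + 1) (W ω p y)) = 0 := by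
        intro ω hω y
        induction y using Groth.Agent.Lib.DeRhamAlg.Basic.gen_induction δ hδ with
        | zero => simp
        | add a b ha hb => simp only [map_add, ha, hb, add_zero]
        | gen b₀ b =>
          have hmap : exteriorPower.map (p + 1) π (W ω p (DeRham.gen δ p b₀ b)) = 0 := by
            rw [Groth.Agent.Lib.DeRhamAlg.Basic.map_wedge, hω.1]
            simp [Groth.Agent.Lib.DeRhamAlg.Basic.wedge]
          rw [show DeRham.gen δ p b₀ b = b₀ • DeRham.gen δ p 1 b by simp [DeRham.gen], map_smul,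
            Groth.Agent.Lib.DeRhamAlg.Basic.d_smul hdA.1 hδ, map_add, map_smul,
            Groth.Agent.Lib.DeRhamAlg.Basic.map_wedge]
          have hmap' : exteriorPower.map (p + 1) π (W ω p (DeRham.gen δ p 1 b)) = 0 := by
            rw [Groth.Agent.Lib.DeRhamAlg.Basic.map_wedge, hω.1]
            simp [Groth.Agent.Lib.DeRhamAlg.Basic.wedge]
          rw [hmap', map_zero, zero_add]
          suffices h : exteriorPower.map (p + 1 + 1) π (dA (p + 1) (W ω p (DeRham.gen δ p 1 b))) = 0 by
            rw [h, smul_zero]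
          cases p with
          | zero =>
            have e : W ω 0 (DeRham.gen δ 0 1 b) = (exteriorPower.oneEquiv A (Ω[A⁄R])).symm ω := by
              rw [h1gen, Groth.Agent.Lib.DeRhamAlg.Basic.gen_one,
                Groth.Agent.Lib.DeRhamAlg.Basic.wedge_ιMulti]
              congr 1
              funext i
              rw [Fin.fin_one_eq_zero i, Fin.cons_zero]
            rw [e]; exact hω.2
          | succ p =>
            rw [show b = Fin.cons (b 0) (Fin.tail b) from (Fin.cons_self_tail b).symm,
              ← Groth.Agent.Lib.DeRhamAlg.Basic.wedge_gen,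
              Groth.Agent.Lib.DeRhamAlg.Basic.wedge_comm, map_neg, map_neg,
              Groth.Agent.Lib.DeRhamAlg.Basic.d_wedge hdA.1 hδ, map_neg, neg_neg,
              Groth.Agent.Lib.DeRhamAlg.Basic.map_wedge, ih, map_zero]
            rw [Groth.Agent.Lib.DeRhamAlg.Basic.map_wedge, hω.1]
            simp [Groth.Agent.Lib.DeRhamAlg.Basic.wedge]
      intro x hx
      have hmem := Groth.Agent.Lib.DeRhamAlg.Basic.mem_span_of_map_eq_zero π hπ x hx
      suffices h : ∀ c : A, exteriorPower.map (p + 1 + 1) π (dA (p + 1) (c • x)) = 0 by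
        simpa using h 1
      refine Submodule.span_induction (p := fun y _ => ∀ c : A,
        exteriorPower.map (p + 1 + 1) π (dA (p + 1) (c • y)) = 0) ?_ ?_ ?_ ?_ hmem
      · rintro _ ⟨ω, y, hω, rfl⟩ c
        refine Submodule.span_induction (p := fun ω _ => ∀ (c : A) y,
          exteriorPower.map (p + 1 + 1) π (dA (p + 1) (c • W ω p y)) = 0) ?_ ?_ ?_ ?_ (hker hω) c y
        · intro ω hω c y
          rw [show c • W ω p y = W ω p (c • y) from (map_smul _ _ _).symm]
          exact hgood ω hω _
        · intro c y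
          simp [W, Groth.Agent.Lib.DeRhamAlg.Basic.wedge]
        · intro u v _ _ hu hv c y
          simp only [W, Groth.Agent.Lib.DeRhamAlg.Basic.wedge_add, smul_add, map_add] at hu hv ⊢
          rw [hu c y, hv c y, add_zero]
        · intro e u _ hu c y
          simp only [W, Groth.Agent.Lib.DeRhamAlg.Basic.wedge_smul, smul_smul] at hu ⊢
          exact hu _ y
      · intro c; simp
      · intro u v _ _ hu hv c
        rw [smul_add, map_add, map_add, hu, hv, add_zero]
      · intro e u _ hu c
        rw [smul_smul]; exact hu _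
  choose sec hsec using fun p => exteriorPower.map_surjective (n := p) hπ
  have hwd : ∀ p x, exteriorPower.map (p + 1) π (dA p (sec p (exteriorPower.map p π x))) =
      exteriorPower.map (p + 1) π (dA p x) := by
    intro p x
    rw [← sub_eq_zero, ← map_sub, ← map_sub]
    apply hK
    rw [map_sub, hsec, sub_self]
  let d : ∀ p : ℕ, ↥(⋀[A]^p Ω') →ₗ[R] ↥(⋀[A]^(p + 1) Ω') := fun p =>
    { toFun := fun y => exteriorPower.map (p + 1) π (dA p (sec p y))
      map_add' := fun y z => by
        obtain ⟨a, rfl⟩ := exteriorPower.map_surjective (n := p) hπ y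
        obtain ⟨b, rfl⟩ := exteriorPower.map_surjective (n := p) hπ z
        rw [← map_add, hwd, hwd, hwd, map_add, map_add]
      map_smul' := fun c y => by
        obtain ⟨a, rfl⟩ := exteriorPower.map_surjective (n := p) hπ y
        rw [← LinearMap.map_smul_of_tower, hwd, hwd, RingHom.id_apply, map_smul,
          LinearMap.map_smul_of_tower] }
  have hcompat : ∀ p x, d p (exteriorPower.map p π x) = exteriorPower.map (p + 1) π (dA p x) := hwd
  refine ⟨d, ⟨fun p b₀ b => ?_, fun p => LinearMap.ext fun y => ?_⟩, hcompat⟩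
  · have e : DeRham.gen (π.compDer (KaehlerDifferential.D R A)) p b₀ b =
        exteriorPower.map p π (DeRham.gen δ p b₀ b) := by
      simp only [DeRham.gen, map_smul, exteriorPower.map_apply_ιMulti]
      rfl
    rw [e, hcompat, hdA.1, exteriorPower.map_apply_ιMulti]
    congr 1
    funext i
    refine Fin.cases ?_ (fun j => ?_) i <;> simp
  · obtain ⟨a, rfl⟩ := exteriorPower.map_surjective (n := p) hπ y
    rw [LinearMap.comp_apply, hcompat, hcompat, LinearMap.zero_apply,
      show dA (p + 1) (dA p a) = 0 from LinearMap.congr_fun (hdA.2 p) a, map_zero]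

end Groth.Agent.S15296
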