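import Groth.Statements.S15297
import Groth.Agent.Lib.DeRhamAlg.Basic

set_option autoImplicit false
universe u
open DeRham

namespace Groth.Agent.S15297

open exteriorPower in
/-- Let R → A be a ring map and d a de Rham differential of the Kähler differentials of A over R. Then
each d from p-forms to (p+1)-forms, an R-linear map between A-modules, is a differential operator of
order at most 1 relative to R → A: every commutator of d with multiplication by an element of A is
A-linear. -/
theorem result (R A : Type u) [CommRing R] [CommRing A] [Algebra R A]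
    (d : ∀ p : ℕ, ↥(⋀[A]^p (Ω[A⁄R])) →ₗ[R] ↥(⋀[A]^(p + 1) (Ω[A⁄R])))
    (hd : DeRham.IsDiff (KaehlerDifferential.D R A) d) (p : ℕ) :
    Diff16.IsDiffOpLE R A ↥(⋀[A]^p (Ω[A⁄R])) ↥(⋀[A]^(p + 1) (Ω[A⁄R])) 1 (d p) := by
  intro a b x
  have h := Groth.Agent.Lib.DeRhamAlg.Basic.d_smul hd.1
    (Groth.Agent.Lib.DeRhamAlg.Basic.span_range_D_eq_top R A) (p := p) a
  change d p (a • (b • x)) - a • d p (b • x) = b • (d p (a • x) - a • d p x)
  rw [h, h, add_sub_cancel_right, add_sub_cancel_right, map_smul]

end Groth.Agent.S15297
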