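import Groth.Statements.S15298
import Groth.Agent.H24.PowerSeries
import Mathlib.RingTheory.Smooth.Basic

set_option autoImplicit false
universe u
open CAlg

namespace Groth.Agent.S15298

/-- Let k be a field, A a Noetherian k-algebra and x a non-zero-divisor of A such that A is separated
and complete for the (x)-adic topology, and assume that B = A/xA is formally smooth over k. Then A
is a power series ring over B in the variable x: there is a k-algebra isomorphism e : B[[T]] ≅ A
with e(T) = x whose reduction modulo x is the constant-coefficient map, i.e. e(f) ≡ f(0) mod x for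
every power series f. -/
theorem result (k A : Type u) [Field k]
    [CommRing A] [Algebra k A] [IsNoetherianRing A] (x : A) (hx : x ∈ nonZeroDivisors A)
    [IsAdicComplete (Ideal.span {x}) A] [Algebra.FormallySmooth k (A ⧸ Ideal.span {x})] :
    ∃ e : PowerSeries (A ⧸ Ideal.span {x}) ≃ₐ[k] A,
      e PowerSeries.X = x ∧
      ∀ f : PowerSeries (A ⧸ Ideal.span {x}),
        Ideal.Quotient.mk (Ideal.span {x}) (e f) = PowerSeries.constantCoeff f := by
  classical
  let I : Ideal A := Ideal.span {x}
  let B := A ⧸ I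
  let q : ∀ {m n : ℕ}, m ≤ n → (A ⧸ I ^ n →ₐ[k] A ⧸ I ^ m) := fun h =>
    Ideal.Quotient.factorₐ k (Ideal.pow_le_pow_right h)
  have hnil : ∀ n, IsNilpotent (RingHom.ker (q (Nat.le_succ (n + 1)) : A ⧸ I ^ (n + 2) →+* A ⧸ I ^ (n + 1))) := by
    intro n
    refine ⟨n + 2, le_antisymm ?_ bot_le⟩
    have hle : RingHom.ker (q (Nat.le_succ (n + 1)) : A ⧸ I ^ (n + 2) →+* A ⧸ I ^ (n + 1)) ≤
        I.map (Ideal.Quotient.mk (I ^ (n + 2))) := by
      intro z hz
      obtain ⟨a, rfl⟩ := Ideal.Quotient.mk_surjective z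
      have h1 : Ideal.Quotient.mk (I ^ (n + 1)) a = 0 := hz
      exact Ideal.mem_map_of_mem _ (Ideal.pow_le_self (Nat.succ_ne_zero n) (Ideal.Quotient.eq_zero_iff_mem.1 h1))
    refine (Ideal.pow_right_mono hle _).trans ?_
    rw [← Ideal.map_pow, Ideal.map_quotient_self]
    exact le_rfl
  let t₀ : B →ₐ[k] A ⧸ I ^ 1 := (Ideal.quotientEquivAlgOfEq k (pow_one I).symm).toAlgHom
  let t : ∀ n, B →ₐ[k] A ⧸ I ^ (n + 1) := fun n => Nat.rec t₀
    (fun m s => Algebra.FormallySmooth.liftOfSurjective s (q (Nat.le_succ (m + 1)))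
      (Ideal.Quotient.factor_surjective (Ideal.pow_le_pow_right (Nat.le_succ (m + 1)))) (hnil m)) n
  have ht : ∀ n b, q (Nat.le_succ (n + 1)) (t (n + 1) b) = t n b := fun n b =>
    Algebra.FormallySmooth.liftOfSurjective_apply (t n) (q (Nat.le_succ (n + 1)))
      (Ideal.Quotient.factor_surjective (Ideal.pow_le_pow_right (Nat.le_succ (n + 1)))) (hnil n) b
  have hqq : ∀ {a b c : ℕ} (h₁ : a ≤ b) (h₂ : b ≤ c) (z : A ⧸ I ^ c),
      q h₁ (q h₂ z) = q (h₁.trans h₂) z := by
    intro a b c h₁ h₂ z
    obtain ⟨y, rfl⟩ := Ideal.Quotient.mk_surjective z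
    rfl
  have htm : ∀ (d m : ℕ) (b : B), q (show m + 1 ≤ m + d + 1 by omega) (t (m + d) b) = t m b := by
    intro d
    induction d with
    | zero =>
      intro m b
      obtain ⟨y, hy⟩ := Ideal.Quotient.mk_surjective (t m b)
      show q le_rfl (t m b) = t m b
      rw [← hy]; rfl
    | succ d ih =>
      intro m b
      rw [← ih m b, ← ht (m + d) b]
      exact (hqq (show m + 1 ≤ m + d + 1 by omega) (Nat.le_succ (m + d + 1)) _).symm
  let g : ∀ n, B →+* A ⧸ I ^ n := fun n => ((q (Nat.le_succ n)).comp (t n) : B →+* A ⧸ I ^ n)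
  have hg : ∀ {m n : ℕ} (hmn : m ≤ n), (Ideal.Quotient.factorPow I hmn).comp (g n) = g m := by
    intro m n hmn
    obtain ⟨d, rfl⟩ := Nat.exists_eq_add_of_le hmn
    ext b
    show q hmn (q (Nat.le_succ _) (t (m + d) _)) = q (Nat.le_succ m) (t m _)
    rw [← htm d m, hqq hmn (Nat.le_succ (m + d)),
      hqq (Nat.le_succ m) (show m + 1 ≤ m + d + 1 by omega)]
  let s₀ := IsAdicComplete.liftRingHom I g hg
  have hs₀ : ∀ n b, Ideal.Quotient.mk (I ^ n) (s₀ b) = g n b := fun n b =>
    IsAdicComplete.mk_liftRingHom I g hg n b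
  have hsc : ∀ c : k, s₀ (algebraMap k B c) = algebraMap k A c := fun c => by
    rw [IsHausdorff.eq_iff_smodEq (I := I)]
    intro n
    rw [SModEq.sub_mem, smul_eq_mul, Ideal.mul_top, ← Ideal.Quotient.eq]
    exact (hs₀ n _).trans (((q (Nat.le_succ n)).comp (t n)).commutes c)
  let s : B →ₐ[k] A := AlgHom.mk s₀ hsc
  have hs : ∀ b, Ideal.Quotient.mk I (s b) = b := by
    intro b
    obtain ⟨a, rfl⟩ := Ideal.Quotient.mk_surjective b
    have h1 : Ideal.Quotient.mk (I ^ 1) (s₀ (Ideal.Quotient.mk I a)) = Ideal.Quotient.mk (I ^ 1) a := by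
      rw [hs₀]
      show q (Nat.le_succ 1) (t 1 (Ideal.Quotient.mk I a)) = _
      rw [show q (Nat.le_succ 1) (t 1 (Ideal.Quotient.mk I a)) = t₀ (Ideal.Quotient.mk I a) from ht 0 _]
      rfl
    rw [Ideal.Quotient.eq, pow_one] at h1
    exact Ideal.Quotient.eq.2 h1
  letI : Algebra B A := s.toRingHom.toAlgebra
  obtain ⟨φ, hφ⟩ := H24.PowerSeries.exists_hom (A := B) (σ := Unit) (R := A) I (fun _ => x)
    (fun _ => Ideal.mem_span_singleton_self x)
  let ev : PowerSeries B →ₐ[B] A := φ
  have hX : ev PowerSeries.X = x := hφ ()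
  have hC : ∀ b, ev (PowerSeries.C b) = s b := fun b => by
    rw [show PowerSeries.C b = algebraMap B (PowerSeries B) b from rfl, ev.commutes]
    rfl
  have hred : ∀ f, Ideal.Quotient.mk I (ev f) = PowerSeries.constantCoeff f := by
    intro f
    conv_lhs => rw [PowerSeries.eq_X_mul_shift_add_const f]
    rw [map_add, map_mul, hX, hC, map_add, map_mul,
      Ideal.Quotient.eq_zero_iff_mem.2 (Ideal.mem_span_singleton_self x), zero_mul, zero_add, hs]
  have hinj : Function.Injective ev := by
    rw [injective_iff_map_eq_zero]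
    intro f hf
    ext d
    induction d generalizing f with
    | zero => rw [PowerSeries.coeff_zero_eq_constantCoeff, ← hred, hf, map_zero, map_zero]
    | succ d ih =>
      have h0 : PowerSeries.constantCoeff f = 0 := by rw [← hred, hf, map_zero]
      have h1 := PowerSeries.eq_X_mul_shift_add_const f
      rw [h0, map_zero, add_zero] at h1
      rw [h1, map_mul, hX] at hf
      have h2 := ih _ ((mem_nonZeroDivisors_iff_left.mp hx) _ hf)
      rw [PowerSeries.coeff_mk, map_zero] at h2
      rw [h2, map_zero]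
  have hsurj : Function.Surjective ev := by
    intro a
    have hdvd : ∀ y : A, ∃ z, y - s (Ideal.Quotient.mk I y) = z * x := fun y => by
      have h1 : y - s (Ideal.Quotient.mk I y) ∈ I := Ideal.Quotient.eq.1 (hs _).symm
      obtain ⟨z, hz⟩ := Ideal.mem_span_singleton'.1 h1
      exact ⟨z, hz.symm⟩
    choose Z hZ using hdvd
    let c : ℕ → A := fun n => Z^[n] a
    refine ⟨PowerSeries.mk fun n => Ideal.Quotient.mk I (c n), ?_⟩
    have key : ∀ n, ∀ f : PowerSeries B, (∀ i, PowerSeries.coeff i f = Ideal.Quotient.mk I (c i)) →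
        ev f - a ∈ I ^ n := by
      intro n
      induction n generalizing a with
      | zero => intro f _; simp
      | succ n ih =>
        intro f hf
        conv => arg 2; rw [PowerSeries.eq_X_mul_shift_add_const f]
        have h0 : PowerSeries.constantCoeff f = Ideal.Quotient.mk I a := by
          rw [← PowerSeries.coeff_zero_eq_constantCoeff_apply]; exact hf 0
        have h1 := ih (Z a) (PowerSeries.mk fun p => PowerSeries.coeff (p + 1) f) fun i => by
          rw [PowerSeries.coeff_mk, hf]; rfl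
        rw [map_add, map_mul, hX, hC, h0, pow_succ']
        convert Ideal.mul_mem_mul (Ideal.mem_span_singleton_self x) h1 using 1
        linear_combination -(hZ a)
    rw [IsHausdorff.eq_iff_smodEq (I := I)]
    intro n
    rw [SModEq.sub_mem, smul_eq_mul, Ideal.mul_top]
    exact key n _ fun i => PowerSeries.coeff_mk _ _
  have hEc : ∀ c : k, ev.toRingHom (algebraMap k (PowerSeries B) c) = algebraMap k A c := fun c => by
    show ev (algebraMap k (PowerSeries B) c) = algebraMap k A c
    rw [IsScalarTower.algebraMap_apply k B (PowerSeries B)]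
    show ev (PowerSeries.C (algebraMap k B c)) = _
    rw [hC]
    exact s.commutes c
  let E : PowerSeries B →ₐ[k] A := AlgHom.mk ev.toRingHom hEc
  exact ⟨AlgEquiv.ofBijective E ⟨hinj, hsurj⟩, hX, hred⟩

end Groth.Agent.S15298
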