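import Groth.Statements.S15299
import Mathlib.LinearAlgebra.CliffordAlgebra.Contraction
import Mathlib.LinearAlgebra.ExteriorAlgebra.Basic
import Mathlib.RingTheory.Kaehler.Polynomial
import Mathlib.Algebra.MvPolynomial.Derivation
import Mathlib.Algebra.MvPolynomial.PDeriv
import Mathlib.LinearAlgebra.Eigenspace.Minpoly
import Mathlib.Algebra.Polynomial.AlgebraMap
import Mathlib.Tactic.Abel
import Mathlib.Tactic.LinearCombination

set_option autoImplicit false
universe u
open Omega

namespace Groth.Agent.S15299

section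
open ExteriorAlgebra Polynomial

variable {k A M : Type*} [Field k] [CommRing A] [Algebra k A] [AddCommGroup M] [Module A M]
  [Module k M] [IsScalarTower k A M]

theorem contract_mem (φ : Module.Dual A M) : ∀ (q : ℕ) (w : ExteriorAlgebra A M),
    w ∈ exteriorPower A (q + 1) M →
      CliffordAlgebra.contractLeft φ w ∈ exteriorPower A q M := by
  intro q
  induction q with
  | zero =>
    intro w hw
    rw [exteriorPower, pow_one] at hw
    obtain ⟨v, rfl⟩ := hw
    rw [exteriorPower, pow_zero, Submodule.mem_one]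
    exact ⟨φ v, (CliffordAlgebra.contractLeft_ι _ φ v).symm⟩
  | succ q ih =>
    intro w hw
    rw [exteriorPower, pow_succ'] at hw
    refine Submodule.mul_induction_on hw (fun a ha b hb => ?_) (fun a b ha hb => ?_)
    · obtain ⟨v, rfl⟩ := ha
      have h1 : CliffordAlgebra.contractLeft φ (ι A v * b) =
          φ v • b - ι A v * CliffordAlgebra.contractLeft φ b :=
        CliffordAlgebra.contractLeft_ι_mul φ v b
      rw [h1]
      refine sub_mem (Submodule.smul_mem _ _ hb) ?_
      rw [exteriorPower, pow_succ']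
      exact Submodule.mul_mem_mul ⟨v, rfl⟩ (ih b hb)
    · rw [map_add]; exact add_mem ha hb

theorem exists_poly_of_mem_iSup {V : Type*} [AddCommGroup V] [Module k V] (L : Module.End k V)
    (S : Set k) (hS : (0 : k) ∉ S) {w : V} (hw : w ∈ ⨆ μ ∈ S, L.eigenspace μ) :
    ∃ Q : k[X], aeval L (Polynomial.X * Q) w = w := by
  suffices h : ∃ P : k[X], P.eval 0 ≠ 0 ∧ aeval L P w = 0 by
    obtain ⟨P, hP0, hP⟩ := h
    refine ⟨-(Polynomial.C (P.eval 0)⁻¹ * P.divX), ?_⟩
    have hX : Polynomial.X * -(Polynomial.C (P.eval 0)⁻¹ * P.divX) =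
        1 - Polynomial.C (P.eval 0)⁻¹ * P := by
      have h1 : Polynomial.C (P.eval 0)⁻¹ * Polynomial.C (P.eval 0) = 1 := by
        rw [← Polynomial.C_mul, inv_mul_cancel₀ hP0, Polynomial.C_1]
      have h2 : P = Polynomial.X * P.divX + Polynomial.C (P.eval 0) := by
        rw [← Polynomial.coeff_zero_eq_eval_zero]
        exact P.X_mul_divX_add.symm
      linear_combination Polynomial.C (P.eval 0)⁻¹ * h2 + h1
    rw [hX, map_sub, map_one, map_mul, LinearMap.sub_apply, Module.End.mul_apply, hP, map_zero,
      Module.End.one_apply, sub_zero]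
  rw [iSup_subtype'] at hw
  induction hw using Submodule.iSup_induction' with
  | mem μ x hx =>
    refine ⟨Polynomial.X - Polynomial.C μ.1, ?_, ?_⟩
    · simpa using fun h : μ.1 = 0 => hS (h ▸ μ.2)
    · rw [map_sub, aeval_X, aeval_C, LinearMap.sub_apply, Module.algebraMap_end_apply,
        Module.End.mem_eigenspace_iff.mp hx, sub_self]
  | zero => exact ⟨1, by simp, by simp⟩
  | add x y _ _ hx hy =>
    obtain ⟨P, hP0, hP⟩ := hx
    obtain ⟨P', hP0', hP'⟩ := hy
    refine ⟨P * P', by simp [hP0, hP0'], ?_⟩
    rw [map_add, map_mul, Module.End.mul_apply, Module.End.mul_apply, hP', map_zero, add_zero,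
      ← Module.End.mul_apply, ← map_mul, mul_comm, map_mul, Module.End.mul_apply, hP, map_zero]

end
set_option maxHeartbeats 1600000

/-- Let k be a field of characteristic zero, A = k[x_1, …, x_n] and Ω = Ω_{A/k}. Let d be a k-linear
endomorphism of the exterior algebra ⋀_A Ω which agrees with the universal derivation on A, sends
⋀^p Ω into ⋀^(p+1) Ω, is a graded derivation and satisfies d ∘ d = 0 (these properties characterise
the de Rham differential). Then the de Rham complex 0 → k → A → Ω → ⋀^2 Ω → ⋯ → ⋀^n Ω → 0 is exact: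
an element of A with d a = 0 is a constant, and every d-closed element of ⋀^(p+1) Ω is d of some
element of ⋀^p Ω. -/
theorem result (k : Type u) [Field k] [CharZero k] (n : ℕ)
    (d : ExteriorAlgebra (MvPolynomial (Fin n) k) (KaehlerDifferential k (MvPolynomial (Fin n) k)) →ₗ[k]
      ExteriorAlgebra (MvPolynomial (Fin n) k) (KaehlerDifferential k (MvPolynomial (Fin n) k)))
    (h0 : ∀ a : MvPolynomial (Fin n) k,
      d (algebraMap (MvPolynomial (Fin n) k) _ a) =
        ExteriorAlgebra.ι (MvPolynomial (Fin n) k) (KaehlerDifferential.D k (MvPolynomial (Fin n) k) a))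
    (hdeg : ∀ (p : ℕ) (ω : ExteriorAlgebra (MvPolynomial (Fin n) k) (KaehlerDifferential k (MvPolynomial (Fin n) k))),
      ω ∈ ExteriorAlgebra.exteriorPower (MvPolynomial (Fin n) k) p (KaehlerDifferential k (MvPolynomial (Fin n) k)) →
        d ω ∈ ExteriorAlgebra.exteriorPower (MvPolynomial (Fin n) k) (p + 1) (KaehlerDifferential k (MvPolynomial (Fin n) k)))
    (hder : ∀ (p : ℕ) (ω η : ExteriorAlgebra (MvPolynomial (Fin n) k) (KaehlerDifferential k (MvPolynomial (Fin n) k))),
      ω ∈ ExteriorAlgebra.exteriorPower (MvPolynomial (Fin n) k) p (KaehlerDifferential k (MvPolynomial (Fin n) k)) →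
        d (ω * η) = d ω * η + (-1) ^ p * ω * d η)
    (hdd : ∀ ω, d (d ω) = 0) :
    (∀ a : MvPolynomial (Fin n) k, d (algebraMap (MvPolynomial (Fin n) k) _ a) = 0 →
        ∃ c : k, a = MvPolynomial.C c) ∧
    ∀ (p : ℕ) (ω : ExteriorAlgebra (MvPolynomial (Fin n) k) (KaehlerDifferential k (MvPolynomial (Fin n) k))),
      ω ∈ ExteriorAlgebra.exteriorPower (MvPolynomial (Fin n) k) (p + 1) (KaehlerDifferential k (MvPolynomial (Fin n) k)) →
        d ω = 0 →
          ∃ θ ∈ ExteriorAlgebra.exteriorPower (MvPolynomial (Fin n) k) p (KaehlerDifferential k (MvPolynomial (Fin n) k)),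
            d θ = ω := by
  classical
  let E : Derivation k (MvPolynomial (Fin n) k) (MvPolynomial (Fin n) k) :=
    MvPolynomial.mkDerivation k MvPolynomial.X
  let φ : Module.Dual (MvPolynomial (Fin n) k) (KaehlerDifferential k (MvPolynomial (Fin n) k)) :=
    E.liftKaehlerDifferential
  have hφD : ∀ a, φ (KaehlerDifferential.D k _ a) = E a :=
    fun a => E.liftKaehlerDifferential_comp_D a
  let c := (CliffordAlgebra.contractLeft (Q := (0 : QuadraticForm (MvPolynomial (Fin n) k)
    (KaehlerDifferential k (MvPolynomial (Fin n) k)))) φ).restrictScalars k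
  let L : Module.End k (ExteriorAlgebra (MvPolynomial (Fin n) k)
    (KaehlerDifferential k (MvPolynomial (Fin n) k))) := d ∘ₗ c + c ∘ₗ d
  have hL : ∀ w, L w = d (c w) + c (d w) := fun _ => rfl
  set al := algebraMap (MvPolynomial (Fin n) k)
    (ExteriorAlgebra (MvPolynomial (Fin n) k) (KaehlerDifferential k (MvPolynomial (Fin n) k))) with hal
  set ι' := ExteriorAlgebra.ι (MvPolynomial (Fin n) k)
    (M := KaehlerDifferential k (MvPolynomial (Fin n) k)) with hι
  have hcι : ∀ v w, c (ι' v * w) = al (φ v) * w - ι' v * c w := fun v w =>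
    (CliffordAlgebra.contractLeft_ι_mul φ v w).trans (by rw [Algebra.smul_def]; rfl)
  have hcal : ∀ a w, c (al a * w) = al a * c w := fun a w =>
    CliffordAlgebra.contractLeft_algebraMap_mul φ a w
  have hmem0 : ∀ a, al a ∈ ExteriorAlgebra.exteriorPower (MvPolynomial (Fin n) k) 0
      (KaehlerDifferential k (MvPolynomial (Fin n) k)) := fun a => by
    rw [ExteriorAlgebra.exteriorPower, pow_zero]
    exact Submodule.algebraMap_mem a
  have hd1 : ∀ a w, d (al a * w) = ι' (KaehlerDifferential.D k _ a) * w + al a * d w := fun a w => by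
    rw [hder 0 _ w (hmem0 a), h0, pow_zero, one_mul]
  have hd2 : ∀ a w, d (ι' (KaehlerDifferential.D k _ a) * w) =
      -(ι' (KaehlerDifferential.D k _ a) * d w) := fun a w => by
    rw [hder 1 _ w (by rw [ExteriorAlgebra.exteriorPower, pow_one]; exact ⟨_, rfl⟩), ← h0, hdd, h0]
    simp only [zero_mul, pow_one, neg_mul, one_mul, zero_add, hι]
  have hLal : ∀ a w, L (al a * w) = al (E a) * w + al a * L w := fun a w => by
    rw [hL, hcal, hd1, hd1, map_add, hcι, hcal, hφD, hL, mul_add]
    abel
  have hEX : ∀ i, E (MvPolynomial.X i) = MvPolynomial.X i := fun i =>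
    MvPolynomial.mkDerivation_X k _ i
  have hLdx : ∀ i w, L (ι' (KaehlerDifferential.D k _ (MvPolynomial.X i)) * w) =
      ι' (KaehlerDifferential.D k _ (MvPolynomial.X i)) * (w + L w) := fun i w => by
    rw [hL, hcι, map_sub, hd1, hd2, hd2, map_neg, hcι, hφD, hEX, hL, mul_add, mul_add]
    abel
  let S : ℕ → Set k := fun q => {μ | ∃ N : ℕ, q ≤ N ∧ μ = (N : k)}
  let P : ℕ → Submodule k (ExteriorAlgebra (MvPolynomial (Fin n) k)
    (KaehlerDifferential k (MvPolynomial (Fin n) k))) := fun q => ⨆ μ ∈ S q, L.eigenspace μ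
  have hin : ∀ {q N : ℕ}, q ≤ N → ∀ {w}, L w = (N : k) • w → w ∈ P q := fun {q N} h {w} hw =>
    Submodule.mem_iSup_of_mem (N : k) (Submodule.mem_iSup_of_mem ⟨N, h, rfl⟩
      (Module.End.mem_eigenspace_iff.mpr hw))
  have hind : ∀ {q : ℕ} {motive : _ → Prop} {w}, w ∈ P q →
      (∀ (N : ℕ) x, q ≤ N → L x = (N : k) • x → motive x) → motive 0 →
      (∀ x y, motive x → motive y → motive (x + y)) → motive w := by
    intro q motive w hw hm h0' hadd'
    refine Submodule.iSup_induction _ (motive := motive) hw (fun μ x hx => ?_) h0' hadd'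
    refine Submodule.iSup_induction _ (motive := motive) hx (fun hμ y hy => ?_) h0' hadd'
    obtain ⟨N, hN, rfl⟩ := hμ
    exact hm N y hN (Module.End.mem_eigenspace_iff.mp hy)
  have hPX : ∀ q i w, w ∈ P q → al (MvPolynomial.X i) * w ∈ P q := fun q i w hw => by
    refine hind (motive := fun w => al (MvPolynomial.X i) * w ∈ P q) hw
      (fun N x hN hx => ?_) (by rw [mul_zero]; exact zero_mem _)
      (fun x y hx hy => by rw [mul_add]; exact add_mem hx hy)
    refine hin (N := N + 1) (by omega) ?_
    rw [hLal, hEX, hx, mul_smul_comm, Nat.cast_succ, add_smul, one_smul, add_comm]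
  have hPal : ∀ q a w, w ∈ P q → al a * w ∈ P q := by
    intro q a
    induction a using MvPolynomial.induction_on with
    | C r =>
      intro w hw
      rw [show al (MvPolynomial.C r) = algebraMap k _ r from
        (IsScalarTower.algebraMap_apply k (MvPolynomial (Fin n) k) _ r).symm, ← Algebra.smul_def]
      exact Submodule.smul_mem _ _ hw
    | add a b ha hb =>
      intro w hw
      rw [map_add, add_mul]
      exact add_mem (ha w hw) (hb w hw)
    | mul_X a i ha =>
      intro w hw
      rw [map_mul, mul_assoc]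
      exact ha _ (hPX q i w hw)
  have hPdx : ∀ q i w, w ∈ P q →
      ι' (KaehlerDifferential.D k _ (MvPolynomial.X i)) * w ∈ P (q + 1) := fun q i w hw => by
    refine hind (motive := fun w => ι' (KaehlerDifferential.D k _ (MvPolynomial.X i)) * w ∈ P (q + 1))
      hw (fun N x hN hx => ?_) (by rw [mul_zero]; exact zero_mem _)
      (fun x y hx hy => by rw [mul_add]; exact add_mem hx hy)
    refine hin (N := N + 1) (by omega) ?_
    rw [hLdx, hx, mul_add, mul_smul_comm, Nat.cast_succ, add_smul, one_smul, add_comm]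
  have hPι : ∀ q v w, w ∈ P q → ι' v * w ∈ P (q + 1) := fun q v w hw => by
    rw [← (KaehlerDifferential.mvPolynomialBasis k (Fin n)).sum_repr v, map_sum, Finset.sum_mul]
    refine sum_mem fun i _ => ?_
    rw [map_smul, Algebra.smul_mul_assoc, Algebra.smul_def]
    refine hPal _ _ _ ?_
    have hb : KaehlerDifferential.mvPolynomialBasis k (Fin n) i =
        KaehlerDifferential.D k _ (MvPolynomial.X i) := by
      apply (KaehlerDifferential.mvPolynomialBasis k (Fin n)).repr.injective
      rw [KaehlerDifferential.mvPolynomialBasis_repr_D_X, Module.Basis.repr_self]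
    rw [hb]
    exact hPdx q i w hw
  have hc1 : c 1 = 0 := CliffordAlgebra.contractLeft_one _ φ
  have hd10 : d 1 = 0 := by
    have := h0 1
    rwa [map_one, Derivation.map_one_eq_zero, map_zero] at this
  have hpow : ∀ q w, w ∈ ExteriorAlgebra.exteriorPower (MvPolynomial (Fin n) k) q
      (KaehlerDifferential k (MvPolynomial (Fin n) k)) → w ∈ P q := by
    intro q
    induction q with
    | zero =>
      intro w hw
      rw [ExteriorAlgebra.exteriorPower, pow_zero, Submodule.mem_one] at hw
      obtain ⟨a, rfl⟩ := hw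
      rw [← mul_one (algebraMap _ _ a)]
      refine hPal 0 a 1 (hin (N := 0) le_rfl ?_)
      rw [hL, hc1, hd10, map_zero, map_zero, add_zero, Nat.cast_zero, zero_smul]
    | succ q ih =>
      intro w hw
      rw [ExteriorAlgebra.exteriorPower, pow_succ'] at hw
      refine Submodule.mul_induction_on hw (fun a ha b hb => ?_) (fun a b ha hb => add_mem ha hb)
      obtain ⟨v, rfl⟩ := ha
      exact hPι q v b (ih b hb)
  refine ⟨fun a ha => ?_, fun p ω hω hdω => ?_⟩
  · have hD : KaehlerDifferential.D k _ a = 0 := by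
      apply (ExteriorAlgebra.ι_inj (MvPolynomial (Fin n) k) (KaehlerDifferential.D k (MvPolynomial (Fin n) k) a) 0).mp
      rw [← h0, ha, map_zero]
    refine ⟨MvPolynomial.coeff 0 a, MvPolynomial.ext _ _ fun s => ?_⟩
    rw [MvPolynomial.coeff_C]
    split
    · rename_i hs; rw [← hs]
    · rename_i hs
      obtain ⟨i, hi⟩ : ∃ i, s i ≠ 0 := by
        by_contra hcon
        push Not at hcon
        exact hs (Finsupp.ext fun i => (hcon i).symm)
      have h1 : MvPolynomial.pderiv i a = 0 := by
        have := (MvPolynomial.pderiv (R := k) i).liftKaehlerDifferential_comp_D a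
        rw [hD, map_zero] at this
        exact this.symm
      have h2 := congrArg (MvPolynomial.coeff (s - Finsupp.single i 1)) h1
      rw [MvPolynomial.coeff_pderiv, MvPolynomial.coeff_zero,
        tsub_add_cancel_of_le (Finsupp.single_le_iff.mpr (Nat.one_le_iff_ne_zero.mpr hi))] at h2
      refine (mul_eq_zero.mp h2).resolve_right ?_
      exact_mod_cast Nat.succ_ne_zero ((s - (Finsupp.single i 1 : Fin n →₀ ℕ)) i)
  · have h0S : (0 : k) ∉ S (p + 1) := by
      rintro ⟨N, hN, h⟩
      exact absurd (Nat.cast_eq_zero.mp h.symm) (by omega)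
    obtain ⟨Q, hQ⟩ := exists_poly_of_mem_iSup L _ h0S (hpow (p + 1) ω hω)
    rw [map_mul, Polynomial.aeval_X, Module.End.mul_apply] at hQ
    set η := Polynomial.aeval L Q ω with hη
    have hcomm : ∀ x, d (L x) = L (d x) := fun x => by
      rw [hL, hL, map_add, hdd, hdd, map_zero, add_zero, zero_add]
    have hdQ : ∀ (R : Polynomial k) x, d (Polynomial.aeval L R x) = Polynomial.aeval L R (d x) := by
      intro R
      induction R using Polynomial.induction_on with
      | C r => intro x; simp
      | add R R' hR hR' => intro x; simp [hR, hR']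
      | monomial m r hm =>
        intro x
        rw [pow_succ, ← mul_assoc, map_mul, Polynomial.aeval_X, Module.End.mul_apply, Module.End.mul_apply,
          hm, hcomm]
    have hLdeg : ∀ x, x ∈ ExteriorAlgebra.exteriorPower (MvPolynomial (Fin n) k) (p + 1)
        (KaehlerDifferential k (MvPolynomial (Fin n) k)) → L x ∈ ExteriorAlgebra.exteriorPower
        (MvPolynomial (Fin n) k) (p + 1) (KaehlerDifferential k (MvPolynomial (Fin n) k)) :=
      fun x hx => add_mem (hdeg p _ (contract_mem φ p x hx))
        (contract_mem φ (p + 1) _ (hdeg (p + 1) x hx))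
    have hQdeg : ∀ (R : Polynomial k) x, x ∈ ExteriorAlgebra.exteriorPower (MvPolynomial (Fin n) k) (p + 1)
        (KaehlerDifferential k (MvPolynomial (Fin n) k)) → Polynomial.aeval L R x ∈ ExteriorAlgebra.exteriorPower
        (MvPolynomial (Fin n) k) (p + 1) (KaehlerDifferential k (MvPolynomial (Fin n) k)) := by
      intro R
      induction R using Polynomial.induction_on with
      | C r =>
        intro x hx
        rw [Polynomial.aeval_C, Module.algebraMap_end_apply]
        exact Submodule.smul_of_tower_mem _ r hx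
      | add R R' hR hR' => intro x hx; rw [map_add, LinearMap.add_apply]; exact add_mem (hR x hx) (hR' x hx)
      | monomial m r hm =>
        intro x hx
        rw [pow_succ, ← mul_assoc, map_mul, Polynomial.aeval_X, Module.End.mul_apply]
        exact hm _ (hLdeg x hx)
    refine ⟨c η, contract_mem φ p η (hQdeg Q ω hω), ?_⟩
    have hdη : d η = 0 := by rw [hdQ, hdω, map_zero]
    rw [← hQ, hL, hdη, map_zero, add_zero]

end Groth.Agent.S15299
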