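import Groth.Statements.S15303
import Groth.Agent.H68.EtSlice.Ring

set_option autoImplicit false
universe u
open EtBase

namespace Groth.Agent.S15303

open CategoryTheory AlgebraicGeometry in
/-- Let k be a field of characteristic zero, X and Y smooth k-schemes, f : X ⟶ Y a smooth k-morphism and
i : Z ⟶ X a closed immersion such that the composite Z ⟶ Y is again a closed immersion. Then for
every point z of Z there are an open neighbourhood U of i(z) in X and a closed subscheme j : W ⟶ U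
of U which is étale over Y (through U ⊆ X ⟶ Y) and contains Z ∩ U, i.e. the restriction of i over U
factors through j. -/
theorem result (k : Type u) [Field k] [CharZero k]
    {X Y Z : Scheme.{u}} [X.Over (Spec (CommRingCat.of k))] [Y.Over (Spec (CommRingCat.of k))]
    [Smooth (X ↘ Spec (CommRingCat.of k))] [Smooth (Y ↘ Spec (CommRingCat.of k))]
    (f : X ⟶ Y) [f.IsOver (Spec (CommRingCat.of k))] [Smooth f]
    (i : Z ⟶ X) [IsClosedImmersion i] [IsClosedImmersion (i ≫ f)] (z : Z) :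
    ∃ (U : X.Opens) (_ : i.base z ∈ U) (W : Scheme.{u}) (j : W ⟶ (U : Scheme.{u})) (_ : IsClosedImmersion j)
      (_ : Etale (j ≫ U.ι ≫ f)) (g : ((i ⁻¹ᵁ U : Z.Opens) : Scheme.{u}) ⟶ W), g ≫ j = i ∣_ U := by
  obtain ⟨_, ⟨V, hV, rfl⟩, hzV, -⟩ := Y.isBasis_affineOpens.exists_subset_of_mem_open
    (Set.mem_univ (f.base (i.base z))) isOpen_univ
  obtain ⟨_, ⟨U, hU, rfl⟩, hzU, hUV⟩ := X.isBasis_affineOpens.exists_subset_of_mem_open
    (show i.base z ∈ f ⁻¹ᵁ V from hzV) (f ⁻¹ᵁ V).isOpen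
  have e : U ≤ f ⁻¹ᵁ V := hUV
  replace hV : IsAffineOpen V := hV
  replace hU : IsAffineOpen U := hU
  let _ : Algebra Γ(Y, V) Γ(X, U) := (f.appLE V U e).hom.toAlgebra
  have : Algebra.Smooth Γ(Y, V) Γ(X, U) :=
    RingHom.smooth_algebraMap.mp (HasRingHomProperty.appLE @Smooth f inferInstance ⟨V, hV⟩ ⟨U, hU⟩ e)
  let _ : Algebra Γ(X, U) Γ(Z, i ⁻¹ᵁ U) := (i.app U).hom.toAlgebra
  let _ : Algebra Γ(Y, V) Γ(Z, i ⁻¹ᵁ U) := (f.appLE V U e ≫ i.app U).hom.toAlgebra
  have : IsScalarTower Γ(Y, V) Γ(X, U) Γ(Z, i ⁻¹ᵁ U) := IsScalarTower.of_algebraMap_eq' rfl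
  have : Algebra.FormallyUnramified Γ(Y, V) Γ(Z, i ⁻¹ᵁ U) := by
    have h := HasRingHomProperty.appLE @FormallyUnramified (i ≫ f) inferInstance ⟨V, hV⟩
      ⟨i ⁻¹ᵁ U, hU.preimage i⟩ (fun x hx => e hx)
    rw [← RingHom.formallyUnramified_algebraMap]
    convert h using 1
    rw [RingHom.algebraMap_toAlgebra, Scheme.Hom.app_eq_appLE, Scheme.Hom.appLE_comp_appLE]
  let π := IsScalarTower.toAlgHom Γ(Y, V) Γ(X, U) Γ(Z, i ⁻¹ᵁ U)
  have hπ : Function.Surjective π := Scheme.Hom.app_surjective i U hU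
  let I : Ideal Γ(X, U) := RingHom.ker π
  have : Algebra.FormallyUnramified Γ(Y, V) (Γ(X, U) ⧸ I) :=
    Algebra.FormallyUnramified.of_equiv (Ideal.quotientKerAlgEquivOfSurjective hπ).symm
  let P := hU.primeIdealOf ⟨i.base z, hzU⟩
  have hP : ∀ a, a ∉ P.asIdeal ↔ i.base z ∈ X.basicOpen a := fun a => by
    rw [← PrimeSpectrum.mem_basicOpen]
    change P ∈ PrimeSpectrum.basicOpen a ↔ _
    rw [← hU.fromSpec_preimage_basicOpen a]
    change hU.fromSpec.base P ∈ X.basicOpen a ↔ _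
    rw [hU.fromSpec_primeIdealOf]
  have hIP : I ≤ P.asIdeal := fun a ha => by
    by_contra hn
    have h1 : z ∈ i ⁻¹ᵁ X.basicOpen a := (hP a).mp hn
    rw [Scheme.preimage_basicOpen, show i.app U a = 0 from RingHom.mem_ker.mp ha,
      Scheme.basicOpen_zero] at h1
    exact h1.elim
  obtain ⟨a, haP, hT⟩ :=
    Groth.Agent.H68.EtSlice.exists_etale_quotient (R := Γ(Y, V)) I P.asIdeal hIP
  have hle : X.basicOpen a ≤ U := X.basicOpen_le a
  have hU' : IsAffineOpen (X.basicOpen a) := hU.basicOpen a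
  let _ : Algebra Γ(Y, V) Γ(X, X.basicOpen a) :=
    (f.appLE V (X.basicOpen a) (hle.trans e)).hom.toAlgebra
  have : IsScalarTower Γ(Y, V) Γ(X, U) Γ(X, X.basicOpen a) :=
    IsScalarTower.of_algebraMap_eq' (congrArg CommRingCat.Hom.hom
      (Scheme.Hom.appLE_map f e (homOfLE hle).op)).symm
  have := hU.isLocalization_basicOpen a
  obtain ⟨W, q, hq, hqet, hker⟩ := hT Γ(X, X.basicOpen a)
  let qc : Γ(X, X.basicOpen a) ⟶ W := CommRingCat.ofHom q
  have : IsClosedImmersion (Spec.map qc) := IsClosedImmersion.spec_of_surjective _ hq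
  let j : Spec W ⟶ (X.basicOpen a : Scheme.{u}) := Spec.map qc ≫ hU'.isoSpec.inv
  have hj : IsClosedImmersion j := inferInstance
  refine ⟨X.basicOpen a, (hP a).mp haP, Spec W, j, hj, ?_, ?_⟩
  · have : Etale (Spec.map (f.appLE V (X.basicOpen a) (hle.trans e) ≫ qc)) :=
      (HasRingHomProperty.Spec_iff (P := @Etale)).mpr hqet
    have h : j ≫ (X.basicOpen a).ι ≫ f =
        Spec.map (f.appLE V (X.basicOpen a) (hle.trans e) ≫ qc) ≫ hV.fromSpec := by
      simp only [j, Spec.map_comp, Category.assoc]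
      rw [IsAffineOpen.SpecMap_appLE_fromSpec f hV hU', IsAffineOpen.isoSpec_inv_ι_assoc]
    rw [h]
    infer_instance
  · have hZ' : IsAffineOpen (i ⁻¹ᵁ X.basicOpen a) := hU'.preimage i
    have hk : RingHom.ker q ≤ RingHom.ker (i.app (X.basicOpen a)).hom := by
      refine hker.trans (Ideal.map_le_iff_le_comap.mpr fun b hb => ?_)
      rw [Ideal.mem_comap, RingHom.mem_ker]
      have := congrArg (fun φ => φ.hom b) (i.naturality (homOfLE hle).op)
      simp only [CommRingCat.hom_comp, RingHom.comp_apply] at this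
      rw [show (i.app U).hom b = 0 from RingHom.mem_ker.mp hb, map_zero] at this
      exact this
    let h' : W →+* Γ(Z, i ⁻¹ᵁ X.basicOpen a) := RingHom.liftOfSurjective q hq ⟨_, hk⟩
    refine ⟨hZ'.isoSpec.hom ≫ Spec.map (CommRingCat.ofHom h'), ?_⟩
    rw [← cancel_mono (X.basicOpen a).ι, morphismRestrict_ι]
    have hh : qc ≫ CommRingCat.ofHom h' = i.app (X.basicOpen a) :=
      CommRingCat.hom_ext (RingHom.liftOfRightInverse_comp q _ _ _)
    simp only [j, Category.assoc, IsAffineOpen.isoSpec_inv_ι]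
    rw [← Spec.map_comp_assoc, hh, Scheme.Hom.app_eq_appLE,
      IsAffineOpen.SpecMap_appLE_fromSpec i hU' hZ', IsAffineOpen.isoSpec_hom_fromSpec_assoc]

end Groth.Agent.S15303
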