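import Groth.Statements.S15311
import Groth.Agent.H95.AffDR.AffineSpace

set_option autoImplicit false
universe u
open DeRhamSh

namespace Groth.Agent.S15311

open CategoryTheory AlgebraicGeometry TopologicalSpace in
/-- Let k be a field of characteristic zero and n ≥ 0. Then the algebraic de Rham cohomology of affine
n-space Spec k[x_1, …, x_n] over k, the hypercohomology of its de Rham complex, vanishes in every
degree i ≠ 0, and in degree 0 it is additively isomorphic to k (existence of an additive
isomorphism; the identification of H^0 with the constants is canonical). (The published computation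
also gives the de Rham homology of affine space; this row is the cohomology statement, for any de
Rham complex of affine n-space over k.) -/
theorem result (k : Type u) [Field k] [CharZero k] (n : ℕ)
    [QuasiSeparated (Spec.map (CommRingCat.ofHom (algebraMap k (MvPolynomial (Fin n) k))))]
    (D : DeRhamSh.OmegaCx (Spec.map (CommRingCat.ofHom (algebraMap k (MvPolynomial (Fin n) k)))))
    [HasDerivedCategory.{u} (Sheaf (Opens.grothendieckTopology ↥(Spec (CommRingCat.of (MvPolynomial (Fin n) k)))) AddCommGrpCat.{u})] :
    (∀ i : ℤ, i ≠ 0 → Subsingleton (DeRhamSh.HdR D i)) ∧ Nonempty (DeRhamSh.HdR D 0 ≃+ k) := by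
  let g := algebraMap k (MvPolynomial (Fin n) k)
  obtain ⟨d, hd⟩ := Groth.Agent.H95.AffDR.AffineSpace.exists_isDiff' g
    (inferInstance : Algebra k (MvPolynomial (Fin n) k)) (Algebra.algebra_ext _ _ fun _ => rfl) D
  have key := fun i : ℕ => @Groth.Agent.H95.AffDR.Main.main k (MvPolynomial (Fin n) k) _ _ g
    (inferInstance : Algebra k (MvPolynomial (Fin n) k)) (Algebra.algebra_ext _ _ fun _ => rfl) D
    inferInstance d hd i
  refine ⟨fun i hi => ?_, ?_⟩
  · rcases lt_or_gt_of_ne hi with h | h
    · exact Groth.Agent.H95.AffDR.AffineSpace.subsingleton_HdR_of_neg D i h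
    · obtain ⟨p, rfl⟩ : ∃ p : ℕ, ((p + 1 : ℕ) : ℤ) = i := ⟨(i - 1).toNat, by omega⟩
      obtain ⟨e⟩ := key (p + 1)
      haveI := ModuleCat.subsingleton_of_isZero
        (Groth.Agent.H95.AffDR.AffineSpace.isZero_H_succ k n hd p)
      exact e.toEquiv.subsingleton
  · obtain ⟨e⟩ := key 0
    obtain ⟨e'⟩ := Groth.Agent.H95.AffDR.AffineSpace.nonempty_H_zero k n hd
    exact ⟨e.trans e'⟩

end Groth.Agent.S15311
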