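import Groth.Statements.S15315
import Groth.Agent.H23.Node.LengthTools

set_option autoImplicit false
universe u
open ArLef

namespace Groth.Agent.S15315

/-- For a Noetherian commutative ring A, elements a, b with a a non-zero-divisor on A/(b), and an ideal
I, one has length(A/(aI + bA)) = length(A/(a, b)) + length(A/(I + bA)) as extended natural numbers;
in particular when two of the three quotients have finite length so does the third. -/
theorem result (A : Type u) [CommRing A] [IsNoetherianRing A] (a b : A) (I : Ideal A)
    (ha : IsSMulRegular (A ⧸ Ideal.span ({b} : Set A)) a) :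
    Module.length A (A ⧸ (Ideal.span {a} * I ⊔ Ideal.span {b})) =
      Module.length A (A ⧸ Ideal.span ({a, b} : Set A)) + Module.length A (A ⧸ (I ⊔ Ideal.span {b})) := by
  refine Groth.Agent.H23.Node.LengthTools.length_mul_sup a b I fun z hz => ?_
  rw [← Ideal.mem_span_singleton, ← Ideal.Quotient.eq_zero_iff_mem] at hz ⊢
  refine ha ?_
  show a • Ideal.Quotient.mk _ z = a • (0 : A ⧸ Ideal.span {b})
  rw [smul_zero, Algebra.smul_def]
  exact hz

end Groth.Agent.S15315
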