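import Groth.Statements.S15317
import Groth.Agent.H23.Node.Basic

set_option autoImplicit false
universe u
open ArLef ArLef.NodeAlg

namespace Groth.Agent.S15317

/-- Let B be a discrete valuation ring with uniformizer π, N = B[[t, e]]/(te - π), and σ a non-trivial
B-algebra automorphism of N stabilizing both branches of the closed fibre (σ(t) associated to t,
σ(e) associated to e). Then the fixed-point ideal of σ, generated by all σ(r) - r, is g·(t, e) for a
non-zero g: the divisorial part of the fixed locus is cut out by g and its residual part is the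
reduced closed point, of multiplicity one. (Stated in the complete local ring, where the published
argument takes place; the published setting has B complete with algebraically closed residue field.) -/
theorem result (B : Type u) [CommRing B] [IsDomain B] [IsDiscreteValuationRing B] (π : B) (hπ : Irreducible π)
    (σ : ArLef.NodeAlg B π ≃ₐ[B] ArLef.NodeAlg B π) (hσ : σ ≠ AlgEquiv.refl)
    (ht : Associated (σ (ArLef.NodeAlg.t π)) (ArLef.NodeAlg.t π))
    (he : Associated (σ (ArLef.NodeAlg.e π)) (ArLef.NodeAlg.e π)) :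
    ∃ g : ArLef.NodeAlg B π, g ≠ 0 ∧
      ArLef.fixIdeal σ = Ideal.span {g} * Ideal.span ({ArLef.NodeAlg.t π, ArLef.NodeAlg.e π} : Set (ArLef.NodeAlg B π)) := by
  have := Groth.Agent.H23.Node.Basic.isDomain_node hπ
  have pt := Groth.Agent.H23.Node.Basic.prime_t hπ
  have pe := Groth.Agent.H23.Node.Basic.prime_e hπ
  obtain ⟨α, hα⟩ := ht.symm
  obtain ⟨β, hβ⟩ := he.symm
  have hαβ : (α : ArLef.NodeAlg B π) * β = 1 := by
    apply mul_left_cancel₀ (mul_ne_zero pt.ne_zero pe.ne_zero)
    have : σ (ArLef.NodeAlg.t π * ArLef.NodeAlg.e π) = ArLef.NodeAlg.t π * ArLef.NodeAlg.e π := by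
      rw [Groth.Agent.H23.Node.Basic.t_mul_e, σ.commutes]
    rw [map_mul, ← hα, ← hβ] at this
    linear_combination this
  set g : ArLef.NodeAlg B π := (α : ArLef.NodeAlg B π) - 1 with hg
  set J := Ideal.span {g} * Ideal.span ({ArLef.NodeAlg.t π, ArLef.NodeAlg.e π} : Set (ArLef.NodeAlg B π)) with hJ
  have hfix : ArLef.fixIdeal σ = J := by
    refine Groth.Agent.H23.Node.Basic.fixIdeal_eq (Groth.Agent.H23.Node.Basic.maximalIdeal_eq hπ)
      σ.toRingEquiv J (fun b => by simp) ?_ ?_ ?_
    · refine Ideal.mem_span_singleton_mul.2 ⟨ArLef.NodeAlg.t π, Ideal.subset_span (by simp), ?_⟩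
      show _ = σ (ArLef.NodeAlg.t π) - _
      rw [← hα, hg]; ring
    · refine Ideal.mem_span_singleton_mul.2 ⟨-(β : ArLef.NodeAlg B π) * ArLef.NodeAlg.e π,
        Ideal.mul_mem_left _ _ (Ideal.subset_span (by simp)), ?_⟩
      show _ = σ (ArLef.NodeAlg.e π) - _
      rw [← hβ, hg]
      linear_combination -(ArLef.NodeAlg.e π) * hαβ
    · rw [hJ, Ideal.span_mul_span', Ideal.span_le, Set.singleton_mul, Set.image_pair]
      rintro _ (rfl | rfl)
      · refine Ideal.subset_span ⟨ArLef.NodeAlg.t π, ?_⟩
        show σ _ - _ = _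
        rw [← hα, hg]; ring
      · have h0 : σ (ArLef.NodeAlg.e π) - ArLef.NodeAlg.e π ∈ ArLef.fixIdeal σ.toRingEquiv :=
          Ideal.subset_span ⟨ArLef.NodeAlg.e π, rfl⟩
        rw [SetLike.mem_coe]
        convert Ideal.mul_mem_left _ (-(α : ArLef.NodeAlg B π)) h0 using 1
        rw [← hβ, hg]
        linear_combination ArLef.NodeAlg.e π * hαβ
  refine ⟨g, fun h => hσ (AlgEquiv.ext fun r => ?_), hfix⟩
  have : σ r - r ∈ J := hfix ▸ Ideal.subset_span ⟨r, rfl⟩
  rw [hJ, h, Ideal.span_singleton_zero, Ideal.bot_mul, Ideal.mem_bot, sub_eq_zero] at this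
  simpa using this

end Groth.Agent.S15317
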