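import Groth.Statements.S15318
import Groth.Agent.H23.Node.Basic

set_option autoImplicit false
universe u
open ArLef ArLef.NodeAlg

namespace Groth.Agent.S15318

/-- Let B be a discrete valuation ring with uniformizer π, N = B[[t, e]]/(te - π), and σ a B-algebra
automorphism of N switching the two branches of the closed fibre (σ(t) associated to e, σ(e)
associated to t). Then the fixed-point ideal of σ is principal, generated by an element h of order
one (h is not in (t, e)²), and π is a non-zero-divisor modulo h: the fixed locus is a horizontal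
regular divisor through the point with empty residual part. (Stated in the complete local ring,
where the published argument takes place; the published setting has B complete with algebraically
closed residue field.) -/
theorem result (B : Type u) [CommRing B] [IsDomain B] [IsDiscreteValuationRing B] (π : B) (hπ : Irreducible π)
    (σ : ArLef.NodeAlg B π ≃ₐ[B] ArLef.NodeAlg B π)
    (ht : Associated (σ (ArLef.NodeAlg.t π)) (ArLef.NodeAlg.e π))
    (he : Associated (σ (ArLef.NodeAlg.e π)) (ArLef.NodeAlg.t π)) :
    ∃ h : ArLef.NodeAlg B π, ArLef.fixIdeal σ = Ideal.span {h} ∧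
      h ∉ (Ideal.span ({ArLef.NodeAlg.t π, ArLef.NodeAlg.e π} : Set (ArLef.NodeAlg B π))) ^ 2 ∧
      IsSMulRegular (ArLef.NodeAlg B π ⧸ Ideal.span ({h} : Set (ArLef.NodeAlg B π))) π := by
  have := Groth.Agent.H23.Node.Basic.isDomain_node hπ
  have hm := Groth.Agent.H23.Node.Basic.maximalIdeal_eq hπ
  have hmax := Groth.Agent.H23.Node.Basic.span_isMaximal hm
  have pt := Groth.Agent.H23.Node.Basic.prime_t hπ
  have pe := Groth.Agent.H23.Node.Basic.prime_e hπ
  obtain ⟨α, hα⟩ := ht.symm
  obtain ⟨β, hβ⟩ := he.symm
  set t := ArLef.NodeAlg.t π with hteq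
  set e := ArLef.NodeAlg.e π with heq
  have hαβ : (α : ArLef.NodeAlg B π) * β = 1 := by
    apply mul_left_cancel₀ (mul_ne_zero pt.ne_zero pe.ne_zero)
    have : σ (t * e) = t * e := by rw [hteq, heq, Groth.Agent.H23.Node.Basic.t_mul_e, σ.commutes]
    rw [map_mul, ← hα, ← hβ] at this
    linear_combination this
  set h : ArLef.NodeAlg B π := e * α - t with hh
  refine ⟨h, ?_, ?_, ?_⟩
  · refine Groth.Agent.H23.Node.Basic.fixIdeal_eq hm σ.toRingEquiv _ (fun b => by simp) ?_ ?_ ?_
    · show σ t - t ∈ _
      rw [← hα]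
      exact Ideal.mem_span_singleton_self _
    · show σ e - e ∈ _
      rw [← hβ]
      exact Ideal.mem_span_singleton.2 ⟨-(β : ArLef.NodeAlg B π), by rw [hh]; linear_combination e * hαβ⟩
    · rw [Ideal.span_singleton_le_iff_mem, hh]
      exact Ideal.subset_span ⟨t, by show σ t - t = _; rw [← hα]⟩
  · intro hh2
    have h01 : (0 : Fin 2) ≠ 1 := by decide
    have h10 : (1 : Fin 2) ≠ 0 := by decide
    let φ := Groth.Agent.H23.Node.Basic.branch π 1 0 h10
    have e1 : φ e = 0 := (Groth.Agent.H23.Node.Basic.dvd_xv_iff h10 _).1 dvd_rfl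
    have e0 : φ t = PowerSeries.X := Groth.Agent.H23.Node.Basic.branch_xv_self h10
    have := Ideal.mem_map_of_mem φ hh2
    rw [Ideal.map_pow, Ideal.map_span, Set.image_pair, e0, e1, hh, map_sub, map_mul, e1, e0,
      zero_mul, zero_sub, neg_mem_iff] at this
    have hle : Ideal.span ({PowerSeries.X, 0} : Set (PowerSeries (B ⧸ Ideal.span {π}))) ≤
        Ideal.span {PowerSeries.X} := by
      rw [Ideal.span_le]
      rintro _ (rfl | rfl)
      · exact Ideal.mem_span_singleton_self _
      · exact zero_mem _
    have := Ideal.pow_right_mono hle 2 this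
    rw [Ideal.span_singleton_pow, Ideal.mem_span_singleton, PowerSeries.X_pow_dvd_iff] at this
    simpa using this 1 (by norm_num)
  · have h1 : ¬ e ∣ h := fun hd => Groth.Agent.H23.Node.Basic.not_e_dvd_t hπ
      (by simpa [hh] using dvd_sub (dvd_mul_right e (α : ArLef.NodeAlg B π)) hd)
    have h2 : ¬ t ∣ h := fun hd => Groth.Agent.H23.Node.Basic.not_t_dvd_e hπ
      ((Units.dvd_mul_right (u := α)).1 (by simpa [hh] using dvd_add hd (dvd_refl t)))
    intro x y hxy
    obtain ⟨x, rfl⟩ := Ideal.Quotient.mk_surjective x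
    obtain ⟨y, rfl⟩ := Ideal.Quotient.mk_surjective y
    have hxy' : Ideal.Quotient.mk (Ideal.span {h}) (algebraMap B (ArLef.NodeAlg B π) π * x) =
        Ideal.Quotient.mk (Ideal.span {h}) (algebraMap B (ArLef.NodeAlg B π) π * y) := by
      rw [← Algebra.smul_def, ← Algebra.smul_def]
      exact hxy
    rw [Ideal.Quotient.eq, Ideal.mem_span_singleton] at hxy' ⊢
    rw [← mul_sub, ← Groth.Agent.H23.Node.Basic.t_mul_e, mul_assoc] at hxy'
    exact Groth.Agent.H23.Node.LengthTools.regular_of_prime pe h1 _
      (Groth.Agent.H23.Node.LengthTools.regular_of_prime pt h2 _ hxy')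

end Groth.Agent.S15318
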