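import Groth.Statements.S15319
import Groth.Agent.H23.Node.Basic

set_option autoImplicit false
universe u
open ArLef ArLef.NodeAlg

namespace Groth.Agent.S15319

/-- Let B be a discrete valuation ring with uniformizer π, N = B[[t, e]]/(te - π) the complete local
ring of a semi-stable arithmetic surface over B at a singular point of the closed fibre, and σ a
ring automorphism of N sending π to π + γ π^j with γ a unit of B and j ≥ 1 (σ lies over an
automorphism τ of B with v(τ(π) - π) = j). Then the fixed-point ideal of σ is not contained in (π^j)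
= (t^j e^j): the two branches through the point cannot both occur with multiplicity j in the
divisorial part of the fixed locus. (The published setting has B complete with algebraically closed
residue field.) -/
theorem result (B : Type u) [CommRing B] [IsDomain B] [IsDiscreteValuationRing B] (π : B) (hπ : Irreducible π)
    (j : ℕ) (hj : 1 ≤ j) (γ : B) (hγ : IsUnit γ)
    (σ : ArLef.NodeAlg B π ≃+* ArLef.NodeAlg B π)
    (hσ : σ (algebraMap B (ArLef.NodeAlg B π) π) = algebraMap B (ArLef.NodeAlg B π) (π + γ * π ^ j)) :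
    ¬ ArLef.fixIdeal σ ≤ Ideal.span ({algebraMap B (ArLef.NodeAlg B π) (π ^ j)} : Set (ArLef.NodeAlg B π)) := by
  intro hle
  have := Groth.Agent.H23.Node.Basic.isDomain_node hπ
  have hm := Groth.Agent.H23.Node.Basic.maximalIdeal_eq hπ
  letI := Groth.Agent.H23.Node.Basic.isLocalRing_node hm
  set ι := algebraMap B (ArLef.NodeAlg B π)
  obtain ⟨p, hp⟩ := Ideal.mem_span_singleton.1 (hle (Ideal.subset_span ⟨ArLef.NodeAlg.t π, rfl⟩))
  obtain ⟨q, hq⟩ := Ideal.mem_span_singleton.1 (hle (Ideal.subset_span ⟨ArLef.NodeAlg.e π, rfl⟩))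
  simp only at hp hq
  have hne : ι (π ^ j) ≠ 0 := by
    rw [map_pow]; exact pow_ne_zero _ (Groth.Agent.H23.Node.Basic.algebraMap_pi_ne_zero hπ)
  have key : ι γ = p * σ (ArLef.NodeAlg.e π) + ArLef.NodeAlg.t π * q := by
    apply mul_left_cancel₀ hne
    have h0 : σ (ι π) - ι π = ι γ * ι (π ^ j) := by rw [hσ]; simp only [map_add, map_mul]; ring
    have h1 : σ (ι π) = σ (ArLef.NodeAlg.t π) * σ (ArLef.NodeAlg.e π) := by
      rw [← map_mul, Groth.Agent.H23.Node.Basic.t_mul_e]
    linear_combination -h0 + h1 + (Groth.Agent.H23.Node.Basic.t_mul_e (π := π))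
      + σ (ArLef.NodeAlg.e π) * hp + ArLef.NodeAlg.t π * hq
  have hσe : ¬ IsUnit (σ (ArLef.NodeAlg.e π)) := fun h =>
    (Groth.Agent.H23.Node.Basic.prime_e hπ).not_unit (by simpa using h.map σ.symm)
  have : ι γ ∈ IsLocalRing.maximalIdeal (ArLef.NodeAlg B π) := by
    rw [key]
    exact add_mem (Ideal.mul_mem_left _ _ hσe)
      (Ideal.mul_mem_right _ _ (Groth.Agent.H23.Node.Basic.prime_t hπ).not_unit)
  exact this (hγ.map ι)

end Groth.Agent.S15319
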