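import Groth.Statements.S15320
import Groth.Agent.H23.Node.Switch

set_option autoImplicit false
universe u
open ArLef ArLef.NodeAlg

namespace Groth.Agent.S15320

/-- Let B be a discrete valuation ring with uniformizer π, N = B[[t, e]]/(te - π) the complete local
ring of a semi-stable arithmetic surface over B at a singular point x of the closed fibre, and σ a
ring automorphism of N over an automorphism τ of B with v(τ(π) - π) = j ≥ 1, that is σ(π) = π + γ
π^j with γ a unit of B, and with σ(b) - b ∈ π^j N for every b ∈ B (automatic when B is totally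
ramified over the fixed ring of τ, as in the published setting, where the residue field is
algebraically closed). If σ switches the two branches through x (σ(t) associated to e and σ(e) to
t), then the fixed-point ideal I of σ is contained in no proper principal ideal (x is not on the
divisorial part of the fixed locus) and N/I has length 2j - 1 (the multiplicity of x in the residual
fixed-point scheme). -/
theorem result (B : Type u) [CommRing B] [IsDomain B] [IsDiscreteValuationRing B] (π : B) (hπ : Irreducible π)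
    (j : ℕ) (hj : 1 ≤ j) (γ : B) (hγ : IsUnit γ)
    (σ : ArLef.NodeAlg B π ≃+* ArLef.NodeAlg B π)
    (hσB : ∀ b : B, σ (algebraMap B (ArLef.NodeAlg B π) b) - algebraMap B (ArLef.NodeAlg B π) b ∈
      Ideal.span ({algebraMap B (ArLef.NodeAlg B π) (π ^ j)} : Set (ArLef.NodeAlg B π)))
    (hσπ : σ (algebraMap B (ArLef.NodeAlg B π) π) = algebraMap B (ArLef.NodeAlg B π) (π + γ * π ^ j))
    (ht : Associated (σ (ArLef.NodeAlg.t π)) (ArLef.NodeAlg.e π)) (he : Associated (σ (ArLef.NodeAlg.e π)) (ArLef.NodeAlg.t π)) :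
    (∀ g : ArLef.NodeAlg B π, ArLef.fixIdeal σ ≤ Ideal.span ({g} : Set (ArLef.NodeAlg B π)) → IsUnit g) ∧
      Module.length (ArLef.NodeAlg B π) (ArLef.NodeAlg B π ⧸ ArLef.fixIdeal σ) = ((2 * j - 1 : ℕ) : ℕ∞) := by
  have X := Groth.Agent.H23.Node.CtxNode.ctx hπ hj hγ σ hσB hσπ
  have := X.domain
  have hm := Groth.Agent.H23.Node.Basic.maximalIdeal_eq hπ
  obtain ⟨α, hα⟩ := ht.symm
  obtain ⟨β, hβ⟩ := he.symm
  have hfix := Groth.Agent.H23.Node.Switch.switch_fix X hα.symm hβ.symm
  set t := ArLef.NodeAlg.t π with hteq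
  set e := ArLef.NodeAlg.e π with heq
  set h : ArLef.NodeAlg B π := e * α - t with hh
  have h1 : ¬ e ∣ h := fun hd => X.not_e_dvd_t
    (by simpa [hh] using dvd_sub (dvd_mul_right e (α : ArLef.NodeAlg B π)) hd)
  have hreg := Groth.Agent.H23.Node.LengthTools.regular_of_prime X.prime_e h1
  refine ⟨fun g hg => ?_, ?_⟩
  · rw [hfix, Ideal.span_le] at hg
    obtain ⟨c, hc⟩ := Ideal.mem_span_singleton.1 (hg (Set.mem_insert _ _))
    have hd := Ideal.mem_span_singleton.1 (hg (Set.mem_insert_of_mem _ rfl))
    by_contra hgu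
    have hcu : IsUnit c := by
      by_contra hcu
      refine Groth.Agent.H23.Node.Switch.not_mem_sq hπ (α : ArLef.NodeAlg B π) ?_
      rw [show e * (α : ArLef.NodeAlg B π) - t = g * c from hc, pow_two]
      exact Ideal.mul_mem_mul (Groth.Agent.H23.Node.Basic.mem_of_not_isUnit hm hgu)
        (Groth.Agent.H23.Node.Basic.mem_of_not_isUnit hm hcu)
    obtain ⟨c, rfl⟩ := hcu
    have hd' : h ∣ e ^ (2 * j - 1) * 1 := by rw [mul_one, hc]; exact Units.mul_right_dvd.2 hd
    have hu := isUnit_of_dvd_one (Groth.Agent.H23.Node.LengthTools.regular_pow _ _ hreg _ _ hd')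
    exact Groth.Agent.H23.Node.Basic.not_isUnit_of_mem hm (sub_mem
      (Ideal.mul_mem_right _ _ (Ideal.subset_span (by simp [← heq]) ))
      (Ideal.subset_span (by simp [← hteq]))) hu
  · rw [hfix]
    show Groth.Agent.H23.Node.LengthTools.len₂ h (e ^ (2 * j - 1)) = _
    rw [Groth.Agent.H23.Node.LengthTools.len₂_comm, Groth.Agent.H23.Node.LengthTools.len₂_pow_left _ _ hreg,
      Groth.Agent.H23.Node.LengthTools.len₂_congr e (y := h) (y' := -t) ⟨α, by rw [hh]; ring⟩,
      Groth.Agent.H23.Node.LengthTools.len₂_neg, Groth.Agent.H23.Node.LengthTools.len₂_comm, X.len_one,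
      mul_one]

end Groth.Agent.S15320
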