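import Groth.Statements.S15322
import Mathlib.AlgebraicGeometry.Morphisms.Etale
import Mathlib.AlgebraicGeometry.Morphisms.Separated
import Mathlib.AlgebraicGeometry.ResidueField

set_option autoImplicit false
universe u
open CategoryTheory AlgebraicGeometry
open ArLef

namespace Groth.Agent.S15322

/-- Let f : D → C be a morphism, τ an automorphism of C and σ an automorphism of D with σ f = f τ; call
σ a good lifting of τ when the fixed-point scheme of σ is the full preimage of that of τ, i.e. every
morphism z : Z → D with z f τ = z f has z σ = z. If f is etale, separated and surjective with D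
connected and the fixed-point scheme of τ is non-empty (some point of C, with its residue field, is
fixed by τ), then τ has at most one good lifting. (The published statement is for a finite etale
cover of smooth projective irreducible curves over a field and a non-trivial τ; the argument uses
only the hypotheses stated here.) -/
theorem result {C D : Scheme.{u}} (f : D ⟶ C) [Etale f] [IsSeparated f] [Surjective f]
    [ConnectedSpace D] (τ : C ≅ C) (σ σ' : D ≅ D)
    (hσ : σ.hom ≫ f = f ≫ τ.hom) (hσ' : σ'.hom ≫ f = f ≫ τ.hom)
    (good : ∀ (Z : Scheme.{u}) (z : Z ⟶ D), z ≫ f ≫ τ.hom = z ≫ f → z ≫ σ.hom = z)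
    (good' : ∀ (Z : Scheme.{u}) (z : Z ⟶ D), z ≫ f ≫ τ.hom = z ≫ f → z ≫ σ'.hom = z)
    (x : C) (hx : C.fromSpecResidueField x ≫ τ.hom = C.fromSpecResidueField x) :
    σ = σ' := by
  obtain ⟨d, rfl⟩ := f.surjective x
  let z := D.fromSpecResidueField d
  have hz : z ≫ f ≫ τ.hom = z ≫ f := by
    have e := Scheme.Hom.SpecMap_residueFieldMap_fromSpecResidueField (f := f) (x := d)
    rw [← Category.assoc, show z ≫ f = _ from e.symm, Category.assoc, hx]
  let g := f ≫ τ.hom
  let l : D ⟶ Limits.pullback f f := Limits.pullback.lift σ.hom σ'.hom (hσ.trans hσ'.symm)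
  let ι := Limits.pullback.fst l (Limits.pullback.diagonal f)
  have : IsOpenImmersion ι := inferInstance
  have : IsClosedImmersion ι := inferInstance
  have hzl : z ≫ l = z ≫ Limits.pullback.diagonal f := by
    apply Limits.pullback.hom_ext
    · simp only [l, Category.assoc, Limits.pullback.lift_fst, Limits.pullback.diagonal_fst, Category.comp_id]
      exact good _ z hz
    · simp only [l, Category.assoc, Limits.pullback.lift_snd, Limits.pullback.diagonal_snd, Category.comp_id]
      exact good' _ z hz
  have hne : (Set.range ι.base).Nonempty := by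
    let w := Limits.pullback.lift z z hzl
    let pt : Spec (D.residueField d) := IsLocalRing.closedPoint (D.residueField d)
    exact ⟨_, ⟨w.base pt, rfl⟩⟩
  have hsurj : Function.Surjective ι.base := by
    rw [← Set.range_eq_univ]
    exact IsClopen.eq_univ ⟨ι.isClosedEmbedding.isClosed_range, ι.isOpenEmbedding.isOpen_range⟩ hne
  have : IsIso ι := by
    exact isIso_of_isOpenImmersion_of_opensRange_eq_top ι
      (TopologicalSpace.Opens.ext (Set.range_eq_univ.2 hsurj))
  have key : ι ≫ σ.hom = ι ≫ σ'.hom := by
    have h1 : ι ≫ l = _ := Limits.pullback.condition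
    have a := congrArg (· ≫ Limits.pullback.fst f f) h1
    have b := congrArg (· ≫ Limits.pullback.snd f f) h1
    simp only [l, Category.assoc, Limits.pullback.lift_fst, Limits.pullback.lift_snd,
      Limits.pullback.diagonal_fst, Limits.pullback.diagonal_snd, Category.comp_id] at a b
    exact a.trans b.symm
  exact Iso.ext ((cancel_epi ι).1 key)

end Groth.Agent.S15322
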