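import Groth.Statements.S15325
import Groth.Agent.H23.Node.Basic

set_option autoImplicit false
universe u
open ArLef ArLef.NodeAlg

namespace Groth.Agent.S15325

/-- Let k be a field, A = k[[t, e]]/(te) the complete local ring of a nodal curve at a node x, and σ a
k-algebra automorphism of A fixing the two branches, σ(t) = α t and σ(e) = β e with units α, β.
Writing I for the fixed-point ideal of σ (generated by all σ(r) - r), the fixed-point multiplicity
length(A/I) of σ at x and the fixed-point multiplicities length(A/(I + (t))), length(A/(I + (e))) of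
the automorphisms induced on the two branches satisfy length(A/I) + 1 = length(A/(I + (t))) +
length(A/(I + (e))), as extended natural numbers (both sides are infinite when σ fixes a branch
pointwise). (The published setting has k algebraically closed.) -/
theorem result (k : Type u) [Field k]
    (σ : ArLef.NodeAlg k 0 ≃ₐ[k] ArLef.NodeAlg k 0) (α β : (ArLef.NodeAlg k 0)ˣ)
    (ht : σ (ArLef.NodeAlg.t (0 : k)) = (α : ArLef.NodeAlg k 0) * ArLef.NodeAlg.t (0 : k)) (he : σ (ArLef.NodeAlg.e (0 : k)) = (β : ArLef.NodeAlg k 0) * ArLef.NodeAlg.e (0 : k)) :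
    Module.length (ArLef.NodeAlg k 0) (ArLef.NodeAlg k 0 ⧸ ArLef.fixIdeal σ) + 1 =
      Module.length (ArLef.NodeAlg k 0) (ArLef.NodeAlg k 0 ⧸ (ArLef.fixIdeal σ ⊔ Ideal.span ({ArLef.NodeAlg.t (0 : k)} : Set (ArLef.NodeAlg k 0)))) +
        Module.length (ArLef.NodeAlg k 0) (ArLef.NodeAlg k 0 ⧸ (ArLef.fixIdeal σ ⊔ Ideal.span ({ArLef.NodeAlg.e (0 : k)} : Set (ArLef.NodeAlg k 0)))) := by
  set t := ArLef.NodeAlg.t (0 : k) with hteq
  set e := ArLef.NodeAlg.e (0 : k) with heq
  have hm : IsLocalRing.maximalIdeal k = Ideal.span {(0 : k)} := by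
    rw [Ideal.span_singleton_zero, ← IsLocalRing.isField_iff_maximalIdeal_eq]
    exact Field.toIsField k
  have hmax := Groth.Agent.H23.Node.Basic.span_isMaximal hm
  have h01 : (0 : Fin 2) ≠ 1 := by decide
  have h10 : (1 : Fin 2) ≠ 0 := by decide
  have disj : ∀ u w : ArLef.NodeAlg k 0, t * u = e * w → t * u = 0 := by
    intro u w huw
    have h := congrArg (Groth.Agent.H23.Node.Basic.branch (0 : k) 0 1 h01) huw
    rw [map_mul, map_mul, (Groth.Agent.H23.Node.Basic.dvd_xv_iff h01 t).1 dvd_rfl, zero_mul,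
      show e = Groth.Agent.H23.Node.Basic.xv (0 : k) 1 from rfl,
      Groth.Agent.H23.Node.Basic.branch_xv_self h01, eq_comm, mul_eq_zero] at h
    obtain ⟨w', rfl⟩ := (Groth.Agent.H23.Node.Basic.dvd_xv_iff h01 w).2 (h.resolve_left PowerSeries.X_ne_zero)
    have h0 : t * e = 0 := by rw [hteq, heq, Groth.Agent.H23.Node.Basic.t_mul_e, map_zero]
    rw [huw, show Groth.Agent.H23.Node.Basic.xv (0 : k) 0 = t from rfl, ← mul_assoc, mul_comm e, h0, zero_mul]
  set a : ArLef.NodeAlg k 0 := (α : ArLef.NodeAlg k 0) - 1 with ha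
  set b : ArLef.NodeAlg k 0 := (β : ArLef.NodeAlg k 0) - 1 with hb
  set m := Ideal.span ({t, e} : Set (ArLef.NodeAlg k 0)) with hmdef
  have hfix : ArLef.fixIdeal σ = Ideal.span ({a * t, b * e} : Set (ArLef.NodeAlg k 0)) := by
    refine Groth.Agent.H23.Node.Basic.fixIdeal_eq hm σ.toRingEquiv _ (fun c => by simp) ?_ ?_ ?_
    · show σ t - t ∈ _
      rw [ht, show (α : ArLef.NodeAlg k 0) * t - t = a * t by rw [ha]; ring]
      exact Ideal.subset_span (by simp)
    · show σ e - e ∈ _
      rw [he, show (β : ArLef.NodeAlg k 0) * e - e = b * e by rw [hb]; ring]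
      exact Ideal.subset_span (by simp)
    · rw [Ideal.span_le]
      rintro _ (rfl | rfl)
      · exact Ideal.subset_span ⟨t, by show σ t - t = _; rw [ht, ha]; ring⟩
      · exact Ideal.subset_span ⟨e, by show σ e - e = _; rw [he, hb]; ring⟩
  rw [hfix]
  set J := Ideal.span ({a * t, b * e} : Set (ArLef.NodeAlg k 0)) with hJ
  have hJm : J ≤ m := by
    rw [hJ, Ideal.span_le]
    rintro _ (rfl | rfl) <;> exact Ideal.mul_mem_left _ _ (Ideal.subset_span (by simp))
  have hTm : ∀ x, x = t ∨ x = e → J ⊔ Ideal.span {x} ≤ m := fun x hx =>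
    sup_le hJm ((Ideal.span_singleton_le_iff_mem _).2 (Ideal.subset_span (by simpa using hx)))
  have hinf : ∀ x, x ∈ J ⊔ Ideal.span {t} → x ∈ J ⊔ Ideal.span {e} → x ∈ J := by
    intro x hx hy
    obtain ⟨p, hp, q, hq, rfl⟩ := Submodule.mem_sup.1 hx
    obtain ⟨r, hr, s, hs, hrs⟩ := Submodule.mem_sup.1 hy
    obtain ⟨u, rfl⟩ := Ideal.mem_span_singleton.1 hq
    obtain ⟨w, rfl⟩ := Ideal.mem_span_singleton.1 hs
    obtain ⟨c, d, hcd⟩ := Ideal.mem_span_pair.1 (sub_mem hr hp)
    have key : t * (u - c * a) = e * (w + d * b) := by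
      linear_combination -hrs - hcd
    refine add_mem hp ?_
    rw [show t * u = c * (a * t) from by linear_combination disj _ _ key]
    exact Ideal.mul_mem_left _ _ (Ideal.subset_span (by simp))
  let f := LinearMap.prod (Submodule.factor (le_sup_left : J ≤ J ⊔ Ideal.span {t}))
    (Submodule.factor (le_sup_left : J ≤ J ⊔ Ideal.span {e}))
  let g := LinearMap.coprod (Submodule.factor (hTm t (Or.inl rfl)))
    (-(Submodule.factor (hTm e (Or.inr rfl))))
  have := Groth.Agent.H23.Node.Basic.span_te_isMaximal hm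
  rw [← Module.length_prod, Module.length_eq_add_of_exact f g,
    Groth.Agent.H23.Node.LengthTools.length_eq_one_of_isMaximal m]
  · rw [← LinearMap.ker_eq_bot, LinearMap.ker_eq_bot']
    intro x hx
    obtain ⟨x, rfl⟩ := Submodule.Quotient.mk_surjective _ x
    obtain ⟨h1, h2⟩ := Prod.ext_iff.1 hx
    exact (Submodule.Quotient.mk_eq_zero _).2
      (hinf x ((Submodule.Quotient.mk_eq_zero _).1 h1) ((Submodule.Quotient.mk_eq_zero _).1 h2))
  · intro x
    obtain ⟨x, rfl⟩ := Submodule.Quotient.mk_surjective _ x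
    exact ⟨(Submodule.Quotient.mk x, 0), by simp [g]⟩
  · rintro ⟨x, y⟩
    obtain ⟨x, rfl⟩ := Submodule.Quotient.mk_surjective _ x
    obtain ⟨y, rfl⟩ := Submodule.Quotient.mk_surjective _ y
    constructor
    · intro h
      simp only [g, LinearMap.coprod_apply, LinearMap.neg_apply, Submodule.mapQ_apply, LinearMap.id_apply,
        ← sub_eq_add_neg, ← Submodule.Quotient.mk_sub, Submodule.Quotient.mk_eq_zero] at h
      obtain ⟨p, q, hpq⟩ := Ideal.mem_span_pair.1 (h : x - y ∈ m)
      refine ⟨Submodule.Quotient.mk (x - p * t), Prod.ext ?_ ?_⟩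
      · refine (Submodule.Quotient.eq _).2 ?_
        rw [LinearMap.id_apply]
        exact Submodule.mem_sup_right (Ideal.mem_span_singleton.2 ⟨-p, by ring⟩)
      · refine (Submodule.Quotient.eq _).2 ?_
        rw [LinearMap.id_apply]
        exact Submodule.mem_sup_right (Ideal.mem_span_singleton.2 ⟨q, by linear_combination -hpq⟩)
    · rintro ⟨z, hz⟩
      obtain ⟨z, rfl⟩ := Submodule.Quotient.mk_surjective _ z
      rw [← hz]
      simp [f, g]

end Groth.Agent.S15325
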