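import Groth.Statements.S15327
import Mathlib.LinearAlgebra.Matrix.SchurComplement
import Mathlib.LinearAlgebra.Matrix.PosDef
import Mathlib.Data.Real.Basic
import Mathlib.Algebra.Order.BigOperators.Ring.Finset

set_option autoImplicit false
universe u
open ArLef ArLef.BlowupGraph
open scoped Matrix

namespace Groth.Agent.S15327

variable {n : ℕ} (G : ArLef.BlowupGraph n)

/-- incidence matrix: `P p m = 1` if `p ∈ par m`. -/
def P : Matrix (Fin n) (Fin n) ℚ := fun p m => if p ∈ G.par m then 1 else 0

/-- total transform matrix -/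
def T : Matrix (Fin n) (Fin n) ℚ := fun k m => (G.tt k m : ℚ)

lemma parN_eq (m : Fin n) : G.parN m = (G.par m).map Fin.valEmbedding := by
  simp [BlowupGraph.parN, m.isLt]

lemma T_mul : T G * (1 - P G) = 1 := by
  ext k m
  have h1 : (T G * P G) k m = ∑ p ∈ G.par m, T G k p := by
    simp [Matrix.mul_apply, P]
  rw [mul_sub, mul_one, Matrix.sub_apply, h1]
  show (G.ttN k m : ℚ) - _ = _
  rw [BlowupGraph.ttN]
  by_cases hlt : (m : ℕ) < k
  · have hne : k ≠ m := fun h => by subst h; exact lt_irrefl _ hlt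
    rw [if_pos hlt, Matrix.one_apply_ne hne]
    have : ∀ p ∈ G.par m, T G k p = 0 := by
      intro p hp
      have hp' : (p : ℕ) < k := lt_trans (G.par_lt m p hp) hlt
      show (G.ttN k p : ℚ) = 0
      rw [BlowupGraph.ttN, if_pos hp']; simp
    rw [Finset.sum_eq_zero this]; simp
  · rw [if_neg hlt]
    by_cases heq : (m : ℕ) = k
    · have hkm : k = m := Fin.ext heq.symm
      rw [if_pos heq, hkm, Matrix.one_apply_eq]
      have : ∀ p ∈ G.par m, T G m p = 0 := by
        intro p hp
        have hp' : (p : ℕ) < m := G.par_lt m p hp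
        show (G.ttN m p : ℚ) = 0
        rw [BlowupGraph.ttN, if_pos hp']; simp
      rw [Finset.sum_eq_zero this]; simp
    · have hne : k ≠ m := fun h => heq (by rw [h])
      rw [if_neg heq, Matrix.one_apply_ne hne]
      have : ∑ p ∈ (G.parN m).attach, G.ttN k p.1 = ∑ p ∈ G.par m, G.ttN k p := by
        rw [Finset.sum_attach (G.parN m) (fun p => G.ttN k p), parN_eq, Finset.sum_map]
        rfl
      rw [this]; push_cast
      simp [T, BlowupGraph.tt]

lemma pair_card_le_one (p q : Fin n) (hpq : p < q) :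
    (Finset.univ.filter fun m => p ∈ G.par m ∧ q ∈ G.par m).card ≤ 1 := by
  rw [Finset.card_le_one]
  intro a ha b hb
  simp only [Finset.mem_filter, Finset.mem_univ, true_and] at ha hb
  by_contra hab
  wlog hlt : a < b generalizing a b with H
  · exact H b a hb ha (Ne.symm hab) (lt_of_le_of_ne (not_lt.mp hlt) (Ne.symm hab))
  have hqa : q < a := G.par_lt a q ha.2
  refine (G.meet_of_two b p q hb.1 hb.2 hpq).2 a hqa hlt ?_
  refine (Finset.eq_of_subset_of_card_le ?_ ?_).symm
  · intro x hx; simp at hx; rcases hx with rfl | rfl; exacts [ha.1, ha.2]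
  · rw [Finset.card_pair (ne_of_lt hpq)]; exact G.card_le_two a

lemma mat_off (p q : Fin n) (hpq : p < q) :
    (if G.Adj p q then (1 : ℚ) else 0) = (if p ∈ G.par q then 1 else 0)
      - ((Finset.univ.filter fun m => p ∈ G.par m ∧ q ∈ G.par m).card : ℚ) := by
  have hnp : q ∉ G.par p := fun h => absurd (G.par_lt p q h) (lt_asymm hpq)
  have hadj : G.Adj p q ↔ (p ∈ G.par q ∧ ∀ m, q < m → G.par m ≠ {p, q}) := by
    simp [BlowupGraph.Adj, hnp]
  set s := Finset.univ.filter fun m => p ∈ G.par m ∧ q ∈ G.par m with hs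
  by_cases hp : p ∈ G.par q
  · rw [if_pos hp]
    rcases Finset.eq_empty_or_nonempty s with h0 | h1
    · rw [h0, if_pos (hadj.2 ⟨hp, ?_⟩)]
      · simp
      intro m _ hm
      have : m ∈ s := by simp [hs, hm]
      simp [h0] at this
    · have hc : s.card = 1 := le_antisymm (pair_card_le_one G p q hpq) (Finset.card_pos.2 h1)
      obtain ⟨m, hm⟩ := h1
      simp only [hs, Finset.mem_filter, Finset.mem_univ, true_and] at hm
      rw [if_neg, hc]
      · simp
      intro h
      refine (hadj.1 h).2 m (G.par_lt m q hm.2) ?_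
      refine (Finset.eq_of_subset_of_card_le ?_ ?_).symm
      · intro x hx; simp at hx; rcases hx with rfl | rfl; exacts [hm.1, hm.2]
      · rw [Finset.card_pair (ne_of_lt hpq)]; exact G.card_le_two m
  · rw [if_neg hp, if_neg (fun h => hp (hadj.1 h).1)]
    have : s = ∅ := by
      rw [hs, Finset.filter_eq_empty_iff]
      intro m _ hm
      exact hp (G.meet_of_two m p q hm.1 hm.2 hpq).1
    simp [this]

lemma adj_comm (p q : Fin n) : G.Adj p q ↔ G.Adj q p := by
  unfold BlowupGraph.Adj
  rw [or_comm]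

lemma mat_eq : G.mat = -((1 - P G) * (1 - P G)ᵀ) := by
  ext p q
  have key : ((1 - P G) * (1 - P G)ᵀ : Matrix (Fin n) (Fin n) ℚ) p q = (1 : Matrix (Fin n) (Fin n) ℚ) p q - P G p q - P G q p
      + ((Finset.univ.filter fun m => p ∈ G.par m ∧ q ∈ G.par m).card : ℚ) := by
    have : ((1 - P G) * (1 - P G)ᵀ) = 1 - P G - (P G)ᵀ + P G * (P G)ᵀ := by
      rw [Matrix.transpose_sub, Matrix.transpose_one]
      simp only [sub_mul, mul_sub, one_mul, mul_one]
      abel
    rw [this]
    simp only [Matrix.add_apply, Matrix.sub_apply, Matrix.transpose_apply]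
    congr 1
    simp only [Matrix.mul_apply, Matrix.transpose_apply, P, ite_mul, one_mul, zero_mul]
    rw [Finset.card_filter]
    push_cast
    refine Finset.sum_congr rfl fun m _ => ?_
    split_ifs <;> simp_all
  rw [Matrix.neg_apply, key]
  rcases lt_trichotomy p q with h | h | h
  · have hq : q ∉ G.par p := fun h' => absurd (G.par_lt p q h') (lt_asymm h)
    simp only [BlowupGraph.mat, if_neg h.ne, Matrix.one_apply_ne h.ne, mat_off G p q h, P, if_neg hq]
    ring
  · subst h
    have hp : p ∉ G.par p := fun h' => lt_irrefl _ (G.par_lt p p h')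
    simp only [BlowupGraph.mat, Matrix.one_apply_eq, P, if_neg hp, if_true, and_self]
    simp only [BlowupGraph.selfInt]
    push_cast
    ring
  · have hq : p ∉ G.par q := fun h' => absurd (G.par_lt q p h') (lt_asymm h)
    have := mat_off G q p h
    simp only [BlowupGraph.mat, if_neg h.ne', Matrix.one_apply_ne h.ne', P, if_neg hq,
      adj_comm G p q, this, and_comm (a := p ∈ G.par _)]
    ring

lemma mult_eq : (Matrix.of fun i j => (G.mult i j : ℚ)) = (T G)ᵀ * T G := by
  ext i j
  simp [Matrix.mul_apply, T, BlowupGraph.mult]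

lemma mat_mul_mult : G.mat * (Matrix.of fun i j => (G.mult i j : ℚ)) = -1 := by
  rw [mult_eq, mat_eq, neg_mul]
  have h1 := T_mul G
  have h2 : (1 - P G) * T G = 1 := mul_eq_one_comm.mp h1
  congr 1
  calc (1 - P G) * (1 - P G)ᵀ * ((T G)ᵀ * T G)
      = (1 - P G) * ((1 - P G)ᵀ * (T G)ᵀ) * T G := by simp only [mul_assoc]
    _ = 1 := by rw [← Matrix.transpose_mul, h1, Matrix.transpose_one, mul_one, h2]

lemma sub_det_ne_zero (I : Finset (Fin n)) :
    (G.mat.submatrix (fun x : I => x.1) (fun x : I => x.1)).det ≠ 0 := by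
  intro hdet
  obtain ⟨v, hv0, hv⟩ := Matrix.exists_mulVec_eq_zero_iff.2 hdet
  let B : Matrix I (Fin n) ℚ := (1 - P G).submatrix (fun x : I => x.1) id
  have hA : G.mat.submatrix (fun x : I => x.1) (fun x : I => x.1) = -(B * Bᵀ) := by
    rw [mat_eq]
    ext a b
    simp [B, Matrix.mul_apply, Matrix.submatrix_apply]
  rw [hA, Matrix.neg_mulVec, neg_eq_zero, ← Matrix.mulVec_mulVec] at hv
  have hw : Bᵀ *ᵥ v = 0 := by
    have h0 : dotProduct v (B *ᵥ (Bᵀ *ᵥ v)) = 0 := by rw [hv]; simp
    rw [Matrix.dotProduct_mulVec, ← Matrix.mulVec_transpose] at h0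
    exact dotProduct_self_eq_zero.1 h0
  have : v = 0 := by
    funext a
    -- extend v by zero and apply Tᵀ
    let v' : Fin n → ℚ := fun i => if h : i ∈ I then v ⟨i, h⟩ else 0
    have hext : (1 - P G)ᵀ *ᵥ v' = 0 := by
      rw [← hw]
      funext m
      simp only [Matrix.mulVec, dotProduct, Matrix.transpose_apply, B, Matrix.submatrix_apply, id]
      rw [← Finset.sum_subset (Finset.subset_univ I)]
      · rw [← Finset.sum_coe_sort I]
        refine Finset.sum_congr rfl fun x _ => ?_
        simp [v', x.2]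
      · intro x _ hx; simp [v', hx]
    have : v' = 0 := by
      have h2 : (1 - P G) * T G = 1 := mul_eq_one_comm.mp (T_mul G)
      have := congrArg (fun w => (T G)ᵀ *ᵥ w) hext
      simpa only [Matrix.mulVec_mulVec, ← Matrix.transpose_mul, h2, Matrix.transpose_one, Matrix.one_mulVec, Matrix.mulVec_zero] using this
    simpa [v', a.2] using congrFun this a.1
  exact hv0 this

theorem result (n : ℕ) (G : ArLef.BlowupGraph n) (I : Finset (Fin n))
    (σ : Equiv.Perm (Fin n)) (hσ : ∀ i j : Fin n, G.mat (σ i) (σ j) = G.mat i j)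
    (hσI : ∀ i : Fin n, σ i ∈ I ↔ i ∈ I) :
    G.lNum I σ = ArLef.BlowupGraph.rNum I σ := by
  let W : Matrix (Fin n) (Fin n) ℚ := Matrix.of fun i j => (G.mult i j : ℚ)
  let AI := G.mat.submatrix (fun x : I => x.1) (fun x : I => x.1)
  have hAI : IsUnit AI.det := isUnit_iff_ne_zero.2 (sub_det_ne_zero G I)
  have hWs : ∀ i j, W i j = W j i := by
    intro i j; simp [W, BlowupGraph.mult, mul_comm]
  have hM : ∀ x y, ∑ j, G.mat x j * W j y = -(1 : Matrix (Fin n) (Fin n) ℚ) x y := by
    intro x y
    have := congrFun (congrFun (mat_mul_mult G) x) y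
    simpa [Matrix.mul_apply, W] using this
  -- key identity: Schur complement times complementary block of W is -1
  have key : ∀ x i, x ∉ I → i ∉ I →
      ∑ j ∈ Finset.univ.filter (fun j => j ∉ I), G.pairing I x j * W j i
        = -(1 : Matrix (Fin n) (Fin n) ℚ) x i := by
    intro x i hx hi
    have hsplit : ∀ y, ∑ j ∈ Finset.univ.filter (fun j => j ∉ I), G.mat y j * W j i
        = -(1 : Matrix (Fin n) (Fin n) ℚ) y i - ∑ c : I, G.mat y c * W c i := by
      intro y
      rw [← hM y i, Finset.sum_coe_sort I (fun c => G.mat y c * W c i), eq_sub_iff_add_eq]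
      rw [add_comm, ← Finset.sum_filter_add_sum_filter_not Finset.univ (fun j => j ∈ I)]
      congr 1
      · exact Finset.sum_congr (by ext; simp) fun _ _ => rfl
    simp only [BlowupGraph.pairing, sub_mul, Finset.sum_sub_distrib, Finset.sum_mul]
    rw [hsplit x]
    rw [Finset.sum_comm]
    have : ∀ a : I, ∑ j ∈ Finset.univ.filter (fun j => j ∉ I), ∑ b : I,
        G.mat x a.1 * AI⁻¹ a b * G.mat b.1 j * W j i = - (G.mat x a.1 * W a.1 i) := by
      intro a
      rw [Finset.sum_comm]
      have h1 : ∀ b : I, ∑ j ∈ Finset.univ.filter (fun j => j ∉ I),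
          G.mat x a.1 * AI⁻¹ a b * G.mat b.1 j * W j i
          = - (G.mat x a.1 * ∑ c : I, AI⁻¹ a b * AI b c * W c i) := by
        intro b
        simp only [mul_assoc]
        rw [← Finset.mul_sum, ← Finset.mul_sum, hsplit b.1]
        have hb : (b : Fin n) ≠ i := fun h => hi (h ▸ b.2)
        rw [Matrix.one_apply_ne hb, ← Finset.mul_sum]
        simp [AI, mul_assoc]
      rw [Finset.sum_congr rfl fun b _ => h1 b, Finset.sum_neg_distrib, ← Finset.mul_sum,
        Finset.sum_comm]
      congr 2
      simp only [← Finset.sum_mul]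
      have h2 : ∀ c : I, ∑ b : I, AI⁻¹ a b * AI b c = (1 : Matrix I I ℚ) a c := by
        intro c
        rw [← Matrix.mul_apply, Matrix.nonsing_inv_mul _ hAI]
      rw [Finset.sum_congr rfl fun c _ => (congrArg (· * W c.1 i) (h2 c))]
      simp [Matrix.one_apply]
    rw [Finset.sum_congr rfl fun a _ => this a, Finset.sum_neg_distrib]
    ring
  simp only [BlowupGraph.lNum, BlowupGraph.rNum]
  rw [Finset.card_filter]
  push_cast
  rw [← Finset.sum_neg_distrib, ← Finset.sum_filter_add_sum_filter_not Finset.univ (fun i => i ∈ I)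
    (fun x => -(if x ∉ I ∧ σ x = x then (1 : ℚ) else 0))]
  rw [Finset.sum_eq_zero (s := Finset.univ.filter (fun i => i ∈ I))]
  · rw [zero_add]
    refine Finset.sum_congr rfl fun i hi => ?_
    simp only [Finset.mem_filter, Finset.mem_univ, true_and] at hi
    rw [Finset.sum_congr rfl fun j _ => (show (G.mult i j : ℚ) * G.pairing I (σ i) j
      = G.pairing I (σ i) j * W j i by rw [hWs j i]; simp [W, mul_comm])]
    rw [key (σ i) i (fun h => hi ((hσI i).1 h)) hi, Matrix.one_apply]
    simp [hi]
  · intro x hx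
    simp only [Finset.mem_filter, Finset.mem_univ, true_and] at hx
    simp [hx]

end Groth.Agent.S15327
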