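import Groth.Statements.S15329
import Mathlib

set_option autoImplicit false
open TensorProduct LaurentPolynomial
universe u v
open CAlg

namespace Groth.Agent.S15329

/-- Let k be a field, E a k-vector space and F an increasing ℤ-indexed filtration of E by subspaces. In
E[T, T⁻¹] = k[T, T⁻¹] ⊗ E the Rees module of (E, F) is the k-span of the elements T^n ⊗ v with v ∈ F
n; it is the module of global sections of the equivariant bundle on the affine line attached to (E,
F), and E[T, T⁻¹] that of its sections away from the origin. For a linear form α on E and an integer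
p, the k[T, T⁻¹]-linear form m ↦ T^p · (id ⊗ α)(m) is the invariant section α of the dual bundle
away from the origin multiplied by T^p, and it extends over the origin exactly when it maps the Rees
module into the polynomial subring k[T]. This happens if and only if α vanishes on F(−p − 1); so the
dual equivariant bundle corresponds to the dual space filtered by the annihilators of the F(−p − 1).
(The published statement has the annihilator of F(−p + 1), over the complex numbers; for E = k with
F n = 0 for n < 0 and F n = E for n ≥ 0 the form with p = 0 and α ≠ 0 maps the Rees module into k[T]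
although α does not vanish on F(1) = E, and the published argument gives the index −p − 1, which
this row states, over any field.) -/
theorem result
    (k : Type u) [Field k] (E : Type v) [AddCommGroup E] [Module k E]
    (F : ℤ → Submodule k E) (hF : Monotone F)
    (α : Module.Dual k E) (p : ℤ) :
    (∀ m ∈ Submodule.span k {x : k[T;T⁻¹] ⊗[k] E | ∃ (n : ℤ) (v : E), v ∈ F n ∧ x = T n ⊗ₜ[k] v},
      T p * (TensorProduct.AlgebraTensorModule.rid k k[T;T⁻¹] k[T;T⁻¹]) (LinearMap.baseChange k[T;T⁻¹] α m)
        ∈ (Polynomial.toLaurent : Polynomial k →+* k[T;T⁻¹]).range) ↔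
    ∀ v ∈ F (-p - 1), α v = 0 := by
  set g : k[T;T⁻¹] ⊗[k] E →ₗ[k[T;T⁻¹]] k[T;T⁻¹] :=
    (TensorProduct.AlgebraTensorModule.rid k k[T;T⁻¹] k[T;T⁻¹]).toLinearMap ∘ₗ LinearMap.baseChange k[T;T⁻¹] α with hg
  have key : ∀ (n : ℤ) (v : E), T p * g (T n ⊗ₜ[k] v) = LaurentPolynomial.C (α v) * T (p + n) := by
    intro n v
    simp [hg, LaurentPolynomial.smul_eq_C_mul]
    exact Or.inl (by rw [add_comm])
  constructor
  · intro h v hv
    obtain ⟨q, hq⟩ := h (T (-p - 1) ⊗ₜ[k] v) (Submodule.subset_span ⟨_, v, hv, rfl⟩)
    replace hq : Polynomial.toLaurent q = LaurentPolynomial.C (α v) * T (p + (-p - 1)) := hq.trans (key _ _)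
    have h2 := congrArg LaurentPolynomial.trunc hq
    rw [Polynomial.trunc_toLaurent, LaurentPolynomial.trunc_C_mul_T, if_neg (by omega)] at h2
    subst h2
    rw [map_zero] at hq
    have := hq.symm
    rcases mul_eq_zero.1 this with h3 | h3
    · rw [← Polynomial.toLaurent_C, Polynomial.toLaurent_eq_zero, Polynomial.C_eq_zero] at h3
      exact h3
    · exact absurd h3 (LaurentPolynomial.isUnit_T _).ne_zero
  · intro h m hm
    show T p * g m ∈ _
    induction hm using Submodule.span_induction with
    | mem x hx =>
      obtain ⟨n, v, hv, rfl⟩ := hx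
      rw [key]
      by_cases hn : 0 ≤ p + n
      · obtain ⟨l, hl⟩ := Int.eq_ofNat_of_zero_le hn
        exact ⟨Polynomial.C (α v) * Polynomial.X ^ l, by rw [Polynomial.toLaurent_C_mul_X_pow, hl]⟩
      · rw [h v (hF (by omega) hv), map_zero, zero_mul]
        exact zero_mem _
    | zero => simp
    | add a b _ _ ha hb => rw [map_add, mul_add]; exact add_mem ha hb
    | smul c a _ ha =>
      have : g (c • a) = c • g a := LinearMap.map_smul_of_tower g c a
      rw [this, mul_smul_comm, LaurentPolynomial.smul_eq_C_mul, ← Polynomial.toLaurent_C]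
      exact mul_mem ⟨_, rfl⟩ ha

end Groth.Agent.S15329
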