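import Groth.Statements.S15330
import Groth.Agent.Lib.CurveBundle.Ctx
import Groth.Agent.Lib.CurveBundle.HiggsQuot
import Mathlib.Analysis.Complex.Polynomial.Basic

set_option autoImplicit false
open CategoryTheory AlgebraicGeometry CategoryTheory.Limits
open VBCurve

namespace Groth.Agent.S15330

/-- Let X be a smooth proper integral curve over the complex numbers, L an invertible module on X, and
(E, φ_E), (F, φ_F) two L-valued Higgs bundles on X of the same rank r ≥ 1 and the same degree d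
(degree = χ − rank · χ(O)), each semistable: deg G · r ≤ d · s for every finite locally free
submodule G of rank s ≥ 1 to which the Higgs field restricts. Let E_0 ⊂ E_1 ⊂ … ⊂ E_n = E with E_0 =
0 and F = F_0 ⊃ F_1 ⊃ … ⊃ F_n = 0 be chains of finite locally free submodules to which the Higgs
fields restrict, of ranks with rk E_i + rk F_i = r, which are opposite: E_{i+1}/E_i ≅ F_i/F_{i+1} as
O-modules for i < n. Then every E_i of positive rank and every F_i of positive rank has slope d/r,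
that is deg · r = d · rank, and is semistable for its restricted Higgs field; and each graded piece
E_{i+1}/E_i of positive rank is finite locally free of rank rk E_{i+1} − rk E_i, of slope d/r, and
semistable for every Higgs field on it compatible with that of E_{i+1} along the projection. (The
published statement indexes the second chain so that F_i/F_{i+1} matches E_i/E_{i−1} and takes the
isomorphisms of graded pieces as Higgs bundles; here they are assumed as O-modules only, together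
with the rank bookkeeping rk E_i + rk F_i = r that they imply.) -/
theorem result
    (X : Scheme.{0}) [X.Over (Spec (CommRingCat.of ℂ))] [IsIntegral X]
    [IsProper (X ↘ Spec (CommRingCat.of ℂ))] [Smooth (X ↘ Spec (CommRingCat.of ℂ))]
    (hdim : topologicalKrullDim X = 1)
    (L : X.Modules) (hL : PicF.IsInvertible L) (r : ℕ) (hr : 0 < r) (d : ℤ)
    (E : X.Modules) (hE : FlatMod.IsFinLocFreeOfRank r E) (φE : E ⟶ CohB1.tensorMod E L)
    (hEd : Curv2.deg ℂ X E r = d)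
    (hEss : (∀ (G : X.Modules) (s : ℕ) (j : G ⟶ E) (χ : G ⟶ CohB1.tensorMod G L), Mono j → 0 < s →
        FlatMod.IsFinLocFreeOfRank s G →
        χ ≫ (CohB1.sheafifyMod X).map (MonoidalCategoryStruct.whiskerRight (C := CohB1.PMod X) j.val (CohB1.toPMod L)) = j ≫ φE →
        Curv2.deg ℂ X G s * (r : ℤ) ≤ Curv2.deg ℂ X E r * (s : ℤ)))
    (F : X.Modules) (hF : FlatMod.IsFinLocFreeOfRank r F) (φF : F ⟶ CohB1.tensorMod F L)
    (hFd : Curv2.deg ℂ X F r = d)
    (hFss : (∀ (G : X.Modules) (s : ℕ) (j : G ⟶ F) (χ : G ⟶ CohB1.tensorMod G L), Mono j → 0 < s →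
        FlatMod.IsFinLocFreeOfRank s G →
        χ ≫ (CohB1.sheafifyMod X).map (MonoidalCategoryStruct.whiskerRight (C := CohB1.PMod X) j.val (CohB1.toPMod L)) = j ≫ φF →
        Curv2.deg ℂ X G s * (r : ℤ) ≤ Curv2.deg ℂ X F r * (s : ℤ)))
    (n : ℕ)
    (Es : ℕ → X.Modules) (rE : ℕ → ℕ) (hEs : ∀ i, FlatMod.IsFinLocFreeOfRank (rE i) (Es i))
    (ιE : ∀ i, Es i ⟶ E) (hιE : ∀ i, Mono (ιE i))
    (ψE : ∀ i, Es i ⟶ CohB1.tensorMod (Es i) L)
    (hψE : ∀ i, ψE i ≫ (CohB1.sheafifyMod X).map (MonoidalCategoryStruct.whiskerRight (C := CohB1.PMod X) (ιE i).val (CohB1.toPMod L)) = ιE i ≫ φE)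
    (a : ∀ i, Es i ⟶ Es (i + 1)) (ha : ∀ i, a i ≫ ιE (i + 1) = ιE i)
    (hE0 : IsZero (Es 0)) (hEn : IsIso (ιE n))
    (Fs : ℕ → X.Modules) (rF : ℕ → ℕ) (hFs : ∀ i, FlatMod.IsFinLocFreeOfRank (rF i) (Fs i))
    (ιF : ∀ i, Fs i ⟶ F) (hιF : ∀ i, Mono (ιF i))
    (ψF : ∀ i, Fs i ⟶ CohB1.tensorMod (Fs i) L)
    (hψF : ∀ i, ψF i ≫ (CohB1.sheafifyMod X).map (MonoidalCategoryStruct.whiskerRight (C := CohB1.PMod X) (ιF i).val (CohB1.toPMod L)) = ιF i ≫ φF)
    (b : ∀ i, Fs (i + 1) ⟶ Fs i) (hb : ∀ i, b i ≫ ιF i = ιF (i + 1))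
    (hF0 : IsIso (ιF 0)) (hFn : IsZero (Fs n))
    (hrk : ∀ i, i ≤ n → rE i + rF i = r)
    (hopp : ∀ i, i < n → Nonempty (cokernel (a i) ≅ cokernel (b i))) :
    (∀ i, i ≤ n → 0 < rE i →
      Curv2.deg ℂ X (Es i) (rE i) * (r : ℤ) = d * (rE i : ℤ) ∧
      (∀ (G : X.Modules) (s : ℕ) (j : G ⟶ (Es i)) (χ : G ⟶ CohB1.tensorMod G L), Mono j → 0 < s →
        FlatMod.IsFinLocFreeOfRank s G →
        χ ≫ (CohB1.sheafifyMod X).map (MonoidalCategoryStruct.whiskerRight (C := CohB1.PMod X) j.val (CohB1.toPMod L)) = j ≫ ψE i →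
        Curv2.deg ℂ X G s * (rE i : ℤ) ≤ Curv2.deg ℂ X (Es i) (rE i) * (s : ℤ))) ∧
    (∀ i, i ≤ n → 0 < rF i →
      Curv2.deg ℂ X (Fs i) (rF i) * (r : ℤ) = d * (rF i : ℤ) ∧
      (∀ (G : X.Modules) (s : ℕ) (j : G ⟶ (Fs i)) (χ : G ⟶ CohB1.tensorMod G L), Mono j → 0 < s →
        FlatMod.IsFinLocFreeOfRank s G →
        χ ≫ (CohB1.sheafifyMod X).map (MonoidalCategoryStruct.whiskerRight (C := CohB1.PMod X) j.val (CohB1.toPMod L)) = j ≫ ψF i →
        Curv2.deg ℂ X G s * (rF i : ℤ) ≤ Curv2.deg ℂ X (Fs i) (rF i) * (s : ℤ))) ∧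
    (∀ i, i < n → rE i < rE (i + 1) →
      FlatMod.IsFinLocFreeOfRank (rE (i + 1) - rE i) (cokernel (a i)) ∧
      Curv2.deg ℂ X (cokernel (a i)) (rE (i + 1) - rE i) * (r : ℤ) = d * ((rE (i + 1) - rE i : ℕ) : ℤ) ∧
      ∀ (φ' : cokernel (a i) ⟶ CohB1.tensorMod (cokernel (a i)) L),
        cokernel.π (a i) ≫ φ' = ψE (i + 1) ≫ (CohB1.sheafifyMod X).map (MonoidalCategoryStruct.whiskerRight (C := CohB1.PMod X) (cokernel.π (a i)).val (CohB1.toPMod L)) →
        (∀ (G : X.Modules) (s : ℕ) (j : G ⟶ cokernel (a i)) (χ : G ⟶ CohB1.tensorMod G L), Mono j → 0 < s →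
        FlatMod.IsFinLocFreeOfRank s G →
        χ ≫ (CohB1.sheafifyMod X).map (MonoidalCategoryStruct.whiskerRight (C := CohB1.PMod X) j.val (CohB1.toPMod L)) = j ≫ φ' →
        Curv2.deg ℂ X G s * ((rE (i + 1) - rE i : ℕ) : ℤ) ≤ Curv2.deg ℂ X (cokernel (a i)) (rE (i + 1) - rE i) * (s : ℤ))) := by
  open Groth.Agent.Lib.CurveBundle in
    have := Groth.Agent.Lib.CurveBundle.Ctx.ofIntegral ℂ hdim
    have hE' := HiggsQuot.pairSS_of hE φE hEss
    have hF' := HiggsQuot.pairSS_of hF φF hFss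
    obtain ⟨hEc, -, eE, edE⟩ := Slope.bundle (k := ℂ) hE
    obtain ⟨hFc, -, eF, edF⟩ := Slope.bundle (k := ℂ) hF
    rw [edE] at hEd
    rw [edF] at hFd
    have hEsc := fun i => (Slope.bundle (k := ℂ) (hEs i)).1
    have hFsc := fun i => (Slope.bundle (k := ℂ) (hFs i)).1
    have wE : ∀ i, ψE i ≫ Groth.Agent.Lib.TensorMod.Basic.tmap (ιE i) (𝟙 L) = ιE i ≫ φE :=
      fun i => (congrArg (ψE i ≫ ·) (Higgs.whisker_eq (ιE i) L)).symm.trans (hψE i)
    have wF : ∀ i, ψF i ≫ Groth.Agent.Lib.TensorMod.Basic.tmap (ιF i) (𝟙 L) = ιF i ≫ φF :=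
      fun i => (congrArg (ψF i ≫ ·) (Higgs.whisker_eq (ιF i) L)).symm.trans (hψF i)
    have : ∀ i, Mono (a i) := fun i => have := hιE i; mono_of_mono_fac (ha i)
    have : ∀ i, Mono (b i) := fun i => have := hιF (i + 1); mono_of_mono_fac (hb i)
    have htel := HiggsQuot.telescope (k := ℂ) Es Fs hEsc hFsc a b n hE0 hopp
    rw [Degree.dg_congr ℂ (asIso (ιF 0)), hFd] at htel
    have eEs := fun i => (Slope.bundle (k := ℂ) (hEs i)).2.2.1
    have eFs := fun i => (Slope.bundle (k := ℂ) (hFs i)).2.2.1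
    have hslope : ∀ i, i ≤ n → Degree.dg ℂ (Es i) * (r : ℤ) = d * (rE i : ℤ) ∧
        Degree.dg ℂ (Fs i) * (r : ℤ) = d * (rF i : ℤ) := fun i hi => by
      have h1 := hE' _ (ιE i) (hιE i) (hEsc i) ⟨ψE i, wE i⟩
      have h2 := hF' _ (ιF i) (hιF i) (hFsc i) ⟨ψF i, wF i⟩
      rw [eE, eEs, hEd] at h1
      rw [eF, eFs, hFd] at h2
      have h3 : (rE i : ℤ) + rF i = r := by exact_mod_cast hrk i hi
      have h4 : (Degree.dg ℂ (Es i) + Degree.dg ℂ (Fs i)) * (r : ℤ) = d * (rE i + rF i) := by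
        rw [htel i hi, h3]
      rw [add_mul, mul_add] at h4
      exact ⟨by linarith, by linarith⟩
    have hsub : ∀ i, i ≤ n → HiggsQuot.PairSS ℂ (ψE i) := fun i hi =>
      have := hιE i
      HiggsQuot.sub_ss hr hE (hEs i) hE' (ιE i) (wE i) (by rw [hEd]; exact (hslope i hi).1)
    have hsub' : ∀ i, i ≤ n → HiggsQuot.PairSS ℂ (ψF i) := fun i hi =>
      have := hιF i
      HiggsQuot.sub_ss hr hF (hFs i) hF' (ιF i) (wF i) (by rw [hFd]; exact (hslope i hi).2)
    refine ⟨fun i hi _ => ⟨?_, HiggsQuot.of_pairSS (hEs i) _ (hsub i hi)⟩,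
      fun i hi _ => ⟨?_, HiggsQuot.of_pairSS (hFs i) _ (hsub' i hi)⟩, fun i hi hlt => ?_⟩
    · rw [← Degree.dg_eq_deg ℂ (hEs i)]; exact (hslope i hi).1
    · rw [← Degree.dg_eq_deg ℂ (hFs i)]; exact (hslope i hi).2
    · obtain ⟨s0, -⟩ := hslope i hi.le
      obtain ⟨s1, -⟩ := hslope (i + 1) hi
      have hpos : 0 < rE (i + 1) := by omega
      have hμ : Degree.dg ℂ (Es i) * (rE (i + 1) : ℤ) = Degree.dg ℂ (Es (i + 1)) * (rE i : ℤ) := by
        refine mul_right_cancel₀ (show (r : ℤ) ≠ 0 by exact_mod_cast hr.ne') ?_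
        calc Degree.dg ℂ (Es i) * (rE (i + 1) : ℤ) * r
            = Degree.dg ℂ (Es i) * r * rE (i + 1) := by ring
          _ = d * rE (i + 1) * rE i := by rw [s0]; ring
          _ = Degree.dg ℂ (Es (i + 1)) * r * rE i := by rw [s1]
          _ = _ := by ring
      have hinv : HiggsMax.Inv (ψE (i + 1)) (a i) := ⟨ψE i, by
        have := hιE (i + 1)
        have := Twist.isEquivalence hL
        have : Mono (Groth.Agent.Lib.TensorMod.Basic.tmap (ιE (i + 1)) (𝟙 L)) :=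
          (Groth.Agent.Lib.TensorMod.Basic.tensorBy L).map_mono (ιE (i + 1))
        rw [← cancel_mono (Groth.Agent.Lib.TensorMod.Basic.tmap (ιE (i + 1)) (𝟙 L)), Category.assoc,
          ← Groth.Agent.Lib.TensorMod.Basic.tmap_comp, Category.comp_id, ha i, wE i, Category.assoc,
          wE (i + 1), reassoc_of% (ha i)]⟩
      have hQ := HiggsQuot.cokernel_bundle hL hpos (hEs (i + 1)) (hEs i) (hsub (i + 1) hi) (a i)
        hinv hμ
      refine ⟨hQ, ?_, fun φ' hφ' => HiggsQuot.of_pairSS hQ φ'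
        (HiggsQuot.quot_ss hL hpos (hEs (i + 1)) (hEs i) (hsub (i + 1) hi) (a i) hμ φ'
          (hφ'.trans (congrArg (ψE (i + 1) ≫ ·) (Higgs.whisker_eq (cokernel.π (a i)) L))))⟩
      rw [← Degree.dg_eq_deg ℂ hQ]
      obtain ⟨-, -, dd⟩ := Degree.cokernel_ses ℂ (a i) (hEsc i) (hEsc (i + 1))
      push_cast [Nat.cast_sub hlt.le]
      rw [show Degree.dg ℂ (cokernel (a i)) =
        Degree.dg ℂ (Es (i + 1)) - Degree.dg ℂ (Es i) by linarith, sub_mul, s0, s1]
      ring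

end Groth.Agent.S15330
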