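import Groth.Statements.S15350
import Groth.Agent.H46.SectOpenSmooth
import Groth.Agent.Lib.GeomConn.Components
import Mathlib.Topology.Homeomorph.Lemmas

set_option autoImplicit false
universe u
open CategoryTheory CategoryTheory.Limits AlgebraicGeometry
open MoreMor

namespace Groth.Agent.S15350

section Aux

theorem connectedComponentIn_range {A B : Type*} [TopologicalSpace A] [TopologicalSpace B] {i : A → B}
    (hi : Topology.IsEmbedding i) {F : Set B} (hF : Set.range i = F) (a : A) :
    connectedComponentIn F (i a) = i '' connectedComponent a := by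
  subst hF
  refine subset_antisymm ?_ ?_
  · intro y hy
    rw [connectedComponentIn_eq_image (Set.mem_range_self a)] at hy
    obtain ⟨z, hz, rfl⟩ := hy
    let h := hi.toHomeomorph
    refine ⟨h.symm z, ?_, congrArg Subtype.val (h.apply_symm_apply z)⟩
    have ha : h.symm ⟨i a, Set.mem_range_self a⟩ = a := h.symm_apply_apply a
    rw [← ha]
    exact h.symm.continuous.image_connectedComponent_subset _ ⟨z, hz, rfl⟩
  · exact (isConnected_connectedComponent.image i hi.continuous.continuousOn).isPreconnected.subset_connectedComponentIn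
      ⟨a, mem_connectedComponent, rfl⟩ (Set.image_subset_range _ _)

/-- The projection of a base change maps section components onto components. -/
theorem image_component {S T X : Scheme.{u}} (f : X ⟶ S) (g : T ⟶ S) (t : T) (x' : ↥(pullback f g))
    (hx' : pullback.snd f g x' = t) :
    pullback.fst f g '' connectedComponentIn (pullback.snd f g ⁻¹' {t}) x' =
      connectedComponentIn (f ⁻¹' {g t}) (pullback.fst f g x') := by
  letI : Algebra (S.residueField (g t)) (T.residueField t) := (g.residueFieldMap t).hom.toAlgebra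
  let Xs := f.fiber (g t)
  letI : Xs.Over (Spec (CommRingCat.of (S.residueField (g t)))) := ⟨f.fiberToSpecResidueField (g t)⟩
  let a := Spec.map (CommRingCat.ofHom (algebraMap (S.residueField (g t)) (T.residueField t)))
  have ha : a ≫ S.fromSpecResidueField (g t) = T.fromSpecResidueField t ≫ g :=
    Scheme.Hom.SpecMap_residueFieldMap_fromSpecResidueField g t
  have sq1 : IsPullback (pullback.fst (f.fiberToSpecResidueField (g t)) a ≫ f.fiberι (g t))
      (pullback.snd (f.fiberToSpecResidueField (g t)) a) f (T.fromSpecResidueField t ≫ g) := by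
    rw [← ha]
    exact (IsPullback.of_hasPullback _ a).paste_horiz (IsPullback.of_hasPullback f _)
  let q : pullback (f.fiberToSpecResidueField (g t)) a ⟶ pullback f g :=
    pullback.lift (pullback.fst _ _ ≫ f.fiberι (g t)) (pullback.snd _ _ ≫ T.fromSpecResidueField t)
      (by rw [sq1.w, Category.assoc])
  have sq2 : IsPullback q (pullback.snd (f.fiberToSpecResidueField (g t)) a) (pullback.snd f g)
      (T.fromSpecResidueField t) := by
    refine IsPullback.of_right ?_ (pullback.lift_snd _ _ _) (IsPullback.of_hasPullback f g)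
    rw [show q ≫ pullback.fst f g = _ from pullback.lift_fst _ _ _]
    exact sq1
  have hq : q = sq2.isoPullback.hom ≫ (pullback.snd f g).fiberι t := sq2.isoPullback_hom_fst.symm
  have hemb : Topology.IsEmbedding q := by
    rw [hq]
    exact ((pullback.snd f g).fiberι t).isEmbedding.comp sq2.isoPullback.hom.homeomorph.isEmbedding
  have hrange : Set.range q = pullback.snd f g ⁻¹' {t} := by
    rw [hq, ← (pullback.snd f g).range_fiberι t]
    exact Set.range_comp_subset_range _ _ |>.antisymm (by
      rintro _ ⟨z, rfl⟩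
      refine ⟨sq2.isoPullback.inv z, ?_⟩
      show (pullback.snd f g).fiberι t (sq2.isoPullback.hom (sq2.isoPullback.inv z)) = _
      rw [← Scheme.Hom.comp_apply sq2.isoPullback.inv, Iso.inv_hom_id]; rfl)
  obtain ⟨z, rfl⟩ : x' ∈ Set.range q := by rw [hrange]; exact hx'
  rw [connectedComponentIn_range hemb hrange, ← Set.image_comp]
  have h1 : (pullback.fst f g : ↥(pullback f g) → X) ∘ q =
      (f.fiberι (g t) : Xs → X) ∘ (Curv2.bcFst (S.residueField (g t)) Xs (T.residueField t)) := by
    funext w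
    show pullback.fst f g (q w) = f.fiberι (g t) (pullback.fst _ a w)
    rw [← Scheme.Hom.comp_apply, ← Scheme.Hom.comp_apply]
    exact congrArg (fun m : pullback (f.fiberToSpecResidueField (g t)) a ⟶ X => m w) (pullback.lift_fst _ _ _)
  have h2 := congrFun h1 z
  simp only [Function.comp_apply] at h2
  refine (congrArg (fun F => F '' connectedComponent z) h1).trans ((Set.image_comp _ _ _).trans ?_)
  erw [h2,
    Groth.Agent.Lib.GeomConn.Components.image_connectedComponent (S.residueField (g t)) Xs (T.residueField t) z,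
    connectedComponentIn_range (f.fiberι (g t)).isEmbedding (f.range_fiberι (g t))]

end Aux

/-- Let f : X ⟶ S be smooth, quasi-compact and quasi-separated, let g : S' ⟶ S be universally open and
let e : S' ⟶ X satisfy e ≫ f = g. Then there is an open subset U of X (necessarily unique) such that
for every point s of S, U ∩ f⁻¹(s) is the union of those connected components of the fibre f⁻¹(s),
with its subspace topology, which meet e(S'). -/
theorem result {S S' X : Scheme.{u}} (f : X ⟶ S)
    [Smooth f] [QuasiCompact f] [QuasiSeparated f] (g : S' ⟶ S) [UniversallyOpen g] (e : S' ⟶ X)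
    (he : e ≫ f = g) :
    ∃ U : X.Opens, ∀ s : S, (U : Set ↥X) ∩ f.base ⁻¹' {s} =
      ⋃ x ∈ Set.range e.base ∩ f.base ⁻¹' {s}, connectedComponentIn (f.base ⁻¹' {s}) x := by
  subst he
  let P (V : S'.affineOpens) := pullback f (V.1.ι ≫ e ≫ f)
  let sec (V : S'.affineOpens) : (V.1 : Scheme.{u}) ⟶ P V :=
    pullback.lift (V.1.ι ≫ e) (𝟙 _) (by rw [Category.assoc, Category.id_comp])
  have hsec : ∀ V, sec V ≫ pullback.snd f (V.1.ι ≫ e ≫ f) = 𝟙 _ := fun V => pullback.lift_snd _ _ _
  have hsec1 : ∀ V (v : (V.1 : Scheme.{u})), pullback.fst f (V.1.ι ≫ e ≫ f) (sec V v) = e (V.1.ι v) := by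
    intro V v
    rw [← Scheme.Hom.comp_apply, ← Scheme.Hom.comp_apply]
    exact congrArg (fun m : (V.1 : Scheme.{u}) ⟶ X => m v) (pullback.lift_fst _ _ _)
  let W (V : S'.affineOpens) : Set X :=
    pullback.fst f (V.1.ι ≫ e ≫ f) '' MoreMor.sectionComponents (pullback.snd f (V.1.ι ≫ e ≫ f)) (sec V)
  have hW : ∀ V, IsOpen (W V) := by
    intro V
    haveI : IsAffine (V.1 : Scheme.{u}) := V.2
    haveI : QuasiSeparatedSpace ↥(P V) :=
      quasiSeparatedSpace_of_quasiSeparated (pullback.snd f (V.1.ι ≫ e ≫ f))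
    haveI : UniversallyOpen (V.1.ι ≫ e ≫ f) := inferInstance
    exact (pullback.fst f (V.1.ι ≫ e ≫ f)).isOpenMap _
      (Groth.Agent.H46.SectOpenSmooth.isOpen (pullback.snd f (V.1.ι ≫ e ≫ f)) (hsec V))
  refine ⟨⟨⋃ V, W V, isOpen_iUnion hW⟩, fun s => Set.ext fun x => ?_⟩
  simp only [Set.mem_inter_iff, Set.mem_preimage, Set.mem_singleton_iff, Set.mem_iUnion]
  constructor
  · rintro ⟨hx, hfx⟩
    obtain ⟨V, x', hx', rfl⟩ := Set.mem_iUnion.1 hx
    let v := pullback.snd f (V.1.ι ≫ e ≫ f) x'
    have hv : pullback.snd f (V.1.ι ≫ e ≫ f) (sec V v) = v := by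
      rw [← Scheme.Hom.comp_apply, hsec]; rfl
    have hmem : pullback.fst f (V.1.ι ≫ e ≫ f) x' ∈
        connectedComponentIn (f ⁻¹' {(V.1.ι ≫ e ≫ f) v}) (e (V.1.ι v)) := by
      rw [← hsec1, ← image_component f _ v _ hv]
      exact ⟨x', hx', rfl⟩
    have hs : (V.1.ι ≫ e ≫ f) v = s := (connectedComponentIn_subset _ _ hmem).symm.trans hfx
    rw [hs] at hmem
    refine ⟨e (V.1.ι v), ⟨⟨_, rfl⟩, ?_⟩, hmem⟩
    rw [← hs]; simp only [Scheme.Hom.comp_apply]
  · rintro ⟨_, ⟨⟨s', rfl⟩, hs⟩, hmem⟩
    refine ⟨?_, connectedComponentIn_subset (f ⁻¹' {s}) _ hmem⟩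
    obtain ⟨V0, hV, hsV, -⟩ := exists_isAffineOpen_mem_and_subset (x := s') (U := ⊤) trivial
    let V : S'.affineOpens := ⟨V0, hV⟩
    let v : (V.1 : Scheme.{u}) := ⟨s', hsV⟩
    have hv : pullback.snd f (V.1.ι ≫ e ≫ f) (sec V v) = v := by
      rw [← Scheme.Hom.comp_apply, hsec]; rfl
    have hg : (V.1.ι ≫ e ≫ f) v = s := by rw [← hs]; rfl
    refine Set.mem_iUnion.2 ⟨V, ?_⟩
    have h := image_component f (V.1.ι ≫ e ≫ f) v _ hv
    rw [hsec1, hg] at h
    rw [show e s' = e (V.1.ι v) from rfl, ← h] at hmem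
    obtain ⟨x', hx', rfl⟩ := hmem
    refine ⟨x', ?_, rfl⟩
    have hx2 : pullback.snd f (V.1.ι ≫ e ≫ f) x' = v := connectedComponentIn_subset (pullback.snd f (V.1.ι ≫ e ≫ f) ⁻¹' {v}) _ hx'
    show x' ∈ connectedComponentIn _ _
    rw [hx2]; exact hx'

end Groth.Agent.S15350
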