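import Groth.Statements.S15352
import Groth.Agent.H63.GrpFib
import Groth.Agent.H63.GrpConnected
import Groth.Agent.H63.GrpComponent
import Groth.Agent.H63.GrpIrred
-- import your own Groth.Agent.* helpers here

set_option autoImplicit false
universe u
open CategoryTheory CategoryTheory.Limits MonoidalCategory CartesianMonoidalCategory MonObj GrpObj AlgebraicGeometry
open GrpSch

namespace Groth.Agent.S15352
open Groth.Agent.H63.GrpIrred
open Groth.Agent.H63.GrpComponent
open Groth.Agent.H63.GrpConnected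
open Groth.Agent.H63.GrpFib

/-- Let k be an algebraically closed field, G a group scheme locally of finite type over k, G⁰ ⊆ G the
connected component of the unit point, and U a nonempty open subscheme of G contained in G⁰. Then
every point of G⁰ is in the image of the morphism U ×_k U ⟶ G, (g, h) ↦ g·h⁻¹. (The published
statement writes U as an open of G mapping to G⁰ × G⁰; this row makes the containment U ⊆ G⁰
explicit.) -/
theorem result (k : Type u) [Field k] [IsAlgClosed k]
    (G : Over (Spec (CommRingCat.of k))) [GrpObj G] [LocallyOfFiniteType G.hom] (U : G.left.Opens)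
    (hne : (U : Set ↥G.left).Nonempty)
    (hU : (U : Set ↥G.left) ⊆ connectedComponent (η[G].left.base (IsLocalRing.closedPoint k))) :
    connectedComponent (η[G].left.base (IsLocalRing.closedPoint k)) ⊆ Set.range
      ((((Over.homMk U.ι rfl : Over.mk (U.ι ≫ G.hom) ⟶ G) ⊗ₘ
          ((Over.homMk U.ι rfl : Over.mk (U.ι ≫ G.hom) ⟶ G) ≫ ι[G])) ≫ μ[G]).left.base) := by
  intro y hy
  have hy' : y ∈ comp0 G := by rw [← connectedComponent_unit]; exact hy
  have hne' : ((U : Set G.left) ∩ comp0 G).Nonempty := by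
    obtain ⟨u, hu⟩ := hne
    exact ⟨u, hu, by rw [← connectedComponent_unit]; exact hU hu⟩
  obtain ⟨w, hw1, hw2⟩ := exists_div_point G hy' U.isOpen hne'
  let a := fb G y * fa G y
  let O : (Fib G y).left.Opens := a.left ⁻¹ᵁ U ⊓ (fa G y).left ⁻¹ᵁ U
  let T : Over (Spec (CommRingCat.of k)) := Over.mk (O.ι ≫ (Fib G y).hom)
  let io : T ⟶ Fib G y := Over.homMk O.ι rfl
  let j : Over.mk (U.ι ≫ G.hom) ⟶ G := Over.homMk U.ι rfl
  have key : ∀ b : Fib G y ⟶ G, (∀ t : ↥(O : Scheme.{u}), b.left (O.ι t) ∈ U) →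
      ∃ b' : T ⟶ Over.mk (U.ι ≫ G.hom), b' ≫ j = io ≫ b := by
    intro b hb
    have hr : Set.range (O.ι ≫ b.left) ⊆ Set.range U.ι := by
      rw [U.range_ι]; rintro _ ⟨t, rfl⟩; exact hb t
    have hfac : IsOpenImmersion.lift U.ι (O.ι ≫ b.left) hr ≫ U.ι = O.ι ≫ b.left :=
      IsOpenImmersion.lift_fac _ _ _
    refine ⟨Over.homMk (IsOpenImmersion.lift U.ι (O.ι ≫ b.left) hr) ?_, ?_⟩
    · show IsOpenImmersion.lift U.ι (O.ι ≫ b.left) hr ≫ U.ι ≫ G.hom = O.ι ≫ (Fib G y).hom
      rw [← Category.assoc, hfac, Category.assoc, Over.w]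
    · ext : 1
      exact hfac
  obtain ⟨a', ha'⟩ := key a fun t => t.2.1
  obtain ⟨b', hb'⟩ := key (fa G y) fun t => t.2.2
  refine ⟨(lift a' b').left ⟨w, hw1, hw2⟩, ?_⟩
  have h : lift a' b' ≫ (j ⊗ₘ (j ≫ ι[G])) ≫ μ[G] = io ≫ fb G y := by
    rw [lift_map_assoc, ← Category.assoc b', hb', ha', ← Hom.mul_def, Category.assoc, ← MonObj.comp_mul,
      ← Hom.inv_def]
    simp only [a, mul_inv_cancel_right]
  show ((lift a' b').left ≫ ((j ⊗ₘ (j ≫ ι[G])) ≫ μ[G]).left) _ = y
  rw [← Over.comp_left, h, Over.comp_left, Scheme.Hom.comp_apply, fb_apply]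

end Groth.Agent.S15352
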