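import Groth.Statements.S15353
import Groth.Agent.H21.LiftProj

set_option autoImplicit false
universe u
open CAlg
open scoped TensorProduct

namespace Groth.Agent.S15353

/-- Let f : A' → A be a surjective ring homomorphism whose kernel is a nilpotent ideal. Then the induced
homomorphism of Picard groups Pic(A') → Pic(A), base change of invertible modules along f, is
bijective. -/
theorem result {A' A : Type u} [CommRing A'] [CommRing A]
    (f : A' →+* A) (hf : Function.Surjective f) (hker : IsNilpotent (RingHom.ker f)) :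
    Function.Bijective (CommRing.Pic.mapRingHom f) := by
  letI : Algebra A' A := f.toAlgebra
  show Function.Bijective (CommRing.Pic.mapAlgebra A' A)
  have hA : Function.Surjective (algebraMap A' A) := hf
  have hN : IsNilpotent (RingHom.ker (algebraMap A' A)) := hker
  refine ⟨(injective_iff_map_eq_one _).2 fun M hM => ?_, fun L => ?_⟩
  · rw [CommRing.Pic.mapAlgebra_apply, CommRing.Pic.mk_eq_one_iff] at hM
    obtain ⟨e⟩ := hM
    rw [← CommRing.Pic.mk_eq_self (M := M), CommRing.Pic.mk_eq_one_iff]
    exact Groth.Agent.H21.LiftProj.nonempty_equiv hA hN M e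
  · obtain ⟨n, P, _, _, ⟨eP⟩⟩ := Groth.Agent.H21.LiftProj.exists_lift hA hN L
    obtain ⟨m, Q, _, _, ⟨eQ⟩⟩ := Groth.Agent.H21.LiftProj.exists_lift hA hN (Module.Dual A L)
    let e : A ⊗[A'] (Q ⊗[A'] P) ≃ₗ[A] A :=
      (TensorProduct.AlgebraTensorModule.distribBaseChange A' A Q P) ≪≫ₗ
        (TensorProduct.congr eQ eP) ≪≫ₗ Module.Invertible.linearEquiv A L
    obtain ⟨e'⟩ := Groth.Agent.H21.LiftProj.nonempty_equiv hA hN (Q ⊗[A'] P) e
    haveI : Module.Invertible A' P := Module.Invertible.right e'
    refine ⟨CommRing.Pic.mk A' P, ?_⟩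
    rw [CommRing.Pic.mapAlgebra_apply, CommRing.Pic.mk_eq_iff]
    exact ⟨TensorProduct.AlgebraTensorModule.congr (LinearEquiv.refl A A)
      (CommRing.Pic.mk.linearEquiv A' P) ≪≫ₗ eP⟩

end Groth.Agent.S15353
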