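import Groth.Statements.S15354
import Mathlib.AlgebraicGeometry.Stalk
import Mathlib.RingTheory.Valuation.ValuationRing

set_option autoImplicit false
universe u
open CategoryTheory CategoryTheory.Limits AlgebraicGeometry
open Mor

namespace Groth.Agent.S15354

/-- Let f : Y ⟶ X be a morphism of schemes, A a valuation ring with fraction field K and residue field
k, and ξ, η : Spec A ⟶ Y two A-points of Y over the same A-point of X. If ξ and η restrict to the
same K-point and to the same k-point of Y, then ξ = η. (The published statement is an equivalence,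
for algebraic spaces locally of finite presentation over a Noetherian scheme, between local
separatedness of f and conditions (a), (b); this row is the necessity of (a) in the case of schemes,
where no hypothesis on f is needed.) -/
theorem result {X Y : Scheme.{u}} (f : Y ⟶ X)
    (A : Type u) [CommRing A] [IsDomain A] [ValuationRing A] (K : Type u) [Field K] [Algebra A K]
    [IsFractionRing A K] (ξ η : Spec (CommRingCat.of A) ⟶ Y) (hf : ξ ≫ f = η ≫ f)
    (hK : Spec.map (CommRingCat.ofHom (algebraMap A K)) ≫ ξ = Spec.map (CommRingCat.ofHom (algebraMap A K)) ≫ η)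
    (hk : Spec.map (CommRingCat.ofHom (IsLocalRing.residue A)) ≫ ξ =
      Spec.map (CommRingCat.ofHom (IsLocalRing.residue A)) ≫ η) :
    ξ = η := by
  set c := IsLocalRing.closedPoint A
  have hc : ξ c = η c := by
    have h1 : Spec.map (CommRingCat.ofHom (IsLocalRing.residue A)) (IsLocalRing.closedPoint (IsLocalRing.ResidueField A)) = c :=
      IsLocalRing.comap_closedPoint (IsLocalRing.residue A)
    have h2 : ∀ (x : Spec (CommRingCat.of (IsLocalRing.ResidueField A))),
        (Spec.map (CommRingCat.ofHom (IsLocalRing.residue A)) ≫ ξ) x =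
        (Spec.map (CommRingCat.ofHom (IsLocalRing.residue A)) ≫ η) x := fun x => by rw [hk]
    have h3 := h2 (IsLocalRing.closedPoint (IsLocalRing.ResidueField A))
    simp only [Scheme.Hom.comp_apply] at h3
    exact ((congrArg ξ h1).symm.trans h3).trans (congrArg η h1)
  obtain ⟨_, ⟨V, hV, rfl⟩, hcV, -⟩ :=
    Y.isBasis_affineOpens.exists_subset_of_mem_open (Set.mem_univ (ξ c)) isOpen_univ
  replace hV : IsAffineOpen V := hV
  have key : ∀ φ : Spec (CommRingCat.of A) ⟶ Y, φ c ∈ V → Set.range φ ⊆ Set.range hV.fromSpec := by
    rintro φ h _ ⟨a, rfl⟩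
    rw [hV.range_fromSpec]
    exact ((IsLocalRing.specializes_closedPoint a).map φ.continuous).mem_open V.isOpen h
  let a := IsOpenImmersion.lift hV.fromSpec ξ (key ξ hcV)
  let b := IsOpenImmersion.lift hV.fromSpec η (key η (hc ▸ hcV))
  have ha : a ≫ hV.fromSpec = ξ := IsOpenImmersion.lift_fac _ _ _
  have hb : b ≫ hV.fromSpec = η := IsOpenImmersion.lift_fac _ _ _
  obtain ⟨α, hα⟩ := Spec.map_surjective a
  obtain ⟨β, hβ⟩ := Spec.map_surjective b
  rw [← ha, ← hb, ← hα, ← hβ] at hK ⊢
  rw [← Category.assoc, ← Category.assoc, cancel_mono, ← Spec.map_comp, ← Spec.map_comp, Spec.map_inj] at hK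
  suffices α = β by rw [this]
  ext x
  exact IsFractionRing.injective A K (ConcreteCategory.congr_hom hK x)

end Groth.Agent.S15354
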