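import Groth.Statements.S15355
import Mathlib.AlgebraicGeometry.Morphisms.Separated

set_option autoImplicit false
universe u
open CategoryTheory CategoryTheory.Limits AlgebraicGeometry
open Mor

namespace Groth.Agent.S15355

/-- Let f : Y ⟶ X be a morphism of schemes, A an integral domain and ξ, η : Spec A ⟶ Y two A-points of Y
over the same A-point of X. If ξ and η induce the same κ(p)-point of Y at every point p of some
dense subset of Spec A, then ξ and η agree on a nonempty open subscheme of Spec A. (The published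
statement is an equivalence, for algebraic spaces locally of finite presentation over a Noetherian
scheme, between local separatedness of f and conditions (a), (b); this row is the necessity of (b)
in the case of schemes, where no hypothesis on f is needed.) -/
theorem result {X Y : Scheme.{u}} (f : Y ⟶ X)
    (A : Type u) [CommRing A] [IsDomain A] (ξ η : Spec (CommRingCat.of A) ⟶ Y) (hf : ξ ≫ f = η ≫ f)
    (D : Set ↥(Spec (CommRingCat.of A))) (hD : Dense D)
    (hpt : ∀ p ∈ D, (Spec (CommRingCat.of A)).fromSpecResidueField p ≫ ξ =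
      (Spec (CommRingCat.of A)).fromSpecResidueField p ≫ η) :
    ∃ U : (Spec (CommRingCat.of A)).Opens, (U : Set ↥(Spec (CommRingCat.of A))).Nonempty ∧ U.ι ≫ ξ = U.ι ≫ η := by
  obtain ⟨p, hp⟩ := hD.nonempty
  have hptp : ξ p = η p := by
    have h2 := congrArg (fun φ : Spec ((Spec (CommRingCat.of A)).residueField p) ⟶ Y => φ default) (hpt p hp)
    simpa only [Scheme.Hom.comp_apply, Scheme.fromSpecResidueField_apply] using h2
  obtain ⟨_, ⟨V, hV, rfl⟩, hcV, -⟩ :=
    Y.isBasis_affineOpens.exists_subset_of_mem_open (Set.mem_univ (ξ p)) isOpen_univ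
  replace hV : IsAffineOpen V := hV
  have : IsAffine (Scheme.Opens.toScheme V) := hV
  let U : (Spec (CommRingCat.of A)).Opens := ξ ⁻¹ᵁ V ⊓ η ⁻¹ᵁ V
  have hpU : p ∈ U := ⟨hcV, show η p ∈ V from hptp ▸ hcV⟩
  refine ⟨U, ⟨p, hpU⟩, ?_⟩
  have r1 : Set.range (U.ι ≫ ξ) ⊆ Set.range (Scheme.Opens.ι V) := by
    rintro _ ⟨a, rfl⟩
    rw [Scheme.Opens.range_ι]
    exact a.2.1
  have r2 : Set.range (U.ι ≫ η) ⊆ Set.range (Scheme.Opens.ι V) := by
    rintro _ ⟨a, rfl⟩
    rw [Scheme.Opens.range_ι]
    exact a.2.2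
  let a := IsOpenImmersion.lift (Scheme.Opens.ι V) (U.ι ≫ ξ) r1
  let b := IsOpenImmersion.lift (Scheme.Opens.ι V) (U.ι ≫ η) r2
  have ha : a ≫ (Scheme.Opens.ι V) = U.ι ≫ ξ := IsOpenImmersion.lift_fac _ _ _
  have hb : b ≫ (Scheme.Opens.ι V) = U.ι ≫ η := IsOpenImmersion.lift_fac _ _ _
  rw [← ha, ← hb]
  congr 1
  refine ext_of_fromSpecResidueField_eq a b (terminal.from _) (U.ι ⁻¹' D)
    (hD.preimage U.ι.isOpenEmbedding.isOpenMap) (fun z hz => ?_) (terminal.hom_ext _ _)
  rw [← cancel_mono (Scheme.Opens.ι V), Category.assoc, Category.assoc, ha, hb]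
  have := hpt (U.ι z) hz
  rw [← cancel_epi (Spec.map (U.ι.residueFieldMap z))] at this
  simpa only [Scheme.Hom.SpecMap_residueFieldMap_fromSpecResidueField_assoc] using this

end Groth.Agent.S15355
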