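import Groth.Statements.S15360
import Mathlib

set_option autoImplicit false
universe u
open GalCoh

namespace Groth.Agent.S15360

/-- Let 𝔊 be a profinite group and ϕ : 𝔊 → GL₂(ℤ_p) a continuous homomorphism. Then ϕ is surjective if
and only if (i) the composite of ϕ with reduction modulo p, 𝔊 → GL₂(𝔽_p), is surjective, and (ii)
for every integer n ≥ 1 there is g ∈ 𝔊 such that ϕ(g) has the form [[1 + pⁿa, pⁿ⁺¹b], [pⁿ⁺¹c, 1 +
pⁿ⁺¹d]] with a, b, c, d ∈ ℤ_p and a not divisible by p (equivalently: the image of ϕ⁻¹(1 +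
pⁿM₂(ℤ_p)) in M₂(𝔽_p) under g ↦ (ϕ(g) − 1)/pⁿ contains a matrix [[x, 0], [0, 0]] with x ≠ 0).
Continuity of ϕ is expressed through its matrix entries. -/
theorem result (p : ℕ) [Fact p.Prime]
    (𝔊 : Type u) [Group 𝔊] [TopologicalSpace 𝔊] [IsTopologicalGroup 𝔊] [CompactSpace 𝔊] [T2Space 𝔊]
    [TotallyDisconnectedSpace 𝔊]
    (ϕ : 𝔊 →* GL (Fin 2) ℤ_[p])
    (hϕ : Continuous fun g => ((ϕ g : GL (Fin 2) ℤ_[p]) : Matrix (Fin 2) (Fin 2) ℤ_[p])) :
    Function.Surjective ϕ ↔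
      (Function.Surjective ((Matrix.GeneralLinearGroup.map (n := Fin 2) (PadicInt.toZMod (p := p))).comp ϕ) ∧
        ∀ n : ℕ, 1 ≤ n → ∃ (g : 𝔊) (a b c d : ℤ_[p]), ¬ ((p : ℤ_[p]) ∣ a) ∧
          ((ϕ g : GL (Fin 2) ℤ_[p]) : Matrix (Fin 2) (Fin 2) ℤ_[p]) =
            !![1 + (p : ℤ_[p]) ^ n * a, (p : ℤ_[p]) ^ (n + 1) * b;
               (p : ℤ_[p]) ^ (n + 1) * c, 1 + (p : ℤ_[p]) ^ (n + 1) * d]) := by
  classical
  have hp : p.Prime := Fact.out
  constructor
  · intro h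
    refine ⟨?_, fun n hn => ?_⟩
    · intro gb
      have hlift : ∀ z : ZMod p, ∃ y : ℤ_[p], PadicInt.toZMod y = z := fun z => ⟨(z.val : ℤ_[p]), by simp⟩
      choose l hl using hlift
      let M : Matrix (Fin 2) (Fin 2) ℤ_[p] := fun i j => l ((gb : Matrix (Fin 2) (Fin 2) (ZMod p)) i j)
      have hM : M.map PadicInt.toZMod = (gb : Matrix (Fin 2) (Fin 2) (ZMod p)) := by ext i j; simp [M, hl]
      have hu : IsUnit M := by
        rw [Matrix.isUnit_iff_isUnit_det]
        refine isUnit_of_map_unit (PadicInt.toZMod (p := p)) _ ?_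
        rw [RingHom.map_det, RingHom.mapMatrix_apply, hM]
        exact (Matrix.isUnit_iff_isUnit_det _).mp gb.isUnit
      obtain ⟨g, hg⟩ := h hu.unit
      refine ⟨g, Units.ext ?_⟩
      show ((ϕ g : Matrix (Fin 2) (Fin 2) ℤ_[p])).map PadicInt.toZMod = _
      rw [hg]; exact hM
    · have hdet : IsUnit (1 + (p : ℤ_[p]) ^ n) := by
        refine isUnit_of_map_unit (PadicInt.toZMod (p := p)) _ ?_
        simp [zero_pow (by omega : n ≠ 0)]
      let M : Matrix (Fin 2) (Fin 2) ℤ_[p] := !![1 + (p : ℤ_[p]) ^ n, 0; 0, 1]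
      have hu : IsUnit M := by
        rw [Matrix.isUnit_iff_isUnit_det, Matrix.det_fin_two_of]; simpa using hdet
      obtain ⟨g, hg⟩ := h hu.unit
      refine ⟨g, 1, 0, 0, 0, fun hd => PadicInt.prime_p.not_unit (isUnit_of_dvd_one hd), ?_⟩
      rw [hg]
      show M = _
      simp [M]
  · rintro ⟨hred, hdir⟩
    let red : Matrix (Fin 2) (Fin 2) ℤ_[p] →+* Matrix (Fin 2) (Fin 2) (ZMod p) := (PadicInt.toZMod (p := p)).mapMatrix
    let InV : ℕ → Matrix (Fin 2) (Fin 2) (ZMod p) → Prop := fun n Y => ∃ g X,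
      ((ϕ g : GL (Fin 2) ℤ_[p]) : Matrix (Fin 2) (Fin 2) ℤ_[p]) = 1 + (p : ℤ_[p]) ^ n • X ∧ red X = Y
    have hp0 : ∀ n, 1 ≤ n → ∀ X : Matrix (Fin 2) (Fin 2) ℤ_[p], red ((p : ℤ_[p]) ^ n • X) = 0 := fun n hn X => by
      ext i j
      simp [red, zero_pow (by omega : n ≠ 0)]
    have hadd : ∀ n, 1 ≤ n → ∀ Y Y', InV n Y → InV n Y' → InV n (Y + Y') := by
      rintro n hn _ _ ⟨g, X, hg, rfl⟩ ⟨g', X', hg', rfl⟩
      refine ⟨g * g', X + X' + (p : ℤ_[p]) ^ n • (X * X'), ?_, ?_⟩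
      · rw [map_mul, Units.val_mul, hg, hg']
        simp only [add_mul, mul_add, one_mul, mul_one, smul_add, smul_mul_assoc, mul_smul_comm]
        abel
      · rw [map_add, map_add, hp0 n hn, add_zero]
    have hsmul : ∀ n, 1 ≤ n → ∀ Y, InV n Y → ∀ z : ZMod p, InV n (z • Y) := by
      intro n hn Y hY z
      rw [← ZMod.natCast_zmod_val z, Nat.cast_smul_eq_nsmul]
      induction z.val with
      | zero => exact ⟨1, 0, by simp, by simp⟩
      | succ k ih => rw [succ_nsmul]; exact hadd n hn _ _ ih hY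
    have hconj : ∀ n Y, InV n Y → ∀ c : GL (Fin 2) (ZMod p),
        InV n ((c : Matrix (Fin 2) (Fin 2) (ZMod p)) * Y * ((c⁻¹ : GL (Fin 2) (ZMod p)) : Matrix (Fin 2) (Fin 2) (ZMod p))) := by
      rintro n _ ⟨g, X, hg, rfl⟩ c
      obtain ⟨t, ht⟩ := hred c
      refine ⟨t * g * t⁻¹, (ϕ t : Matrix (Fin 2) (Fin 2) ℤ_[p]) * X * ((ϕ t)⁻¹ : GL (Fin 2) ℤ_[p]), ?_, ?_⟩
      · rw [map_mul, map_mul, map_inv, Units.val_mul, Units.val_mul, hg]
        simp only [mul_add, add_mul, mul_one, smul_mul_assoc, mul_smul_comm, Units.mul_inv]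
      · rw [← ht]; simp only [map_mul]; rfl
    have hall : ∀ n, 1 ≤ n → ∀ Y, InV n Y := by
      intro n hn Y
      obtain ⟨g, a, b, c, d, ha, hg⟩ := hdir n hn
      have h0 : InV n !![PadicInt.toZMod a, 0; 0, 0] := by
        refine ⟨g, !![a, p * b; p * c, p * d], ?_, ?_⟩
        · rw [hg]
          ext i j
          fin_cases i <;> fin_cases j <;> simp [pow_succ, mul_assoc]
        · ext i j; fin_cases i <;> fin_cases j <;> simp [red]
      have ha0 : PadicInt.toZMod a ≠ 0 := fun h0 => ha (by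
        rwa [← RingHom.mem_ker, PadicInt.ker_toZMod, PadicInt.maximalIdeal_eq_span_p,
          Ideal.mem_span_singleton] at h0)
      have h11 : InV n !![1, 0; 0, 0] := by
        have := hsmul n hn _ h0 (PadicInt.toZMod a)⁻¹
        simpa [Matrix.smul_of, ha0] using this
      have h22 : InV n !![0, 0; 0, 1] := by
        let w : GL (Fin 2) (ZMod p) := ⟨!![0, 1; 1, 0], !![0, 1; 1, 0],
          by simp [Matrix.one_fin_two], by simp [Matrix.one_fin_two]⟩
        have := hconj n _ h11 w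
        convert this using 1
        ext i j; fin_cases i <;> fin_cases j <;> simp [w]
      have h12 : InV n !![0, 1; 0, 0] := by
        let u : GL (Fin 2) (ZMod p) := ⟨!![1, -1; 0, 1], !![1, 1; 0, 1],
          by simp [Matrix.one_fin_two], by simp [Matrix.one_fin_two]⟩
        have := hadd n hn _ _ (hconj n _ h11 u) (hsmul n hn _ h11 (-1))
        simpa [u, Matrix.smul_of] using this
      have h21 : InV n !![0, 0; 1, 0] := by
        let u : GL (Fin 2) (ZMod p) := ⟨!![1, 0; 1, 1], !![1, 0; -1, 1],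
          by simp [Matrix.one_fin_two], by simp [Matrix.one_fin_two]⟩
        have := hadd n hn _ _ (hconj n _ h11 u) (hsmul n hn _ h11 (-1))
        simpa [u, Matrix.smul_of] using this
      have := hadd n hn _ _ (hadd n hn _ _ (hsmul n hn _ h11 (Y 0 0)) (hsmul n hn _ h12 (Y 0 1)))
        (hadd n hn _ _ (hsmul n hn _ h21 (Y 1 0)) (hsmul n hn _ h22 (Y 1 1)))
      convert this using 1
      ext i j; fin_cases i <;> fin_cases j <;> simp
    intro g
    have hdiv : ∀ X : Matrix (Fin 2) (Fin 2) ℤ_[p], red X = 0 → ∃ Z, X = (p : ℤ_[p]) • Z := fun X hX => by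
      have : ∀ i j, ∃ z, X i j = (p : ℤ_[p]) * z := fun i j => by
        have h0 : PadicInt.toZMod (X i j) = 0 := congrFun (congrFun hX i) j
        rwa [← RingHom.mem_ker, PadicInt.ker_toZMod, PadicInt.maximalIdeal_eq_span_p,
          Ideal.mem_span_singleton] at h0
      choose Z hZ using this
      exact ⟨Z, Matrix.ext hZ⟩
    have happ : ∀ n : ℕ, ∃ (s : 𝔊) (X : Matrix (Fin 2) (Fin 2) ℤ_[p]),
        (g : Matrix (Fin 2) (Fin 2) ℤ_[p]) = (ϕ s : Matrix (Fin 2) (Fin 2) ℤ_[p]) * (1 + (p : ℤ_[p]) ^ (n + 1) • X) := by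
      intro n
      induction n with
      | zero =>
        obtain ⟨s, hs⟩ := hred (Matrix.GeneralLinearGroup.map PadicInt.toZMod g)
        obtain ⟨X, hX⟩ := hdiv ((((ϕ s)⁻¹ * g : GL (Fin 2) ℤ_[p]) : Matrix (Fin 2) (Fin 2) ℤ_[p]) - 1) (by
          rw [map_sub, map_one, sub_eq_zero]
          show ((Matrix.GeneralLinearGroup.map (n := Fin 2) (PadicInt.toZMod (p := p)) ((ϕ s)⁻¹ * g) :
            GL (Fin 2) (ZMod p)) : Matrix (Fin 2) (Fin 2) (ZMod p)) = 1
          rw [map_mul, map_inv, ← hs, MonoidHom.comp_apply, inv_mul_cancel, Units.val_one])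
        refine ⟨s, X, ?_⟩
        rw [zero_add, pow_one, ← hX, add_sub_cancel, ← Units.val_mul, mul_inv_cancel_left]
      | succ n ih =>
        obtain ⟨s, X, hX⟩ := ih
        obtain ⟨t, X', ht, hY⟩ := hall (n + 1) (by omega) (red X)
        obtain ⟨Z, hZ⟩ := hdiv (X - X') (by rw [map_sub, hY, sub_self])
        refine ⟨s * t, ((ϕ t)⁻¹ : GL (Fin 2) ℤ_[p]) * Z, ?_⟩
        rw [map_mul, Units.val_mul, mul_assoc, mul_add, mul_one, mul_smul_comm, ← mul_assoc (ϕ t : Matrix (Fin 2) (Fin 2) ℤ_[p]),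
          Units.mul_inv, one_mul, hX, ht, pow_succ _ (n + 1), mul_smul, ← hZ, smul_sub]
        congr 1
        abel
    have hcl : IsClosed (Set.range fun g => ((ϕ g : GL (Fin 2) ℤ_[p]) : Matrix (Fin 2) (Fin 2) ℤ_[p])) :=
      (isCompact_range hϕ).isClosed
    choose s X hX using happ
    obtain ⟨x, hx⟩ := hcl.mem_of_tendsto (f := fun n => ((ϕ (s n) : GL (Fin 2) ℤ_[p]) : Matrix (Fin 2) (Fin 2) ℤ_[p]))
      (b := Filter.atTop) (x := (g : Matrix (Fin 2) (Fin 2) ℤ_[p])) (by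
        refine tendsto_pi_nhds.mpr fun i => tendsto_pi_nhds.mpr fun j => ?_
        rw [tendsto_iff_norm_sub_tendsto_zero]
        refine squeeze_zero (fun n => norm_nonneg _) (fun n => ?_)
          (tendsto_pow_atTop_nhds_zero_of_lt_one (r := (p : ℝ)⁻¹) (by positivity)
            (inv_lt_one_of_one_lt₀ (by exact_mod_cast hp.one_lt)))
        have e : (g : Matrix (Fin 2) (Fin 2) ℤ_[p]) i j - (ϕ (s n) : Matrix (Fin 2) (Fin 2) ℤ_[p]) i j =
            (p : ℤ_[p]) ^ (n + 1) * ((ϕ (s n) : Matrix (Fin 2) (Fin 2) ℤ_[p]) * X n) i j := by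
          rw [hX n, mul_add, mul_one, mul_smul_comm]
          simp
        rw [norm_sub_rev, e, norm_mul, norm_pow, PadicInt.norm_p]
        refine (mul_le_of_le_one_right (by positivity) (PadicInt.norm_le_one _)).trans ?_
        exact pow_le_pow_of_le_one (by positivity) (inv_le_one_of_one_le₀ (by exact_mod_cast hp.one_le)) n.le_succ)
      (Filter.Eventually.of_forall fun n => ⟨s n, rfl⟩)
    exact ⟨x, Units.ext hx⟩

end Groth.Agent.S15360
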