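-- S15361
import Groth.Statements.S15361
import Mathlib

set_option autoImplicit false
open GalCoh Matrix

namespace Groth.Agent.S15361

private abbrev M2 (p : ℕ) := Matrix (Fin 2) (Fin 2) (ZMod p)

private lemma fix_e1 {p : ℕ} (M : M2 p) (h : M *ᵥ ![1, 0] = ![1, 0]) :
    M = !![1, M 0 1; 0, M 1 1] := by
  have h0 := congrFun h 0
  have h1 := congrFun h 1
  simp [Matrix.mulVec, dotProduct, Fin.sum_univ_two] at h0 h1
  ext i j; fin_cases i <;> fin_cases j <;> simp [h0, h1]

private lemma fix_e2 {p : ℕ} (M : M2 p) (h : M *ᵥ ![0, 1] = ![0, 1]) :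
    M = !![M 0 0, 0; M 1 0, 1] := by
  have h0 := congrFun h 0
  have h1 := congrFun h 1
  simp [Matrix.mulVec, dotProduct, Fin.sum_univ_two] at h0 h1
  ext i j; fin_cases i <;> fin_cases j <;> simp [h0, h1]

private lemma pow_upper {p : ℕ} (b d : ZMod p) (n : ℕ) :
    (!![1, b; 0, d] : M2 p) ^ n = !![1, b * ∑ i ∈ Finset.range n, d ^ i; 0, d ^ n] := by
  induction n with
  | zero => simp [Matrix.one_fin_two]
  | succ n ih =>
    rw [pow_succ, ih, Matrix.mul_fin_two, Finset.sum_range_succ, pow_succ]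
    ext i j; fin_cases i <;> fin_cases j <;> simp <;> ring_nf
    have := geom_sum_mul d n
    linear_combination b * this

private lemma pow_lower {p : ℕ} (b : ZMod p) (a : ZMod p) (n : ℕ) :
    (!![a, 0; b, 1] : M2 p) ^ n = !![a ^ n, 0; b * ∑ i ∈ Finset.range n, a ^ i, 1] := by
  induction n with
  | zero => simp [Matrix.one_fin_two]
  | succ n ih =>
    rw [pow_succ, ih, Matrix.mul_fin_two, Finset.sum_range_succ, pow_succ]
    ext i j; fin_cases i <;> fin_cases j <;> simp <;> ring_nf
    have := geom_sum_mul a n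
    linear_combination b * this

private lemma sq_zero {p : ℕ} [Fact p.Prime] (N : M2 p) (hne : N ≠ 0) (k : ℕ) (h : N ^ k = 0) :
    N * N = 0 := by
  have hd : N.det = 0 := by
    have : N.det ^ k = 0 := by rw [← Matrix.det_pow, h, Matrix.det_zero]
    exact pow_eq_zero_iff'.mp this |>.1
  have hsq : N * N = N.trace • N := by
    rw [Matrix.det_fin_two] at hd
    ext i j
    fin_cases i <;> fin_cases j <;>
      simp [Matrix.mul_apply, Matrix.trace_fin_two] <;>
      first | ring1 | linear_combination hd | linear_combination -hd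
  have hpow : ∀ m : ℕ, N ^ (m + 1) = N.trace ^ m • N := by
    intro m
    induction m with
    | zero => simp
    | succ m ih => rw [pow_succ, ih, Matrix.smul_mul, hsq, smul_smul, pow_succ]
  obtain _ | m := k
  · simp at h
  rw [hpow] at h
  rcases smul_eq_zero.mp h with h | h
  · rw [hsq, pow_eq_zero_iff'.mp h |>.1, zero_smul]
  · exact absurd h hne

theorem result (p : ℕ) [Fact p.Prime]
    (H : Subgroup (GL (Fin 2) (ZMod p))) :
    H = ⊤ ↔
      (∃ (C : Subgroup (GL (Fin 2) (ZMod p))) (E : Subring (Matrix (Fin 2) (Fin 2) (ZMod p))),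
          C ≤ H ∧ IsField E ∧ Nat.card E = p ^ 2 ∧
            (E : Set (Matrix (Fin 2) (Fin 2) (ZMod p))) =
              insert 0 ((fun g : GL (Fin 2) (ZMod p) => (g : Matrix (Fin 2) (Fin 2) (ZMod p))) ''
                (C : Set (GL (Fin 2) (ZMod p))))) ∧
        p ∣ Nat.card H := by
  classical
  have hp : p.Prime := Fact.out
  constructor
  · rintro rfl
    refine ⟨?_, ?_⟩
    · let K := GaloisField p 2
      let bK : Module.Basis (Fin 2) (ZMod p) K :=
        Module.finBasisOfFinrankEq (ZMod p) K (GaloisField.finrank p two_ne_zero)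
      let φ : K →+* M2 p := (Algebra.leftMulMatrix bK).toRingHom
      have hφ : Function.Injective φ := Algebra.leftMulMatrix_injective bK
      let e : K ≃+* φ.range := RingEquiv.ofBijective φ.rangeRestrict
        ⟨fun x y h => hφ (congrArg Subtype.val h), φ.rangeRestrict_surjective⟩
      refine ⟨(Units.map φ.toMonoidHom).range, φ.range, le_top,
        e.symm.toMulEquiv.isField (Field.toIsField K), ?_, ?_⟩
      · rw [← Nat.card_congr e.toEquiv]; exact GaloisField.card p 2 two_ne_zero
      · ext M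
        simp only [SetLike.mem_coe, Set.mem_insert_iff, Set.mem_image, RingHom.mem_range,
          MonoidHom.mem_range]
        constructor
        · rintro ⟨x, rfl⟩
          rcases eq_or_ne x 0 with rfl | hx
          · exact .inl (map_zero φ)
          · exact .inr ⟨_, ⟨Units.mk0 x hx, rfl⟩, rfl⟩
        · rintro (rfl | ⟨_, ⟨x, rfl⟩, rfl⟩)
          · exact ⟨0, map_zero φ⟩
          · exact ⟨x, rfl⟩
    · let g : GL (Fin 2) (ZMod p) :=
        Matrix.GeneralLinearGroup.mkOfDetNeZero !![1, 1; 0, 1] (by simp [Matrix.det_fin_two])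
      have hg : orderOf g = p := by
        refine orderOf_eq_prime (Units.ext ?_) fun h => ?_
        · rw [Units.val_pow_eq_pow_val]
          show (!![1, 1; 0, 1] : M2 p) ^ p = _
          rw [pow_upper]
          simp [Matrix.one_fin_two]
        · have := congrArg (fun M : GL (Fin 2) (ZMod p) => M.val 0 1) h
          simp [g] at this
      rw [Subgroup.card_top]
      have := orderOf_dvd_natCard g
      rwa [hg] at this
  · rintro ⟨⟨C, E, hCH, hE, hcard, hset⟩, hdvd⟩
    have hmem : ∀ {M : M2 p}, M ∈ E → M ≠ 0 → ∃ c ∈ C, (c : M2 p) = M := fun {M} hM hne => by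
      have : M ∈ (E : Set (M2 p)) := hM
      rw [hset] at this
      rcases this with h | ⟨c, hc, rfl⟩
      exacts [absurd h hne, ⟨c, hc, rfl⟩]
    -- C is transitive on nonzero vectors
    have htrans : ∀ v w : Fin 2 → ZMod p, v ≠ 0 → w ≠ 0 → ∃ c ∈ C, (c : M2 p) *ᵥ v = w := by
      intro v w hv hw
      let ev : E → (Fin 2 → ZMod p) := fun m => (m : M2 p) *ᵥ v
      have hinj : Function.Injective ev := by
        intro m m' h
        by_contra hne
        obtain ⟨c, _, hc⟩ := hmem (sub_mem m.2 m'.2) (sub_ne_zero.mpr fun h' => hne (Subtype.ext h'))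
        apply hv
        have h0 : (c : M2 p) *ᵥ v = 0 := by rw [hc, Matrix.sub_mulVec, sub_eq_zero]; exact h
        calc v = ((c⁻¹ : GL (Fin 2) (ZMod p)) : M2 p) *ᵥ ((c : M2 p) *ᵥ v) := by
              rw [Matrix.mulVec_mulVec, Units.inv_mul, Matrix.one_mulVec]
          _ = 0 := by rw [h0, Matrix.mulVec_zero]
      obtain ⟨m, hm⟩ := (hinj.bijective_of_nat_card_le (by rw [hcard, Nat.card_fun]; simp)).surjective w
      obtain ⟨c, hc, hce⟩ := hmem m.2 fun h => hw (by rw [← hm]; simp [ev, h])
      exact ⟨c, hc, by rw [hce]; exact hm⟩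
    -- an element of order p in H fixing any given nonzero vector
    have hfix : ∀ w : Fin 2 → ZMod p, w ≠ 0 →
        ∃ g ∈ H, (g : M2 p) *ᵥ w = w ∧ g ≠ 1 ∧ g ^ p = 1 := by
      obtain ⟨g, hg⟩ := exists_prime_orderOf_dvd_card' p hdvd
      have hgp : (g : GL (Fin 2) (ZMod p)) ^ p = 1 := by
        have := pow_orderOf_eq_one g
        rw [hg] at this
        simpa using congrArg Subtype.val this
      have hg1 : (g : GL (Fin 2) (ZMod p)) ≠ 1 := fun h => hp.one_lt.ne' (by
        rw [← orderOf_eq_one_iff.mpr (Subtype.ext h : g = 1)]; exact hg.symm)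
      obtain ⟨N, hN⟩ : ∃ N : M2 p, ((g : GL (Fin 2) (ZMod p)) : M2 p) = 1 + N := ⟨_, (add_sub_cancel 1 _).symm⟩
      have hN0 : N ≠ 0 := fun h => hg1 (Units.ext (by simp [hN, h]))
      have hNp : N ^ p = 0 := by
        have h := congrArg Units.val hgp
        rw [Units.val_pow_eq_pow_val, hN, add_pow_char_of_commute (p := p) (Commute.one_left N), one_pow,
          Units.val_one] at h
        simpa using h
      obtain ⟨u, hu⟩ : ∃ u, N *ᵥ u ≠ 0 := by
        by_contra hc
        push_neg at hc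
        exact hN0 (Matrix.ext fun i j => by simpa using congrFun (hc (Pi.single j 1)) i)
      intro w hw
      obtain ⟨c, hc, hcv⟩ := htrans _ w hu hw
      refine ⟨c * g * c⁻¹, mul_mem (mul_mem (hCH hc) g.2) (inv_mem (hCH hc)), ?_, ?_, ?_⟩
      · rw [← hcv]
        rw [Matrix.mulVec_mulVec, ← Units.val_mul, inv_mul_cancel_right, Units.val_mul,
          ← Matrix.mulVec_mulVec, hN, Matrix.add_mulVec, Matrix.one_mulVec]
        rw [Matrix.mulVec_mulVec, sq_zero N hN0 p hNp, Matrix.zero_mulVec, add_zero]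
      · exact fun h => hg1 (conj_eq_one_iff.mp h)
      · rw [conj_pow, hgp, mul_one, mul_inv_cancel]
    let InH : M2 p → Prop := fun M => ∃ h ∈ H, (h : M2 p) = M
    have hmul : ∀ {A B}, InH A → InH B → InH (A * B) := by
      rintro A B ⟨a, ha, rfl⟩ ⟨b, hb, rfl⟩
      exact ⟨a * b, mul_mem ha hb, rfl⟩
    have hpow : ∀ {A} (n : ℕ), InH A → InH (A ^ n) := by
      rintro A n ⟨a, ha, rfl⟩
      exact ⟨a ^ n, pow_mem ha n, by simp⟩
    have hmultiple : ∀ b₀ b : ZMod p, b₀ ≠ 0 → ∃ n : ℕ, b₀ * n = b := fun b₀ b h =>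
      ⟨(b / b₀).val, by rw [ZMod.natCast_zmod_val, mul_div_cancel₀ _ h]⟩
    have hup : ∀ b, InH !![1, b; 0, 1] := by
      obtain ⟨g, hgH, hgw, hg1, hgp⟩ := hfix ![1, 0] (by simp)
      have hM := fix_e1 _ hgw
      have h := congrArg Units.val hgp
      rw [Units.val_pow_eq_pow_val, hM, pow_upper, Units.val_one] at h
      have hd : (g : M2 p) 1 1 = 1 := by
        simpa [ZMod.pow_card] using congrFun (congrFun h 1) 1
      rw [hd] at hM
      intro b
      obtain ⟨n, hn⟩ := hmultiple ((g : M2 p) 0 1) b fun h0 => hg1 (Units.ext (by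
        rw [hM, h0, Units.val_one, Matrix.one_fin_two]))
      have := hpow n ⟨g, hgH, hM⟩
      rw [pow_upper] at this
      simpa [hn] using this
    have hlow : ∀ b, InH !![1, 0; b, 1] := by
      obtain ⟨g, hgH, hgw, hg1, hgp⟩ := hfix ![0, 1] (by simp)
      have hM := fix_e2 _ hgw
      have h := congrArg Units.val hgp
      rw [Units.val_pow_eq_pow_val, hM, pow_lower, Units.val_one] at h
      have hd : (g : M2 p) 0 0 = 1 := by
        simpa [ZMod.pow_card] using congrFun (congrFun h 0) 0
      rw [hd] at hM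
      intro b
      obtain ⟨n, hn⟩ := hmultiple ((g : M2 p) 1 0) b fun h0 => hg1 (Units.ext (by
        rw [hM, h0, Units.val_one, Matrix.one_fin_two]))
      have := hpow n ⟨g, hgH, hM⟩
      rw [pow_lower] at this
      simpa [hn] using this
    -- SL₂ ∩ H is transitive on nonzero vectors
    have hSL : ∀ x y : ZMod p, (x ≠ 0 ∨ y ≠ 0) →
        ∃ s, InH s ∧ s.det = 1 ∧ s *ᵥ ![x, y] = ![1, 0] := by
      intro x y hxy
      by_cases hy : y = 0
      · have hx : x ≠ 0 := hxy.resolve_right (fun h => h hy)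
        refine ⟨!![1, 0; -1, 1] * !![1, 1 - x; 0, 1] * !![1, 0; x⁻¹, 1],
          hmul (hmul (hlow _) (hup _)) (hlow _), by simp only [Matrix.det_mul, Matrix.det_fin_two_of]; ring, ?_⟩
        subst hy
        simp only [← Matrix.mulVec_mulVec]
        ext i
        fin_cases i <;> simp [Matrix.mulVec, dotProduct, Fin.sum_univ_two, hx]
      · refine ⟨!![1, 0; -y, 1] * !![1, (1 - x) / y; 0, 1], hmul (hlow _) (hup _),
          by simp only [Matrix.det_mul, Matrix.det_fin_two_of]; ring, ?_⟩
        simp only [← Matrix.mulVec_mulVec]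
        ext i
        fin_cases i <;> simp [Matrix.mulVec, dotProduct, Fin.sum_univ_two, hy]
    have hto : ∀ h : GL (Fin 2) (ZMod p), ∃ s ∈ H, ∃ b,
        ((s * h : GL (Fin 2) (ZMod p)) : M2 p) = !![1, b; 0, (h : M2 p).det] := by
      intro h
      have hd0 : (h : M2 p).det ≠ 0 := ((Matrix.isUnit_iff_isUnit_det _).mp h.isUnit).ne_zero
      obtain ⟨s, ⟨s, hsH, rfl⟩, hs, hsv⟩ := hSL ((h : M2 p) 0 0) ((h : M2 p) 1 0) (by
        by_contra hc; push_neg at hc; apply hd0; simp [Matrix.det_fin_two, hc.1, hc.2])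
      have hN : ((s * h : GL (Fin 2) (ZMod p)) : M2 p) *ᵥ ![1, 0] = ![1, 0] := by
        rw [Units.val_mul, ← Matrix.mulVec_mulVec,
          show (h : M2 p) *ᵥ ![1, 0] = ![(h : M2 p) 0 0, (h : M2 p) 1 0] by
            ext i; fin_cases i <;> simp [Matrix.mulVec, dotProduct, Fin.sum_univ_two], hsv]
      refine ⟨s, hsH, ((s * h : GL (Fin 2) (ZMod p)) : M2 p) 0 1, ?_⟩
      have hdet : ((s * h : GL (Fin 2) (ZMod p)) : M2 p).det = (h : M2 p).det := by
        rw [Units.val_mul, Matrix.det_mul, hs, one_mul]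
      rw [fix_e1 _ hN, Matrix.det_fin_two_of] at hdet
      rw [← hdet, one_mul, mul_zero, sub_zero]
      exact fix_e1 _ hN
    -- the determinant is surjective on C
    have hdet : ∀ d : ZMod p, d ≠ 0 → ∃ c ∈ C, (c : M2 p).det = d := by
      intro d hd
      rcases hp.eq_two_or_odd' with rfl | hodd
      · refine ⟨1, one_mem C, ?_⟩
        rw [Units.val_one, Matrix.det_one]
        match d, hd with
        | 0, hd => exact absurd rfl hd
        | 1, _ => rfl
      have hscal : ∀ a : ZMod p, a • (1 : M2 p) ∈ E := fun a => by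
        rw [← ZMod.natCast_zmod_val a, Nat.cast_smul_eq_nsmul]
        exact nsmul_mem (one_mem E) _
      obtain ⟨J, hJE, hJ⟩ : ∃ J ∈ E, ∀ a : ZMod p, J ≠ a • 1 := by
        by_contra hc
        push_neg at hc
        have : Nat.card E ≤ Nat.card (ZMod p) :=
          Nat.card_le_card_of_surjective (fun a => (⟨a • 1, hscal a⟩ : E)) fun ⟨J, hJ⟩ => by
            obtain ⟨a, rfl⟩ := hc J hJ; exact ⟨a, rfl⟩
        rw [hcard, Nat.card_zmod] at this
        nlinarith [hp.two_le]
      have h2 : (2 : ZMod p) ≠ 0 := fun h => by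
        have h' : ((2 : ℕ) : ZMod p) = 0 := by exact_mod_cast h
        rw [ZMod.natCast_eq_zero_iff, Nat.prime_dvd_prime_iff_eq hp Nat.prime_two] at h'
        subst h'
        exact absurd hodd (by decide)
      let J' : M2 p := J - (J.trace / 2) • 1
      have hJ'E : J' ∈ E := sub_mem hJE (hscal _)
      have hJ'0 : J' ≠ 0 := sub_ne_zero.mpr (hJ _)
      have htr : J'.trace = 0 := by
        simp [J', Matrix.trace_sub, Matrix.trace_smul, Fintype.card_fin, div_mul_cancel₀ _ h2]
      obtain ⟨j, _, hj⟩ := hmem hJ'E hJ'0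
      have hn : J'.det ≠ 0 := by
        rw [← hj]; exact ((Matrix.isUnit_iff_isUnit_det _).mp j.isUnit).ne_zero
      have hform : ∀ a b : ZMod p, (a • 1 + b • J').det = a ^ 2 + J'.det * b ^ 2 := by
        intro a b
        rw [Matrix.trace_fin_two] at htr
        simp [Matrix.det_fin_two]
        linear_combination (a * b) * htr
      have hsmul : ∀ (b : ZMod p), b • J' ∈ E := fun b => by
        rw [← one_mul J', ← Matrix.smul_mul]; exact mul_mem (hscal b) hJ'E
      obtain ⟨a, b, hab⟩ := FiniteField.exists_root_sum_quadratic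
        (f := Polynomial.X ^ 2 - Polynomial.C d) (g := Polynomial.C J'.det * Polynomial.X ^ 2)
        (Polynomial.degree_X_pow_sub_C two_pos d) (Polynomial.degree_C_mul_X_pow 2 hn)
        (by rw [ZMod.card]; exact Nat.odd_iff.mp hodd)
      have hab' : (a • 1 + b • J').det = d := by
        rw [hform]; simp at hab; linear_combination hab
      obtain ⟨c, hc, hce⟩ := hmem (add_mem (hscal a) (hsmul b)) fun h => hd (by
        rw [← hab', h]; simp)
      exact ⟨c, hc, by rw [hce, hab']⟩
    refine (Subgroup.eq_top_iff' H).mpr fun h => ?_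
    obtain ⟨s, hsH, b, hb⟩ := hto h
    have hd0 : (h : M2 p).det ≠ 0 := ((Matrix.isUnit_iff_isUnit_det _).mp h.isUnit).ne_zero
    obtain ⟨c, hc, hcd⟩ := hdet _ hd0
    obtain ⟨t, htH, b', hb'⟩ := hto c
    rw [hcd] at hb'
    obtain ⟨u, huH, hu⟩ := hup ((b - b') / (h : M2 p).det)
    have : s * h = u * (t * c) := Units.ext (by
      rw [hb, Units.val_mul, hu, hb', Matrix.mul_fin_two]
      simp [div_mul_cancel₀ _ hd0])
    exact (Subgroup.mul_mem_cancel_left H hsH).mp (this ▸ mul_mem huH (mul_mem htH (hCH hc)))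

end Groth.Agent.S15361
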