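import Groth.Statements.S15362
import Groth.Agent.Lib.EtSite.LangSemilinear

set_option autoImplicit false
set_option backward.isDefEq.respectTransparency false
universe u v w
open CAlg

namespace Groth.Agent.S15362

theorem sub_id_surjective' (p : ℕ) [Fact p.Prime] {L : Type u} [Field L] [IsAlgClosed L] [CharP L p]
    {V : Type w} [AddCommGroup V] [Module L V] [FiniteDimensional L V] (F : V →+ V)
    (hF : ∀ (c : L) (v : V), F (c • v) = c ^ p • F v) :
    Function.Surjective fun v => F v - v := by
  let e := (Module.finBasis L V).equivFun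
  let G : (Fin (Module.finrank L V) → L) →+ (Fin (Module.finrank L V) → L) :=
    (e.toLinearMap.toAddMonoidHom.comp F).comp e.symm.toLinearMap.toAddMonoidHom
  have hG : ∀ v, G v = e (F (e.symm v)) := fun v => rfl
  intro y
  obtain ⟨x, hx⟩ := Groth.Agent.Lib.EtSite.LangSemilinear.sub_id_surjective p G
    (fun c v => by rw [hG, hG, map_smul, hF, map_smul]) (e y)
  refine ⟨e.symm x, e.injective ?_⟩
  simp only [map_sub, LinearEquiv.apply_symm_apply]
  exact hx

/-- For an algebraically closed field L of characteristic p > 0, a commutative L-algebra R integral over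
L, and a finitely presented R-module M carrying an additive endomorphism φ with φ(r·m) = r^p·φ(m)
for r ∈ R, m ∈ M, the map m ↦ φ(m) − m is onto. (R is taken of exponential characteristic p so that
its Frobenius is a ring endomorphism; for a non-zero L-algebra this is automatic.) -/
theorem result (p : ℕ) [Fact p.Prime]
    (L : Type u) [Field L] [IsAlgClosed L] [CharP L p]
    (R : Type v) [CommRing R] [Algebra L R] [Algebra.IsIntegral L R] [ExpChar R p]
    (M : Type w) [AddCommGroup M] [Module R M] [Module.FinitePresentation R M]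
    (φ : M →ₛₗ[frobenius R p] M) :
    Function.Surjective fun m : M => φ m - m := by
  classical
  intro m
  obtain ⟨n, g, hg⟩ := Module.Finite.exists_fin (R := R) (M := M)
  have hrep : ∀ x : M, ∃ c : Fin n → R, ∑ i, c i • g i = x := fun x =>
    (Submodule.mem_span_range_iff_exists_fun R).1 (by rw [hg]; trivial)
  choose a ha using hrep
  let R₀ : Subalgebra L R := Algebra.adjoin L (Set.range (a m) ∪ ⋃ i, Set.range (a (φ (g i))))
  have hfin : Module.Finite L R₀ := Module.Finite.iff_fg.mpr
    (fg_adjoin_of_finite ((Set.finite_range _).union (Set.finite_iUnion fun _ => Set.finite_range _))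
      fun r _ => Algebra.IsIntegral.isIntegral r)
  letI : Module L M := Module.compHom M (algebraMap L R)
  have hsmul : ∀ (c : L) (x : M), c • x = algebraMap L R c • x := fun _ _ => rfl
  let f : (Fin n → R₀) →ₗ[L] M :=
    { toFun := fun c => ∑ i, (c i : R) • g i
      map_add' := fun c d => by simp [add_smul, Finset.sum_add_distrib]
      map_smul' := fun t c => by
        simp only [Pi.smul_apply, RingHom.id_apply, hsmul, Finset.smul_sum, smul_smul]
        exact Finset.sum_congr rfl fun i _ => by rw [Algebra.smul_def]; rfl }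
  let V := LinearMap.range f
  have hV : ∀ x ∈ V, φ x ∈ V := by
    rintro _ ⟨c, rfl⟩
    show φ (∑ i, (c i : R) • g i) ∈ V
    rw [map_sum]
    refine sum_mem fun i _ => ?_
    rw [map_smulₛₗ, frobenius_def, ← ha (φ (g i))]
    refine ⟨fun j => (c i) ^ p * ⟨a (φ (g i)) j, Algebra.subset_adjoin
      (Or.inr (Set.mem_iUnion.mpr ⟨i, j, rfl⟩))⟩, ?_⟩
    show ∑ j, (((c i) ^ p * _ : R₀) : R) • g j = _
    rw [Finset.smul_sum]
    simp [smul_smul]
  have hm : m ∈ V := ⟨fun j => ⟨a m j, Algebra.subset_adjoin (Or.inl ⟨j, rfl⟩)⟩, ha m⟩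
  let F : V →+ V :=
    { toFun := fun x => ⟨φ x.1, hV _ x.2⟩
      map_zero' := Subtype.ext (map_zero φ)
      map_add' := fun x y => Subtype.ext (map_add φ x.1 y.1) }
  obtain ⟨x, hx⟩ := sub_id_surjective' p F (fun c x => Subtype.ext (by
    refine Eq.trans (b := φ (algebraMap L R c • x.1)) rfl ?_
    refine Eq.trans ?_ (b := algebraMap L R (c ^ p) • φ x.1) rfl
    rw [map_smulₛₗ, frobenius_def, map_pow])) ⟨m, hm⟩
  exact ⟨x.1, congrArg Subtype.val hx⟩

end Groth.Agent.S15362
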