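import Groth.Statements.S15363
import Groth.Agent.Lib.SekSuwaOrd.AKBasis

set_option autoImplicit false
universe u
open CategoryTheory AlgebraicGeometry
open SekSuwa

namespace Groth.Agent.S15363

theorem eq_zero_of_smul_flat {R : Type u} [CommRing R] [IsDomain R] {G : Scheme.{u}} (f : G ⟶ Spec (CommRingCat.of R))
    [Flat f] (lam : R) (hlam : lam ≠ 0) (z : Γ(G, ⊤))
    (hz : f.appTop.hom ((Scheme.ΓSpecIso (CommRingCat.of R)).inv.hom lam) * z = 0) : z = 0 := by
  refine TopCat.Sheaf.eq_of_locally_eq' G.sheaf (fun i : G.affineOpens => i.1) ⊤ (fun i => homOfLE le_top)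
    (by rw [iSup_affineOpens_eq_top]) z 0 fun i => ?_
  let φ := ((Scheme.ΓSpecIso (CommRingCat.of R)).inv ≫ f.appLE ⊤ i.1 le_top).hom
  have hφ : φ.Flat := by
    have h1 := HasRingHomProperty.appLE @Flat f inferInstance ⟨⊤, isAffineOpen_top _⟩ i le_top
    exact RingHom.Flat.comp (RingHom.Flat.of_bijective (ConcreteCategory.bijective_of_isIso (Scheme.ΓSpecIso (CommRingCat.of R)).inv)) h1
  let : Algebra R Γ(G, i.1) := φ.toAlgebra
  have : Module.Flat R Γ(G, i.1) := hφ
  have h2 := congrArg (G.presheaf.map (homOfLE (le_top : i.1 ≤ ⊤)).op).hom hz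
  rw [map_mul, map_zero] at h2
  show (G.presheaf.map _).hom z = (G.presheaf.map _).hom 0
  rw [map_zero]
  have h3 : lam • (G.presheaf.map (homOfLE (le_top : i.1 ≤ ⊤)).op).hom z = lam • 0 := by
    rw [smul_zero, Algebra.smul_def]
    exact h2
  exact ((isRegular_iff_ne_zero.mpr hlam).left.isSMulRegular.of_flat (S := Γ(G, i.1))) h3


/-- Let R be an integral domain, p a prime and λ ∈ R a non-zero element with λ^p dividing (1 + λX)^p −
1, so that the congruence group scheme G_λ = Spec R[T]/(P_λ(T)) of level λ and its homomorphism θ_λ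
: G_λ → μ_p, X ↦ 1 + λT, are defined. For every scheme G flat over Spec R, composition with θ_λ is
injective on R-morphisms G → G_λ; in particular θ_λ induces an injective map from the homomorphisms
G → G_λ of a flat R-group scheme G to its homomorphisms G → μ_p. (The published statement is over
the ring of integers of an algebraic closure of a complete discretely valued field of mixed
characteristic, for finite flat commutative group schemes killed by p; the published argument, that
θ_λ is an isomorphism on the generic fibre and G is flat, gives the form stated here.) -/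
theorem result (R : Type u) [CommRing R] [IsDomain R]
    (p : ℕ) [Fact p.Prime] (lam : R) (h : SekSuwa.DivCond lam p)
    (G : Over (Spec (CommRingCat.of R))) [Flat G.hom]
    (f g : G ⟶ SekSuwa.GK R lam p h)
    (hfg : f ≫ SekSuwa.alphaN R lam p h = g ≫ SekSuwa.alphaN R lam p h) : f = g := by
  have hlam : lam ≠ 0 := nonZeroDivisors.ne_zero h.nzd
  have key : ∀ k : G ⟶ SekSuwa.GK R lam p h, ∀ x : R,
      k.left.appTop.hom ((Scheme.ΓSpecIso (CommRingCat.of (SekSuwa.AK R lam p h))).inv.hom (algebraMap R _ x)) =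
        G.hom.appTop.hom ((Scheme.ΓSpecIso (CommRingCat.of R)).inv.hom x) := fun k x => by
    have h1 := ConcreteCategory.congr_hom
      (Scheme.ΓSpecIso_inv_naturality (CommRingCat.ofHom (algebraMap R (SekSuwa.AK R lam p h)))) x
    have h2 := ConcreteCategory.congr_hom (congrArg Scheme.Hom.appTop (Over.w k))
      ((Scheme.ΓSpecIso (CommRingCat.of R)).inv.hom x)
    refine Eq.trans ?_ h2
    exact congrArg k.left.appTop.hom h1
  let ev (k : G ⟶ SekSuwa.GK R lam p h) : SekSuwa.AK R lam p h →+* Γ(G.left, ⊤) :=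
    k.left.appTop.hom.comp (Scheme.ΓSpecIso (CommRingCat.of (SekSuwa.AK R lam p h))).inv.hom
  let : Algebra R Γ(G.left, ⊤) :=
    (G.hom.appTop.hom.comp (Scheme.ΓSpecIso (CommRingCat.of R)).inv.hom).toAlgebra
  let evA (k : G ⟶ SekSuwa.GK R lam p h) : SekSuwa.AK R lam p h →ₐ[R] Γ(G.left, ⊤) :=
    { ev k with commutes' := key k }
  have hu : ev f (1 + lam • SekSuwa.AK.t) = ev g (1 + lam • SekSuwa.AK.t) := by
    have e := congrArg (fun k => k.left.appTop.hom ((Scheme.ΓSpecIso
      (CommRingCat.of (MonoidAlgebra R (Multiplicative (ZMod p))))).inv.hom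
        (MonoidAlgebra.single (Multiplicative.ofAdd (1 : ZMod p)) 1))) hfg
    have h1 := ConcreteCategory.congr_hom (Scheme.ΓSpecIso_inv_naturality (CommRingCat.ofHom
      (SekSuwa.alphaNHom R lam p h : MonoidAlgebra R (Multiplicative (ZMod p)) →+* SekSuwa.AK R lam p h)))
        (MonoidAlgebra.single (Multiplicative.ofAdd (1 : ZMod p)) 1)
    have h2 : (Scheme.ΓSpecIso (CommRingCat.of (SekSuwa.AK R lam p h))).inv.hom
        (SekSuwa.alphaNHom R lam p h (MonoidAlgebra.single (Multiplicative.ofAdd (1 : ZMod p)) 1)) =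
      (Spec.map (CommRingCat.ofHom (SekSuwa.alphaNHom R lam p h :
        MonoidAlgebra R (Multiplicative (ZMod p)) →+* SekSuwa.AK R lam p h))).appTop.hom
        ((Scheme.ΓSpecIso (CommRingCat.of (MonoidAlgebra R (Multiplicative (ZMod p))))).inv.hom
          (MonoidAlgebra.single (Multiplicative.ofAdd (1 : ZMod p)) 1)) := h1
    rw [SekSuwa.alphaNHom_single_one] at h2
    exact ((congrArg f.left.appTop.hom h2).trans e).trans (congrArg g.left.appTop.hom h2).symm
  have ht : evA f SekSuwa.AK.t = evA g SekSuwa.AK.t := by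
    rw [← sub_eq_zero]
    refine eq_zero_of_smul_flat G.hom lam hlam _ ?_
    have hu' : evA f (1 + lam • SekSuwa.AK.t) = evA g (1 + lam • SekSuwa.AK.t) := hu
    rw [map_add, map_add, map_one, map_one, map_smul, map_smul, add_right_inj, ← sub_eq_zero, ← smul_sub,
      Algebra.smul_def] at hu'
    exact hu'
  have hA : evA f = evA g := SekSuwa.AK.algHom_ext ht (by
    rw [Lib.SekSuwaOrd.inv_eq h (Fact.out : p.Prime).pos, map_pow, map_pow, map_add, map_add, map_one, map_one,
      map_smul, map_smul, ht])
  have : IsAffine (SekSuwa.GK R lam p h).left := inferInstanceAs (IsAffine (Spec _))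
  refine Over.OverMorphism.ext (ext_of_isAffine (CommRingCat.hom_ext (RingHom.ext fun z => ?_)))
  obtain ⟨y, rfl⟩ := (ConcreteCategory.bijective_of_isIso
    (Scheme.ΓSpecIso (CommRingCat.of (SekSuwa.AK R lam p h))).inv).2 z
  exact DFunLike.congr_fun hA y

end Groth.Agent.S15363
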