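import Groth.Statements.S15364
import Groth.Agent.H2.Rigid.Smooth
import Mathlib.AlgebraicGeometry.Morphisms.QuasiFinite

set_option autoImplicit false
universe u
open CategoryTheory CategoryTheory.Limits MonoidalCategory CartesianMonoidalCategory AlgebraicGeometry
open AbSch

namespace Groth.Agent.S15364

/-- For an abelian scheme f : A → T (a commutative T-group scheme, proper and smooth over T with
geometrically connected fibres) and a commutative group scheme H finite and locally free over T, the
adjunction map H → f_* f^* H of fppf sheaves on T is an isomorphism, i.e. for every T-scheme U the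
map H(U) → H(A ×_T U), s ↦ s ∘ pr, is bijective. This row states the case U = T, to which the
general case reduces by base change: composition with the structure morphism A → T is a bijection
from the sections of H over T onto the T-morphisms A → H. The group structure of H plays no role and
is not assumed. (The published statement has an arbitrary base T; the published argument rests on
the rigidity lemma in its form for Noetherian schemes, so T is taken locally Noetherian here.) -/
theorem result {T : Scheme.{u}} [IsLocallyNoetherian T]
    (A : Over T) [GrpObj A] [IsCommMonObj A] [IsProper A.hom] [Smooth A.hom] [GeometricallyConnected A.hom]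
    (H : Over T) [IsFinite H.hom] [Flat H.hom] [LocallyOfFinitePresentation H.hom] :
    Function.Bijective fun s : (𝟙_ (Over T) ⟶ H) => toUnit A ≫ s := by
  haveI := Groth.Agent.H2.Rigid.geometricallyReduced_of_smooth A.hom
  have hH0 := Groth.Agent.H2.Rigid.H0.of_geometrically A.hom
  haveI := Groth.Agent.H2.Rigid.lfp_of_noetherian A.hom
  haveI : UniversallyOpen A.hom := UniversallyOpen.of_flat A.hom
  have hp := Groth.Agent.H2.Rigid.push_of_flat A.hom hH0
  refine ⟨fun s s' h => ?_, fun f => ?_⟩
  · ext1
    refine hp.hom_ext ?_
    simpa using congrArg CommaMorphism.left h
  · have hu : Groth.Agent.H2.Rigid.constSet A.hom f.left = Set.univ := by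
      refine Set.eq_univ_of_forall fun t => ?_
      haveI : DiscreteTopology (H.hom ⁻¹' {t} : Set H.left) :=
        (H.hom.isDiscrete_preimage_singleton t).to_subtype
      have hpre : _root_.IsPreconnected (f.left '' (A.hom ⁻¹' {t})) :=
        (A.hom.isConnected_preimage_singleton t).isPreconnected.image _ f.left.continuous.continuousOn
      have hsub : f.left '' (A.hom ⁻¹' {t}) ⊆ H.hom ⁻¹' {t} := by
        rintro _ ⟨x, hx, rfl⟩
        show H.hom (f.left x) = t
        rw [← Scheme.Hom.comp_apply, Over.w f]
        exact hx
      exact (totallyDisconnectedSpace_subtype_iff.1 inferInstance) _ hsub hpre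
    obtain ⟨k, hk⟩ := hp.exists_factor f.left A.hom.isClosedMap hu
    refine ⟨Over.homMk k (hp.hom_ext ?_), ?_⟩
    · rw [reassoc_of% hk, Over.w f]
      simp
    · ext1
      simpa using hk

end Groth.Agent.S15364
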