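import Groth.Statements.S15365
import Mathlib

set_option autoImplicit false
universe u
open scoped BigOperators
open CAlg

namespace Groth.Agent.S15365

/-- Let A be a commutative ring of characteristic p > 0 and (h_{ij})_{1 ≤ i,j ≤ n} a square matrix over
A, the matrix of a commutative p-Lie algebra (L, φ) with L free with basis e_1, …, e_n and φ(e_j) =
Σ_i h_{ij} e_i. The associated finite group scheme Spec A[X_1, …, X_n]/(X_j^p − Σ_i h_{ij} X_i)_{1 ≤
j ≤ n} is étale over A if and only if the matrix (h_{ij}) is invertible, i.e. its determinant is a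
unit of A. Only the algebra structure enters this assertion. -/
theorem result (p : ℕ) [Fact p.Prime]
    (A : Type u) [CommRing A] [CharP A p] (n : ℕ) (h : Matrix (Fin n) (Fin n) A) :
    Algebra.Etale A (MvPolynomial (Fin n) A ⧸ Ideal.span (Set.range fun j : Fin n =>
        (MvPolynomial.X j : MvPolynomial (Fin n) A) ^ p -
          ∑ i : Fin n, MvPolynomial.C (h i j) * MvPolynomial.X i)) ↔
      IsUnit h.det := by
  classical
  set v : Fin n → MvPolynomial (Fin n) A := fun j =>
    (MvPolynomial.X j : MvPolynomial (Fin n) A) ^ p - ∑ i : Fin n, MvPolynomial.C (h i j) * MvPolynomial.X i with hv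
  constructor
  · intro hE
    by_contra hdet
    obtain ⟨m, hm, hdm⟩ := exists_max_ideal_of_mem_nonunits hdet
    letI := Ideal.Quotient.field m
    let κ := A ⧸ m
    have h0 : (h.map (Ideal.Quotient.mk m)).det = 0 := by
      rw [← RingHom.mapMatrix_apply, ← RingHom.map_det, Ideal.Quotient.eq_zero_iff_mem.mpr hdm]
    obtain ⟨w, hw0, hw⟩ := Matrix.exists_vecMul_eq_zero_iff.mpr h0
    have hp : 2 ≤ p := (Fact.out : p.Prime).two_le
    let ev : (Fin n → κ) → MvPolynomial (Fin n) A →ₐ[A] TrivSqZeroExt κ κ := fun x =>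
      MvPolynomial.aeval fun i => TrivSqZeroExt.inr (x i)
    have hev : ∀ (x : Fin n → κ), Matrix.vecMul x (h.map (Ideal.Quotient.mk m)) = 0 →
        ∀ a ∈ Ideal.span (Set.range v), ev x a = 0 := by
      intro x hx a ha
      refine (Ideal.span_le.mpr ?_ : Ideal.span (Set.range v) ≤ RingHom.ker (ev x)) ha
      rintro _ ⟨j, rfl⟩
      rw [SetLike.mem_coe, RingHom.mem_ker]
      have h2 : (TrivSqZeroExt.inr (x j) : TrivSqZeroExt κ κ) ^ p = 0 := by
        obtain ⟨q, rfl⟩ := Nat.exists_eq_add_of_le hp
        rw [pow_add, pow_two, TrivSqZeroExt.inr_mul_inr, zero_mul]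
      simp only [hv, ev, map_sub, map_pow, map_sum, map_mul, MvPolynomial.aeval_X, MvPolynomial.aeval_C, h2, zero_sub,
        neg_eq_zero]
      have hterm : ∀ i, algebraMap A (TrivSqZeroExt κ κ) (h i j) * TrivSqZeroExt.inr (x i) =
          TrivSqZeroExt.inrHom κ κ (x i * Ideal.Quotient.mk m (h i j)) := fun i => by
        rw [TrivSqZeroExt.algebraMap_eq_inl', TrivSqZeroExt.inl_mul_inr, smul_eq_mul, mul_comm]
        rfl
      rw [Finset.sum_congr rfl fun i _ => hterm i, ← map_sum]
      have h3 := congrFun hx j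
      rw [Matrix.vecMul, dotProduct] at h3
      simp only [Matrix.map_apply, Pi.zero_apply] at h3
      rw [h3, map_zero]
    let f : ∀ x, Matrix.vecMul x (h.map (Ideal.Quotient.mk m)) = 0 →
        (MvPolynomial (Fin n) A ⧸ Ideal.span (Set.range v)) →ₐ[A] TrivSqZeroExt κ κ :=
      fun x hx => Ideal.Quotient.liftₐ _ (ev x) (hev x hx)
    let φ : TrivSqZeroExt κ κ →ₐ[A] κ := TrivSqZeroExt.fstHom A κ κ
    have hnil : IsNilpotent (RingHom.ker (φ : TrivSqZeroExt κ κ →+* κ)) := by
      refine ⟨2, ?_⟩
      rw [Submodule.zero_eq_bot, eq_bot_iff, Submodule.pow_succ, Submodule.pow_one, Ideal.mul_le]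
      intro a ha b hb
      rw [RingHom.mem_ker] at ha hb
      have ha' : TrivSqZeroExt.fst a = 0 := ha
      have hb' : TrivSqZeroExt.fst b = 0 := hb
      rw [Ideal.mem_bot]
      ext <;> simp [ha', hb']
    have hfe : f w hw = f 0 (Matrix.zero_vecMul _) := by
      refine Algebra.FormallyUnramified.lift_unique' (R := A) φ hnil _ _ ?_
      refine Ideal.Quotient.algHom_ext _ (MvPolynomial.algHom_ext fun i => ?_)
      simp only [f, φ, AlgHom.comp_apply, Ideal.Quotient.mkₐ_eq_mk]
      erw [Ideal.Quotient.liftₐ_apply, Ideal.Quotient.lift_mk, Ideal.Quotient.liftₐ_apply, Ideal.Quotient.lift_mk]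
      simp [ev]
    refine hw0 (funext fun i => ?_)
    have hX := congrArg TrivSqZeroExt.snd (DFunLike.congr_fun hfe (Ideal.Quotient.mk _ (MvPolynomial.X i)))
    erw [Ideal.Quotient.liftₐ_apply, Ideal.Quotient.lift_mk, Ideal.Quotient.liftₐ_apply, Ideal.Quotient.lift_mk] at hX
    simpa [ev] using hX
  · intro hdet
    haveI : CharP (MvPolynomial (Fin n) A) p := inferInstance
    haveI : CharP A p := inferInstance
    let P := Algebra.PreSubmersivePresentation.naive (R := A) (v := v) id Function.injective_id
    have hmat : P.jacobiMatrix = -(h.transpose.transpose.map MvPolynomial.C) := by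
      refine Matrix.ext fun i j => ?_
      rw [Algebra.PreSubmersivePresentation.jacobiMatrix_apply]
      show MvPolynomial.pderiv i (v j) = -(MvPolynomial.C (h i j))
      simp only [hv, map_sub, map_sum, MvPolynomial.pderiv_C_mul]
      rw [Derivation.leibniz_pow, MvPolynomial.pderiv_X, ← Nat.cast_smul_eq_nsmul (MvPolynomial (Fin n) A), CharP.cast_eq_zero,
        zero_smul, zero_sub, Finset.sum_eq_single i]
      · simp
      · intro b _ hb; rw [MvPolynomial.pderiv_X, Pi.single_eq_of_ne hb, mul_zero]
      · exact fun hh => absurd (Finset.mem_univ i) hh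
    let Q : Algebra.SubmersivePresentation A (MvPolynomial (Fin n) A ⧸ Ideal.span (Set.range v)) (Fin n) (Fin n) :=
      { toPreSubmersivePresentation := P
        jacobian_isUnit := by
          rw [Algebra.PreSubmersivePresentation.jacobian_eq_jacobiMatrix_det, hmat, Matrix.transpose_transpose, Matrix.det_neg]
          refine IsUnit.map _ (((IsUnit.neg isUnit_one).pow _).mul ?_)
          rw [← RingHom.mapMatrix_apply, ← RingHom.map_det]
          exact hdet.map MvPolynomial.C }
    rw [Algebra.Etale.iff_isStandardSmoothOfRelativeDimension_zero]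
    exact Q.isStandardSmoothOfRelativeDimension (by simp [Algebra.Presentation.dimension])

end Groth.Agent.S15365
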