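import Groth.Statements.S15366
import Groth.Agent.H24.PowerSeries
import Mathlib.RingTheory.MvPowerSeries.Equiv
import Mathlib.RingTheory.PowerSeries.Inverse
import Mathlib.FieldTheory.IsAlgClosed.AlgebraicClosure

set_option autoImplicit false
universe u
open CAlg

namespace Groth.Agent.S15366

/-- Let k be an algebraically closed field of characteristic p > 0, R = k[[t₁, t₂]], and O = R_{(t₁)}
the local ring of Spec R at the generic point x of the divisor t₁ = 0 (a discrete valuation ring,
with uniformizer t₁ and residue field k((t₂))). Then O embeds, by an injective local k-algebra map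
φ, into some complete discrete valuation ring A containing k whose residue field is algebraically
closed and in which φ(t₁) is still a uniformizer. The prime ideal (t₁) is passed as an ideal P equal
to it together with its primality. -/
theorem result
    (p : ℕ) [Fact p.Prime] (k : Type u) [Field k] [IsAlgClosed k] [CharP k p]
    (P : Ideal (MvPowerSeries (Fin 2) k))
    (hP : P = Ideal.span {(MvPowerSeries.X 0 : MvPowerSeries (Fin 2) k)}) [P.IsPrime] :
    ∃ (A : Type u) (_ : CommRing A) (_ : IsDomain A) (_ : IsDiscreteValuationRing A) (_ : Algebra k A)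
      (φ : Localization.AtPrime P →ₐ[k] A),
      IsAdicComplete (IsLocalRing.maximalIdeal A) A ∧ IsAlgClosed (IsLocalRing.ResidueField A) ∧
        Function.Injective φ ∧ IsLocalHom φ.toRingHom ∧
          Irreducible (φ (algebraMap (MvPowerSeries (Fin 2) k) (Localization.AtPrime P)
            (MvPowerSeries.X 0))) := by
  classical
  let E := MvPowerSeries.finSuccEquiv k 1
  let κ := FractionRing (MvPowerSeries (Fin 1) k)
  let Ω := AlgebraicClosure κ
  let ι : MvPowerSeries (Fin 1) k →+* Ω :=
    (algebraMap κ Ω).comp (algebraMap (MvPowerSeries (Fin 1) k) κ)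
  have hι : Function.Injective ι :=
    (algebraMap κ Ω).injective.comp (IsFractionRing.injective (MvPowerSeries (Fin 1) k) κ)
  let ψ : MvPowerSeries (Fin 2) k →+* PowerSeries Ω := (PowerSeries.map ι).comp E.toRingHom
  have hψi : Function.Injective ψ := (PowerSeries.map_injective ι hι).comp E.injective
  have hEX : E (MvPowerSeries.X 0) = PowerSeries.X := by
    refine PowerSeries.ext fun j => MvPowerSeries.ext fun d => ?_
    rw [MvPowerSeries.coeff_coeff_finSuccEquiv, MvPowerSeries.coeff_X, PowerSeries.coeff_X]
    have hiff : d.cons j = Finsupp.single (0 : Fin 2) 1 ↔ j = 1 ∧ d = 0 := by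
      constructor
      · intro h
        refine ⟨by simpa using DFunLike.congr_fun h 0, Finsupp.ext fun i => ?_⟩
        have := DFunLike.congr_fun h i.succ
        simpa [Fin.succ_ne_zero, Finsupp.single_apply, (Fin.succ_ne_zero i).symm] using this
      · rintro ⟨rfl, rfl⟩
        ext i
        refine Fin.cases ?_ (fun i => ?_) i <;> simp [Finsupp.single_apply, (Fin.succ_ne_zero _).symm]
    split_ifs with h1 h2 h2
    · rw [(hiff.1 h1).2]; simp
    · exact absurd (hiff.1 h1).1 h2
    · rw [MvPowerSeries.coeff_one, if_neg fun hd => h1 (hiff.2 ⟨h2, hd⟩)]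
    · simp
  have hψX : ψ (MvPowerSeries.X 0) = PowerSeries.X := by
    show PowerSeries.map ι (E _) = _
    rw [hEX, PowerSeries.map_X]
  have hiffP : ∀ s, IsUnit (ψ s) ↔ s ∉ P := by
    intro s
    rw [PowerSeries.isUnit_iff_constantCoeff, isUnit_iff_ne_zero, hP, Ideal.mem_span_singleton]
    refine not_congr ⟨fun h => ?_, ?_⟩
    · have h1 : PowerSeries.constantCoeff (E s) = 0 := by
        apply hι
        rw [map_zero, ← PowerSeries.coeff_zero_eq_constantCoeff_apply, ← PowerSeries.coeff_map,
          PowerSeries.coeff_zero_eq_constantCoeff_apply]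
        exact h
      obtain ⟨g, hg⟩ := PowerSeries.X_dvd_iff.2 h1
      exact ⟨E.symm g, E.injective (by rw [map_mul, hEX, E.apply_symm_apply, hg])⟩
    · rintro ⟨g, rfl⟩
      rw [map_mul, hψX, map_mul, PowerSeries.constantCoeff_X, zero_mul]
  let φ₀ : Localization.AtPrime P →+* PowerSeries Ω :=
    IsLocalization.lift (M := P.primeCompl) fun s => (hiffP s).2 s.2
  have hφ : ∀ z, φ₀ (algebraMap (MvPowerSeries (Fin 2) k) _ z) = ψ z := IsLocalization.lift_eq _
  have hφk : ∀ c : k, φ₀ (algebraMap k _ c) = algebraMap k (PowerSeries Ω) c := by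
    intro c
    rw [IsScalarTower.algebraMap_apply k (MvPowerSeries (Fin 2) k) (Localization.AtPrime P), hφ]
    show PowerSeries.map ι (E (algebraMap k _ c)) = _
    rw [E.commutes]
    ext j
    rw [PowerSeries.coeff_map, IsScalarTower.algebraMap_apply k Ω (PowerSeries Ω),
      IsScalarTower.algebraMap_apply k (MvPowerSeries (Fin 1) k)
        (PowerSeries (MvPowerSeries (Fin 1) k))]
    show ι (PowerSeries.coeff j (PowerSeries.C _)) = PowerSeries.coeff j (PowerSeries.C _)
    rw [PowerSeries.coeff_C, PowerSeries.coeff_C]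
    split_ifs
    · show algebraMap κ Ω (algebraMap _ κ _) = _
      rw [← IsScalarTower.algebraMap_apply, ← IsScalarTower.algebraMap_apply]
    · exact map_zero ι
  let φ : Localization.AtPrime P →ₐ[k] PowerSeries Ω := AlgHom.mk φ₀ hφk
  have hφi : Function.Injective φ₀ := by
    refine (IsLocalization.lift_injective_iff _).2 fun a b => ?_
    rw [hψi.eq_iff]
    exact ⟨fun h => IsLocalization.injective (Localization.AtPrime P)
      (P.primeCompl_le_nonZeroDivisors) h, fun h => congrArg _ h⟩
  have hloc : IsLocalHom φ.toRingHom := ⟨fun z hz => by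
    obtain ⟨⟨a, b⟩, hab⟩ := IsLocalization.surj P.primeCompl z
    have h1 : IsUnit (ψ a) := by
      rw [← hφ, ← hab, map_mul]
      exact hz.mul ((IsLocalization.map_units _ b).map φ₀)
    refine isUnit_of_mul_isUnit_left (y := algebraMap _ _ (b : MvPowerSeries (Fin 2) k)) ?_
    rw [hab]
    exact IsLocalization.map_units _ (⟨a, (hiffP a).1 h1⟩ : P.primeCompl)⟩
  haveI : IsAlgClosed Ω := AlgebraicClosure.isAlgClosed κ
  refine ⟨PowerSeries Ω, inferInstance, inferInstance, inferInstance, inferInstance, φ,
    H24.PowerSeries.isAdicComplete Ω Unit,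
    IsAlgClosed.of_ringEquiv Ω _ PowerSeries.residueFieldOfPowerSeries.symm, hφi, hloc, ?_⟩
  show Irreducible (φ₀ _)
  rw [hφ, hψX]
  exact PowerSeries.X_irreducible

end Groth.Agent.S15366
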