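import Groth.Statements.S15367
import Groth.Agent.H22.DvrGen

set_option autoImplicit false
universe u v
open TensorProduct
open CAlg

namespace Groth.Agent.S15367

/-- Let R be a discrete valuation ring with uniformizer π and residue field k, n ≥ 0, and M₀ a finitely
generated module over R/πⁿR, viewed as an R-module killed by πⁿ; put M₀* = Hom_R(M₀, R/πⁿR). Then
dim_k(M₀*/πM₀*) = dim_k(M₀/πM₀). The published lemma is stated for a finitely presented module over
the quotient of the ring of integers of an algebraic closure of K by the elements of valuation ≥ t,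
with its dual into that quotient ring, and the published proof reduces it by descent to exactly this
statement over the valuation ring of a finite extension of K; the row states that step. -/
theorem result
    (R : Type u) [CommRing R] [IsDomain R] [IsDiscreteValuationRing R] (ϖ : R) (hϖ : Irreducible ϖ) (n : ℕ)
    (M : Type v) [AddCommGroup M] [Module R M] [Module.Finite R M] (hM : ∀ m : M, ϖ ^ n • m = 0) :
    Module.finrank (IsLocalRing.ResidueField R)
        (IsLocalRing.ResidueField R ⊗[R] (M →ₗ[R] (R ⧸ Ideal.span {ϖ ^ n}))) =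
      Module.finrank (IsLocalRing.ResidueField R) (IsLocalRing.ResidueField R ⊗[R] M) := by
  classical
  rcases n with _ | m
  · haveI : Subsingleton M := subsingleton_of_forall_eq 0 fun x => by simpa using hM x
    haveI : Subsingleton (M →ₗ[R] R ⧸ Ideal.span {ϖ ^ 0}) :=
      subsingleton_of_forall_eq 0 fun f => LinearMap.ext fun x => by rw [Subsingleton.elim x 0, map_zero]; rfl
    rw [Module.finrank_zero_of_subsingleton, Module.finrank_zero_of_subsingleton]
  let Q := R ⧸ Ideal.span {ϖ ^ (m + 1)}
  let k := IsLocalRing.ResidueField R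
  obtain ⟨s, v, hv⟩ := Module.Finite.exists_fin (R := R) (M := M)
  haveI : Module.Finite R (M →ₗ[R] Q) :=
    Module.Finite.of_injective (LinearMap.pi fun i : Fin s => LinearMap.applyₗ (v i)) fun f g h =>
      LinearMap.ext_on hv (by rintro _ ⟨i, rfl⟩; exact congrFun h i)
  have hkill : ∀ f : M →ₗ[R] Q, ϖ ^ (m + 1) • f = 0 := fun f => LinearMap.ext fun x => by
    rw [LinearMap.smul_apply, ← map_smul, hM, map_zero]; rfl
  let ι : k →ₗ[R] Q := Submodule.liftQ (IsLocalRing.maximalIdeal R)
    ((Ideal.span {ϖ ^ (m + 1)}).mkQ ∘ₗ LinearMap.mulLeft R (ϖ ^ m)) (by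
      intro r hr
      rw [hϖ.maximalIdeal_eq, Ideal.mem_span_singleton] at hr
      obtain ⟨c, rfl⟩ := hr
      rw [LinearMap.mem_ker, LinearMap.comp_apply, Submodule.mkQ_apply, Submodule.Quotient.mk_eq_zero,
        LinearMap.mulLeft_apply, Ideal.mem_span_singleton, ← mul_assoc, ← pow_succ]
      exact dvd_mul_right _ _)
  have hι : Function.Injective ι := by
    rw [← LinearMap.ker_eq_bot]
    refine Submodule.ker_liftQ_eq_bot' _ _ ?_
    ext r
    rw [LinearMap.mem_ker, LinearMap.comp_apply, Submodule.mkQ_apply, Submodule.Quotient.mk_eq_zero,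
      LinearMap.mulLeft_apply, Ideal.mem_span_singleton, pow_succ, mul_dvd_mul_iff_left (pow_ne_zero _ hϖ.ne_zero),
      hϖ.maximalIdeal_eq, Ideal.mem_span_singleton]
  let Φ : (M →ₗ[R] k) →ₗ[R] Submodule.torsionBy R (M →ₗ[R] Q) ϖ :=
    (ι.compRight R).codRestrict _ fun g => by
      show ϖ • ι.comp g = 0
      refine LinearMap.ext fun x => ?_
      have hk : ϖ • g x = 0 := by
        rw [← algebraMap_smul k, show algebraMap R k ϖ = 0 from
          (IsLocalRing.residue_eq_zero_iff ϖ).2 (hϖ.maximalIdeal_eq ▸ Ideal.mem_span_singleton_self ϖ), zero_smul]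
      rw [LinearMap.smul_apply, LinearMap.comp_apply, ← map_smul, hk, map_zero]; rfl
  have hΦ : Function.Bijective Φ := by
    refine ⟨fun a b h => LinearMap.ext fun x => hι (LinearMap.congr_fun (congrArg Subtype.val h :) x), fun f => ?_⟩
    have hr : ∀ x, ∃ c, ι c = f.1 x := fun x => by
      obtain ⟨r, hr⟩ := Submodule.Quotient.mk_surjective _ (f.1 x)
      have h0 : ϖ • f.1 x = 0 := LinearMap.congr_fun f.2 x
      rw [← hr, ← Submodule.Quotient.mk_smul, Submodule.Quotient.mk_eq_zero, Ideal.mem_span_singleton,
        smul_eq_mul, pow_succ', mul_dvd_mul_iff_left hϖ.ne_zero] at h0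
      obtain ⟨c, rfl⟩ := h0
      exact ⟨Submodule.Quotient.mk c, hr⟩
    choose c hc using hr
    refine ⟨{ toFun := c, map_add' := fun a b => hι ?_, map_smul' := fun r a => hι ?_ },
      Subtype.ext (LinearMap.ext hc)⟩
    · rw [hc, map_add, map_add, hc, hc]
    · rw [RingHom.id_apply, hc, map_smul, map_smul, hc]
  have h1 := Groth.Agent.H22.DvrGen.length_torsionBy_eq_d hϖ (m + 1) (M →ₗ[R] Q) hkill
  rw [← (LinearEquiv.ofBijective Φ hΦ).length_eq,
    ((LinearMap.liftBaseChangeEquiv k (M := M) (N := k)).restrictScalars R).length_eq,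
    Module.length_eq_of_surjective (R := k) IsLocalRing.residue_surjective, Module.length_eq_finrank,
    Subspace.dual_finrank_eq] at h1
  exact_mod_cast h1.symm

end Groth.Agent.S15367
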