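import Groth.Statements.S15376
import Groth.Agent.S14810
import Groth.Agent.Lib.SurfRR.Duality
import Groth.Agent.Lib.ProjSpace.SmoothDimEq

set_option autoImplicit false
universe u
open CategoryTheory CategoryTheory.Limits AlgebraicGeometry
open Biell
open Groth.Agent

namespace Groth.Agent.S15376

/-- Let k be an algebraically closed field and X a (quasi-)bielliptic surface over k, meaning here: X is
an integral k-scheme, proper and smooth of relative dimension 2 over k and carrying an ample
invertible sheaf, whose canonical sheaf ω (a second exterior power of Ω_{X/k}) is numerically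
trivial (degree 0 on every integral closed curve in X) and whose second ℓ-adic Betti number (the
rank of lim_ν H²(X_et, Z/ℓ^ν)) equals 2 for every prime ℓ invertible in k. Then the geometric genus
p_g(X) = dim_k H²(X, O_X) equals 1 if and only if ω ≅ O_X, i.e. ω has order 1 in Pic(X). (The
published statement is for bielliptic surfaces and has a third equivalent condition, non-reducedness
of the identity component of the Picard scheme, which is not stated here; the equivalence of the two
conditions stated rests only on the numerical triviality of ω on an integral smooth projective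
surface, so this row states it for quasi-bielliptic surfaces as well.) -/
theorem result (k : Type u) [Field k] [IsAlgClosed k] (X : Scheme.{u}) [X.Over (Spec (CommRingCat.of k))]
    [IsIntegral X] [IsProper (X ↘ Spec (CommRingCat.of k))] [SmoothOfRelativeDimension 2 (X ↘ Spec (CommRingCat.of k))]
    (hproj : ∃ H : X.Modules, CohB1.IsAmple H)
    (ω : X.Modules) (hω : Canon.IsTopDiff (X ↘ Spec (CommRingCat.of k)) 2 ω) (hnum : Pic13.IsNumEquivZero k X ω)
    (hb2 : ∀ ℓ : ℕ, ℓ.Prime → (ℓ : k) ≠ 0 → EtAdic.betti X ℓ 2 = 2) :
    Module.finrank k (Coh.HH X (Coh.structureModule X) 2) = 1 ↔ Nonempty (ω ≅ Coh.structureModule X) := by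
  haveI := Lib.Curves.GlobalSections.isNoetherian_of_proper k X
  have hdim : topologicalKrullDim X = 2 := by
    have h := Lib.ProjSpace.SmoothDimEq.topologicalKrullDim_eq k (X ↘ Spec (CommRingCat.of k)) 2
    exact_mod_cast h
  haveI : Smooth (X ↘ Spec (CommRingCat.of k)) := SmoothOfRelativeDimension.smooth 2 _
  have hh := Lib.SurfRR.Duality.finrank_h2_structure hdim hω
  rw [hh]
  constructor
  · intro h1
    have hωi := Lib.SurfRR.Duality.isInvertible_canonical hdim hω
    obtain ⟨s, hs⟩ := Lib.SurfInt.Bound.exists_hom_of_finrank_ne_zero (k := k) ω (by rw [h1]; exact one_ne_zero)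
    letI : Algebra k Γ(X, ⊤) :=
      RingHom.toAlgebra (S := Γ(X, ⊤)) (Coh.toGlobal (X ↘ Spec (CommRingCat.of k)))
    haveI : Module.Finite k Γ(X, ⊤) := Lib.Curves.GlobalSections.finite_toGlobal k X
    have hfield : IsField (Γ(X, ⊤) : Type u) :=
      (AlgEquiv.ofBijective (Algebra.ofId k Γ(X, ⊤))
        IsAlgClosed.algebraMap_bijective_of_isIntegral).symm.toMulEquiv.isField (Field.toIsField k)
    exact S14810.result k X hfield ω hωi hnum s hs
  · rintro ⟨e⟩
    rw [(Lib.Curves.LES.isoK k e 0).finrank_eq, Lib.Curves.GlobalSections.finrank_h0_structure k X]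

end Groth.Agent.S15376
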