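import Groth.Statements.S15386
import Groth.Agent.Lib.QuotStk86.EssSurj

set_option autoImplicit false
universe u
open QuotStk

namespace Groth.Agent.S15386

open CategoryTheory MonoidalCategory CartesianMonoidalCategory MonObj AlgebraicGeometry in
/-- Let k be a field, G a smooth affine k-group scheme, H ⟶ G a closed subgroup scheme, X a k-scheme
with a G-action, and (Q, q₀) a pointed G-scheme which is the homogeneous space G/H for the fppf
topology (the stabiliser of q₀ is H and the orbit map G ⟶ Q acquires sections fppf-locally on Q).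
Then the quotient stack of X by H (restricted action; torsors locally trivial for the fppf topology,
as schemes) is equivalent, as a category over (Sch/k), to the quotient stack of Q ×_k X by G acting
diagonally; only the existence of such an equivalence is asserted. (The published statement is that
the square of quotient stacks formed by the quotient of G/H × Y by H, two copies of the quotient of
Y by H, and the quotient of Y by G is 2-cartesian; this row is the equivalence between the quotient
of X by H and the quotient of G/H × X by G proved on the way, from which that follows.) -/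
theorem result (k : Type u) [Field k]
    (G H X Q : Over (Spec (CommRingCat.of k))) [GrpObj G] [GrpObj H]
    (i : H ⟶ G) [IsMonHom i] [IsClosedImmersion i.left] [Smooth G.hom] [IsAffineHom G.hom]
    (aX : AlgGrp.Action G X) (aQ : AlgGrp.Action G Q) (q₀ : 𝟙_ (Over (Spec (CommRingCat.of k))) ⟶ Q)
    (hQ : ChGrp.IsHomog Scheme.fppfPrecoverage i aQ q₀) :
    AlgSt.IsQuotientOf Scheme.fppfPrecoverage H (aX.restrict i)
      (AlgSt.QuotSt Scheme.fppfPrecoverage G (aQ.prod aX)) := by
  obtain ⟨_, hsq, hloc⟩ := hQ
  have : Mono i := (Over.forget _).mono_of_mono_map (inferInstanceAs (Mono i.left))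
  have hft : LocallyOfFiniteType H.hom := by rw [← Over.w i]; infer_instance
  have : LocallyOfFinitePresentation H.hom :=
    inferInstance
  have : Flat H.hom := inferInstance
  let j : G ⊗ X ⟶ Q ⊗ X := lift (fst G X ≫ aQ.orbitMap q₀) aX.act
  have hj : ∀ {T : Over (Spec (CommRingCat.of k))} (g : T ⟶ G) (x : T ⟶ X),
      lift g x ≫ j = lift (g ≫ aQ.orbitMap q₀) (lift g x ≫ aX.act) := by
    intro T g x
    simp only [j, comp_lift, lift_fst_assoc]
  have horb : ∀ {T : Over (Spec (CommRingCat.of k))} (g g' : T ⟶ G),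
      (g * g') ≫ aQ.orbitMap q₀ = lift g (g' ≫ aQ.orbitMap q₀) ≫ aQ.act := by
    intro T g g'
    rw [AlgGrp.Action.comp_orbitMap, AlgGrp.Action.comp_orbitMap, AlgGrp.Action.lift_mul_act]
  have heta : ∀ {T : Over (Spec (CommRingCat.of k))} (v : T ⟶ G ⊗ X),
      lift (v ≫ fst _ _) (v ≫ snd _ _) = v := fun v => by rw [← comp_lift, lift_fst_snd, Category.comp_id]
  have hR : ∀ {T : Over (Spec (CommRingCat.of k))} (g : T ⟶ G) (h : T ⟶ H),
      (g * (h ≫ i)) ≫ aQ.orbitMap q₀ = g ≫ aQ.orbitMap q₀ := by
    intro T g h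
    have e := congrArg (lift g h ≫ ·) hsq.w
    simp only [lift_fst_assoc, lift_whiskerLeft_assoc, Category.assoc] at e
    rw [Hom.mul_def, Category.assoc]
    exact e.symm
  have hY : ChGrp.IsBalProd Scheme.fppfPrecoverage i (aX.restrict i) (aQ.prod aX) j := by
    refine ⟨?_, ?_, ?_⟩
    · refine AlgGrp.Action.hom_ext_lift₂ fun T c₀ v => ?_
      rw [lift_whiskerLeft_assoc, ← heta v, hj, AlgGrp.Action.lift_prod_act_assoc,
        AlgGrp.Action.lift_trivial_act, hj, AlgGrp.Action.lift_prod_act]
      congr 1
      · show (lift c₀ (v ≫ fst G X) ≫ μ[G]) ≫ _ = _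
        rw [← Hom.mul_def, horb]
      · show lift (lift c₀ (v ≫ fst G X) ≫ μ[G]) _ ≫ _ = _
        rw [← Hom.mul_def, AlgGrp.Action.lift_mul_act]
    · have w : (ChGrp.twist i (aX.restrict i)).act ≫ j = snd H (G ⊗ X) ≫ j := by
        refine AlgGrp.Action.hom_ext_lift₂ fun T h v => ?_
        rw [lift_snd_assoc, ← heta v, ← Category.assoc, ChGrp.lift_twist_act, hj, hj,
          AlgGrp.Action.lift_restrict_act, ← AlgGrp.Action.lift_mul_act, inv_mul_cancel_right]
        congr 1
        have e := hR ((v ≫ fst G X) * (h ≫ i)⁻¹) h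
        rwa [inv_mul_cancel_right, eq_comm] at e
      have key : ∀ c : Limits.PullbackCone j j, ∃ h : c.pt ⟶ H,
          lift h c.snd ≫ (ChGrp.twist i (aX.restrict i)).act = c.fst := by
        intro c
        have e := c.condition
        rw [← heta c.fst, ← heta c.snd, hj, hj] at e
        have e₁ := congrArg (· ≫ fst Q X) e
        have e₂ := congrArg (· ≫ snd Q X) e
        simp only [lift_fst, lift_snd] at e₁ e₂
        let l := hsq.lift (c.snd ≫ fst G X) (c.fst ≫ fst G X) e₁.symm
        have hl₁ : l ≫ fst G H = c.snd ≫ fst G X := hsq.lift_fst _ _ _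
        have hl₂ : (c.snd ≫ fst G X) * ((l ≫ snd G H) ≫ i) = c.fst ≫ fst G X := by
          rw [← hl₁, Hom.mul_def]
          refine Eq.trans ?_ (hsq.lift_snd (c.snd ≫ fst G X) (c.fst ≫ fst G X) e₁.symm)
          rw [← lift_whiskerLeft_assoc, ← comp_lift_assoc, lift_fst_snd, Category.id_comp]
        refine ⟨(l ≫ snd G H)⁻¹, ?_⟩
        conv_lhs => rw [← heta c.snd]
        rw [ChGrp.lift_twist_act, GrpObj.inv_comp, _root_.inv_inv, hl₂, AlgGrp.Action.lift_restrict_act,
          GrpObj.inv_comp]
        conv_rhs => rw [← heta c.fst]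
        congr 1
        rw [← hl₂, AlgGrp.Action.lift_mul_act] at e₂
        have e₃ := congrArg (fun y => lift (c.snd ≫ fst G X)⁻¹ y ≫ aX.act) e₂
        simp only [← AlgGrp.Action.lift_mul_act, ← _root_.mul_assoc, inv_mul_cancel, _root_.one_mul,
          AlgGrp.Action.lift_one_act] at e₃
        rw [← e₃, ← AlgGrp.Action.lift_mul_act, inv_mul_cancel, AlgGrp.Action.lift_one_act]
      choose h hh using key
      refine ⟨⟨w⟩, ⟨Limits.PullbackCone.IsLimit.mk w (fun c => lift (h c) c.snd) hh (fun c => lift_snd _ _)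
        fun c m hm₁ hm₂ => ?_⟩⟩
      have hm : m = lift (m ≫ fst _ _) c.snd := by rw [← hm₂, ← comp_lift, lift_fst_snd, Category.comp_id]
      rw [hm]
      congr 1
      have e : lift (m ≫ fst _ _) c.snd ≫ (ChGrp.twist i (aX.restrict i)).act =
          lift (h c) c.snd ≫ (ChGrp.twist i (aX.restrict i)).act := by rw [← hm, hm₁, hh]
      rw [← heta c.snd, ChGrp.lift_twist_act, ChGrp.lift_twist_act] at e
      have e₁ := congrArg (· ≫ fst G X) e
      simp only [lift_fst, mul_right_inj, _root_.inv_inj] at e₁
      exact (cancel_mono i).1 e₁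
    · obtain ⟨W₀, r₀, s₀, hr, hs⟩ := Lib.QuotStk86.exists_cover_section hloc
      let W : Over (Spec (CommRingCat.of k)) := Over.mk (r₀ ≫ Q.hom)
      let r : W ⟶ Q := Over.homMk r₀
      let s : W ⟶ G := Over.homMk s₀ (by
        show s₀ ≫ G.hom = r₀ ≫ Q.hom
        rw [← Over.w (aQ.orbitMap q₀), ← Category.assoc]; exact congrArg (· ≫ Q.hom) hs)
      have hsr : s ≫ aQ.orbitMap q₀ = r := Over.OverMorphism.ext hs
      let w₁ := Limits.pullback.fst (fst Q X) r
      let w₂ := Limits.pullback.snd (fst Q X) r
      have hw : Lib.AlgSpace.fppfCover w₁.left := MorphismProperty.of_isPullback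
        ((IsPullback.of_hasPullback (fst Q X) r).map (Over.forget _)).flip hr
      let t : Limits.pullback (fst Q X) r ⟶ G ⊗ X :=
        lift (w₂ ≫ s) (lift (w₂ ≫ s)⁻¹ (w₁ ≫ snd Q X) ≫ aX.act)
      have ht : t ≫ j = w₁ := by
        rw [hj, ← AlgGrp.Action.lift_mul_act, mul_inv_cancel, AlgGrp.Action.lift_one_act, Category.assoc, hsr,
          ← Limits.pullback.condition, ← comp_lift, lift_fst_snd, Category.comp_id]
      exact Lib.QuotStk86.isLocallyTrivialFor_of_cover w₁.left hw t.left (congrArg Over.Hom.left ht)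
  exact Lib.QuotStk86.isQuotientOf hY

end Groth.Agent.S15386
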