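import Groth.Statements.S15389
import Groth.Agent.Lib.DualGm86.Local

set_option autoImplicit false
universe u
open TateGlob

namespace Groth.Agent.S15389

open CategoryTheory AlgebraicGeometry in
/-- Let K be a global function field with finite constant field Fq, k'/K a finite separable extension, S
a nonempty finite set of places of K, O_S the ring of S-integers and O' the integral closure of O_S
in k' (the ring of S'-integers of k', S' the places above S), and suppose O' is finite etale over
O_S, i.e. no place outside S ramifies in k'. Let R = R_{O'/O_S}(𝔾_m) be the Weil restriction of the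
multiplicative group, as the abelian sheaf on the big fppf site of Spec O_S given by the direct
image of 𝔾_m along Spec O' → Spec O_S, and R^ its dual sheaf (internal Hom into 𝔾_m). Then for every
place v of K not in S, H^1(O_v, R^) = 0, where O_v is the valuation ring of the completion K_v and
the group is the fppf cohomology of the restriction of R^ to Spec O_v. (The published statement is
for any global field, with S also containing the archimedean places; this row is the function-field
case.) -/
theorem result (Fq : Type u) [Field Fq] [Finite Fq] (K : Type u) [Field K] [Algebra (RatFunc Fq) K] [FunctionField Fq K]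
    [Algebra Fq K] [IsScalarTower Fq (RatFunc Fq) K]
    (k' : Type u) [Field k'] [Algebra K k'] [FiniteDimensional K k'] [Algebra.IsSeparable K k']
    (S : Set (FunFld.Place Fq K)) (hS : S.Finite) (hne : S.Nonempty)
    [Algebra (AdFn.SInt S) k'] [IsScalarTower (AdFn.SInt S) K k']
    (O' : Type u) [CommRing O'] [Algebra (AdFn.SInt S) O'] [Algebra O' k'] [IsScalarTower (AdFn.SInt S) O' k']
    [IsIntegralClosure O' (AdFn.SInt S) k']
    [IsFinite (Spec.map (CommRingCat.ofHom (algebraMap (AdFn.SInt S) O')))]
    [Etale (Spec.map (CommRingCat.ofHom (algebraMap (AdFn.SInt S) O')))]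
    (v : FunFld.Place Fq K) (hv : v ∉ S) :
    Subsingleton (AdFn.HInt Scheme.fppfPrecoverage S
      (CGrpSh2.dualSh Scheme.fppfPrecoverage
        (CGrpSh3.pushGm Scheme.fppfPrecoverage (Spec.map (CommRingCat.ofHom (algebraMap (AdFn.SInt S) O'))))) 1 hv) := by
  let w : Valuation (AdFn.Kv v) (WithZero (Multiplicative ℤ)) := Valued.v
  haveI : Nontrivial (MonoidWithZeroHom.valueGroup (MonoidWithZeroHom.ofClass w)) := by
    obtain ⟨x, hx⟩ := v.2.2 (WithZero.exp (1 : ℤ))
    rw [Subgroup.nontrivial_iff_exists_ne_one]
    refine ⟨Units.mk0 (w (AdFn.toKv v x)) (by rw [AdFn.valued_toKv, hx]; exact WithZero.exp_ne_zero),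
      MonoidWithZeroHom.mem_valueGroup _ ⟨AdFn.toKv v x, rfl⟩, fun h => ?_⟩
    have h' := congrArg Units.val h
    rw [Units.val_mk0, AdFn.valued_toKv, hx, Units.val_one, ← WithZero.exp_zero] at h'
    exact one_ne_zero (WithZero.exp_injective h')
  haveI : IsCyclic (MonoidWithZeroHom.valueGroup (MonoidWithZeroHom.ofClass w)) := inferInstance
  haveI : IsDiscreteValuationRing (AdFn.Ov v) :=
    Valuation.valuationSubring_isDiscreteValuationRing w
  exact Groth.Agent.Lib.DualGm86.HU_dual_push _ (AdFn.Ov v) _

end Groth.Agent.S15389
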