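import Groth.Statements.S15391
import Mathlib

set_option autoImplicit false
universe u
open TensorProduct
open TorFree

namespace Groth.Agent.S15391

/-- Let R be a reduced Noetherian commutative ring, M a finitely generated torsion-free R-module (no
non-zero element of M is annihilated by a non-zero-divisor of R), and t an element of M whose image
1 ⊗ t in the fibre κ(p) ⊗_R M vanishes for every prime ideal p of R, κ(p) being the residue field at
p. Then t = 0. This is the affine form of the claim that a global section of a coherent torsion-free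
module on a reduced Noetherian scheme which vanishes in every fibre is zero. -/
theorem result (R : Type u) [CommRing R] [IsReduced R] [IsNoetherianRing R]
    (M : Type u) [AddCommGroup M] [Module R M] [Module.Finite R M] [Module.IsTorsionFree R M]
    (t : M) (ht : ∀ p : PrimeSpectrum R, (1 : p.asIdeal.ResidueField) ⊗ₜ[R] t = (0 : p.asIdeal.ResidueField ⊗[R] M)) :
    t = 0 := by
  classical
  have hfin : (minimalPrimes R).Finite := minimalPrimes.finite_of_isNoetherianRing R
  let J : Ideal R := LinearMap.ker (LinearMap.toSpanSingleton R M t)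
  have hJ : ¬ (J : Set R) ⊆ ⋃ P ∈ hfin.toFinset, ((fun P => P) P : Ideal R) := by
    intro hsub
    obtain ⟨P, hP, hle⟩ := (Ideal.subset_union_prime (⊥ : Ideal R) ⊥
      (fun P hP _ _ => (hfin.mem_toFinset.1 hP).1.1)).1 hsub
    have hPm := hfin.mem_toFinset.1 hP
    haveI := hPm.1.1
    have hfield : IsField (Localization.AtPrime P) := by
      haveI : Ring.KrullDimLE 0 (Localization.AtPrime P) := by
        rw [Ring.krullDimLE_zero_iff]
        intro Q hQ
        have h1 : Q.comap (algebraMap R _) ≤ P :=
          (IsLocalization.AtPrime.orderIsoOfPrime (Localization.AtPrime P) P ⟨Q, hQ⟩).2.2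
        have h2 : P ≤ Q.comap (algebraMap R _) := hPm.2 ⟨inferInstance, bot_le⟩ h1
        have h3 : Q = IsLocalRing.maximalIdeal (Localization.AtPrime P) := by
          rw [← IsLocalization.map_under P.primeCompl (Localization.AtPrime P) Q, Ideal.under_def, le_antisymm h1 h2,
            Localization.AtPrime.map_eq_maximalIdeal]
        exact h3 ▸ IsLocalRing.maximalIdeal.isMaximal _
      exact Ring.KrullDimLE.isField_of_isReduced
    have h0 := ht ⟨P, hPm.1.1⟩
    have hm : IsLocalRing.maximalIdeal (Localization.AtPrime P) = ⊥ :=
      IsLocalRing.isField_iff_maximalIdeal_eq.1 hfield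
    have hbij : Function.Bijective (algebraMap (Localization.AtPrime P) P.ResidueField) :=
      ⟨(RingHom.injective_iff_ker_eq_bot _).2 (by rw [← hm]; exact IsLocalRing.ker_residue),
        IsLocalRing.residue_surjective⟩
    let ψ : P.ResidueField →ₗ[R] Localization.AtPrime P :=
      ((LinearEquiv.ofBijective (IsScalarTower.toAlgHom R (Localization.AtPrime P) P.ResidueField).toLinearMap
        hbij).symm : _ →ₗ[R] _)
    have h1 := congrArg (ψ.rTensor M) h0
    rw [LinearMap.rTensor_tmul, map_zero, show ψ 1 = 1 from
      (LinearEquiv.symm_apply_eq _).2 (by simp)] at h1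
    have h2 := IsLocalizedModule.eq_zero_iff (f := TensorProduct.mk R (Localization.AtPrime P) M 1)
      (S := P.primeCompl) |>.1 h1
    obtain ⟨c, hc⟩ := h2
    exact c.2 (hle (show (c : R) ∈ J from hc))
  obtain ⟨a, haJ, ha⟩ := Set.not_subset.1 hJ
  have hreg : IsRegular a := by
    rw [isRegular_iff_mem_nonZeroDivisors, mem_nonZeroDivisors_iff_right]
    intro b hb
    have : b ∈ ⨅ P ∈ minimalPrimes R, P := by
      simp only [Submodule.mem_iInf]
      intro P hP
      exact (hP.1.1.mem_or_mem (hb ▸ P.zero_mem : b * a ∈ P)).resolve_right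
        fun h => ha (Set.mem_iUnion₂.2 ⟨P, hfin.mem_toFinset.2 hP, h⟩)
    rw [← sInf_eq_iInf] at this
    rw [show sInf (minimalPrimes R) = nilradical R from (Ideal.sInf_minimalPrimes).trans rfl, nilradical_eq_zero] at this
    simpa using this
  exact (hreg.isSMulRegular (M := M)) (show a • t = a • (0 : M) by rw [smul_zero]; exact haJ)

end Groth.Agent.S15391
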