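import Groth.Statements.S15396
import Groth.Agent.Lib.H15.PointDual.AV
import Groth.Agent.Lib.H15.PointDual.Ideal
-- import your own Groth.Agent.* helpers here

set_option autoImplicit false
universe u
open CategoryTheory CategoryTheory.Limits MonoidalCategory CartesianMonoidalCategory MonObj GrpObj AlgebraicGeometry
attribute [local instance] HasDerivedCategory.standard
open AbVar

namespace Groth.Agent.S15396

/-- Let k be an algebraically closed field of characteristic zero and A an abelian variety over k (a
proper smooth k-group scheme with geometrically connected fibres) of dimension g ≥ 2, with unit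
section e : Spec k → A. Let I_0 ⊆ O_A be the ideal sheaf of the unit point (the kernel of O_A →
e_*O_{Spec k}) and I_0^∨ = RHom(I_0, O_A) its derived dual in D(O_A), whose cohomology sheaves are
the sheaves Ext^p(I_0, O_A); the derived functors involved are assumed to exist. Then Ext^0(I_0,
O_A) is isomorphic to O_A, Ext^{g−1}(I_0, O_A) is isomorphic to the skyscraper e_*O_{Spec k}, and
Ext^p(I_0, O_A) = 0 for every integer p different from 0 and g − 1 (existence of isomorphisms). (The
published table is printed without restriction on g and twisted by a principal polarization, which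
does not change the computation; for g = 1 the degrees 0 and g − 1 coincide and Hom(I_0, O_A) is the
invertible module O_A(0), so the table is stated here for g ≥ 2, the case in which it is used.) -/
theorem result (k : Type u) [Field k] [IsAlgClosed k] [CharZero k]
    (A : Over (Spec (CommRingCat.of k))) [GrpObj A] [IsProper A.hom] [Smooth A.hom] [GeometricallyConnected A.hom]
    (g : ℕ) (hg : topologicalKrullDim ↥A.left = g) (hg2 : 2 ≤ g)
    [DCoh.HasLTensorCx ((HomologicalComplex.single A.left.Modules (ComplexShape.up ℤ) 0).obj (kernel (ClSub.unitToPush η[A].left)))] [DCoh.HasRSheafHom ((HomologicalComplex.single A.left.Modules (ComplexShape.up ℤ) 0).obj (kernel (ClSub.unitToPush η[A].left)))] :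
    Nonempty (DCoh.HD ((DCoh.RSheafHom ((HomologicalComplex.single A.left.Modules (ComplexShape.up ℤ) 0).obj (kernel (ClSub.unitToPush η[A].left)))).obj (DCoh.inD A.left (Coh.structureModule A.left))) 0 ≅ Coh.structureModule A.left) ∧
    Nonempty (DCoh.HD ((DCoh.RSheafHom ((HomologicalComplex.single A.left.Modules (ComplexShape.up ℤ) 0).obj (kernel (ClSub.unitToPush η[A].left)))).obj (DCoh.inD A.left (Coh.structureModule A.left))) ((g : ℤ) - 1) ≅
      (Scheme.Modules.pushforward η[A].left).obj (Coh.structureModule (Spec (CommRingCat.of k)))) ∧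
    (∀ p : ℤ, p ≠ 0 → p ≠ (g : ℤ) - 1 → IsZero (DCoh.HD ((DCoh.RSheafHom ((HomologicalComplex.single A.left.Modules (ComplexShape.up ℤ) 0).obj (kernel (ClSub.unitToPush η[A].left)))).obj (DCoh.inD A.left (Coh.structureModule A.left))) p)) := by
  obtain ⟨hN, hreg, hci, hd⟩ := Lib.H15.PointDual.AV.facts A g hg
  have : IsNoetherian A.left := hN
  let i : Spec (CommRingCat.of k) ⟶ A.left := η[A].left
  have : IsClosedImmersion i := hci
  obtain ⟨r⟩ := Groth.Agent.H83.Duality.nonempty_res (X := A.left)
  obtain ⟨⟨e0⟩, ⟨eg⟩, hz⟩ := Lib.H15.PointDual.main_ideal i g hg2 hd hreg r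
  let E := (HomologicalComplex.single A.left.Modules (ComplexShape.up ℤ) 0).obj
    (kernel (ClSub.unitToPush i))
  obtain ⟨ε⟩ := Lib.H15.PointDual.nonempty_dual_iso r E
  let eV := ((Groth.Agent.H83.Duality.dual r).mapIso
    ((DerivedCategory.singleFunctorIsoCompQ A.left.Modules 0).app
      (kernel (ClSub.unitToPush i))).symm.op ≪≫ ε)
  exact ⟨⟨(DerivedCategory.homologyFunctor _ 0).mapIso eV.symm ≪≫ e0⟩,
    ⟨(DerivedCategory.homologyFunctor _ ((g : ℤ) - 1)).mapIso eV.symm ≪≫ eg⟩,
    fun p h0 h1 => (hz p h0 h1).of_iso ((DerivedCategory.homologyFunctor _ p).mapIso eV.symm)⟩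

end Groth.Agent.S15396
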