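import Groth.Statements.S15397
import Groth.Agent.H97.DetSection
import Groth.Agent.Lib.Modules.AffineHom
import Groth.Agent.Lib.Modules.GenStalk
import Groth.Agent.Lib.Curves.GlobalSections
import Groth.Agent.H2.Rigid.GeomIrred
import Groth.Agent.Lib.ProjKoszul.Surj

set_option autoImplicit false
universe u
open CategoryTheory CategoryTheory.Limits MonoidalCategory CartesianMonoidalCategory MonObj GrpObj AlgebraicGeometry
open AbVar Opposite TopologicalSpace

namespace Groth.Agent.S15397

set_option linter.style.haveILetI false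

open Groth.Agent.Lib
open Groth.Agent.Lib.TensorMod.Dual (rs rf rs_smul rs_rs rs_self rf_rf)
open Groth.Agent.Lib.TensorMod.Basis (IsBasis comb)
open Groth.Agent.Lib.Modules.TensorSec (tens)

variable {X : Scheme.{u}} {E L : X.Modules} {r : ℕ}

/-- Germs of a family of sections inducing an epimorphism on an open span the stalks there. -/
theorem span_germ_of_epi {J : Type u} (s : J → (Coh.structureModule X ⟶ E)) (U : X.Opens)
    (h : Epi ((Scheme.Modules.restrictFunctor U.ι).map (Sigma.desc s))) {x : X} (hx : x ∈ U) :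
    Submodule.span (X.presheaf.stalk x) (Set.range fun j => E.presheaf.germ ⊤ x trivial
      ((s j).app ⊤ (1 : Γ(X, ⊤)))) = ⊤ := by
  set S := Submodule.span (X.presheaf.stalk x) (Set.range fun j => E.presheaf.germ ⊤ x trivial
      ((s j).app ⊤ (1 : Γ(X, ⊤)))) with hS
  refine eq_top_iff.mpr fun w _ => ?_
  obtain ⟨y, rfl⟩ : ∃ y : (U : Scheme.{u}), U.ι y = x := ⟨⟨x, hx⟩, rfl⟩
  let π := Sigma.desc s
  obtain ⟨v', hv'⟩ := (Modules.Stalk.epi_iff_stalk_surjective _).mp h y
    ((Modules.StalkRestrict.restrictStalkAddEquiv U.ι E y).symm w)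
  obtain ⟨V, hyV, m, rfl⟩ := TopCat.Presheaf.exists_germ_eq _ v'
  have hw : w = Modules.StalkModule.stalkMapₗ π (U.ι y)
      ((∐ fun _ : J => Coh.structureModule X).presheaf.germ (U.ι ''ᵁ V) (U.ι y) (by simpa) m) := by
    have h1 := congrArg (Modules.StalkRestrict.restrictStalkAddEquiv U.ι E y) hv'
    rw [AddEquiv.apply_symm_apply] at h1
    refine h1.symm.trans ?_
    refine (congrArg (Modules.StalkRestrict.restrictStalkAddEquiv U.ι E y)
      (Modules.Stalk.stalkFunctor_map_germ y ((Scheme.Modules.restrictFunctor U.ι).map π) hyV m)).trans ?_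
    refine (Modules.StalkRestrict.restrictStalkAddEquiv_germ U.ι E hyV _).trans ?_
    exact (Modules.StalkModule.stalkMapₗ_germ π _ _).symm
  rw [hw, ← Submodule.Quotient.mk_eq_zero]
  let q : AddCommGrpCat.of (E.presheaf.stalk (U.ι y)) ⟶ AddCommGrpCat.of (E.presheaf.stalk (U.ι y) ⧸ S) :=
    AddCommGrpCat.ofHom S.mkQ.toAddMonoidHom
  suffices hq : (Modules.Stalk.stalkFunctor X (U.ι y)).map π ≫ q = 0 from ConcreteCategory.congr_hom hq _
  apply (isColimitOfPreserves (Modules.Stalk.stalkFunctor X (U.ι y))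
    (coproductIsCoproduct fun _ : J => Coh.structureModule X)).hom_ext
  rintro ⟨j⟩
  ext v
  refine (Submodule.Quotient.mk_eq_zero S).mpr (?_ : _ ∈ S)
  have hv : Modules.StalkModule.stalkMapₗ (s j) (U.ι y) v ∈ S := by
    refine Submodule.span_mono ?_ (Modules.GenStalk.stalkMap_unit_mem_span (s j) (U.ι y) v)
    rw [Set.singleton_subset_iff]
    exact ⟨j, rfl⟩
  rw [show s j = Sigma.ι (fun _ : J => Coh.structureModule X) j ≫ π from (Sigma.ι_desc _ _).symm,
    Modules.StalkModule.stalkMapₗ_comp] at hv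
  exact hv

/-- Some `r` of the sections have a unit determinant near a point where they generate. -/
theorem exists_det_unit (hE : FlatMod.IsFinLocFreeOfRank r E) {J : Type u} (σ : J → Γ(E, ⊤)) (x : X)
    (hspanx : Submodule.span (X.presheaf.stalk x) (Set.range fun j => E.presheaf.germ ⊤ x trivial (σ j)) = ⊤) :
    ∃ (W : X.affineOpens) (hxW : x ∈ W.1) (b : Fin r → Γ(E, W.1)) (f : Fin r → J)
      (C : Matrix (Fin r) (Fin r) Γ(X, W.1)), IsBasis b ∧
      (∀ i, rs E le_top (σ (f i)) = ∑ l, C i l • b l) ∧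
      IsUnit (X.presheaf.germ W.1 x hxW C.det) := by
  classical
  obtain ⟨U, hxU, ⟨i⟩⟩ := hE x
  obtain ⟨b₀, hb₀⟩ := TensorMod.Basis.exists_basis_of_iso i
  obtain ⟨W, hWU, hxW⟩ := Modules.AffineHom.exists_affine hxU
  let b := fun l => rs E hWU (b₀ l)
  have hb : IsBasis b := hb₀.res hWU
  choose C hC using fun j : J => (hb W.1 le_rfl).2 (rs E le_top (σ j))
  have hs : ∀ j, rs E le_top (σ j) = ∑ l, C j l • b l := fun j => by
    rw [← hC j]
    simp only [comb, rs_self]
  let K := IsLocalRing.ResidueField (X.presheaf.stalk x)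
  let res := IsLocalRing.residue (X.presheaf.stalk x)
  let v : J → (Fin r → K) := fun j l => res (X.presheaf.germ W.1 x hxW (C j l))
  have hspan : Submodule.span K (Set.range v) = ⊤ := by
    refine eq_top_iff.2 fun w _ => ?_
    choose a ha using fun l => IsLocalRing.residue_surjective (w l)
    obtain ⟨c, hc⟩ := Finsupp.mem_span_range_iff_exists_finsupp.1
      (show ∑ l, a l • E.presheaf.germ W.1 x hxW (b l) ∈ Submodule.span (X.presheaf.stalk x)
        (Set.range fun j => E.presheaf.germ ⊤ x trivial (σ j)) by rw [hspanx]; trivial)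
    have hal : a = fun l => c.sum fun j t => t * X.presheaf.germ W.1 x hxW (C j l) := by
      refine (H97.DetSection.bijective_germ_comb hb hxW).1 ?_
      simp only [Fintype.linearCombination_apply, Finsupp.sum, Finset.sum_smul]
      rw [← hc, Finset.sum_comm, Finsupp.sum]
      refine Finset.sum_congr rfl fun j _ => ?_
      rw [← RefHull.SecHom.germ_rs (le_top : W.1 ≤ ⊤) hxW (σ j), hs j, map_sum, Finset.smul_sum]
      exact Finset.sum_congr rfl fun l _ => by rw [Modules.StalkModule.germ_smul, smul_smul]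
    have hw : w = ∑ j ∈ c.support, res (c j) • v j := funext fun l => by
      rw [← ha l, hal, Finset.sum_apply]
      simp only [Finsupp.sum, map_sum, map_mul]
      rfl
    rw [hw]
    exact Submodule.sum_mem _ fun j _ => Submodule.smul_mem _ _ (Submodule.subset_span ⟨j, rfl⟩)
  obtain ⟨g, hg, -, hind⟩ := Submodule.exists_fun_fin_finrank_span_eq K (Set.range v)
  choose f hf using hg
  have hd : Module.finrank K (Submodule.span K (Set.range v)) = r := by
    rw [hspan, finrank_top, Module.finrank_pi, Fintype.card_fin]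
  refine ⟨W, hxW, b, fun i => f (Fin.cast hd.symm i), Matrix.of fun i l => C (f (Fin.cast hd.symm i)) l, hb,
    fun i => hs _, ?_⟩
  refine (isUnit_map_iff res _).1 ?_
  rw [RingHom.map_det, RingHom.map_det, ← Matrix.isUnit_iff_isUnit_det,
    ← Matrix.linearIndependent_rows_iff_isUnit]
  convert hind.comp (Fin.cast hd.symm) (Fin.cast_injective _) using 1
  funext i
  exact hf (Fin.cast hd.symm i)
  rfl

/-- The alternating sum of a coordinate times the maximal minors vanishes. -/
theorem cramer {R : Type*} [CommRing R] (C : Fin (r + 1) → Fin r → R) (l : Fin r) :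
    ∑ j : Fin (r + 1), (-1 : R) ^ (j : ℕ) * C j l * (Matrix.of fun i m => C (j.succAbove i) m).det = 0 := by
  let M : Matrix (Fin (r + 1)) (Fin (r + 1)) R := Matrix.of fun i => Fin.cons (C i l) (C i)
  have h0 : M.det = 0 := Matrix.det_zero_of_column_eq (Fin.succ_ne_zero l).symm fun i => by simp [M]
  rw [Matrix.det_succ_column_zero] at h0
  refine Eq.trans (Finset.sum_congr rfl fun j _ => ?_) h0
  congr 1

/-- The Cramer relation among sections. -/
theorem sum_tens_lam (φ : ∀ U : X.affineOpens, Γ(L, U.1) ≃ₗ[Γ(X, U.1)] ↥(⋀[Γ(X, U.1)]^r Γ(E, U.1)))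
    (U : X.affineOpens) (b : Fin r → Γ(E, U.1)) (v : Fin (r + 1) → Γ(E, U.1))
    (C : Fin (r + 1) → Fin r → Γ(X, U.1)) (hv : ∀ j, v j = ∑ l, C j l • b l) :
    ∑ j : Fin (r + 1), ((-1 : ℤ) ^ (j : ℕ)) • tens (v j) (H97.DetSection.lam φ U fun i => v (j.succAbove i)) = 0 := by
  have h : ∀ j : Fin (r + 1), ((-1 : ℤ) ^ (j : ℕ)) • tens (v j) (H97.DetSection.lam φ U fun i => v (j.succAbove i)) =
      ∑ l, ((-1 : Γ(X, U.1)) ^ (j : ℕ) * C j l * (Matrix.of fun i m => C (j.succAbove i) m).det) •
        tens (b l) (H97.DetSection.lam φ U b) := fun j => by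
    have hl : (H97.DetSection.lam φ U fun i => v (j.succAbove i)) =
        (Matrix.of fun i m => C (j.succAbove i) m).det • H97.DetSection.lam φ U b := by
      rw [← H97.DetSection.lam_comb]
      exact congrArg _ (funext fun i => hv _)
    rw [hl, hv j, Modules.TensorSec.tens_smul_right, Modules.TensorSec.tens_sum_left, Finset.smul_sum,
      Finset.smul_sum]
    refine Finset.sum_congr rfl fun l _ => ?_
    rw [Modules.TensorSec.tens_smul_left, smul_smul, ← Int.cast_smul_eq_zsmul Γ(X, U.1), smul_smul]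
    congr 1
    push_cast
    ring
  simp only [h]
  rw [Finset.sum_comm]
  refine Finset.sum_eq_zero fun l _ => ?_
  rw [← Finset.sum_smul, cramer C l, zero_smul]

/-- Determinants of global sections, as global sections. -/
theorem exists_global_det (φ : ∀ U : X.affineOpens, Γ(L, U.1) ≃ₗ[Γ(X, U.1)] ↥(⋀[Γ(X, U.1)]^r Γ(E, U.1)))
    (hφ : ∀ (U V : X.affineOpens) (h : V.1 ≤ U.1) (e : Fin r → Γ(E, U.1)),
      rs L h ((φ U).symm (exteriorPower.ιMulti _ r e)) =
        (φ V).symm (exteriorPower.ιMulti _ r fun j => rs _ h (e j)))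
    (s : Fin r → Γ(E, ⊤)) :
    ∃ d : Γ(L, ⊤), ∀ U : X.affineOpens,
      rs L le_top d = H97.DetSection.lam φ U fun i => rs E le_top (s i) := by
  obtain ⟨ξ, hξ⟩ := Modules.AffineHom.exists_hom_of_affine (M := Coh.structureModule X) (N := L)
    (fun U => LinearMap.toSpanSingleton Γ(X, U.1) Γ(L, U.1)
      (H97.DetSection.lam φ U fun i => rs E le_top (s i))) fun U V h m => by
    show rs L h ((show Γ(X, U.1) from m) • _) = (show Γ(X, V.1) from rf h m) • _
    rw [rs_smul, H97.DetSection.rs_lam φ hφ U V h]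
    simp only [rs_rs]
  refine ⟨ξ.app ⊤ (1 : Γ(X, ⊤)), fun U => ?_⟩
  rw [← Modules.TensorSec.app_rs ξ (le_top : U.1 ≤ ⊤) (1 : Γ(X, ⊤))]
  refine (congrArg (ξ.app U.1) (map_one (X.presheaf.map (homOfLE (le_top : U.1 ≤ ⊤)).op).hom)).trans ?_
  exact (hξ U _).trans (one_smul _ _)

/-- The kernel element. -/
theorem not_injective (hE : FlatMod.IsFinLocFreeOfRank r E)
    (φ : ∀ U : X.affineOpens, Γ(L, U.1) ≃ₗ[Γ(X, U.1)] ↥(⋀[Γ(X, U.1)]^r Γ(E, U.1)))
    (hφ : ∀ (U V : X.affineOpens) (h : V.1 ≤ U.1) (e : Fin r → Γ(E, U.1)),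
      rs L h ((φ U).symm (exteriorPower.ιMulti _ r e)) =
        (φ V).symm (exteriorPower.ιMulti _ r fun j => rs _ h (e j)))
    (hR : IsField Γ(X, ⊤)) {J : Type u} (σ : J → Γ(E, ⊤)) (x : X)
    (hσ : Submodule.span (X.presheaf.stalk x) (Set.range fun j => E.presheaf.germ ⊤ x trivial (σ j)) = ⊤)
    (hbig : ∀ s : Fin r → Γ(E, ⊤), ∃ t : Γ(E, ⊤), t ∉ Submodule.span Γ(X, ⊤) (Set.range s)) :
    ¬ Function.Injective
      ((toSheafify (Opens.grothendieckTopology ↥X) (CohB1.tensorPre E L).presheaf).app (op ⊤)) := by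
  classical
  obtain ⟨W, hxW, b, f, C, hb, hs, hu⟩ := exists_det_unit hE σ x hσ
  let s : Fin r → Γ(E, ⊤) := fun i => σ (f i)
  obtain ⟨t, ht⟩ := hbig s
  let v : Fin (r + 1) → Γ(E, ⊤) := Fin.snoc s t
  choose d hd using fun j : Fin (r + 1) => exists_global_det φ hφ fun i => v (j.succAbove i)
  -- the element
  let z : TensorProduct Γ(X, ⊤) Γ(E, ⊤) Γ(L, ⊤) :=
    ∑ j : Fin (r + 1), ((-1 : ℤ) ^ (j : ℕ)) • TensorProduct.tmul _ (v j) (d j)
  have hlast : d (Fin.last r) ≠ 0 := fun h0 => by
    have h := hd (Fin.last r) W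
    rw [h0, Modules.TensorSec.rs_zero] at h
    simp only [Fin.succAbove_last, v, Fin.snoc_castSucc] at h
    rw [funext hs, H97.DetSection.lam_comb] at h
    have hg := (H97.DetSection.isGen_lam φ hφ W hb W.1 le_rfl).1 (a₁ := C.det) (a₂ := 0)
      (by simp only [rs_self]; rw [zero_smul]; exact h.symm)
    rw [hg, map_zero] at hu
    exact not_isUnit_zero hu
  have hz : z ≠ 0 := fun h0 => by
    letI := hR.toField
    obtain ⟨p, hp, hp'⟩ := Submodule.exists_dual_map_eq_bot_of_notMem ht inferInstance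
    have hps : ∀ i, p (s i) = 0 := fun i => by
      have : p (s i) ∈ Submodule.map p (Submodule.span Γ(X, ⊤) (Set.range s)) :=
        ⟨_, Submodule.subset_span ⟨i, rfl⟩, rfl⟩
      rwa [hp', Submodule.mem_bot] at this
    have h1 := congrArg ((TensorProduct.lid Γ(X, ⊤) Γ(L, ⊤)).toLinearMap ∘ₗ
      TensorProduct.map p LinearMap.id) h0
    simp only [z, map_sum, map_zsmul, map_zero, LinearMap.comp_apply, LinearEquiv.coe_coe,
      TensorProduct.map_tmul, TensorProduct.lid_tmul, LinearMap.id_apply] at h1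
    rw [Fin.sum_univ_castSucc] at h1
    simp only [v, Fin.snoc_castSucc, Fin.snoc_last, hps, zero_smul, smul_zero, Finset.sum_const_zero,
      zero_add] at h1
    have h2 := (((isUnit_one.neg : IsUnit (-1 : ℤ))).pow _).smul_eq_zero.1 h1
    rcases smul_eq_zero.1 h2 with h3 | h3
    · exact hp h3
    · exact hlast h3
  intro hinj
  refine hz (hinj ?_)
  let g : TensorProduct Γ(X, ⊤) Γ(E, ⊤) Γ(L, ⊤) →+ Γ(CohB1.tensorMod E L, ⊤) :=
    ((toSheafify (Opens.grothendieckTopology ↥X) (CohB1.tensorPre E L).presheaf).app (op ⊤)).hom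
  show g z = g 0
  refine Eq.trans ?_ (map_zero g).symm
  have hz' : g z = ∑ j : Fin (r + 1), ((-1 : ℤ) ^ (j : ℕ)) • tens (v j) (d j) := by
    simp only [z, map_sum, map_zsmul]
    exact Finset.sum_congr rfl fun j _ => congrArg _ (ProjKoszul.Surj.tens_eq_η (v j) (d j)).symm
  rw [hz']
  refine Modules.TensorSec.section_ext (CohB1.tensorMod E L) _ _ fun y _ => ?_
  obtain ⟨U, hyU, ⟨i⟩⟩ := hE y
  obtain ⟨b₀, hb₀⟩ := TensorMod.Basis.exists_basis_of_iso i
  obtain ⟨V, hVU, hyV⟩ := Modules.AffineHom.exists_affine hyU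
  have hb' := hb₀.res hVU
  choose C' hC' using fun j => (hb' V.1 le_rfl).2 (rs E le_top (v j))
  have hv : ∀ j, rs E le_top (v j) = ∑ l, C' j l • rs E hVU (b₀ l) := fun j => by
    rw [← hC' j]
    simp only [comb, rs_self]
  refine ⟨V.1, le_top, hyV, ?_⟩
  refine (Modules.TensorSec.rs_sum (CohB1.tensorMod E L) _ _ _).trans (Eq.trans ?_ (Modules.TensorSec.rs_zero _ _).symm)
  refine Eq.trans (Finset.sum_congr rfl fun j _ => ?_)
    (sum_tens_lam φ V _ (fun j => rs E le_top (v j)) C' hv)
  refine (map_zsmul _ _ _).trans (congrArg _ ?_)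
  exact (Modules.TensorSec.rs_tens _ _ _).trans (congrArg (tens _) (hd j V))

/-- Let k be an algebraically closed field of characteristic zero, A an abelian variety over k (a proper
smooth k-group scheme with geometrically connected fibres), and E a finite locally free O_A-module
of rank r which is generically globally generated: there are a non-empty open subset U of A and a
family of global sections s_j : O_A → E such that the induced map from the direct sum of copies of
O_A to E is an epimorphism after restriction to U. Assume that r is smaller than the dimension over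
k of H^0(A, E), and let D be a determinant of E, that is an r-th exterior power of E. Then the
multiplication map on global sections Γ(A, E) ⊗ Γ(A, D) → Γ(A, E ⊗ D), written as the canonical map
from the global sections of the sectionwise tensor product presheaf (the tensor being over the ring
of global functions Γ(A, O_A)) to the global sections of its sheafification, is not injective. -/
theorem result (k : Type u) [Field k] [IsAlgClosed k] [CharZero k]
    (A : Over (Spec (CommRingCat.of k))) [GrpObj A] [IsProper A.hom] [Smooth A.hom] [GeometricallyConnected A.hom]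
    (E : A.left.Modules) (r : ℕ) (hE : FlatMod.IsFinLocFreeOfRank r E)
    (hgen : ∃ (U : A.left.Opens) (J : Type u) (s : J → (Coh.structureModule A.left ⟶ E)),
      (U : Set ↥A.left).Nonempty ∧ Epi ((Scheme.Modules.restrictFunctor U.ι).map (Sigma.desc s)))
    (hlt : r < @Module.finrank k (Coh.HH A.left E 0) _ _ (@Coh.moduleOver k _ A.left ⟨A.hom⟩ E 0))
    (D : A.left.Modules) (hD : ExtPow.IsExtPow r E D) :
    ¬ Function.Injective
      ((toSheafify (Opens.grothendieckTopology ↥A.left) (CohB1.tensorPre E D).presheaf).app (Opposite.op ⊤)) := by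
  obtain ⟨U, J, s, ⟨x, hxU⟩, hepi⟩ := hgen
  letI : A.left.Over (Spec (CommRingCat.of k)) := ⟨A.hom⟩
  haveI : IsProper (A.left ↘ Spec (CommRingCat.of k)) := ‹IsProper A.hom›
  haveI : ConnectedSpace A.left :=
    GeometricallyConnected.geometrically_connectedSpace (f := A.hom) (𝟙 _) (𝟙 _) A.hom (IsPullback.id_vert A.hom).flip
  haveI : IsIntegral A.left := H2.Rigid.GeomIrred.isIntegral_of_smooth A.hom
  letI : Algebra k Γ(A.left, ⊤) :=
    RingHom.toAlgebra (S := Γ(A.left, ⊤)) (Coh.toGlobal (A.left ↘ Spec (CommRingCat.of k)))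
  haveI : Nonempty A.left := ⟨x⟩
  haveI : Module.Finite k Γ(A.left, ⊤) := Curves.GlobalSections.finite_toGlobal k A.left
  haveI : IsDomain Γ(A.left, ⊤) := inferInstance
  have hbij : Function.Bijective (algebraMap k Γ(A.left, ⊤)) :=
    IsAlgClosed.algebraMap_bijective_of_isIntegral
  obtain ⟨φ, hφ⟩ := hD
  refine not_injective hE φ hφ ?_ (fun j => (s j).app ⊤ (1 : Γ(A.left, ⊤))) x (span_germ_of_epi s U hepi hxU)
    fun v => ?_
  · exact (RingEquiv.ofBijective _ hbij).symm.toMulEquiv.isField (Field.toIsField k)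
  by_contra hall
  push_neg at hall
  letI : Module k Γ(E, ⊤) := Curves.GlobalSections.secModule k (X := A.left) E
  haveI : IsScalarTower k Γ(A.left, ⊤) Γ(E, ⊤) := IsScalarTower.of_algebraMap_smul fun _ _ => rfl
  have htop : Submodule.span k (Set.range v) = ⊤ := eq_top_iff.2 fun t _ => by
    have := hall t
    rwa [← Submodule.restrictScalars_mem k, Submodule.restrictScalars_span k Γ(A.left, ⊤) hbij.2] at this
  have hle : Module.finrank k Γ(E, ⊤) ≤ r := by
    rw [← finrank_top k Γ(E, ⊤), ← htop]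
    exact (finrank_range_le_card v).trans (Fintype.card_fin r).le
  letI : Module k (E.val.obj (op ⊤) : Type u) := Curves.GlobalSections.secModule k (X := A.left) E
  have heq : Module.finrank k (Coh.HH A.left E 0) = Module.finrank k Γ(E, ⊤) :=
    (Curves.GlobalSections.h0Linear k E).finrank_eq
  exact (not_lt.2 hle) (heq ▸ hlt)

end Groth.Agent.S15397
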