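import Groth.Statements.S15399
import Groth.Agent.Lib.Exchange.PicExact.Seq
import Groth.Agent.H95.Torsor.Pic

set_option autoImplicit false
universe u
open CategoryTheory CategoryTheory.Limits AlgebraicGeometry
open PicGrp

namespace Groth.Agent.S15399

/-- Let X be a quasi-compact separated scheme, J a quasi-coherent ideal of O_X with J² = 0 and X₀ the
closed subscheme it cuts out, with inclusion i, and assume that the restriction of global functions
O_X(X) → O_{X₀}(X₀) is surjective. Assume the Picard group laws on X and X₀ and that pullback of
invertible classes along i is multiplicative. Then the kernel of the pullback homomorphism Pic(X) →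
Pic(X₀) is isomorphic, as a group, to the additive group H¹(X, J) (J viewed as an O_X-module),
written multiplicatively. (Existence of a group isomorphism only; the compatibility of the
isomorphism with pullback along morphisms Y → X is not stated.) -/
theorem result (X : Scheme.{u}) [CompactSpace X] [X.IsSeparated]
    (J : X.IdealSheafData) (hJ : J * J = ⊥)
    [PicGrp.Law X] [PicGrp.Law J.subscheme] (hi : PicGrp.PullMul J.subschemeι)
    (hsurj : Function.Surjective J.subschemeι.appTop.hom) :
    Nonempty ((PicGrp.pullHom J.subschemeι hi).ker ≃* Multiplicative (Coh.HH X (ClSub.idealMod J) 1)) := by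
  open Groth.Agent.Lib.Exchange.PicExact in
  haveI : Surjective J.subschemeι := ⟨Set.range_eq_univ.1 (by
    rw [J.range_subschemeι, ← J.support_pow 2 two_ne_zero, pow_two, hJ,
      Scheme.IdealSheafData.support_bot]; rfl)⟩
  have hu : (Units.map J.subschemeι.appTop.hom.toMonoidHom).range = ⊤ := by
    refine MonoidHom.range_eq_top.2 fun v => ?_
    obtain ⟨a, ha⟩ := hsurj v.val
    have hu : IsUnit a := Groth.Agent.H95.Torsor.isUnit_of_app J.subschemeι (U := (⊤ : X.Opens))
      (show IsUnit (J.subschemeι.appTop a) from ha ▸ v.isUnit)
    exact ⟨hu.unit, Units.ext ha⟩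
  have hinj : Function.Injective (Groth.Agent.Lib.Exchange.PicExact.alphaHom J hJ) := by
    rw [← MonoidHom.ker_eq_bot_iff, Groth.Agent.Lib.Exchange.PicExact.alphaHom_ker, MonoidHom.range_eq_bot_iff]
    ext v
    have h := (Groth.Agent.Lib.Exchange.PicExact.delta0_ker J hJ).trans hu
    exact congrArg Multiplicative.toAdd ((MonoidHom.ker_eq_top_iff.1 h) ▸ rfl : _)
  exact ⟨(MulEquiv.subgroupCongr (Groth.Agent.Lib.Exchange.PicExact.pullHom_ker J hJ hi)).trans
    (MonoidHom.ofInjective hinj).symm⟩

end Groth.Agent.S15399
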