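import Groth.Statements.S15401
import Groth.Agent.Lib.EtH1Gm.Pic

set_option autoImplicit false
universe u
open CategoryTheory CategoryTheory.Limits AlgebraicGeometry
open PicGrp

namespace Groth.Agent.S15401

/-- Let X be a quasi-compact and quasi-separated scheme and assume the Picard group law on X. Then the
Picard group of X, written additively, is isomorphic as a group to the first cohomology group of the
multiplicative group sheaf G_m on the small étale site of X. (Existence of a group isomorphism only: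
the isomorphism induced by sending an invertible module to its sheaf of trivialisations is not named
here.) -/
theorem result (X : Scheme.{u}) [CompactSpace X] [QuasiSeparatedSpace X]
    [PicGrp.Law X] :
    Nonempty (Additive (PicLoc.PicSet X) ≃+ EtCoh.H X (EtCoh.Gm X) 1) := by
  open Groth.Agent.Lib.EtH1Gm.Pic in
  have key : ∀ a : PicLoc.PicSet X, ∃ c : EtCoh.H X (EtCoh.Gm X) 1,
      ∀ (L : X.Modules) (hL : PicF.IsInvertible L), a = cls L hL → Rel c L := by
    intro a
    obtain ⟨L₀, hL₀, rfl⟩ := exists_eq_cls a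
    obtain ⟨c, hc⟩ := exists_rel' hL₀
    refine ⟨c, fun L hL he => ?_⟩
    obtain ⟨c', hc'⟩ := exists_rel' hL
    rwa [(hc.eq_iff hc').2 ((cls_eq_cls_iff hL₀ hL).1 he)]
  choose f hf using key
  have hadd : ∀ a b : PicLoc.PicSet X, f (a * b) = f a + f b := by
    intro a b
    obtain ⟨L, hL, rfl⟩ := exists_eq_cls a
    obtain ⟨M, hM, rfl⟩ := exists_eq_cls b
    obtain ⟨N, hN, he⟩ := exists_eq_cls (cls L hL * cls M hM)
    refine ((hf _ N hN he).eq_iff ((hf _ L hL rfl).add (hf _ M hM rfl))).2 ?_
    refine (cl_eq_cl_iff _ _).1 ?_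
    rw [← cls_val N hN, ← he, mul_val]
    rfl
  refine ⟨AddEquiv.ofBijective (AddMonoidHom.mk' (fun a => f (Additive.toMul a))
    fun a b => hadd _ _) ⟨fun a b hab => ?_, fun c => ?_⟩⟩
  · change f (Additive.toMul a) = f (Additive.toMul b) at hab
    obtain ⟨L, hL, ha⟩ := exists_eq_cls (Additive.toMul a)
    obtain ⟨M, hM, hb⟩ := exists_eq_cls (Additive.toMul b)
    refine Additive.toMul.injective ?_
    rw [ha, hb]
    exact (cls_eq_cls_iff hL hM).2 (((hf _ L hL ha).eq_iff (hf _ M hM hb)).1 hab)
  · obtain ⟨L, hL⟩ := Groth.Agent.Lib.EtH1Gm.Pic.exists_rel c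
    refine ⟨Additive.ofMul (cls L hL.isInvertible), ?_⟩
    exact ((hf _ L hL.isInvertible rfl).eq_iff hL).2 ⟨Iso.refl _⟩

end Groth.Agent.S15401
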