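import Groth.Statements.S15404
import Groth.Agent.Lib.H3.UnionPic
import Groth.Agent.S9383
import Groth.Agent.Lib.TensorMod.Pullback
-- import your own Groth.Agent.* helpers here

set_option autoImplicit false
universe u
open CategoryTheory CategoryTheory.Limits AlgebraicGeometry
open PicGrp

namespace Groth.Agent.S15404

open CategoryTheory.Limits Groth.Agent.Lib

/-- A scheme is the pushout of two closed subschemes covering it. -/
theorem isPushout_sub {X : Scheme.{u}} (I J : X.IdealSheafData) (hIJ : I ⊓ J = ⊥) :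
    IsPushout (Scheme.IdealSheafData.inclusion (le_sup_left : I ≤ I ⊔ J))
      (Scheme.IdealSheafData.inclusion (le_sup_right : J ≤ I ⊔ J)) I.subschemeι J.subschemeι := by
  haveI : IsIso (I ⊓ J).subschemeι := (AlgebraicGeometry.Scheme.isIso_subschemeι_iff_eq_bot _).2 hIJ
  refine (Groth.Agent.S9383.result X I J).of_iso (Iso.refl _) (Iso.refl _) (Iso.refl _)
    (asIso (I ⊓ J).subschemeι) ?_ ?_ ?_ ?_ <;> simp [Scheme.IdealSheafData.inclusion_subschemeι]

/-- Let π : X ⟶ B be quasi-compact and separated and let X be the union of the closed subschemes Y =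
V(I) and Z = V(J), I and J quasi-coherent ideals with I ∩ J = 0 (so that O_X → O_Y × O_Z is
injective with cokernel O_W, W = Y ∩ Z = V(I + J)); assume that W is flat, proper and of finite
presentation over B, that W → B has a section, and that the geometric fibres of W → B are reduced
and connected. Assume the Picard group laws on B, X, Y, Z, W and that pullback of invertible classes
along π, along the inclusions of Y, Z in X and of W in Y, Z, and along the structure maps of Y, Z, W
is multiplicative. Then the square of groups formed by Pic(X)/π^*Pic(B), Pic(Y)/Pic(B),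
Pic(Z)/Pic(B) and Pic(W)/Pic(B) under restriction is cartesian: (a) an invertible class on X whose
restrictions to Y and to Z are pulled back from B is itself pulled back from B; (b) for invertible
classes y on Y and z on Z whose restrictions to W agree up to a class pulled back from B, there is a
class on X whose restrictions to Y and Z are y and z up to classes pulled back from B. (The
published statement asserts this for the functor T ↦ Pic(X ×_B T)/Pic(T) on all B-schemes T and
assumes only that π is quasi-compact and separated, W flat over B with a section and geometrically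
reduced connected fibres; its proof uses that every global unit on W comes from B, through a lemma
on flat proper morphisms, and without properness the assertion fails — over a field, two affine
planes glued along the hyperbola ts = 1 have non-trivial Picard group — so W is taken proper and of
finite presentation over B here (finite presentation being automatic over a locally Noetherian
base), and only the value at T = B is stated.) -/
theorem result {X B : Scheme.{u}} (π : X ⟶ B)
    [QuasiCompact π] [IsSeparated π] (I J : X.IdealSheafData) (hIJ : I ⊓ J = ⊥)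
    [Flat ((I ⊔ J).subschemeι ≫ π)] [IsProper ((I ⊔ J).subschemeι ≫ π)]
    [LocallyOfFinitePresentation ((I ⊔ J).subschemeι ≫ π)]
    (s : B ⟶ (I ⊔ J).subscheme) (hs : s ≫ (I ⊔ J).subschemeι ≫ π = 𝟙 B)
    (hfib : ∀ (K : Type u) [Field K] [IsAlgClosed K] (g : Spec (CommRingCat.of K) ⟶ B),
      IsReduced (pullback ((I ⊔ J).subschemeι ≫ π) g) ∧ ConnectedSpace ↥(pullback ((I ⊔ J).subschemeι ≫ π) g))
    [PicGrp.Law B] [PicGrp.Law X] [PicGrp.Law I.subscheme] [PicGrp.Law J.subscheme] [PicGrp.Law (I ⊔ J).subscheme]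
    (hπ : PicGrp.PullMul π) (hY : PicGrp.PullMul I.subschemeι) (hZ : PicGrp.PullMul J.subschemeι)
    (hπY : PicGrp.PullMul (I.subschemeι ≫ π)) (hπZ : PicGrp.PullMul (J.subschemeι ≫ π))
    (hπW : PicGrp.PullMul ((I ⊔ J).subschemeι ≫ π))
    (hWY : PicGrp.PullMul (Scheme.IdealSheafData.inclusion (le_sup_left : I ≤ I ⊔ J)))
    (hWZ : PicGrp.PullMul (Scheme.IdealSheafData.inclusion (le_sup_right : J ≤ I ⊔ J))) :
    (∀ c : PicLoc.PicSet X,
        (∃ b₁ : PicLoc.PicSet B, PicGrp.pullHom I.subschemeι hY c = PicGrp.pullHom (I.subschemeι ≫ π) hπY b₁) →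
        (∃ b₂ : PicLoc.PicSet B, PicGrp.pullHom J.subschemeι hZ c = PicGrp.pullHom (J.subschemeι ≫ π) hπZ b₂) →
          ∃ b : PicLoc.PicSet B, c = PicGrp.pullHom π hπ b) ∧
      (∀ (y : PicLoc.PicSet I.subscheme) (z : PicLoc.PicSet J.subscheme),
        (∃ b : PicLoc.PicSet B,
            PicGrp.pullHom (Scheme.IdealSheafData.inclusion (le_sup_left : I ≤ I ⊔ J)) hWY y =
              PicGrp.pullHom (Scheme.IdealSheafData.inclusion (le_sup_right : J ≤ I ⊔ J)) hWZ z *
                PicGrp.pullHom ((I ⊔ J).subschemeι ≫ π) hπW b) →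
          ∃ (c : PicLoc.PicSet X) (b₁ b₂ : PicLoc.PicSet B),
            PicGrp.pullHom I.subschemeι hY c = y * PicGrp.pullHom (I.subschemeι ≫ π) hπY b₁ ∧
              PicGrp.pullHom J.subschemeι hZ c = z * PicGrp.pullHom (J.subschemeι ≫ π) hπZ b₂) := by
  set i := Scheme.IdealSheafData.inclusion (le_sup_left : I ≤ I ⊔ J) with hidef
  set j := Scheme.IdealSheafData.inclusion (le_sup_right : J ≤ I ⊔ J) with hjdef
  have hi : i ≫ I.subschemeι = (I ⊔ J).subschemeι := Scheme.IdealSheafData.inclusion_subschemeι _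
  have hj : j ≫ J.subschemeι = (I ⊔ J).subschemeι := Scheme.IdealSheafData.inclusion_subschemeι _
  haveI : IsClosedImmersion i := by
    haveI : IsClosedImmersion (i ≫ I.subschemeι) := by rw [hi]; infer_instance
    exact IsClosedImmersion.of_comp i I.subschemeι
  haveI : IsClosedImmersion j := by
    haveI : IsClosedImmersion (j ≫ J.subschemeι) := by rw [hj]; infer_instance
    exact IsClosedImmersion.of_comp j J.subschemeι
  have hP := isPushout_sub I J hIJ
  have hpo := Pinch.RingedPushout.isPushout_toSS (Pinch.RingedPushout.gluedBy_of_isPushout hP)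
  let πW := (I ⊔ J).subschemeι ≫ π
  have hiW : i ≫ I.subschemeι ≫ π = πW := by rw [← Category.assoc, hi]
  have hjW : j ≫ J.subschemeι ≫ π = πW := by rw [← Category.assoc, hj]
  -- pulling classes back in two steps
  have two : ∀ {A C D : Scheme.{u}} [PicGrp.Law A] [PicGrp.Law C] [PicGrp.Law D] (g : A ⟶ C)
      (g' : C ⟶ D) (v : A ⟶ D) (hg : PicGrp.PullMul g) (hg' : PicGrp.PullMul g') (hv : PicGrp.PullMul v),
      g ≫ g' = v → ∀ c, PicGrp.pullHom g hg (PicGrp.pullHom g' hg' c) = PicGrp.pullHom v hv c := by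
    intro A C D _ _ _ g g' v hg hg' hv e c
    subst e
    exact (PicGrp.pullHom_comp_apply g g' hg hg' hv c).symm
  have hIι : PicGrp.PullMul (I ⊔ J).subschemeι := TensorMod.Pullback.pullMul _
  refine ⟨fun c ⟨b₁, h₁⟩ ⟨b₂, h₂⟩ => ?_, fun y z ⟨b, hb⟩ => ?_⟩
  · have e : PicGrp.pullHom πW hπW b₁ = PicGrp.pullHom πW hπW b₂ := by
      rw [← two i (I.subschemeι ≫ π) πW hWY hπY hπW hiW, ← h₁, two i I.subschemeι _ hWY hY hIι hi,
        ← two j J.subschemeι _ hWZ hZ hIι hj, h₂, two j (J.subschemeι ≫ π) πW hWZ hπZ hπW hjW]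
    have hsm : PicGrp.PullMul s := TensorMod.Pullback.pullMul _
    have hb12 : b₁ = b₂ := by
      have := congrArg (PicGrp.pullHom s hsm) e
      rwa [two s πW _ hsm hπW (PicGrp.pullMul_id B) hs, two s πW _ hsm hπW (PicGrp.pullMul_id B) hs,
        PicGrp.pullHom_id_apply, PicGrp.pullHom_id_apply] at this
    subst hb12
    refine ⟨b₁, mul_inv_eq_one.1 ?_⟩
    obtain ⟨M, hM, hMc⟩ := PicGrp.exists_eq_cls (c * (PicGrp.pullHom π hπ b₁)⁻¹)
    have triv : ∀ {A : Scheme.{u}} [PicGrp.Law A] (g : A ⟶ X) (hg : PicGrp.PullMul g)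
        (hgπ : PicGrp.PullMul (g ≫ π)), PicGrp.pullHom g hg c = PicGrp.pullHom (g ≫ π) hgπ b₁ →
        Nonempty ((Scheme.Modules.pullback g).obj M ≅ (Scheme.Modules.pullback g).obj (Coh.structureModule X)) := by
      intro A _ g hg hgπ h
      obtain ⟨α⟩ := (PicGrp.cls_eq_one_iff (PicLoc.isInvertible_pullback g hM)).1 (by
        rw [← PicGrp.pullHom_cls g hg M hM, ← hMc, map_mul, map_inv,
          two g π _ hg hπ hgπ rfl, h, mul_inv_cancel])
      exact ⟨α ≪≫ (PicLoc.pullbackStructureIso g).symm⟩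
    obtain ⟨eX⟩ := triv I.subschemeι hY hπY h₁
    obtain ⟨eY⟩ := triv J.subschemeι hZ hπZ h₂
    haveI : IsProper ((j ≫ J.subschemeι) ≫ π) := by rw [hj]; infer_instance
    haveI : Flat ((j ≫ J.subschemeι) ≫ π) := by rw [hj]; infer_instance
    haveI : LocallyOfFinitePresentation ((j ≫ J.subschemeι) ≫ π) := by rw [hj]; infer_instance
    have hs' : s ≫ (j ≫ J.subschemeι) ≫ π = 𝟙 B := by rw [hj]; exact hs
    haveI : Surjective ((j ≫ J.subschemeι) ≫ π) := ⟨fun x => ⟨s x, by
      rw [← Scheme.Hom.comp_apply, hs']; rfl⟩⟩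
    have hH : H2.Rigid.H0 ((j ≫ J.subschemeι) ≫ π) := H3.UnionPic.h0_of_geometric _ s hs' (by
      rw [hj]; exact hfib)
    rw [hMc]
    exact (PicGrp.cls_eq_one_iff hM).2 (H3.UnionPic.nonempty_iso hP.w hpo π
      (H2.Rigid.PushFlat.push_of_flat_fp _ hH ⊤) hM (PicLoc.isInvertible_structureModule X) eX eY)
  · obtain ⟨LX, hLX, rfl⟩ := PicGrp.exists_eq_cls y
    obtain ⟨LY, hLY, hLYc⟩ := PicGrp.exists_eq_cls (z * PicGrp.pullHom (J.subschemeι ≫ π) hπZ b)
    obtain ⟨σ⟩ : Nonempty ((Scheme.Modules.pullback i).obj LX ≅ (Scheme.Modules.pullback j).obj LY) := by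
      rw [← PicGrp.cls_eq_cls_iff (PicLoc.isInvertible_pullback i hLX) (PicLoc.isInvertible_pullback j hLY),
        ← PicGrp.pullHom_cls i hWY LX hLX, ← PicGrp.pullHom_cls j hWZ LY hLY, ← hLYc, map_mul,
        two j (J.subschemeι ≫ π) πW hWZ hπZ hπW hjW]
      exact hb
    obtain ⟨M, hM, ⟨eX⟩, ⟨eY⟩⟩ := H3.UnionPic.exists_glue hP.w hpo hLX hLY σ
    refine ⟨PicGrp.cls M hM, 1, b, ?_, ?_⟩
    · rw [map_one, mul_one, PicGrp.pullHom_cls, PicGrp.cls_eq_cls_iff]
      exact ⟨eX⟩
    · rw [hLYc, PicGrp.pullHom_cls, PicGrp.cls_eq_cls_iff]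
      exact ⟨eY⟩

end Groth.Agent.S15404
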