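import Groth.Statements.S15405
import Groth.Agent.Lib.SBTwist.Pic

set_option autoImplicit false
universe u
open CategoryTheory CategoryTheory.Limits AlgebraicGeometry
open ASBun

namespace Groth.Agent.S15405

open W4c1astiltbs12 in
/-- Let X be proper over a field k, K an algebraic closure of k such that X_K is connected, and π : X_K
→ X the projection; assume the Picard group laws on X and on X_K and that pullback of invertible
classes along π is multiplicative. Suppose that Pic(X_K) is infinite cyclic, generated by the class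
of an invertible module L; that J is an invertible O_X-module with π^*J ≅ L^{⊗r} for some r ≥ 1; and
that there is an indecomposable finite locally free O_X-module (nonzero, and in any direct-sum
decomposition one summand is zero) whose pullback to X_K is isomorphic to L^{⊕d} for some d. Then:
(a) every indecomposable finite locally free O_X-module E whose pullback to X_K is a finite direct
sum of invertible modules is isomorphic to M ⊗ J_a, where 0 ≤ j < r, M is an indecomposable finite
locally free O_X-module with π^*M ≅ (L^{⊗j})^{⊕d} for some d, a is an integer and J_a is an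
invertible O_X-module whose class in Pic(X) is the a-th power of the class of J; (b) the integers a
and j in such an expression are determined by E. (The published statement takes r to be the least
such integer, the period, and leaves the connectedness of X_K implicit; the argument treats
invertible modules on X_K as indecomposable, whence that hypothesis, and does not use the minimality
of r.) -/
theorem result (k : Type u) [Field k] {X : Scheme.{u}}
    (p : X ⟶ Spec (CommRingCat.of k)) [IsProper p] (K : Type u) [Field K] [Algebra k K] [IsAlgClosure k K]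
    [ConnectedSpace ↥(W4bk4gw11416.baseChange p K)]
    [PicGrp.Law X] [PicGrp.Law (W4bk4gw11416.baseChange p K)] (hπ : PicGrp.PullMul (proj p K))
    (L : (W4bk4gw11416.baseChange p K).Modules) (hL : PicF.IsInvertible L)
    (e : PicLoc.PicSet (W4bk4gw11416.baseChange p K) ≃* Multiplicative ℤ)
    (he : e (PicGrp.cls L hL) = Multiplicative.ofAdd 1)
    (r : ℕ) (hr : 1 ≤ r) (J : X.Modules) (hJ : PicF.IsInvertible J)
    (hJL : Nonempty (bcMod p K J ≅ CohB1.tensorPow L r))
    (hML : ∃ (M₁ : X.Modules) (d₁ : ℕ), FlatMod.IsFinLocFree M₁ ∧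
      (¬ IsZero M₁ ∧ ∀ A B : X.Modules, Nonempty (M₁ ≅ A ⊞ B) → IsZero A ∨ IsZero B) ∧
      Nonempty (bcMod p K M₁ ≅ pow L d₁))
    (E : X.Modules) (hE : FlatMod.IsFinLocFree E)
    (hEi : (¬ IsZero E ∧ ∀ A B : X.Modules, Nonempty (E ≅ A ⊞ B) → IsZero A ∨ IsZero B))
    (n : ℕ) (Ls : Fin n → (W4bk4gw11416.baseChange p K).Modules) (hLs : ∀ i, PicF.IsInvertible (Ls i))
    (hEs : Nonempty (bcMod p K E ≅ ∐ Ls)) :
    (∃ (a : ℤ) (j : ℕ), j < r ∧ ∃ (M : X.Modules) (d : ℕ) (Ja : X.Modules) (hJa : PicF.IsInvertible Ja),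
      FlatMod.IsFinLocFree M ∧ (¬ IsZero M ∧ ∀ A B : X.Modules, Nonempty (M ≅ A ⊞ B) → IsZero A ∨ IsZero B) ∧
      Nonempty (bcMod p K M ≅ pow (CohB1.tensorPow L j) d) ∧
      PicGrp.cls Ja hJa = PicGrp.cls J hJ ^ a ∧ Nonempty (E ≅ CohB1.tensorMod M Ja)) ∧
    (∀ (a a' : ℤ) (j j' : ℕ) (M M' : X.Modules) (d d' : ℕ) (Ja Ja' : X.Modules)
      (hJa : PicF.IsInvertible Ja) (hJa' : PicF.IsInvertible Ja'),
      j < r → j' < r →
      (¬ IsZero M ∧ ∀ A B : X.Modules, Nonempty (M ≅ A ⊞ B) → IsZero A ∨ IsZero B) → (¬ IsZero M' ∧ ∀ A B : X.Modules, Nonempty (M' ≅ A ⊞ B) → IsZero A ∨ IsZero B) →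
      Nonempty (bcMod p K M ≅ pow (CohB1.tensorPow L j) d) → Nonempty (bcMod p K M' ≅ pow (CohB1.tensorPow L j') d') →
      PicGrp.cls Ja hJa = PicGrp.cls J hJ ^ a → PicGrp.cls Ja' hJa' = PicGrp.cls J hJ ^ a' →
      Nonempty (E ≅ CohB1.tensorMod M Ja) → Nonempty (E ≅ CohB1.tensorMod M' Ja') → a = a' ∧ j = j') := by
  open Groth.Agent.Lib CohDelta SBTwist.Generic in
  exact (by
    haveI : IsAlgClosed K := IsAlgClosure.isAlgClosed k
    haveI : Algebra.IsAlgebraic k K := IsAlgClosure.isAlgebraic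
    haveI : IsLocallyNoetherian X := LocallyOfFiniteType.isLocallyNoetherian p
    obtain ⟨eE⟩ := hEs
    obtain ⟨M₁, d₁, hM₁, hM₁i, ⟨eM₁⟩⟩ := hML
    have hpos : ∀ {W : X.Modules} {N : (W4bk4gw11416.baseChange p K).Modules} {d : ℕ},
        Coh.IsCoh W → ¬ IsZero W → (bcMod p K W ≅ pow N d) → 0 < d := fun hW hi i =>
      Nat.pos_of_ne_zero fun h => by
        subst h
        exact hi (KBC.isZero_of_bc p K hW
          (IsZero.of_iso ((IsZero.iff_id_eq_zero _).mpr (Sigma.hom_ext _ _ fun i => i.elim0)) i))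
    have hr0 : (r : ℤ) ≠ 0 := by omega
    let q := PicGrp.cls L hL
    have hP : ∀ j : ℕ, PicGrp.cls (CohB1.tensorPow L j) (TensorMod.Invertible.isInvertible_tensorPow hL j) = q ^ j :=
      fun j => Subtype.ext (PicGrp.cls_pow_val hL j).symm
    -- the pullback of powers of `J`
    have hJa : ∀ (a : ℤ) (Ja : X.Modules) (h : PicF.IsInvertible Ja), PicGrp.cls Ja h = PicGrp.cls J hJ ^ a →
        PicGrp.cls (bcMod p K Ja) (PicLoc.isInvertible_pullback (proj p K) h) = q ^ ((r : ℤ) * a) := by
      intro a Ja h hcls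
      have hJq : PicGrp.cls (bcMod p K J) (PicLoc.isInvertible_pullback (proj p K) hJ) = q ^ r :=
        ((PicGrp.cls_eq_cls_iff _ _).2 hJL).trans (hP r)
      rw [← PicGrp.pullHom_cls (proj p K) hπ Ja h, hcls, map_zpow, PicGrp.pullHom_cls, hJq, ← zpow_natCast,
        ← zpow_mul]
    have hty : ∀ (a : ℤ) (j : ℕ) (N : (W4bk4gw11416.baseChange p K).Modules) (hN : PicF.IsInvertible N),
        PicGrp.cls N hN = q ^ ((j : ℤ) + r * a) → ∀ (Ja : X.Modules) (h : PicF.IsInvertible Ja),
          PicGrp.cls Ja h = PicGrp.cls J hJ ^ a →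
          Nonempty (CohB1.tensorMod (CohB1.tensorPow L j) (bcMod p K Ja) ≅ N) := by
      intro a j N hN hcls Ja h hJcls
      refine (PicGrp.cl_eq_cl_iff _ _).1 ((PicGrp.cls_mul_cls_val (TensorMod.Invertible.isInvertible_tensorPow hL j)
        (PicLoc.isInvertible_pullback (proj p K) h)).symm.trans ?_)
      refine congrArg Subtype.val (Eq.trans ?_ hcls.symm)
      rw [hP, hJa a Ja h hJcls, ← zpow_natCast, ← zpow_add]
    have hexp : ∀ i, ∃ (a : ℤ) (j : ℕ), j < r ∧ PicGrp.cls (Ls i) (hLs i) = q ^ ((j : ℤ) + r * a) := fun i => by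
      let z := Multiplicative.toAdd (e (PicGrp.cls (Ls i) (hLs i)))
      refine ⟨z / r, (z % r).toNat, ?_, ?_⟩
      · have h1 := Int.emod_lt_of_pos z (show (0 : ℤ) < r by omega)
        have h2 := Int.emod_nonneg z hr0
        omega
      · apply e.injective
        rw [map_zpow, he]
        refine Multiplicative.toAdd.injective ?_
        rw [toAdd_zpow, toAdd_ofAdd, smul_eq_mul, mul_one, Int.toNat_of_nonneg (Int.emod_nonneg z hr0)]
        show z = _
        rw [Int.emod_add_mul_ediv]
    choose a j hj hcls using hexp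
    choose Ja hJai hJacls using fun i => PicGrp.exists_eq_cls (PicGrp.cls J hJ ^ a i)
    choose E₀ c hE₀ hc eE₀ using fun i =>
      exists_type_pow p K hM₁ (hpos (Perfect.Coherent.isCoh_of_isFinLocFree hM₁) hM₁i.1 eM₁) eM₁ (j i)
    choose G m d hG hGi hd hcd eG using fun i =>
      exists_ind p K (TensorMod.Invertible.isInvertible_tensorPow hL (j i)) (hE₀ i) (hc i) (eE₀ i).some
    refine ⟨?_, ?_⟩
    · obtain ⟨i, hi⟩ := exists_iso_of_split p K hE hEi eE (fun i => CohB1.tensorMod (G i) (Ja i))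
        (fun i => TensorMod.LocFree.isFinLocFree_tensorMod (hG i)
          (TensorMod.LocFree.of_rank (TensorMod.LocFree.of_isInvertible (hJai i))))
        (fun i => ind_tensor (hJai i) (hGi i)) d hd
        (fun i => type_tensor p K (eG i).some (hty (a i) (j i) (Ls i) (hLs i) (hcls i) (Ja i) (hJai i) (hJacls i).symm))
      exact ⟨a i, j i, hj i, G i, d i, Ja i, hJai i, hG i, hGi i, eG i, (hJacls i).symm, hi⟩
    · intro a a' j j' M M' d d' Ja Ja' hJa1 hJa2 hjr hjr' _ _ eM eM' hc1 hc2 i1 i2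
      obtain ⟨Q, hQ, hQc⟩ := PicGrp.exists_eq_cls (q ^ ((j : ℤ) + r * a))
      obtain ⟨Q', hQ', hQc'⟩ := PicGrp.exists_eq_cls (q ^ ((j' : ℤ) + r * a'))
      obtain ⟨t⟩ := type_tensor p K eM.some (hty a j Q hQ hQc.symm Ja hJa1 hc1)
      obtain ⟨t'⟩ := type_tensor p K eM'.some (hty a' j' Q' hQ' hQc'.symm Ja' hJa2 hc2)
      let ψ : bcMod p K E ≅ pow Q d := (Scheme.Modules.pullback (proj p K)).mapIso i1.some ≪≫ t
      let ψ' : bcMod p K E ≅ pow Q' d' := (Scheme.Modules.pullback (proj p K)).mapIso i2.some ≪≫ t'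
      have hd0 : 0 < d := hpos (Perfect.Coherent.isCoh_of_isFinLocFree hE) hEi.1 ψ
      haveI : IsProper (W4bk4gw11416.baseChangeTo p K) := MorphismProperty.pullback_snd p _ ‹IsProper p›
      obtain ⟨u⟩ := KBC.iso_of_pow_iso_pow (W4bk4gw11416.baseChangeTo p K)
        (Ample.GG.isCoh_of_isInvertible hQ) (Ample.GG.isCoh_of_isInvertible hQ')
        (ind_invertible hQ) (ind_invertible hQ') hd0 (ψ.symm ≪≫ ψ')
      have heq : q ^ ((j : ℤ) + r * a) = q ^ ((j' : ℤ) + r * a') := by
        rw [hQc, hQc']; exact (PicGrp.cls_eq_cls_iff hQ hQ').2 ⟨u⟩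
      have h2 := congrArg (fun x => Multiplicative.toAdd (e x)) heq
      simp only [map_zpow, toAdd_zpow, q, he, toAdd_ofAdd, smul_eq_mul, mul_one] at h2
      have h3 : ((j : ℤ) + r * a) % r = ((j' : ℤ) + r * a') % r := by rw [h2]
      rw [Int.add_mul_emod_self_left, Int.add_mul_emod_self_left,
        Int.emod_eq_of_lt (by omega) (by omega), Int.emod_eq_of_lt (by omega) (by omega)] at h3
      have hjj : j = j' := by omega
      subst hjj
      exact ⟨mul_left_cancel₀ hr0 (by linarith), rfl⟩)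

end Groth.Agent.S15405
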