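import Groth.Statements.S3501
import Groth.Agent.Lib.PicSurj.Connected
import Groth.Agent.Lib.PicSurj.Noeth
import Groth.Agent.S2431

set_option autoImplicit false
universe u
open CategoryTheory CategoryTheory.Limits AlgebraicGeometry Opposite
open EtCd

namespace Groth.Agent.S3501

/-- Let A be a Noetherian henselian local ring, f : X → Spec A a proper morphism all of whose fibres
have dimension at most 1, and i : X₀' → X a closed immersion whose image is exactly the closed fibre
of f. Then Pic(X) → Pic(X₀') is surjective: every invertible module on X₀' is isomorphic to the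
pullback of an invertible module on X. -/
theorem result (A : Type u) [CommRing A] [IsNoetherianRing A]
    [HenselianLocalRing A] (X : Scheme.{u}) (f : X ⟶ Spec (CommRingCat.of A)) [IsProper f]
    (hrel : ∀ s : Spec (CommRingCat.of A),
      topologicalKrullDim ↥(pullback f ((Spec (CommRingCat.of A)).fromSpecResidueField s)) ≤ 1)
    (X₀' : Scheme.{u}) (i : X₀' ⟶ X) [IsClosedImmersion i]
    (hi : Set.range i.base = f.base ⁻¹' {IsLocalRing.closedPoint A})
    (c : PicF.Cl X₀') (hc : PicF.IsInvertibleCl c) :
    ∃ d : PicF.Cl X, PicF.IsInvertibleCl d ∧ PicF.pullCl i d = c := by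
  obtain ⟨L, rfl, hL⟩ := hc
  haveI : IsNoetherian X := by
    haveI := LocallyOfFiniteType.isLocallyNoetherian f
    haveI := QuasiCompact.compactSpace_of_compactSpace f
    exact {}
  have hb : Lib.PicSurj.Local.MeetsConn i := fun y => by
    have h := Lib.PicSurj.Connected.meetsConn (fun g _ _ h => (S2431.result g h).1) (fun A _ _ Z g _ => Lib.PicSurj.Noeth.isNoetherianRing_Γ A g) f y
    rw [← hi] at h
    exact ⟨h.nonempty, h⟩
  have hd : topologicalKrullDim X₀' ≤ 1 := by
    let s₀ : Spec (CommRingCat.of A) := IsLocalRing.closedPoint A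
    let p := pullback.fst f ((Spec (CommRingCat.of A)).fromSpecResidueField s₀)
    have hr : ∀ x : X₀', ∃ z, p.base z = i.base x := fun x => by
      have : i.base x ∈ Set.range p.base := by
        rw [Scheme.Pullback.range_fst, Scheme.range_fromSpecResidueField]
        exact hi.le ⟨x, rfl⟩
      exact this
    choose φ hφ using hr
    have hφi : Topology.IsInducing φ := by
      rw [← p.isEmbedding.isInducing.of_comp_iff]
      convert i.isClosedEmbedding.isInducing using 1
      exact funext hφ
    exact hφi.topologicalKrullDim_le.trans (hrel s₀)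
  obtain ⟨L', hL', ⟨e⟩⟩ := Lib.PicSurj.Main.exists_lift i hd hb hL
  exact ⟨PicF.cl L', ⟨L', rfl, hL'⟩, Quot.sound ⟨e⟩⟩

end Groth.Agent.S3501
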