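import Groth.Statements.S15407
import Groth.Agent.S3501
import Groth.Agent.S2223
import Groth.Agent.Lib.ModelFibre.PicModel
-- import your own Groth.Agent.* helpers here

set_option autoImplicit false
set_option linter.style.haveILetI false
universe u
open CategoryTheory CategoryTheory.Limits AlgebraicGeometry
open Models

namespace Groth.Agent.S15407

/-- Let R be a complete discrete valuation ring with algebraically closed residue field k and fraction
field K, C a smooth proper K-scheme of Krull dimension one (a curve) with H⁰(C, O_C) = K and dim_K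
H¹(C, O_C) ≥ 2, X → Spec R a regular proper model of C, X_k = X ×_R Spec k its closed fibre with
inclusion i : X_k → X, and q ≥ 1 an integer which is nonzero in k. Assume the Picard group laws on X
and X_k and that pullback of invertible classes along i is multiplicative. Then (a) the restriction
Pic(X) → Pic(X_k) is surjective, and (b) its kernel N is uniquely q-divisible: for every c in N
there is exactly one d in N with d^q = c. (The published statement introduces N as the kernel of
Pic⁰(X) → Pic⁰(X_k), Pic⁰ denoting the classes of degree 0 on every component of the closed fibre,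
and asserts that this map is surjective; a class trivial on X_k has degree 0 on every component, so
N is the kernel in (b), and (a) is the equivalent surjectivity of the unrestricted map.) -/
theorem result
    (R : Type u) [CommRing R] [IsDomain R] [IsDiscreteValuationRing R]
    [IsAdicComplete (IsLocalRing.maximalIdeal R) R] (hk : IsAlgClosed (IsLocalRing.ResidueField R))
    (C : Scheme.{u}) (fC : C ⟶ Spec (CommRingCat.of (FractionRing R))) [IsProper fC] [Smooth fC]
    (hC0 : Models.hRank (FractionRing R) C fC (Coh.structureModule C) 0 = 1)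
    (hg2 : 2 ≤ Models.curveGenus (FractionRing R) C fC) (hC1 : topologicalKrullDim C = 1)
    (X : Scheme.{u}) (p : X ⟶ Spec (CommRingCat.of R)) (hX : Models.IsRegularProperModel R X p C fC)
    (q : ℕ) (hq : 1 ≤ q) (hqk : (q : IsLocalRing.ResidueField R) ≠ 0)
    [PicGrp.Law X]
    [PicGrp.Law (pullback p (Spec.map (CommRingCat.ofHom (algebraMap R (IsLocalRing.ResidueField R)))))]
    (hi : PicGrp.PullMul (pullback.fst p (Spec.map (CommRingCat.ofHom (algebraMap R (IsLocalRing.ResidueField R)))))) :
    Function.Surjective (PicGrp.pullHom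
        (pullback.fst p (Spec.map (CommRingCat.ofHom (algebraMap R (IsLocalRing.ResidueField R))))) hi) ∧
      ∀ c ∈ (PicGrp.pullHom
          (pullback.fst p (Spec.map (CommRingCat.ofHom (algebraMap R (IsLocalRing.ResidueField R))))) hi).ker,
        ∃! d : PicLoc.PicSet X,
          d ∈ (PicGrp.pullHom
            (pullback.fst p (Spec.map (CommRingCat.ofHom (algebraMap R (IsLocalRing.ResidueField R))))) hi).ker ∧
          d ^ q = c := by
  have hq0 : 0 < q := hq
  obtain ⟨hH0, hconn⟩ := Groth.Agent.Lib.ModelFibre.CurveOfModel.of_hRank_one fC hC0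
  haveI := hconn
  haveI : AlgebraicGeometry.IsIntegral C := Groth.Agent.Lib.RG.GeomComp.isIntegral_of_smooth_connected fC
  have hC : Curve.IsSmoothProperCurve (FractionRing R) C fC := ⟨inferInstance, inferInstance, inferInstance, hC1⟩
  haveI : IsProper (Over.mk p).hom := hX.2.1
  haveI : IsProper p := hX.2.1
  haveI : Flat (Over.mk p).hom := (Groth.Agent.Lib.ModelFibre.Inter.IsSurf.of_model hC hX).flat
  haveI := Groth.Agent.Lib.ModelFibre.PicModel.henselianLocalRing R
  haveI : IsClosedImmersion (Spec.map (CommRingCat.ofHom (algebraMap R (IsLocalRing.ResidueField R)))) :=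
    IsClosedImmersion.spec_of_surjective _ IsLocalRing.residue_surjective
  haveI : IsClosedImmersion (Limits.pullback.fst p
      (Spec.map (CommRingCat.ofHom (algebraMap R (IsLocalRing.ResidueField R))))) :=
    MorphismProperty.of_isPullback (IsPullback.of_hasPullback p
      (Spec.map (CommRingCat.ofHom (algebraMap R (IsLocalRing.ResidueField R))))).flip inferInstance
  refine ⟨fun d => ?_, fun c hc => ?_⟩
  · obtain ⟨L, hL, rfl⟩ := PicGrp.exists_eq_cls d
    obtain ⟨e, ⟨M, rfl, hM⟩, he⟩ := Groth.Agent.S3501.result R X p
      (Groth.Agent.Lib.ModelFibre.PicModel.fibre_dim_le_one R C X fC p hC hX) _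
      (Limits.pullback.fst p (Spec.map (CommRingCat.ofHom (algebraMap R (IsLocalRing.ResidueField R)))))
      (Groth.Agent.Lib.ModelFibre.PicModel.range_fst R (Over.mk p)) (PicF.cl L) ⟨L, rfl, hL⟩
    exact ⟨PicGrp.cls M hM, Subtype.ext he⟩
  · have hker : ∀ d, d ∈ (PicGrp.pullHom (pullback.fst p
        (Spec.map (CommRingCat.ofHom (algebraMap R (IsLocalRing.ResidueField R))))) hi).ker ↔
        PicF.pullCl (pullback.fst p (Spec.map (CommRingCat.ofHom (algebraMap R (IsLocalRing.ResidueField R))))) d.1 =
          PicF.cl (Coh.structureModule _) := fun d => by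
      rw [MonoidHom.mem_ker]
      refine Subtype.ext_iff.trans ?_
      rw [PicGrp.one_val]
      rfl
    rw [hker] at hc
    obtain ⟨d, hd, hdq⟩ := Groth.Agent.Lib.ModelFibre.PicModel.exists_root_kernel R C X fC p hk hC hH0 hX
      hq0 hqk c hc
    refine ⟨d, ⟨(hker d).2 hd, hdq⟩, fun d' hd' => ?_⟩
    obtain ⟨L, hL, hLd⟩ := PicGrp.exists_eq_cls (d' / d)
    rw [← div_eq_one, hLd, PicGrp.cls_eq_one_iff]
    refine Groth.Agent.S2223.result R C X fC p hC hH0 hX q hq0 (fun l hl hcl hdvd => hqk ?_) L hL ?_ ?_
    · exact (CharP.cast_eq_zero_iff (IsLocalRing.ResidueField R) l q).2 hdvd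
    · refine (PicGrp.cl_eq_cl_iff _ _).1 ?_
      rw [← PicGrp.cls_pow_val hL q, ← hLd, div_pow, hd'.2, hdq, div_self', PicGrp.one_val]
    · refine (PicGrp.cl_eq_cl_iff _ _).1 ?_
      show PicF.pullCl _ (PicGrp.cls L hL).1 = _
      rw [← hLd]
      exact (hker _).1 (Subgroup.div_mem _ hd'.1 ((hker d).2 hd))

end Groth.Agent.S15407
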