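import Groth.Statements.S15409
import Groth.Agent.Lib.SBTwist.Pic

set_option autoImplicit false
universe u
open CategoryTheory CategoryTheory.Limits AlgebraicGeometry
open ASBun

namespace Groth.Agent.S15409

open W4c1astiltbs12 in
/-- Let X be proper over a field k with k ≅ H⁰(X, O_X), K an algebraic closure of k with X_K connected
and projection π : X_K → X; assume the Picard group laws on X and X_K with pullback along π
multiplicative, that Pic(X_K) is infinite cyclic generated by the class of an invertible module L,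
and that J is an invertible O_X-module whose pullback to X_K has class the r-th power of the class
of L, r ≥ 1. Let j and a be integers and N, N' invertible O_{X_K}-modules with classes (cls L)^j and
(cls L)^{j'} where either j' = −j or j' = j + a·r. If W, W' are indecomposable finite locally free
O_X-modules (nonzero, and in any direct-sum decomposition one summand is zero) with π^*W ≅ N^{⊕d}
and π^*W' ≅ N'^{⊕d'}, then d = d': the rank of the indecomposable absolutely isotypical sheaf of
type L^{⊗j} depends only on ±j modulo r. (The published statement phrases this for the sheaves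
W_{L^{⊗j}}, whose existence for every j it assumes through an indecomposable absolutely isotypical
sheaf of type L; here the two sheaves are given, and r need not be minimal.) -/
theorem result (k : Type u) [Field k] {X : Scheme.{u}}
    (p : X ⟶ Spec (CommRingCat.of k)) [IsProper p] (hO : IsIso p.appTop) (K : Type u) [Field K] [Algebra k K] [IsAlgClosure k K]
    [ConnectedSpace ↥(W4bk4gw11416.baseChange p K)]
    [PicGrp.Law X] [PicGrp.Law (W4bk4gw11416.baseChange p K)] (hπ : PicGrp.PullMul (proj p K))
    (L : (W4bk4gw11416.baseChange p K).Modules) (hL : PicF.IsInvertible L)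
    (e : PicLoc.PicSet (W4bk4gw11416.baseChange p K) ≃* Multiplicative ℤ)
    (he : e (PicGrp.cls L hL) = Multiplicative.ofAdd 1)
    (r : ℕ) (hr : 1 ≤ r) (J : X.Modules) (hJ : PicF.IsInvertible J)
    (hJL : PicGrp.cls (bcMod p K J) (PicLoc.isInvertible_pullback (proj p K) hJ) = PicGrp.cls L hL ^ r)
    (j a j' : ℤ) (hj' : j' = -j ∨ j' = j + a * r)
    (N N' : (W4bk4gw11416.baseChange p K).Modules) (hN : PicF.IsInvertible N) (hN' : PicF.IsInvertible N')
    (hNj : PicGrp.cls N hN = PicGrp.cls L hL ^ j) (hN'j : PicGrp.cls N' hN' = PicGrp.cls L hL ^ j')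
    (W W' : X.Modules) (hW : FlatMod.IsFinLocFree W) (hW' : FlatMod.IsFinLocFree W')
    (hWi : (¬ IsZero W ∧ ∀ A B : X.Modules, Nonempty (W ≅ A ⊞ B) → IsZero A ∨ IsZero B)) (hW'i : (¬ IsZero W' ∧ ∀ A B : X.Modules, Nonempty (W' ≅ A ⊞ B) → IsZero A ∨ IsZero B))
    (d d' : ℕ) (eW : Nonempty (bcMod p K W ≅ pow N d)) (eW' : Nonempty (bcMod p K W' ≅ pow N' d')) :
    d = d' := by
  open Groth.Agent.Lib CohDelta SBTwist.Generic in
  exact (by
    haveI : IsAlgClosed K := IsAlgClosure.isAlgClosed k
    haveI : Algebra.IsAlgebraic k K := IsAlgClosure.isAlgebraic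
    obtain ⟨eW⟩ := eW
    obtain ⟨eW'⟩ := eW'
    have hpos : ∀ {W : X.Modules} {N : (W4bk4gw11416.baseChange p K).Modules} {d : ℕ},
        FlatMod.IsFinLocFree W → KS.Ind W → (bcMod p K W ≅ pow N d) → 0 < d := fun hW hi i =>
      Nat.pos_of_ne_zero fun h => by
        subst h
        haveI : IsLocallyNoetherian X := LocallyOfFiniteType.isLocallyNoetherian p
        exact hi.1 (KBC.isZero_of_bc p K (Perfect.Coherent.isCoh_of_isFinLocFree hW)
          (IsZero.of_iso ((IsZero.iff_id_eq_zero _).mpr (Sigma.hom_ext _ _ fun i => i.elim0)) i))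
    rcases hj' with rfl | rfl
    · have h1 : PicGrp.cls N hN * PicGrp.cls N' hN' = 1 := by rw [hNj, hN'j, ← zpow_add, add_neg_cancel, zpow_zero]
      obtain ⟨i⟩ := (PicGrp.cls_mul_cls_eq_one_iff hN hN').1 h1
      exact mult_dual p K hN hN' (dual_of_cancel hN ⟨i⟩)
        (dual_of_cancel hN' ⟨TensorMod.Basic.comm _ _ ≪≫ i⟩) hW hW' hWi hW'i (hpos hW hWi eW)
        (hpos hW' hW'i eW') eW eW'
    · obtain ⟨Ja, hJa, hcls⟩ := PicGrp.exists_eq_cls (PicGrp.cls J hJ ^ a)
      have h1 : PicGrp.cls (bcMod p K Ja) (PicLoc.isInvertible_pullback (proj p K) hJa) = PicGrp.cls L hL ^ (a * r) := by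
        rw [← PicGrp.pullHom_cls (proj p K) hπ Ja hJa, ← hcls, map_zpow, PicGrp.pullHom_cls, hJL,
          ← zpow_natCast, ← zpow_mul]
        congr 1
        ring
      have h2 : (PicGrp.cls N hN * PicGrp.cls (bcMod p K Ja) (PicLoc.isInvertible_pullback (proj p K) hJa)) =
          PicGrp.cls N' hN' := by rw [h1, hNj, hN'j, ← zpow_add]
      have h3 : Nonempty (CohB1.tensorMod N (bcMod p K Ja) ≅ N') :=
        (PicGrp.cl_eq_cl_iff _ _).1 ((PicGrp.cls_mul_cls_val _ _).symm.trans (congrArg Subtype.val h2))
      obtain ⟨t⟩ := type_tensor p K eW h3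
      have hWJ := TensorMod.LocFree.isFinLocFree_tensorMod hW
        (TensorMod.LocFree.of_rank (TensorMod.LocFree.of_isInvertible hJa))
      have hd := hpos hW hWi eW
      have hi2 := ind_tensor hJa hWi
      haveI : IsLocallyNoetherian X := LocallyOfFiniteType.isLocallyNoetherian p
      exact Nat.dvd_antisymm (mult_dvd p K hN' hWJ hi2 t hW' (hpos hW' hW'i eW') eW')
        (mult_dvd p K hN' hW' hW'i eW' hWJ hd t))

end Groth.Agent.S15409
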