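import Groth.Statements.S15412
import Groth.Agent.Lib.BitorsFam

set_option autoImplicit false
universe w v u
open CategoryTheory Opposite
open Bitors

namespace Groth.Agent.S15412

/-- On a site, let G and H be sheaves of groups and P a sheaf of sets with a left G-action which is
simply transitive on every set of sections P(U). The right H-actions on P that are compatible with
restriction, commute with the G-action and are simply transitive on every P(U) (for P a G-torsor:
the structures of (G, H)-bitorsor on P) correspond exactly to the families of group isomorphisms φ_p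
: H(U) ≃ G(U), one for each section p of P over each U, compatible with restriction and with φ_{g·p}
= g φ_p g⁻¹ (the equivariant maps from P to the sheaf of isomorphisms from H to G); the
correspondence is the rule p · h = φ_p(h) · p, and the statement is that every right structure
arises by this rule from exactly one family and every family from exactly one right structure. (The
published statement takes P a left G-torsor; only the simple transitivity of the G-action on
sections enters, so local existence of sections is not assumed.) -/
theorem result
    {C : Type u} [Category.{v} C] {J : GrothendieckTopology C}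
    (G H : Sheaf J GrpCat.{w}) (P : NonAbH1.GSheaf G) (hP : P.IsPseudoTorsor) :
    (∀ ρ : Bitors.RightStr P H, ∃! φ : Bitors.IsomFamily P H,
        ∀ (U : Cᵒᵖ) (p : P.P.obj.obj U) (h : H.obj.obj U), ρ.rsmul p h = P.smul (φ.φ p h) p) ∧
    (∀ φ : Bitors.IsomFamily P H, ∃! ρ : Bitors.RightStr P H,
        ∀ (U : Cᵒᵖ) (p : P.P.obj.obj U) (h : H.obj.obj U), ρ.rsmul p h = P.smul (φ.φ p h) p) := by
  refine ⟨fun ρ => ⟨Groth.Agent.Lib.BitorsFam.toFamily hP ρ, fun U p h => (Groth.Agent.Lib.BitorsFam.smul_elt hP ρ p h).symm, fun φ hφ => ?_⟩,
    fun φ => ⟨Groth.Agent.Lib.BitorsFam.toRightStr hP φ, fun _ _ _ => rfl, fun ρ hρ => Groth.Agent.Lib.BitorsFam.rightStr_ext hρ⟩⟩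
  refine Groth.Agent.Lib.BitorsFam.isomFamily_ext fun U p h => Groth.Agent.Lib.BitorsFam.smul_cancel hP (p := p) ?_
  exact (hφ U p h).symm.trans (Groth.Agent.Lib.BitorsFam.smul_elt hP ρ p h).symm

end Groth.Agent.S15412
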