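import Groth.Statements.S15415
import Groth.Agent.Lib.Brauer.RedNorm
import Groth.Agent.Lib.GalDescent.Basic
import Groth.Agent.S13692
import Mathlib.FieldTheory.Galois.Basic
import Mathlib.Tactic.Group

set_option autoImplicit false
universe u v w
open scoped TensorProduct
attribute [local instance] CSAGal.tensorAction GpH1.unitsAction
open GalCoh

namespace Groth.Agent.S15415

/-- For a central simple algebra over a field, the first Galois cohomology set of its norm-one group is
identified with the nonzero scalars modulo the reduced norms of units, by the boundary map of the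
sequence norm-one units → units → nonzero scalars. Finite-level form: let k be a field, K a finite
Galois extension of k whose Galois group acts on K ⊗_k A through the first factor, A a
finite-dimensional central simple k-algebra split by K, N the reduced norm of A over k and N_K the
reduced norm of K ⊗_k A over K. Then (i) every 1-cocycle a with values in the units of K ⊗_k A of
reduced norm one is of the form a σ = b⁻¹ · σ(b) for a unit b whose reduced norm is an element c of
kˣ; and (ii) for units b, b' of K ⊗_k A with reduced norms c, c' in kˣ, the cocycles σ ↦ b⁻¹σ(b) and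
σ ↦ b'⁻¹σ(b') are cohomologous through a unit of reduced norm one if and only if c' = N(x) · c for
some unit x of A. (Since K splits A the reduced norm N_K takes every value in kˣ, so (i) and (ii)
say that c ↦ class of b⁻¹σ(b), N_K b = c, is a well-defined bijection from kˣ/N(Aˣ) onto the
cohomology set of the norm-one units. The published statement is for the absolute Galois group of a
field of characteristic different from 2, an assumption playing no role here; this row is the
finite-level form over a splitting field.) -/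
theorem result
    (k : Type u) [Field k] (K : Type v) [Field K] [Algebra k K] [FiniteDimensional k K] [IsGalois k K]
    (A : Type w) [Ring A] [Algebra k A] [Algebra.IsCentral k A] [IsSimpleRing A] [FiniteDimensional k A]
    (hA : Curves.Splits k A K)
    (N : A →* k) (hN : CSAGal.IsRedNorm k A N)
    (NK : (K ⊗[k] A) →* K) (hNK : CSAGal.IsRedNorm K (K ⊗[k] A) NK) :
    (∀ a : GpH1.OneCocycle (K ≃ₐ[k] K) (K ⊗[k] A)ˣ, (∀ σ, NK (a σ : K ⊗[k] A) = 1) →
        ∃ (c : kˣ) (b : (K ⊗[k] A)ˣ), NK (b : K ⊗[k] A) = algebraMap k K (c : k) ∧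
          ∀ σ : K ≃ₐ[k] K, a σ = b⁻¹ * σ • b) ∧
    (∀ (c c' : kˣ) (b b' : (K ⊗[k] A)ˣ),
        NK (b : K ⊗[k] A) = algebraMap k K (c : k) → NK (b' : K ⊗[k] A) = algebraMap k K (c' : k) →
        ((∃ s : (K ⊗[k] A)ˣ, NK (s : K ⊗[k] A) = 1 ∧
            ∀ σ : K ≃ₐ[k] K, b'⁻¹ * σ • b' = s⁻¹ * (b⁻¹ * σ • b) * σ • s) ↔
          ∃ x : Aˣ, (c' : k) = N (x : A) * (c : k))) := by
  haveI := Groth.Agent.Lib.CSA.Simple.isSimpleRing_baseChange k K A
  haveI := Groth.Agent.Lib.CSA.Simple.isCentral_baseChange k K A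
  obtain ⟨n, -, ⟨φ⟩⟩ := hA
  have hnk : Module.finrank k A = n ^ 2 := by
    have h := φ.toLinearEquiv.finrank_eq
    rw [Module.finrank_baseChange, Module.finrank_matrix, Fintype.card_fin, Module.finrank_self, mul_one] at h
    rw [h, sq]
  have hnK : Module.finrank K (K ⊗[k] A) = n ^ 2 := by rw [Module.finrank_baseChange, hnk]
  have hdet : ∀ z : K ⊗[k] A, NK z = (φ z).det := fun z => by
    rw [Groth.Agent.Lib.Brauer.RedNorm.eq_redNorm hnK hNK]
    simpa using Groth.Agent.Lib.Brauer.RedNorm.map_redNorm hnK φ.toAlgHom z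
  have hincl : ∀ x : A, NK (1 ⊗ₜ[k] x) = algebraMap k K (N x) := fun x => by
    rw [hdet, Groth.Agent.Lib.Brauer.RedNorm.eq_redNorm hnk hN,
      Groth.Agent.Lib.Brauer.RedNorm.map_redNorm hnk ((φ.toAlgHom.restrictScalars k).comp Algebra.TensorProduct.includeRight)]
    rfl
  have hequiv : ∀ (σ : K ≃ₐ[k] K) (z : K ⊗[k] A), NK (σ • z) = σ (NK z) := by
    intro σ z
    let ρ' : K ⊗[k] A →ₐ[K] Matrix (Fin n) (Fin n) K :=
      { ((σ.symm : K →ₐ[k] K).toRingHom.mapMatrix.comp φ.toAlgHom.toRingHom).comp (MulSemiringAction.toRingHom (K ≃ₐ[k] K) (K ⊗[k] A) σ) with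
        commutes' := fun r => by
          show ((σ.symm : K →ₐ[k] K).toRingHom.mapMatrix (φ (σ • algebraMap K (K ⊗[k] A) r))) = _
          rw [Algebra.algebraMap_eq_smul_one, Groth.Agent.Lib.GalDescent.Basic.smul_smul_tensor, smul_one,
            map_smul φ, map_one φ, ← Algebra.algebraMap_eq_smul_one, RingHom.mapMatrix_apply, Matrix.algebraMap_eq_diagonal,
            Matrix.diagonal_map (by simp), Matrix.algebraMap_eq_diagonal]
          simp }
    have h := Groth.Agent.Lib.Brauer.RedNorm.map_redNorm hnK ρ' z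
    rw [← Groth.Agent.Lib.Brauer.RedNorm.eq_redNorm hnK hNK] at h
    have h' : NK z = σ.symm (φ (σ • z)).det := by
      refine (Eq.trans (by simp) h).trans ?_
      exact (RingHom.map_det (σ.symm : K →ₐ[k] K).toRingHom (φ (σ • z))).symm
    rw [h', AlgEquiv.apply_symm_apply, hdet]
  have hfix : ∀ u : (K ⊗[k] A)ˣ, (∀ σ : K ≃ₐ[k] K, σ • u = u) → ∃ x : Aˣ, (1 : K) ⊗ₜ[k] (x : A) = (u : K ⊗[k] A) := by
    intro u hu
    obtain ⟨x, hx⟩ := (Groth.Agent.Lib.GalDescent.Basic.fixed_iff_exists (u : K ⊗[k] A)).mp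
      fun σ => congrArg Units.val (hu σ)
    obtain ⟨y, hy⟩ := (Groth.Agent.Lib.GalDescent.Basic.fixed_iff_exists ((u⁻¹ : (K ⊗[k] A)ˣ) : K ⊗[k] A)).mp
      fun σ => congrArg Units.val (show σ • u⁻¹ = u⁻¹ by rw [smul_inv', hu σ])
    refine ⟨⟨x, y, Groth.Agent.Lib.GalDescent.Basic.one_tmul_injective (k := k) (K := K) (W := A) ?_,
      Groth.Agent.Lib.GalDescent.Basic.one_tmul_injective (k := k) (K := K) (W := A) ?_⟩, hx⟩
    · show (1 : K) ⊗ₜ[k] (x * y) = (1 : K) ⊗ₜ[k] (1 : A)
      have := Units.mul_inv u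
      rw [← hx, ← hy, Algebra.TensorProduct.tmul_mul_tmul, one_mul] at this
      exact this.trans rfl
    · show (1 : K) ⊗ₜ[k] (y * x) = (1 : K) ⊗ₜ[k] (1 : A)
      have := Units.inv_mul u
      rw [← hx, ← hy, Algebra.TensorProduct.tmul_mul_tmul, one_mul] at this
      exact this.trans rfl
  let ν : (K ⊗[k] A)ˣ →* Kˣ := Units.map NK
  have hν : ∀ u : (K ⊗[k] A)ˣ, NK (u : K ⊗[k] A) = (ν u : K) := fun u => rfl
  refine ⟨fun a ha => ?_, fun c c' b b' hb hb' => ⟨?_, ?_⟩⟩
  · have h := Groth.Agent.S13692.result k K A a.cl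
    rw [GpH1.H1.pt, GpH1.OneCocycle.cl_eq_cl_iff] at h
    obtain ⟨b, hb⟩ := h
    have hb1 : ∀ σ : K ≃ₐ[k] K, a σ = b⁻¹ * σ • b := fun σ => by
      have := hb σ
      change a σ = b⁻¹ * 1 * σ • b at this
      rwa [mul_one] at this
    have hfixN : ∀ σ : K ≃ₐ[k] K, σ (NK (b : K ⊗[k] A)) = NK (b : K ⊗[k] A) := fun σ => by
      rw [← hequiv]
      have h1 : ν (a σ) = 1 := Units.ext (ha σ)
      rw [hb1 σ, map_mul, map_inv, inv_mul_eq_one] at h1
      exact congrArg Units.val h1.symm
    obtain ⟨c, hc⟩ := (IsGalois.mem_range_algebraMap_iff_fixed (F := k) (NK (b : K ⊗[k] A))).mpr hfixN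
    have hc0 : c ≠ 0 := by
      rintro rfl
      rw [map_zero] at hc
      exact (ν b).ne_zero hc.symm
    exact ⟨Units.mk0 c hc0, b, hc.symm, hb1⟩
  · rintro ⟨s, hs, hσ⟩
    obtain ⟨x, hx⟩ := hfix (b' * s⁻¹ * b⁻¹) fun σ => by
      have h := hσ σ
      rw [smul_mul', smul_mul', smul_inv', smul_inv']
      calc σ • b' * (σ • s)⁻¹ * (σ • b)⁻¹ = b' * (b'⁻¹ * σ • b') * ((σ • s)⁻¹ * (σ • b)⁻¹) := by group
        _ = b' * (s⁻¹ * (b⁻¹ * σ • b) * σ • s) * ((σ • s)⁻¹ * (σ • b)⁻¹) := by rw [h]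
        _ = b' * s⁻¹ * b⁻¹ := by group
    refine ⟨x, ?_⟩
    apply (algebraMap k K).injective
    rw [map_mul, ← hincl, hx, ← hb', ← hb, hν, hν, hν, ← Units.val_mul, map_mul, map_mul, map_inv,
      map_inv, show ν s = 1 from Units.ext hs, inv_one, mul_one, inv_mul_cancel_right]
  · rintro ⟨x, hx⟩
    let y : (K ⊗[k] A)ˣ := Units.map (Algebra.TensorProduct.includeRight : A →ₐ[k] K ⊗[k] A).toMonoidHom x
    have hy : ∀ σ : K ≃ₐ[k] K, σ • y = y := fun σ => Units.ext
      ((Groth.Agent.Lib.GalDescent.Basic.fixed_iff_exists (y : K ⊗[k] A)).mpr ⟨(x : A), rfl⟩ σ)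
    have hyN : (ν y : K) * algebraMap k K (c : k) = algebraMap k K (c' : k) := by
      rw [hx, map_mul, ← hincl]; rfl
    refine ⟨b⁻¹ * y⁻¹ * b', ?_, fun σ => ?_⟩
    · have he : ν (y * b) = ν b' := Units.ext (by rw [map_mul, Units.val_mul, ← hν b, hb, hyN, ← hν b', hb'])
      rw [hν, map_mul, ← he, ← map_mul]
      simp [mul_assoc]
    · rw [smul_mul', smul_mul', smul_inv', smul_inv', hy]
      group

end Groth.Agent.S15415
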