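import Groth.Statements.S15419
import Groth.Agent.Lib.Graded.Reg2

set_option autoImplicit false
universe u
open GrLC

namespace Groth.Agent.S15419

open Groth.Agent.Lib.Graded Groth.Agent.Lib.Graded.StarInj

/-- Let k be a field, S = k[x_0, …, x_r] graded by degree, 𝔪 = (x_0, …, x_r), M a finitely generated
ℤ-graded S-module and x a linear form (x ∈ S_1) that is quasi-regular on M: the submodule of
elements of M killed by x has finite length. Let N = M/xM, given as a graded module with a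
surjective degree-preserving S-linear map π : M → N whose kernel is xM; graded local cohomology of M
and of N is computed from *injective resolutions in the graded category. If M is weakly d-regular,
that is H^i_𝔪(M) vanishes in degree d − i + 1 for every i > 0, then N is weakly d-regular. -/
theorem result (k : Type u) [Field k] (r : ℕ)
    (M : Type u) [AddCommGroup M] [Module k M] [Module (MvPolynomial (Fin (r + 1)) k) M]
    [IsScalarTower k (MvPolynomial (Fin (r + 1)) k) M] [Module.Finite (MvPolynomial (Fin (r + 1)) k) M]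
    (ℳ : ℤ → Submodule k M) [DirectSum.Decomposition ℳ] [SetLike.GradedSMul (GrSyz.stdGr k (Fin (r + 1))) ℳ]
    (x : MvPolynomial (Fin (r + 1)) k) (hx : x ∈ GrSyz.stdGr k (Fin (r + 1)) 1)
    (hq : IsFiniteLength (MvPolynomial (Fin (r + 1)) k) ↥(Submodule.torsionBy (MvPolynomial (Fin (r + 1)) k) M x))
    (N : Type u) [AddCommGroup N] [Module k N] [Module (MvPolynomial (Fin (r + 1)) k) N]
    [IsScalarTower k (MvPolynomial (Fin (r + 1)) k) N] [Module.Finite (MvPolynomial (Fin (r + 1)) k) N]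
    (𝒩 : ℤ → Submodule k N) [DirectSum.Decomposition 𝒩] [SetLike.GradedSMul (GrSyz.stdGr k (Fin (r + 1))) 𝒩]
    (π : M →ₗ[MvPolynomial (Fin (r + 1)) k] N) (hπ : Function.Surjective π) (hπg : GrLC.IsGrHom ℳ 𝒩 π)
    (hker : LinearMap.ker π = LinearMap.range (x • (LinearMap.id : M →ₗ[MvPolynomial (Fin (r + 1)) k] M)))
    (E : GrLC.StarInjRes (GrSyz.stdGr k (Fin (r + 1))) ℳ) (E' : GrLC.StarInjRes (GrSyz.stdGr k (Fin (r + 1))) 𝒩) (d : ℤ)
    (hM : ∀ i : ℕ, 0 < i → E.Hcomp (GrSyz.irrel (GrSyz.stdGr k (Fin (r + 1)))) i (d - (i : ℤ) + 1) = ⊥) (i : ℕ) (hi : 0 < i) :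
    E'.Hcomp (GrSyz.irrel (GrSyz.stdGr k (Fin (r + 1)))) i (d - (i : ℤ) + 1) = ⊥ := by
  have hπ' : GrLC.IsGrHom (toMod (GrSyz.stdGr k (Fin (r + 1))) ℳ).gr
      (toMod (GrSyz.stdGr k (Fin (r + 1))) 𝒩).gr π :=
    fun n m hm => (mem_toMod _ _).2 (hπg n m ((mem_toMod _ _).1 hm))
  have htors : ∀ y : M, x • y = 0 →
      y ∈ GrLC.gam (GrSyz.irrel (GrSyz.stdGr k (Fin (r + 1)))).toIdeal M := by
    have hP : (Submodule.torsionBy (MvPolynomial (Fin (r + 1)) k) M x).IsHomogeneous ℳ := by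
      intro g y hy
      refine (Submodule.mem_torsionBy_iff _ _).2 ?_
      have h1 := (Basic.proj_smul_of_mem (GrSyz.stdGr k (Fin (r + 1))) ℳ hx (g + 1) y).symm
      rw [(Submodule.mem_torsionBy_iff _ _).1 hy, map_zero, add_sub_cancel_right] at h1
      exact h1
    letI := Basic.subDecomp ℳ _ hP
    haveI := Basic.subGSMul (GrSyz.stdGr k (Fin (r + 1))) ℳ (Submodule.torsionBy (MvPolynomial (Fin (r + 1)) k) M x)
    intro y hy
    obtain ⟨m, hm⟩ := (Reg2.gam_eq_top_of_isFiniteLength (Basic.subGr ℳ _) hq).ge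
      (trivial : (⟨y, (Submodule.mem_torsionBy_iff _ _).2 hy⟩ :
        Submodule.torsionBy (MvPolynomial (Fin (r + 1)) k) M x) ∈ ⊤)
    exact ⟨m, fun s hs => congrArg Subtype.val (hm s hs)⟩
  have hV : ∀ j : ℕ, 1 ≤ j → ∀ n : ℤ, d < n + j →
      Van.V (GrSyz.irrel (GrSyz.stdGr k (Fin (r + 1)))) (toMod (GrSyz.stdGr k (Fin (r + 1))) ℳ) j n := by
    intro j hj n hn
    have h2 := StdVanish.V_diag (X := toMod (GrSyz.stdGr k (Fin (r + 1))) ℳ) Poly.irrel_eq_span_one
      (r := d) (l := 1) le_rfl (fun l hl => by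
        rw [show d + 1 - (l : ℤ) = d - l + 1 by ring]
        exact (Van.V_toMod_iff E).2 ((LES.Hcomp_eq_bot_iff _ E l _).1 (hM l hl))) j hj (s := n + j) (by omega)
    rwa [add_sub_cancel_right] at h2
  exact (LES.Hcomp_eq_bot_iff _ E' i _).2 ((Van.V_toMod_iff E').1
    (Reg2.VR_right hx hπ' hπ hker htors hV (by omega) (hV i hi _ (by omega))))

end Groth.Agent.S15419
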