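import Groth.Statements.S15421
import Groth.Agent.Lib.Graded.Reg2

set_option autoImplicit false
universe u
open GrSyz

namespace Groth.Agent.S15421

open Groth.Agent.Lib.Graded Groth.Agent.Lib.Graded.StarInj

/-- Let k be a field, S = k[x_0, …, x_r] graded by degree, 𝔪 = (x_0, …, x_r), M a finitely generated
ℤ-graded S-module, x ∈ S_1 a linear form quasi-regular on M (the elements of M killed by x form a
submodule of finite length) and N = M/xM, given as a graded module with a surjective
degree-preserving S-linear map π : M → N with kernel xM. Then reg M = max(end H^0_𝔪(M), reg N),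
where reg is the Castelnuovo–Mumford regularity in the sense of minimal graded free resolutions (as
an extended integer, −∞ for the zero module) and end H^0_𝔪(M) is the largest degree of a nonzero
piece of the graded local cohomology H^0_𝔪(M), computed from any *injective resolution of M in the
graded category. (The published statement takes x quasi-regular without repeating that it is a
linear form; a linear form is meant, as in the proposition it rests on.) -/
theorem result (k : Type u) [Field k] (r : ℕ)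
    (M : Type u) [AddCommGroup M] [Module k M] [Module (MvPolynomial (Fin (r + 1)) k) M]
    [IsScalarTower k (MvPolynomial (Fin (r + 1)) k) M] [Module.Finite (MvPolynomial (Fin (r + 1)) k) M]
    (ℳ : ℤ → Submodule k M) [DirectSum.Decomposition ℳ] [SetLike.GradedSMul (GrSyz.stdGr k (Fin (r + 1))) ℳ]
    (x : MvPolynomial (Fin (r + 1)) k) (hx : x ∈ GrSyz.stdGr k (Fin (r + 1)) 1)
    (hq : IsFiniteLength (MvPolynomial (Fin (r + 1)) k) ↥(Submodule.torsionBy (MvPolynomial (Fin (r + 1)) k) M x))
    (N : Type u) [AddCommGroup N] [Module k N] [Module (MvPolynomial (Fin (r + 1)) k) N]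
    [IsScalarTower k (MvPolynomial (Fin (r + 1)) k) N] [Module.Finite (MvPolynomial (Fin (r + 1)) k) N]
    (𝒩 : ℤ → Submodule k N) [DirectSum.Decomposition 𝒩] [SetLike.GradedSMul (GrSyz.stdGr k (Fin (r + 1))) 𝒩]
    (π : M →ₗ[MvPolynomial (Fin (r + 1)) k] N) (hπ : Function.Surjective π) (hπg : GrLC.IsGrHom ℳ 𝒩 π)
    (hker : LinearMap.ker π = LinearMap.range (x • (LinearMap.id : M →ₗ[MvPolynomial (Fin (r + 1)) k] M)))
    (E : GrLC.StarInjRes (GrSyz.stdGr k (Fin (r + 1))) ℳ) :
    GrSyz.reg (GrSyz.stdGr k (Fin (r + 1))) ℳ (GrSyz.irrel (GrSyz.stdGr k (Fin (r + 1)))).toIdeal =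
      GrLC.endDeg (E.Hgr (GrSyz.irrel (GrSyz.stdGr k (Fin (r + 1)))) 0) ⊔ GrSyz.reg (GrSyz.stdGr k (Fin (r + 1))) 𝒩 (GrSyz.irrel (GrSyz.stdGr k (Fin (r + 1)))).toIdeal := by
  have hπ' : GrLC.IsGrHom (toMod (GrSyz.stdGr k (Fin (r + 1))) ℳ).gr
      (toMod (GrSyz.stdGr k (Fin (r + 1))) 𝒩).gr π :=
    fun n m hm => (mem_toMod _ _).2 (hπg n m ((mem_toMod _ _).1 hm))
  have htors : ∀ y : M, x • y = 0 →
      y ∈ GrLC.gam (GrSyz.irrel (GrSyz.stdGr k (Fin (r + 1)))).toIdeal M := by
    have hP : (Submodule.torsionBy (MvPolynomial (Fin (r + 1)) k) M x).IsHomogeneous ℳ := by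
      intro g y hy
      refine (Submodule.mem_torsionBy_iff _ _).2 ?_
      have h1 := (Basic.proj_smul_of_mem (GrSyz.stdGr k (Fin (r + 1))) ℳ hx (g + 1) y).symm
      rw [(Submodule.mem_torsionBy_iff _ _).1 hy, map_zero, add_sub_cancel_right] at h1
      exact h1
    letI := Basic.subDecomp ℳ _ hP
    haveI := Basic.subGSMul (GrSyz.stdGr k (Fin (r + 1))) ℳ (Submodule.torsionBy (MvPolynomial (Fin (r + 1)) k) M x)
    intro y hy
    obtain ⟨m, hm⟩ := (Reg2.gam_eq_top_of_isFiniteLength (Basic.subGr ℳ _) hq).ge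
      (trivial : (⟨y, (Submodule.mem_torsionBy_iff _ _).2 hy⟩ :
        Submodule.torsionBy (MvPolynomial (Fin (r + 1)) k) M x) ∈ ⊤)
    exact ⟨m, fun s hs => congrArg Subtype.val (hm s hs)⟩
  haveI : Module.Finite (MvPolynomial (Fin (r + 1)) k) (toMod (GrSyz.stdGr k (Fin (r + 1))) ℳ).carrier := ‹Module.Finite _ M›
  refine Reg.reg_eq_of fun d => ?_
  rw [sup_le_iff, Reg.reg_le_iff, IntGraded.endDeg_le_iff, Reg2.VR_iff hx hπ' hπ hker htors, and_comm]
  exact and_congr Iff.rfl (forall_congr' fun n => imp_congr Iff.rfl (Van.V_toMod_iff E).symm)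

end Groth.Agent.S15421
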