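import Groth.Statements.S15425
import Groth.Agent.Lib.Graded.Reg2
import Mathlib.RingTheory.Regular.RegularSequence

set_option autoImplicit false
open scoped Pointwise
universe u
open GrSyz

namespace Groth.Agent.S15425

open Groth.Agent.Lib.Graded Groth.Agent.Lib.Graded.StarInj

theorem VR_iff_seq {k : Type u} [Field k] {r : ℕ} :
    ∀ (ys : List (MvPolynomial (Fin (r + 1)) k)), (∀ y ∈ ys, y ∈ GrSyz.stdGr k (Fin (r + 1)) 1) →
      ∀ (X Y : GrLC.GMod.{u} (GrSyz.stdGr k (Fin (r + 1))))
        (π : X.carrier →ₗ[MvPolynomial (Fin (r + 1)) k] Y.carrier),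
        RingTheory.Sequence.IsWeaklyRegular X.carrier ys → GrLC.IsGrHom X.gr Y.gr π → Function.Surjective π →
        LinearMap.ker π = Ideal.ofList ys • (⊤ : Submodule (MvPolynomial (Fin (r + 1)) k) X.carrier) →
        ∀ d : ℤ, Reg.VR X d ↔ Reg.VR Y d := by
  intro ys
  induction ys with
  | nil =>
    intro _ X Y π _ hπ hsurj hker d
    rw [Ideal.ofList_nil, Submodule.bot_smul] at hker
    let e := LinearEquiv.ofBijective π ⟨LinearMap.ker_eq_bot.1 hker, hsurj⟩
    refine forall_congr' fun i => forall_congr' fun n => imp_congr Iff.rfl ?_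
    exact ⟨fun h => Van.V_congr e hπ h, fun h => Van.V_congr e.symm (Basic.isGrHom_symm hπ) h⟩
  | cons y ys ih =>
    intro hys X Y π hreg hπ hsurj hker d
    obtain ⟨hreg1, hreg2⟩ := (RingTheory.Sequence.isWeaklyRegular_cons_iff X.carrier y ys).1 hreg
    have hy : y ∈ GrSyz.stdGr k (Fin (r + 1)) 1 := hys y List.mem_cons_self
    let P : Submodule (MvPolynomial (Fin (r + 1)) k) X.carrier :=
      LinearMap.range (y • (LinearMap.id : X.carrier →ₗ[MvPolynomial (Fin (r + 1)) k] X.carrier))
    have hP : y • (⊤ : Submodule (MvPolynomial (Fin (r + 1)) k) X.carrier) = P := by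
      ext m
      simp [P, Submodule.mem_smul_pointwise_iff_exists]
    have hPhom := SmulSeq.isHomogeneous_range_smul (ℳ := X.gr) hy
    let X' := qMod (GrSyz.stdGr k (Fin (r + 1))) X.gr P hPhom
    have hπ1 : GrLC.IsGrHom X.gr X'.gr P.mkQ := fun g m hm => Basic.mkQ_mem_qGr X.gr P hm
    have hle : P ≤ LinearMap.ker π := by
      rw [hker, ← hP, Ideal.ofList_cons_smul]
      exact le_sup_left
    refine (Reg2.VR_iff_regular hy hπ1 P.mkQ_surjective (Submodule.ker_mkQ P) hreg1).trans
      (ih (fun z hz => hys z (List.mem_cons_of_mem _ hz)) X' Y (P.liftQ π hle)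
        ((LinearEquiv.isWeaklyRegular_congr (Submodule.quotEquivOfEq _ _ hP) ys).1 hreg2) ?_ ?_ ?_ d)
    · rintro g _ ⟨m, hm, rfl⟩
      exact hπ g m hm
    · intro z
      obtain ⟨m, rfl⟩ := hsurj z
      exact ⟨P.mkQ m, rfl⟩
    · refine (Submodule.ker_liftQ P π hle).trans ?_
      rw [hker, Ideal.ofList_cons_smul, hP, Submodule.map_sup, Submodule.map_smul'',
        Submodule.mkQ_map_self, bot_sup_eq, Submodule.map_top, Submodule.range_mkQ]
      rfl


/-- Let k be a field, S = k[x_0, …, x_r] graded by degree, 𝔪 = (x_0, …, x_r), M a finitely generated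
ℤ-graded S-module and y_1, …, y_t linear forms that form a weakly regular sequence on M (each y_j is
a non-zerodivisor on M/(y_1, …, y_{j−1})M) with N = M/(y_1, …, y_t)M of finite length; N is given as
a graded module with a surjective degree-preserving S-linear map π : M → N whose kernel is (y_1, …,
y_t)M. Then the Castelnuovo–Mumford regularity of M in the sense of minimal graded free resolutions
equals the largest degree d with N_d ≠ 0 (−∞ when N = 0). (The published statement assumes M
Cohen–Macaulay and the regular sequence maximal; for a regular sequence of linear forms this is the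
same as the quotient having finite length, the form used here.) -/
theorem result (k : Type u) [Field k] (r : ℕ)
    (M : Type u) [AddCommGroup M] [Module k M] [Module (MvPolynomial (Fin (r + 1)) k) M]
    [IsScalarTower k (MvPolynomial (Fin (r + 1)) k) M] [Module.Finite (MvPolynomial (Fin (r + 1)) k) M]
    (ℳ : ℤ → Submodule k M) [DirectSum.Decomposition ℳ] [SetLike.GradedSMul (GrSyz.stdGr k (Fin (r + 1))) ℳ]
    (ys : List (MvPolynomial (Fin (r + 1)) k)) (hys : ∀ y ∈ ys, y ∈ GrSyz.stdGr k (Fin (r + 1)) 1)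
    (hreg : RingTheory.Sequence.IsWeaklyRegular M ys)
    (N : Type u) [AddCommGroup N] [Module k N] [Module (MvPolynomial (Fin (r + 1)) k) N]
    [IsScalarTower k (MvPolynomial (Fin (r + 1)) k) N] [Module.Finite (MvPolynomial (Fin (r + 1)) k) N]
    (𝒩 : ℤ → Submodule k N) [DirectSum.Decomposition 𝒩] [SetLike.GradedSMul (GrSyz.stdGr k (Fin (r + 1))) 𝒩]
    (π : M →ₗ[MvPolynomial (Fin (r + 1)) k] N) (hπ : Function.Surjective π) (hπg : GrLC.IsGrHom ℳ 𝒩 π)
    (hker : LinearMap.ker π = Ideal.ofList ys • (⊤ : Submodule (MvPolynomial (Fin (r + 1)) k) M))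
    (hN : IsFiniteLength (MvPolynomial (Fin (r + 1)) k) N) :
    GrSyz.reg (GrSyz.stdGr k (Fin (r + 1))) ℳ (GrSyz.irrel (GrSyz.stdGr k (Fin (r + 1)))).toIdeal = GrLC.endDeg (fun n => (𝒩 n).toAddSubgroup) := by
  refine Reg.reg_eq_of fun d => Iff.trans ?_
    (VR_iff_seq ys hys (toMod (GrSyz.stdGr k (Fin (r + 1))) ℳ) (toMod (M := N) (GrSyz.stdGr k (Fin (r + 1))) 𝒩) π hreg
      (fun n m hm => (mem_toMod (M := N) _ 𝒩).2 (hπg n m ((mem_toMod (M := M) _ ℳ).1 hm))) hπ hker d).symm
  refine (IntGraded.endDeg_le_iff _).trans (Iff.trans ?_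
    (Reg2.VR_iff_of_torsion (Reg2.gam_eq_top_of_isFiniteLength 𝒩 hN)).symm)
  simp only [AddSubgroup.eq_bot_iff_forall, Submodule.mem_toAddSubgroup]

end Groth.Agent.S15425
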