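import Groth.Statements.S15427
import Groth.Agent.Lib.Graded.Reg

set_option autoImplicit false
universe u
open GrSyz

namespace Groth.Agent.S15427

open Groth.Agent.Lib.Graded Groth.Agent.Lib.Graded.StarInj

/-- Let k be a field, S = k[x_0, …, x_r] graded by degree, 𝔪 = (x_0, …, x_r), M a finitely generated
ℤ-graded S-module and F a graded free resolution of M by free modules of finite rank with chosen
homogeneous bases, written as matrices d_i : F_{i+1} → F_i together with the images aug b ∈ M of the
basis of F_0. Then F is a minimal complex (every matrix entry lies in 𝔪) if and only if every map of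
the resolution carries its basis to an irredundant (minimal) family of generators of its image: for
each b, aug b is not in the S-span of the remaining aug b', and for each i and each column of d_i,
that column is not in the S-span of the remaining columns. -/
theorem result (k : Type u) [Field k] (r : ℕ)
    (M : Type u) [AddCommGroup M] [Module k M] [Module (MvPolynomial (Fin (r + 1)) k) M]
    [IsScalarTower k (MvPolynomial (Fin (r + 1)) k) M] [Module.Finite (MvPolynomial (Fin (r + 1)) k) M]
    (ℳ : ℤ → Submodule k M) [DirectSum.Decomposition ℳ] [SetLike.GradedSMul (GrSyz.stdGr k (Fin (r + 1))) ℳ]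
    (F : GrSyz.FreeRes (GrSyz.stdGr k (Fin (r + 1))) ℳ) :
    F.IsMinimal (GrSyz.irrel (GrSyz.stdGr k (Fin (r + 1)))).toIdeal ↔
      ((∀ b : Fin (F.rk 0), F.aug b ∉ Submodule.span (MvPolynomial (Fin (r + 1)) k) (F.aug '' {b' | b' ≠ b})) ∧
        ∀ (i : ℕ) (b : Fin (F.rk (i + 1))),
          (fun a => F.d i a b) ∉ Submodule.span (MvPolynomial (Fin (r + 1)) k) ((fun b' a => F.d i a b') '' {b' | b' ≠ b})) := by
  have ha := Reg.unitOutside (k := k) (σ := Fin (r + 1))
  have hone := Poly.one_not_mem_irrel (k := k) (σ := Fin (r + 1))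
  have hcol : ∀ (i : ℕ) (v : Fin (F.rk (i + 1)) → MvPolynomial (Fin (r + 1)) k),
      Fintype.linearCombination (MvPolynomial (Fin (r + 1)) k) (fun b a => F.d i a b) v = F.dLin i v := by
    intro i v
    funext a
    rw [Fintype.linearCombination_apply, Finset.sum_apply]
    change ∑ c, v c * F.d i a c = ∑ c, F.d i a c * v c
    exact Finset.sum_congr rfl fun c _ => mul_comm _ _
  have hmem : ∀ (i : ℕ) (b : Fin (F.rk (i + 1))),
      (fun a => F.d i a b) ∈ (FreeMod.freeMod (GrSyz.stdGr k (Fin (r + 1))) (F.deg i)).gr (F.deg (i + 1) b) :=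
    fun i b => (FreeMod.mem_freeMod _ _).2 fun a => F.d_mem i a b
  constructor
  · intro hF
    refine ⟨fun b => (MinRes.relIn_iff ha hone F.aug_mem).1 (fun v hv => Reg.ker_aug_mem F hF v hv) b, fun i b => ?_⟩
    exact (MinRes.relIn_iff (ℳ := (FreeMod.freeMod (GrSyz.stdGr k (Fin (r + 1))) (F.deg i)).gr) ha hone
      (M := (FreeMod.freeMod (GrSyz.stdGr k (Fin (r + 1))) (F.deg i)).carrier) (x := fun b a => F.d i a b) (hmem i)).1
        (fun v hv => Reg.ker_d_mem F hF i v ((hcol i v).symm.trans hv)) b
  · rintro ⟨h0, h1⟩ i a b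
    have hsingle : ∀ (j : ℕ) (c : Fin (F.rk (j + 1))), (fun p => F.d j p c) = F.dLin j (Pi.single c 1) := by
      intro j c
      funext p
      simp [Matrix.mulVecLin_apply, Matrix.mulVec_single]
    have hrange : (fun p => F.d i p b) ∈ LinearMap.range (F.dLin i) := ⟨_, (hsingle i b).symm⟩
    cases i with
    | zero =>
      exact (MinRes.relIn_iff ha hone F.aug_mem).2 h0 _ (LinearMap.mem_ker.1 (F.exact_zero.ge hrange)) a
    | succ i =>
      exact (MinRes.relIn_iff (ℳ := (FreeMod.freeMod (GrSyz.stdGr k (Fin (r + 1))) (F.deg i)).gr) ha hone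
        (M := (FreeMod.freeMod (GrSyz.stdGr k (Fin (r + 1))) (F.deg i)).carrier) (x := fun c p => F.d i p c) (hmem i)).2 (h1 i) _
          ((hcol i _).trans (LinearMap.mem_ker.1 ((F.exact_succ i).ge hrange))) a

end Groth.Agent.S15427
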