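import Groth.Statements.S15429
import Groth.Agent.Lib.Graded.Hilbert
import Mathlib.RingTheory.Polynomial.Pochhammer
import Mathlib.Tactic.FieldSimp
import Mathlib.Algebra.BigOperators.Finprod

set_option autoImplicit false
universe u
open GrSyz

namespace Groth.Agent.S15429

open Groth.Agent.Lib.Graded Groth.Agent.Lib.Graded.StarInj

/-- Let k be a field, S = k[x_0, …, x_r] graded by degree and M a ℤ-graded S-module with a finite graded
free resolution 0 → F_m → … → F_0 → M → 0 by free modules of finite rank with homogeneous bases, the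
basis vectors of F_i having degrees a_{i,b}. Then there is a polynomial P with rational
coefficients, the Hilbert polynomial of M, with dim_k M_d = P(d) for every integer d such that d ≥
a_{i,b} − r for all i and b. -/
theorem result (k : Type u) [Field k] (r : ℕ)
    (M : Type u) [AddCommGroup M] [Module k M] [Module (MvPolynomial (Fin (r + 1)) k) M]
    [IsScalarTower k (MvPolynomial (Fin (r + 1)) k) M] [Module.Finite (MvPolynomial (Fin (r + 1)) k) M]
    (ℳ : ℤ → Submodule k M) [DirectSum.Decomposition ℳ] [SetLike.GradedSMul (GrSyz.stdGr k (Fin (r + 1))) ℳ]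
    (F : GrSyz.FreeRes (GrSyz.stdGr k (Fin (r + 1))) ℳ) (m : ℕ) (hF : F.HasLengthLE m) :
    ∃ P : Polynomial ℚ, ∀ d : ℤ, (∀ (i : ℕ) (b : Fin (F.rk i)), F.deg i b - (r : ℤ) ≤ d) →
      ((Module.finrank k ↥(ℳ d) : ℤ) : ℚ) = P.eval (d : ℚ) := by
  have key : ∀ x : ℤ, -(r : ℤ) ≤ x → (Hilbert.hS r x : ℚ) * (r.factorial : ℚ) =
      (ascPochhammer ℚ r).eval ((x : ℚ) + 1) := by
    intro x hx
    rcases lt_or_ge x 0 with h | h
    · rw [Hilbert.hS, if_neg (by omega), Nat.cast_zero, zero_mul, eq_comm]
      have hz : ∀ N : ℕ, (-x).toNat ≤ N → (ascPochhammer ℚ N).eval ((x : ℚ) + 1) = 0 := by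
        intro N hN
        induction N with
        | zero => omega
        | succ N ih =>
          rw [ascPochhammer_succ_eval]
          rcases Nat.lt_or_ge N (-x).toNat with h' | h'
          · rw [show (x : ℚ) + 1 + (N : ℚ) = 0 by
              have : x + 1 + (N : ℤ) = 0 := by omega
              exact_mod_cast this, mul_zero]
          · rw [ih h', zero_mul]
      exact hz r (by omega)
    · obtain ⟨e, rfl⟩ := Int.eq_ofNat_of_zero_le h
      rw [Hilbert.hS, if_pos (by omega), Int.toNat_natCast]
      rw [show ((e : ℤ) : ℚ) + 1 = ((e + 1 : ℕ) : ℚ) by push_cast; ring, ← ascPochhammer_eval_cast,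
        ascPochhammer_nat_eq_ascFactorial, Nat.ascFactorial_eq_factorial_mul_choose, Nat.add_comm r e]
      push_cast
      ring
  refine ⟨∑ i ∈ Finset.range (m + 1), Polynomial.C ((-1 : ℚ) ^ i) * ∑ b : Fin (F.rk i),
    Polynomial.C ((r.factorial : ℚ)⁻¹) *
      (ascPochhammer ℚ r).comp (Polynomial.X + Polynomial.C (1 - (F.deg i b : ℚ))), fun d hd => ?_⟩
  rw [Hilbert.finrank_eq_sum F d hF]
  push_cast
  simp only [Polynomial.eval_finsetSum, Polynomial.eval_mul, Polynomial.eval_C, Polynomial.eval_comp,
    Polynomial.eval_add, Polynomial.eval_X]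
  refine Finset.sum_congr rfl fun i _ => congrArg _ (Finset.sum_congr rfl fun b _ => ?_)
  have h1 := key (d - F.deg i b) (by have := hd i b; omega)
  push_cast at h1
  rw [show (d : ℚ) + (1 - (F.deg i b : ℚ)) = (d : ℚ) - (F.deg i b : ℚ) + 1 by ring, ← h1]
  have hfac : (r.factorial : ℚ) ≠ 0 := by exact_mod_cast r.factorial_ne_zero
  field_simp

end Groth.Agent.S15429
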