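import Groth.Statements.S15432
import Groth.Agent.Lib.Graded.Reg
import Groth.Agent.Lib.Graded.Hilbert
import Mathlib.LinearAlgebra.Matrix.ToLinearEquiv
import Mathlib.Tactic.Positivity
import Mathlib.Tactic.Linarith
import Mathlib.RingTheory.MvPolynomial.Homogeneous
import Mathlib.Data.Nat.Choose.Basic

set_option autoImplicit false
universe u
open GrSyz

namespace Groth.Agent.S15432

open Groth.Agent.Lib.Graded Groth.Agent.Lib.Graded.StarInj

/-- Let k be a field, Z a nonempty finite set of nonzero vectors of k^3, regarded as points of the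
projective plane, I ⊆ S = k[x_0, x_1, x_2] the homogeneous vanishing ideal of Z (a polynomial lies
in I exactly when each of its homogeneous components vanishes at every vector of Z), M = S/I given
as a ℤ-graded S-module with a surjective degree-preserving S-linear map π : S → M with kernel I, and
F a minimal graded free resolution of M of length at most 2 whose terms F_1 and F_2 have ranks t + 1
and t, with basis degrees a_1 ≥ … ≥ a_{t+1} for F_1 and b_1 ≥ … ≥ b_t for F_2 (non-increasing along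
the chosen bases), so that the (i, j) entry of the matrix F_2 → F_1 has degree b_j − a_i. Put e_i =
b_i − a_i and f_i = b_i − a_{i+1}. Then e_i ≥ 1 and f_i ≥ 1 for every i, and Σ_i a_i = Σ_j b_j
(equivalently a_i = Σ_{j < i} e_j + Σ_{j ≥ i} f_j for every i). (The ordering of both bases is the
standing assumption under which the published statement is made; this row carries it as the
hypotheses on the basis degrees. The further inequalities f_i ≥ e_i and f_i ≥ e_{i+1} follow at once
from the ordering and are not restated.) -/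
theorem result (k : Type u) [Field k]
    (Z : Finset (Fin 3 → k)) (hZ : ∀ p ∈ Z, p ≠ 0) (hZne : Z.Nonempty) (I : Ideal (MvPolynomial (Fin 3) k))
    (hI : ∀ f : MvPolynomial (Fin 3) k, f ∈ I ↔
      ∀ p ∈ Z, ∀ j : ℕ, MvPolynomial.eval p (MvPolynomial.homogeneousComponent j f) = 0)
    (M : Type u) [AddCommGroup M] [Module k M] [Module (MvPolynomial (Fin 3) k) M] [IsScalarTower k (MvPolynomial (Fin 3) k) M]
    (ℳ : ℤ → Submodule k M) [DirectSum.Decomposition ℳ] [SetLike.GradedSMul (GrSyz.stdGr k (Fin 3)) ℳ]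
    (π : MvPolynomial (Fin 3) k →ₗ[MvPolynomial (Fin 3) k] M) (hπ : Function.Surjective π)
    (hπg : GrLC.IsGrHom (GrSyz.stdGr k (Fin 3)) ℳ π) (hker : LinearMap.ker π = I)
    (F : GrSyz.FreeRes (GrSyz.stdGr k (Fin 3)) ℳ) (hF : F.IsMinimal (GrSyz.irrel (GrSyz.stdGr k (Fin 3))).toIdeal) (hlen : F.HasLengthLE 2)
    (t : ℕ) (h1 : F.rk 1 = t + 1) (h2 : F.rk 2 = t)
    (ha : ∀ i j : Fin (t + 1), i ≤ j → F.deg 1 (Fin.cast h1.symm j) ≤ F.deg 1 (Fin.cast h1.symm i))
    (hb : ∀ i j : Fin t, i ≤ j → F.deg 2 (Fin.cast h2.symm j) ≤ F.deg 2 (Fin.cast h2.symm i)) :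
    (∀ i : Fin t, 1 ≤ F.deg 2 (Fin.cast h2.symm i) - F.deg 1 (Fin.cast h1.symm i.castSucc) ∧
        1 ≤ F.deg 2 (Fin.cast h2.symm i) - F.deg 1 (Fin.cast h1.symm i.succ)) ∧
      ∑ i : Fin (t + 1), F.deg 1 (Fin.cast h1.symm i) = ∑ j : Fin t, F.deg 2 (Fin.cast h2.symm j) := by
  classical
  obtain ⟨p0, hp0⟩ := hZne
  have hπ1 : π 1 ≠ 0 := by
    intro h0
    have h1 : (1 : MvPolynomial (Fin 3) k) ∈ I := hker ▸ h0
    have := (hI 1).1 h1 p0 hp0 0
    rw [MvPolynomial.homogeneousComponent_zero, MvPolynomial.coeff_zero_one] at this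
    simp at this
  -- evaluation bounds the Hilbert function
  have hbound : ∀ n : ℕ, Module.finrank k ↥(ℳ (n : ℤ)) ≤ Z.card := by
    intro n
    obtain ⟨hfin, -⟩ := Hilbert.finite_stdGr (k := k) (r := 2) (n : ℤ)
    have hsurj : (GrSyz.stdGr k (Fin 3) (n : ℤ)).map (π.restrictScalars k) = ℳ (n : ℤ) := by
      refine le_antisymm ?_ fun y hy => ?_
      · rintro _ ⟨f, hf, rfl⟩
        exact hπg _ f hf
      · obtain ⟨f, hf, rfl⟩ := Basic.exists_hom_preimage (ℳ := GrSyz.stdGr k (Fin 3)) (𝒩 := ℳ) hπg hy (hπ y)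
        exact ⟨f, hf, rfl⟩
    let ev : ↥(GrSyz.stdGr k (Fin 3) (n : ℤ)) →ₗ[k] (↥Z → k) :=
      { toFun := fun f p => MvPolynomial.eval p.1 f.1
        map_add' := fun f g => funext fun p => map_add _ f.1 g.1
        map_smul' := fun c f => funext fun p => MvPolynomial.smul_eval _ _ _ }
    let q : ↥(GrSyz.stdGr k (Fin 3) (n : ℤ)) →ₗ[k] M := (π.restrictScalars k).comp (Submodule.subtype _)
    have hle : LinearMap.ker ev ≤ LinearMap.ker q := by
      intro f hf
      have hfI : f.1 ∈ I := by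
        refine (hI f.1).2 fun p hp j => ?_
        have hhom : f.1.IsHomogeneous n := by
          intro m hm
          have h := Poly.degree_eq_of_mem f.2 (MvPolynomial.mem_support_iff.2 hm)
          have h' : m.degree = n := by exact_mod_cast h
          rw [← h', Finsupp.degree_eq_weight_one]
          rfl
        rw [MvPolynomial.homogeneousComponent_of_mem hhom]
        split_ifs
        · exact congrFun hf ⟨p, hp⟩
        · exact map_zero _
      rw [← hker] at hfI
      exact hfI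
    have h1 : Module.finrank k (LinearMap.range q) ≤ Module.finrank k (LinearMap.range ev) := by
      have e1 := LinearMap.finrank_range_add_finrank_ker q
      have e2 := LinearMap.finrank_range_add_finrank_ker ev
      have e3 := Submodule.finrank_mono hle
      omega
    rw [LinearMap.range_comp, Submodule.range_subtype, hsurj] at h1
    refine h1.trans ((Submodule.finrank_le _).trans ?_)
    rw [Module.finrank_fintype_fun_eq_card, Fintype.card_coe]
  obtain ⟨T, hT⟩ : ∃ T : ℤ, ∀ i ∈ Finset.range 3, ∀ b : Fin (F.rk i), F.deg i b ≤ T := by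
    obtain ⟨T, hT⟩ := Finset.bddAbove (((Finset.range 3).biUnion fun i => Finset.univ.image (F.deg i)))
    exact ⟨T, fun i hi b => hT (Finset.mem_coe.2 (Finset.mem_biUnion.2 ⟨i, hi, Finset.mem_image_of_mem _ (Finset.mem_univ b)⟩))⟩
  obtain ⟨T0, hT0, hT0'⟩ : ∃ T0 : ℤ, 0 ≤ T0 ∧ T ≤ T0 := ⟨max T 0, le_max_right _ _, le_max_left _ _⟩
  obtain ⟨S, hS⟩ : ∃ S : (i : ℕ) → ℤ, S = fun i => ∑ b : Fin (F.rk i), (F.deg i b) := ⟨_, rfl⟩
  obtain ⟨Q, hQ⟩ : ∃ Q : (i : ℕ) → ℤ, Q = fun i => ∑ b : Fin (F.rk i), (T0 - F.deg i b + 2) * (T0 - F.deg i b + 1) :=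
    ⟨_, rfl⟩
  have h2hS : ∀ x : ℤ, 0 ≤ x → 2 * (Hilbert.hS 2 x : ℤ) = (x + 2) * (x + 1) := by
    intro x hx
    obtain ⟨e, rfl⟩ := Int.eq_ofNat_of_zero_le hx
    rw [Hilbert.hS, if_pos hx, Int.toNat_natCast, Nat.choose_two_right]
    have h := Nat.mul_div_cancel' (Nat.even_mul_pred_self (2 + e)).two_dvd
    have h' : ((2 : ℤ) * ((((2 + e) * (2 + e - 1)) / 2 : ℕ) : ℤ)) = (((2 + e) * (2 + e - 1) : ℕ) : ℤ) := by
      exact_mod_cast h
    rw [h', show 2 + e - 1 = e + 1 by omega]
    push_cast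
    ring
  have hpoly : ∀ N : ℕ, ∀ i ∈ Finset.range 3, 2 * ∑ b : Fin (F.rk i), (Hilbert.hS 2 (T0 + N - F.deg i b) : ℤ) =
      (F.rk i : ℤ) * N ^ 2 + ((F.rk i : ℤ) * (2 * T0 + 3) - 2 * S i) * N + Q i := by
    intro N i hi
    rw [Finset.mul_sum, Finset.sum_congr rfl fun b _ => h2hS _ (by have := hT i hi b; omega), hS, hQ]
    simp only
    rw [show (F.rk i : ℤ) * N ^ 2 = ∑ _b : Fin (F.rk i), (N : ℤ) ^ 2 by simp,
      show (F.rk i : ℤ) * (2 * T0 + 3) = ∑ _b : Fin (F.rk i), (2 * T0 + 3) by simp,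
      Finset.mul_sum, ← Finset.sum_sub_distrib, Finset.sum_mul, ← Finset.sum_add_distrib,
      ← Finset.sum_add_distrib]
    exact Finset.sum_congr rfl fun b _ => by ring
  have hHil : ∀ N : ℕ, 2 * (Module.finrank k ↥(ℳ (T0 + N)) : ℤ) =
      ((F.rk 0 : ℤ) - 1) * N ^ 2 + (((F.rk 0 : ℤ) - 1) * (2 * T0 + 3) - 2 * (S 0 - S 1 + S 2)) * N
        + (Q 0 - Q 1 + Q 2) := by
    intro N
    rw [Hilbert.finrank_eq_sum F (T0 + N) hlen, Finset.sum_range_succ, Finset.sum_range_succ,
      Finset.sum_range_one, mul_add, mul_add]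
    simp only [pow_zero, pow_one, one_mul, neg_one_sq, neg_mul, mul_neg]
    rw [hpoly N 0 (by simp), hpoly N 1 (by simp), hpoly N 2 (by simp), h1, h2]
    push_cast
    ring
  have hquad : ∀ A B C K : ℤ, (∀ N : ℕ, 0 ≤ A * N ^ 2 + B * N + C ∧ A * N ^ 2 + B * N + C ≤ K) → A = 0 ∧ B = 0 := by
    intro A B C K h
    have hA : A = 0 := by
      obtain ⟨hl, hu⟩ := h (|B| + |C| + |K| + 1).toNat
      rw [Int.toNat_of_nonneg (by positivity)] at hl hu
      rcases lt_trichotomy A 0 with hA | hA | hA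
      · nlinarith [abs_nonneg B, abs_nonneg C, abs_nonneg K, le_abs_self B, le_abs_self C, neg_abs_le B,
          neg_abs_le C, le_abs_self K, mul_le_mul_of_nonneg_right (show A ≤ -1 by omega) (sq_nonneg (|B| + |C| + |K| + 1))]
      · exact hA
      · nlinarith [abs_nonneg B, abs_nonneg C, abs_nonneg K, le_abs_self B, le_abs_self C, neg_abs_le B,
          neg_abs_le C, le_abs_self K, mul_le_mul_of_nonneg_right (show (1 : ℤ) ≤ A by omega) (sq_nonneg (|B| + |C| + |K| + 1))]
    subst hA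
    refine ⟨rfl, ?_⟩
    obtain ⟨hl, hu⟩ := h (|C| + |K| + 1).toNat
    rw [Int.toNat_of_nonneg (by positivity)] at hl hu
    rcases lt_trichotomy B 0 with hB | hB | hB
    · nlinarith [abs_nonneg C, abs_nonneg K, le_abs_self C, neg_abs_le C, le_abs_self K]
    · exact hB
    · nlinarith [abs_nonneg C, abs_nonneg K, le_abs_self C, neg_abs_le C, le_abs_self K]
  obtain ⟨hA, hB⟩ := hquad _ _ _ (2 * (Z.card : ℤ)) fun N => by
    rw [← hHil N]
    obtain ⟨m, hm⟩ := Int.eq_ofNat_of_zero_le (show 0 ≤ T0 + N by omega)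
    rw [hm]
    have := hbound m
    omega
  have hr0 : F.rk 0 = 1 := by omega
  rw [hA, zero_mul] at hB
  have hsum : S 1 = S 0 + S 2 := by omega
  -- the degree of the generator is zero
  let b0 : Fin (F.rk 0) := Fin.cast hr0.symm 0
  have hb0 : ∀ b : Fin (F.rk 0), b = b0 := fun b => Fin.ext (by have := b.2; have := b0.2; omega)
  have hc0 : F.deg 0 b0 = 0 := by
    obtain ⟨v, hv⟩ := F.aug_surjective (π 1)
    obtain ⟨f, hf⟩ := hπ (F.aug b0)
    have e1 : v b0 • F.aug b0 = π 1 := by
      rw [← hv, Fintype.linearCombination_apply, Fintype.sum_eq_single b0 (fun b hb => absurd (hb0 b) hb)]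
    have e2 := congrArg (Basic.proj ℳ 0) e1
    rw [Basic.proj_smul_mem (GrSyz.stdGr k (Fin 3)) ℳ (F.aug_mem b0),
      Basic.proj_of_mem ℳ (hπg 0 1 (SetLike.one_mem_graded _))] at e2
    rcases lt_trichotomy (F.deg 0 b0) 0 with h | h | h
    · exfalso
      have e3 := Basic.map_proj (ℳ := GrSyz.stdGr k (Fin 3)) (𝒩 := ℳ) hπg (F.deg 0 b0) f
      rw [hf, Basic.proj_of_mem ℳ (F.aug_mem b0),
        Poly.eq_zero_of_neg _ h _ (Basic.proj_mem _ _ _), map_zero] at e3
      rw [← e3, smul_zero] at e2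
      exact hπ1 e2.symm
    · exact h
    · exfalso
      rw [Poly.eq_zero_of_neg _ (by omega) _ (Basic.proj_mem _ _ _), zero_smul] at e2
      exact hπ1 e2.symm
  have hS0 : S 0 = 0 := by
    rw [hS]
    exact Fintype.sum_eq_single b0 (fun b hb => absurd (hb0 b) hb) |>.trans hc0
  refine ⟨fun i => ?_, ?_⟩
  swap
  · have e1 : ∑ i : Fin (t + 1), F.deg 1 (Fin.cast h1.symm i) = S 1 := by
      rw [hS]; exact (finCongr h1.symm).sum_comp (F.deg 1)
    have e2 : ∑ i : Fin t, F.deg 2 (Fin.cast h2.symm i) = S 2 := by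
      rw [hS]; exact (finCongr h2.symm).sum_comp (F.deg 2)
    rw [e1, e2]
    omega
  -- the inequality
  have key : F.deg 1 (Fin.cast h1.symm i.castSucc) < F.deg 2 (Fin.cast h2.symm i) := by
    by_contra hlt
    rw [not_lt] at hlt
    let D : Matrix (Fin (t + 1)) (Fin t) (MvPolynomial (Fin 3) k) :=
      Matrix.of fun l j => F.d 1 (Fin.cast h1.symm l) (Fin.cast h2.symm j)
    have hzero : ∀ (l : Fin (t + 1)) (j : Fin t), l ≤ i.castSucc → i ≤ j → D l j = 0 := by
      intro l j hl hj
      have e1 := ha l i.castSucc hl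
      have e2 := hb i j hj
      rcases lt_or_eq_of_le (show F.deg 2 (Fin.cast h2.symm j) - F.deg 1 (Fin.cast h1.symm l) ≤ 0 by omega) with h3 | h3
      · exact Poly.eq_zero_of_neg _ h3 _ (F.d_mem 1 _ _)
      · exact Poly.eq_zero_of_deg0_mem_irrel (h3 ▸ F.d_mem 1 _ _) (hF 1 _ _)
    let B : Matrix {j : Fin t // i ≤ j} {j : Fin t // i ≤ j} (MvPolynomial (Fin 3) k) :=
      Matrix.of fun l j => D l.1.succ j.1
    have hdet : B.det ≠ 0 := by
      intro hdet
      obtain ⟨v, hv0, hv⟩ := Matrix.exists_mulVec_eq_zero_iff.2 hdet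
      let w : Fin (F.rk 2) → MvPolynomial (Fin 3) k :=
        fun j => if h : i ≤ Fin.cast h2 j then v ⟨_, h⟩ else 0
      have hw : F.dLin 1 w = 0 := by
        funext l
        change ∑ j, F.d 1 l j * w j = 0
        rw [← (finCongr h2.symm).sum_comp fun j => F.d 1 l j * w j]
        have hrest : ∑ j : Fin t, F.d 1 l (Fin.cast h2.symm j) * w (Fin.cast h2.symm j) =
            ∑ j : {j : Fin t // i ≤ j}, D (Fin.cast h1 l) j.1 * v j := by
          rw [← Finset.sum_subset (Finset.subset_univ (Finset.univ.filter fun j => i ≤ j))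
            (fun j _ hj => by simp [w, show ¬ i ≤ j by simpa using hj]),
            Finset.sum_subtype (p := fun j => i ≤ j) (Finset.univ.filter fun j => i ≤ j) (by simp)]
          refine Finset.sum_congr rfl fun j _ => ?_
          have hwj : w (Fin.cast h2.symm j.1) = v j := dif_pos (show i ≤ Fin.cast h2 (Fin.cast h2.symm j.1) from j.2)
          rw [hwj]
          rfl
        refine hrest.trans ?_
        by_cases hl : Fin.cast h1 l ≤ i.castSucc
        · exact Finset.sum_eq_zero fun j _ => by rw [hzero _ _ hl j.2, zero_mul]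
        · obtain ⟨l', hl'⟩ := Fin.eq_succ_of_ne_zero (show Fin.cast h1 l ≠ 0 from
            fun h => hl (h ▸ Fin.zero_le _))
          have hil : i ≤ l' := by
            rw [hl', not_le, Fin.lt_def, Fin.val_succ, Fin.val_castSucc] at hl
            rw [Fin.le_def]
            omega
          rw [hl']
          exact congrFun hv ⟨l', hil⟩
      obtain ⟨u, hu⟩ := (F.exact_succ 1).le (LinearMap.mem_ker.2 hw)
      haveI : IsEmpty (Fin (F.rk 3)) := by rw [hlen 3 (by norm_num)]; infer_instance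
      apply hv0
      funext j
      have hwj : w (Fin.cast h2.symm j.1) = v j := dif_pos (show i ≤ Fin.cast h2 (Fin.cast h2.symm j.1) from j.2)
      rw [← hwj, ← hu, Subsingleton.elim u 0, map_zero]
      rfl
    let a : {j : Fin t // i ≤ j} → MvPolynomial (Fin 3) k := fun j => F.d 0 b0 (Fin.cast h1.symm j.1.succ)
    have haB : Matrix.vecMul a B = 0 := by
      funext j
      have h3 : F.dLin 0 (F.dLin 1 (Pi.single (Fin.cast h2.symm j.1) 1)) = 0 :=
        LinearMap.mem_ker.1 ((F.exact_succ 0).ge ⟨_, rfl⟩)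
      have h4 : ∑ l : Fin (t + 1), F.d 0 b0 (Fin.cast h1.symm l) * D l j.1 = 0 := by
        have h5 := congrFun h3 b0
        change ∑ l, F.d 0 b0 l * F.dLin 1 (Pi.single (Fin.cast h2.symm j.1) 1) l = 0 at h5
        rw [← (finCongr h1.symm).sum_comp] at h5
        simpa [D, Matrix.mulVecLin_apply, Matrix.mulVec_single] using h5
      change ∑ l : {j : Fin t // i ≤ j}, a l * B l j = 0
      rw [Fin.sum_univ_succ, hzero 0 j.1 (Fin.zero_le _) j.2, mul_zero, zero_add,
        ← Finset.sum_subset (Finset.subset_univ (Finset.univ.filter fun l => i ≤ l))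
          (fun l _ hl => by rw [hzero l.succ j.1 (by
            have : ¬ i ≤ l := by simpa using hl
            rw [Fin.le_def, Fin.val_succ, Fin.val_castSucc]
            rw [Fin.le_def] at this
            omega) j.2, mul_zero]),
        Finset.sum_subtype (p := fun l => i ≤ l) (Finset.univ.filter fun l => i ≤ l) (by simp)] at h4
      exact h4
    have ha0 : a = 0 := by
      by_contra hne
      exact hdet (Matrix.exists_vecMul_eq_zero_iff.1 ⟨a, hne, haB⟩)
    have hcol : F.dLin 0 (Pi.single (Fin.cast h1.symm i.succ) 1) = 0 := by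
      funext b
      rw [hb0 b]
      simpa [a, Matrix.mulVecLin_apply, Matrix.mulVec_single] using congrFun ha0 ⟨i, le_rfl⟩
    have h6 := Reg.ker_d_mem F hF 0 _ hcol (Fin.cast h1.symm i.succ)
    rw [Pi.single_eq_same] at h6
    exact Poly.one_not_mem_irrel h6
  have h7 := ha i.castSucc i.succ (Fin.castSucc_lt_succ.le)
  omega

end Groth.Agent.S15432
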