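import Groth.Statements.S15433
import Groth.Agent.S15425
import Groth.Agent.Lib.Graded.Reg2
import Groth.Agent.Lib.Graded.Hilbert
import Mathlib.RingTheory.Length
import Mathlib.LinearAlgebra.Dimension.Constructions
import Mathlib.LinearAlgebra.FiniteDimensional.Lemmas

set_option autoImplicit false
universe u
open GrSyz

namespace Groth.Agent.S15433

open Groth.Agent.Lib.Graded Groth.Agent.Lib.Graded.StarInj

/-- Let k be a field, S = k[x_0, …, x_r] graded by degree, 𝔪 = (x_0, …, x_r), and M = S/I a graded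
quotient of S, given with a surjective degree-preserving S-linear map π : S → M whose kernel I
contains no nonzero linear form. Let y_0, …, y_t be linear forms forming a weakly regular sequence
on M (each a non-zerodivisor modulo the previous ones) and N = M/(y_0, …, y_t)M, given as a graded
module with a surjective degree-preserving S-linear map σ : M → N with kernel (y_0, …, y_t)M, and
suppose N has finite length ℓ. Then reg M + (r − t) ≤ ℓ, reg being the Castelnuovo–Mumford
regularity of M in the sense of minimal graded free resolutions. (The published statement is reg S_X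
≤ deg X − codim X for an arithmetically Cohen–Macaulay subvariety X of P^r not contained in a
hyperplane; this row is the algebraic statement its proof establishes, with S_X any graded quotient
of S by an ideal without linear forms, the maximal regular sequence of linear forms given, deg X
replaced by the length of S_X/(y_0, …, y_t)S_X and codim X by r − t, which agree with the degree and
the codimension in that situation.) -/
theorem result (k : Type u) [Field k] (r : ℕ)
    (M : Type u) [AddCommGroup M] [Module k M] [Module (MvPolynomial (Fin (r + 1)) k) M]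
    [IsScalarTower k (MvPolynomial (Fin (r + 1)) k) M] [Module.Finite (MvPolynomial (Fin (r + 1)) k) M]
    (ℳ : ℤ → Submodule k M) [DirectSum.Decomposition ℳ] [SetLike.GradedSMul (GrSyz.stdGr k (Fin (r + 1))) ℳ]
    (π : MvPolynomial (Fin (r + 1)) k →ₗ[MvPolynomial (Fin (r + 1)) k] M) (hπ : Function.Surjective π)
    (hπg : GrLC.IsGrHom (GrSyz.stdGr k (Fin (r + 1))) ℳ π)
    (hlin : ∀ x : MvPolynomial (Fin (r + 1)) k, x ∈ GrSyz.stdGr k (Fin (r + 1)) 1 → π x = 0 → x = 0)
    (ys : List (MvPolynomial (Fin (r + 1)) k)) (hys : ∀ y ∈ ys, y ∈ GrSyz.stdGr k (Fin (r + 1)) 1)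
    (hreg : RingTheory.Sequence.IsWeaklyRegular M ys)
    (N : Type u) [AddCommGroup N] [Module k N] [Module (MvPolynomial (Fin (r + 1)) k) N]
    [IsScalarTower k (MvPolynomial (Fin (r + 1)) k) N]
    (𝒩 : ℤ → Submodule k N) [DirectSum.Decomposition 𝒩] [SetLike.GradedSMul (GrSyz.stdGr k (Fin (r + 1))) 𝒩]
    (σ : M →ₗ[MvPolynomial (Fin (r + 1)) k] N) (hσ : Function.Surjective σ) (hσg : GrLC.IsGrHom ℳ 𝒩 σ)
    (hker : LinearMap.ker σ = Ideal.ofList ys • (⊤ : Submodule (MvPolynomial (Fin (r + 1)) k) M))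
    (ℓ : ℕ) (hℓ : Module.length (MvPolynomial (Fin (r + 1)) k) N = (ℓ : ℕ∞)) :
    GrSyz.reg (GrSyz.stdGr k (Fin (r + 1))) ℳ (GrSyz.irrel (GrSyz.stdGr k (Fin (r + 1)))).toIdeal + ((((r : ℤ) + 1 - (ys.length : ℤ) : ℤ) : WithTop ℤ) : WithBot (WithTop ℤ)) ≤
      (((ℓ : ℤ) : WithTop ℤ) : WithBot (WithTop ℤ)) := by
  classical
  haveI : Module.Finite (MvPolynomial (Fin (r + 1)) k) N := Module.Finite.of_surjective σ hσ
  have hfl : IsFiniteLength (MvPolynomial (Fin (r + 1)) k) N :=
    Module.length_ne_top_iff.1 (by rw [hℓ]; exact ENat.natCast_ne_top ℓ)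
  obtain ⟨hNoeth, hArt⟩ := isFiniteLength_iff_isNoetherian_isArtinian.1 hfl
  rw [Groth.Agent.S15425.result k r M ℳ ys hys hreg N 𝒩 σ hσ hσg hker hfl]
  have htors := Reg2.gam_eq_top_of_isFiniteLength 𝒩 hfl
  obtain ⟨n, hn⟩ := FGInduction.exists_pow_kills (R := MvPolynomial (Fin (r + 1)) k) htors
  -- the dimension is at most the length
  have hlen : ∀ (l : ℕ) (P : Submodule (MvPolynomial (Fin (r + 1)) k) N),
      Module.length (MvPolynomial (Fin (r + 1)) k) P ≤ (l : ℕ∞) →
        Module.Finite k (P.restrictScalars k) ∧ Module.finrank k (P.restrictScalars k) ≤ l := by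
    intro l
    induction l using Nat.strong_induction_on with
    | _ l ih =>
      intro P hP
      rcases eq_or_ne P ⊥ with rfl | hne
      · rw [Submodule.restrictScalars_bot]
        exact ⟨inferInstance, by rw [finrank_bot]; omega⟩
      obtain ⟨Q, hQP, hmax⟩ : ∃ Q, Q < P ∧ ∀ J, J < P → ¬ Q < J := set_has_maximal_iff_noetherian.2 hNoeth {Q | Q < P} ⟨⊥, bot_lt_iff_ne_bot.2 hne⟩
      obtain ⟨y, hyP, hyQ⟩ := SetLike.exists_of_lt hQP
      have hsup : ∀ z ∈ P, z ∉ Q → Q ⊔ Submodule.span _ {z} = P := by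
        intro z hz hzQ
        by_contra hne'
        exact hmax _ (lt_of_le_of_ne (sup_le hQP.le ((Submodule.span_singleton_le_iff_mem _ _).2 hz)) hne')
          (lt_of_le_of_ne le_sup_left fun h => hzQ (h.symm ▸ Submodule.mem_sup_right (Submodule.mem_span_singleton_self z)))
      have hkill : ∀ c ∈ (GrSyz.irrel (GrSyz.stdGr k (Fin (r + 1)))).toIdeal, c • y ∈ Q := by
        intro c hc
        by_contra hcy
        have hy : y ∈ Q ⊔ Submodule.span _ {c • y} := (hsup _ (P.smul_mem c hyP) hcy).symm ▸ hyP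
        obtain ⟨q, hq, w, hw, hqw⟩ := Submodule.mem_sup.1 hy
        obtain ⟨s, rfl⟩ := Submodule.mem_span_singleton.1 hw
        have h1 : ∀ m : ℕ, y - (s * c) ^ m • y ∈ Q := by
          intro m
          induction m with
          | zero => simp
          | succ m ihm =>
            have h2 : y - (s * c) ^ (m + 1) • y = q + (s * c) • (y - (s * c) ^ m • y) := by
              rw [pow_succ', mul_smul, smul_sub]
              nth_rw 1 [← hqw]
              rw [← mul_smul s c]
              abel
            rw [h2]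
            exact add_mem hq (Q.smul_mem _ ihm)
        have h3 := h1 n
        rw [hn ((s * c) ^ n) (Ideal.pow_mem_pow (Ideal.mul_mem_left _ s hc) n) y, sub_zero] at h3
        exact hyQ h3
      have hlt : Module.length (MvPolynomial (Fin (r + 1)) k) Q < (l : ℕ∞) := by
        refine lt_of_lt_of_le ?_ hP
        rw [Module.length_submodule, Module.length_submodule]
        exact Submodule.height_strictMono hQP
      obtain ⟨l', hl'⟩ := WithTop.ne_top_iff_exists.1 (ne_top_of_lt hlt)
      rw [← hl'] at hlt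
      have hl'' : l' < l := ENat.natCast_lt_natCast.1 hlt
      obtain ⟨hfin, hrk⟩ := ih l' hl'' Q hl'.ge
      have hle : P.restrictScalars k ≤ Q.restrictScalars k ⊔ Submodule.span k {y} := by
        intro z hz
        have hz' : z ∈ Q ⊔ Submodule.span _ {y} := (hsup y hyP hyQ).symm ▸ hz
        obtain ⟨q, hq, w, hw, rfl⟩ := Submodule.mem_sup.1 hz'
        obtain ⟨s, rfl⟩ := Submodule.mem_span_singleton.1 hw
        have h0 : s - MvPolynomial.C (MvPolynomial.constantCoeff s) ∈ (GrSyz.irrel (GrSyz.stdGr k (Fin (r + 1)))).toIdeal := by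
          by_contra h0
          refine (Poly.isUnit_proj_zero h0).ne_zero ?_
          rw [Poly.proj_zero_eq, map_sub, MvPolynomial.constantCoeff_C, sub_self, map_zero]
        refine Submodule.mem_sup.2 ⟨q + (s - MvPolynomial.C (MvPolynomial.constantCoeff s)) • y,
          add_mem hq (hkill _ h0), MvPolynomial.constantCoeff s • y,
          Submodule.smul_mem _ _ (Submodule.mem_span_singleton_self y), ?_⟩
        rw [sub_smul, ← MvPolynomial.algebraMap_eq, algebraMap_smul]
        abel
      haveI : Module.Finite k (Submodule.span k {y}) := Module.Finite.span_of_finite k (Set.finite_singleton y)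
      haveI := hfin
      refine ⟨Submodule.finiteDimensional_of_le hle, (Submodule.finrank_mono hle).trans ?_⟩
      have h4 := Submodule.finrank_add_le_finrank_add_finrank (Q.restrictScalars k) (Submodule.span k {y})
      have h5 : Module.finrank k (Submodule.span k {y}) ≤ 1 := (finrank_span_le_card _).trans (by simp)
      omega
  obtain ⟨hNfin, hNrk⟩ := hlen ℓ ⊤ (by rw [Module.length_top, hℓ])
  rw [Submodule.restrictScalars_top] at hNfin hNrk
  haveI : Module.Finite k N := Module.Finite.equiv Submodule.topEquiv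
  rw [finrank_top] at hNrk
  obtain ⟨g, hg⟩ : ∃ g : N, g = σ (π 1) := ⟨_, rfl⟩
  have hg0 : g ∈ 𝒩 0 := hg ▸ hσg 0 _ (hπg 0 1 (SetLike.one_mem_graded _))
  have hgen : ∀ z : N, ∃ s : MvPolynomial (Fin (r + 1)) k, s • g = z := by
    intro z
    obtain ⟨m, rfl⟩ := hσ z
    obtain ⟨s, rfl⟩ := hπ m
    exact ⟨s, by rw [hg, ← map_smul, ← map_smul, smul_eq_mul, mul_one]⟩
  have hstep : ∀ j : ℤ, 0 ≤ j → 𝒩 j = ⊥ → 𝒩 (j + 1) = ⊥ := by
    intro j hj hbot
    have key : ∀ s ∈ (GrSyz.irrel (GrSyz.stdGr k (Fin (r + 1)))).toIdeal, ∀ z : N,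
        Basic.proj 𝒩 (j + 1) (s • z) = 0 := by
      intro s hs
      rw [Poly.irrel_eq_span_one] at hs
      induction hs using Submodule.span_induction with
      | mem x hx =>
        intro z
        rw [Basic.proj_smul_of_mem (GrSyz.stdGr k (Fin (r + 1))) 𝒩 (hx : x ∈ GrSyz.stdGr k (Fin (r + 1)) 1),
          add_sub_cancel_right]
        have h1 := Basic.proj_mem 𝒩 j z
        rw [hbot, Submodule.mem_bot] at h1
        rw [h1, smul_zero]
      | zero => intro z; rw [zero_smul, map_zero]
      | add a b _ _ ha hb => intro z; rw [add_smul, map_add, ha, hb, add_zero]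
      | smul c a _ ha => intro z; rw [smul_eq_mul, mul_comm, mul_smul]; exact ha _
    refine (Submodule.eq_bot_iff _).2 fun z hz => ?_
    obtain ⟨s, rfl⟩ := hgen z
    rw [← Basic.proj_of_mem 𝒩 hz, Basic.proj_smul_mem (GrSyz.stdGr k (Fin (r + 1))) 𝒩 hg0, sub_zero]
    have h2 : Basic.proj (GrSyz.stdGr k (Fin (r + 1))) (j + 1) s ∈ (GrSyz.irrel (GrSyz.stdGr k (Fin (r + 1)))).toIdeal :=
      Ideal.subset_span ⟨j + 1, by omega, Basic.proj_mem _ _ _⟩
    rw [← Basic.proj_of_mem 𝒩 (Basic.smul_mem' (GrSyz.stdGr k (Fin (r + 1))) 𝒩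
      (Basic.proj_mem (GrSyz.stdGr k (Fin (r + 1))) (j + 1) s) hg0 (add_zero _))]
    exact key _ h2 g
  have hneg : ∀ j : ℤ, j < 0 → 𝒩 j = ⊥ := by
    intro j hj
    refine (Submodule.eq_bot_iff _).2 fun z hz => ?_
    obtain ⟨s, rfl⟩ := hgen z
    rw [← Basic.proj_of_mem 𝒩 hz, Basic.proj_smul_mem (GrSyz.stdGr k (Fin (r + 1))) 𝒩 hg0, sub_zero,
      Poly.eq_zero_of_neg j hj _ (Basic.proj_mem _ _ _), zero_smul]
  -- the linear forms
  have hdim1 : r + 1 ≤ Module.finrank k (𝒩 1) + ys.length := by
    let q : ↥(GrSyz.stdGr k (Fin (r + 1)) 1) →ₗ[k] N :=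
      ((LinearMap.toSpanSingleton (MvPolynomial (Fin (r + 1)) k) N g).restrictScalars k).comp (Submodule.subtype _)
    have hq : LinearMap.range q ≤ 𝒩 1 := by
      rintro _ ⟨s, rfl⟩
      exact Basic.smul_mem' (GrSyz.stdGr k (Fin (r + 1))) 𝒩 s.2 hg0 (add_zero _)
    have hk : (LinearMap.ker q).map (Submodule.subtype _) ≤
        Submodule.span k ((ys.toFinset : Finset (MvPolynomial (Fin (r + 1)) k)) : Set (MvPolynomial (Fin (r + 1)) k)) := by
      rintro _ ⟨s, hs, rfl⟩
      have h1 : σ (π s.1) = 0 := by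
        have hs' : (s.1 : MvPolynomial (Fin (r + 1)) k) • g = 0 := hs
        rw [hg, ← map_smul, ← map_smul, smul_eq_mul, mul_one] at hs'
        exact hs'
      have h2 : π s.1 ∈ (Ideal.ofList ys • (⊤ : Submodule (MvPolynomial (Fin (r + 1)) k) (MvPolynomial (Fin (r + 1)) k))).map π := by
        rw [Submodule.map_smul'', Submodule.map_top, LinearMap.range_eq_top.2 hπ, ← hker]
        exact h1
      obtain ⟨q', hq', hqs⟩ := h2
      rw [smul_eq_mul, Ideal.mul_top] at hq'
      have h3 : Basic.proj (GrSyz.stdGr k (Fin (r + 1))) 1 q' ∈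
          Submodule.span k ((ys.toFinset : Finset (MvPolynomial (Fin (r + 1)) k)) : Set (MvPolynomial (Fin (r + 1)) k)) := by
        clear hqs
        suffices hall : ∀ a : MvPolynomial (Fin (r + 1)) k, Basic.proj (GrSyz.stdGr k (Fin (r + 1))) 1 (a * q') ∈
            Submodule.span k ((ys.toFinset : Finset (MvPolynomial (Fin (r + 1)) k)) : Set (MvPolynomial (Fin (r + 1)) k)) by
          simpa using hall 1
        induction hq' using Submodule.span_induction with
        | mem y hy =>
          intro a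
          rw [← smul_eq_mul, Basic.proj_smul_mem (GrSyz.stdGr k (Fin (r + 1))) (GrSyz.stdGr k (Fin (r + 1))) (hys y hy),
            sub_self, Poly.proj_zero_eq, ← MvPolynomial.algebraMap_eq, algebraMap_smul]
          exact Submodule.smul_mem _ _ (Submodule.subset_span (List.mem_toFinset.2 hy))
        | zero => intro a; simp
        | add a b _ _ ha hb => intro c; rw [mul_add, map_add]; exact add_mem (ha c) (hb c)
        | smul c a _ ha => intro d; rw [smul_eq_mul, ← mul_assoc]; exact ha _
      have h4 : π (s.1 - Basic.proj (GrSyz.stdGr k (Fin (r + 1))) 1 q') = 0 := by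
        rw [map_sub, Basic.map_proj (ℳ := GrSyz.stdGr k (Fin (r + 1))) (𝒩 := ℳ) hπg 1 q', hqs,
          Basic.proj_of_mem ℳ (hπg 1 _ s.2), sub_self]
      have h5 : s.1 = _ := sub_eq_zero.1 (hlin _ (sub_mem s.2 (Basic.proj_mem _ _ _)) h4)
      change s.1 ∈ _
      rw [h5]
      exact h3
    obtain ⟨hfin1, hrk1⟩ := Hilbert.finite_stdGr (k := k) (r := r) 1
    have e1 := LinearMap.finrank_range_add_finrank_ker q
    have e2 := Submodule.finrank_mono hq
    haveI : Module.Finite k (Submodule.span k ((ys.toFinset : Finset (MvPolynomial (Fin (r + 1)) k)) : Set (MvPolynomial (Fin (r + 1)) k))) :=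
      Module.Finite.span_of_finite k (Finset.finite_toSet _)
    have e3 := Submodule.finrank_mono hk
    rw [Submodule.finrank_map_subtype_eq] at e3
    have e4 := (finrank_span_finset_le_card (R := k) ys.toFinset).trans ys.toFinset_card_le
    rw [Set.finrank] at e4
    rw [hrk1, Hilbert.hS, if_pos (by norm_num)] at e1
    simp only [Int.toNat_one, Nat.choose_succ_self_right] at e1
    omega
  -- counting
  have hsum : ∀ e : ℕ, ∑ j : Fin (e + 1), Module.finrank k (𝒩 (j : ℤ)) ≤ ℓ := by
    intro e
    let L : (∀ j : Fin (e + 1), ↥(𝒩 (j : ℤ))) →ₗ[k] N :=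
      { toFun := fun v => ∑ j, (v j : N)
        map_add' := fun v w => by simp [Finset.sum_add_distrib]
        map_smul' := fun c v => by simp [Finset.smul_sum] }
    have hL : Function.Injective L := by
      intro v w hvw
      funext j
      refine Subtype.ext ?_
      have h1 : ∀ u : ∀ j : Fin (e + 1), ↥(𝒩 (j : ℤ)), Basic.proj 𝒩 (j : ℤ) (L u) = u j := by
        intro u
        change Basic.proj 𝒩 (j : ℤ) (∑ i, (u i : N)) = u j
        rw [map_sum, Fintype.sum_eq_single j, Basic.proj_of_mem 𝒩 (u j).2]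
        intro i hi
        exact Basic.proj_of_mem_ne 𝒩 (u i).2 fun h => hi (Fin.ext (by exact_mod_cast h))
      rw [← h1 v, ← h1 w, hvw]
    have h2 := LinearMap.finrank_le_finrank_of_injective hL
    rw [Module.finrank_pi_fintype] at h2
    omega
  have hend : ∀ d : ℤ, GrLC.endDeg (fun n => (𝒩 n).toAddSubgroup) ≤ ((d : WithTop ℤ) : WithBot (WithTop ℤ)) ↔
      ∀ m, d < m → 𝒩 m = ⊥ := fun d => by
    rw [IntGraded.endDeg_le_iff]
    exact forall_congr' fun m => imp_congr Iff.rfl (by simp [AddSubgroup.eq_bot_iff_forall, Submodule.eq_bot_iff])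
  by_cases h0 : 𝒩 0 = ⊥
  · have hall : ∀ m : ℤ, 𝒩 m = ⊥ := by
      intro m
      rcases lt_or_ge m 0 with hm | hm
      · exact hneg m hm
      obtain ⟨m, rfl⟩ := Int.eq_ofNat_of_zero_le hm
      induction m with
      | zero => exact h0
      | succ m ihm => push_cast; exact hstep _ (by omega) (ihm (by omega))
    have hbot : GrLC.endDeg (fun n => (𝒩 n).toAddSubgroup) = ⊥ := by
      rw [GrLC.endDeg, iSup_eq_bot]
      intro m
      rw [iSup_eq_bot]
      intro hm
      exact absurd (by rw [hall m]; rfl) hm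
    rw [hbot, WithBot.bot_add]
    exact bot_le
  have hbd : ∀ e : ℕ, 𝒩 (e : ℤ) ≠ ⊥ → (e : ℤ) + ((r : ℤ) + 1 - ys.length) ≤ ℓ := by
    intro e he
    have hne : ∀ j : ℕ, j ≤ e → 1 ≤ Module.finrank k (𝒩 (j : ℤ)) := by
      intro j hj
      refine Submodule.one_le_finrank_iff.2 fun hb => he ?_
      obtain ⟨l, rfl⟩ := Nat.exists_eq_add_of_le hj
      induction l with
      | zero => exact hb
      | succ l ihl =>
        by_contra hne'
        have h6 : 𝒩 ((j + l : ℕ) : ℤ) = ⊥ := by
          by_contra h7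
          exact h7 (ihl h7 (by omega))
        refine hne' ?_
        rw [show ((j + (l + 1) : ℕ) : ℤ) = ((j + l : ℕ) : ℤ) + 1 by push_cast; ring]
        exact hstep _ (by omega) h6
    have h8 := hsum (e + 1)
    rw [Fin.sum_univ_succ, Fin.sum_univ_succ] at h8
    simp only [Fin.val_zero, Fin.val_succ] at h8
    have e01 : ((0 + 1 : ℕ) : ℤ) = 1 := rfl
    have e0 : ((0 : ℕ) : ℤ) = 0 := rfl
    push_cast at h8
    have h8' : Module.finrank k (𝒩 (0 : ℤ)) + (Module.finrank k (𝒩 (1 : ℤ)) +
        ∑ j : Fin e, Module.finrank k (𝒩 ((j.val : ℤ) + 1 + 1))) ≤ ℓ := h8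
    have h9 : (e - 1) ≤ ∑ j : Fin e, Module.finrank k (𝒩 ((j.val : ℤ) + 1 + 1)) := by
      rcases Nat.eq_zero_or_pos e with he0 | hepos
      · omega
      obtain ⟨e', rfl⟩ := Nat.exists_eq_add_of_le' hepos
      rw [Fin.sum_univ_castSucc]
      refine le_trans ?_ (Nat.le_add_right _ _)
      calc e' + 1 - 1 = ∑ _j : Fin e', 1 := by simp
        _ ≤ _ := Finset.sum_le_sum fun j _ => by
          have hj := hne (j.val + 2) (by omega)
          simpa [add_assoc] using hj
    have h10 : 1 ≤ Module.finrank k (𝒩 (0 : ℤ)) := hne 0 (Nat.zero_le _)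
    omega
  rcases le_total ((ys.length : ℤ) - ((r : ℤ) + 1)) 0 with hc | hc
  · have : GrLC.endDeg (fun n => (𝒩 n).toAddSubgroup) ≤
        ((((ℓ : ℤ) - ((r : ℤ) + 1 - ys.length) : ℤ) : WithTop ℤ) : WithBot (WithTop ℤ)) := by
      refine (hend _).2 fun m hm => ?_
      rcases lt_or_ge m 0 with h | h
      · exact hneg m h
      obtain ⟨m, rfl⟩ := Int.eq_ofNat_of_zero_le h
      by_contra hne
      have := hbd m hne
      omega
    refine (add_le_add this le_rfl).trans ?_
    rw [← WithBot.coe_add, ← WithTop.coe_add, sub_add_cancel]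
  · have : GrLC.endDeg (fun n => (𝒩 n).toAddSubgroup) ≤
        ((((ℓ : ℤ) - ((r : ℤ) + 1 - ys.length) : ℤ) : WithTop ℤ) : WithBot (WithTop ℤ)) := by
      refine (hend _).2 fun m hm => ?_
      rcases lt_or_ge m 0 with h | h
      · exact hneg m h
      obtain ⟨m, rfl⟩ := Int.eq_ofNat_of_zero_le h
      by_contra hne
      have := hbd m hne
      omega
    refine (add_le_add this le_rfl).trans ?_
    rw [← WithBot.coe_add, ← WithTop.coe_add, sub_add_cancel]

end Groth.Agent.S15433
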