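import Groth.Statements.S15435
import Groth.Agent.Lib.GrSheafReg.Main

set_option autoImplicit false
universe u
open GrSyz

namespace Groth.Agent.S15435
open Groth.Agent
/-- Let k be a field, S = k[x_0, …, x_r] graded by degree, 𝔪 = (x_0, …, x_r), and M a finitely generated
ℤ-graded S-module; M̃ and the M(d)~ denote the O-modules on P^r_k associated with the pieces M_n, n
≥ 0 (they depend only on the pieces of large degree), with the canonical maps M_d → H^0(P^r_k,
M(d)~); graded local cohomology is computed from any *injective resolution in the graded category;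
let d ≥ 0. Then M is d-regular, that is H^0_𝔪(M) has no nonzero piece above degree d and H^i_𝔪(M)
vanishes in degree d − i + 1 for every i > 0, if and only if: (1) the sheaf M̃ is d-regular,
H^i(P^r_k, M̃(d − i)) = 0 for 1 ≤ i ≤ r; (2) H^0_𝔪(M) vanishes in every degree e > d; and (3) the
canonical map from M_d to the global sections of M(d)~ is surjective. (The published statement
allows any integer d; it is stated here for d ≥ 0.) -/
theorem result (k : Type u) [Field k] (r : ℕ)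
    (M : Type u) [AddCommGroup M] [Module k M] [Module (MvPolynomial (Fin (r + 1)) k) M]
    [IsScalarTower k (MvPolynomial (Fin (r + 1)) k) M] [Module.Finite (MvPolynomial (Fin (r + 1)) k) M]
    (ℳ : ℤ → Submodule k M) [DirectSum.Decomposition ℳ] [SetLike.GradedSMul (GrSyz.stdGr k (Fin (r + 1))) ℳ]
    [SetLike.GradedSMul (CohB1.polyGrading r k) (fun n : ℕ => ℳ (n : ℤ))]
    (E : GrLC.StarInjRes (GrSyz.stdGr k (Fin (r + 1))) ℳ) (d : ℕ) :
    (GrLC.endDeg (E.Hgr (GrSyz.irrel (GrSyz.stdGr k (Fin (r + 1)))) 0) ≤ (((d : ℤ) : WithTop ℤ) : WithBot (WithTop ℤ)) ∧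
        ∀ i : ℕ, 0 < i → E.Hcomp (GrSyz.irrel (GrSyz.stdGr k (Fin (r + 1)))) i ((d : ℤ) - (i : ℤ) + 1) = ⊥) ↔
      (Curv2.IsMRegular k r (GrTilde.tilde (CohB1.polyGrading r k) (fun n : ℕ => ℳ (n : ℤ)) 0) (d : ℤ) ∧
        (∀ e : ℤ, (d : ℤ) < e → E.Hcomp (GrSyz.irrel (GrSyz.stdGr k (Fin (r + 1)))) 0 e = ⊥) ∧
        Function.Surjective (fun m : ↥(ℳ ((d : ℕ) : ℤ)) => GrTilde.globalOf (CohB1.polyGrading r k) (fun n : ℕ => ℳ (n : ℤ)) m)) := by
  constructor
  · intro h
    have hI := Lib.GrSheafReg.Main.inv_of_VR (r := r) (ℳ := ℳ) (d := d)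
      ((Lib.Graded.Reg.VR_iff_diag E).2 h)
    refine ⟨fun i hi _ => Lib.GrSheafReg.Step.reg_of_sreg ℳ hI.sreg i hi, fun e he => ?_, fun σ => hI.surj σ⟩
    refine (Lib.Graded.LES.Hcomp_eq_bot_iff (GrSyz.irrel (GrSyz.stdGr k (Fin (r + 1)))) E 0 e).2
      ((Lib.Graded.Van.V_toMod_iff E).1 (Lib.Graded.Van.V_zero_iff.2 fun x hx hg => ?_))
    exact hI.tors e he x ((Lib.Graded.StarInj.mem_toMod (GrSyz.stdGr k (Fin (r + 1))) ℳ).1 hx) hg
  · rintro ⟨h1, h2, h3⟩
    refine (Lib.Graded.Reg.VR_iff_diag E).1 (Lib.GrSheafReg.Main.VR_of_inv ⟨?_, fun e he m hm hg => ?_, h3⟩)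
    · intro i hi
      by_cases hir : i ≤ r
      · exact Lib.ProjKoszul.Chase.subsingleton_of_iso k (Lib.GrSheafReg.Step.qi ℳ ((d : ℤ) - i)) (h1 i hi hir)
      · exact @Lib.ProjCoh.Twist.subsingleton_HH_of_lt r k _ _
          (Lib.GrSheafReg.Pos.isQCoh (r := r) ℳ ((d : ℤ) - i)) i (by omega)
    · have hV := (Lib.Graded.Van.V_toMod_iff E).2
        ((Lib.Graded.LES.Hcomp_eq_bot_iff (GrSyz.irrel (GrSyz.stdGr k (Fin (r + 1)))) E 0 e).1 (h2 e he))
      exact Lib.Graded.Van.V_zero_iff.1 hV m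
        ((Lib.Graded.StarInj.mem_toMod (GrSyz.stdGr k (Fin (r + 1))) ℳ).2 hm) hg

end Groth.Agent.S15435
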