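import Groth.Statements.S15436
import Groth.Agent.Lib.Graded.Reg
import Groth.Agent.Lib.Tor.Balance
import Mathlib.LinearAlgebra.TensorProduct.Pi
import Mathlib.RingTheory.Length
import Mathlib.RingTheory.Flat.Basic

set_option autoImplicit false
universe u
open GrSyz

namespace Groth.Agent.S15436

open Groth.Agent.Lib.Graded Groth.Agent.Lib.Graded.StarInj

open CategoryTheory CategoryTheory.Limits MonoidalCategory MvPolynomial

open scoped TensorProduct

theorem length_tor {k : Type u} [Field k] {r : ℕ} {M : Type u} [AddCommGroup M]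
    [Module (MvPolynomial (Fin (r + 1)) k) M] {τ : Type u} [SetLike τ M] [AddSubgroupClass τ M]
    {ℳ : ℤ → τ} [DirectSum.Decomposition ℳ] [SetLike.GradedSMul (GrSyz.stdGr k (Fin (r + 1))) ℳ]
    (F : GrSyz.FreeRes (GrSyz.stdGr k (Fin (r + 1))) ℳ)
    (hF : F.IsMinimal (GrSyz.irrel (GrSyz.stdGr k (Fin (r + 1)))).toIdeal) (i : ℕ)
    (J : Ideal (MvPolynomial (Fin (r + 1)) k)) (hJ : J = (GrSyz.irrel (GrSyz.stdGr k (Fin (r + 1)))).toIdeal) :
    Module.length (MvPolynomial (Fin (r + 1)) k)
        (((CategoryTheory.Tor (ModuleCat.{u} (MvPolynomial (Fin (r + 1)) k)) i).obj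
            (ModuleCat.of (MvPolynomial (Fin (r + 1)) k) (MvPolynomial (Fin (r + 1)) k ⧸ J))).obj
          (ModuleCat.of (MvPolynomial (Fin (r + 1)) k) M)) = (F.rk i : ℕ∞) := by
  let S := MvPolynomial (Fin (r + 1)) k
  let P : ChainComplex (ModuleCat.{u} S) ℕ := ChainComplex.of
    (fun j => ModuleCat.of S (Fin (F.rk j) → S)) (fun j => ModuleCat.ofHom (F.dLin j)) (fun j => by
      ext1
      exact LinearMap.ext fun v => LinearMap.mem_ker.1 ((F.exact_succ j).ge ⟨v, rfl⟩))
  have hd : ∀ j, P.d (j + 1) j = ModuleCat.ofHom (F.dLin j) := fun j =>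
    ChainComplex.of_d (fun j => ModuleCat.of S (Fin (F.rk j) → S)) (fun j => ModuleCat.ofHom (F.dLin j)) j
  let ε : P.X 0 ⟶ ModuleCat.of S M := ModuleCat.ofHom F.augLin
  have w : P.d 1 0 ≫ ε = 0 := by
    rw [hd]
    ext1
    exact LinearMap.ext fun v => LinearMap.mem_ker.1 (F.exact_zero.ge ⟨v, rfl⟩)
  have he : Epi ε := (ModuleCat.epi_iff_surjective _).2 F.aug_surjective
  have hex : (ShortComplex.mk _ _ w).Exact := by
    rw [ShortComplex.moduleCat_exact_iff_range_eq_ker]
    change LinearMap.range (P.d 1 0).hom = LinearMap.ker F.augLin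
    rw [hd]
    exact F.exact_zero.symm
  have hexact : ∀ n, P.ExactAt (n + 1) := fun n => by
    rw [HomologicalComplex.exactAt_iff' _ (n + 2) (n + 1) n (by simp) (by simp),
      ShortComplex.moduleCat_exact_iff_range_eq_ker]
    change LinearMap.range (P.d (n + 2) (n + 1)).hom = LinearMap.ker (P.d (n + 1) n).hom
    rw [hd, hd]
    exact (F.exact_succ n).symm
  have hflat : ∀ j, Module.Flat S (P.X j) := fun j => inferInstanceAs (Module.Flat S (Fin (F.rk j) → S))
  let K := ModuleCat.of S (S ⧸ J)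
  have hz : ∀ j, (P.d (j + 1) j) ▷ K = 0 := by
    intro j
    rw [hd]
    ext1
    refine TensorProduct.ext' fun v c => ?_
    change (F.dLin j v) ⊗ₜ[S] c = 0
    rw [pi_eq_sum_univ' (F.dLin j v), TensorProduct.sum_tmul]
    refine Finset.sum_eq_zero fun a _ => ?_
    obtain ⟨c, rfl⟩ := Submodule.mkQ_surjective _ c
    rw [TensorProduct.smul_tmul]
    have h0 : F.dLin j v a • (Submodule.mkQ J c : S ⧸ J) = 0 := by
      rw [← map_smul]
      exact (Submodule.Quotient.mk_eq_zero J).2 (Ideal.mul_mem_right c J (hJ ▸ Reg.mulVec_mem F hF v a))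
    rw [h0, TensorProduct.tmul_zero]
  have hz' : ∀ a b, (((Lib.Tor.Balance.tensorCxFun P).obj K).d a b) = 0 := by
    intro a b
    by_cases h : (ComplexShape.down ℕ).Rel a b
    · obtain rfl : a = b + 1 := (h : b + 1 = a).symm
      exact hz b
    · exact ((Lib.Tor.Balance.tensorCxFun P).obj K).shape a b h
  let e : ((CategoryTheory.Tor (ModuleCat.{u} S) i).obj K).obj (ModuleCat.of S M) ≅ P.X i ⊗ K :=
    Lib.Tor.Balance.torFlipIso K (ModuleCat.of S M) i ≪≫
      ((Lib.Tor.Balance.torIsoOfFlatResolution P hflat hexact ε w he hex i).app K).symm ≪≫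
      (ShortComplex.LeftHomologyData.ofZeros (((Lib.Tor.Balance.tensorCxFun P).obj K).sc i)
        (hz' _ _) (hz' _ _)).homologyIso
  change Module.length S (((CategoryTheory.Tor (ModuleCat.{u} S) i).obj K).obj (ModuleCat.of S M)) = _
  rw [e.toLinearEquiv.length_eq]
  change Module.length S ((Fin (F.rk i) → S) ⊗[S] (S ⧸ J)) = _
  rw [((TensorProduct.comm S (Fin (F.rk i) → S) (S ⧸ J)).trans
    (TensorProduct.piScalarRight S S (S ⧸ J) (Fin (F.rk i)))).length_eq, Module.length_pi_of_fintype]
  have hmax : J.IsMaximal := by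
    refine Ideal.isMaximal_iff.2 ⟨hJ ▸ Poly.one_not_mem_irrel, fun I x hle hxJ hxI => ?_⟩
    have hu := Poly.isUnit_proj_zero (show x ∉ (GrSyz.irrel (GrSyz.stdGr k (Fin (r + 1)))).toIdeal from hJ ▸ hxJ)
    have hsub : x - Basic.proj (GrSyz.stdGr k (Fin (r + 1))) 0 x ∈ J := by
      rw [hJ]
      by_contra hc
      refine (Poly.isUnit_proj_zero hc).ne_zero ?_
      rw [map_sub, Basic.proj_of_mem _ (Basic.proj_mem _ _ _), sub_self]
    have : Basic.proj (GrSyz.stdGr k (Fin (r + 1))) 0 x ∈ I := by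
      have := sub_mem hxI (hle hsub)
      rwa [sub_sub_cancel] at this
    exact (Ideal.eq_top_of_isUnit_mem _ this hu).symm ▸ trivial
  haveI : IsSimpleModule S (S ⧸ J) := isSimpleModule_iff_isCoatom.2 (Ideal.isMaximal_def.1 hmax)
  simp [Module.length_eq_one]


/-- Let k be a field, S = k[x_0, …, x_r] graded by degree, 𝔪 = (x_0, …, x_r), M a finitely generated
ℤ-graded S-module and F a minimal graded free resolution of M by free modules of finite rank with
homogeneous bases (all matrix entries in 𝔪). Then for every i the rank of F_i (the number of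
elements of a minimal generating set of the i-th syzygy module) equals the length, i.e. the
dimension over k = S/𝔪, of Tor_i^S(S/𝔪, M), where Tor_i is the i-th left derived functor of S/𝔪 ⊗_S
− on S-modules. (The published statement is the degree-by-degree refinement: F_i has exactly dim_k
Tor_i^S(k, M)_j basis vectors of degree j; the grading on Tor is not available here, so the counts
are summed over j.) -/
theorem result (k : Type u) [Field k] (r : ℕ)
    (M : Type u) [AddCommGroup M] [Module k M] [Module (MvPolynomial (Fin (r + 1)) k) M]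
    [IsScalarTower k (MvPolynomial (Fin (r + 1)) k) M] [Module.Finite (MvPolynomial (Fin (r + 1)) k) M]
    (ℳ : ℤ → Submodule k M) [DirectSum.Decomposition ℳ] [SetLike.GradedSMul (GrSyz.stdGr k (Fin (r + 1))) ℳ]
    (F : GrSyz.FreeRes (GrSyz.stdGr k (Fin (r + 1))) ℳ) (hF : F.IsMinimal (GrSyz.irrel (GrSyz.stdGr k (Fin (r + 1)))).toIdeal) (i : ℕ) :
    Module.length (MvPolynomial (Fin (r + 1)) k)
        (((CategoryTheory.Tor (ModuleCat.{u} (MvPolynomial (Fin (r + 1)) k)) i).obj
            (ModuleCat.of (MvPolynomial (Fin (r + 1)) k) ((MvPolynomial (Fin (r + 1)) k) ⧸ (GrSyz.irrel (GrSyz.stdGr k (Fin (r + 1)))).toIdeal))).obj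
          (ModuleCat.of (MvPolynomial (Fin (r + 1)) k) M)) = (F.rk i : ℕ∞) := by
  exact length_tor F hF i _ rfl

end Groth.Agent.S15436
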