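import Groth.Statements.S15437
import Groth.Agent.Lib.Graded.Hilbert
import Mathlib.RingTheory.Polynomial.Pochhammer
import Mathlib.Tactic.FieldSimp
import Mathlib.Algebra.BigOperators.Finprod

set_option autoImplicit false
universe u
open GrSyz

namespace Groth.Agent.S15437

open Groth.Agent.Lib.Graded Groth.Agent.Lib.Graded.StarInj

/-- Let k be a field, S = k[x_0, …, x_r] graded by degree and M a ℤ-graded S-module with a finite graded
free resolution F of length at most m by free modules of finite rank with homogeneous bases; write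
β_{i,j} for the number of basis vectors of F_i of degree j (the graded Betti numbers when F is
minimal) and B_j = Σ_{i ≤ m} (−1)^i β_{i,j}. Then for every integer d, dim_k M_d = Σ_j B_j C(r + d −
j, r), where a binomial with d < j counts as zero and only finitely many j contribute; and the B_j
are recovered from the Hilbert function by B_j = dim_k M_j − Σ_{n < j} B_n C(r + j − n, r). (Stated
for any finite graded free resolution; the published statement takes the minimal one.) -/
theorem result (k : Type u) [Field k] (r : ℕ)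
    (M : Type u) [AddCommGroup M] [Module k M] [Module (MvPolynomial (Fin (r + 1)) k) M]
    [IsScalarTower k (MvPolynomial (Fin (r + 1)) k) M] [Module.Finite (MvPolynomial (Fin (r + 1)) k) M]
    (ℳ : ℤ → Submodule k M) [DirectSum.Decomposition ℳ] [SetLike.GradedSMul (GrSyz.stdGr k (Fin (r + 1))) ℳ]
    (F : GrSyz.FreeRes (GrSyz.stdGr k (Fin (r + 1))) ℳ) (m : ℕ) (hF : F.HasLengthLE m) :
    (∀ d : ℤ, (Module.finrank k ↥(ℳ d) : ℤ) =
        ∑ᶠ j : ℤ, (∑ i ∈ Finset.range (m + 1), (-1 : ℤ) ^ i * (F.betti i j : ℤ)) *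
          (if j ≤ d then ((Nat.choose (r + (d - j).toNat) r : ℕ) : ℤ) else 0)) ∧
      ∀ j : ℤ, (∑ i ∈ Finset.range (m + 1), (-1 : ℤ) ^ i * (F.betti i j : ℤ)) =
        (Module.finrank k ↥(ℳ j) : ℤ) -
          ∑ᶠ n : ℤ, (if n < j then (∑ i ∈ Finset.range (m + 1), (-1 : ℤ) ^ i * (F.betti i n : ℤ)) * ((Nat.choose (r + (j - n).toNat) r : ℕ) : ℤ) else 0) := by
  classical
  obtain ⟨c, hc⟩ : ∃ c : ℤ → ℤ, c = fun j => ∑ i ∈ Finset.range (m + 1), (-1 : ℤ) ^ i * (F.betti i j : ℤ) :=
    ⟨_, rfl⟩
  obtain ⟨J, hJ⟩ : ∃ J : Finset ℤ, J = (Finset.range (m + 1)).biUnion fun i =>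
      Finset.univ.image (F.deg i) := ⟨_, rfl⟩
  have hmem : ∀ i ∈ Finset.range (m + 1), ∀ b, F.deg i b ∈ J := fun i hi b =>
    hJ ▸ Finset.mem_biUnion.2 ⟨i, hi, Finset.mem_image_of_mem _ (Finset.mem_univ b)⟩
  have hsupp : Function.support c ⊆ ↑J := by
    intro j hj
    by_contra hjJ
    refine hj ?_
    rw [hc]
    refine Finset.sum_eq_zero fun i hi => ?_
    have hb : F.betti i j = 0 := Finset.card_eq_zero.2 (Finset.filter_eq_empty_iff.2
      fun b _ hb => hjJ (by rw [← hb]; exact hmem i hi b))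
    rw [hb, Nat.cast_zero, mul_zero]
  have hsum : ∀ f : ℤ → ℤ, ∑ i ∈ Finset.range (m + 1), (-1 : ℤ) ^ i * ∑ b, f (F.deg i b) = ∑ᶠ j, c j * f j := by
    intro f
    rw [finsum_eq_sum_of_support_subset _ ((Function.support_mul_subset_left _ _).trans hsupp), hc]
    simp only [Finset.sum_mul]
    rw [Finset.sum_comm]
    refine Finset.sum_congr rfl fun i hi => ?_
    rw [← Finset.sum_fiberwise_of_maps_to (fun b _ => hmem i hi b) fun b => f (F.deg i b), Finset.mul_sum]
    refine Finset.sum_congr rfl fun j _ => ?_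
    rw [Finset.sum_congr rfl fun b hb => congrArg f (Finset.mem_filter.1 hb).2, Finset.sum_const, nsmul_eq_mul,
      ← mul_assoc]
    rfl
  have h1 : ∀ d : ℤ, (Module.finrank k ↥(ℳ d) : ℤ) =
      ∑ᶠ j, c j * (if j ≤ d then ((Nat.choose (r + (d - j).toNat) r : ℕ) : ℤ) else 0) := by
    intro d
    rw [Hilbert.finrank_eq_sum F d hF, ← hsum]
    refine Finset.sum_congr rfl fun i _ => congrArg _ (Finset.sum_congr rfl fun b _ => ?_)
    rcases le_or_gt (F.deg i b) d with h | h
    · rw [if_pos h, Hilbert.hS, if_pos (by omega)]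
    · rw [if_neg (not_le.2 h), Hilbert.hS, if_neg (by omega), Nat.cast_zero]
  subst hc
  refine ⟨h1, fun j => ?_⟩
  rw [h1 j, ← finsum_sub_distrib]
  · refine (Eq.trans ?_ (finsum_eq_single _ j ?_).symm)
    · simp
    · intro n hn
      rcases lt_or_gt_of_ne hn with h | h
      · rw [if_pos h.le, if_pos h, sub_self]
      · rw [if_neg (not_le.2 h), if_neg (not_lt.2 h.le), mul_zero, sub_self]
  · exact J.finite_toSet.subset ((Function.support_mul_subset_left _ _).trans hsupp)
  · refine J.finite_toSet.subset fun n hn => hsupp ?_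
    intro h0
    apply hn
    show (if n < j then _ else _) = (0 : ℤ)
    simp only at h0
    rw [h0, zero_mul, ite_self]

end Groth.Agent.S15437
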