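import Groth.Statements.S15438
import Groth.Agent.Lib.ProjSpace.BaseChange

set_option autoImplicit false
set_option linter.style.haveILetI false
set_option linter.unusedSimpArgs false
set_option backward.isDefEq.respectTransparency false
set_option backward.isDefEq.respectTransparency.types false
universe u
open AlgEqCyc

namespace Groth.Agent.S15438

open AlgebraicGeometry CategoryTheory CategoryTheory.Limits in
/-- The member of the diagonal family at a rational point. -/
theorem fibreFun_diag {k : Type u} [Field k] {C : Scheme.{u}} [DecidableEq ↥C] [IsIntegral C]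
    (q : C ⟶ Spec (CommRingCat.of k)) [IsSeparated q]
    (t : Spec (CommRingCat.of k) ⟶ C) (ht : t ≫ q = 𝟙 _) [DecidableEq ↥(pullback q q)] (x : C) :
    AlgEqCyc.fibreFun q q (Function.locallyFinsuppWithin.single (pullback.diagonal q (genericPoint C)) (1 : ℤ)) t ht x =
      (Function.locallyFinsuppWithin.single (t (IsLocalRing.closedPoint k)) (1 : ℤ)) x := by
  set c := t (IsLocalRing.closedPoint k) with hc
  set w₀ := pullback.diagonal q (genericPoint C) with hw₀
  let D := pullback.diagonal q
  let σ := AlgEqCyc.slice q q t ht
  have hσc : σ c = D c := by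
    have : t ≫ σ = t ≫ D := by
      apply pullback.hom_ext
      · simp [σ, D, AlgEqCyc.slice]
      · simp [σ, D, AlgEqCyc.slice, reassoc_of% ht]
    exact congrArg (fun φ : Spec (CommRingCat.of k) ⟶ pullback q q => φ (IsLocalRing.closedPoint k)) this
  have hspec : w₀ ⤳ σ x ↔ x = c := by
    refine ⟨fun h => ?_, fun h => ?_⟩
    · have hcl : IsClosed (Set.range D) := D.isClosedEmbedding.isClosed_range
      obtain ⟨d, hd⟩ := h.mem_closed hcl ⟨_, rfl⟩
      have h1 := congrArg (fun v => (pullback.fst q q) v) hd
      have h2 := congrArg (fun v => (pullback.snd q q) v) hd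
      simp only [σ, D, AlgEqCyc.slice, ← Scheme.Hom.comp_apply, pullback.lift_fst, pullback.lift_snd,
        pullback.diagonal_fst, pullback.diagonal_snd, CategoryTheory.id_apply] at h1 h2
      rw [Scheme.Hom.comp_apply] at h2
      haveI : Subsingleton ↥(Spec (CommRingCat.of k)) := inferInstanceAs (Subsingleton (PrimeSpectrum k))
      exact (h1.symm.trans h2).trans (congrArg t (Subsingleton.elim _ _))
    · subst h
      rw [hσc]
      exact (genericPoint_specializes c).map D.continuous
  rw [AlgEqCyc.fibreFun]
  by_cases hx : x = c
  · subst hx
    have h0 : (Function.locallyFinsuppWithin.single w₀ (1 : ℤ)) w₀ = 1 := by simp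
    have hmem : (Function.locallyFinsuppWithin.single w₀ (1 : ℤ)) w₀ ≠ 0 ∧ w₀ ⤳ AlgEqCyc.slice q q t ht c :=
      ⟨by rw [h0]; exact one_ne_zero, hspec.2 rfl⟩
    rw [finsum_eq_single _ (⟨w₀, hmem⟩ : {w : ↥(pullback q q) // (Function.locallyFinsuppWithin.single w₀ (1 : ℤ)) w ≠ 0 ∧
        w ⤳ AlgEqCyc.slice q q t ht c}) (fun w hw => (hw (Subtype.ext (by
          by_contra hne
          exact w.2.1 (by simp [hne])))).elim)]
    rw [h0, one_mul]
    simp only [Function.locallyFinsuppWithin.single_apply, if_true, Nat.cast_eq_one]
    -- the multiplicity
    have key : ∀ (v : ↥(pullback q q)) (_ : v = D c) (h : w₀ ⤳ v),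
        AlgEqCyc.fibreMult (pullback.snd q q) v w₀ h = 1 := by
      rintro _ rfl h
      unfold AlgEqCyc.fibreMult
      let δ := (D.stalkMap c).hom
      have hδ : Function.Surjective δ := D.stalkMap_surjective c
      let ι := (C.presheaf.stalkSpecializes (genericPoint_specializes c)).hom
      have hι : Function.Injective ι := by
        have : IsFractionRing (C.presheaf.stalk c) C.functionField := inferInstance
        exact IsFractionRing.injective (C.presheaf.stalk c) C.functionField
      have hker : RingHom.ker (Cyc.specMap (D c) w₀ h) = RingHom.ker δ := by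
        have hres : Function.Injective (D.residueFieldMap (genericPoint C)).hom := RingHom.injective _
        have hK : Function.Injective (C.residue (genericPoint C)).hom := by
          letI : Field (C.presheaf.stalk (genericPoint C)) := inferInstanceAs (Field C.functionField)
          exact RingHom.injective _
        ext a
        simp only [RingHom.mem_ker, Cyc.specMap]
        rw [← map_eq_zero_iff _ hres]
        have e : D.residueFieldMap (genericPoint C) ((pullback q q).residue w₀
            ((pullback q q).presheaf.stalkSpecializes h a)) =
            C.residue (genericPoint C) (ι (δ a)) := by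
          rw [Scheme.Hom.residueFieldMap]
          refine (ConcreteCategory.congr_hom (Scheme.residue_residueFieldMap D (genericPoint C)) _).trans ?_
          exact congrArg (C.residue (genericPoint C))
            (D.stalkSpecializes_stalkMap_apply (genericPoint C) c (genericPoint_specializes c) a)
        show (D.residueFieldMap (genericPoint C)).hom ((pullback q q).residue w₀
            ((pullback q q).presheaf.stalkSpecializes h a)) = 0 ↔ _
        rw [show (D.residueFieldMap (genericPoint C)).hom ((pullback q q).residue w₀
            ((pullback q q).presheaf.stalkSpecializes h a)) = _ from e]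
        exact (map_eq_zero_iff _ hK).trans (map_eq_zero_iff _ hι)
      let O := (pullback q q).presheaf.stalk (D c)
      have hJ : RingHom.ker δ ⊔ (IsLocalRing.maximalIdeal (C.presheaf.stalk (pullback.snd q q (D c)))).map
          ((pullback.snd q q).stalkMap (D c)).hom = IsLocalRing.maximalIdeal O := by
        have hle : RingHom.ker δ ≤ IsLocalRing.maximalIdeal O := IsLocalRing.le_maximalIdeal (RingHom.ker_ne_top δ)
        refine le_antisymm (sup_le hle (IsLocalRing.map_maximalIdeal_le ((pullback.snd q q).stalkMap (D c)).hom)) fun a ha => ?_
        have e : D ≫ pullback.snd q q = 𝟙 C := pullback.diagonal_snd q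
        haveI : IsIso ((D ≫ pullback.snd q q).stalkMap c) := by rw [e]; infer_instance
        obtain ⟨b, hb⟩ := (ConcreteCategory.bijective_of_isIso ((D ≫ pullback.snd q q).stalkMap c)).2 (δ a)
        rw [Scheme.Hom.stalkMap_comp] at hb
        have hbm : b ∈ IsLocalRing.maximalIdeal _ := by
          rw [IsLocalRing.mem_maximalIdeal, mem_nonunits_iff] at ha ⊢
          intro hu
          have := (hu.map ((pullback.snd q q).stalkMap (D c)).hom).map δ
          exact ha (isUnit_of_map_unit δ a (hb ▸ this))
        refine Submodule.mem_sup.2 ⟨a - ((pullback.snd q q).stalkMap (D c)).hom b, ?_, _,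
          Ideal.mem_map_of_mem _ hbm, sub_add_cancel _ _⟩
        rw [RingHom.mem_ker, map_sub, sub_eq_zero]
        exact hb.symm
      have hlen : Module.length O (Cyc.LocQuot (D c) w₀ h ⧸
          (IsLocalRing.maximalIdeal (C.presheaf.stalk (pullback.snd q q (D c)))).map
            ((Ideal.Quotient.mk (RingHom.ker (Cyc.specMap (D c) w₀ h))).comp
              ((pullback.snd q q).stalkMap (D c)).hom)) = 1 := by
        rw [← Ideal.map_map, LinearEquiv.length_eq
          ((DoubleQuot.quotQuotEquivQuotSupₐ O _ _).toLinearEquiv.trans
            (Submodule.quotEquivOfEq _ (IsLocalRing.maximalIdeal O) (by rw [hker, hJ]))),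
          Module.length_eq_one_iff]
        exact isSimpleModule_iff_isCoatom.2 (IsLocalRing.maximalIdeal.isMaximal O).out
      rw [hlen]
      rfl
    exact key _ hσc _
  · haveI : IsEmpty {w : ↥(pullback q q) // (Function.locallyFinsuppWithin.single w₀ (1 : ℤ)) w ≠ 0 ∧
        w ⤳ AlgEqCyc.slice q q t ht x} := ⟨fun w => by
      have : w.1 = w₀ := by
        by_contra hne
        exact w.2.1 (by simp [hne])
      exact hx (hspec.1 (this ▸ w.2.2))⟩
    rw [finsum_of_isEmpty]
    simp [hx]

open AlgebraicGeometry CategoryTheory CategoryTheory.Limits in
/-- Let C be a scheme over a field k that is smooth over k, projective over k, integral and of dimension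
one, and let P₁, P₂ be two k-rational points of C. Then the zero-cycle [P₁] − [P₂] on C is an
elementary algebraically trivial cycle: it is the difference of the members, at two k-rational
points, of a single family of cycles on C parametrised by a smooth projective integral curve over k,
every component of the family dominating the parameter curve. In particular [P₁] and [P₂] are
algebraically equivalent on C. (The published statement is over an algebraically closed field of
characteristic zero, where the points are closed points and algebraic equivalence is considered on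
smooth projective schemes; this row allows any field, asks the two points to be k-rational and asks
C to be projective over k.) -/
theorem result (k : Type u) [Field k]
    (C : Scheme.{u}) [DecidableEq ↥C] (q : C ⟶ Spec (CommRingCat.of k)) (hs : Smooth q)
    (hp : Neron.IsProjectiveOver k (Over.mk q)) (hi : IsIntegral C) (hd : topologicalKrullDim ↥C = 1)
    (P₁ P₂ : Spec (CommRingCat.of k) ⟶ C) (h₁ : P₁ ≫ q = 𝟙 _) (h₂ : P₂ ≫ q = 𝟙 _) :
    AlgEqCyc.IsElemAlgTriv q
      (Function.locallyFinsuppWithin.single (P₁ (IsLocalRing.closedPoint k)) (1 : ℤ) -
        Function.locallyFinsuppWithin.single (P₂ (IsLocalRing.closedPoint k)) (1 : ℤ)) := by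
  classical
  haveI := hi
  haveI : IsSeparated q := by
    obtain ⟨n, i, hi, hq⟩ := hp
    haveI := hi
    haveI : IsSeparated (i ≫ CohB1.ProjSpaceOver.toBase n (Spec (CommRingCat.of k))) := inferInstance
    exact (show i ≫ CohB1.ProjSpaceOver.toBase n (Spec (CommRingCat.of k)) = q from hq) ▸ this
  refine ⟨C, q, hs, hp, hi, hd, Function.locallyFinsuppWithin.single (pullback.diagonal q (genericPoint C)) (1 : ℤ),
    fun w hw => ?_, P₁, P₂, h₁, h₂, fun x => ?_⟩
  · have : w = pullback.diagonal q (genericPoint C) := by
      by_contra hne
      exact hw (by simp [hne])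
    rw [this, ← Scheme.Hom.comp_apply, pullback.diagonal_snd]
    simp [genericPoint_closure]
  · rw [fibreFun_diag q P₁ h₁ x, fibreFun_diag q P₂ h₂ x]
    simp [Pi.single_apply]

end Groth.Agent.S15438
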