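import Groth.Statements.S15439
import Groth.Agent.Lib.ProjSpace.BaseChange
import Mathlib.AlgebraicGeometry.AlgClosed.Basic

set_option autoImplicit false
set_option linter.style.haveILetI false
set_option linter.unusedSimpArgs false
set_option backward.isDefEq.respectTransparency false
set_option backward.isDefEq.respectTransparency.types false
universe u
open AlgEqCyc

namespace Groth.Agent.S15439

open AlgebraicGeometry CategoryTheory CategoryTheory.Limits in
/-- The member of the diagonal family at a rational point. -/
theorem fibreFun_graph {k : Type u} [Field k] {C X : Scheme.{u}} [DecidableEq ↥X] [IsIntegral C]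
    (p : X ⟶ Spec (CommRingCat.of k)) (q : C ⟶ Spec (CommRingCat.of k)) [IsSeparated q]
    (ι : C ⟶ X) [IsClosedImmersion ι] (hιp : ι ≫ p = q)
    (t : Spec (CommRingCat.of k) ⟶ C) (ht : t ≫ q = 𝟙 _) [DecidableEq ↥(pullback p q)] (x : X) :
    AlgEqCyc.fibreFun p q (Function.locallyFinsuppWithin.single
        ((pullback.lift ι (𝟙 C) (by simp [hιp]) : C ⟶ pullback p q) (genericPoint C)) (1 : ℤ)) t ht x =
      (Function.locallyFinsuppWithin.single (ι (t (IsLocalRing.closedPoint k))) (1 : ℤ)) x := by
  classical
  set c := t (IsLocalRing.closedPoint k) with hc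
  let D : C ⟶ pullback p q := pullback.lift ι (𝟙 C) (by simp [hιp])
  haveI : IsClosedImmersion D := by
    have e : D = pullback.diagonal q ≫ pullback.map q q p q ι (𝟙 C) (𝟙 _) (by simp [hιp]) (by simp) := by
      ext <;> simp [D]
    rw [e]
    haveI : IsClosedImmersion (pullback.map q q p q ι (𝟙 C) (𝟙 _) (by simp [hιp]) (by simp)) :=
      MorphismProperty.pullbackMap (P := @IsClosedImmersion) inferInstance inferInstance hιp.symm (Category.id_comp q).symm
    infer_instance
  set w₀ := D (genericPoint C) with hw₀
  let σ := AlgEqCyc.slice p q t ht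
  have hfst : D ≫ pullback.fst p q = ι := pullback.lift_fst _ _ _
  have hsnd : D ≫ pullback.snd p q = 𝟙 C := pullback.lift_snd _ _ _
  have hσc : σ (ι c) = D c := by
    have : t ≫ ι ≫ σ = t ≫ D := by
      apply pullback.hom_ext
      · simp [σ, D, AlgEqCyc.slice]
      · simp [σ, D, AlgEqCyc.slice, reassoc_of% hιp, reassoc_of% ht]
    exact congrArg (fun φ : Spec (CommRingCat.of k) ⟶ pullback p q => φ (IsLocalRing.closedPoint k)) this
  have hspec : w₀ ⤳ σ x ↔ x = ι c := by
    refine ⟨fun h => ?_, fun h => ?_⟩
    · have hcl : IsClosed (Set.range D) := D.isClosedEmbedding.isClosed_range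
      obtain ⟨d, hd⟩ := h.mem_closed hcl ⟨_, rfl⟩
      have h1 := congrArg (fun v => (pullback.fst p q) v) hd
      have h2 := congrArg (fun v => (pullback.snd p q) v) hd
      simp only [σ, D, AlgEqCyc.slice, ← Scheme.Hom.comp_apply, pullback.lift_fst, pullback.lift_snd,
         CategoryTheory.id_apply] at h1 h2
      rw [Scheme.Hom.comp_apply] at h2
      haveI : Subsingleton ↥(Spec (CommRingCat.of k)) := inferInstanceAs (Subsingleton (PrimeSpectrum k))
      have h1' : ι d = x := h1
      have h2' : d = t (p x) := h2
      rw [h2', Subsingleton.elim (p x) (IsLocalRing.closedPoint k)] at h1'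
      exact h1'.symm
    · subst h
      rw [hσc]
      exact (genericPoint_specializes c).map D.continuous
  rw [AlgEqCyc.fibreFun]
  by_cases hx : x = ι c
  · subst hx
    have h0 : (Function.locallyFinsuppWithin.single w₀ (1 : ℤ)) w₀ = 1 := by simp
    have hmem : (Function.locallyFinsuppWithin.single w₀ (1 : ℤ)) w₀ ≠ 0 ∧ w₀ ⤳ AlgEqCyc.slice p q t ht (ι c) :=
      ⟨by rw [h0]; exact one_ne_zero, hspec.2 rfl⟩
    rw [finsum_eq_single _ (⟨w₀, hmem⟩ : {w : ↥(pullback p q) // (Function.locallyFinsuppWithin.single w₀ (1 : ℤ)) w ≠ 0 ∧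
        w ⤳ AlgEqCyc.slice p q t ht (ι c)}) (fun w hw => (hw (Subtype.ext (by
          by_contra hne
          exact w.2.1 (by simp [hne])))).elim)]
    rw [h0, one_mul]
    simp only [Function.locallyFinsuppWithin.single_apply, if_true, Nat.cast_eq_one]
    -- the multiplicity
    have key : ∀ (v : ↥(pullback p q)) (_ : v = D c) (h : w₀ ⤳ v),
        AlgEqCyc.fibreMult (pullback.snd p q) v w₀ h = 1 := by
      rintro _ rfl h
      unfold AlgEqCyc.fibreMult
      let δ := (D.stalkMap c).hom
      have hδ : Function.Surjective δ := D.stalkMap_surjective c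
      let ι := (C.presheaf.stalkSpecializes (genericPoint_specializes c)).hom
      have hι : Function.Injective ι := by
        have : IsFractionRing (C.presheaf.stalk c) C.functionField := inferInstance
        exact IsFractionRing.injective (C.presheaf.stalk c) C.functionField
      have hker : RingHom.ker (Cyc.specMap (D c) w₀ h) = RingHom.ker δ := by
        have hres : Function.Injective (D.residueFieldMap (genericPoint C)).hom := RingHom.injective _
        have hK : Function.Injective (C.residue (genericPoint C)).hom := by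
          letI : Field (C.presheaf.stalk (genericPoint C)) := inferInstanceAs (Field C.functionField)
          exact RingHom.injective _
        ext a
        simp only [RingHom.mem_ker, Cyc.specMap]
        rw [← map_eq_zero_iff _ hres]
        have e : D.residueFieldMap (genericPoint C) ((pullback p q).residue w₀
            ((pullback p q).presheaf.stalkSpecializes h a)) =
            C.residue (genericPoint C) (ι (δ a)) := by
          rw [Scheme.Hom.residueFieldMap]
          refine (ConcreteCategory.congr_hom (Scheme.residue_residueFieldMap D (genericPoint C)) _).trans ?_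
          exact congrArg (C.residue (genericPoint C))
            (D.stalkSpecializes_stalkMap_apply (genericPoint C) c (genericPoint_specializes c) a)
        show (D.residueFieldMap (genericPoint C)).hom ((pullback p q).residue w₀
            ((pullback p q).presheaf.stalkSpecializes h a)) = 0 ↔ _
        rw [show (D.residueFieldMap (genericPoint C)).hom ((pullback p q).residue w₀
            ((pullback p q).presheaf.stalkSpecializes h a)) = _ from e]
        exact (map_eq_zero_iff _ hK).trans (map_eq_zero_iff _ hι)
      let O := (pullback p q).presheaf.stalk (D c)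
      have hJ : RingHom.ker δ ⊔ (IsLocalRing.maximalIdeal (C.presheaf.stalk (pullback.snd p q (D c)))).map
          ((pullback.snd p q).stalkMap (D c)).hom = IsLocalRing.maximalIdeal O := by
        have hle : RingHom.ker δ ≤ IsLocalRing.maximalIdeal O := IsLocalRing.le_maximalIdeal (RingHom.ker_ne_top δ)
        refine le_antisymm (sup_le hle (IsLocalRing.map_maximalIdeal_le ((pullback.snd p q).stalkMap (D c)).hom)) fun a ha => ?_
        have e : D ≫ pullback.snd p q = 𝟙 C := hsnd
        haveI : IsIso ((D ≫ pullback.snd p q).stalkMap c) := by rw [e]; infer_instance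
        obtain ⟨b, hb⟩ := (ConcreteCategory.bijective_of_isIso ((D ≫ pullback.snd p q).stalkMap c)).2 (δ a)
        rw [Scheme.Hom.stalkMap_comp] at hb
        have hbm : b ∈ IsLocalRing.maximalIdeal _ := by
          rw [IsLocalRing.mem_maximalIdeal, mem_nonunits_iff] at ha ⊢
          intro hu
          have := (hu.map ((pullback.snd p q).stalkMap (D c)).hom).map δ
          exact ha (isUnit_of_map_unit δ a (hb ▸ this))
        refine Submodule.mem_sup.2 ⟨a - ((pullback.snd p q).stalkMap (D c)).hom b, ?_, _,
          Ideal.mem_map_of_mem _ hbm, sub_add_cancel _ _⟩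
        rw [RingHom.mem_ker, map_sub, sub_eq_zero]
        exact hb.symm
      have hlen : Module.length O (Cyc.LocQuot (D c) w₀ h ⧸
          (IsLocalRing.maximalIdeal (C.presheaf.stalk (pullback.snd p q (D c)))).map
            ((Ideal.Quotient.mk (RingHom.ker (Cyc.specMap (D c) w₀ h))).comp
              ((pullback.snd p q).stalkMap (D c)).hom)) = 1 := by
        rw [← Ideal.map_map, LinearEquiv.length_eq
          ((DoubleQuot.quotQuotEquivQuotSupₐ O _ _).toLinearEquiv.trans
            (Submodule.quotEquivOfEq _ (IsLocalRing.maximalIdeal O) (by rw [hker, hJ]))),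
          Module.length_eq_one_iff]
        exact isSimpleModule_iff_isCoatom.2 (IsLocalRing.maximalIdeal.isMaximal O).out
      rw [hlen]
      rfl
    exact key _ hσc _
  · haveI : IsEmpty {w : ↥(pullback p q) // (Function.locallyFinsuppWithin.single w₀ (1 : ℤ)) w ≠ 0 ∧
        w ⤳ AlgEqCyc.slice p q t ht x} := ⟨fun w => by
      have : w.1 = w₀ := by
        by_contra hne
        exact w.2.1 (by simp [hne])
      exact hx (hspec.1 (this ▸ w.2.2))⟩
    rw [finsum_of_isEmpty]
    simp [hx]


open AlgebraicGeometry CategoryTheory CategoryTheory.Limits in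
/-- Let k be an algebraically closed field, X a scheme over k and C₁, …, Cₙ finitely many closed
subschemes of X, given as closed immersions ιᵢ : Cᵢ → X over k, such that each Cᵢ is smooth over k,
projective over k, integral and of dimension one and such that the union of the ιᵢ(Cᵢ) is a
connected subset of X. Then for any two k-rational points P and Q of X lying on this union, the
zero-cycles [P] and [Q] on X are algebraically equivalent: [P] − [Q] lies in the subgroup of cycles
on X generated by the elementary algebraically trivial ones. (The published statement speaks of a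
connected curve whose irreducible components are smooth and integral and of two of its points,
inside an ambient smooth projective scheme over an algebraically closed field of characteristic
zero; this row takes any finite family of such curves with connected union in any k-scheme X, k
algebraically closed, and k-rational points.) -/
theorem result (k : Type u) [Field k]
    [IsAlgClosed k] (X : Scheme.{u}) [DecidableEq ↥X] (p : X ⟶ Spec (CommRingCat.of k)) (n : ℕ)
    (C : Fin n → Scheme.{u}) (q : (i : Fin n) → (C i ⟶ Spec (CommRingCat.of k)))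
    (ι : (i : Fin n) → (C i ⟶ X)) (hι : ∀ i, IsClosedImmersion (ι i)) (hq : ∀ i, ι i ≫ p = q i)
    (hs : ∀ i, Smooth (q i)) (hpr : ∀ i, Neron.IsProjectiveOver k (Over.mk (q i)))
    (hint : ∀ i, IsIntegral (C i)) (hd : ∀ i, topologicalKrullDim ↥(C i) = 1)
    (hconn : _root_.IsConnected (⋃ i, Set.range ⇑(ι i)))
    (P Q : Spec (CommRingCat.of k) ⟶ X) (hP : P ≫ p = 𝟙 _) (hQ : Q ≫ p = 𝟙 _)
    (hPC : P (IsLocalRing.closedPoint k) ∈ ⋃ i, Set.range ⇑(ι i))
    (hQC : Q (IsLocalRing.closedPoint k) ∈ ⋃ i, Set.range ⇑(ι i)) :
    AlgEqCyc.IsAlgEquiv p (Function.locallyFinsuppWithin.single (P (IsLocalRing.closedPoint k)) (1 : ℤ))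
      (Function.locallyFinsuppWithin.single (Q (IsLocalRing.closedPoint k)) (1 : ℤ)) := by
  classical
  haveI hsep : ∀ i, IsSeparated (q i) := fun i => by
    obtain ⟨m, j, hj, hjq⟩ := hpr i
    haveI := hj
    haveI : IsSeparated (j ≫ CohB1.ProjSpaceOver.toBase m (Spec (CommRingCat.of k))) := inferInstance
    exact (show j ≫ CohB1.ProjSpaceOver.toBase m (Spec (CommRingCat.of k)) = q i from hjq) ▸ this
  let E : X → X → Prop := fun x y => (Function.locallyFinsuppWithin.single x (1 : ℤ) - Function.locallyFinsuppWithin.single y (1 : ℤ)) ∈ AlgEqCyc.algTriv p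
  have htr : ∀ {x y z}, E x y → E y z → E x z := fun {x y z} h1 h2 => by
    have := add_mem h1 h2
    rwa [sub_add_sub_cancel] at this
  have hsy : ∀ {x y}, E x y → E y x := fun {x y} h1 => by
    have := neg_mem h1
    rwa [neg_sub] at this
  have hlft : ∀ i, LocallyOfFiniteType (q i) := fun i => by haveI := hs i; infer_instance
  -- points of the same curve
  have hsame : ∀ (i) (x y : C i), IsClosed {x} → IsClosed {y} → E (ι i x) (ι i y) := fun i x y hx hy => by
    haveI := hint i
    haveI := hι i
    haveI := hlft i
    refine AddSubgroup.subset_closure ⟨C i, q i, hs i, hpr i, hint i, hd i,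
      Function.locallyFinsuppWithin.single
        ((pullback.lift (ι i) (𝟙 (C i)) (by simp [hq i]) : C i ⟶ pullback p (q i)) (genericPoint (C i))) (1 : ℤ),
      fun w hw => ?_, pointOfClosedPoint (q i) x hx, pointOfClosedPoint (q i) y hy,
      pointOfClosedPoint_comp _ _ _, pointOfClosedPoint_comp _ _ _, fun z => ?_⟩
    · have : w = (pullback.lift (ι i) (𝟙 (C i)) (by simp [hq i]) : C i ⟶ pullback p (q i)) (genericPoint (C i)) := by
        by_contra hne
        exact hw (by simp [hne])
      rw [this, ← Scheme.Hom.comp_apply, pullback.lift_snd]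
      simp [genericPoint_closure]
    · rw [fibreFun_graph p (q i) (ι i) (hq i), fibreFun_graph p (q i) (ι i) (hq i)]
      simp [Pi.single_apply]
  have hcl : ∀ i, IsClosed (Set.range (ι i)) := fun i => by
    haveI := hι i
    exact (ι i).isClosedEmbedding.isClosed_range
  -- rational points of the curves
  have hpt : ∀ (R : Spec (CommRingCat.of k) ⟶ X), R ≫ p = 𝟙 _ → ∀ i, R (IsLocalRing.closedPoint k) ∈ Set.range (ι i) →
      ∃ c : C i, IsClosed {c} ∧ ι i c = R (IsLocalRing.closedPoint k) := fun R hR i ⟨c, hc⟩ => by
    haveI := hι i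
    haveI := hlft i
    haveI := hsep i
    haveI : Surjective (pullback.snd (ι i) R) := ⟨fun a => by
      haveI : Subsingleton ↥(Spec (CommRingCat.of k)) := inferInstanceAs (Subsingleton (PrimeSpectrum k))
      have : a ∈ Set.range (pullback.snd (ι i) R) := by
        rw [Scheme.Pullback.range_snd, Set.mem_preimage, Subsingleton.elim a (IsLocalRing.closedPoint k)]
        exact ⟨c, hc⟩
      exact this⟩
    haveI : IsIso (pullback.snd (ι i) R) := isIso_of_isClosedImmersion_of_surjective _
    let e := inv (pullback.snd (ι i) R) ≫ pullback.fst (ι i) R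
    have hfac : e ≫ ι i = R := by rw [Category.assoc, pullback.condition, IsIso.inv_hom_id_assoc]
    have he : e ≫ q i = 𝟙 _ := by rw [← hq i, ← Category.assoc, hfac, hR]
    have hec : e (IsLocalRing.closedPoint k) = c := (ι i).isClosedEmbedding.injective (by
      rw [← Scheme.Hom.comp_apply, hfac, hc])
    exact ⟨c, hec ▸ ((pointEquivClosedPoint (q i)) ⟨e, he⟩).2, hc⟩
  -- connected chains
  obtain ⟨i₀, hi₀⟩ := Set.mem_iUnion.1 hPC
  obtain ⟨c₀, hc₀, hP'⟩ := hpt P hP i₀ hi₀
  let A : Set (Fin n) := {j | ∀ c : C j, IsClosed {c} → E (P (IsLocalRing.closedPoint k)) (ι j c)}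
  have hA₀ : i₀ ∈ A := fun c hc => hP' ▸ hsame i₀ c₀ c hc₀ hc
  have hstep : ∀ a ∈ A, ∀ b, (Set.range (ι a) ∩ Set.range (ι b)).Nonempty → b ∈ A := fun a ha b hne d hd => by
    haveI := hι a
    haveI := hι b
    haveI := hlft a
    haveI : JacobsonSpace ↥(C a) := LocallyOfFiniteType.jacobsonSpace (q a)
    obtain ⟨_, ⟨y, rfl⟩, hy⟩ := hne
    obtain ⟨c, hc1, hc2⟩ := (nonempty_inter_closedPoints (X := C a) (Z := (ι a) ⁻¹' Set.range (ι b)) ⟨y, hy⟩
      ((hcl b).preimage (ι a).continuous).isLocallyClosed)
    obtain ⟨c', hc'⟩ := hc1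
    have hc'cl : IsClosed {c'} := by
      have hac : IsClosed ({ι a c} : Set X) := by
        simpa using (ι a).isClosedEmbedding.isClosedMap _ hc2
      have : (ι b) ⁻¹' {ι a c} = {c'} := by
        ext z
        rw [Set.mem_preimage, Set.mem_singleton_iff, ← hc', (ι b).isClosedEmbedding.injective.eq_iff]
        rfl
      exact this ▸ hac.preimage (ι b).continuous
    exact htr (ha c hc2) (hc' ▸ hsame b c' d hc'cl hd)
  have hall : ∀ j, Nonempty (C j) → j ∈ A := by
    intro j hj
    by_contra hjA
    obtain ⟨hne, hpre⟩ := hconn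
    rw [isPreconnected_closed_iff] at hpre
    obtain ⟨z, -, hz1, hz2⟩ := hpre (⋃ a ∈ A, Set.range (ι a)) (⋃ b ∈ Aᶜ, Set.range (ι b))
      (Set.Finite.isClosed_biUnion (Set.toFinite _) fun a _ => hcl a)
      (Set.Finite.isClosed_biUnion (Set.toFinite _) fun a _ => hcl a)
      (fun z hz => by
        obtain ⟨a, ha⟩ := Set.mem_iUnion.1 hz
        by_cases haA : a ∈ A
        · exact Or.inl (Set.mem_biUnion haA ha)
        · exact Or.inr (Set.mem_biUnion (show a ∈ Aᶜ from haA) ha))
      ⟨P (IsLocalRing.closedPoint k), hPC, Set.mem_biUnion hA₀ hi₀⟩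
      ⟨ι j hj.some, Set.mem_iUnion.2 ⟨j, _, rfl⟩, Set.mem_biUnion (show j ∈ Aᶜ from hjA) ⟨_, rfl⟩⟩
    obtain ⟨a, ha, hza⟩ := Set.mem_iUnion₂.1 hz1
    obtain ⟨b, hb, hzb⟩ := Set.mem_iUnion₂.1 hz2
    exact hb (hstep a ha b ⟨z, hza, hzb⟩)
  obtain ⟨i₁, hi₁⟩ := Set.mem_iUnion.1 hQC
  obtain ⟨c₁, hc₁, hQ'⟩ := hpt Q hQ i₁ hi₁
  exact hQ' ▸ hall i₁ ⟨c₁⟩ c₁ hc₁

end Groth.Agent.S15439
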