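import Groth.Statements.S15440
import Groth.Agent.Lib.AlgEq37.Total

set_option autoImplicit false
universe u
open AlgEqCyc

namespace Groth.Agent.S15440

open AlgebraicGeometry CategoryTheory CategoryTheory.Limits in
/-- Let k be an algebraically closed field of characteristic zero and X a connected scheme, smooth and
projective over k, with structure morphism p; let δ be the weight function on X induced from weight
0 on the point Spec k and let α be a zero-cycle on X for δ whose degree over k is zero. Then α is
algebraically equivalent to zero on X. (This is one inclusion of the published statement, which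
asserts that on such an X the zero-cycles of degree zero, identified there with the homologically
trivial ones for a fixed Weil cohomology, are exactly the algebraically trivial zero-cycles; the
reverse inclusion is not stated here.) -/
theorem result (k : Type u) [Field k]
    [IsAlgClosed k] [CharZero k] (X : Scheme.{u}) (p : X ⟶ Spec (CommRingCat.of k)) [QuasiCompact p]
    (hs : Smooth p) (hp : Neron.IsProjectiveOver k (Over.mk p)) (hc : ConnectedSpace ↥X)
    (δ : ↥X → ℤ) (hδ : Cyc.DeltaCompat p δ (fun _ => 0)) (α : AlgebraicCycle X ℤ)
    (hα : α ∈ Cyc.Zk X δ 0) (hdeg : ChowOps.deg p δ α = 0) :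
    AlgEqCyc.IsAlgEquivZero p α := by
  classical
  obtain ⟨n, i, hi, hif⟩ := hp
  haveI := hi
  haveI := Groth.Agent.Lib.ProjSpace.BaseChange.isProper_toBase (n := n) (Spec (CommRingCat.of k))
  haveI : IsProper p := by
    have h : IsProper (i ≫ CohB1.ProjSpaceOver.toBase n (Spec (CommRingCat.of k))) := inferInstance
    rw [hif] at h
    exact h
  haveI : Smooth p := hs
  haveI := hc
  obtain ⟨η, hη⟩ := Groth.Agent.Lib.AlgEq37.Total.exists_generic p
  exact Groth.Agent.Lib.AlgEq37.Total.isAlgEquivZero p η hη δ hδ α hα hdeg

end Groth.Agent.S15440
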