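import Groth.Statements.S15449
import Groth.Agent.Lib.WeilCoh.Classes

set_option autoImplicit false
universe u v
open CategoryTheory AlgebraicGeometry
open WeilCoh

namespace Groth.Agent.S15449

open Groth.Agent.Lib.WeilCoh.Formal Groth.Agent.Lib.WeilCoh.Geometry Groth.Agent.Lib.WeilCoh.Classes

/-- For a Weil cohomology theory H^* (coefficients in K of characteristic zero, on nonsingular connected
projective varieties over an algebraically closed field k), such varieties X and Y with product X ×
Y and projections p, q, and α ∈ H^i(Y): p_*(q^*(α)) = Tr_Y(α) (as a multiple of 1 ∈ H^0(X)) if i = 2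
dim Y, and p_*(q^*(α)) = 0 otherwise. The product is any object Q with morphisms p : Q → X, q : Q →
Y forming a cartesian square over Spec k; both sides are read in the total cohomology ring of X. -/
theorem result (k : Type u) [Field k] [IsAlgClosed k] (K : Type v) [Field K] [CharZero K]
    (T : WeilCoh.Theory k K) (X Y Q : WeilCoh.Var k) (p : Q ⟶ X) (q : Q ⟶ Y)
    (hQ : WeilCoh.IsProd p q) (i : ℤ) (a : ↥(T.gr Y i)) :
    (i = 2 * (WeilCoh.dim Y.obj.left : ℤ) →
      (T.push p i ⟨T.pull q a, T.pull_mem q i a a.2⟩ : T.H X) = algebraMap K (T.H X) (T.tr Y a)) ∧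
    (i ≠ 2 * (WeilCoh.dim Y.obj.left : ℤ) →
      (T.push p i ⟨T.pull q a, T.pull_mem q i a a.2⟩ : T.H X) = 0) := by
  have hd := dim_prod T p q hQ
  constructor
  · intro hi
    refine push_eq_of_forall T p i _ (cast_mem T (algebraMap_mem T X _) (by omega)) fun b hb => ?_
    show T.tr X (_ * b) = T.tr Q (T.pull q a * T.pull p b)
    rw [mul_comm_of_even_left T (T.pull_mem q i a a.2) (T.pull_mem p _ b hb) ⟨WeilCoh.dim Y.obj.left, by omega⟩,
      tr_prod' T p q hQ hd, ← Algebra.smul_def, map_smul, smul_eq_mul, mul_comm]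
  · intro hi
    refine push_eq_of_forall T p i _ (zero_mem _) fun b hb => ?_
    show T.tr X (0 * b) = T.tr Q (T.pull q a * T.pull p b)
    rw [mul_eq_neg_one_pow T (T.pull_mem q i a a.2) (T.pull_mem p _ b hb), map_smul,
      tr_prod' T p q hQ hd, T.tr_vanish Y i a a.2 hi]
    simp

end Groth.Agent.S15449
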