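import Groth.Statements.S15451
import Groth.Agent.Lib.WeilCoh.Corr

set_option autoImplicit false
universe u v
open CategoryTheory AlgebraicGeometry
open WeilCoh

namespace Groth.Agent.S15451

open Groth.Agent.Lib.WeilCoh.Formal Groth.Agent.Lib.WeilCoh.Geometry Groth.Agent.Lib.WeilCoh.Classes Groth.Agent.Lib.WeilCoh.Corr

/-- Let H^* be a Weil cohomology theory (coefficients in K of characteristic zero, on nonsingular
connected projective varieties over an algebraically closed field k), φ an endomorphism of such a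
variety X of dimension n, p, q the projections of X × X and Γ_φ the graph of φ. If (e^r_i)_i is a
basis of H^r(X) and (f^{2n−r}_i)_i the dual basis of H^{2n−r}(X) for Poincaré duality,
Tr_X(f^{2n−r}_ℓ ∪ e^r_i) = δ_{i,ℓ}, for every 0 ≤ r ≤ 2n, then cl(Γ_φ) = Σ_{r=0}^{2n} Σ_i
p^*(φ^*(e^r_i)) ∪ q^*(f^{2n−r}_i) in H^{2n}(X × X). Here X × X is any object P with a cartesian
square p, q : P → X over Spec k, Γ_φ is the closure of the image of the generic point of X under the
section j = (id, φ) of p, and the f^{2n−r}_i are any family satisfying the duality relations. -/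
theorem result (k : Type u) [Field k] [IsAlgClosed k] (K : Type v) [Field K] [CharZero K]
    (T : WeilCoh.Theory k K)
    (X P : WeilCoh.Var k) [IrreducibleSpace ↥X.obj.left] (φ : X ⟶ X)
    (p q : P ⟶ X) (hP : WeilCoh.IsProd p q) (j : X ⟶ P) (hjp : j ≫ p = 𝟙 X) (hjq : j ≫ q = φ)
    (ι : ℕ → Type) [∀ r, Fintype (ι r)] [∀ r, DecidableEq (ι r)]
    (e : (r : ℕ) → Module.Basis (ι r) K ↥(T.gr X (r : ℤ)))
    (f : (r : ℕ) → ι r → ↥(T.gr X (2 * (WeilCoh.dim X.obj.left : ℤ) - r)))
    (hef : ∀ r, r ≤ 2 * WeilCoh.dim X.obj.left → ∀ i l : ι r,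
      T.tr X ((f r l : T.H X) * (e r i : T.H X)) = if i = l then 1 else 0) :
    T.cl P (WeilCoh.sm j (genericPoint ↥X.obj.left)) =
      ∑ r ∈ Finset.range (2 * WeilCoh.dim X.obj.left + 1), ∑ i : ι r,
        T.pull p (T.pull φ (e r i : T.H X)) * T.pull q (f r i : T.H X) := by
  classical
  have hd := dim_prod T p q hP
  have hc := codim_section j p hjp (genericPoint ↥X.obj.left)
  rw [← dim_eq_pdim_genericPoint] at hc
  obtain ⟨n, hn⟩ : ∃ n : ℤ, n = (WeilCoh.dim X.obj.left : ℤ) := ⟨_, rfl⟩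
  have hΓ : T.cl P (WeilCoh.sm j (genericPoint ↥X.obj.left)) ∈ T.gr P (2 * n) :=
    cast_mem T (T.cl_mem P _) (by omega)
  refine sub_eq_zero.mp (eq_zero_of_forall_pairing T p q hP (sub_mem hΓ ?_) fun a x y hx hy => ?_)
  · show _ ∈ T.gr P (2 * n)
    refine Submodule.sum_mem _ fun r _ => Submodule.sum_mem _ fun i _ => ?_
    exact
      mul_mem' T (T.pull_mem p _ _ (T.pull_mem φ _ _ (e r i).2)) (T.pull_mem q _ _ (f r i).2) (by omega)
  rw [sub_mul, map_sub, sub_eq_zero, tr_cl_graph_mul T j p hjp, map_mul (T.pull j), pull_pull_eq T j p hjp,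
    pull_pull_eq T j q hjq, pull_id_apply]
  simp only [Finset.sum_mul, map_sum]
  by_cases ha : 0 ≤ a ∧ a ≤ 2 * n
  swap
  · rw [eq_zero_of_mem_of_gt T hx (by omega)]
    simp
  obtain ⟨s, hs⟩ := Int.eq_ofNat_of_zero_le (show 0 ≤ 2 * n - a by omega)
  have hy' : y ∈ T.gr X (s : ℤ) := cast_mem T hy (by omega)
  rw [Finset.sum_eq_single s]
  · have hsum : y = ∑ i, T.tr X ((f s i : T.H X) * y) • (e s i : T.H X) := by
      conv_lhs => rw [show y = ((⟨y, hy'⟩ : T.gr X (s : ℤ)) : T.H X) from rfl,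
        ← (e s).sum_repr ⟨y, hy'⟩]
      push_cast
      refine Finset.sum_congr rfl fun i _ => ?_
      congr 1
      have : y = ∑ l, (e s).repr ⟨y, hy'⟩ l • (e s l : T.H X) := by
        conv_lhs => rw [show y = ((⟨y, hy'⟩ : T.gr X (s : ℤ)) : T.H X) from rfl,
          ← (e s).sum_repr ⟨y, hy'⟩]
        push_cast
        rfl
      conv_rhs => rw [this, Finset.mul_sum, map_sum]
      rw [Finset.sum_eq_single i]
      · have h1 := hef s (by omega) i i
        rw [if_pos rfl] at h1
        rw [mul_smul_comm, map_smul, smul_eq_mul]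
        erw [h1]
        rw [mul_one]
      · intro l _ hl
        rw [mul_smul_comm, map_smul, hef s (by omega) l i, if_neg hl, smul_zero]
      · intro h; exact absurd (Finset.mem_univ _) h
    conv_lhs => rw [hsum, map_sum, Finset.mul_sum, map_sum]
    refine Finset.sum_congr rfl fun i _ => ?_
    rw [map_smul, mul_smul_comm, map_smul, smul_eq_mul, ← mul_assoc, mul_assoc (T.pull p (T.pull φ _)),
      mul_eq_neg_one_pow T (T.pull_mem q _ _ (f s i).2) (T.pull_mem p a x hx), mul_smul_comm, smul_mul_assoc,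
      map_smul, ← mul_assoc, ← map_mul (T.pull p), mul_assoc, ← map_mul (T.pull q), tr_prod' T p q hP hd,
      mul_eq_neg_one_pow T (T.pull_mem φ _ _ (e s i).2) hx, map_smul, smul_eq_mul, smul_eq_mul, ← mul_assoc,
      ← mul_assoc, ← pow_add]
    rw [Even.neg_one_pow (by
      rw [Nat.even_add, Nat.even_mul, Nat.even_mul, Int.natAbs_even, Int.natAbs_even, Int.natAbs_even]
      subst hn
      have : Even (2 * (WeilCoh.dim X.obj.left : ℤ) - (s : ℤ)) ↔ Even (s : ℤ) := by simp [parity_simps]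
      have : Even a ↔ Even (s : ℤ) := by
        rw [show a = 2 * (WeilCoh.dim X.obj.left : ℤ) - (s : ℤ) by omega]; simp [parity_simps]
      tauto), one_mul, mul_comm]
  · intro r _ hr
    refine Finset.sum_eq_zero fun i _ => ?_
    rw [← mul_assoc, mul_assoc (T.pull p (T.pull φ _)),
      mul_eq_neg_one_pow T (T.pull_mem q _ _ (f r i).2) (T.pull_mem p a x hx), mul_smul_comm, smul_mul_assoc,
      map_smul, ← mul_assoc, ← map_mul (T.pull p), mul_assoc, ← map_mul (T.pull q), tr_prod' T p q hP hd,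
      T.tr_vanish X _ _ (mul_mem T (T.pull_mem φ _ _ (e r i).2) hx) (by omega), zero_mul, smul_zero]
  · intro h
    exact absurd (Finset.mem_range.mpr (by omega)) h

end Groth.Agent.S15451
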