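import Groth.Statements.S15465
import Mathlib.CategoryTheory.Abelian.Refinements


set_option autoImplicit false
universe v u
open HomAlg

namespace Groth.Agent.S15465

open CategoryTheory CategoryTheory.Limits in
/-- In an abelian category let 0 → A₂ → B₂ → C₂ → 0 (maps i₂, π₂), 0 → A₁ → A₂ → A₃ → 0 (maps i₁, p₁)
and 0 → C₁ → C₂ → C₃ → 0 (maps j, q) be short exact sequences, let α = i₁ ≫ i₂ : A₁ → B₂ and β = π₂
≫ q : B₂ → C₃, and let K = ker β / im α be the homology object of the complex A₁ → B₂ → C₃. Let f :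
A₃ → K be the map induced by i₂ (the unique map whose composite with p₁ is the homology class of the
cycle i₂) and g : K → C₁ the map induced by π₂ (the unique map whose composite with j is the map K →
C₂ induced by π₂). Then 0 → A₃ → K → C₁ → 0, with maps f and g, is a short exact sequence. (The
hypotheses w, h₂, h₃ are consequences of i₂ ≫ π₂ = 0, carried so that the maps can be named; the
published statement assumes in addition that the category has enough injective objects, which plays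
no role in this assertion.) -/
theorem result
    {C : Type u} [Category.{v} C] [Abelian C] {A₁ A₂ A₃ B₂ C₁ C₂ C₃ : C}
    (i₁ : A₁ ⟶ A₂) (p₁ : A₂ ⟶ A₃) (wA : i₁ ≫ p₁ = 0) (hA : (ShortComplex.mk i₁ p₁ wA).ShortExact)
    (i₂ : A₂ ⟶ B₂) (π₂ : B₂ ⟶ C₂) (wB : i₂ ≫ π₂ = 0) (hB : (ShortComplex.mk i₂ π₂ wB).ShortExact)
    (j : C₁ ⟶ C₂) (q : C₂ ⟶ C₃) (wC : j ≫ q = 0) (hC : (ShortComplex.mk j q wC).ShortExact)
    (w : (i₁ ≫ i₂) ≫ (π₂ ≫ q) = 0) (h₂ : i₂ ≫ (π₂ ≫ q) = 0) (h₃ : (i₁ ≫ i₂) ≫ π₂ = 0)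
    (f : A₃ ⟶ (CategoryTheory.ShortComplex.mk (i₁ ≫ i₂) (π₂ ≫ q) w).homology)
    (g : (CategoryTheory.ShortComplex.mk (i₁ ≫ i₂) (π₂ ≫ q) w).homology ⟶ C₁)
    (hf : p₁ ≫ f = (CategoryTheory.ShortComplex.mk (i₁ ≫ i₂) (π₂ ≫ q) w).liftCycles i₂ h₂ ≫ (CategoryTheory.ShortComplex.mk (i₁ ≫ i₂) (π₂ ≫ q) w).homologyπ)
    (hg : g ≫ j = (CategoryTheory.ShortComplex.mk (i₁ ≫ i₂) (π₂ ≫ q) w).homologyι ≫ (CategoryTheory.ShortComplex.mk (i₁ ≫ i₂) (π₂ ≫ q) w).descOpcycles π₂ h₃) :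
    ∃ wfg : f ≫ g = 0, (ShortComplex.mk f g wfg).ShortExact := by
  let S : ShortComplex C := ShortComplex.mk (i₁ ≫ i₂) (π₂ ≫ q) w
  have := hA.epi_g
  have := hA.mono_f
  have := hB.epi_g
  have := hB.mono_f
  have := hC.mono_f
  dsimp only at *
  have key : ∀ {T : C} (b : T ⟶ B₂) (hb : b ≫ π₂ ≫ q = 0),
      S.liftCycles b hb ≫ S.homologyπ ≫ g ≫ j = b ≫ π₂ := by
    intro T b hb
    rw [hg]
    simp [S]
  have hfac : ∀ {T : C} (a : T ⟶ A₂), a ≫ p₁ ≫ f = S.liftCycles (a ≫ i₂) (by simp [S, h₂]) ≫ S.homologyπ := by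
    intro T a
    rw [hf, ← ShortComplex.comp_liftCycles_assoc]
  have wfg : f ≫ g = 0 := by
    rw [← cancel_epi p₁, ← cancel_mono j, reassoc_of% hf]
    simp only [Category.assoc]
    erw [key i₂ h₂]
    rw [wB]
    simp
  refine ⟨wfg, ShortComplex.ShortExact.mk' ?_ ?_ ?_⟩
  · rw [ShortComplex.exact_iff_exact_up_to_refinements]
    intro T x hx
    dsimp at x hx
    obtain ⟨T₁, π₁, hπ₁, z, hz⟩ := surjective_up_to_refinements_of_epi S.homologyπ x
    have hb : (z ≫ S.iCycles) ≫ π₂ ≫ q = 0 := by rw [Category.assoc]; exact (z ≫= S.iCycles_g).trans comp_zero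
    have hzb : S.liftCycles (z ≫ S.iCycles) hb = z := by rw [← cancel_mono S.iCycles, ShortComplex.liftCycles_i]
    have h0 : (z ≫ S.iCycles) ≫ π₂ = 0 := by
      rw [← key _ hb, hzb, ← reassoc_of% hz, reassoc_of% hx, zero_comp, comp_zero]
    obtain ⟨T₂, π₂', hπ₂, a, ha⟩ := hB.exact.exact_up_to_refinements _ h0
    dsimp at a ha
    refine ⟨T₂, π₂' ≫ π₁, inferInstance, a ≫ p₁, ?_⟩
    dsimp
    rw [Category.assoc, Category.assoc, hfac a, hz, ← cancel_mono (𝟙 _)]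
    simp only [Category.comp_id]
    rw [← Category.assoc]
    congr 1
    rw [← cancel_mono S.iCycles, ShortComplex.liftCycles_i, Category.assoc, ha]
  · refine Preadditive.mono_of_cancel_zero _ fun {T} y hy => ?_
    dsimp at y hy
    obtain ⟨T₁, π₁, hπ₁, a, ha⟩ := surjective_up_to_refinements_of_epi p₁ y
    have hz : S.liftCycles (a ≫ i₂) (by simp [S, h₂]) ≫ S.homologyπ = 0 := by
      rw [← hfac, ← reassoc_of% ha, hy, comp_zero]
    obtain ⟨T₂, π₂', hπ₂, a₁, ha₁⟩ := ((S.liftCycles_comp_homologyπ_eq_zero_iff_up_to_refinements _ _).1 hz)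
    have ha₂ : π₂' ≫ a = a₁ ≫ i₁ := by
      rw [← cancel_mono i₂]
      simpa [S] using ha₁
    rw [← cancel_epi (π₂' ≫ π₁), comp_zero, Category.assoc, ha, reassoc_of% ha₂, wA, comp_zero]
  · dsimp
    rw [epi_iff_surjective_up_to_refinements]
    intro T c
    obtain ⟨T₁, π₁, hπ₁, b, hb⟩ := surjective_up_to_refinements_of_epi π₂ (c ≫ j)
    have hbq : b ≫ π₂ ≫ q = 0 := by rw [← reassoc_of% hb, wC, comp_zero, comp_zero]
    refine ⟨T₁, π₁, hπ₁, S.liftCycles b hbq ≫ S.homologyπ, ?_⟩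
    rw [← cancel_mono j]
    simp only [Category.assoc, key, hb]

end Groth.Agent.S15465
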