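import Groth.Statements.S15480

import Groth.Agent.H14.IsoNat.Points
import Groth.Agent.H14.IsoNat.QCOpen

set_option autoImplicit false
set_option backward.isDefEq.respectTransparency false
set_option backward.isDefEq.respectTransparency.types false
universe u
open CategoryTheory AlgebraicGeometry
open IsoNat

namespace Groth.Agent.S15480

open Groth.Agent.H14.IsoNat
open Groth.Agent.H14.Chart

/-- Quasi-compactness of a morphism of algebraic stacks is detected by the induced map of presheaves of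
isomorphism classes. Let f : 𝒳 → 𝒴 and f' : 𝒳' → 𝒴' be morphisms of algebraic stacks over a
quasi-separated scheme S with isomorphisms of the presheaves of isomorphism classes of 𝒳 with 𝒳' and
of 𝒴 with 𝒴' under which the induced maps correspond. If f is quasi-compact (its base change to
every quasi-compact algebraic stack is quasi-compact) then so is f'. Here an algebraic stack over a
quasi-separated scheme S means a stack in groupoids for the fppf topology with a smooth surjective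
atlas from a scheme, whose diagonal is representable by separated quasi-compact morphisms of
algebraic spaces and whose inertia is locally of finite presentation over it. -/
theorem result
    (S : Scheme.{u}) [QuasiSeparatedSpace S]
    (𝒳 𝒴 : AlgSt.Cat S)
    (h𝒳 : AlgSt.IsAlgStack Scheme.fppfPrecoverage 𝒳)
    (h𝒳d : AlgSt.RepByAlgSpWith (AlgSp.IsSeparatedMor ⊓ AlgSp.IsQuasiCompactMor)
      (FibCat.diag (FibCat.toSelf 𝒳)))
    (h𝒳i : AlgSt.RepByAlgSpWith (AlgSp.LocP @LocallyOfFinitePresentation)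
      (FibCat.inertiaToBase (FibCat.toSelf 𝒳)))
    (h𝒴 : AlgSt.IsAlgStack Scheme.fppfPrecoverage 𝒴)
    (h𝒴d : AlgSt.RepByAlgSpWith (AlgSp.IsSeparatedMor ⊓ AlgSp.IsQuasiCompactMor)
      (FibCat.diag (FibCat.toSelf 𝒴)))
    (h𝒴i : AlgSt.RepByAlgSpWith (AlgSp.LocP @LocallyOfFinitePresentation)
      (FibCat.inertiaToBase (FibCat.toSelf 𝒴)))
    (𝒳' 𝒴' : AlgSt.Cat S)
    (h𝒳' : AlgSt.IsAlgStack Scheme.fppfPrecoverage 𝒳')
    (h𝒳'd : AlgSt.RepByAlgSpWith (AlgSp.IsSeparatedMor ⊓ AlgSp.IsQuasiCompactMor)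
      (FibCat.diag (FibCat.toSelf 𝒳')))
    (h𝒳'i : AlgSt.RepByAlgSpWith (AlgSp.LocP @LocallyOfFinitePresentation)
      (FibCat.inertiaToBase (FibCat.toSelf 𝒳')))
    (h𝒴' : AlgSt.IsAlgStack Scheme.fppfPrecoverage 𝒴')
    (h𝒴'd : AlgSt.RepByAlgSpWith (AlgSp.IsSeparatedMor ⊓ AlgSp.IsQuasiCompactMor)
      (FibCat.diag (FibCat.toSelf 𝒴')))
    (h𝒴'i : AlgSt.RepByAlgSpWith (AlgSp.LocP @LocallyOfFinitePresentation)
      (FibCat.inertiaToBase (FibCat.toSelf 𝒴')))
    (f : 𝒳 ⥤ᵇ 𝒴) (f' : 𝒳' ⥤ᵇ 𝒴') (φ : IsoNat.FIsoSq f f')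
    (hf : AlgSt.IsQuasiCompactMor Scheme.fppfPrecoverage f) :
    AlgSt.IsQuasiCompactMor Scheme.fppfPrecoverage f' := by
  rw [QCOpen.isQuasiCompactMor_iff h𝒳 h𝒴 (QCOpen.isQuasiSeparatedOver_of_sepQC h𝒴d)] at hf
  rw [QCOpen.isQuasiCompactMor_iff h𝒳' h𝒴' (QCOpen.isQuasiSeparatedOver_of_sepQC h𝒴'd)]
  intro W hW hWc
  have h1 : IsCompact (Pts.pts φ.tgt ⁻¹' W) := by
    have he : Pts.pts φ.tgt ⁻¹' W = Pts.pts (Pts.symm φ.tgt h𝒴.isStack.1 h𝒴'.isStack.1) '' W := by
      ext c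
      constructor
      · exact fun hc => ⟨_, hc, Pts.pts_symm φ.tgt h𝒴.isStack.1 h𝒴'.isStack.1 c⟩
      · rintro ⟨d, hd, rfl⟩
        simpa [Set.mem_preimage, Pts.pts_symm' φ.tgt h𝒴.isStack.1 h𝒴'.isStack.1 d] using hd
    rw [he]
    exact hWc.image (Pts.continuous_pts _ h𝒴)
  have h2 := (hf _ (hW.preimage (Pts.continuous_pts φ.tgt h𝒴')) h1).image (Pts.continuous_pts φ.src h𝒳')
  convert h2 using 1
  ext c
  obtain ⟨d, rfl⟩ := Pts.surjective_pts φ.src h𝒳.isStack.1 h𝒳'.isStack.1 c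
  constructor
  · exact fun hd => ⟨d, by simpa [Pts.pts_map φ d] using hd, rfl⟩
  · rintro ⟨e, he, hed⟩
    rw [← hed]
    simpa [Pts.pts_map φ e] using he

end Groth.Agent.S15480
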