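import Groth.Statements.S15488
import Mathlib.Data.ZMod.QuotientGroup
import Mathlib.GroupTheory.Coset.Card
import Mathlib.LinearAlgebra.Projection
import Mathlib.GroupTheory.OrderOfElement
import Mathlib.LinearAlgebra.Dimension.Constructions
import Mathlib.RingTheory.FiniteType

set_option autoImplicit false
universe u
open IsoNat

namespace Groth.Agent.S15488

/-- Let A be a nontrivial commutative ring, G a finite group, g an element of G of order ν and l an
element of A with l ^ ν = 1. In the free A-module of functions G → A (the regular representation, g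
acting by translation v ↦ v(g·)), the submodule of v with v(g h) = l v(h) for all h is a direct
summand, free of rank |G| / ν (stated as: free, rank · ν = |G|, and a complementary submodule
exists). (The published statement is over an arbitrary ring and also covers Hom(A^N, −) of the
regular representation, which follows; nontriviality of A is needed for the rank to be meaningful.) -/
theorem result
    (A : Type u) [CommRing A] [Nontrivial A] (G : Type u) [Group G] [Finite G]
    (g : G) (l : A) (hl : l ^ orderOf g = 1) :
    Module.Free A (LinearMap.ker (LinearMap.funLeft A A (fun h : G => g * h) - l • LinearMap.id)) ∧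
      Module.finrank A (LinearMap.ker (LinearMap.funLeft A A (fun h : G => g * h) - l • LinearMap.id)) * orderOf g = Nat.card G ∧
      ∃ E' : Submodule A (G → A), IsCompl (LinearMap.ker (LinearMap.funLeft A A (fun h : G => g * h) - l • LinearMap.id)) E' := by
  classical
  set E := LinearMap.ker (LinearMap.funLeft A A (fun h : G => g * h) - l • LinearMap.id)
  let Q := Quotient (QuotientGroup.rightRel (Subgroup.zpowers g))
  let qm : G → Q := Quotient.mk _
  let r : Q → G := Quotient.out
  haveI : Fintype Q := Fintype.ofFinite Q
  have hrq : ∀ q : Q, qm (r q) = q := Quotient.out_eq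
  have hk : ∀ h : G, ∃ k : ℕ, g ^ k * r (qm h) = h := by
    intro h
    have hr : h * (r (qm h))⁻¹ ∈ Subgroup.zpowers g := QuotientGroup.rightRel_apply.1 (Quotient.exact (hrq (qm h)))
    obtain ⟨k, hk⟩ := (Submonoid.mem_powers_iff _ _).1 (mem_powers_iff_mem_zpowers.2 hr)
    exact ⟨k, by rw [hk, inv_mul_cancel_right]⟩
  choose κ hκ using hk
  have lpow : ∀ a b : ℕ, g ^ a = g ^ b → l ^ a = l ^ b := fun a b h => by
    rw [pow_eq_pow_mod a hl, pow_eq_pow_mod b hl, pow_inj_mod.1 h]
  have hE : ∀ v : G → A, v ∈ E ↔ ∀ h, v (g * h) = l * v h := by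
    intro v
    simp [E, LinearMap.mem_ker, sub_eq_zero, funext_iff, LinearMap.funLeft]
  have hEk : ∀ v ∈ E, ∀ (k : ℕ) (h : G), v (g ^ k * h) = l ^ k * v h := by
    intro v hv k h
    induction k with
    | zero => simp
    | succ k ih => rw [pow_succ', mul_assoc, (hE v).1 hv, ih, pow_succ', mul_assoc]
  have qmul : ∀ (k : ℕ) (h : G), qm (g ^ k * h) = qm h := fun k h =>
    Quotient.sound (QuotientGroup.rightRel_apply.2 (by
      rw [mul_inv_rev, mul_inv_cancel_left]
      exact inv_mem (pow_mem (Subgroup.mem_zpowers g) k)))
  let ext' : (Q → A) →ₗ[A] (G → A) :=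
    { toFun := fun w h => l ^ κ h * w (qm h)
      map_add' := fun w w' => funext fun h => mul_add _ _ _
      map_smul' := fun a w => funext fun h => by simp [mul_left_comm] }
  have hextE : ∀ w, ext' w ∈ E := by
    intro w
    rw [hE]
    intro h
    have hq : qm (g * h) = qm h := by simpa using qmul 1 h
    have he : g ^ κ (g * h) = g ^ (κ h + 1) := by
      have h1 := hκ (g * h)
      rw [hq] at h1
      refine mul_right_cancel (b := r (qm h)) ?_
      rw [h1, pow_succ', mul_assoc, hκ h]
    show l ^ κ (g * h) * w (qm (g * h)) = l * (l ^ κ h * w (qm h))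
    rw [lpow _ _ he, hq, pow_succ', mul_assoc]
  let res : (G → A) →ₗ[A] (Q → A) := LinearMap.funLeft A A r
  have hinv : ∀ v ∈ E, ext' (res v) = v := fun v hv => funext fun h => by
    show l ^ κ h * v (r (qm h)) = v h
    rw [← hEk v hv, hκ h]
  have hres : ∀ w, res (ext' w) = w := fun w => funext fun q => by
    show l ^ κ (r q) * w (qm (r q)) = w q
    have h1 := hκ (r q)
    rw [hrq] at h1 ⊢
    have h2 : g ^ κ (r q) = g ^ 0 := by rw [pow_zero]; exact mul_eq_right.1 h1
    rw [lpow _ _ h2, pow_zero, one_mul]
  let e : E ≃ₗ[A] (Q → A) := LinearEquiv.ofLinear (res.comp E.subtype) (ext'.codRestrict E hextE)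
    (LinearMap.ext fun w => hres w) (LinearMap.ext fun v => Subtype.ext (hinv v v.2))
  refine ⟨Module.Free.of_equiv e.symm, ?_, ⟨_, LinearMap.isCompl_of_proj (f := (ext'.comp res).codRestrict E fun v => hextE _) fun v => Subtype.ext (hinv v v.2)⟩⟩
  rw [e.finrank_eq, Module.finrank_pi, ← Nat.card_eq_fintype_card, Nat.card_congr (QuotientGroup.quotientRightRelEquivQuotientLeftRel _),
    ← Nat.card_zpowers g]
  exact (Subgroup.card_eq_card_quotient_mul_card_subgroup _).symm

end Groth.Agent.S15488
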