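import Groth.Statements.S15493
import Groth.Agent.H14.OpenImmFull

set_option autoImplicit false
universe u
open CategoryTheory AlgebraicGeometry
open IsoNat

namespace Groth.Agent.S15493

/-- The presheaf of isomorphism classes commutes with fibre products along an open immersion. Let f : 𝒳
→ 𝒴 be a morphism of algebraic stacks over a quasi-separated scheme S and i : 𝒴' → 𝒴 an open
immersion of algebraic stacks (representable by open immersions of algebraic spaces). If two objects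
of the 2-fibre product 𝒳 ×_𝒴 𝒴' over a scheme T have isomorphic images in 𝒳 over T and isomorphic
images in 𝒴' over T, then they are isomorphic over T. (Together with the evident surjectivity this
says that the natural map from the presheaf of isomorphism classes of 𝒳 ×_𝒴 𝒴' to the fibre product
of the presheaves of 𝒳 and 𝒴' over that of 𝒴 is an isomorphism; the published statement is for
arbitrary stacks, this row takes them algebraic.) -/
theorem result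
    (S : Scheme.{u}) [QuasiSeparatedSpace S]
    (𝒳 𝒴 𝒴' : AlgSt.Cat S)
    (h𝒳 : AlgSt.IsAlgStack Scheme.fppfPrecoverage 𝒳) (h𝒴 : AlgSt.IsAlgStack Scheme.fppfPrecoverage 𝒴)
    (h𝒴' : AlgSt.IsAlgStack Scheme.fppfPrecoverage 𝒴')
    (f : 𝒳 ⥤ᵇ 𝒴) (i : 𝒴' ⥤ᵇ 𝒴) (hi : AlgSt.IsOpenImm i)
    (T : Over S) (z₁ z₂ : (FibCat.fp f i).p.Fiber T)
    (h₁ : IsoNat.mapCls (FibCat.fpFst f i) T (IsoNat.cls z₁) = IsoNat.mapCls (FibCat.fpFst f i) T (IsoNat.cls z₂))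
    (h₂ : IsoNat.mapCls (FibCat.fpSnd f i) T (IsoNat.cls z₁) = IsoNat.mapCls (FibCat.fpSnd f i) T (IsoNat.cls z₂)) :
    IsoNat.cls z₁ = IsoNat.cls z₂ := by
  obtain ⟨a⟩ := Quotient.exact h₁
  have hi' : AlgSt.RepByAlgSpWith (MorphismProperty.monomorphisms (AlgSp.Sp S)) i := fun U y => by
    obtain ⟨F, e, he, hp⟩ := hi U y
    refine ⟨F, e, he, Groth.Agent.Lib.AlgSpace.mono_of_repWith ?_ hp⟩
    intro A B k hk
    have : IsOpenImmersion k := hk
    exact inferInstanceAs (Mono k)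
  let a' : z₁.1.obj.fst ⟶ z₂.1.obj.fst := a.hom.1
  have la : 𝒳.p.IsHomLift (𝟙 T) a' := a.hom.2
  let γ : i.obj z₁.1.obj.snd ⟶ i.obj z₂.1.obj.snd :=
    z₁.1.obj.iso.inv ≫ f.map a' ≫ z₂.1.obj.iso.hom
  have p₁ : 𝒳.p.obj z₁.1.obj.fst = T := z₁.2
  have p₂ : 𝒳.p.obj z₂.1.obj.fst = T := z₂.2
  have q₁ : 𝒴.p.IsHomLift (𝟙 T) z₁.1.obj.iso.hom := by
    have h : ∀ R : Over S, R = T → 𝒴.p.IsHomLift (𝟙 R) z₁.1.obj.iso.hom →
        𝒴.p.IsHomLift (𝟙 T) z₁.1.obj.iso.hom := by rintro R rfl h; exact h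
    exact h _ p₁ z₁.1.property
  have q₂ : 𝒴.p.IsHomLift (𝟙 T) z₂.1.obj.iso.hom := by
    have h : ∀ R : Over S, R = T → 𝒴.p.IsHomLift (𝟙 R) z₂.1.obj.iso.hom →
        𝒴.p.IsHomLift (𝟙 T) z₂.1.obj.iso.hom := by rintro R rfl h; exact h
    exact h _ p₂ z₂.1.property
  have lγ : 𝒴.p.IsHomLift (𝟙 T) γ := inferInstance
  have s₁ : 𝒴'.p.obj z₁.1.obj.snd = T :=
    (i.w_obj _).symm.trans (IsHomLift.codomain_eq 𝒴.p (𝟙 T) z₁.1.obj.iso.hom)
  have s₂ : 𝒴'.p.obj z₂.1.obj.snd = T :=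
    (i.w_obj _).symm.trans (IsHomLift.codomain_eq 𝒴.p (𝟙 T) z₂.1.obj.iso.hom)
  obtain ⟨b, hb, hbγ⟩ := Groth.Agent.H14.OpenImmFull.exists_lift_hom (hγ := lγ) h𝒴.isStack.1 i hi'
    (Functor.Fiber.mk s₁) (Functor.Fiber.mk s₂) γ
  have : IsIso a' := Groth.Agent.H14.Fib.isIso_of_lift_id h𝒳.isStack.1 (T := T) a'
  have : IsIso b := Groth.Agent.H14.Fib.isIso_of_lift_id h𝒴'.isStack.1 (T := T) b
  have w : f.map a' ≫ z₂.1.obj.iso.hom = z₁.1.obj.iso.hom ≫ i.map b := by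
    exact ((z₁.1.obj.iso.hom_inv_id_assoc _).symm).trans
      (congrArg (z₁.1.obj.iso.hom ≫ ·) hbγ.symm)
  let e₂ : z₁.1.obj.snd ≅ z₂.1.obj.snd := @asIso _ _ _ _ b (by assumption)
  let c : z₁.1 ≅ z₂.1 :=
    ObjectProperty.isoMk _ (Limits.CategoricalPullback.mkIso (asIso a') e₂ w)
  have lc : (FibCat.fp f i).p.IsHomLift (𝟙 T) c.hom := by
    refine IsHomLift.of_fac' (FibCat.fp f i).p _ _ p₁ p₂ ?_
    exact IsHomLift.fac' 𝒳.p (𝟙 T) a'
  exact Quotient.sound ⟨{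
    hom := ⟨c.hom, lc⟩
    inv := ⟨c.inv, IsHomLift.lift_id_inv _ T c⟩
    hom_inv_id := Subtype.ext c.hom_inv_id
    inv_hom_id := Subtype.ext c.inv_hom_id }⟩

end Groth.Agent.S15493
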