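import Groth.Statements.S15494
import Mathlib.Algebra.BigOperators.Intervals
import Mathlib.Algebra.BigOperators.GroupWithZero.Action
import Mathlib.Tactic.Ring
import Mathlib.Tactic.Abel

set_option autoImplicit false
universe u v
open Dieud

namespace Groth.Agent.S15494

/-- Let W be a commutative ring with a ring endomorphism σ, p a natural number, M a W-module and F an
additive self-map of M with F (w • m) = σ w • F m. Let d ≥ 1, c ≥ 1, h = d + c, and let e_1, …, e_h,
… be vectors of M on which F acts through a display matrix in normal form: F e_i = e_{i+1} for 1 ≤ i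
< d; F e_d = Σ_{i=1}^{d} a_{i,d} e_i + e_{d+1}; F e_j = Σ_{i=1}^{d} p a_{i,j} e_i + p e_{j+1} for d
< j < h; F e_h = Σ_{i=1}^{d} p a_{i,h} e_i. Then F^h e_1 = Σ_{i=1}^{d} Σ_{j=d}^{h} p^{j-d}
σ^{h-j}(a_{i,j}) F^{h+i-j-1} e_1. (The published statement is for the Dieudonné module of a
p-divisible group of dimension d and height h over the Witt ring of a field of characteristic p,
with σ the Frobenius and e_1, …, e_h a basis; this row keeps only the relations which the printed
computation uses, so W, σ, p and the vectors are arbitrary.) -/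
theorem result
    (W : Type u) [CommRing W] (σ : W →+* W) (p : ℕ)
    (M : Type v) [AddCommGroup M] [Module W M]
    (F : M →+ M) (hF : ∀ (w : W) (m : M), F (w • m) = σ w • F m)
    (d c : ℕ) (hd : 0 < d) (hc : 0 < c)
    (a : ℕ → ℕ → W) (e : ℕ → M)
    (h1 : ∀ i : ℕ, 1 ≤ i → i < d → F (e i) = e (i + 1))
    (h2 : F (e d) = (∑ i ∈ Finset.Icc 1 d, a i d • e i) + e (d + 1))
    (h3 : ∀ j : ℕ, d < j → j < d + c →
      F (e j) = (∑ i ∈ Finset.Icc 1 d, ((p : W) * a i j) • e i) + (p : W) • e (j + 1))
    (h4 : F (e (d + c)) = ∑ i ∈ Finset.Icc 1 d, ((p : W) * a i (d + c)) • e i) :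
    (⇑F)^[d + c] (e 1) = ∑ i ∈ Finset.Icc 1 d, ∑ j ∈ Finset.Icc d (d + c),
      ((p : W) ^ (j - d) * (⇑σ)^[d + c - j] (a i j)) • (⇑F)^[d + c + i - j - 1] (e 1) := by
  classical
  have hbase : ∀ i, 1 ≤ i → i ≤ d → (⇑F)^[i - 1] (e 1) = e i := by
    intro i
    induction i with
    | zero => omega
    | succ i ih =>
      intro _ hi
      rcases Nat.eq_zero_or_pos i with rfl | hp
      · simp
      · rw [show i + 1 - 1 = (i - 1) + 1 by omega, Function.iterate_succ_apply', ih hp (by omega),
          h1 i hp (by omega)]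
  let T : ℕ → ℕ → M := fun m j => ∑ i ∈ Finset.Icc 1 d,
    ((p : W) ^ (j - d) * (⇑σ)^[m - j] (a i j)) • (⇑F)^[m + i - j - 1] (e 1)
  have hT : ∀ m j, d ≤ j → j ≤ m → F (T m j) = T (m + 1) j := by
    intro m j hdj hjm
    simp only [T, map_sum, hF]
    refine Finset.sum_congr rfl fun i hi => ?_
    simp at hi
    rw [map_mul, map_pow, map_natCast, show m + 1 - j = (m - j) + 1 by omega,
      Function.iterate_succ_apply', show m + 1 + i - j - 1 = (m + i - j - 1) + 1 by omega,
      Function.iterate_succ_apply']
  have hTm : ∀ m, d ≤ m → T m m = ∑ i ∈ Finset.Icc 1 d, ((p : W) ^ (m - d) * a i m) • e i := by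
    intro m hm
    refine Finset.sum_congr rfl fun i hi => ?_
    simp at hi
    rw [Nat.sub_self, Function.iterate_zero_apply, show m + i - m - 1 = i - 1 by omega,
      hbase i hi.1 hi.2]
  have key : ∀ m, d ≤ m → m < d + c →
      (⇑F)^[m] (e 1) = (∑ j ∈ Finset.Icc d m, T m j) + (p : W) ^ (m - d) • e (m + 1) := by
    intro m hm
    induction m, hm using Nat.le_induction with
    | base =>
      intro _
      rw [show d = (d - 1) + 1 by omega, Function.iterate_succ_apply', hbase d hd le_rfl,
        show d - 1 + 1 = d by omega, h2, Finset.Icc_self, Finset.sum_singleton, hTm d le_rfl]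
      simp
    | succ m hm ih =>
      intro hmc
      rw [Function.iterate_succ_apply', ih (by omega), map_add, map_sum, hF, map_pow, map_natCast,
        h3 (m + 1) (by omega) (by omega), Finset.sum_congr rfl (fun j hj => hT m j (by simp at hj; omega)
          (by simp at hj; omega)), Finset.sum_Icc_succ_top (by omega), hTm (m + 1) (by omega),
        show m + 1 - d = (m - d) + 1 by omega, smul_add, Finset.smul_sum, add_assoc]
      simp only [smul_smul, pow_succ, mul_assoc]
      abel
  obtain ⟨c', rfl⟩ : ∃ c', c = c' + 1 := ⟨c - 1, by omega⟩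
  rw [← add_assoc, Function.iterate_succ_apply', key (d + c') (by omega) (by omega), map_add,
    map_sum, hF, map_pow, map_natCast, show e (d + c' + 1) = e (d + (c' + 1)) by rfl, h4,
    Finset.sum_congr rfl (fun j hj => hT _ j (by simp at hj; omega) (by simp at hj; omega))]
  rw [Finset.sum_comm (s := Finset.Icc 1 d), Finset.sum_Icc_succ_top (by omega)]
  congr 1
  rw [Finset.smul_sum]
  refine (Finset.sum_congr rfl fun i hi => ?_)
  simp at hi
  rw [smul_smul, Nat.sub_self, Function.iterate_zero_apply, show d + c' + 1 + i - (d + c' + 1) - 1 = i - 1 by omega,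
    hbase i hi.1 hi.2, show d + c' + 1 - d = (d + c' - d) + 1 by omega, pow_succ, mul_assoc]
  rfl

end Groth.Agent.S15494
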