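import Groth.Statements.S15495
import Mathlib

set_option autoImplicit false
universe u
open CAlg

namespace Groth.Agent.S15495

/-- In an Artinian local ring R whose maximal ideal m contains the prime number p, the multiplicative
group 1 + m is annihilated under some power of p: there is n with (1 + x)^(p^n) = 1 for every x in
m. (The published text makes this assertion inside a proof, for Artinian local algebras over the
Witt ring of a perfect field of characteristic p; only p ∈ m and the nilpotence of m are used.) -/
theorem result
    (R : Type u) [CommRing R] [IsLocalRing R] [IsArtinianRing R]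
    (p : ℕ) (hp : p.Prime) (hpm : (p : R) ∈ IsLocalRing.maximalIdeal R) :
    ∃ n : ℕ, ∀ x ∈ IsLocalRing.maximalIdeal R, (1 + x) ^ (p ^ n) = 1 := by
  obtain ⟨N, hN⟩ : IsNilpotent (IsLocalRing.maximalIdeal R) := by
    rw [← IsLocalRing.jacobson_eq_maximalIdeal ⊥ bot_ne_top]
    exact IsArtinianRing.isNilpotent_jacobson_bot
  refine ⟨N, fun x hx => ?_⟩
  have key : ∀ n : ℕ, (1 + x) ^ (p ^ n) - 1 ∈ (IsLocalRing.maximalIdeal R) ^ (n + 1) := by
    intro n
    induction n with
    | zero => simpa using hx
    | succ n ih =>
      have hsum : (∑ i ∈ Finset.range p, ((1 + x) ^ (p ^ n)) ^ i) ∈ IsLocalRing.maximalIdeal R := by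
        rw [← IsLocalRing.residue_eq_zero_iff, map_sum]
        have h1 : IsLocalRing.residue R ((1 + x) ^ (p ^ n)) = 1 := by
          rw [map_pow, map_add, (IsLocalRing.residue_eq_zero_iff x).mpr hx]; simp
        simp only [map_pow] at h1 ⊢
        simp only [h1, one_pow, Finset.sum_const, Finset.card_range, nsmul_eq_mul, mul_one]
        rw [← map_natCast (IsLocalRing.residue R), IsLocalRing.residue_eq_zero_iff]
        exact hpm
      have := Ideal.mul_mem_mul hsum ih
      rw [geom_sum_mul, ← pow_succ', ← pow_mul, ← pow_succ] at this
      exact this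
  have := Ideal.pow_le_pow_right (Nat.le_succ N) (key N)
  rw [hN, Submodule.zero_eq_bot, Ideal.mem_bot] at this
  exact sub_eq_zero.mp this

end Groth.Agent.S15495
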