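import Groth.Statements.S15496
import Mathlib

set_option autoImplicit false
universe u
open CAlg

namespace Groth.Agent.S15496

/-- Let R be a local ring with maximal ideal m, p a prime number lying in m, and suppose the residue
field of R is perfect, i.e. every element is a p-th power; let n ≥ 0. Then every unit of R is the
product of a p^n-th power of a unit and an element of 1 + m, and an element of 1 + m which is a
p^n-th power of a unit is a p^n-th power of an element of 1 + m; so the inclusion of 1 + m in the
unit group induces a bijection between (1 + m)/(1 + m)^(p^n) and Rˣ/(Rˣ)^(p^n). (The published text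
derives this equality of quotients, inside a proof, from perfectness of the base field K for all
Artinian local algebras over its Witt ring, whose residue fields need not be perfect; this row
assumes the residue field of R perfect of characteristic p, which the equality needs, and does not
assume R Artinian.) -/
theorem result
    (R : Type u) [CommRing R] [IsLocalRing R] (p : ℕ) (hp : p.Prime)
    (hpm : (p : R) ∈ IsLocalRing.maximalIdeal R)
    (hperf : ∀ a : IsLocalRing.ResidueField R, ∃ b : IsLocalRing.ResidueField R, b ^ p = a)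
    (n : ℕ) :
    (∀ u : Rˣ, ∃ v : Rˣ, ∃ x ∈ IsLocalRing.maximalIdeal R, (u : R) = (v : R) ^ (p ^ n) * (1 + x)) ∧
    (∀ x ∈ IsLocalRing.maximalIdeal R, (∃ v : Rˣ, (v : R) ^ (p ^ n) = 1 + x) →
      ∃ y ∈ IsLocalRing.maximalIdeal R, (1 + y) ^ (p ^ n) = 1 + x) := by
  haveI : Fact p.Prime := ⟨hp⟩
  haveI : CharP (IsLocalRing.ResidueField R) p := by
    apply (CharP.charP_iff_prime_eq_zero hp).mpr
    rw [← map_natCast (IsLocalRing.residue R), IsLocalRing.residue_eq_zero_iff]
    exact hpm
  have hperf' : ∀ n : ℕ, ∀ a : IsLocalRing.ResidueField R, ∃ b, b ^ (p ^ n) = a := by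
    intro n
    induction n with
    | zero => intro a; exact ⟨a, by simp⟩
    | succ n ih =>
      intro a
      obtain ⟨b, rfl⟩ := hperf a
      obtain ⟨c, rfl⟩ := ih b
      exact ⟨c, by rw [← pow_mul, pow_succ]⟩
  refine ⟨fun u => ?_, fun x hx hv => ?_⟩
  · obtain ⟨b, hb⟩ := hperf' n (IsLocalRing.residue R u)
    obtain ⟨v, rfl⟩ := IsLocalRing.residue_surjective b
    have hv : IsUnit v := by
      by_contra h
      have h0 : IsLocalRing.residue R v = 0 :=
        (IsLocalRing.residue_eq_zero_iff v).mpr ((IsLocalRing.mem_maximalIdeal v).mpr h)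
      rw [h0, zero_pow (pow_ne_zero _ hp.ne_zero)] at hb
      exact IsLocalRing.notMem_maximalIdeal.mpr u.isUnit ((IsLocalRing.residue_eq_zero_iff _).mp hb.symm)
    refine ⟨hv.unit, (((hv.unit ^ (p ^ n))⁻¹ : Rˣ) : R) * u - 1, ?_, ?_⟩
    · have hw : IsLocalRing.residue R (((hv.unit ^ (p ^ n) : Rˣ)) : R) = IsLocalRing.residue R u := by
        rw [Units.val_pow_eq_pow_val, IsUnit.unit_spec, map_pow, hb]
      rw [← IsLocalRing.residue_eq_zero_iff, map_sub, map_mul, ← hw, ← map_mul, Units.inv_mul,
        map_one, sub_self]
    · rw [← Units.val_pow_eq_pow_val, add_sub_cancel, ← mul_assoc, Units.mul_inv, one_mul]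
  · obtain ⟨v, hv⟩ := hv
    have h1 : IsLocalRing.residue R (v : R) = 1 := by
      have : (IsLocalRing.residue R (v : R)) ^ (p ^ n) = 1 ^ (p ^ n) := by
        rw [← map_pow, hv, map_add, (IsLocalRing.residue_eq_zero_iff x).mpr hx]; simp
      exact iterateFrobenius_inj (IsLocalRing.ResidueField R) p n (by simpa [iterateFrobenius_def] using this)
    refine ⟨(v : R) - 1, ?_, by rw [add_sub_cancel]; exact hv⟩
    rw [← IsLocalRing.residue_eq_zero_iff, map_sub, h1, map_one, sub_self]

end Groth.Agent.S15496
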