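import Groth.Statements.S15498
import Mathlib

set_option autoImplicit false
open NewtonPoly

namespace Groth.Agent.S15498

/-- Let m, n ≥ 1 be coprime, h = m + n, δ the segment from (0,0) to (h,m) (the isoclinic Newton polygon
of slope m/h) and ρ the ordinary polygon with n slopes 0 followed with m slopes 1, so ρ(i) = max(0,
i − n). The integer points (i,j), 0 ≤ i ≤ h, on or above ρ and strictly below δ — that is max(0, i −
n) ≤ j and j·h < i·m — are (m−1)(n−1)/2 + (m+n−1) in number (which equals mn − r for r =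
(m−1)(n−1)/2). (The published text works under m ≥ n > 0 coprime; the inequality m ≥ n is not used
and not assumed.) -/
theorem result
    (m n : ℕ) (hm : 0 < m) (hn : 0 < n) (hmn : Nat.Coprime m n) :
    ((Finset.range (m + n + 1) ×ˢ Finset.range (m + 1)).filter
      (fun ij : ℕ × ℕ => ij.1 ≤ ij.2 + n ∧ ij.2 * (m + n) < ij.1 * m)).card
      = (m - 1) * (n - 1) / 2 + (m + n - 1) := by
  classical
  let P : ℕ → ℕ → Prop := fun i j => i ≤ j + n ∧ j * (m + n) < i * m
  let c : ℕ → ℕ := fun i => ((Finset.range (m + 1)).filter (fun j => P i j)).card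
  have hh : 0 < m + n := by omega
  have hcop : Nat.Coprime (m + n) m := by
    rw [Nat.coprime_self_add_left]; exact hmn.symm
  have hcard : ((Finset.range (m + n + 1) ×ˢ Finset.range (m + 1)).filter
      (fun ij : ℕ × ℕ => ij.1 ≤ ij.2 + n ∧ ij.2 * (m + n) < ij.1 * m)).card = ∑ i ∈ Finset.range (m + n + 1), c i := by
    simp only [c, P, Finset.card_filter, Finset.sum_product]
  have hc : ∀ i, 0 < i → i < m + n → c i + (i - n) = i * m / (m + n) + 1 := by
    intro i hi1 hi2
    have hnd : ¬ (m + n) ∣ i * m := fun h => by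
      have := Nat.le_of_dvd hi1 (hcop.dvd_of_dvd_mul_right h)
      omega
    set q := i * m / (m + n) with hq
    have hdm := Nat.div_add_mod (i * m) (m + n)
    have hlt := Nat.mod_lt (i * m) hh
    have hpos : 0 < i * m % (m + n) := Nat.pos_of_ne_zero fun h => hnd (Nat.dvd_of_mod_eq_zero h)
    rw [← hq] at hdm
    clear_value q
    have hqm : q < m + 1 := by
      by_contra h
      nlinarith
    have heq : (Finset.range (m + 1)).filter (fun j => P i j) = Finset.Ico (i - n) (q + 1) := by
      ext j
      simp only [Finset.mem_filter, Finset.mem_range, Finset.mem_Ico, P]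
      constructor
      · rintro ⟨_, h1, h2⟩
        refine ⟨by omega, ?_⟩
        by_contra h
        nlinarith
      · rintro ⟨h1, h2⟩
        refine ⟨by omega, by omega, ?_⟩
        nlinarith
    have hle : i - n ≤ q + 1 := by
      by_contra h
      obtain ⟨k, hk⟩ : ∃ k, i = n + (q + 2) + k := ⟨i - (n + (q + 2)), by omega⟩
      have h3 : i * n < (m + n) * n := Nat.mul_lt_mul_of_pos_right hi2 hn
      nlinarith
    simp only [c, heq, Nat.card_Ico]
    omega
  have hc0 : c 0 = 0 := by simp [c, P]
  have hch : c (m + n) = 0 := by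
    simp only [c, P, Finset.card_eq_zero, Finset.filter_eq_empty_iff, not_and]
    intro j _ h1 h2
    have : j < m := by
      by_contra h
      nlinarith
    omega
  obtain ⟨n', rfl⟩ : ∃ n', n = n' + 1 := ⟨n - 1, by omega⟩
  obtain ⟨m', rfl⟩ : ∃ m', m = m' + 1 := ⟨m - 1, by omega⟩
  have hsplit : ∑ i ∈ Finset.range (m' + 1 + (n' + 1) + 1), c i = ∑ i ∈ Finset.range (n' + (m' + 1)), c (i + 1) := by
    rw [Finset.sum_range_succ, hch, add_zero, show m' + 1 + (n' + 1) = (n' + (m' + 1)) + 1 by omega, Finset.sum_range_succ', hc0, add_zero]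
  have hsum : ∑ i ∈ Finset.range (n' + (m' + 1)), (c (i + 1) + (i + 1 - (n' + 1))) =
      ∑ i ∈ Finset.range (n' + (m' + 1)), ((i + 1) * (m' + 1) / (m' + 1 + (n' + 1)) + 1) :=
    Finset.sum_congr rfl fun i hi => hc (i + 1) (by omega) (by simp at hi; omega)
  have hex : ∑ i ∈ Finset.range (n' + (m' + 1)), (i + 1 - (n' + 1)) = ∑ k ∈ Finset.range (m' + 1), k := by
    rw [Finset.sum_range_add, Finset.sum_eq_zero (fun i hi => by simp at hi; omega), zero_add]
    exact Finset.sum_congr rfl fun i _ => by omega
  have hfl : 2 * ∑ i ∈ Finset.range (n' + (m' + 1)), (i + 1) * (m' + 1) / (m' + 1 + (n' + 1)) = (n' + (m' + 1)) * m' := by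
    rw [two_mul]
    nth_rewrite 2 [← Finset.sum_range_reflect]
    rw [← Finset.sum_add_distrib, Finset.sum_congr rfl (g := fun _ => m'), Finset.sum_const, Finset.card_range, smul_eq_mul]
    intro i hi
    simp only [Finset.mem_range] at hi
    obtain ⟨j, hj⟩ : ∃ j, n' + (m' + 1) = i + 1 + j := ⟨n' + (m' + 1) - (i + 1), by omega⟩
    rw [show n' + (m' + 1) - 1 - i = j by omega]
    have hnd : ¬ (m' + 1 + (n' + 1)) ∣ (i + 1) * (m' + 1) := fun h => by
      have := Nat.le_of_dvd (by omega) (hcop.dvd_of_dvd_mul_right h)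
      omega
    set N := m' + 1 + (n' + 1) with hN
    have e : (i + 1) * (m' + 1) + (j + 1) * (m' + 1) = N * (m' + 1) := by
      rw [← add_mul]; congr 1; omega
    have h1 := Nat.div_add_mod ((i + 1) * (m' + 1)) N
    have h2 := Nat.div_add_mod ((j + 1) * (m' + 1)) N
    have h3 := Nat.mod_lt ((i + 1) * (m' + 1)) hh
    have h4 := Nat.mod_lt ((j + 1) * (m' + 1)) hh
    have h5 : 0 < (i + 1) * (m' + 1) % N := Nat.pos_of_ne_zero fun h => hnd (Nat.dvd_of_mod_eq_zero h)
    set A := (i + 1) * (m' + 1) / N
    set B := (j + 1) * (m' + 1) / N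
    clear_value A B
    have hA : A + B < m' + 1 := by
      by_contra h
      have := Nat.mul_le_mul_left N (not_lt.mp h)
      rw [Nat.mul_add N A B] at this
      omega
    have hB : m' < A + B + 1 := by
      by_contra h
      have := Nat.mul_le_mul_left N (show A + B + 2 ≤ m' + 1 by omega)
      rw [show A + B + 2 = (A + B) + 2 from rfl, Nat.mul_add N (A + B) 2, Nat.mul_add N A B] at this
      omega
    omega
  have hid := Finset.sum_range_id_mul_two (m' + 1)
  rw [Finset.sum_add_distrib, hex, Finset.sum_add_distrib, Finset.sum_const, Finset.card_range, smul_eq_mul, mul_one] at hsum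
  rw [hcard, hsplit]
  simp only [Nat.add_sub_cancel] at hid ⊢
  have e1 : (n' + (m' + 1)) * m' = n' * m' + (m' + 1) * m' := by ring
  have e2 : m' * n' = n' * m' := by ring
  omega

end Groth.Agent.S15498
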