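import Groth.Statements.S15499
import Groth.Agent.H22.Horrocks.Apply
import Mathlib

set_option autoImplicit false
open Polynomial LaurentPolynomial
open scoped TensorProduct
universe u
open CAlg

namespace Groth.Agent.S15499

/-- Let S = Spec R be a smooth connected affine complex variety, so that R is a finitely generated
smooth ℂ-algebra and an integral domain, and let F be a locally free sheaf of finite rank on the
projective line over S, presented by its two standard charts: a finitely generated projective
R[X]-module P on the affine line over S, a finitely generated projective R[X]-module P' on the chart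
at infinity, and an identification of their base changes to R[X, X⁻¹] that is additive, bijective
and semilinear over the R-algebra involution X ↦ X⁻¹. Then S is covered by basic open sets D(g_1),
…, D(g_n) such that F restricted to the affine line over each D(g_i) is free: the localisation of P
at g_i is a free module over the localisation of R[X] at g_i. -/
theorem result
    (R : Type u) [CommRing R] [IsDomain R] [Algebra ℂ R] [Algebra.FiniteType ℂ R]
    [Algebra.Smooth ℂ R]
    (P : Type u) [AddCommGroup P] [Module R[X] P] [Module.Finite R[X] P]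
    [Module.Projective R[X] P]
    (P' : Type u) [AddCommGroup P'] [Module R[X] P'] [Module.Finite R[X] P']
    [Module.Projective R[X] P']
    (e : R[T;T⁻¹] ⊗[R[X]] P ≃+ R[T;T⁻¹] ⊗[R[X]] P')
    (he : ∀ (a : R[T;T⁻¹]) (m : R[T;T⁻¹] ⊗[R[X]] P),
      e (a • m) = LaurentPolynomial.invert a • e m) :
    ∃ (n : ℕ) (g : Fin n → R), Ideal.span (Set.range g) = ⊤ ∧
      ∀ i, Module.Free (Localization.Away (Polynomial.C (g i) : R[X]))
        (LocalizedModule (Submonoid.powers (Polynomial.C (g i) : R[X])) P) := by
  obtain ⟨Q⟩ := H22.Horrocks.exists_pres (R := R[X]) (M := P)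
  obtain ⟨Q'⟩ := H22.Horrocks.exists_pres (R := R[X]) (M := P')
  have hext := H22.Horrocks.extended_of_semilinear Q Q'
    { toFun := e, map_add' := map_add e, map_smul' := he } e.bijective
  set e0 := Q.e.map (evalRingHom (0 : R)) with he0
  have h0 : e0 * e0 = e0 := H22.Horrocks.map_idem' _ Q.idem
  have hcov : ∀ m : MaximalSpectrum R, ∃ g ∉ m.asIdeal, ∃ (r : ℕ) (a : Matrix (Fin Q.n) (Fin r) R)
      (b : Matrix (Fin r) (Fin Q.n) R), a * b = g • e0 ∧ b * a = g • 1 := by
    intro m
    haveI := m.isMaximal
    obtain ⟨r, hr⟩ := H22.Horrocks.exists_eqv_one_of_isLocalRing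
      (H22.Horrocks.map_idem' (algebraMap R (Localization.AtPrime m.asIdeal)) h0)
    obtain ⟨t, ht, a, b, hab, hba⟩ := H22.Horrocks.exists_of_eqv_map m.asIdeal.primeCompl
      (Localization.AtPrime m.asIdeal) (e := e0) (f := (1 : Matrix (Fin r) (Fin r) R)) (by rwa [H22.Horrocks.map_one'])
    exact ⟨t, ht, r, a, b, hab, hba⟩
  choose g hg r a b hab hba using hcov
  have htop : Ideal.span (Set.range g) = ⊤ := by
    by_contra hne
    obtain ⟨m, hm, hle⟩ := Ideal.exists_le_maximal _ hne
    exact hg ⟨m, hm⟩ (hle (Ideal.subset_span ⟨_, rfl⟩))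
  obtain ⟨s, hs, hstop⟩ := (Ideal.span_eq_top_iff_finite _).1 htop
  choose m hm using fun i : Fin s.card => hs (s.equivFin.symm i).2
  refine ⟨s.card, fun i => g (m i), ?_, fun i => ?_⟩
  · rw [← hstop]
    congr 1
    ext x
    simp only [Set.mem_range, hm, Finset.mem_coe]
    exact ⟨by rintro ⟨i, rfl⟩; exact (s.equivFin.symm i).2, fun hx => ⟨s.equivFin ⟨x, hx⟩, by simp⟩⟩
  · set G : R[X] := Polynomial.C (g (m i))
    set L := Localization.Away G
    have hu : IsUnit ((algebraMap R[X] L).comp Polynomial.C (g (m i))) := IsLocalization.Away.algebraMap_isUnit G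
    have h1 := H22.Horrocks.eqv_map_of_smul _ hu (hab (m i)) (hba (m i))
    rw [H22.Horrocks.map_one'] at h1
    have h2 := hext.map (algebraMap R[X] L)
    rw [show (Q.e.map (Polynomial.C.comp (evalRingHom 0))).map (algebraMap R[X] L) =
      e0.map ((algebraMap R[X] L).comp Polynomial.C) by
        rw [he0, H22.Horrocks.map_map', H22.Horrocks.map_map']; rfl] at h2
    have h3 := h2.trans h1 (H22.Horrocks.map_idem' _ Q.idem) (by rw [Matrix.one_mul])
    rw [← H22.Horrocks.Pres.baseChange_e] at h3
    haveI := (Q.baseChange L).free_of_eqv_one h3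
    exact Module.Free.of_equiv ((isLocalizedModule_iff_isBaseChange (Submonoid.powers G) L
      (LocalizedModule.mkLinearMap (Submonoid.powers G) P)).mp inferInstance).equiv

end Groth.Agent.S15499
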