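import Groth.Statements.S15501
import Mathlib.AlgebraicGeometry.PullbackCarrier
import Groth.Agent.Lib.ProjSpace.BaseChange

set_option autoImplicit false
open CategoryTheory CategoryTheory.Limits AlgebraicGeometry
open An

namespace Groth.Agent.S15501

theorem range_eq_singleton {T : Scheme.{0}} (t : T) (Ω : Type) [Field Ω]
    (φ : T.residueField t ⟶ CommRingCat.of Ω) :
    Set.range (Spec.map φ ≫ T.fromSpecResidueField t).base = {t} := by
  have key : ∀ p, (Spec.map φ ≫ T.fromSpecResidueField t).base p = t := fun p =>
    (Scheme.Hom.comp_apply _ _ p).trans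
      (Scheme.fromSpecResidueField_apply t ((Spec.map φ).base p))
  have hne : Nonempty ↥(Spec (CommRingCat.of Ω)) :=
    inferInstanceAs (Nonempty (PrimeSpectrum Ω))
  refine Set.eq_singleton_iff_unique_mem.mpr ⟨⟨hne.some, key _⟩, ?_⟩
  rintro _ ⟨p, rfl⟩
  exact key p

theorem isPreirreducible_of_range {P T : Scheme.{0}} (g : P ⟶ T) (t : T) {W : Scheme.{0}}
    (σ : W ⟶ T) (hσ : Set.range σ.base = {t}) (hirr : IrreducibleSpace ↥(pullback g σ)) :
    IsPreirreducible (g.base ⁻¹' {t}) := by
  have hrg := Scheme.Pullback.range_fst g σ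
  rw [hσ, ← Set.image_univ] at hrg
  rw [← hrg]
  exact (IrreducibleSpace.isIrreducible_univ _).isPreirreducible.image _
    (Scheme.Hom.continuous _).continuousOn

/-- A morphism all of whose geometric fibres are irreducible has preirreducible fibres. -/
theorem isPreirreducible_fiber {P T : Scheme.{0}} (g : P ⟶ T)
    (h : ∀ (Ω : Type) [Field Ω] [IsAlgClosed Ω] (σ : Spec (CommRingCat.of Ω) ⟶ T),
      IrreducibleSpace ↥(pullback g σ)) (t : T) :
    IsPreirreducible (g.base ⁻¹' {t}) := by
  let φ : T.residueField t ⟶ CommRingCat.of (AlgebraicClosure (T.residueField t)) :=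
    CommRingCat.ofHom (algebraMap (T.residueField t) (AlgebraicClosure (T.residueField t)))
  exact isPreirreducible_of_range g t (Spec.map φ ≫ T.fromSpecResidueField t)
    (range_eq_singleton t _ φ) (h _ _)

/-- The base change of an elementary fibration f : X → S of smooth complex varieties along any morphism
u : S' → S of smooth complex varieties is an elementary fibration X ×_S S' → S', elementary
fibration being taken in the following sense: f factors as an open immersion j : X → X̄ followed by
f̄ : X̄ → S, where f̄ is smooth and is a closed subscheme of some projective space over S with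
geometrically irreducible fibres of dimension one, the complement of j(X) is the image of a closed
immersion Y → X̄ with Y finite, etale and surjective over S, and j(X) is dense in every fibre of f̄
(for smooth complex varieties the last clause is automatic, and this is the usual notion: a smooth
projective family of irreducible curves minus a finite etale multisection). (The published statement
also treats rational and coordinatised elementary fibrations; this row states only the plain case.) -/
theorem result (X S S' : Scheme.{0})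
    [X.Over An.SC] [Smooth (X ↘ An.SC)] [IsSeparated (X ↘ An.SC)] [QuasiCompact (X ↘ An.SC)]
    [S.Over An.SC] [Smooth (S ↘ An.SC)] [IsSeparated (S ↘ An.SC)] [QuasiCompact (S ↘ An.SC)]
    [S'.Over An.SC] [Smooth (S' ↘ An.SC)] [IsSeparated (S' ↘ An.SC)] [QuasiCompact (S' ↘ An.SC)]
    (f : X ⟶ S) [f.IsOver An.SC] (u : S' ⟶ S) [u.IsOver An.SC]
    (hf : An.IsElementaryFibration f) :
    An.IsElementaryFibration (pullback.snd f u) := by
  obtain ⟨Xb, Y, j, fb, i, hfac, hj, hi, hrange, hdense, hsm, ⟨n, c, hc, hcfac⟩, hfib, hfin, het,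
    hsurj⟩ := hf
  subst hfac
  let j' : pullback (j ≫ fb) u ⟶ pullback fb u :=
    pullback.map _ _ _ _ j (𝟙 _) (𝟙 _) (by simp) (by simp)
  let i' : pullback (i ≫ fb) u ⟶ pullback fb u :=
    pullback.map _ _ _ _ i (𝟙 _) (𝟙 _) (by simp) (by simp)
  have hi'fb : i' ≫ pullback.snd fb u = pullback.snd (i ≫ fb) u := by
    exact (pullback.lift_snd _ _ _).trans (Category.comp_id _)
  have hj'fb : j' ≫ pullback.snd fb u = pullback.snd (j ≫ fb) u := by
    exact (pullback.lift_snd _ _ _).trans (Category.comp_id _)
  have hrj : Set.range j'.base = (pullback.fst fb u).base ⁻¹' Set.range j.base := by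
    have := Scheme.Pullback.range_map (j ≫ fb) u fb u j (𝟙 _) (𝟙 _) (by simp) (by simp)
    simpa [j'] using this
  have hri : Set.range i'.base = (pullback.fst fb u).base ⁻¹' Set.range i.base := by
    have := Scheme.Pullback.range_map (i ≫ fb) u fb u i (𝟙 _) (𝟙 _) (by simp) (by simp)
    simpa [i'] using this
  refine ⟨pullback fb u, pullback (i ≫ fb) u, j', pullback.snd fb u, i', hj'fb, ?_, ?_, ?_, ?_, ?_,
    ?_, ?_, ?_, ?_, ?_⟩
  · exact MorphismProperty.pullbackMap (P := (@IsOpenImmersion : MorphismProperty Scheme.{0})) hj
      (inferInstance : IsOpenImmersion (𝟙 S')) rfl (Category.id_comp u).symm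
  · have h : IsPullback (pullback.fst (i ≫ fb) u) i' i (pullback.fst fb u) := by
      refine IsPullback.of_bot ?_ (pullback.lift_fst _ _ _).symm (IsPullback.of_hasPullback fb u)
      rw [hi'fb]
      exact IsPullback.of_hasPullback (i ≫ fb) u
    exact MorphismProperty.of_isPullback (P := (@IsClosedImmersion : MorphismProperty Scheme.{0})) h hi
  · rw [hrj, hri, hrange, Set.preimage_compl]
  · intro s'
    -- a point of `X` over the image of `s'`
    obtain ⟨y, hy⟩ := hsurj (u.base s')
    have hy' : i.base y ∈ fb.base ⁻¹' {u.base s'} := by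
      simpa using hy
    obtain ⟨x, hxj, hxs⟩ := (Set.nonempty_def.mp (closure_nonempty_iff.mp
      ⟨_, hdense (u.base s') hy'⟩) : ∃ x, x ∈ Set.range j.base ∩ fb.base ⁻¹' {u.base s'})
    obtain ⟨z, hz1, hz2⟩ := Scheme.Pullback.exists_preimage_pullback (f := fb) (g := u) x s'
      (by simpa using hxs)
    have hirrg : ∀ (Ω : Type) [Field Ω] [IsAlgClosed Ω] (σ : Spec (CommRingCat.of Ω) ⟶ S'),
        IrreducibleSpace ↥(pullback (pullback.snd fb u) σ) := fun Ω _ _ σ =>
      (pullbackLeftPullbackSndIso fb u σ).hom.homeomorph.irreducibleSpace_iff.mpr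
        (hfib Ω (σ ≫ u)).1
    have hF : IsPreirreducible ((pullback.snd fb u).base ⁻¹' {s'}) :=
      isPreirreducible_fiber _ hirrg s'
    have hopen : IsOpen (Set.range j'.base) := by
      rw [hrj]
      exact (hj.base_open.isOpen_range).preimage (pullback.fst fb u).base.hom.continuous
    have hz : z ∈ (pullback.snd fb u).base ⁻¹' {s'} ∩ Set.range j'.base := by
      refine ⟨hz2, ?_⟩
      rw [hrj]
      show (pullback.fst fb u).base z ∈ Set.range j.base
      exact hz1 ▸ hxj
    rw [Set.inter_comm]
    exact subset_closure_inter_of_isPreirreducible_of_isOpen hF hopen ⟨z, hz⟩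
  · exact inferInstanceAs (Smooth (pullback.snd fb u))
  · refine ⟨n, (Groth.Agent.Lib.ProjSpace.BaseChange.isPullback_overMap n u).lift
      (pullback.fst fb u ≫ c) (pullback.snd fb u) ?_, ?_, ?_⟩
    · rw [Category.assoc, hcfac, pullback.condition]
    · have h : IsPullback (pullback.fst fb u)
          ((Groth.Agent.Lib.ProjSpace.BaseChange.isPullback_overMap n u).lift
            (pullback.fst fb u ≫ c) (pullback.snd fb u)
              (by rw [Category.assoc, hcfac, pullback.condition]))
          c (Groth.Agent.Lib.ProjSpace.BaseChange.overMap n u) := by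
        refine IsPullback.of_bot ?_ (by simp)
          (Groth.Agent.Lib.ProjSpace.BaseChange.isPullback_overMap n u)
        rw [IsPullback.lift_snd, hcfac]
        exact IsPullback.of_hasPullback fb u
      exact MorphismProperty.of_isPullback (P := (@IsClosedImmersion : MorphismProperty Scheme.{0})) h hc
    · exact IsPullback.lift_snd _ _ _ _
  · intro Ω _ _ σ
    obtain ⟨h1, h2⟩ := hfib Ω (σ ≫ u)
    exact ⟨(pullbackLeftPullbackSndIso fb u σ).hom.homeomorph.irreducibleSpace_iff.mpr h1,
      (pullbackLeftPullbackSndIso fb u σ).hom.homeomorph.isHomeomorph.topologicalKrullDim_eq.trans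
        h2⟩
  · rw [hi'fb]; infer_instance
  · rw [hi'fb]; infer_instance
  · rw [hi'fb]
    have : Surjective (i ≫ fb) := ⟨hsurj⟩
    exact (inferInstance : Surjective (pullback.snd (i ≫ fb) u)).surj

end Groth.Agent.S15501
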