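import Groth.Statements.S15504
import Mathlib.RingTheory.WittVector.DiscreteValuationRing
import Mathlib.RingTheory.Artinian.Ring
import Mathlib.RingTheory.Ideal.KrullsHeightTheorem
import Mathlib.Algebra.Module.Torsion.Basic
import Mathlib.FieldTheory.IsAlgClosed.Basic
import Mathlib.RingTheory.DedekindDomain.Basic
-- import your own Groth.Agent.* helpers here

set_option autoImplicit false
universe u v
open FrobAlg

namespace Groth.Agent.S15504

/-- Let k be an algebraically closed field of characteristic p, W = W(k) the ring of p-typical Witt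
vectors, M a finitely generated torsion W-module and φ a p⁻¹-linear endomorphism of M (additive,
with φ(a·m) = σ⁻¹(a)·φ(m) for the Frobenius automorphism σ of W). Then M = M_s ⊕ M_n for two
φ-stable submodules, with φ bijective on M_s and nilpotent on M_n (one iterate of φ kills M_n). -/
theorem result (p : ℕ) [Fact p.Prime]
    (k : Type u) [Field k] [CharP k p] [IsAlgClosed k]
    (M : Type v) [AddCommGroup M] [Module (WittVector p k) M] [Module.Finite (WittVector p k) M]
    (hM : Module.IsTorsion (WittVector p k) M)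
    (φ : M →ₛₗ[((WittVector.frobeniusEquiv p k).symm : WittVector p k →+* WittVector p k)] M) :
    ∃ Ms Mn : Submodule (WittVector p k) M, IsCompl Ms Mn ∧
      Set.MapsTo φ Ms Ms ∧ Set.MapsTo φ Mn Mn ∧ Set.BijOn φ Ms Ms ∧
      ∃ r : ℕ, ∀ x ∈ Mn, (⇑φ)^[r] x = 0 := by
  set W := WittVector p k
  let ps : W →+* W := ((WittVector.frobeniusEquiv p k).symm : W →+* W)
  have hps : Function.Surjective ps := (WittVector.frobeniusEquiv p k).symm.surjective
  have hsmul : ∀ (n : ℕ) (a : W) (x : M), (⇑φ)^[n] (a • x) = (⇑ps)^[n] a • (⇑φ)^[n] x := by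
    intro n
    induction n with
    | zero => simp
    | succ n ih =>
      intro a x
      rw [Function.iterate_succ_apply', ih, φ.map_smulₛₗ, ← Function.iterate_succ_apply' (⇑φ), ← Function.iterate_succ_apply' (⇑ps)]
  have hzero : ∀ n, (⇑φ)^[n] 0 = 0 := fun n => iterate_map_zero φ.toAddMonoidHom n
  have hadd : ∀ n x y, (⇑φ)^[n] (x + y) = (⇑φ)^[n] x + (⇑φ)^[n] y := fun n => iterate_map_add φ.toAddMonoidHom n
  have hsubn : ∀ n x y, (⇑φ)^[n] (x - y) = (⇑φ)^[n] x - (⇑φ)^[n] y := fun n => iterate_map_sub φ.toAddMonoidHom n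
  let K : ℕ →o Submodule W M :=
    { toFun := fun n =>
        { carrier := {x | (⇑φ)^[n] x = 0}
          zero_mem' := hzero n
          add_mem' := fun {x y} hx hy => by
            simp only [Set.mem_setOf_eq] at hx hy ⊢
            rw [hadd, hx, hy, add_zero]
          smul_mem' := fun a x hx => by
            simp only [Set.mem_setOf_eq] at hx ⊢
            rw [hsmul, hx, smul_zero] }
      monotone' := fun a b hab x hx => by
        obtain ⟨c, rfl⟩ := Nat.exists_eq_add_of_le hab
        show (⇑φ)^[a + c] x = 0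
        rw [add_comm, Function.iterate_add_apply, show (⇑φ)^[a] x = 0 from hx, hzero] }
  let Rg : ℕ →o (Submodule W M)ᵒᵈ :=
    { toFun := fun n => OrderDual.toDual
        { carrier := Set.range (⇑φ)^[n]
          zero_mem' := ⟨0, hzero n⟩
          add_mem' := by rintro _ _ ⟨x, rfl⟩ ⟨y, rfl⟩; exact ⟨x + y, hadd n x y⟩
          smul_mem' := by
            rintro a _ ⟨x, rfl⟩
            obtain ⟨c, rfl⟩ := (hps.iterate n) a
            exact ⟨c • x, hsmul n c x⟩ }
      monotone' := fun a b hab x hx => by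
        obtain ⟨c, rfl⟩ := Nat.exists_eq_add_of_le hab
        obtain ⟨y, rfl⟩ := hx
        exact ⟨(⇑φ)^[c] y, (Function.iterate_add_apply _ a c y).symm⟩ }
  have hart : IsArtinian W M := by
    obtain ⟨a, ha, ha0⟩ := Submodule.annihilator_top_inter_nonZeroDivisors hM
    set J : Ideal W := Ideal.span {a}
    have hJ : Module.IsTorsionBySet W M J := by
      intro x ⟨b, hb⟩
      obtain ⟨c, rfl⟩ := Ideal.mem_span_singleton'.1 hb
      show (c * a) • x = 0
      rw [mul_smul, Submodule.mem_annihilator.1 ha x trivial, smul_zero]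
    letI := hJ.module
    haveI : IsScalarTower W (W ⧸ J) M := hJ.isScalarTower
    haveI : Module.Finite (W ⧸ J) M := Module.Finite.of_restrictScalars_finite W (W ⧸ J) M
    haveI : Ring.KrullDimLE 0 (W ⧸ J) := Ring.KrullDimLE.mk₀ fun P hP => by
      have h1 : (P.comap (Ideal.Quotient.mk J)).IsMaximal := (hP.comap _).isMaximal (fun h => by
        have : a ∈ P.comap (Ideal.Quotient.mk J) := by
          rw [Ideal.mem_comap, Ideal.Quotient.eq_zero_iff_mem.2 (Ideal.mem_span_singleton_self a)]; exact P.zero_mem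
        rw [h, Ideal.mem_bot] at this
        exact nonZeroDivisors.ne_zero ha0 this)
      haveI := h1
      exact Ideal.map_comap_of_surjective _ Ideal.Quotient.mk_surjective P ▸
        Ideal.IsMaximal.map_of_surjective_of_ker_le (f := Ideal.Quotient.mk J) Ideal.Quotient.mk_surjective
          (fun x hx => by rw [Ideal.mem_comap, RingHom.mem_ker.1 hx]; exact P.zero_mem)
    haveI : IsArtinianRing (W ⧸ J) := IsNoetherianRing.isArtinianRing_of_krullDimLE_zero
    haveI : IsArtinian (W ⧸ J) M := inferInstance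
    exact isArtinian_of_surjective_algebraMap (R := W ⧸ J) (S := W) (M := M) Ideal.Quotient.mk_surjective
  obtain ⟨r₁, hr₁⟩ := monotone_stabilizes_iff_noetherian.2 (inferInstance : IsNoetherian W M) K
  obtain ⟨r₂, hr₂⟩ := IsArtinian.monotone_stabilizes Rg
  set r := r₁ + r₂ with hr
  have hK : ∀ b, r ≤ b → ∀ x, (⇑φ)^[b] x = 0 → (⇑φ)^[r] x = 0 := fun b hb x hx => by
    have h : K r = K b := (hr₁ r (by omega)).symm.trans (hr₁ b (by omega))
    exact (h ▸ (hx : x ∈ K b) : x ∈ K r)
  have hR : ∀ b, r ≤ b → ∀ x ∈ Set.range (⇑φ)^[r], x ∈ Set.range (⇑φ)^[b] := fun b hb x hx => by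
    have h : Rg r = Rg b := (hr₂ r (by omega)).symm.trans (hr₂ b (by omega))
    exact (h ▸ (hx : x ∈ OrderDual.ofDual (Rg r)) : x ∈ OrderDual.ofDual (Rg b))
  have hcomm : ∀ x, (⇑φ)^[r] (φ x) = φ ((⇑φ)^[r] x) := fun x => by
    rw [← Function.iterate_succ_apply, Function.iterate_succ_apply']
  refine ⟨OrderDual.ofDual (Rg r), K r, ⟨?_, ?_⟩, ?_, ?_, ⟨?_, ?_, ?_⟩, r, fun x hx => hx⟩
  · rw [Submodule.disjoint_def]
    rintro _ ⟨y, rfl⟩ h2
    exact hK (r + r) (by omega) y (by rw [Function.iterate_add_apply]; exact h2)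
  · rw [codisjoint_iff, ← top_le_iff]
    intro x _
    obtain ⟨y, hy⟩ := hR (r + r) (by omega) ((⇑φ)^[r] x) ⟨x, rfl⟩
    refine Submodule.mem_sup.2 ⟨(⇑φ)^[r] y, ⟨y, rfl⟩, x - (⇑φ)^[r] y, ?_, add_sub_cancel _ _⟩
    show (⇑φ)^[r] (x - (⇑φ)^[r] y) = 0
    rw [hsubn]
    rw [← Function.iterate_add_apply, hy, sub_self]
  · rintro _ ⟨y, rfl⟩
    exact ⟨φ y, hcomm y⟩
  · intro x hx
    show (⇑φ)^[r] (φ x) = 0
    rw [hcomm, show (⇑φ)^[r] x = 0 from hx, map_zero]
  · rintro _ ⟨y, rfl⟩
    exact ⟨φ y, hcomm y⟩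
  · rintro _ ⟨x, rfl⟩ _ ⟨y, rfl⟩ hxy
    have h1 : (⇑φ)^[r + 1] (x - y) = 0 := by
      rw [Function.iterate_succ_apply']
      rw [hsubn, map_sub]
      exact sub_eq_zero.2 hxy
    have h2 := hK (r + 1) (by omega) _ h1
    exact sub_eq_zero.1 ((hsubn r x y).symm.trans h2)
  · intro x hx
    obtain ⟨y, rfl⟩ := hR (r + 1) (by omega) x hx
    exact ⟨(⇑φ)^[r] y, ⟨y, rfl⟩, (Function.iterate_succ_apply' _ _ _).symm⟩

end Groth.Agent.S15504
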