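import Groth.Statements.S15505
import Mathlib.FieldTheory.Finite.Basic
import Mathlib.FieldTheory.Perfect
-- import your own Groth.Agent.* helpers here

set_option autoImplicit false
universe u v w
open FrobAlg

namespace Groth.Agent.S15505

/-- Let k be an algebraically closed field of characteristic p, V a k-vector space, φ a p⁻¹-linear
endomorphism of V (additive, φ(a·v) = a^{1/p}·φ(v)) and b a finite basis of V consisting of vectors
fixed by φ. Then the vectors fixed by φ are exactly the combinations of the b_i with coefficients in
the prime field: v is fixed if and only if v = Σ c_i·b_i with all c_i in the image of ℤ/p. -/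
theorem result (p : ℕ) [Fact p.Prime]
    (k : Type u) [Field k] [CharP k p] [IsAlgClosed k]
    (V : Type v) [AddCommGroup V] [Module k V]
    (φ : V →ₛₗ[((frobeniusEquiv k p).symm : k →+* k)] V)
    {ι : Type w} [Fintype ι] (b : Module.Basis ι k V) (hb : ∀ i, φ (b i) = b i) (v : V) :
    φ v = v ↔ ∃ c : ι → ZMod p, v = ∑ i, (ZMod.castHom (dvd_refl p) k (c i)) • b i := by
  constructor
  · intro hv
    have key : ∀ i, (b.repr v i) ^ p = b.repr v i := by
      intro i
      have h := congrArg (fun w => b.repr w i) hv
      have h2 : φ v = ∑ j, (frobeniusEquiv k p).symm (b.repr v j) • b j := by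
        refine (congrArg φ (b.sum_repr v).symm).trans ?_
        rw [map_sum]
        exact Finset.sum_congr rfl fun j _ => (LinearMap.map_smulₛₗ φ _ _).trans (by rw [hb]; rfl)
      simp only [h2, b.repr_sum_self] at h
      conv_lhs => rw [← h]
      exact frobeniusEquiv_symm_pow_p k p _
    have : ∀ i, ∃ c : ZMod p, ZMod.castHom (dvd_refl p) k c = b.repr v i := by
      intro i
      have h1 := (Subfield.mem_bot_iff_pow_eq_self (F := k) (p := p)).2 (key i)
      rw [← ZMod.fieldRange_castHom_eq_bot p] at h1
      exact h1
    choose c hc using this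
    exact ⟨c, by simp only [hc, b.sum_repr]⟩
  · rintro ⟨c, rfl⟩
    rw [map_sum]
    refine Finset.sum_congr rfl fun i _ => ?_
    rw [LinearMap.map_smulₛₗ, hb]
    congr 1
    show (frobeniusEquiv k p).symm (ZMod.castHom _ k (c i)) = _
    rw [RingEquiv.symm_apply_eq, frobeniusEquiv_apply, frobenius_def, ← map_pow, ZMod.pow_card]

end Groth.Agent.S15505
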