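import Groth.Statements.S15506
import Mathlib.AlgebraicGeometry.Morphisms.Etale
import Mathlib.RingTheory.Unramified.Finite
import Mathlib.FieldTheory.IsAlgClosed.Basic

set_option autoImplicit false
universe u
open CategoryTheory AlgebraicGeometry
open EtBase

namespace Groth.Agent.S15506

/-- Let k be a field, K an algebraic closure of k (an algebraically closed field algebraic over k), Ω a
field containing K, and Z a scheme étale over Spec k. Composition with Spec Ω → Spec K is a
bijection from the k-morphisms Spec K → Z onto the k-morphisms Spec Ω → Z: two k-morphisms Spec K →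
Z that agree on Spec Ω are equal, and every k-morphism Spec Ω → Z factors through Spec K. (The
published statement is the case where k has characteristic zero with a chosen embedding of its
algebraic closure into the complex numbers, Ω = ℂ, and Z is the scheme of isomorphisms between two
K3 surfaces over k, known there to be étale over k; this row states the fact about an arbitrary
étale k-scheme that the argument establishes.) -/
theorem result
    (k K Ω : Type u) [Field k] [Field K] [Field Ω] [Algebra k K] [IsAlgClosed K] [Algebra.IsAlgebraic k K]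
    [Algebra K Ω] [Algebra k Ω] [IsScalarTower k K Ω]
    (Z : Scheme.{u}) (f : Z ⟶ Spec (CommRingCat.of k)) [AlgebraicGeometry.Etale f] :
    (∀ g₁ g₂ : Spec (CommRingCat.of K) ⟶ Z,
        g₁ ≫ f = Spec.map (CommRingCat.ofHom (algebraMap k K)) →
        g₂ ≫ f = Spec.map (CommRingCat.ofHom (algebraMap k K)) →
        Spec.map (CommRingCat.ofHom (algebraMap K Ω)) ≫ g₁ = Spec.map (CommRingCat.ofHom (algebraMap K Ω)) ≫ g₂ →
        g₁ = g₂) ∧
    (∀ h : Spec (CommRingCat.of Ω) ⟶ Z, h ≫ f = Spec.map (CommRingCat.ofHom (algebraMap k Ω)) →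
        ∃ g : Spec (CommRingCat.of K) ⟶ Z, g ≫ f = Spec.map (CommRingCat.ofHom (algebraMap k K)) ∧
          Spec.map (CommRingCat.ofHom (algebraMap K Ω)) ≫ g = h) := by
  let q := Spec.map (CommRingCat.ofHom (algebraMap K Ω))
  refine ⟨fun g₁ g₂ h₁ h₂ he => ?_, fun h hh => ?_⟩
  · let c := Limits.pullback.lift g₁ g₂ (h₁.trans h₂.symm)
    have hc : q ≫ c = (q ≫ g₁) ≫ Limits.pullback.diagonal f := by
      apply Limits.pullback.hom_ext
      · rw [Category.assoc, Category.assoc, Limits.pullback.lift_fst, Limits.pullback.diagonal_fst, Category.comp_id]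
      · rw [Category.assoc, Category.assoc, Limits.pullback.lift_snd, Limits.pullback.diagonal_snd, Category.comp_id]
        exact he.symm
    have hrange : Set.range c ⊆ Set.range (Limits.pullback.diagonal f) := by
      rintro _ ⟨r, rfl⟩
      obtain rfl : q default = r := Subsingleton.elim _ _
      exact ⟨(q ≫ g₁) default, by rw [← Scheme.Hom.comp_apply, ← hc, Scheme.Hom.comp_apply]⟩
    obtain ⟨l, hl⟩ : ∃ l, l ≫ Limits.pullback.diagonal f = c :=
      ⟨IsOpenImmersion.lift _ c hrange, IsOpenImmersion.lift_fac _ c hrange⟩
    calc g₁ = c ≫ Limits.pullback.fst f f := (Limits.pullback.lift_fst _ _ _).symm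
      _ = c ≫ Limits.pullback.snd f f := by rw [← hl]; simp
      _ = g₂ := Limits.pullback.lift_snd _ _ _
  · obtain ⟨V, hV, hzV, -⟩ := exists_isAffineOpen_mem_and_subset (x := h default) (U := (⊤ : Z.Opens)) trivial
    let A := Γ(Z, V)
    let ι : Spec A ⟶ Z := hV.fromSpec
    have hr : Set.range h ⊆ Set.range ι := by
      rintro _ ⟨r, rfl⟩
      rw [hV.range_fromSpec, Subsingleton.elim r default]
      exact hzV
    let l := IsOpenImmersion.lift ι h hr
    have hl : l ≫ ι = h := IsOpenImmersion.lift_fac _ _ _
    let u := Spec.preimage (ι ≫ f)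
    have hu : Spec.map u = ι ≫ f := Spec.map_preimage _
    have hue : u.hom.Etale := by
      have : Etale (Spec.map u) := by rw [hu]; infer_instance
      exact (HasRingHomProperty.Spec_iff (P := @Etale)).1 this
    letI : Algebra k A := u.hom.toAlgebra
    have : Algebra.Etale k A := RingHom.etale_algebraMap.1 hue
    have hint : ∀ a : A, IsIntegral k a := by
      have : Algebra.EssFiniteType k A := inferInstance
      have : Module.Finite k A := Algebra.FormallyUnramified.finite_of_free k A
      exact fun a => IsIntegral.of_finite k a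
    let φ := Spec.preimage l
    have hφ : Spec.map φ = l := Spec.map_preimage _
    have hcomp : u ≫ φ = CommRingCat.ofHom (algebraMap k Ω) := by
      apply Spec.map_injective
      rw [Spec.map_comp, hφ, hu, ← Category.assoc, hl, hh]
    let φa : A →ₐ[k] Ω := ⟨φ.hom, fun c => congrArg (fun m => (CommRingCat.Hom.hom m) c) hcomp⟩
    let jK : K →ₐ[k] Ω := IsScalarTower.toAlgHom k K Ω
    have hmem : φa.range ≤ jK.range := by
      rintro _ ⟨a, rfl⟩
      have hx : IsIntegral K (φa a) := ((hint a).map φa).tower_top
      have hsp : (minpoly K (φa a)).degree = 1 :=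
        IsAlgClosed.degree_eq_one_of_irreducible K (minpoly.irreducible hx)
      obtain ⟨b, hb⟩ := minpoly.degree_eq_one_iff.1 hsp
      exact ⟨b, hb⟩
    let e : K ≃ₐ[k] jK.range := AlgEquiv.ofInjective jK jK.toRingHom.injective
    let ψ : A →ₐ[k] K := e.symm.toAlgHom.comp ((Subalgebra.inclusion hmem).comp φa.rangeRestrict)
    have hψ : ∀ a, algebraMap K Ω (ψ a) = φ.hom a := fun a => by
      have := e.apply_symm_apply ((Subalgebra.inclusion hmem) (φa.rangeRestrict a))
      exact congrArg Subtype.val this
    refine ⟨Spec.map (CommRingCat.ofHom ψ.toRingHom) ≫ ι, ?_, ?_⟩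
    · rw [Category.assoc, ← hu, ← Spec.map_comp]
      congr 1
      ext c
      exact ψ.commutes c
    · rw [← Category.assoc, ← Spec.map_comp, ← hl, ← hφ]
      congr 2
      ext a
      exact hψ a

end Groth.Agent.S15506
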