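import Groth.Statements.S15508
import Groth.Agent.Lib.FppfMu.Main
-- import your own Groth.Agent.* helpers here

set_option autoImplicit false
universe u
open CategoryTheory CategoryTheory.Limits AlgebraicGeometry
open EtCoh

namespace Groth.Agent.S15508

/-- Let p be a prime and X a reduced scheme of characteristic p (p = 0 in Γ(X, O_X)). For every i ≥ 1
the flat cohomology group H^i_fl(X, μ_p), with μ_p the kernel of the p-th power map on G_m over the
big fppf site of X, is isomorphic to the étale cohomology group H^{i-1}_ét(X, G_m/G_m^p), with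
G_m/G_m^p the cokernel of the p-th power map on G_m over the small étale site of X (existence of an
isomorphism of abelian groups only; the comparison functor from the small étale site to the big fppf
site is assumed continuous, a binder of the prelude). (The published statement is for a smooth
projective threefold in characteristic p over a perfect base field, and for every i; the argument
uses only that X has characteristic p and that p-th roots of unity are trivial on every scheme étale
over X, i.e. X reduced — the generality stated here — and for i = 0 it reads H⁰_fl(X, μ_p) = 0,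
omitted.) -/
theorem result
    (p : ℕ) [Fact p.Prime] (X : Scheme.{u}) [FrobSch.IsCharP X p] [IsReduced X] [EtFppf.ACont X]
    (i : ℕ) (hi : 1 ≤ i) :
    Nonempty (EtFppf.HF X (kernel (p • 𝟙 (EtDl.GmF X))) i ≃+ EtCoh.H X (cokernel (EtCoh.powMap X p)) (i - 1)) := by
  have := Lib.FppfMu.Pow.epi_pow (X := X) p (Fact.out : p.Prime).pos
  have := Lib.FppfMu.Pow.mono_powMap (X := X) p
  have hcomm := Lib.FppfMu.Pow.map_pow_comm (X := X) p
  have : Mono ((EtFppf.aPush X).map (p • 𝟙 (EtDl.GmF X))) := by
    have h : Mono ((EtFppf.aPush X).map (p • 𝟙 (EtDl.GmF X)) ≫ (Lib.FppfMu.Pow.gmIso X).hom) := by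
      rw [hcomm]; infer_instance
    exact mono_of_mono _ (Lib.FppfMu.Pow.gmIso X).hom
  obtain ⟨n, rfl⟩ : ∃ n, i = n + 1 := ⟨i - 1, (Nat.sub_add_cancel hi).symm⟩
  obtain ⟨e⟩ := Lib.FppfMu.Main.nonempty_H (p • 𝟙 (EtDl.GmF X)) Lib.FppfGm.Acyclic.la_GmF n
  rw [Nat.add_sub_cancel]
  exact ⟨e.trans ((EtCoh.HF X n).mapIso (cokernel.mapIso _ _ (Lib.FppfMu.Pow.gmIso X)
    (Lib.FppfMu.Pow.gmIso X) hcomm)).addCommGroupIsoToAddEquiv⟩

end Groth.Agent.S15508
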