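import Groth.Statements.S15509
import Groth.Agent.H2.Tors.Reduce
import Groth.Agent.H2.Rigid.MulEtale
import Groth.Agent.Lib.Regular.UFD

set_option autoImplicit false
universe u
open CategoryTheory CategoryTheory.Limits MonoidalCategory CartesianMonoidalCategory MonObj AlgebraicGeometry
open AbSch

namespace Groth.Agent.S15509

/-- Let R be a regular local ring which is a domain and contains the rational numbers, with fraction
field K and residue field k, and let A be an abelian scheme over Spec R of relative dimension g (a
commutative group scheme which is smooth and proper with geometrically connected fibres of dimension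
g). Then for every integer m ≥ 1 the number of K-valued points of A over Spec R killed by m is at
most the number of k-valued points of A over Spec R killed by m: the m-torsion of the rational
points of the generic fibre is no larger than the m-torsion of the rational points of the closed
fibre. (The published statement is for an arbitrary Noetherian regular local ring R inside a paper
whose standing setting is schemes over the complex numbers; this row keeps from that setting only
that R contains the rationals, which is what the printed argument uses to make the m-torsion
subgroup scheme étale over the base.) -/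
theorem result
    (R : Type u) [CommRing R] [IsDomain R] [IsRegularLocalRing R] [Algebra ℚ R]
    (A : Over (Spec (CommRingCat.of R))) [GrpObj A] [IsCommMonObj A] (g : ℕ) (hA : AgPol.IsAbSch A g)
    (m : ℕ) (hm : 1 ≤ m) :
    Nat.card (AbDual.torsPts A m (Over.mk (Spec.map (CommRingCat.ofHom (algebraMap R (FractionRing R)))))) ≤
      Nat.card (AbDual.torsPts A m (Over.mk (Spec.map (CommRingCat.ofHom (IsLocalRing.residue R))))) := by
  haveI := hA.smooth
  haveI := hA.proper
  let S := Spec (CommRingCat.of R)
  let mu : A ⟶ A := 𝟙 A ^ m
  have hm' : IsUnit ((m : ℤ) : Γ(S, ⊤)) := by
    have h1 : IsUnit (m : R) := by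
      have h2 : IsUnit (m : ℚ) := isUnit_iff_ne_zero.2 (by exact_mod_cast (by omega : m ≠ 0))
      simpa using h2.map (algebraMap ℚ R)
    have := h1.map (Scheme.ΓSpecIso (CommRingCat.of R)).inv.hom
    simpa using this
  haveI hfin : IsFinite mu.left := by
    have := Groth.Agent.H2.Rigid.isFinite_zpow A (m : ℤ) hm'
    simpa using this
  haveI het : Etale mu.left := by
    have := Groth.Agent.H2.Rigid.etale_zpow A (m : ℤ) hm'
    simpa using this
  let π : pullback mu.left η[A].left ⟶ S := pullback.snd mu.left η[A].left
  haveI : IsFinite π := inferInstanceAs (IsFinite (pullback.snd mu.left η[A].left))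
  haveI : Etale π := inferInstanceAs (Etale (pullback.snd mu.left η[A].left))
  haveI : IsIntegrallyClosed R := Groth.Agent.Lib.Regular.UFD.isIntegrallyClosed R
  have e : ∀ (T : Type u) [CommRing T] [Algebra R T],
      ↥(AbDual.torsPts A m (Over.mk (Spec.map (CommRingCat.ofHom (algebraMap R T))))) ≃
        Groth.Agent.H2.Tors.Reduce.Pts π T := fun T _ _ =>
    { toFun := fun x => ⟨pullback.lift (f := mu.left) (g := η[A].left) x.1.left
          (Spec.map (CommRingCat.ofHom (algebraMap R T))) (by
            have h := congrArg Over.Hom.left
              (show x.1 ≫ mu = toUnit _ ≫ η[A] by rw [MonObj.comp_pow, Category.comp_id, ← Hom.one_def]; exact (AbDual.mem_torsPts A x.1).1 x.2)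
            exact h), pullback.lift_snd _ _ _⟩
      invFun := fun z => ⟨Over.homMk (z.1 ≫ pullback.fst mu.left η[A].left) (by
          have h : mu.left ≫ A.hom = A.hom := Over.w mu
          have h' : η[A].left ≫ A.hom = 𝟙 S := Over.w η[A]
          rw [Category.assoc, ← h, pullback.condition_assoc, h']
          exact (congrArg (fun t => z.1 ≫ t) (Category.comp_id _)).trans z.2), by
          rw [AbDual.mem_torsPts]
          suffices key : ∀ a : Over.mk (Spec.map (CommRingCat.ofHom (algebraMap R T))) ⟶ A,
              a.left = z.1 ≫ pullback.fst mu.left η[A].left → a ^ m = 1 from key _ rfl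
          intro a ha
          have h : a ≫ mu = toUnit _ ≫ η[A] := by
            ext1
            rw [Over.comp_left, ha, Category.assoc, pullback.condition, ← Category.assoc]
            exact congrArg (fun t => t ≫ η[A].left) z.2
          rw [MonObj.comp_pow, Category.comp_id, ← Hom.one_def] at h
          exact h⟩
      left_inv := fun x => Subtype.ext (Over.OverMorphism.ext (pullback.lift_fst _ _ _))
      right_inv := fun z => Subtype.ext (by
        apply pullback.hom_ext
        · exact pullback.lift_fst _ _ _
        · exact (pullback.lift_snd _ _ _).trans z.2.symm) }
  rw [Nat.card_congr (e (FractionRing R))]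
  exact (Groth.Agent.H2.Tors.Reduce.natCard_le π).trans_eq
    (Nat.card_congr (e (IsLocalRing.ResidueField R))).symm


end Groth.Agent.S15509
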