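import Groth.Statements.S15512
import Mathlib
import Groth.Agent.H22.GlobalDim
import Groth.Agent.Lib.Regular.PD

set_option autoImplicit false
universe u
open CategoryTheory
open CAlg

namespace Groth.Agent.S15512

open CategoryTheory Abelian Groth.Agent.Lib.Regular.PD in
theorem pdle_of_local (A : Type u) [CommRing A] [IsNoetherianRing A] : ∀ (n : ℕ) (M : Type u) [AddCommGroup M] [Module A M]
    [Module.Finite A M], (∀ (m : Ideal A) [m.IsMaximal], PDle (Localization.AtPrime m) (LocalizedModule m.primeCompl M) n) →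
    PDle A M n := by
  intro n
  induction n with
  | zero =>
    intro M _ _ _ h
    haveI : Module.FinitePresentation A M := Module.finitePresentation_of_finite A M
    exact pdle_zero_iff.mpr (Module.projective_of_localization_maximal fun m _ => pdle_zero_iff.mp (h m))
  | succ n ih =>
    intro M _ _ _ h
    obtain ⟨k, f, hf⟩ := exists_free_cover (R := A) M
    refine (pdle_succ_iff hf n).mpr (ih _ fun m _ => ?_)
    let S := m.primeCompl
    let Am := Localization.AtPrime m
    let g := LocalizedModule.mkLinearMap S M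
    let ι : (Fin k → A) →ₗ[A] (Fin k → Am) := .pi fun i => Algebra.linearMap A Am ∘ₗ .proj i
    haveI : IsLocalizedModule S (Algebra.linearMap A Am) := (isLocalizedModule_iff_isLocalization' S Am).mpr inferInstance
    haveI : IsLocalizedModule S ι := inferInstance
    let fA : (Fin k → Am) →ₗ[Am] LocalizedModule S M := IsLocalizedModule.mapExtendScalars S ι g Am f
    have hfA : Function.Surjective fA := IsLocalizedModule.map_surjective S ι g f hf
    let g' : LinearMap.ker f →ₗ[A] LinearMap.ker fA := LinearMap.toKerIsLocalized S ι g f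
    haveI : IsLocalizedModule S g' := LinearMap.toKerLocalized_isLocalizedModule Am S ι g f
    exact pdle_of_equiv ((IsLocalizedModule.iso S g').extendScalarsOfIsLocalization S Am).symm
      ((pdle_succ_iff hfA n).mp (h m))

open CategoryTheory Abelian in
theorem ext_free_eq_zero (A : Type u) [CommRing A] (X : ModuleCat.{u} A) (i k : ℕ)
    (h : Subsingleton (Ext X (ModuleCat.of A A) i)) (e : Ext X (ModuleCat.of A (Fin k → A)) i) : e = 0 := by
  classical
  let pr : Fin k → (ModuleCat.of A (Fin k → A) ⟶ ModuleCat.of A A) := fun j => ModuleCat.ofHom (LinearMap.proj j)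
  let inc : Fin k → (ModuleCat.of A A ⟶ ModuleCat.of A (Fin k → A)) := fun j =>
    ModuleCat.ofHom (LinearMap.single A (fun _ => A) j)
  have hsum : 𝟙 (ModuleCat.of A (Fin k → A)) = ∑ j, pr j ≫ inc j := by
    refine ModuleCat.hom_ext (LinearMap.ext fun v => ?_)
    rw [ModuleCat.hom_sum, LinearMap.sum_apply]
    simp [pr, inc, Finset.univ_sum_single v]
  have h2 : e = e.comp (Ext.mk₀ (∑ j, pr j ≫ inc j)) (add_zero i) := by rw [← hsum, Ext.comp_mk₀_id]
  rw [h2, Ext.mk₀_sum, Ext.comp_sum]
  refine Finset.sum_eq_zero fun j _ => ?_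
  rw [← Ext.mk₀_comp_mk₀, ← Ext.comp_assoc_of_second_deg_zero]
  have hz : e.comp (Ext.mk₀ (pr j)) (add_zero i) = 0 := Subsingleton.elim _ _
  rw [hz, Ext.zero_comp]

open CategoryTheory Abelian Groth.Agent.Lib.Regular.PD in
theorem pdle_step (A : Type u) [CommRing A] [IsNoetherianRing A] : ∀ (n : ℕ) (M : Type u) [AddCommGroup M] [Module A M]
    [Module.Finite A M], PDle A M (n + 1) → Subsingleton (Ext (ModuleCat.of A M) (ModuleCat.of A A) (n + 1)) →
    PDle A M n := by
  intro n
  induction n with
  | zero =>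
    intro M _ _ _ h hE
    obtain ⟨k, f, hf⟩ := exists_free_cover (R := A) M
    have hK := pdle_zero_iff.mp ((pdle_succ_iff hf 0).mp h)
    haveI := hK
    obtain ⟨k', q, hq⟩ := exists_free_cover (R := A) (LinearMap.ker f)
    obtain ⟨sec, hsec⟩ := q.exists_rightInverse_of_surjective (LinearMap.range_eq_top.mpr hq)
    have hS := LinearMap.shortExact_shortComplexKer hf
    let S := LinearMap.shortComplexKer f
    have hz : hS.extClass.comp (Ext.mk₀ (𝟙 S.X₁)) (add_zero 1) = 0 := by
      have h1 : (𝟙 S.X₁) = (ModuleCat.ofHom sec : S.X₁ ⟶ ModuleCat.of A (Fin k' → A)) ≫ ModuleCat.ofHom q := by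
        rw [← ModuleCat.ofHom_comp, hsec]; rfl
      rw [h1, ← Ext.mk₀_comp_mk₀, ← Ext.comp_assoc_of_second_deg_zero]
      have h2 : hS.extClass.comp (Ext.mk₀ (ModuleCat.ofHom sec : S.X₁ ⟶ ModuleCat.of A (Fin k' → A))) (add_zero 1) = 0 :=
        ext_free_eq_zero A _ 1 k' hE _
      rw [h2, Ext.zero_comp]
    obtain ⟨x₂, hx⟩ := Ext.contravariant_sequence_exact₁ hS _ (Ext.mk₀ (𝟙 S.X₁)) (n₁ := 1) rfl hz
    obtain ⟨r, rfl⟩ := (Ext.mk₀_bijective _ _).2 x₂
    rw [Ext.mk₀_comp_mk₀] at hx
    have hr := (Ext.mk₀_bijective _ _).1 hx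
    rw [pdle_zero_iff]
    have hr' : ∀ y : LinearMap.ker f, r.hom y.1 = y := fun y => LinearMap.congr_fun (congrArg ModuleCat.Hom.hom hr) y
    let P : (Fin k → A) →ₗ[A] (Fin k → A) := LinearMap.id - (LinearMap.ker f).subtype ∘ₗ r.hom
    have hP : LinearMap.ker f ≤ LinearMap.ker P := fun y hy => by
      rw [LinearMap.mem_ker]
      show y - (r.hom y).1 = 0
      rw [hr' ⟨y, hy⟩, sub_self]
    let σ : M →ₗ[A] (Fin k → A) := (LinearMap.ker f).liftQ P hP ∘ₗ (f.quotKerEquivOfSurjective hf).symm.toLinearMap
    refine Module.Projective.of_split σ f (LinearMap.ext fun y => ?_)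
    obtain ⟨x, rfl⟩ := hf y
    show f ((LinearMap.ker f).liftQ P hP ((f.quotKerEquivOfSurjective hf).symm (f x))) = f x
    have hsymm : (f.quotKerEquivOfSurjective hf).symm (f x) = Submodule.Quotient.mk x := by
      rw [LinearEquiv.symm_apply_eq]; rfl
    rw [hsymm, Submodule.liftQ_apply]
    show f (x - (r.hom x).1) = f x
    rw [map_sub, show f (r.hom x).1 = 0 from (r.hom x).2, sub_zero]
  | succ n ih =>
    intro M _ _ _ h hE
    obtain ⟨k, f, hf⟩ := exists_free_cover (R := A) M
    refine (pdle_succ_iff hf n).mpr (ih _ ((pdle_succ_iff hf (n + 1)).mp h) ⟨fun x y => ?_⟩)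
    suffices key : ∀ z : Ext (ModuleCat.of A (LinearMap.ker f)) (ModuleCat.of A A) (n + 1), z = 0 by rw [key x, key y]
    intro z
    have hS := LinearMap.shortExact_shortComplexKer hf
    obtain ⟨x₂, rfl⟩ := Ext.contravariant_sequence_exact₁ hS _ z (n₁ := n + 2) (Nat.add_comm 1 (n + 1))
      (Subsingleton.elim (α := Ext (ModuleCat.of A M) (ModuleCat.of A A) (n + 1 + 1)) _ _)
    haveI : Projective (LinearMap.shortComplexKer f).X₂ := (IsProjective.iff_projective (R := A) _).mp inferInstance
    rw [Ext.eq_zero_of_projective x₂, Ext.comp_zero]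

/-- Let A be a Noetherian ring which is regular (its localization at every maximal ideal is a regular
local ring) and of finite Krull dimension, M a finitely generated A-module and d a natural number.
If Ext^i_A(M, A) vanishes for every i > d, then the projective dimension of M is at most d. -/
theorem result (A : Type u) [CommRing A]
    [IsNoetherianRing A] (hreg : ∀ m : MaximalSpectrum A, IsRegularLocalRing (Localization.AtPrime m.asIdeal))
    (hdim : ringKrullDim A < ⊤) (M : Type u) [AddCommGroup M] [Module A M] [Module.Finite A M] (d : ℕ)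
    (h : ∀ i : ℕ, d < i → Subsingleton (Abelian.Ext (ModuleCat.of A M) (ModuleCat.of A A) i)) :
    HasProjectiveDimensionLT (ModuleCat.of A M) (d + 1) := by
  classical
  open Groth.Agent.Lib.Regular.PD in
  obtain ⟨D, hD⟩ : ∃ D : ℕ, PDle A M D := by
    obtain ⟨D, hD⟩ : ∃ D : ℕ, ringKrullDim A ≤ D := by
      generalize ringKrullDim A = x at hdim
      induction x using WithBot.recBotCoe with
      | bot => exact ⟨0, bot_le⟩
      | coe x =>
        obtain ⟨a, rfl⟩ := ENat.ne_top_iff_exists.mp (show x ≠ ⊤ from fun e => by simp [e] at hdim)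
        exact ⟨a, le_rfl⟩
    refine ⟨D, pdle_of_local A D M fun m _ => ?_⟩
    haveI : IsRegularLocalRing (Localization.AtPrime m) := hreg ⟨m, inferInstance⟩
    have hle : ringKrullDim (Localization.AtPrime m) ≤ D := by
      rw [IsLocalization.AtPrime.ringKrullDim_eq_height m (Localization.AtPrime m)]
      exact (Ideal.height_le_ringKrullDim_of_isPrime).trans hD
    obtain ⟨e, he⟩ : ∃ e : ℕ, ringKrullDim (Localization.AtPrime m) = e :=
      ⟨_, (IsRegularLocalRing.spanFinrank_maximalIdeal (R := Localization.AtPrime m)).symm⟩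
    rw [he] at hle
    exact pdle_mono (Groth.Agent.H22.GlobalDim.hasProjectiveDimensionLT_regular e he _) (by exact_mod_cast hle)
  induction D with
  | zero => exact Groth.Agent.Lib.Regular.PD.pdle_mono hD (Nat.zero_le d)
  | succ D ih =>
    by_cases hd : D + 1 ≤ d
    · exact Groth.Agent.Lib.Regular.PD.pdle_mono hD hd
    · exact ih (pdle_step A D M hD (h (D + 1) (by omega)))

end Groth.Agent.S15512
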