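import Groth.Statements.S15524
import Groth.Agent.S7825
import Mathlib.Algebra.BigOperators.Field
import Mathlib.Analysis.SpecialFunctions.Pow.Real

set_option autoImplicit false
open Finset
open Zeta

namespace Groth.Agent.S15524

/-- Let q ≥ 1 and let α_1, …, α_{2g} be complex numbers permuted by α ↦ q/α, i.e. α_{σ(i)} α_i = q for a
permutation σ of the indices; these play the role of the inverse roots of the numerator of the zeta
function of a curve over a field with q elements, for which #X(F_{q^N}) = q^N + 1 − Σ_i α_i^N. If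
for some d ≥ 1 and real C one has |Σ_i α_i^{dN}| ≤ C q^{dN/2} for every N ≥ 1, then |α_i|^2 = q for
every i (the Riemann hypothesis for the curve). -/
theorem result {g : ℕ} (q : ℕ) (hq : 0 < q)
    (α : Fin (2 * g) → ℂ) (σ : Equiv.Perm (Fin (2 * g))) (hσ : ∀ i, α (σ i) * α i = q)
    (d : ℕ) (hd : 0 < d) (C : ℝ)
    (hC : ∀ N : ℕ, 1 ≤ N → ‖∑ i, α i ^ (d * N)‖ ≤ C * (q : ℝ) ^ ((d : ℝ) * N / 2))
    (i : Fin (2 * g)) : ‖α i‖ ^ 2 = q := by
  set s : ℝ := Real.sqrt q with hs
  have hq' : (0 : ℝ) < q := by exact_mod_cast hq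
  have hs0 : 0 < s := Real.sqrt_pos.2 hq'
  have hs2 : s ^ 2 = q := Real.sq_sqrt hq'.le
  let β : Fin (2 * g) → ℂ := fun j => α j ^ d / (s : ℂ) ^ d
  have hpow : ∀ N : ℕ, (q : ℝ) ^ ((d : ℝ) * N / 2) = s ^ (d * N) := by
    intro N
    rw [hs, Real.sqrt_eq_rpow, ← Real.rpow_natCast ((q : ℝ) ^ (1 / 2 : ℝ)) (d * N),
      ← Real.rpow_mul hq'.le]
    congr 1
    push_cast
    ring
  have hβ : ∀ j, ‖β j‖ ≤ 1 := by
    refine Groth.Agent.S7825.result β C fun N hN => ?_
    have h : ∑ j, β j ^ N = (∑ j, α j ^ (d * N)) / (s : ℂ) ^ (d * N) := by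
      rw [Finset.sum_div]
      exact Finset.sum_congr rfl fun j _ => by simp only [β, div_pow, ← pow_mul]
    rw [h, norm_div, norm_pow, Complex.norm_real, Real.norm_eq_abs, abs_of_pos hs0,
      div_le_iff₀ (by positivity)]
    exact (hC N hN).trans_eq (by rw [hpow])
  have hα : ∀ j, ‖α j‖ ≤ s := by
    intro j
    have h := hβ j
    simp only [β, norm_div, norm_pow, Complex.norm_real, Real.norm_eq_abs, abs_of_pos hs0] at h
    rw [div_le_one (by positivity)] at h
    exact (pow_le_pow_iff_left₀ (norm_nonneg _) hs0.le (by omega)).1 h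
  have hprod : ‖α (σ i)‖ * ‖α i‖ = q := by rw [← norm_mul, hσ, Complex.norm_natCast]
  have h1 := hα i
  have h2 := hα (σ i)
  have h3 : s ≤ ‖α i‖ := by
    by_contra h4
    rw [not_le] at h4
    nlinarith [norm_nonneg (α i), norm_nonneg (α (σ i))]
  rw [le_antisymm h1 h3, hs2]

end Groth.Agent.S15524
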