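import Groth.Statements.S15525
import Mathlib.LinearAlgebra.Matrix.Charpoly.Eigs
import Mathlib.LinearAlgebra.Matrix.Charpoly.Coeff
import Mathlib.Analysis.Complex.Polynomial.Basic

set_option autoImplicit false
universe u
open Zeta

namespace Groth.Agent.S15525

theorem hprod_map (p : Polynomial ℂ)
    (h : p = (p.roots.map fun z => Polynomial.X - Polynomial.C z).prod) :
    p.map (starRingEnd ℂ) =
      (p.roots.map fun z => Polynomial.X - Polynomial.C (starRingEnd ℂ z)).prod := by
  conv_lhs => rw [h]
  rw [Polynomial.map_multiset_prod, Multiset.map_map]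
  simp

theorem conj_fix (q : Polynomial ℂ) :
    (q * q.map (starRingEnd ℂ)).map (starRingEnd ℂ) = q * q.map (starRingEnd ℂ) := by
  rw [Polynomial.map_mul, Polynomial.map_map,
    show (starRingEnd ℂ).comp (starRingEnd ℂ) = RingHom.id ℂ from RingHom.ext Complex.conj_conj,
    Polynomial.map_id, mul_comm]

theorem prod_inv (s : Multiset ℂ) (h : ∀ z ∈ s, ‖z‖ = 1) :
    (-1) ^ Multiset.card s * Polynomial.C s.prod⁻¹ *
        (s.map fun z => 1 - Polynomial.C z * Polynomial.X).prod =
      (s.map fun z => Polynomial.X - Polynomial.C (starRingEnd ℂ z)).prod := by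
  induction s using Multiset.induction with
  | empty => simp
  | cons a s ih =>
    have ha : ‖a‖ = 1 := h a (Multiset.mem_cons_self a s)
    have ha0 : a ≠ 0 := fun h0 => by simp [h0] at ha
    have hi : starRingEnd ℂ a = a⁻¹ := (Complex.inv_eq_conj ha).symm
    simp only [Multiset.map_cons, Multiset.prod_cons, Multiset.card_cons]
    rw [← ih fun z hz => h z (Multiset.mem_cons_of_mem hz), hi, pow_succ, mul_inv, Polynomial.C_mul]
    have : Polynomial.C a⁻¹ * Polynomial.C a = 1 := by
      rw [← Polynomial.C_mul, inv_mul_cancel₀ ha0, Polynomial.C_1]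
    linear_combination ((-1) ^ Multiset.card s * Polynomial.C s.prod⁻¹ *
      (s.map fun z => 1 - Polynomial.C z * Polynomial.X).prod) * Polynomial.X * this


/-- Let L be a field with a ring embedding ι into ℂ and M an r × r matrix over L all of whose
eigenvalues, the complex roots of its characteristic polynomial mapped along ι, have absolute value
1. Then every coefficient of the characteristic polynomial of the block-diagonal matrix with blocks
M and the inverse transpose of M is mapped by ι into ℝ. This is the pointwise content of the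
assertion that for a lisse sheaf F pure of weight 0 the sum of F and its dual is real, the Frobenius
of the dual acting by the inverse transpose. -/
theorem result (L : Type u) [Field L] (ι : L →+* ℂ)
    {r : ℕ} (M : Matrix (Fin r) (Fin r) L)
    (hM : ∀ z ∈ ((Matrix.charpoly M).map ι).roots, ‖z‖ = 1) (n : ℕ) :
    (ι ((Matrix.fromBlocks M 0 0 (M⁻¹).transpose).charpoly.coeff n)).im = 0 := by
  set N := M.map ι with hN
  set p := (M.charpoly).map ι with hp
  have hpN : N.charpoly = p := Matrix.charpoly_map M ι
  have hs : p.Splits := IsAlgClosed.splits p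
  have hmon : p.Monic := (M.charpoly_monic).map ι
  have hprod : p = (p.roots.map fun z => Polynomial.X - Polynomial.C z).prod :=
    hs.eq_prod_roots_of_monic hmon
  have hne : ∀ z ∈ p.roots, z ≠ 0 := fun z hz h => by simpa [h] using hM z hz
  have hdet : N.det = p.roots.prod := by
    rw [Matrix.det_eq_prod_roots_charpoly, hpN]
  have hNu : IsUnit N := by
    rw [Matrix.isUnit_iff_isUnit_det, isUnit_iff_ne_zero, hdet]
    exact Multiset.prod_ne_zero fun h => hne 0 h rfl
  have hMu : IsUnit M.det := isUnit_iff_ne_zero.mpr fun h => by
    have := (Matrix.isUnit_iff_isUnit_det _).mp hNu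
    rw [hN, ← RingHom.mapMatrix_apply, ← RingHom.map_det, h, map_zero] at this
    exact not_isUnit_zero this
  have hinv : (M⁻¹).map ι = N⁻¹ := by
    symm
    apply Matrix.inv_eq_right_inv
    rw [hN, ← Matrix.map_mul, Matrix.mul_nonsing_inv _ hMu, Matrix.map_one _ (map_zero ι) (map_one ι)]
  -- the reversed polynomial
  have hrev : p.reverse = (p.roots.map fun z => 1 - Polynomial.C z * Polynomial.X).prod := by
    conv_lhs => rw [hprod]
    generalize p.roots = s
    induction s using Multiset.induction with
    | empty => simp [Polynomial.reverse]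
    | cons a s ih =>
      rw [Multiset.map_cons, Multiset.prod_cons, Polynomial.reverse_mul_of_domain, ih,
        Multiset.map_cons, Multiset.prod_cons]
      congr 1
      rw [Polynomial.reverse, Polynomial.natDegree_X_sub_C, Polynomial.reflect_sub,
        Polynomial.reflect_C, pow_one,
        show (Polynomial.X : Polynomial ℂ) = Polynomial.C 1 * Polynomial.X ^ 1 by simp,
        Polynomial.reflect_C_mul_X_pow]
      simp [Polynomial.revAt_le]
  have hq : (N⁻¹).transpose.charpoly = p.map (starRingEnd ℂ) := by
    rw [Matrix.charpoly_transpose, Matrix.charpoly_inv _ hNu, ← Matrix.reverse_charpoly, hpN, hrev,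
      hdet, Ring.inverse_eq_inv', hprod_map p hprod]
    have hc : Multiset.card p.roots = Fintype.card (Fin r) := by
      rw [← hs.natDegree_eq_card_roots, ← hpN, Matrix.charpoly_natDegree_eq_dim]
    rw [← hc]
    exact prod_inv p.roots hM
  have hfix : ((Matrix.fromBlocks M 0 0 (M⁻¹).transpose).charpoly).map ι = p * p.map (starRingEnd ℂ) := by
    rw [Matrix.charpoly_fromBlocks_zero₁₂, Polynomial.map_mul, ← hq, ← hinv, ← Matrix.charpoly_map _ ι,
      ← Matrix.charpoly_map _ ι, hpN]
    rfl
  have hr : (p * p.map (starRingEnd ℂ)).map (starRingEnd ℂ) = p * p.map (starRingEnd ℂ) := by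
    exact conj_fix p
  have := congrArg (fun q => Polynomial.coeff q n) hr
  simp only [Polynomial.coeff_map, ← hfix] at this
  exact Complex.conj_eq_iff_im.mp this

end Groth.Agent.S15525
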