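import Groth.Statements.S15526

set_option autoImplicit false
universe u
open MvPolynomial
open CAlg

namespace Groth.Agent.S15526

/-- Let R be a commutative ring, P ∈ R[x] a monic polynomial of degree 2g + 1, and A = R[x, y, z]/(y^2 −
P(x), yz − 1). Then every element of A is a finite sum Σ_n Q_n(x) y^n over integers n, negative
powers of y meaning powers of z, with each Q_n ∈ R[x] of degree at most 2g: the R-submodule of A
spanned by the classes of x^i y^n and x^i z^n with i ≤ 2g and n ≥ 0 is all of A. (The published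
statement takes for R the ring of Witt vectors of a finite field and for P a lift of a separable
polynomial; the argument uses only that P is monic of degree 2g + 1.) -/
theorem result (R : Type u) [CommRing R] (g : ℕ)
    (P : Polynomial R) (hP : P.Monic) (hdeg : P.natDegree = 2 * g + 1) :
    Submodule.span R {a : MvPolynomial (Fin 3) R ⧸
        Ideal.span ({X 1 ^ 2 - Polynomial.aeval (X 0 : MvPolynomial (Fin 3) R) P, X 1 * X 2 - 1} :
          Set (MvPolynomial (Fin 3) R)) |
        ∃ i n : ℕ, i ≤ 2 * g ∧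
          (a = Ideal.Quotient.mk _ (X 0 ^ i * X 1 ^ n) ∨ a = Ideal.Quotient.mk _ (X 0 ^ i * X 2 ^ n))} =
      ⊤ := by
  classical
  set J : Ideal (MvPolynomial (Fin 3) R) := Ideal.span {X 1 ^ 2 - Polynomial.aeval (X 0 : MvPolynomial (Fin 3) R) P, X 1 * X 2 - 1}
  set x := Ideal.Quotient.mk J (X 0)
  set y := Ideal.Quotient.mk J (X 1)
  set z := Ideal.Quotient.mk J (X 2)
  set N := Submodule.span R {a : MvPolynomial (Fin 3) R ⧸ J | ∃ i n : ℕ, i ≤ 2 * g ∧ (a = Ideal.Quotient.mk J (X 0 ^ i * X 1 ^ n) ∨ a = Ideal.Quotient.mk J (X 0 ^ i * X 2 ^ n))}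
  have hyz : y * z = 1 := by
    rw [← sub_eq_zero, ← map_mul, ← map_one (Ideal.Quotient.mk J), ← map_sub]
    exact Ideal.Quotient.eq_zero_iff_mem.2 (Ideal.subset_span (by simp))
  have hmem : ∀ i a b : ℕ, i ≤ 2 * g → x ^ i * (y ^ a * z ^ b) ∈ N := by
    intro i a b hi
    rcases le_total b a with h | h
    · obtain ⟨t, rfl⟩ := Nat.exists_eq_add_of_le h
      rw [pow_add, mul_right_comm (y ^ b), ← mul_pow, hyz, one_pow, one_mul]
      exact Submodule.subset_span ⟨i, t, hi, Or.inl (by simp only [x, y, map_mul, map_pow])⟩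
    · obtain ⟨t, rfl⟩ := Nat.exists_eq_add_of_le h
      rw [pow_add, ← mul_assoc (y ^ a), ← mul_pow, hyz, one_pow, one_mul]
      exact Submodule.subset_span ⟨i, t, hi, Or.inr (by simp only [x, z, map_mul, map_pow])⟩
  have htop : ∀ a b : ℕ, x ^ (2 * g + 1) * (y ^ a * z ^ b) ∈ N := by
    intro a b
    have hP' : Polynomial.aeval x P = y ^ 2 := by
      rw [show x = Ideal.Quotient.mkₐ R J (X 0) from rfl, Polynomial.aeval_algHom_apply, show y ^ 2 = Ideal.Quotient.mkₐ R J (X 1 ^ 2) by simp [y], eq_comm, ← sub_eq_zero, ← map_sub]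
      exact Ideal.Quotient.eq_zero_iff_mem.2 (Ideal.subset_span (by simp))
    rw [Polynomial.aeval_eq_sum_range, hdeg, Finset.sum_range_succ, ← hdeg, hP.coeff_natDegree, one_smul, hdeg, ← eq_sub_iff_add_eq'] at hP'
    rw [hP', sub_mul]
    refine N.sub_mem ?_ ?_
    · simpa [← mul_assoc, ← pow_add] using hmem 0 (2 + a) b (Nat.zero_le _)
    · rw [Finset.sum_mul]
      refine N.sum_mem fun j hj => ?_
      rw [smul_mul_assoc]
      exact N.smul_mem _ (hmem j a b (by have := Finset.mem_range.1 hj; omega))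
  have hgen : ∀ (w : MvPolynomial (Fin 3) R ⧸ J), (∀ i a b : ℕ, i ≤ 2 * g → x ^ i * (y ^ a * z ^ b) * w ∈ N) → ∀ v ∈ N, v * w ∈ N := by
    intro w hw v hv
    induction hv using Submodule.span_induction with
    | mem v hv =>
      obtain ⟨i, n, hi, rfl | rfl⟩ := hv
      · simpa [x, y] using hw i n 0 hi
      · simpa [x, z] using hw i 0 n hi
    | zero => simp
    | add a b _ _ ha hb => rw [add_mul]; exact N.add_mem ha hb
    | smul r a _ ha => rw [smul_mul_assoc]; exact N.smul_mem _ ha
  refine eq_top_iff.2 fun v _ => ?_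
  obtain ⟨p, rfl⟩ := Ideal.Quotient.mk_surjective v
  induction p using MvPolynomial.induction_on with
  | C r =>
    have : Ideal.Quotient.mk J (C r) = r • (x ^ 0 * (y ^ 0 * z ^ 0)) := by
      rw [show (C r : MvPolynomial (Fin 3) R) = algebraMap R _ r from rfl, Ideal.Quotient.mk_algebraMap, Algebra.algebraMap_eq_smul_one]
      simp
    rw [this]; exact N.smul_mem _ (hmem 0 0 0 (Nat.zero_le _))
  | add p q hp hq => rw [map_add]; exact N.add_mem (hp Submodule.mem_top) (hq Submodule.mem_top)
  | mul_X p l hp =>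
    rw [map_mul]
    refine hgen _ (fun i a b hi => ?_) _ (hp Submodule.mem_top)
    fin_cases l
    · show x ^ i * (y ^ a * z ^ b) * x ∈ N
      rw [mul_right_comm, ← pow_succ]
      rcases eq_or_lt_of_le hi with rfl | hlt
      · exact htop a b
      · exact hmem _ a b hlt
    · show x ^ i * (y ^ a * z ^ b) * y ∈ N
      rw [mul_assoc, mul_right_comm (y ^ a), ← pow_succ]
      exact hmem i (a + 1) b hi
    · show x ^ i * (y ^ a * z ^ b) * z ∈ N
      rw [mul_assoc, mul_assoc (y ^ a), ← pow_succ]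
      exact hmem i a (b + 1) hi

end Groth.Agent.S15526
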