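import Groth.Statements.S15538
import Groth.Agent.H41.ExtPushRegImm
import Groth.Agent.Lib.ModTensor.ModSite

set_option autoImplicit false
universe u
open RegImm

namespace Groth.Agent.S15538

open CategoryTheory AlgebraicGeometry in
/-- For a closed immersion i : Z → X which is a regular immersion of codimension c, a finite locally
free O_X-module E and any O_Z-module F, the groups Ext^q(i_*F, E), computed in the category of all
O_X-modules (the Ext instance is the stated hypothesis; it holds), vanish for q < c. (The published
statement allows any locally free E, possibly of infinite rank; E is taken finite locally free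
here.) -/
theorem result (X Z : Scheme.{u}) [HasExt.{u} X.Modules]
    (i : Z ⟶ X) [IsClosedImmersion i] (c : ℕ)
    (hi : RegImm.IsRegularImmersionOfCodim RegImm.Kind.regular c i) (E : X.Modules)
    (hE : FlatMod.IsFinLocFree E) (F : Z.Modules) (q : ℕ) (hq : q < c) :
    Subsingleton (Abelian.Ext ((Scheme.Modules.pushforward i).obj F) E q) := by
  haveI : ∀ (W : Scheme.{u}) (M : W.Modules), ModSite.HasSheafHom (O := W.sheaf) M :=
    fun W M => Groth.Agent.Lib.ModTensor.ModSite.hasSheafHom (O := W.sheaf) M
  haveI : ∀ W : Scheme.{u}, HasInjectiveResolutions (ModSite.Mod W.sheaf) := fun W =>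
    inferInstanceAs (HasInjectiveResolutions W.Modules)
  exact Groth.Agent.H41.ExtLocalGlobal.subsingleton_ext_of_isZero_extSh _ E c
    (fun p hp => Groth.Agent.H41.ExtPushRegImm.isZero_extSh i c hi E hE F hp) hq

end Groth.Agent.S15538
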