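import Groth.Statements.S15543
import Groth.Agent.H47.ConsPreimage

set_option autoImplicit false
open CategoryTheory AlgebraicGeometry
universe u
open ProCons

namespace Groth.Agent.S15543

/-- The ind-constructible case. Let f : X ⟶ Y be any morphism of schemes and T an ind-constructible
subset of Y (locally on Y a union of locally constructible subsets). Then the preimage of T under f
is ind-constructible in X. -/
theorem result {X Y : Scheme.{u}} (f : X ⟶ Y) (T : Set Y)
    (hT : ProCons.IsIndConstructible T) :
    ProCons.IsIndConstructible (f.base ⁻¹' T) := by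
  intro x
  obtain ⟨U, hU, hxU, S, hS, hST⟩ := hT (f.base x)
  refine ⟨f.base ⁻¹' U, hU.preimage f.continuous, hxU, (fun A => U.restrictPreimage f.base ⁻¹' A) '' S, ?_, ?_⟩
  · rintro _ ⟨A, hA, rfl⟩
    exact Groth.Agent.H47.ConsPreimage.isLocallyConstructible_restrict f U hU (hS A hA)
  · ext w
    have := Set.ext_iff.1 hST (U.restrictPreimage f.base w)
    simp only [Set.mem_preimage, Set.restrictPreimage_coe, Set.mem_sUnion, Set.mem_image] at this ⊢
    rw [this]
    exact ⟨fun ⟨A, hA, h⟩ => ⟨_, ⟨A, hA, rfl⟩, h⟩, fun ⟨_, ⟨A, hA, e⟩, h⟩ => ⟨A, hA, by rw [← e] at h; exact h⟩⟩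

end Groth.Agent.S15543
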