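import Groth.Statements.S15546
import Mathlib.RingTheory.Etale.Field
import Mathlib.RingTheory.Flat.FaithfullyFlat.Basic
import Mathlib.RingTheory.Unramified.Field
import Mathlib.RingTheory.Artinian.Module
import Mathlib.RingTheory.Kaehler.TensorProduct
import Mathlib.FieldTheory.IsAlgClosed.AlgebraicClosure

set_option autoImplicit false
open scoped TensorProduct
universe u
open Unram

namespace Groth.Agent.S15546

attribute [local instance] Algebra.TensorProduct.rightAlgebra

/-- Let E be a finite extension of a field k which is not separable over k, and K an algebraic closure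
of k. Then E ⊗_k K has a nonzero nilpotent element. -/
theorem result (k E K : Type u) [Field k] [Field E]
    [Algebra k E] [FiniteDimensional k E] [Field K] [Algebra k K] [IsAlgClosure k K]
    (h : ¬ Algebra.IsSeparable k E) : ∃ x : E ⊗[k] K, x ≠ 0 ∧ IsNilpotent x := by
  by_contra hne
  push Not at hne
  have hred : IsReduced (E ⊗[k] K) := ⟨fun x hx => by_contra fun hx0 => hne x hx0 hx⟩
  refine h ?_
  have : IsAlgClosed K := IsAlgClosure.isAlgClosed k
  let σ : E ⊗[k] K ≃ₐ[k] K ⊗[k] E := Algebra.TensorProduct.comm k E K
  have hred' : IsReduced (K ⊗[k] E) := isReduced_of_injective σ.symm σ.symm.injective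
  have hfu : Algebra.FormallyUnramified K (K ⊗[k] E) := by
    have : IsArtinianRing (K ⊗[k] E) := IsArtinianRing.of_finite K (K ⊗[k] E)
    have : Algebra.FormallyEtale K (K ⊗[k] E) :=
      (Algebra.FormallyEtale.iff_exists_algEquiv_prod K (K ⊗[k] E)).mpr (by
        let e := ((IsArtinianRing.equivPi (K ⊗[k] E)).restrictScalars K)
        refine ⟨MaximalSpectrum (K ⊗[k] E), inferInstance, fun m => (K ⊗[k] E) ⧸ m.asIdeal,
          fun m => Ideal.Quotient.field m.asIdeal, inferInstance,
          e, fun m => ?_⟩
        let := Ideal.Quotient.field m.asIdeal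
        exact Algebra.IsAlgebraic.isSeparable_of_perfectField)
    infer_instance
  have : Algebra.FormallyUnramified k E :=
    have := (KaehlerDifferential.tensorKaehlerEquivBase k K E (K ⊗[k] E)).toEquiv.subsingleton
    ⟨Module.FaithfullyFlat.lTensor_reflects_triviality k K _⟩
  exact Algebra.FormallyUnramified.isSeparable k E

end Groth.Agent.S15546
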