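import Groth.Statements.S15547
import Mathlib.RingTheory.Ideal.GoingUp
import Mathlib.AlgebraicGeometry.Morphisms.Finite

set_option autoImplicit false
set_option linter.style.haveILetI false
open CategoryTheory AlgebraicGeometry TopologicalSpace
universe u
open Coherent

namespace Groth.Agent.S15547

/-- Let g : Z ⟶ X be a finite morphism of schemes (Z is the spectrum of the finite quasi-coherent
O_X-algebra C = g_*O_Z) and x a point of X. Then the points of Z over x correspond bijectively to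
the maximal ideals of the stalk C_x = (g_*O_Z)_x: the map sending z with g(z) = x to the preimage of
the maximal ideal of O_{Z,z} under the canonical map (g_*O_Z)_x ⟶ O_{Z,z} is a bijection from the
fibre onto the set of maximal ideals. -/
theorem result {Z X : Scheme.{u}} (g : Z ⟶ X)
    [IsFinite g] (x : X) :
    Set.BijOn (fun z : {z : Z // g.base z = x} =>
        Ideal.comap (((g.base _* Z.presheaf).stalkCongr (Inseparable.of_eq z.2)).inv ≫
            TopCat.Presheaf.stalkPushforward CommRingCat g.base Z.presheaf z.1).hom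
          (IsLocalRing.maximalIdeal (Z.presheaf.stalk z.1)))
      Set.univ {I : Ideal ((g.base _* Z.presheaf).stalk x) | I.IsMaximal} := by
  obtain ⟨U, hU, hxU, -⟩ := exists_isAffineOpen_mem_and_subset (x := x) (U := ⊤) trivial
  have hV : IsAffineOpen (g ⁻¹ᵁ U) := hU.preimage g
  algebraize [(g.app U).hom]
  haveI hfin : Module.Finite Γ(X, U) Γ(Z, g ⁻¹ᵁ U) := g.finite_app U hU
  let C : CommRingCat := (g.base _* Z.presheaf).stalk x
  let φ : ∀ z : {z : Z // g.base z = x}, C ⟶ Z.presheaf.stalk z.1 := fun z =>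
    ((g.base _* Z.presheaf).stalkCongr (Inseparable.of_eq z.2)).inv ≫
      TopCat.Presheaf.stalkPushforward CommRingCat g.base Z.presheaf z.1
  let I : {z : Z // g.base z = x} → Ideal C := fun z =>
    Ideal.comap (φ z).hom (IsLocalRing.maximalIdeal (Z.presheaf.stalk z.1))
  show Set.BijOn I Set.univ {J : Ideal C | J.IsMaximal}
  let ψ : Γ(Z, g ⁻¹ᵁ U) →+* C := ((g.base _* Z.presheaf).germ U x hxU).hom
  have hφ : ∀ (z : {z : Z // g.base z = x}) b, (φ z).hom (ψ b) =
      Z.presheaf.germ (g ⁻¹ᵁ U) z.1 (show g.base z.1 ∈ U by rw [z.2]; exact hxU) b := by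
    rintro ⟨z, rfl⟩ b
    have e : (g.base _* Z.presheaf).germ U (g.base z) hxU ≫ φ ⟨z, rfl⟩ =
        Z.presheaf.germ (g ⁻¹ᵁ U) z hxU := by
      simp only [φ, TopCat.Presheaf.stalkCongr_inv, ← Category.assoc, TopCat.Presheaf.germ_stalkSpecializes]
      exact TopCat.Presheaf.stalkPushforward_germ _ g.base Z.presheaf U z hxU
    exact ConcreteCategory.congr_hom e b
  let q : {z : Z // g.base z = x} → Ideal Γ(Z, g ⁻¹ᵁ U) := fun z => (I z).comap ψ
  have hq : ∀ (z : {z : Z // g.base z = x}) b, b ∈ q z ↔ z.1 ∉ Z.basicOpen b := by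
    intro z b
    simp only [q, I, Ideal.mem_comap, hφ, IsLocalRing.mem_maximalIdeal, mem_nonunits_iff]
    rw [Scheme.mem_basicOpen]
  have hprime : ∀ z, (I z).IsPrime := fun z => Ideal.IsPrime.comap _
  let p : Ideal Γ(X, U) :=
    (IsLocalRing.maximalIdeal (X.presheaf.stalk x)).comap (X.presheaf.germ U x hxU).hom
  haveI : p.IsPrime := Ideal.IsPrime.comap _
  have hp : ∀ r, r ∈ p ↔ x ∉ X.basicOpen r := by
    intro r
    simp only [p, Ideal.mem_comap, IsLocalRing.mem_maximalIdeal, mem_nonunits_iff]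
    rw [Scheme.mem_basicOpen]
  have hqp : ∀ z, (q z).comap (algebraMap Γ(X, U) Γ(Z, g ⁻¹ᵁ U)) = p := by
    intro z
    ext r
    rw [Ideal.mem_comap, hq, hp]
    show z.1 ∉ Z.basicOpen (g.app U r) ↔ _
    rw [← Scheme.preimage_basicOpen]
    rw [Scheme.Hom.mem_preimage, z.2]
  have hunit : ∀ r, x ∈ X.basicOpen r → IsUnit (ψ (g.app U r)) := by
    intro r hr
    have h1 : IsUnit ((Z.presheaf.map (homOfLE (g.preimage_mono (X.basicOpen_le r))).op) (g.app U r)) := by
      have h0 := (X.toRingedSpace.isUnit_res_basicOpen r).map (g.app (X.basicOpen r)).hom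
      erw [← ConcreteCategory.comp_apply, g.naturality] at h0
      exact h0
    have h2 := h1.map ((g.base _* Z.presheaf).germ (X.basicOpen r) x hr).hom
    have e := ConcreteCategory.congr_hom
      ((g.base _* Z.presheaf).germ_res (homOfLE (X.basicOpen_le r)) x hr) (g.app U r)
    simp only [ψ]
    rw [← e]
    exact h2
  have hfrac : ∀ c : C, ∃ (b : Γ(Z, g ⁻¹ᵁ U)) (r : Γ(X, U)),
      x ∈ X.basicOpen r ∧ c * ψ (g.app U r) = ψ b := by
    intro c
    obtain ⟨V, hxV, s, rfl⟩ := TopCat.Presheaf.exists_germ_eq (g.base _* Z.presheaf) c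
    obtain ⟨r, hr, hxr⟩ := hU.exists_basicOpen_le (V := V) ⟨x, hxV⟩ hxU
    have hle : Z.basicOpen (g.app U r) ≤ g ⁻¹ᵁ V :=
      (Scheme.preimage_basicOpen g r).symm.le.trans (g.preimage_mono hr)
    haveI := hV.isLocalization_basicOpen (g.app U r)
    obtain ⟨⟨b, ⟨_, n, rfl⟩⟩, hb⟩ := IsLocalization.surj (Submonoid.powers (g.app U r))
      (Z.presheaf.map (homOfLE hle).op s)
    refine ⟨b * g.app U r, r ^ (n + 1), ?_, ?_⟩
    · rw [X.basicOpen_pow _ (by omega)]; exact hxr
    · have hxr' : g ⁻¹ᵁ X.basicOpen r ≤ Z.basicOpen (g.app U r) := (Scheme.preimage_basicOpen g r).le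
      let T : Γ(Z, g ⁻¹ᵁ X.basicOpen r) →+* C :=
        ((g.base _* Z.presheaf).germ (X.basicOpen r) x hxr).hom
      have hT : ∀ a : Γ(Z, g ⁻¹ᵁ U),
          T (Z.presheaf.map (homOfLE (g.preimage_mono (X.basicOpen_le r))).op a) = ψ a := fun a =>
        ConcreteCategory.congr_hom
          ((g.base _* Z.presheaf).germ_res (homOfLE (X.basicOpen_le r)) x hxr) a
      have hTV : T (Z.presheaf.map (homOfLE (g.preimage_mono hr)).op s) =
          (g.base _* Z.presheaf).germ V x hxV s :=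
        ConcreteCategory.congr_hom ((g.base _* Z.presheaf).germ_res (homOfLE hr) x hxr) s
      have h := congrArg (fun y => T (Z.presheaf.map (homOfLE hxr').op y)) hb
      simp only [map_mul, RingHom.algebraMap_toAlgebra, ← ConcreteCategory.comp_apply, ← Functor.map_comp] at h
      erw [hT, hT, hTV] at h
      rw [pow_succ, map_mul, map_pow, map_mul, map_mul, ← mul_assoc]
      exact congrArg (· * ψ (g.app U r)) h
  have hinj : ∀ z z', q z = q z' → z = z' := by
    intro z z' e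
    apply Subtype.ext
    have hz : z.1 ∈ g ⁻¹ᵁ U := show g.base z.1 ∈ U by rw [z.2]; exact hxU
    have hz' : z'.1 ∈ g ⁻¹ᵁ U := show g.base z'.1 ∈ U by rw [z'.2]; exact hxU
    have : hV.primeIdealOf ⟨_, hz⟩ = hV.primeIdealOf ⟨_, hz'⟩ := by
      apply PrimeSpectrum.ext
      ext b
      have key : ∀ (w : {z : Z // g.base z = x}) (hw : w.1 ∈ g ⁻¹ᵁ U),
          b ∈ (hV.primeIdealOf ⟨_, hw⟩).asIdeal ↔ b ∈ q w := by
        intro w hw
        rw [hq]
        conv_rhs => rw [show w.1 = hV.fromSpec (hV.primeIdealOf ⟨_, hw⟩) from (hV.fromSpec_primeIdealOf ⟨_, hw⟩).symm]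
        show _ ↔ _ ∉ hV.fromSpec ⁻¹ᵁ Z.basicOpen b
        rw [hV.fromSpec_preimage_basicOpen]
        exact not_not.symm
      rw [key, key, e]
    have := congrArg hV.fromSpec this
    simpa [hV.fromSpec_primeIdealOf] using this
  have hsurj : ∀ Q : Ideal Γ(Z, g ⁻¹ᵁ U), Q.IsPrime →
      Q.comap (algebraMap Γ(X, U) Γ(Z, g ⁻¹ᵁ U)) = p → ∃ z, q z = Q := by
    intro Q hQ e
    let z := hV.fromSpec ⟨Q, hQ⟩
    have hzV : z ∈ g ⁻¹ᵁ U := by
      rw [← SetLike.mem_coe, ← hV.range_fromSpec]; exact ⟨_, rfl⟩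
    have hbz : ∀ b, z ∈ Z.basicOpen b ↔ b ∉ Q := by
      intro b
      show _ ∈ hV.fromSpec ⁻¹ᵁ Z.basicOpen b ↔ _
      rw [hV.fromSpec_preimage_basicOpen]
      exact Iff.rfl
    have hgz : g.base z = x := by
      have h : hU.primeIdealOf ⟨g.base z, hzV⟩ = hU.primeIdealOf ⟨x, hxU⟩ := by
        apply PrimeSpectrum.ext
        ext r
        have key : ∀ (y : X) (hy : y ∈ U), r ∈ (hU.primeIdealOf ⟨y, hy⟩).asIdeal ↔ y ∉ X.basicOpen r := by
          intro y hy
          conv_rhs => rw [show y = hU.fromSpec (hU.primeIdealOf ⟨y, hy⟩) from (hU.fromSpec_primeIdealOf ⟨y, hy⟩).symm]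
          show _ ↔ _ ∉ hU.fromSpec ⁻¹ᵁ X.basicOpen r
          rw [hU.fromSpec_preimage_basicOpen]
          exact not_not.symm
        rw [key, key, ← hp, ← e, Ideal.mem_comap]
        show z ∉ g ⁻¹ᵁ X.basicOpen r ↔ g.app U r ∈ Q
        rw [Scheme.preimage_basicOpen, hbz, not_not]
      have := congrArg hU.fromSpec h
      simpa [hU.fromSpec_primeIdealOf] using this
    refine ⟨⟨z, hgz⟩, ?_⟩
    ext b
    rw [hq, hbz, not_not]
  have hle : ∀ (J : Ideal C) z, J.comap ψ ≤ q z → J ≤ I z := by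
    intro J z hJ c hc
    obtain ⟨b, r, hr, e⟩ := hfrac c
    have hb : ψ b ∈ I z := hJ (show b ∈ J.comap ψ by rw [Ideal.mem_comap, ← e]; exact J.mul_mem_right _ hc)
    rw [← e] at hb
    exact ((hprime z).mem_or_mem hb).resolve_right fun h =>
      (hprime z).ne_top (Ideal.eq_top_of_isUnit_mem _ h (hunit r hr))
  have hdom : ∀ J : Ideal C, J.IsPrime → ∃ z, J ≤ I z := by
    intro J hJ
    have hJp : (J.comap ψ).comap (algebraMap Γ(X, U) Γ(Z, g ⁻¹ᵁ U)) ≤ p := by
      intro r hr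
      rw [hp]
      intro hr'
      exact hJ.ne_top (Ideal.eq_top_of_isUnit_mem _ hr (hunit r hr'))
    obtain ⟨Q, hQ, hQp, hQc⟩ := Ideal.exists_ideal_over_prime_of_isIntegral p (J.comap ψ) hJp
    obtain ⟨z, rfl⟩ := hsurj Q hQp hQc
    exact ⟨z, hle J z hQ⟩
  have hmax : ∀ z, (I z).IsMaximal := by
    intro z
    obtain ⟨J, hJ, hzJ⟩ := Ideal.exists_le_maximal _ (hprime z).ne_top
    obtain ⟨z', hz'⟩ := hdom J hJ.isPrime
    have hqq : q z ≤ q z' := Ideal.comap_mono (hzJ.trans hz')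
    have : q z = q z' := by
      refine le_antisymm hqq fun b hb => ?_
      by_contra hbz
      haveI : (q z).IsPrime := Ideal.IsPrime.comap (hK := hprime z) ψ
      exact absurd (hqp z' ▸ hqp z : _) (Ideal.comap_lt_comap_of_integral_mem_sdiff hqq ⟨hb, hbz⟩
        (Algebra.IsIntegral.isIntegral b)).ne
    have e := hinj _ _ this
    subst e
    rw [← le_antisymm hz' hzJ]
    exact hJ
  refine ⟨fun z _ => hmax z, fun z _ z' _ e => hinj z z' (congrArg (Ideal.comap ψ) e), fun J hJ => ?_⟩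
  obtain ⟨z, hz⟩ := hdom J hJ.isPrime
  exact ⟨z, trivial, (hJ.eq_of_le (hprime z).ne_top hz).symm⟩

end Groth.Agent.S15547
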