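import Groth.Statements.S15548
import Groth.Agent.Lib.Tor.Splice
import Mathlib.RingTheory.Filtration
import Mathlib.RingTheory.Finiteness.Cardinality
import Mathlib.LinearAlgebra.TensorProduct.Quotient

set_option autoImplicit false
universe u
open CategoryTheory
open CAlg

namespace Groth.Agent.S15548

/-- Let R be a Noetherian commutative ring, I an ideal of R and M a finitely generated R-module. Then
for every natural number n there is m ≥ n such that the map Tor_1^R(M, R/I^m) → Tor_1^R(M, R/I^n)
induced by the projection R/I^m → R/I^n is the zero map. Here Tor_1^R(M, -) is the first left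
derived functor of M ⊗_R - (derived in the second variable). -/
theorem result (R : Type u) [CommRing R] [IsNoetherianRing R] (I : Ideal R)
    (M : Type u) [AddCommGroup M] [Module R M] [Module.Finite R M] (n : ℕ) :
    ∃ m : ℕ, n ≤ m ∧ ∀ h : I ^ m ≤ I ^ n,
      ((CategoryTheory.Tor (ModuleCat.{u} R) 1).obj (ModuleCat.of R M)).map
        (ModuleCat.ofHom (Submodule.factor h)) = 0 := by
  obtain ⟨k, β, hβ⟩ := Module.Finite.exists_fin' R M
  obtain ⟨c, hc⟩ := Ideal.exists_pow_inf_eq_pow_smul I (LinearMap.ker β)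
  refine ⟨n + c, Nat.le_add_right n c, fun h => ?_⟩
  refine Groth.Agent.Lib.Tor.Splice.tor_one_map_eq_zero
    (ModuleCat.ofHom (LinearMap.ker β).subtype) (ModuleCat.ofHom β)
    Subtype.val_injective hβ (LinearMap.exact_iff.2 (Submodule.range_subtype _).symm) _ ?_
  intro y hy
  have hy0 : ∀ y' : TensorProduct R (LinearMap.ker β) (R ⧸ I ^ (n + c)),
      ∃ x : LinearMap.ker β, y' = TensorProduct.tmul R x (Ideal.Quotient.mk (I ^ (n + c)) 1) := fun y' => by
    induction y' using TensorProduct.induction_on with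
    | zero => exact ⟨0, by simp⟩
    | tmul x a =>
      obtain ⟨a, rfl⟩ := Ideal.Quotient.mk_surjective a
      refine ⟨a • x, ?_⟩
      rw [TensorProduct.smul_tmul]
      simp [Algebra.smul_def]
    | add a b ha hb =>
      obtain ⟨x, hx⟩ := ha
      obtain ⟨x', hx'⟩ := hb
      exact ⟨x + x', by rw [hx, hx', TensorProduct.add_tmul]⟩
  obtain ⟨x, rfl⟩ := hy0 y
  have hmem : (x : Fin k → R) ∈ I ^ (n + c) • (⊤ : Submodule R (Fin k → R)) := by
    have := congrArg (TensorProduct.tensorQuotEquivQuotSMul (Fin k → R) (I ^ (n + c))) hy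
    rw [map_zero, ModuleCat.hom_ofHom, LinearMap.rTensor_tmul] at this
    erw [TensorProduct.tensorQuotEquivQuotSMul_tmul_mk, one_smul] at this
    exact (Submodule.Quotient.mk_eq_zero _).1 this
  have h2 : (x : Fin k → R) ∈ I ^ n • LinearMap.ker β := by
    have h3 : (x : Fin k → R) ∈ I ^ (n + c) • ⊤ ⊓ LinearMap.ker β := ⟨hmem, x.2⟩
    rw [hc (n + c) (Nat.le_add_left c n), Nat.add_sub_cancel] at h3
    exact Submodule.smul_mono le_rfl inf_le_right h3
  have hx : x ∈ I ^ n • (⊤ : Submodule R (LinearMap.ker β)) :=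
    (Submodule.mem_smul_top_iff (I ^ n) (LinearMap.ker β) x).2 h2
  change LinearMap.lTensor (LinearMap.ker β) (Submodule.factor h)
    (TensorProduct.tmul R x (Ideal.Quotient.mk (I ^ (n + c)) 1)) = 0
  rw [LinearMap.lTensor_tmul]
  generalize hg : Submodule.factor h (Ideal.Quotient.mk (I ^ (n + c)) 1) = e
  clear hg
  refine Submodule.smul_induction_on (p := fun x => TensorProduct.tmul R x e = 0) hx
    (fun a ha m _ => ?_) (fun a b ha hb => ?_)
  ·
    rw [TensorProduct.smul_tmul]
    obtain ⟨e, rfl⟩ := Ideal.Quotient.mk_surjective e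
    have : a • Ideal.Quotient.mk (I ^ n) e = 0 := by
      rw [Algebra.smul_def]
      exact Ideal.Quotient.eq_zero_iff_mem.2 (Ideal.mul_mem_right _ _ ha)
    exact (congrArg _ this).trans (TensorProduct.tmul_zero _ _)
  · rw [TensorProduct.add_tmul, ha, hb, add_zero]

end Groth.Agent.S15548
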