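import Groth.Statements.S15549

set_option autoImplicit false
set_option linter.style.haveILetI false
universe u
open CategoryTheory AlgebraicGeometry
open LocCoh

namespace Groth.Agent.S15549

/-- Let R be a Noetherian commutative ring, positively graded by additive subgroups R_d, with irrelevant
ideal R_+ and X = Proj R, and let M be a graded R-module which is the direct sum of its pieces M_i,
i ≥ 0 (non-negatively graded here). For every i and every m ∈ M_i, the global section of M(i)~
defined by m (the value m/1 at every point) is zero if and only if some power of R_+ annihilates m.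
Equivalently, degree by degree, the kernel of the canonical map from M to the direct sum over all n
of Γ(X, M(n)~) is the R_+-power-torsion submodule H^0_{R_+}(M). -/
theorem result {R σ : Type u} [CommRing R] [IsNoetherianRing R] [SetLike σ R] [AddSubgroupClass σ R]
    (𝒜 : ℕ → σ) [GradedRing 𝒜] {M τ : Type u} [AddCommGroup M] [Module R M] [SetLike τ M] [AddSubgroupClass τ M]
    (ℳ : ℕ → τ) [SetLike.GradedSMul 𝒜 ℳ] [DirectSum.Decomposition ℳ]
    (i : ℕ) (m : ℳ i) :
    GrMod.alpha 𝒜 ℳ i m = 0 ↔
      ∃ k : ℕ, ∀ r : R, r ∈ (HomogeneousIdeal.irrelevant 𝒜).toIdeal ^ k → r • (m : M) = 0 := by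
  classical
  have hpt : ∀ x : ProjectiveSpectrum 𝒜, LocalizedModule.mk (S := x.asHomogeneousIdeal.toIdeal.primeCompl) (m : M) 1 = 0 ↔
      ∃ s : R, s ∉ x.asHomogeneousIdeal.toIdeal ∧ s • (m : M) = 0 := by
    intro x
    rw [← LocalizedModule.zero_mk 1, LocalizedModule.mk_eq]
    simp only [one_smul, smul_zero, Subtype.exists, Submonoid.mk_smul]
    exact exists_congr fun s => ⟨fun ⟨a, b⟩ => ⟨a, b⟩, fun ⟨a, b⟩ => ⟨a, b⟩⟩
  constructor
  · intro h
    have hx : ∀ x : ProjectiveSpectrum 𝒜, ∃ s : R, s ∉ x.asHomogeneousIdeal.toIdeal ∧ s • (m : M) = 0 := by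
      intro x
      rw [← hpt x]
      exact congrArg Subtype.val (congrFun (congrArg Subtype.val h) ⟨x, trivial⟩)
    let J : Ideal R := (⊥ : Submodule R M).comap (LinearMap.toSpanSingleton R M (m : M))
    have hJ : ∀ r, r ∈ J ↔ r • (m : M) = 0 := by simp [J]
    have hhom : J.IsHomogeneous 𝒜 := by
      intro j r hr
      rw [hJ] at hr ⊢
      rw [← DirectSum.sum_support_decompose 𝒜 r, Finset.sum_smul] at hr
      have h' := congrArg (fun y => ((DirectSum.decompose ℳ y) (j + i) : M)) hr
      simp only [DirectSum.decompose_sum, DirectSum.decompose_zero, DirectSum.zero_apply,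
        ZeroMemClass.coe_zero] at h'
      rw [DFinsupp.finset_sum_apply, AddSubmonoidClass.coe_finset_sum] at h'
      rw [Finset.sum_eq_single j] at h'
      · have hm : (DirectSum.decompose 𝒜 r j : R) • (m : M) ∈ ℳ (j + i) :=
          SetLike.GradedSMul.smul_mem (DirectSum.decompose 𝒜 r j).2 m.2
        rwa [DirectSum.decompose_of_mem_same ℳ hm] at h'
      · intro l _ hl
        exact DirectSum.decompose_of_mem_ne ℳ
          (SetLike.GradedSMul.smul_mem (DirectSum.decompose 𝒜 r l).2 m.2)
          (by simp only [vadd_eq_add]; omega)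
      · intro hj
        rw [DFinsupp.notMem_support_iff.1 hj, ZeroMemClass.coe_zero, zero_smul, DirectSum.decompose_zero,
          DirectSum.zero_apply, ZeroMemClass.coe_zero]
    have hle : (HomogeneousIdeal.irrelevant 𝒜).toIdeal ≤ J.radical := by
      rw [Ideal.radical_eq_sInf]
      refine le_sInf fun p hp => ?_
      obtain ⟨hp, hpp⟩ := hp
      by_contra hirr
      haveI := hpp
      obtain ⟨s, hs, hsm⟩ := hx ⟨p.homogeneousCore 𝒜, Ideal.IsPrime.homogeneousCore hpp,
        fun hc => hirr (le_trans hc (Ideal.toIdeal_homogeneousCore_le 𝒜 p))⟩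
      have hmono : (J.homogeneousCore 𝒜).toIdeal ≤ (p.homogeneousCore 𝒜).toIdeal :=
        Ideal.homogeneousCore_mono 𝒜 hp
      rw [hhom.toIdeal_homogeneousCore_eq_self] at hmono
      exact hs (hmono ((hJ s).2 hsm))
    obtain ⟨k, hk⟩ := Ideal.exists_pow_le_of_le_radical_of_fg hle (IsNoetherian.noetherian _)
    exact ⟨k, fun r hr => (hJ r).1 (hk hr)⟩
  · rintro ⟨k, hk⟩
    refine Subtype.ext (funext fun x => Subtype.ext ?_)
    show LocalizedModule.mk (m : M) 1 = 0
    rw [hpt]
    obtain ⟨r, hr, hrx⟩ := SetLike.not_le_iff_exists.1 x.1.not_irrelevant_le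
    exact ⟨r ^ k, fun h => hrx (x.1.isPrime.mem_of_pow_mem k h), hk _ (Ideal.pow_mem_pow hr k)⟩

end Groth.Agent.S15549
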