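import Groth.Statements.S15551
import Groth.Agent.Lib.AffineCompl.Basic
import Groth.Agent.Lib.FEt.NormalCover
import Groth.Agent.S2280

set_option autoImplicit false
universe u
open CategoryTheory CategoryTheory.Limits AlgebraicGeometry
open Pi1

namespace Groth.Agent.S15551

/-- Let k be an algebraically closed field and X an integral normal scheme (all local rings integrally
closed domains), proper over k and of dimension at least 2, with an ample invertible module L; let s
be a nonzero global section of L, given as a monomorphism O_X → L, and D = Z(s) ⊆ X its zero scheme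
(the support of an effective ample divisor). Then for every finite étale cover Y → X with Y
connected, the fibre product Y ×_X D is connected. This is the statement that the étale fundamental
group of D maps onto that of X. (The published statement takes X projective over k; this row takes X
proper over k with an ample invertible module, which is equivalent.) -/
theorem result (k : Type u) [Field k] [IsAlgClosed k]
    (X : Scheme.{u}) (f : X ⟶ Spec (CommRingCat.of k)) [IsProper f] [IsIntegral X] (hN : Pi1.IsNormalScheme X)
    (hdim : (2 : WithBot ℕ∞) ≤ topologicalKrullDim X)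
    (L : X.Modules) (hL : CohB1.IsAmple L) (s : Coh.structureModule X ⟶ L) (hs : Mono s)
    (Y : FEt.Cat X) [ConnectedSpace Y.left] :
    ConnectedSpace ↥(pullback Y.hom (PicF2.zeroScheme L s).subschemeι) := by
  haveI := hs
  let q : Y.left ⟶ X := Y.hom
  show ConnectedSpace ↥(pullback q (PicF2.zeroScheme L s).subschemeι)
  haveI : IsFinite q := Y.prop.1
  haveI : Etale q := Y.prop.2
  let g := q ≫ f
  haveI : IsLocallyNoetherian Y.left := LocallyOfFiniteType.isLocallyNoetherian g
  have hYN : Pi1.IsNormalScheme Y.left := Lib.FEt.NormalCover.isNormalScheme_of_etale hN q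
  haveI : IsIntegral Y.left := (S2280.result Y.left).2.2 ⟨inferInstance, fun y => (hYN y).1⟩
  have hopen : IsOpenMap q := q.isOpenMap
  have hsurj : Function.Surjective q := by
    refine Set.range_eq_univ.1 (IsClopen.eq_univ ⟨q.isClosedMap.isClosed_range, ?_⟩
      (Set.range_nonempty _))
    exact hopen.isOpen_range
  let e := (_root_.PicLoc.pullbackStructureIso q).symm
  let s' := e.hom ≫ (Lib.TensorMod.Pullback.pb q).map s
  have hgen : (CohB1.genLocus _ s' : Set Y.left) = q ⁻¹' (CohB1.genLocus L s : Set X) := by
    rw [Lib.Ample.GenLocus.genLocus_pullback q hL.1 s e]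
    rfl
  have hL' := Lib.Ample.Pullback.isAmple_pullback q
    (Lib.Ample.Pullback.isQuasiAffine_of_isAffineHom q) hL
  have hsupp := (Lib.DepthTwist.Zero.divisor_spec hL.1 s).2.2
  have hne : (CohB1.genLocus L s : Set X).Nonempty := Lib.AffineCompl.Basic.genLocus_nonempty hL.1 s
  have h := Lib.AffineCompl.Basic.isConnected_compl_genLocus k g
    (by rwa [Lib.AffineCompl.Dim.topologicalKrullDim_of_finite_surjective q hsurj]) hL' s'
    (by rw [hgen]; exact hne.preimage hsurj)
  rw [hgen, ← Set.preimage_compl, ← hsupp, ← Scheme.IdealSheafData.range_subschemeι,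
    ← Scheme.Pullback.range_fst, ← Set.image_univ] at h
  rw [connectedSpace_iff_univ]
  refine ⟨Set.image_nonempty.1 h.nonempty, ?_⟩
  rw [← (pullback.fst q (PicF2.zeroScheme L s).subschemeι).isEmbedding.isInducing.isPreconnected_image]
  exact h.isPreconnected

end Groth.Agent.S15551
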