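import Groth.Statements.S15555
import Mathlib.AlgebraicGeometry.Morphisms.Smooth
import Mathlib.RingTheory.Smooth.Basic
import Mathlib.FieldTheory.Finite.Basic

set_option autoImplicit false
universe u
open CategoryTheory AlgebraicGeometry
open Zeta

namespace Groth.Agent.S15555
set_option maxHeartbeats 800000
set_option linter.style.haveILetI false

variable {k : Type u} [Field k] {n : ℕ}

/-- The linear form with coefficients `c`. -/
def lin (c a : Fin (n + 1) ⊕ Fin (n + 1) → k) : k := ∑ u, c u * a u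

/-- The standard symplectic form. -/
def om (a b : Fin (n + 1) ⊕ Fin (n + 1) → k) : k :=
  ∑ i, (a (Sum.inl i) * b (Sum.inr i) - a (Sum.inr i) * b (Sum.inl i))

/-- The vector `(x, y)` in the `i`-th pair of coordinates. -/
def blk (i : Fin (n + 1)) (x y : k) : Fin (n + 1) ⊕ Fin (n + 1) → k :=
  Sum.elim (Pi.single i x) (Pi.single i y)

theorem lin_blk (c : Fin (n + 1) ⊕ Fin (n + 1) → k) (i : Fin (n + 1)) (x y : k) :
    lin c (blk i x y) = c (Sum.inl i) * x + c (Sum.inr i) * y := by
  classical
  simp [lin, blk, Fintype.sum_sum_type, Pi.single_apply]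

theorem om_blk (b : Fin (n + 1) ⊕ Fin (n + 1) → k) (i : Fin (n + 1)) (x y : k) :
    om (blk i x y) b = x * b (Sum.inr i) - y * b (Sum.inl i) := by
  classical
  simp [om, blk, Pi.single_apply, Finset.sum_sub_distrib]

/-- A hyperplane contains two vectors which are not orthogonal. -/
theorem exists_pair (hn : 1 ≤ n) (c : Fin (n + 1) ⊕ Fin (n + 1) → k) (hc : c ≠ 0) :
    ∃ a b, lin c a = 0 ∧ lin c b = 0 ∧ om a b ≠ 0 := by
  classical
  by_cases h : ∃ i, c (Sum.inl i) = 0 ∧ c (Sum.inr i) = 0
  · obtain ⟨i, h1, h2⟩ := h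
    exact ⟨blk i 1 0, blk i 0 1, by simp [lin_blk, h1], by simp [lin_blk, h2],
      by rw [om_blk]; simp [blk]⟩
  push Not at h
  have hw : ∀ i, ∃ z w : k, c (Sum.inl i) * z + c (Sum.inr i) * w ≠ 0 := fun i => by
    by_cases h1 : c (Sum.inl i) = 0
    · exact ⟨0, 1, by simpa using h i h1⟩
    · exact ⟨1, 0, by simpa using h1⟩
  let i : Fin (n + 1) := 0
  let j : Fin (n + 1) := Fin.last n
  have hij : i ≠ j := by simp [i, j, Fin.ext_iff]; omega
  obtain ⟨z, w, hi⟩ := hw i
  obtain ⟨z', w', hj⟩ := hw j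
  let r := - (c (Sum.inl i) * z + c (Sum.inr i) * w) / (c (Sum.inl j) * z' + c (Sum.inr j) * w')
  have hr : r * (c (Sum.inl j) * z' + c (Sum.inr j) * w') =
      - (c (Sum.inl i) * z + c (Sum.inr i) * w) := by
    simp only [r]; exact div_mul_cancel₀ _ hj
  refine ⟨blk i (- c (Sum.inr i)) (c (Sum.inl i)), blk i z w + blk j (r * z') (r * w'), ?_, ?_, ?_⟩
  · rw [lin_blk]; ring
  · have : ∀ a b : Fin (n + 1) ⊕ Fin (n + 1) → k, lin c (a + b) = lin c a + lin c b := fun a b => by
      simp [lin, mul_add, Finset.sum_add_distrib]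
    rw [this, lin_blk, lin_blk]
    linear_combination hr
  · rw [om_blk]
    simp only [blk, Pi.add_apply, Sum.elim_inl, Sum.elim_inr, Pi.single_eq_same,
      Pi.single_eq_of_ne hij, add_zero]
    intro h0
    exact hi (by linear_combination -h0)

variable {R : Type*} [CommRing R]

/-- The form `Σ x_i y_i^q - y_i x_i^q`. -/
def Φ {q : ℕ} (v : Fin (n + 1) ⊕ Fin (n + 1) → R) : R :=
  ∑ i, (v (Sum.inl i) * v (Sum.inr i) ^ q - v (Sum.inr i) * v (Sum.inl i) ^ q)

theorem Φ_mul {q : ℕ} (τ : R) (v : Fin (n + 1) ⊕ Fin (n + 1) → R) :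
    Φ (q := q) (fun u => τ * v u) = τ ^ (q + 1) * Φ (q := q) v := by
  simp only [Φ, Finset.mul_sum]
  exact Finset.sum_congr rfl fun i _ => by ring

variable [Algebra k R] [Fintype k]

theorem add_pow_card (x y : R) :
    (x + y) ^ Fintype.card k = x ^ Fintype.card k + y ^ Fintype.card k :=
  map_add (FiniteField.frobeniusAlgHom k R) x y

theorem sum_pow_card {ι : Type*} (s : Finset ι) (f : ι → R) :
    (∑ i ∈ s, f i) ^ Fintype.card k = ∑ i ∈ s, f i ^ Fintype.card k :=
  map_sum (FiniteField.frobeniusAlgHom k R) f s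

theorem algebraMap_pow_card (x : k) : algebraMap k R x ^ Fintype.card k = algebraMap k R x := by
  rw [← map_pow, FiniteField.pow_card]

theorem aeval_L (c : Fin (n + 1) ⊕ Fin (n + 1) → k) (δ : Fin (n + 1) ⊕ Fin (n + 1) → R) :
    MvPolynomial.aeval (fun u => algebraMap k R (Sum.elim (fun i => - c (Sum.inr i))
        (fun i => c (Sum.inl i)) u) + δ u) (∑ u, MvPolynomial.C (c u) * MvPolynomial.X u) =
      ∑ u, algebraMap k R (c u) * δ u := by
  simp only [Fintype.sum_sum_type, map_add, map_sum, map_mul, MvPolynomial.aeval_C,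
    MvPolynomial.aeval_X, Sum.elim_inl, Sum.elim_inr, map_neg, ← Finset.sum_add_distrib]
  exact Finset.sum_congr rfl fun i _ => by ring

theorem aeval_F (c : Fin (n + 1) ⊕ Fin (n + 1) → k) (δ : Fin (n + 1) ⊕ Fin (n + 1) → R) :
    MvPolynomial.aeval (fun u => algebraMap k R (Sum.elim (fun i => - c (Sum.inr i))
        (fun i => c (Sum.inl i)) u) + δ u)
      (∑ i : Fin (n + 1), (MvPolynomial.X (Sum.inl i) * MvPolynomial.X (Sum.inr i) ^ Fintype.card k -
        MvPolynomial.X (Sum.inr i) * MvPolynomial.X (Sum.inl i) ^ Fintype.card k) :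
        MvPolynomial (Fin (n + 1) ⊕ Fin (n + 1)) k) =
      (∑ u, algebraMap k R (c u) * δ u) - (∑ u, algebraMap k R (c u) * δ u) ^ Fintype.card k +
        Φ (q := Fintype.card k) δ := by
  simp only [Φ, map_sum, map_sub, map_mul, map_pow, MvPolynomial.aeval_X, sum_pow_card,
    Fintype.sum_sum_type, Sum.elim_inl, Sum.elim_inr, map_neg, add_pow_card, mul_pow,
    algebraMap_pow_card, ← Finset.sum_add_distrib, ← Finset.sum_sub_distrib]
  refine Finset.sum_congr rfl fun i _ => ?_
  rw [← map_neg, algebraMap_pow_card, map_neg]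
  ring

theorem Φ_pair (t : R) (a b : Fin (n + 1) ⊕ Fin (n + 1) → k) :
    Φ (q := Fintype.card k) (fun u => algebraMap k R (a u) + t * algebraMap k R (b u)) =
      (t ^ Fintype.card k - t) * algebraMap k R (om a b) := by
  simp only [Φ, add_pow_card, mul_pow, algebraMap_pow_card, om, map_sum, Finset.mul_sum, map_sub,
    map_mul]
  exact Finset.sum_congr rfl fun i _ => by ring

theorem Φ_approx {τ : R} (hτ : τ ^ (Fintype.card k + 2) = 0) (hq : 1 ≤ Fintype.card k)
    (v δ : Fin (n + 1) ⊕ Fin (n + 1) → R)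
    (h : ∀ u, τ ^ (Fintype.card k + 1) ∣ δ u - τ * v u) :
    Φ (q := Fintype.card k) δ = τ ^ (Fintype.card k + 1) * Φ (q := Fintype.card k) v := by
  rw [← Φ_mul]
  choose e he using h
  have h1 : ∀ u, δ u ^ Fintype.card k = (τ * v u) ^ Fintype.card k := fun u => by
    rw [show δ u = τ * v u + τ ^ (Fintype.card k + 1) * e u by rw [← he u]; ring, add_pow_card]
    have : 2 ≤ Fintype.card k := Fintype.one_lt_card
    rw [mul_pow (τ ^ _), ← pow_mul, pow_eq_zero_of_le (by nlinarith) hτ, zero_mul, add_zero]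
  have h2 : ∀ u u', δ u * δ u' ^ Fintype.card k = τ * v u * (τ * v u') ^ Fintype.card k := by
    intro u u'
    rw [h1, show δ u = τ * v u + τ ^ (Fintype.card k + 1) * e u by rw [← he u]; ring, add_mul,
      show τ ^ (Fintype.card k + 1) * e u * (τ * v u') ^ Fintype.card k =
        τ ^ (Fintype.card k + 1 + Fintype.card k) * (e u * v u' ^ Fintype.card k) by ring,
      pow_eq_zero_of_le (by omega) hτ, zero_mul, add_zero]
  simp only [Φ, h2]


theorem main (c a b : Fin (n + 1) ⊕ Fin (n + 1) → k) (hc : c ≠ 0)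
    (ha : lin c a = 0) (hb : lin c b = 0) {B : Type u} [CommRing B] [Algebra k B] (τ t : B)
    (hτ : τ ^ (Fintype.card k + 2) = 0)
    (hall : ∀ w : Fin (n + 1) ⊕ Fin (n + 1),
      Smooth (Spec.map (CommRingCat.ofHom (algebraMap k
        (Localization.Away (Ideal.Quotient.mk (Ideal.span
          ({∑ i : Fin (n + 1), (MvPolynomial.X (Sum.inl i) *
            MvPolynomial.X (Sum.inr i) ^ Fintype.card k -
            MvPolynomial.X (Sum.inr i) * MvPolynomial.X (Sum.inl i) ^ Fintype.card k),
          ∑ u, MvPolynomial.C (c u) * MvPolynomial.X u} :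
          Set (MvPolynomial (Fin (n + 1) ⊕ Fin (n + 1)) k))) (MvPolynomial.X w))))))) :
    τ ^ (Fintype.card k + 1) *
      ((t ^ Fintype.card k - t) * algebraMap k B (om a b)) = 0 := by
  let P : Fin (n + 1) ⊕ Fin (n + 1) → k :=
    Sum.elim (fun i => - c (Sum.inr i)) (fun i => c (Sum.inl i))
  obtain ⟨w, hw⟩ : ∃ w, P w ≠ 0 := by
    by_contra! h
    refine hc (funext fun v => ?_)
    rcases v with i | i
    · simpa [P] using h (Sum.inr i)
    · simpa [P] using h (Sum.inl i)
  let q := Fintype.card k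
  have hq : 1 ≤ q := Fintype.card_pos
  let I : Ideal B := Ideal.span {τ ^ (q + 1)}
  have hI : IsNilpotent I := ⟨2, by
    rw [Ideal.span_singleton_pow, ← pow_mul, pow_eq_zero_of_le (by omega) hτ]; simp⟩
  let v : Fin (n + 1) ⊕ Fin (n + 1) → B := fun u =>
    algebraMap k B (a u) + t * algebraMap k B (b u)
  let π := Ideal.Quotient.mkₐ k I
  let ev₀ : MvPolynomial (Fin (n + 1) ⊕ Fin (n + 1)) k →ₐ[k] B ⧸ I :=
    π.comp (MvPolynomial.aeval fun u => algebraMap k B (P u) + τ * v u)
  have hLv : ∑ u, algebraMap k B (c u) * (τ * v u) = 0 := by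
    have : ∑ u, algebraMap k B (c u) * (τ * v u) =
        τ * (algebraMap k B (lin c a) + t * algebraMap k B (lin c b)) := by
      simp only [lin, map_sum, map_mul, Finset.mul_sum, ← Finset.sum_add_distrib, v]
      exact Finset.sum_congr rfl fun u _ => by ring
    rw [this, ha, hb]
    simp
  have hΦv : Φ (fun u => τ * v u) (q := q) = τ ^ (q + 1) * Φ v (q := q) := Φ_mul τ v
  let J : Ideal (MvPolynomial (Fin (n + 1) ⊕ Fin (n + 1)) k) := Ideal.span ({∑ i : Fin (n + 1), (MvPolynomial.X (Sum.inl i) *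
      MvPolynomial.X (Sum.inr i) ^ q - MvPolynomial.X (Sum.inr i) * MvPolynomial.X (Sum.inl i) ^ q),
      ∑ u, MvPolynomial.C (c u) * MvPolynomial.X u} :
      Set (MvPolynomial (Fin (n + 1) ⊕ Fin (n + 1)) k))
  have hker : ∀ f ∈ J, ev₀ f = 0 := by
    intro f hf
    induction hf using Submodule.span_induction with
    | zero => simp
    | add x y _ _ hx hy => simp [hx, hy]
    | smul r x _ hx => simp [hx]
    | mem x hx =>
      obtain rfl | rfl := hx
      · show Ideal.Quotient.mk I _ = 0
        refine (congrArg (Ideal.Quotient.mk I) (aeval_F c (fun u => τ * v u))).trans ?_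
        rw [hLv, hΦv, Ideal.Quotient.eq_zero_iff_mem]
        rw [zero_pow (by omega), sub_zero, zero_add]
        exact Ideal.mul_mem_right _ _ (Ideal.mem_span_singleton_self _)
      · show Ideal.Quotient.mk I _ = 0
        refine (congrArg (Ideal.Quotient.mk I) (aeval_L c (fun u => τ * v u))).trans ?_
        rw [hLv, map_zero]
  let ev₁ := Ideal.Quotient.liftₐ J ev₀ hker
  have hu : IsUnit (ev₁ (Ideal.Quotient.mk J (MvPolynomial.X w))) := by
    show IsUnit (Ideal.Quotient.mk I (MvPolynomial.aeval (fun u => algebraMap k B (P u) + τ * v u)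
      (MvPolynomial.X w)))
    rw [MvPolynomial.aeval_X]
    refine IsUnit.map _ (IsNilpotent.isUnit_add_left_of_commute ?_ ?_ (Commute.all _ _))
    · exact (Commute.all _ _).isNilpotent_mul_right ⟨q + 2, hτ⟩
    · exact (isUnit_iff_ne_zero.mpr hw).map _
  let A := Localization.Away (Ideal.Quotient.mk J (MvPolynomial.X w))
  let g₀ : A →+* B ⧸ I := IsLocalization.Away.lift _ hu
  let g : A →ₐ[k] B ⧸ I := { g₀ with
    commutes' := fun x => by
      show g₀ (algebraMap k A x) = _
      rw [IsScalarTower.algebraMap_apply k (MvPolynomial (Fin (n + 1) ⊕ Fin (n + 1)) k ⧸ J) A]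
      exact (IsLocalization.Away.lift_eq _ hu _).trans (ev₁.commutes x) }
  haveI : Algebra.Smooth k A :=
    RingHom.smooth_algebraMap.mp ((HasRingHomProperty.Spec_iff (P := @Smooth)).mp (hall w))
  obtain ⟨f, hf⟩ := Algebra.FormallySmooth.exists_lift I hI g
  let φ := (f.comp (IsScalarTower.toAlgHom k _ A)).comp
    (Ideal.Quotient.mkₐ k J)
  let δ : Fin (n + 1) ⊕ Fin (n + 1) → B := fun u => φ (MvPolynomial.X u) - algebraMap k B (P u)
  have hφ : φ = MvPolynomial.aeval (fun u => algebraMap k B (P u) + δ u) :=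
    MvPolynomial.algHom_ext fun u => by simp [δ]
  have hε : ∀ u, δ u - τ * v u ∈ I := fun u => by
    have h1 := AlgHom.congr_fun hf (algebraMap _ A (Ideal.Quotient.mk J (MvPolynomial.X u)))
    have h2 : Ideal.Quotient.mk I (φ (MvPolynomial.X u)) =
        Ideal.Quotient.mk I (algebraMap k B (P u) + τ * v u) := by
      refine h1.trans ((IsLocalization.Away.lift_eq _ hu _).trans ?_)
      show ev₀ _ = _
      simp [ev₀, π]
    rw [Ideal.Quotient.eq] at h2
    rwa [sub_sub]
  have hφ0 : ∀ f ∈ J, φ f = 0 := fun f hf => by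
    simp [φ, Ideal.Quotient.eq_zero_iff_mem.mpr hf]
  have h0 := hφ0 _ (Ideal.subset_span (Set.mem_insert _ _))
  have h1 := hφ0 _ (Ideal.subset_span (Set.mem_insert_of_mem _ rfl))
  rw [hφ] at h0 h1
  replace h0 := (aeval_F c δ).symm.trans h0
  replace h1 := (aeval_L c δ).symm.trans h1
  rw [h1, zero_pow (by omega), sub_zero, zero_add] at h0
  have key : Φ δ (q := q) = τ ^ (q + 1) * Φ v (q := q) :=
    Φ_approx hτ hq v δ (fun u => Ideal.mem_span_singleton.mp (hε u))
  rw [key, Φ_pair] at h0
  exact h0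

/-- Let k be a finite field with q elements and n ≥ 1 a natural number; in the 2n + 2 variables X_0, …,
X_n, Y_0, …, Y_n (indexed by Fin (n+1) ⊕ Fin (n+1), the left summand carrying the X_i) let F = Σ_i
(X_i Y_i^q − Y_i X_i^q), a form of degree q + 1 defining the hypersurface Hyp ⊂ P^{2n+1}_k. Then no
hyperplane of P^{2n+1}_k defined over k meets Hyp transversally: for every linear form L = Σ_v c_v
x_v with a nonzero coefficient vector c over k, the scheme-theoretic intersection Hyp ∩ (L = 0) ⊂
P^{2n+1}_k is not smooth over k. The intersection is presented through the standard open pieces of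
its affine cone: with R = k[X, Y]/(F, L), the piece x_w ≠ 0 of the cone Spec R is (Hyp ∩ (L = 0) ∩
D₊(x_w)) × 𝔾_m, so Hyp ∩ (L = 0) is smooth over k exactly when every localisation R[1/x_w] is a
smooth k-algebra, and the row states that not all of them are. (The published example is stated for
every n ≥ 0; for n = 0 the hypersurface is the set of the q + 1 rational points of P^1_k, it
contains every rational point H, and Hyp ∩ H = H is a reduced point, smooth over k; so this row
takes n ≥ 1, where no rational hyperplane is contained in Hyp and each one is tangent to Hyp at a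
rational point, at which the intersection is singular.) -/
theorem result (k : Type u) [Field k] [Fintype k] (n : ℕ) (hn : 1 ≤ n)
    (F L : MvPolynomial (Fin (n + 1) ⊕ Fin (n + 1)) k)
    (hF : F = ∑ i : Fin (n + 1), (MvPolynomial.X (Sum.inl i) * MvPolynomial.X (Sum.inr i) ^ Fintype.card k -
      MvPolynomial.X (Sum.inr i) * MvPolynomial.X (Sum.inl i) ^ Fintype.card k))
    (c : Fin (n + 1) ⊕ Fin (n + 1) → k) (hc : c ≠ 0)
    (hL : L = ∑ v, MvPolynomial.C (c v) * MvPolynomial.X v) :
    ¬ ∀ w : Fin (n + 1) ⊕ Fin (n + 1),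
      Smooth (Spec.map (CommRingCat.ofHom (algebraMap k
        (Localization.Away (Ideal.Quotient.mk (Ideal.span {F, L}) (MvPolynomial.X w)))))) := by
  subst hF hL
  intro hall
  obtain ⟨a, b, ha, hb, hab⟩ := exists_pair hn c hc
  let q := Fintype.card k
  have hτ : (Ideal.Quotient.mk (Ideal.span {(Polynomial.X : Polynomial (Polynomial k)) ^ (q + 2)})
      Polynomial.X) ^ (q + 2) = 0 := by
    rw [← map_pow]; exact Ideal.Quotient.eq_zero_iff_mem.mpr (Ideal.mem_span_singleton_self _)
  have h0 := main c a b hc ha hb _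
    (Ideal.Quotient.mk (Ideal.span {(Polynomial.X : Polynomial (Polynomial k)) ^ (q + 2)})
      (Polynomial.C Polynomial.X)) hτ hall
  have h2 : Ideal.Quotient.mk (Ideal.span {(Polynomial.X : Polynomial (Polynomial k)) ^ (q + 2)})
      (Polynomial.X ^ (q + 1) * Polynomial.C ((Polynomial.X ^ q - Polynomial.X) *
      Polynomial.C (om a b))) = 0 := by
    simp only [map_mul, map_pow, map_sub]; exact h0
  rw [Ideal.Quotient.eq_zero_iff_mem, Ideal.mem_span_singleton, Polynomial.X_pow_dvd_iff] at h2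
  have h3 := h2 (q + 1) (by omega)
  rw [Polynomial.coeff_X_pow_mul', if_pos le_rfl, Nat.sub_self, Polynomial.coeff_C_zero] at h3
  rcases mul_eq_zero.mp h3 with h4 | h4
  · have h5 := congrArg (fun p => Polynomial.coeff p q) h4
    have : q ≠ 1 := Fintype.one_lt_card.ne'
    simp [Polynomial.coeff_X, this.symm] at h5
  · exact hab (Polynomial.C_eq_zero.mp h4)

end Groth.Agent.S15555
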