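import Groth.Statements.S15556
import Groth.Agent.Lib.Cyc.FieldExt
import Groth.Agent.Lib.Cyc.CH.Tot
import Groth.Agent.Lib.Cyc.PurInsepFibre

set_option autoImplicit false
universe u
open CategoryTheory AlgebraicGeometry
open CategoryTheory.Limits
open Cyc

namespace Groth.Agent.S15556

/-- Let k be a field of characteristic p > 0, E a finite purely inseparable field extension of k, X a
separated scheme of finite type over k, X' = X ×_k E with projection f : X' → X (any pullback
square), δ a dimension function on X making (X, δ) a cycle setup (X locally Noetherian with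
universally catenary local rings) and δ' the induced dimension function on X' (so (X', δ') is a
cycle setup and δ' is compatible with δ along f, which has relative dimension 0). Then flat pullback
of cycles along f induces a bijection of Chow groups of i-cycles after inverting p, in the following
two-sided sense: for every i-cycle β on X' there are an i-cycle α on X, an i-cycle α' on X' with the
flat-pullback coefficients of α, and an exponent s with [α'] = p^s · [β] in CH_i(X'); and for every
i-cycle α on X and every i-cycle α' on X' with the flat-pullback coefficients of α, if [α'] = 0 in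
CH_i(X') then p^s · [α] = 0 in CH_i(X) for some s. (The published statement allows an arbitrary
purely inseparable extension E of k; this row takes E finite over k, the case the printed argument
carries out.) -/
theorem result (k E : Type u) [Field k] [Field E] [Algebra k E] (p : ℕ) [Fact p.Prime] [CharP k p] [Module.Finite k E] [IsPurelyInseparable k E] (X X' : Scheme.{u}) (g : X ⟶ Spec (CommRingCat.of k)) [IsSeparated g] [LocallyOfFiniteType g] [QuasiCompact g] (f : X' ⟶ X) (g' : X' ⟶ Spec (CommRingCat.of E)) (hsq : IsPullback f g' g (Spec.map (CommRingCat.ofHom (algebraMap k E)))) (δ : X → ℤ) (δ' : X' → ℤ) (hX : Cyc.IsSetup X δ) (hX' : Cyc.IsSetup X' δ') (hδ : Cyc.DeltaCompat f δ' δ) (i : ℤ) : (∀ (β : AlgebraicCycle X' ℤ) (hβ : β ∈ Cyc.Zk X' δ' i), ∃ (α : AlgebraicCycle X ℤ) (hα : α ∈ Cyc.Zk X δ i) (α' : AlgebraicCycle X' ℤ) (hα' : α' ∈ Cyc.Zk X' δ' i) (s : ℕ), ⇑α' = Cyc.pullFun f δ' δ 0 ⇑α ∧ ChowOps.cl α' hα' = p ^ s • ChowOps.cl β hβ) ∧ (∀ (α : AlgebraicCycle X ℤ) (hα : α ∈ Cyc.Zk X δ i) (α' : AlgebraicCycle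 X' ℤ) (hα' : α' ∈ Cyc.Zk X' δ' i), ⇑α' = Cyc.pullFun f δ' δ 0 ⇑α → ChowOps.cl α' hα' = 0 → ∃ s : ℕ, p ^ s • ChowOps.cl α hα = 0) := by
  open Lib.Cyc in
  classical
  haveI : ExpChar k p := ExpChar.prime Fact.out
  obtain ⟨e, he⟩ := IsPurelyInseparable.finrank_eq_pow k E p
  haveI := hX.1
  haveI : IsLocallyNoetherian X' := hX'.1
  haveI := FieldExt.isFinite hsq
  haveI := FieldExt.flat hsq
  have hd := FieldExt.delta_eq hsq hδ
  have hinj : Function.Injective f := by
    intro a b hab
    refine hsq.isoPullback.hom.isEmbedding.injective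
      (PurInsepFibre.proj_injective k E g ?_)
    rw [← Scheme.Hom.comp_apply, ← Scheme.Hom.comp_apply, hsq.isoPullback_hom_fst]
    exact hab
  have hone : ∀ x', ((FibLen.fibLen f x').toNat : ℤ) * (f.residueDegree x' : ℤ) = (p : ℤ) ^ e := by
    intro x'
    have h := (FieldExt.sum_fibLen hsq (f x')).2
    have hs : ⇑f ⁻¹' {f x'} = {x'} := by
      ext a
      exact ⟨fun h => hinj h, fun h => congrArg f h⟩
    rw [hs, finsum_mem_singleton, he] at h
    rw [h]
    push_cast
    rfl
  have hmap : ∀ (β : AlgebraicCycle X' ℤ) (x' : X'),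
      AlgebraicCycle.map f δ' δ β (f x') = β x' * (f.residueDegree x' : ℤ) := by
    intro β x'
    have hs : ⇑f ⁻¹' {f x'} = {x'} := by
      ext a
      exact ⟨fun h => hinj h, fun h => congrArg f h⟩
    rw [Push.map_apply, hs, finsum_mem_singleton]
    simp [AlgebraicCycle.mapCoeff, hd]
  have hpull : ∀ (α : X → ℤ) (x' : X'), Cyc.pullFun f δ' δ 0 α x' =
      α (f x') * ((FibLen.fibLen f x').toNat : ℤ) := fun α x' => by
    rw [FibLen.pullFun_apply, if_pos (by rw [hd, add_zero])]
  refine ⟨fun β hβ => ?_, fun α hα α' hα' hpe h0 => ?_⟩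
  · have hα := CH.map_mem (δY := δ) f hβ
    obtain ⟨α', hα', e'⟩ := CH.PullExists.exists_pullFun (δX := δ') f 0 hα
    rw [add_zero] at hα'
    refine ⟨_, hα, α', hα', e, e', ?_⟩
    show _ = p ^ e • ((⟨β, hβ⟩ : ↥(ChowOps.zk X' δ' i)) : ChowOps.CH X' δ' i)
    rw [← QuotientAddGroup.mk_nsmul]
    refine congrArg QuotientAddGroup.mk (Subtype.ext (Function.locallyFinsuppWithin.ext fun x' => ?_))
    rw [AddSubgroup.coe_nsmul, Function.locallyFinsuppWithin.coe_nsmul, Pi.smul_apply, nsmul_eq_mul]
    show α' x' = _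
    rw [e', hpull, hmap, mul_assoc, mul_comm (f.residueDegree x' : ℤ), hone, mul_comm]
    push_cast
    rfl
  · refine ⟨e, ?_⟩
    have h1 : CH.cls δ' i α' hα' = 0 := by rw [CH.cls, h0, map_zero]
    have h2 := congrArg (CH.push hX'.2.2 hX.2.2 f hδ) h1
    rw [map_zero, CH.push_cls hX'.2.2 hX.2.2 f hδ hα' rfl (CH.map_mem f hα'), CH.cls_eq_zero_iff hX.2.2] at h2
    show p ^ e • ((⟨α, hα⟩ : ↥(ChowOps.zk X δ i)) : ChowOps.CH X δ i) = 0
    rw [← QuotientAddGroup.mk_nsmul, QuotientAddGroup.eq_zero_iff]
    refine AddSubgroup.subset_closure ?_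
    show Cyc.RatEquivZero δ i _
    convert h2 using 2
    refine Function.locallyFinsuppWithin.ext fun x => ?_
    rw [AddSubgroup.coe_nsmul, Function.locallyFinsuppWithin.coe_nsmul, Pi.smul_apply, nsmul_eq_mul]
    obtain ⟨x', rfl⟩ : x ∈ Set.range f := by
      by_contra hne
      have h := (FieldExt.sum_fibLen hsq x).2
      rw [show ⇑f ⁻¹' {x} = ∅ from Set.eq_empty_of_forall_notMem fun a ha => hne ⟨a, ha⟩,
        finsum_mem_empty, he] at h
      have := pow_pos (Nat.Prime.pos (Fact.out : p.Prime)) e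
      omega
    rw [hmap, hpe, hpull, mul_assoc, hone, mul_comm]
    push_cast
    rfl

end Groth.Agent.S15556
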