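import Groth.Statements.S15558
import Mathlib.AlgebraicGeometry.Morphisms.QuasiSeparated
import Mathlib.AlgebraicGeometry.Limits
-- import your own Groth.Agent.* helpers here

set_option autoImplicit false
universe u v
open CategoryTheory AlgebraicGeometry
open Lim

namespace Groth.Agent.S15558
open CategoryTheory
set_option backward.isDefEq.respectTransparency false

/-- Let Λ be a cofinite partially ordered set (every element has finitely many elements below it; Λ need
not be directed) and X : Λᵒᵖ ⥤ Scheme an inverse system of quasi-compact quasi-separated schemes.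
Then there exist an inverse system Y : Λᵒᵖ ⥤ Scheme of affine schemes and a morphism of inverse
systems π : Y ⟶ X such that each π_λ : Y_λ → X_λ is a Zariski covering: it is surjective and Y_λ is
covered by pairwise disjoint open subschemes each of which maps to X_λ by an open immersion. (The
published statement is for schemes over a fixed perfect field; the base field plays no role, and the
version for schemes over a base follows by composing with the structure morphisms.) -/
theorem result {Λ : Type v} [PartialOrder Λ]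
    (hΛ : ∀ l : Λ, (Set.Iic l).Finite) (X : Λᵒᵖ ⥤ Scheme.{u})
    (hqc : ∀ l : Λ, CompactSpace ↥(X.obj (Opposite.op l)))
    (hqs : ∀ l : Λ, QuasiSeparatedSpace ↥(X.obj (Opposite.op l))) :
    ∃ (Y : Λᵒᵖ ⥤ Scheme.{u}) (π : Y ⟶ X), ∀ l : Λ,
      IsAffine (Y.obj (Opposite.op l)) ∧ Surjective (π.app (Opposite.op l)) ∧
        ∃ (ι : Type u) (U : ι → (Y.obj (Opposite.op l)).Opens),
          Pairwise (fun i j => Disjoint (U i) (U j)) ∧ iSup U = ⊤ ∧
            ∀ i, IsOpenImmersion ((U i).ι ≫ π.app (Opposite.op l)) := by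
  classical
  let tr : ∀ {m l : Λ}, m ≤ l → (X.obj (Opposite.op l) ⟶ X.obj (Opposite.op m)) :=
    fun h => X.map (homOfLE h).op
  have tr_tr : ∀ {n m l : Λ} (h₁ : n ≤ m) (h₂ : m ≤ l) (x : X.obj (Opposite.op l)),
      tr h₁ (tr h₂ x) = tr (h₁.trans h₂) x := by
    intro n m l h₁ h₂ x
    simp only [tr, ← Scheme.Hom.comp_apply, ← X.map_comp, ← op_comp, homOfLE_comp]
  have tr_self : ∀ {l : Λ} (x : X.obj (Opposite.op l)), tr le_rfl x = x := by
    intro l x
    simp [tr]
  have hwf : WellFounded ((· < ·) : Λ → Λ → Prop) := by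
    refine Subrelation.wf (r := InvImage (· < ·) fun l => (hΛ l).toFinset.card) ?_
      (InvImage.wf _ wellFounded_lt)
    intro a b hab
    refine Finset.card_lt_card ((Finset.ssubset_iff_of_subset fun z hz => ?_).2 ⟨b, ?_, ?_⟩)
    · simp only [Set.Finite.mem_toFinset, Set.mem_Iic] at hz ⊢
      exact hz.trans hab.le
    · simp
    · simpa using hab.not_ge
  let C : Λ → Type u := fun l => {A : X.obj (Opposite.op l) → (X.obj (Opposite.op l)).Opens //
    (Set.range A).Finite ∧ ∀ x, x ∈ A x ∧ IsAffineOpen (A x)}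
  have step : ∀ (l : Λ) (prev : ∀ m, m < l → C m), ∃ A : C l, ∀ m (h : m < l) x,
      A.1 x ≤ tr h.le ⁻¹ᵁ (prev m h).1 (tr h.le x) := by
    intro l prev
    haveI := hqc l
    haveI := hqs l
    have hfin : ∀ m : {m // m < l}, (Set.range (prev m.1 m.2).1).Finite := fun m => (prev m.1 m.2).2.1
    haveI : Finite {m // m < l} := ((hΛ l).subset fun m (hm : m < l) => hm.le).to_subtype
    let kof : X.obj (Opposite.op l) → ∀ m : {m // m < l}, Set.range (prev m.1 m.2).1 :=
      fun x m => ⟨(prev m.1 m.2).1 (tr m.2.le x), ⟨_, rfl⟩⟩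
    haveI := fun m : {m // m < l} => (hfin m).to_subtype
    let O : (∀ m : {m // m < l}, Set.range (prev m.1 m.2).1) → (X.obj (Opposite.op l)).Opens :=
      fun k => ⨅ m, tr m.2.le ⁻¹ᵁ (k m).1
    have hxO : ∀ x, x ∈ O (kof x) := fun x => by
      show x ∈ ((O (kof x)) : Set (X.obj (Opposite.op l)))
      simp only [O, TopologicalSpace.Opens.coe_iInf, Set.mem_iInter]
      exact fun m => ((prev m.1 m.2).2.2 _).1
    have hOc : ∀ k, IsCompact (O k : Set (X.obj (Opposite.op l))) := by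
      intro k
      have hq : ∀ m : {m // m < l}, IsCompact (tr m.2.le ⁻¹ᵁ (k m).1 : Set (X.obj (Opposite.op l))) := by
        intro m
        haveI := hqc m.1
        haveI := hqs m.1
        haveI : QuasiCompact (tr m.2.le) := quasiCompact_of_compactSpace _
        obtain ⟨y, hy⟩ := (k m).2
        exact QuasiCompact.isCompact_preimage (f := tr m.2.le) _ (k m).1.2
          (hy ▸ ((prev m.1 m.2).2.2 y).2.isCompact)
      haveI : Fintype {m // m < l} := Fintype.ofFinite _
      have hs : ∀ s : Finset {m // m < l},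
          IsCompact ((⋂ m ∈ s, (tr m.2.le ⁻¹ᵁ (k m).1 : Set (X.obj (Opposite.op l)))) : Set _) ∧
            IsOpen ((⋂ m ∈ s, (tr m.2.le ⁻¹ᵁ (k m).1 : Set (X.obj (Opposite.op l)))) : Set _) := by
        intro s
        induction s using Finset.induction_on with
        | empty => simpa using isCompact_univ (X := X.obj (Opposite.op l))
        | insert a s ha ih =>
          rw [Finset.set_biInter_insert]
          exact ⟨QuasiSeparatedSpace.inter_isCompact _ _ (tr a.2.le ⁻¹ᵁ (k a).1).2 (hq a) ih.2 ih.1,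
            (tr a.2.le ⁻¹ᵁ (k a).1).2.inter ih.2⟩
      have h := (hs Finset.univ).1
      simpa [O, TopologicalSpace.Opens.coe_iInf] using h
    have hcov : ∀ k, ∃ 𝒮 : Finset (X.obj (Opposite.op l)).affineOpens, (∀ V ∈ 𝒮, V.1 ≤ O k) ∧
        ∀ x ∈ O k, ∃ V ∈ 𝒮, x ∈ V.1 := by
      intro k
      obtain ⟨𝒮, h𝒮⟩ := (hOc k).elim_finite_subcover
        (fun V : {V : (X.obj (Opposite.op l)).affineOpens // V.1 ≤ O k} =>
          (V.1.1 : Set (X.obj (Opposite.op l)))) (fun V => V.1.1.2)
        (fun x hx => by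
          obtain ⟨V, hV, hxV, hle⟩ := exists_isAffineOpen_mem_and_subset hx
          exact Set.mem_iUnion.2 ⟨⟨⟨V, hV⟩, hle⟩, hxV⟩)
      refine ⟨𝒮.image Subtype.val, fun V hV => ?_, fun x hx => ?_⟩
      · obtain ⟨V, -, rfl⟩ := Finset.mem_image.1 hV
        exact V.2
      · obtain ⟨V, hV, hxV⟩ := Set.mem_iUnion₂.1 (h𝒮 hx)
        exact ⟨V.1, Finset.mem_image_of_mem _ hV, hxV⟩
    choose 𝒮 h𝒮 h𝒮' using hcov
    choose W hW hxW using fun x => h𝒮' (kof x) x (hxO x)
    refine ⟨⟨fun x => (W x).1, ?_, fun x => ⟨hxW x, (W x).2⟩⟩, fun m h x => ?_⟩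
    · refine ((Set.toFinite (Set.univ : Set (∀ m : {m // m < l}, Set.range (prev m.1 m.2).1))).biUnion
        fun k _ => ((𝒮 k).finite_toSet.image fun V => V.1)).subset ?_
      rintro _ ⟨x, rfl⟩
      exact Set.mem_biUnion (Set.mem_univ (kof x)) ⟨W x, hW x, rfl⟩
    · refine (h𝒮 _ _ (hW x)).trans ?_
      exact iInf_le (fun m : {m // m < l} => tr m.2.le ⁻¹ᵁ (kof x m).1) ⟨m, h⟩
  let stepA : ∀ l, (∀ m, m < l → C m) → C l := fun l prev => (step l prev).choose
  let A : ∀ l, C l := hwf.fix stepA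
  have hA : ∀ {m l : Λ} (h : m ≤ l) x, (A l).1 x ≤ tr h ⁻¹ᵁ (A m).1 (tr h x) := by
    intro m l h x
    rcases h.eq_or_lt with rfl | hlt
    · intro z hz
      show tr h z ∈ (A m).1 (tr h x)
      rw [tr_self, tr_self]
      exact hz
    · have e : A l = stepA l fun m _ => A m := hwf.fix_eq stepA l
      rw [e]
      exact (step l fun m _ => A m).choose_spec m hlt x
  -- the pieces
  let q : ∀ l, X.obj (Opposite.op l) → ∀ m : Set.Iic l, (X.obj (Opposite.op m.1)).Opens :=
    fun l x m => (A m.1).1 (tr m.2 x)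
  have hq : ∀ l, (Set.range (q l)).Finite := by
    intro l
    haveI := (hΛ l).to_subtype
    refine (Set.Finite.pi fun m : Set.Iic l => (A m.1).2.1).subset ?_
    rintro _ ⟨x, rfl⟩ m _
    exact ⟨_, rfl⟩
  let n : Λ → ℕ := fun l => (hq l).toFinset.card
  have hn : ∀ l, ∃ e : Fin (n l) → Set.range (q l), Function.Surjective e ∧ Function.Injective e :=
    fun l => ⟨fun i => ⟨((hq l).toFinset.equivFin.symm i).1,
      (hq l).mem_toFinset.1 ((hq l).toFinset.equivFin.symm i).2⟩, fun y =>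
      ⟨(hq l).toFinset.equivFin ⟨y.1, (hq l).mem_toFinset.2 y.2⟩, Subtype.ext (by simp)⟩,
      fun a b hab => (hq l).toFinset.equivFin.symm.injective (Subtype.ext (by simpa using congrArg Subtype.val hab))⟩
  choose e he hei using hn
  let U : ∀ l, Fin (n l) → (X.obj (Opposite.op l)).Opens := fun l i => (e l i).1 ⟨l, le_refl l⟩
  have hres : ∀ {m l : Λ} (h : m ≤ l) (i : Fin (n l)), ∃ j : Fin (n m),
      (∀ k : Set.Iic m, (e m j).1 k = (e l i).1 ⟨k.1, k.2.trans h⟩) ∧ U l i ≤ tr h ⁻¹ᵁ U m j := by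
    intro m l h i
    obtain ⟨x, hx⟩ := (e l i).2
    obtain ⟨j, hj⟩ := he m ⟨q m (tr h x), ⟨_, rfl⟩⟩
    refine ⟨j, fun k => ?_, ?_⟩
    · rw [hj, ← hx]
      show (A k.1).1 (tr k.2 (tr h x)) = (A k.1).1 (tr (k.2.trans h) x)
      rw [tr_tr]
    · simp only [U]
      rw [hj, ← hx]
      show (A l).1 (tr le_rfl x) ≤ tr h ⁻¹ᵁ (A m).1 (tr le_rfl (tr h x))
      rw [tr_self, tr_self]
      exact hA h x
  choose r hr hrU using fun (m l : Λ) (h : m ≤ l) (i : Fin (n l)) => hres h i
  have hr_self : ∀ (l : Λ) (h : l ≤ l) (i : Fin (n l)), r l l h i = i := fun l h i =>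
    hei l (Subtype.ext (funext fun k => hr l l h i k))
  have hr_comp : ∀ (o m l : Λ) (h₁ : o ≤ m) (h₂ : m ≤ l) (i : Fin (n l)),
      r o m h₁ (r m l h₂ i) = r o l (h₁.trans h₂) i := fun o m l h₁ h₂ i =>
    hei o (Subtype.ext (funext fun k => by rw [hr, hr, hr]))
  let Yo : Λ → Scheme.{u} := fun l => ∐ fun i : Fin (n l) => (U l i : Scheme.{u})
  let ym : ∀ {m l : Λ}, m ≤ l → (Yo l ⟶ Yo m) := fun {m l} h =>
    Limits.Sigma.desc fun i => (tr h).resLE (U m (r m l h i)) (U l i) (hrU m l h i) ≫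
      Limits.Sigma.ι (fun j : Fin (n m) => (U m j : Scheme.{u})) (r m l h i)
  have key : ∀ (m : Λ) {Z : Scheme.{u}} (a b : Fin (n m)) (φa : Z ⟶ U m a) (φb : Z ⟶ U m b),
      a = b → φa ≫ (U m a).ι = φb ≫ (U m b).ι →
        φa ≫ Limits.Sigma.ι (fun j : Fin (n m) => (U m j : Scheme.{u})) a =
          φb ≫ Limits.Sigma.ι (fun j : Fin (n m) => (U m j : Scheme.{u})) b := by
    rintro m Z a _ φa φb rfl hφ
    rw [(cancel_mono (U m a).ι).1 hφ]
  let π₀ : ∀ l, Yo l ⟶ X.obj (Opposite.op l) := fun l => Limits.Sigma.desc fun i => (U l i).ι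
  let Y : Λᵒᵖ ⥤ Scheme.{u} :=
    { obj := fun l => Yo l.unop
      map := fun {l m} a => ym (leOfHom a.unop)
      map_id := fun l => Limits.Sigma.hom_ext _ _ fun i => by
        simp only [ym, Limits.Sigma.ι_desc, Category.comp_id]
        rw [← Category.id_comp (Limits.Sigma.ι _ i)]
        refine key _ _ _ _ _ (hr_self _ _ i) ?_
        simp [tr]
      map_comp := fun {l m o} a b => Limits.Sigma.hom_ext _ _ fun i => by
        simp only [ym, Limits.Sigma.ι_desc, Limits.Sigma.ι_desc_assoc, Category.assoc]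
        rw [← Category.assoc ((tr _).resLE _ _ _)]
        refine key _ _ _ _ _ (hr_comp _ _ _ _ _ i).symm ?_
        simp only [Category.assoc, Scheme.Hom.resLE_comp_ι, Scheme.Hom.resLE_comp_ι_assoc, tr,
          ← X.map_comp, ← op_comp, homOfLE_comp] }
  let π : Y ⟶ X :=
    { app := fun l => π₀ l.unop
      naturality := fun l m a => Limits.Sigma.hom_ext _ _ fun i => by
        simp only [Y, ym, π₀, Limits.Sigma.ι_desc_assoc, Category.assoc, Limits.Sigma.ι_desc,
          Scheme.Hom.resLE_comp_ι]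
        exact congrArg _ (congrArg X.map (Subsingleton.elim _ _)) }
  refine ⟨Y, π, fun l => ?_⟩
  have hUaff : ∀ i, IsAffine (U l i : Scheme.{u}) := fun i => by
    obtain ⟨x, hx⟩ := (e l i).2
    show IsAffineOpen (U l i)
    simp only [U]
    rw [← hx]
    show IsAffineOpen ((A l).1 (tr le_rfl x))
    rw [tr_self]
    exact ((A l).2.2 x).2
  refine ⟨inferInstanceAs (IsAffine (∐ fun i : Fin (n l) => (U l i : Scheme.{u}))), ⟨fun x => ?_⟩,
    ULift (Fin (n l)), fun i => (Limits.Sigma.ι (fun j : Fin (n l) => (U l j : Scheme.{u})) i.down).opensRange,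
    fun i j hij => disjoint_opensRange_sigmaι _ _ _ fun h => hij (ULift.ext _ _ h), ?_, fun i => ?_⟩
  · obtain ⟨i, hi⟩ := he l ⟨q l x, ⟨x, rfl⟩⟩
    have hxU : x ∈ U l i := by
      simp only [U]
      rw [hi]
      show x ∈ (A l).1 (tr le_rfl x)
      rw [tr_self]
      exact ((A l).2.2 x).1
    refine ⟨Limits.Sigma.ι (fun j : Fin (n l) => (U l j : Scheme.{u})) i ⟨x, hxU⟩, ?_⟩
    show π₀ l _ = x
    rw [← Scheme.Hom.comp_apply]
    simp only [π₀, Limits.Sigma.ι_desc]
    rfl
  · refine top_le_iff.1 fun y _ => TopologicalSpace.Opens.mem_iSup.2 ?_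
    obtain ⟨i, z, hz⟩ := (sigmaOpenCover fun i : Fin (n l) => (U l i : Scheme.{u})).exists_eq y
    exact ⟨⟨i⟩, z, hz⟩
  · show IsOpenImmersion
      ((Limits.Sigma.ι (fun j : Fin (n l) => (U l j : Scheme.{u})) i.down).opensRange.ι ≫ π₀ l)
    have h : (Limits.Sigma.ι (fun j : Fin (n l) => (U l j : Scheme.{u})) i.down).opensRange.ι ≫ π₀ l =
        (Limits.Sigma.ι (fun j : Fin (n l) => (U l j : Scheme.{u})) i.down).isoOpensRange.inv ≫
          (U l i.down).ι := by
      rw [Iso.eq_inv_comp, ← Category.assoc, Scheme.Hom.isoOpensRange_hom_ι]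
      simp only [π₀, Limits.Sigma.ι_desc]
    rw [h]
    infer_instance


end Groth.Agent.S15558
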