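import Groth.Statements.S1556
import Groth.Agent.H2.Rigid.GeomRegPt
import Groth.Agent.S4512
import Groth.Agent.Lib.Regular.Descent
import Mathlib.RingTheory.Etale.Field

set_option autoImplicit false
universe u
open CategoryTheory CategoryTheory.Limits AlgebraicGeometry
attribute [local instance] Curv2.resAlgebra
open Variety

namespace Groth.Agent.S1556

/-- Let X be a curve over k (integral, separated, of finite type, of dimension one) and x a closed point
whose residue field is separable over k. Then the local ring at x is a discrete valuation ring if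
and only if x lies in the smooth locus of X → Spec k. -/
theorem result (k : Type u) [Field k] (X : Scheme.{u}) [X.Over (Spec (CommRingCat.of k))] [IsIntegral X]
    [IsSeparated (X ↘ (Spec (CommRingCat.of k)))] [LocallyOfFinitePresentation (X ↘ (Spec (CommRingCat.of k)))] [QuasiCompact (X ↘ (Spec (CommRingCat.of k)))]
    (hdim : topologicalKrullDim X = 1) (x : X) (hx : IsClosed ({x} : Set X))
    [Algebra.IsSeparable k (X.residueField x)] :
    IsDiscreteValuationRing (X.presheaf.stalk x) ↔ x ∈ (X ↘ (Spec (CommRingCat.of k))).smoothLocus := by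
  have : IsLocallyNoetherian X := LocallyOfFiniteType.isLocallyNoetherian (X ↘ Spec (CommRingCat.of k))
  have := Groth.Agent.H2.Rigid.GeomRegPt.essFiniteType_O k X x
  let A := X.presheaf.stalk x
  have hle : ringKrullDim A ≤ 1 := by
    rw [← hdim, ← PrimeSpectrum.topologicalKrullDim_eq_ringKrullDim]
    exact (X.fromSpecStalk x).isEmbedding.isInducing.topologicalKrullDim_le
  have hne : ¬ IsField A := fun hA => by
    obtain ⟨z, hz⟩ : genericPoint X ∈ Set.range (X.fromSpecStalk x) := by
      rw [Scheme.range_fromSpecStalk]; exact genericPoint_specializes x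
    letI := hA.toField
    have : Subsingleton (PrimeSpectrum A) := inferInstance
    have hgx : genericPoint X = x := by
      rw [← hz, Subsingleton.elim (α := PrimeSpectrum A) z (IsLocalRing.closedPoint A)]
      exact X.fromSpecStalk_closedPoint
    have huniv : (Set.univ : Set X) = {x} := by
      have hc : closure ({genericPoint X} : Set X) = Set.univ := genericPoint_spec X
      rw [hgx, hx.closure_eq] at hc
      exact hc.symm
    have : Subsingleton X := ⟨fun a b => (Set.mem_singleton_iff.1 (huniv.subset (Set.mem_univ a))).trans
      (Set.mem_singleton_iff.1 (huniv.subset (Set.mem_univ b))).symm⟩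
    have h0 : topologicalKrullDim X ≤ 0 := by
      have : Subsingleton (TopologicalSpace.IrreducibleCloseds X) := ⟨fun a b => SetLike.coe_injective
        ((Set.eq_univ_of_forall fun z => Subsingleton.elim a.2.nonempty.some z ▸ a.2.nonempty.some_mem).trans
        (Set.eq_univ_of_forall fun z => Subsingleton.elim b.2.nonempty.some z ▸ b.2.nonempty.some_mem).symm)⟩
      exact Order.krullDim_nonpos_of_subsingleton
    rw [hdim] at h0
    exact absurd h0 (by norm_num)
  have hdimA : ringKrullDim A = 1 := by
    refine le_antisymm hle ?_
    by_contra hlt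
    have h0 : Ring.KrullDimLE 0 A := by
      rw [Ring.krullDimLE_iff]
      have hbot : ringKrullDim A ≠ ⊥ := ringKrullDim_ne_bot
      generalize ringKrullDim A = d at hle hlt hbot
      induction d with
      | bot => exact absurd rfl hbot
      | coe d =>
        rw [not_le] at hlt
        have : d < 1 := WithBot.coe_lt_coe.1 hlt
        rw [Nat.cast_zero, show d = 0 from ENat.lt_one_iff_eq_zero.1 this]
        rfl
    exact hne Ring.KrullDimLE.isField_of_isDomain
  rw [Groth.Agent.H2.Rigid.GeomRegPt.mem_smoothLocus_iff]
  constructor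
  · intro h
    have hreg : IsRegularLocalRing (Groth.Agent.H2.Rigid.GeomRegPt.O k X x) :=
      (Groth.Agent.Lib.Regular.Descent.isDiscreteValuationRing_iff (R := A)).1 ⟨inferInstance, h⟩ |>.1
    have : Algebra.IsSeparable k (IsLocalRing.ResidueField (Groth.Agent.H2.Rigid.GeomRegPt.O k X x)) := by
      have e : (IsLocalRing.ResidueField.algebra (R := (Groth.Agent.H2.Rigid.GeomRegPt.O k X x)) (R₀ := k)) = Curv2.resAlgebra k X x := by
        refine Algebra.algebra_ext _ _ fun c => ?_
        have := congr(IsLocalRing.residue (X.presheaf.stalk x) (($(Groth.Agent.H2.Rigid.GeomRegPt.algebra_eq k X x)).algebraMap c))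
        exact this
      exact (congrArg (fun i : Algebra k (IsLocalRing.ResidueField (Groth.Agent.H2.Rigid.GeomRegPt.O k X x)) =>
        @Algebra.IsSeparable k (IsLocalRing.ResidueField (Groth.Agent.H2.Rigid.GeomRegPt.O k X x)) _ _ i) e).mpr ‹_›
    have : Algebra.FormallyEtale k (IsLocalRing.ResidueField (Groth.Agent.H2.Rigid.GeomRegPt.O k X x)) :=
      Algebra.FormallyEtale.of_isSeparable k _
    have := hreg
    have hG : CAlg.IsGeometricallyRegular k (Groth.Agent.H2.Rigid.GeomRegPt.O k X x) :=
      (Groth.Agent.S4512.result Groth.Agent.Lib.SymGr.Regular.adic_of_isRegularLocalRing).1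
    exact (Groth.Agent.Lib.JacCrit.SmoothLocal.formallySmooth_iff_isGeometricallyRegular k _).2 hG
  · intro h
    have hreg : IsRegularLocalRing A :=
      Groth.Agent.Lib.JacCrit.SmoothLocal.isRegularLocalRing_of_formallySmooth k (Groth.Agent.H2.Rigid.GeomRegPt.O k X x)
    obtain ⟨_, h'⟩ := (Groth.Agent.Lib.Regular.Descent.isDiscreteValuationRing_iff (R := A)).2 ⟨hreg, hdimA⟩
    exact h' 

end Groth.Agent.S1556
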