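import Groth.Statements.S15562
import Groth.Agent.Lib.Kron99.Basic
-- import your own Groth.Agent.* helpers here

set_option autoImplicit false
universe u v w
open KronMod

namespace Groth.Agent.S15562

open Groth.Agent.Lib.Kron99.Basic

/-- Over a field K, for V of dimension d₋₁ > 0 and W of dimension n·d₋₁, semistable Kronecker modules
with n arrows from V to W exist, and any two of them are isomorphic as Kronecker modules; in other
words the moduli space K(n; d₋₁, n·d₋₁) of semistable Kronecker modules is a single point. (The
published statement assumes K algebraically closed of characteristic zero and n ≥ 2; this row allows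
any field K and any number n of arrows.) -/
theorem result (K : Type u) [Field K] (V : Type v) (W : Type w)
    [AddCommGroup V] [Module K V] [FiniteDimensional K V]
    [AddCommGroup W] [Module K W] [FiniteDimensional K W]
    (n : ℕ) (hV : 0 < Module.finrank K V) (hW : Module.finrank K W = n * Module.finrank K V) :
    (∃ f : Fin n → (V →ₗ[K] W), KronMod.IsSemistable f) ∧
    ∀ f f' : Fin n → (V →ₗ[K] W), KronMod.IsSemistable f → KronMod.IsSemistable f' →
      KronMod.AreIso f f' := by
  classical
  refine ⟨?_, fun f f' hf hf' => ?_⟩
  · let e := LinearEquiv.ofFinrankEq (Fin n → V) W (finrank_pi_const (K := K) V n |>.trans hW.symm)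
    refine ⟨fun j => e.toLinearMap ∘ₗ LinearMap.single K (fun _ : Fin n => V) j, (semistable_iff_sum_bijective _ hV hW).2 ?_⟩
    have h : sumMap (fun j => e.toLinearMap ∘ₗ LinearMap.single K (fun _ : Fin n => V) j) = e.toLinearMap := LinearMap.ext fun v => by
      rw [sumMap_apply]
      simp only [LinearMap.comp_apply, ← map_sum]
      congr 1
      funext i
      simp
    rw [h]
    exact e.bijective
  · let a := LinearEquiv.ofBijective _ ((semistable_iff_sum_bijective f hV hW).1 hf)
    let b := LinearEquiv.ofBijective _ ((semistable_iff_sum_bijective f' hV hW).1 hf')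
    refine ⟨LinearEquiv.refl K V, a.symm.trans b, fun j => LinearMap.ext fun v => ?_⟩
    have hs : ∀ g : Fin n → (V →ₗ[K] W), sumMap g (Pi.single j v) = g j v := fun g => by
      rw [sumMap_apply, Finset.sum_eq_single j (fun i _ hi => by simp [hi]) (by simp), Pi.single_eq_same]
    show b (a.symm (f j v)) = f' j v
    rw [← hs f, show sumMap f (Pi.single j v) = a (Pi.single j v) from rfl, a.symm_apply_apply]
    exact hs f'

end Groth.Agent.S15562
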