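import Groth.Statements.S15563
import Groth.Agent.Lib.Kron99.Basic
-- import your own Groth.Agent.* helpers here

set_option autoImplicit false
universe u v w
open KronMod

namespace Groth.Agent.S15563

open Groth.Agent.Lib.Kron99.Basic

/-- Let f be a Kronecker module with n arrows over a field K, from V of dimension d₋₁ > 0 to W of
dimension n·d₋₁. Then f is stable if and only if f is semistable and d₋₁ = 1: for d₋₁ = 1 every
semistable module is stable (so the stable locus of K(n; 1, n) is the one point), while for d₋₁ > 1
no module is stable. (The published statement assumes K algebraically closed of characteristic zero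
and n ≥ 2; this row allows any field K and any number n of arrows.) -/
theorem result (K : Type u) [Field K] (V : Type v) (W : Type w)
    [AddCommGroup V] [Module K V] [FiniteDimensional K V]
    [AddCommGroup W] [Module K W] [FiniteDimensional K W]
    (n : ℕ) (f : Fin n → (V →ₗ[K] W))
    (hV : 0 < Module.finrank K V) (hW : Module.finrank K W = n * Module.finrank K V) :
    KronMod.IsStable f ↔ (KronMod.IsSemistable f ∧ Module.finrank K V = 1) := by
  refine ⟨fun hs => ⟨semistable_of_stable hs, ?_⟩, fun ⟨hf, h1⟩ => ⟨hf.1, fun V' W' hsub hb ht => ?_⟩⟩
  · by_contra h1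
    have : Nontrivial V := Module.nontrivial_of_finrank_pos hV
    obtain ⟨x, hx⟩ := exists_ne (0 : V)
    have hsub : KronMod.IsSubrep f (Submodule.span K {x}) (Submodule.span K (Set.range fun j => f j x)) := fun j => by
      rw [Submodule.map_span, Set.image_singleton, Submodule.span_le, Set.singleton_subset_iff]
      exact Submodule.subset_span ⟨j, rfl⟩
    have h := hs.2 _ _ hsub (fun h0 => hx (Submodule.span_singleton_eq_bot.1 h0.1)) (fun h0 => by
      have := congrArg (fun U : Submodule K V => Module.finrank K U) h0.1
      simp [finrank_span_singleton hx] at this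
      omega)
    rw [finrank_span_singleton hx, hW, mul_one] at h
    have h2 : Module.finrank K (Submodule.span K (Set.range fun j => f j x)) ≤ n :=
      (finrank_range_le_card _).trans_eq (Fintype.card_fin n)
    have := Nat.mul_le_mul_left (Module.finrank K V) h2
    rw [mul_comm n] at h
    omega
  · have hbij := (semistable_iff_sum_bijective f hV hW).1 hf
    have hle := finrank_le_of_sum_injective hbij.1 hsub
    rw [hW, h1, mul_one, one_mul]
    have hV' := Submodule.finrank_le V'
    rw [h1] at hV'
    rcases Nat.eq_zero_or_pos (Module.finrank K V') with h0 | h0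
    · rw [h0, mul_zero]
      refine Nat.pos_of_ne_zero fun hz => hb ⟨Submodule.finrank_eq_zero.1 h0, Submodule.finrank_eq_zero.1 hz⟩
    · exfalso
      have h4 : V' = ⊤ := Submodule.eq_top_of_finrank_eq (by omega)
      refine ht ⟨h4, Submodule.eq_top_of_finrank_eq ?_⟩
      have := Submodule.finrank_le W'
      rw [h4, finrank_top, h1, mul_one] at hle
      rw [hW, h1, mul_one] at this ⊢
      omega

end Groth.Agent.S15563
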