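import Groth.Statements.S15564
import Groth.Agent.Lib.Kron99.Basic
-- import your own Groth.Agent.* helpers here

set_option autoImplicit false
universe u v w
open KronMod

namespace Groth.Agent.S15564

open Groth.Agent.Lib.Kron99.Basic

/-- For a Kronecker module f with n arrows over a field K between one-dimensional spaces V and W,
semistability, stability and f ≠ 0 are equivalent: the semistable locus and the stable locus of
dimension vector (1, 1) are both the complement of the zero module. (The published statement assumes
K algebraically closed of characteristic zero and n ≥ 2; this row allows any field K and any n.) -/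
theorem result (K : Type u) [Field K] (V : Type v) (W : Type w)
    [AddCommGroup V] [Module K V] [FiniteDimensional K V]
    [AddCommGroup W] [Module K W] [FiniteDimensional K W]
    (n : ℕ) (f : Fin n → (V →ₗ[K] W))
    (hV : Module.finrank K V = 1) (hW : Module.finrank K W = 1) :
    (KronMod.IsSemistable f ↔ f ≠ 0) ∧ (KronMod.IsStable f ↔ f ≠ 0) := by
  have hss : KronMod.IsStable f → KronMod.IsSemistable f := semistable_of_stable
  have h1 : KronMod.IsSemistable f → f ≠ 0 := fun hf h0 => by
    have h := range_sumMap_eq_top hf (by omega)
    rw [show sumMap f = 0 from LinearMap.ext fun v => by simp [h0], LinearMap.range_zero] at h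
    have := congrArg (fun U : Submodule K W => Module.finrank K U) h
    simp [hW] at this
  have h2 : f ≠ 0 → KronMod.IsStable f := fun hne => by
    refine ⟨by omega, fun V' W' hsub hb ht => ?_⟩
    rw [hV, hW, one_mul, one_mul]
    have a := Submodule.finrank_le V'
    have b := Submodule.finrank_le W'
    rw [hV] at a
    rw [hW] at b
    by_contra hlt
    rcases Nat.eq_zero_or_pos (Module.finrank K V') with h0 | h0
    · exact hb ⟨Submodule.finrank_eq_zero.1 h0, Submodule.finrank_eq_zero.1 (by omega)⟩
    have e1 : V' = ⊤ := Submodule.eq_top_of_finrank_eq (by omega)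
    by_cases h3 : Module.finrank K W' = 1
    · exact ht ⟨e1, Submodule.eq_top_of_finrank_eq (by omega)⟩
    have e2 : W' = ⊥ := Submodule.finrank_eq_zero.1 (by omega)
    refine hne (funext fun j => LinearMap.ext fun v => ?_)
    have := hsub j (Submodule.mem_map_of_mem (show v ∈ V' from e1 ▸ Submodule.mem_top))
    rw [e2] at this
    simpa using this
  exact ⟨⟨h1, fun h => hss (h2 h)⟩, ⟨fun h => h1 (hss h), h2⟩⟩

end Groth.Agent.S15564
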