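import Groth.Statements.S15568
import Mathlib.Analysis.Normed.Module.Basic
import Mathlib.Analysis.Convex.Basic
import Mathlib.Topology.Algebra.Module.LinearMap
import Mathlib.Data.Sign.Basic

set_option autoImplicit false
universe u
open QuiverStab

namespace Groth.Agent.S15568

/-- Walls and chambers for stability weights of a quiver. Let I be the finite vertex set, d ∈ ℕ^I a
dimension vector, and call two weights θ₁, θ₂ ∈ ℝ^I orthogonal to d numerically equivalent when, for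
every d′ ≤ d in ℕ^I, the numbers θ₁·d′ and θ₂·d′ are both positive, both negative or both zero. The
walls are the hyperplanes W(d′) = {θ ⊥ d : θ·d′ = 0} of d^⊥ for d′ ≤ d such that d is not a multiple
of d′. Then θ₁ and θ₂ are numerically equivalent if and only if there is a set J₁ of such d′ for
which θ₁ and θ₂ lie in the same connected component of the locally closed subset of d^⊥ consisting
of the weights lying on W(d₁) for every d₁ ∈ J₁ and off W(d₂) for every other wall W(d₂). (Only the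
quiver's vertex set enters; multiples are taken with natural-number factors.) -/
theorem result
    (I : Type u) [Fintype I] (d : I → ℕ) (θ₁ θ₂ : I → ℝ)
    (h₁ : ∑ i, θ₁ i * (d i : ℝ) = 0) (h₂ : ∑ i, θ₂ i * (d i : ℝ) = 0) :
    (∀ d' : I → ℕ, d' ≤ d →
        SignType.sign (∑ i, θ₁ i * (d' i : ℝ)) = SignType.sign (∑ i, θ₂ i * (d' i : ℝ))) ↔
    ∃ J₁ : Set (I → ℕ), J₁ ⊆ {d' | d' ≤ d ∧ ¬ ∃ m : ℕ, d = m • d'} ∧
      θ₂ ∈ connectedComponentIn
        {θ : I → ℝ | ∑ i, θ i * (d i : ℝ) = 0 ∧ (∀ d₁ ∈ J₁, ∑ i, θ i * (d₁ i : ℝ) = 0) ∧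
          ∀ d₂ : I → ℕ, d₂ ≤ d → (¬ ∃ m : ℕ, d = m • d₂) → d₂ ∉ J₁ →
            ∑ i, θ i * (d₂ i : ℝ) ≠ 0} θ₁ := by
  classical
  let L : (I → ℕ) → (I → ℝ) → ℝ := fun e θ => ∑ i, θ i * (e i : ℝ)
  have hL : ∀ e, Continuous (L e) := fun e => continuous_finsetSum _ fun i _ => (continuous_apply i).mul continuous_const
  have hlin : ∀ e (t : ℝ), L e ((1 - t) • θ₁ + t • θ₂) = (1 - t) * L e θ₁ + t * L e θ₂ := fun e t => by
    simp only [L, Pi.add_apply, Pi.smul_apply, smul_eq_mul, Finset.mul_sum, ← Finset.sum_add_distrib]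
    exact Finset.sum_congr rfl fun i _ => by ring
  constructor
  · intro hs
    refine ⟨{d' | d' ≤ d ∧ (¬ ∃ m : ℕ, d = m • d') ∧ L d' θ₁ = 0}, fun e he => ⟨he.1, he.2.1⟩, ?_⟩
    have hγ : Continuous fun t : ℝ => (1 - t) • θ₁ + t • θ₂ := by fun_prop
    have hpc : IsPreconnected ((fun t : ℝ => (1 - t) • θ₁ + t • θ₂) '' Set.Icc (0 : ℝ) 1) :=
      isPreconnected_Icc.image _ hγ.continuousOn
    refine hpc.subset_connectedComponentIn (x := θ₁) ⟨0, by simp, by simp⟩ ?_ ⟨1, by simp, by simp⟩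
    rintro _ ⟨t, ⟨ht0, ht1⟩, rfl⟩
    have hkey : ∀ e, e ≤ d → (L e θ₁ = 0 → L e θ₂ = 0) ∧ (0 < L e θ₁ → 0 < L e θ₂) ∧ (L e θ₁ < 0 → L e θ₂ < 0) := by
      intro e he
      have := hs e he
      refine ⟨fun h => ?_, fun h => ?_, fun h => ?_⟩
      · rw [show ∑ i, θ₁ i * (e i : ℝ) = 0 from h, sign_zero] at this; exact sign_eq_zero_iff.mp this.symm
      · rw [sign_pos (show 0 < ∑ i, θ₁ i * (e i : ℝ) from h)] at this; exact sign_eq_one_iff.mp this.symm
      · rw [sign_neg (show ∑ i, θ₁ i * (e i : ℝ) < 0 from h)] at this; exact sign_eq_neg_one_iff.mp this.symm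
    refine ⟨?_, fun e he => ?_, fun e he hnm hne => ?_⟩
    · show L d _ = 0
      rw [hlin, show L d θ₁ = 0 from h₁, show L d θ₂ = 0 from h₂]; ring
    · show L e _ = 0
      rw [hlin, he.2.2, (hkey e he.1).1 he.2.2]; ring
    · show L e _ ≠ 0
      have h0 : L e θ₁ ≠ 0 := fun h => hne ⟨he, hnm, h⟩
      rw [hlin]
      rcases lt_or_gt_of_ne h0 with h | h
      · have := (hkey e he).2.2 h
        rcases eq_or_lt_of_le ht0 with rfl | ht
        · simpa using h.ne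
        · exact (add_neg_of_nonpos_of_neg (mul_nonpos_of_nonneg_of_nonpos (by linarith) h.le) (mul_neg_of_pos_of_neg ht this)).ne
      · have := (hkey e he).2.1 h
        rcases eq_or_lt_of_le ht0 with rfl | ht
        · simpa using h.ne'
        · exact (add_pos_of_nonneg_of_pos (mul_nonneg (by linarith) h.le) (mul_pos ht this)).ne'
  · rintro ⟨J₁, hJ, hθ⟩ e he
    have hne : (connectedComponentIn {θ : I → ℝ | ∑ i, θ i * (d i : ℝ) = 0 ∧ (∀ d₁ ∈ J₁, ∑ i, θ i * (d₁ i : ℝ) = 0) ∧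
          ∀ d₂ : I → ℕ, d₂ ≤ d → (¬ ∃ m : ℕ, d = m • d₂) → d₂ ∉ J₁ → ∑ i, θ i * (d₂ i : ℝ) ≠ 0} θ₁).Nonempty := ⟨_, hθ⟩
    have hself := mem_connectedComponentIn (connectedComponentIn_nonempty_iff.mp hne)
    have hsub := connectedComponentIn_subset {θ : I → ℝ | ∑ i, θ i * (d i : ℝ) = 0 ∧ (∀ d₁ ∈ J₁, ∑ i, θ i * (d₁ i : ℝ) = 0) ∧
          ∀ d₂ : I → ℕ, d₂ ≤ d → (¬ ∃ m : ℕ, d = m • d₂) → d₂ ∉ J₁ → ∑ i, θ i * (d₂ i : ℝ) ≠ 0} θ₁
    show SignType.sign (L e θ₁) = SignType.sign (L e θ₂)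
    by_cases hm : ∃ m : ℕ, d = m • e
    · obtain ⟨m, hm⟩ := hm
      rcases eq_or_ne m 0 with rfl | hm0
      · have he0 : e = 0 := le_antisymm (by simpa [hm] using he) (fun i => Nat.zero_le _)
        simp [L, he0]
      · have hz : ∀ θ : I → ℝ, ∑ i, θ i * (d i : ℝ) = 0 → L e θ = 0 := fun θ hθ' => by
          have h3 : (m : ℝ) * L e θ = 0 := by
            rw [← hθ', Finset.mul_sum]
            refine Finset.sum_congr rfl fun i _ => ?_
            rw [hm]; simp only [Pi.smul_apply, smul_eq_mul, Nat.cast_mul]; ring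
          exact (mul_eq_zero.mp h3).resolve_left (Nat.cast_ne_zero.mpr hm0)
        rw [hz _ h₁, hz _ h₂]
    · by_cases hJe : e ∈ J₁
      · rw [show L e θ₁ = 0 from (hsub hself).2.1 e hJe, show L e θ₂ = 0 from (hsub hθ).2.1 e hJe]
      · have hnz : ∀ θ ∈ connectedComponentIn _ θ₁, L e θ ≠ 0 := fun θ hθ' => (hsub hθ').2.2 e he hm hJe
        have hpre := (isPreconnected_connectedComponentIn (x := θ₁)
          (F := {θ : I → ℝ | ∑ i, θ i * (d i : ℝ) = 0 ∧ (∀ d₁ ∈ J₁, ∑ i, θ i * (d₁ i : ℝ) = 0) ∧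
          ∀ d₂ : I → ℕ, d₂ ≤ d → (¬ ∃ m : ℕ, d = m • d₂) → d₂ ∉ J₁ → ∑ i, θ i * (d₂ i : ℝ) ≠ 0})).image (L e) (hL e).continuousOn
        have h0 : (0 : ℝ) ∉ (L e) '' connectedComponentIn _ θ₁ := fun ⟨θ, hθ', h⟩ => hnz θ hθ' h
        rcases lt_or_gt_of_ne (hnz _ hself) with h | h <;> rcases lt_or_gt_of_ne (hnz _ hθ) with h' | h'
        · rw [sign_neg h, sign_neg h']
        · exact absurd (hpre.Icc_subset ⟨_, hself, rfl⟩ ⟨_, hθ, rfl⟩ ⟨h.le, h'.le⟩) h0
        · exact absurd (hpre.Icc_subset ⟨_, hθ, rfl⟩ ⟨_, hself, rfl⟩ ⟨h'.le, h.le⟩) h0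
        · rw [sign_pos h, sign_pos h']

end Groth.Agent.S15568
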