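import Groth.Statements.S15570
import Groth.Agent.Lib.Kron99.Basic
-- import your own Groth.Agent.* helpers here

set_option autoImplicit false
universe u v w
open KronMod

namespace Groth.Agent.S15570

open Groth.Agent.Lib.Kron99.Basic

/-- Let f be a Kronecker module with n arrows over a field K, from V of dimension n·d₀ to W of dimension
d₀ > 0. Then f is stable if and only if f is semistable and d₀ = 1: for d₀ = 1 every semistable
module is stable (the stable locus of K(n; n, 1) is the one point), while for d₀ > 1 no module is
stable. This is the case dual to dimension vector (d₋₁, n·d₋₁). (The published statement assumes K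
algebraically closed of characteristic zero and n ≥ 2; this row allows any field K and any number n
of arrows.) -/
theorem result (K : Type u) [Field K] (V : Type v) (W : Type w)
    [AddCommGroup V] [Module K V] [FiniteDimensional K V]
    [AddCommGroup W] [Module K W] [FiniteDimensional K W]
    (n : ℕ) (f : Fin n → (V →ₗ[K] W))
    (hW : 0 < Module.finrank K W) (hV : Module.finrank K V = n * Module.finrank K W) :
    KronMod.IsStable f ↔ (KronMod.IsSemistable f ∧ Module.finrank K W = 1) := by
  refine ⟨fun hs => ⟨semistable_of_stable hs, ?_⟩, fun ⟨hf, h1⟩ => ⟨hf.1, fun V' W' hsub hb ht => ?_⟩⟩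
  · by_contra h1
    let P := LinearEquiv.ofBijective _ ((semistable_iff_pi_bijective f hW hV).1 (semistable_of_stable hs))
    obtain ⟨H, -, hH⟩ : ∃ H : Submodule K W, (⊥ : Submodule K W) ≤ H ∧ Module.finrank K H = Module.finrank K W - 1 := by
      let b := Module.finBasis K W
      refine ⟨Submodule.span K (Set.range fun i : Fin (Module.finrank K W - 1) => b ⟨i, by omega⟩), bot_le, ?_⟩
      exact (finrank_span_eq_card (b.linearIndependent.comp (fun i : Fin (Module.finrank K W - 1) => ⟨i, by omega⟩)
        fun i k h => by simpa [Fin.ext_iff] using h)).trans (Fintype.card_fin _)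
    let V' : Submodule K V := (LinearMap.pi fun j => H.subtype ∘ₗ LinearMap.proj j : (Fin n → H) →ₗ[K] (Fin n → W)).range.map P.symm.toLinearMap
    have hV' : Module.finrank K V' = n * (Module.finrank K W - 1) := by
      rw [LinearEquiv.finrank_map_eq, LinearMap.finrank_range_of_inj fun a c h => funext fun j => Subtype.ext (congrFun h j),
        finrank_pi_const, hH]
    have hsub : KronMod.IsSubrep f V' H := fun j => by
      rintro _ ⟨_, ⟨_, ⟨u, rfl⟩, rfl⟩, rfl⟩
      have h := congrFun (P.apply_symm_apply (LinearMap.pi (fun j => H.subtype ∘ₗ LinearMap.proj j) u)) j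
      exact (show f j _ = _ from h) ▸ (u j).2
    have h := hs.2 V' H hsub (fun h0 => by
      have := congrArg (fun U : Submodule K W => Module.finrank K U) h0.2
      simp [hH] at this
      omega) (fun h0 => by
      have := congrArg (fun U : Submodule K W => Module.finrank K U) h0.2
      simp [hH] at this
      omega)
    rw [hV', hH, hV, mul_comm n (Module.finrank K W), mul_assoc] at h
    exact lt_irrefl _ h
  · have hbij := (semistable_iff_pi_bijective f hW hV).1 hf
    have hle := finrank_le_of_pi_injective hbij.1 hsub
    rw [hV, h1, mul_one, one_mul]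
    have hW' := Submodule.finrank_le W'
    rw [h1] at hW'
    rcases Nat.eq_zero_or_pos (Module.finrank K W') with h0 | h0
    · exact absurd ⟨Submodule.finrank_eq_zero.1 (by rw [h0, mul_zero] at hle; omega), Submodule.finrank_eq_zero.1 h0⟩ hb
    · have e : Module.finrank K W' = 1 := by omega
      rw [e, mul_one]
      have := Submodule.finrank_le V'
      refine lt_of_le_of_ne (by rwa [hV, h1, mul_one] at this) fun hh => ht ⟨Submodule.eq_top_of_finrank_eq (by rw [hh, hV, h1, mul_one]), Submodule.eq_top_of_finrank_eq (by omega)⟩

end Groth.Agent.S15570
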