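import Groth.Statements.S15575
import Groth.Agent.Lib.RInvQuad

set_option autoImplicit false
universe u v
open scoped TensorProduct
open RInv

namespace Groth.Agent.S15575

/-- Let `R` be a commutative ring with an involution `lam` and fixed ring `S` (no finiteness assumed).
If the localisation of `R` at a prime `p` of `S` is quadratic etale over `S_p`, then there is `s ∉
p` with `R[1/s]` quadratic etale over `S[1/s]`; in particular the set of such primes is open in
`Spec S`. Localisations of `R` are written as base changes `S_p ⊗ R` and `S_s ⊗ R`. -/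
theorem result (S : Type u) (R : Type v) [CommRing S] [CommRing R]
    [Algebra S R] (lam : R ≃+* R) (hlam : Function.Involutive lam) (hS : RInv.IsFixedRing S R lam)
    (p : PrimeSpectrum S)
    (hp : RInv.IsQuadEtale (Localization.AtPrime p.asIdeal) (Localization.AtPrime p.asIdeal ⊗[S] R)) :
    ∃ s : S, s ∉ p.asIdeal ∧
      RInv.IsQuadEtale (Localization.Away s) (Localization.Away s ⊗[S] R) := by
  obtain ⟨r, a, ha, hap⟩ := (Groth.Agent.Lib.RInvQuad.atPrime_iff hlam hS p).1 hp
  refine ⟨a, hap, ?_⟩
  let A := Localization.Away a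
  let L := Algebra.TensorProduct.congr (AlgEquiv.refl : A ≃ₐ[S] A) (Groth.Agent.Lib.RInvQuad.algEquiv hS)
  have hl : Function.Involutive L.toRingEquiv := fun x => by
    change L (L x) = x
    induction x using TensorProduct.induction_on with
    | zero => simp
    | tmul c r => simp [L, Groth.Agent.Lib.RInvQuad.algEquiv, hlam r]
    | add x y hx hy => simp [hx, hy]
  have hfix : RInv.IsFixedRing A (A ⊗[S] R) L.toRingEquiv :=
    Groth.Agent.Lib.RInvQuad.isFixedRing_baseChange (Groth.Agent.Lib.RInvQuad.algEquiv hS) A hS hlam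
      (Or.inl (IsLocalization.flat A (Submonoid.powers a)))
  refine Groth.Agent.Lib.RInvQuad.isQuadEtale_of_isUnit hl hfix (r := (1 : A) ⊗ₜ[S] r) ?_
  have hd : (1 : A) ⊗ₜ[S] r - L.toRingEquiv ((1 : A) ⊗ₜ[S] r) = (1 : A) ⊗ₜ[S] (r - lam r) := by
    rw [TensorProduct.tmul_sub]; rfl
  rw [hd, ← isUnit_pow_iff two_ne_zero, Algebra.TensorProduct.tmul_pow, one_pow, ← ha,
    ← Algebra.TensorProduct.tmul_one_eq_one_tmul]
  exact (IsLocalization.Away.algebraMap_isUnit a).map (Algebra.TensorProduct.includeLeftRingHom (R := S) (B := R))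

end Groth.Agent.S15575
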