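import Groth.Statements.S1558
import Groth.Statements.S1558
import Groth.Agent.H97.EulerFinite
import Groth.Agent.Lib.PointDim.Basic

set_option autoImplicit false
universe u
open CategoryTheory CategoryTheory.Limits AlgebraicGeometry
open Variety

namespace Groth.Agent.S1558

/-- On a proper scheme over a field, if F is coherent with support of dimension at most zero and E is
finite locally free of rank n, then χ(X, F ⊗ E) = n · χ(X, F). -/
theorem result (k : Type u) [Field k] (X : Scheme.{u}) [X.Over (Spec (CommRingCat.of k))] [IsProper (X ↘ (Spec (CommRingCat.of k)))]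
    (F : X.Modules) (hF : Coh.IsCoh F) (hsupp : topologicalKrullDim (CohB1.support F) ≤ 0)
    (n : ℕ) (E : X.Modules) (hE : FlatMod.IsFinLocFreeOfRank n E) :
    Curv2.euler k X (CohB1.tensorMod F E) = n * Curv2.euler k X F := by
  haveI := hF.2
  rw [Lib.Curves.Euler.euler_eq_of_iso (Lib.TensorMod.Basic.comm F E)]
  refine H97.EulerFinite.euler_tensor hE hF fun y hy => ?_
  refine (Lib.PointDim.Basic.isClosed_iff_natTdeg_eq_zero (X ↘ (Spec (CommRingCat.of k))) y).2 ?_
  have h := (Lib.Devissage.Dim.dim_mono (closure_minimal (Set.singleton_subset_iff.2 hy)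
    (Lib.Modules.Support.isClosed_support F))).trans hsupp
  rw [Lib.PointDim.Basic.topologicalKrullDim_closure_singleton (X ↘ (Spec (CommRingCat.of k))) y] at h
  exact Nat.le_zero.1 (by exact_mod_cast h)

end Groth.Agent.S1558
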