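import Groth.Statements.S15581
import Groth.Agent.Lib.RInvQuadLocal

set_option autoImplicit false
universe u v
open RInv

namespace Groth.Agent.S15581

/-- Let `A` be a commutative ring with an involution `lam` whose fixed ring `B` is local with `2`
invertible. Then `Jac(A)^2 ⊆ Jac(B) A`. -/
theorem result (B : Type u) (A : Type v) [CommRing B]
    [CommRing A] [Algebra B A] (lam : A ≃+* A) (hlam : Function.Involutive lam)
    (hB : RInv.IsFixedRing B A lam) [IsLocalRing B] (h2 : IsUnit (2 : B)) :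
    (Ring.jacobson A) ^ 2 ≤ (IsLocalRing.maximalIdeal B).map (algebraMap B A) := by
  obtain ⟨i, hi⟩ := h2.exists_right_inv
  have hJ : ∀ (x : A), x ∈ Ring.jacobson A → lam x ∈ Ring.jacobson A := fun x hx => by
    rw [← Ideal.jacobson_bot, Ideal.jacobson, Ideal.mem_sInf] at hx ⊢
    rintro M ⟨-, hM⟩
    exact Ideal.mem_comap.1 (hx (I := M.comap lam.toRingHom) ⟨bot_le, Ideal.comap_isMaximal_of_equiv lam⟩)
  have : Nontrivial A := hB.1.nontrivial
  have hm : ∀ s : B, algebraMap B A s ∈ Ring.jacobson A → s ∈ IsLocalRing.maximalIdeal B := fun s hs hu => by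
    rw [← Ideal.jacobson_bot] at hs
    have := Ideal.eq_top_of_isUnit_mem _ hs (hu.map _)
    rw [Ideal.jacobson_eq_top_iff] at this
    exact bot_ne_top this
  rw [pow_two, Ideal.mul_le]
  intro x hx y hy
  have e2 : (2 : A) * algebraMap B A i = 1 := by rw [← map_ofNat (algebraMap B A) 2, ← map_mul, hi, map_one]
  obtain ⟨s, hs⟩ := Groth.Agent.Lib.RInvQuad.exists_trace hlam hB x
  obtain ⟨t, ht⟩ := Groth.Agent.Lib.RInvQuad.exists_trace hlam hB y
  obtain ⟨p, hp⟩ := Groth.Agent.Lib.RInvQuad.exists_of_fixed hB (x := (x - lam x) * (y - lam y)) (by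
    rw [map_mul, map_sub, map_sub, hlam x, hlam y]; ring)
  have e : x * y = algebraMap B A (i * s) * y + (algebraMap B A i * (x - lam x)) * algebraMap B A (i * t) +
      algebraMap B A (i * i * p) := by
    simp only [map_mul, hs, ht, hp]
    linear_combination -(y * (algebraMap B A i * (x - lam x) + x)) * e2
  rw [e]
  refine Ideal.add_mem _ (Ideal.add_mem _ (Ideal.mul_mem_right _ _ ?_) (Ideal.mul_mem_left _ _ ?_)) ?_ <;>
    refine Ideal.mem_map_of_mem _ (Ideal.mul_mem_left _ _ (hm _ ?_))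
  · rw [hs]; exact Ideal.add_mem _ hx (hJ x hx)
  · rw [ht]; exact Ideal.add_mem _ hy (hJ y hy)
  · rw [hp]; exact Ideal.mul_mem_right _ _ (Ideal.sub_mem _ hx (hJ x hx))

end Groth.Agent.S15581
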