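import Groth.Statements.S15582
import Mathlib.Topology.Sheaves.LocallySurjective
import Mathlib.CategoryTheory.Sites.LocallySurjective
import Mathlib.Topology.Sheaves.SheafCondition.UniqueGluing

set_option autoImplicit false
universe u
open CategoryTheory TopologicalSpace
open CohTop

namespace Groth.Agent.S15582

/-- Let `π : X → Y` be a continuous map such that every open set containing a fibre `π⁻¹(y)` contains
the preimage of an open neighbourhood of `y`, and such that every fibre is finite with its points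
separated by pairwise disjoint open sets of `X`. Then the direct image of sheaves of sets along `π`
preserves epimorphisms. -/
theorem result
    {X Y : TopCat.{u}} (π : X ⟶ Y)
    (h1 : ∀ (y : Y) (U : Set X), IsOpen U → π ⁻¹' {y} ⊆ U →
      ∃ V : Set Y, IsOpen V ∧ y ∈ V ∧ π ⁻¹' V ⊆ U)
    (h2 : ∀ y : Y, (π ⁻¹' {y}).Finite ∧ ∃ U : X → Set X,
      (∀ x ∈ π ⁻¹' {y}, IsOpen (U x) ∧ x ∈ U x) ∧ (π ⁻¹' {y}).PairwiseDisjoint U) :
    (TopCat.Sheaf.pushforward (Type u) π).PreservesEpimorphisms := by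
  constructor
  intro F G ψ hψ
  haveI hls := (Sheaf.isLocallySurjective_iff_epi ψ).2 hψ
  apply (Sheaf.isLocallySurjective_iff_epi ((TopCat.Sheaf.pushforward (Type u) π).map ψ)).1
  constructor
  intro V t y hy
  obtain ⟨hfin, U, hU, hdis⟩ := h2 y
  have hloc : ∀ x : π ⁻¹' {y}, ∃ (W : Opens X) (hW : W ≤ (Opens.map π).obj V), (x : X) ∈ W ∧ (W : Set X) ⊆ U x ∧
      ∃ s, ψ.hom.app (Opposite.op W) s = G.obj.map (homOfLE hW).op t := by
    intro x
    have hxV : (x : X) ∈ (Opens.map π).obj V := by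
      show π x ∈ V
      rw [show π x = y from x.2]; exact hy
    obtain ⟨W, i, ⟨s, hs⟩, hxW⟩ := hls.imageSieve_mem t (x : X) hxV
    refine ⟨W ⊓ ⟨U x, (hU x x.2).1⟩, inf_le_left.trans (leOfHom i), ⟨hxW, (hU x x.2).2⟩, fun z hz => hz.2,
      F.obj.map (homOfLE inf_le_left).op s, ?_⟩
    refine (NatTrans.naturality_apply ψ.hom (homOfLE inf_le_left).op s).trans ?_
    refine (congrArg _ hs).trans ?_
    exact (ConcreteCategory.congr_hom (G.obj.map_comp i.op (homOfLE inf_le_left).op) t).symm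
  choose W hW hxW hWU s hs using hloc
  obtain ⟨g, hg, -⟩ : ∃! g, TopCat.Presheaf.IsGluing F.obj W s g := TopCat.Sheaf.existsUnique_gluing F W s (by
    intro x x'
    by_cases h : x = x'
    · subst h; rfl
    · have hbot : W x ⊓ W x' = ⊥ := by
        apply le_antisymm _ bot_le
        intro z hz
        exact (hdis x.2 x'.2 (fun e => h (Subtype.ext e))).le_bot ⟨hWU x hz.1, hWU x' hz.2⟩
      refine TopCat.Sheaf.eq_of_locally_eq' F (fun e : PEmpty.{u+1} => e.elim) _ (fun e => e.elim) ?_ _ _ (fun e => e.elim)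
      rw [hbot]
      exact bot_le)
  obtain ⟨V', hV'o, hyV', hV'⟩ := h1 y ((iSup W : Opens X) : Set X) (iSup W).2 (fun x hx =>
    Opens.mem_iSup.2 ⟨⟨x, hx⟩, hxW ⟨x, hx⟩⟩)
  let V'' : Opens Y := ⟨V', hV'o⟩ ⊓ V
  have hle : (Opens.map π).obj V'' ≤ iSup W := fun x hx => hV' hx.1
  refine ⟨V'', homOfLE inf_le_right, ⟨F.obj.map (homOfLE hle).op g, ?_⟩, hyV', hy⟩
  have hglue : ψ.hom.app (Opposite.op (iSup W)) g = G.obj.map (homOfLE (iSup_le hW)).op t := by
    refine TopCat.Sheaf.eq_of_locally_eq' G W _ (fun x => homOfLE (le_iSup W x)) le_rfl _ _ (fun x => ?_)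
    refine (NatTrans.naturality_apply ψ.hom (homOfLE (le_iSup W x)).op g).symm.trans ?_
    refine (congrArg _ (hg x)).trans ((hs x).trans ?_)
    exact ConcreteCategory.congr_hom (G.obj.map_comp (homOfLE (iSup_le hW)).op (homOfLE (le_iSup W x)).op) t
  refine (NatTrans.naturality_apply ψ.hom (homOfLE hle).op g).trans ?_
  refine (congrArg _ hglue).trans ?_
  exact (ConcreteCategory.congr_hom (G.obj.map_comp (homOfLE (iSup_le hW)).op (homOfLE hle).op) t).symm

end Groth.Agent.S15582
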