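import Groth.Statements.S15584
import Groth.Agent.Lib.RInvHerm

set_option autoImplicit false
universe u v
open RInv

namespace Groth.Agent.S15584

/-- Let `A` be a commutative ring with an involution `lam` whose fixed ring `B` is local; assume `lam`
is the identity modulo the Jacobson radical of `A`, that `2` is invertible in `A`, and that `h` is
an invertible `n × n` matrix with `h = -(lam h)ᵀ`. Then `n` is even and there is an invertible `v`
such that `(lam v)ᵀ h v` is a block sum of `2 × 2` blocks on the index pairs `{2k, 2k+1}`, each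
congruent to `[[0,1],[-1,0]]` modulo the Jacobson radical. (The published statement writes the
congruence with the plain transpose `vᵀ h v`; its proof computes the Gram matrix of the hermitian
form `(x, y) ↦ (lam x)ᵀ h y` in a new basis, which is `(lam v)ᵀ h v`, and that is what is stated
here.) -/
theorem result (B : Type u) (A : Type v) [CommRing B] [CommRing A]
    [Algebra B A] (lam : A ≃+* A) (hlam : Function.Involutive lam) (hB : RInv.IsFixedRing B A lam)
    [IsLocalRing B] (n : ℕ) (hid : ∀ a : A, lam a - a ∈ Ring.jacobson A) (h2 : IsUnit (2 : A))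
    (h : Matrix (Fin n) (Fin n) A) (hh : IsUnit h) (herm : -(h.map lam).transpose = h) :
    Even n ∧ ∃ v : Matrix (Fin n) (Fin n) A, IsUnit v ∧
      ∀ i j : Fin n,
        (i.val / 2 ≠ j.val / 2 → ((v.map lam).transpose * h * v) i j = 0) ∧
        (i.val / 2 = j.val / 2 → (Even i.val ↔ Even j.val) →
          ((v.map lam).transpose * h * v) i j ∈ Ring.jacobson A) ∧
        (i.val / 2 = j.val / 2 → Even i.val → ¬ Even j.val →
          ((v.map lam).transpose * h * v) i j - 1 ∈ Ring.jacobson A) ∧
        (i.val / 2 = j.val / 2 → ¬ Even i.val → Even j.val →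
          ((v.map lam).transpose * h * v) i j + 1 ∈ Ring.jacobson A) := by
  have := Groth.Agent.Lib.RInvQuad.isLocalRing_of_forall_mem hlam hB hid
  have hJ : Ring.jacobson A = IsLocalRing.maximalIdeal A := by
    rw [← Ideal.jacobson_bot, IsLocalRing.jacobson_eq_maximalIdeal ⊥ bot_ne_top]
  rw [hJ] at hid ⊢
  obtain ⟨k, g, hnk, ⟨v, w, hvw, hwv, hg⟩, hoff, hon⟩ := Groth.Agent.Lib.RInvHerm.skew_blocks hlam
    (IsLocalRing.maximalIdeal.isMaximal A) (fun x hx => IsLocalRing.notMem_maximalIdeal.1 hx) hid h2 n (Fin n) h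
    (Fintype.card_fin n) ⟨by rw [neg_one_smul]; exact herm, ↑(hh.unit⁻¹), hh.mul_val_inv, hh.val_inv_mul⟩
  subst hnk
  refine ⟨⟨k, by ring⟩, v.submatrix id finProdFinEquiv.symm, ⟨⟨v.submatrix id finProdFinEquiv.symm, w.submatrix finProdFinEquiv.symm id, ?_, ?_⟩, rfl⟩, ?_⟩
  · rw [Matrix.submatrix_mul_equiv, hvw, Matrix.submatrix_id_id]
  · rw [← Matrix.submatrix_mul _ _ _ _ _ Function.bijective_id, hwv, Matrix.submatrix_one_equiv]
  intro i j
  have he : ((v.submatrix id finProdFinEquiv.symm).map lam).transpose * h * v.submatrix id finProdFinEquiv.symm =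
      g.submatrix finProdFinEquiv.symm finProdFinEquiv.symm := by
    rw [← hg]; rfl
  rw [he]
  obtain ⟨⟨a, x⟩, rfl⟩ := finProdFinEquiv.surjective i
  obtain ⟨⟨b, y⟩, rfl⟩ := finProdFinEquiv.surjective j
  simp only [Matrix.submatrix_apply, Equiv.symm_apply_apply, finProdFinEquiv_apply_val]
  have hdiv : ∀ (a : Fin k) (x : Fin 2), (x.val + 2 * a.val) / 2 = a.val := fun a x => by omega
  have hev : ∀ (a : Fin k) (x : Fin 2), Even (x.val + 2 * a.val) ↔ x = 0 := fun a x => by
    rw [Nat.even_iff, Fin.ext_iff]; simp only [Fin.val_zero]; omega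
  simp only [hdiv, hev]
  refine ⟨fun h => hoff a b x y fun e => h (e ▸ rfl), fun h h' => ?_, fun h hx hy => ?_, fun h hx hy => ?_⟩ <;>
    obtain rfl := Fin.ext h <;> have h3 := hon a x y <;> revert h3
  · fin_cases x <;> fin_cases y <;> simp_all
  · fin_cases x <;> fin_cases y <;> simp_all
  · fin_cases x <;> fin_cases y <;> simp_all

end Groth.Agent.S15584
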