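import Groth.Statements.S15589
import Groth.Agent.Lib.RInvQuadLocal

set_option autoImplicit false
universe u v
open scoped TensorProduct
open RInv

namespace Groth.Agent.S15589

/-- Let `R` be a commutative ring with an involution `lam` and fixed ring `S`, `W ⊆ Spec S` the branch
locus (primes `p` with `S_p ⊗_S R` not quadratic etale over `S_p`), `I` its vanishing ideal and `J =
rad(IR)`. Then `Spec(R/J) → Spec(S/I)` is a homeomorphism; if `2` is a unit of `S`, the ring map
`S/I → R/J` is moreover bijective, so the reduced preimage of the branch locus maps isomorphically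
onto it. Affine-local form of the statement for a good quotient of schemes by an involution (the
hypothesis `I ≤ J ∩ S` holds automatically and only serves to write down the map). -/
theorem result (S : Type u) (R : Type v) [CommRing S] [CommRing R]
    [Algebra S R] (lam : R ≃+* R) (hlam : Function.Involutive lam) (hS : RInv.IsFixedRing S R lam)
    (W : Set (PrimeSpectrum S))
    (hW : W = {p : PrimeSpectrum S | ¬ RInv.IsQuadEtale (Localization.AtPrime p.asIdeal) (Localization.AtPrime p.asIdeal ⊗[S] R)})
    (J : Ideal R) (hJ : J = ((PrimeSpectrum.vanishingIdeal W).map (algebraMap S R)).radical)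
    (hIJ : PrimeSpectrum.vanishingIdeal W ≤ J.comap (algebraMap S R)) :
    IsHomeomorph (PrimeSpectrum.comap (Ideal.quotientMap J (algebraMap S R) hIJ)) ∧
      (IsUnit (2 : S) → Function.Bijective (Ideal.quotientMap J (algebraMap S R) hIJ)) := by
  open Groth.Agent.Lib.RInvQuad in
  have := isIntegral hlam hS
  let φ := Ideal.quotientMap J (algebraMap S R) hIJ
  have hcomp : φ.comp (Ideal.Quotient.mk (PrimeSpectrum.vanishingIdeal W)) = (Ideal.Quotient.mk J).comp (algebraMap S R) :=
    RingHom.ext fun s => rfl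
  have hd : ∀ r, lam r - r ∈ J := fun r => hJ ▸ Groth.Agent.Lib.RInvQuad.sub_mem_radical hlam hS hW r
  have hint : φ.IsIntegral := by
    refine RingHom.IsIntegral.tower_top (Ideal.Quotient.mk (PrimeSpectrum.vanishingIdeal W)) φ ?_
    rw [hcomp]
    exact RingHom.IsIntegral.trans _ _ (fun x => Algebra.IsIntegral.isIntegral x)
      (RingHom.isIntegral_of_surjective _ Ideal.Quotient.mk_surjective)
  have hover : ∀ (p : PrimeSpectrum S) (q : PrimeSpectrum R), PrimeSpectrum.vanishingIdeal W ≤ p.asIdeal →
      q.asIdeal.comap (algebraMap S R) = p.asIdeal → J ≤ q.asIdeal := fun p q hp hq => by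
    rw [hJ, q.2.radical_le_iff, Ideal.map_le_iff_le_comap, hq]; exact hp
  refine ⟨isHomeomorph_iff_continuous_isClosedMap_bijective.2 ⟨PrimeSpectrum.continuous_comap _, PrimeSpectrum.isClosedMap_comap_of_isIntegral _ hint, ?_, ?_⟩, fun h2 => ?_⟩
  · intro P P' h
    apply PrimeSpectrum.comap_injective_of_surjective _ Ideal.Quotient.mk_surjective
    have hle : ∀ P : PrimeSpectrum (R ⧸ J), ∀ r, lam r - r ∈ P.asIdeal.comap (Ideal.Quotient.mk J) := fun P r => by
      rw [Ideal.mem_comap, Ideal.Quotient.eq_zero_iff_mem.2 (hd r)]; exact P.asIdeal.zero_mem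
    refine Groth.Agent.Lib.RInvQuad.eq_of_forall_mem hlam hS ?_ (hle P) (hle P')
    simp only [PrimeSpectrum.comap_asIdeal, Ideal.comap_comap, ← hcomp]
    rw [← Ideal.comap_comap, ← Ideal.comap_comap]
    exact congr_arg (fun x : PrimeSpectrum (S ⧸ PrimeSpectrum.vanishingIdeal W) => x.asIdeal.comap _) h
  · intro p
    let p' : PrimeSpectrum S := PrimeSpectrum.comap (Ideal.Quotient.mk _) p
    obtain ⟨q, hq⟩ := Groth.Agent.Lib.RInvQuad.exists_over hlam hS p'
    have hp' : PrimeSpectrum.vanishingIdeal W ≤ p'.asIdeal := fun s hs => by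
      change Ideal.Quotient.mk _ s ∈ p.asIdeal
      rw [Ideal.Quotient.eq_zero_iff_mem.2 hs]; exact p.asIdeal.zero_mem
    have hJq := hover p' q hp' hq
    have := Ideal.map_isPrime_of_surjective (f := Ideal.Quotient.mk J) Ideal.Quotient.mk_surjective
      (I := q.asIdeal) (by rwa [Ideal.mk_ker])
    refine ⟨⟨q.asIdeal.map (Ideal.Quotient.mk J), this⟩,
      PrimeSpectrum.comap_injective_of_surjective _ Ideal.Quotient.mk_surjective (PrimeSpectrum.ext ?_)⟩
    simp only [PrimeSpectrum.comap_asIdeal, Ideal.comap_comap]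
    rw [hcomp, ← Ideal.comap_comap, Ideal.comap_map_of_surjective _ Ideal.Quotient.mk_surjective,
      ← RingHom.ker_eq_comap_bot, Ideal.mk_ker, sup_eq_left.2 hJq, hq]
    rfl
  · obtain ⟨i, hi⟩ := h2.exists_right_inv
    refine ⟨?_, fun y => ?_⟩
    · rw [injective_iff_map_eq_zero]
      intro x hx
      obtain ⟨s, rfl⟩ := Ideal.Quotient.mk_surjective x
      change Ideal.Quotient.mk J (algebraMap S R s) = 0 at hx
      rw [Ideal.Quotient.eq_zero_iff_mem] at hx ⊢
      rw [PrimeSpectrum.mem_vanishingIdeal]
      intro p hp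
      obtain ⟨q, hq⟩ := Groth.Agent.Lib.RInvQuad.exists_over hlam hS p
      rw [← hq]
      exact hover p q (fun s hs => (PrimeSpectrum.mem_vanishingIdeal W s).1 hs p hp) hq hx
    · obtain ⟨x, rfl⟩ := Ideal.Quotient.mk_surjective y
      obtain ⟨s, hs⟩ := Groth.Agent.Lib.RInvQuad.exists_trace hlam hS x
      refine ⟨Ideal.Quotient.mk _ (i * s), ?_⟩
      change Ideal.Quotient.mk J (algebraMap S R (i * s)) = _
      rw [Ideal.Quotient.eq]
      have e2 : (2 : R) * algebraMap S R i = 1 := by rw [← map_ofNat (algebraMap S R) 2, ← map_mul, hi, map_one]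
      convert J.mul_mem_left (algebraMap S R i) (hd x) using 1
      rw [map_mul, hs]
      linear_combination x * e2

end Groth.Agent.S15589
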