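import Groth.Statements.S15590
import Mathlib.RingTheory.DedekindDomain.Basic
import Mathlib.RingTheory.Flat.FaithfullyFlat.Algebra
import Mathlib.RingTheory.Flat.Rank
import Mathlib.RingTheory.Ideal.GoingUp
import Mathlib.RingTheory.Localization.FractionRing
import Mathlib.RingTheory.Noetherian.Basic

set_option autoImplicit false
universe u v
open CAlg

namespace Groth.Agent.S15590

/-- Let A → B be an injective homomorphism of commutative rings which makes B a finite flat A-module,
and suppose B is a Dedekind domain (Noetherian, integrally closed, of Krull dimension at most one; a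
field is allowed). Then A is a Dedekind domain. -/
theorem result (A : Type u) (B : Type v)
    [CommRing A] [CommRing B] [Algebra A B] [IsDedekindDomain B]
    (hinj : Function.Injective (algebraMap A B)) [Module.Finite A B] [Module.Flat A B] :
    IsDedekindDomain A := by
  have : IsDomain A := hinj.isDomain (algebraMap A B)
  have : FaithfulSMul A B := (faithfulSMul_iff_algebraMap_injective A B).mpr hinj
  have : Module.FaithfullyFlat A B :=
    Module.FaithfullyFlat.of_comap_surjective ((PrimeSpectrum.comap_surjective_iff_injective_of_finite (R := A) (S := B)).mpr hinj)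
  have hnoeth : IsNoetherianRing A := by
    rw [isNoetherianRing_iff, ← monotone_stabilizes_iff_noetherian]
    intro f
    have hB : IsNoetherianRing B := inferInstance
    obtain ⟨n, hn⟩ := monotone_stabilizes_iff_noetherian.mpr hB
      ⟨fun i => Ideal.map (algebraMap A B) (f i), fun i j h => Ideal.map_mono (f.monotone h)⟩
    refine ⟨n, fun m hm => ?_⟩
    have h := congrArg (Ideal.comap (algebraMap A B)) (hn m hm)
    rwa [show (⟨fun i => Ideal.map (algebraMap A B) (f i), fun i j h => Ideal.map_mono (f.monotone h)⟩ : ℕ →o Ideal B) n = Ideal.map (algebraMap A B) (f n) from rfl,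
      show (⟨fun i => Ideal.map (algebraMap A B) (f i), fun i j h => Ideal.map_mono (f.monotone h)⟩ : ℕ →o Ideal B) m = Ideal.map (algebraMap A B) (f m) from rfl,
      Ideal.comap_map_eq_self_of_faithfullyFlat, Ideal.comap_map_eq_self_of_faithfullyFlat] at h
  have hdim : Ring.DimensionLEOne A := ⟨fun {p} hp0 hp => by
    obtain ⟨P, hP⟩ := PrimeSpectrum.comap_surjective_of_faithfullyFlat (A := A) (B := B) ⟨p, hp⟩
    have hP' : P.asIdeal.comap (algebraMap A B) = p := congrArg PrimeSpectrum.asIdeal hP
    have hPne : P.asIdeal ≠ ⊥ := fun h => hp0 (by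
      rw [← hP', h, ← RingHom.ker_eq_comap_bot]
      exact (RingHom.injective_iff_ker_eq_bot _).mp hinj)
    have : P.asIdeal.IsMaximal := P.2.isMaximal hPne
    rw [← hP']
    exact Ideal.isMaximal_comap_of_isIntegral_of_isMaximal _⟩
  suffices key : ∀ (K : Type u) (L : Type v) [Field K] [Algebra A K] [IsFractionRing A K] [Field L] [Algebra B L]
      [IsFractionRing B L] (x : K), IsIntegral A x → ∃ y, algebraMap A K y = x by
    have hic : IsIntegrallyClosed A := (isIntegrallyClosed_iff (FractionRing A)).mpr fun {x} hx =>
      key (FractionRing A) (FractionRing B) x hx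
    exact { }
  intro K L _ _ _ _ _ _ x hx
  obtain ⟨⟨a, b, hb⟩, rfl⟩ := IsLocalization.mk'_surjective (nonZeroDivisors A) x
  have hi : Function.Injective ((algebraMap B L).comp (algebraMap A B)) :=
    (IsFractionRing.injective B L).comp hinj
  let f : K →+* L := IsFractionRing.lift hi
  have hb0 : algebraMap B L (algebraMap A B b) ≠ 0 :=
    (map_ne_zero_iff _ (IsFractionRing.injective B L)).mpr ((map_ne_zero_iff _ hinj).mpr (nonZeroDivisors.ne_zero hb))
  obtain ⟨P, hP, hP0⟩ := hx
  have hint : IsIntegral B (f (IsLocalization.mk' _ a ⟨b, hb⟩)) := by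
    refine ⟨P.map (algebraMap A B), hP.map _, ?_⟩
    have hf : f.comp (algebraMap A K) = (algebraMap B L).comp (algebraMap A B) :=
      RingHom.ext fun z => IsFractionRing.lift_algebraMap hi z
    rw [Polynomial.eval₂_map, ← hf, ← Polynomial.hom_eval₂, hP0, map_zero]
  obtain ⟨c, hc⟩ := IsIntegrallyClosed.isIntegral_iff.mp hint
  have hmem : algebraMap A B a ∈ (Ideal.span {b}).map (algebraMap A B) := by
    rw [Ideal.map_span, Set.image_singleton, Ideal.mem_span_singleton']
    refine ⟨c, IsFractionRing.injective B L ?_⟩
    rw [map_mul, hc]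
    have h1 := congrArg f (IsLocalization.mk'_spec K a (⟨b, hb⟩ : nonZeroDivisors A))
    rw [map_mul] at h1
    simp only [f, IsFractionRing.lift_algebraMap, RingHom.comp_apply] at h1
    exact h1
  rw [← Ideal.mem_comap, Ideal.comap_map_eq_self_of_faithfullyFlat, Ideal.mem_span_singleton'] at hmem
  obtain ⟨z, hz⟩ := hmem
  exact ⟨z, (IsLocalization.mk'_eq_iff_eq_mul.mpr (by rw [← map_mul, hz])).symm⟩

end Groth.Agent.S15590
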