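import Groth.Statements.S15592

import Groth.Agent.Lib.GrpSch.AffPts
import Groth.Agent.Lib.GrpSch.Basic
import Groth.Agent.Lib.RedPts.Ga
import Groth.Agent.Lib.RedPts.Gm
import Mathlib.AlgebraicGeometry.ValuativeCriterion
import Mathlib.RingTheory.DedekindDomain.Dvr
import Mathlib.RingTheory.DedekindDomain.Basic

set_option autoImplicit false
universe u
open CategoryTheory MonoidalCategory CartesianMonoidalCategory MonObj GrpObj AlgebraicGeometry
open AlgGrp

open Groth.Agent.Lib.GrpSch

namespace Groth.Agent.S15592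

open AffPts in
/-- If every scheme-valued point of `G` comes from `u : Spec C ⟶ G` with `C` a domain, and the point of `G`
with values in the fraction field of `C` fixes `x`, then `G` fixes `x`. -/
theorem isFixedPt_of_generic {k : Type u} [Field k] {G X : Over (Spec (CommRingCat.of k))} [GrpObj G]
    [IsSeparated X.hom] (a : AlgGrp.Action G X) (x : 𝟙_ (Over (Spec (CommRingCat.of k))) ⟶ X)
    (C : Type u) [CommRing C] [IsDomain C] [Algebra k C] (g₀ : sp (k := k) C ⟶ G)
    (hu : ∀ (T : Over (Spec (CommRingCat.of k))) (g : T ⟶ G), ∃ h : T ⟶ sp (k := k) C, h ≫ g₀ = g)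
    (hg : lift (spMap (IsScalarTower.toAlgHom k C (FractionRing C)) ≫ g₀)
      (toUnit _ ≫ x) ≫ a.act = toUnit _ ≫ x) : a.IsFixedPt x := by
  intro T g
  obtain ⟨h, rfl⟩ := hu T g
  have key : lift g₀ (toUnit _ ≫ x) ≫ a.act = toUnit _ ≫ x := by
    apply Over.OverMorphism.ext
    haveI : IsReduced (sp (k := k) C).left := inferInstanceAs (IsReduced (Spec (CommRingCat.of C)))
    haveI : IsDominant (spMap (IsScalarTower.toAlgHom k C (FractionRing C))).left :=
      ⟨(PrimeSpectrum.denseRange_comap_iff_ker_le_nilRadical _).2 (by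
        change RingHom.ker (algebraMap C (FractionRing C)) ≤ _
        rw [(RingHom.injective_iff_ker_eq_bot _).1 (IsFractionRing.injective C (FractionRing C))]
        exact bot_le)⟩
    refine ext_of_isDominant_of_isSeparated X.hom (by rw [Over.w, Over.w])
      (spMap (IsScalarTower.toAlgHom k C (FractionRing C))).left ?_
    rw [← Over.comp_left, ← Over.comp_left, comp_lift_assoc, ← Category.assoc (spMap _) (toUnit _),
      toUnit_unique (spMap _ ≫ toUnit _) (toUnit _), hg]
  have h2 := congrArg (h ≫ ·) key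
  simp only [comp_lift_assoc, ← Category.assoc] at h2
  rw [toUnit_unique (h ≫ toUnit _) (toUnit T)] at h2
  simpa using h2

instance (k : Type u) [Field k] : (Ideal.span {(Polynomial.X : Polynomial k)}).IsPrime :=
  (Ideal.span_singleton_prime Polynomial.X_ne_zero).2 Polynomial.prime_X

/-- The local ring of the affine line at the origin. -/
abbrev LocLine (k : Type u) [Field k] : Type u :=
  Localization.AtPrime (Ideal.span {(Polynomial.X : Polynomial k)})

instance (k : Type u) [Field k] : IsDiscreteValuationRing (LocLine k) :=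
  IsLocalization.AtPrime.isDiscreteValuationRing_of_dedekind_domain (Polynomial k)
    (P := Ideal.span {(Polynomial.X : Polynomial k)})
    (by simp [Polynomial.X_ne_zero]) _

/-- The coordinate on the line. -/
noncomputable def lineX (k : Type u) [Field k] : LocLine k :=
  algebraMap (Polynomial k) _ Polynomial.X

theorem lineX_mem (k : Type u) [Field k] : lineX k ∈ IsLocalRing.maximalIdeal (LocLine k) :=
  (IsLocalization.AtPrime.to_map_mem_maximal_iff _ _ _).2 (Ideal.mem_span_singleton_self _)

theorem lineX_ne_zero (k : Type u) [Field k] : lineX k ≠ 0 := fun h =>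
  Polynomial.X_ne_zero (IsLocalization.injective (LocLine k)
    (Ideal.primeCompl_le_nonZeroDivisors (Ideal.span {(Polynomial.X : Polynomial k)}))
    (h.trans (map_zero _).symm))

theorem exists_ev0 (k : Type u) [Field k] : ∃ e : LocLine k →ₐ[k] k, e (lineX k) = 0 := by
  have h : ∀ y : (Ideal.span {(Polynomial.X : Polynomial k)}).primeCompl,
      IsUnit (Polynomial.aeval (0 : k) (y : Polynomial k)) := fun y => by
    refine isUnit_iff_ne_zero.2 fun h0 => y.2 (Ideal.mem_span_singleton.2 ?_)
    rwa [Polynomial.X_dvd_iff, Polynomial.coeff_zero_eq_aeval_zero]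
  exact ⟨IsLocalization.liftAlgHom (S := LocLine k) (f := Polynomial.aeval (0 : k)) h, by
    simp [lineX]⟩

/-- A substitution `s ↦ u` with `u` a nonzero nonunit is an injective map of local rings of lines. -/
theorem exists_subst (k L : Type u) [Field k] [Field L] [Algebra k L] (u : LocLine L)
    (hu : u ∈ IsLocalRing.maximalIdeal (LocLine L)) (hu0 : u ≠ 0) :
    ∃ σ : LocLine k →ₐ[k] LocLine L, σ (lineX k) = u ∧ Function.Injective σ := by
  have h : ∀ y : (Ideal.span {(Polynomial.X : Polynomial k)}).primeCompl,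
      IsUnit (Polynomial.aeval u (y : Polynomial k)) := by
    intro y
    have hc : (y : Polynomial k).coeff 0 ≠ 0 := fun h0 =>
      y.2 (Ideal.mem_span_singleton.2 (Polynomial.X_dvd_iff.2 h0))
    rw [← IsLocalRing.notMem_maximalIdeal]
    intro hmem
    rw [← Polynomial.X_mul_divX_add (y : Polynomial k), map_add, map_mul, Polynomial.aeval_X,
      Polynomial.aeval_C] at hmem
    have h2 := (Submodule.add_mem_iff_right _ (Ideal.mul_mem_right _ _ hu)).1 hmem
    exact h2 ((isUnit_iff_ne_zero.2 hc).map _)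
  let σ : LocLine k →ₐ[k] LocLine L := IsLocalization.liftAlgHom (S := LocLine k) (f := Polynomial.aeval u) h
  have hσ : σ (lineX k) = u := by simp [σ, lineX]
  refine ⟨σ, hσ, ?_⟩
  rw [injective_iff_map_eq_zero]
  intro z hz
  by_contra hz0
  obtain ⟨n, hn⟩ := IsDiscreteValuationRing.associated_pow_irreducible hz0
    (IsDiscreteValuationRing.exists_irreducible (LocLine k)).choose_spec
  have hprime : (RingHom.ker σ.toRingHom).IsPrime := RingHom.ker_isPrime _
  have hne : RingHom.ker σ.toRingHom ≠ ⊥ := fun h0 => hz0 (by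
    have : z ∈ RingHom.ker σ.toRingHom := hz
    rwa [h0, Ideal.mem_bot] at this)
  have hmax := IsLocalRing.eq_maximalIdeal (hprime.isMaximal hne)
  have : lineX k ∈ RingHom.ker σ.toRingHom := hmax ▸ lineX_mem k
  exact hu0 (hσ ▸ this)

open AffPts in
/-- The fixed point produced by a coordinate `q₀` near infinity. -/
theorem exists_fixedPt_of_translation {k : Type u} [Field k] {G X : Over (Spec (CommRingCat.of k))} [GrpObj G]
    [IsProper X.hom] (a : AlgGrp.Action G X) (x₀ : 𝟙_ (Over (Spec (CommRingCat.of k))) ⟶ X)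
    (C : Type u) [CommRing C] [IsDomain C] [Algebra k C] (g₀ : sp (k := k) C ⟶ G)
    (hu : ∀ (T : Over (Spec (CommRingCat.of k))) (g : T ⟶ G), ∃ h : T ⟶ sp (k := k) C, h ≫ g₀ = g)
    (q₀ : sp (k := k) (FractionRing (LocLine k)) ⟶ G)
    (hkey : ∀ (L : Type u) [Field L] [Algebra k L] (g : sp (k := k) L ⟶ G),
      ∃ v ∈ IsLocalRing.maximalIdeal (LocLine L), v ≠ 0 ∧
        ∀ (iot' σ' : FractionRing (LocLine k) →ₐ[k] FractionRing (LocLine L)),
          iot' (algebraMap _ _ (lineX k)) = algebraMap _ _ (lineX L) →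
          σ' (algebraMap _ _ (lineX k)) = algebraMap _ _ v →
          (spMap ((IsScalarTower.toAlgHom k L (FractionRing (LocLine L)))) ≫ g) * (spMap iot' ≫ q₀) =
            spMap σ' ≫ q₀) :
    ∃ x : 𝟙_ (Over (Spec (CommRingCat.of k))) ⟶ X, a.IsFixedPt x := by
  -- the extension of the orbit map to the local ring at infinity
  let D := LocLine k
  let pK : sp (k := k) (FractionRing D) ⟶ X := q₀ ≫ a.orbitMap x₀
  have hval : ValuativeCriterion X.hom := by
    have h := ‹IsProper X.hom›
    rw [IsProper.eq_valuativeCriterion] at h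
    exact h.1.1.1
  let sq : ValuativeCommSq X.hom :=
    { R := D
      K := FractionRing D
      i₁ := pK.left
      i₂ := (sp (k := k) D).hom
      commSq := ⟨by
        rw [Over.w]
        exact (Over.w (spMap (IsScalarTower.toAlgHom k D (FractionRing D)))).symm⟩ }
  obtain ⟨⟨φ, hφ₁, hφ₂⟩⟩ := (hval sq).map fun x => x.default
  let Φ : sp (k := k) D ⟶ X := Over.homMk φ hφ₂
  have hΦ : spMap (IsScalarTower.toAlgHom k D (FractionRing D)) ≫ Φ = q₀ ≫ a.orbitMap x₀ :=
    Over.OverMorphism.ext hφ₁
  obtain ⟨ev, hev⟩ := exists_ev0 k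
  let o : 𝟙_ (Over (Spec (CommRingCat.of k))) ⟶ sp (k := k) k :=
    Over.homMk (𝟙 _) (by
      change 𝟙 _ ≫ Spec.map (CommRingCat.ofHom (algebraMap k k)) = _
      rw [Category.id_comp]
      exact Spec.map_id _)
  let x : 𝟙_ (Over (Spec (CommRingCat.of k))) ⟶ X := o ≫ spMap ev ≫ Φ
  refine ⟨x, isFixedPt_of_generic a x C g₀ hu ?_⟩
  let L := FractionRing C
  let g : sp (k := k) L ⟶ G := spMap (IsScalarTower.toAlgHom k C L) ≫ g₀
  obtain ⟨v, hv, hv0, hv'⟩ := hkey L g
  obtain ⟨iot, hiot, hioti⟩ := exists_subst k L (lineX L) (lineX_mem L) (lineX_ne_zero L)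
  obtain ⟨σ, hσ, hσi⟩ := exists_subst k L v hv hv0
  let K := FractionRing (LocLine L)
  have hinj : ∀ (f : D →ₐ[k] LocLine L), Function.Injective f →
      Function.Injective ((IsScalarTower.toAlgHom k (LocLine L) K).comp f) :=
    fun f hf => (IsFractionRing.injective (LocLine L) K).comp hf
  let iot' : FractionRing D →ₐ[k] K := IsFractionRing.liftAlgHom (hinj iot hioti)
  let σ' : FractionRing D →ₐ[k] K := IsFractionRing.liftAlgHom (hinj σ hσi)
  have hext : ∀ (f : D →ₐ[k] LocLine L) (hf : Function.Injective f),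
      spMap (IsScalarTower.toAlgHom k (LocLine L) K) ≫ spMap f ≫ Φ =
        (spMap (IsFractionRing.liftAlgHom (hinj f hf) : FractionRing D →ₐ[k] K) ≫ q₀) ≫ a.orbitMap x₀ := by
    intro f hf
    rw [Category.assoc, ← hΦ, ← Category.assoc, ← Category.assoc, spMap_comp, spMap_comp]
    congr 2
    refine AlgHom.ext fun z => ?_
    simp [IsFractionRing.liftAlgHom]
  have h1 := hv' iot' σ' (by simp [iot', IsFractionRing.liftAlgHom, hiot, D, K])
    (by simp [σ', IsFractionRing.liftAlgHom, hσ, D, K])
  let gD : sp (k := k) (LocLine L) ⟶ G := spMap (IsScalarTower.toAlgHom k L (LocLine L)) ≫ g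
  -- the translate of the limit is the limit
  have h2 : lift gD (spMap iot ≫ Φ) ≫ a.act = spMap σ ≫ Φ := by
    apply Over.OverMorphism.ext
    haveI : IsReduced (sp (k := k) (LocLine L)).left :=
      inferInstanceAs (IsReduced (Spec (CommRingCat.of (LocLine L))))
    haveI : IsDominant (spMap (IsScalarTower.toAlgHom k (LocLine L) K)).left :=
      ⟨(PrimeSpectrum.denseRange_comap_iff_ker_le_nilRadical _).2 (by
        change RingHom.ker (algebraMap (LocLine L) K) ≤ _
        rw [(RingHom.injective_iff_ker_eq_bot _).1 (IsFractionRing.injective (LocLine L) K)]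
        exact bot_le)⟩
    refine ext_of_isDominant_of_isSeparated X.hom (by rw [Over.w, Over.w])
      (spMap (IsScalarTower.toAlgHom k (LocLine L) K)).left ?_
    rw [← Over.comp_left, ← Over.comp_left, comp_lift_assoc, hext iot hioti, hext σ hσi, ← h1,
      mul_orbit, Category.assoc]
    have hc : (IsScalarTower.toAlgHom k (LocLine L) K).comp (IsScalarTower.toAlgHom k L (LocLine L)) =
        IsScalarTower.toAlgHom k L K := AlgHom.ext fun z => (IsScalarTower.algebraMap_apply L (LocLine L) K z).symm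
    simp only [gD, ← Category.assoc, spMap_comp, hc]
    rfl
  -- restrict to the closed point
  obtain ⟨evL, hevL⟩ := exists_ev0 L
  let e := evL.restrictScalars k
  have hcomp : ∀ f : D →ₐ[k] LocLine L, e (f (lineX k)) = 0 →
      e.comp f = (Algebra.ofId k L).comp ev := by
    intro f hf
    refine IsLocalization.algHom_ext (Ideal.span {(Polynomial.X : Polynomial k)}).primeCompl (Polynomial.algHom_ext ?_)
    change e (f (lineX k)) = algebraMap k L (ev (lineX k))
    rw [hf, hev, map_zero]
  have hx : spMap ((Algebra.ofId k L).comp ev) ≫ Φ = toUnit _ ≫ x := by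
    rw [← spMap_comp, Category.assoc]
    change spMap (Algebra.ofId k L) ≫ _ = toUnit _ ≫ o ≫ spMap ev ≫ Φ
    rw [← Category.assoc (toUnit _) o]
    congr 1
  have h3 := congrArg (spMap e ≫ ·) h2
  have hev0 : ∀ w ∈ IsLocalRing.maximalIdeal (LocLine L), e w = 0 := fun w hw => by
    have hmax := IsLocalRing.eq_maximalIdeal (RingHom.ker_isMaximal_of_surjective evL.toRingHom
      fun c => ⟨algebraMap L _ c, evL.commutes c⟩)
    rw [← hmax] at hw
    exact hw
  simp only [gD, comp_lift_assoc] at h3
  simp only [← Category.assoc, spMap_comp] at h3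
  rw [hcomp iot (by rw [hiot]; exact hev0 _ (lineX_mem L)), hcomp σ (by rw [hσ]; exact hev0 _ hv), hx,
    show e.comp (IsScalarTower.toAlgHom k L (LocLine L)) = AlgHom.id k L from
      AlgHom.ext fun c => evL.commutes c, spMap_id, Category.id_comp] at h3
  exact h3

open AffPts in
theorem exists_hom_to_sp {k : Type u} [Field k] (C : Type u) [CommRing C] [Algebra k C]
    (T : Over (Spec (CommRingCat.of k))) (ψ : C →+* Γ(T.left, ⊤))
    (hψ : ψ.comp (algebraMap k C) = ((Scheme.ΓSpecIso (CommRingCat.of k)).inv ≫ T.hom.appTop).hom) :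
    ∃ h : T ⟶ sp (k := k) C, ∀ c, h.left.appTop (coordInv C c) = ψ c := by
  refine ⟨Over.homMk (T.left.toSpecΓ ≫ Spec.map (CommRingCat.ofHom ψ)) ?_, fun c => ?_⟩
  · change (_ ≫ _) ≫ Spec.map _ = _
    rw [Category.assoc, ← Spec.map_comp, ← CommRingCat.ofHom_comp, hψ, CommRingCat.ofHom_hom, Spec.map_comp,
      ← Category.assoc, ← Scheme.toSpecΓ_naturality, Category.assoc, toSpecΓ_SpecMap_ΓSpecIso_inv,
      Category.comp_id]
  · change (T.left.toSpecΓ ≫ Spec.map (CommRingCat.ofHom ψ)).appTop
      ((Scheme.ΓSpecIso (CommRingCat.of C)).inv c) = ψ c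
    have h1 : (Scheme.ΓSpecIso (CommRingCat.of C)).inv ≫
        (T.left.toSpecΓ ≫ Spec.map (CommRingCat.ofHom ψ)).appTop = CommRingCat.ofHom ψ := by
      rw [Scheme.Hom.comp_appTop, ← Scheme.ΓSpecIso_inv_naturality_assoc, Scheme.toSpecΓ_appTop,
        Iso.inv_hom_id, Category.comp_id]
    exact congr($h1 c)

open AffPts Groth.Agent.Lib.RedPts in
theorem exists_fixedPt_Ga {k : Type u} [Field k] {G X : Over (Spec (CommRingCat.of k))} [GrpObj G]
    (e : G ≅ Red.Ga (Spec (CommRingCat.of k))) [IsMonHom e.hom] [IsProper X.hom]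
    (x₀ : 𝟙_ (Over (Spec (CommRingCat.of k))) ⟶ X) (a : AlgGrp.Action G X) :
    ∃ x : 𝟙_ (Over (Spec (CommRingCat.of k))) ⟶ X, a.IsFixedPt x := by
  let co : ∀ (R : Type u) [CommRing R] [Algebra k R] (_ : sp (k := k) R ⟶ G), R :=
    fun R _ _ p => coord (k := k) R (Red.gaFn (p ≫ e.hom))
  let pt : ∀ (R : Type u) [CommRing R] [Algebra k R] (_ : R), sp (k := k) R ⟶ G :=
    fun R _ _ c => Ga.gaPt (coordInv R c) ≫ e.inv
  have hco : ∀ (R : Type u) [CommRing R] [Algebra k R] (c : R), co R (pt R c) = c := fun R _ _ c => by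
    simp only [co, pt, Category.assoc, Iso.inv_hom_id, Category.comp_id, Ga.gaFn_gaPt]
    exact coord_coordInv R c
  have hinj : ∀ (R : Type u) [CommRing R] [Algebra k R], Function.Injective (co R) := fun R _ _ p q h =>
    (cancel_mono e.hom).1 (Ga.gaFn_injective (coord_injective R h))
  have hnat : ∀ {A B : Type u} [CommRing A] [Algebra k A] [CommRing B] [Algebra k B] (f : A →ₐ[k] B)
      (p : sp (k := k) A ⟶ G), co B (spMap f ≫ p) = f (co A p) := fun {A B} _ _ _ _ f p => by
    simp only [co, Category.assoc]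
    rw [Ga.gaFn_comp]
    exact coord_appTop f _
  have hmul : ∀ (R : Type u) [CommRing R] [Algebra k R] (p q : sp (k := k) R ⟶ G),
      co R (p * q) = co R p + co R q := fun R _ _ p q => by
    simp only [co, MonObj.mul_comp, Ga.gaFn_mul, map_add]
  refine exists_fixedPt_of_translation a x₀ (Polynomial k) (pt _ Polynomial.X) ?_
    (pt _ (algebraMap (LocLine k) (FractionRing (LocLine k)) (lineX k))⁻¹) ?_
  · intro T g
    obtain ⟨h, hh⟩ := exists_hom_to_sp (Polynomial k) T
      (Polynomial.eval₂RingHom ((Scheme.ΓSpecIso (CommRingCat.of k)).inv ≫ T.hom.appTop).hom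
        (Red.gaFn (g ≫ e.hom))) (RingHom.ext fun c => by simp [Polynomial.algebraMap_eq])
    refine ⟨h, (cancel_mono e.hom).1 (Ga.gaFn_injective ?_)⟩
    simp only [pt, Category.assoc, Iso.inv_hom_id, Category.comp_id, Ga.gaFn_comp, Ga.gaFn_gaPt, hh]
    simp
  · intro L _ _ g
    let w : LocLine L := 1 + algebraMap L _ (co L g) * lineX L
    have hw : IsUnit w := by
      rw [← IsLocalRing.notMem_maximalIdeal]
      intro hm
      exact (IsLocalRing.maximalIdeal.isMaximal _).ne_top ((Ideal.eq_top_iff_one _).2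
        ((Submodule.add_mem_iff_left _ (Ideal.mul_mem_left _ _ (lineX_mem L))).1 hm))
    refine ⟨lineX L * ↑hw.unit⁻¹, Ideal.mul_mem_right _ _ (lineX_mem L),
      mul_ne_zero (lineX_ne_zero L) hw.unit⁻¹.ne_zero, fun iot' σ' hiot hσ => hinj _ ?_⟩
    rw [hmul, hnat, hnat, hnat, hco, map_inv₀, map_inv₀, hiot, hσ, map_mul]
    set al := algebraMap (LocLine L) (FractionRing (LocLine L))
    have hA : (al (↑hw.unit⁻¹ : LocLine L))⁻¹ = al w := by
      refine inv_eq_of_mul_eq_one_right ?_
      rw [← map_mul, IsUnit.val_inv_mul, map_one]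
    have hS : al (lineX L) ≠ 0 := (map_ne_zero_iff _ (IsFractionRing.injective _ _)).2 (lineX_ne_zero L)
    rw [_root_.mul_inv, hA]
    simp only [w, map_add, map_mul, map_one, al, IsScalarTower.toAlgHom_apply,
      ← IsScalarTower.algebraMap_apply]
    have key : ∀ (t z : FractionRing (LocLine L)), z ≠ 0 → t + z⁻¹ = z⁻¹ * (1 + t * z) := fun t z hz => by
      rw [mul_add, _root_.mul_one, mul_comm z⁻¹ (t * z), mul_inv_cancel_right₀ hz, add_comm]
    exact key _ _ hS

open AffPts Groth.Agent.Lib.RedPts in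
theorem exists_fixedPt_Gm {k : Type u} [Field k] {G X : Over (Spec (CommRingCat.of k))} [GrpObj G]
    (e : G ≅ Red.Gm (Spec (CommRingCat.of k))) [IsMonHom e.hom] [IsProper X.hom]
    (x₀ : 𝟙_ (Over (Spec (CommRingCat.of k))) ⟶ X) (a : AlgGrp.Action G X) :
    ∃ x : 𝟙_ (Over (Spec (CommRingCat.of k))) ⟶ X, a.IsFixedPt x := by
  let co : ∀ (R : Type u) [CommRing R] [Algebra k R] (_ : sp (k := k) R ⟶ G), R :=
    fun R _ _ p => coord (k := k) R (Red.gmFn (p ≫ e.hom))
  let pt : ∀ (R : Type u) [CommRing R] [Algebra k R] (_ : Rˣ), sp (k := k) R ⟶ G :=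
    fun R _ _ c => Gm.gmPt (Units.map (coordInv (k := k) R).toMonoidHom c) ≫ e.inv
  have hco : ∀ (R : Type u) [CommRing R] [Algebra k R] (c : Rˣ), co R (pt R c) = c := fun R _ _ c => by
    simp only [co, pt, Category.assoc, Iso.inv_hom_id, Category.comp_id, Gm.gmFn_gmPt]
    exact coord_coordInv R (c : R)
  have hinj : ∀ (R : Type u) [CommRing R] [Algebra k R], Function.Injective (co R) := fun R _ _ p q h =>
    (cancel_mono e.hom).1 (Gm.gmFn_injective (coord_injective R h))
  have hnat : ∀ {A B : Type u} [CommRing A] [Algebra k A] [CommRing B] [Algebra k B] (f : A →ₐ[k] B)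
      (p : sp (k := k) A ⟶ G), co B (spMap f ≫ p) = f (co A p) := fun {A B} _ _ _ _ f p => by
    simp only [co, Category.assoc]
    rw [Gm.gmFn_comp]
    exact coord_appTop f _
  have hmul : ∀ (R : Type u) [CommRing R] [Algebra k R] (p q : sp (k := k) R ⟶ G),
      co R (p * q) = co R p * co R q := fun R _ _ p q => by
    simp only [co, MonObj.mul_comp, Gm.gmFn_mul, map_mul]
  let C := Localization.Away (Polynomial.X : Polynomial k)
  haveI : IsDomain C := IsLocalization.isDomain_localization
    (powers_le_nonZeroDivisors_of_noZeroDivisors Polynomial.X_ne_zero)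
  have hXu : IsUnit (algebraMap (Polynomial k) C Polynomial.X) := IsLocalization.Away.algebraMap_isUnit _
  have hS : IsUnit ((algebraMap (LocLine k) (FractionRing (LocLine k)) (lineX k))⁻¹) :=
    (inv_ne_zero ((map_ne_zero_iff _ (IsFractionRing.injective _ _)).2 (lineX_ne_zero k))).isUnit
  refine exists_fixedPt_of_translation a x₀ C (pt C hXu.unit) ?_ (pt _ hS.unit) ?_
  · intro T g
    let str := ((Scheme.ΓSpecIso (CommRingCat.of k)).inv ≫ T.hom.appTop).hom
    have hg : IsUnit (Polynomial.eval₂RingHom str (Red.gmFn (g ≫ e.hom)) Polynomial.X) := by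
      simpa using Gm.isUnit_gmFn (g ≫ e.hom)
    obtain ⟨h, hh⟩ := exists_hom_to_sp C T (IsLocalization.Away.lift Polynomial.X hg) (RingHom.ext fun c => by
      rw [RingHom.comp_apply, IsScalarTower.algebraMap_apply k (Polynomial k) C,
        IsLocalization.Away.lift_eq]
      simp [str, Polynomial.algebraMap_eq])
    refine ⟨h, (cancel_mono e.hom).1 (Gm.gmFn_injective ?_)⟩
    simp only [pt, Category.assoc, Iso.inv_hom_id, Category.comp_id]
    rw [Gm.gmFn_comp, Gm.gmFn_gmPt]
    refine (hh _).trans ?_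
    simp [IsUnit.unit_spec, C, IsLocalization.Away.lift_eq]
  · intro L _ _ g
    have ht : co L g ≠ 0 := IsUnit.ne_zero ((Gm.isUnit_gmFn (g ≫ e.hom)).map (coord (k := k) L))
    refine ⟨lineX L * algebraMap L _ (co L g)⁻¹, Ideal.mul_mem_right _ _ (lineX_mem L),
      mul_ne_zero (lineX_ne_zero L) ((map_ne_zero_iff _ (RingHom.injective _)).2 (inv_ne_zero ht)),
      fun iot' σ' hiot hσ => hinj _ ?_⟩
    rw [hmul, hnat, hnat, hnat, hco, IsUnit.unit_spec, map_inv₀, map_inv₀, hiot, hσ, map_mul, _root_.mul_inv,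
      ← IsScalarTower.algebraMap_apply, map_inv₀, _root_.inv_inv, IsScalarTower.toAlgHom_apply, mul_comm]

/-- The case of a one-dimensional group. Let k be a field, X a proper k-scheme having a k-rational
point, and G a k-group scheme isomorphic, as a k-group scheme, to the additive group or to the
multiplicative group over k. Then every action of G on X fixes some k-rational point of X: there is
a k-point x with g · x = x for all points g of G with values in any k-scheme. (This is the
one-dimensional case of the fixed point property of k-split solvable groups acting on proper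
k-schemes with a rational point, to which the general case reduces by induction along a composition
series.) -/
theorem result (k : Type u) [Field k]
    (G X : Over (Spec (CommRingCat.of k))) [GrpObj G]
    (hG : Nonempty (Grp.mk G ≅ Grp.mk (Red.Ga (Spec (CommRingCat.of k)))) ∨ Nonempty (Grp.mk G ≅ Grp.mk (Red.Gm (Spec (CommRingCat.of k)))))
    [IsProper X.hom] (x₀ : 𝟙_ (Over (Spec (CommRingCat.of k))) ⟶ X) (a : AlgGrp.Action G X) :
    ∃ x : 𝟙_ (Over (Spec (CommRingCat.of k))) ⟶ X, a.IsFixedPt x := by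
  rcases hG with ⟨⟨e⟩⟩ | ⟨⟨e⟩⟩
  · let e' : G ≅ Red.Ga (Spec (CommRingCat.of k)) := (Grp.forget _).mapIso e
    haveI : IsMonHom e'.hom := e.hom.hom.isMonHom_hom
    exact exists_fixedPt_Ga e' x₀ a
  · let e' : G ≅ Red.Gm (Spec (CommRingCat.of k)) := (Grp.forget _).mapIso e
    haveI : IsMonHom e'.hom := e.hom.hom.isMonHom_hom
    exact exists_fixedPt_Gm e' x₀ a

end Groth.Agent.S15592
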