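import Groth.Statements.S15593

import Groth.Agent.Lib.GrpSch.GenericIso
import Groth.Agent.Lib.GrpSch.SmoothReduced
import Groth.Agent.Lib.GrpSch.Translate
import Groth.Agent.Lib.SchTopo.Closure

set_option autoImplicit false
universe u
open CategoryTheory MonoidalCategory CartesianMonoidalCategory MonObj GrpObj AlgebraicGeometry
open AlgGrp Groth.Agent.Lib.GrpSch

namespace Groth.Agent.S15593

theorem aux (k : Type u) [Field k] [IsAlgClosed k]
    (G G' : Over (Spec (CommRingCat.of k))) [GrpObj G] [GrpObj G']
    [Smooth G.hom] [QuasiCompact G.hom] [Smooth G'.hom] [QuasiCompact G'.hom]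
    (f : G ⟶ G') [IsMonHom f] [Mono f] [Surjective f.left] : IsIso f := by
  have : Mono f.left := (Over.forget _).map_mono f
  have : IsLocallyNoetherian G'.left := LocallyOfFiniteType.isLocallyNoetherian G'.hom
  have : IsReduced G'.left := isReduced_of_smooth_field G'.hom
  have : LocallyOfFiniteType (f.left ≫ G'.hom) := by rw [Over.w f]; infer_instance
  have : LocallyOfFiniteType f.left := locallyOfFiniteType_of_comp f.left G'.hom
  obtain ⟨s⟩ : Nonempty ↥(Spec (CommRingCat.of k)) := inferInstance
  obtain ⟨ξ, hξ, -⟩ := Groth.Agent.Lib.SchTopo.Closure.exists_maximal_specializes G'.left (η[G'].left s)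
  obtain ⟨U, hU, hiso⟩ := exists_isIso_restrict_of_mono f.left ξ
    (isField_stalk_of_closure_mem_irreducibleComponents _ _ hξ) (f.left.surjective ξ)
  have h : (MorphismProperty.isomorphisms Scheme.{u}) f.left :=
    forall_of_open_of_surjective f U ⟨ξ, hU⟩ hiso
  have : IsIso ((Over.forget _).map f) := h
  exact isIso_of_reflects_iso f (Over.forget _)

/-- Let k be a field and f : G ⟶ G' a homomorphism of smooth k-group schemes of finite type. If f is
surjective (on underlying topological spaces) and has trivial kernel, that is, f is a monomorphism,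
then f is an isomorphism. No flatness of f is assumed. -/
theorem result (k : Type u) [Field k]
    (G G' : Over (Spec (CommRingCat.of k))) [GrpObj G] [GrpObj G']
    [Smooth G.hom] [QuasiCompact G.hom] [Smooth G'.hom] [QuasiCompact G'.hom]
    (f : G ⟶ G') [IsMonHom f] [Mono f] [Surjective f.left] : IsIso f := by
  let e := extBase k (AlgebraicClosure k)
  have : Mono ((Over.pullback e).map f) := inferInstance
  have : Surjective ((Over.pullback e).map f).left := bc_map_left_of e f inferInstance
  have : Smooth (Red.bc e G).hom := bc_hom_of e G inferInstance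
  have : Smooth (Red.bc e G').hom := bc_hom_of e G' inferInstance
  have : QuasiCompact (Red.bc e G).hom := bc_hom_of e G inferInstance
  have : QuasiCompact (Red.bc e G').hom := bc_hom_of e G' inferInstance
  have : IsIso ((Over.pullback e).map f) := aux (AlgebraicClosure k) _ _ ((Over.pullback e).map f)
  exact isIso_of_isIso_bc_map k (AlgebraicClosure k) f

end Groth.Agent.S15593
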