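import Groth.Statements.S15594
import Mathlib.RingTheory.TensorProduct.Free
import Mathlib.LinearAlgebra.TensorProduct.RightExactness
import Mathlib.LinearAlgebra.FiniteDimensional.Basic
import Mathlib.LinearAlgebra.Basis.VectorSpace

set_option autoImplicit false
universe u
open TensorProduct
open AGF

namespace Groth.Agent.S15594

/-- Affine form. Let k ⊆ K be a field extension, A a commutative k-algebra and S a set of k-algebra
homomorphisms A → k (rational points of Spec A). The ideal ⋂_{σ ∈ S} ker σ cuts out the Zariski
closure of S with its reduced structure, and its extension to K ⊗_k A equals ⋂_{σ ∈ S} ker σ_K,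
where σ_K : K ⊗_k A → K is the K-algebra map induced by σ. In words: the closure of a set of
rational points is formed compatibly with extension of the ground field. (The published statement is
for schemes locally of finite type; this affine row assumes no finiteness, which the argument does
not use.) -/
theorem result (k K A : Type u) [Field k] [Field K] [Algebra k K]
    [CommRing A] [Algebra k A] (S : Set (A →ₐ[k] k)) :
    Ideal.map (Algebra.TensorProduct.includeRight : A →ₐ[k] K ⊗[k] A) (⨅ σ ∈ S, RingHom.ker σ) =
      ⨅ σ ∈ S, RingHom.ker ((Algebra.TensorProduct.rid k K K).toAlgHom.comp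
        (Algebra.TensorProduct.map (AlgHom.id K K) σ)) := by
  classical
  refine le_antisymm (Ideal.map_le_iff_le_comap.mpr fun a ha => ?_) fun x hx => ?_
  · simp only [Ideal.mem_comap, Ideal.mem_iInf, RingHom.mem_ker] at ha ⊢
    intro σ hσ
    simp [ha σ hσ]
  · let b := Module.Free.chooseBasis k K
    let e := TensorProduct.equivFinsuppOfBasisLeft (N := A) b
    have key : ∀ (y : K ⊗[k] A) (σ : A →ₐ[k] k),
        (Algebra.TensorProduct.rid k K K) ((Algebra.TensorProduct.map (AlgHom.id K K) σ) y) =
          (e y).sum fun i a => σ a • b i := by
      intro y σ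
      induction y using TensorProduct.induction_on with
      | zero => simp
      | tmul c a =>
        rw [Algebra.TensorProduct.map_tmul, AlgHom.id_apply, Algebra.TensorProduct.rid_tmul,
          TensorProduct.equivFinsuppOfBasisLeft_apply_tmul, Finsupp.sum_mapRange_index (by simp)]
        simp only [map_smul, smul_eq_mul, mul_comm (_ : k) (σ a), mul_smul, ← Finsupp.smul_sum]
        conv_lhs => rw [← b.linearCombination_repr c, Finsupp.linearCombination_apply]
      | add y z hy hz =>
        rw [map_add, map_add, map_add, hy, hz, Finsupp.sum_add_index'] <;> simp [add_smul]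
    have hcoef : ∀ i, e x i ∈ ⨅ σ ∈ S, RingHom.ker σ := by
      intro i
      simp only [Ideal.mem_iInf, RingHom.mem_ker] at hx ⊢
      intro σ hσ
      have h := key x σ
      have hx' := hx σ hσ
      simp only [AlgHom.coe_comp, Function.comp_apply] at hx'
      erw [hx'] at h
      have h2 : Finsupp.linearCombination k b ((e x).mapRange σ (map_zero σ)) = 0 := by
        rw [Finsupp.linearCombination_apply, Finsupp.sum_mapRange_index (by simp)]
        exact h.symm
      have := DFunLike.congr_fun (linearIndependent_iff.mp b.linearIndependent _ h2) i
      simpa using this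
    rw [← e.symm_apply_apply x, TensorProduct.equivFinsuppOfBasisLeft_symm_apply]
    refine Submodule.sum_mem _ fun i _ => ?_
    show b i ⊗ₜ[k] e x i ∈ _
    rw [show b i ⊗ₜ[k] e x i = (b i ⊗ₜ[k] (1 : A)) * ((1 : K) ⊗ₜ[k] e x i) by simp]
    exact Ideal.mul_mem_left _ _ (Ideal.mem_map_of_mem _ (hcoef i))

end Groth.Agent.S15594
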