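import Groth.Statements.S15595
import Mathlib
import Groth.Agent.Lib.Regular.Descent

set_option autoImplicit false
universe u
open TensorProduct
attribute [local instance] RingHom.ker_isPrime
open CAlg

namespace Groth.Agent.S15595

/-- Let k ⊆ K be a field extension and A a Noetherian local k-algebra with residue field k, recorded by
a k-algebra map π : A → k whose kernel is the maximal ideal. Let π_K : K ⊗_k A → K be the induced
K-algebra map, m' its kernel, and A' the localization of K ⊗_k A at m'. Assume A' is Noetherian.
Then A is a regular local ring if and only if A' is a regular local ring. -/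
theorem result (k K A : Type u) [Field k] [Field K]
    [Algebra k K] [CommRing A] [Algebra k A] [IsLocalRing A] [IsNoetherianRing A]
    (π : A →ₐ[k] k) (hπ : RingHom.ker π = IsLocalRing.maximalIdeal A)
    [IsNoetherianRing (Localization.AtPrime (RingHom.ker
      ((Algebra.TensorProduct.rid k K K).toAlgHom.comp (Algebra.TensorProduct.map (AlgHom.id K K) π))))] :
    IsRegularLocalRing A ↔ IsRegularLocalRing (Localization.AtPrime (RingHom.ker
      ((Algebra.TensorProduct.rid k K K).toAlgHom.comp (Algebra.TensorProduct.map (AlgHom.id K K) π)))) := by
  let B := K ⊗[k] A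
  let πK : B →ₐ[K] K :=
    (Algebra.TensorProduct.rid k K K).toAlgHom.comp (Algebra.TensorProduct.map (AlgHom.id K K) π)
  letI : Algebra A B := Algebra.TensorProduct.rightAlgebra
  haveI : Module.Flat A B := Module.Flat.of_linearEquiv
    (Algebra.TensorProduct.commRight k A K).toLinearEquiv.symm
  let m' := RingHom.ker πK
  have hval : ∀ a : A, πK (algebraMap A B a) = algebraMap k K (π a) := fun a => by
    show (Algebra.TensorProduct.rid k K K) ((Algebra.TensorProduct.map (AlgHom.id K K) π) (1 ⊗ₜ a)) = _
    simp [Algebra.algebraMap_eq_smul_one]
  have hdec : ∀ z : B, z - algebraMap K B (πK z) ∈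
      (IsLocalRing.maximalIdeal A).map (algebraMap A B) := by
    intro z
    induction z using TensorProduct.induction_on with
    | zero => simp
    | add x y hx hy =>
      rw [map_add, map_add, add_sub_add_comm]; exact add_mem hx hy
    | tmul c a =>
      have h : a - algebraMap k A (π a) ∈ IsLocalRing.maximalIdeal A := by
        rw [← hπ, RingHom.mem_ker, map_sub, AlgHom.commutes, Algebra.algebraMap_self, RingHom.id_apply,
          sub_self]
      have h2 : c ⊗ₜ[k] a - algebraMap K B (πK (c ⊗ₜ a)) =
          (c ⊗ₜ[k] 1) * algebraMap A B (a - algebraMap k A (π a)) := by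
        rw [map_sub, mul_sub, Algebra.TensorProduct.right_algebraMap_apply,
          Algebra.TensorProduct.right_algebraMap_apply, Algebra.TensorProduct.tmul_mul_tmul,
          Algebra.TensorProduct.tmul_mul_tmul, mul_one, one_mul, one_mul,
          show πK (c ⊗ₜ[k] a) = π a • c by
            show (Algebra.TensorProduct.rid k K K) (c ⊗ₜ π a) = _
            simp,
          Algebra.TensorProduct.algebraMap_apply, Algebra.algebraMap_self, RingHom.id_apply,
          TensorProduct.smul_tmul, Algebra.algebraMap_eq_smul_one]
      rw [h2]
      exact Ideal.mul_mem_left _ _ (Ideal.mem_map_of_mem _ h)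
  have hle : (IsLocalRing.maximalIdeal A).map (algebraMap A B) = m' := by
    refine le_antisymm (Ideal.map_le_iff_le_comap.2 fun a ha => ?_) fun z hz => ?_
    · rw [← hπ, RingHom.mem_ker] at ha
      show πK (algebraMap A B a) = 0
      rw [hval, ha, map_zero]
    · have h := hdec z
      rwa [show πK z = 0 from hz, map_zero, sub_zero] at h
  change IsRegularLocalRing A ↔ IsRegularLocalRing (Localization.AtPrime m')
  haveI : IsNoetherianRing (Localization.AtPrime m') := ‹_›
  let A' := Localization.AtPrime m'
  haveI : Module.Flat B A' := IsLocalization.flat A' m'.primeCompl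
  haveI : Module.Flat A A' := Module.Flat.trans A B A'
  have hmax : (IsLocalRing.maximalIdeal A).map (algebraMap A A') = IsLocalRing.maximalIdeal A' := by
    rw [IsScalarTower.algebraMap_eq A B A', ← Ideal.map_map, hle]
    exact Localization.AtPrime.map_eq_maximalIdeal
  haveI : IsLocalHom (algebraMap A A') :=
    ((IsLocalRing.local_hom_TFAE _).out 0 2 rfl rfl).mpr hmax.le
  exact Groth.Agent.Lib.Regular.Descent.isRegularLocalRing_iff A' hmax

end Groth.Agent.S15595
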