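import Groth.Statements.S15596

import Groth.Agent.Lib.GrpSch.Translate

set_option autoImplicit false
universe u
open CategoryTheory MonoidalCategory CartesianMonoidalCategory MonObj GrpObj AlgebraicGeometry
open AlgGrp

open Groth.Agent.Lib.GrpSch

namespace Groth.Agent.S15596

/-- Let k be an algebraically closed field, H a smooth k-group scheme of finite type, and U a dense open
subset of H. Then every k-rational point h of H is of the form u₂ · u₁⁻¹ for k-rational points u₁,
u₂ of H whose underlying points lie in U. -/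
theorem result (k : Type u) [Field k] [IsAlgClosed k]
    (H : Over (Spec (CommRingCat.of k))) [GrpObj H] [Smooth H.hom] [QuasiCompact H.hom]
    (U : H.left.Opens) (hU : Dense (U : Set ↥H.left)) (h : 𝟙_ (Over (Spec (CommRingCat.of k))) ⟶ H) :
    ∃ u₁ u₂ : 𝟙_ (Over (Spec (CommRingCat.of k))) ⟶ H,
      u₁.left.base (IsLocalRing.closedPoint k) ∈ U ∧ u₂.left.base (IsLocalRing.closedPoint k) ∈ U ∧
        h = u₂ * u₁⁻¹ := by
  have : JacobsonSpace H.left := LocallyOfFiniteType.jacobsonSpace H.hom
  let t := (translate (regularAction H) h).hom.left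
  have : IsIso t := ((Over.forget _).mapIso (translate (regularAction H) h)).isIso_hom
  have hne : ((U ⊓ t ⁻¹ᵁ U : H.left.Opens) : Set H.left).Nonempty := by
    obtain ⟨w, hw⟩ := (hU.nonempty (h := ⟨h.left (IsLocalRing.closedPoint k)⟩))
    obtain ⟨v, rfl⟩ := t.surjective w
    rw [TopologicalSpace.Opens.coe_inf, Set.inter_comm]
    exact hU.inter_open_nonempty _ (t ⁻¹ᵁ U).2 ⟨v, hw⟩
  obtain ⟨v, hv, hvc⟩ := nonempty_inter_closedPoints hne (U ⊓ t ⁻¹ᵁ U).2.isLocallyClosed
  let pv : 𝟙_ (Over (Spec (CommRingCat.of k))) ⟶ H :=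
    Over.homMk (pointOfClosedPoint H.hom v hvc) (pointOfClosedPoint_comp H.hom v hvc)
  have e2 : pv.left (IsLocalRing.closedPoint k) = v := pointOfClosedPoint_apply H.hom v hvc _
  refine ⟨pv, h * pv, ?_, ?_, by group⟩
  · rw [show pv.left.base (IsLocalRing.closedPoint k) = v from e2]
    exact hv.1
  · rw [← translate_regular_apply]
    change t (pv.left (IsLocalRing.closedPoint k)) ∈ U
    rw [e2]
    exact hv.2

end Groth.Agent.S15596
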