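import Groth.Statements.S15597
import Groth.Agent.H66.SemisimplePoints
import Groth.Agent.Lib.HopfTransfer.Basic

set_option autoImplicit false
universe u v
open HopfRep

namespace Groth.Agent.S15597

/-- Let k be an algebraically closed field and G = Spec A a smooth connected affine k-group, that is, A
is a finitely generated commutative Hopf algebra over k which is reduced and has no idempotents
other than 0 and 1; commutativity of G is not assumed. If every k-point of G is semisimple, in the
sense that it acts semisimply in every finite-dimensional A-comodule, then G is a torus: A is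
spanned over k by its group-like elements. (The published statement is over an arbitrary field, with
the hypothesis on the points over an algebraic closure; this row is the algebraically closed case.) -/
theorem result (k : Type u) (A : Type v) [Field k]
    [IsAlgClosed k] [CommRing A] [HopfAlgebra k A] [Algebra.FiniteType k A] [IsReduced A]
    (hconn : ∀ e : A, IsIdempotentElem e → e = 0 ∨ e = 1)
    (hss : ∀ (g : A →ₐ[k] k) (V : Type v) [AddCommGroup V] [Module k V] [HopfRep.Comod k A V],
      Module.Finite k V → Module.End.IsSemisimple (HopfRep.Comod.act k A V g)) :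
    HopfRep.IsDiagonalizable k A := by
  classical
  obtain ⟨n, q, hq⟩ := Algebra.FiniteType.iff_quotient_mvPolynomial''.1 (inferInstance : Algebra.FiniteType k A)
  haveI : Small.{u} A := small_of_surjective hq
  let e : Shrink.{u} A ≃ₐ[k] A := Shrink.algEquiv k A
  letI : HopfAlgebra k (Shrink.{u} A) := Lib.HopfTransfer.hopfAlgebra e
  haveI : Algebra.FiniteType k (Shrink.{u} A) := Algebra.FiniteType.of_surjective e.symm.toAlgHom e.symm.surjective
  haveI : IsReduced (Shrink.{u} A) := isReduced_of_injective e.toRingEquiv.toRingHom e.injective
  let E := Lib.HopfTransfer.bialgEquiv e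
  haveI : IsDomain (Shrink.{u} A) := H66.Vec.isDomain_of_noIdem (k := k) fun x hx => by
    rcases hconn (e x) (hx.map e) with h | h
    · exact Or.inl (e.injective (h.trans (map_zero e).symm))
    · exact Or.inr (e.injective (h.trans (map_one e).symm))
  have hd : HopfRep.IsDiagonalizable k (Shrink.{u} A) := by
    refine H66.SemisimplePoints.isDiagonalizable_of_semisimple_points fun g V _ _ _ hV => ?_
    letI : HopfRep.Comod k A V := H66.Trigon.pushComod (E : Shrink.{u} A →ₐc[k] A).toCoalgHom V
    haveI : Small.{v} V := Lib.Comod.Reynolds.small_of_finite (k := k) A V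
    let f : V ≃ₗ[k] Shrink.{v} V := (Shrink.linearEquiv k V).symm
    letI : HopfRep.Comod k A (Shrink.{v} V) := Lib.Comod.Basic.equivComod f
    haveI : Module.Finite k (Shrink.{v} V) := Module.Finite.equiv f
    refine (LinearEquiv.isSemisimple_iff (HopfRep.Comod.act k (Shrink.{u} A) V g)
      (HopfRep.Comod.act k A (Shrink.{v} V) (g.comp e.symm.toAlgHom)) f ?_).2 (hss _ _ inferInstance)
    refine LinearMap.ext fun x => ?_
    show f (Lib.Comod.Basic.dact V g.toLinearMap x) = Lib.Comod.Basic.dact _ (g.comp e.symm.toAlgHom).toLinearMap (f x)
    have h1 := Lib.Comod.Basic.map_dact (Lib.Comod.Basic.isComodHom_equiv (A := A) f)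
      (g.comp e.symm.toAlgHom).toLinearMap x
    rw [H66.Trigon.dact_pushComod] at h1
    simp only [LinearEquiv.coe_coe] at h1
    rw [← h1]
    congr 3
    exact LinearMap.ext fun a => (congrArg g (e.symm_apply_apply a)).symm
  rw [HopfRep.IsDiagonalizable, eq_top_iff]
  intro a _
  obtain ⟨x, rfl⟩ := e.surjective a
  have hx : x ∈ Submodule.span k {b : Shrink.{u} A | IsGroupLikeElem k b} := hd ▸ Submodule.mem_top
  have h2 := Submodule.mem_map_of_mem (f := e.toLinearMap) hx
  rw [Submodule.map_span] at h2
  refine Submodule.span_mono ?_ h2
  rintro _ ⟨b, hb, rfl⟩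
  exact hb.map E

end Groth.Agent.S15597
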