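import Groth.Statements.S15598

import Groth.Agent.Lib.GrpSch.OrbitSmooth
import Groth.Agent.Lib.GrpSch.GeomPoints
import Groth.Agent.Lib.GrpSch.Orbit

set_option autoImplicit false
universe u
open CategoryTheory MonoidalCategory CartesianMonoidalCategory MonObj GrpObj AlgebraicGeometry
open AlgGrp

namespace Groth.Agent.S15598

open Groth.Agent.Lib.GrpSch Limits in
theorem translate_image_connectedComponent {k : Type u} [Field k] (G : Over (Spec (CommRingCat.of k))) [GrpObj G]
    (g : 𝟙_ (Over (Spec (CommRingCat.of k))) ⟶ G) (x : G.left) :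
    (translate (regularAction G) g).hom.left '' connectedComponent x =
      connectedComponent ((translate (regularAction G) g).hom.left x) := by
  let e : G.left ≅ G.left := (Over.forget _).mapIso (translate (regularAction G) g)
  have h := e.hom.homeomorph.image_connectedComponentIn (Set.mem_univ x)
  simp only [Set.image_univ, EquivLike.range_eq_univ, connectedComponentIn_univ] at h
  exact h

theorem isOpen_connectedComponent_of_noetherian {α : Type*} [TopologicalSpace α]
    [TopologicalSpace.NoetherianSpace α] (x : α) : IsOpen (connectedComponent x) := by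
  have heq : (connectedComponent x)ᶜ =
      ⋃ Z ∈ {Z ∈ irreducibleComponents α | ¬ Z ⊆ connectedComponent x}, Z := by
    ext y
    simp only [Set.mem_compl_iff, Set.mem_iUnion, Set.mem_ofPred_eq, exists_prop]
    refine ⟨fun hy => ⟨irreducibleComponent y, ⟨irreducibleComponent_mem_irreducibleComponents y,
      fun h => hy (h mem_irreducibleComponent)⟩, mem_irreducibleComponent⟩, ?_⟩
    rintro ⟨Z, ⟨hZ, hn⟩, hyZ⟩ hy
    exact hn (connectedComponent_eq hy ▸ hZ.1.isConnected.isPreconnected.subset_connectedComponent hyZ)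
  rw [← isClosed_compl_iff, heq]
  exact (TopologicalSpace.NoetherianSpace.finite_irreducibleComponents.subset (Set.sep_subset _ _)).isClosed_biUnion
    fun Z hZ => isClosed_of_mem_irreducibleComponents Z hZ.1
/-- Let k be an algebraically closed field, G a k-group scheme of finite type, and X a smooth connected
k-scheme with an action of G. Suppose that for some k-point x₀ of X the orbit map g ↦ g · x₀ from G
to X is surjective, and that the stabilizer of x₀, a subgroup scheme H ⟶ G whose points are exactly
the points g of G with g · x₀ = x₀, is connected. Then G is connected. (Stated over an algebraically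
closed field, to which the general case reduces since a k-group scheme of finite type is connected
exactly when it is geometrically connected.) -/
theorem result (k : Type u) [Field k] [IsAlgClosed k]
    (G X : Over (Spec (CommRingCat.of k))) [GrpObj G] [LocallyOfFiniteType G.hom] [QuasiCompact G.hom]
    [Smooth X.hom] [ConnectedSpace ↥X.left] (a : AlgGrp.Action G X) (x₀ : 𝟙_ (Over (Spec (CommRingCat.of k))) ⟶ X)
    (hsurj : Surjective (a.orbitMap x₀).left)
    (H : Over (Spec (CommRingCat.of k))) [GrpObj H] (i : H ⟶ G) [IsMonHom i] [Mono i]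
    (hH : ∀ (T : Over (Spec (CommRingCat.of k))) (g : T ⟶ G), (∃ h : T ⟶ H, h ≫ i = g) ↔ g ≫ a.orbitMap x₀ = toUnit T ≫ x₀)
    [ConnectedSpace ↥H.left] : ConnectedSpace ↥G.left := by
  obtain ⟨s⟩ : Nonempty ↥(Spec (CommRingCat.of k)) := inferInstance
  have : LocallyOfFiniteType X.hom := inferInstance
  have : IsLocallyNoetherian X.left := LocallyOfFiniteType.isLocallyNoetherian X.hom
  have : IsLocallyNoetherian G.left := LocallyOfFiniteType.isLocallyNoetherian G.hom
  have : CompactSpace G.left := QuasiCompact.compactSpace_of_compactSpace G.hom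
  have : IsNoetherian G.left := ⟨⟩
  let o := a.orbitMap x₀
  have : CompactSpace X.left := ⟨by
    rw [← Set.range_eq_univ.2 o.left.surjective]; exact isCompact_range o.left.continuous⟩
  have : IsNoetherian X.left := ⟨⟩
  have : JacobsonSpace X.left := LocallyOfFiniteType.jacobsonSpace X.hom
  have : JacobsonSpace G.left := LocallyOfFiniteType.jacobsonSpace G.hom
  have : LocallyOfFiniteType (o.left ≫ X.hom) := by rw [Over.w]; infer_instance
  have : LocallyOfFiniteType o.left := locallyOfFiniteType_of_comp o.left X.hom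
  have : QuasiCompact o.left := inferInstance
  let pG : ∀ (c : G.left), c ∈ closedPoints G.left → (𝟙_ (Over (Spec (CommRingCat.of k))) ⟶ G) := fun c hc =>
    Over.homMk (pointOfClosedPoint G.hom c hc) (pointOfClosedPoint_comp G.hom c hc)
  have hpG : ∀ c hc, (pG c hc).left s = c := fun c hc => pointOfClosedPoint_apply G.hom c hc s
  let e₀ := η[G].left s
  -- translating by a rational point
  have hτ : ∀ (g p : 𝟙_ (Over (Spec (CommRingCat.of k))) ⟶ G),
      (Groth.Agent.Lib.GrpSch.translate (Groth.Agent.Lib.GrpSch.regularAction G) g).hom.left (p.left s) = (g * p).left s := fun g p => by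
    rw [← Groth.Agent.Lib.GrpSch.translate_regular_apply g p, Over.comp_left, Scheme.Hom.comp_apply]
  have hmem : ∀ (g p : 𝟙_ (Over (Spec (CommRingCat.of k))) ⟶ G), p.left s ∈ connectedComponent e₀ →
      (g * p).left s ∈ connectedComponent (g.left s) := fun g p hp => by
    rw [← hτ g p]
    have h1 := Set.mem_image_of_mem (Groth.Agent.Lib.GrpSch.translate (Groth.Agent.Lib.GrpSch.regularAction G) g).hom.left hp
    rw [translate_image_connectedComponent, hτ g η[G]] at h1
    rwa [← show (1 : 𝟙_ (Over (Spec (CommRingCat.of k))) ⟶ G) = η[G] by simp [Hom.one_def], _root_.mul_one] at h1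
  -- two rational points with the same image lie in the same component
  have hsame : ∀ g₁ g₂ : 𝟙_ (Over (Spec (CommRingCat.of k))) ⟶ G, g₁ ≫ o = g₂ ≫ o →
      g₂.left s ∈ connectedComponent (g₁.left s) := fun g₁ g₂ h => by
    obtain ⟨p, hp⟩ := (hH _ (g₁⁻¹ * g₂)).2 (by
      have h' := Groth.Agent.Lib.GrpSch.comp_orbit a g₁ x₀
      rw [Groth.Agent.Lib.GrpSch.mul_orbit, ← h, h', Groth.Agent.Lib.GrpSch.act_inv_act])
    have hc : (g₁⁻¹ * g₂).left s ∈ connectedComponent e₀ := by
      have hr := (isPreconnected_range i.left.continuous).subset_connectedComponent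
        (x := e₀) ⟨η[H].left s, by rw [← Scheme.Hom.comp_apply, ← Over.comp_left, IsMonHom.one_hom i]⟩
      exact hr ⟨p.left s, by rw [← Scheme.Hom.comp_apply, ← Over.comp_left, hp]⟩
    simpa using hmem g₁ _ hc
  let C₀ := connectedComponent e₀
  have hC₀ : IsClopen C₀ := ⟨isClosed_connectedComponent, isOpen_connectedComponent_of_noetherian _⟩
  have hdisj : ∀ w₁ w₂ : G.left, w₁ ∈ C₀ → w₂ ∉ C₀ → o.left w₁ ≠ o.left w₂ := by
    intro w₁ w₂ h₁ h₂ heq
    obtain ⟨z, hz₁, hz₂⟩ := Scheme.Pullback.exists_preimage_pullback (f := o.left) (g := o.left) w₁ w₂ heq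
    let q : Limits.pullback o.left o.left ⟶ Spec (CommRingCat.of k) := Limits.pullback.fst _ _ ≫ G.hom
    have : JacobsonSpace ↑(Limits.pullback o.left o.left) := LocallyOfFiniteType.jacobsonSpace q
    obtain ⟨c, ⟨hc₁, hc₂⟩, hc⟩ := nonempty_inter_closedPoints
      (Z := Limits.pullback.fst o.left o.left ⁻¹' C₀ ∩ Limits.pullback.snd o.left o.left ⁻¹' C₀ᶜ)
      ⟨z, by simpa [hz₁] using h₁, by simpa [hz₂] using h₂⟩
      ((hC₀.2.preimage (Limits.pullback.fst o.left o.left).continuous).inter
        (hC₀.1.isOpen_compl.preimage (Limits.pullback.snd o.left o.left).continuous)).isLocallyClosed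
    let r := pointOfClosedPoint q c hc
    let g₁ : 𝟙_ (Over (Spec (CommRingCat.of k))) ⟶ G := Over.homMk (r ≫ Limits.pullback.fst _ _) (by
      rw [Category.assoc]; exact pointOfClosedPoint_comp q c hc)
    let g₂ : 𝟙_ (Over (Spec (CommRingCat.of k))) ⟶ G := Over.homMk (r ≫ Limits.pullback.snd _ _) (by
      rw [Category.assoc, ← Over.w o, ← Limits.pullback.condition_assoc, Over.w]
      exact pointOfClosedPoint_comp q c hc)
    have e₁ : g₁.left s = Limits.pullback.fst o.left o.left c := by
      change (r ≫ Limits.pullback.fst _ _) s = _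
      exact (Scheme.Hom.comp_apply _ _ _).trans (congrArg _ (pointOfClosedPoint_apply q c hc s))
    have e₂ : g₂.left s = Limits.pullback.snd o.left o.left c := by
      change (r ≫ Limits.pullback.snd _ _) s = _
      exact (Scheme.Hom.comp_apply _ _ _).trans (congrArg _ (pointOfClosedPoint_apply q c hc s))
    refine hc₂ ?_
    have h12 := hsame g₁ g₂ (Over.OverMorphism.ext (by
      change (r ≫ _) ≫ o.left = (r ≫ _) ≫ o.left
      rw [Category.assoc, Category.assoc, Limits.pullback.condition]))
    rw [← e₂]
    change g₂.left s ∈ C₀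
    change g₂.left s ∈ connectedComponent e₀
    exact (connectedComponent_eq (show g₁.left s ∈ connectedComponent e₀ by rw [e₁]; exact hc₁)).symm ▸ h12
  -- an open set inside the image of a component
  obtain ⟨Z, hZ⟩ : ∃ Z, Z ∈ irreducibleComponents X.left :=
    ⟨_, irreducibleComponent_mem_irreducibleComponents (o.left e₀)⟩
  let O : Set X.left := (⋃ Y ∈ irreducibleComponents X.left \ {Z}, Y)ᶜ
  have hO : IsOpen O := ((TopologicalSpace.NoetherianSpace.finite_irreducibleComponents.sdiff).isClosed_biUnion
    fun Y hY => isClosed_of_mem_irreducibleComponents Y hY.1).isOpen_compl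
  have hOZ : O ⊆ Z := fun x hx => by
    by_contra hxZ
    exact hx (Set.mem_biUnion (x := irreducibleComponent x)
      ⟨irreducibleComponent_mem_irreducibleComponents x, fun h => hxZ (Set.mem_singleton_iff.1 h ▸ mem_irreducibleComponent)⟩
      mem_irreducibleComponent)
  obtain ⟨w, hw⟩ := o.left.surjective hZ.1.genericPoint
  let A := connectedComponent w
  have hA : Topology.IsConstructible (o.left '' A) :=
    o.left.isConstructible_image
      (isClosed_connectedComponent.isCompact.isConstructible (isOpen_connectedComponent_of_noetherian _))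
  obtain ⟨L, hL, hηL, hLA⟩ := Groth.Agent.Lib.GrpSch.exists_isLocallyClosed_subset hA _ ⟨w, mem_connectedComponent, hw⟩
  obtain ⟨U₁, F₁, hU₁, hF₁, rfl⟩ := hL
  have hZF : Z ⊆ F₁ := by
    rw [← hZ.1.closure_genericPoint (isClosed_of_mem_irreducibleComponents _ hZ)]
    exact closure_minimal (Set.singleton_subset_iff.2 hηL.2) hF₁
  have hηO : hZ.1.genericPoint ∈ O := by
    intro hmem
    simp only [Set.mem_iUnion] at hmem
    obtain ⟨Y, ⟨hY, hYZ⟩, hηY⟩ := hmem
    have hle : Z ⊆ Y := by
      rw [← hZ.1.closure_genericPoint (isClosed_of_mem_irreducibleComponents _ hZ)]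
      exact closure_minimal (Set.singleton_subset_iff.2 hηY) (isClosed_of_mem_irreducibleComponents _ hY)
    exact hYZ (Set.mem_singleton_iff.2 ((hZ.2 hY.1 hle).antisymm hle))
  let U := O ∩ U₁
  have hU : IsOpen U := hO.inter hU₁
  have hUA : U ⊆ o.left '' A := fun x hx => hLA ⟨hx.2, hZF (hOZ hx.1)⟩
  obtain ⟨u, huU, huc⟩ := nonempty_inter_closedPoints (Z := U) ⟨_, hηO, hηL.1⟩ hU.isLocallyClosed
  obtain ⟨w', hw', hwu⟩ := hUA huU
  obtain ⟨c', ⟨hc'A, hc'u⟩, hc'⟩ := nonempty_inter_closedPoints (Z := A ∩ o.left ⁻¹' {u}) ⟨w', hw', hwu⟩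
    ((isOpen_connectedComponent_of_noetherian _).isLocallyClosed.inter
      (((mem_closedPoints_iff).1 huc).preimage o.left.continuous).isLocallyClosed)
  let g' := pG c' hc'
  have key : ∀ c ∈ closedPoints X.left, c ∈ interior (o.left '' C₀) ∪ interior (o.left '' C₀ᶜ) := by
    intro c hc
    let pc : 𝟙_ (Over (Spec (CommRingCat.of k))) ⟶ X :=
      Over.homMk (pointOfClosedPoint X.hom c hc) (pointOfClosedPoint_comp X.hom c hc)
    obtain ⟨g, hg⟩ := Groth.Agent.Lib.GrpSch.exists_lift_point o pc
    let h := g * g'⁻¹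
    let τ := (Groth.Agent.Lib.GrpSch.translate (Groth.Agent.Lib.GrpSch.regularAction G) h).hom.left
    let σ := (Groth.Agent.Lib.GrpSch.translate a h).hom.left
    have hcomm : ∀ x, o.left (τ x) = σ (o.left x) := fun x => by
      rw [← Scheme.Hom.comp_apply, ← Over.comp_left, Groth.Agent.Lib.GrpSch.translate_regular_orbit,
        Over.comp_left, Scheme.Hom.comp_apply]
    let es : X.left ≅ X.left := (Over.forget _).mapIso (Groth.Agent.Lib.GrpSch.translate a h)
    have hsub : σ '' U ⊆ o.left '' connectedComponent (g.left s) := by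
      rintro _ ⟨x, hx, rfl⟩
      obtain ⟨y, hy, rfl⟩ := hUA hx
      refine ⟨τ y, ?_, hcomm y⟩
      have h1 := Set.mem_image_of_mem τ hy
      rw [translate_image_connectedComponent, connectedComponent_eq (show τ c' ∈ _ from
        translate_image_connectedComponent G h w ▸ Set.mem_image_of_mem τ hc'A)] at h1
      rwa [show τ c' = g.left s by rw [← hpG c' hc', hτ, inv_mul_cancel_right]] at h1
    have hopen : IsOpen (σ '' U) := es.hom.homeomorph.isOpenMap U hU
    have hcU : c ∈ σ '' U := ⟨u, huU, by
      rw [← hc'u, ← hcomm, ← hpG c' hc', hτ, inv_mul_cancel_right, ← Scheme.Hom.comp_apply, ← Over.comp_left, hg]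
      exact pointOfClosedPoint_apply X.hom c hc s⟩
    by_cases hg₀ : g.left s ∈ C₀
    · exact Or.inl (mem_interior.2 ⟨_, hsub.trans (Set.image_mono (connectedComponent_eq hg₀).ge), hopen, hcU⟩)
    · refine Or.inr (mem_interior.2 ⟨_, hsub.trans (Set.image_mono fun y hy hyC => hg₀ ?_), hopen, hcU⟩)
      change g.left s ∈ connectedComponent e₀
      rw [connectedComponent_eq hyC, ← connectedComponent_eq hy]
      exact mem_connectedComponent
  have hcov : interior (o.left '' C₀) ∪ interior (o.left '' C₀ᶜ) = Set.univ := by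
    by_contra hne
    obtain ⟨c, hcn, hc⟩ := nonempty_inter_closedPoints (Set.nonempty_compl.2 hne)
      (isOpen_interior.union isOpen_interior).isClosed_compl.isLocallyClosed
    exact hcn (key c hc)
  have hd : ∀ x, x ∈ o.left '' C₀ → x ∈ o.left '' C₀ᶜ → False := by
    rintro x ⟨w₁, h₁, rfl⟩ ⟨w₂, h₂, h⟩
    exact hdisj w₁ w₂ h₁ h₂ h.symm
  have hV : IsClopen (interior (o.left '' C₀)) := by
    refine ⟨⟨?_⟩, isOpen_interior⟩
    convert (isOpen_interior : IsOpen (interior (o.left '' C₀ᶜ))) using 1
    ext x
    exact ⟨fun hx => ((Set.eq_univ_iff_forall.1 hcov) x).resolve_left hx,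
      fun hx hx' => hd x (interior_subset hx') (interior_subset hx)⟩
  have hne : (interior (o.left '' C₀)).Nonempty := by
    refine ⟨o.left e₀, ((Set.eq_univ_iff_forall.1 hcov) (o.left e₀)).resolve_right fun h => ?_⟩
    exact hd _ ⟨e₀, mem_connectedComponent, rfl⟩ (interior_subset h)
  refine connectedSpace_iff_connectedComponent.2 ⟨e₀, Set.eq_univ_of_forall fun w => ?_⟩
  by_contra hw'
  have h1 : o.left w ∈ o.left '' C₀ := interior_subset (hV.eq_univ hne ▸ Set.mem_univ _)
  exact hd _ h1 ⟨w, hw', rfl⟩


end Groth.Agent.S15598
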