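import Groth.Statements.S15600

import Groth.Agent.H1.Classical.RadUNormal
import Groth.Agent.H1.Classical.CentralizerRed
import Groth.Agent.H1.Classical.RadUApply
import Groth.Agent.Lib.GenSub.Connected
import Groth.Agent.Lib.PtClosure98.Basic
import Groth.Agent.Lib.GrpQ.MonoClosed

set_option autoImplicit false
universe u
open CategoryTheory MonoidalCategory CartesianMonoidalCategory MonObj GrpObj AlgebraicGeometry
open AGF

namespace Groth.Agent.S15600

open Groth.Agent.H1.Classical Groth.Agent.H1.Classical.RadU Groth.Agent.Lib.RedPts Groth.Agent.Lib.RedPts.Points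
  Groth.Agent.Lib.GrpSch Groth.Agent.Lib Limits Scheme' Unipotent FieldDescent
attribute [local instance] baseAlgebra

/-- Conjugation as a morphism. -/
noncomputable def conjMap {k : Type u} [Field k] {G W : Over (Spec (CommRingCat.of k))} [GrpObj G] (h : W ⟶ G) :
    G ⊗ W ⟶ G := fst G W * (snd G W ≫ h) * (fst G W)⁻¹

theorem map_inv' {S S' : Scheme.{u}} (b : S' ⟶ S) {X G : Over S} [GrpObj G] (a : X ⟶ G) :
    (Over.pullback b).map a⁻¹ = ((Over.pullback b).map a)⁻¹ :=
  eq_inv_of_mul_eq_one_left (by rw [← Functor.map_mul, inv_mul_cancel, Functor.map_one])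

/-- Over an algebraically closed extension, the subgroup generated by the conjugates of the radical has no
subtorus. -/
theorem hasNoSubtorus_gen {k : Type u} [Field k] (K : Type u) [Field K] [IsAlgClosed K] [Algebra k K] [Algebra.IsAlgebraic k K]
    {G G₀ U : Over (Spec (CommRingCat.of k))} [GrpObj G] [GrpObj G₀] [GrpObj U] [IsAffine G.left] [Smooth G.hom]
    [IsAffine G₀.left] [Smooth G₀.hom] [ConnectedSpace G₀.left]
    (j : G₀ ⟶ G) [IsMonHom j] [IsOpenImmersion j.left] [IsClosedImmersion j.left]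
    [IsAffine U.left] [Smooth U.hom]
    (u : U ⟶ G₀) [IsMonHom u] [IsClosedImmersion u.left] (hn : AlgGrp.IsNormalHom u)
    (hUc : ConnectedSpace (Red.bc (extBase k K) U).left) (hU : Red.HasNoSubtorus K (Red.bc (extBase k K) U))
    {Γ : Over (Spec (CommRingCat.of k))} [GrpObj Γ] [IsAffine Γ.left] [Smooth Γ.hom] [ConnectedSpace Γ.left]
    (i : Γ ⟶ G) [IsMonHom i] [IsClosedImmersion i.left] [GeometricallyReduced Γ.hom]
    (dense : ∀ O : Γ.left.Opens, (O : Set Γ.left).Nonempty →
      ∃ (W : Over (Spec (CommRingCat.of k))) (c : W ⟶ Γ),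
        GenSub.Good (conjMap (u ≫ j)) W (c ≫ i) ∧ ∃ w, c.left w ∈ O) :
    ConnectedSpace (Red.bc (extBase k K) Γ).left ∧ Red.HasNoSubtorus K (Red.bc (extBase k K) Γ) := by
  let b := extBase k K
  haveI := hUc
  haveI : IsAffineHom (Red.bc b G).hom := bc_hom_of (P := @IsAffineHom) _ G inferInstance
  haveI : IsAffine (Red.bc b G).left := isAffine_of_isAffineHom (Red.bc b G).hom
  haveI : Smooth (Red.bc b G).hom := bc_hom_of (P := @Smooth) _ G inferInstance
  haveI : IsAffineHom (Red.bc b U).hom := bc_hom_of (P := @IsAffineHom) _ U inferInstance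
  haveI : IsAffine (Red.bc b U).left := isAffine_of_isAffineHom (Red.bc b U).hom
  haveI : Smooth (Red.bc b U).hom := bc_hom_of (P := @Smooth) _ U inferInstance
  obtain ⟨hA₀, hS₀, hC₀⟩ := bc_props (K := K) G₀
  haveI := hA₀
  haveI := hS₀
  haveI := hC₀
  obtain ⟨hAΓ, hSΓ, hCΓ⟩ := bc_props (K := K) Γ
  haveI := hAΓ
  haveI := hSΓ
  haveI := hCΓ
  let jK := (Over.pullback b).map j
  let uK := (Over.pullback b).map u
  haveI : IsClosedImmersion jK.left := bc_map_left_of (P := @IsClosedImmersion) _ j inferInstance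
  haveI : IsOpenImmersion jK.left := bc_map_left_of (P := @IsOpenImmersion) _ j inferInstance
  haveI : IsClosedImmersion uK.left := bc_map_left_of (P := @IsClosedImmersion) _ u inferInstance
  have hnK : AlgGrp.IsNormalHom uK := (Groth.Agent.H69.NormalDescend.isNormalHom_iff _ u).mpr fun X _ g n => hn X g n
  obtain ⟨R, _, r, hR, hrm, hrc, hrs, hrconn, hrno, hrn⟩ := CentralizerRed.exists_isUnipotentRadical (G := Red.bc b G₀)
  haveI := hrm
  haveI := hrc
  haveI := hrs
  haveI := hrconn
  haveI : IsAffine R.left := isAffine_of_isAffineHom r.left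
  have hUno := noTorsion_of_hasNoSubtorus hU
  obtain ⟨e, he⟩ := hR.2.2.2.2.2.2 (Red.bc b U) uK inferInstance hnK inferInstance inferInstance
    (Chevalley.geomFibre_props hUno)
  haveI : IsClosedImmersion (𝟙 (Red.bc b G) : Red.bc b G ⟶ Red.bc b G).left := by rw [Over.id_left]; infer_instance
  have hR' : IsNormalPts (r ≫ jK ≫ 𝟙 (Red.bc b G)) :=
    normalPts_char (𝟙 (Red.bc b G)) (fun T g n => ⟨g * n * g⁻¹, by simp⟩) jK r (isNormalPts_of_isNormalHom hrn)
      fun f _ hfc hf => hR.2.2.2.2.2.2 R f hfc (isNormalHom_of_pts f hf) inferInstance inferInstance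
        (Chevalley.geomFibre_props (noTorsion_of_hasNoSubtorus hrno))
  rw [Category.comp_id] at hR'
  haveI : IsClosedImmersion (r ≫ jK).left := by rw [Over.comp_left]; infer_instance
  have hRn := isNormalHom_of_pts (r ≫ jK) hR'
  obtain ⟨f'', hf''⟩ : ∃ f'' : Red.bc b (G ⊗ U) ⟶ R, f'' ≫ r ≫ jK = (Over.pullback b).map (conjMap (u ≫ j)) := by
    obtain ⟨n', hn'⟩ := hRn _ ((Over.pullback b).map (fst G U)) ((Over.pullback b).map (snd G U) ≫ e)
    refine ⟨n', hn'.symm.trans ?_⟩
    rw [conjMap, Functor.map_mul, Functor.map_mul, map_inv', Functor.map_comp, Functor.map_comp, Category.assoc,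
      reassoc_of% he]
  obtain ⟨l, hl⟩ := GenSub.baseChange_factor (conjMap (u ≫ j)) i dense _ b R (r ≫ jK) ⟨f'', hf''⟩
  haveI : Mono i := Over.mono_of_mono_left i
  haveI : Mono (r ≫ jK) := Over.mono_of_mono_left _
  haveI : Mono ((Over.pullback b).map i) := inferInstance
  haveI : Mono (l ≫ r ≫ jK) := hl.symm ▸ inferInstance
  haveI : Mono l := mono_of_mono l (r ≫ jK)
  haveI : IsMonHom (l ≫ r ≫ jK) := hl.symm ▸ inferInstance
  haveI : IsMonHom l := CentralizerBorel.isMonHom_of_mono_comp l (r ≫ jK)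
  exact ⟨inferInstance, hasNoSubtorus_of_noTorsion (noTorsion_of_mono l (noTorsion_of_hasNoSubtorus hrno))⟩

/-- Let k be a field, G a smooth affine k-group scheme and G⁰ ⟶ G its identity component, that is, an
open subgroup scheme whose underlying space is connected. If U ⟶ G⁰ is the k-unipotent radical of G⁰
(the largest normal closed subgroup scheme of G⁰, smooth and quasi-compact over k, with connected
geometric fibre containing no non-trivial subtorus), then the composite U ⟶ G⁰ ⟶ G is the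
k-unipotent radical of G. -/
theorem result (k : Type u) [Field k]
    (G G₀ U : Over (Spec (CommRingCat.of k))) [GrpObj G] [GrpObj G₀] [GrpObj U] [IsAffine G.left] [Smooth G.hom]
    (j : G₀ ⟶ G) [IsMonHom j] [IsOpenImmersion j.left] [ConnectedSpace ↥G₀.left]
    (u : U ⟶ G₀) (hu : Par.IsUnipotentRadical u) : Par.IsUnipotentRadical (u ≫ j) := by
  obtain ⟨hum, huc, hun, hus, huqc, hufib, humax⟩ := id hu
  haveI := hum
  haveI := huc
  haveI := hus
  haveI := huqc
  haveI : Mono j := Over.mono_of_mono_left j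
  haveI : IsLocallyNoetherian G.left := LocallyOfFiniteType.isLocallyNoetherian G.hom
  haveI : Smooth G₀.hom := by rw [← Over.w j]; infer_instance
  haveI : QuasiCompact G.hom := inferInstance
  haveI : QuasiCompact G₀.hom := by rw [← Over.w j]; infer_instance
  haveI : IsClosedImmersion j.left := GrpQ.MonoClosed.isClosedImmersion_of_mono j
  haveI : IsAffine G₀.left := isAffine_of_isAffineHom j.left
  haveI : IsAffine U.left := isAffine_of_isAffineHom u.left
  haveI : Mono u := Over.mono_of_mono_left u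
  have surj : ∀ (X : Over (Spec (CommRingCat.of k))) (s : ↥(Spec (CommRingCat.of k))),
      ConnectedSpace (Red.geomFibre s X).left → ConnectedSpace X.left := fun X s h => by
    haveI := h
    obtain ⟨alg, halg, hσ⟩ := exists_geomPt_eq s
    have h' : ConnectedSpace (Red.bc (Red.geomPt s) X).left := h
    rw [hσ] at h'
    haveI := h'
    exact connectedSpace_of_bc (K := AlgebraicClosure ((Spec (CommRingCat.of k)).residueField s)) X
  haveI : ConnectedSpace U.left := surj U (IsLocalRing.closedPoint k) (hufib _).1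
  haveI : GeometricallyConnected U.hom := geometricallyConnected_of_rationalPoint _ η[U].left (Over.w η[U])
  haveI : Smooth (fst G U).left := fst_left_of (P := @Smooth) G hus
  haveI : Smooth (G ⊗ U).hom := by rw [← Over.w (fst G U)]; infer_instance
  haveI : GeometricallyReduced (G ⊗ U).hom := geometricallyReduced_of_smooth_field (G ⊗ U).hom
  haveI : IsReduced (G ⊗ U).left := isReduced_of_smooth_field (G ⊗ U).hom
  -- the generated subgroup
  let c : G ⊗ U ⟶ G := conjMap (u ≫ j)
  let Q : ∀ W : Over (Spec (CommRingCat.of k)), (W ⟶ G) → Prop := fun W h =>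
    ∀ (Γ' : Over (Spec (CommRingCat.of k))) (_ : GrpObj Γ') (i' : Γ' ⟶ G), IsMonHom i' → IsClosedImmersion i'.left →
      (∃ f'' : G ⊗ U ⟶ Γ', f'' ≫ i' = c) → ∃ l : G ⊗ W ⟶ Γ', l ≫ i' = conjMap h
  obtain ⟨Γ, _, i, hi, hic, ⟨c', hc'⟩, hgr, hmin, hdense⟩ := GenSub.exists_smallest_of c Q
    (by
      rintro Γ' _ i' _ _ ⟨f, hf⟩
      refine ⟨lift (fst G (G ⊗ U) * (snd G (G ⊗ U) ≫ fst G U)) (snd G (G ⊗ U) ≫ snd G U) ≫ f, ?_⟩
      rw [Category.assoc, hf]
      simp only [c, conjMap, MonObj.comp_mul, GrpObj.comp_inv, lift_fst, lift_snd_assoc, Category.assoc,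
        _root_.mul_inv_rev, _root_.mul_assoc])
    (by
      rintro Γ' _ i' _ _ -
      refine ⟨1, ?_⟩
      rw [MonObj.one_comp i', conjMap, ← Category.comp_id (η[G] : 𝟙_ _ ⟶ G),
        show (η[G] : 𝟙_ (Over (Spec (CommRingCat.of k))) ⟶ G) = 1 by simp [Hom.one_def]]
      simp)
    (by
      rintro W h hh Γ' _ i' hi' hc' hf
      obtain ⟨l, hl⟩ := hh Γ' _ i' hi' hc' hf
      refine ⟨l⁻¹, ?_⟩
      rw [GrpObj.inv_comp, hl]
      simp only [conjMap, GrpObj.comp_inv, _root_.mul_inv_rev, _root_.inv_inv, _root_.mul_assoc])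
    (by
      rintro W W' h h' - - hh hh' Γ' _ i' hi' hc' hf
      obtain ⟨l, hl⟩ := hh Γ' _ i' hi' hc' hf
      obtain ⟨l', hl'⟩ := hh' Γ' _ i' hi' hc' hf
      refine ⟨(G ◁ fst W W' ≫ l) * (G ◁ snd W W' ≫ l'), ?_⟩
      rw [MonObj.mul_comp, Category.assoc, Category.assoc, hl, hl',
        show (h ⊗ₘ h') ≫ μ[G] = (fst W W' ≫ h) * (snd W W' ≫ h') by rw [Hom.mul_def, ← lift_fst_comp_snd_comp]]
      simp only [conjMap, MonObj.comp_mul, GrpObj.comp_inv, whiskerLeft_fst, whiskerLeft_snd_assoc, _root_.mul_assoc,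
        inv_mul_cancel_left, Category.assoc])
  haveI := hi
  haveI := hic
  haveI := hgr
  haveI : Mono i := Over.mono_of_mono_left i
  haveI : IsReduced Γ.left := GenSub.isReduced_left Γ
  haveI : LocallyOfFiniteType Γ.hom := by rw [← Over.w i]; infer_instance
  haveI : QuasiCompact Γ.hom := by rw [← Over.w i]; infer_instance
  haveI : IsAffine Γ.left := isAffine_of_isAffineHom i.left
  haveI : Smooth Γ.hom := PtClosure98.Basic.smooth_of_geometricallyReduced Γ
  let σ : G ⟶ G ⊗ U := lift (𝟙 G) 1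
  have hσ : σ ≫ c' = 1 := by
    rw [← cancel_mono i, Category.assoc, hc', MonObj.one_comp i]
    simp [c, conjMap, σ, MonObj.comp_mul, GrpObj.comp_inv, MonObj.one_comp]
  haveI : GeometricallyConnected (fst G U).left := fst_left_of (P := @GeometricallyConnected) G inferInstance
  haveI : ConnectedSpace Γ.left := by
    refine GenSub.connectedSpace_of_pieces Γ c' (fun x => ?_) fun Γ' _ i' hi' hc'' hf => ?_
    · refine ⟨(fst G U).left ⁻¹' {(fst G U).left x}, ((fst G U).left.isConnected_preimage_singleton _).isPreconnected, rfl,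
        σ.left ((fst G U).left x), ?_, ?_⟩
      · show (fst G U).left (σ.left _) = _
        rw [← Scheme.Hom.comp_apply, ← Over.comp_left, lift_fst, Over.id_left]
        rfl
      · rw [← Scheme.Hom.comp_apply, ← Over.comp_left, hσ, Hom.one_def, Over.comp_left, Scheme.Hom.comp_apply]
        exact ⟨_, rfl⟩
    · obtain ⟨f, hf⟩ := hf
      haveI := hi'
      haveI := hc''
      haveI : IsClosedImmersion (i' ≫ i).left := by rw [Over.comp_left]; infer_instance
      obtain ⟨l, hl⟩ := hmin Γ' _ (i' ≫ i) inferInstance inferInstance ⟨f, by rw [reassoc_of% hf, hc']⟩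
      exact ⟨l, by rw [← cancel_mono i, Category.assoc, hl, Category.id_comp]⟩
  obtain ⟨gam, hgam⟩ := exists_lift_open j i
  haveI : IsMonHom (gam ≫ j) := hgam.symm ▸ inferInstance
  haveI : IsMonHom gam := CentralizerBorel.isMonHom_of_mono_comp gam j
  haveI : IsClosedImmersion gam.left := by
    haveI : IsClosedImmersion (gam.left ≫ j.left) := by rw [← Over.comp_left, hgam]; infer_instance
    exact IsClosedImmersion.of_comp gam.left j.left
  -- it is stable under conjugation by G
  obtain ⟨Φ', hΦ'⟩ : ∃ Φ' : G ⊗ Γ ⟶ Γ, Φ' ≫ i = conjMap i := by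
    haveI : Smooth (fst G Γ).left := fst_left_of (P := @Smooth) G inferInstance
    haveI : Smooth (G ⊗ Γ).hom := by rw [← Over.w (fst G Γ)]; infer_instance
    haveI : IsReduced (G ⊗ Γ).left := isReduced_of_smooth_field (G ⊗ Γ).hom
    obtain ⟨l, hl⟩ := Groth.Agent.H75.RedKer.exists_lift (conjMap i).left i.left (by
      by_contra hcon
      obtain ⟨_, ⟨z, rfl⟩, hz⟩ := Set.not_subset.1 hcon
      let O : (G ⊗ Γ).left.Opens := ⟨(conjMap i).left ⁻¹' (Set.range i.left)ᶜ,
        i.left.isClosedEmbedding.isClosed_range.isOpen_compl.preimage (conjMap i).left.continuous⟩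
      haveI : UniversallyOpen (snd G Γ).left := snd_left_of (P := @UniversallyOpen) Γ inferInstance
      obtain ⟨W, c₁, ⟨-, hQ⟩, w, z', hz', hw⟩ :=
        hdense ⟨(snd G Γ).left '' O, (snd G Γ).left.isOpenMap _ O.2⟩ ⟨_, z, hz, rfl⟩
      obtain ⟨v, hv, -⟩ := Scheme.exists_preimage_of_isPullback (isPullback_whiskerLeft G c₁) z' w hw
      obtain ⟨l, hl⟩ := hQ Γ _ i inferInstance inferInstance ⟨c', hc'⟩
      have e : (G ◁ c₁) ≫ conjMap i = l ≫ i := by
        rw [hl]
        simp [conjMap, MonObj.comp_mul, GrpObj.comp_inv]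
      refine hz' ⟨l.left v, ?_⟩
      rw [← Scheme.Hom.comp_apply, ← Over.comp_left, ← e, Over.comp_left, Scheme.Hom.comp_apply, hv])
    exact ⟨Over.homMk l (by rw [← Over.w i, ← Category.assoc, hl, Over.w]), Over.OverMorphism.ext hl⟩
  have hgamn : AlgGrp.IsNormalHom gam := fun T g n => by
    refine ⟨lift (g ≫ j) n ≫ Φ', ?_⟩
    rw [← cancel_mono j, Category.assoc, Category.assoc, hgam, hΦ']
    simp [conjMap, MonObj.comp_mul, MonObj.mul_comp, GrpObj.comp_inv, GrpObj.inv_comp, hgam]
  obtain ⟨f, hf⟩ := humax Γ gam inferInstance hgamn inferInstance inferInstance fun s => by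
    obtain ⟨alg, halg, hσ'⟩ := exists_geomPt_eq s
    have h := hufib s
    revert h
    show ConnectedSpace (Red.bc (Red.geomPt s) U).left ∧ Red.HasNoSubtorus _ (Red.bc (Red.geomPt s) U) →
      ConnectedSpace (Red.bc (Red.geomPt s) Γ).left ∧ Red.HasNoSubtorus _ (Red.bc (Red.geomPt s) Γ)
    rw [hσ']
    rintro ⟨h1, h2⟩
    exact hasNoSubtorus_gen _ j u hun h1 h2 i fun O hO =>
      let ⟨W, c₁, hc₁, hw⟩ := hdense O hO
      ⟨W, c₁, hc₁.1, hw⟩
  have huj : IsMonHom (u ≫ j) := inferInstance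
  refine ⟨huj, by rw [Over.comp_left]; infer_instance, fun T g n => ⟨lift g n ≫ c' ≫ f, ?_⟩, hus, huqc, hufib, ?_⟩
  · rw [show (lift g n ≫ c' ≫ f) ≫ u ≫ j = lift g n ≫ c from by
      simp only [Category.assoc]; rw [reassoc_of% hf, hgam, hc']]
    simp [c, conjMap, MonObj.comp_mul, GrpObj.comp_inv]
  intro U' _ u' _ hc'' hn' hs' hqc' hfib'
  haveI := hc''
  haveI : ConnectedSpace U'.left := surj U' (IsLocalRing.closedPoint k) (hfib' _).1
  obtain ⟨u₀, hu₀⟩ := exists_lift_open j u'
  haveI : IsMonHom (u₀ ≫ j) := hu₀.symm ▸ inferInstance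
  haveI : IsMonHom u₀ := CentralizerBorel.isMonHom_of_mono_comp u₀ j
  haveI : IsClosedImmersion u₀.left := by
    haveI : IsClosedImmersion (u₀.left ≫ j.left) := by rw [← Over.comp_left, hu₀]; infer_instance
    exact IsClosedImmersion.of_comp u₀.left j.left
  obtain ⟨f', hf'⟩ := humax U' u₀ inferInstance (fun T g n => by
    obtain ⟨n', hn''⟩ := hn' T (g ≫ j) n
    refine ⟨n', ?_⟩
    rw [← cancel_mono j, Category.assoc, hu₀, ← hn'']
    simp [MonObj.mul_comp, GrpObj.inv_comp, hu₀]) hs' hqc' hfib'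
  exact ⟨f', by rw [reassoc_of% hf', hu₀]⟩

end Groth.Agent.S15600
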