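import Groth.Statements.S15602
import Groth.Agent.H81.LineLaw
import Groth.Agent.Lib.RedPts.Ga

set_option autoImplicit false
universe u
open CategoryTheory MonoidalCategory CartesianMonoidalCategory MonObj GrpObj AlgebraicGeometry
open AlgGrp

namespace Groth.Agent.S15602

open Groth.Agent.Lib.RedPts

/-- The multiplication of a group law on `𝔾_a`, in coordinates. -/
theorem gaFn_mul' (k : Type u) [Field k] (h : GrpObj (Red.Ga (Spec (CommRingCat.of k)))) :
    Red.gaFn h.mul = Red.gaFn (fst (Red.Ga (Spec (CommRingCat.of k))) (Red.Ga _)) +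
      Red.gaFn (snd (Red.Ga (Spec (CommRingCat.of k))) (Red.Ga _)) -
      Red.gaFn (toUnit (Red.Ga (Spec (CommRingCat.of k)) ⊗ Red.Ga _) ≫ h.one) := by
  let _ := h
  have := H81.LineLaw.fn_mul (Red.Ga (Spec (CommRingCat.of k))) Red.gaFn
    (fun g x => Ga.gaFn_comp g x) (fun W => ⟨Ga.gaFn_injective, Ga.gaFn_surjective⟩) _ (fst _ _) (snd _ _)
  simp only [Hom.mul_def, lift_fst_snd, Category.id_comp, Hom.one_def] at this
  exact this

/-- Additive case. Let k be a field and consider the affine line over k, taken here as the underlying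
k-scheme of the additive group. Any two structures of k-group scheme on it with the same unit
section have the same multiplication; in particular a group law on the affine line whose identity is
the origin is the usual addition. -/
theorem result (k : Type u) [Field k]
    (h₁ h₂ : GrpObj (Red.Ga (Spec (CommRingCat.of k)))) (e : h₁.one = h₂.one) : h₁.mul = h₂.mul := by
  exact Ga.gaFn_injective (((gaFn_mul' k h₁).trans (congrArg (fun o => Red.gaFn (fst (Red.Ga (Spec (CommRingCat.of k))) (Red.Ga _)) +
      Red.gaFn (snd (Red.Ga (Spec (CommRingCat.of k))) (Red.Ga _)) -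
      Red.gaFn (toUnit (Red.Ga (Spec (CommRingCat.of k)) ⊗ Red.Ga _) ≫ o)) e)).trans (gaFn_mul' k h₂).symm)

end Groth.Agent.S15602
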