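import Groth.Statements.S15603
import Groth.Agent.H81.TorusLaw
import Groth.Agent.Lib.RedPts.Gm

set_option autoImplicit false
universe u
open CategoryTheory MonoidalCategory CartesianMonoidalCategory MonObj GrpObj AlgebraicGeometry
open AlgGrp

namespace Groth.Agent.S15603

open Groth.Agent.Lib.RedPts

/-- The multiplication of a group law on `𝔾_m`, in coordinates. -/
theorem gmFn_mul' (k : Type u) [Field k] (h : GrpObj (Red.Gm (Spec (CommRingCat.of k)))) :
    Red.gmFn h.mul * Red.gmFn (toUnit (Red.Gm (Spec (CommRingCat.of k)) ⊗ Red.Gm _) ≫ h.one) =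
      Red.gmFn (fst (Red.Gm (Spec (CommRingCat.of k))) (Red.Gm _)) *
        Red.gmFn (snd (Red.Gm (Spec (CommRingCat.of k))) (Red.Gm _)) := by
  let _ := h
  have := H81.TorusLaw.fn_mul (Red.Gm (Spec (CommRingCat.of k))) Red.gmFn
    (fun g x => Gm.gmFn_comp g x) (fun W => Gm.gmFn_injective) (fun W x => Gm.isUnit_gmFn x)
    (fun W a ha => Gm.exists_gmFn_eq ha) _ (fst _ _) (snd _ _)
  simp only [Hom.mul_def, lift_fst_snd, Category.id_comp, Hom.one_def] at this
  exact this

/-- Multiplicative case. Let k be a field and consider the affine line minus the origin over k, taken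
here as the underlying k-scheme of the multiplicative group. Any two structures of k-group scheme on
it with the same unit section have the same multiplication; in particular a group law on the
punctured line whose identity is the point 1 is the usual multiplication. -/
theorem result (k : Type u) [Field k]
    (h₁ h₂ : GrpObj (Red.Gm (Spec (CommRingCat.of k)))) (e : h₁.one = h₂.one) : h₁.mul = h₂.mul := by
  refine Gm.gmFn_injective ((Gm.isUnit_gmFn
    (toUnit (Red.Gm (Spec (CommRingCat.of k)) ⊗ Red.Gm _) ≫ h₁.one)).mul_right_cancel ?_)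
  exact (gmFn_mul' k h₁).trans ((gmFn_mul' k h₂).symm.trans (congrArg (fun o =>
    Red.gmFn h₂.mul * Red.gmFn (toUnit (Red.Gm (Spec (CommRingCat.of k)) ⊗ Red.Gm _) ≫ o)) e.symm))

end Groth.Agent.S15603
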