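import Groth.Statements.S15604

import Groth.Agent.Lib.GrpSch.OrbitSmooth

set_option autoImplicit false
universe u
open CategoryTheory MonoidalCategory CartesianMonoidalCategory MonObj GrpObj AlgebraicGeometry
open AlgGrp

namespace Groth.Agent.S15604

/-- Let k be a field and f : G ⟶ G' a homomorphism of k-group schemes of finite type, with G smooth over
k. The image of f is closed (not asserted here); with its reduced induced structure it is smooth
over k: every reduced closed subscheme H of G' whose underlying set is the set-theoretic image of f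
is smooth over k. -/
theorem result (k : Type u) [Field k]
    (G G' : Over (Spec (CommRingCat.of k))) [GrpObj G] [GrpObj G'] [Smooth G.hom] [QuasiCompact G.hom]
    [LocallyOfFiniteType G'.hom] [QuasiCompact G'.hom] (f : G ⟶ G') [IsMonHom f]
    (H : Scheme.{u}) (i : H ⟶ G'.left) [IsClosedImmersion i] [IsReduced H]
    (hH : Set.range i.base = Set.range f.left.base) : Smooth (i ≫ G'.hom) := by
  let a : AlgGrp.Action G G' := Groth.Agent.Lib.GrpSch.actionMk ((f ▷ G') ≫ μ[G'])
    (fun T x => by rw [lift_whiskerRight_assoc, ← Hom.mul_def, MonObj.one_comp, _root_.one_mul])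
    (fun T g h x => by
      simp only [lift_whiskerRight_assoc]
      rw [← Hom.mul_def, ← Hom.mul_def, ← Hom.mul_def, MonObj.mul_comp, _root_.mul_assoc])
  have ha : a.orbitMap η[G'] = f := by
    show lift (𝟙 G) (toUnit G ≫ η[G']) ≫ (f ▷ G') ≫ μ[G'] = f
    rw [lift_whiskerRight_assoc, Category.id_comp, ← Hom.one_def, ← Hom.mul_def, _root_.mul_one]
  have : IsImmersion (Over.homMk i rfl : Over.mk (i ≫ G'.hom) ⟶ G').left := inferInstanceAs (IsImmersion i)
  have : AlgebraicGeometry.IsReduced (Over.mk (i ≫ G'.hom)).left := ‹AlgebraicGeometry.IsReduced _›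
  exact Groth.Agent.Lib.GrpSch.smooth_of_orbit (O := Over.mk (i ≫ G'.hom)) a η[G'] (Over.homMk i rfl : Over.mk (i ≫ G'.hom) ⟶ G')
    (by rw [ha]; exact hH)

end Groth.Agent.S15604
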