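import Groth.Statements.S15605
import Mathlib.RingTheory.TensorProduct.Free
import Mathlib.LinearAlgebra.TensorProduct.RightExactness
import Mathlib.LinearAlgebra.FiniteDimensional.Basic
import Mathlib.LinearAlgebra.Basis.VectorSpace

set_option autoImplicit false
universe u
open TensorProduct
open AGF

namespace Groth.Agent.S15605

/-- Affine form. Let k be a field, A and A' finitely generated commutative k-algebras and S, S' sets of
k-algebra homomorphisms A → k, A' → k. The closure of a set of rational points of Spec A is cut out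
by the intersection of their kernels. Compatibility of these closures with products: in A ⊗_k A',
the intersection over (σ, σ') ∈ S × S' of the kernels of σ ⊗ σ' : A ⊗_k A' → k equals the ideal
generated by the images of ⋂_{σ} ker σ and of ⋂_{σ'} ker σ'. -/
theorem result (k A A' : Type u) [Field k] [CommRing A] [Algebra k A]
    [Algebra.FiniteType k A] [CommRing A'] [Algebra k A'] [Algebra.FiniteType k A']
    (S : Set (A →ₐ[k] k)) (S' : Set (A' →ₐ[k] k)) :
    (⨅ σ ∈ S, ⨅ σ' ∈ S', RingHom.ker ((Algebra.TensorProduct.lmul' (S := k) k).comp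
        (Algebra.TensorProduct.map σ σ'))) =
      Ideal.map (Algebra.TensorProduct.includeLeft : A →ₐ[k] A ⊗[k] A') (⨅ σ ∈ S, RingHom.ker σ) ⊔
        Ideal.map (Algebra.TensorProduct.includeRight : A' →ₐ[k] A ⊗[k] A') (⨅ σ' ∈ S', RingHom.ker σ') := by
  classical
  set I : Ideal A := ⨅ σ ∈ S, RingHom.ker σ with hI
  set I' : Ideal A' := ⨅ σ' ∈ S', RingHom.ker σ' with hI'
  have hsI : ∀ σ ∈ S, ∀ a ∈ I, σ a = 0 := fun σ hσ a ha => by
    rw [hI] at ha; simp only [Ideal.mem_iInf, RingHom.mem_ker] at ha; exact ha σ hσ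
  have hsI' : ∀ σ' ∈ S', ∀ a ∈ I', σ' a = 0 := fun σ hσ a ha => by
    rw [hI'] at ha; simp only [Ideal.mem_iInf, RingHom.mem_ker] at ha; exact ha σ hσ
  refine le_antisymm (fun x hx => ?_) ?_
  · let π : A ⊗[k] A' →ₐ[k] (A ⧸ I) ⊗[k] (A' ⧸ I') :=
      Algebra.TensorProduct.map (Ideal.Quotient.mkₐ k I) (Ideal.Quotient.mkₐ k I')
    have hker := Algebra.TensorProduct.map_ker (Ideal.Quotient.mkₐ k I) (Ideal.Quotient.mkₐ k I')
      (Ideal.Quotient.mkₐ_surjective k I) (Ideal.Quotient.mkₐ_surjective k I')
    suffices π x = 0 by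
      have h' : x ∈ RingHom.ker π := this
      rw [show RingHom.ker π = _ from hker] at h'
      have e1 : RingHom.ker (Ideal.Quotient.mkₐ k I) = I := Ideal.mk_ker
      have e2 : RingHom.ker (Ideal.Quotient.mkₐ k I') = I' := Ideal.mk_ker
      rwa [e1, e2] at h'
    let b := Module.Free.chooseBasis k (A ⧸ I)
    let e := TensorProduct.equivFinsuppOfBasisLeft (N := A' ⧸ I') b
    have key : ∀ (y : A ⊗[k] A') (σ : A →ₐ[k] k) (hσ : σ ∈ S) (σ' : A' →ₐ[k] k) (hσ' : σ' ∈ S'),
        ((Algebra.TensorProduct.lmul' (S := k) k).comp (Algebra.TensorProduct.map σ σ')) y =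
          Ideal.Quotient.liftₐ I σ (hsI σ hσ)
            ((e (π y)).sum fun i c => Ideal.Quotient.liftₐ I' σ' (hsI' σ' hσ') c • b i) := by
      intro y σ hσ σ' hσ'
      induction y using TensorProduct.induction_on with
      | zero => simp
      | tmul a a' =>
        simp only [π, e, Algebra.TensorProduct.map_tmul, AlgHom.coe_comp, Function.comp_apply,
          Algebra.TensorProduct.lmul'_apply_tmul, TensorProduct.equivFinsuppOfBasisLeft_apply_tmul]
        rw [Finsupp.sum_mapRange_index (by simp)]
        simp only [map_smul, smul_eq_mul, Ideal.Quotient.mkₐ_eq_mk,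
          mul_comm (_ : k) (Ideal.Quotient.liftₐ I' σ' (hsI' σ' hσ') _), mul_smul, ← Finsupp.smul_sum]
        rw [show ((b.repr (Ideal.Quotient.mk I a)).sum fun i r => r • b i) = Ideal.Quotient.mk I a from
          (Finsupp.linearCombination_apply k _).symm.trans (b.linearCombination_repr _)]
        exact mul_comm _ _
      | add y z hy hz =>
        rw [map_add, hy, hz, map_add, map_add, Finsupp.sum_add_index', map_add] <;> simp [add_smul]
    rw [← e.map_eq_zero_iff]
    ext i
    obtain ⟨c, hc⟩ := Ideal.Quotient.mk_surjective (e (π x) i)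
    rw [Finsupp.zero_apply, ← hc, Ideal.Quotient.eq_zero_iff_mem, hI']
    simp only [Ideal.mem_iInf, RingHom.mem_ker] at hx ⊢
    intro σ' hσ'
    obtain ⟨w, hw⟩ := Ideal.Quotient.mk_surjective
      ((e (π x)).sum fun i c => Ideal.Quotient.liftₐ I' σ' (hsI' σ' hσ') c • b i)
    have hw0 : w ∈ I := by
      rw [hI]
      simp only [Ideal.mem_iInf, RingHom.mem_ker]
      intro σ hσ
      have h1 := key x σ hσ σ' hσ'
      rw [hx σ hσ σ' hσ', ← hw] at h1
      exact h1.symm
    have h2 : Finsupp.linearCombination k b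
        ((e (π x)).mapRange (Ideal.Quotient.liftₐ I' σ' (hsI' σ' hσ')) (map_zero _)) = 0 := by
      rw [Finsupp.linearCombination_apply, Finsupp.sum_mapRange_index (by simp), ← hw,
        Ideal.Quotient.eq_zero_iff_mem]
      exact hw0
    have := DFunLike.congr_fun (linearIndependent_iff.mp b.linearIndependent _ h2) i
    rw [Finsupp.mapRange_apply, ← hc] at this
    exact this
  · refine sup_le (Ideal.map_le_iff_le_comap.mpr fun a ha => ?_) (Ideal.map_le_iff_le_comap.mpr fun a ha => ?_)
    · simp only [Ideal.mem_comap, Ideal.mem_iInf, RingHom.mem_ker]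
      intro σ hσ σ' hσ'
      simp [hsI σ hσ a ha]
    · simp only [Ideal.mem_comap, Ideal.mem_iInf, RingHom.mem_ker]
      intro σ hσ σ' hσ'
      simp [hsI' σ' hσ' a ha]

end Groth.Agent.S15605
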