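import Groth.Statements.S15606
import Groth.Agent.Lib.GaGmKernel.Main
import Groth.Agent.Lib.GrpQ.FlatHom
import Groth.Agent.Lib.GrpQ.Kernel
import Groth.Agent.Lib.GrpQ.Desc
-- import your own Groth.Agent.* helpers here

set_option autoImplicit false
universe u
open CategoryTheory MonoidalCategory CartesianMonoidalCategory MonObj GrpObj AlgebraicGeometry
open AlgGrp

namespace Groth.Agent.S15606

open Groth.Agent.Lib

/-- Two cover homomorphisms with the same kernel have isomorphic targets. -/
theorem nonempty_iso_of_kernel {S : Scheme.{u}} {N G Q Q' : Over S} [GrpObj G] [GrpObj Q] [GrpObj Q']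
    (i : N ⟶ G) (q : G ⟶ Q) (q' : G ⟶ Q') [IsMonHom q] [IsMonHom q'] (hq : GrpQ.IsCover q)
    (hq' : GrpQ.IsCover q') (hK : AlgGrp.IsKernel i q) (hK' : AlgGrp.IsKernel i q') :
    Nonempty (Grp.mk Q ≅ Grp.mk Q') := by
  obtain ⟨α, hα⟩ := GrpQ.exists_desc hq q' fun _ x y h => GrpQ.comp_eq_of_kernel hK q' hK'.w x y h
  obtain ⟨β, hβ⟩ := GrpQ.exists_desc hq' q fun _ x y h => GrpQ.comp_eq_of_kernel hK' q hK.w x y h
  have h1 : α ≫ β = 𝟙 Q := GrpQ.cancel_cover hq (by rw [reassoc_of% hα, hβ, Category.comp_id])
  have h2 : β ≫ α = 𝟙 Q' := GrpQ.cancel_cover hq' (by rw [reassoc_of% hβ, hα, Category.comp_id])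
  have : IsMonHom (q ≫ α) := by rw [hα]; infer_instance
  have := GrpQ.isMonHom_of_cover hq α
  exact ⟨Grp.mkIso' (e := ⟨α, β, h1, h2⟩)⟩

/-- Additive case. Let k be a field, H an affine smooth connected k-group scheme, and f a homomorphism
from the additive group over k to H which is finite and surjective (an isogeny onto H). Then H is
isomorphic, as a k-group scheme, to the additive group. In particular every quotient of the additive
group by a finite k-subgroup scheme is isomorphic to the additive group over k itself, for any field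
k. -/
theorem result (k : Type u) [Field k]
    (H : Over (Spec (CommRingCat.of k))) [GrpObj H] [IsAffine H.left] [Smooth H.hom] [ConnectedSpace ↥H.left]
    (f : Red.Ga (Spec (CommRingCat.of k)) ⟶ H) [IsMonHom f] [IsFinite f.left] [Surjective f.left] :
    Nonempty (Grp.mk H ≅ Grp.mk (Red.Ga (Spec (CommRingCat.of k)))) := by
  have : IsSeparated H.hom := inferInstance
  obtain ⟨N, _, i, _, hi, hK, -⟩ := GrpQ.exists_kernel f
  have : Mono i := GrpQ.mono_of_left i
  have : IsFinite N.hom := by
    have hsq := hK.map (Over.forget (Spec (CommRingCat.of k)))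
    have h1 : IsFinite (toUnit N).left :=
      MorphismProperty.of_isPullback (P := @IsFinite) hsq ‹IsFinite f.left›
    have h2 : IsFinite ((toUnit N).left ≫ (𝟙_ (Over (Spec (CommRingCat.of k)))).hom) :=
      MorphismProperty.comp_mem _ _ _ h1 (inferInstanceAs (IsFinite (𝟙 (Spec (CommRingCat.of k)))))
    rwa [Over.w] at h2
  obtain ⟨φ, hφ, hK', hflat, hsurj⟩ := GaGmKernel.exists_endo_Ga i
  let G := Red.Ga (Spec (CommRingCat.of k))
  let e : G ≅ GaGmKernel.aff (K := k) (Polynomial k) :=
    GaGmKernel.repIso (GaGmKernel.gaEq (K := k)) (fun h g => GaGmKernel.gaEq_comp h g)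
  have hfg : (CommRingCat.ofHom (algebraMap k (Polynomial k))).hom.FiniteType :=
    RingHom.finiteType_algebraMap.2 inferInstance
  have : LocallyOfFiniteType (GaGmKernel.aff (K := k) (Polynomial k)).hom :=
    (HasRingHomProperty.Spec_iff (P := @LocallyOfFiniteType)).2 hfg
  have : QuasiCompact (GaGmKernel.aff (K := k) (Polynomial k)).hom :=
    inferInstanceAs (QuasiCompact (Spec.map (CommRingCat.ofHom (algebraMap k (Polynomial k)))))
  have : IsIso e.hom.left := inferInstanceAs (IsIso ((Over.forget _).map e.hom))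
  have : LocallyOfFiniteType G.hom := by rw [← Over.w e.hom]; infer_instance
  have : QuasiCompact G.hom := by rw [← Over.w e.hom]; infer_instance
  have hf : GrpQ.IsCover f := by
    have := GrpQ.flat_of_surjective_of_smooth f
    exact GrpQ.isCover_hom f
  exact nonempty_iso_of_kernel i f φ hf (GrpQ.isCover_hom φ) hK hK'

end Groth.Agent.S15606
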