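import Groth.Statements.S15607
import Groth.Agent.S15606
import Groth.Agent.S7782
import Groth.Agent.Lib.CommAlgGrp.Basic
import Groth.Agent.Lib.Tori.Comm
import Groth.Agent.Lib.MTExt.PowFinite
import Groth.Agent.Lib.GrpSch.ConnFibre
import Groth.Agent.Lib.ActSep.Exists
-- import your own Groth.Agent.* helpers here

set_option autoImplicit false
universe u
open CategoryTheory MonoidalCategory CartesianMonoidalCategory MonObj GrpObj AlgebraicGeometry
open AlgGrp

namespace Groth.Agent.S15607

open CategoryTheory.Limits
open Groth.Agent.Lib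

instance isCommMonObj_Gm (S : Scheme.{u}) : IsCommMonObj (Red.Gm S) where
  mul_comm := by
    have := Tori.Comm.mul_comm_DS (fst (Red.Gm S) (Red.Gm S)) (snd (Red.Gm S) (Red.Gm S))
    rw [Hom.mul_def, Hom.mul_def, lift_fst_snd, Category.id_comp] at this
    conv_rhs => rw [this]
    congr 1

variable {k : Type u} [Field k]

/-- A homomorphism with finite kernel to a commutative group forces a smooth connected group to be
commutative. -/
theorem isCommMonObj_of_isogeny {H N Q : Over (Spec (CommRingCat.of k))} [GrpObj H] [GrpObj N] [GrpObj Q]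
    [IsCommMonObj Q] [Smooth H.hom] [ConnectedSpace H.left] (f : H ⟶ Q) [IsMonHom f]
    (i : N ⟶ H) [IsMonHom i] [Mono i] [IsFinite N.hom] (hK : AlgGrp.IsKernel i f) : IsCommMonObj H := by
  let T := H ⊗ H
  let c : T ⟶ H := (fst H H * snd H H) * (snd H H * fst H H)⁻¹
  have hcf : c ≫ f = 1 := by
    rw [MonObj.mul_comp, GrpObj.inv_comp, MonObj.mul_comp, MonObj.mul_comp,
      _root_.mul_comm (snd H H ≫ f), mul_inv_cancel]
  obtain ⟨n, hn⟩ := (GrpQ.mem_kernel hK c).2 hcf
  have hc : c = 1 := by
    have : Smooth (T.hom) := by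
      have h1 : Smooth (fst H H).left := inferInstanceAs (Smooth (pullback.fst H.hom H.hom))
      rw [← Over.w (fst H H)]
      infer_instance
    have : IsReduced T.left := GrpSch.isReduced_of_smooth_field T.hom
    have : GeometricallyConnected H.hom :=
      GrpSch.geometricallyConnected_of_rationalPoint H.hom η[H].left (Over.w η[H])
    have : ConnectedSpace T.left := inferInstanceAs (ConnectedSpace ↥(pullback H.hom H.hom))
    have : DiscreteTopology N.left := by
      have h := N.hom.isDiscrete_preimage_singleton (IsLocalRing.closedPoint k)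
      exact isDiscrete_univ_iff.1 (h.mono fun z _ => Subsingleton.elim _ _)
    have : IsClosedImmersion η[N].left := by
      have : IsClosedImmersion (η[N].left ≫ N.hom) := by
        rw [Over.w]; exact inferInstanceAs (IsClosedImmersion (𝟙 (Spec (CommRingCat.of k))))
      exact IsClosedImmersion.of_comp η[N].left N.hom
    have hpt : lift η[H] η[H] ≫ n = η[N] := by
      have h1 : (η[H] : 𝟙_ _ ⟶ H) = 1 := by rw [Hom.one_def, toUnit_unique (toUnit _) (𝟙 _), Category.id_comp]
      rw [← cancel_mono i, Category.assoc, hn, IsMonHom.one_hom, MonObj.comp_mul, GrpObj.comp_inv, MonObj.comp_mul,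
        MonObj.comp_mul, lift_fst, lift_snd, mul_inv_cancel]
      exact h1.symm
    have hs : Surjective (pullback.fst n.left η[N].left) := by
      rw [surjective_iff, ← Set.range_eq_univ, Scheme.Pullback.range_fst, Set.eq_univ_iff_forall]
      intro x
      obtain ⟨z⟩ : Nonempty (Spec (CommRingCat.of k) : Scheme.{u}) := inferInstance
      refine ⟨z, ?_⟩
      have h2 : n.left ((lift η[H] η[H]).left z) = η[N].left z := by
        rw [← Scheme.Hom.comp_apply, ← Over.comp_left, hpt]
      rw [← h2]
      exact PreconnectedSpace.constant ‹ConnectedSpace T.left›.toPreconnectedSpace n.left.continuous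
    have := isIso_of_isClosedImmersion_of_surjective (pullback.fst n.left η[N].left)
    have hn1 : n = 1 := by
      rw [Hom.one_def]
      ext1
      rw [Over.comp_left]
      have h3 := (IsIso.inv_comp_eq (pullback.fst n.left η[N].left)).2
        (pullback.condition (f := n.left) (g := η[N].left)).symm
      rw [← h3, ← Category.assoc]
      congr 1
      have h4 := congrArg (· ≫ N.hom) h3
      simp only [Category.assoc, Over.w] at h4
      have h5 : (toUnit T).left = T.hom := rfl
      rw [h5, ← h4]
      exact (congrArg (_ ≫ ·) (Category.comp_id _)).symm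
    rw [← hn, hn1, MonObj.one_comp]
  rw [mul_inv_eq_one] at hc
  constructor
  have h6 : lift (snd H H) (fst H H) = (β_ H H).hom := by ext <;> simp
  rw [Hom.mul_def, Hom.mul_def, lift_fst_snd, Category.id_comp, h6] at hc
  exact hc.symm

/-- Multiplicative case. Let k be a field, H a smooth connected k-group scheme, and f a homomorphism
from H to the multiplicative group over k which is finite and surjective (an isogeny). Then H is
isomorphic, as a k-group scheme, to the multiplicative group: a smooth connected k-group isogenous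
to the multiplicative group over k is the split one-dimensional torus. -/
theorem result (k : Type u) [Field k]
    (H : Over (Spec (CommRingCat.of k))) [GrpObj H] [Smooth H.hom] [ConnectedSpace ↥H.left]
    (f : H ⟶ Red.Gm (Spec (CommRingCat.of k))) [IsMonHom f] [IsFinite f.left] [Surjective f.left] :
    Nonempty (Grp.mk H ≅ Grp.mk (Red.Gm (Spec (CommRingCat.of k)))) := by
  let S := Spec (CommRingCat.of k)
  let G := Red.Gm S
  have hpow : ∀ {r : ℕ}, 0 < r → IsFinite (𝟙 G ^ r : G ⟶ G).left := fun hr => MTExt.isFinite_pow_DS S ℤ hr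
  have : IsAffineHom G.hom := Tori.DS.isAffineHom S ℤ
  have : Smooth G.hom := Tori.DS.smooth S ℤ
  have : LocallyOfFiniteType G.hom := inferInstance
  have : QuasiCompact H.hom := by rw [← Over.w f]; infer_instance
  have : LocallyOfFiniteType H.hom := inferInstance
  obtain ⟨N, _, i, _, hi, hK, -⟩ := GrpQ.exists_kernel f
  have : Mono i := GrpQ.mono_of_left i
  have : IsFinite N.hom := by
    have hsq := hK.map (Over.forget S)
    have h1 : IsFinite (toUnit N).left :=
      MorphismProperty.of_isPullback (P := @IsFinite) hsq ‹IsFinite f.left›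
    have h2 : IsFinite ((toUnit N).left ≫ (𝟙_ (Over S)).hom) :=
      MorphismProperty.comp_mem _ _ _ h1 (inferInstanceAs (IsFinite (𝟙 S)))
    rwa [Over.w] at h2
  have : IsCommMonObj H := isCommMonObj_of_isogeny f i hK
  have : IsCommMonObj N := Groth.Agent.Lib.CommAlgGrp.isCommMonObj_of_mono i
  have : LocallyOfFinitePresentation N.hom := inferInstance
  have : Flat N.hom := inferInstance
  let r := Scheme.Hom.finrank N.hom (IsLocalRing.closedPoint k)
  have hr : ∀ s : S, Scheme.Hom.finrank N.hom s = r := fun s => by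
    rw [Subsingleton.elim s (IsLocalRing.closedPoint k)]
  have hr0 : 0 < r := by
    have : Surjective N.hom := ⟨fun s => ⟨η[N].left s, by rw [← Scheme.Hom.comp_apply, Over.w]; rfl⟩⟩
    exact (Scheme.Hom.one_le_finrank_iff_surjective N.hom).2 this _
  have hNr : i ≫ (𝟙 H ^ r) = 1 := by
    rw [MonObj.comp_pow, Category.comp_id, ← Category.id_comp i, ← MonObj.pow_comp,
      Groth.Agent.S7782.result N r hr N (𝟙 N), MonObj.one_comp]
  have : IsMonHom (𝟙 H ^ r : H ⟶ H) := by
    refine H87.HomDS.isMonHom_of_points _ fun W a b => ?_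
    rw [MonObj.comp_pow, MonObj.comp_pow, MonObj.comp_pow, Category.comp_id, Category.comp_id, Category.comp_id,
      mul_pow]
  have hf : GrpQ.IsCover f := by
    have := GrpQ.flat_of_surjective_of_smooth f
    exact GrpQ.isCover_hom f
  obtain ⟨ψ, hψ⟩ := GrpQ.exists_desc hf (𝟙 H ^ r) fun _ x y h =>
    GrpQ.comp_eq_of_kernel hK (𝟙 H ^ r) (by rw [hNr, Hom.one_def]) x y h
  have : IsMonHom (f ≫ ψ) := by rw [hψ]; infer_instance
  have := GrpQ.isMonHom_of_cover hf ψ
  have hψf : ψ ≫ f = 𝟙 G ^ r := GrpQ.cancel_cover hf (by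
    rw [reassoc_of% hψ, MonObj.pow_comp, Category.id_comp, MonObj.comp_pow, Category.comp_id])
  have hfinψ : IsFinite ψ.left := by
    have : IsFinite (ψ.left ≫ f.left) := by rw [← Over.comp_left, hψf]; exact hpow hr0
    exact IsFinite.of_comp ψ.left f.left
  have hsurjψ : Surjective ψ.left := by
    have hp : Function.Surjective (ψ.left ≫ f.left) := by
      have hflat : Flat (Red.chi S (r : ℤ)).left ∧ Surjective (Red.chi S (r : ℤ)).left :=
        Tori.Character.flat_surjective_chi S (r : ℤ) (fun a b hab => by simpa [hr0.ne'] using hab)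
      have he : (𝟙 G ^ r : G ⟶ G) = Red.chi S (r : ℤ) := RedPts.Gm.gmFn_injective (by
        conv_rhs => rw [← Category.id_comp (Red.chi S (r : ℤ))]
        rw [RedPts.Gm.gmFn_pow, RedPts.Gm.gmFn_chi, RedPts.Gm.gmFn_eq, ← RedPts.Gm.dsFn_nsmul]
        congr 1
        simp)
      rw [← Over.comp_left, hψf, he]
      exact hflat.2.surj
    have : IrreducibleSpace H.left := ActSep.irreducibleSpace_of_connected H
    refine ⟨fun x => ?_⟩
    obtain ⟨η', hη'⟩ := QuasiSober.sober (irreducibleSpace_def H.left |>.1 ‹_›) isClosed_univ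
    have hclosed : IsClosed (Set.range ψ.left) := ψ.left.isClosedMap.isClosed_range
    obtain ⟨w, hw⟩ := hp (f.left η')
    rw [Scheme.Hom.comp_apply] at hw
    have hsp : η' ⤳ ψ.left w := (isGenericPoint_iff_specializes.1 hη' _).2 trivial
    have heq : η' = ψ.left w :=
      (f.left.isDiscrete_preimage_singleton (f.left η')).eq_of_specializes hsp rfl hw
    have hmem : η' ∈ Set.range ψ.left := ⟨w, heq.symm⟩
    exact ((isGenericPoint_iff_specializes.1 hη' x).2 trivial).mem_closed hclosed hmem
  have hcovψ : GrpQ.IsCover ψ := by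
    have := GrpQ.flat_of_surjective_of_smooth ψ
    exact GrpQ.isCover_hom ψ
  have : IsSeparated H.hom := GrpSch.isSeparated_of_field H
  obtain ⟨M, _, j, _, hj, hM, -⟩ := GrpQ.exists_kernel ψ
  have : Mono j := GrpQ.mono_of_left j
  have : IsFinite M.hom := by
    have hsq := hM.map (Over.forget S)
    have h1 : IsFinite (toUnit M).left :=
      MorphismProperty.of_isPullback (P := @IsFinite) hsq hfinψ
    have h2 : IsFinite ((toUnit M).left ≫ (𝟙_ (Over S)).hom) :=
      MorphismProperty.comp_mem _ _ _ h1 (inferInstanceAs (IsFinite (𝟙 S)))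
    rwa [Over.w] at h2
  obtain ⟨φ, hφ, hM', hflat, hsurj⟩ := GaGmKernel.exists_endo_Gm j
  exact S15606.nonempty_iso_of_kernel j ψ φ hcovψ (GrpQ.isCover_hom φ) hM hM'

end Groth.Agent.S15607
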