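import Groth.Statements.S1563
import Groth.Agent.H52.FBase.StalkBC
import Groth.Agent.Lib.Regular.Descent

set_option autoImplicit false
set_option maxHeartbeats 2000000
set_option synthInstance.maxHeartbeats 200000
universe u
open CategoryTheory CategoryTheory.Limits AlgebraicGeometry
open Variety
open Groth.Agent.H52.FBase TensorProduct

namespace Groth.Agent.S1563

/-- Geometric regularity descends along a morphism f of locally Noetherian k-schemes which is flat at
the point x (the map of local rings at x is flat): if X has it at x then Y has it at f(x). -/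
theorem result (k : Type u) [Field k] (X Y : Scheme.{u}) [X.Over (Spec (CommRingCat.of k))] [Y.Over (Spec (CommRingCat.of k))]
    [IsLocallyNoetherian X] [IsLocallyNoetherian Y] (f : X ⟶ Y) (hf : f ≫ (Y ↘ (Spec (CommRingCat.of k))) = X ↘ (Spec (CommRingCat.of k)))
    (x : X) (hflat : (f.stalkMap x).hom.Flat) (hx : Curv2.IsGeomRegularAt k X x) :
    Curv2.IsGeomRegularAt k Y (f.base x) := by
  intro K _ _ hK y' hy'
  let fX := X ↘ Spec (CommRingCat.of k)
  let fY := Y ↘ Spec (CommRingCat.of k)
  let A := StalkBC.Ox fX x
  let B := StalkBC.Ox fY (f x)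
  let φ₀ : B →+* A := (f.stalkMap x).hom
  have hcomm : ∀ c, φ₀ (algebraMap k B c) = algebraMap k A c := by
    intro c
    have e : CommRingCat.ofHom (StalkBC.φ fY (f x)) ≫ f.stalkMap x = CommRingCat.ofHom (StalkBC.φ fX x) := by
      apply Spec.map_injective
      rw [Spec.map_comp, StalkBC.specMap_φ, StalkBC.specMap_φ, Scheme.SpecMap_stalkMap_fromSpecStalk_assoc, hf]
    exact congr($(e).hom c)
  let φ : B →ₐ[k] A := { toRingHom := φ₀, commutes' := hcomm }
  letI : Algebra B A := φ₀.toAlgebra
  haveI : IsScalarTower k B A := IsScalarTower.of_algebraMap_eq fun c => (hcomm c).symm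
  haveI : Module.Flat B A := hflat
  let g : TensorProduct k B K →ₐ[k] TensorProduct k A K :=
    Algebra.TensorProduct.map φ (AlgHom.id k K)
  have hg : g.toRingHom.Flat := by
    have h0 : (algebraMap (TensorProduct k B K) (TensorProduct B (TensorProduct k B K) A)).Flat :=
      RingHom.flat_algebraMap_iff.2 inferInstance
    let e : TensorProduct B (TensorProduct k B K) A ≃+* TensorProduct k A K :=
      (Algebra.TensorProduct.comm B (TensorProduct k B K) A).toRingEquiv.trans
        (Algebra.TensorProduct.cancelBaseChange k B A A K).toRingEquiv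
    have he : g.toRingHom = e.toRingHom.comp
        (algebraMap (TensorProduct k B K) (TensorProduct B (TensorProduct k B K) A)) := by
      refine RingHom.ext fun z => ?_
      induction z using TensorProduct.induction_on with
      | zero => simp
      | tmul b c => simp [g, e, φ, Algebra.TensorProduct.cancelBaseChange_tmul, Algebra.smul_def,
          RingHom.algebraMap_toAlgebra]
      | add z w hz hw => simp only [map_add, hz, hw]
    rw [he]
    exact h0.comp (RingHom.Flat.of_bijective e.bijective)
  obtain ⟨q, rfl⟩ := StalkBC.exists_j_eq fY (f x) K y' (specializes_of_eq hy')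
  have hq := (StalkBC.j_π_eq_iff fY (f x) K q).1 hy'
  let P : Ideal (TensorProduct k B K) := PrimeSpectrum.asIdeal (R := TensorProduct k B K) q
  haveI : P.IsPrime := q.isPrime
  let κB := IsLocalRing.ResidueField B
  let κA := IsLocalRing.ResidueField A
  haveI : IsLocalHom (algebraMap B A) := inferInstanceAs (IsLocalHom (f.stalkMap x).hom)
  let F := P.ResidueField
  let u : κB →+* F := Ideal.Quotient.lift (IsLocalRing.maximalIdeal B)
    ((algebraMap (TensorProduct k B K) F).comp (algebraMap B (TensorProduct k B K))) (by
      intro a ha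
      rw [← hq] at ha
      exact Ideal.algebraMap_residueField_eq_zero.2 ha)
  letI : Algebra κB F := u.toAlgebra
  let L := TensorProduct κB κA F
  haveI : Nontrivial L := (Algebra.TensorProduct.includeRight_injective (R := κB) (A := κA) (B := F)
    (RingHom.injective _)).nontrivial
  let α : A →+* L := (Algebra.TensorProduct.includeLeftRingHom).comp (IsLocalRing.residue A)
  let β : K →+* L := (Algebra.TensorProduct.includeRight : F →ₐ[κB] L).toRingHom.comp
    ((algebraMap (TensorProduct k B K) F).comp Algebra.TensorProduct.includeRight.toRingHom)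
  have hαB : ∀ b : B, α (φ₀ b) = (Algebra.TensorProduct.includeRight : F →ₐ[κB] L)
      (algebraMap (TensorProduct k B K) F (algebraMap B (TensorProduct k B K) b)) := by
    intro b
    show (algebraMap κB κA (IsLocalRing.residue B b)) ⊗ₜ[κB] (1 : F) =
      (1 : κA) ⊗ₜ[κB] (algebraMap κB F (IsLocalRing.residue B b))
    rw [Algebra.algebraMap_eq_smul_one, Algebra.algebraMap_eq_smul_one, TensorProduct.smul_tmul]
  let αk : A →ₐ[k] L := { toRingHom := α, commutes' := fun c => rfl }
  let βk : K →ₐ[k] L :=
    { toRingHom := β
      commutes' := fun c => by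
        show β (algebraMap k K c) = α (algebraMap k A c)
        rw [← hcomm, hαB]
        show (Algebra.TensorProduct.includeRight : F →ₐ[κB] L)
          (algebraMap (TensorProduct k B K) F ((1 : B) ⊗ₜ[k] algebraMap k K c)) = _
        refine congrArg _ (congrArg _ ?_)
        rw [← IsScalarTower.algebraMap_apply k B (TensorProduct k B K)]
        exact (Algebra.TensorProduct.includeRight : K →ₐ[k] TensorProduct k B K).commutes c }
  let ψ : TensorProduct k A K →ₐ[k] L := Algebra.TensorProduct.lift αk βk fun _ _ => Commute.all _ _
  obtain ⟨M, hM⟩ := Ideal.exists_maximal L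
  let Q : Ideal (TensorProduct k A K) := M.comap ψ
  haveI : Q.IsPrime := Ideal.comap_isPrime _ _
  have hψg : ψ.toRingHom.comp g.toRingHom =
      (Algebra.TensorProduct.includeRight : F →ₐ[κB] L).toRingHom.comp
        (algebraMap (TensorProduct k B K) F) := by
    refine RingHom.ext fun z => ?_
    induction z using TensorProduct.induction_on with
    | zero => simp
    | tmul b c =>
      show α (φ₀ b) * β c = _
      rw [hαB]
      show _ = (Algebra.TensorProduct.includeRight : F →ₐ[κB] L)
        (algebraMap (TensorProduct k B K) F (b ⊗ₜ[k] c))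
      rw [show β c = (Algebra.TensorProduct.includeRight : F →ₐ[κB] L)
        (algebraMap (TensorProduct k B K) F ((1 : B) ⊗ₜ[k] c)) from rfl, ← map_mul, ← map_mul]
      simp [Algebra.TensorProduct.algebraMap_apply]
    | add z w hz hw => simp only [map_add, hz, hw]
  have hQP : P = Q.comap g.toRingHom := by
    rw [show Q.comap g.toRingHom = M.comap (ψ.toRingHom.comp g.toRingHom) from rfl, hψg,
      ← Ideal.comap_comap]
    have h0 : M.comap (Algebra.TensorProduct.includeRight : F →ₐ[κB] L).toRingHom = ⊥ :=
      ((Ideal.eq_bot_or_top _).resolve_right (Ideal.comap_ne_top _ hM.ne_top))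
    rw [h0, ← RingHom.ker_eq_comap_bot, Ideal.ker_algebraMap_residueField]
  have hQm : Q.comap (algebraMap A (TensorProduct k A K)) = IsLocalRing.maximalIdeal A := by
    refine le_antisymm (IsLocalRing.le_maximalIdeal (Ideal.comap_ne_top _ (Ideal.IsPrime.ne_top')))
      fun a ha => ?_
    show ψ (a ⊗ₜ[k] (1 : K)) ∈ M
    rw [Algebra.TensorProduct.lift_tmul, map_one, mul_one]
    show α a ∈ M
    simp [α, (IsLocalRing.residue_eq_zero_iff a).2 ha]
  let q' : Spec (CommRingCat.of (TensorProduct k A K)) := (⟨Q, inferInstance⟩ : PrimeSpectrum _)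
  have hreg := hx K hK (StalkBC.j fX x K q') ((StalkBC.j_π_eq_iff fX x K q').2 hQm)
  haveI : IsRegularLocalRing (Localization.AtPrime Q) :=
    @IsRegularLocalRing.of_ringEquiv _ _ hreg _ _ (StalkBC.stalkEquiv fX x K q')
  haveI : Algebra.EssFiniteType k K := IntermediateField.fg_top_iff.1 hK
  haveI : IsNoetherianRing B := inferInstance
  haveI : IsNoetherianRing (TensorProduct k B K) := Algebra.EssFiniteType.isNoetherianRing B _
  let h := Localization.localRingHom P Q g.toRingHom hQP
  letI := h.toAlgebra
  haveI : Module.Flat (Localization.AtPrime P) (Localization.AtPrime Q) :=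
    RingHom.Flat.localRingHom hg Q P hQP
  haveI : IsLocalHom (algebraMap (Localization.AtPrime P) (Localization.AtPrime Q)) :=
    Localization.isLocalHom_localRingHom P Q g.toRingHom hQP
  have hres : IsRegularLocalRing (Localization.AtPrime P) :=
    Groth.Agent.Lib.Regular.Descent.isRegularLocalRing_of_flat (Localization.AtPrime Q)
  exact @IsRegularLocalRing.of_ringEquiv _ _ hres _ _ (StalkBC.stalkEquiv fY (f x) K q).symm


end Groth.Agent.S1563
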