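import Groth.Statements.S15645
import Groth.Agent.Lib.NodeModel.Family
import Groth.Agent.S1592
import Groth.Agent.S1593
import Groth.Agent.S1595

set_option autoImplicit false
universe u
open StrictSS

namespace Groth.Agent.S15645

open CategoryTheory CategoryTheory.Limits AlgebraicGeometry in
/-- A strictly semistable multipointed curve (C, D) over a scheme S is semistable. Here (C, D) is a
multipointed S-curve (C flat, finitely presented and of pure relative dimension one over S; D a
closed subscheme of C, flat, finitely presented and of relative dimension zero over S) every point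
of which has an open neighbourhood U, over an affine open Spec A of S, with an etale morphism of
pairs from (U, D ∩ U) to the line model (Spec A[T], zero section) or, when no marked point lies in
U, an etale morphism from U to a node model Spec A[u, v]/(uv - a); the conclusion is that C → S is
an at-worst-nodal family of curves, D → S is etale and D misses the non-smooth locus of C → S. (The
published remark concerns curves over the spectrum of a valuation ring; the notion and the
implication are local on the base, and this row states the implication over an arbitrary base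
scheme.) -/
theorem result
    {C D S : Scheme.{u}} (φ : C ⟶ S) (i : D ⟶ C) (h : StrictSS.IsStrictlySemistable φ i) :
    SSMod.IsSemistable φ i := by
  obtain ⟨hmp, hchart⟩ := h
  have hnod : ∀ x : C, ∃ U : C.Opens, x ∈ U ∧ Curv2.IsNodalFamily (U.ι ≫ φ) := fun x => by
    rcases hchart x with ⟨A, j, hj, U, hxU, q, hq, f, fD, hf, hfq, -⟩ |
      ⟨A, j, hj, U, hxU, q, hq, a, f, hf, hfq, -⟩
    · refine ⟨U, hxU, ?_⟩
      have := hj
      have := hf
      rw [hq, ← hfq]
      exact S1595.result j _ (S1592.result _ (Lib.NodeModel.Family.line A) f)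
    · refine ⟨U, hxU, ?_⟩
      have := hj
      have := hf
      rw [hq, ← hfq]
      exact S1595.result j _ (S1592.result _ (Lib.NodeModel.Family.node A a) f)
  choose U hxU hU using hnod
  have hline : ∀ y : D, ∃ V : C.Opens, i y ∈ V ∧ Smooth (V.ι ≫ φ) ∧
      Etale ((i ⁻¹ᵁ V).ι ≫ i ≫ φ) := fun y => by
    rcases hchart (i y) with ⟨A, j, hj, V, hxV, q, hq, f, fD, hf, hfq, hfD, hsq⟩ |
      ⟨A, j, hj, V, hxV, q, hq, a, f, hf, hfq, hdisj⟩
    · have := hj
      have := hf
      have := hfD
      have := Lib.NodeModel.Family.smooth_line A
      refine ⟨V, hxV, by rw [hq, ← hfq]; infer_instance, ?_⟩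
      have h0 : StrictSS.lineZero A ≫ StrictSS.lineToBase A = 𝟙 (Spec A) := by
        have hc : CommRingCat.ofHom (Polynomial.C : A →+* Polynomial A) ≫
            CommRingCat.ofHom (Polynomial.evalRingHom (0 : A)) = 𝟙 A := by
          ext a
          simp
          rfl
        show Spec.map _ ≫ Spec.map _ = _
        rw [← Spec.map_comp, hc]
        exact Spec.map_id _
      have : (i ⁻¹ᵁ V).ι ≫ i ≫ φ = fD ≫ j := by
        rw [← morphismRestrict_ι_assoc, hq, ← hfq, Category.assoc, ← Category.assoc,
          ← hsq, Category.assoc, reassoc_of% h0]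
        erw [Category.id_comp]
      rw [this]
      infer_instance
    · exact absurd hxV (Set.disjoint_left.1 hdisj ⟨y, rfl⟩)
  choose V hyV hsm het using hline
  refine ⟨hmp, S1593.result φ C (fun x => (U x : Scheme.{u})) (fun x => (U x).ι)
    (fun x => ⟨x, ⟨x, hxU x⟩, rfl⟩) hU, ?_, ?_⟩
  · have hr : HasRingHomProperty (@Etale : MorphismProperty Scheme.{u}) RingHom.Etale := inferInstance
    have : IsZariskiLocalAtSource (@Etale : MorphismProperty Scheme.{u}) :=
      @HasRingHomProperty.instIsZariskiLocalAtSource _ _ hr
    refine IsZariskiLocalAtSource.of_iSup_eq_top (P := @Etale) (f := i ≫ φ) (fun y => i ⁻¹ᵁ V y) ?_ het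
    exact eq_top_iff.2 fun y _ => TopologicalSpace.Opens.mem_iSup.2 ⟨y, hyV y⟩
  · refine Set.disjoint_left.2 ?_
    rintro _ ⟨y, rfl⟩ hns
    have := hmp.2.1
    have := hsm y
    have : (⟨i y, hyV y⟩ : (V y : Scheme.{u})) ∈ (V y).ι ⁻¹ᵁ φ.smoothLocus := by
      rw [Scheme.Hom.preimage_smoothLocus_eq, Scheme.Hom.smoothLocus_eq_top]; trivial
    exact hns (Scheme.Hom.mem_smoothLocus.1 this)

end Groth.Agent.S15645
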