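import Groth.Statements.S15649
import Groth.Agent.Lib.Flat55.CurveNormalizationBC
import Mathlib.RingTheory.Smooth.Basic

set_option autoImplicit false
set_option linter.style.haveILetI false
set_option backward.isDefEq.respectTransparency false
set_option backward.isDefEq.respectTransparency.types false
universe u
open StrictSS

namespace Groth.Agent.S15649

open CategoryTheory CategoryTheory.Limits AlgebraicGeometry TopologicalSpace

section components

variable {k : Type u} [Field k]

/-- The irreducible components of a smooth scheme over a field are open. -/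
theorem isOpen_component {Y : Scheme.{u}} (g : Y ⟶ Spec (CommRingCat.of k)) [Smooth g]
    {Z : Set Y} (hZ : Z ∈ irreducibleComponents ↥Y) : IsOpen Z := by
  haveI : IsLocallyNoetherian Y := LocallyOfFiniteType.isLocallyNoetherian g
  have hN := Groth.Agent.Lib.Flat55.CurveNormalizationBC.isNormalScheme_of_smooth g
  rw [isOpen_iff_forall_mem_open]
  intro z hz
  obtain ⟨U, hU, hzU, -⟩ := exists_isAffineOpen_mem_and_subset (X := Y) (x := z) (U := ⊤) trivial
  haveI : IsNoetherianRing Γ(Y, U) := IsLocallyNoetherian.component_noetherian ⟨U, hU⟩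
  haveI : IsAffine (U : Scheme.{u}) := hU
  haveI : IsNoetherian (U : Scheme.{u}) := {}
  have hfin : Set.Finite {W ∈ irreducibleComponents ↥Y | (W ∩ (U : Set Y)).Nonempty ∧ W ≠ Z} := by
    have hi : Set.InjOn (fun W => U.ι ⁻¹' W) {W ∈ irreducibleComponents ↥Y | (W ∩ (U : Set Y)).Nonempty ∧ W ≠ Z} := by
      intro W hW W' hW' he
      have e : ∀ {V : Set Y}, V ∈ irreducibleComponents ↥Y → (V ∩ (U : Set Y)).Nonempty →
          closure (U.ι '' (U.ι ⁻¹' V)) = V := fun {V} hV hVU => by
        refine closure_image_preimage_of_isPreirreducible _ U.ι.isOpenEmbedding.isOpenMap V ?_ hV.1.2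
          (isClosed_of_mem_irreducibleComponents V hV)
        obtain ⟨v, hv, hvU⟩ := hVU
        exact ⟨⟨v, hvU⟩, hv⟩
      rw [← e hW.1 hW.2.1, ← e hW'.1 hW'.2.1]
      exact congrArg (fun V => closure (U.ι '' V)) he
    refine Set.Finite.of_finite_image (Set.Finite.subset
      (NoetherianSpace.finite_irreducibleComponents (α := (U : Scheme.{u}))) ?_) hi
    rintro _ ⟨W, ⟨hW, ⟨w, hw, hwU⟩, -⟩, rfl⟩
    exact preimage_mem_irreducibleComponents hW U.ι.isOpenEmbedding ⟨w, hw, ⟨⟨w, hwU⟩, rfl⟩⟩
  have hcl : IsClosed (⋃ W ∈ {W ∈ irreducibleComponents ↥Y | (W ∩ (U : Set Y)).Nonempty ∧ W ≠ Z}, W) :=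
    hfin.isClosed_biUnion fun W hW => isClosed_of_mem_irreducibleComponents W hW.1
  refine ⟨(U : Set Y) \ ⋃ W ∈ {W ∈ irreducibleComponents ↥Y | (W ∩ (U : Set Y)).Nonempty ∧ W ≠ Z}, W, ?_,
    U.isOpen.sdiff hcl, hzU, ?_⟩
  · rintro y ⟨hyU, hy⟩
    by_contra hyZ
    refine hy (Set.mem_biUnion ⟨irreducibleComponent_mem_irreducibleComponents y, ⟨y, mem_irreducibleComponent, hyU⟩, ?_⟩
      mem_irreducibleComponent)
    exact fun h => hyZ (h ▸ mem_irreducibleComponent)
  · intro h
    obtain ⟨W, ⟨hW, -, hne⟩, hzW⟩ := Set.mem_iUnion₂.1 h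
    obtain ⟨x, hx⟩ := QuasiSober.sober hW.1 (isClosed_of_mem_irreducibleComponents W hW)
    obtain ⟨x', hx'⟩ := QuasiSober.sober hZ.1 (isClosed_of_mem_irreducibleComponents Z hZ)
    have hmax : ∀ {x : Y} {W : Set Y}, W ∈ irreducibleComponents ↥Y → IsGenericPoint x W →
        ∀ y, y ⤳ x → y = x := fun {x W} hW hx y hy => by
      have h1 : W ⊆ closure {y} := hx.def ▸ specializes_iff_closure_subset.1 hy
      have h2 : closure {y} = W := le_antisymm (hW.2 isIrreducible_singleton.closure h1) h1
      exact ((show IsGenericPoint y W from h2).eq hx)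
    haveI := (hN z).1
    let γ : Y := Y.fromSpecStalk z (⟨⊥, Ideal.isPrime_bot⟩ : PrimeSpectrum (Y.presheaf.stalk z))
    have hγ : ∀ v : Y, v ⤳ z → γ ⤳ v := fun v hv => by
      obtain ⟨q, rfl⟩ : v ∈ Set.range (Y.fromSpecStalk z) := by rw [Scheme.range_fromSpecStalk]; exact hv
      exact ((PrimeSpectrum.le_iff_specializes ⟨⊥, Ideal.isPrime_bot⟩ q).1 bot_le).map (Y.fromSpecStalk z).continuous
    have h1 := hmax hW hx γ (hγ x (hx.specializes hzW))
    have h2 := hmax hZ hx' γ (hγ x' (hx'.specializes hz))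
    exact hne (hx.def.symm.trans ((congrArg (fun v => closure ({v} : Set Y)) (h1.symm.trans h2)).trans hx'.def))

/-- A reduced closed subscheme supported on a component of a smooth scheme is smooth. -/
theorem smooth_of_component {V Y : Scheme.{u}} [IsReduced V] (j : V ⟶ Y) [IsClosedImmersion j]
    (g : Y ⟶ Spec (CommRingCat.of k)) [Smooth g] (h : Set.range j ∈ irreducibleComponents ↥Y) :
    Smooth (j ≫ g) := by
  haveI := Groth.Agent.Lib.Flat55.CurveNormalizationBC.isReduced_of_smooth g
  let O : Y.Opens := ⟨Set.range j, isOpen_component g h⟩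
  let j' : V ⟶ O := IsOpenImmersion.lift O.ι j (by simp [O])
  have hfac : j' ≫ O.ι = j := IsOpenImmersion.lift_fac _ _ _
  haveI : IsClosedImmersion (j' ≫ O.ι) := hfac ▸ inferInstance
  haveI : IsClosedImmersion j' := IsClosedImmersion.of_comp j' O.ι
  haveI : Surjective j' := ⟨fun ⟨y, v, hv⟩ => ⟨v, O.ι.injective (by rw [← Scheme.Hom.comp_apply, hfac, hv]; rfl)⟩⟩
  haveI : IsIso j' := isIso_of_isClosedImmersion_of_surjective j'
  rw [← hfac, Category.assoc]
  infer_instance

end components

section node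

variable {A : Type u} [Field A]

open MvPolynomial

/-- One of the two lines of the node. -/
noncomputable def branch (b : Fin 2) : StrictSS.NodeAlg A 0 →+* Polynomial A :=
  Ideal.Quotient.lift _ (MvPolynomial.aeval (fun i : Fin 2 => if i = b then (0 : Polynomial A) else Polynomial.X)).toRingHom
    fun r hr => by
      obtain ⟨c, rfl⟩ := Ideal.mem_span_singleton'.1 hr
      rw [map_mul]
      fin_cases b <;> simp

theorem branch_C (b : Fin 2) : (branch (A := A) b).comp (algebraMap A (StrictSS.NodeAlg A 0)) = Polynomial.C := by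
  refine RingHom.ext fun r => ?_
  show branch b (Ideal.Quotient.mk _ (MvPolynomial.C r)) = Polynomial.C r
  simp [branch]

theorem branch_surjective (b : Fin 2) : Function.Surjective (branch (A := A) b) := fun p => by
  refine ⟨Polynomial.aeval (Ideal.Quotient.mk _ (MvPolynomial.X (b + 1))) p, ?_⟩
  induction p using Polynomial.induction_on with
  | C r =>
    rw [Polynomial.aeval_C]
    exact RingHom.congr_fun (branch_C b) r
  | add p q hp hq => rw [map_add, map_add, hp, hq]
  | monomial n r _ =>
    rw [map_mul, map_mul, map_pow, map_pow, Polynomial.aeval_C, Polynomial.aeval_X,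
      show branch b (algebraMap A _ r) = Polynomial.C r from RingHom.congr_fun (branch_C b) r]
    congr 2
    fin_cases b <;> simp [branch]

theorem branch_ker (b : Fin 2) :
    RingHom.ker (branch (A := A) b) ≤ Ideal.span {Ideal.Quotient.mk _ (MvPolynomial.X b)} := by
  let I : Ideal (StrictSS.NodeAlg A 0) := Ideal.span {Ideal.Quotient.mk _ (MvPolynomial.X b)}
  let σ : Polynomial A →+* StrictSS.NodeAlg A 0 ⧸ I := Polynomial.eval₂RingHom
    ((Ideal.Quotient.mk I).comp ((Ideal.Quotient.mk _).comp MvPolynomial.C))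
    (Ideal.Quotient.mk I (Ideal.Quotient.mk _ (MvPolynomial.X (b + 1))))
  have hσ : (σ.comp (branch b)).comp (Ideal.Quotient.mk _) = (Ideal.Quotient.mk I).comp (Ideal.Quotient.mk _) := by
    have hX : Ideal.Quotient.mk I (Ideal.Quotient.mk _ (MvPolynomial.X b)) = 0 :=
      Ideal.Quotient.eq_zero_iff_mem.2 (Ideal.subset_span rfl)
    refine MvPolynomial.ringHom_ext (fun r => by simp [σ, branch]) fun i => ?_
    fin_cases b <;> fin_cases i <;> simp_all [σ, branch]
  intro r hr
  obtain ⟨p, rfl⟩ := Ideal.Quotient.mk_surjective r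
  rw [← Ideal.Quotient.eq_zero_iff_mem]
  rw [RingHom.mem_ker] at hr
  refine (RingHom.congr_fun hσ p).symm.trans ?_
  show σ (branch b _) = 0
  exact (congrArg σ hr).trans (map_zero σ)

set_option maxHeartbeats 1000000 in
theorem branch_cover (p : PrimeSpectrum (StrictSS.NodeAlg A 0)) :
    ∃ b, p ∈ Set.range (Spec.map (CommRingCat.ofHom (branch b))) := by
  have h0 : Ideal.Quotient.mk _ (MvPolynomial.X (R := A) (0 : Fin 2)) * Ideal.Quotient.mk _ (MvPolynomial.X 1) = (0 : StrictSS.NodeAlg A 0) := by
    rw [← map_mul, Ideal.Quotient.eq_zero_iff_mem]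
    exact Ideal.subset_span (by simp)
  obtain ⟨b, hb⟩ : ∃ b : Fin 2, Ideal.Quotient.mk _ (MvPolynomial.X b) ∈ p.asIdeal := by
    rcases p.2.mem_or_mem (show Ideal.Quotient.mk _ (MvPolynomial.X (R := A) (0 : Fin 2)) * Ideal.Quotient.mk _ (MvPolynomial.X 1) ∈ p.asIdeal by rw [h0]; exact zero_mem _) with h | h
    exacts [⟨0, h⟩, ⟨1, h⟩]
  refine ⟨b, ?_⟩
  show p ∈ Set.range (PrimeSpectrum.comap (branch b))
  rw [range_comap_of_surjective _ _ (branch_surjective b), PrimeSpectrum.mem_zeroLocus]
  exact (branch_ker b).trans ((Ideal.span_singleton_le_iff_mem _).2 hb)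

/-- A unit node is smooth. -/
theorem smooth_node {a : A} (ha : a ≠ 0) : Smooth (StrictSS.nodeToBase A a) := by
  let L := Localization.Away (Polynomial.X : Polynomial A)
  let π : MvPolynomial (Fin 2) A →+* StrictSS.NodeAlg A a := Ideal.Quotient.mk _
  let t : L := algebraMap (Polynomial A) L Polynomial.X
  let ti : L := IsLocalization.Away.invSelf (S := L) (Polynomial.X : Polynomial A)
  have ht : t * ti = 1 := IsLocalization.Away.mul_invSelf _
  let F : StrictSS.NodeAlg A a →ₐ[A] L := Ideal.Quotient.liftₐ _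
    (MvPolynomial.aeval ![t, algebraMap A L a * ti]) fun r hr => by
      obtain ⟨c, rfl⟩ := Ideal.mem_span_singleton'.1 hr
      rw [map_mul]
      simp [mul_left_comm t, ht]
  let ev : Polynomial A →ₐ[A] StrictSS.NodeAlg A a := Polynomial.aeval (π (MvPolynomial.X 0))
  have hu : IsUnit (ev Polynomial.X) := by
    rw [show ev Polynomial.X = π (MvPolynomial.X 0) from Polynomial.aeval_X _]
    refine IsUnit.of_mul_eq_one (π (MvPolynomial.X 1) * algebraMap A _ a⁻¹) ?_
    rw [← mul_assoc, ← map_mul, show π (MvPolynomial.X 0 * MvPolynomial.X 1) = π (MvPolynomial.C a) from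
      Ideal.Quotient.eq.2 (Ideal.subset_span rfl)]
    show algebraMap A (StrictSS.NodeAlg A a) a * _ = 1
    rw [← map_mul, mul_inv_cancel₀ ha, map_one]
  let G : L →ₐ[A] StrictSS.NodeAlg A a := IsLocalization.liftAlgHom (M := Submonoid.powers (Polynomial.X : Polynomial A))
    (f := ev) (by rintro ⟨_, n, rfl⟩; rw [map_pow]; exact hu.pow n)
  have hG : ∀ q, G (algebraMap (Polynomial A) L q) = Polynomial.aeval (π (MvPolynomial.X 0)) q :=
    fun q => IsLocalization.lift_eq _ q
  have hGti : G ti = π (MvPolynomial.X 1) * algebraMap A _ a⁻¹ := by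
    refine hu.mul_left_cancel ?_
    rw [← hG, ← map_mul, ht, map_one, hG, Polynomial.aeval_X, ← mul_assoc, ← map_mul,
      show π (MvPolynomial.X 0 * MvPolynomial.X 1) = π (MvPolynomial.C a) from Ideal.Quotient.eq.2 (Ideal.subset_span rfl)]
    show 1 = algebraMap A (StrictSS.NodeAlg A a) a * _
    rw [← map_mul, mul_inv_cancel₀ ha, map_one]
  have h1 : F.comp G = AlgHom.id A L := by
    refine IsLocalization.algHom_ext (Submonoid.powers (Polynomial.X : Polynomial A)) (Polynomial.algHom_ext ?_)
    show F (G (algebraMap (Polynomial A) L Polynomial.X)) = t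
    rw [hG, Polynomial.aeval_X]
    simp [F, π]
  have h2 : G.comp F = AlgHom.id A _ := by
    refine Ideal.Quotient.algHom_ext _ (MvPolynomial.algHom_ext fun i => ?_)
    fin_cases i
    · show G (F (π (MvPolynomial.X 0))) = π (MvPolynomial.X 0)
      have : F (π (MvPolynomial.X 0)) = t := by simp [F, π]
      rw [this, hG, Polynomial.aeval_X]
    · show G (F (π (MvPolynomial.X 1))) = π (MvPolynomial.X 1)
      have : F (π (MvPolynomial.X 1)) = algebraMap A L a * ti := by simp [F, π]
      rw [this, map_mul, hGti, AlgHom.commutes, mul_comm, mul_assoc, ← map_mul, inv_mul_cancel₀ ha, map_one, mul_one]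
  haveI : Algebra.Smooth A (MvPolynomial (Fin 1) A) := {}
  haveI : Algebra.Smooth A (Polynomial A) := Algebra.Smooth.of_equiv (MvPolynomial.uniqueAlgEquiv A (Fin 1))
  haveI : Algebra.Smooth A L := Algebra.Smooth.comp A (Polynomial A) L
  haveI : Algebra.Smooth A (StrictSS.NodeAlg A a) := Algebra.Smooth.of_equiv (AlgEquiv.ofAlgHom G F h2 h1)
  rw [StrictSS.nodeToBase, HasRingHomProperty.Spec_iff (P := @Smooth)]
  exact RingHom.smooth_algebraMap.2 inferInstance

theorem smooth_line (B : Type u) [CommRing B] : Smooth (StrictSS.lineToBase B) := by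
  rw [StrictSS.lineToBase, HasRingHomProperty.Spec_iff (P := @Smooth)]
  haveI : Algebra.Smooth B (MvPolynomial (Fin 1) B) := {}
  haveI : Algebra.Smooth B (Polynomial B) := Algebra.Smooth.of_equiv (MvPolynomial.uniqueAlgEquiv B (Fin 1))
  exact (RingHom.smooth_algebraMap (R := B) (S := Polynomial B)).2 inferInstance

end node

open CategoryTheory CategoryTheory.Limits AlgebraicGeometry in
/-- Let k be a separably closed field and (C, D) a strictly semistable multipointed curve over Spec k
with C and D reduced. Then the irreducible components of C are smooth: for every irreducible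
component Z of C there is a reduced closed subscheme of C with underlying set Z which is smooth over
k. (The published remark asserts that, for semistable curves over such a field, strict semistability
is equivalent to smoothness of the irreducible components; this row is the implication from strict
semistability.) -/
theorem result
    (k : Type u) [Field k] [IsSepClosed k]
    {C D : Scheme.{u}} (φ : C ⟶ Spec (CommRingCat.of k)) (i : D ⟶ C) [IsReduced C] [IsReduced D]
    (h : StrictSS.IsStrictlySemistable φ i)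
    (Z : Set C) (hZ : Z ∈ irreducibleComponents (C : Type u)) :
    ∃ (W : Scheme.{u}) (e : W ⟶ C), IsClosedImmersion e ∧ IsReduced W ∧
      Set.range e.base = Z ∧ Smooth (e ≫ φ) := by
  obtain ⟨hmp, hch⟩ := h
  let W := (Scheme.IdealSheafData.vanishingIdeal (⟨Z, isClosed_of_mem_irreducibleComponents Z hZ⟩ : Closeds C)).subscheme
  let e : W ⟶ C := (Scheme.IdealSheafData.vanishingIdeal (⟨Z, isClosed_of_mem_irreducibleComponents Z hZ⟩ : Closeds C)).subschemeι
  have hr : Set.range e = Z := by
    refine (Scheme.IdealSheafData.range_subschemeι _).trans ?_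
    simp
  haveI hWred : IsReduced W := inferInstance
  refine ⟨W, e, inferInstance, hWred, hr, ?_⟩
  -- charts at every point
  have hloc : ∀ w : W, ∃ V : W.Opens, w ∈ V ∧ Smooth (V.ι ≫ e ≫ φ) := by
    intro w
    -- reduction to an affine field `A` over `k`
    have hchart : ∀ (A : CommRingCat.{u}) (j : Spec A ⟶ Spec (CommRingCat.of k)), IsOpenImmersion j →
        Nonempty ↥(Spec A) → IsIso j := fun A j hj ⟨a⟩ => by
      haveI : Surjective j := ⟨fun b => by
        haveI : Subsingleton ↥(Spec (CommRingCat.of k)) := inferInstanceAs (Subsingleton (PrimeSpectrum k))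
        exact ⟨a, Subsingleton.elim _ _⟩⟩
      haveI : Epi j.base := (TopCat.epi_iff_surjective _).2 j.surjective
      exact IsOpenImmersion.isIso j
    have key : ∀ (U : C.Opens), e w ∈ U → ∀ {Y : Scheme.{u}} (b : Y ⟶ U) [IsClosedImmersion b]
        [Smooth (b ≫ U.ι ≫ φ)], U.ι ⁻¹' Z ⊆ Set.range b → ∃ V : W.Opens, w ∈ V ∧ Smooth (V.ι ≫ e ≫ φ) := by
      intro U hwU Y b _ _ hZb
      let e' := e ∣_ U
      have hr' : Set.range e' = U.ι ⁻¹' Z := by
        rw [← hr]
        ext x
        refine ⟨fun ⟨y, hy⟩ => ⟨y.1, ?_⟩, fun ⟨y, hy⟩ => ⟨⟨y, show e y ∈ U from hy ▸ x.2⟩, ?_⟩⟩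
        · rw [← hy, ← Scheme.Hom.comp_apply, morphismRestrict_ι]
          rfl
        · exact U.ι.injective (by rw [← Scheme.Hom.comp_apply, morphismRestrict_ι]; exact hy)
      have hcomp : U.ι ⁻¹' Z ∈ irreducibleComponents ↥(U : Scheme.{u}) :=
        preimage_mem_irreducibleComponents hZ U.ι.isOpenEmbedding
          ⟨e w, hr ▸ ⟨w, rfl⟩, ⟨⟨e w, hwU⟩, rfl⟩⟩
      haveI : IsReduced ((e ⁻¹ᵁ U : W.Opens) : Scheme.{u}) := inferInstance
      have hsub : Set.range e' ⊆ Set.range b := hr' ▸ hZb
      haveI : Surjective (pullback.snd b e') := ⟨fun a => by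
        have : a ∈ Set.range (pullback.snd b e') := by
          rw [Scheme.Pullback.range_snd]
          exact hsub ⟨a, rfl⟩
        exact this⟩
      haveI : IsIso (pullback.snd b e') := isIso_of_isClosedImmersion_of_surjective _
      let l := inv (pullback.snd b e') ≫ pullback.fst b e'
      have hl : l ≫ b = e' := by rw [Category.assoc, pullback.condition, IsIso.inv_hom_id_assoc]
      haveI : IsClosedImmersion (l ≫ b) := hl ▸ inferInstance
      haveI : IsClosedImmersion l := IsClosedImmersion.of_comp l b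
      have hlc : Set.range l ∈ irreducibleComponents ↥Y := by
        have h1 : b '' Set.range l = U.ι ⁻¹' Z := by
          rw [← Set.range_comp, ← hr', ← hl]; rfl
        have hbi := b.isClosedEmbedding
        have hirr : IsIrreducible (Set.range l) := by
          have := hcomp.1
          rw [← h1] at this
          refine ⟨?_, ?_⟩
          · obtain ⟨_, y, hy, rfl⟩ := this.1
            exact ⟨y, hy⟩
          · intro u v hu hv ⟨y, hy, hyu⟩ ⟨y', hy', hyv⟩
            obtain ⟨u', hu', rfl⟩ := hbi.isInducing.isOpen_iff.1 hu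
            obtain ⟨v', hv', rfl⟩ := hbi.isInducing.isOpen_iff.1 hv
            obtain ⟨_, ⟨z, hz, rfl⟩, hzu, hzv⟩ := this.2 u' v' hu' hv' ⟨b y, ⟨y, hy, rfl⟩, hyu⟩ ⟨b y', ⟨y', hy', rfl⟩, hyv⟩
            exact ⟨z, hz, hzu, hzv⟩
        refine ⟨hirr, fun T hT hle z hz => ?_⟩
        have h2 : b '' T ⊆ U.ι ⁻¹' Z :=
          hcomp.2 (hT.image b b.continuous.continuousOn) (h1 ▸ Set.image_mono hle)
        obtain ⟨z', hz', he⟩ := h1.symm ▸ h2 ⟨z, hz, rfl⟩
        exact hbi.injective he ▸ hz'
      refine ⟨e ⁻¹ᵁ U, hwU, ?_⟩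
      rw [← morphismRestrict_ι_assoc, show e ∣_ U = l ≫ b from hl.symm, Category.assoc]
      exact smooth_of_component l (b ≫ U.ι ≫ φ) hlc
    rcases hch (e w) with ⟨A, j, hj, U, hwU, q, hq, f, fD, hf, hfq, -, -⟩ |
        ⟨A, j, hj, U, hwU, q, hq, a, f, hf, hfq, -⟩
    · haveI := hchart A j hj ⟨q ⟨e w, hwU⟩⟩
      haveI := smooth_line A
      haveI : Smooth (𝟙 _ ≫ U.ι ≫ φ) := by
        rw [Category.id_comp, hq, ← hfq]; infer_instance
      exact key U hwU (𝟙 _) (fun x _ => ⟨x, rfl⟩)
    · haveI := hchart A j hj ⟨q ⟨e w, hwU⟩⟩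
      have hA : IsField A := by
        have := (Scheme.ΓSpecIso A).symm ≪≫ (asIso j.appTop).symm ≪≫ Scheme.ΓSpecIso (CommRingCat.of k)
        exact MulEquiv.isField (Field.toIsField k) this.commRingCatIsoToRingEquiv.toMulEquiv
      obtain ⟨A⟩ := A
      letI : Field A := hA.toField
      by_cases ha : a = 0
      · subst ha
        obtain ⟨T, hT, hTmax⟩ : ∃ T, IsIrreducible T ∧ T = U.ι ⁻¹' Z :=
          ⟨_, (preimage_mem_irreducibleComponents hZ U.ι.isOpenEmbedding
            ⟨e w, hr ▸ ⟨w, rfl⟩, ⟨⟨e w, hwU⟩, rfl⟩⟩).1, rfl⟩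
        haveI : ∀ b : Fin 2, IsClosedImmersion (Spec.map (CommRingCat.ofHom (branch (A := A) b))) := fun b =>
          IsClosedImmersion.spec_of_surjective _ (branch_surjective b)
        let pb := fun b : Fin 2 => pullback.fst f (Spec.map (CommRingCat.ofHom (branch (A := A) b)))
        obtain ⟨b, hb⟩ : ∃ b, T ⊆ Set.range (pb b) := by
          have h0 : T ⊆ Set.range (pb 0) ∪ Set.range (pb 1) := fun x _ => by
            obtain ⟨b, hb⟩ := branch_cover (f x)
            fin_cases b
            · exact Or.inl (by rw [Scheme.Pullback.range_fst]; exact hb)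
            · exact Or.inr (by rw [Scheme.Pullback.range_fst]; exact hb)
          rcases isPreirreducible_iff_isClosed_union_isClosed.1 hT.2 _ _ (pb 0).isClosedEmbedding.isClosed_range
            (pb 1).isClosedEmbedding.isClosed_range h0 with h' | h'
          exacts [⟨0, h'⟩, ⟨1, h'⟩]
        haveI : Smooth (pb b ≫ U.ι ≫ φ) := by
          rw [hq, ← hfq]
          simp only [pb, ← Category.assoc, pullback.condition]
          haveI := smooth_line A
          have h3 : Spec.map (CommRingCat.ofHom (branch (A := A) b)) ≫ StrictSS.nodeToBase A 0 = StrictSS.lineToBase A := by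
            rw [StrictSS.nodeToBase, ← Spec.map_comp, ← CommRingCat.ofHom_comp, branch_C]
          rw [Category.assoc (pullback.snd _ _), h3]
          infer_instance
        exact key U hwU (pb b) (hTmax ▸ hb)
      · haveI := smooth_node ha
        haveI : Smooth (𝟙 _ ≫ U.ι ≫ φ) := by
          rw [Category.id_comp, hq, ← hfq]; infer_instance
        exact key U hwU (𝟙 _) (fun x _ => ⟨x, rfl⟩)
  choose V hV hs using hloc
  refine (IsZariskiLocalAtSource.iff_of_openCover (P := @Smooth) (W.openCoverOfIsOpenCover V ?_)).2 fun w => hs w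
  exact top_le_iff.1 fun w _ => Opens.mem_iSup.2 ⟨w, hV w⟩

end Groth.Agent.S15649
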