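import Groth.Statements.S1565
import Groth.Agent.Lib.CurveFF.CanonRatio
import Groth.Agent.Lib.CurveFF.GoodFibre
-- import your own Groth.Agent.* helpers here

set_option autoImplicit false
universe u
open CategoryTheory CategoryTheory.Limits AlgebraicGeometry
attribute [local instance] Curv2.resAlgebra
open Curves

namespace Groth.Agent.S1565
open Groth.Agent.Lib
attribute [local instance] Curv2.stalkAlgebra

/-- Let X be a smooth proper curve over a field k whose global functions are k, of genus g ≥ 2. Then X
has a closed point whose residue field is a separable extension of k of degree at most 2g - 2. -/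
theorem result (k : Type u) [Field k] (X : Scheme.{u}) [X.Over (Spec (CommRingCat.of k))]
    (hX : Curve.IsSmoothProperCurve k X (X ↘ (Spec (CommRingCat.of k)))) (h0 : Module.finrank k (Coh.HH X (Coh.structureModule X) 0) = 1) (hg : 2 ≤ Curv2.genus k X) :
    ∃ x : X, IsClosed ({x} : Set X) ∧ Algebra.IsSeparable k (X.residueField x) ∧
      Module.finrank k (X.residueField x) ≤ 2 * Curv2.genus k X - 2 ∧ FiniteDimensional k (X.residueField x) := by
  obtain ⟨hp, hs, hi, hdim⟩ := hX
  haveI := hp
  haveI := hs
  haveI := hi
  have h := CurveFF.curveHyp_of_smooth k hdim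
  obtain ⟨W, x, hW, hWd, hxW, hx⟩ := CurveFF.CanonRatio.exists_function hdim h0 hg
  have hres : ∃ y : X, IsClosed ({y} : Set X) ∧ Algebra.IsSeparable k (X.residueField y) ∧
      (Module.finrank k (X.residueField y) : ℤ) ≤ W.deg ∧ FiniteDimensional k (X.residueField y) := by
    cases finite_or_infinite k with
    | inl hf =>
      haveI := hf
      haveI : PerfectField k := PerfectField.ofFinite
      exact CurveFF.GoodFibre.exists_point_perfect h0 h hW (by omega)
    | inr hf =>
      haveI := hf
      exact CurveFF.GoodFibre.exists_point hdim h0 h hW hxW hx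
  obtain ⟨y, h1, h2, h3, h4⟩ := hres
  exact ⟨y, h1, h2, by omega, h4⟩

end Groth.Agent.S1565
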