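import Groth.Statements.S15650
import Groth.Agent.Lib.SSComp98.Chart
import Groth.Agent.Lib.SSComp98.Models
import Groth.Agent.Lib.SSComp98.Points
import Groth.Agent.H25.Morse.RelDim

set_option autoImplicit false
universe u
open StrictSS

namespace Groth.Agent.S15650

open CategoryTheory CategoryTheory.Limits AlgebraicGeometry IsLocalRing
open Groth.Agent.H25 Groth.Agent.Lib.Synt92.MorOverField
open Groth.Agent.Lib.SSComp98
open Groth.Agent.Lib.NodeModel.Algebra (gen lift_gen)

section helpers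

variable {k : Type u} [Field k] {C D : Scheme.{u}} (φ : C ⟶ Spec (CommRingCat.of k))

/-- An open subscheme of a pure curve is a pure curve. -/
theorem comps_open [LocallyOfFiniteType φ] {V : Scheme.{u}} (j : V ⟶ C) [IsOpenImmersion j]
    (hdim : ∀ Z ∈ irreducibleComponents (C : Type u), topologicalKrullDim Z = 1) :
    ∀ Z ∈ irreducibleComponents (V : Type u), topologicalKrullDim Z = 1 := by
  haveI : JacobsonSpace C := LocallyOfFiniteType.jacobsonSpace φ
  refine Node.Dim.comps_one_of_map j hdim fun y hy => ?_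
  have h : y ∈ closedPoints V := hy
  rw [← j.isOpenEmbedding.preimage_closedPoints] at h
  exact h

/-- The local rings of a scheme étale over a separably closed field. -/
theorem etale_stalk [IsSepClosed k] (ψ : D ⟶ Spec (CommRingCat.of k)) [Etale ψ] (y : D) :
    IsField (D.presheaf.stalk y) ∧
      Function.Surjective ((residue (D.presheaf.stalk y)).comp (Points.stalkHom ψ y)) := by
  obtain ⟨U, hU, hyU, -⟩ := exists_isAffineOpen_mem_and_subset (X := D) (x := y) (U := ⊤) trivial
  letI := (secHom ψ U).toAlgebra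
  letI := (Points.stalkHom ψ y).toAlgebra
  have : Algebra.Etale k Γ(D, U) := by
    have h : (secHom ψ U).Etale := RingHom.Etale.respectsIso.2 _
      (Scheme.ΓSpecIso (CommRingCat.of k)).commRingCatIsoToRingEquiv.symm
      (HasRingHomProperty.appLE @Etale ψ inferInstance ⟨⊤, isAffineOpen_top _⟩ ⟨U, hU⟩ le_top)
    exact RingHom.etale_algebraMap.1 h
  let := TopCat.Presheaf.algebra_section_stalk D.presheaf (⟨y, hyU⟩ : U)
  have := hU.isLocalization_stalk ⟨y, hyU⟩
  let O := D.presheaf.stalk y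
  haveI : IsScalarTower k Γ(D, U) O :=
    IsScalarTower.of_algebraMap_eq fun r => congrArg (fun φ : k →+* _ => φ r) (germ_secHom ψ U y hyU)
  haveI : Algebra.EssFiniteType k O := (chart ψ hU hyU).1
  haveI : Algebra.FormallyUnramified Γ(D, U) O :=
    Algebra.FormallyUnramified.of_isLocalization (hU.primeIdealOf ⟨y, hyU⟩).asIdeal.primeCompl
  haveI : Algebra.FormallyUnramified k O := Algebra.FormallyUnramified.comp k Γ(D, U) O
  haveI := Algebra.FormallyUnramified.finite_of_free k O
  haveI : IsArtinianRing O := IsArtinianRing.of_finite k O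
  haveI := Algebra.FormallyUnramified.isReduced_of_field k O
  have hfield : IsField O := IsArtinianRing.isField_of_isReduced_of_isLocalRing _
  haveI : Algebra.FormallyUnramified k (ResidueField O) :=
    Algebra.FormallyUnramified.of_surjective (IsScalarTower.toAlgHom k O _) IsLocalRing.residue_surjective
  haveI : Algebra.IsSeparable k (ResidueField O) := Algebra.FormallyUnramified.isSeparable k _
  exact ⟨hfield, Points.surjective_residue_of_isSeparable k O⟩

/-- Smooth points without markings. -/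
theorem line_unmarked [LocallyOfFinitePresentation φ]
    (hdim : ∀ Z ∈ irreducibleComponents (C : Type u), topologicalKrullDim Z = 1)
    (i : D ⟶ C) [IsClosedImmersion i] (hD : Etale (i ≫ φ)) (x : C) (hx : x ∈ φ.smoothLocus)
    (hxi : x ∉ Set.range i.base) :
    ∃ V : C.Opens, x ∈ V ∧ ∀ z ∈ V, StrictSS.HasLineChartAt φ i z := by
  let W : C.Opens := φ.smoothLocus ⊓ ⟨(Set.range i.base)ᶜ, i.isClosedEmbedding.isClosed_range.isOpen_compl⟩
  let p : (W : Scheme.{u}) ⟶ Spec (CommRingCat.of k) := W.ι ≫ φ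
  have : Smooth p := by
    rw [← Scheme.Hom.smoothLocus_eq_top_iff, ← Scheme.Hom.preimage_smoothLocus_eq]
    exact eq_top_iff.2 fun z _ => z.2.1
  obtain ⟨Uk, hUk, V', hV', hxV', e, hst⟩ := Smooth.exists_isStandardSmooth p ⟨x, hx, hxi⟩
  obtain rfl : Uk = ⊤ := TopologicalSpace.Opens.ext (Set.eq_univ_of_forall fun y => by
    rw [Subsingleton.elim y (p ⟨x, hx, hxi⟩)]; exact e hxV')
  have hχ : (secHom p V').IsStandardSmooth := RingHom.isStandardSmooth_respectsIso.2 _
    (Scheme.ΓSpecIso (CommRingCat.of k)).commRingCatIsoToRingEquiv.symm hst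
  letI := (secHom p V').toAlgebra
  obtain ⟨_, _, _, _, ⟨P⟩⟩ := id hχ
  have hn : (secHom p V').IsStandardSmoothOfRelativeDimension P.dimension := ⟨_, _, _, ‹_›, P, rfl⟩
  have hsd : SmoothOfRelativeDimension P.dimension (V'.ι ≫ p) := by
    rw [← Chart.isoSpec_secHom p hV', MorphismProperty.cancel_left_of_respectsIso
      (@SmoothOfRelativeDimension P.dimension)]
    exact (HasRingHomProperty.Spec_iff (P := @SmoothOfRelativeDimension P.dimension)).2
      (RingHom.locally_of RingHom.isStandardSmoothOfRelativeDimension_respectsIso _ hn)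
  have h1 := Morse.RelDim.eq_one k (V' : Scheme.{u}) (V'.ι ≫ p) P.dimension
    (comps_open φ (V'.ι ≫ W.ι) hdim) ⟨_, hxV'⟩
  rw [h1] at hn
  obtain ⟨g, hgC, hg⟩ := hn.exists_etale_mvPolynomial
  let E : MvPolynomial (Fin 1) k ≃ₐ[k] Polynomial k := MvPolynomial.uniqueAlgEquiv k (Fin 1)
  let g' : Polynomial k →+* Γ(W, V') := g.comp E.symm.toRingEquiv.toRingHom
  have hg'C : g'.comp Polynomial.C = secHom p V' := by
    refine RingHom.ext fun r => ?_
    show g (E.symm (algebraMap k (Polynomial k) r)) = _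
    rw [E.symm.commutes, ← hgC]
    rfl
  have hg' : g'.Etale := RingHom.Etale.respectsIso.2 _ E.symm.toRingEquiv hg
  haveI : Etale (Spec.map (CommRingCat.ofHom g')) := by
    rwa [HasRingHomProperty.Spec_iff (P := @Etale)]
  let U : C.Opens := (V'.ι ≫ W.ι).opensRange
  let e : (V' : Scheme.{u}) ≅ (U : Scheme.{u}) := (V'.ι ≫ W.ι).isoOpensRange
  have he : e.inv ≫ V'.ι ≫ W.ι = U.ι := (V'.ι ≫ W.ι).isoOpensRange_inv_comp
  have hUW : ∀ z ∈ U, z ∈ W := by rintro _ ⟨w, rfl⟩; exact (V'.ι w).2
  haveI hetg : Etale (hV'.isoSpec.hom ≫ Spec.map (CommRingCat.ofHom g')) :=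
    (MorphismProperty.cancel_left_of_respectsIso @Etale hV'.isoSpec.hom _).2 ‹_›
  haveI : Etale (e.inv ≫ hV'.isoSpec.hom ≫ Spec.map (CommRingCat.ofHom g')) :=
    (MorphismProperty.cancel_left_of_respectsIso @Etale e.inv _).2 hetg
  have hcomp : Spec.map (CommRingCat.ofHom g') ≫ StrictSS.lineToBase (CommRingCat.of k) =
      Spec.map (CommRingCat.ofHom (secHom p V')) := by
    rw [← hg'C]; exact (Spec.map_comp _ _).symm
  refine ⟨U, ⟨⟨_, hxV'⟩, rfl⟩, fun z hz => ?_⟩
  have : IsEmpty ((i ⁻¹ᵁ U : D.Opens) : Scheme.{u}) := ⟨fun d => (hUW _ d.2).2 ⟨d.1, rfl⟩⟩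
  refine ⟨CommRingCat.of k, 𝟙 _, inferInstance, U, hz, U.ι ≫ φ, (Category.comp_id _).symm,
    e.inv ≫ hV'.isoSpec.hom ≫ Spec.map (CommRingCat.ofHom g'), (i ⁻¹ᵁ U).ι ≫ i ≫ φ,
    inferInstance, ?_, inferInstance, isInitialOfIsEmpty.hom_ext _ _⟩
  erw [Category.assoc, Category.assoc, hcomp, Chart.isoSpec_secHom p hV', ← reassoc_of% he]

/-- Marked points. -/
theorem line_marked [IsSepClosed k] [LocallyOfFinitePresentation φ]
    (hdim : ∀ Z ∈ irreducibleComponents (C : Type u), topologicalKrullDim Z = 1)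
    (i : D ⟶ C) [IsClosedImmersion i] (hD : Etale (i ≫ φ)) (y : D)
    (hx : i y ∈ φ.smoothLocus) (hcl : IsClosed ({i y} : Set C)) :
    ∃ V : C.Opens, i y ∈ V ∧ ∀ z ∈ V, StrictSS.HasLineChartAt φ i z := by
  haveI : IsLocallyNoetherian C := LocallyOfFiniteType.isLocallyNoetherian φ
  haveI : LocallyQuasiFinite (i ≫ φ) := Lib.Henselian.DescendSection.locallyQuasiFinite_of_etale _
  haveI : DiscreteTopology D := by
    refine isDiscrete_univ_iff.1 ?_
    rw [← show (i ≫ φ) ⁻¹' {(i ≫ φ) y} = Set.univ from Set.eq_univ_of_forall fun d => Subsingleton.elim _ _]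
    exact (i ≫ φ).isDiscrete_preimage_singleton _
  let O := C.presheaf.stalk (i y)
  haveI : IsRegularLocalRing O := Lib.JacCrit.OverField.isRegularLocalRing_stalk φ _ hx
  obtain ⟨t, ht⟩ := Points.exists_generator (A := O)
    ((Points.ringKrullDim_stalk_le _).trans (Node.AtWorst.dim_le_one C hdim))
  have hnil : ¬ IsNilpotent t := fun h => by
    haveI := Lib.Regular.Quotient.isDomain O
    obtain ⟨P, hP, -⟩ := Ideal.exists_minimalPrimes_le (I := (⊥ : Ideal O)) (J := maximalIdeal O) bot_le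
    refine Points.ne_maximal_of_mem_minimalPrimes hdim _ hcl hP (le_antisymm
      (le_maximalIdeal hP.1.1.ne_top) ?_)
    rw [ht, h.eq_zero, Ideal.span_singleton_eq_bot.2 rfl]
    exact bot_le
  -- an affine neighbourhood with a section inducing `t`
  obtain ⟨W, hxW, a, ha⟩ := C.presheaf.germ_exist t
  let N : C.Opens := W ⊓ ⟨(i.base '' {y}ᶜ)ᶜ,
    (i.isClosedEmbedding.isClosedMap _ (isClosed_discrete _)).isOpen_compl⟩
  have hyN : i y ∈ N := ⟨hxW, fun ⟨d, hd, hde⟩ => hd (i.isClosedEmbedding.injective hde)⟩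
  obtain ⟨U, hU, hxU, hUN⟩ := exists_isAffineOpen_mem_and_subset (X := C) (U := N) hyN
  let u : Γ(C, U) := C.presheaf.map (homOfLE (fun z hz => (hUN hz).1 : U ≤ W)).op a
  have hu : C.presheaf.germ U (i y) hxU u = t := by
    rw [← ha]; exact C.presheaf.germ_res_apply _ _ _ _
  let θ : Polynomial k →+* Γ(C, U) := Polynomial.eval₂RingHom (secHom φ U) u
  have hθC : θ.comp (algebraMap k (Polynomial k)) = secHom φ U :=
    RingHom.ext fun r => Polynomial.eval₂_C _ _
  let := TopCat.Presheaf.algebra_section_stalk C.presheaf (⟨i y, hxU⟩ : U)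
  have := hU.isLocalization_stalk ⟨i y, hxU⟩
  letI : Algebra k O := (Points.stalkHom φ (i y)).toAlgebra
  letI : Algebra (Polynomial k) O := ((algebraMap Γ(C, U) O).comp θ).toAlgebra
  haveI : IsScalarTower k (Polynomial k) O := IsScalarTower.of_algebraMap_eq fun r => by
    show Points.stalkHom φ (i y) r = algebraMap Γ(C, U) O ((θ.comp (algebraMap k (Polynomial k))) r)
    rw [hθC, Points.stalkHom, germ_secHom φ U (i y) hxU]
    rfl
  haveI : Algebra.EssFiniteType k O := (chart φ hU hxU).1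
  have hXt : algebraMap (Polynomial k) O Polynomial.X = t := by
    show algebraMap Γ(C, U) O (θ Polynomial.X) = t
    rw [show θ Polynomial.X = u from Polynomial.eval₂_X _ _]
    exact hu
  obtain ⟨hfield, hsurjD⟩ := etale_stalk (i ≫ φ) y
  have hres : Function.Surjective ((residue O).comp (algebraMap k O)) := fun z => by
    obtain ⟨c, hc⟩ := hsurjD (ResidueField.map (i.stalkMap y).hom z)
    refine ⟨c, (ResidueField.map (i.stalkMap y).hom).injective ?_⟩
    rw [← hc, RingHom.comp_apply, ResidueField.map_residue, RingHom.comp_apply]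
    congr 1
    show (i.stalkMap y).hom (Points.stalkHom φ (i y) c) = Points.stalkHom (i ≫ φ) y c
    simp only [Points.stalkHom, CommRingCat.hom_comp, RingHom.comp_apply]
    rw [Scheme.Hom.germ_stalkMap_apply, ← Scheme.Hom.appLE_comp_appLE i φ ⊤ ⊤ ⊤ le_top le_top]
    simp [Scheme.Hom.appLE]
    rfl
  obtain ⟨hflat, hunr⟩ := Models.line (k := k) (S := O) hXt ht.symm hnil hres
  obtain ⟨V, hxV, hVU, f, hf, hfφ, hfdef⟩ :=
    Chart.exists_chart φ hU hxU (Polynomial k) θ hθC O rfl hflat hunr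
  refine ⟨V, hxV, fun z hz => ?_⟩
  refine ⟨CommRingCat.of k, 𝟙 _, inferInstance, V, hz, V.ι ≫ φ, (Category.comp_id _).symm, f,
    (i ⁻¹ᵁ V).ι ≫ i ≫ φ, hf, hfφ, inferInstance, ?_⟩
  -- the marked point is the zero section
  have hred : _root_.AlgebraicGeometry.IsReduced D := by
    haveI : ∀ d : D, _root_.IsReduced (D.presheaf.stalk d) := fun d => by
      letI := (etale_stalk (i ≫ φ) d).1.toField
      infer_instance
    exact isReduced_of_isReduced_stalk D
  let r : Γ(C, U) →+* Γ(D, i ⁻¹ᵁ V) := (C.presheaf.map (homOfLE hVU).op ≫ i.app V).hom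
  have hr0 : r u = 0 := by
    show i.app V (C.presheaf.map (homOfLE hVU).op u) = 0
    rw [← basicOpen_eq_bot_iff, ← Scheme.preimage_basicOpen, eq_bot_iff]
    intro d hd
    have hdy : d = y := by
      by_contra hne
      exact (hUN (hVU (C.basicOpen_le _ hd))).2 ⟨d, hne, rfl⟩
    subst hdy
    have hd' : IsUnit (C.presheaf.germ V _ (C.basicOpen_le _ hd) (C.presheaf.map (homOfLE hVU).op u)) :=
      (C.mem_basicOpen _ _ (C.basicOpen_le _ hd)).1 hd
    rw [TopCat.Presheaf.germ_res_apply, hu] at hd'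
    exact absurd hd' (show t ∈ maximalIdeal O from ht.ge (Ideal.mem_span_singleton_self t))
  have key : (r.comp (secHom φ U)).comp (Polynomial.evalRingHom 0) = r.comp θ := by
    refine Polynomial.ringHom_ext (fun c => ?_) ?_
    · simp [θ]
    · simp [θ, hr0]
  rw [← morphismRestrict_ι_assoc, StrictSS.lineZero, hfdef]
  have hι : V.ι ≫ φ = C.homOfLE hVU ≫ hU.isoSpec.hom ≫ Spec.map (CommRingCat.ofHom (secHom φ U)) := by
    rw [Chart.isoSpec_secHom, Scheme.homOfLE_ι_assoc]
  have hT : ∀ {R : Type u} [CommRing R] (θ : R →+* Γ(C, U)),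
      (i ∣_ V) ≫ C.homOfLE hVU ≫ hU.isoSpec.hom ≫ Spec.map (CommRingCat.ofHom θ) =
        (i ⁻¹ᵁ V).toSpecΓ ≫ Spec.map (CommRingCat.ofHom (r.comp θ)) := by
    intro R _ θ
    rw [IsAffineOpen.isoSpec_hom, ← Scheme.Opens.toSpecΓ_SpecMap_presheaf_map_assoc V U hVU,
      ← Scheme.Opens.toSpecΓ_naturality_assoc]
    simp only [← Spec.map_comp]
    rfl
  rw [hι, hT, Category.assoc, hT, ← Spec.map_comp, ← CommRingCat.ofHom_comp, key]

/-- Nodes. -/
theorem node_chart [IsSepClosed k] [LocallyOfFinitePresentation φ]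
    (hdim : ∀ Z ∈ irreducibleComponents (C : Type u), topologicalKrullDim Z = 1)
    (hZ : ∀ Z ∈ irreducibleComponents (C : Type u), ∃ (W : Scheme.{u}) (e : W ⟶ C),
      IsClosedImmersion e ∧ _root_.AlgebraicGeometry.IsReduced W ∧ Set.range e.base = Z ∧ Smooth (e ≫ φ))
    (i : D ⟶ C) [IsClosedImmersion i] (x : C) (hcl : IsClosed ({x} : Set C))
    (hxi : x ∉ Set.range i.base) (hN : Node.IsNodal (C.presheaf.stalk x))
    (hres : Function.Surjective ((residue (C.presheaf.stalk x)).comp (Points.stalkHom φ x))) :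
    ∃ V : C.Opens, x ∈ V ∧ ∀ z ∈ V, StrictSS.HasNodeChartAt φ i z := by
  haveI : IsLocallyNoetherian C := LocallyOfFiniteType.isLocallyNoetherian φ
  let O := C.presheaf.stalk x
  obtain ⟨s, t, hst⟩ := Groth.Agent.Lib.SSComp98.Algebra.exists_isSplit (O := O) hN
    fun P hP => Points.exists_branch φ hdim hZ x hcl hP
  obtain ⟨W₁, hx₁, a, ha⟩ := C.presheaf.germ_exist s
  obtain ⟨W₂, hx₂, b, hb⟩ := C.presheaf.germ_exist t
  obtain ⟨W, hxW, iW, iW', hW⟩ := C.presheaf.germ_eq x (U := W₁ ⊓ W₂) (V := W₁ ⊓ W₂) ⟨hx₁, hx₂⟩ ⟨hx₁, hx₂⟩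
    (C.presheaf.map (homOfLE inf_le_left).op a * C.presheaf.map (homOfLE inf_le_right).op b) 0 (by
      rw [map_mul, map_zero, TopCat.Presheaf.germ_res_apply, TopCat.Presheaf.germ_res_apply, ha, hb, hst.mul])
  rw [map_zero, map_mul] at hW
  obtain ⟨U, hU, hxU, hUN⟩ := exists_isAffineOpen_mem_and_subset (X := C)
    (U := W ⊓ ⟨(Set.range i.base)ᶜ, i.isClosedEmbedding.isClosed_range.isOpen_compl⟩) ⟨hxW, hxi⟩
  have hUW : U ≤ W := fun z hz => (hUN hz).1
  let u : Γ(C, U) := C.presheaf.map (homOfLE hUW).op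
    (C.presheaf.map iW.op (C.presheaf.map (homOfLE inf_le_left).op a))
  let v : Γ(C, U) := C.presheaf.map (homOfLE hUW).op
    (C.presheaf.map iW.op (C.presheaf.map (homOfLE inf_le_right).op b))
  have huv : u * v = 0 := by rw [← map_mul, hW, map_zero]
  have hu : C.presheaf.germ U x hxU u = s := by
    simp only [u, TopCat.Presheaf.germ_res_apply]; exact ha
  have hv : C.presheaf.germ U x hxU v = t := by
    simp only [v, TopCat.Presheaf.germ_res_apply]; exact hb
  letI := (secHom φ U).toAlgebra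
  let θ := Lib.NodeModel.Algebra.lift (0 : k) (C := Γ(C, U)) u v (by rw [huv, map_zero])
  let := TopCat.Presheaf.algebra_section_stalk C.presheaf (⟨x, hxU⟩ : U)
  have := hU.isLocalization_stalk ⟨x, hxU⟩
  letI : Algebra k O := (Points.stalkHom φ x).toAlgebra
  letI : Algebra (StrictSS.NodeAlg k 0) O := ((algebraMap Γ(C, U) O).comp θ.toRingHom).toAlgebra
  haveI : IsScalarTower k (StrictSS.NodeAlg k 0) O := IsScalarTower.of_algebraMap_eq (R := k) (S := StrictSS.NodeAlg k 0) (A := O) fun r => by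
    show Points.stalkHom φ x r = algebraMap Γ(C, U) O (θ (algebraMap k _ r))
    rw [θ.commutes, Points.stalkHom, germ_secHom φ U x hxU]
    rfl
  haveI : Algebra.EssFiniteType k O := (chart φ hU hxU).1
  obtain ⟨hflat, hunr⟩ := Models.node (k := k) (S := O) hst
    (by show algebraMap Γ(C, U) O (θ (gen (0 : k) 0)) = s; rw [lift_gen]; exact hu)
    (by show algebraMap Γ(C, U) O (θ (gen (0 : k) 1)) = t; rw [lift_gen]; exact hv) hres
  obtain ⟨V, hxV, hVU, f, hf, hfφ, -⟩ := Chart.exists_chart φ hU hxU (StrictSS.NodeAlg k 0)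
    θ.toRingHom θ.comp_algebraMap O rfl hflat hunr
  refine ⟨V, hxV, fun z hz => ⟨CommRingCat.of k, 𝟙 _, inferInstance, V, hz, V.ι ≫ φ,
    (Category.comp_id _).symm, 0, f, hf, hfφ, ?_⟩⟩
  exact Set.disjoint_left.2 fun c hc hcV => (hUN (hVU hcV)).2 hc

end helpers

open CategoryTheory CategoryTheory.Limits AlgebraicGeometry in
/-- Let k be a separably closed field and (C, D) a semistable multipointed curve over Spec k with C and
D reduced, and assume that every irreducible component of C carries a reduced closed subscheme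
structure which is smooth over k. Then (C, D) is strictly semistable. (The published remark asserts
that, for semistable curves over such a field, strict semistability is equivalent to smoothness of
the irreducible components; this row is the converse implication. Semistability cannot be dropped:
three concurrent lines in the plane have smooth components and no chart at the common point.) -/
theorem result
    (k : Type u) [Field k] [IsSepClosed k]
    {C D : Scheme.{u}} (φ : C ⟶ Spec (CommRingCat.of k)) (i : D ⟶ C) [IsReduced C] [IsReduced D]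
    (hss : SSMod.IsSemistable φ i)
    (hZ : ∀ Z ∈ irreducibleComponents (C : Type u), ∃ (W : Scheme.{u}) (e : W ⟶ C),
      IsClosedImmersion e ∧ IsReduced W ∧ Set.range e.base = Z ∧ Smooth (e ≫ φ)) :
    StrictSS.IsStrictlySemistable φ i := by
  obtain ⟨hmp, hnf, hD, hdisj⟩ := hss
  have := hnf.2.1
  have : IsClosedImmersion i := hmp.2.2.2.2.2.1
  haveI : JacobsonSpace C := LocallyOfFiniteType.jacobsonSpace φ
  have hdim : ∀ Z ∈ irreducibleComponents (C : Type u), topologicalKrullDim Z = 1 := by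
    intro Z hZ'
    obtain ⟨x, -⟩ := hZ'.1.1
    haveI := Node.SingCrit.isIso_fiberι k C φ (φ x)
    refine Node.Dim.comps_one_of_map (inv (φ.fiberι (φ x))) (hnf.2.2 (φ x)).1 (fun c hc => ?_) Z hZ'
    rw [← Set.image_singleton]
    exact (Scheme.Hom.homeomorph (inv (φ.fiberι (φ x)))).isClosedMap _ hc
  refine ⟨hmp, fun x => ?_⟩
  obtain ⟨x₀, hx₀, hx₀'⟩ := nonempty_inter_closedPoints (Z := closure ({x} : Set C))
    ⟨x, subset_closure rfl⟩ isClosed_closure.isLocallyClosed
  rw [mem_closedPoints_iff] at hx₀'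
  have hgen : ∀ V : C.Opens, x₀ ∈ V → x ∈ V := fun V hV =>
    (specializes_iff_mem_closure.2 hx₀).mem_open V.2 hV
  rcases Points.smooth_or_node φ hnf x₀ hx₀' with hs | ⟨hN, hres⟩
  · by_cases hr : x₀ ∈ Set.range i.base
    · obtain ⟨y, rfl⟩ := hr
      obtain ⟨V, hV, hc⟩ := line_marked φ hdim i hD y hs hx₀'
      exact Or.inl (hc x (hgen V hV))
    · obtain ⟨V, hV, hc⟩ := line_unmarked φ hdim i hD x₀ hs hr
      exact Or.inl (hc x (hgen V hV))
  · by_cases hs : x₀ ∈ φ.smoothLocus
    · by_cases hr : x₀ ∈ Set.range i.base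
      · obtain ⟨y, rfl⟩ := hr
        obtain ⟨V, hV, hc⟩ := line_marked φ hdim i hD y hs hx₀'
        exact Or.inl (hc x (hgen V hV))
      · obtain ⟨V, hV, hc⟩ := line_unmarked φ hdim i hD x₀ hs hr
        exact Or.inl (hc x (hgen V hV))
    · have hxi : x₀ ∉ Set.range i.base := fun hr => Set.disjoint_left.1 hdisj hr
        (fun h => hs (Scheme.Hom.mem_smoothLocus.2 h))
      obtain ⟨V, hV, hc⟩ := node_chart φ hdim hZ i x₀ hx₀' hxi hN hres
      exact Or.inr (hc x (hgen V hV))

end Groth.Agent.S15650
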