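import Groth.Statements.S15652
import Groth.Agent.H63.TateCor.Center

set_option autoImplicit false
universe u
open CategoryTheory MonoidalCategory CartesianMonoidalCategory MonObj GrpObj AlgebraicGeometry
open AbVar

namespace Groth.Agent.S15652

/-- Let A be an abelian variety over a finite field k with q elements (a proper, geometrically integral
commutative group scheme over k) and π_A its q-Frobenius endomorphism (the identity on points and
the q-th power map on sections; a homomorphism). Then the centre of the ℚ-algebra End⁰(A) = ℚ ⊗_ℤ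
End_k(A) (End_k(A) the ring of endomorphisms defined over k) is the ℚ-subalgebra ℚ[π_A] generated by
the image 1 ⊗ π_A of the Frobenius endomorphism: an equality of ℚ-subalgebras of End⁰(A). -/
theorem result (k : Type u) [Field k] [Finite k]
    (A : Over (Spec (CommRingCat.of k)))
    [GrpObj A] [IsCommMonObj A] [IsProper A.hom] [GeometricallyIntegral A.hom]
    (πA : A ⟶ A) [IsMonHom πA] (hπAb : πA.left.base = 𝟙 _)
    (hπAle : ∀ U : A.left.Opens, U ≤ πA.left ⁻¹ᵁ U)
    (hπAapp : ∀ (U : A.left.Opens) (s : Γ(A.left, U)), (πA.left.appLE U U (hπAle U)).hom s = s ^ Nat.card k) :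
    Subalgebra.center ℚ (EndAV.End0 A) = EndAV.QAdj (EndAV.End.of πA) := by
  classical
  let Ω := AlgebraicClosure k
  haveI : IsAlgClosed Ω := inferInstance
  obtain ⟨l, hlp, hl⟩ := H63.HomLattice.exists_prime_ne_zero k
  haveI : Fact l.Prime := ⟨hlp⟩
  haveI : IsIntegral A.left := GeometricallyIntegral.isIntegral_of_subsingleton A.hom
  obtain ⟨g, hg⟩ := H63.AVIsogeny.exists_dim (A := A)
  obtain ⟨h1, h2, -⟩ := H63.HomLattice.tate_free_finite Ω A l hl hg
  haveI := h1; haveI := h2
  exact H63.TateCor.center_eq Ω l A hl πA hπAb hπAle hπAapp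

end Groth.Agent.S15652
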