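import Groth.Statements.S16847
import Groth.Agent.H63.FrobSemisimple
import Groth.Agent.H63.WeilRH
import Groth.Agent.H63.FrobRoots
import Mathlib.RingTheory.AdjoinRoot

set_option autoImplicit false
universe u
open CategoryTheory MonoidalCategory CartesianMonoidalCategory MonObj GrpObj AlgebraicGeometry
open AbVar

namespace Groth.Agent.S16847

theorem isField_adjoin_iff {K R : Type*} [Field K] [Ring R] [Algebra K R] (x : R) (hint : IsIntegral K x) :
    IsField (Algebra.adjoin K ({x} : Set R)) ↔ Irreducible (minpoly K x) := by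
  rw [Algebra.adjoin_singleton_eq_range_aeval]
  set φ := (Polynomial.aeval x : Polynomial K →ₐ[K] R)
  have hker : RingHom.ker φ = Ideal.span {minpoly K x} := by
    refine le_antisymm (fun F hF => Ideal.mem_span_singleton.2 (minpoly.dvd K x hF)) ?_
    rw [Ideal.span_le, Set.singleton_subset_iff]
    exact minpoly.aeval K x
  let e := (Ideal.quotientKerEquivRange φ).toRingEquiv.toMulEquiv
  rw [Ideal.irreducible_iff_isMaximal_span_singleton (minpoly.ne_zero hint),
    Ideal.Quotient.maximal_ideal_iff_isField_quotient]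
  have he : Polynomial K ⧸ (Ideal.span {minpoly K x}) ≃+* Polynomial K ⧸ RingHom.ker φ := Ideal.quotEquivOfEq hker.symm
  exact ⟨fun h => (he.toMulEquiv.trans e).isField h, fun h => (he.toMulEquiv.trans e).symm.isField h⟩

/-- Let k be a finite field with q elements and algebraic closure Ω, ℓ a prime invertible in k, and X an
abelian variety over k (a proper, geometrically integral commutative group scheme over k) of
dimension g, with geometric Frobenius π_X (the endomorphism that is the identity on points and the
q-th power map on sections); assume, as is the case, that the ℓ-adic Tate module of Ω-points T_ℓ X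
is free of finite rank over ℤ_ℓ, and let f_X ∈ ℤ[t] be the polynomial mapping to the characteristic
polynomial of T_ℓ(π_X) (the characteristic polynomial of Frobenius). Then ℚ[π_X] ⊆ End⁰(X) = ℚ ⊗
End_k(X) is a field (equivalently, X is elementary, i.e. isogenous to a power of a simple abelian
variety — that reformulation is not restated) if and only if f_X = h^n for some irreducible h ∈ ℚ[t]
and some n ≥ 1. -/
theorem result (k Ω : Type u) [Field k] [Finite k] [Field Ω] [Algebra k Ω] [IsAlgClosure k Ω]
    (l : ℕ) [Fact l.Prime] (hl : (l : k) ≠ 0) (X : Over (Spec (CommRingCat.of k)))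
    [GrpObj X] [IsCommMonObj X] [IsProper X.hom] [GeometricallyIntegral X.hom]
    (πX : X ⟶ X) [IsMonHom πX] (hπb : πX.left.base = 𝟙 _)
    (hπle : ∀ U : X.left.Opens, U ≤ πX.left ⁻¹ᵁ U)
    (hπapp : ∀ (U : X.left.Opens) (s : Γ(X.left, U)), (πX.left.appLE U U (hπle U)).hom s = s ^ Nat.card k)
    [Module.Free ℤ_[l] (AbDual.TateMod X l (SGA7.pt Ω))] [Module.Finite ℤ_[l] (AbDual.TateMod X l (SGA7.pt Ω))]
    (P : Polynomial ℤ) (hP : (AbDual.tateMapₗ (l := l) (T := SGA7.pt Ω) πX).charpoly = P.map (Int.castRingHom ℤ_[l])) :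
    IsField (EndAV.QAdj (EndAV.End.of πX)) ↔
      ∃ (h : Polynomial ℚ) (n : ℕ), Irreducible h ∧ 0 < n ∧ P.map (Int.castRingHom ℚ) = h ^ n := by
  haveI : IsAlgClosed Ω := IsAlgClosure.isAlgClosed k
  haveI : IsIntegral X.left := GeometricallyIntegral.isIntegral_of_subsingleton X.hom
  obtain ⟨g, hg⟩ := H63.AVIsogeny.exists_dim (A := X)
  obtain ⟨hm, hd, hv⟩ := H63.FrobRoots.eq_charpoly πX hg hl P hP
  obtain ⟨P', hm', hd', hv', hc'⟩ := H63.TateEnd.exists_charpoly Ω hg (EndAV.End.of πX)
  have eP : P = P' := Polynomial.map_injective (Int.castRingHom ℤ_[l]) Int.cast_injective (hP.symm.trans (hc' l hl))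
  have h0 : Polynomial.aeval (EndAV.End.of πX) P = 0 := eP ▸ H63.End0Basic.aeval_eq_zero Ω hg _ P' hc'
  set x := EndAV.toEnd0 (EndAV.End.of πX) with hx
  set mu := minpoly ℚ x
  have hint : IsIntegral ℚ x := H63.FrobSemisimple.isIntegral_toEnd0 _
  have hfield : IsField (EndAV.QAdj (EndAV.End.of πX)) ↔ Irreducible mu := isField_adjoin_iff x hint
  rw [hfield]
  constructor
  · intro hirr
    refine ⟨mu, 2 * g / mu.natDegree, hirr, ?_, H63.End0Basic.eq_pow_minpoly hg _ P hm hd hv h0 hirr⟩
    have he := congrArg Polynomial.natDegree (H63.End0Basic.eq_pow_minpoly hg _ P hm hd hv h0 hirr)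
    rw [hm.natDegree_map, hd, Polynomial.natDegree_pow] at he
    rcases Nat.eq_zero_or_pos (2 * g / mu.natDegree) with h | h
    · exfalso
      rw [← hx] at he
      rw [h, zero_mul] at he
      have hP1 : P = 1 := hm.natDegree_eq_zero.1 (by omega)
      rw [hP1, map_one] at h0
      have hsub : (1 : EndAV.End0 X) = 0 := by
        have := congrArg EndAV.toEnd0 h0
        rwa [map_one, map_zero] at this
      exact hirr.not_isUnit (isUnit_of_dvd_one (minpoly.dvd ℚ x (by rw [map_one, hsub])))
    · exact h
  · rintro ⟨h, n, hh, hn, hPh⟩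
    have hdvd : mu ∣ h ^ n := hPh ▸ minpoly.dvd ℚ x (by
      rw [← algebraMap_int_eq, Polynomial.aeval_map_algebraMap, hx, Polynomial.aeval_algHom_apply, h0, map_zero])
    obtain ⟨i, -, hi⟩ := (dvd_prime_pow hh.prime _).1 hdvd
    have hne1 : ¬ IsUnit mu := fun hu => by
      have h1 : (1 : EndAV.End0 X) = 0 := by
        obtain ⟨c, hc⟩ := hu.exists_right_inv
        have := congrArg (Polynomial.aeval x) hc
        rwa [map_mul, minpoly.aeval, zero_mul, map_one, eq_comm] at this
      have hdeg : (H63.DegreeHom.deg (EndAV.End.toHom (1 : EndAV.End X)) : ℤ) = P.eval 0 := by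
        rw [← hv 0]
        exact congrArg (fun z => ((H63.DegreeHom.deg (EndAV.End.toHom z) : ℕ) : ℤ))
          (H63.End0Basic.toEnd0_injective (by
            have : Subsingleton (EndAV.End0 X) := subsingleton_of_zero_eq_one h1.symm
            exact Subsingleton.elim _ _))
      have h2 : ∀ m : ℤ, P.eval m = P.eval 0 := fun m => by
        rw [← hv m, ← hv 0]
        exact congrArg (fun z => ((H63.DegreeHom.deg (EndAV.End.toHom z) : ℕ) : ℤ))
          (H63.End0Basic.toEnd0_injective (by
            have : Subsingleton (EndAV.End0 X) := subsingleton_of_zero_eq_one h1.symm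
            exact Subsingleton.elim _ _))
      have h3 : P = Polynomial.C (P.eval 0) := Polynomial.funext fun m => by rw [Polynomial.eval_C, h2]
      have h4 := congrArg Polynomial.natDegree hPh
      rw [hm.natDegree_map, h3, Polynomial.natDegree_C, Polynomial.natDegree_pow] at h4
      have := hh.natDegree_pos
      have := Nat.mul_pos hn this
      omega
    have hi1 : i = 1 := by
      rcases i with _ | _ | i
      · exact absurd (associated_one_iff_isUnit.1 (by simpa using hi)) hne1
      · rfl
      · exfalso
        have hsq := H63.FrobSemisimple.squarefree_minpoly πX (Nat.card_pos : 0 < Nat.card k)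
          (fun c => H63.FrobPic.ph_eq_pow πX _ hπb hπle hπapp c)
        exact hh.not_isUnit (hsq h (dvd_trans ⟨h ^ i, by ring⟩ hi.dvd'))
    rw [hi1, pow_one] at hi
    exact hi.irreducible_iff.2 hh

end Groth.Agent.S16847
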