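import Groth.Statements.S16855
import Groth.Agent.S16843
import Groth.Agent.S16847
import Groth.Agent.H63.FrobRoots
import Groth.Agent.H63.FrobSemisimple

set_option autoImplicit false
universe u
open CategoryTheory MonoidalCategory CartesianMonoidalCategory MonObj GrpObj AlgebraicGeometry
open AbVar

namespace Groth.Agent.S16855

/-- Let k be a finite field with q elements and algebraic closure Ω, ℓ a prime invertible in k, and X an
abelian variety over k (a proper, geometrically integral commutative group scheme over k) of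
dimension g, with geometric Frobenius π_X (the endomorphism that is the identity on points and the
q-th power map on sections); assume, as is the case, that the ℓ-adic Tate module of Ω-points T_ℓ X
is free of finite rank over ℤ_ℓ, and let f_X ∈ ℤ[t] be the polynomial mapping to the characteristic
polynomial of T_ℓ(π_X) (the characteristic polynomial of Frobenius). Assume X is elementary in the
sense that ℚ[π_X] ⊆ End⁰(X) = ℚ ⊗ End_k(X) is a field, of degree e over ℚ, and let h ∈ ℚ[t] be the
minimal polynomial of π_X. Then [End⁰(X) : ℚ[π_X]] is a square d², and d·e = 2g and f_X = h^d: there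
is a natural number d with dim_ℚ End⁰(X) = e·d², d·e = 2g and f_X = h^d in ℚ[t]. -/
theorem result (k Ω : Type u) [Field k] [Finite k] [Field Ω] [Algebra k Ω] [IsAlgClosure k Ω]
    (l : ℕ) [Fact l.Prime] (hl : (l : k) ≠ 0) (X : Over (Spec (CommRingCat.of k)))
    [GrpObj X] [IsCommMonObj X] [IsProper X.hom] [GeometricallyIntegral X.hom]
    (g : ℕ) (hg : topologicalKrullDim X.left = g)
    (πX : X ⟶ X) [IsMonHom πX] (hπb : πX.left.base = 𝟙 _)
    (hπle : ∀ U : X.left.Opens, U ≤ πX.left ⁻¹ᵁ U)
    (hπapp : ∀ (U : X.left.Opens) (s : Γ(X.left, U)), (πX.left.appLE U U (hπle U)).hom s = s ^ Nat.card k)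
    [Module.Free ℤ_[l] (AbDual.TateMod X l (SGA7.pt Ω))] [Module.Finite ℤ_[l] (AbDual.TateMod X l (SGA7.pt Ω))]
    (P : Polynomial ℤ) (hP : (AbDual.tateMapₗ (l := l) (T := SGA7.pt Ω) πX).charpoly = P.map (Int.castRingHom ℤ_[l]))
    (hK : IsField (EndAV.QAdj (EndAV.End.of πX))) :
    ∃ d : ℕ, Module.finrank ℚ (EndAV.End0 X) = Module.finrank ℚ (EndAV.QAdj (EndAV.End.of πX)) * d ^ 2 ∧
      d * Module.finrank ℚ (EndAV.QAdj (EndAV.End.of πX)) = 2 * g ∧
      P.map (Int.castRingHom ℚ) = (minpoly ℚ (EndAV.toEnd0 (EndAV.End.of πX))) ^ d := by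
  classical
  haveI : IsAlgClosed Ω := IsAlgClosure.isAlgClosed k
  haveI : IsIntegral X.left := GeometricallyIntegral.isIntegral_of_subsingleton X.hom
  obtain ⟨hm, hd, hv⟩ := H63.FrobRoots.eq_charpoly πX hg hl P hP
  obtain ⟨P', -, -, -, hc'⟩ := H63.TateEnd.exists_charpoly Ω hg (EndAV.End.of πX)
  have eP : P = P' := Polynomial.map_injective (Int.castRingHom ℤ_[l]) Int.cast_injective (hP.symm.trans (hc' l hl))
  have h0 : Polynomial.aeval (EndAV.End.of πX) P = 0 := eP ▸ H63.End0Basic.aeval_eq_zero Ω hg _ P' hc'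
  set x := EndAV.toEnd0 (EndAV.End.of πX) with hx
  set mu := minpoly ℚ x with hmu
  have hint : IsIntegral ℚ x := H63.FrobSemisimple.isIntegral_toEnd0 _
  have hirr : Irreducible mu := (S16847.isField_adjoin_iff x hint).1 hK
  have hPd := H63.End0Basic.eq_pow_minpoly hg _ P hm hd hv h0 hirr
  set d := 2 * g / mu.natDegree with hd'
  have he : Module.finrank ℚ (EndAV.QAdj (EndAV.End.of πX)) = mu.natDegree := by
    rw [EndAV.QAdj, Algebra.adjoin_singleton_eq_range_aeval,
      ← (Ideal.quotientKerEquivRange (Polynomial.aeval (R := ℚ) x)).toLinearEquiv.finrank_eq]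
    show Module.finrank ℚ (Polynomial ℚ ⧸ RingHom.ker (Polynomial.aeval (R := ℚ) x)) = _
    rw [minpoly.ker_aeval_eq_span_minpoly]
    exact finrank_quotient_span_eq_natDegree
  refine ⟨d, ?_, ?_, hPd⟩
  · haveI : Module.Free ℤ (EndAV.End X) := H63.End0Basic.moduleFree_finite.1
    have hn : Module.finrank ℚ (EndAV.End0 X) = Module.finrank ℤ (EndAV.Hom X X) := Module.finrank_baseChange
    rw [hn, S16843.result k Ω l hl X X πX hπb hπle hπapp πX hπb hπle hπapp P hP P hP, he, hPd,
      UniqueFactorizationMonoid.normalizedFactors_pow, UniqueFactorizationMonoid.normalizedFactors_irreducible hirr,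
      (minpoly.monic hint).normalize_eq_self, Multiset.nsmul_singleton]
    rcases Nat.eq_zero_or_pos d with h1 | h1
    · simp [h1]
    · rw [Multiset.toFinset_replicate, if_neg h1.ne', Finset.sum_singleton, Multiset.count_replicate_self]
      ring
  · have h := congrArg Polynomial.natDegree hPd
    rw [hm.natDegree_map, hd, Polynomial.natDegree_pow] at h
    rw [he, ← h]

end Groth.Agent.S16855
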