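import Groth.Statements.S15653
import Groth.Agent.S16855
import Groth.Agent.S15655
import Groth.Agent.S14943
import Groth.Agent.H63.Tate.FrobGal

set_option autoImplicit false
universe u
open CategoryTheory MonoidalCategory CartesianMonoidalCategory MonObj GrpObj AlgebraicGeometry
open AbVar

namespace Groth.Agent.S15653

/-- Let A be a simple abelian variety of dimension g over a finite field k with q elements — a proper,
geometrically integral commutative group scheme over k, of Krull dimension g, whose only abelian
subvarieties over k (geometrically integral closed subgroup schemes) are the trivial subgroup and A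
itself — and π_A its q-Frobenius endomorphism (the identity on points and the q-th power map on
sections; a homomorphism). Then End⁰(A) = ℚ ⊗_ℤ End_k(A) is finite-dimensional over ℚ and its
reduced degree [End⁰(A) : ℚ[π_A]]^(1/2) · [ℚ[π_A] : ℚ] equals 2g: there is a natural number n such
that End⁰(A) has rank n² as a module (by left multiplication) over the ℚ-subalgebra ℚ[π_A] generated
by the image of π_A — a field when A is non-trivial — and n · [ℚ[π_A] : ℚ] = 2g. -/
theorem result (k : Type u) [Field k] [Finite k]
    (A : Over (Spec (CommRingCat.of k)))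
    [GrpObj A] [IsCommMonObj A] [IsProper A.hom] [GeometricallyIntegral A.hom]
    (g : ℕ) (hg : topologicalKrullDim A.left = g)
    (hsimple : ∀ (B : Over (Spec (CommRingCat.of k))) [GrpObj B] [GeometricallyIntegral B.hom] (i : B ⟶ A) [IsMonHom i]
      [IsClosedImmersion i.left], Subsingleton B.left ∨ IsIso i)
    (πA : A ⟶ A) [IsMonHom πA] (hπAb : πA.left.base = 𝟙 _)
    (hπAle : ∀ U : A.left.Opens, U ≤ πA.left ⁻¹ᵁ U)
    (hπAapp : ∀ (U : A.left.Opens) (s : Γ(A.left, U)), (πA.left.appLE U U (hπAle U)).hom s = s ^ Nat.card k) :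
    Module.Finite ℚ (EndAV.End0 A) ∧ ∃ n : ℕ,
      Module.finrank (EndAV.QAdj (EndAV.End.of πA)) (EndAV.End0 A) = n ^ 2 ∧
      n * Module.finrank ℚ (EndAV.QAdj (EndAV.End.of πA)) = 2 * g := by
  classical
  let Ω := AlgebraicClosure k
  haveI : IsAlgClosed Ω := inferInstance
  obtain ⟨l, hlp, hl⟩ := H63.HomLattice.exists_prime_ne_zero k
  haveI : Fact l.Prime := ⟨hlp⟩
  haveI : IsIntegral A.left := GeometricallyIntegral.isIntegral_of_subsingleton A.hom
  obtain ⟨h1, h2, h3⟩ := H63.HomLattice.tate_free_finite Ω A l hl hg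
  haveI := h1; haveI := h2
  haveI : Module.Free ℤ (EndAV.End A) := H63.End0Basic.moduleFree_finite.1
  haveI : Module.Finite ℤ (EndAV.End A) := H63.End0Basic.moduleFree_finite.2
  have hfin : Module.Finite ℚ (EndAV.End0 A) := inferInstance
  refine ⟨hfin, ?_⟩
  have hu := S15655.result k A (fun B _ _ i _ _ => hsimple B i)
  rcases subsingleton_or_nontrivial (EndAV.End0 A) with hs | hs
  · haveI := hs
    have he : Module.finrank (EndAV.QAdj (EndAV.End.of πA)) (EndAV.End0 A) = 1 := Module.finrank_subsingleton
    have hg0 : 2 * g = 0 := by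
      have h10 : (1 : EndAV.End A) = 0 := H63.End0Basic.toEnd0_injective (Subsingleton.elim _ _)
      have h := congrArg (EndAV.End.tateRep l (SGA7.pt (K := k) Ω)) h10
      rw [map_one, map_zero] at h
      haveI : Subsingleton (AbDual.TateMod A l (SGA7.pt (K := k) Ω)) :=
        ⟨fun a b => (LinearMap.congr_fun h a).trans (LinearMap.congr_fun h b).symm⟩
      rw [← h3, Module.finrank_zero_of_subsingleton]
    refine ⟨1, by rw [he, one_pow], ?_⟩
    rw [Module.finrank_zero_of_subsingleton, mul_zero, hg0]
  · haveI := hs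
    letI : CommRing (EndAV.QAdj (EndAV.End.of πA)) := Algebra.adjoinCommRingOfComm ℚ (by
      rintro a rfl b rfl; rfl)
    have hdom : IsDomain (EndAV.QAdj (EndAV.End.of πA)) := by
      haveI : NoZeroDivisors (EndAV.QAdj (EndAV.End.of πA)) := ⟨fun {a b} hab => by
        by_contra hn
        push_neg at hn
        have h : (a : EndAV.End0 A) * b = 0 := congrArg Subtype.val hab
        have hu1 := hu _ fun h' => hn.1 (Subtype.ext h')
        exact hn.2 (Subtype.ext (hu1.mul_right_eq_zero.1 h))⟩
      exact (isDomain_iff_noZeroDivisors_and_nontrivial _).2 ⟨inferInstance, inferInstance⟩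
    have hK : IsField (EndAV.QAdj (EndAV.End.of πA)) := by
      haveI := hdom
      haveI : Module.Finite ℚ (EndAV.QAdj (EndAV.End.of πA)) :=
        FiniteDimensional.finiteDimensional_submodule (Subalgebra.toSubmodule (EndAV.QAdj (EndAV.End.of πA)))
      haveI : IsArtinianRing (EndAV.QAdj (EndAV.End.of πA)) := IsArtinianRing.of_finite ℚ _
      exact IsArtinianRing.isField_of_isDomain _
    obtain ⟨P, -, -, -, hP'⟩ := H63.TateEnd.exists_charpoly Ω hg (EndAV.End.of πA)
    obtain ⟨d, hd1, hd2, -⟩ := S16855.result k Ω l hl A g hg πA hπAb hπAle hπAapp P (hP' l hl) hK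
    refine ⟨d, ?_, hd2⟩
    letI := hK.toField
    haveI : Module.Free (EndAV.QAdj (EndAV.End.of πA)) (EndAV.End0 A) := Module.Free.of_divisionRing _ _
    have h := Module.finrank_mul_finrank ℚ (EndAV.QAdj (EndAV.End.of πA)) (EndAV.End0 A)
    rw [hd1] at h
    haveI : Module.Finite ℚ (EndAV.QAdj (EndAV.End.of πA)) :=
      FiniteDimensional.finiteDimensional_submodule (Subalgebra.toSubmodule (EndAV.QAdj (EndAV.End.of πA)))
    exact Nat.eq_of_mul_eq_mul_left Module.finrank_pos h

end Groth.Agent.S15653
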