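import Groth.Statements.S1567
import Groth.Agent.Lib.Ideal.Prime
import Groth.Agent.Lib.Ideal.EffCartier
import Groth.Agent.Lib.AssPt.Basic
import Mathlib.RingTheory.Ideal.KrullsHeightTheorem

set_option autoImplicit false
universe u
open CategoryTheory CategoryTheory.Limits AlgebraicGeometry
open Divisors

namespace Groth.Agent.S1567

open TopologicalSpace Groth.Agent.Lib.Ideal.Prime Groth.Agent.Lib.Ideal.EffCartier

theorem height_le {X : Scheme.{u}} [IsLocallyNoetherian X] (D : X.IdealSheafData) (U : X.affineOpens)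
    {f : Γ(X, U.1)} (hf : D.ideal U = Ideal.span {f}) {ξ : X} (hξU : ξ ∈ U.1) (hξ : ξ ∈ D.support)
    (hgen : ∀ y ∈ (D.support : Set X), y ⤳ ξ → y = ξ) :
    (U.2.primeIdealOf ⟨ξ, hξU⟩).asIdeal.height ≤ 1 := by
  haveI : IsNoetherianRing Γ(X, U.1) := IsLocallyNoetherian.component_noetherian U
  refine Ideal.height_le_one_of_isPrincipal_of_mem_minimalPrimes (Ideal.span {f}) _
    ⟨⟨inferInstance, hf.ge.trans ((mem_support_iff_le_prime D U hξU).1 hξ)⟩, fun q hq hle => ?_⟩
  haveI := hq.1
  obtain ⟨y, hy, rfl⟩ := Groth.Agent.Lib.AssPt.Basic.exists_point_of_prime U.2 q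
  have hys : y ∈ D.support := (mem_support_iff_le_prime D U hy).2 (hf.le.trans hq.2)
  obtain rfl := hgen y hys ((Groth.Agent.Lib.AssPt.Basic.specializes_iff_primeIdealOf U.2 hξU hy).2 hle)
  exact le_rfl

/-- Let X be locally Noetherian and D a locally principal closed subscheme. At a point ξ of D that is
maximal in D under generisation (a generic point of a component of D), the local ring of X has
dimension at most one. -/
theorem result (X : Scheme.{u}) [IsLocallyNoetherian X]
    (D : X.IdealSheafData) (hD : Curv2.IsLocPrincipal D) (ξ : X)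
    (hξ : ξ ∈ (D.support : Set X)) (hgen : ∀ y ∈ (D.support : Set X), y ⤳ ξ → y = ξ) :
    ringKrullDim (X.presheaf.stalk ξ) ≤ 1 := by
  obtain ⟨U, hξU, f, hf⟩ := hD ξ hξ
  rw [ringKrullDim_stalk_eq_height U.2 hξU]
  exact_mod_cast height_le D U hf hξU hξ hgen

end Groth.Agent.S1567
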