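import Groth.Statements.S1568
import Groth.Agent.Lib.Ideal.Prime
import Groth.Agent.Lib.Ideal.EffCartier
import Groth.Agent.Lib.AssPt.Basic
import Groth.Agent.S1567
import Mathlib.RingTheory.Ideal.KrullsHeightTheorem

set_option autoImplicit false
universe u
open CategoryTheory CategoryTheory.Limits AlgebraicGeometry
open Divisors

namespace Groth.Agent.S1568

open TopologicalSpace Groth.Agent.Lib.Ideal.Prime Groth.Agent.Lib.Ideal.EffCartier

/-- Let X be locally Noetherian and D an effective Cartier divisor. At a point ξ of D that is maximal in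
D under generisation (a generic point of a component of D), the local ring of X has dimension
exactly one. -/
theorem result (X : Scheme.{u}) [IsLocallyNoetherian X]
    (D : X.IdealSheafData) (hD : BlowUp.IsEffCartierIdeal D) (ξ : X)
    (hξ : ξ ∈ (D.support : Set X)) (hgen : ∀ y ∈ (D.support : Set X), y ⤳ ξ → y = ξ) :
    ringKrullDim (X.presheaf.stalk ξ) = 1 := by
  obtain ⟨U, hξU, f, hf0, hf⟩ := hD ξ
  haveI : IsNoetherianRing Γ(X, U.1) := IsLocallyNoetherian.component_noetherian U
  rw [ringKrullDim_stalk_eq_height U.2 hξU]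
  refine le_antisymm (by exact_mod_cast S1567.height_le D U hf hξU hξ hgen) ?_
  have h1 : 1 ≤ (U.2.primeIdealOf ⟨ξ, hξU⟩).asIdeal.height := by
    rw [Order.one_le_iff_ne_zero, Ne, Ideal.height_eq_zero_iff]
    intro hmin
    have hfp : f ∈ (U.2.primeIdealOf ⟨ξ, hξU⟩).asIdeal :=
      (mem_support_iff_le_prime D U hξU).1 hξ (hf.ge (Ideal.mem_span_singleton_self f))
    exact Set.disjoint_left.1 (Ideal.disjoint_nonZeroDivisors_of_mem_minimalPrimes hmin) hfp hf0
  exact_mod_cast h1

end Groth.Agent.S1568
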