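import Groth.Statements.S15681
import Groth.Agent.Lib.CurveBundle.LineQuot
import Groth.Agent.Lib.CurveBundle.ResD
import Groth.Agent.Lib.CurveBundle.Vanishing

set_option autoImplicit false
universe u
open CategoryTheory CategoryTheory.Limits AlgebraicGeometry MonoidalCategory
open FreeSec

namespace Groth.Agent.S15681

open Groth.Agent.Lib CurveBundle Degree TensorMod.Basic TensorMod.Dual

section aux

variable (k : Type u) [Field k] {X : Scheme.{u}} [X.Over (Spec (CommRingCat.of k))]
  [hC : CurveCtx k X]

include hC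

/-- The degree of the ideal of an effective divisor. -/
lemma dg_ideal {I : X.IdealSheafData} (hI : FGA.IsEffCartier I) :
    dg k (ClSub.idealMod I) = -(Module.finrank k (Coh.HH X (ClSub.quotMod I) 0) : ℤ) := by
  let _ := hC.integral
  have hJ := ResD.isInvertible_ideal k hI
  obtain ⟨hQ, -⟩ := ResD.quot_facts k hI
  obtain ⟨hOc, -, eO, -⟩ := SlopeLine.line (k := k) (PicLoc.isInvertible_structureModule X)
  obtain ⟨hJc, -, eJ, -⟩ := SlopeLine.line (k := k) hJ
  obtain ⟨S, hS, e1, e2, e3⟩ : ∃ S : ShortComplex X.Modules, S.ShortExact ∧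
      S.X₁ = ClSub.idealMod I ∧ S.X₂ = Coh.structureModule X ∧ S.X₃ = ClSub.quotMod I :=
    ⟨_, ClSub.Quot.idealSeq_shortExact I, rfl, rfl, rfl⟩
  have hg : gr k (Coh.structureModule X) = gr k (ClSub.idealMod I) + gr k (ClSub.quotMod I) := by
    have := gr_add k hS (e2.symm ▸ hOc)
    rwa [e1, e2, e3] at this
  have hd : dg k (Coh.structureModule X) = dg k (ClSub.idealMod I) + dg k (ClSub.quotMod I) := by
    have := dg_add k hS (e1.symm ▸ hJc) (e2.symm ▸ hOc) (e3.symm ▸ hQ)
    rwa [e1, e2, e3] at this
  rw [H0Crit.dg_structure] at hd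
  have := (ResD.dim_eq k hQ (by omega)).2
  omega

/-- A line bundle of degree at most `m - 2` has fewer than `m` sections, for `m ≥ max(1, 2g)`. -/
lemma h0_lt [IsProper (X ↘ Spec (CommRingCat.of k))] (h0 : Module.finrank k (Coh.HH X (Coh.structureModule X) 0) = 1) {M : X.Modules}
    (hM : PicF.IsInvertible M) {m : ℕ} (h1m : 1 ≤ m) (hgm : 2 * Curv2.genus k X ≤ m)
    (hd : dg k M ≤ (m : ℤ) - 2) : Curves.Euler.hdim k X M 0 < m := by
  let _ := hC.integral
  have hdim := hC.dim_le
  rw [dg_eq_deg k (TensorMod.LocFree.of_isInvertible hM)] at hd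
  rcases subsingleton_or_nontrivial (Coh.HH X M 1) with h | h
  · have hr := Curves.Degree.riemann_roch hdim h0 hM
    have : Curves.Euler.hdim k X M 1 = 0 := Module.finrank_zero_of_subsingleton
    omega
  · have := Curves.Clifford.hdim_zero_le_genus k hdim hM (𝟙 M) h
    omega

end aux


/-- Let X be a smooth proper integral curve of genus g over an algebraically closed field k, T a finite
locally free O_X-module and D an effective Cartier divisor on X of degree m = dim_k H^0(X, O_D),
with m ≥ 1 and m ≥ 2g. If the restriction map H^0(X, T) → H^0(X, T ⊗ O_D) (written on T ⊗ O_X ≅ T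
and induced by O_X → O_D) is surjective, then H^1(X, T ⊗ I_E) = 0 for every effective Cartier
divisor E on X of degree m - 2g, I_E its ideal sheaf. (The published statement is phrased for a
family of sections of a fibration over the curve, parametrised by a base scheme, with T the
pull-back of the relative tangent sheaf along the section; this row is the case of a single section
over an algebraically closed field, to which that statement reduces, with T any finite locally free
module, which is all the argument uses.) -/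
theorem result (k : Type u) [Field k] [IsAlgClosed k]
    (X : Scheme.{u}) [X.Over (Spec (CommRingCat.of k))]
    (hX : Curve.IsSmoothProperCurve k X (X ↘ (Spec (CommRingCat.of k))))
    (T : X.Modules) (hT : FlatMod.IsFinLocFree T)
    (D : X.IdealSheafData) (hD : BlowUp.IsEffCartierIdeal D)
    (hD1 : 1 ≤ Module.finrank k (Coh.HH X (ClSub.quotMod D) 0))
    (hDg : 2 * Curv2.genus k X ≤ Module.finrank k (Coh.HH X (ClSub.quotMod D) 0))
    (hsurj : Function.Surjective (Sheaf.H.map ((SheafOfModules.toSheaf X.ringCatSheaf).map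
      ((CohB1.sheafifyMod X).map (CohB1.toPMod T ◁ (ClSub.toSubscheme D).val) :
        CohB1.tensorMod T (Coh.structureModule X) ⟶ CohB1.tensorMod T (ClSub.quotMod D))) 0))
    (E : X.IdealSheafData) (hE : BlowUp.IsEffCartierIdeal E)
    (hdegE : Module.finrank k (Coh.HH X (ClSub.quotMod E) 0) + 2 * Curv2.genus k X =
      Module.finrank k (Coh.HH X (ClSub.quotMod D) 0)) :
    Subsingleton (Coh.HH X (CohB1.tensorMod T (ClSub.idealMod E)) 1) := by
  obtain ⟨hpr, hsm, hint, hdim⟩ := hX
  haveI := hpr; haveI := hsm; haveI := hint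
  haveI hC := CurveBundle.Ctx.ofIntegral k hdim
  have hnoeth := hC.locNoeth
  by_contra h
  rw [not_subsingleton_iff_nontrivial] at h
  have h0 := Curves.GlobalSections.finrank_h0_structure k (X := X)
  obtain ⟨A, hA, hA1⟩ := Vanishing.exists_pos_ctx (k := k) hdim
  have hJ := ResD.isInvertible_ideal k (I := E) hE
  have hdeg := dg_ideal k (I := E) hE
  obtain ⟨M', p, hp, hM', hM1⟩ : ∃ (M' : X.Modules) (p : CohB1.tensorMod T (ClSub.idealMod E) ⟶ M'),
      Epi p ∧ PicF.IsInvertible M' ∧ Nontrivial (Coh.HH X M' 1) := by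
    obtain ⟨n, hn⟩ : ∃ n, FlatMod.IsFinLocFreeOfRank n T :=
      ⟨_, rank_gr k (Coherent.isCoh hT) (Coherent.isTorsionFree hT)⟩
    refine LineQuot.exists_line_quot k hA (by omega) n _ ?_ h
    simpa using TensorMod.LocFree.rank_tensorMod hn (TensorMod.LocFree.of_isInvertible hJ)
  obtain ⟨M, q, hq, hM, hMd⟩ := Vanishing.exists_untwist (k := k) hJ p hM'
  have hcl := Curves.Clifford.deg_le_of_nontrivial_one k hC.dim_le h0 hM' hM1
  rw [← dg_eq_deg k (TensorMod.LocFree.of_isInvertible hM')] at hcl
  have hlt := h0_lt k h0 hM (m := Module.finrank k (Coh.HH X (ClSub.quotMod D) 0)) hD1 hDg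
    (by omega)
  -- restriction of sections
  have hTc : Coh.IsCoh T := Coherent.isCoh hT
  obtain ⟨hMc, -, -, -⟩ := SlopeLine.line (k := k) hM
  obtain ⟨hA', hA0'⟩ := ResD.res_facts k (I := D) hD hTc
  obtain ⟨hB', -⟩ := ResD.res_facts k (I := D) hD hMc
  let ψ : ParSh.resD D T ⟶ ParSh.resD D M := tmap q (𝟙 (ClSub.quotMod D))
  have : Epi ψ := (tensorBy (ClSub.quotMod D)).map_epi q
  have hs : Function.Surjective (Curves.LES.mapK k ψ 0) :=
    ResD.surjective_of_epi k ψ hA' hB' hA0'
  have hres : Function.Surjective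
      (Curves.LES.mapK k (tmap (𝟙 T) (ClSub.toSubscheme D)) 0) := by
    have he : tmap (𝟙 T) (ClSub.toSubscheme D) =
        (CohB1.sheafifyMod X).map (CohB1.toPMod T ◁ (ClSub.toSubscheme D).val) :=
      congrArg DCoh.shP.map (MonoidalCategory.id_tensorHom _ _)
    rw [he]
    exact hsurj
  have hcomm : tmap (𝟙 T) (ClSub.toSubscheme D) ≫ ψ =
      tmap q (𝟙 (Coh.structureModule X)) ≫ tmap (𝟙 M) (ClSub.toSubscheme D) := by
    rw [← tmap_comp, ← tmap_comp]
    simp
  have hsM : Function.Surjective (Curves.LES.mapK k (tmap (𝟙 M) (ClSub.toSubscheme D)) 0) := by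
    refine Function.Surjective.of_comp (g := Curves.LES.mapK k (tmap q (𝟙 _)) 0) ?_
    rw [← LinearMap.coe_comp, ← Curves.LES.mapK_comp, ← hcomm, Curves.LES.mapK_comp, LinearMap.coe_comp]
    exact hs.comp hres
  haveI : Module.Finite k (Coh.HH X (CohB1.tensorMod M (Coh.structureModule X)) 0) :=
    (hC.good _ (CohBasics.Closure.isCoh_of_iso (rightUnit M).symm hMc)).fin₀
  have hle := LinearMap.finrank_le_finrank_of_surjective hsM
  have heq : Curves.Euler.hdim k X (CohB1.tensorMod M (Coh.structureModule X)) 0 =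
      Curves.Euler.hdim k X M 0 := (Curves.LES.isoK k (rightUnit M) 0).finrank_eq
  have hfib := (ResD.finrank_fib k (I := D) hD (TensorMod.LocFree.of_isInvertible hM)).2
  rw [dg_ideal k (I := D) hD] at hfib
  simp only [Nat.cast_one, one_mul, neg_neg, Nat.cast_inj] at hfib
  have hle' : Module.finrank k (ParSh.fibD X D M) ≤
      Curves.Euler.hdim k X (CohB1.tensorMod M (Coh.structureModule X)) 0 := hle
  omega


end Groth.Agent.S15681
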