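import Groth.Statements.S15683
import Groth.Agent.H47.FreeSec.Basic

set_option autoImplicit false
set_option linter.style.haveILetI false
set_option backward.isDefEq.respectTransparency false
universe u
open CategoryTheory CategoryTheory.Limits AlgebraicGeometry MonoidalCategory
open FreeSec

namespace Groth.Agent.S15683

/-- Let C be a smooth proper integral curve over a field k, T a k-scheme, F a finite locally free module
on T ×_k C (projections pr_T and pr_C) and D, D' effective Cartier divisors on C with D' ≤ D, that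
is, the ideal sheaf I_D is contained in I_{D'}. If R^1 pr_{T*}(F ⊗ pr_C^* I_D) vanishes then so does
R^1 pr_{T*}(F ⊗ pr_C^* I_{D'}); and if the restriction pr_{T*}(F ⊗ pr_C^* O_C) → pr_{T*}(F ⊗ pr_C^*
O_D) is an epimorphism of O_T-modules then so is pr_{T*}(F ⊗ pr_C^* O_C) → pr_{T*}(F ⊗ pr_C^*
O_{D'}). (The published statement has F equal to the pull-back of the relative tangent sheaf along a
family of sections of a fibration over C, and the two assertions say that D-free implies D'-free and
weakly D-free implies weakly D'-free; this row keeps of F only its finite local freeness, which is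
all the argument uses; the curve is only assumed smooth, proper and integral over k, not
geometrically connected, which the argument does not use.) -/
theorem result (k : Type u) [Field k]
    (C : Scheme.{u}) [C.Over (Spec (CommRingCat.of k))] (hC : Curve.IsSmoothProperCurve k C (C ↘ (Spec (CommRingCat.of k))))
    (T : Scheme.{u}) [T.Over (Spec (CommRingCat.of k))]
    [HasInjectiveResolutions (pullback (T ↘ (Spec (CommRingCat.of k))) (C ↘ (Spec (CommRingCat.of k)))).Modules]
    (F : (pullback (T ↘ (Spec (CommRingCat.of k))) (C ↘ (Spec (CommRingCat.of k)))).Modules) (hF : FlatMod.IsFinLocFree F)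
    (D D' : C.IdealSheafData) (hD : BlowUp.IsEffCartierIdeal D) (hD' : BlowUp.IsEffCartierIdeal D')
    (hle : D ≤ D') :
    (IsZero ((Coh.Rpush (pullback.fst (T ↘ (Spec (CommRingCat.of k))) (C ↘ (Spec (CommRingCat.of k)))) 1).obj (CohB1.tensorMod F ((Scheme.Modules.pullback (pullback.snd (T ↘ (Spec (CommRingCat.of k))) (C ↘ (Spec (CommRingCat.of k))))).obj (ClSub.idealMod D)))) →
      IsZero ((Coh.Rpush (pullback.fst (T ↘ (Spec (CommRingCat.of k))) (C ↘ (Spec (CommRingCat.of k)))) 1).obj (CohB1.tensorMod F ((Scheme.Modules.pullback (pullback.snd (T ↘ (Spec (CommRingCat.of k))) (C ↘ (Spec (CommRingCat.of k))))).obj (ClSub.idealMod D'))))) ∧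
    (Epi ((Coh.push (pullback.fst (T ↘ (Spec (CommRingCat.of k))) (C ↘ (Spec (CommRingCat.of k))))).map
        ((CohB1.sheafifyMod (pullback (T ↘ (Spec (CommRingCat.of k))) (C ↘ (Spec (CommRingCat.of k))))).map (CohB1.toPMod F ◁ ((Scheme.Modules.pullback (pullback.snd (T ↘ (Spec (CommRingCat.of k))) (C ↘ (Spec (CommRingCat.of k))))).map (ClSub.toSubscheme D)).val) :
          CohB1.tensorMod F ((Scheme.Modules.pullback (pullback.snd (T ↘ (Spec (CommRingCat.of k))) (C ↘ (Spec (CommRingCat.of k))))).obj (Coh.structureModule C)) ⟶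
            CohB1.tensorMod F ((Scheme.Modules.pullback (pullback.snd (T ↘ (Spec (CommRingCat.of k))) (C ↘ (Spec (CommRingCat.of k))))).obj (ClSub.quotMod D)))) →
      Epi ((Coh.push (pullback.fst (T ↘ (Spec (CommRingCat.of k))) (C ↘ (Spec (CommRingCat.of k))))).map
        ((CohB1.sheafifyMod (pullback (T ↘ (Spec (CommRingCat.of k))) (C ↘ (Spec (CommRingCat.of k))))).map (CohB1.toPMod F ◁ ((Scheme.Modules.pullback (pullback.snd (T ↘ (Spec (CommRingCat.of k))) (C ↘ (Spec (CommRingCat.of k))))).map (ClSub.toSubscheme D')).val) :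
          CohB1.tensorMod F ((Scheme.Modules.pullback (pullback.snd (T ↘ (Spec (CommRingCat.of k))) (C ↘ (Spec (CommRingCat.of k))))).obj (Coh.structureModule C)) ⟶
            CohB1.tensorMod F ((Scheme.Modules.pullback (pullback.snd (T ↘ (Spec (CommRingCat.of k))) (C ↘ (Spec (CommRingCat.of k))))).obj (ClSub.quotMod D'))))) := by
  haveI := hC.1
  haveI := hC.2.2.1
  haveI : IsLocallyNoetherian C := LocallyOfFiniteType.isLocallyNoetherian (C ↘ Spec (CommRingCat.of k))
  haveI : CompactSpace C := QuasiCompact.compactSpace_of_compactSpace (C ↘ Spec (CommRingCat.of k))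
  haveI : IsNoetherian C := {}
  obtain ⟨hQ, hη⟩ := Groth.Agent.H47.FreeSec.isCoh_quot hD
  obtain ⟨hQ', hη'⟩ := Groth.Agent.H47.FreeSec.isCoh_quot hD'
  obtain ⟨S, hS, hK, hηK, e₂, e₃, he⟩ := Groth.Agent.H47.FreeSec.exists_restr hD hD' hle
  have hK0 := Groth.Agent.H47.FreeSec.vanish (T := T) hC.2.2.2.le hF hK hηK
  have hQ3 : IsZero ((Coh.Rpush (pullback.fst (T ↘ (Spec (CommRingCat.of k))) (C ↘ (Spec (CommRingCat.of k)))) 1).obj
      ((Groth.Agent.H47.FreeSec.tw F).obj S.X₃)) :=
    (Groth.Agent.H47.FreeSec.vanish (T := T) hC.2.2.2.le hF hQ' hη').of_iso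
      ((Coh.Rpush _ 1).mapIso ((Groth.Agent.H47.FreeSec.tw F).mapIso e₃))
  have hepi := ((Groth.Agent.H47.FreeSec.isZero_iff hF hS hQ3).1 hK0).2
  have main : Epi ((Coh.push (pullback.fst (T ↘ (Spec (CommRingCat.of k))) (C ↘ (Spec (CommRingCat.of k))))).map
        ((Groth.Agent.H47.FreeSec.tw F).map (ClSub.toSubscheme D))) →
      Epi ((Coh.push (pullback.fst (T ↘ (Spec (CommRingCat.of k))) (C ↘ (Spec (CommRingCat.of k))))).map
        ((Groth.Agent.H47.FreeSec.tw F).map (ClSub.toSubscheme D'))) := fun h => by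
    haveI := h
    haveI := hepi
    rw [← he, Functor.map_comp, Functor.map_comp, Functor.map_comp, Functor.map_comp, Functor.map_comp,
      Functor.map_comp]
    infer_instance
  refine ⟨fun h => ?_, ?_⟩
  · obtain ⟨h2, hE⟩ := (Groth.Agent.H47.FreeSec.isZero_iff hF
      (Groth.Agent.Lib.ClSub.Quot.idealSeq_shortExact D)
      (Groth.Agent.H47.FreeSec.vanish hC.2.2.2.le hF hQ hη)).1 h
    exact (Groth.Agent.H47.FreeSec.isZero_iff hF (Groth.Agent.Lib.ClSub.Quot.idealSeq_shortExact D')
      (Groth.Agent.H47.FreeSec.vanish hC.2.2.2.le hF hQ' hη')).2 ⟨h2, main hE⟩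
  · rw [← Groth.Agent.H47.FreeSec.tw_map, ← Groth.Agent.H47.FreeSec.tw_map]
    exact main

end Groth.Agent.S15683
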