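import Groth.Statements.S15684
import Groth.Agent.H47.FreeSec.BC

set_option autoImplicit false
set_option linter.style.haveILetI false
set_option backward.isDefEq.respectTransparency false
universe u
open CategoryTheory CategoryTheory.Limits AlgebraicGeometry MonoidalCategory
open FreeSec

namespace Groth.Agent.S15684

open Groth.Agent.Lib TopologicalSpace

theorem isAffine_divisor {C : Scheme.{u}} [IsIntegral C] [IsLocallyNoetherian C] [NoetherianSpace C]
    (hdim : topologicalKrullDim C ≤ 1) (D : C.IdealSheafData) (hη : genericPoint C ∉ (D.support : Set C)) :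
    IsAffine D.subscheme := by
  let ι := D.subschemeι
  haveI : NoetherianSpace D.subscheme := ι.isClosedEmbedding.isEmbedding.isInducing.noetherianSpace
  have hcl : ∀ z : D.subscheme, IsClosed ({z} : Set D.subscheme) := fun z => by
    have hz : ι z ∈ (D.support : Set C) := by
      rw [← Scheme.IdealSheafData.range_subschemeι]
      exact Set.mem_range_self z
    have := (CDivInt.isClosed_singleton_of_ne_genericPoint hdim
      (fun e => hη (e ▸ hz))).preimage ι.continuous
    rwa [← Set.image_singleton, ι.isClosedEmbedding.injective.preimage_image] at this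
  haveI : Finite D.subscheme := Groth.Agent.H47.FreeSec.finite_of_noetherian_t1 D.subscheme hcl
  exact FibreDeg.Compose.isAffine_of_finite_of_isClosed hcl

theorem arrow_iff {X : Scheme.{u}} {Y : Scheme.{u}} (f : X ⟶ Y) {A B A' B' : X.Modules} {a : A ⟶ B}
    {a' : A' ⟶ B'} (h : Nonempty (Arrow.mk a ≅ Arrow.mk a')) :
    Epi ((Coh.push f).map a) ↔ Epi ((Coh.push f).map a') :=
  (MorphismProperty.epimorphisms Y.Modules).arrow_mk_iso_iff (((Coh.push f).mapArrow).mapIso h.some)

/-- Let C be a smooth proper integral curve over a field k, T a k-scheme, F a finite locally free module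
on T ×_k C, D an effective Cartier divisor on C and u : T' → T a morphism of schemes; let F' be the
pull-back of F along u × id : T' ×_k C → T ×_k C. If the restriction pr_{T*}(F ⊗ pr_C^* O_C) →
pr_{T*}(F ⊗ pr_C^* O_D) is an epimorphism of O_T-modules, then the map pr_{T'*}(F' ⊗ pr_C^* O_C) →
pr_{T'*}(F' ⊗ pr_C^* O_D) built in the same way from F' is an epimorphism of O_{T'}-modules;
conversely, if u is flat and surjective and the second map is an epimorphism, so is the first. (The
published statement has F equal to the pull-back of the relative tangent sheaf along a family of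
sections of a fibration over C and says that weak D-freeness is preserved by base change and
descends along faithfully flat base change; this row keeps of F only its finite local freeness,
which is all the argument uses; the curve is only assumed smooth, proper and integral over k, not
geometrically connected, which the argument does not use.) -/
theorem result (k : Type u) [Field k]
    (C : Scheme.{u}) [C.Over (Spec (CommRingCat.of k))] (hC : Curve.IsSmoothProperCurve k C (C ↘ (Spec (CommRingCat.of k))))
    (T : Scheme.{u}) [T.Over (Spec (CommRingCat.of k))]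
    (F : (pullback (T ↘ (Spec (CommRingCat.of k))) (C ↘ (Spec (CommRingCat.of k)))).Modules) (hF : FlatMod.IsFinLocFree F)
    (D : C.IdealSheafData) (hD : BlowUp.IsEffCartierIdeal D)
    (T' : Scheme.{u}) (u : T' ⟶ T) :
    (Epi ((Coh.push (pullback.fst (T ↘ (Spec (CommRingCat.of k))) (C ↘ (Spec (CommRingCat.of k))))).map
        ((CohB1.sheafifyMod (pullback (T ↘ (Spec (CommRingCat.of k))) (C ↘ (Spec (CommRingCat.of k))))).map (CohB1.toPMod F ◁ ((Scheme.Modules.pullback (pullback.snd (T ↘ (Spec (CommRingCat.of k))) (C ↘ (Spec (CommRingCat.of k))))).map (ClSub.toSubscheme D)).val) :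
          CohB1.tensorMod F ((Scheme.Modules.pullback (pullback.snd (T ↘ (Spec (CommRingCat.of k))) (C ↘ (Spec (CommRingCat.of k))))).obj (Coh.structureModule C)) ⟶
            CohB1.tensorMod F ((Scheme.Modules.pullback (pullback.snd (T ↘ (Spec (CommRingCat.of k))) (C ↘ (Spec (CommRingCat.of k))))).obj (ClSub.quotMod D)))) →
      Epi ((Coh.push (pullback.fst (u ≫ (T ↘ (Spec (CommRingCat.of k)))) (C ↘ (Spec (CommRingCat.of k))))).map
        ((CohB1.sheafifyMod (pullback (u ≫ (T ↘ (Spec (CommRingCat.of k)))) (C ↘ (Spec (CommRingCat.of k))))).map (CohB1.toPMod ((Scheme.Modules.pullback (pullback.map (u ≫ (T ↘ (Spec (CommRingCat.of k)))) (C ↘ (Spec (CommRingCat.of k))) (T ↘ (Spec (CommRingCat.of k))) (C ↘ (Spec (CommRingCat.of k))) u (𝟙 C) (𝟙 (Spec (CommRingCat.of k))) (Category.comp_id _) ((Category.comp_id _).trans (Category.id_comp _).symm))).obj F) ◁ ((Scheme.Modules.pullback (pullback.snd (u ≫ (T ↘ (Spec (CommRingCat.of k)))) (C ↘ (Spec (CommRingCat.of k))))).map (ClSub.toSubscheme D)).val) :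
          CohB1.tensorMod ((Scheme.Modules.pullback (pullback.map (u ≫ (T ↘ (Spec (CommRingCat.of k)))) (C ↘ (Spec (CommRingCat.of k))) (T ↘ (Spec (CommRingCat.of k))) (C ↘ (Spec (CommRingCat.of k))) u (𝟙 C) (𝟙 (Spec (CommRingCat.of k))) (Category.comp_id _) ((Category.comp_id _).trans (Category.id_comp _).symm))).obj F) ((Scheme.Modules.pullback (pullback.snd (u ≫ (T ↘ (Spec (CommRingCat.of k)))) (C ↘ (Spec (CommRingCat.of k))))).obj (Coh.structureModule C)) ⟶
            CohB1.tensorMod ((Scheme.Modules.pullback (pullback.map (u ≫ (T ↘ (Spec (CommRingCat.of k)))) (C ↘ (Spec (CommRingCat.of k))) (T ↘ (Spec (CommRingCat.of k))) (C ↘ (Spec (CommRingCat.of k))) u (𝟙 C) (𝟙 (Spec (CommRingCat.of k))) (Category.comp_id _) ((Category.comp_id _).trans (Category.id_comp _).symm))).obj F) ((Scheme.Modules.pullback (pullback.snd (u ≫ (T ↘ (Spec (CommRingCat.of k)))) (C ↘ (Spec (CommRingCat.of k))))).obj (ClSub.quotMod D))))) ∧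
    (Flat u → Surjective u →
      Epi ((Coh.push (pullback.fst (u ≫ (T ↘ (Spec (CommRingCat.of k)))) (C ↘ (Spec (CommRingCat.of k))))).map
        ((CohB1.sheafifyMod (pullback (u ≫ (T ↘ (Spec (CommRingCat.of k)))) (C ↘ (Spec (CommRingCat.of k))))).map (CohB1.toPMod ((Scheme.Modules.pullback (pullback.map (u ≫ (T ↘ (Spec (CommRingCat.of k)))) (C ↘ (Spec (CommRingCat.of k))) (T ↘ (Spec (CommRingCat.of k))) (C ↘ (Spec (CommRingCat.of k))) u (𝟙 C) (𝟙 (Spec (CommRingCat.of k))) (Category.comp_id _) ((Category.comp_id _).trans (Category.id_comp _).symm))).obj F) ◁ ((Scheme.Modules.pullback (pullback.snd (u ≫ (T ↘ (Spec (CommRingCat.of k)))) (C ↘ (Spec (CommRingCat.of k))))).map (ClSub.toSubscheme D)).val) :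
          CohB1.tensorMod ((Scheme.Modules.pullback (pullback.map (u ≫ (T ↘ (Spec (CommRingCat.of k)))) (C ↘ (Spec (CommRingCat.of k))) (T ↘ (Spec (CommRingCat.of k))) (C ↘ (Spec (CommRingCat.of k))) u (𝟙 C) (𝟙 (Spec (CommRingCat.of k))) (Category.comp_id _) ((Category.comp_id _).trans (Category.id_comp _).symm))).obj F) ((Scheme.Modules.pullback (pullback.snd (u ≫ (T ↘ (Spec (CommRingCat.of k)))) (C ↘ (Spec (CommRingCat.of k))))).obj (Coh.structureModule C)) ⟶
            CohB1.tensorMod ((Scheme.Modules.pullback (pullback.map (u ≫ (T ↘ (Spec (CommRingCat.of k)))) (C ↘ (Spec (CommRingCat.of k))) (T ↘ (Spec (CommRingCat.of k))) (C ↘ (Spec (CommRingCat.of k))) u (𝟙 C) (𝟙 (Spec (CommRingCat.of k))) (Category.comp_id _) ((Category.comp_id _).trans (Category.id_comp _).symm))).obj F) ((Scheme.Modules.pullback (pullback.snd (u ≫ (T ↘ (Spec (CommRingCat.of k)))) (C ↘ (Spec (CommRingCat.of k))))).obj (ClSub.quotMod D)))) →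
      Epi ((Coh.push (pullback.fst (T ↘ (Spec (CommRingCat.of k))) (C ↘ (Spec (CommRingCat.of k))))).map
        ((CohB1.sheafifyMod (pullback (T ↘ (Spec (CommRingCat.of k))) (C ↘ (Spec (CommRingCat.of k))))).map (CohB1.toPMod F ◁ ((Scheme.Modules.pullback (pullback.snd (T ↘ (Spec (CommRingCat.of k))) (C ↘ (Spec (CommRingCat.of k))))).map (ClSub.toSubscheme D)).val) :
          CohB1.tensorMod F ((Scheme.Modules.pullback (pullback.snd (T ↘ (Spec (CommRingCat.of k))) (C ↘ (Spec (CommRingCat.of k))))).obj (Coh.structureModule C)) ⟶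
            CohB1.tensorMod F ((Scheme.Modules.pullback (pullback.snd (T ↘ (Spec (CommRingCat.of k))) (C ↘ (Spec (CommRingCat.of k))))).obj (ClSub.quotMod D))))) := by
  haveI := hC.1
  haveI := hC.2.2.1
  haveI : IsLocallyNoetherian C := LocallyOfFiniteType.isLocallyNoetherian (C ↘ Spec (CommRingCat.of k))
  haveI : CompactSpace C := QuasiCompact.compactSpace_of_compactSpace (C ↘ Spec (CommRingCat.of k))
  haveI : IsNoetherian C := {}
  obtain ⟨hQ, hη⟩ := Groth.Agent.H47.FreeSec.isCoh_quot hD
  rw [Groth.Agent.Lib.ClSub.Quot.support_quotMod] at hη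
  haveI : IsAffine D.subscheme := isAffine_divisor hC.2.2.2.le D hη
  let t := T ↘ (Spec (CommRingCat.of k))
  let c := C ↘ (Spec (CommRingCat.of k))
  let v : pullback (u ≫ t) c ⟶ pullback t c :=
    pullback.map (u ≫ t) c t c u (𝟙 C) (𝟙 (Spec (CommRingCat.of k))) (Category.comp_id _)
      ((Category.comp_id _).trans (Category.id_comp _).symm)
  have hv : v ≫ pullback.snd t c = pullback.snd (u ≫ t) c :=
    (pullback.lift_snd _ _ _).trans (Category.comp_id _)
  have h : IsPullback v (pullback.fst (u ≫ t) c) (pullback.fst t c) u :=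
    IsPullback.of_right (hv.symm ▸ (IsPullback.of_hasPullback (u ≫ t) c).flip) (pullback.lift_fst _ _ _)
      (IsPullback.of_hasPullback t c).flip
  -- the restriction of `F ⊗ O_D` is a direct image along `j`
  let ι := D.subschemeι
  let j := pullback.fst (pullback.snd t c) ι
  let q := pullback.snd (pullback.snd t c) ι
  have hsq : IsPullback q j ι (pullback.snd t c) := (IsPullback.of_hasPullback _ _).flip
  haveI : IsAffineHom j := MorphismProperty.pullback_fst _ _ inferInstance
  haveI := TensorMod.QCohInv.isQCoh_structureModule D.subscheme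
  haveI := ZarCoh.AffineBC.isIso_bc hsq (Coh.structureModule D.subscheme)
  haveI : ((Scheme.Modules.pullback q).obj (Coh.structureModule D.subscheme)).IsQuasicoherent :=
    QCoh.Pullback.isQCoh_pullback q (Coh.structureModule D.subscheme)
  haveI : ((Scheme.Modules.pullback j).obj F).IsQuasicoherent :=
    (Perfect.Coherent.isCoh_of_isFinLocFree (TensorMod.LocFree.isFinLocFree_pullback j hF)).1
  let H := (Modules.DualAdj.tensorL ((Scheme.Modules.pullback j).obj F)).obj
    ((Scheme.Modules.pullback q).obj (Coh.structureModule D.subscheme))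
  haveI : H.IsQuasicoherent := TensorMod.TensorQCoh.isQCoh_tensorMod _ _
  let a := (Groth.Agent.H47.FreeSec.tw F).map (ClSub.toSubscheme D)
  let e : (Groth.Agent.H47.FreeSec.tw F).obj (ClSub.quotMod D) ≅ (Coh.push j).obj H :=
    (Modules.DualAdj.tensorL F).mapIso (asIso (ZarCoh.AffineBC.bc hsq (Coh.structureModule D.subscheme))) ≪≫
      (Modules.ProjFormula.projIso j (Modules.DualBasis.hasDBases_of_isFinLocFree hF)).app _
  have hbig : IsPullback q (j ≫ pullback.fst t c) (ι ≫ c) t :=
    hsq.paste_vert (IsPullback.of_hasPullback _ _).flip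
  haveI : IsAffineHom (j ≫ pullback.fst t c) := MorphismProperty.of_isPullback hbig inferInstance
  have hj : IsPullback (pullback.fst j v) (pullback.snd j v) j v := IsPullback.of_hasPullback j v
  haveI := Groth.Agent.H47.FreeSec.BC.isIso_bc_push h hj H
  have ha : Nonempty (Arrow.mk a ≅ Arrow.mk (a ≫ e.hom)) :=
    ⟨Arrow.isoMk (Iso.refl _) e (Category.id_comp _)⟩
  have hav : Nonempty (Arrow.mk ((Scheme.Modules.pullback v).map a) ≅
      Arrow.mk ((Scheme.Modules.pullback v).map (a ≫ e.hom))) :=
    ⟨((Scheme.Modules.pullback v).mapArrow).mapIso ha.some⟩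
  haveI : ((Groth.Agent.H47.FreeSec.tw F).obj (Coh.structureModule C)).IsQuasicoherent := by
    haveI := TensorMod.QCohInv.isQCoh_structureModule C
    haveI : F.IsQuasicoherent := (Perfect.Coherent.isCoh_of_isFinLocFree hF).1
    haveI := QCoh.Pullback.isQCoh_pullback (pullback.snd t c) (Coh.structureModule C)
    exact TensorMod.TensorQCoh.isQCoh_tensorMod _ _
  rw [← Groth.Agent.H47.FreeSec.tw_map]
  erw [← Groth.Agent.H47.FreeSec.tw_map]
  have hiff := arrow_iff (pullback.fst (u ≫ t) c)
    (Groth.Agent.H47.FreeSec.BC.arrow_pullback hv F (ClSub.toSubscheme D))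
  refine ⟨fun he => hiff.1 ((arrow_iff _ hav).2
      (Groth.Agent.H47.FreeSec.BC.epi_push_pullback h (a ≫ e.hom) ((arrow_iff _ ha).1 he))),
    fun hfl hs he => ?_⟩
  haveI := hfl
  haveI := hs
  exact (arrow_iff _ ha).2 (Groth.Agent.H47.FreeSec.BC.epi_push_of_pullback h (a ≫ e.hom)
    ((arrow_iff _ hav).1 (hiff.2 he)))

end Groth.Agent.S15684
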