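import Groth.Statements.S15686

import Groth.Agent.Lib.GalPts.Twist

set_option autoImplicit false
universe u
open CategoryTheory AlgebraicGeometry MonObj
open StackCount

open Groth.Agent

namespace Groth.Agent.S15686

/-- Let k be a finite field with algebraic closure k̄, G a smooth affine algebraic group over k acting
on a variety X over k (reduced and of finite type), and [X/G] the quotient stack whose objects over
a k-scheme T are G-torsors P → T (schemes, locally trivial for the étale topology) with a
G-equivariant morphism P → X. Suppose the Galois cohomology set H¹(k, G) (continuous cocycles of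
Gal(k̄/k) with values in G(k̄), up to equivalence) is finite, and choose for every class c a
continuous cocycle z_c in it, a twist X_c of X by z_c through the action (a k-scheme whose base
change to k̄ is identified with that of X so that the Galois action becomes x ↦ z_c(σ) · σx), and
the inner form G_c of G determined by z_c. If the groupoid of k-points of [X/G] is essentially
finite, then its point count (the sum over isomorphism classes of the inverse orders of the
automorphism groups) equals the sum over the classes c of #X_c(k) / #G_c(k). (The published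
statement is for the k′-points over any finite extension k′ of k and for any smooth algebraic group
G; this row is the case k′ = k, to which the general case reduces by base change, and takes G affine
so that every torsor is a scheme.) -/
theorem result (k : Type u) [Field k] [Finite k]
    (kb : Type u) [Field kb] [Algebra k kb] [IsAlgClosure k kb]
    (G : Over (Spec (CommRingCat.of k))) [GrpObj G] [Smooth G.hom] [IsAffineHom G.hom]
    (X : Over (Spec (CommRingCat.of k))) [LocallyOfFiniteType X.hom] [QuasiCompact X.hom]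
    [IsReduced X.left] (aX : AlgGrp.Action G X)
    [Fintype (GpH1.H1lc (kb ≃ₐ[k] kb) (SGA7.Pts kb G))]
    (z : GpH1.H1lc (kb ≃ₐ[k] kb) (SGA7.Pts kb G) → GpH1.OneCocycleLC (kb ≃ₐ[k] kb) (SGA7.Pts kb G))
    (hz : ∀ c, (z c).cl = c)
    (Xz : GpH1.H1lc (kb ≃ₐ[k] kb) (SGA7.Pts kb G) → Over (Spec (CommRingCat.of k)))
    (hXz : ∀ c, GalTw.IsActTwist kb aX (z c).1 (Xz c))
    (Gin : GpH1.H1lc (kb ≃ₐ[k] kb) (SGA7.Pts kb G) → Over (Spec (CommRingCat.of k)))
    [∀ c, GrpObj (Gin c)]
    (hGin : ∀ c, GalTw.IsInnTwist kb G (z c).1 (Gin c))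
    (h : StkCnt.IsEssFinite (StkCnt.pts (AlgSt.QuotSt Scheme.etalePrecoverage G aX) k)) :
    StkCnt.ptCount (AlgSt.QuotSt Scheme.etalePrecoverage G aX) k h =
      ∑ c : GpH1.H1lc (kb ≃ₐ[k] kb) (SGA7.Pts kb G),
        (Nat.card (SGA7.Pts k (Xz c)) : ℚ) / (Nat.card (SGA7.Pts k (Gin c)) : ℚ) := by
  haveI : IsAlgClosed kb := IsAlgClosure.isAlgClosed k
  haveI : Algebra.IsAlgebraic k kb := IsAlgClosure.isAlgebraic
  haveI : QuasiCompact G.hom := inferInstance
  haveI : LocallyOfFiniteType G.hom := inferInstance
  obtain ⟨hbij, hcl⟩ := Lib.GalPts.Cocycle.value_bijective (Lib.GalPts.frob k kb) Lib.GalPts.frob_apply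
    (SGA7.Pts kb G) Lib.GalPts.isOpen_fixer Lib.GalPts.exists_stable_finite
  rw [Lib.GalPts.count_quotSt kb aX (fun c => ((z c).1 (Lib.GalPts.frob k kb))⁻¹) ?_ ?_ h]
  · refine Finset.sum_congr rfl fun c _ => ?_
    obtain ⟨e⟩ := Lib.GalPts.exists_twistEquiv kb aX _ (hXz c)
    obtain ⟨e'⟩ := Lib.GalPts.exists_twistEquiv kb _ _ (Lib.GalPts.isActTwist_of_isInnTwist kb (hGin c))
    rw [Nat.card_congr e, Nat.card_congr e']
    congr 2
    refine Nat.card_congr (Equiv.subtypeEquivRight fun g => ?_)
    rw [Lib.GalPts.lift_conjAct]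
    exact eq_mul_inv_iff_mul_eq.symm
  · intro c c' g hg
    rw [← hz c, ← hz c']
    refine (hcl _ _).2 ⟨g⁻¹, ?_⟩
    have h1 := congrArg (fun t => ((z c).1 (Lib.GalPts.frob k kb)) * t * (z c').1 (Lib.GalPts.frob k kb)) hg
    rw [smul_inv', inv_inv, GalTw.pts_smul_def]
    simp only [_root_.mul_assoc, inv_mul_cancel, _root_.mul_one, mul_inv_cancel_left] at h1
    rw [_root_.mul_assoc, eq_inv_mul_iff_mul_eq]
    exact h1.symm
  · intro a
    obtain ⟨w, hw⟩ := hbij.2 a⁻¹
    obtain ⟨g, hg⟩ := (hcl (z w.cl) w).1 (hz w.cl)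
    refine ⟨w.cl, g⁻¹, ?_⟩
    change w.1 (Lib.GalPts.frob k kb) = a⁻¹ at hw
    rw [hw] at hg
    rw [show SGA7.specAut (Lib.GalPts.frob k kb) ≫ g⁻¹ = Lib.GalPts.frob k kb • g⁻¹ from rfl,
      smul_inv', ← inv_inv a, hg]
    group

end Groth.Agent.S15686
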