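import Groth.Statements.S15687

import Groth.Agent.Lib.GalPts.ExactSeq
import Groth.Agent.Lib.GalPts.Cocycle
import Groth.Agent.Lib.GalPts.Fibre

set_option autoImplicit false
universe u
open CategoryTheory AlgebraicGeometry MonObj
open GalTw

open CategoryTheory MonoidalCategory CartesianMonoidalCategory Groth.Agent.Lib.GalPts

namespace Groth.Agent.S15687

theorem value_bij (k : Type u) [Field k] [Finite k] (kb : Type u) [Field kb] [Algebra k kb] [IsAlgClosure k kb]
    (G : Over (Spec (CommRingCat.of k))) [GrpObj G] [LocallyOfFiniteType G.hom] [QuasiCompact G.hom] :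
    haveI := IsAlgClosure.isAlgClosed k (K := kb)
    Function.Bijective (fun z : GpH1.OneCocycleLC (kb ≃ₐ[k] kb) (SGA7.Pts kb G) => z.1 (frob k kb)) ∧
      ∀ z z' : GpH1.OneCocycleLC (kb ≃ₐ[k] kb) (SGA7.Pts kb G),
        z.cl = z'.cl ↔ ∃ g : SGA7.Pts kb G, z'.1 (frob k kb) = g * z.1 (frob k kb) * (frob k kb • g)⁻¹ :=
  haveI := IsAlgClosure.isAlgClosed k (K := kb)
  Cocycle.value_bijective (frob k kb) (fun x => frob_apply x) _ isOpen_fixer exists_stable_finite

/-- Let k be a finite field with algebraic closure k̄, and let A, B, C be smooth algebraic groups over k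
with homomorphisms i : A → B and π : B → C forming a short exact sequence 1 → A → B → C → 1 (π ∘ i
trivial, B a pseudo-torsor over C under A acting through i, and π acquiring sections fppf-locally on
C), with A connected. Then the map H¹(k, B) → H¹(k, C) induced by π on the continuous Galois
cohomology sets (continuous cocycles of Gal(k̄/k) with values in the k̄-points, up to equivalence)
is bijective. -/
theorem result (k : Type u) [Field k] [Finite k]
    (kb : Type u) [Field kb] [Algebra k kb] [IsAlgClosure k kb]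
    (A B C : Over (Spec (CommRingCat.of k))) [GrpObj A] [GrpObj B] [GrpObj C]
    [Smooth A.hom] [Smooth B.hom] [Smooth C.hom]
    [QuasiCompact A.hom] [QuasiCompact B.hom] [QuasiCompact C.hom]
    (i : A ⟶ B) (π : B ⟶ C) [IsMonHom i] [IsMonHom π]
    (hex : NonAbH1.IsExactSeq Scheme.fppfPrecoverage i π) [ConnectedSpace A.left] :
    Function.Bijective
      (GalTw.H1lcMap (GalTw.ptsMap (K := kb) π) (GalTw.ptsMap_smul (K := kb) π)) := by
  haveI := IsAlgClosure.isAlgClosed k (K := kb)
  haveI := hex.1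
  obtain ⟨⟨-, hsB⟩, hB⟩ := value_bij k kb B
  obtain ⟨⟨hiC, -⟩, hC⟩ := value_bij k kb C
  refine ⟨fun x y h => ?_, fun y => ?_⟩
  · obtain ⟨z, rfl⟩ := Quotient.exists_rep x
    obtain ⟨z', rfl⟩ := Quotient.exists_rep y
    change (lcMap _ _ z).cl = (lcMap _ _ z').cl at h
    obtain ⟨c, hc⟩ := (hC _ _).1 h
    obtain ⟨b, hb⟩ := pts_surjective kb hex c
    change z'.1 (frob k kb) ≫ π = c * (z.1 (frob k kb) ≫ π) * (frob k kb • c)⁻¹ at hc
    have hπ : (b * z.1 (frob k kb) * (frob k kb • b)⁻¹) ≫ π = z'.1 (frob k kb) ≫ π := by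
      rw [hc, MonObj.mul_comp, MonObj.mul_comp, GrpObj.inv_comp, hb, ← hb]
      exact congrArg (fun t => _ * t⁻¹) (GalTw.ptsMap_smul (K := kb) π (frob k kb) b)
    obtain ⟨g, hg⟩ := exists_lang_fibre kb hex _ _ hπ
    refine (hB z z').2 ⟨(g ≫ i) * b, ?_⟩
    rw [hg, smul_mul']
    group
  · obtain ⟨w, rfl⟩ := Quotient.exists_rep y
    obtain ⟨b, hb⟩ := pts_surjective kb hex (w.1 (frob k kb))
    obtain ⟨z, hz⟩ := hsB b
    refine ⟨z.cl, congrArg GpH1.OneCocycleLC.cl (hiC ?_)⟩
    change z.1 (frob k kb) ≫ π = w.1 (frob k kb)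
    exact (congrArg (fun t : SGA7.Pts kb B => t ≫ π) hz).trans hb

end Groth.Agent.S15687
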