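import Groth.Statements.S15688

import Groth.Agent.Lib.GalPts.ExactSeq
import Groth.Agent.Lib.GalPts.Count
import Groth.Agent.Lib.GalPts.Twist

set_option autoImplicit false
universe u
open CategoryTheory AlgebraicGeometry MonoidalCategory CartesianMonoidalCategory MonObj
open StackCount

open CategoryTheory MonoidalCategory CartesianMonoidalCategory Groth.Agent.Lib.GalPts Groth.Agent.Lib

namespace Groth.Agent.S15688

theorem smul_comp {k : Type u} [Field k] {kb : Type u} [Field kb] [Algebra k kb]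
    {G H : Over (Spec (CommRingCat.of k))} (f : G ⟶ H) (σ : kb ≃ₐ[k] kb) (x : SGA7.Pts kb G) :
    σ • (x ≫ f : SGA7.Pts kb H) = (σ • x : SGA7.Pts kb G) ≫ f :=
  (Category.assoc (SGA7.specAut σ) x f).symm

/-- Let k be a finite field with algebraic closure k̄, and let A, B, C be smooth algebraic groups over k
with homomorphisms i : A → B and π : B → C forming a short exact sequence 1 → A → B → C → 1 (π ∘ i
trivial, B a pseudo-torsor over C under A acting through i, and π acquiring sections fppf-locally on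
C), with A connected; let c be the action of B on A by conjugation, i.e. an action with i(b · a) = b
i(a) b⁻¹. Let z be a continuous cocycle of Gal(k̄/k) with values in B(k̄), A_z a twist of A by z
through the action c, B_z an inner form of B by z, and C_z an inner form of C by the image of z
under π. Then the numbers of k-points satisfy #B_z(k) = #A_z(k) · #C_z(k). -/
theorem result (k : Type u) [Field k] [Finite k]
    (kb : Type u) [Field kb] [Algebra k kb] [IsAlgClosure k kb]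
    (A B C : Over (Spec (CommRingCat.of k))) [GrpObj A] [GrpObj B] [GrpObj C]
    [Smooth A.hom] [Smooth B.hom] [Smooth C.hom]
    [QuasiCompact A.hom] [QuasiCompact B.hom] [QuasiCompact C.hom]
    (i : A ⟶ B) (π : B ⟶ C) [IsMonHom i] [IsMonHom π]
    (hex : NonAbH1.IsExactSeq Scheme.fppfPrecoverage i π) [ConnectedSpace A.left]
    (c : AlgGrp.Action B A) (hc : c.act ≫ i = fst B A * (snd B A ≫ i) * (fst B A)⁻¹)
    (z : GpH1.OneCocycleLC (kb ≃ₐ[k] kb) (SGA7.Pts kb B))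
    (Az : Over (Spec (CommRingCat.of k))) (hAz : GalTw.IsActTwist kb c z.1 Az)
    (Bz : Over (Spec (CommRingCat.of k))) [GrpObj Bz] (hBz : GalTw.IsInnTwist kb B z.1 Bz)
    (Cz : Over (Spec (CommRingCat.of k))) [GrpObj Cz]
    (hCz : GalTw.IsInnTwist kb C
      (GalTw.lcMap (GalTw.ptsMap (K := kb) π) (GalTw.ptsMap_smul (K := kb) π) z).1 Cz) :
    Nat.card (SGA7.Pts k Bz) = Nat.card (SGA7.Pts k Az) * Nat.card (SGA7.Pts k Cz) := by
  haveI := IsAlgClosure.isAlgClosed k (K := kb)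
  haveI := hex.1
  let σ : kb ≃ₐ[k] kb := frob k kb
  obtain ⟨w, hw⟩ : ∃ w : SGA7.Pts kb B, w = (z.1 σ)⁻¹ := ⟨_, rfl⟩
  obtain ⟨eB⟩ := exists_twistEquiv kb (conjAct (G := B)) z.1 (isActTwist_of_isInnTwist kb hBz)
  obtain ⟨eA⟩ := exists_twistEquiv kb c z.1 hAz
  obtain ⟨eC⟩ := exists_twistEquiv kb (conjAct (G := C)) _ (isActTwist_of_isInnTwist kb hCz)
  let PB := {x : SGA7.Pts kb B // σ • x = w * x * w⁻¹}
  let PA := {a : SGA7.Pts kb A // σ • (a ≫ i : SGA7.Pts kb B) = w * (a ≫ i) * w⁻¹}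
  let PC := {y : SGA7.Pts kb C // σ • y = (w ≫ π) * y * (w ≫ π)⁻¹}
  have fB : SGA7.Pts k Bz ≃ PB := eB.trans (Equiv.subtypeEquivRight fun x => by rw [lift_conjAct, hw]; rfl)
  have fC : SGA7.Pts k Cz ≃ PC := eC.trans (Equiv.subtypeEquivRight fun y => by
    rw [lift_conjAct]
    change SGA7.specAut σ ≫ y = (z.1 σ ≫ π)⁻¹ * y * (z.1 σ ≫ π)⁻¹⁻¹ ↔ _
    rw [← GrpObj.inv_comp, hw]
    rfl)
  have hcb : ∀ (g : SGA7.Pts kb B) (a : SGA7.Pts kb A),
      (lift g a ≫ c.act) ≫ i = g * (a ≫ i) * g⁻¹ := fun g a => by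
    rw [Category.assoc, hc]
    simp only [MonObj.comp_mul, GrpObj.comp_inv, lift_fst, lift_snd_assoc]
  have fA : SGA7.Pts k Az ≃ PA := eA.trans (Equiv.subtypeEquivRight fun a => by
    rw [smul_comp, ← hcb, hw]
    exact ⟨fun h => congrArg (· ≫ i) h, fun h => BitorsExt.kernel_injective i π hex _ _ h⟩)
  have hsurj : ∀ y : PC, ∃ x : PB, x.1 ≫ π = y.1 := fun y => by
    obtain ⟨x₀, hx₀⟩ := pts_surjective kb hex y.1
    obtain ⟨g, hg⟩ : ∃ g : SGA7.Pts kb A,
        w⁻¹ = (g ≫ i) * (x₀ * w⁻¹ * (σ • x₀)⁻¹) * (σ • (g ≫ i : SGA7.Pts kb B))⁻¹ := exists_lang_fibre kb hex _ _ (by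
      rw [MonObj.mul_comp, MonObj.mul_comp, GrpObj.inv_comp, GrpObj.inv_comp, ← smul_comp, hx₀, y.2]
      group)
    refine ⟨⟨(g ≫ i) * x₀, ?_⟩, ?_⟩
    · rw [smul_mul']
      calc σ • (g ≫ i : SGA7.Pts kb B) * σ • x₀
          = ((g ≫ i) * (x₀ * w⁻¹ * (σ • x₀)⁻¹) * (σ • (g ≫ i : SGA7.Pts kb B))⁻¹)⁻¹ * ((g ≫ i) * x₀) * w⁻¹ := by group
        _ = w * ((g ≫ i) * x₀) * w⁻¹ := by rw [← hg, inv_inv]
    · rw [MonObj.mul_comp, Category.assoc, hex.2.2.1, MonObj.comp_one, _root_.one_mul, hx₀]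
  choose s hs using hsurj
  have hiπ : ∀ a : SGA7.Pts kb A, (a ≫ i) ≫ π = 1 := fun a => by
    rw [Category.assoc, hex.2.2.1, MonObj.comp_one]
  let Φ : PA × PC → PB := fun p => ⟨(p.1.1 ≫ i) * (s p.2).1, by
    rw [smul_mul', p.1.2, (s p.2).2]; group⟩
  have hΦ : ∀ p : PA × PC, (Φ p).1 ≫ π = p.2.1 := fun p => by
    change ((p.1.1 ≫ i) * (s p.2).1) ≫ π = _
    rw [MonObj.mul_comp, hiπ, _root_.one_mul, hs]
  have hΦb : Function.Bijective Φ := by
    refine ⟨fun p q h => ?_, fun x => ?_⟩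
    · have h2 : p.2 = q.2 := Subtype.ext ((hΦ p).symm.trans (by rw [h, hΦ]))
      refine Prod.ext (Subtype.ext (BitorsExt.kernel_injective i π hex _ _ ?_)) h2
      have h' : (p.1.1 ≫ i) * (s p.2).1 = (q.1.1 ≫ i) * (s q.2).1 := congrArg Subtype.val h
      rw [h2] at h'
      exact mul_right_cancel h'
    · let y : PC := ⟨x.1 ≫ π, by rw [smul_comp, x.2, MonObj.mul_comp, MonObj.mul_comp, GrpObj.inv_comp]⟩
      obtain ⟨a, ha⟩ := BitorsExt.exists_lift_kernel i π hex 1 (x.1 * (s y).1⁻¹) (by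
        rw [MonObj.one_comp, MonObj.mul_comp, GrpObj.inv_comp, hs, mul_inv_cancel])
      rw [_root_.one_mul] at ha
      refine ⟨(⟨a, ?_⟩, y), Subtype.ext ?_⟩
      · rw [← ha, smul_mul', smul_inv', x.2, (s y).2]; group
      · change (a ≫ i) * (s y).1 = x.1
        rw [← ha, inv_mul_cancel_right]
  rw [Nat.card_congr fB, Nat.card_congr fA, Nat.card_congr fC, ← Nat.card_prod]
  exact (Nat.card_congr (Equiv.ofBijective Φ hΦb)).symm

end Groth.Agent.S15688
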