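import Groth.Statements.S1569
import Groth.Agent.Lib.Ideal.Prime
import Groth.Agent.Lib.Ideal.EffCartier
import Groth.Agent.Lib.AssPt.Basic
import Mathlib.RingTheory.DiscreteValuationRing.TFAE
import Mathlib.RingTheory.Filtration

set_option autoImplicit false
universe u
open CategoryTheory CategoryTheory.Limits AlgebraicGeometry
open Divisors

namespace Groth.Agent.S1569

open TopologicalSpace Groth.Agent.Lib.Ideal.Prime Groth.Agent.Lib.Ideal.EffCartier

/-- On a Noetherian scheme, an effective Cartier divisor which is integral as a closed subscheme has a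
discrete valuation ring as the local ring of the ambient scheme at its generic point. -/
theorem result (X : Scheme.{u}) [IsNoetherian X]
    (D : X.IdealSheafData) (hD : BlowUp.IsEffCartierIdeal D) [IsIntegral D.subscheme]
    (ξ : X) (hξ : IsGenericPoint ξ (D.support : Set X)) :
    ∃ _ : IsDomain (X.presheaf.stalk ξ), IsDiscreteValuationRing (X.presheaf.stalk ξ) := by
  classical
  obtain ⟨U, hξU, e, he, hIe⟩ := hD ξ
  have hξs : ξ ∈ D.support := hξ.mem
  have hg : gen D = ξ :=
    ((gen_specializes D hξs).antisymm (hξ.specializes (gen_mem D))).eq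
  subst hg
  letI := X.presheaf.algebra_section_stalk ⟨gen D, hξU⟩
  haveI := U.2.isLocalization_stalk ⟨gen D, hξU⟩
  let A := X.presheaf.stalk (gen D)
  let g : A := X.presheaf.germ U.1 _ hξU e
  have hgnz : g ∈ nonZeroDivisors A := germ_mem_nonZeroDivisors U.2 he _ hξU
  have hm : IsLocalRing.maximalIdeal A = Ideal.span {g} := by
    have h1 : IsLocalRing.maximalIdeal A =
        ((U.2.primeIdealOf ⟨gen D, hξU⟩).asIdeal).map (algebraMap Γ(X, U.1) A) :=
      (IsLocalization.AtPrime.map_eq_maximalIdeal _ A).symm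
    rw [h1, primeIdealOf_gen D U hξU, hIe, Ideal.map_span, Set.image_singleton]
    rfl
  have hgu : ¬ IsUnit g := fun hu => by
    have : g ∈ IsLocalRing.maximalIdeal A := hm ▸ Ideal.mem_span_singleton_self g
    exact this hu
  have hdec : ∀ a : A, a ≠ 0 → ∃ (n : ℕ) (v : A), IsUnit v ∧ a = g ^ n * v := by
    intro a ha
    have hex : ∃ n, a ∉ (Ideal.span {g}) ^ n := by
      by_contra hc
      push Not at hc
      refine ha ?_
      have h2 : a ∈ ⨅ n : ℕ, (IsLocalRing.maximalIdeal A) ^ n := Ideal.mem_iInf.2 fun n => hm ▸ hc n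
      rwa [Ideal.iInf_pow_eq_bot_of_isLocalRing (IsLocalRing.maximalIdeal A) (IsLocalRing.maximalIdeal.isMaximal A).ne_top,
        Submodule.mem_bot] at h2
    obtain ⟨n, hn⟩ : ∃ n, Nat.find hex = n + 1 := by
      refine ⟨Nat.find hex - 1, ?_⟩
      have : Nat.find hex ≠ 0 := fun h0 => by
        have := Nat.find_spec hex
        rw [h0, pow_zero, Ideal.one_eq_top] at this
        exact this trivial
      omega
    have hmem : a ∈ (Ideal.span {g}) ^ n := by
      have := Nat.find_min hex (show n < Nat.find hex by omega)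
      rwa [not_not] at this
    rw [Ideal.span_singleton_pow, Ideal.mem_span_singleton'] at hmem
    obtain ⟨v, rfl⟩ := hmem
    refine ⟨n, v, ?_, mul_comm _ _⟩
    by_contra hv
    have hv' : v ∈ Ideal.span {g} := hm ▸ ((IsLocalRing.mem_maximalIdeal v).2 hv)
    obtain ⟨w, rfl⟩ := Ideal.mem_span_singleton'.1 hv'
    refine (hn ▸ Nat.find_spec hex) ?_
    rw [Ideal.span_singleton_pow, Ideal.mem_span_singleton']
    exact ⟨w, by ring⟩
  haveI : IsDomain A := by
    haveI : NoZeroDivisors A := ⟨fun {a b} hab => by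
      by_contra hc
      push Not at hc
      obtain ⟨n, v, hv, rfl⟩ := hdec a hc.1
      obtain ⟨m, w, hw, rfl⟩ := hdec b hc.2
      have : g ^ (n + m) = 0 := by
        rw [← (hv.mul hw).mul_left_eq_zero]
        linear_combination hab
      exact nonZeroDivisors.ne_zero (pow_mem hgnz (n + m)) this⟩
    exact NoZeroDivisors.to_isDomain A
  refine ⟨inferInstance, ?_⟩
  have hnf : ¬ IsField A := fun hF => nonZeroDivisors.ne_zero hgnz
    (by_contra fun h0 => hgu (isUnit_iff_exists_inv.2 (hF.mul_inv_cancel h0)))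
  have htf : IsDiscreteValuationRing A ↔ (IsLocalRing.maximalIdeal A).IsPrincipal :=
    (IsDiscreteValuationRing.TFAE A hnf).out 0 4
  exact htf.2 ⟨⟨g, hm⟩⟩

end Groth.Agent.S1569
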