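import Groth.Statements.S15692

import Groth.Agent.Lib.GalPts.PairMass
import Groth.Agent.Lib.GalPts.UnipCount

set_option autoImplicit false
universe u
open CategoryTheory AlgebraicGeometry MonoidalCategory CartesianMonoidalCategory MonObj
open StackCount

open CategoryTheory MonoidalCategory CartesianMonoidalCategory Groth.Agent.Lib Groth.Agent.Lib.GalPts

namespace Groth.Agent.S15692

section

open GalPts

variable {k : Type u} [Field k] [Finite k] (kb : Type u) [Field kb] [Algebra k kb] [Algebra.IsAlgebraic k kb]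
  {G : Over (Spec (CommRingCat.of k))} [GrpObj G]

/-- The Frobenius on geometric points. -/
noncomputable def frobHom (G : Over (Spec (CommRingCat.of k))) [GrpObj G] : SGA7.Pts kb G →* SGA7.Pts kb G :=
  MulDistribMulAction.toMonoidHom _ (frob k kb)

/-- The first coordinate of a pair. -/
noncomputable def fstPair {X : Over (Spec (CommRingCat.of k))} {aX : AlgGrp.Action G X} (v : Pair kb aX) :
    Mass.Tw (frobHom kb G) := Mass.Tw.mk _ v.1.1

theorem fstPair_smul {X : Over (Spec (CommRingCat.of k))} {aX : AlgGrp.Action G X} (g : SGA7.Pts kb G)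
    (v : Pair kb aX) : fstPair kb (g • v) = g • fstPair kb v := rfl

theorem smul_tw (g b c : SGA7.Pts kb G) :
    g • Mass.Tw.mk (frobHom kb G) b = Mass.Tw.mk _ c ↔ (frob k kb • g) * b = c * g :=
  mul_inv_eq_iff_eq_mul (G := SGA7.Pts kb G)

variable [IsAlgClosed kb] [IsAlgClosure k kb] [LocallyOfFiniteType G.hom] [QuasiCompact G.hom]

/-- The mass of the fibre of the pairs over `b`. -/
theorem fibre_mass {X : Over (Spec (CommRingCat.of k))} [LocallyOfFiniteType X.hom] [QuasiCompact X.hom]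
    (aX : AlgGrp.Action G X) (b : SGA7.Pts kb G) :
    Mass.HasMass (MulAction.stabilizer (SGA7.Pts kb G) (Mass.Tw.mk (frobHom kb G) b))
      (Mass.Fib (fstPair kb (aX := aX)) (fstPair_smul kb) (Mass.Tw.mk _ b))
      ((Nat.card {x : SGA7.Pts kb X // SGA7.specAut (frob k kb) ≫ x = lift b x ≫ aX.act} : ℚ) /
        Nat.card {g : SGA7.Pts kb G // (frob k kb • g) * b = b * g}) := by
  let e₁ : Mass.Fib (fstPair kb (aX := aX)) (fstPair_smul kb) (Mass.Tw.mk _ b) ≃
      {x : SGA7.Pts kb X // SGA7.specAut (frob k kb) ≫ x = lift b x ≫ aX.act} :=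
    { toFun := fun v => ⟨v.1.1.2, v.1.2.trans (congrArg (fun c : SGA7.Pts kb G => lift c v.1.1.2 ≫ aX.act) v.2)⟩
      invFun := fun x => ⟨⟨(b, x.1), x.2⟩, rfl⟩
      left_inv := fun v => Subtype.ext (Subtype.ext (Prod.ext v.2.symm rfl))
      right_inv := fun x => rfl }
  let e₂ : MulAction.stabilizer (SGA7.Pts kb G) (Mass.Tw.mk (frobHom kb G) b) ≃
      {g : SGA7.Pts kb G // (frob k kb • g) * b = b * g} :=
    Equiv.subtypeEquivRight fun g => smul_tw kb g b b
  haveI := finite_twisted kb aX b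
  haveI := finite_centralizer kb b
  haveI : Finite {g : SGA7.Pts kb G // (frob k kb • g) * b = b * g} :=
    Finite.of_injective (fun g => (⟨g.1, g.2⟩ : centralizer kb b))
      fun g h e => Subtype.ext (congrArg Subtype.val e :)
  rw [← Nat.card_congr e₁, ← Nat.card_congr e₂]
  exact @Mass.hasMass_of_finite _ _ _ _ (Finite.of_equiv _ e₂.symm) (Finite.of_equiv _ e₁.symm)

end

/-- Let k be a finite field with q elements and algebraic closure k̄, and G a smooth affine algebraic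
group over k which is a semidirect product of closed subgroups H and U: the inclusions H → G and U →
G are homomorphisms, U is normal in G, and multiplication H × U → G, (h, u) ↦ h u, is an isomorphism
of k-schemes. Assume U is smooth, connected and unipotent (its base change to k̄ contains no
non-trivial subtorus), of dimension d. Let G act on a variety X over k (reduced, of finite type) and
let H act on X through its inclusion. If the groupoids of k-points of the quotient stacks [X/G] and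
[X/H] (G- resp. H-torsors over Spec k as schemes, locally trivial for the étale topology, with an
equivariant map to X) are essentially finite, then their point counts (sums over isomorphism classes
of the inverse orders of the automorphism groups) satisfy #[X/G](k) · q^d = #[X/H](k). (The
published statement is for the k′-points over any finite extension k′ of k; this row is the case k′
= k, to which the general case reduces by base change, and takes the groups affine so that torsors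
are schemes.) -/
theorem result (k : Type u) [Field k] [Finite k]
    (kb : Type u) [Field kb] [Algebra k kb] [IsAlgClosure k kb]
    (G H U : Over (Spec (CommRingCat.of k))) [GrpObj G] [GrpObj H] [GrpObj U]
    [Smooth G.hom] [IsAffineHom G.hom] [Smooth H.hom] [IsAffineHom H.hom]
    [Smooth U.hom] [IsAffineHom U.hom] [ConnectedSpace U.left]
    (iH : H ⟶ G) (iU : U ⟶ G) [IsMonHom iH] [IsMonHom iU] [Mono iH] [Mono iU]
    (hUn : AlgGrp.IsNormalHom iU) (hsd : IsIso ((fst H U ≫ iH) * (snd H U ≫ iU)))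
    (hUu : Red.HasNoSubtorus kb (GalTw.bcK kb U))
    (d : ℕ) (hd : topologicalKrullDim ↥U.left = (d : WithBot ℕ∞))
    (X : Over (Spec (CommRingCat.of k))) [LocallyOfFiniteType X.hom] [QuasiCompact X.hom]
    [IsReduced X.left] (aG : AlgGrp.Action G X) (aH : AlgGrp.Action H X)
    (haH : aH.act = (iH ▷ X) ≫ aG.act)
    (hG : StkCnt.IsEssFinite (StkCnt.pts (AlgSt.QuotSt Scheme.etalePrecoverage G aG) k))
    (hH : StkCnt.IsEssFinite (StkCnt.pts (AlgSt.QuotSt Scheme.etalePrecoverage H aH) k)) :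
    StkCnt.ptCount (AlgSt.QuotSt Scheme.etalePrecoverage G aG) k hG * (Nat.card k : ℚ) ^ d =
      StkCnt.ptCount (AlgSt.QuotSt Scheme.etalePrecoverage H aH) k hH := by
  classical
  haveI := IsAlgClosure.isAlgClosed k (K := kb)
  haveI : Algebra.IsAlgebraic k kb := IsAlgClosure.isAlgebraic
  haveI : IsAffine G.left := isAffine_of_isAffineHom G.hom
  let m := (fst H U ≫ iH) * (snd H U ≫ iU)
  haveI : IsIso m := hsd
  have hm : ∀ (a : SGA7.Pts kb H) (u : SGA7.Pts kb U), lift a u ≫ m = (a ≫ iH) * (u ≫ iU) := fun a u => by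
    simp only [m, MonObj.comp_mul, lift_fst_assoc, lift_snd_assoc]
  have hdec : ∀ g : SGA7.Pts kb G, ∃ (a : SGA7.Pts kb H) (u : SGA7.Pts kb U), (a ≫ iH) * (u ≫ iU) = g :=
    fun g => ⟨g ≫ inv m ≫ fst H U, g ≫ inv m ≫ snd H U, by
      rw [← hm, show lift (g ≫ inv m ≫ fst H U) (g ≫ inv m ≫ snd H U) = g ≫ inv m from
        CartesianMonoidalCategory.hom_ext _ _ (by simp) (by simp)]
      simp⟩
  have huniq : ∀ (a : SGA7.Pts kb H) (u : SGA7.Pts kb U), a ≫ iH = u ≫ iU → a = 1 ∧ u = 1 := fun a u h => by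
    have h1 : lift a (1 : SGA7.Pts kb U) ≫ m = lift (1 : SGA7.Pts kb H) u ≫ m := by
      rw [hm, hm, MonObj.one_comp, MonObj.one_comp, _root_.mul_one, _root_.one_mul, h]
    have h2 := (cancel_mono m).1 h1
    exact ⟨by simpa using congrArg (· ≫ fst H U) h2, by simpa using (congrArg (· ≫ snd H U) h2).symm⟩
  have hiH : ∀ (τ : kb ≃ₐ[k] kb) (a : SGA7.Pts kb H),
      τ • (a ≫ iH : SGA7.Pts kb G) = (τ • a : SGA7.Pts kb H) ≫ iH := smul_comp_pts kb iH
  have hlift : ∀ (b : SGA7.Pts kb H) (x : SGA7.Pts kb X), lift (b ≫ iH) x ≫ aG.act = lift b x ≫ aH.act :=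
    fun b x => by rw [haH, lift_whiskerRight_assoc]
  have hconjU : ∀ (c : SGA7.Pts kb G) (u : SGA7.Pts kb U),
      ∃ u' : SGA7.Pts kb U, c * (u ≫ iU) * c⁻¹ = u' ≫ iU := fun c u => hUn _ c u
  obtain ⟨n, r, hrd, hrc, -, hrm⟩ := hasMass_pairs kb aH hH
  let s : Setoid (Fin n) := Setoid.comap (fun i => fstPair kb (r i)) (MulAction.orbitRel (SGA7.Pts kb H) _)
  let J := Quotient s
  let b : J → SGA7.Pts kb H := fun j => (r j.out).1.1
  have hbd : ∀ i j (g : SGA7.Pts kb H), g • Mass.Tw.mk (frobHom kb H) (b i) = Mass.Tw.mk _ (b j) → i = j :=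
    fun i j g hg => by
    rw [← Quotient.out_eq i, ← Quotient.out_eq j]
    exact (Quotient.sound (s := s) (MulAction.orbitRel_apply.2 ⟨g, hg⟩ : s j.out i.out)).symm
  have hbc : ∀ v : Pair kb aH, ∃ j, ∃ g : SGA7.Pts kb H, g • Mass.Tw.mk (frobHom kb H) (b j) = fstPair kb v :=
    fun v => by
    obtain ⟨i, g, rfl⟩ := hrc v
    obtain ⟨g', hg'⟩ := MulAction.orbitRel_apply.1 (Quotient.mk_out (s := s) i : s _ i)
    refine ⟨⟦i⟧, g * g'⁻¹, ?_⟩
    rw [fstPair_smul, mul_smul]
    exact congrArg (g • ·) (inv_smul_eq_iff.2 hg'.symm)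
  have hbdG : ∀ i j (g : SGA7.Pts kb G),
      g • Mass.Tw.mk (frobHom kb G) (b i ≫ iH) = Mass.Tw.mk _ (b j ≫ iH) →
        ∃ (a : SGA7.Pts kb H) (u : SGA7.Pts kb U), (a ≫ iH) * (u ≫ iU) = g ∧
          ((frob k kb) • a) * b i = b j * a ∧ ((frob k kb) • (u ≫ iU : SGA7.Pts kb G)) * (b i ≫ iH) = (b i ≫ iH) * (u ≫ iU) := by
    intro i j g hg
    rw [smul_tw] at hg
    obtain ⟨a, u, rfl⟩ := hdec g
    rw [smul_mul', hiH] at hg
    obtain ⟨w, hw⟩ := hconjU (b i ≫ iH)⁻¹ ((frob k kb) • u)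
    rw [inv_inv, ← smul_comp_pts] at hw
    have key : ((b i)⁻¹ * ((frob k kb) • a)⁻¹ * b j * a) ≫ iH = (w * u⁻¹) ≫ iU := by
      simp only [MonObj.mul_comp, GrpObj.inv_comp, ← hw]
      rw [eq_mul_inv_iff_mul_eq]
      simp only [_root_.mul_assoc] at hg ⊢
      rw [← hg]
      group
    obtain ⟨h1, h2⟩ := huniq _ _ key
    refine ⟨a, u, rfl, ?_, ?_⟩
    · rw [_root_.mul_assoc, _root_.mul_assoc, inv_mul_eq_one, eq_inv_mul_iff_mul_eq] at h1
      exact h1
    · rw [mul_inv_eq_one] at h2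
      rw [h2, _root_.mul_assoc, inv_mul_eq_iff_eq_mul] at hw
      exact hw
  have hU := fun j : J => unip_fixed kb G U iU hUn hUu d hd (b j ≫ iH)
  let mH : J → ℚ := fun j =>
    (Nat.card {x : SGA7.Pts kb X // SGA7.specAut (frob k kb) ≫ x = lift (b j) x ≫ aH.act} : ℚ) /
      Nat.card {g : SGA7.Pts kb H // ((frob k kb) • g) * b j = b j * g}
  have hMH := (hasMass_pairs kb aH hH).eq_sum (fstPair kb) (fstPair_smul kb)
    (fun j => Mass.Tw.mk (frobHom kb H) (b j)) hbd hbc mH fun j => fibre_mass kb aH (b j)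
  have hMG := (hasMass_pairs kb aG hG).eq_sum (fstPair kb) (fstPair_smul kb)
    (fun j => Mass.Tw.mk (frobHom kb G) (b j ≫ iH))
    (fun i j g hg => by
      obtain ⟨a, u, -, ha, -⟩ := hbdG i j g hg
      exact hbd i j a ((smul_tw kb _ _ _).2 ha))
    (fun v => ?_) (fun j => mH j / (Nat.card k : ℚ) ^ d) fun j => ?_
  · rw [hMG, hMH, Finset.sum_mul]
    exact Finset.sum_congr rfl fun j _ => div_mul_cancel₀ _ (pow_ne_zero _ (by exact_mod_cast Nat.card_pos.ne'))
  · obtain ⟨a, u, hau⟩ := hdec v.1.1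
    obtain ⟨hlang, -, -⟩ := unip_fixed kb G U iU hUn hUu d hd (a ≫ iH)
    obtain ⟨w, hw⟩ := hlang u
    have hfw : ((w ≫ iU : SGA7.Pts kb G) • Mass.Tw.mk (frobHom kb G) (a ≫ iH)) = fstPair kb v := by
      change ((frob k kb) • (w ≫ iU : SGA7.Pts kb G)) * (a ≫ iH) * (w ≫ iU)⁻¹ = v.1.1
      rw [← hau, ← hw]
      group
    have hv' : (((w ≫ iU : SGA7.Pts kb G)⁻¹) • v).1.1 = a ≫ iH :=
      ((fstPair_smul kb (w ≫ iU : SGA7.Pts kb G)⁻¹ v).trans (inv_smul_eq_iff.2 hfw.symm) :)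
    obtain ⟨x', hx'⟩ : ∃ x', x' = (((w ≫ iU : SGA7.Pts kb G)⁻¹) • v).1.2 := ⟨_, rfl⟩
    have hp : SGA7.specAut (frob k kb) ≫ x' = lift a x' ≫ aH.act := by
      rw [hx', ← hlift, ← hv']
      exact (((w ≫ iU : SGA7.Pts kb G)⁻¹) • v).2
    obtain ⟨j, g, hg⟩ := hbc ⟨(a, x'), hp⟩
    refine ⟨j, (w ≫ iU) * (g ≫ iH), ?_⟩
    have h2 : (g ≫ iH : SGA7.Pts kb G) • Mass.Tw.mk (frobHom kb G) (b j ≫ iH) = Mass.Tw.mk _ (a ≫ iH) := by
      rw [smul_tw, hiH, ← MonObj.mul_comp, ← MonObj.mul_comp, (smul_tw kb g (b j) a).1 hg]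
    rw [mul_smul, h2, hfw]
  · obtain ⟨-, hfin, hcard⟩ := hU j
    have e₁ : {x : SGA7.Pts kb X // SGA7.specAut (frob k kb) ≫ x = lift (b j ≫ iH) x ≫ aG.act} ≃
        {x : SGA7.Pts kb X // SGA7.specAut (frob k kb) ≫ x = lift (b j) x ≫ aH.act} :=
      Equiv.subtypeEquivRight fun x => by rw [hlift]
    let f : {a : SGA7.Pts kb H // ((frob k kb) • a) * b j = b j * a} ×
        {u : SGA7.Pts kb U // ((frob k kb) • (u ≫ iU : SGA7.Pts kb G)) * (b j ≫ iH) = (b j ≫ iH) * (u ≫ iU)} →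
        {g : SGA7.Pts kb G // ((frob k kb) • g) * (b j ≫ iH) = (b j ≫ iH) * g} := fun p => ⟨(p.1.1 ≫ iH) * (p.2.1 ≫ iU), by
      rw [smul_mul', hiH, _root_.mul_assoc, p.2.2, ← _root_.mul_assoc, ← MonObj.mul_comp, p.1.2, MonObj.mul_comp,
        _root_.mul_assoc]⟩
    have hf : Function.Bijective f := by
      refine ⟨fun p q h => ?_, fun g => ?_⟩
      · have h' : (p.1.1 ≫ iH) * (p.2.1 ≫ iU) = (q.1.1 ≫ iH) * (q.2.1 ≫ iU) := congrArg Subtype.val h
        obtain ⟨h1, h2⟩ := huniq (q.1.1⁻¹ * p.1.1) (q.2.1 * p.2.1⁻¹) (by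
          simp only [MonObj.mul_comp, GrpObj.inv_comp]
          rw [eq_mul_inv_iff_mul_eq, _root_.mul_assoc, inv_mul_eq_iff_eq_mul]
          exact h')
        exact Prod.ext (Subtype.ext (inv_mul_eq_one.1 h1).symm) (Subtype.ext (mul_inv_eq_one.1 h2).symm)
      · obtain ⟨a, u, hau, ha, hu⟩ := hbdG j j g.1 ((smul_tw kb _ _ _).2 g.2)
        exact ⟨(⟨a, ha⟩, ⟨u, hu⟩), Subtype.ext hau⟩
    have := fibre_mass kb aG (b j ≫ iH)
    rw [Nat.card_congr e₁, ← Nat.card_congr (Equiv.ofBijective f hf), Nat.card_prod, Nat.cast_mul, hcard,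
      Nat.cast_pow, div_mul_eq_div_div] at this
    exact this

end Groth.Agent.S15692
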