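import Groth.Statements.S15693

import Groth.Agent.Lib.GalPts.ClosedMass
import Groth.Agent.Lib.GalPts.PairMass
import Groth.Agent.H60.GitQuot.Geom

set_option autoImplicit false
universe u
open CategoryTheory AlgebraicGeometry MonoidalCategory CartesianMonoidalCategory MonObj
open StackCount

open Groth.Agent.Lib Groth.Agent.Lib.GalPts

namespace Groth.Agent.S15693

section

open CategoryTheory.Limits Groth.Agent.Lib.GrpSch

attribute [local instance] Functor.monObjObj Functor.grpObjObj

variable {k : Type u} [Field k] {kb : Type u} [Field kb] [Algebra k kb]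
  {G X : Over (Spec (CommRingCat.of k))} [GrpObj G] {aX : AlgGrp.Action G X}

/-- The structure map to the geometric point. -/
noncomputable def str (T : Over (Spec (CommRingCat.of kb))) :
    (Over.map (SGA7.pt (K := k) kb).hom).obj T ⟶ SGA7.pt (K := k) kb :=
  Over.homMk T.hom rfl

theorem map_str {T T' : Over (Spec (CommRingCat.of kb))} (g : T ⟶ T') :
    (Over.map (SGA7.pt (K := k) kb).hom).map g ≫ str T' = str T :=
  Over.OverMorphism.ext (Over.w g)

theorem unitPoint_str : unitPoint (k := k) kb ≫ str (𝟙_ (Over (Spec (CommRingCat.of kb)))) = 𝟙 _ :=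
  Over.OverMorphism.ext (Category.id_comp _)

theorem homEquiv_eq_sharp {T : Over (Spec (CommRingCat.of kb))} {Z : Over (Spec (CommRingCat.of k))}
    (g : (Over.map (SGA7.pt (K := k) kb).hom).obj T ⟶ Z) :
    (Over.mapPullbackAdj (SGA7.pt (K := k) kb).hom).homEquiv T Z g =
      Restrict.sharp (SGA7.pt (K := k) kb).hom g := by
  refine Restrict.flat_injective _ ?_
  rw [Restrict.flat_sharp, Adjunction.homEquiv_unit]
  refine (Restrict.flat_comp_map (SGA7.pt (K := k) kb).hom _ g).trans ?_
  refine (congrArg (· ≫ g) (?_ : _ = 𝟙 _)).trans (Category.id_comp g)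
  exact Over.OverMorphism.ext (pullback.lift_fst _ _ _)

variable (aX) (x : SGA7.Pts kb X)

/-- The orbit map. -/
noncomputable def orbMap : GalTw.bcK kb G ⟶ GalTw.bcK kb X :=
  Restrict.sharp _ (lift (Restrict.flat _ (𝟙 (GalTw.bcK kb G))) (str (GalTw.bcK kb G) ≫ x) ≫ aX.act)

/-- The point as a section. -/
noncomputable def secPt : 𝟙_ (Over (Spec (CommRingCat.of kb))) ⟶ GalTw.bcK kb X :=
  Restrict.sharp _ (str _ ≫ x)

theorem comp_orbMap_iff {T : Over (Spec (CommRingCat.of kb))} (g : T ⟶ GalTw.bcK kb G) :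
    g ≫ orbMap aX x = toUnit T ≫ secPt x ↔
      lift (Restrict.flat _ g) (str T ≫ x) ≫ aX.act = str T ≫ x := by
  have h1 : Restrict.flat _ (g ≫ orbMap aX x) = lift (Restrict.flat _ g) (str T ≫ x) ≫ aX.act := by
    rw [Restrict.flat_comp, orbMap, Restrict.flat_sharp, comp_lift_assoc, ← Category.assoc, map_str,
      ← Restrict.flat_comp, Category.comp_id]
  have h2 : Restrict.flat _ (toUnit T ≫ secPt x) = str T ≫ x := by
    rw [Restrict.flat_comp, secPt, Restrict.flat_sharp, ← Category.assoc, map_str]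
  rw [← h1, ← h2]
  exact ⟨fun h => congrArg _ h, fun h => Restrict.flat_injective _ h⟩

variable {S : Over (Spec (CommRingCat.of kb))} (s : S ⟶ GalTw.bcK kb G)

/-- A stabiliser is a closed subscheme. -/
theorem isClosedImmersion_stab [LocallyOfFiniteType X.hom] [Mono s]
    (h : ∀ (T : Over (Spec (CommRingCat.of kb))) (g : T ⟶ GalTw.bcK kb G),
      (∃ g' : T ⟶ S, g' ≫ s = g) ↔ g ≫ orbMap aX x = toUnit T ≫ secPt x) : IsClosedImmersion s.left := by
  have hpb : IsPullback s (toUnit S) (orbMap aX x) (secPt x) :=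
    ⟨⟨(h S s).1 ⟨𝟙 _, Category.id_comp _⟩⟩, ⟨PullbackCone.IsLimit.mk _
      (fun c => ((h c.pt c.fst).2 (c.condition.trans (congrArg (· ≫ secPt x) (toUnit_unique c.snd _)))).choose)
      (fun c => ((h c.pt c.fst).2 (c.condition.trans (congrArg (· ≫ secPt x) (toUnit_unique c.snd _)))).choose_spec)
      (fun c => toUnit_unique _ _)
      (fun c m hm _ => (cancel_mono s).1
        (hm.trans ((h c.pt c.fst).2 (c.condition.trans (congrArg (· ≫ secPt x) (toUnit_unique c.snd _)))).choose_spec.symm))⟩⟩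
  have hl := hpb.map (Over.forget (Spec (CommRingCat.of kb)))
  haveI : LocallyOfFiniteType (GalTw.bcK kb X).hom := bc_hom_of _ X inferInstance
  have hx : IsClosedImmersion (secPt x).left := by
    have hs : (secPt x).left ≫ (GalTw.bcK kb X).hom = 𝟙 _ := Over.w (secPt x)
    haveI : IsImmersion ((secPt x).left ≫ (GalTw.bcK kb X).hom) := by rw [hs]; infer_instance
    haveI : IsImmersion (secPt x).left := IsImmersion.of_comp _ (GalTw.bcK kb X).hom
    exact IsClosedImmersion.of_isPreimmersion _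
      (H60.GitQuot.isClosed_range_section (Iso.refl _) _ _ hs)
  exact MorphismProperty.of_isPullback hl.flip hx

/-- The points of the stabiliser. -/
theorem mem_stab_iff (h : ∀ (T : Over (Spec (CommRingCat.of kb))) (g : T ⟶ GalTw.bcK kb G),
      (∃ g' : T ⟶ S, g' ≫ s = g) ↔ g ≫ orbMap aX x = toUnit T ≫ secPt x) (g : SGA7.Pts kb G) :
    lift g x ≫ aX.act = x ↔ ∃ z : 𝟙_ (Over (Spec (CommRingCat.of kb))) ⟶ S, geomPt kb (z ≫ s) = g := by
  obtain ⟨z₀, rfl⟩ := (geomPt_bijective kb).2 g
  haveI : IsIso (unitPoint (k := k) kb) := by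
    haveI : IsIso ((Over.forget _).map (unitPoint (k := k) kb)) := inferInstanceAs (IsIso (𝟙 _))
    exact isIso_of_reflects_iso _ (Over.forget _)
  have hiff : z₀ ≫ orbMap aX x = toUnit _ ≫ secPt x ↔ lift (geomPt kb z₀) x ≫ aX.act = x := by
    rw [comp_orbMap_iff, ← cancel_epi (unitPoint (k := k) kb), comp_lift_assoc, ← Category.assoc, unitPoint_str,
      Category.id_comp]
    rfl
  rw [← hiff, ← h]
  exact ⟨fun ⟨z, hz⟩ => ⟨z, congrArg _ hz⟩, fun ⟨z, hz⟩ => ⟨z, (geomPt_bijective kb).1 hz⟩⟩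

end

section

variable {k : Type u} [Field k] {kb : Type u} [Field kb] [Algebra k kb]
  {G X : Over (Spec (CommRingCat.of k))} [GrpObj G]

/-- The geometric points of `X` with the action of the geometric points of `G`. -/
def Orb (kb : Type u) [Field kb] [Algebra k kb] (_aX : AlgGrp.Action G X) : Type u := SGA7.Pts kb X

noncomputable instance (aX : AlgGrp.Action G X) : MulAction (SGA7.Pts kb G) (Orb kb aX) where
  smul g y := (lift g (y : SGA7.Pts kb X) ≫ aX.act : SGA7.Pts kb X)
  one_smul y := QuotSt.Act.one_smul aX (y : SGA7.Pts kb X)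
  mul_smul g g' y := QuotSt.Act.mul_smul aX g g' (y : SGA7.Pts kb X)

/-- A point as an element of `Orb`. -/
def toOrb (aX : AlgGrp.Action G X) (y : SGA7.Pts kb X) : Orb kb aX := y

theorem smul_toOrb_eq_iff (aX : AlgGrp.Action G X) (g : SGA7.Pts kb G) (y y' : SGA7.Pts kb X) :
    g • toOrb aX y = toOrb aX y' ↔ lift g y ≫ aX.act = y' := Iff.rfl

theorem smul_act (aX : AlgGrp.Action G X) (σ : kb ≃ₐ[k] kb) (g : SGA7.Pts kb G) (y : SGA7.Pts kb X) :
    σ • (lift g y ≫ aX.act : SGA7.Pts kb X) = lift (σ • g) (σ • y) ≫ aX.act := by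
  rw [GalTw.pts_smul_def, GalTw.pts_smul_def, GalTw.pts_smul_def, comp_lift_assoc]

variable [Finite k] [Algebra.IsAlgebraic k kb]

/-- The orbit of a point of a pair is stable under the Galois group. -/
theorem orbit_stable [LocallyOfFiniteType X.hom] [IsAlgClosure k kb] (aX : AlgGrp.Action G X)
    (v : Pair kb aX) (σ : kb ≃ₐ[k] kb) :
    ∃ g : SGA7.Pts kb G, lift g (σ • v.1.2) ≫ aX.act = v.1.2 := by
  have hn : ∀ n : ℕ, ∃ g : SGA7.Pts kb G, (frob k kb ^ n) • v.1.2 = lift g v.1.2 ≫ aX.act := fun n => by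
    induction n with
    | zero => exact ⟨1, by rw [pow_zero, one_smul, QuotSt.Act.one_smul]⟩
    | succ n ih =>
      obtain ⟨g, hg⟩ := ih
      refine ⟨(frob k kb • g) * v.1.1, ?_⟩
      rw [pow_succ', mul_smul, hg, smul_act, QuotSt.Act.mul_smul]
      congr 2
      rw [GalTw.pts_smul_def]
      exact v.2
  obtain ⟨E, hE, y₀, hy₀⟩ := exists_finite_level v.1.2
  haveI := hE
  obtain ⟨j, hj⟩ := Cocycle.exists_pow_agree (π := frob k kb) frob_apply E σ
  have hσ : σ • v.1.2 = (frob k kb ^ j) • v.1.2 := by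
    rw [← hy₀, GalTw.pts_smul_def, GalTw.pts_smul_def, specAut_eq_ptMap, specAut_eq_ptMap, ← Category.assoc,
      ← Category.assoc, ptMap_comp, ptMap_comp]
    congr 2
    exact AlgHom.ext fun e => hj e.1 e.2
  obtain ⟨g, hg⟩ := hn j
  exact ⟨g⁻¹, by rw [hσ, hg, ← QuotSt.Act.mul_smul, inv_mul_cancel, QuotSt.Act.one_smul]⟩

end

/-- Let k be a finite field with q elements and algebraic closure k̄, G a smooth affine algebraic group
over k acting on a variety X over k (reduced, of finite type), and [X/G] the quotient stack whose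
objects over a k-scheme T are G-torsors over T (schemes, locally trivial for the étale topology)
with an equivariant morphism to X. Choose k̄-points x_j of X, indexed by a finite set, lying in
pairwise distinct G(k̄)-orbits, each orbit stable under Gal(k̄/k), and such that every Galois-stable
orbit contains some x_j. For each j let s_j : S_j → G_k̄ be the stabiliser of x_j: a monomorphic
homomorphism of k̄-group schemes such that a T-valued point of G_k̄ factors through S_j exactly when
it fixes x_j. Assume every S_j contains no non-trivial subtorus (equivalently, the identity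
component of its reduced subgroup is unipotent) and has dimension d_j. If the groupoid of k-points
of [X/G] is essentially finite, then its point count (sum over isomorphism classes of the inverse
orders of the automorphism groups) equals Σ_j q^(−d_j). (The published statement is for the
k′-points over any finite extension k′, to which this case k′ = k applies after base change; it asks
the unipotency of the stabilisers of all orbits, of which only the Galois-stable ones enter; and it
allows any algebraic group G, taken smooth and affine here so that torsors are schemes.) -/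
theorem result (k : Type u) [Field k] [Finite k]
    (kb : Type u) [Field kb] [Algebra k kb] [IsAlgClosure k kb]
    (G : Over (Spec (CommRingCat.of k))) [GrpObj G] [Smooth G.hom] [IsAffineHom G.hom]
    (X : Over (Spec (CommRingCat.of k))) [LocallyOfFiniteType X.hom] [QuasiCompact X.hom]
    [IsReduced X.left] (aX : AlgGrp.Action G X)
    (J : Type) [Fintype J] (x : J → SGA7.Pts kb X)
    (hdis : ∀ j j' : J, (∃ g : SGA7.Pts kb G, lift g (x j) ≫ aX.act = x j') → j = j')
    (hfix : ∀ (j : J) (σ : kb ≃ₐ[k] kb), ∃ g : SGA7.Pts kb G, lift g (σ • x j) ≫ aX.act = x j)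
    (hall : ∀ y : SGA7.Pts kb X,
      (∀ σ : kb ≃ₐ[k] kb, ∃ g : SGA7.Pts kb G, lift g (σ • y) ≫ aX.act = y) →
        ∃ (j : J) (g : SGA7.Pts kb G), lift g (x j) ≫ aX.act = y)
    (S : J → Over (Spec (CommRingCat.of kb))) [∀ j, GrpObj (S j)]
    (s : ∀ j, S j ⟶ GalTw.bcK kb G) [∀ j, IsMonHom (s j)] [∀ j, Mono (s j)]
    (hS : ∀ (j : J) (T : Over (Spec (CommRingCat.of kb)))
      (g : (Over.map (SGA7.pt (K := k) kb).hom).obj T ⟶ G),
      (∃ g' : T ⟶ S j, g' ≫ s j = (Over.mapPullbackAdj (SGA7.pt (K := k) kb).hom).homEquiv T G g) ↔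
        lift g ((Over.homMk T.hom rfl : (Over.map (SGA7.pt (K := k) kb).hom).obj T ⟶ SGA7.pt (K := k) kb) ≫ x j)
            ≫ aX.act =
          (Over.homMk T.hom rfl : (Over.map (SGA7.pt (K := k) kb).hom).obj T ⟶ SGA7.pt (K := k) kb) ≫ x j)
    (hSu : ∀ j, Red.HasNoSubtorus kb (S j))
    (d : J → ℕ) (hd : ∀ j, topologicalKrullDim ↥(S j).left = (d j : WithBot ℕ∞))
    (h : StkCnt.IsEssFinite (StkCnt.pts (AlgSt.QuotSt Scheme.etalePrecoverage G aX) k)) :
    StkCnt.ptCount (AlgSt.QuotSt Scheme.etalePrecoverage G aX) k h =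
      ∑ j : J, ((Nat.card k : ℚ) ^ (d j))⁻¹ := by
  classical
  haveI := IsAlgClosure.isAlgClosed k (K := kb)
  haveI : Algebra.IsAlgebraic k kb := IsAlgClosure.isAlgebraic
  haveI : IsAffine G.left := isAffine_of_isAffineHom G.hom
  have hS' : ∀ (j : J) (T : Over (Spec (CommRingCat.of kb))) (g : T ⟶ GalTw.bcK kb G),
      (∃ g' : T ⟶ S j, g' ≫ s j = g) ↔ g ≫ orbMap aX (x j) = toUnit T ≫ secPt (x j) := fun j T g => by
    rw [comp_orbMap_iff]
    have := hS j T (Restrict.flat _ g)
    rwa [homEquiv_eq_sharp, show Restrict.sharp _ (Restrict.flat _ g) = g from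
      Restrict.flat_injective _ (Restrict.flat_sharp _ _)] at this
  have hbc : ∀ v : Pair kb aX, ∃ (j : J) (g : SGA7.Pts kb G), g • toOrb aX (x j) = toOrb aX v.1.2 :=
    fun v => hall v.1.2 (orbit_stable aX v)
  have hmass := hasMass_pairs kb aX h
  refine hmass.eq_sum (B := Orb kb aX) (fun v : Pair kb aX => toOrb aX v.1.2) (fun g v => rfl)
    (fun j => toOrb aX (x j)) (fun i j g hg => hdis i j ⟨g, hg⟩) hbc _ fun j => ?_
  haveI : IsClosedImmersion (s j).left := isClosedImmersion_stab aX (x j) (s j) (hS' j)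
  let P : Subgroup (SGA7.Pts kb G) := MulAction.stabilizer (SGA7.Pts kb G) (toOrb aX (x j))
  have hP : ∀ g, g ∈ P ↔ lift g (x j) ≫ aX.act = x j := fun g => Iff.rfl
  obtain ⟨g₀, hg₀⟩ := hfix j (frob k kb)
  obtain ⟨b₀, hb₀⟩ : ∃ b₀ : SGA7.Pts kb G, frob k kb • x j = lift b₀ (x j) ≫ aX.act := by
    refine ⟨g₀⁻¹, ?_⟩
    conv_rhs => rw [← hg₀, ← QuotSt.Act.mul_smul, inv_mul_cancel, QuotSt.Act.one_smul]
  have hF : ∀ g, g ∈ P → lift (frob k kb • g) (lift b₀ (x j) ≫ aX.act) ≫ aX.act = lift b₀ (x j) ≫ aX.act :=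
    fun g hg => by rw [← hb₀, ← smul_act, (hP g).1 hg]
  obtain ⟨φ, hφ⟩ : ∃ φ : P →* P, ∀ a : P, (φ a : SGA7.Pts kb G) = b₀⁻¹ * (frob k kb • a.1) * b₀ :=
    ⟨MonoidHom.mk' (fun a => ⟨b₀⁻¹ * (frob k kb • a.1) * b₀, by
      rw [hP, _root_.mul_assoc, QuotSt.Act.mul_smul, QuotSt.Act.mul_smul, hF a.1 a.2,
        ← QuotSt.Act.mul_smul, inv_mul_cancel, QuotSt.Act.one_smul]⟩)
      (fun a a' => Subtype.ext (by
        simp only [Subgroup.coe_mul, smul_mul']
        group)), fun _ => rfl⟩
  have hφb : Function.Bijective φ := by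
    refine ⟨fun a a' e => Subtype.ext ?_, fun c => ?_⟩
    · have e' := congrArg Subtype.val e
      rw [hφ, hφ] at e'
      exact smul_left_cancel (frob k kb) (mul_left_cancel (mul_right_cancel e'))
    · refine ⟨⟨(frob k kb)⁻¹ • (b₀ * c.1 * b₀⁻¹), (hP _).2 ?_⟩, Subtype.ext ?_⟩
      · apply smul_left_cancel (frob k kb)
        rw [smul_act, smul_inv_smul, hb₀, ← QuotSt.Act.mul_smul, inv_mul_cancel_right,
          QuotSt.Act.mul_smul, (hP c.1).1 c.2]
      · rw [hφ, smul_inv_smul]
        group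
  have hmP := hasMass_of_closed kb G (S j) (s j) (hSu j) (d j) (hd j) P
    (fun g => (hP g).trans (mem_stab_iff aX (x j) (s j) (hS' j) g)) b₀ φ hφb hφ
  have hto : ∀ a : Mass.Tw φ, frob k kb • x j = lift (b₀ * a.val.1) (x j) ≫ aX.act := fun a => by
    rw [QuotSt.Act.mul_smul, (hP a.val.1).1 a.val.2, hb₀]
  refine hmP.congr (MulEquiv.refl _)
    { toFun := fun a => ⟨⟨(b₀ * a.val.1, x j), hto a⟩, rfl⟩
      invFun := fun v => Mass.Tw.mk φ ⟨b₀⁻¹ * v.1.1.1, (hP _).2 (by
        have h2 := v.1.2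
        rw [show v.1.1.2 = x j from v.2, ← GalTw.pts_smul_def, hb₀] at h2
        rw [QuotSt.Act.mul_smul, ← h2, ← QuotSt.Act.mul_smul, inv_mul_cancel,
          QuotSt.Act.one_smul])⟩
      left_inv := fun a => Subtype.ext (inv_mul_cancel_left b₀ a.val.1)
      right_inv := fun v => Subtype.ext (Subtype.ext (Prod.ext (mul_inv_cancel_left b₀ v.1.1.1) v.2.symm)) }
    fun g a => Subtype.ext (Subtype.ext (Prod.ext ?_ ((hP g.1).1 g.2).symm))
  change b₀ * ((φ g).1 * a.val.1 * g.1⁻¹) = (SGA7.specAut (frob k kb) ≫ g.1) * (b₀ * a.val.1) * g.1⁻¹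
  rw [hφ, GalTw.pts_smul_def]
  group


end Groth.Agent.S15693
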