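import Groth.Statements.S15694

import Groth.Agent.Lib.GalPts.ContainsId
import Groth.Agent.S15692
import Groth.Agent.S15693

set_option autoImplicit false
universe u
open CategoryTheory AlgebraicGeometry MonoidalCategory CartesianMonoidalCategory MonObj
open StackCount

open Groth.Agent.Lib Groth.Agent.Lib.GalPts Groth.Agent.S15692 CategoryTheory.Limits

namespace Groth.Agent.S15694

section

open CategoryTheory.Limits Groth.Agent.Lib.GrpSch Groth.Agent.S15692 Groth.Agent.S15693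

attribute [local instance] Functor.monObjObj Functor.grpObjObj

variable {k : Type u} [Field k] [Finite k] {kb : Type u} [Field kb] [Algebra k kb] [IsAlgClosed kb]
  [Algebra.IsAlgebraic k kb] [IsAlgClosure k kb]

/-- The rational points of affine space. -/
theorem card_affine (V : Over (Spec (CommRingCat.of k))) (n : ℕ)
    (eV : V.left ≅ 𝔸(ULift.{u} (Fin n); Spec (CommRingCat.of k)))
    (heV : eV.hom ≫ (𝔸(ULift.{u} (Fin n); Spec (CommRingCat.of k)) ↘ Spec (CommRingCat.of k)) = V.hom) :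
    Finite (SGA7.Pts k V) ∧ Nat.card (SGA7.Pts k V) = Nat.card k ^ n := by
  let e₁ : SGA7.Pts k V ≃ (ULift.{u} (Fin n) → Γ(Spec (CommRingCat.of k), ⊤)) :=
    { toFun := fun x i => (x.left ≫ eV.hom).appTop (AffineSpace.coord _ i)
      invFun := fun v => Over.homMk (AffineSpace.homOfVector (SGA7.pt (K := k) k).hom v ≫ eV.inv) (by
        change (AffineSpace.homOfVector (SGA7.pt (K := k) k).hom v ≫ eV.inv) ≫ V.hom = (SGA7.pt (K := k) k).hom
        rw [← heV, Category.assoc, Iso.inv_hom_id_assoc, AffineSpace.homOfVector_over])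
      left_inv := fun x => by
        apply Over.OverMorphism.ext
        refine (cancel_mono eV.hom).1 ?_
        change (AffineSpace.homOfVector (SGA7.pt (K := k) k).hom
          (fun i => (x.left ≫ eV.hom).appTop (AffineSpace.coord _ i)) ≫ eV.inv) ≫ eV.hom = _
        rw [Category.assoc, Iso.inv_hom_id, Category.comp_id]
        refine AffineSpace.hom_ext ?_ fun i => ?_
        · rw [AffineSpace.homOfVector_over, Category.assoc, heV]
          exact (Over.w x).symm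
        · rw [AffineSpace.homOfVector_appTop_coord]
      right_inv := fun v => funext fun i => by
        change ((AffineSpace.homOfVector (SGA7.pt (K := k) k).hom v ≫ eV.inv) ≫ eV.hom).appTop _ = v i
        rw [Category.assoc, Iso.inv_hom_id, Category.comp_id, AffineSpace.homOfVector_appTop_coord] }
  let e : SGA7.Pts k V ≃ (ULift.{u} (Fin n) → k) :=
    e₁.trans (Equiv.arrowCongr (Equiv.refl _) (Scheme.ΓSpecIso (CommRingCat.of k)).commRingCatIsoToRingEquiv.toEquiv)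
  haveI : Finite (ULift.{u} (Fin n) → k) := inferInstance
  exact ⟨Finite.of_equiv _ e.symm, by rw [Nat.card_congr e, Nat.card_fun]; simp⟩

/-- The mass of the pairs of a finite set with an action. -/
theorem mass_finite_action (F : Over (Spec (CommRingCat.of k))) [GrpObj F] [Smooth F.hom] [IsAffineHom F.hom]
    (hFu : Red.HasNoSubtorus kb (GalTw.bcK kb F)) (d : ℕ) (hd : topologicalKrullDim ↥F.left = (d : WithBot ℕ∞))
    (E : Over (Spec (CommRingCat.of k))) [IsFinite E.hom] (aE : AlgGrp.Action F E)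
    (J : Type) [Fintype J] (e : J → SGA7.Pts kb E)
    (hdis : ∀ j j' : J, (∃ g : SGA7.Pts kb F, lift g (e j) ≫ aE.act = e j') → j = j')
    (hfix : ∀ (j : J) (σ : kb ≃ₐ[k] kb), ∃ g : SGA7.Pts kb F, lift g (σ • e j) ≫ aE.act = e j)
    (hall : ∀ y : SGA7.Pts kb E,
      (∀ σ : kb ≃ₐ[k] kb, ∃ g : SGA7.Pts kb F, lift g (σ • y) ≫ aE.act = y) →
        ∃ (j : J) (g : SGA7.Pts kb F), lift g (e j) ≫ aE.act = y) :
    Mass.HasMass (SGA7.Pts kb F) (Pair kb aE) (∑ _j : J, ((Nat.card k : ℚ) ^ d)⁻¹) := by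
  classical
  haveI : IsAffine F.left := isAffine_of_isAffineHom F.hom
  have hbc : ∀ v : Pair kb aE, ∃ (j : J) (g : SGA7.Pts kb F), g • toOrb aE (e j) = toOrb aE v.1.2 :=
    fun v => hall v.1.2 (orbit_stable aE v)
  refine Mass.hasMass_fibration (B := Orb kb aE) (fun v : Pair kb aE => toOrb aE v.1.2) (fun g v => rfl)
    (fun j => toOrb aE (e j)) (fun i j g hg => hdis i j ⟨g, hg⟩) hbc _ fun j => ?_
  let P : Subgroup (SGA7.Pts kb F) := MulAction.stabilizer (SGA7.Pts kb F) (toOrb aE (e j))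
  have hP : ∀ g, g ∈ P ↔ lift g (e j) ≫ aE.act = e j := fun g => Iff.rfl
  obtain ⟨g₀, hg₀⟩ := hfix j (frob k kb)
  obtain ⟨b₀, hb₀⟩ : ∃ b₀ : SGA7.Pts kb F, frob k kb • e j = lift b₀ (e j) ≫ aE.act := by
    refine ⟨g₀⁻¹, ?_⟩
    conv_rhs => rw [← hg₀, ← QuotSt.Act.mul_smul, inv_mul_cancel, QuotSt.Act.one_smul]
  have hF : ∀ g, g ∈ P → lift (frob k kb • g) (lift b₀ (e j) ≫ aE.act) ≫ aE.act = lift b₀ (e j) ≫ aE.act :=
    fun g hg => by rw [← hb₀, ← smul_act, (hP g).1 hg]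
  obtain ⟨φ, hφ⟩ : ∃ φ : P →* P, ∀ a : P, (φ a : SGA7.Pts kb F) = b₀⁻¹ * (frob k kb • a.1) * b₀ :=
    ⟨MonoidHom.mk' (fun a => ⟨b₀⁻¹ * (frob k kb • a.1) * b₀, by
      rw [hP, _root_.mul_assoc, QuotSt.Act.mul_smul, QuotSt.Act.mul_smul, hF a.1 a.2,
        ← QuotSt.Act.mul_smul, inv_mul_cancel, QuotSt.Act.one_smul]⟩)
      (fun a a' => Subtype.ext (by
        simp only [Subgroup.coe_mul, smul_mul']
        group)), fun _ => rfl⟩
  have hφb : Function.Bijective φ := by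
    refine ⟨fun a a' e => Subtype.ext ?_, fun c => ?_⟩
    · have e' := congrArg Subtype.val e
      rw [hφ, hφ] at e'
      exact smul_left_cancel (frob k kb) (mul_left_cancel (mul_right_cancel e'))
    · refine ⟨⟨(frob k kb)⁻¹ • (b₀ * c.1 * b₀⁻¹), (hP _).2 ?_⟩, Subtype.ext ?_⟩
      · apply smul_left_cancel (frob k kb)
        rw [smul_act, smul_inv_smul, hb₀, ← QuotSt.Act.mul_smul, inv_mul_cancel_right,
          QuotSt.Act.mul_smul, (hP c.1).1 c.2]
      · rw [hφ, smul_inv_smul]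
        group
  haveI : IsFinite (GalTw.bcK kb E).hom := bc_hom_of _ E inferInstance
  have hle : ∀ z : 𝟙_ (Over (Spec (CommRingCat.of kb))) ⟶ GalTw.bcK kb F,
      z ∈ H52.CompDiv.idComp (GalTw.bcK kb F) → geomPt kb z ∈ P := fun z hz => by
    have h1 : z ≫ orbMap aE (e j) = toUnit _ ≫ secPt (e j) := by
      rw [comp_eq_of_mem_idComp kb (orbMap aE (e j)) z hz]
      rw [show η[GalTw.bcK kb F] = (1 : 𝟙_ (Over (Spec (CommRingCat.of kb))) ⟶ GalTw.bcK kb F) by
        rw [Hom.one_def, toUnit_unique (toUnit _) (𝟙 _), Category.id_comp], comp_orbMap_iff,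
        Restrict.flat_one, QuotSt.Act.one_smul]
    rw [comp_orbMap_iff] at h1
    have h2 := congrArg (unitPoint (k := k) kb ≫ ·) h1
    simp only [comp_lift_assoc, ← Category.assoc, unitPoint_str, Category.id_comp] at h2
    rw [hP]
    exact h2
  have hmP := hasMass_of_idComp_le kb F hFu d hd P hle b₀ φ hφb hφ
  have hto : ∀ a : Mass.Tw φ, frob k kb • e j = lift (b₀ * a.val.1) (e j) ≫ aE.act := fun a => by
    rw [QuotSt.Act.mul_smul, (hP a.val.1).1 a.val.2, hb₀]
  refine hmP.congr (MulEquiv.refl _)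
    { toFun := fun a => ⟨⟨(b₀ * a.val.1, e j), hto a⟩, rfl⟩
      invFun := fun v => Mass.Tw.mk φ ⟨b₀⁻¹ * v.1.1.1, (hP _).2 (by
        have h2 := v.1.2
        rw [show v.1.1.2 = e j from v.2, ← GalTw.pts_smul_def, hb₀] at h2
        rw [QuotSt.Act.mul_smul, ← h2, ← QuotSt.Act.mul_smul, inv_mul_cancel,
          QuotSt.Act.one_smul])⟩
      left_inv := fun a => Subtype.ext (inv_mul_cancel_left b₀ a.val.1)
      right_inv := fun v => Subtype.ext (Subtype.ext (Prod.ext (mul_inv_cancel_left b₀ v.1.1.1) v.2.symm)) }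
    fun g a => Subtype.ext (Subtype.ext (Prod.ext ?_ ((hP g.1).1 g.2).symm))
  change b₀ * ((φ g).1 * a.val.1 * g.1⁻¹) = (SGA7.specAut (frob k kb) ≫ g.1) * (b₀ * a.val.1) * g.1⁻¹
  rw [hφ, GalTw.pts_smul_def]
  group

end

/-- Let k be a finite field with q elements and algebraic closure k̄, and G a smooth affine algebraic
group over k of the form (F × H) ⋉ U: F, H, U are closed subgroups (monomorphic homomorphisms into
G), F and H commute elementwise, U is normal, and multiplication (f, h, u) ↦ f h u is an isomorphism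
of k-schemes F × H × U → G. Assume F has unipotent identity component (its base change to k̄
contains no non-trivial subtorus) and dimension d_F, H is connected, and U is smooth, connected,
unipotent (no non-trivial subtorus over k̄) of dimension d_U. Let X = E × V with E finite and
reduced over k and V isomorphic over k to affine n-space, and let G act on X so that the restriction
of the action to F is the product of an action of F on E and an action of F on V, the latter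
factoring through a homomorphism from F to a smooth connected algebraic group acting on V. Choose
k̄-points e_j of E, indexed by a finite set J, one in each Galois-stable F(k̄)-orbit of E(k̄) and in
pairwise distinct orbits. If the groupoid of k-points of the quotient stack [X/G] (étale G-torsors
as schemes with an equivariant map to X) is essentially finite, then its point count satisfies
#[X/G](k) · #H(k) · q^(d_U + d_F) = #J · q^n. (The published statement is for k′-points over any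
finite extension k′ and reads #[X/G](k′) = #J · (#k′)^(dim V − dim U − dim F) / #H(k′); this row is
the case k′ = k with denominators cleared, and takes the groups affine so that torsors are schemes.) -/
theorem result (k : Type u) [Field k] [Finite k]
    (kb : Type u) [Field kb] [Algebra k kb] [IsAlgClosure k kb]
    (G F H U : Over (Spec (CommRingCat.of k))) [GrpObj G] [GrpObj F] [GrpObj H] [GrpObj U]
    [Smooth G.hom] [IsAffineHom G.hom] [Smooth F.hom] [IsAffineHom F.hom]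
    [Smooth H.hom] [IsAffineHom H.hom] [ConnectedSpace H.left]
    [Smooth U.hom] [IsAffineHom U.hom] [ConnectedSpace U.left]
    (iF : F ⟶ G) (iH : H ⟶ G) (iU : U ⟶ G) [IsMonHom iF] [IsMonHom iH] [IsMonHom iU]
    [Mono iF] [Mono iH] [Mono iU]
    (hFH : (fst F H ≫ iF) * (snd F H ≫ iH) = (snd F H ≫ iH) * (fst F H ≫ iF))
    (hUn : AlgGrp.IsNormalHom iU)
    (hsd : IsIso ((fst (F ⊗ H) U ≫ fst F H ≫ iF) * (fst (F ⊗ H) U ≫ snd F H ≫ iH) * (snd (F ⊗ H) U ≫ iU)))
    (hFu : Red.HasNoSubtorus kb (GalTw.bcK kb F)) (hUu : Red.HasNoSubtorus kb (GalTw.bcK kb U))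
    (dF dU : ℕ) (hdF : topologicalKrullDim ↥F.left = (dF : WithBot ℕ∞))
    (hdU : topologicalKrullDim ↥U.left = (dU : WithBot ℕ∞))
    (E V : Over (Spec (CommRingCat.of k))) [IsFinite E.hom] [IsReduced E.left]
    (n : ℕ) (eV : V.left ≅ 𝔸(ULift.{u} (Fin n); Spec (CommRingCat.of k)))
    (heV : eV.hom ≫ (𝔸(ULift.{u} (Fin n); Spec (CommRingCat.of k)) ↘ Spec (CommRingCat.of k)) = V.hom)
    (aX : AlgGrp.Action G (E ⊗ V)) (aE : AlgGrp.Action F E) (aV : AlgGrp.Action F V)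
    (haF : (iF ▷ (E ⊗ V)) ≫ aX.act =
      lift (lift (fst F (E ⊗ V)) (snd F (E ⊗ V) ≫ fst E V) ≫ aE.act)
        (lift (fst F (E ⊗ V)) (snd F (E ⊗ V) ≫ snd E V) ≫ aV.act))
    (Fc : Over (Spec (CommRingCat.of k))) [GrpObj Fc] [Smooth Fc.hom] [QuasiCompact Fc.hom]
    [ConnectedSpace Fc.left] (ρ : F ⟶ Fc) [IsMonHom ρ] (aVc : AlgGrp.Action Fc V)
    (haV : aV.act = (ρ ▷ V) ≫ aVc.act)
    (J : Type) [Fintype J] (e : J → SGA7.Pts kb E)
    (hdis : ∀ j j' : J, (∃ g : SGA7.Pts kb F, lift g (e j) ≫ aE.act = e j') → j = j')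
    (hfix : ∀ (j : J) (σ : kb ≃ₐ[k] kb), ∃ g : SGA7.Pts kb F, lift g (σ • e j) ≫ aE.act = e j)
    (hall : ∀ y : SGA7.Pts kb E,
      (∀ σ : kb ≃ₐ[k] kb, ∃ g : SGA7.Pts kb F, lift g (σ • y) ≫ aE.act = y) →
        ∃ (j : J) (g : SGA7.Pts kb F), lift g (e j) ≫ aE.act = y)
    (h : StkCnt.IsEssFinite (StkCnt.pts (AlgSt.QuotSt Scheme.etalePrecoverage G aX) k)) :
    StkCnt.ptCount (AlgSt.QuotSt Scheme.etalePrecoverage G aX) k h *
        (Nat.card (SGA7.Pts k H) : ℚ) * (Nat.card k : ℚ) ^ (dU + dF) =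
      (Fintype.card J : ℚ) * (Nat.card k : ℚ) ^ n := by
  classical
  haveI := IsAlgClosure.isAlgClosed k (K := kb)
  haveI : Algebra.IsAlgebraic k kb := IsAlgClosure.isAlgebraic
  haveI : IsAffine G.left := isAffine_of_isAffineHom G.hom
  haveI : LocallyOfFiniteType V.hom := by rw [← heV]; infer_instance
  haveI : QuasiCompact V.hom := by rw [← heV]; infer_instance
  haveI : LocallyOfFiniteType (E ⊗ V).hom := by
    change LocallyOfFiniteType (pullback.fst E.hom V.hom ≫ E.hom); infer_instance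
  haveI : QuasiCompact (E ⊗ V).hom := by
    change QuasiCompact (pullback.fst E.hom V.hom ≫ E.hom); infer_instance
  let m := (fst (F ⊗ H) U ≫ fst F H ≫ iF) * (fst (F ⊗ H) U ≫ snd F H ≫ iH) * (snd (F ⊗ H) U ≫ iU)
  haveI : IsIso m := hsd
  have hm : ∀ (a : SGA7.Pts kb F) (c : SGA7.Pts kb H) (u : SGA7.Pts kb U),
      lift (lift a c) u ≫ m = (a ≫ iF) * (c ≫ iH) * (u ≫ iU) := fun a c u => by
    simp only [m, MonObj.comp_mul, lift_fst_assoc, lift_snd_assoc]
  have hdec : ∀ g : SGA7.Pts kb G, ∃ (a : SGA7.Pts kb F) (c : SGA7.Pts kb H) (u : SGA7.Pts kb U),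
      (a ≫ iF) * (c ≫ iH) * (u ≫ iU) = g :=
    fun g => ⟨g ≫ inv m ≫ fst _ U ≫ fst F H, g ≫ inv m ≫ fst _ U ≫ snd F H, g ≫ inv m ≫ snd _ U, by
      rw [← hm, show lift (lift (g ≫ inv m ≫ fst _ U ≫ fst F H) (g ≫ inv m ≫ fst _ U ≫ snd F H))
          (g ≫ inv m ≫ snd _ U) = g ≫ inv m from
        CartesianMonoidalCategory.hom_ext _ _ (CartesianMonoidalCategory.hom_ext _ _ (by simp) (by simp)) (by simp)]
      simp⟩
  have huniq : ∀ (a a' : SGA7.Pts kb F) (c c' : SGA7.Pts kb H) (u u' : SGA7.Pts kb U),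
      (a ≫ iF) * (c ≫ iH) * (u ≫ iU) = (a' ≫ iF) * (c' ≫ iH) * (u' ≫ iU) → a = a' ∧ c = c' ∧ u = u' :=
    fun a a' c c' u u' h => by
    rw [← hm, ← hm] at h
    have h2 := (cancel_mono m).1 h
    exact ⟨by simpa using congrArg (· ≫ fst _ U ≫ fst F H) h2, by simpa using congrArg (· ≫ fst _ U ≫ snd F H) h2,
      by simpa using congrArg (· ≫ snd _ U) h2⟩
  have hcomm : ∀ (a : SGA7.Pts kb F) (c : SGA7.Pts kb H), (c ≫ iH) * (a ≫ iF) = (a ≫ iF) * (c ≫ iH) :=
    fun a c => by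
    have := congrArg (lift a c ≫ ·) hFH
    simpa only [MonObj.comp_mul, lift_fst_assoc, lift_snd_assoc] using this.symm
  have hiF : ∀ (τ : kb ≃ₐ[k] kb) (a : SGA7.Pts kb F),
      τ • (a ≫ iF : SGA7.Pts kb G) = (τ • a : SGA7.Pts kb F) ≫ iF := smul_comp_pts kb iF
  have hiH : ∀ (τ : kb ≃ₐ[k] kb) (a : SGA7.Pts kb H),
      τ • (a ≫ iH : SGA7.Pts kb G) = (τ • a : SGA7.Pts kb H) ≫ iH := smul_comp_pts kb iH
  have hiU : ∀ (τ : kb ≃ₐ[k] kb) (a : SGA7.Pts kb U),
      τ • (a ≫ iU : SGA7.Pts kb G) = (τ • a : SGA7.Pts kb U) ≫ iU := smul_comp_pts kb iU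
  have hconjU : ∀ (c : SGA7.Pts kb G) (u : SGA7.Pts kb U),
      ∃ u' : SGA7.Pts kb U, c * (u ≫ iU) * c⁻¹ = u' ≫ iU := fun c u => hUn _ c u
  -- the action of `F`
  have hlift : ∀ (a : SGA7.Pts kb F) (x : SGA7.Pts kb (E ⊗ V)), lift (a ≫ iF) x ≫ aX.act =
      lift (lift a (x ≫ fst E V) ≫ aE.act) (lift (a ≫ ρ) (x ≫ snd E V) ≫ aVc.act) := fun a x => by
    rw [← lift_whiskerRight_assoc, haF, haV, comp_lift, comp_lift_assoc, comp_lift_assoc, lift_fst,
      lift_snd_assoc, lift_snd_assoc, lift_whiskerRight_assoc]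
  -- every element is twisted conjugate to an element of `F`
  have hcanon : ∀ g : SGA7.Pts kb G, ∃ (w : SGA7.Pts kb G) (a : SGA7.Pts kb F),
      w • Mass.Tw.mk (frobHom kb G) (a ≫ iF) = Mass.Tw.mk _ g := fun g => by
    obtain ⟨a, c, u, rfl⟩ := hdec g
    obtain ⟨t, ht⟩ := exists_lang kb H c⁻¹
    have hc : (frob k kb • t) * t⁻¹ = c := by rw [← inv_inv c, ← ht]; group
    obtain ⟨u', hu'⟩ := hconjU (t ≫ iH)⁻¹ u
    obtain ⟨hlang, -, -⟩ := unip_fixed kb G U iU hUn hUu dU hdU (a ≫ iF)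
    obtain ⟨v, hv⟩ := hlang u'
    refine ⟨(t ≫ iH) * (v ≫ iU), a, (smul_tw kb _ _ _).2 ?_⟩
    rw [← hu', inv_inv] at hv
    rw [smul_mul', hiH, ← hc, MonObj.mul_comp, GrpObj.inv_comp]
    have h2 : (frob k kb • (v ≫ iU : SGA7.Pts kb G)) * (a ≫ iF) =
        (a ≫ iF) * ((t ≫ iH)⁻¹ * (u ≫ iU) * (t ≫ iH)) * (v ≫ iU) := by
      rw [← hv]; group
    have h3 := hcomm a (frob k kb • t)
    calc (((frob k kb • t) ≫ iH) * (frob k kb • (v ≫ iU : SGA7.Pts kb G))) * (a ≫ iF)
        = (((frob k kb • t) ≫ iH) * (a ≫ iF)) * ((t ≫ iH)⁻¹ * (u ≫ iU) * (t ≫ iH)) * (v ≫ iU) := by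
          rw [_root_.mul_assoc, h2]; group
      _ = _ := by rw [h3]; group
  -- twisted conjugations between elements of `F`
  have hconjF : ∀ (b b' : SGA7.Pts kb F) (g : SGA7.Pts kb G),
      g • Mass.Tw.mk (frobHom kb G) (b ≫ iF) = Mass.Tw.mk _ (b' ≫ iF) →
        ∃ (a : SGA7.Pts kb F) (c : SGA7.Pts kb H) (u : SGA7.Pts kb U),
          (a ≫ iF) * (c ≫ iH) * (u ≫ iU) = g ∧ (frob k kb • a) * b = b' * a ∧ frob k kb • c = c ∧
          (frob k kb • (u ≫ iU : SGA7.Pts kb G)) * (b ≫ iF) = (b ≫ iF) * (u ≫ iU) := fun b b' g hg => by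
    rw [smul_tw] at hg
    obtain ⟨a, c, u, rfl⟩ := hdec g
    obtain ⟨w, hw⟩ := hconjU (b ≫ iF)⁻¹ (frob k kb • u)
    rw [inv_inv] at hw
    rw [smul_mul', smul_mul', hiF, hiH, hiU] at hg
    obtain ⟨h1, h2, h3⟩ := huniq ((frob k kb • a) * b) (b' * a) (frob k kb • c) c w u (by
      rw [← hw, MonObj.mul_comp, MonObj.mul_comp, _root_.mul_assoc ((frob k kb • a) ≫ iF) (b ≫ iF),
        ← hcomm b (frob k kb • c)]
      simp only [_root_.mul_assoc] at hg ⊢
      rw [mul_inv_cancel_left]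
      exact hg)
    refine ⟨a, c, u, rfl, h1, h2, ?_⟩
    rw [h3, ← hiU, _root_.mul_assoc, inv_mul_eq_iff_eq_mul] at hw
    exact hw
  -- the classes
  have hF := mass_finite_action F hFu dF hdF E aE J e hdis hfix hall
  obtain ⟨n₀, r, hrd, hrc, -, hrm⟩ := hF
  let s : Setoid (Fin n₀) := Setoid.comap (fun i => fstPair kb (r i)) (MulAction.orbitRel (SGA7.Pts kb F) _)
  let b : Quotient s → SGA7.Pts kb F := fun j => (r j.out).1.1
  have hbd : ∀ i j (g : SGA7.Pts kb F), g • Mass.Tw.mk (frobHom kb F) (b i) = Mass.Tw.mk _ (b j) → i = j :=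
    fun i j g hg => by
    rw [← Quotient.out_eq i, ← Quotient.out_eq j]
    exact (Quotient.sound (s := s) (MulAction.orbitRel_apply.2 ⟨g, hg⟩ : s j.out i.out)).symm
  have hbc : ∀ v : Pair kb aE, ∃ j, ∃ g : SGA7.Pts kb F, g • Mass.Tw.mk (frobHom kb F) (b j) = fstPair kb v :=
    fun v => by
    obtain ⟨i, g, rfl⟩ := hrc v
    obtain ⟨g', hg'⟩ := MulAction.orbitRel_apply.1 (Quotient.mk_out (s := s) i : s _ i)
    refine ⟨⟦i⟧, g * g'⁻¹, ?_⟩
    rw [fstPair_smul, mul_smul]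
    exact congrArg (g • ·) (inv_smul_eq_iff.2 hg'.symm)
  let mE : Quotient s → ℚ := fun j =>
    (Nat.card {x : SGA7.Pts kb E // SGA7.specAut (frob k kb) ≫ x = lift (b j) x ≫ aE.act} : ℚ) /
      Nat.card {g : SGA7.Pts kb F // ((frob k kb) • g) * b j = b j * g}
  have hME := (mass_finite_action F hFu dF hdF E aE J e hdis hfix hall).eq_sum (fstPair kb) (fstPair_smul kb)
    (fun j => Mass.Tw.mk (frobHom kb F) (b j)) hbd hbc mE fun j => fibre_mass kb aE (b j)
  have hMG := (hasMass_pairs kb aX h).eq_sum (fstPair kb) (fstPair_smul kb)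
    (fun j => Mass.Tw.mk (frobHom kb G) (b j ≫ iF))
    (fun i j g hg => by
      obtain ⟨a, c, u, -, ha, -, -⟩ := hconjF _ _ g hg
      exact hbd i j a ((smul_tw kb _ _ _).2 ha))
    (fun v => ?_)
    (fun j => mE j * ((Nat.card k : ℚ) ^ n / ((Nat.card (SGA7.Pts k H) : ℚ) * (Nat.card k : ℚ) ^ dU))) fun j => ?_
  · haveI : Finite (SGA7.Pts k H) := finite_pts H
    haveI : Nonempty (SGA7.Pts k H) := ⟨1⟩
    have hH0 : (Nat.card (SGA7.Pts k H) : ℚ) ≠ 0 := by exact_mod_cast Nat.card_pos.ne'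
    have hq0 : (Nat.card k : ℚ) ≠ 0 := by exact_mod_cast Nat.card_pos.ne'
    rw [hMG, ← Finset.sum_mul, ← hME, Finset.sum_const, Finset.card_univ, nsmul_eq_mul, pow_add]
    field_simp
  · obtain ⟨w, a, hwa⟩ := hcanon v.1.1
    have hv' : (w⁻¹ • v).1.1 = a ≫ iF :=
      ((fstPair_smul kb w⁻¹ v).trans (inv_smul_eq_iff.2 (hwa.symm :)) :)
    obtain ⟨x', hx'⟩ : ∃ x', x' = (w⁻¹ • v).1.2 := ⟨_, rfl⟩
    have hp : SGA7.specAut (frob k kb) ≫ (x' ≫ fst E V) = lift a (x' ≫ fst E V) ≫ aE.act := by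
      have h1 : SGA7.specAut (frob k kb) ≫ x' = lift (a ≫ iF) x' ≫ aX.act := by
        rw [hx', ← hv']; exact (w⁻¹ • v).2
      rw [← Category.assoc, h1, hlift, lift_fst]
    obtain ⟨j, g, hg⟩ := hbc ⟨(a, x' ≫ fst E V), hp⟩
    refine ⟨j, w * (g ≫ iF), ?_⟩
    have h2 : (g ≫ iF : SGA7.Pts kb G) • Mass.Tw.mk (frobHom kb G) (b j ≫ iF) = Mass.Tw.mk _ (a ≫ iF) := by
      rw [smul_tw, hiF, ← MonObj.mul_comp, ← MonObj.mul_comp, (smul_tw kb g (b j) a).1 hg]
    rw [mul_smul, h2]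
    exact hwa
  · obtain ⟨-, hfin, hcard⟩ := unip_fixed kb G U iU hUn hUu dU hdU (b j ≫ iF)
    obtain ⟨hVf, hVc⟩ := card_affine V n eV heV
    obtain ⟨c, hc⟩ := exists_lang kb Fc (b j ≫ ρ)⁻¹
    have hc' : frob k kb • c = (b j ≫ ρ) * c := by
      rw [← inv_inv (b j ≫ ρ), ← hc]; group
    have e₀ : SGA7.Pts k V ≃
        {y : SGA7.Pts kb V // SGA7.specAut (frob k kb) ≫ y = lift (b j ≫ ρ) y ≫ aVc.act} :=
      (rationalEquiv (L := kb) V).trans
        { toFun := fun y => ⟨lift c y.1 ≫ aVc.act, by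
            rw [← GalTw.pts_smul_def, Groth.Agent.S15693.smul_act, y.2, hc', QuotSt.Act.mul_smul]⟩
          invFun := fun y => ⟨lift c⁻¹ y.1 ≫ aVc.act, by
            rw [Groth.Agent.S15693.smul_act, show frob k kb • y.1 = lift (b j ≫ ρ) y.1 ≫ aVc.act from y.2, smul_inv', hc', ← QuotSt.Act.mul_smul]
            congr 2
            group⟩
          left_inv := fun y => Subtype.ext (by
            change lift c⁻¹ (lift c y.1 ≫ aVc.act) ≫ aVc.act = y.1
            rw [← QuotSt.Act.mul_smul, inv_mul_cancel, QuotSt.Act.one_smul])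
          right_inv := fun y => Subtype.ext (by
            change lift c (lift c⁻¹ y.1 ≫ aVc.act) ≫ aVc.act = y.1
            rw [← QuotSt.Act.mul_smul, mul_inv_cancel, QuotSt.Act.one_smul]) }
    have e₁ : {x : SGA7.Pts kb (E ⊗ V) // SGA7.specAut (frob k kb) ≫ x = lift (b j ≫ iF) x ≫ aX.act} ≃
        {x : SGA7.Pts kb E // SGA7.specAut (frob k kb) ≫ x = lift (b j) x ≫ aE.act} ×
          {y : SGA7.Pts kb V // SGA7.specAut (frob k kb) ≫ y = lift (b j ≫ ρ) y ≫ aVc.act} :=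
      { toFun := fun x => (⟨x.1 ≫ fst E V, by rw [← Category.assoc, x.2, hlift, lift_fst]⟩,
          ⟨x.1 ≫ snd E V, by rw [← Category.assoc, x.2, hlift, lift_snd]⟩)
        invFun := fun p => ⟨lift p.1.1 p.2.1, by rw [comp_lift, hlift, lift_fst, lift_snd, p.1.2, p.2.2]⟩
        left_inv := fun x => Subtype.ext (CartesianMonoidalCategory.hom_ext _ _ (by simp) (by simp))
        right_inv := fun p => Prod.ext (Subtype.ext (lift_fst _ _)) (Subtype.ext (lift_snd _ _)) }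
    let f : {a : SGA7.Pts kb F // ((frob k kb) • a) * b j = b j * a} ×
        {x : SGA7.Pts kb H // frob k kb • x = x} ×
        {u : SGA7.Pts kb U // ((frob k kb) • (u ≫ iU : SGA7.Pts kb G)) * (b j ≫ iF) = (b j ≫ iF) * (u ≫ iU)} →
        {g : SGA7.Pts kb G // ((frob k kb) • g) * (b j ≫ iF) = (b j ≫ iF) * g} := fun p =>
      ⟨(p.1.1 ≫ iF) * (p.2.1.1 ≫ iH) * (p.2.2.1 ≫ iU), by
        rw [smul_mul', smul_mul', hiF, hiH, p.2.1.2, _root_.mul_assoc, p.2.2.2, ← _root_.mul_assoc,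
          _root_.mul_assoc ((frob k kb • p.1.1) ≫ iF), hcomm, ← _root_.mul_assoc, ← MonObj.mul_comp, p.1.2,
          MonObj.mul_comp]
        group⟩
    have hf : Function.Bijective f := by
      refine ⟨fun p q h => ?_, fun g => ?_⟩
      · obtain ⟨h1, h2, h3⟩ := huniq _ _ _ _ _ _ (congrArg Subtype.val h)
        exact Prod.ext (Subtype.ext h1) (Prod.ext (Subtype.ext h2) (Subtype.ext h3))
      · obtain ⟨a, c', u, hacu, ha, hc₂, hu⟩ := hconjF _ _ g.1 ((smul_tw kb _ _ _).2 g.2)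
        exact ⟨(⟨a, ha⟩, ⟨c', hc₂⟩, ⟨u, hu⟩), Subtype.ext hacu⟩
    have := fibre_mass kb aX (b j ≫ iF)
    rw [Nat.card_congr e₁, Nat.card_prod, ← Nat.card_congr e₀, hVc, ← Nat.card_congr (Equiv.ofBijective f hf),
      Nat.card_prod, Nat.card_prod, ← Nat.card_congr (rationalEquiv (L := kb) H), hcard] at this
    simpa only [Nat.cast_mul, Nat.cast_pow, mE, div_mul_div_comm] using this


end Groth.Agent.S15694
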