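import Groth.Statements.S15698
import Groth.Agent.Lib.NoName.Symm

set_option autoImplicit false
universe u
open InvFld

namespace Groth.Agent.S15698

/-- Let k be a characteristic-zero field; for each faithful finite-dimensional linear representation V
of the symmetric group S_n over k, the field of invariants k(V)^{S_n} is stably pure over k. Stated
with V = k^m: G is a finite group of k-algebra automorphisms of k(x_1, ..., x_m), each sending every
variable to a k-linear combination of the variables, isomorphic as an abstract group to the
symmetric group on n letters; then for some r the rational function field in r variables over the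
fixed field of G is generated over k by finitely many algebraically independent elements. -/
theorem result (k : Type u) [Field k] [CharZero k] (n m : ℕ)
    (G : Subgroup (InvFld.Fld (Fin m) k ≃ₐ[k] InvFld.Fld (Fin m) k)) [Finite G] (e : G ≃* Equiv.Perm (Fin n))
    (hG : ∀ σ ∈ G, ∀ i : Fin m, σ (InvFld.X i) ∈ Submodule.span k (Set.range fun j : Fin m => (InvFld.X j : InvFld.Fld (Fin m) k))) :
    ∃ (r N : ℕ) (t : Fin N → InvFld.Fld (Fin r) (IntermediateField.fixedField G)),
      AlgebraicIndependent k t ∧ IntermediateField.adjoin k (Set.range t) = ⊤ := by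
  let φ := Groth.Agent.Lib.NoName.Symm.permHom (k := k) n
  let e' : G ≃* φ.range :=
    e.trans (MonoidHom.ofInjective (Groth.Agent.Lib.NoName.Symm.permHom_injective (k := k) n))
  obtain ⟨E⟩ := Groth.Agent.Lib.NoName.Stable.exists_equiv m n G φ.range e' hG (by
    rintro _ ⟨π, rfl⟩ i
    rw [Groth.Agent.Lib.NoName.Symm.permHom_X]
    exact Submodule.subset_span ⟨π i, rfl⟩)
  obtain ⟨t, ht, htop⟩ := Groth.Agent.Lib.NoName.Symm.exists_generators (k := k) n m
  refine ⟨n, m + n, E.symm ∘ t, ht.map' (f := E.symm.toAlgHom) E.symm.injective, ?_⟩
  rw [Set.range_comp]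
  show IntermediateField.adjoin k (E.symm.toAlgHom '' Set.range t) = ⊤
  rw [← IntermediateField.adjoin_map, htop, ← AlgHom.fieldRange_eq_map,
    AlgHom.fieldRange_eq_top.mpr E.symm.surjective]

end Groth.Agent.S15698
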