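import Groth.Statements.S15700
import Groth.Agent.H68.RatVar.Cut
import Groth.Agent.Lib.AffineCompl.Dim

set_option autoImplicit false
universe u
open CategoryTheory AlgebraicGeometry
open RatVar

namespace Groth.Agent.S15700

/-- Over an infinite field k, an integral scheme X of finite type over k that admits a dominant
k-morphism from a k-rational variety admits one from a k-rational variety of the same dimension as
X. Stated with open subschemes of affine spaces: if a non-empty open subscheme of Spec k[x_1, ...,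
x_n] maps dominantly to X over k, then some non-empty open subscheme of some Spec k[x_1, ..., x_m]
with m = dim X maps dominantly to X over k. -/
theorem result (k : Type u) [Field k] [Infinite k]
    (X : Scheme.{u}) (f : X ⟶ Spec (CommRingCat.of k)) [IsIntegral X] [LocallyOfFiniteType f] [QuasiCompact f]
    (n : ℕ) (W : (Spec (CommRingCat.of (MvPolynomial (Fin n) k))).Opens) (hW : (W : Set ↑(Spec (CommRingCat.of (MvPolynomial (Fin n) k)))).Nonempty)
    (φ : (W : Scheme.{u}) ⟶ X) [IsDominant φ] (hφ : φ ≫ f = W.ι ≫ Spec.map (CommRingCat.ofHom (algebraMap k (MvPolynomial (Fin n) k)))) :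
    ∃ (m : ℕ) (W' : (Spec (CommRingCat.of (MvPolynomial (Fin m) k))).Opens) (ψ : (W' : Scheme.{u}) ⟶ X),
      (W' : Set ↑(Spec (CommRingCat.of (MvPolynomial (Fin m) k)))).Nonempty ∧ IsDominant ψ ∧ ψ ≫ f = W'.ι ≫ Spec.map (CommRingCat.ofHom (algebraMap k (MvPolynomial (Fin m) k))) ∧
      (m : WithBot ℕ∞) = topologicalKrullDim X := by
  obtain ⟨w₀, hw₀⟩ := hW
  let x₀ : X := φ.base ⟨w₀, hw₀⟩
  obtain ⟨_, ⟨V, hV, rfl⟩, hxV, -⟩ := X.isBasis_affineOpens.exists_subset_of_mem_open
    (Set.mem_univ x₀) isOpen_univ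
  replace hV : IsAffineOpen V := hV
  have : Nonempty V := ⟨⟨x₀, hxV⟩⟩
  have : IsDomain Γ(X, V) := inferInstance
  let e0 : V ≤ f ⁻¹ᵁ ⊤ := le_top
  let α : CommRingCat.of k ⟶ Γ(X, V) := (Scheme.ΓSpecIso _).inv ≫ f.appLE ⊤ V e0
  have hα : Spec.map α = hV.fromSpec ≫ f := by
    have h1 := IsAffineOpen.SpecMap_appLE_fromSpec f (isAffineOpen_top _) hV e0
    simp only [IsAffineOpen.fromSpec_top] at h1
    rw [← h1, Spec.map_comp, Scheme.isoSpec, asIso_inv, ← cancel_mono
      (Spec (CommRingCat.of k)).toSpecΓ]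
    simp [SpecMap_ΓSpecIso_inv_toSpecΓ]
  let _ : Algebra k Γ(X, V) := α.hom.toAlgebra
  have : Algebra.FiniteType k Γ(X, V) := by
    have h : LocallyOfFiniteType (Spec.map α) := by rw [hα]; infer_instance
    exact RingHom.finiteType_algebraMap.mp ((HasRingHomProperty.Spec_iff (P := @LocallyOfFiniteType)).mp h)
  let P := MvPolynomial (Fin n) k
  let D : (Spec (CommRingCat.of P)).Opens := W.ι ''ᵁ (φ ⁻¹ᵁ V)
  obtain ⟨_, ⟨h, rfl⟩, hwh, hhD⟩ := (PrimeSpectrum.isTopologicalBasis_basic_opens
    (R := P)).exists_subset_of_mem_open (a := w₀) (u := (D : Set (Spec (CommRingCat.of P))))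
    ⟨⟨w₀, hw₀⟩, hxV, rfl⟩ D.isOpen
  have hh : h ≠ 0 := fun h0 => hwh (by rw [h0]; exact zero_mem _)
  let ι : Spec (CommRingCat.of (Localization.Away h)) ⟶ Spec (CommRingCat.of P) :=
    Spec.map (CommRingCat.ofHom (algebraMap P (Localization.Away h)))
  have hι : IsOpenImmersion ι := IsOpenImmersion.of_isLocalization h
  have hιD : Set.range ι ⊆ W.ι '' (φ ⁻¹ᵁ V : Set (W : Scheme.{u})) := by
    rintro _ ⟨z, rfl⟩
    have := Set.mem_range_self (f := PrimeSpectrum.comap (algebraMap P (Localization.Away h))) z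
    rw [PrimeSpectrum.localization_away_comap_range _ h] at this
    exact hhD this
  let u : Spec (CommRingCat.of (Localization.Away h)) ⟶ W :=
    IsOpenImmersion.lift W.ι ι (hιD.trans (Set.image_subset_range _ _))
  have hu : u ≫ W.ι = ι := IsOpenImmersion.lift_fac _ _ _
  have : IsOpenImmersion u := by
    have : IsOpenImmersion (u ≫ W.ι) := hu ▸ hι
    exact .of_comp u W.ι
  have : IsDomain (Localization.Away h) := IsLocalization.isDomain_localization
    (powers_le_nonZeroDivisors_of_noZeroDivisors hh)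
  have : IrreducibleSpace (W : Scheme.{u}) := by
    have : Nonempty W := ⟨⟨w₀, hw₀⟩⟩
    exact (isIrreducible_iff_irreducibleSpace).1 ⟨Set.nonempty_coe_sort.1 ‹Nonempty W›,
      PreirreducibleSpace.isPreirreducible_univ.open_subset W.2 (Set.subset_univ _)⟩
  have : IsDominant u := ⟨u.isOpenEmbedding.isOpen_range.dense (Set.range_nonempty _)⟩
  have hrange : Set.range (u ≫ φ) ⊆ Set.range hV.fromSpec := by
    rw [hV.range_fromSpec]
    rintro _ ⟨z, rfl⟩
    obtain ⟨y, hy, hye⟩ := hιD ⟨z, rfl⟩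
    have : W.ι (u z) = W.ι y := by rw [hye, ← hu]; rfl
    rw [← W.ι.isOpenEmbedding.injective this] at hy
    exact hy
  let v := IsOpenImmersion.lift hV.fromSpec (u ≫ φ) hrange
  have hv : v ≫ hV.fromSpec = u ≫ φ := IsOpenImmersion.lift_fac _ _ _
  obtain ⟨β, hβ⟩ : ∃ β : Γ(X, V) ⟶ CommRingCat.of (Localization.Away h), Spec.map β = v :=
    ⟨Spec.preimage v, Spec.map_preimage v⟩
  have hαβ : α ≫ β = CommRingCat.ofHom (algebraMap k (Localization.Away h)) := by
    apply Spec.map_injective
    rw [Spec.map_comp, hα, hβ, ← Category.assoc, hv, Category.assoc, hφ, ← Category.assoc, hu,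
      ← Spec.map_comp, ← CommRingCat.ofHom_comp, ← IsScalarTower.algebraMap_eq]
  have hβinj : Function.Injective β.hom := by
    have hd : DenseRange (u ≫ φ) := Scheme.Hom.denseRange (u ≫ φ)
    have hd' : DenseRange (PrimeSpectrum.comap β.hom) := by
      refine Dense.mono ?_ (hd.preimage hV.fromSpec.isOpenEmbedding.isOpenMap)
      rintro z ⟨o, ho⟩
      refine ⟨o, ?_⟩
      rw [← hv] at ho
      have := hV.fromSpec.isOpenEmbedding.injective ho
      rw [← hβ] at this
      exact this
    rw [RingHom.injective_iff_ker_eq_bot, ← le_bot_iff]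
    exact ((PrimeSpectrum.denseRange_comap_iff_ker_le_nilRadical _).mp hd').trans
      (nilradical_eq_zero Γ(X, V)).le
  let βa : Γ(X, V) →ₐ[k] Localization.Away h :=
    { β.hom with commutes' := fun c => congr($hαβ c) }
  obtain ⟨h', hh', φ', hφ'⟩ := Groth.Agent.H68.RatVar.cut Γ(X, V) n h hh βa hβinj
  let m := Groth.Agent.Lib.Dim.Basic.trdegNat k Γ(X, V)
  let Pm := MvPolynomial (Fin m) k
  let ι' : Spec (CommRingCat.of (Localization.Away h')) ⟶ Spec (CommRingCat.of Pm) :=
    Spec.map (CommRingCat.ofHom (algebraMap Pm (Localization.Away h')))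
  have : IsOpenImmersion ι' := IsOpenImmersion.of_isLocalization h'
  let e' := ι'.isoOpensRange
  have : IsDominant (Spec.map (CommRingCat.ofHom φ'.toRingHom)) :=
    ⟨(PrimeSpectrum.denseRange_comap_iff_ker_le_nilRadical _).mpr
      (le_of_eq_of_le ((RingHom.injective_iff_ker_eq_bot φ'.toRingHom).mp hφ') bot_le)⟩
  have : IsDominant hV.fromSpec :=
    ⟨hV.fromSpec.isOpenEmbedding.isOpen_range.dense (hV.range_fromSpec ▸ ⟨x₀, hxV⟩)⟩
  refine ⟨m, ι'.opensRange, e'.inv ≫ Spec.map (CommRingCat.ofHom φ'.toRingHom) ≫ hV.fromSpec,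
    ?_, inferInstance, ?_, ?_⟩
  · have : IsDomain (Localization.Away h') := IsLocalization.isDomain_localization
      (powers_le_nonZeroDivisors_of_noZeroDivisors hh')
    exact Set.range_nonempty ι'
  · rw [Category.assoc, Category.assoc, ← hα, ← Spec.map_comp,
      show α ≫ CommRingCat.ofHom φ'.toRingHom =
        CommRingCat.ofHom (algebraMap k (Localization.Away h')) from
          CommRingCat.hom_ext (RingHom.ext fun c => φ'.commutes c),
      IsScalarTower.algebraMap_eq k Pm (Localization.Away h'), CommRingCat.ofHom_comp, Spec.map_comp,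
      ← Scheme.Hom.isoOpensRange_inv_comp ι', Category.assoc]
  · rw [← Groth.Agent.Lib.AffineCompl.Dim.topologicalKrullDim_opens f V]
    have hS : topologicalKrullDim (V : Scheme.{u}) = ringKrullDim Γ(X, V) :=
      (IsHomeomorph.topologicalKrullDim_eq _ (Scheme.Hom.homeomorph hV.isoSpec.hom).isHomeomorph).trans
        (PrimeSpectrum.topologicalKrullDim_eq_ringKrullDim Γ(X, V))
    rw [hS, Groth.Agent.Lib.Dim.Basic.ringKrullDim_eq_trdegNat k Γ(X, V)]

end Groth.Agent.S15700
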