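import Groth.Statements.S15701
import Mathlib

set_option autoImplicit false
universe u
open CategoryTheory AlgebraicGeometry
open RatVar

namespace Groth.Agent.S15701

open Limits TopologicalSpace

/-- A faithful action of a finite group on a geometrically integral variety is almost free. Here k is a
field of characteristic zero, X is an integral separated scheme of finite type over k, and the
finite group G acts on X by k-automorphisms through an injective homomorphism to Aut X; the
conclusion is a non-empty G-stable open subscheme U of X such that for every field K and every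
morphism Spec K → X whose image lies in U, an element of G fixing that K-point is the identity. (X
is taken separated: for the affine line with a doubled origin and the involution exchanging the two
origins the action is faithful while every point off the origins is fixed, so no such U exists;
integrality replaces geometric integrality, which is all the codimension argument uses.) -/
theorem result (k : Type u) [Field k] [CharZero k]
    (X : Scheme.{u}) (f : X ⟶ Spec (CommRingCat.of k)) [IsIntegral X] [LocallyOfFiniteType f]
    [QuasiCompact f] [IsSeparated f]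
    (G : Type u) [Group G] [Finite G] (ρ : G →* Aut X)
    (hρ : ∀ g : G, (ρ g).hom ≫ f = f) (hfaith : Function.Injective ρ) :
    ∃ U : X.Opens, (U : Set X).Nonempty ∧ (∀ g : G, (ρ g).hom ⁻¹ᵁ U = U) ∧
      ∀ (K : Type u) [Field K] (x : Spec (CommRingCat.of K) ⟶ X),
        Set.range x.base ⊆ (U : Set X) → ∀ g : G, x ≫ (ρ g).hom = x → g = 1 := by
  haveI : X.IsSeparated := by
    refine ⟨?_⟩
    rw [show Limits.terminal.from X = f ≫ Limits.terminal.from _ from Limits.terminal.hom_ext _ _]
    infer_instance
  let E : G → Set X := fun g => Set.range (Limits.equalizer.ι (ρ g).hom (𝟙 X)).base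
  have hcl : ∀ g, IsClosed (E g) := fun g =>
    (Limits.equalizer.ι (ρ g).hom (𝟙 X)).isClosedEmbedding.isClosed_range
  have hne : ∀ g, g ≠ 1 → E g ≠ Set.univ := by
    intro g hg h
    apply hg
    apply hfaith
    haveI : Surjective (Limits.equalizer.ι (ρ g).hom (𝟙 X)) := ⟨Set.range_eq_univ.mp h⟩
    haveI := isIso_of_isClosedImmersion_of_surjective (Limits.equalizer.ι (ρ g).hom (𝟙 X))
    have h2 := Limits.equalizer.condition (ρ g).hom (𝟙 X)
    rw [cancel_epi] at h2
    rw [map_one]
    exact Iso.ext h2
  let V : X.Opens := ⟨⋂ g ∈ {g : G | g ≠ 1}, (E g)ᶜ,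
    Set.Finite.isOpen_biInter (Set.toFinite _) fun g _ => (hcl g).isOpen_compl⟩
  let U : X.Opens := ⟨⋂ h : G, (ρ h).hom.base ⁻¹' (V : Set X),
    isOpen_iInter_of_finite fun h => V.2.preimage (ρ h).hom.continuous⟩
  have hgen : ∀ h : G, (ρ h).hom.base (genericPoint X) = genericPoint X := by
    intro h
    exact ((genericPoint_spec X).image (ρ h).hom.continuous).eq (by
      have : Set.range (ρ h).hom.base = Set.univ := Set.range_eq_univ.mpr (ρ h).hom.homeomorph.surjective
      have h3 := genericPoint_spec X
      rw [isGenericPoint_def] at h3 ⊢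
      rw [h3, Set.image_univ, this, closure_univ])
  refine ⟨U, ⟨genericPoint X, ?_⟩, ?_, ?_⟩
  · simp only [U, V, TopologicalSpace.Opens.coe_mk, Set.mem_iInter, Set.mem_preimage, Set.mem_compl_iff,
      Set.mem_setOf_eq]
    intro h g hg hmem
    rw [hgen] at hmem
    apply hne g hg
    rw [Set.eq_univ_iff_forall]
    intro y
    exact ((genericPoint_spec X).specializes (Set.mem_univ y)).mem_closed (hcl g) hmem
  · intro g
    ext x
    simp only [U, Scheme.Hom.coe_preimage, Set.mem_preimage, TopologicalSpace.Opens.coe_mk, Set.mem_iInter]
    constructor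
    · intro hx h
      have := hx (h * g⁻¹)
      rw [show (ρ (h * g⁻¹)).hom.base ((ρ g).hom.base x) = ((ρ g).hom ≫ (ρ (h * g⁻¹)).hom).base x from rfl,
          show (ρ g).hom ≫ (ρ (h * g⁻¹)).hom = (ρ (h * g⁻¹) * ρ g).hom from rfl, ← map_mul, inv_mul_cancel_right] at this
      exact this
    · intro hx h
      have := hx (h * g)
      rw [map_mul] at this
      exact this
  · intro K _ x hx g hg
    by_contra hne'
    obtain ⟨pt⟩ : Nonempty (Spec (CommRingCat.of K)) := inferInstance
    have h1 : x.base pt ∈ E g := ⟨(Limits.equalizer.lift x (by simpa using hg)).base pt, by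
      rw [← Scheme.Hom.comp_apply, Limits.equalizer.lift_ι]⟩
    have h2 := hx ⟨pt, rfl⟩
    simp only [U, V, TopologicalSpace.Opens.coe_mk, Set.mem_iInter, Set.mem_preimage, Set.mem_compl_iff,
      Set.mem_setOf_eq] at h2
    have h3 := h2 1 g hne'
    rw [map_one] at h3
    exact h3 h1

end Groth.Agent.S15701
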