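import Groth.Statements.S15702
import Groth.Agent.Lib.UnitsProd.Algebra
import Groth.Agent.Lib.Hopf.Points
import Mathlib

set_option autoImplicit false
universe u
open GLin

namespace Groth.Agent.S15702

open TensorProduct Algebra.TensorProduct Groth.Agent.Lib.UnitsProd

variable {k : Type u} [Field k] [IsAlgClosed k] {A B : Type u} [CommRing A] [CommRing B]

section

variable [Algebra k A] [Algebra k B]

/-- Points of the second factor separate elements of a tensor product. -/
lemma eq_zero_of_evR [Algebra.FiniteType k A] [IsReduced A] (z : B ⊗[k] A)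
    (h : ∀ y : A →ₐ[k] k, evR (R := B) y z = 0) : z = 0 := by
  classical
  let b := Module.Free.chooseBasis k B
  apply (TensorProduct.equivFinsuppOfBasisLeft b).injective
  rw [map_zero]
  ext i
  refine Groth.Agent.Lib.Hopf.Points.eq_zero_of_forall_point_eq_zero (k := k) fun y => ?_
  have key : ∀ w : B ⊗[k] A, y (TensorProduct.equivFinsuppOfBasisLeft b w i) = b.coord i (evR (R := B) y w) := by
    intro w
    induction w using TensorProduct.induction_on with
    | zero => simp
    | tmul q a => simp [evR, Algebra.ofId_apply, Algebra.algebraMap_eq_smul_one, mul_comm]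
    | add p q hp hq => simp [hp, hq]
  rw [key, h, map_zero]

/-- `f ⊗ 1` acts as `f •` on a tensor product. -/
lemma tmul_one_mul (f : B) (z : B ⊗[k] A) : (f ⊗ₜ[k] (1 : A)) * z = f • z := by
  induction z using TensorProduct.induction_on with
  | zero => simp
  | tmul b a => simp [TensorProduct.smul_tmul']
  | add p q hp hq => simp [mul_add, hp, hq]

lemma tmul_one_cancel [IsDomain B] {f : B} (hf : f ≠ 0) {z w : B ⊗[k] A}
    (h : (f ⊗ₜ[k] (1 : A)) * z = (f ⊗ₜ[k] (1 : A)) * w) : z = w := by
  rw [tmul_one_mul, tmul_one_mul] at h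
  let b := Algebra.TensorProduct.basis B (Module.Free.chooseBasis k A)
  apply b.repr.injective
  ext i
  refine mul_left_cancel₀ hf ?_
  simpa using congrArg (fun x => b.repr x i) h

/-- Divisibility by `f ⊗ 1` from a relatively prime multiple. -/
lemma dvd_of_isRelPrime [IsDomain B] [UniqueFactorizationMonoid B] {f g : B} (hfg : IsRelPrime f g)
    {z w : B ⊗[k] A} (h : (g ⊗ₜ[k] (1 : A)) * z = (f ⊗ₜ[k] (1 : A)) * w) :
    ∃ θ, z = (f ⊗ₜ[k] (1 : A)) * θ := by
  classical
  rw [tmul_one_mul, tmul_one_mul] at h
  let b := Algebra.TensorProduct.basis B (Module.Free.chooseBasis k A)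
  have hd : ∀ i, f ∣ b.repr z i := fun i => hfg.dvd_of_dvd_mul_left
    ⟨b.repr w i, by simpa using congrArg (fun x => b.repr x i) h⟩
  choose c hc using hd
  refine ⟨∑ i ∈ (b.repr z).support, c i • b i, ?_⟩
  rw [tmul_one_mul, Finset.smul_sum]
  conv_lhs => rw [← b.linearCombination_repr z, Finsupp.linearCombination_apply, Finsupp.sum]
  exact Finset.sum_congr rfl fun i _ => by rw [smul_smul, ← hc]

end

variable [HopfAlgebra k A] [Algebra k B] [HopfRep.Comod k A B] [GLin.IsCoactAlg k A B]

lemma evR_coact (y : A →ₐ[k] k) (b : B) :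
    evR (R := B) y (GLin.coactAlgHom k A B b) = HopfRep.Comod.act k A B y b := by
  rw [GLin.coactAlgHom_apply]
  simp only [HopfRep.Comod.act, LinearMap.comp_apply, LinearEquiv.coe_coe]
  induction HopfRep.Comod.coact (k := k) (A := A) b using TensorProduct.induction_on with
  | zero => simp
  | tmul q a => simp [evR, Algebra.smul_def, mul_comm, Algebra.ofId_apply]
  | add p q hp hq => simp [hp, hq]

lemma evR_counit (b : B) :
    evR (R := B) (Bialgebra.counitAlgHom k A) (GLin.coactAlgHom k A B b) = b := by
  rw [evR_coact]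
  simp only [HopfRep.Comod.act, LinearMap.comp_apply, LinearEquiv.coe_coe]
  have := LinearMap.congr_fun (HopfRep.Comod.counit_comp (k := k) (A := A) (V := B)) b
  simp only [LinearMap.comp_apply] at this
  rw [show (Bialgebra.counitAlgHom k A).toLinearMap = CoalgebraStruct.counit (R := k) (A := A) from rfl,
    this]
  simp

/-- A semi-invariant factorisation is a character. -/
lemma coact_eq [Algebra.FiniteType k A] [IsDomain A] [Algebra.FiniteType k B] [IsDomain B]
    (hchar : ∀ a : A, IsGroupLikeElem k a → a = 1) {f : B} (hf : f ≠ 0) {θ : B ⊗[k] A}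
    (hθ : GLin.coactAlgHom k A B f = (f ⊗ₜ[k] (1 : A)) * θ) :
    GLin.coactAlgHom k A B f = f ⊗ₜ[k] (1 : A) := by
  classical
  let ρ := GLin.coactAlgHom k A B
  let R₁ : B ⊗[k] A →ₐ[k] B ⊗[k] (A ⊗[k] A) :=
    (Algebra.TensorProduct.assoc k k k B A A).toAlgHom.comp (Algebra.TensorProduct.map ρ (AlgHom.id k A))
  let R₂ : B ⊗[k] A →ₐ[k] B ⊗[k] (A ⊗[k] A) :=
    Algebra.TensorProduct.map (AlgHom.id k B) (Bialgebra.comulAlgHom k A)
  let J : B ⊗[k] A →ₐ[k] B ⊗[k] (A ⊗[k] A) :=
    Algebra.TensorProduct.map (AlgHom.id k B) Algebra.TensorProduct.includeLeft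
  have hco : R₁ (ρ f) = R₂ (ρ f) := by
    have := LinearMap.congr_fun (HopfRep.Comod.coassoc (k := k) (A := A) (V := B)) f
    simp only [LinearMap.comp_apply, LinearEquiv.coe_coe] at this
    have e1 : ∀ z : B ⊗[k] A, R₁ z =
        TensorProduct.assoc k B A A ((HopfRep.Comod.coact (k := k) (A := A) (V := B)).rTensor A z) := fun z => by
      induction z using TensorProduct.induction_on with
      | zero => simp
      | tmul q a =>
        simp only [R₁, ρ, AlgHom.comp_apply, Algebra.TensorProduct.map_tmul, AlgHom.id_apply,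
          GLin.coactAlgHom_apply, LinearMap.rTensor_tmul]
        rfl
      | add p q hp hq => simp [hp, hq]
    have e2 : ∀ z : B ⊗[k] A, R₂ z = (CoalgebraStruct.comul (R := k) (A := A)).lTensor B z := fun z => by
      induction z using TensorProduct.induction_on with
      | zero => simp
      | tmul q a => simp [R₂]
      | add p q hp hq => simp [hp, hq]
    rw [e1, e2]; exact this
  have hR1 : ∀ b : B, R₁ (b ⊗ₜ[k] 1) = J (ρ b) := fun b => by
    simp only [R₁, AlgHom.comp_apply, Algebra.TensorProduct.map_tmul, map_one, AlgEquiv.toAlgHom_eq_coe,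
      AlgEquiv.coe_algHom]
    induction ρ b using TensorProduct.induction_on with
    | zero => simp
    | tmul q a => simp [J]
    | add p q hp hq => simp [TensorProduct.add_tmul, hp, hq]
  have hR2 : R₂ (f ⊗ₜ[k] 1) = f ⊗ₜ[k] (1 : A ⊗[k] A) := by simp [R₂]
  have hJ : J (f ⊗ₜ[k] 1) = f ⊗ₜ[k] (1 : A ⊗[k] A) := by
    simp [J, Algebra.TensorProduct.one_def]
  have hcocycle : R₂ θ = J θ * R₁ θ := by
    refine tmul_one_cancel (A := A ⊗[k] A) hf ?_
    calc (f ⊗ₜ[k] (1 : A ⊗[k] A)) * R₂ θ = R₂ (ρ f) := by rw [← hR2, ← map_mul, ← hθ]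
      _ = R₁ ((f ⊗ₜ[k] 1) * θ) := by rw [← hco, ← hθ]
      _ = J ((f ⊗ₜ[k] 1) * θ) * R₁ θ := by rw [map_mul, hR1, ← hθ]
      _ = _ := by rw [map_mul, hJ, mul_assoc]
  have hε : evR (R := B) (Bialgebra.counitAlgHom k A) θ = 1 := by
    have := evR_counit (k := k) (A := A) f
    rw [hθ, map_mul] at this
    refine mul_left_cancel₀ hf ?_
    simpa [evR] using this
  have hunit : IsUnit θ := by
    let Q : B ⊗[k] (A ⊗[k] A) →ₐ[k] B ⊗[k] A := Algebra.TensorProduct.map (AlgHom.id k B)
      (Algebra.TensorProduct.productMap (AlgHom.id k A) (HopfAlgebra.antipodeAlgHom k A))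
    have h1 : ∀ z : B ⊗[k] A, Q (J z) = z := fun z => by
      induction z using TensorProduct.induction_on with
      | zero => simp
      | tmul q a => simp [Q, J]
      | add p q hp hq => simp [hp, hq]
    have h2 : ∀ z : B ⊗[k] A, Q (R₂ z) = evR (R := B) (Bialgebra.counitAlgHom k A) z ⊗ₜ[k] (1 : A) := fun z => by
      induction z using TensorProduct.induction_on with
      | zero => simp
      | tmul q a =>
        have e : Algebra.TensorProduct.productMap (AlgHom.id k A) (HopfAlgebra.antipodeAlgHom k A)
            (Bialgebra.comulAlgHom k A a) = algebraMap k A (Coalgebra.counit a) := by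
          rw [← HopfAlgebra.mul_antipode_lTensor_comul_apply, Bialgebra.comulAlgHom_apply]
          induction Coalgebra.comul (R := k) a using TensorProduct.induction_on with
          | zero => simp
          | tmul p r => simp
          | add p r hp hr => simp [hp, hr]
        simp only [Q, R₂, Algebra.TensorProduct.map_tmul, AlgHom.id_apply, e]
        simp [evR, Algebra.algebraMap_eq_smul_one, Algebra.ofId_apply, TensorProduct.smul_tmul]
      | add p q hp hq => simp [TensorProduct.add_tmul, hp, hq]
    have := congrArg Q hcocycle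
    rw [h2, hε, map_mul, h1] at this
    rw [← Algebra.TensorProduct.one_def] at this
    exact IsUnit.of_mul_eq_one _ this.symm
  obtain ⟨x₀⟩ : Nonempty (B →ₐ[k] k) := by
    obtain ⟨m, hm⟩ := Ideal.exists_maximal B
    obtain ⟨g, -⟩ := Groth.Agent.Lib.Hopf.Points.exists_point_of_isMaximal (k := k) m
    exact ⟨g⟩
  let v : A := Algebra.TensorProduct.productMap ((Algebra.ofId k A).comp x₀) (AlgHom.id k A) θ
  have hv : θ = (1 : B) ⊗ₜ[k] v := by
    rw [← sub_eq_zero]
    refine eq_zero_of_evR _ fun y => ?_
    refine Groth.Agent.Lib.Hopf.Points.eq_zero_of_forall_point_eq_zero (k := k) fun x => ?_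
    have hpm : ∀ (w : B →ₐ[k] k) (z : A →ₐ[k] k), w.comp (evR (R := B) z) = productMap w z := fun w z => by
      apply Algebra.TensorProduct.ext' fun a b => ?_
      simp [evR]
    have hyv : y v = productMap x₀ y θ := by
      have : y.comp (Algebra.TensorProduct.productMap ((Algebra.ofId k A).comp x₀) (AlgHom.id k A)) =
          productMap x₀ y := Algebra.TensorProduct.ext' fun a b => by simp [Algebra.ofId_apply]
      exact DFunLike.congr_fun this θ
    have h1 : ∀ w : B →ₐ[k] k, productMap w (Bialgebra.counitAlgHom k A) θ = 1 := fun w => by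
      rw [← hpm, AlgHom.comp_apply, hε, map_one]
    have h := ev_mul_ev θ hunit x x₀ y (Bialgebra.counitAlgHom k A)
    rw [h1, h1, mul_one, mul_one] at h
    rw [map_sub, map_sub, show x (evR (R := B) y θ) = productMap x y θ from DFunLike.congr_fun (hpm x y) θ, h,
      ← hyv]
    simp [evR, Algebra.ofId_apply]
  have hεv : Coalgebra.counit (R := k) v = 1 := by
    have := hε
    rw [hv] at this
    simpa [evR, Algebra.ofId_apply] using this
  have hΔ : Bialgebra.comulAlgHom k A v = v ⊗ₜ[k] v := by
    refine Algebra.TensorProduct.includeRight_injective (R := k) (A := B) (B := A ⊗[k] A)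
      (algebraMap k B).injective ?_
    show (1 : B) ⊗ₜ[k] Bialgebra.comulAlgHom k A v = (1 : B) ⊗ₜ[k] (v ⊗ₜ[k] v)
    rw [hv] at hcocycle
    simpa [R₁, R₂, J, ρ, Algebra.TensorProduct.one_def, GLin.IsCoactAlg.coact_one (k := k) (A := A) (R := B)] using hcocycle
  rw [hθ, hv, hchar v ⟨hεv, hΔ⟩]
  simp


/-- Let k be algebraically closed of characteristic zero, let G be a connected linear algebraic group
over k without non-trivial characters acting on an integral affine k-variety Spec B of finite type
with B a unique factorisation domain; then the field of G-invariant rational functions is the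
fraction field of the ring of invariants B^G. In coordinate-ring form: A is a commutative Hopf
algebra of finite type over k, a domain, whose only group-like element is 1; B is a k-algebra of
finite type, a domain and a unique factorisation monoid, with a coaction of A that is an algebra
map; k-points φ : A →ₐ[k] k act on B through the coaction. If f, g ∈ B, g ≠ 0, satisfy (φ·f) g = f
(φ·g) for all φ, then f g' = f' g for some f', g' ∈ B fixed by all φ with g' ≠ 0. (The published
lemma allows G disconnected with character-free identity component; this row is the connected case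
treated first in its proof.) -/
theorem result (k : Type u) [Field k] [IsAlgClosed k] [CharZero k]
    (A : Type u) [CommRing A] [HopfAlgebra k A] [Algebra.FiniteType k A] [IsDomain A]
    (hchar : ∀ a : A, IsGroupLikeElem k a → a = 1)
    (B : Type u) [CommRing B] [Algebra k B] [Algebra.FiniteType k B] [IsDomain B] [UniqueFactorizationMonoid B]
    [HopfRep.Comod k A B] [GLin.IsCoactAlg k A B]
    (f g : B) (hg : g ≠ 0)
    (hinv : ∀ φ : A →ₐ[k] k, HopfRep.Comod.act k A B φ f * g = f * HopfRep.Comod.act k A B φ g) :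
    ∃ f' g' : B, (∀ φ : A →ₐ[k] k, HopfRep.Comod.act k A B φ f' = f') ∧
      (∀ φ : A →ₐ[k] k, HopfRep.Comod.act k A B φ g' = g') ∧ g' ≠ 0 ∧ f * g' = f' * g := by
  classical
  haveI : IsDomain (B ⊗[k] A) := Groth.Agent.H52.FBase.GeomPt.isDomain_tensor_of_isAlgClosed
  let ρ := GLin.coactAlgHom k A B
  obtain ⟨f', g', c, hrel, rfl, rfl⟩ := UniqueFactorizationMonoid.exists_reduced_factors' f g hg
  have hc : c ≠ 0 := left_ne_zero_of_mul hg
  have hg' : g' ≠ 0 := right_ne_zero_of_mul hg
  have hρc : ρ c ≠ 0 := fun h => hc (by rw [← evR_counit (k := k) (A := A) c]; exact h ▸ map_zero _)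
  have h1 : ((c * g') ⊗ₜ[k] (1 : A)) * ρ (c * f') = ((c * f') ⊗ₜ[k] (1 : A)) * ρ (c * g') := by
    rw [← sub_eq_zero]
    refine eq_zero_of_evR _ fun y => ?_
    rw [map_sub, map_mul (evR (R := B) y), map_mul (evR (R := B) y)]
    simp only [ρ, evR_coact, sub_eq_zero]
    simp only [evR, productMap_apply_tmul, map_one, mul_one, AlgHom.id_apply]
    rw [mul_comm, hinv y]
  have h2 : (g' ⊗ₜ[k] (1 : A)) * ρ f' = (f' ⊗ₜ[k] (1 : A)) * ρ g' := by
    have e : ∀ x : B, (c * x) ⊗ₜ[k] (1 : A) = (c ⊗ₜ[k] (1 : A)) * (x ⊗ₜ[k] (1 : A)) := fun x => by simp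
    simp only [e, map_mul ρ] at h1
    refine tmul_one_cancel hc (mul_left_cancel₀ hρc ?_)
    linear_combination h1
  refine ⟨f', g', fun φ => ?_, fun φ => ?_, hg', by ring⟩
  · by_cases hf' : f' = 0
    · simp [hf']
    obtain ⟨θ, hθ⟩ := dvd_of_isRelPrime hrel h2
    rw [← evR_coact, coact_eq hchar hf' hθ]
    simp [evR]
  · obtain ⟨θ, hθ⟩ := dvd_of_isRelPrime hrel.symm h2.symm
    rw [← evR_coact, coact_eq hchar hg' hθ]
    simp [evR]

end Groth.Agent.S15702
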