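import Groth.Statements.S15703
import Groth.Agent.H66.Weyl.Coxeter

set_option autoImplicit false
universe u
open CategoryTheory MonoidalCategory CartesianMonoidalCategory MonObj GrpObj AlgebraicGeometry
open Red

namespace Groth.Agent.S15703

open Groth.Agent.H1.Classical Groth.Agent.Lib.RedPts Groth.Agent.Lib.RedPts.Points Scheme' WithConv MaxTorusScheme
  Groth.Agent.H66.LieWt Groth.Agent.H66.Weyl Groth.Agent.H1.Classical.Words

attribute [local instance] baseAlgebra

set_option linter.style.haveILetI false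

theorem specHom_comp {K : Type u} [Field K] {A B C : Type u} [CommRing A] [HopfAlgebra K A] [CommRing B]
    [HopfAlgebra K B] [CommRing C] [HopfAlgebra K C] (f : B →ₐc[K] C) (g : A →ₐc[K] B) :
    Scheme'.specHom (f.comp g) = Scheme'.specHom f ≫ Scheme'.specHom g :=
  algHomOf_injective (AlgHom.ext fun a => by
    rw [← Category.id_comp (Scheme'.specHom (f.comp g)), ← Category.id_comp (Scheme'.specHom f ≫ Scheme'.specHom g),
      ← Category.assoc, algHomOf_specHom, algHomOf_specHom, algHomOf_specHom]
    rfl)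

/-- A maximal torus in coordinates. -/
theorem exists_torus_coord {K : Type u} [Field K] [IsAlgClosed K] [CharZero K] {A : Type u} [CommRing A] [HopfAlgebra K A]
    [Algebra.FiniteType K A] [IsDomain A] :
    ∃ (r : ℕ) (π : A →ₐc[K] MonoidAlgebra K (Lat r)), Function.Surjective π ∧ AGF.IsMaxTorus (specHom π) := by
  haveI := MaxTorusScheme.locallyOfFiniteType (k := K) (A := A)
  obtain ⟨B, hB⟩ := exists_bor (k := K) (A := A)
  obtain ⟨W, _, σ, hσ⟩ := Torus.GenRep.exists_gen (HopfPts.D K A) hasMul_pts pts_ext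
  obtain ⟨S, -, hS, -, -⟩ := Torus.MaxTorus.exists_max hasMul_pts hσ hB
  obtain ⟨T, _, j, hj, hjc, hT, hp⟩ := exists_torus hS.tor
  haveI := hj
  haveI := hjc
  haveI : Mono j := Over.mono_of_mono_left j
  have hmax := MaxTorusExists.isMaxTorus_of_isMax j hT (hp.symm ▸ hS)
  obtain ⟨-, hsm, -, haff⟩ := TorusPts.torus_props j hT
  haveI := hsm
  haveI := haff
  obtain ⟨A', _, _, e, he⟩ := H1.Hopf.exists_iso T
  haveI := he
  haveI : IsMonHom e.inv := inferInstance
  haveI : Algebra.FiniteType K A' := finiteType_of_iso e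
  have hT' := Groth.Agent.Lib.Tori.Basic.isTorus_congr (Groth.Agent.Lib.Tori.BaseChange.grpIso e).symm hT
  haveI := TorusSplit.isDomain_of_isTorus hT'
  obtain ⟨Φ⟩ := exists_groupAlgebra (TorusSplit.isDiag_of_isTorus hT')
  let M := GroupLike K A'
  haveI : Algebra.FiniteType K (MonoidAlgebra K M) :=
    Algebra.FiniteType.of_surjective (Φ : A' →ₐc[K] MonoidAlgebra K M).toAlgHom Φ.surjective
  haveI : Monoid.FG M := MonoidAlgebra.fg_of_finiteType (R := K)
  haveI : Module.Finite ℤ (Additive M) :=
    Module.Finite.iff_addGroup_fg.mpr (GroupFG.iff_add_fg.mp (Group.fg_iff_monoid_fg.mpr inferInstance))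
  haveI : IsAddTorsionFree (Additive M) := isAddTorsionFree_groupLike
  let r := Module.finrank ℤ (Additive M)
  let f : M ≃* Lat r := AddEquiv.toMultiplicativeRight (Module.finBasis ℤ (Additive M)).equivFun.toAddEquiv
  let Ψ : A' →ₐc[K] MonoidAlgebra K (Lat r) :=
    (MonoidAlgebra.mapDomainBialgHom K f.toMonoidHom).comp (Φ : A' →ₐc[K] MonoidAlgebra K M)
  let Ψ' : MonoidAlgebra K (Lat r) →ₐc[K] A' :=
    (Φ.symm : MonoidAlgebra K M →ₐc[K] A').comp (MonoidAlgebra.mapDomainBialgHom K f.symm.toMonoidHom)
  have h1 : ∀ x, Ψ' (Ψ x) = x := fun x => by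
    show Φ.symm (MonoidAlgebra.mapDomain f.symm (MonoidAlgebra.mapDomain f (Φ x))) = x
    have : ∀ z : MonoidAlgebra K M, MonoidAlgebra.mapDomain f.symm (MonoidAlgebra.mapDomain f z) = z := fun z => by
      induction z using MonoidAlgebra.induction_linear with
      | zero => simp
      | add x y hx hy => simp only [MonoidAlgebra.mapDomain_add, hx, hy]
      | single m c => simp
    rw [this]
    exact Φ.symm_apply_apply x
  have h2 : ∀ x, Ψ (Ψ' x) = x := fun x => by
    show MonoidAlgebra.mapDomain f (Φ (Φ.symm (MonoidAlgebra.mapDomain f.symm x))) = x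
    rw [Φ.apply_symm_apply]
    induction x using MonoidAlgebra.induction_linear with
    | zero => simp
    | add x y hx hy => simp only [MonoidAlgebra.mapDomain_add, hx, hy]
    | single m c => simp
  haveI : IsIso e.inv.left := ((Over.forget _).mapIso e).isIso_inv
  haveI : IsClosedImmersion (e.inv ≫ j).left := by rw [Over.comp_left]; infer_instance
  obtain ⟨π₀, hπ₀⟩ := H66.Vec.exists_bialgHom (e.inv ≫ j)
  have hπs : Function.Surjective π₀ := H66.Vec.surjective_of_isClosedImmersion (by
    rw [hπ₀]; infer_instance)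
  refine ⟨r, Ψ.comp π₀, (Function.LeftInverse.surjective h2).comp hπs, ?_⟩
  have hπ₀' : Scheme'.specHom π₀ = e.inv ≫ j := hπ₀
  have hcomp : specHom (Ψ.comp π₀) = (specHom Ψ ≫ e.inv) ≫ j := by
    rw [specHom_comp, hπ₀', Category.assoc]
  have hinv : IsIso (specHom Ψ) := ⟨specHom Ψ',
    algHomOf_injective (AlgHom.ext fun a => by
      rw [← Category.id_comp (specHom Ψ ≫ specHom Ψ'), ← Category.assoc, algHomOf_specHom, algHomOf_specHom, h2]),
    algHomOf_injective (AlgHom.ext fun a => by
      rw [← Category.id_comp (specHom Ψ' ≫ specHom Ψ), ← Category.assoc, algHomOf_specHom, algHomOf_specHom, h1])⟩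
  haveI := hinv
  let i : GA K (MonoidAlgebra K (Lat r)) ≅ T := asIso (specHom Ψ) ≪≫ e.symm
  haveI : IsMonHom i.hom := inferInstanceAs (IsMonHom (specHom Ψ ≫ e.inv))
  haveI : IsMonHom i.inv := inferInstance
  haveI : Mono j := Over.mono_of_mono_left j
  rw [hcomp]
  show AGF.IsMaxTorus (i.hom ≫ j)
  refine ⟨inferInstance, mono_comp _ _, Groth.Agent.Lib.Tori.Basic.isTorus_congr
    (Groth.Agent.Lib.Tori.BaseChange.grpIso i) hT, fun T' _ l _ _ g hT'' hg => ?_⟩
  haveI : IsIso (i.inv ≫ g) := hmax.2.2.2 T' l (i.inv ≫ g) hT'' (by rw [Category.assoc, hg, i.inv_hom_id_assoc])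
  exact IsIso.of_isIso_comp_left i.inv g

/-- Every central element of a connected semisimple group over an algebraically closed field of
characteristic zero is the commutator of two elements of finite order. Here K is an algebraically
closed field of characteristic zero, G is a semisimple K-group scheme in the sense used for
reductive groups over an algebraically closed field (affine, smooth, connected, trivial unipotent
radical, no non-trivial normal subtorus), and the assertion concerns the group G(K) of K-rational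
points: a central element c of G(K) equals a b a⁻¹ b⁻¹ for some a, b ∈ G(K) of finite order. (The
published statement is over the complex numbers; this row takes any algebraically closed field of
characteristic zero.) -/
theorem result (K : Type u) [Field K] [IsAlgClosed K] [CharZero K]
    (G : Over (Spec (CommRingCat.of K))) [GrpObj G] (hG : Red.IsSemisimpleOver K G)
    (c : 𝟙_ (Over (Spec (CommRingCat.of K))) ⟶ G) (hc : c ∈ Subgroup.center (𝟙_ (Over (Spec (CommRingCat.of K))) ⟶ G)) :
    ∃ a b : 𝟙_ (Over (Spec (CommRingCat.of K))) ⟶ G, IsOfFinOrder a ∧ IsOfFinOrder b ∧ c = a * b * a⁻¹ * b⁻¹ := by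
  haveI := hG.1.1
  haveI := hG.1.2.1
  haveI := hG.1.2.2.1
  obtain ⟨A, _, _, _, _, e, he⟩ := MaxTorusApply.exists_GA G
  haveI := he
  haveI : IsMonHom e.inv := inferInstance
  have hG' := CentralTorusRed.isSemisimpleOver_congr e hG
  obtain ⟨r, π, hπ, hT⟩ := exists_torus_coord (K := K) (A := A)
  let E : (𝟙_ (Over (Spec (CommRingCat.of K))) ⟶ G) ≃* HopfPts.Pt K A :=
    (MulEquiv.mk ⟨fun x => x ≫ e.hom, fun x => x ≫ e.inv, fun x => by simp, fun x => by simp⟩
      (fun x y => MonObj.mul_comp x y e.hom) : _ ≃* (𝟙_ (Over (Spec (CommRingCat.of K))) ⟶ GA K A)).trans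
      (MulEquiv.ofBijective (ptHom _) ⟨ptHom_injective, ptHom_surjective⟩).symm
  obtain ⟨a, b, ha, hb, hab⟩ := exists_commutator π hG' hπ hT (c := E c) (Subgroup.mem_center_iff.2 fun g => by
    obtain ⟨g', rfl⟩ := E.surjective g
    rw [← map_mul, ← map_mul, Subgroup.mem_center_iff.1 hc g'])
  refine ⟨E.symm a, E.symm b, E.symm.toMonoidHom.isOfFinOrder ha, E.symm.toMonoidHom.isOfFinOrder hb, E.injective ?_⟩
  simp only [map_mul, map_inv, MulEquiv.apply_symm_apply]
  exact hab

end Groth.Agent.S15703
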