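import Groth.Statements.S15704
import Groth.Agent.Lib.H1.SpecialBirat.Half

set_option autoImplicit false
universe u
open CategoryTheory CategoryTheory.Limits MonoidalCategory CartesianMonoidalCategory MonObj GrpObj AlgebraicGeometry
open AGF

namespace Groth.Agent.S15704

open Groth.Agent.Lib Groth.Agent.Lib.GrpQ

/-- Let G be a linear algebraic group over a field k of characteristic zero, contained as a closed
subgroup in two special groups G₁, G₂ whose underlying varieties are k-rational; then G₁/G and G₂/G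
are stably k-birationally equivalent. Here G, G₁, G₂ are affine group schemes of finite type over k
with homomorphic closed immersions G → G_j; 'special' is spelled out: for every action of G_j on a
k-scheme X of finite type and every faithfully flat k-morphism p : X → Y to a k-scheme of finite
type such that (g, x) ↦ (g·x, x) makes G_j × X the fibre product X ×_Y X, every point of Y has an
open neighbourhood over which p has a section; 'k-rational' is birationality over k with an affine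
space; Q_j with its G_j-action and base point is a quotient G_j/G; the conclusion is that Q₁ ×_k
Spec k[x_1, ..., x_r] and Q₂ ×_k Spec k[x_1, ..., x_s] are birational over k for some r, s. -/
theorem result (k : Type u) [Field k] [CharZero k]
    (G G₁ G₂ : Over (Spec (CommRingCat.of k))) [GrpObj G] [GrpObj G₁] [GrpObj G₂]
    [IsAffine G.left] [IsAffine G₁.left] [IsAffine G₂.left]
    [LocallyOfFiniteType G.hom] [LocallyOfFiniteType G₁.hom] [LocallyOfFiniteType G₂.hom]
    (i₁ : G ⟶ G₁) (i₂ : G ⟶ G₂) [IsMonHom i₁] [IsMonHom i₂]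
    [IsClosedImmersion i₁.left] [IsClosedImmersion i₂.left]
    (hsp₁ : (∀ (X' Y' : Over (Spec (CommRingCat.of k))) (a : AlgGrp.Action G₁ X') (p : X' ⟶ Y'),
      LocallyOfFiniteType X'.hom → QuasiCompact X'.hom → LocallyOfFiniteType Y'.hom → QuasiCompact Y'.hom →
      Flat p.left → Surjective p.left → IsPullback a.act.left (snd G₁ X').left p.left p.left →
      ∀ y : ↥Y'.left, ∃ (W : Y'.left.Opens) (s : (W : Scheme.{u}) ⟶ X'.left), y ∈ W ∧ s ≫ p.left = W.ι))
    (hsp₂ : (∀ (X' Y' : Over (Spec (CommRingCat.of k))) (a : AlgGrp.Action G₂ X') (p : X' ⟶ Y'),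
      LocallyOfFiniteType X'.hom → QuasiCompact X'.hom → LocallyOfFiniteType Y'.hom → QuasiCompact Y'.hom →
      Flat p.left → Surjective p.left → IsPullback a.act.left (snd G₂ X').left p.left p.left →
      ∀ y : ↥Y'.left, ∃ (W : Y'.left.Opens) (s : (W : Scheme.{u}) ⟶ X'.left), y ∈ W ∧ s ≫ p.left = W.ι))
    [Scheme.IsRationalOver G₁.hom] [Scheme.IsRationalOver G₂.hom]
    (Q₁ Q₂ : Over (Spec (CommRingCat.of k))) (a₁ : AlgGrp.Action G₁ Q₁) (a₂ : AlgGrp.Action G₂ Q₂)
    (o₁ : 𝟙_ (Over (Spec (CommRingCat.of k))) ⟶ Q₁) (o₂ : 𝟙_ (Over (Spec (CommRingCat.of k))) ⟶ Q₂)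
    (hQ₁ : AGF.IsQuotient i₁ Q₁ a₁ o₁) (hQ₂ : AGF.IsQuotient i₂ Q₂ a₂ o₂) :
    ∃ r s : ℕ, Scheme.BirationalOver
      (pullback.fst Q₁.hom (Spec.map (CommRingCat.ofHom (algebraMap k (MvPolynomial (Fin r) k)))) ≫ Q₁.hom)
      (pullback.fst Q₂.hom (Spec.map (CommRingCat.ofHom (algebraMap k (MvPolynomial (Fin s) k)))) ≫ Q₂.hom) := by
  have : Mono i₁ := mono_of_left i₁
  have : Mono i₂ := mono_of_left i₂
  have : IsAffine (G₁ ⊗ G₂).left := inferInstanceAs (IsAffine (pullback G₁.hom G₂.hom))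
  have : LocallyOfFiniteType (G₁ ⊗ G₂).hom :=
    inferInstanceAs (LocallyOfFiniteType (pullback.fst G₁.hom G₂.hom ≫ G₁.hom))
  let i : G ⟶ G₁ ⊗ G₂ := lift i₁ i₂
  have hif : i ≫ fst G₁ G₂ = i₁ := lift_fst _ _
  have : Mono i := mono_of_mono_fac hif
  have : QuasiCompact G.hom := inferInstance
  obtain ⟨X, a, o, hX, hXqc⟩ := Homog.exists_quotient_affine (G₁ ⊗ G₂) G i
  have hf₁ : Flat G₁.hom := FibreDeg.Basic.flat_of_field _
  have hf₂ : Flat G₂.hom := FibreDeg.Basic.flat_of_field _
  have hs : ∀ (K : Over (Spec (CommRingCat.of k))) [GrpObj K], Surjective K.hom := fun K _ => by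
    have : Subsingleton (Spec (CommRingCat.of k)) := inferInstanceAs (Subsingleton (PrimeSpectrum k))
    exact ⟨fun x => ⟨η[K].left x, Subsingleton.elim _ _⟩⟩
  have hs₁ := hs G₁
  have hs₂ := hs G₂
  have : Flat (fst G₁ G₂).left := GrpSch.fst_left_of (P := @Flat) G₁ hf₂
  have : Surjective (fst G₁ G₂).left := GrpSch.fst_left_of (P := @Surjective) G₁ hs₂
  have : Flat (snd G₁ G₂).left := GrpSch.snd_left_of (P := @Flat) G₂ hf₁
  have : Surjective (snd G₁ G₂).left := GrpSch.snd_left_of (P := @Surjective) G₂ hs₁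
  obtain ⟨r, hr⟩ := H1.SpecialBirat.half i₁ i (fst G₁ G₂) (snd G₁ G₂) hif (fun a b => lift a b)
    (fun _ _ => lift_fst _ _) (fun _ _ => lift_snd _ _)
    (fun _ _ h h' => CartesianMonoidalCategory.hom_ext _ _ h h') hsp₂ a o hX hXqc a₁ o₁ hQ₁
  obtain ⟨s, hs'⟩ := H1.SpecialBirat.half i₂ i (snd G₁ G₂) (fst G₁ G₂) (lift_snd _ _) (fun a b => lift b a)
    (fun _ _ => lift_snd _ _) (fun _ _ => lift_fst _ _)
    (fun _ _ h h' => CartesianMonoidalCategory.hom_ext _ _ h' h) hsp₁ a o hX hXqc a₂ o₂ hQ₂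
  exact ⟨r, s, hr.trans hs'.symm⟩

end Groth.Agent.S15704
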