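import Groth.Statements.S15705
import Groth.Agent.H95.SubfieldFG
import Groth.Agent.Lib.Comod.Orbits
import Groth.Agent.Lib.Hopf.Points
import Mathlib

set_option autoImplicit false
universe u
open GLin

namespace Groth.Agent.S15705

open TensorProduct Groth.Agent.Lib.Comod.Orbits

variable {k : Type u} [Field k] [IsAlgClosed k] {A : Type u} [CommRing A] [HopfAlgebra k A]
  {B : Type u} [CommRing B] [Algebra k B] [HopfRep.Comod k A B] [GLin.IsCoactAlg k A B]

/-- The action of a point as an algebra endomorphism. -/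
noncomputable def σ (φ : A →ₐ[k] k) : B →ₐ[k] B :=
  (Algebra.TensorProduct.productMap (AlgHom.id k B) ((Algebra.ofId k B).comp φ)).comp (GLin.coactAlgHom k A B)

lemma σ_apply (φ : A →ₐ[k] k) (b : B) : σ φ b = HopfRep.Comod.act k A B φ b := by
  simp only [σ, AlgHom.comp_apply, GLin.coactAlgHom_apply, HopfRep.Comod.act, LinearMap.comp_apply,
    LinearEquiv.coe_coe]
  induction HopfRep.Comod.coact (k := k) (A := A) b using TensorProduct.induction_on with
  | zero => simp
  | tmul q a => simp [Algebra.smul_def, mul_comm, Algebra.ofId_apply]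
  | add p q hp hq => simp [hp, hq]

lemma actPt_eq (φ : A →ₐ[k] k) (x : B →ₐ[k] k) : GLin.actPt k φ x = x.comp (σ φ) := by
  refine AlgHom.ext fun b => ?_
  simp only [σ, GLin.actPt, GLin.orbitHom, AlgHom.comp_apply, GLin.coactAlgHom_apply]
  induction HopfRep.Comod.coact (k := k) (A := A) b using TensorProduct.induction_on with
  | zero => simp
  | tmul q a => simp [mul_comm, Algebra.ofId_apply]
  | add p q hp hq => simp only [map_add, hp, hq]

lemma σ_invPt [Algebra.FiniteType k B] [IsReduced B] (φ : A →ₐ[k] k) (b : B) :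
    σ (invPt φ) (σ φ b) = b := by
  rw [← sub_eq_zero]
  refine Groth.Agent.Lib.Hopf.Points.eq_zero_of_forall_point_eq_zero (k := k) fun x => ?_
  rw [map_sub, sub_eq_zero]
  have := DFunLike.congr_fun (actPt_actPt_invPt φ x) b
  simpa only [actPt_eq, AlgHom.comp_apply] using this

lemma σ_invPt' [Algebra.FiniteType k B] [IsReduced B] (φ : A →ₐ[k] k) (b : B) :
    σ φ (σ (invPt φ) b) = b := by
  rw [← sub_eq_zero]
  refine Groth.Agent.Lib.Hopf.Points.eq_zero_of_forall_point_eq_zero (k := k) fun x => ?_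
  rw [map_sub, sub_eq_zero]
  have := DFunLike.congr_fun (actPt_invPt_actPt φ x) b
  simpa only [actPt_eq, AlgHom.comp_apply] using this

variable [IsDomain B] [UniqueFactorizationMonoid B] [Algebra.FiniteType k B]

/-- An invariant fraction has a reduced representative whose denominator is stable. -/
lemma exists_reduced {a b : B} (hb : b ≠ 0) (h : ∀ φ : A →ₐ[k] k, σ φ a * b = a * σ φ b) :
    ∃ a' b' : B, b' ≠ 0 ∧ a * b' = a' * b ∧ (∀ φ : A →ₐ[k] k, σ φ a' * b' = a' * σ φ b') ∧
      ∀ φ : A →ₐ[k] k, ∃ u : B, σ φ b' * u = b' := by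
  obtain ⟨a', b', c, hrel, rfl, rfl⟩ := UniqueFactorizationMonoid.exists_reduced_factors' a b hb
  have hσ : ∀ (φ : A →ₐ[k] k) (x : B), σ φ x = 0 → x = 0 := fun φ x hx => by
    rw [← σ_invPt φ x, hx, map_zero]
  have hc : c ≠ 0 := left_ne_zero_of_mul hb
  have hinv : ∀ φ : A →ₐ[k] k, σ φ a' * b' = a' * σ φ b' := fun φ => by
    have := h φ
    rw [map_mul, map_mul] at this
    refine mul_left_cancel₀ (mul_ne_zero hc (fun h0 => hc (hσ φ c h0) : σ φ c ≠ 0)) ?_
    linear_combination this
  refine ⟨a', b', right_ne_zero_of_mul hb, by ring, hinv, fun φ => ?_⟩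
  obtain ⟨s, hs⟩ : b' ∣ σ (invPt φ) b' :=
    hrel.symm.dvd_of_dvd_mul_left ⟨σ (invPt φ) a', by rw [← hinv (invPt φ)]; ring⟩
  refine ⟨σ φ s, ?_⟩
  rw [← map_mul, ← hs, σ_invPt']

omit [IsAlgClosed k] [UniqueFactorizationMonoid B] [Algebra.FiniteType k B] in
/-- Fractions with invariant numerator relative to `h` form a subalgebra. -/
noncomputable def good (h : B) : Subalgebra k (FractionRing B) where
  carrier := {z | ∃ (c : B) (r : ℕ), (∀ φ : A →ₐ[k] k, σ φ c * h ^ r = c * σ φ h ^ r) ∧
    z * algebraMap B _ (h ^ r) = algebraMap B _ c}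
  mul_mem' := by
    rintro x y ⟨c, r, hc, hx⟩ ⟨d, t, hd, hy⟩
    refine ⟨c * d, r + t, fun φ => ?_, ?_⟩
    · rw [map_mul, pow_add, pow_add]
      linear_combination (σ φ d * h ^ t) * hc φ + (c * σ φ h ^ r) * hd φ
    · rw [pow_add, map_mul, map_mul, ← hx, ← hy]; ring
  add_mem' := by
    rintro x y ⟨c, r, hc, hx⟩ ⟨d, t, hd, hy⟩
    refine ⟨c * h ^ t + d * h ^ r, r + t, fun φ => ?_, ?_⟩
    · simp only [map_add, map_mul, map_pow, pow_add]
      linear_combination (σ φ h ^ t * h ^ t) * hc φ + (σ φ h ^ r * h ^ r) * hd φ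
    · rw [pow_add, map_add, map_mul, map_mul, map_mul, ← hx, ← hy]; ring
  algebraMap_mem' c := ⟨algebraMap k B c, 0, fun φ => by simp, by
    simp [← IsScalarTower.algebraMap_apply]⟩


/-- Let k be algebraically closed of characteristic zero, G a linear algebraic group and X a factorial
affine G-variety with k[X]* = k*; then there is a G-invariant affine open U of X such that the field
of G-invariant rational functions is the fraction field of k[U]^G. In coordinate-ring form: A is a
commutative Hopf algebra of finite type over k coacting by an algebra map on B, a finitely generated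
k-algebra which is a domain and a unique factorisation monoid all of whose units are scalars;
k-points φ : A →ₐ[k] k of G act on B through the coaction. Conclusion: there is h ≠ 0 in B with D(h)
stable under every φ (φ·h divides a power of h) such that whenever a, b ∈ B, b ≠ 0, satisfy (φ·a) b
= a (φ·b) for all φ (the fraction a/b is invariant), there are c, d ∈ B and exponents r, t with d ≠
0, with c/h^r and d/h^t invariant in B[1/h] — that is (φ·c) h^r = c (φ·h)^r and (φ·d) h^t = d
(φ·h)^t for all φ — and a d h^r = b c h^t (so a/b = (c/h^r)/(d/h^t)). -/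
theorem result (k : Type u) [Field k] [IsAlgClosed k] [CharZero k]
    (A : Type u) [CommRing A] [HopfAlgebra k A] [Algebra.FiniteType k A]
    (B : Type u) [CommRing B] [Algebra k B] [Algebra.FiniteType k B] [IsDomain B] [UniqueFactorizationMonoid B]
    (hunits : ∀ u : Bˣ, ∃ c : k, algebraMap k B c = u)
    [HopfRep.Comod k A B] [GLin.IsCoactAlg k A B] :
    ∃ h : B, h ≠ 0 ∧ (∀ φ : A →ₐ[k] k, ∃ (N : ℕ) (u : B), HopfRep.Comod.act k A B φ h * u = h ^ N) ∧
      ∀ a b : B, b ≠ 0 → (∀ φ : A →ₐ[k] k, HopfRep.Comod.act k A B φ a * b = a * HopfRep.Comod.act k A B φ b) →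
        ∃ (c d : B) (r t : ℕ), d ≠ 0 ∧
          (∀ φ : A →ₐ[k] k, HopfRep.Comod.act k A B φ c * h ^ r = c * (HopfRep.Comod.act k A B φ h) ^ r) ∧
          (∀ φ : A →ₐ[k] k, HopfRep.Comod.act k A B φ d * h ^ t = d * (HopfRep.Comod.act k A B φ h) ^ t) ∧
          a * d * h ^ r = b * c * h ^ t := by
  classical
  let K := FractionRing B
  let j := algebraMap B K
  have hj : Function.Injective j := IsFractionRing.injective B K
  let Inv : B → B → Prop := fun a b => ∀ φ : A →ₐ[k] k, σ φ a * b = a * σ φ b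
  let S : Set K := {z | ∃ a b : B, b ≠ 0 ∧ Inv a b ∧ z * j b = j a}
  haveI : Algebra.EssFiniteType B K := Algebra.EssFiniteType.of_isLocalization K (nonZeroDivisors B)
  haveI : Algebra.EssFiniteType k K := Algebra.EssFiniteType.comp k B K
  obtain ⟨g, hg⟩ := Groth.Agent.H95.SubfieldFG.fg (IntermediateField.adjoin k S)
  have hsub : ∀ x ∈ g, ∃ T : Finset K, (T : Set K) ⊆ S ∧ x ∈ IntermediateField.adjoin k (T : Set K) :=
    fun x hx => IntermediateField.exists_finset_of_mem_adjoin (hg ▸ IntermediateField.subset_adjoin k _ hx)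
  choose! T hTS hxT using hsub
  let Z := g.biUnion T
  have hZS : ∀ z ∈ Z, z ∈ S := fun z hz => by
    obtain ⟨x, hx, hzx⟩ := Finset.mem_biUnion.1 hz
    exact hTS x hx hzx
  have hle : IntermediateField.adjoin k S ≤ IntermediateField.adjoin k (Z : Set K) := by
    rw [← hg, IntermediateField.adjoin_le_iff]
    intro x hx
    exact IntermediateField.adjoin.mono k _ _ (by
      intro z hz; exact Finset.mem_coe.2 (Finset.mem_biUnion.2 ⟨x, hx, hz⟩)) (hxT x hx)
  have hred : ∀ z ∈ Z, ∃ a' b' : B, b' ≠ 0 ∧ z * j b' = j a' ∧ Inv a' b' ∧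
      ∀ φ : A →ₐ[k] k, ∃ u : B, σ φ b' * u = b' := by
    intro z hz
    obtain ⟨a, b, hb, hinv, hzab⟩ := hZS z hz
    obtain ⟨a', b', hb', heq, hinv', hu⟩ := exists_reduced hb hinv
    refine ⟨a', b', hb', mul_right_cancel₀ ((map_ne_zero_iff j hj).2 hb) ?_, hinv', hu⟩
    rw [mul_right_comm, hzab, ← map_mul, ← map_mul, heq]
  choose! a' b' hb' hzb' hinv' hu using hred
  let h := ∏ z ∈ Z, b' z
  have hh : h ≠ 0 := Finset.prod_ne_zero_iff.2 hb'
  have hgood : ∀ z ∈ Z, z ∈ good (k := k) (A := A) h := by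
    intro z hz
    refine ⟨a' z * ∏ w ∈ Z.erase z, b' w, 1, fun φ => ?_, ?_⟩
    · simp only [pow_one, h, map_mul]
      rw [← Finset.mul_prod_erase Z b' hz, map_mul]
      linear_combination (σ φ (∏ w ∈ Z.erase z, b' w) * ∏ w ∈ Z.erase z, b' w) * hinv' z hz φ
    · simp only [pow_one, h]
      rw [← Finset.mul_prod_erase Z b' hz, map_mul, map_mul, ← mul_assoc]
      exact congrArg (· * j _) (hzb' z hz)
  refine ⟨h, hh, fun φ => ?_, fun a b hb hinv => ?_⟩
  · choose! u hu' using fun z (hz : z ∈ Z) => hu z hz φ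
    refine ⟨1, ∏ z ∈ Z, u z, ?_⟩
    rw [← σ_apply, map_prod, ← Finset.prod_mul_distrib, pow_one]
    exact Finset.prod_congr rfl hu'
  by_cases ha : a = 0
  · exact ⟨0, 1, 0, 0, one_ne_zero, fun φ => by simp, fun φ => by
      rw [← σ_apply]; simp, by simp [ha]⟩
  have hjb : j b ≠ 0 := (map_ne_zero_iff j hj).2 hb
  have hmem : j a / j b ∈ IntermediateField.adjoin k (Z : Set K) :=
    hle (IntermediateField.subset_adjoin k S ⟨a, b, hb, fun φ => by rw [σ_apply, σ_apply]; exact hinv φ,
      div_mul_cancel₀ _ hjb⟩)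
  obtain ⟨p, hp, q, hq, hpq⟩ := IntermediateField.mem_adjoin_iff_div.1 hmem
  obtain ⟨c, r, hc, hpc⟩ := Algebra.adjoin_le (fun z hz => hgood z hz) hp
  obtain ⟨d, t, hd, hqd⟩ := Algebra.adjoin_le (fun z hz => hgood z hz) hq
  have hq0 : q ≠ 0 := fun hq0 => by
    rw [hq0, div_zero, div_eq_zero_iff] at hpq
    exact hpq.elim ((map_ne_zero_iff j hj).2 ha) hjb
  have hd0 : d ≠ 0 := fun hd0 => by
    rw [hd0, map_zero] at hqd
    exact (mul_ne_zero hq0 ((map_ne_zero_iff j hj).2 (pow_ne_zero t hh))) hqd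
  refine ⟨c, d, r, t, hd0, fun φ => by rw [← σ_apply, ← σ_apply]; exact hc φ,
    fun φ => by rw [← σ_apply, ← σ_apply]; exact hd φ, hj ?_⟩
  rw [div_eq_div_iff hjb hq0] at hpq
  simp only [map_mul]
  rw [← hpc, ← hqd]
  linear_combination (j (h ^ r) * j (h ^ t)) * hpq

end Groth.Agent.S15705
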