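import Groth.Statements.S15706
import Mathlib.RingTheory.Ideal.AssociatedPrime.Localization
import Mathlib.RingTheory.Ideal.AssociatedPrime.Finiteness

set_option autoImplicit false
universe u
open CAlg

namespace Groth.Agent.S15706

/-- Let A be a Noetherian ring with Serre's property (S_1), stated here in the equivalent form that
every associated prime of A is a minimal prime of A. Let I be an ideal of A and b an element of A/I
which is regular (a non-zero-divisor) in A/I. Then b is the image of a regular element of A. -/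
theorem result (A : Type u) [CommRing A]
    [IsNoetherianRing A] (hS1 : ∀ p ∈ associatedPrimes A A, p ∈ minimalPrimes A) (I : Ideal A)
    (b : A ⧸ I) (hb : b ∈ nonZeroDivisors (A ⧸ I)) :
    ∃ a : A, a ∈ nonZeroDivisors A ∧ Ideal.Quotient.mk I a = b := by
  obtain ⟨a₀, rfl⟩ := Ideal.Quotient.mk_surjective b
  classical
  let T := (associatedPrimes.finite A A).toFinset
  let T1 := T.filter (a₀ ∈ ·)
  let J : Ideal A := I ⊓ (T.filter (a₀ ∉ ·)).inf id
  -- a zero divisor of `A ⧸ I` cannot lift to `a₀`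
  have hreg : ∀ P ∈ T1, ¬ J ≤ P := by
    intro P hP hJ
    obtain ⟨hP, haP⟩ := Finset.mem_filter.mp hP
    have hP' := (associatedPrimes.finite A A).mem_toFinset.mp hP
    have hPp : P.IsPrime := hP'.isPrime
    rcases (Ideal.IsPrime.inf_le hPp).mp hJ with h | h
    · -- `P ⊇ I` is a minimal prime over `I`, so consists of zero divisors on `A ⧸ I`
      have hmin : P ∈ (Module.annihilator A (A ⧸ I)).minimalPrimes := by
        rw [Ideal.annihilator_quotient]
        exact ⟨⟨hPp, h⟩, fun q hq hle => (hS1 P hP').2 ⟨hq.1, bot_le⟩ hle⟩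
      have hass := Module.associatedPrimes.minimalPrimes_annihilator_subset_associatedPrimes A _ hmin
      obtain ⟨-, c, hc⟩ := isAssociatedPrime_iff.mp (AssociatedPrimes.mem_iff.mp hass)
      have hac : Ideal.Quotient.mk I a₀ * c = 0 := by
        have := hc.le haP
        rw [Submodule.mem_colon_singleton, Submodule.mem_bot] at this
        rwa [← Ideal.Quotient.algebraMap_eq, ← Algebra.smul_def]
      have hc0 : c = 0 := (mem_nonZeroDivisors_iff.mp hb).1 c hac
      refine hPp.ne_top ((Ideal.eq_top_iff_one _).mpr ?_)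
      rw [hc, Submodule.mem_colon_singleton, hc0]
      simp
    · obtain ⟨Q, hQ, hQP⟩ := (Ideal.IsPrime.inf_le' hPp).mp h
      obtain ⟨hQ, haQ⟩ := Finset.mem_filter.mp hQ
      have hQ' := (associatedPrimes.finite A A).mem_toFinset.mp hQ
      exact haQ ((hS1 P hP').2 ⟨hQ'.isPrime, bot_le⟩ hQP haP)
  obtain ⟨i, hiJ, hi⟩ : ∃ i ∈ J, ∀ P ∈ T1, i ∉ P := by
    by_contra! h
    have hsub : (J : Set A) ⊆ ⋃ P ∈ (T1 : Set (Ideal A)), ((id P : Ideal A) : Set A) := fun x hx => by
      obtain ⟨P, hP, hxP⟩ := h x hx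
      exact Set.mem_biUnion hP hxP
    obtain ⟨P, hP, hle⟩ := (Ideal.subset_union_prime ⊥ ⊥ fun P hP _ _ =>
      ((associatedPrimes.finite A A).mem_toFinset.mp (Finset.mem_filter.mp hP).1).isPrime).mp hsub
    exact hreg P hP hle
  refine ⟨a₀ + i, ?_, by rw [map_add, Ideal.Quotient.eq_zero_iff_mem.mpr hiJ.1, add_zero]⟩
  have hcompl := biUnion_associatedPrimes_eq_compl_nonZeroDivisors A
  by_contra hn
  have : a₀ + i ∈ (nonZeroDivisors A : Set A)ᶜ := hn
  rw [← hcompl, Set.mem_iUnion₂] at this
  obtain ⟨P, hP, hmem⟩ := this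
  by_cases haP : a₀ ∈ P
  · exact hi P (Finset.mem_filter.mpr ⟨(associatedPrimes.finite A A).mem_toFinset.mpr hP, haP⟩)
      (by simpa using P.sub_mem hmem haP)
  · have : i ∈ P := Finset.inf_le (f := id)
      (Finset.mem_filter.mpr ⟨(associatedPrimes.finite A A).mem_toFinset.mpr hP, haP⟩) hiJ.2
    exact haP (by simpa using P.sub_mem hmem this)

end Groth.Agent.S15706
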