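import Groth.Statements.S1571
import Groth.Agent.Lib.Ideal.Prime
import Groth.Agent.Lib.Ideal.EffCartier
import Groth.Agent.Lib.AssPt.Basic
import Groth.Agent.S8853

set_option autoImplicit false
universe u
open CategoryTheory CategoryTheory.Limits AlgebraicGeometry
open Divisors

namespace Groth.Agent.S1571

open TopologicalSpace Groth.Agent.Lib.Ideal.Prime Groth.Agent.Lib.Ideal.EffCartier

/-- The open complement of an effective Cartier divisor is an affine open immersion and is
scheme-theoretically dense. -/
theorem result (S : Scheme.{u}) (D : S.IdealSheafData) (hD : BlowUp.IsEffCartierIdeal D) :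
    IsAffineHom (Scheme.Opens.ι (X := S) D.support.compl) ∧ IsSchemeTheoreticallyDominant (Scheme.Opens.ι (X := S) D.support.compl) := by
  have hlp : Curv2.IsLocPrincipal D := fun x _ => by
    obtain ⟨U, hxU, f, -, hf⟩ := hD x
    exact ⟨U, hxU, f, hf⟩
  haveI := Groth.Agent.S8853.result D hlp
  refine ⟨inferInstance, ⟨eq_bot_iff.2 fun U t ht => ?_⟩⟩
  rw [Scheme.Hom.ker_apply, RingHom.mem_ker] at ht
  rw [Scheme.IdealSheafData.ideal_bot, Pi.bot_apply, Submodule.mem_bot]
  refine eq_zero_of_germ_eq_zero_off hD t fun x hx hxs => ?_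
  let z : (D.support.compl : S.Opens) := ⟨x, hxs⟩
  have h := congrArg ((Scheme.Opens.toScheme (X := S) D.support.compl).presheaf.germ _ z (show z ∈ _ from hx)) ht
  rw [map_zero, ← Scheme.Hom.germ_stalkMap_apply] at h
  have hb := (ConcreteCategory.bijective_of_isIso ((Scheme.Opens.ι (X := S) D.support.compl).stalkMap z)).1
  exact hb (h.trans (map_zero _).symm)

end Groth.Agent.S1571
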