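import Groth.Statements.S15712
import Groth.Agent.Lib.SchDense.Basic
import Groth.Agent.Lib.Cyc.DimFun
-- import your own Groth.Agent.* helpers here

set_option autoImplicit false
universe u
open CategoryTheory AlgebraicGeometry TopologicalSpace
open RatSing

namespace Groth.Agent.S15712

/-- Let X be a locally Noetherian scheme with Serre's property (S_1), i.e. every local ring O_{X,x} has
depth at least min(1, dim O_{X,x}) (for instance X Cohen–Macaulay), and let U ⊆ X be open. Then
scheme-theoretic density of U in X is equivalent to U being dense as a subset. (The published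
statement assumes every scheme excellent, in particular locally Noetherian.) -/
theorem result (X : Scheme.{u}) [IsLocallyNoetherian X]
    (hS1 : ∀ x : X, min (1 : WithBot ℕ∞) (ringKrullDim (X.presheaf.stalk x)) ≤
      ((LocCoh.depth (X.presheaf.stalk x) (X.presheaf.stalk x) : ℕ∞) : WithBot ℕ∞))
    (U : X.Opens) : CInt.IsSchematicallyDense U ↔ Dense (U : Set X) := by
  rw [Lib.SchDense.isSchematicallyDense_iff]
  constructor
  · intro h
    by_contra hU
    obtain ⟨z, hz⟩ : ∃ z, z ∉ closure (U : Set X) := by simpa [dense_iff_closure_eq, Set.eq_univ_iff_forall] using hU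
    obtain ⟨ξ, hξz, hξ⟩ := Lib.Cyc.DimFun.exists_isMaxPt_specializes z
    have hξU : ξ ∉ U := fun hmem => hz (hξz.mem_closed isClosed_closure (subset_closure hmem))
    have h0 := (Lib.Cyc.DimFun.ringKrullDim_stalk_eq_zero_iff ξ).2 hξ
    have hne := (Lib.SchDense.one_le_depth_iff ξ).1 (h ξ hξU)
    obtain ⟨P, hP⟩ := associatedPrimes.nonempty (X.presheaf.stalk ξ) (X.presheaf.stalk ξ)
    have : P = IsLocalRing.maximalIdeal (X.presheaf.stalk ξ) := by
      have hPp : P.IsPrime := hP.isPrime
      have hmax := (Order.krullDim_nonpos_iff_forall_isMax.mp h0.le) (⟨P, hPp⟩ : PrimeSpectrum (X.presheaf.stalk ξ))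
      have hle : (⟨P, hPp⟩ : PrimeSpectrum (X.presheaf.stalk ξ)) ≤ IsLocalRing.closedPoint _ :=
        IsLocalRing.le_maximalIdeal hPp.ne_top
      exact congrArg PrimeSpectrum.asIdeal (le_antisymm hle (hmax hle))
    rw [this] at hP
    exact hne hP
  · intro hd x hx
    have hdim : ringKrullDim (X.presheaf.stalk x) ≠ 0 := by
      intro h0
      have hmax := (Lib.Cyc.DimFun.ringKrullDim_stalk_eq_zero_iff x).1 h0
      obtain ⟨V, hV, hxV, -⟩ := exists_isAffineOpen_mem_and_subset (X := X) (x := x) (U := ⊤) trivial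
      have : IsAffine (V : Scheme.{u}) := hV
      have : IsNoetherian (V : Scheme.{u}) := ⟨⟩
      have hcomp : closure {(⟨x, hxV⟩ : V)} ∈ irreducibleComponents (V : Scheme.{u}) := by
        refine ⟨isIrreducible_singleton.closure, fun T hT hle => ?_⟩
        obtain ⟨t, ht⟩ := QuasiSober.sober hT.closure isClosed_closure
        have htx : t ⤳ (⟨x, hxV⟩ : V) := ht.specializes (subset_closure (hle (subset_closure rfl)))
        have : t = ⟨x, hxV⟩ := Subtype.ext (hmax _ (htx.map continuous_subtype_val))
        exact subset_closure.trans (this ▸ ht.def.symm.le)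
      obtain ⟨o, ho, hne, hoZ⟩ :=
        TopologicalSpace.NoetherianSpace.exists_isOpen_nonempty_subset_irreducibleComponent _ hcomp
      obtain ⟨_, ⟨y, hy, rfl⟩, hyU⟩ := hd.inter_open_nonempty _ (V.2.isOpenMap_subtype_val o ho) (hne.image _)
      have hxy : (⟨x, hxV⟩ : V) ⤳ y := specializes_iff_mem_closure.2 (hoZ hy)
      exact hx ((hxy.map continuous_subtype_val).mem_open U.2 hyU)
    have h1 : (1 : WithBot ℕ∞) ≤ ringKrullDim (X.presheaf.stalk x) := by
      have h := ringKrullDim_stalk_eq_coheight x
      rw [h] at hdim ⊢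
      rw [show (1 : WithBot ℕ∞) = ((1 : ℕ∞) : WithBot ℕ∞) from rfl, WithBot.coe_le_coe, Order.one_le_iff_ne_zero]
      exact fun h0 => hdim (by rw [h0]; rfl)
    have := hS1 x
    rw [min_eq_left h1] at this
    exact WithBot.coe_le_coe.1 this

end Groth.Agent.S15712
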