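import Groth.Statements.S15715
import Groth.Agent.Lib.QCoh.Localizing
import Mathlib.RingTheory.Ideal.AssociatedPrime.Finiteness

set_option autoImplicit false
set_option linter.style.haveILetI false
universe u
open CategoryTheory AlgebraicGeometry TopologicalSpace
open RatSing

namespace Groth.Agent.S15715

/-- Let X be a locally Noetherian scheme, φ : F → G a homomorphism of O_X-modules with F quasi-coherent
and torsion-free (over every affine open V, no nonzero section of F is killed by a regular element
of O_X(V)), and U a scheme-theoretically dense open subset of X such that the restriction of φ to U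
is injective. Then φ is injective. (The published statement allows an arbitrary O_X-module F; for
the skyscraper sheaf on the affine line over a field, placed at a closed point with value the local
ring at that point, which is torsion-free in this sense, the zero map to the zero module is
injective over the dense open complement of the point but not injective. This row takes F
quasi-coherent.) -/
theorem result (X : Scheme.{u})
    [IsLocallyNoetherian X] (F G : X.Modules) (hF : Coh.IsQCoh F)
    (htf : ∀ V : X.affineOpens, Submodule.torsion Γ(X, V.1) (F.val.obj (Opposite.op V.1)) = ⊥)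
    (φ : F ⟶ G) (U : X.Opens) (hU : CInt.IsSchematicallyDense U)
    (hφU : ∀ V : X.Opens, V ≤ U → Function.Injective ⇑(ConcreteCategory.hom (φ.val.app (Opposite.op V)))) (V : X.Opens) :
    Function.Injective ⇑(ConcreteCategory.hom (φ.val.app (Opposite.op V))) := by
  haveI : F.IsQuasicoherent := hF
  have haff : ∀ W : X.affineOpens, ∀ t : Γ(F, W.1), φ.app W.1 t = 0 → t = 0 := by
    intro W t ht
    let A := Γ(X, W.1)
    haveI : IsNoetherianRing A := IsLocallyNoetherian.component_noetherian W
    let S : Set A := {a | X.basicOpen a ≤ U}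
    let I : Ideal A := Ideal.span S
    have h0 : ∀ a ∈ S, ∃ n : ℕ, a ^ n • t = 0 := by
      intro a ha
      refine Lib.QCoh.Localizing.exists_pow_smul_eq_zero_of_isCompact F W.2.isCompact a t ?_
      apply hφU (X.basicOpen a) ha
      show φ.app _ (Lib.QCoh.Localizing.res F (X.basicOpen_le a) t) = φ.app _ 0
      rw [← Lib.QCoh.Localizing.res_app, ht, map_zero, map_zero]
    have hI : I ≤ (Submodule.colon (⊥ : Submodule A Γ(F, W.1)) {t}).radical := by
      refine Ideal.span_le.2 fun a ha => ?_
      obtain ⟨n, hn⟩ := h0 a ha
      exact ⟨n, by rw [Submodule.mem_colon_singleton, Submodule.mem_bot]; exact hn⟩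
    obtain ⟨r, hrI, hr⟩ : ∃ r ∈ I, r ∈ nonZeroDivisors A := by
      by_contra hcon
      push Not at hcon
      have hsub : (I : Set A) ⊆ ⋃ p ∈ associatedPrimes A A, (p : Set A) := by
        rw [biUnion_associatedPrimes_eq_compl_nonZeroDivisors]
        exact fun a ha => hcon a ha
      obtain ⟨P, hP, hIP⟩ := (Ideal.subset_union_prime_finite (associatedPrimes.finite A A) ⊥ ⊥
        (fun p hp _ _ => IsAssociatedPrime.isPrime hp)).1 hsub
      obtain ⟨hPp, a, rfl⟩ := isAssociatedPrime_iff.1 hP
      apply hPp.ne_top
      have ha : a = 0 := by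
        apply hU W.1
        rw [map_zero]
        let B : S → X.Opens := fun s => X.basicOpen s.1
        refine TopCat.Sheaf.eq_of_locally_eq' (F := X.sheaf) B _
          (fun s => homOfLE (le_inf (X.basicOpen_le _) s.2)) ?_ _ _ fun s => ?_
        · intro y hy
          obtain ⟨b, hb, hyb⟩ := W.2.exists_basicOpen_le (V := W.1 ⊓ U) ⟨y, hy⟩ hy.1
          exact TopologicalSpace.Opens.mem_iSup.2 ⟨⟨b, hb.trans inf_le_right⟩, hyb⟩
        · have hz : s.1 * a = 0 := by
            simpa using (hIP (Ideal.subset_span s.2))
          refine Eq.trans ?_ (map_zero _).symm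
          show (X.presheaf.map _) ((X.presheaf.map _) a) = 0
          rw [← ConcreteCategory.comp_apply, ← Functor.map_comp]
          have h1 := congrArg (X.presheaf.map (homOfLE (X.basicOpen_le s.1)).op) hz
          rw [map_mul, map_zero] at h1
          exact (X.toRingedSpace.isUnit_res_basicOpen s.1).mul_right_eq_zero.1 h1
      simp [ha]
    obtain ⟨n, hn⟩ := hI hrI
    rw [Submodule.mem_colon_singleton, Submodule.mem_bot] at hn
    have hmem : t ∈ Submodule.torsion A Γ(F, W.1) :=
      (Submodule.mem_torsion_iff t).2 ⟨⟨r ^ n, pow_mem hr n⟩, hn⟩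
    have htf' := htf W
    exact (Submodule.eq_bot_iff _).1 htf' t hmem
  have hz : ∀ t : Γ(F, V), φ.app V t = 0 → t = 0 := by
    intro t ht
    refine TopCat.Sheaf.eq_of_locally_eq' (F := (⟨F.presheaf, F.isSheaf⟩ : TopCat.Sheaf AddCommGrpCat X))
      (fun W : {W : X.affineOpens // W.1 ≤ V} => W.1.1) V (fun W => homOfLE W.2) ?_ _ _ fun W => ?_
    · intro y hy
      obtain ⟨W, hW, hyW, hWV⟩ := exists_isAffineOpen_mem_and_subset hy
      exact TopologicalSpace.Opens.mem_iSup.2 ⟨⟨⟨W, hW⟩, hWV⟩, hyW⟩
    · rw [map_zero]
      apply haff W.1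
      show φ.app _ (Lib.QCoh.Localizing.res F W.2 t) = 0
      rw [← Lib.QCoh.Localizing.res_app, ht, map_zero]
  intro a b hab
  rw [← sub_eq_zero]
  apply hz
  show (φ.val.app (Opposite.op V)) (a - b) = 0
  rw [map_sub, hab, sub_self]

end Groth.Agent.S15715
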