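import Groth.Statements.S15717
import Groth.Agent.H20.CMDim

set_option autoImplicit false
universe u
open CAlg

namespace Groth.Agent.S15717

open RingTheory.Sequence LocCoh IsLocalRing Groth.Agent.Lib.Depth in
theorem exists_regular {R : Type u} [CommRing R] [LocCoh.IsCohenMacaulayLocalRing R] (I : Ideal R)
    (hI : I ≠ ⊤) (k : ℕ) (hk : (k : ℕ∞) ≤ I.height) :
    ∃ rs : List R, rs.length = k ∧ (∀ r ∈ rs, r ∈ I) ∧ IsWeaklyRegular R rs := by
  induction k with
  | zero => exact ⟨[], rfl, by simp, IsWeaklyRegular.nil R R⟩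
  | succ k ih =>
    obtain ⟨rs, hlen, hmem, hreg⟩ := ih (le_trans (by exact_mod_cast k.le_succ) hk)
    have hCM := Groth.Agent.H20.CMDim.isCohenMacaulayModule_quotient_ofList
      CM.isCohenMacaulayModule_self rs (fun r hr => le_maximalIdeal hI (hmem r hr)) hreg
    by_cases hx : ∃ x ∈ I, IsSMulRegular (R ⧸ Ideal.ofList rs • (⊤ : Submodule R R)) x
    · obtain ⟨x, hx, hxreg⟩ := hx
      refine ⟨rs ++ [x], by simp [hlen], ?_, ?_⟩
      · intro r hr
        rcases List.mem_append.mp hr with h | h
        · exact hmem r h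
        · rw [List.mem_singleton.mp h]; exact hx
      · rw [isWeaklyRegular_append_iff, isWeaklyRegular_singleton_iff]
        exact ⟨hreg, hxreg⟩
    · have hzd : ¬ ∀ q ∈ associatedPrimes R (R ⧸ Ideal.ofList rs • (⊤ : Submodule R R)), ¬ I ≤ q :=
        fun hh => hx ((Assoc.exists_isSMulRegular_iff I _).mpr hh)
      push Not at hzd
      obtain ⟨P, hP, hIP⟩ := hzd
      have hPp := IsAssociatedPrime.isPrime hP
      have h1 := Groth.Agent.H20.CMDim.ringKrullDim_quotient_add_height
        (M := R) CM.isCohenMacaulayModule_self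
        (by simp [Module.support_eq_zeroLocus, Module.annihilator_eq_bot.mpr]) P
      have hI0 : I • (⊤ : Submodule R R) ≠ ⊤ := by simpa using hI
      have h2 := Module.supportDim_add_length_eq_supportDim_of_isRegular rs
        (Basic.isRegular_of_mem hI0 hreg hmem)
      rw [← CM.ringKrullDim_quotient_eq hCM hP, hlen, Module.supportDim_self_eq_ringKrullDim,
        ← h1] at h2
      have : Nontrivial (R ⧸ P) := Ideal.Quotient.nontrivial_iff.mpr hPp.ne_top
      obtain ⟨d, hd⟩ : ∃ d : ℕ, ringKrullDim (R ⧸ P) = (d : WithBot ℕ∞) := by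
        have : IsLocalRing (R ⧸ P) := .of_surjective' _ Ideal.Quotient.mk_surjective
        obtain ⟨d, hd⟩ := CM.supportDim_eq_nat (R := R ⧸ P) (R ⧸ P)
        exact ⟨d, by rw [← Module.supportDim_self_eq_ringKrullDim, hd]; rfl⟩
      obtain ⟨h, hh⟩ : ∃ h : ℕ, P.height = h :=
        ⟨_, (ENat.natCast_toNat (Ideal.height_ne_top Ideal.IsPrime.ne_top')).symm⟩
      have hle := hk.trans (Ideal.height_mono hIP)
      rw [hh] at hle
      rw [hd, hh] at h2
      norm_cast at hle h2
      omega

/-- Let R be a Cohen–Macaulay local ring and I an ideal of R with R/I equidimensional (all minimal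
primes p over I have the same dim R/p). Then there is a regular sequence r_1, ..., r_n in I such
that the closed subscheme V(r_1, ..., r_n) of Spec R, a local complete intersection, contains V(I),
has the same dimension as V(I), and has the irreducible components of V(I) among its irreducible
components: dim R/(r_1, ..., r_n) = dim R/I and every minimal prime over I is a minimal prime over
(r_1, ..., r_n). The sequence is asked to be weakly regular (each r_i a non-zero-divisor modulo the
previous ones), which for I proper is the same as regular and which also covers I = R with the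
sequence (1). -/
theorem result (R : Type u) [CommRing R]
    [LocCoh.IsCohenMacaulayLocalRing R] (I : Ideal R)
    (hI : ∀ p ∈ I.minimalPrimes, ringKrullDim (R ⧸ p) = ringKrullDim (R ⧸ I)) :
    ∃ rs : List R, RingTheory.Sequence.IsWeaklyRegular R rs ∧ Ideal.ofList rs ≤ I ∧
      ringKrullDim (R ⧸ Ideal.ofList rs) = ringKrullDim (R ⧸ I) ∧
      I.minimalPrimes ⊆ (Ideal.ofList rs).minimalPrimes := by
  classical
  rcases eq_or_ne I ⊤ with rfl | hne
  · refine ⟨[1], ?_, le_top, ?_, ?_⟩
    · rw [RingTheory.Sequence.isWeaklyRegular_singleton_iff]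
      exact IsSMulRegular.one R
    · rw [Ideal.ofList_singleton, Ideal.span_singleton_one]
    · simp [Ideal.minimalPrimes_top]
  obtain ⟨p₀, hp₀, -⟩ := Ideal.exists_minimalPrimes_le (IsLocalRing.le_maximalIdeal hne)
  have hsuppR : Module.support R R = Set.univ := by
    simp [Module.support_eq_zeroLocus, Module.annihilator_eq_bot.mpr]
  have hform := fun (p : Ideal R) (_ : p.IsPrime) =>
    Groth.Agent.H20.CMDim.ringKrullDim_quotient_add_height (M := R)
      Groth.Agent.Lib.Depth.CM.isCohenMacaulayModule_self hsuppR p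
  have : p₀.IsPrime := hp₀.1.1
  have : IsLocalRing (R ⧸ I) :=
    have : Nontrivial (R ⧸ I) := Ideal.Quotient.nontrivial_iff.mpr hne
    .of_surjective' _ Ideal.Quotient.mk_surjective
  obtain ⟨e, he⟩ : ∃ e : ℕ, ringKrullDim (R ⧸ I) = (e : WithBot ℕ∞) := by
    obtain ⟨e, he⟩ := Groth.Agent.Lib.Depth.CM.supportDim_eq_nat (R := R ⧸ I) (R ⧸ I)
    exact ⟨e, by rw [← Module.supportDim_self_eq_ringKrullDim, he]; rfl⟩
  obtain ⟨c, hc⟩ : ∃ c : ℕ, p₀.height = c :=
    ⟨_, (ENat.natCast_toNat (Ideal.height_ne_top Ideal.IsPrime.ne_top')).symm⟩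
  have hall : ∀ p ∈ I.minimalPrimes, p.height = c := by
    intro p hp
    have hpp : p.IsPrime := hp.1.1
    have h1 := hform p hpp
    rw [hI p hp, ← hform p₀ inferInstance, hI p₀ hp₀, he, hc] at h1
    obtain ⟨c', hc'⟩ : ∃ c' : ℕ, p.height = c' :=
      ⟨_, (ENat.natCast_toNat (Ideal.height_ne_top Ideal.IsPrime.ne_top')).symm⟩
    rw [hc'] at h1 ⊢
    norm_cast at h1 ⊢
    omega
  have hheight : (c : ℕ∞) ≤ I.height := by
    rw [I.height_eq_inf_minimalPrimes]
    exact le_iInf₂ fun p hp => (hall p hp).ge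
  obtain ⟨rs, hlen, hmem, hreg⟩ := exists_regular I hne c hheight
  have hle : Ideal.ofList rs ≤ I := Groth.Agent.Lib.Depth.Basic.ofList_le hmem
  have hI0 : I • (⊤ : Submodule R R) ≠ ⊤ := by simpa using hne
  have hdim := ringKrullDim_add_length_eq_ringKrullDim_of_isRegular rs
    (Groth.Agent.Lib.Depth.Basic.isRegular_of_mem hI0 hreg hmem)
  rw [← hform p₀ inferInstance, hI p₀ hp₀, hlen, hc] at hdim
  have hdim' : ringKrullDim (R ⧸ Ideal.ofList rs) = ringKrullDim (R ⧸ I) :=
    (ENat.WithBot.add_natCast_cancel).mp hdim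
  refine ⟨rs, hreg, hle, hdim', ?_⟩
  intro p hp
  have hpp : p.IsPrime := hp.1.1
  refine ⟨⟨hpp, hle.trans hp.1.2⟩, ?_⟩
  rintro q ⟨hq, hrsq⟩ hqp
  by_contra hne'
  have : q.IsPrime := hq
  have h1 := Groth.Agent.Lib.Depth.Assoc.ringKrullDim_quotient_add_one_le_of_lt
    (lt_of_le_not_ge hqp hne')
  have h2 := ringKrullDim_le_of_surjective (Ideal.Quotient.factor hrsq)
    (Ideal.Quotient.factor_surjective hrsq)
  have h3 := h1.trans h2
  rw [hdim', hI p hp, he] at h3
  norm_cast at h3
  omega

end Groth.Agent.S15717
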