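import Groth.Statements.S15721
import Groth.Agent.Lib.RightAdjCoh.NormalRefl
import Groth.Agent.Lib.RightAdjCoh.StalkSk
import Groth.Agent.Lib.RightAdjCoh.Dualizing
import Groth.Agent.Lib.DualSch.StalkLocal
import Groth.Agent.Lib.DualSch.Local
import Groth.Agent.Lib.DualSch.Affine
import Groth.Agent.Lib.CohBasics.Affine
import Groth.Agent.Lib.EGA63.FiniteBase
import Groth.Agent.Lib.RefHull.ReflRestrict
import Groth.Agent.Lib.Modules.AffineSections
import Groth.Agent.Lib.Perfect.Coherent
import Groth.Agent.H78.Formal.Algebraize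
-- import your own Groth.Agent.* helpers here

set_option maxHeartbeats 1000000
set_option autoImplicit false
universe u
open CategoryTheory CategoryTheory.Limits AlgebraicGeometry TopologicalSpace
attribute [local instance] HasDerivedCategory.standard
open RatSing

namespace Groth.Agent.S15721

/-- Let Z be an excellent scheme of finite type over a Noetherian local scheme S admitting a dualizing
complex, with canonical sheaf ω_Z = h^{-d}(ω_Z^•), where ω_Z^• = f^! ω_S^• for the normalized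
dualizing complex ω_S^• of S and -d is the lowest degree with nonzero cohomology. Then ω_Z is
torsion-free and (S_2); if moreover Z is normal, ω_Z is reflexive of rank 1. This row states the
case Z proper over S = Spec A (so that f^! is the right adjoint of Rf_* on D_QCoh), with
torsion-freeness (no nonzero section killed by a regular element of the coordinate ring), the (S_2)
condition and reflexivity all stated for the modules of sections over affine opens, and without the
rank assertion. Existence of Rf_* and f^!, preservation of D_QCoh, and exactness of restriction to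
opens and of M ↦ M~ are carried as hypotheses. -/
theorem result (A : Type u) [CommRing A] [IsNoetherianRing A] [IsLocalRing A]
    (ωA : Dual.D A) (hω : Dual.IsDualizing A ωA) (hn : Dual.IsNormalized A ωA)
    [PreservesFiniteLimits (tilde.functor (CommRingCat.of A))]
    (Z : Scheme.{u}) [IsLocallyNoetherian Z] (hexc : ∀ U : Z.affineOpens, EGA4.IsExcellent Γ(Z, U.1))
    (f : Z ⟶ Spec (CommRingCat.of A)) [IsProper f]
    [DCoh.HasRpush f] (h : DCoh.RpushPreservesQCoh f) [DCoh.HasShriek f h]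
    (K : DCoh.DQCoh (Spec (CommRingCat.of A))) (hK : Nonempty (K.obj ≅ (DCoh.tildeD (CommRingCat.of A)).obj ωA))
    (d : ℕ) (hlow : ∀ i : ℤ, i < -(d : ℤ) → IsZero (DCoh.HD ((DCoh.shriek f h).obj K).obj i))
    (hne : ¬ IsZero (DCoh.HD ((DCoh.shriek f h).obj K).obj (-(d : ℤ)))) :
    (∀ U : Z.affineOpens, Submodule.torsion Γ(Z, U.1)
      ((DCoh.HD ((DCoh.shriek f h).obj K).obj (-(d : ℤ))).val.obj (Opposite.op U.1)) = ⊥) ∧
    (∀ U : Z.affineOpens, LocCoh.HasSk 2 Γ(Z, U.1)
      ((DCoh.HD ((DCoh.shriek f h).obj K).obj (-(d : ℤ))).val.obj (Opposite.op U.1))) ∧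
    (Pi1.IsNormalScheme Z → ∀ U : Z.affineOpens, Module.IsReflexive Γ(Z, U.1)
      ((DCoh.HD ((DCoh.shriek f h).obj K).obj (-(d : ℤ))).val.obj (Opposite.op U.1))) := by
  haveI : ∀ R : CommRingCat.{u}, PreservesFiniteLimits (tilde.functor R) := fun R => inferInstance
  haveI : ∀ (U : Scheme.{u}) (j : U ⟶ Z) [IsOpenImmersion j],
      PreservesFiniteLimits (Scheme.Modules.restrictFunctor j) := fun U j _ => inferInstance
  haveI : ∀ (U : Scheme.{u}) (j : U ⟶ Spec (CommRingCat.of A)) [IsOpenImmersion j],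
      PreservesFiniteLimits (Scheme.Modules.restrictFunctor j) := fun U j _ => inferInstance
  obtain ⟨eW⟩ := hK
  have hWd : Dual2.IsDualizingSch (Spec (CommRingCat.of A)) K.obj :=
    Groth.Agent.Lib.DualSch.Local.isDualizingSch_of_cover _ fun z =>
      ⟨A, inferInstance, 𝟙 _, inferInstance, _, ⟨z, rfl⟩, hω,
        ⟨(Groth.Agent.Lib.Gen43.Restrict.idIso _).app K.obj ≪≫ eW⟩⟩
  have hdual : Dual2.IsDualizingSch Z ((DCoh.shriek f h).obj K).obj :=
    Groth.Agent.Lib.RightAdjCoh.Chart.isDualizingSch_a f h (DCoh.shriekAdj f h) K hWd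
  let H := DCoh.HD ((DCoh.shriek f h).obj K).obj (-(d : ℤ))
  haveI : H.IsQuasicoherent := ((DCoh.shriek f h).obj K).property _
  have hcoh : Coh.IsCoh H := by
    refine Groth.Agent.Lib.Perfect.Coherent.isCoh_of_cover fun x => ?_
    obtain ⟨U, hU, hxU, -⟩ := exists_isAffineOpen_mem_and_subset (X := Z) (x := x) (U := ⊤) trivial
    obtain ⟨ωU, hωU, ⟨e⟩⟩ := hdual Γ(Z, U) hU.fromSpec
    haveI := hωU.isNoetherianRing
    haveI := hωU.finite_cohomology (-(d : ℤ))
    obtain ⟨φ⟩ := Groth.Agent.Lib.DualSch.Affine.nonempty_HD_iso hU.fromSpec e (-(d : ℤ))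
    exact ⟨_, hU.fromSpec, inferInstance, hU.primeIdealOf ⟨x, hxU⟩, hU.fromSpec_primeIdealOf ⟨x, hxU⟩,
      Groth.Agent.Lib.CohBasics.Closure.isCoh_of_iso φ.symm
        (Groth.Agent.H78.Formal.Algebraize.isCoh_tilde (A := CommRingCat.of Γ(Z, U))
          (ModuleCat.of Γ(Z, U) (Dual.HD Γ(Z, U) ωU (-(d : ℤ)))))⟩
  have hstalk : ∀ x : Z, LocCoh.HasSk 2 (Z.presheaf.stalk x) (H.presheaf.stalk x) ∧
      ∀ y ∈ nonZeroDivisors (Z.presheaf.stalk x), Function.Injective fun m : H.presheaf.stalk x => y • m := by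
    intro x
    obtain ⟨τ, hτ, heq⟩ := Groth.Agent.Lib.DualSch.StalkLocal.exists_dualizing_stalk hdual x
    haveI := hτ.isNoetherianRing
    have hlow' : ∀ i, i < -(d : ℤ) → Subsingleton (Dual.HD (Z.presheaf.stalk x) τ i) := fun i hi =>
      @Equiv.subsingleton _ _ (heq i).some.toEquiv
        (Groth.Agent.Lib.Modules.Stalk.isZero_iff_stalk_subsingleton.1 (hlow i hi) x)
    exact ⟨Groth.Agent.Lib.DualSch.StalkLocal.hasSk_two_lowest hτ hlow' (heq _).some,
      fun y hy => Groth.Agent.Lib.RightAdjCoh.NormalRefl.smul_injective_lowest hτ hlow' (heq _).some y hy⟩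
  have hmain : ∀ (U : Z.affineOpens) (q : Ideal Γ(Z, U.1)) [q.IsPrime],
      ∃ (R : Type u) (_ : CommRing R) (_ : IsNoetherianRing R) (_ : IsLocalRing R) (_ : Algebra Γ(Z, U.1) R)
        (_ : IsLocalization.AtPrime R q) (N : Type u) (_ : AddCommGroup N) (_ : Module Γ(Z, U.1) N)
        (_ : Module R N) (_ : IsScalarTower Γ(Z, U.1) R N) (g : Γ(H, U.1) →ₗ[Γ(Z, U.1)] N)
        (_ : IsLocalizedModule q.primeCompl g),
        LocCoh.HasSk 2 R N ∧ (∀ y ∈ nonZeroDivisors R, Function.Injective fun m : N => y • m) ∧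
          (Pi1.IsNormalScheme Z → IsDomain R ∧ IsIntegrallyClosed R) := by
    intro U q _
    let x : Z := U.2.fromSpec ⟨q, inferInstance⟩
    have hx : x ∈ U.1 := U.2.opensRange_fromSpec.le ⟨_, rfl⟩
    have hq : U.2.primeIdealOf ⟨x, hx⟩ = ⟨q, inferInstance⟩ :=
      U.2.fromSpec.isOpenEmbedding.injective (U.2.fromSpec_primeIdealOf ⟨x, hx⟩)
    letI := Groth.Agent.Lib.StalkLoc.Basic.moduleSections H hx
    letI := TopCat.Presheaf.algebra_section_stalk Z.presheaf ⟨x, hx⟩
    haveI := Groth.Agent.Lib.StalkLoc.Basic.isScalarTower_sections H hx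
    haveI h1 := U.2.isLocalization_stalk ⟨x, hx⟩
    haveI h2 := Groth.Agent.Lib.StalkLoc.Basic.isLocalizedModule_germ (M := H) U.2 hx
    simp only [hq] at h1 h2
    exact ⟨Z.presheaf.stalk x, inferInstance, inferInstance, inferInstance, inferInstance, h1,
      H.presheaf.stalk x, inferInstance, inferInstance, inferInstance, inferInstance,
      Groth.Agent.Lib.StalkLoc.Basic.germₗ H hx, h2, (hstalk x).1, (hstalk x).2, fun hN => hN x⟩
  have hfin : ∀ U : Z.affineOpens, Module.Finite Γ(Z, U.1) Γ(H, U.1) := fun U =>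
    haveI := hcoh.2
    Groth.Agent.Lib.CohBasics.Affine.finite_sections U.2
  have hsk : ∀ U : Z.affineOpens, LocCoh.HasSk 2 Γ(Z, U.1) Γ(H, U.1) := fun U q _ => by
    obtain ⟨R, _, _, _, _, _, N, _, _, _, _, g, _, hS, -, -⟩ := hmain U q
    haveI := hfin U
    haveI : Module.Finite R N := Module.Finite.of_isLocalizedModule q.primeCompl g
    obtain ⟨h1, h2⟩ := Groth.Agent.Lib.RightAdjCoh.StalkSk.invariants_eq q (L := R) g
    obtain ⟨h3, h4⟩ := Groth.Agent.Lib.EGA63.FiniteBase.localRing_eq (A := R) (M := N)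
    rw [← h1, ← h2, h3, h4]
    exact hS _
  have htors : ∀ U : Z.affineOpens, Submodule.torsion Γ(Z, U.1) Γ(H, U.1) = ⊥ := fun U => by
    refine (Submodule.eq_bot_iff _).2 fun m hm => ?_
    obtain ⟨⟨y, hy⟩, hym⟩ := (Submodule.mem_torsion_iff m).1 hm
    refine Module.eq_zero_of_localization_maximal (R := Γ(Z, U.1))
      (fun P _ => LocalizedModule P.primeCompl Γ(H, U.1))
      (fun P _ => LocalizedModule.mkLinearMap P.primeCompl Γ(H, U.1)) m fun P _ => ?_
    obtain ⟨R, _, _, _, _, _, N, _, _, _, _, g, _, -, hinj, -⟩ := hmain U P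
    have hyR : algebraMap Γ(Z, U.1) R y ∈ nonZeroDivisors R :=
      IsLocalization.map_nonZeroDivisors_le P.primeCompl R ⟨y, hy, rfl⟩
    have h1 : g m = 0 := hinj _ hyR (by
      show algebraMap Γ(Z, U.1) R y • g m = algebraMap Γ(Z, U.1) R y • (0 : N)
      rw [smul_zero, algebraMap_smul, ← map_smul]
      exact (congrArg g hym).trans (map_zero g))
    obtain ⟨s, hs⟩ := (IsLocalizedModule.eq_zero_iff P.primeCompl g).1 h1
    exact (IsLocalizedModule.eq_zero_iff P.primeCompl (LocalizedModule.mkLinearMap P.primeCompl _)).2 ⟨s, hs⟩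
  refine ⟨htors, hsk, fun hN U => ?_⟩
  show Module.IsReflexive Γ(Z, U.1) Γ(H, U.1)
  haveI : IsNoetherianRing Γ(Z, U.1) := IsLocallyNoetherian.component_noetherian U
  haveI := hfin U
  refine ⟨bijective_of_localized_maximal _ fun P _ => ?_⟩
  refine (Groth.Agent.Lib.EGA63.DepthTwo.bijective_map_eval_iff _ P).2 ?_
  obtain ⟨R, _, _, _, _, _, N, _, _, _, _, g, _, hS, hinj, hnorm⟩ := hmain U P
  obtain ⟨hd1, hd2⟩ := hnorm hN
  haveI : Module.Finite R N := Module.Finite.of_isLocalizedModule P.primeCompl g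
  haveI : Module.IsReflexive R N := Groth.Agent.Lib.RightAdjCoh.NormalRefl.isReflexive_of_torsionFree_S2 N
    (fun y hy => hinj y (mem_nonZeroDivisors_of_ne_zero hy)) hS
  let ε := (IsLocalization.algEquiv P.primeCompl R (Localization.AtPrime P))
  refine Groth.Agent.Lib.RefHull.ReflRestrict.isReflexive_of_semilinear ε.toRingEquiv
    (IsLocalizedModule.iso P.primeCompl g).symm.toAddEquiv fun a v => ?_
  obtain ⟨b, s, rfl⟩ := IsLocalization.exists_mk'_eq P.primeCompl a
  let ι := (IsLocalizedModule.iso P.primeCompl g).symm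
  show ι (IsLocalization.mk' R b s • v) = ε (IsLocalization.mk' R b s) • ι v
  have hu := IsLocalizedModule.map_units (LocalizedModule.mkLinearMap P.primeCompl Γ(H, U.1)) s
  rw [Module.End.isUnit_iff] at hu
  refine hu.1 ?_
  show (s : Γ(Z, U.1)) • ι (IsLocalization.mk' R b s • v) =
    (s : Γ(Z, U.1)) • (ε (IsLocalization.mk' R b s) • ι v)
  rw [← map_smul, ← algebraMap_smul R (s : Γ(Z, U.1)), smul_smul, IsLocalization.mk'_spec',
    algebraMap_smul, map_smul, ← algebraMap_smul (Localization.AtPrime P) (s : Γ(Z, U.1)), smul_smul,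
    ← ε.commutes (s : Γ(Z, U.1)), ← map_mul, IsLocalization.mk'_spec', ε.commutes, algebraMap_smul]

end Groth.Agent.S15721
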