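import Groth.Statements.S1573
import Groth.Agent.H26.Punctured
import Mathlib

set_option autoImplicit false
universe u
open CategoryTheory CategoryTheory.Limits AlgebraicGeometry
open Divisors

namespace Groth.Agent.S1573

/-- Let X be locally Noetherian and U an open subscheme whose inclusion is an affine morphism. At every
point ξ outside U which is maximal under generisation among points outside U, the local ring of X
has dimension at most one; if U is dense the dimension equals one. -/
theorem result (X : Scheme.{u}) [IsLocallyNoetherian X]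
    (U : X.Opens) [IsAffineHom U.ι] (ξ : X) (hξ : ξ ∉ U) (hgen : ∀ y : X, y ∉ U → y ⤳ ξ → y = ξ) :
    ringKrullDim (X.presheaf.stalk ξ) ≤ 1 ∧ (Dense (U : Set X) → ringKrullDim (X.presheaf.stalk ξ) = 1) := by
  let f := X.fromSpecStalk ξ
  have hpre : f ⁻¹ᵁ U = FEt.puncturedSpec (X.presheaf.stalk ξ) := by
    ext q
    show f q ∈ U ↔ q ≠ IsLocalRing.closedPoint _
    constructor
    · intro h hq
      subst hq
      rw [show f (IsLocalRing.closedPoint _) = ξ from Scheme.fromSpecStalk_closedPoint] at h
      exact hξ h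
    · intro hq
      by_contra h
      have hr : f q ⤳ ξ := by
        have : f q ∈ Set.range f := ⟨q, rfl⟩
        rwa [Scheme.range_fromSpecStalk] at this
      refine hq ((X.fromSpecStalk ξ).isEmbedding.injective ?_)
      exact (hgen _ h hr).trans Scheme.fromSpecStalk_closedPoint.symm
  haveI : IsAffine (pullback U.ι f) := isAffine_of_isAffineHom (pullback.snd U.ι f)
  have haff : IsAffineOpen (f ⁻¹ᵁ U) := by
    have h := isAffineOpen_opensRange (pullback.snd U.ι f)
    rwa [Scheme.Hom.opensRange_pullbackSnd, Scheme.Opens.opensRange_ι] at h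
  rw [hpre] at haff
  have h1 : ringKrullDim (X.presheaf.stalk ξ) ≤ 1 :=
    Groth.Agent.H26.Punctured.ringKrullDim_le_one_of_isAffineOpen (X.presheaf.stalk ξ) haff
  refine ⟨h1, fun hU => ?_⟩
  rcases eq_or_lt_of_le h1 with h | h
  · exact h
  exfalso
  have h0 : ringKrullDim (X.presheaf.stalk ξ) ≤ 0 := by
    revert h
    generalize ringKrullDim (X.presheaf.stalk ξ) = d
    intro h
    induction d using WithBot.recBotCoe with
    | bot => exact bot_le
    | coe a =>
      rw [← WithBot.coe_one, WithBot.coe_lt_coe] at h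
      rw [ENat.lt_one_iff_eq_zero.1 h]; exact le_rfl
  haveI : Ring.KrullDimLE 0 (X.presheaf.stalk ξ) := Ring.krullDimLE_iff.2 h0
  have hmin : ∀ y : X, y ⤳ ξ → y = ξ := fun y hy => by
    obtain ⟨q, rfl⟩ : y ∈ Set.range f := by rw [Scheme.range_fromSpecStalk]; exact hy
    rw [show q = IsLocalRing.closedPoint _ from Subsingleton.elim (α := PrimeSpectrum (X.presheaf.stalk ξ)) _ _]
    exact Scheme.fromSpecStalk_closedPoint
  obtain ⟨V, hV, hξV, -⟩ :=
    exists_isAffineOpen_mem_and_subset (X := X) (x := ξ) (U := ⊤) trivial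
  haveI : IsAffine (V : Scheme.{u}) := hV
  haveI : IsNoetherian (V : Scheme.{u}) := {}
  let ξ' : (V : Scheme.{u}) := ⟨ξ, hξV⟩
  have hcomp : closure {ξ'} ∈ irreducibleComponents (V : Scheme.{u}) := by
    refine ⟨isIrreducible_singleton.closure, fun W hW hsub => ?_⟩
    obtain ⟨η, hη⟩ := QuasiSober.sober hW.closure isClosed_closure
    have h2 : η ⤳ ξ' := hη.specializes (subset_closure (hsub (subset_closure rfl)))
    have h3 : η = ξ' := Subtype.ext (hmin _ (h2.map continuous_subtype_val))
    rw [← h3, hη.def]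
    exact subset_closure
  obtain ⟨o, ho, ⟨y, hy⟩, hoZ⟩ :=
    TopologicalSpace.NoetherianSpace.exists_isOpen_nonempty_subset_irreducibleComponent _ hcomp
  obtain ⟨_, hzU, ⟨z, hz, rfl⟩⟩ :=
    hU.exists_mem_open (V.2.isOpenMap_subtype_val o ho) ⟨_, y, hy, rfl⟩
  have hs : (ξ' : (V : Scheme.{u})) ⤳ z := specializes_iff_mem_closure.2 (hoZ hz)
  exact hξ ((hs.map continuous_subtype_val).mem_open U.2 hzU)

end Groth.Agent.S1573
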