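import Groth.Statements.S15738
import Groth.Agent.Lib.InvHilb.Mono

set_option autoImplicit false
universe u
open W4c2invhilbsl2
open Groth.Agent.Lib.InvHilb

namespace Groth.Agent.S15738

/-- Let k be a field and m ≥ 1; for a monomial X₀^d₀X₁^d₁X₂^d₂ of the polynomial ring in X₀, X₁, X₂ (X₂
standing for Xⱼ, j = 3 or 4, of the five-variable ring) put n = d₀ − p·d₁ + q·d₂ (its weight for the
torus diag(t, t^(−p), t^q)), c = d₁ − d₂ and ω = p·d₁ − q·d₂, so that d₀ = n + ω; here 0 < p < q are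
coprime integers. Take two monomials X₀^d₀X₁^d₁X₂^d₂ and X₀^e₀X₁^e₁X₂^e₂ with the same n and with
values c, c' of c congruent modulo m (so both lie in the same ℤ × ℤ/m-weight piece for the weights
(1,0), (−p,−1), (q,1)). Then: (i) if c = c', the difference of the two monomials lies in the
principal ideal (X₀^(q−p) − X₁X₂); (ii) if c' < c, the monomial X₀^d₀X₁^d₁X₂^d₂ lies in the ideal
(X₀^(q−p) − X₁X₂, X₀^(mp)X₁^m); (iii) in all cases the difference lies in the ideal (X₀^(q−p) −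
X₁X₂, 1 − X₀^(mp)X₁^m). -/
theorem result (k : Type u) [Field k] (p q m : ℕ) (hp : 0 < p) (hpq : p < q) (hcop : Nat.Coprime p q) (hm : 0 < m)
    (d0 d1 d2 e0 e1 e2 : ℕ) (hn : (e0 : ℤ) - (p : ℤ) * e1 + (q : ℤ) * e2 = (d0 : ℤ) - (p : ℤ) * d1 + (q : ℤ) * d2)
    (hc : (m : ℤ) ∣ ((d1 : ℤ) - d2) - ((e1 : ℤ) - e2)) :
    ((d1 : ℤ) - d2 = (e1 : ℤ) - e2 →
      (MvPolynomial.X (0 : Fin 3) ^ d0 * MvPolynomial.X (1 : Fin 3) ^ d1 * MvPolynomial.X (2 : Fin 3) ^ d2 - MvPolynomial.X (0 : Fin 3) ^ e0 * MvPolynomial.X (1 : Fin 3) ^ e1 * MvPolynomial.X (2 : Fin 3) ^ e2 : MvPolynomial (Fin 3) k) ∈ Ideal.span {MvPolynomial.X (0 : Fin 3) ^ (q - p) - MvPolynomial.X (1 : Fin 3) * MvPolynomial.X (2 : Fin 3)}) ∧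
    ((e1 : ℤ) - e2 < (d1 : ℤ) - d2 →
      (MvPolynomial.X (0 : Fin 3) ^ d0 * MvPolynomial.X (1 : Fin 3) ^ d1 * MvPolynomial.X (2 : Fin 3) ^ d2 : MvPolynomial (Fin 3) k) ∈ Ideal.span {MvPolynomial.X (0 : Fin 3) ^ (q - p) - MvPolynomial.X (1 : Fin 3) * MvPolynomial.X (2 : Fin 3), MvPolynomial.X (0 : Fin 3) ^ (m * p) * MvPolynomial.X (1 : Fin 3) ^ m}) ∧
    ((MvPolynomial.X (0 : Fin 3) ^ d0 * MvPolynomial.X (1 : Fin 3) ^ d1 * MvPolynomial.X (2 : Fin 3) ^ d2 - MvPolynomial.X (0 : Fin 3) ^ e0 * MvPolynomial.X (1 : Fin 3) ^ e1 * MvPolynomial.X (2 : Fin 3) ^ e2 : MvPolynomial (Fin 3) k) ∈ Ideal.span {MvPolynomial.X (0 : Fin 3) ^ (q - p) - MvPolynomial.X (1 : Fin 3) * MvPolynomial.X (2 : Fin 3), 1 - MvPolynomial.X (0 : Fin 3) ^ (m * p) * MvPolynomial.X (1 : Fin 3) ^ m}) := by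
  set A : MvPolynomial (Fin 3) k :=
    MvPolynomial.X (0 : Fin 3) ^ (q - p) - MvPolynomial.X (1 : Fin 3) * MvPolynomial.X (2 : Fin 3)
  set U : MvPolynomial (Fin 3) k :=
    MvPolynomial.X (0 : Fin 3) ^ (m * p) * MvPolynomial.X (1 : Fin 3) ^ m
  obtain ⟨j, hj⟩ := hc
  refine ⟨fun h => ?_, fun h => ?_, ?_⟩
  · rw [← Ideal.Quotient.eq]
    set π := Ideal.Quotient.mk (Ideal.span {A})
    have hA : π A = 0 := Ideal.Quotient.eq_zero_iff_mem.2 (Ideal.subset_span (by simp))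
    simp only [A, map_sub, map_mul, map_pow, sub_eq_zero] at hA ⊢
    simpa using pow_mul_eq _ _ _ (1 : MvPolynomial (Fin 3) k ⧸ Ideal.span {A}) p q m hp hpq hA 0
      (Or.inl rfl) d0 d1 d2 e0 e1 e2 hn (by simpa using h)
  · rw [← Ideal.Quotient.eq_zero_iff_mem]
    set π := Ideal.Quotient.mk (Ideal.span {A, U})
    have hA : π A = 0 := Ideal.Quotient.eq_zero_iff_mem.2 (Ideal.subset_span (by simp))
    have hU : π U = 0 := Ideal.Quotient.eq_zero_iff_mem.2 (Ideal.subset_span (by simp))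
    simp only [A, U, map_sub, map_mul, map_pow, sub_eq_zero] at hA hU ⊢
    have hj0 : 0 < j := by
      by_contra hj0
      have := mul_nonpos_of_nonneg_of_nonpos (Int.natCast_nonneg m) (not_lt.1 hj0)
      linarith
    obtain ⟨i, rfl⟩ := Int.eq_ofNat_of_zero_le hj0.le
    rw [pow_mul_eq _ _ _ (0 : MvPolynomial (Fin 3) k ⧸ Ideal.span {A, U}) p q m hp hpq hA i
      (Or.inr hU) d0 d1 d2 e0 e1 e2 hn (by linarith)]
    rw [zero_pow (by omega), zero_mul]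
  · rw [← Ideal.Quotient.eq]
    set π := Ideal.Quotient.mk (Ideal.span {A, 1 - U})
    have hA : π A = 0 := Ideal.Quotient.eq_zero_iff_mem.2 (Ideal.subset_span (by simp))
    have hU : π (1 - U) = 0 := Ideal.Quotient.eq_zero_iff_mem.2 (Ideal.subset_span (by simp))
    simp only [A, U, map_sub, map_mul, map_pow, map_one, sub_eq_zero] at hA hU ⊢
    rcases Int.le_total 0 j with hj0 | hj0
    · obtain ⟨i, rfl⟩ := Int.eq_ofNat_of_zero_le hj0
      rw [pow_mul_eq _ _ _ (1 : MvPolynomial (Fin 3) k ⧸ Ideal.span {A, 1 - U}) p q m hp hpq hA i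
        (Or.inr hU.symm) d0 d1 d2 e0 e1 e2 hn (by linarith), one_pow, one_mul]
    · obtain ⟨i, hi⟩ := Int.eq_ofNat_of_zero_le (neg_nonneg.2 hj0)
      rw [pow_mul_eq _ _ _ (1 : MvPolynomial (Fin 3) k ⧸ Ideal.span {A, 1 - U}) p q m hp hpq hA i
        (Or.inr hU.symm) e0 e1 e2 d0 d1 d2 hn.symm (by rw [← hi, mul_neg, ← hj]; ring), one_pow, one_mul]

end Groth.Agent.S15738
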