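import Groth.Statements.S15739
import Groth.Agent.Lib.InvHilb.Mono

set_option autoImplicit false
universe u
open W4c2invhilbsl2
open Groth.Agent.Lib.InvHilb

namespace Groth.Agent.S15739

/-- Let k be a field and m ≥ 1, put g = gcd(m, q−p), a = m/g and b = (q−p)/g; for a monomial
X₀^d₀X₁^d₁X₂^d₂ of the polynomial ring in X₀, X₁, X₂ (X₂ standing for Xⱼ, j = 3 or 4, of the
five-variable ring) put n = d₀ − p·d₁ + q·d₂ (its weight for the torus diag(t, t^(−p), t^q)), c = d₁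
− d₂ and ω = p·d₁ − q·d₂, so that d₀ = n + ω; here 0 < p < q are coprime integers. Take two
monomials X₀^d₀X₁^d₁X₂^d₂ and X₀^e₀X₁^e₁X₂^e₂ with the same n, where 0 ≤ n < q − p, whose values c
and c' of c are both divisible by m, and with d₀ < g and e₀ < g (so each has the least ω for its
pair (n, c), as g ≤ q − p). Then: (i) d₀ = e₀, i.e. the two values of ω agree, and m·b divides c −
c'; (ii) if c < c', then X₀^e₀X₁^e₁X₂^e₂ is a multiple of X₀^d₀X₁^d₁X₂^d₂ · X₁^(aq)X₂^(ap); (iii)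
the difference of the two monomials lies in the principal ideal (1 − X₁^(aq)X₂^(ap)). -/
theorem result (k : Type u) [Field k] (p q m : ℕ) (hp : 0 < p) (hpq : p < q) (hcop : Nat.Coprime p q) (hm : 0 < m)
    (d0 d1 d2 e0 e1 e2 : ℕ) (hn : (e0 : ℤ) - (p : ℤ) * e1 + (q : ℤ) * e2 = (d0 : ℤ) - (p : ℤ) * d1 + (q : ℤ) * d2)
    (hn0 : 0 ≤ (d0 : ℤ) - (p : ℤ) * d1 + (q : ℤ) * d2) (hnq : (d0 : ℤ) - (p : ℤ) * d1 + (q : ℤ) * d2 < (q : ℤ) - p)
    (hcd : (m : ℤ) ∣ (d1 : ℤ) - d2) (hce : (m : ℤ) ∣ (e1 : ℤ) - e2)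
    (hd0 : d0 < Nat.gcd m (q - p)) (he0 : e0 < Nat.gcd m (q - p)) :
    (d0 = e0 ∧ ((m : ℤ) * ((q - p) / Nat.gcd m (q - p) : ℕ)) ∣ ((d1 : ℤ) - d2) - ((e1 : ℤ) - e2)) ∧
    ((d1 : ℤ) - d2 < (e1 : ℤ) - e2 →
      (MvPolynomial.X (0 : Fin 3) ^ d0 * MvPolynomial.X (1 : Fin 3) ^ d1 * MvPolynomial.X (2 : Fin 3) ^ d2 * (MvPolynomial.X (1 : Fin 3) ^ (m / Nat.gcd m (q - p) * q) * MvPolynomial.X (2 : Fin 3) ^ (m / Nat.gcd m (q - p) * p)) : MvPolynomial (Fin 3) k) ∣ MvPolynomial.X (0 : Fin 3) ^ e0 * MvPolynomial.X (1 : Fin 3) ^ e1 * MvPolynomial.X (2 : Fin 3) ^ e2) ∧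
    ((MvPolynomial.X (0 : Fin 3) ^ e0 * MvPolynomial.X (1 : Fin 3) ^ e1 * MvPolynomial.X (2 : Fin 3) ^ e2 - MvPolynomial.X (0 : Fin 3) ^ d0 * MvPolynomial.X (1 : Fin 3) ^ d1 * MvPolynomial.X (2 : Fin 3) ^ d2 : MvPolynomial (Fin 3) k) ∈
      Ideal.span {(1 : MvPolynomial (Fin 3) k) - MvPolynomial.X (1 : Fin 3) ^ (m / Nat.gcd m (q - p) * q) * MvPolynomial.X (2 : Fin 3) ^ (m / Nat.gcd m (q - p) * p)}) := by
  obtain ⟨h0, i, h1, h2⟩ := exists_shift p q m hp hpq hcop hm d0 d1 d2 e0 e1 e2 hn (dvd_sub hcd hce) hd0 he0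
  subst h0
  set a := m / Nat.gcd m (q - p) with ha
  have hab : (m : ℤ) * ((q - p) / Nat.gcd m (q - p) : ℕ) = (a : ℤ) * ((q : ℤ) - p) := by
    rw [← Nat.cast_sub hpq.le, ← Nat.cast_mul, ← Nat.cast_mul, Nat.cast_inj, ha,
      ← Nat.mul_div_assoc _ (Nat.gcd_dvd_right _ _), Nat.div_mul_right_comm (Nat.gcd_dvd_left _ _)]
  refine ⟨⟨rfl, -i, ?_⟩, fun hlt => ?_, ?_⟩
  · rw [hab, h1, h2]; push_cast; ring
  · have hi : 0 < i := by
      by_contra hi
      rw [h1, h2] at hlt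
      push_cast at hlt
      have := mul_nonpos_of_nonneg_of_nonpos (show (0 : ℤ) ≤ (a : ℤ) * ((q : ℤ) - p) from
        mul_nonneg (Int.natCast_nonneg a) (by omega)) (not_lt.1 hi)
      linarith
    obtain ⟨t, rfl⟩ : ∃ t : ℕ, i = (t : ℤ) + 1 := ⟨(i - 1).toNat, by omega⟩
    have e1' : e1 = d1 + a * q + a * q * t := by
      zify; rw [h1]; push_cast; ring
    have e2' : e2 = d2 + a * p + a * p * t := by
      zify; rw [h2]; push_cast; ring
    refine ⟨MvPolynomial.X (1 : Fin 3) ^ (a * q * t) * MvPolynomial.X (2 : Fin 3) ^ (a * p * t), ?_⟩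
    rw [e1', e2']
    ring
  · rw [← Ideal.Quotient.eq]
    set T : MvPolynomial (Fin 3) k :=
      MvPolynomial.X (1 : Fin 3) ^ (a * q) * MvPolynomial.X (2 : Fin 3) ^ (a * p)
    set π := Ideal.Quotient.mk (Ideal.span {1 - T})
    have hT : π (1 - T) = 0 := Ideal.Quotient.eq_zero_iff_mem.2 (Ideal.subset_span (by simp))
    simp only [T, map_sub, map_mul, map_pow, map_one, sub_eq_zero] at hT ⊢
    rcases Int.le_total 0 i with hi | hi
    · obtain ⟨t, rfl⟩ := Int.eq_ofNat_of_zero_le hi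
      rw [show e1 = d1 + a * q * t by exact_mod_cast h1, show e2 = d2 + a * p * t by exact_mod_cast h2,
        pow_add, pow_add, pow_mul _ (a * q) t, pow_mul _ (a * p) t, mul_assoc, mul_mul_mul_comm, ← mul_pow, ← hT,
        one_pow, mul_one, mul_assoc]
    · obtain ⟨t, ht⟩ := Int.eq_ofNat_of_zero_le (neg_nonneg.2 hi)
      obtain rfl : i = -(t : ℤ) := by omega
      rw [show d1 = e1 + a * q * t by zify; rw [h1]; push_cast; ring,
        show d2 = e2 + a * p * t by zify; rw [h2]; push_cast; ring,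
        pow_add, pow_add, pow_mul _ (a * q) t, pow_mul _ (a * p) t, mul_assoc, mul_assoc, mul_mul_mul_comm, ← mul_pow, ← hT,
        one_pow, mul_one]

end Groth.Agent.S15739
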