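import Groth.Statements.S15746
import Groth.Agent.Lib.ZarH1Units.Pic

set_option autoImplicit false
universe u
open CategoryTheory AlgebraicGeometry
open PicGrp

namespace Groth.Agent.S15746

/-- Let `X` be a scheme, and assume the Picard group law on `X` (isomorphism classes of invertible
`O_X`-modules under tensor product). Then the Picard group of `X`, written additively, is isomorphic
as a group to `H¹(X, O_X^×)`, the first cohomology group of the abelian sheaf of units on the
underlying topological space of `X`. (Existence of a group isomorphism only: the isomorphism sending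
the class of an invertible module to the class of its torsor of local generators is not named here.
The published statement is for any ringed space all of whose stalks are local rings; this row is its
case of a scheme.) -/
theorem result (X : Scheme.{u}) [PicGrp.Law X] :
    Nonempty (Additive (PicLoc.PicSet X) ≃+ CohTop.H (UnitsSh.unitsAb X) 1) := by
  open Groth.Agent.Lib.ZarH1Units.Pic in
  have key : ∀ a : PicLoc.PicSet X, ∃ c : CohTop.H (UnitsSh.unitsAb X) 1,
      ∀ (L : X.Modules) (hL : PicF.IsInvertible L), a = cls L hL → Rel c L := by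
    intro a
    obtain ⟨L₀, hL₀, rfl⟩ := exists_eq_cls a
    obtain ⟨c, hc⟩ := exists_rel' hL₀
    refine ⟨c, fun L hL he => ?_⟩
    obtain ⟨c', hc'⟩ := exists_rel' hL
    rwa [(hc.eq_iff hc').2 ((cls_eq_cls_iff hL₀ hL).1 he)]
  choose f hf using key
  have hadd : ∀ a b : PicLoc.PicSet X, f (a * b) = f a + f b := by
    intro a b
    obtain ⟨L, hL, rfl⟩ := exists_eq_cls a
    obtain ⟨M, hM, rfl⟩ := exists_eq_cls b
    obtain ⟨N, hN, he⟩ := exists_eq_cls (cls L hL * cls M hM)
    refine ((hf _ N hN he).eq_iff ((hf _ L hL rfl).add (hf _ M hM rfl))).2 ?_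
    refine (cl_eq_cl_iff _ _).1 ?_
    rw [← cls_val N hN, ← he, mul_val]
    rfl
  refine ⟨AddEquiv.ofBijective (AddMonoidHom.mk' (fun a => f (Additive.toMul a))
    fun a b => hadd _ _) ⟨fun a b hab => ?_, fun c => ?_⟩⟩
  · change f (Additive.toMul a) = f (Additive.toMul b) at hab
    obtain ⟨L, hL, ha⟩ := exists_eq_cls (Additive.toMul a)
    obtain ⟨M, hM, hb⟩ := exists_eq_cls (Additive.toMul b)
    refine Additive.toMul.injective ?_
    rw [ha, hb]
    exact (cls_eq_cls_iff hL hM).2 (((hf _ L hL ha).eq_iff (hf _ M hM hb)).1 hab)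
  · obtain ⟨L, hL⟩ := Groth.Agent.Lib.ZarH1Units.Pic.exists_rel c
    refine ⟨Additive.ofMul (cls L hL.isInvertible), ?_⟩
    exact ((hf _ L hL.isInvertible rfl).eq_iff hL).2 ⟨Iso.refl _⟩

end Groth.Agent.S15746
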