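import Groth.Statements.S15749
import Mathlib.RingTheory.LaurentSeries
import Mathlib.RingTheory.Idempotents
import Mathlib.RingTheory.Nilpotent.Lemmas
import Mathlib.RingTheory.Ideal.Quotient.Operations

set_option autoImplicit false
universe u
open CAlg

namespace Groth.Agent.S15749

noncomputable def mapHom {A B : Type u} [CommRing A] [CommRing B] (f : A →+* B) :
    LaurentSeries A →+* LaurentSeries B where
  toFun x := x.map f
  map_one' := by
    ext a; by_cases h : a = 0 <;> simp [h, HahnSeries.coeff_one]
  map_zero' := by ext; simp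
  map_add' x y := by ext; simp
  map_mul' x y := HahnSeries.map_mul (f : A →ₙ+* B)

theorem mapHom_coeff {A B : Type u} [CommRing A] [CommRing B] (f : A →+* B) (x : LaurentSeries A)
    (n : ℤ) : (mapHom f x).coeff n = f (x.coeff n) := rfl

theorem coeff_isNilpotent {A : Type u} [CommRing A] {x : LaurentSeries A} (n : ℤ)
    (h : ∀ P : Ideal A, P.IsPrime → mapHom (Ideal.Quotient.mk P) x = 0) :
    IsNilpotent (x.coeff n) := by
  rw [← mem_nilradical, nilradical_eq_sInf, Ideal.mem_sInf]
  intro P hP
  rw [← Ideal.Quotient.eq_zero_iff_mem]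
  have := congrArg (fun z : LaurentSeries (A ⧸ P) => z.coeff n) (h P hP)
  simpa [mapHom_coeff] using this

/-- For an arbitrary commutative ring R, every idempotent of the ring of formal Laurent series R((t)) is
the constant series attached to a unique idempotent of R. Equivalently, the structure map R → R((t))
induces a bijection on idempotents, so that the spectrum of R((t)) is connected if and only if the
spectrum of R is. No reducedness is assumed. -/
theorem result (R : Type u) [CommRing R]
    (e : LaurentSeries R) (he : IsIdempotentElem e) :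
    ∃! r : R, IsIdempotentElem r ∧ HahnSeries.C r = e := by
  classical
  let r0 := e.coeff 0
  have hmod : ∀ P : Ideal R, P.IsPrime →
      mapHom (Ideal.Quotient.mk P) (e - HahnSeries.C r0) = 0 := fun P hP => by
    haveI : P.IsPrime := hP
    haveI := Ideal.Quotient.isDomain P
    have h2 : IsIdempotentElem (mapHom (Ideal.Quotient.mk P) e) := he.map _
    have hC : mapHom (Ideal.Quotient.mk P) (HahnSeries.C r0) =
        HahnSeries.C (Ideal.Quotient.mk P r0) := HahnSeries.map_C r0 _
    have hr : Ideal.Quotient.mk P r0 = (mapHom (Ideal.Quotient.mk P) e).coeff 0 := rfl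
    rcases (mul_eq_zero.mp (show mapHom (Ideal.Quotient.mk P) e * (mapHom (Ideal.Quotient.mk P) e - 1) = 0 by rw [mul_sub, h2.eq, mul_one, sub_self])).imp_right sub_eq_zero.mp with h | h <;>
      rw [map_sub, hC, hr, h] <;> simp
  have hr0 : IsNilpotent (r0 * r0 - r0) := by
    rw [← mem_nilradical, nilradical_eq_sInf, Ideal.mem_sInf]
    intro P hP
    rw [← Ideal.Quotient.eq_zero_iff_mem, map_sub, map_mul]
    haveI : P.IsPrime := hP
    haveI := Ideal.Quotient.isDomain P
    have h2 : IsIdempotentElem (mapHom (Ideal.Quotient.mk P) e) := he.map _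
    have hr : Ideal.Quotient.mk P r0 = (mapHom (Ideal.Quotient.mk P) e).coeff 0 := rfl
    rcases (mul_eq_zero.mp (show mapHom (Ideal.Quotient.mk P) e * (mapHom (Ideal.Quotient.mk P) e - 1) = 0 by rw [mul_sub, h2.eq, mul_one, sub_self])).imp_right sub_eq_zero.mp with h | h <;> rw [hr, h] <;> simp
  obtain ⟨r, hr, hrq⟩ := exists_isIdempotentElem_eq_of_ker_isNilpotent
    (Ideal.Quotient.mk (nilradical R)) (fun x hx => by
      rw [Ideal.mk_ker] at hx; exact mem_nilradical.mp hx)
    (Ideal.Quotient.mk (nilradical R) r0) (by exact ⟨r0, rfl⟩)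
    (by
      rw [IsIdempotentElem, ← map_mul, Ideal.Quotient.eq]
      exact mem_nilradical.mpr hr0)
  rw [Ideal.Quotient.eq, mem_nilradical] at hrq
  let C' : R →+* LaurentSeries R := HahnSeries.C
  let d := e - C' r
  have hd : ∀ n, IsNilpotent (d.coeff n) := fun n => coeff_isNilpotent n fun P hP => by
    have h0 : Ideal.Quotient.mk P r = Ideal.Quotient.mk P r0 := Ideal.Quotient.eq.mpr
      (hP.mem_of_pow_mem _ (hrq.choose_spec ▸ P.zero_mem))
    have hC : ∀ a, mapHom (Ideal.Quotient.mk P) (C' a) =
        HahnSeries.C (Ideal.Quotient.mk P a) := fun a => HahnSeries.map_C a _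
    rw [map_sub, hC, h0, ← hC, ← map_sub]
    exact hmod P hP
  have hCr : C' r * C' r = C' r := hr.map C'
  have hd3 : d * d * d = d := by
    have hee : e * e = e := he
    linear_combination (e - 3 * C' r + 1) * hee + (3 * e - C' r - 1) * hCr
  let f := d * d
  have hff : f * f = f := by
    show d * d * (d * d) = d * d
    linear_combination d * hd3
  have hfn : ∀ n, IsNilpotent (f.coeff n) := fun n => coeff_isNilpotent n fun P hP => by
    have h1 : mapHom (Ideal.Quotient.mk P) d = 0 := by
      ext m
      simpa [mapHom_coeff, Ideal.Quotient.eq_zero_iff_mem] using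
        hP.mem_of_pow_mem _ ((hd m).choose_spec ▸ P.zero_mem)
    rw [map_mul, h1, zero_mul]
  have hf : f = 0 := by
    let N : Set ℤ := {n | n ≤ 0 ∧ f.coeff n ≠ 0}
    have hN : N.Finite := by
      refine (Set.finite_Icc f.order 0).subset fun n hn => ⟨?_, hn.1⟩
      exact HahnSeries.order_le_of_coeff_ne_zero hn.2
    let J : Ideal R := Ideal.span ((hN.toFinset.image fun n => f.coeff n : Finset R) : Set R)
    have hJ : J ≤ nilradical R := Ideal.span_le.mpr fun z hz => by
      obtain ⟨n, -, rfl⟩ := Finset.mem_image.mp hz
      exact mem_nilradical.mpr (hfn n)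
    obtain ⟨k, hk⟩ := Ideal.exists_pow_le_of_le_radical_of_fg
      (I := J) (J := (⊥ : Ideal R)) hJ ⟨_, rfl⟩
    have hmem : ∀ n, f.coeff n ∈ J := by
      have h0 : mapHom (Ideal.Quotient.mk J) f = 0 := by
        set g := mapHom (Ideal.Quotient.mk J) f with hg
        have hgg : g * g = g := by rw [hg, ← map_mul, hff]
        have hneg : ∀ n ≤ 0, g.coeff n = 0 := fun n hn => by
          by_cases h : f.coeff n = 0
          · simp [hg, mapHom_coeff, h]
          · simp only [hg, mapHom_coeff]
            refine Ideal.Quotient.eq_zero_iff_mem.mpr (Ideal.subset_span ?_)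
            exact Finset.mem_coe.mpr (Finset.mem_image_of_mem _ (hN.mem_toFinset.mpr ⟨hn, h⟩))
        by_contra hne
        have hord : 0 < g.order := by
          by_contra hle
          exact HahnSeries.coeff_order_eq_zero.not.mpr hne (hneg _ (not_lt.mp hle))
        have h2 : (g * g).coeff g.order = 0 := by
          rw [HahnSeries.coeff_mul]
          refine Finset.sum_eq_zero fun ij hij => ?_
          simp only [Finset.mem_addAntidiagonal, HahnSeries.mem_support] at hij
          have := HahnSeries.order_le_of_coeff_ne_zero hij.1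
          have := HahnSeries.order_le_of_coeff_ne_zero hij.2.1
          omega
        rw [hgg] at h2
        exact HahnSeries.coeff_order_eq_zero.not.mpr hne h2
      intro n
      rw [← Ideal.Quotient.eq_zero_iff_mem]
      simpa [mapHom_coeff] using congrArg (fun z : LaurentSeries (R ⧸ J) => z.coeff n) h0
    have hpow : ∀ m n, f.coeff n ∈ J ^ (m + 1) := by
      intro m
      induction m with
      | zero => intro n; rw [zero_add, pow_one]; exact hmem n
      | succ m ih =>
        intro n
        rw [← hff, HahnSeries.coeff_mul]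
        refine Ideal.sum_mem _ fun ij _ => ?_
        rw [pow_succ]
        exact Ideal.mul_mem_mul (ih _) (hmem _)
    ext n
    exact Ideal.mem_bot.mp (hk (Ideal.pow_le_pow_right (Nat.le_succ k) (hpow k n)))
  have hd0 : d = 0 := by rw [← hd3, show d * d * d = f * d from rfl, hf, zero_mul]
  refine ⟨r, ⟨hr, (sub_eq_zero.mp hd0).symm⟩, fun r' ⟨_, h⟩ => HahnSeries.C_injective (Γ := ℤ) ?_⟩
  exact h.trans (sub_eq_zero.mp hd0)

end Groth.Agent.S15749
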