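import Groth.Statements.S1575
import Groth.Agent.H30.LocZ.DepthStalk
import Groth.Agent.H30.LocZ.LES
import Groth.Agent.Lib.SiteCoh.Basic

set_option autoImplicit false
universe u
open CategoryTheory CategoryTheory.Limits AlgebraicGeometry
open Divisors

namespace Groth.Agent.S1575

/-- Let X be locally Noetherian, F coherent, and U open such that at every point outside U the stalk of
F has depth at least two over the local ring. Then F → j_*(F|_U) is an isomorphism: for every open
V, restriction of sections Γ(V, F) → Γ(V ∩ U, F) is a bijection. -/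
theorem result (X : Scheme.{u}) [IsLocallyNoetherian X]
    (F : X.Modules) (hF : Coh.IsCoh F) (U : X.Opens)
    (hdepth : ∀ x : X, x ∉ U → 2 ≤ LocCoh.depth (X.presheaf.stalk x) (F.presheaf.stalk x)) (V : X.Opens) :
    Function.Bijective (F.val.presheaf.map (homOfLE (inf_le_left : V ⊓ U ≤ V)).op) := by
  open Groth.Agent.H30.LocZ in
  have h0 := (DepthStalk.isZero_HZsh_below_iff U hF 2).2 fun x hx => by exact_mod_cast hdepth x hx
  have h1 := (Groth.Agent.H30.LocZ.Vanish.isZero_HZsh_iff (X := X.carrier) U (Coh.toAb F) 2).1 h0 V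
  have h2 := ((Groth.Agent.H30.LocZ.LES.subsingleton_HZ_le_iff (F := Coh.toAb F)
    (inf_le_left : V ⊓ U ≤ V) 1).1 fun i hi => h1 i (by omega)).1 0 Nat.zero_lt_one
  have e : ∀ x : CohTop.HU (Coh.toAb F) 0 V,
      Groth.Agent.Lib.SiteCoh.Basic.ext0Equiv (Coh.toAb F) (V ⊓ U)
        (CohTop.res (Coh.toAb F) 0 (inf_le_left : V ⊓ U ≤ V) x) =
      (Coh.toAb F).obj.map (homOfLE (inf_le_left : V ⊓ U ≤ V)).op
        (Groth.Agent.Lib.SiteCoh.Basic.ext0Equiv (Coh.toAb F) V x) := fun x =>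
    Groth.Agent.Lib.SiteCoh.Basic.ext0Equiv_mk₀_comp (Coh.toAb F) _ x
  have h3 : Function.Bijective ((Coh.toAb F).obj.map (homOfLE (inf_le_left : V ⊓ U ≤ V)).op) := by
    constructor
    · intro a b hab
      obtain ⟨a, rfl⟩ := (Groth.Agent.Lib.SiteCoh.Basic.ext0Equiv (Coh.toAb F) V).surjective a
      obtain ⟨b, rfl⟩ := (Groth.Agent.Lib.SiteCoh.Basic.ext0Equiv (Coh.toAb F) V).surjective b
      erw [← e, ← e] at hab
      rw [h2.1 ((Groth.Agent.Lib.SiteCoh.Basic.ext0Equiv _ _).injective hab)]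
    · intro y
      obtain ⟨y, rfl⟩ := (Groth.Agent.Lib.SiteCoh.Basic.ext0Equiv (Coh.toAb F) (V ⊓ U)).surjective y
      obtain ⟨x, rfl⟩ := h2.2 y
      exact ⟨_, (e x).symm⟩
  exact h3

end Groth.Agent.S1575
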