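import Groth.Statements.S15750
import Mathlib.RingTheory.LaurentSeries
import Mathlib.RingTheory.Ideal.Quotient.Operations
import Mathlib.RingTheory.Spectrum.Prime.Topology
import Mathlib.RingTheory.PowerSeries.Inverse

set_option autoImplicit false
universe u
open CAlg

namespace Groth.Agent.S15750

noncomputable def mapHom {A B : Type u} [CommRing A] [CommRing B] (f : A →+* B) :
    LaurentSeries A →+* LaurentSeries B where
  toFun x := x.map f
  map_one' := by
    ext a; by_cases h : a = 0 <;> simp [h, HahnSeries.coeff_one]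
  map_zero' := by ext; simp
  map_add' x y := by ext; simp
  map_mul' x y := HahnSeries.map_mul (f : A →ₙ+* B)

theorem mapHom_coeff {A B : Type u} [CommRing A] [CommRing B] (f : A →+* B) (x : LaurentSeries A)
    (n : ℤ) : (mapHom f x).coeff n = f (x.coeff n) := rfl

theorem ofPowerSeries_coeff_neg {A : Type u} [CommRing A] (u : PowerSeries A) {i : ℤ} (hi : i < 0) :
    (HahnSeries.ofPowerSeries ℤ A u).coeff i = 0 := by
  rw [HahnSeries.ofPowerSeries_apply]
  refine HahnSeries.embDomain_notin_range ?_
  rintro ⟨k, hk⟩
  change (k : ℤ) = i at hk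
  omega

/-- Let R be a nonzero reduced commutative ring with no idempotents other than 0 and 1. Then every unit
of the Laurent series ring R((t)) is t^n · u for a unique integer n and a unique unit u of the power
series ring R[[t]]. (The published statement is for an arbitrary torus T over a reduced ring R, with
n replaced by a locally constant integer-valued function on Spec R, i.e. a point of the cocharacter
lattice; this row is the case where T is the multiplicative group and Spec R is connected, to which
the published proof reduces.) -/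
theorem result (R : Type u) [CommRing R]
    [IsReduced R] [Nontrivial R] (hconn : ∀ e : R, IsIdempotentElem e → e = 0 ∨ e = 1)
    (f : (LaurentSeries R)ˣ) :
    ∃! p : ℤ × (PowerSeries R)ˣ,
      (f : LaurentSeries R) = HahnSeries.single p.1 (1 : R) * HahnSeries.ofPowerSeries ℤ R (p.2 : PowerSeries R) := by
  classical
  let g : LaurentSeries R := ↑f⁻¹
  have hfg : (f : LaurentSeries R) * g = 1 := f.mul_inv
  let U : ℤ → Set (PrimeSpectrum R) := fun n =>
    PrimeSpectrum.basicOpen ((f : LaurentSeries R).coeff n * g.coeff (-n))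
  have hloc : ∀ p : PrimeSpectrum R, ∃ n : ℤ, p ∈ U n ∧
      (∀ m < n, (f : LaurentSeries R).coeff m ∈ p.asIdeal) ∧ ∀ m, p ∈ U m → m = n := by
    intro p
    haveI := Ideal.Quotient.isDomain p.asIdeal
    let π := Ideal.Quotient.mk p.asIdeal
    let F := mapHom π (f : LaurentSeries R)
    let G := mapHom π g
    have hFG : F * G = 1 := by rw [← map_mul, hfg, map_one]
    have hF : F ≠ 0 := left_ne_zero_of_mul_eq_one hFG
    have hG : G ≠ 0 := right_ne_zero_of_mul_eq_one hFG
    have hord : F.order + G.order = 0 := by
      rw [← HahnSeries.order_mul hF hG, hFG, HahnSeries.order_one]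
    have hmem : ∀ m, (f : LaurentSeries R).coeff m ∉ p.asIdeal → F.order ≤ m := fun m hm =>
      HahnSeries.order_le_of_coeff_ne_zero (by
        rw [mapHom_coeff]; exact fun h => hm (Ideal.Quotient.eq_zero_iff_mem.mp h))
    have hmem' : ∀ m, g.coeff m ∉ p.asIdeal → G.order ≤ m := fun m hm =>
      HahnSeries.order_le_of_coeff_ne_zero (by
        rw [mapHom_coeff]; exact fun h => hm (Ideal.Quotient.eq_zero_iff_mem.mp h))
    have hF0 : (f : LaurentSeries R).coeff F.order ∉ p.asIdeal := fun h => by
      have := HahnSeries.coeff_order_eq_zero.not.mpr hF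
      exact this (by rw [mapHom_coeff]; exact Ideal.Quotient.eq_zero_iff_mem.mpr h)
    have hG0 : g.coeff (-F.order) ∉ p.asIdeal := fun h => by
      have := HahnSeries.coeff_order_eq_zero.not.mpr hG
      rw [show G.order = -F.order by omega] at this
      exact this (by rw [mapHom_coeff]; exact Ideal.Quotient.eq_zero_iff_mem.mpr h)
    refine ⟨F.order, fun h => (p.2.mem_or_mem h).elim hF0 hG0,
      fun m hm => by_contra fun h => absurd (hmem m h) (not_le.mpr hm), fun m hm => ?_⟩
    have h1 := hmem m fun h => hm (Ideal.mul_mem_right _ _ h)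
    have h2 := hmem' (-m) fun h => hm (Ideal.mul_mem_left _ _ h)
    omega
  choose N hN hlow huniq using hloc
  obtain ⟨p0⟩ := (inferInstance : Nonempty (PrimeSpectrum R))
  let n := N p0
  have hclopen : IsClopen (U n) := by
    refine ⟨?_, (PrimeSpectrum.basicOpen _).isOpen⟩
    rw [show U n = (⋃ m ∈ {m : ℤ | m ≠ n}, U m)ᶜ by
      ext p
      simp only [Set.mem_compl_iff, Set.mem_iUnion, exists_prop, not_exists, not_and,
        Set.mem_ofPred_eq]
      exact ⟨fun h m hm hpm => hm ((huniq p m hpm).trans (huniq p n h).symm),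
        fun h => by_contra fun hn => h (N p) (fun e => hn (e ▸ hN p)) (hN p)⟩]
    exact (isOpen_biUnion fun m _ => (PrimeSpectrum.basicOpen _).isOpen).isClosed_compl
  have huniv : U n = Set.univ := by
    obtain ⟨e, he, hs⟩ := PrimeSpectrum.exists_idempotent_basicOpen_eq_of_isClopen hclopen
    rcases hconn e he with h | h
    · exfalso
      have h0 : p0 ∈ U n := hN p0
      rw [hs, h, PrimeSpectrum.basicOpen_zero] at h0
      exact h0
    · rw [hs, h, PrimeSpectrum.basicOpen_one]
      rfl
  have hzero : ∀ m < n, (f : LaurentSeries R).coeff m = 0 := fun m hm => by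
    refine IsReduced.eq_zero _ ?_
    rw [← mem_nilradical, nilradical_eq_sInf, Ideal.mem_sInf]
    intro P hP
    have := huniq ⟨P, hP⟩ n (huniv ▸ Set.mem_univ _)
    exact hlow ⟨P, hP⟩ m (this ▸ hm)
  have hunit : IsUnit ((f : LaurentSeries R).coeff n) := by
    refine isUnit_of_mul_isUnit_left (y := g.coeff (-n)) ?_
    by_contra h
    obtain ⟨M, hM, hxM⟩ := exists_max_ideal_of_mem_nonunits h
    exact (huniv ▸ Set.mem_univ _ : (⟨M, hM.isPrime⟩ : PrimeSpectrum R) ∈ U n) hxM
  let u : PowerSeries R := PowerSeries.mk fun i => (f : LaurentSeries R).coeff (n + i)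
  have hu : IsUnit u := PowerSeries.isUnit_iff_constantCoeff.mpr (by simpa [u] using hunit)
  have hfu : (f : LaurentSeries R) = HahnSeries.single n (1 : R) * HahnSeries.ofPowerSeries ℤ R u := by
    ext a
    rw [HahnSeries.coeff_single_mul, one_mul]
    rcases lt_or_ge a n with h | h
    · rw [hzero a h, ofPowerSeries_coeff_neg _ (by omega)]
    · obtain ⟨k, hk⟩ : ∃ k : ℕ, a - n = k := ⟨(a - n).toNat, by omega⟩
      rw [hk, HahnSeries.ofPowerSeries_apply_coeff, PowerSeries.coeff_mk]
      congr 1
      omega
  refine ⟨(n, hu.unit), hfu, fun q hq => ?_⟩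
  obtain ⟨k, v⟩ := q
  have hk : k = n := by
    have hv : IsUnit (PowerSeries.constantCoeff (v : PowerSeries R)) :=
      PowerSeries.isUnit_iff_constantCoeff.mp v.isUnit
    have h1 : (f : LaurentSeries R).coeff k = PowerSeries.constantCoeff (v : PowerSeries R) := by
      rw [hq, HahnSeries.coeff_single_mul, one_mul, sub_self,
        show (0 : ℤ) = ((0 : ℕ) : ℤ) from rfl, HahnSeries.ofPowerSeries_apply_coeff,
        PowerSeries.coeff_zero_eq_constantCoeff_apply]
    have h2 : ∀ m < k, (f : LaurentSeries R).coeff m = 0 := fun m hm => by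
      rw [hq, HahnSeries.coeff_single_mul, ofPowerSeries_coeff_neg _ (by simp only; omega), mul_zero]
    rcases lt_trichotomy k n with h | h | h
    · exact absurd (h1 ▸ hzero k h) hv.ne_zero
    · exact h
    · exact absurd (h2 n h) hunit.ne_zero
  subst k
  refine Prod.ext rfl (Units.ext (HahnSeries.ofPowerSeries_injective (Γ := ℤ) ?_))
  have hs : IsUnit (HahnSeries.single n (1 : R)) :=
    IsUnit.of_mul_eq_one (HahnSeries.single (-n) 1) (by
      rw [HahnSeries.single_mul_single, add_neg_cancel, mul_one]; rfl)
  exact hs.mul_left_cancel (hq.symm.trans hfu)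

end Groth.Agent.S15750
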