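import Groth.Statements.S19779
import Groth.Agent.H21.DenseProj
import Groth.Agent.H21.DenseInst
import Groth.Agent.Lib.Henselian.PairUP
import Mathlib.Tactic.LinearCombination

set_option autoImplicit false
universe u
open Polynomial TensorProduct
open CAlg

namespace Groth.Agent.S19779

/-- For general linear groups, in the case R{t}[1/t] → R((t)), let R be a commutative ring, B = R{t} a
henselization of R[t] along (t), ψ : B → R[[t]] the R[t]-algebra map, L = B[1/t], and L' an
L-algebra identified with R((t)) compatibly with ψ. Then base change along L → L' is a bijection on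
isomorphism classes of finitely generated projective modules: two finitely generated projective
L-modules isomorphic over L' are isomorphic, and every finitely generated projective L'-module is
extended from one over L. (The published statement is the bijection H¹(R{t}[1/t], G) ≅ H¹(R((t)), G)
for every quasi-affine smooth group G; this row is the case of the general linear groups, stated for
finitely generated projective modules of arbitrary rank.) -/
theorem result (R : Type u) [CommRing R]
    (B : Type u) [CommRing B] [Algebra R[X] B] (hB : Hens2.IsPairHenselization R[X] (Ideal.span {(X : R[X])}) B)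
    (ψ : B →ₐ[R[X]] PowerSeries R)
    (L' : Type u) [CommRing L'] [Algebra (Localization.Away (algebraMap R[X] B X)) L'] (e : L' ≃+* LaurentSeries R)
    (he : ∀ b : B, e (algebraMap (Localization.Away (algebraMap R[X] B X)) L' (algebraMap B (Localization.Away (algebraMap R[X] B X)) b)) =
      HahnSeries.ofPowerSeries ℤ R (ψ b)) :
    (∀ (M N : Type u) [AddCommGroup M] [Module (Localization.Away (algebraMap R[X] B X)) M] [Module.Finite (Localization.Away (algebraMap R[X] B X)) M] [Module.Projective (Localization.Away (algebraMap R[X] B X)) M]
        [AddCommGroup N] [Module (Localization.Away (algebraMap R[X] B X)) N] [Module.Finite (Localization.Away (algebraMap R[X] B X)) N] [Module.Projective (Localization.Away (algebraMap R[X] B X)) N],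
        Nonempty (L' ⊗[Localization.Away (algebraMap R[X] B X)] M ≃ₗ[L'] L' ⊗[Localization.Away (algebraMap R[X] B X)] N) → Nonempty (M ≃ₗ[Localization.Away (algebraMap R[X] B X)] N)) ∧
    (∀ (M' : Type u) [AddCommGroup M'] [Module L' M'] [Module.Finite L' M'] [Module.Projective L' M'],
        ∃ (M : Type u) (_ : AddCommGroup M) (_ : Module (Localization.Away (algebraMap R[X] B X)) M),
          Module.Finite (Localization.Away (algebraMap R[X] B X)) M ∧ Module.Projective (Localization.Away (algebraMap R[X] B X)) M ∧
          Nonempty (L' ⊗[Localization.Away (algebraMap R[X] B X)] M ≃ₗ[L'] M')) := by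
  classical
  letI : Algebra B (PowerSeries R) := ψ.toRingHom.toAlgebra
  have hA : ∀ p : R[X], algebraMap B (PowerSeries R) (algebraMap R[X] B p) = (p : PowerSeries R) := fun p => by
    show ψ (algebraMap R[X] B p) = _
    rw [AlgHom.commutes]
    simp [PowerSeries.algebraMap_apply']
  letI : Algebra (PowerSeries R) L' := (e.symm.toRingHom.comp (HahnSeries.ofPowerSeries ℤ R)).toAlgebra
  have he' : ∀ f, e (algebraMap (PowerSeries R) L' f) = HahnSeries.ofPowerSeries ℤ R f := fun f => e.apply_symm_apply _
  haveI hH : HenselianRing B (Ideal.span {algebraMap R[X] B X}) := by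
    have := hB.1
    rwa [Ideal.map_span, Set.image_singleton] at this
  have S := Groth.Agent.H21.DenseInst.powerSeries (A := B) (L := Localization.Away (algebraMap R[X] B X)) hA e he'
    (fun b => e.injective (by rw [he' _, he b]; rfl))
    (HenselianRing.jac (R := B) (I := Ideal.span {algebraMap R[X] B X}) (Ideal.mem_span_singleton_self _))
    fun M b hb => by
      obtain ⟨x, hx⟩ := (Groth.Agent.Lib.Henselian.PairUP.quotientMap_pow_bijective hB M).2 (Ideal.Quotient.mk _ b)
      obtain ⟨p, rfl⟩ := Ideal.Quotient.mk_surjective x
      rw [Ideal.quotientMap_mk, Ideal.Quotient.eq, Ideal.span_singleton_pow, Ideal.map_span, Set.image_singleton,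
        Ideal.mem_span_singleton, map_pow] at hx
      obtain ⟨c, hc⟩ := hx
      have h1 : (PowerSeries.X : PowerSeries R) ^ M ∣ (p : PowerSeries R) := by
        have h2 := congrArg (algebraMap B (PowerSeries R)) hc
        rw [map_sub, hA, map_mul, map_pow, hA, Polynomial.coe_X, sub_eq_iff_eq_add] at h2
        rw [h2]
        exact dvd_add (dvd_mul_right _ _) hb
      obtain ⟨p', rfl⟩ : (X : R[X]) ^ M ∣ p := Polynomial.X_pow_dvd_iff.mpr fun k hk => by
        simpa using PowerSeries.X_pow_dvd_iff.mp h1 k hk
      refine ⟨algebraMap R[X] B p' - c, ?_⟩
      rw [map_mul, map_pow] at hc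
      linear_combination -hc
  refine ⟨fun M N _ _ _ _ _ _ _ _ h => ?_, fun M' _ _ _ _ => ?_⟩
  · obtain ⟨φ⟩ := h
    exact Groth.Agent.H21.DenseProj.injective S φ
  · exact Groth.Agent.H21.DenseProj.surjective S M'

end Groth.Agent.S19779
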