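import Groth.Statements.S15753
import Groth.Agent.S19779
import Groth.Agent.H24.PicLaurent.Concrete
import Groth.Agent.H24.PicLaurent.Transfer
import Mathlib.RingTheory.AdicCompletion.Completeness
import Mathlib.RingTheory.Henselian

set_option autoImplicit false
universe u
open Polynomial TensorProduct
open CAlg

namespace Groth.Agent.S15753

open scoped TensorProduct in
theorem henselian_powerSeries (R : Type u) [CommRing R] :
    HenselianRing (PowerSeries R) (Ideal.span {(PowerSeries.X : PowerSeries R)}) := by
  have h : IsAdicComplete (Ideal.span (Set.range (MvPowerSeries.X (R := R) (σ := Unit))))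
      (MvPowerSeries Unit R) := inferInstance
  rw [Set.range_unique] at h
  exact @IsAdicComplete.henselianRing (PowerSeries R) _ _ h

/-- Let R be a Henselian local ring and regard R((t)) as an R[s]-algebra through s ↦ t⁻¹. Then the
pullback map Pic(R[t⁻¹]) → Pic(R((t))) is bijective: an invertible R[s]-module that becomes free
over R((t)) is free, and every invertible R((t))-module is extended from an invertible R[s]-module.
(The published statement is the chain of three bijections Pic(R[t⁻¹]) ≅ Pic((R[t]_{1+tR[t]})[1/t]) ≅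
Pic(R{t}[1/t]) ≅ Pic(R((t))), each induced by pullback; this row states the composite.) -/
theorem result (R : Type u) [CommRing R]
    [HenselianLocalRing R] [Algebra R[X] (LaurentSeries R)]
    (halg : algebraMap R[X] (LaurentSeries R) =
      Polynomial.eval₂RingHom (HahnSeries.C) (HahnSeries.single (-1 : ℤ) (1 : R))) :
    (∀ (M : Type u) [AddCommGroup M] [Module R[X] M] [Module.Invertible R[X] M],
        Module.Free (LaurentSeries R) (LaurentSeries R ⊗[R[X]] M) → Module.Free R[X] M) ∧
    (∀ (L : Type u) [AddCommGroup L] [Module (LaurentSeries R) L] [Module.Invertible (LaurentSeries R) L],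
        ∃ (M : Type u) (_ : AddCommGroup M) (_ : Module R[X] M), Module.Invertible R[X] M ∧
          Nonempty (L ≃ₗ[LaurentSeries R] LaurentSeries R ⊗[R[X]] M)) := by
  let B := Lib.Henselian.PairHenselization.PairHenselization (Ideal.span {(X : R[X])})
  have hB : Hens2.IsPairHenselization R[X] (Ideal.span {(X : R[X])}) B :=
    Lib.Henselian.PairHenselization.isPairHenselization _
  let : Algebra R B := ((algebraMap R[X] B).comp (algebraMap R R[X])).toAlgebra
  have : IsScalarTower R R[X] B := IsScalarTower.of_algebraMap_eq fun _ => rfl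
  have hC : HenselianRing (PowerSeries R) (Ideal.span {(PowerSeries.X : PowerSeries R)}) :=
    henselian_powerSeries R
  obtain ⟨ψ, hψ, -⟩ := hB.2 (PowerSeries R) _ (algebraMap R[X] (PowerSeries R)) hC (by
    rw [Ideal.map_span, Set.image_singleton]
    exact (congrArg (fun z => Ideal.span {z}) (Polynomial.coe_X (R := R))).le)
  let ψ' : B →ₐ[R[X]] PowerSeries R := ⟨ψ, RingHom.congr_fun hψ⟩
  have hsingle : (HahnSeries.single (1 : ℤ) (1 : R) : LaurentSeries R) * HahnSeries.single (-1 : ℤ) 1 = 1 := by
    rw [HahnSeries.single_mul_single, mul_one, add_neg_cancel]; rfl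
  have hx : HahnSeries.ofPowerSeries ℤ R (ψ (algebraMap R[X] B X)) = HahnSeries.single (1 : ℤ) (1 : R) := by
    rw [← RingHom.comp_apply ψ, hψ]
    exact (congrArg (HahnSeries.ofPowerSeries ℤ R) (Polynomial.coe_X (R := R))).trans HahnSeries.ofPowerSeries_X
  have hxu : IsUnit (((HahnSeries.ofPowerSeries ℤ R).comp ψ) (algebraMap R[X] B X)) := by
    rw [RingHom.comp_apply, hx]
    exact IsUnit.of_mul_eq_one _ hsingle
  let κ : H24.PicLaurent.Loc R B →+* LaurentSeries R := IsLocalization.Away.lift (algebraMap R[X] B X) hxu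
  have hκ : ∀ b, κ (algebraMap B _ b) = HahnSeries.ofPowerSeries ℤ R (ψ b) :=
    fun b => IsLocalization.Away.lift_eq _ hxu b
  let : Algebra (H24.PicLaurent.Loc R B) (LaurentSeries R) := κ.toAlgebra
  obtain ⟨hinj, hsurj⟩ := S19779.result R B hB ψ' (LaurentSeries R) (RingEquiv.refl _) hκ
  have hcomp : κ.comp (H24.PicLaurent.beta R B) = algebraMap R[X] (LaurentSeries R) := by
    rw [halg]
    refine Polynomial.ringHom_ext (fun r => ?_) ?_
    · rw [RingHom.comp_apply, H24.PicLaurent.beta_C, hκ, coe_eval₂RingHom, eval₂_C,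
        IsScalarTower.algebraMap_apply R R[X] B, Polynomial.algebraMap_eq, ← RingHom.comp_apply ψ, hψ]
      exact (congrArg (HahnSeries.ofPowerSeries ℤ R) (Polynomial.coe_C r)).trans (HahnSeries.ofPowerSeries_C r)
    · rw [RingHom.comp_apply, H24.PicLaurent.beta_X, coe_eval₂RingHom, eval₂_X]
      have h1 := congrArg κ (H24.PicLaurent.xL_mul_wL (R := R) (B := B))
      rw [map_mul, map_one, hκ, hx] at h1
      rw [← one_mul (κ _), ← hsingle, mul_comm (HahnSeries.single (1 : ℤ) (1 : R)), mul_assoc, h1, mul_one]
  let : Algebra R[X] (H24.PicLaurent.Loc R B) := (H24.PicLaurent.beta R B).toAlgebra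
  have : @IsScalarTower R[X] (H24.PicLaurent.Loc R B) (LaurentSeries R)
      (Algebra.toSMul (R := R[X]) (A := H24.PicLaurent.Loc R B)) _ _ :=
    IsScalarTower.of_algebraMap_eq fun p => (RingHom.congr_fun hcomp p).symm
  have D := H24.PicLaurent.dense hB
  refine ⟨fun M _ _ _ hfree => ?_, fun L _ _ _ => ?_⟩
  · obtain ⟨h1, h2⟩ := H24.PicLaurent.quotient_map_C R (IsLocalRing.maximalIdeal R)
    obtain ⟨m0, φ0, h0⟩ := H24.PicLaurent.exists_functional
      ((IsLocalRing.maximalIdeal R).map (C : R →+* R[X])) M
    exact H24.PicLaurent.free_of_free_tensor D hinj M m0 φ0 h0 hfree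
  · exact H24.PicLaurent.exists_extension_tensor D (H24.PicLaurent.mL_ne_top hB) hinj hsurj L

end Groth.Agent.S15753
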