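import Groth.Statements.S15752
import Groth.Agent.H24.Weierstrass.Existence
import Groth.Agent.H24.Weierstrass.Division

set_option autoImplicit false
universe u
open Polynomial
open CAlg

namespace Groth.Agent.S15752

open IsLocalRing in
theorem aux (R : Type u) [CommRing R]
    [HenselianLocalRing R] (B : Type u) [CommRing B] [Algebra R B] [Algebra R[X] B]
    [IsScalarTower R R[X] B] (hB : Hens2.IsPairHenselization R[X] (Ideal.span {(X : R[X])}) B)
    (f : B) (hf : f ∉ (maximalIdeal R).map (algebraMap R B)) :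
    ∃! Pu : R[X] × Bˣ, Pu.1.Monic ∧ (∀ i : ℕ, i < Pu.1.natDegree → Pu.1.coeff i ∈ maximalIdeal R) ∧
        f = algebraMap R[X] B Pu.1 * (Pu.2 : B) := by
  obtain ⟨P, u, hm, hc, he⟩ := H24.Weierstrass.exists_prep hB f hf
  refine ⟨(P, u), ⟨hm, hc, he⟩, ?_⟩
  rintro ⟨Q, v⟩ ⟨hm', hc', he'⟩
  dsimp only at hm' hc' he'
  have h1 : Q ∈ Ideal.span {P} := (H24.Weierstrass.division hB hm hc f u he).2 Q (by
    rw [he', Ideal.span_singleton_mul_right_unit v.isUnit]; exact Ideal.mem_span_singleton_self _)
  have h2 : P ∈ Ideal.span {Q} := (H24.Weierstrass.division hB hm' hc' f v he').2 P (by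
    rw [he, Ideal.span_singleton_mul_right_unit u.isUnit]; exact Ideal.mem_span_singleton_self _)
  obtain ⟨c, rfl⟩ := Ideal.mem_span_singleton.mp h1
  obtain ⟨c', hc2⟩ := Ideal.mem_span_singleton.mp h2
  have hcc : c * c' = 1 := hm.isRegular.left (by
    show P * (c * c') = P * 1
    rw [mul_one, ← mul_assoc, ← hc2])
  obtain rfl : c = 1 := (hm.of_mul_monic_left hm').eq_one_of_isUnit (IsUnit.of_mul_eq_one c' hcc)
  rw [mul_one] at he' ⊢
  exact Prod.ext rfl (Units.ext (H24.Weierstrass.mul_left_injective_of_monic hB hm (he'.symm.trans he)))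

/-- Let R be a Henselian local ring with maximal ideal m and let B be a henselization of R[t] along (t).
Every f ∈ B outside mB factors as f = P · u for a unique pair (P, u) with P ∈ R[t] monic whose
non-leading coefficients lie in m and u a unit of B; moreover the natural map R[t]/(P) → B/(f) is
bijective, stated as: every element of B is congruent to (the image of) a polynomial modulo f, and a
polynomial whose image lies in fB lies in P·R[t]. -/
theorem result (R : Type u) [CommRing R]
    [HenselianLocalRing R] (B : Type u) [CommRing B] [Algebra R B] [Algebra R[X] B]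
    [IsScalarTower R R[X] B] (hB : Hens2.IsPairHenselization R[X] (Ideal.span {(X : R[X])}) B)
    (f : B) (hf : f ∉ (IsLocalRing.maximalIdeal R).map (algebraMap R B)) :
    (∃! Pu : R[X] × Bˣ, Pu.1.Monic ∧ (∀ i : ℕ, i < Pu.1.natDegree → Pu.1.coeff i ∈ IsLocalRing.maximalIdeal R) ∧
        f = algebraMap R[X] B Pu.1 * (Pu.2 : B)) ∧
    (∀ (P : R[X]) (u : Bˣ), P.Monic → (∀ i : ℕ, i < P.natDegree → P.coeff i ∈ IsLocalRing.maximalIdeal R) →
        f = algebraMap R[X] B P * (u : B) →
      (∀ b : B, ∃ q : R[X], algebraMap R[X] B q - b ∈ Ideal.span {f}) ∧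
      (∀ q : R[X], algebraMap R[X] B q ∈ Ideal.span {f} → q ∈ Ideal.span {P})) := by
  refine ⟨aux R B hB f hf, fun P u hm hc he => ?_⟩
  exact H24.Weierstrass.division hB hm hc f u he

end Groth.Agent.S15752
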