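import Groth.Statements.S15754
import Groth.Agent.H22.Horrocks.Laurent
import Mathlib

set_option autoImplicit false
universe u
open TensorProduct
open CAlg

namespace Groth.Agent.S15754

/-- For an arbitrary commutative ring R, non-isomorphic finitely generated projective R-modules cannot
become isomorphic over the Laurent series ring R((t)): for an R-algebra L that is R-isomorphic to
R((t)), if L ⊗_R M ≅ L ⊗_R N as L-modules then M ≅ N. (L is R((t)) up to an R-algebra isomorphism;
it is kept abstract only so that the L-module structure on L ⊗_R M elaborates.) -/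
theorem result (R : Type u) [CommRing R]
    (L : Type u) [CommRing L] [Algebra R L] (eL : L ≃ₐ[R] LaurentSeries R)
    (M N : Type u) [AddCommGroup M] [Module R M] [Module.Finite R M] [Module.Projective R M]
    [AddCommGroup N] [Module R N] [Module.Finite R N] [Module.Projective R N]
    (e : L ⊗[R] M ≃ₗ[L] L ⊗[R] N) :
    Nonempty (M ≃ₗ[R] N) := by
  obtain ⟨P⟩ := H22.Horrocks.exists_pres (R := R) (M := M)
  obtain ⟨Q⟩ := H22.Horrocks.exists_pres (R := R) (M := N)
  have h : H22.Horrocks.Eqv (P.e.map (algebraMap R L)) (Q.e.map (algebraMap R L)) := by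
    rw [← H22.Horrocks.Pres.baseChange_e, ← H22.Horrocks.Pres.baseChange_e]
    exact (P.baseChange L).eqv_of_linearEquiv (Q.baseChange L) e
  have h' := h.map (eL.toAlgHom.toRingHom)
  rw [H22.Horrocks.map_map', H22.Horrocks.map_map',
    show eL.toAlgHom.toRingHom.comp (algebraMap R L) = (HahnSeries.C : R →+* LaurentSeries R) from
      RingHom.ext fun r => (eL.commutes r).trans (by simp [HahnSeries.algebraMap_apply'])] at h'
  exact P.nonempty_linearEquiv Q (H22.Horrocks.eqv_of_laurentSeries P.idem Q.idem h')

end Groth.Agent.S15754
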