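import Groth.Statements.S15755
import Groth.Agent.H21.PopescuApprox
import Mathlib.CategoryTheory.Limits.Types.Filtered
import Mathlib.Algebra.Category.CommAlgCat.Basic
import Mathlib.Algebra.Algebra.Subalgebra.Directed
import Mathlib.RingTheory.FinitePresentation

set_option autoImplicit false
universe u
open CategoryTheory CategoryTheory.Limits
open CAlg

namespace Groth.Agent.S15755

/-- Let (A, I) be a Henselian pair with A Noetherian whose map to the I-adic completion Â is a regular
ring homomorphism, and let F be a set-valued functor on commutative A-algebras preserving filtered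
colimits. Then F(A) → F(Â) is injective, and an element of F(A/I) is in the image of F(A) if and
only if it is in the image of F(Â) under the canonical A-algebra map Â → A/I. -/
theorem result (A : Type u) [CommRing A]
    [IsNoetherianRing A] (I : Ideal A) [HenselianRing A I]
    (hreg : CAlg.IsRegularHom A (AdicCompletion I A))
    (F : CommAlgCat.{u} A ⥤ Type u) [PreservesFilteredColimitsOfSize.{u, u} F] :
    Function.Injective (F.map (CommAlgCat.ofHom (Algebra.ofId A (AdicCompletion I A)))) ∧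
    ∀ xbar : F.obj (CommAlgCat.of A (A ⧸ I)),
      (∃ x : F.obj (CommAlgCat.of A A), F.map (CommAlgCat.ofHom (Ideal.Quotient.mkₐ A I)) x = xbar) ↔
      (∃ y : F.obj (CommAlgCat.of A (AdicCompletion I A)),
        F.map (CommAlgCat.ofHom (AdicCompletion.evalOneₐ I)) y = xbar) := by
  classical
  let Ah := AdicCompletion I A
  let Idx := {N : Subalgebra A Ah // N.FG}
  haveI : Nonempty Idx := ⟨⟨⊥, Subalgebra.fg_bot⟩⟩
  haveI : IsDirectedOrder Idx :=
    ⟨fun N M => ⟨⟨N.1 ⊔ M.1, N.2.sup M.2⟩, le_sup_left (a := N.1), le_sup_right (b := M.1)⟩⟩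
  let D : Idx ⥤ CommAlgCat.{u} A :=
    { obj := fun N => CommAlgCat.of A N.1
      map := fun h => CommAlgCat.ofHom (Subalgebra.inclusion h.le) }
  let c : Cocone D :=
    { pt := CommAlgCat.of A Ah
      ι := { app := fun N => CommAlgCat.ofHom N.1.val } }
  have hdir : Directed (· ≤ ·) fun N : Idx => N.1 := fun N M =>
    ⟨⟨N.1 ⊔ M.1, N.2.sup M.2⟩, le_sup_left, le_sup_right⟩
  have htop : (⊤ : Subalgebra A Ah) ≤ ⨆ N : Idx, N.1 := fun x _ =>
    (le_iSup (fun N : Idx => N.1) ⟨Algebra.adjoin A {x}, ⟨{x}, by simp⟩⟩) (Algebra.self_mem_adjoin_singleton A x)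
  let hc : IsColimit c := IsColimit.ofExistsUnique fun s => by
    let f : ∀ N : Idx, N.1 →ₐ[A] s.pt := fun N => (s.ι.app N).hom
    have hf : ∀ (N M : Idx) (h : N.1 ≤ M.1), f N = (f M).comp (Subalgebra.inclusion h) := fun N M h =>
      AlgHom.ext fun x => (ConcreteCategory.congr_hom (s.w (homOfLE (show N ≤ M from h))) x).symm
    refine ⟨CommAlgCat.ofHom ((Subalgebra.iSupLift (fun N : Idx => N.1) hdir f hf ⊤ htop).comp
      Subalgebra.topEquiv.symm.toAlgHom), fun N => ?_, fun g hg => ?_⟩
    · ext x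
      exact Subalgebra.iSupLift_mk (fun N : Idx => N.1) (dir := hdir) (hf := hf) x Algebra.mem_top
    · ext x
      refine Eq.trans ?_ (Subalgebra.iSupLift_mk (fun N : Idx => N.1) (dir := hdir) (hf := hf)
        (i := ⟨Algebra.adjoin A {x}, ⟨{x}, by simp⟩⟩) ⟨x, Algebra.self_mem_adjoin_singleton A x⟩ Algebra.mem_top).symm
      exact ConcreteCategory.congr_hom (hg ⟨Algebra.adjoin A {x}, ⟨{x}, by simp⟩⟩) ⟨x, Algebra.self_mem_adjoin_singleton A x⟩
  have hlim : IsColimit (F.mapCocone c) := isColimitOfPreserves F hc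
  have hfp : ∀ N : Idx, Algebra.FinitePresentation A N.1 := fun N => by
    haveI : Algebra.FiniteType A N.1 := (Subalgebra.fg_iff_finiteType N.1).1 N.2
    exact Algebra.FinitePresentation.of_finiteType.1 inferInstance
  refine ⟨fun x y hxy => ?_, fun xbar => ⟨?_, ?_⟩⟩
  · let N₀ : Idx := ⟨⊥, Subalgebra.fg_bot⟩
    have hx : ∀ z, (F.mapCocone c).ι.app N₀ (F.map (CommAlgCat.ofHom (Algebra.ofId A N₀.1)) z) =
        F.map (CommAlgCat.ofHom (Algebra.ofId A Ah)) z := fun z => by
      show F.map _ (F.map _ z) = _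
      rw [← Functor.map_comp_apply]
      exact congrArg (fun g => F.map g z) (CommAlgCat.hom_ext (Subsingleton.elim _ _))
    obtain ⟨N, f, g, hfg⟩ := (Types.FilteredColimit.isColimit_eq_iff (F := D ⋙ F) hlim).1 ((hx x).trans (hxy.trans (hx y).symm))
    obtain rfl : f = g := Subsingleton.elim _ _
    haveI := hfp N
    obtain ⟨τ, -⟩ := Groth.Agent.H21.PopescuApprox.exists_algHom I hreg N.1 N.1.val 0
    have h := congrArg (F.map (CommAlgCat.ofHom τ)) hfg
    simp only [Functor.comp_map, ← Functor.map_comp_apply] at h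
    have hid : ∀ z, F.map (CommAlgCat.ofHom (Algebra.ofId A N₀.1) ≫ D.map f ≫ CommAlgCat.ofHom τ) z = z := fun z => by
      rw [show CommAlgCat.ofHom (Algebra.ofId A N₀.1) ≫ D.map f ≫ CommAlgCat.ofHom τ = 𝟙 (CommAlgCat.of A A) from
        CommAlgCat.hom_ext (Subsingleton.elim _ _), F.map_id]
      rfl
    rw [← hid x, ← hid y]
    simp only [Category.assoc] at h
    exact h
  · rintro ⟨x, rfl⟩
    refine ⟨F.map (CommAlgCat.ofHom (Algebra.ofId A Ah)) x, ?_⟩
    rw [← Functor.map_comp_apply]
    exact congrArg (fun g => F.map g x) (CommAlgCat.hom_ext (Subsingleton.elim _ _))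
  · rintro ⟨y, rfl⟩
    obtain ⟨N, η, rfl⟩ := Types.jointly_surjective _ hlim y
    haveI := hfp N
    obtain ⟨τ, hτ⟩ := Groth.Agent.H21.PopescuApprox.exists_algHom I hreg N.1 N.1.val 1
    refine ⟨F.map (CommAlgCat.ofHom τ) η, ?_⟩
    show _ = F.map _ (F.map _ η)
    rw [← Functor.map_comp_apply, ← Functor.map_comp_apply]
    suffices h : CommAlgCat.ofHom τ ≫ CommAlgCat.ofHom (Ideal.Quotient.mkₐ A I) =
        c.ι.app N ≫ CommAlgCat.ofHom (AdicCompletion.evalOneₐ I) from congrArg (fun g => F.map g η) h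
    ext p
    show Ideal.Quotient.mk I (τ p) = AdicCompletion.evalOneₐ I (p : Ah)
    rw [← AdicCompletion.factorₐ_evalₐ_one, show AdicCompletion.evalₐ I 1 (p : Ah) = _ from (hτ p).symm, Ideal.Quotient.factor_mk]

end Groth.Agent.S15755
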