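import Groth.Statements.S15756
import Groth.Agent.H21.ElkikEq
import Mathlib.RingTheory.AdicCompletion.Algebra
import Mathlib.RingTheory.FiniteType
import Mathlib.RingTheory.Smooth.Basic

set_option autoImplicit false
universe u
open CAlg

namespace Groth.Agent.S15756

/-- Case of the whole affine base U = Spec A, the unit ideal I = A and an affine scheme X: let A be a
ring with an element t such that (A, tA) is a Henselian pair and the t-power torsion of A is
bounded, let Â be the t-adic completion, and let B be an A-algebra of finite type with B[1/t] smooth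
over A[1/t]. Then every A-algebra homomorphism B → Â is congruent modulo t^n, for any prescribed n,
to an A-algebra homomorphism B → A. (The published statement allows any quasi-compact open U of Spec
A containing Spec A[1/t], any bounded Zariski Gabber–Ramero triple (A, t, I) that is Henselian (or,
instead, satisfies a lifting condition for Zariski pairs over A[1/t]), and U-schemes locally of
finite type that are ind-quasi-affine or subprojective and smooth over A[1/t], and it asserts
density of X(U) in X(U_Â) for the (t, I)-adic topology; this row is the case U = Spec A, I = A, X =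
Spec B affine, under the Henselian alternative.) -/
theorem result (A : Type u) [CommRing A] (t : A)
    [HenselianRing A (Ideal.span {t})]
    (hbd : ∃ N : ℕ, ∀ a : A, (∃ m : ℕ, t ^ m * a = 0) → t ^ N * a = 0)
    (B : Type u) [CommRing B] [Algebra A B] [Algebra.FiniteType A B]
    (hsm : Algebra.Smooth (Localization.Away t)
      (Localization (Algebra.algebraMapSubmonoid B (Submonoid.powers t))))
    (n : ℕ) (σ : B →ₐ[A] AdicCompletion (Ideal.span {t}) A) :
    ∃ τ : B →ₐ[A] A,
      (Ideal.Quotient.mkₐ A (Ideal.span {t} ^ n)).comp τ =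
        (AdicCompletion.evalₐ (Ideal.span {t}) n).comp σ := by
  classical
  obtain ⟨N, hN⟩ := hbd
  let I := Ideal.span {t}
  obtain ⟨nv, π, hπ⟩ := Algebra.FiniteType.iff_quotient_mvPolynomial''.mp (inferInstance : Algebra.FiniteType A B)
  haveI := hsm
  obtain ⟨Φ, hΦ, m, f, hf0, hker, hJ⟩ := Groth.Agent.H21.ElkikEq.exists_relations (At := Localization.Away t)
    (K' := Localization (Algebra.algebraMapSubmonoid B (Submonoid.powers t))) t π hπ
  obtain ⟨a, ha, ha2⟩ := Groth.Agent.H21.ElkikEq.exists_section Φ hΦ
  obtain ⟨c, H, E, hEf, hDH⟩ := Groth.Agent.H21.ElkikEq.exists_matrices (At := Localization.Away t)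
    (K' := Localization (Algebra.algebraMapSubmonoid B (Submonoid.powers t))) t f Φ hker a ha ha2
  let q := n + N + c + 1
  let M := q + c + 1
  have hnM : n ≤ M := by omega
  choose x₀ hx₀ using fun i => Ideal.Quotient.mk_surjective (AdicCompletion.evalₐ I M (σ (π (MvPolynomial.X i))))
  have hev : ∀ g, Ideal.Quotient.mk (I ^ M) (MvPolynomial.eval x₀ g) = AdicCompletion.evalₐ I M (σ (π g)) := fun g =>
    AlgHom.congr_fun (MvPolynomial.algHom_ext (f := (Ideal.Quotient.mkₐ A (I ^ M)).comp (MvPolynomial.aeval x₀))
      (g := ((AdicCompletion.evalₐ I M).comp σ).comp π) fun i => by simp [hx₀]) g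
  have hdvd : ∀ g, π g = 0 → t ^ M ∣ MvPolynomial.eval x₀ g := fun g hg => by
    have h := hev g
    rw [hg, map_zero, map_zero, Ideal.Quotient.eq_zero_iff_mem, Ideal.span_singleton_pow, Ideal.mem_span_singleton] at h
    exact h
  obtain ⟨x, hx, hxx₀⟩ := Groth.Agent.H21.Elkik.approximate t hN f H E hEf hDH q (by omega) (by omega) x₀
    fun k => hdvd _ (hf0 k)
  have hclose : ∀ g, t ^ q ∣ MvPolynomial.eval x g - MvPolynomial.eval x₀ g := by
    intro g
    have h := Groth.Agent.H21.Elkik.taylor₀ (R := A) (Ideal.span {t ^ q}) x₀ (fun i => x i - x₀ i)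
      (fun i => Ideal.mem_span_singleton.mpr (hxx₀ i)) g
    simp only [add_sub_cancel] at h
    exact Ideal.mem_span_singleton.mp h
  have hzero : ∀ g ∈ RingHom.ker π, MvPolynomial.aeval x g = 0 := by
    intro g hg
    show MvPolynomial.eval x g = 0
    obtain ⟨e, he⟩ := hJ g hg
    obtain ⟨w, hw⟩ := Ideal.mem_span_range_iff_exists_fun.mp he
    have h1 : t ^ e * MvPolynomial.eval x g = 0 := by
      have h := congrArg (MvPolynomial.eval x) hw
      simp only [map_sum, map_mul, map_pow, MvPolynomial.eval_C, hx, mul_zero, Finset.sum_const_zero] at h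
      exact h.symm
    obtain ⟨b, hb⟩ : t ^ q ∣ MvPolynomial.eval x g := by
      have h := dvd_add (hclose g) ((pow_dvd_pow t (by omega : q ≤ M)).trans (hdvd g hg))
      rwa [sub_add_cancel] at h
    rw [hb] at h1 ⊢
    have hb' : t ^ N * b = 0 := hN b ⟨e + q, by rw [pow_add, mul_assoc]; exact h1⟩
    rw [show q = (n + c + 1) + N by omega, pow_add, mul_assoc, hb', mul_zero]
  let τ : B →ₐ[A] A := (Ideal.Quotient.liftₐ (RingHom.ker π) (MvPolynomial.aeval x) hzero).comp
    (Ideal.quotientKerAlgEquivOfSurjective hπ).symm.toAlgHom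
  have hτ : ∀ g, τ (π g) = MvPolynomial.eval x g := fun g => by
    have hsym : (Ideal.quotientKerAlgEquivOfSurjective hπ).symm (π g) = Ideal.Quotient.mk _ g :=
      (Ideal.quotientKerAlgEquivOfSurjective hπ).symm_apply_eq.mpr rfl
    show Ideal.Quotient.liftₐ (RingHom.ker π) (MvPolynomial.aeval x) hzero ((Ideal.quotientKerAlgEquivOfSurjective hπ).symm (π g)) = _
    rw [hsym]
    rfl
  refine ⟨τ, AlgHom.ext fun b => ?_⟩
  obtain ⟨g, rfl⟩ := hπ b
  show Ideal.Quotient.mk (I ^ n) (τ (π g)) = AdicCompletion.evalₐ I n (σ (π g))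
  obtain ⟨z, hz⟩ := AdicCompletion.mk_surjective I A (σ (π g))
  have h1 := hev g
  rw [← hz, AdicCompletion.evalₐ_mk] at h1
  rw [← hz, AdicCompletion.evalₐ_mk, hτ, ← AdicCompletion.Ideal.mk_eq_mk I hnM z, Ideal.Quotient.eq]
  have h2 : MvPolynomial.eval x g - MvPolynomial.eval x₀ g ∈ I ^ n := by
    rw [Ideal.span_singleton_pow, Ideal.mem_span_singleton]
    exact (pow_dvd_pow t (by omega : n ≤ q)).trans (hclose g)
  have h3 := add_mem h2 (Ideal.pow_le_pow_right hnM (Ideal.Quotient.eq.mp h1))
  rwa [sub_add_sub_cancel] at h3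

end Groth.Agent.S15756
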