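import Groth.Statements.S15758
import Groth.Agent.H21.ElkikSect
import Groth.Agent.Lib.TorsorSch.Basic
import Groth.Agent.Lib.TorsorSch.Descent
import Mathlib.AlgebraicGeometry.Morphisms.LocalFlatDescent
import Groth.Agent.Lib.Henselian.PairUP
import Mathlib.Tactic.LinearCombination
import Mathlib.RingTheory.LaurentSeries
import Mathlib.RingTheory.Flat.Basic

set_option autoImplicit false
universe u
open CategoryTheory MonoidalCategory CartesianMonoidalCategory MonObj GrpObj AlgebraicGeometry Polynomial
open NonAbH1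

namespace Groth.Agent.S15758

/-- The Laurent-series instance, kernel form, for an affine smooth group: let R be a ring, B = R{t} a
henselization of R[t] along (t), ψ : B → R[[t]] the canonical R[t]-algebra map, and χ : B[1/t] →
R((t)) the induced map. For an affine smooth B[1/t]-group scheme G, an fppf G-torsor over Spec
B[1/t] which acquires a section over Spec R((t)) has a section. (The published statement is a
bijection H¹(R{t}[1/t], G) ≅ H¹(R((t)), G) for quasi-affine smooth G and an injection for smooth
quasi-separated G; this row is the triviality of the kernel for affine smooth G.) -/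
theorem result (R : Type u) [CommRing R]
    (B : Type u) [CommRing B] [Algebra R[X] B] (hB : Hens2.IsPairHenselization R[X] (Ideal.span {(X : R[X])}) B)
    (ψ : B →ₐ[R[X]] PowerSeries R)
    (χ : Localization.Away (algebraMap R[X] B X) →+* LaurentSeries R)
    (hχ : χ.comp (algebraMap B (Localization.Away (algebraMap R[X] B X))) =
      (HahnSeries.ofPowerSeries ℤ R).comp ψ.toRingHom)
    (G : Over (Spec (CommRingCat.of (Localization.Away (algebraMap R[X] B X))))) [GrpObj G]
    [IsAffine G.left] [Smooth G.hom]
    (P : Over (Spec (CommRingCat.of (Localization.Away (algebraMap R[X] B X))))) (a : AlgGrp.Action G P)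
    (hP : NonAbH1.IsTorsorFor Scheme.fppfPrecoverage a)
    (hsec : NonAbH1.HasSectionOver P (Spec.map (CommRingCat.ofHom χ))) :
    NonAbH1.HasSectionOver P (𝟙 (Spec (CommRingCat.of (Localization.Away (algebraMap R[X] B X))))) := by
  classical
  obtain ⟨s, hs⟩ := hsec
  let t : B := algebraMap R[X] B X
  haveI hH : HenselianRing B (Ideal.span {t}) := by
    have := hB.1
    rwa [Ideal.map_span, Set.image_singleton] at this
  have hreg : IsSMulRegular B t := by
    haveI := Groth.Agent.Lib.Henselian.PairUP.flat hB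
    refine IsSMulRegular.of_flat (R := R[X]) (S := B) fun p q h => ?_
    exact Polynomial.monic_X.isRegular.left h
  have hbd : ∃ N : ℕ, ∀ b : B, (∃ m : ℕ, t ^ m * b = 0) → t ^ N * b = 0 := by
    refine ⟨0, fun b ⟨m, hm⟩ => ?_⟩
    rw [show b = 0 from (hreg.pow m) (hm.trans (mul_zero _).symm), mul_zero]
  have hA : ∀ p : R[X], ψ (algebraMap R[X] B p) = (p : PowerSeries R) := fun p => by
    rw [AlgHom.commutes]
    simp [PowerSeries.algebraMap_apply']
  have hψX : ψ t = PowerSeries.X := (hA X).trans Polynomial.coe_X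
  have hle : ∀ n : ℕ, Ideal.span {t} ^ n ≤ (Ideal.span {(PowerSeries.X : PowerSeries R)} ^ n).comap ψ.toRingHom := by
    intro n
    refine Ideal.map_le_iff_le_comap.mp (le_of_eq ?_)
    rw [Ideal.map_pow, Ideal.map_span, Set.image_singleton, show ψ.toRingHom t = PowerSeries.X from hψX]
  let q : ∀ n : ℕ, B ⧸ Ideal.span {t} ^ n →+* PowerSeries R ⧸ Ideal.span {(PowerSeries.X : PowerSeries R)} ^ n :=
    fun n => Ideal.quotientMap _ ψ.toRingHom (hle n)
  have hq : ∀ n, Function.Bijective (q n) := by
    intro n
    refine ⟨(injective_iff_map_eq_zero _).mpr fun z hz => ?_, fun z => ?_⟩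
    · obtain ⟨b, rfl⟩ := Ideal.Quotient.mk_surjective z
      rw [Ideal.quotientMap_mk, Ideal.Quotient.eq_zero_iff_mem, Ideal.span_singleton_pow, Ideal.mem_span_singleton] at hz
      obtain ⟨x, hx⟩ := (Groth.Agent.Lib.Henselian.PairUP.quotientMap_pow_bijective hB n).2 (Ideal.Quotient.mk _ b)
      obtain ⟨p, rfl⟩ := Ideal.Quotient.mk_surjective x
      rw [Ideal.quotientMap_mk, Ideal.Quotient.eq, Ideal.span_singleton_pow, Ideal.map_span, Set.image_singleton,
        Ideal.mem_span_singleton, map_pow] at hx
      obtain ⟨c, hc⟩ := hx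
      have h1 : (PowerSeries.X : PowerSeries R) ^ n ∣ (p : PowerSeries R) := by
        have h2 := congrArg ψ.toRingHom hc
        change ψ (algebraMap R[X] B p - b) = ψ (t ^ n * c) at h2
        rw [map_sub, hA, map_mul, map_pow, hψX, sub_eq_iff_eq_add] at h2
        rw [h2]
        exact dvd_add (dvd_mul_right _ _) hz
      obtain ⟨p', rfl⟩ : (X : R[X]) ^ n ∣ p := Polynomial.X_pow_dvd_iff.mpr fun k hk => by
        simpa using PowerSeries.X_pow_dvd_iff.mp h1 k hk
      rw [Ideal.Quotient.eq_zero_iff_mem, Ideal.span_singleton_pow, Ideal.mem_span_singleton]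
      refine ⟨algebraMap R[X] B p' - c, ?_⟩
      rw [map_mul, map_pow] at hc
      linear_combination -hc
    · obtain ⟨f, rfl⟩ := Ideal.Quotient.mk_surjective z
      refine ⟨Ideal.Quotient.mk _ (algebraMap R[X] B (PowerSeries.trunc n f)), ?_⟩
      rw [Ideal.quotientMap_mk, Ideal.Quotient.eq, Ideal.span_singleton_pow, Ideal.mem_span_singleton,
        show ψ.toRingHom (algebraMap R[X] B (PowerSeries.trunc n f)) = _ from hA _, PowerSeries.X_pow_dvd_iff]
      intro k hk
      rw [map_sub, Polynomial.coeff_coe, PowerSeries.coeff_trunc, if_pos hk, sub_self]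
  let F : ∀ n : ℕ, PowerSeries R →+* B ⧸ Ideal.span {t} ^ n := fun n =>
    (RingEquiv.ofBijective (q n) (hq n)).symm.toRingHom.comp (Ideal.Quotient.mk _)
  have hF : ∀ (n : ℕ) (f : PowerSeries R), q n (F n f) = Ideal.Quotient.mk _ f := fun n f =>
    (RingEquiv.ofBijective (q n) (hq n)).apply_symm_apply _
  have hcompat : ∀ {m n : ℕ} (h : m ≤ n), (Ideal.Quotient.factorPow (Ideal.span {t}) h).comp (F n) = F m := by
    intro m n h
    refine RingHom.ext fun f => (hq m).1 ?_
    obtain ⟨b, hb⟩ := Ideal.Quotient.mk_surjective (F n f)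
    have h2 := hF n f
    rw [← hb, Ideal.quotientMap_mk] at h2
    rw [hF, RingHom.comp_apply, ← hb]
    show q m (Ideal.Quotient.mk _ b) = _
    rw [Ideal.quotientMap_mk]
    exact Ideal.Quotient.eq.mpr (Ideal.pow_le_pow_right h (Ideal.Quotient.eq.mp h2))
  let ιc : PowerSeries R →+* AdicCompletion (Ideal.span {t}) B := AdicCompletion.liftRingHom _ F hcompat
  have hιc : ∀ b : B, ιc (ψ b) = algebraMap B (AdicCompletion (Ideal.span {t}) B) b := by
    intro b
    refine AdicCompletion.ext_evalₐ fun n => ?_
    rw [AdicCompletion.evalₐ_liftRingHom, AlgHom.commutes]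
    refine (hq n).1 ?_
    rw [hF, show algebraMap B (B ⧸ Ideal.span {t} ^ n) b = Ideal.Quotient.mk _ b from rfl, Ideal.quotientMap_mk]
    rfl
  let T := algebraMap B (AdicCompletion (Ideal.span {t}) B) t
  have hu : ∀ y : Submonoid.powers (PowerSeries.X : PowerSeries R),
      IsUnit (((algebraMap _ (Localization.Away T)).comp ιc) y.1) := by
    rintro ⟨_, m, rfl⟩
    rw [RingHom.comp_apply, map_pow, map_pow, ← hψX, hιc]
    exact (IsLocalization.Away.algebraMap_isUnit T).pow m
  let Λ : LaurentSeries R →+* Localization.Away T := IsLocalization.lift hu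
  have hΛ : Λ.comp χ = Localization.awayMap (algebraMap B (AdicCompletion (Ideal.span {t}) B)) t := by
    refine IsLocalization.ringHom_ext (Submonoid.powers t) (RingHom.ext fun b => ?_)
    show Λ ((χ.comp (algebraMap B _)) b) = _
    rw [hχ]
    show Λ (algebraMap (PowerSeries R) (LaurentSeries R) (ψ b)) = _
    rw [IsLocalization.lift_eq, RingHom.comp_apply, hιc]
    show _ = (Localization.awayMap (algebraMap B (AdicCompletion (Ideal.span {t}) B)) t) (algebraMap B (Localization.Away t) b)
    simp [Localization.awayMap, IsLocalization.Away.map, T]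
  have h' := Groth.Agent.Lib.TorsorSch.Descent.isTorsorFor_mono Scheme.fppfPrecoverage_le_fpqcPrecoverage hP
  have : Smooth P.hom := Groth.Agent.Lib.TorsorSch.Basic.of_hom (P := @Smooth) h' inferInstance
  have := Groth.Agent.Lib.Tori.AffineDescent.descendsAlong_isAffineHom.{u}
  have : IsZariskiLocalAtTarget (@IsAffineHom : MorphismProperty Scheme.{u}) :=
    @HasAffineProperty.instIsZariskiLocalAtTarget _ _ instHasAffinePropertyIsAffineHomIsAffine
  have : IsAffineHom G.hom := isAffineHom_of_isAffine G.hom
  have : IsAffineHom P.hom := Groth.Agent.Lib.TorsorSch.Basic.of_hom (P := @IsAffineHom.{u}) h' ‹_›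
  refine Groth.Agent.H21.ElkikSect.exists_section t hbd P.hom (Spec.map (CommRingCat.ofHom Λ) ≫ s) ?_
  rw [Category.assoc, hs, ← Spec.map_comp, ← CommRingCat.ofHom_comp, hΛ]

end Groth.Agent.S15758
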