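import Groth.Statements.S15759
import Groth.Agent.H21.DenseProj
import Groth.Agent.H21.DenseInst
import Mathlib.Tactic.LinearCombination

set_option autoImplicit false
universe u
open Polynomial TensorProduct
open CAlg

namespace Groth.Agent.S15759

/-- Let R be a ring, L = R(t) the localisation of R[t] at the monoid generated by t and the polynomials
with constant term 1 (that is, (R[t]_{1+tR[t]})[1/t]), and L' an L-algebra identified with R((t))
compatibly with R[t] → R((t)). Then (b) finitely generated projective L-modules that become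
isomorphic over L' are isomorphic, and (c) every stably free L'-module is the base change of a
stably free L-module. -/
theorem result (R : Type u) [CommRing R]
    (L : Type u) [CommRing L] [Algebra R[X] L]
    [IsLocalization (Submonoid.closure ({f : R[X] | f.coeff 0 = 1} ∪ {X})) L]
    (L' : Type u) [CommRing L'] [Algebra L L'] (e : L' ≃+* LaurentSeries R)
    (he : ∀ p : R[X], e (algebraMap L L' (algebraMap R[X] L p)) =
      HahnSeries.ofPowerSeries ℤ R (Polynomial.coeToPowerSeries.ringHom p)) :
    (∀ (M N : Type u) [AddCommGroup M] [Module L M] [Module.Finite L M] [Module.Projective L M]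
        [AddCommGroup N] [Module L N] [Module.Finite L N] [Module.Projective L N],
        Nonempty (L' ⊗[L] M ≃ₗ[L'] L' ⊗[L] N) → Nonempty (M ≃ₗ[L] N)) ∧
    (∀ (M' : Type u) [AddCommGroup M'] [Module L' M'] [Module.Finite L' M'],
        (∃ n m : ℕ, Nonempty ((M' × (Fin n → L')) ≃ₗ[L'] (Fin m → L'))) →
        ∃ (M : Type u) (_ : AddCommGroup M) (_ : Module L M), Module.Finite L M ∧
          (∃ n m : ℕ, Nonempty ((M × (Fin n → L)) ≃ₗ[L] (Fin m → L))) ∧
          Nonempty (L' ⊗[L] M ≃ₗ[L'] M')) := by
  classical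
  let U : Submonoid R[X] :=
    { carrier := {f | f.coeff 0 = 1}
      one_mem' := Polynomial.coeff_one_zero
      mul_mem' := fun {a b} ha hb => by
        simp only [Set.mem_setOf_eq] at ha hb ⊢
        rw [Polynomial.mul_coeff_zero, ha, hb, mul_one] }
  let N : Submonoid R[X] := Submonoid.closure ({f : R[X] | f.coeff 0 = 1} ∪ {X})
  let A := Localization U
  have hUN : U ≤ N := fun f hf => Submonoid.subset_closure (Or.inl hf)
  have hXN : (X : R[X]) ∈ N := Submonoid.subset_closure (Or.inr rfl)
  have hNform : ∀ s ∈ N, ∃ (k : ℕ), ∃ v ∈ U, s = X ^ k * v := by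
    intro s hs
    induction hs using Submonoid.closure_induction with
    | mem y hy =>
      rcases hy with hy | hy
      · exact ⟨0, y, hy, by rw [pow_zero, one_mul]⟩
      · exact ⟨1, 1, U.one_mem, by rw [Set.mem_singleton_iff.mp hy, pow_one, mul_one]⟩
    | one => exact ⟨0, 1, U.one_mem, by rw [pow_zero, one_mul]⟩
    | mul y y' _ _ hy hy' =>
      obtain ⟨k, v, hv, rfl⟩ := hy
      obtain ⟨k', v', hv', rfl⟩ := hy'
      exact ⟨k + k', v * v', U.mul_mem hv hv', by rw [pow_add]; ring⟩
  let φA : A →+* L := IsLocalization.lift (M := U) (g := algebraMap R[X] L) fun v => IsLocalization.map_units L (⟨v.1, hUN v.2⟩ : N)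
  letI : Algebra A L := φA.toAlgebra
  haveI : IsScalarTower R[X] A L := ⟨fun p a x => by
    rw [Algebra.smul_def, Algebra.smul_def, Algebra.smul_def, map_mul, mul_assoc]
    congr 1
    exact IsLocalization.lift_eq _ p⟩
  haveI : IsLocalization.Away (algebraMap R[X] A X) L := by
    refine (isLocalization_iff _ L).mpr ⟨?_, ?_, ?_⟩
    · rintro ⟨_, k, rfl⟩
      show IsUnit (algebraMap A L (algebraMap R[X] A X ^ k))
      rw [map_pow, ← IsScalarTower.algebraMap_apply]
      exact (IsLocalization.map_units L (⟨X, hXN⟩ : N)).pow k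
    · intro z
      obtain ⟨⟨r, s⟩, hrs⟩ := IsLocalization.surj N z
      obtain ⟨k, v, hv, hs⟩ := hNform s s.2
      refine ⟨⟨IsLocalization.mk' A r ⟨v, hv⟩, ⟨_, k, rfl⟩⟩, ?_⟩
      refine (IsLocalization.map_units L (⟨v, hUN hv⟩ : N)).mul_left_inj.mp ?_
      show z * algebraMap A L (algebraMap R[X] A X ^ k) * algebraMap R[X] L v = algebraMap A L (IsLocalization.mk' A r ⟨v, hv⟩) * algebraMap R[X] L v
      rw [map_pow, ← IsScalarTower.algebraMap_apply, mul_assoc, ← map_pow, ← map_mul, ← hs,
        IsScalarTower.algebraMap_apply R[X] A L v, ← map_mul, IsLocalization.mk'_spec' A r ⟨v, hv⟩ |> fun h => (mul_comm _ _).trans h,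
        ← IsScalarTower.algebraMap_apply]
      exact hrs
    · intro a b hab
      obtain ⟨⟨p, v⟩, hp⟩ := IsLocalization.surj U a
      obtain ⟨⟨q, w⟩, hq⟩ := IsLocalization.surj U b
      have h : algebraMap R[X] L (p * w) = algebraMap R[X] L (q * v) := by
        rw [IsScalarTower.algebraMap_apply R[X] A L, IsScalarTower.algebraMap_apply R[X] A L, map_mul (algebraMap R[X] A) p, map_mul (algebraMap R[X] A) q, ← hp, ← hq]
        simp only [map_mul, hab]
        ring
      obtain ⟨s, hs⟩ := (IsLocalization.eq_iff_exists N L).mp h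
      obtain ⟨k, v', hv', hs'⟩ := hNform s s.2
      refine ⟨⟨_, k, rfl⟩, ?_⟩
      refine ((IsLocalization.map_units A v).mul (IsLocalization.map_units A w)).mul (IsLocalization.map_units A (⟨v', hv'⟩ : U)) |>.mul_left_inj.mp ?_
      have h2 := congrArg (algebraMap R[X] A) hs
      rw [hs'] at h2
      simp only [map_mul, map_pow, ← hp, ← hq] at h2
      linear_combination h2
  let ιP : A →+* PowerSeries R := IsLocalization.lift (M := U) (g := Polynomial.coeToPowerSeries.ringHom) fun v => by
    rw [PowerSeries.isUnit_iff_constantCoeff]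
    have hv : (v : R[X]).coeff 0 = 1 := v.2
    simp [← PowerSeries.coeff_zero_eq_constantCoeff_apply, hv]
  letI : Algebra A (PowerSeries R) := ιP.toAlgebra
  have hA : ∀ p : R[X], algebraMap A (PowerSeries R) (algebraMap R[X] A p) = (p : PowerSeries R) := fun p =>
    IsLocalization.lift_eq _ p
  letI : Algebra (PowerSeries R) L' := (e.symm.toRingHom.comp (HahnSeries.ofPowerSeries ℤ R)).toAlgebra
  have he' : ∀ f, e (algebraMap (PowerSeries R) L' f) = HahnSeries.ofPowerSeries ℤ R f := fun f => e.apply_symm_apply _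
  have hcomm : ∀ a, algebraMap L L' (algebraMap A L a) = algebraMap (PowerSeries R) L' (algebraMap A (PowerSeries R) a) := by
    intro a
    refine RingHom.congr_fun (IsLocalization.ringHom_ext U (j := (algebraMap L L').comp (algebraMap A L))
      (k := (algebraMap (PowerSeries R) L').comp (algebraMap A (PowerSeries R))) (RingHom.ext fun p => e.injective ?_)) a
    simp only [RingHom.comp_apply]
    rw [hA, he', ← IsScalarTower.algebraMap_apply R[X] A L, he]
    rfl
  letI : Algebra A L' := ((algebraMap L L').comp (algebraMap A L)).toAlgebra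
  haveI : IsScalarTower A L L' := IsScalarTower.of_algebraMap_eq' rfl
  have hjac : algebraMap R[X] A X ∈ Ideal.jacobson (⊥ : Ideal A) := by
    rw [Ideal.mem_jacobson_bot]
    intro a
    obtain ⟨⟨p, v⟩, hp⟩ := IsLocalization.surj U a
    have hmem : X * p + (v : R[X]) ∈ U := by
      show (X * p + (v : R[X])).coeff 0 = 1
      rw [Polynomial.coeff_add, Polynomial.mul_coeff_zero, Polynomial.coeff_X_zero, zero_mul, zero_add]
      exact v.2
    refine isUnit_of_mul_isUnit_left (y := algebraMap R[X] A v) ?_
    rw [add_mul, one_mul, mul_assoc, hp, ← map_mul, ← map_add]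
    exact IsLocalization.map_units A (⟨_, hmem⟩ : U)
  have S := Groth.Agent.H21.DenseInst.powerSeries (A := A) (L := L) hA e he' hcomm hjac fun M a ha => by
    obtain ⟨⟨p, v⟩, hp⟩ := IsLocalization.surj U a
    have h1 : (PowerSeries.X : PowerSeries R) ^ M ∣ (p : PowerSeries R) := by
      rw [← hA p, ← hp, map_mul]
      exact ha.mul_right _
    obtain ⟨p', rfl⟩ : (X : R[X]) ^ M ∣ p := Polynomial.X_pow_dvd_iff.mpr fun k hk => by
      simpa using PowerSeries.X_pow_dvd_iff.mp h1 k hk
    refine ⟨IsLocalization.mk' A p' v, (IsLocalization.map_units A v).mul_left_inj.mp ?_⟩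
    rw [hp, mul_assoc, IsLocalization.mk'_spec, map_mul, map_pow]
  refine ⟨fun M N _ _ _ _ _ _ _ _ h => ?_, fun M' _ _ _ h => ?_⟩
  · obtain ⟨φ⟩ := h
    exact Groth.Agent.H21.DenseProj.injective S φ
  · obtain ⟨n, m, ⟨Φ⟩⟩ := h
    exact Groth.Agent.H21.DenseProj.stablyFree S M' Φ

end Groth.Agent.S15759
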