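import Groth.Statements.S1576
import Groth.Agent.Lib.AssPt.Modules
import Groth.Agent.Lib.CohBasics.Affine
import Mathlib.RingTheory.Ideal.AssociatedPrime.Finiteness
-- import your own Groth.Agent.* helpers here

set_option autoImplicit false
universe u
open CategoryTheory CategoryTheory.Limits AlgebraicGeometry
open Divisors

namespace Groth.Agent.S1576

/-- Let X be locally Noetherian and F coherent. Then the associated points of F lying in any
quasi-compact open subset form a finite set. -/
theorem result (X : Scheme.{u}) [IsLocallyNoetherian X]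
    (F : X.Modules) (hF : Coh.IsCoh F) (U : X.Opens) (hU : IsCompact (U : Set X)) :
    {x : X | x ∈ U ∧ Curv2.IsAssPoint F x}.Finite := by
  haveI : F.IsQuasicoherent := hF.1
  haveI : SheafOfModules.IsFiniteType (R := X.ringCatSheaf) F := hF.2
  have key : ∀ W : X.affineOpens, {x : X | x ∈ W.1 ∧ Curv2.IsAssPoint F x}.Finite := by
    intro W
    haveI : IsNoetherianRing Γ(X, W.1) := IsLocallyNoetherian.component_noetherian W
    haveI : Module.Finite Γ(X, W.1) Γ(F, W.1) := Groth.Agent.Lib.CohBasics.Affine.finite_sections W.2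
    have hfin : {x : W.1 | Curv2.IsAssPoint F x.1}.Finite := by
      refine Set.Finite.of_finite_image (f := fun x => (W.2.primeIdealOf x).asIdeal)
        ((associatedPrimes.finite Γ(X, W.1) Γ(F, W.1)).subset ?_) ?_
      · rintro _ ⟨x, hax, rfl⟩
        obtain ⟨t, ht⟩ := (Groth.Agent.Lib.AssPt.Modules.isAssPoint_iff W.2 x.2).1 hax
        obtain ⟨t', ht'⟩ := Submodule.exists_eq_colon_of_mem_minimalPrimes ht
        refine ⟨(W.2.primeIdealOf x).2, t', ?_⟩
        rw [← ht', Ideal.IsPrime.radical (W.2.primeIdealOf x).2]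
      · intro x _ y _ h
        have := congrArg W.2.fromSpec (PrimeSpectrum.ext h)
        rw [W.2.fromSpec_primeIdealOf, W.2.fromSpec_primeIdealOf] at this
        exact Subtype.ext this
    exact (hfin.image Subtype.val).subset fun x hx => ⟨⟨x, hx.1⟩, hx.2, rfl⟩
  obtain ⟨s, hs, he⟩ := isCompact_and_isOpen_iff_finite_and_eq_biUnion_affineOpens.1 ⟨hU, U.2⟩
  refine ((hs.biUnion fun W _ => key W)).subset ?_
  rintro x ⟨hxU, hx⟩
  have : x ∈ (U : Set X) := hxU
  rw [he] at this
  simp only [Set.mem_iUnion] at this ⊢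
  obtain ⟨W, hW, hxW⟩ := this
  exact ⟨W, hW, hxW, hx⟩

end Groth.Agent.S1576
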