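import Groth.Statements.S15765

set_option autoImplicit false
set_option linter.style.haveILetI false
universe u
open CategoryTheory AlgebraicGeometry
open CAlg

namespace Groth.Agent.S15765

/-- Let B be a topological ring in which the units form an open subset, B₀ → B a ring map with dense
image and X a quasi-affine scheme over B₀. Then the image of any B-point Spec B → X over B₀ is
contained in an affine open of X. (The published statement allows X ind-quasi-affine, i.e. with all
quasi-compact opens quasi-affine; since a B-point lands in a quasi-compact open, this row's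
quasi-affine case carries the content.) -/
theorem result (B : Type u) [CommRing B] [TopologicalSpace B]
    [IsTopologicalRing B] (hB : IsOpen {b : B | IsUnit b})
    (B₀ : Type u) [CommRing B₀] (φ : B₀ →+* B) (hφ : DenseRange φ)
    (X : Scheme.{u}) [X.IsQuasiAffine] (p : X ⟶ Spec (CommRingCat.of B₀))
    (f : Spec (CommRingCat.of B) ⟶ X) (hf : f ≫ p = Spec.map (CommRingCat.ofHom φ)) :
    ∃ U : X.Opens, IsAffineOpen U ∧ Set.range f.base ⊆ (U : Set X) := by
  classical
  let j := X.toSpecΓ
  obtain ⟨ψ, hψ⟩ : ∃ ψ, f ≫ X.toSpecΓ = Spec.map ψ := ⟨_, (Spec.map_preimage _).symm⟩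
  obtain ⟨π, hπ⟩ : ∃ π : B₀ →+* Γ(X, ⊤), (ψ.hom).comp π = φ := by
    refine ⟨p.appTop.hom.comp (Scheme.ΓSpecIso (CommRingCat.of B₀)).inv.hom, ?_⟩
    have e : Spec.map ((Scheme.ΓSpecIso (CommRingCat.of B₀)).inv ≫ p.appTop ≫ ψ) =
        Spec.map (CommRingCat.ofHom φ) := by
      rw [Spec.map_comp, Spec.map_comp, ← hψ]
      simp only [Category.assoc]
      rw [← hf, ← Scheme.toSpecΓ_naturality_assoc, ← SpecMap_ΓSpecIso_hom, ← Spec.map_comp,
        Iso.inv_hom_id, Spec.map_id, Category.comp_id]
    exact RingHom.ext fun x => congr($(Spec.map_injective e) x)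
  obtain ⟨s, hs⟩ := (PrimeSpectrum.isOpen_iff (U := Set.range X.toSpecΓ)).1
    X.toSpecΓ.isOpenEmbedding.isOpen_range
  have htop : (Ideal.span s).map ψ.hom = ⊤ := by
    by_contra hne
    obtain ⟨m, hm, hle⟩ := Ideal.exists_le_maximal _ hne
    let q : PrimeSpectrum B := ⟨m, hm.isPrime⟩
    have h1 : PrimeSpectrum.comap ψ.hom q ∈ PrimeSpectrum.zeroLocus s := fun x hx =>
      hle (Ideal.mem_map_of_mem _ (Ideal.subset_span hx))
    rw [← hs] at h1
    exact h1 ⟨f q, congr($hψ q)⟩
  have h1 : (1 : B) ∈ Ideal.span (ψ.hom '' s) := by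
    rw [← Ideal.map_span, htop]; trivial
  obtain ⟨n, b, v, hbv⟩ := Submodule.mem_span_set'.1 h1
  choose a ha hav using fun i => (v i).2
  let F : (Fin n → B) → B := fun c => ∑ i, c i * ψ.hom (a i)
  have hF : Continuous F := continuous_finsetSum _ fun i _ => (continuous_apply i).mul continuous_const
  have hFb : F b = 1 := by
    rw [← hbv]
    exact Finset.sum_congr rfl fun i _ => by rw [hav]; rfl
  have hdense : DenseRange (Pi.map fun _ : Fin n => φ) := DenseRange.piMap fun _ => hφ
  obtain ⟨_, hu, c, rfl⟩ := hdense.inter_open_nonempty _ (hB.preimage hF)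
    ⟨b, show IsUnit (F b) by rw [hFb]; exact isUnit_one⟩
  let g : Γ(X, ⊤) := ∑ i, π (c i) * a i
  have hg : IsUnit (ψ.hom g) := by
    have : ψ.hom g = F (Pi.map (fun _ : Fin n => φ) c) := by
      simp only [g, map_sum, map_mul, F, Pi.map_apply, ← hπ, RingHom.comp_apply]
    rw [this]; exact hu
  have hsub : (PrimeSpectrum.basicOpen g : Set (PrimeSpectrum Γ(X, ⊤))) ⊆ Set.range X.toSpecΓ := by
    intro q hq
    by_contra hn
    have hz : q ∈ PrimeSpectrum.zeroLocus s := hs ▸ hn
    exact hq (Submodule.sum_mem _ fun i _ => Ideal.mul_mem_left _ _ (hz (ha i)))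
  refine ⟨X.basicOpen g, ?_, ?_⟩
  · rw [← Scheme.toSpecΓ_preimage_basicOpen, ← Scheme.Hom.isAffineOpen_iff_of_isOpenImmersion X.toSpecΓ]
    convert! IsAffineOpen.Spec_basicOpen g
    exact SetLike.coe_injective (Set.image_preimage_eq_of_subset hsub)
  · rintro _ ⟨q, rfl⟩
    rw [← Scheme.toSpecΓ_preimage_basicOpen]
    show X.toSpecΓ (f q) ∈ PrimeSpectrum.basicOpen g
    have e : X.toSpecΓ (f q) = PrimeSpectrum.comap ψ.hom q := congr($hψ q)
    rw [e]
    exact fun hmem => q.isPrime.ne_top (Ideal.eq_top_of_isUnit_mem _ hmem hg)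

end Groth.Agent.S15765
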