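import Groth.Statements.S15768
import Mathlib
import Groth.Agent.Lib.Henselian.PairUP

set_option autoImplicit false
universe u
open Polynomial
open CAlg

namespace Groth.Agent.S15768

open scoped TensorProduct

lemma mul_right_injective₀_X {R : Type*} [CommRing R] :
    Function.Injective (LinearMap.mulLeft R[X] (Polynomial.X : R[X])) := fun a b h => by
  have h' : Polynomial.X * a = Polynomial.X * b := h
  exact Polynomial.monic_X.isRegular.left h'

lemma idem_series {R : Type u} [CommRing R] (n : ℕ) (β : PowerSeries R) (hβ : β * β = PowerSeries.X ^ n * β) :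
    ∃ r : R, IsIdempotentElem r ∧ β = PowerSeries.X ^ n * PowerSeries.C r := by
  classical
  have hprime : ∀ P : Ideal R, P.IsPrime → β.map (Ideal.Quotient.mk P) = 0 ∨
      β.map (Ideal.Quotient.mk P) = PowerSeries.X ^ n := by
    intro P hP
    have h := congrArg (PowerSeries.map (Ideal.Quotient.mk P)) hβ
    rw [map_mul, map_mul, map_pow, PowerSeries.map_X] at h
    rcases eq_or_ne (β.map (Ideal.Quotient.mk P)) 0 with h0 | h0
    · exact Or.inl h0
    · exact Or.inr (mul_right_cancel₀ h0 h)
  have hcoef : ∀ i, i ≠ n → β.coeff i ∈ nilradical R := by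
    intro i hi
    rw [nilradical_eq_sInf, Ideal.mem_sInf]
    intro P hP
    rw [← Ideal.Quotient.eq_zero_iff_mem, ← PowerSeries.coeff_map]
    rcases hprime P hP with h | h <;> simp [h, PowerSeries.coeff_X_pow, hi]
  have hn : IsIdempotentElem (Ideal.Quotient.mk (nilradical R) (β.coeff n)) := by
    rw [IsIdempotentElem, ← map_mul, Ideal.Quotient.eq, nilradical_eq_sInf, Ideal.mem_sInf]
    intro P hP
    rw [← Ideal.Quotient.eq, map_mul, ← PowerSeries.coeff_map]
    rcases hprime P hP with h | h <;> simp [h, PowerSeries.coeff_X_pow]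
  obtain ⟨r, hr, hrn⟩ := exists_isIdempotentElem_eq_of_ker_isNilpotent (Ideal.Quotient.mk (nilradical R))
    (fun x hx => by rw [Ideal.mk_ker] at hx; exact hx) _ ⟨_, rfl⟩ hn
  refine ⟨r, hr, sub_eq_zero.mp ?_⟩
  set δ := β - PowerSeries.X ^ n * PowerSeries.C r with hδ
  have hC : PowerSeries.C r * PowerSeries.C r = PowerSeries.C r := by rw [← map_mul, hr.eq]
  have h3 : δ * (PowerSeries.X ^ n * PowerSeries.X ^ n - δ * δ) = 0 := by
    rw [hδ]
    linear_combination (-β + 3 * PowerSeries.X ^ n * PowerSeries.C r - PowerSeries.X ^ n) * hβ +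
      (-3 * PowerSeries.X ^ n * PowerSeries.X ^ n * β + PowerSeries.X ^ n * PowerSeries.X ^ n * PowerSeries.X ^ n * PowerSeries.C r +
        PowerSeries.X ^ n * PowerSeries.X ^ n * PowerSeries.X ^ n) * hC
  have hδc : ∀ i, δ.coeff i ∈ nilradical R := by
    intro i
    rw [hδ, map_sub, PowerSeries.coeff_X_pow_mul', PowerSeries.coeff_C]
    rcases eq_or_ne i n with rfl | hi
    · simpa using Ideal.Quotient.eq.mp hrn.symm
    · split_ifs
      · omega
      · simpa using hcoef i hi
      · simpa using hcoef i hi
  let low : PowerSeries R := ∑ i ∈ Finset.range n, PowerSeries.monomial i (δ.coeff i)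
  let high : PowerSeries R := PowerSeries.mk fun i => δ.coeff (i + n)
  have hsplit : δ = low + PowerSeries.X ^ n * high := by
    ext i
    rw [map_add, PowerSeries.coeff_X_pow_mul']
    simp only [low, high, map_sum, PowerSeries.coeff_monomial, PowerSeries.coeff_mk, Finset.sum_ite_eq, Finset.mem_range]
    split_ifs with h1 h2 h2
    · omega
    · simp
    · rw [zero_add, Nat.sub_add_cancel h2]
    · omega
  have hlow : IsNilpotent low := isNilpotent_sum fun i _ => by
    obtain ⟨k, hk⟩ := hδc i
    exact ⟨k + 1, by rw [PowerSeries.monomial_pow, pow_succ, hk, zero_mul, map_zero]⟩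
  have hN : IsNilpotent (2 * low * (PowerSeries.X ^ n * high) + low * low) := by
    rw [show 2 * low * (PowerSeries.X ^ n * high) + low * low = (2 * (PowerSeries.X ^ n * high) + low) * low by ring]
    exact Commute.isNilpotent_mul_left (Commute.all _ _) hlow
  obtain ⟨k, hk⟩ := hN
  have hu : IsUnit (1 - high * high) := by
    rw [PowerSeries.isUnit_iff_constantCoeff, map_sub, map_one, map_mul]
    refine IsNilpotent.isUnit_one_sub (Commute.isNilpotent_mul_left (Commute.all _ _) ?_)
    rw [← PowerSeries.coeff_zero_eq_constantCoeff_apply]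
    simpa [high] using mem_nilradical.mp (hδc n)
  have h4 : δ * (PowerSeries.X ^ (n + n) * (1 - high * high)) = δ * (2 * low * (PowerSeries.X ^ n * high) + low * low) := by
    have hsq : δ * δ = (low + PowerSeries.X ^ n * high) * (low + PowerSeries.X ^ n * high) := by rw [← hsplit]
    rw [pow_add]
    linear_combination h3 + δ * hsq
  have h5 : ∀ k, δ * (PowerSeries.X ^ (n + n) * (1 - high * high)) ^ k =
      δ * (2 * low * (PowerSeries.X ^ n * high) + low * low) ^ k := by
    intro k
    induction k with
    | zero => simp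
    | succ k ih =>
      rw [pow_succ, ← mul_assoc, ih, mul_assoc, mul_comm _ (PowerSeries.X ^ _ * _), ← mul_assoc, h4, pow_succ]
      ring
  have h6 := h5 k
  rw [hk, mul_zero, mul_pow, ← pow_mul, mul_comm δ, mul_assoc] at h6
  have h7 : (1 - high * high) ^ k * δ = 0 :=
    (PowerSeries.X_pow_mul_cancel (k := (n + n) * k)) (h6.trans (mul_zero _).symm)
  exact (hu.pow k).mul_right_eq_zero.mp h7


/-- For any ring R and a henselization B of R[t] along (t), every idempotent of B[1/t] comes from a
unique idempotent of R under R → R[t] → B → B[1/t]. -/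
theorem result (R : Type u) [CommRing R]
    (B : Type u) [CommRing B] [Algebra R[X] B] (hB : Hens2.IsPairHenselization R[X] (Ideal.span {(X : R[X])}) B)
    (e : Localization.Away (algebraMap R[X] B X)) (he : IsIdempotentElem e) :
    ∃! r : R, IsIdempotentElem r ∧
      algebraMap B (Localization.Away (algebraMap R[X] B X)) (algebraMap R[X] B (Polynomial.C r)) = e := by
  classical
  revert e
  set t := algebraMap R[X] B X with ht
  intro e he
  set ι : B →+* Localization.Away t := algebraMap B (Localization.Away t) with hι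
  haveI : HenselianRing B ((Ideal.span {(X : R[X])}).map (algebraMap R[X] B)) := hB.1
  haveI hflat : Module.Flat R[X] B := Groth.Agent.Lib.Henselian.PairUP.flat hB
  have htreg : ∀ c : B, t * c = 0 → c = 0 := by
    intro c hc
    have hinj := Module.Flat.lTensor_preserves_injective_linearMap (M := B) (LinearMap.mulLeft R[X] (X : R[X]))
      (mul_right_injective₀_X)
    have h1 := hinj (a₁ := c ⊗ₜ[R[X]] (1 : R[X])) (a₂ := 0) ?_
    · have h2 := congrArg (TensorProduct.rid R[X] B) h1
      simpa using h2
    · rw [map_zero, LinearMap.lTensor_tmul, LinearMap.mulLeft_apply, mul_one]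
      apply (TensorProduct.rid R[X] B).injective
      rw [TensorProduct.rid_tmul, map_zero, Algebra.smul_def]
      exact hc
  have htreg' : ∀ (n : ℕ) (c : B), t ^ n * c = 0 → c = 0 := by
    intro n
    induction n with
    | zero => simp
    | succ n ih => intro c hc; rw [pow_succ, mul_assoc] at hc; exact htreg _ (ih _ hc)
  have hιinj : Function.Injective ι := by
    rw [injective_iff_map_eq_zero]
    intro x hx
    obtain ⟨⟨_, k, rfl⟩, hk⟩ := (IsLocalization.map_eq_zero_iff (Submonoid.powers t) _ x).mp hx
    exact htreg' k x hk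
  have hle : (Ideal.span {(X : R[X])}).map (Polynomial.coeToPowerSeries.ringHom) ≤ Ideal.span {(PowerSeries.X : PowerSeries R)} := by
    rw [Ideal.map_span, Set.image_singleton]
    simp
  obtain ⟨g, hg, -⟩ := hB.2 (PowerSeries R) (Ideal.span {(PowerSeries.X : PowerSeries R)})
    Polynomial.coeToPowerSeries.ringHom inferInstance hle
  have hgP : ∀ P : R[X], g (algebraMap R[X] B P) = (P : PowerSeries R) := fun P => RingHom.congr_fun hg P
  have hgt : g t = PowerSeries.X := by rw [ht, hgP]; simp
  have hdiv : ∀ (b : B) (n : ℕ), PowerSeries.X ^ n ∣ g b → ∃ b', b = t ^ n * b' := by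
    intro b n hn
    obtain ⟨P, hP⟩ := (Groth.Agent.Lib.Henselian.PairUP.quotientMap_pow_bijective hB n).2 (Ideal.Quotient.mk _ b)
    obtain ⟨P, rfl⟩ := Ideal.Quotient.mk_surjective P
    rw [Ideal.quotientMap_mk, Ideal.Quotient.eq, Ideal.span_singleton_pow, Ideal.map_span, Set.image_singleton,
      map_pow, Ideal.mem_span_singleton'] at hP
    obtain ⟨c, hc⟩ := hP
    have hPn : X ^ n ∣ P := by
      rw [Polynomial.X_pow_dvd_iff]
      intro d hd
      rw [← Polynomial.coeff_coe, ← hgP, show algebraMap R[X] B P = b + c * t ^ n by linear_combination -hc,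
        map_add, map_mul, map_pow, hgt]
      exact PowerSeries.X_pow_dvd_iff.mp (dvd_add hn (dvd_mul_left _ _)) d hd
    obtain ⟨P', rfl⟩ := hPn
    refine ⟨algebraMap R[X] B P' - c, ?_⟩
    rw [map_mul, map_pow] at hc
    linear_combination hc
  obtain ⟨⟨b, ⟨_, n, rfl⟩⟩, hb⟩ := IsLocalization.surj (Submonoid.powers t) e
  simp only [map_pow] at hb
  have hbb : b * b = t ^ n * b := by
    apply hιinj
    rw [map_mul, map_mul, map_pow, ← hb]
    linear_combination (ι t ^ n * ι t ^ n) * he.eq
  obtain ⟨r, hr, hgb⟩ := idem_series n (g b) (by rw [← map_mul, hbb, map_mul, map_pow, hgt])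
  obtain ⟨b', hb'⟩ := hdiv b n ⟨_, hgb⟩
  subst hb'
  have hidem : IsIdempotentElem b' := by
    refine sub_eq_zero.mp (htreg' (n + n) _ ?_)
    rw [pow_add]
    linear_combination hbb
  have hgb' : g b' = PowerSeries.C r := by
    rw [map_mul, map_pow, hgt] at hgb
    exact sub_eq_zero.mp ((PowerSeries.X_pow_mul_cancel (k := n)) (by rw [mul_zero, mul_sub, hgb, sub_self]))
  have hmain : ι (algebraMap R[X] B (Polynomial.C r)) = e := by
    set c := algebraMap R[X] B (Polynomial.C r) with hc
    have hcid : IsIdempotentElem c := (hr.map (Polynomial.C : R →+* R[X])).map (algebraMap R[X] B)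
    obtain ⟨d, hd⟩ := hdiv (b' - c) 1 ⟨0, by rw [map_sub, hgb', hc, hgP, Polynomial.coe_C, sub_self, mul_zero]⟩
    rw [pow_one] at hd
    have hj : b' - c ∈ Ideal.jacobson (⊥ : Ideal B) := by
      refine HenselianRing.jac (I := (Ideal.span {(X : R[X])}).map (algebraMap R[X] B)) ?_
      rw [Ideal.map_span, Set.image_singleton, Ideal.mem_span_singleton, hd]
      exact dvd_mul_right _ _
    have hu := Ideal.mem_jacobson_bot.mp hj (-(b' - c))
    have h3 : (b' - c) * ((b' - c) * -(b' - c) + 1) = 0 := by
      linear_combination (-b' + 3 * c - 1) * hidem.eq + (-3 * b' + c + 1) * hcid.eq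
    have hbc : b' = c := sub_eq_zero.mp (hu.mul_left_eq_zero.mp h3)
    rw [map_mul, map_pow, hbc] at hb
    exact ((IsLocalization.Away.algebraMap_isUnit t).pow n).mul_left_inj.mp ((mul_comm _ _).trans hb.symm)
  refine ⟨r, ⟨hr, hmain⟩, fun r' hr' => ?_⟩
  have h1 := congrArg g (hιinj (hr'.2.trans hmain.symm))
  rw [hgP, hgP, Polynomial.coe_C, Polynomial.coe_C] at h1
  exact PowerSeries.C_injective h1

end Groth.Agent.S15768
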