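import Groth.Statements.S15769
import Groth.Agent.H73.Glue.Morphism

set_option autoImplicit false
set_option linter.style.haveILetI false
universe u
open CategoryTheory AlgebraicGeometry
open CAlg

namespace Groth.Agent.S15769

/-- Case of a quasi-affine X over U = Spec A: let φ : A → A' and t ∈ A be such that A/t^m → A'/t^m is
bijective for every m and φ restricts to a bijection between the t-power-torsion submodules; let X
be a quasi-affine scheme over Spec A. Then sections of X over Spec A correspond bijectively to pairs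
of an A'-point and an A[1/t]-point of X over A that agree over A'[1/t]. (The published statement
allows a flat A-scheme U as base and X either ind-quasi-affine or subprojective over U; this row is
U = Spec A with X quasi-affine.) -/
theorem result (A A' : Type u) [CommRing A] [CommRing A']
    (φ : A →+* A') (t : A)
    (hq : ∀ m : ℕ, Function.Bijective (Ideal.quotientMap (Ideal.map φ (Ideal.span {t} ^ m)) φ Ideal.le_comap_map))
    (htor : ∀ a' : A', (∃ m : ℕ, φ t ^ m * a' = 0) → ∃! a : A, (∃ m : ℕ, t ^ m * a = 0) ∧ φ a = a')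
    (X : Scheme.{u}) [X.IsQuasiAffine] (p : X ⟶ Spec (CommRingCat.of A)) :
    (∀ s₁ s₂ : Spec (CommRingCat.of A) ⟶ X, s₁ ≫ p = 𝟙 _ → s₂ ≫ p = 𝟙 _ →
        Spec.map (CommRingCat.ofHom φ) ≫ s₁ = Spec.map (CommRingCat.ofHom φ) ≫ s₂ →
        Spec.map (CommRingCat.ofHom (algebraMap A (Localization.Away t))) ≫ s₁ =
          Spec.map (CommRingCat.ofHom (algebraMap A (Localization.Away t))) ≫ s₂ →
        s₁ = s₂) ∧
    (∀ (x' : Spec (CommRingCat.of A') ⟶ X) (xt : Spec (CommRingCat.of (Localization.Away t)) ⟶ X),
        x' ≫ p = Spec.map (CommRingCat.ofHom φ) →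
        xt ≫ p = Spec.map (CommRingCat.ofHom (algebraMap A (Localization.Away t))) →
        Spec.map (CommRingCat.ofHom (algebraMap A' (Localization.Away (φ t)))) ≫ x' =
          Spec.map (CommRingCat.ofHom (Localization.awayMap φ t)) ≫ xt →
        ∃ s : Spec (CommRingCat.of A) ⟶ X, s ≫ p = 𝟙 _ ∧
          Spec.map (CommRingCat.ofHom φ) ≫ s = x' ∧
          Spec.map (CommRingCat.ofHom (algebraMap A (Localization.Away t))) ≫ s = xt) := by
  letI : Algebra A A' := φ.toAlgebra
  have hD : H73.Glue.GlueData A A' t := ⟨hq, htor⟩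
  haveI : Flat (𝟙 (Spec (CommRingCat.of A))) := inferInstance
  have lU : ∀ {Y : Scheme.{u}} [Y.IsQuasiAffine] (f g : Spec (CommRingCat.of A) ⟶ Y),
      Spec.map (CommRingCat.ofHom φ) ≫ f = Spec.map (CommRingCat.ofHom φ) ≫ g →
      Spec.map (CommRingCat.ofHom (algebraMap A (Localization.Away t))) ≫ f =
        Spec.map (CommRingCat.ofHom (algebraMap A (Localization.Away t))) ≫ g → f = g := by
    intro Y _ f g h' hU
    refine H73.Glue.hom_ext hD (𝟙 _) f g ?_ ?_
    · rw [← Category.comp_id (Limits.pullback.fst _ _), Limits.pullback.condition,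
        Category.assoc, Category.assoc]
      exact congrArg (Limits.pullback.snd _ _ ≫ ·) hU
    · rw [← Category.comp_id (Limits.pullback.fst _ _), Limits.pullback.condition,
        Category.assoc, Category.assoc]
      exact congrArg (Limits.pullback.snd _ _ ≫ ·) h'
  refine ⟨fun s₁ s₂ _ _ h' hU => lU s₁ s₂ h' hU, fun x' xt hx' hxt hcomp => ?_⟩
  obtain ⟨s, hsU, hs'⟩ := H73.Glue.exists_glue hD (𝟙 (Spec (CommRingCat.of A)))
    (Limits.pullback.snd _ _ ≫ xt) (Limits.pullback.snd _ _ ≫ x') (fun T x k hx hx'' => by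
      rw [Limits.pullback.lift_snd_assoc, Limits.pullback.lift_snd_assoc, Category.assoc, Category.assoc]
      exact congrArg (k ≫ ·) hcomp.symm)
  have eU : H73.Glue.iU A t ≫ s = xt := by
    have := congrArg (Limits.pullback.lift (H73.Glue.iU A t) (𝟙 _)
      (by rw [Category.comp_id, Category.id_comp]) ≫ ·) hsU
    erw [Limits.pullback.lift_fst_assoc, Limits.pullback.lift_snd_assoc, Category.id_comp] at this
    exact this
  have e' : H73.Glue.i' A A' ≫ s = x' := by
    have := congrArg (Limits.pullback.lift (H73.Glue.i' A A') (𝟙 _)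
      (by rw [Category.comp_id, Category.id_comp]) ≫ ·) hs'
    erw [Limits.pullback.lift_fst_assoc, Limits.pullback.lift_snd_assoc, Category.id_comp] at this
    exact this
  have eU2 : Spec.map (CommRingCat.ofHom (algebraMap A (Localization.Away t))) ≫ s = xt := eU
  have e2 : Spec.map (CommRingCat.ofHom φ) ≫ s = x' := e'
  refine ⟨s, lU _ _ ?_ ?_, e2, eU2⟩
  · rw [← Category.assoc, e2, hx', Category.comp_id]
  · rw [← Category.assoc, eU2, hxt, Category.comp_id]

end Groth.Agent.S15769
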