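import Groth.Statements.S15770
import Mathlib

set_option autoImplicit false
universe u
open CAlg

namespace Groth.Agent.S15770

/-- Let B be a topological ring with Bˣ ⊂ B open and M, M' finitely generated projective B-modules, and
endow Hom_B(M, M') with the module topology (the canonical topology of a finite module). Then the
set of surjective B-linear maps M → M' is open. -/
theorem result (B : Type u) [CommRing B] [TopologicalSpace B]
    [IsTopologicalRing B] (hB : IsOpen {b : B | IsUnit b})
    (M M' : Type u) [AddCommGroup M] [Module B M] [Module.Finite B M] [Module.Projective B M]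
    [AddCommGroup M'] [Module B M'] [Module.Finite B M'] [Module.Projective B M']
    [TopologicalSpace (M →ₗ[B] M')] [IsModuleTopology B (M →ₗ[B] M')] :
    IsOpen {f : M →ₗ[B] M' | Function.Surjective f} := by
  classical
  rw [isOpen_iff_forall_mem_open]
  intro f hf
  obtain ⟨g, hg⟩ := Module.projective_lifting_property f LinearMap.id hf
  obtain ⟨n, π, ι, -, -, hπι⟩ := Module.Finite.exists_comp_eq_id_of_projective B M'
  let P : M' →ₗ[B] M' := LinearMap.id
  let σ : (M →ₗ[B] M') →ₗ[B] (Fin n → B) →ₗ[B] (Fin n → B) :=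
    (ι.compRight B).comp ((LinearMap.lcomp B M' (g ∘ₗ π)))
  let Z : (M →ₗ[B] M') →ₗ[B] Matrix (Fin n) (Fin n) B :=
    LinearMap.toMatrix'.toLinearMap ∘ₗ σ
  let c₀ : Matrix (Fin n) (Fin n) B := LinearMap.toMatrix' (LinearMap.id - ι ∘ₗ π)
  haveI : IsModuleTopology B (Matrix (Fin n) (Fin n) B) :=
    inferInstanceAs (IsModuleTopology B (Fin n → Fin n → B))
  have hcont : Continuous fun h => (Z h + c₀).det :=
    ((IsModuleTopology.continuous_of_linearMap Z).add continuous_const).matrix_det
  have hZ : ∀ h : M →ₗ[B] M', Z h + c₀ =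
      LinearMap.toMatrix' (ι ∘ₗ h ∘ₗ g ∘ₗ π + (LinearMap.id - ι ∘ₗ π)) := fun h => by
    rw [map_add]; rfl
  refine ⟨(fun h => (Z h + c₀).det) ⁻¹' {b : B | IsUnit b}, fun h hh => ?_, hB.preimage hcont, ?_⟩
  · simp only [Set.mem_preimage, Set.mem_ofPred_eq, hZ] at hh
    rw [← Matrix.isUnit_iff_isUnit_det, ← Matrix.mulVec_surjective_iff_isUnit] at hh
    intro y
    obtain ⟨v, hv⟩ := hh (ι y)
    rw [LinearMap.toMatrix'_mulVec] at hv
    have h1 := congrArg π hv
    have hπι' : ∀ w, π (ι w) = w := fun w => LinearMap.congr_fun hπι w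
    simp only [LinearMap.add_apply, LinearMap.sub_apply, LinearMap.comp_apply, LinearMap.id_apply, map_add,
      map_sub, hπι', sub_self, add_zero] at h1
    exact ⟨g (π v), h1⟩
  · simp only [Set.mem_preimage, Set.mem_ofPred_eq, hZ]
    have hfg : ι ∘ₗ f ∘ₗ g ∘ₗ π + (LinearMap.id - ι ∘ₗ π) = LinearMap.id := by
      rw [← LinearMap.comp_assoc π g f, hg, LinearMap.id_comp, add_sub_cancel]
    rw [hfg, LinearMap.toMatrix'_id, Matrix.det_one]
    exact isUnit_one

end Groth.Agent.S15770
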