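import Groth.Statements.S15774
import Groth.Agent.H21.DenseProj
import Groth.Agent.H21.DenseInst
import Mathlib.Tactic.LinearCombination
import Mathlib.LinearAlgebra.Matrix.Determinant.Basic

set_option autoImplicit false
universe u
open CAlg

namespace Groth.Agent.S15774

/-- The instance A[1/t] → Â[1/t]: if (A, tA) is a Henselian pair and the t-power torsion of A is
bounded, then every idempotent of Â[1/t] (Â the t-adic completion) comes from a unique idempotent of
A[1/t]. -/
theorem result (A : Type u) [CommRing A] (t : A) [HenselianRing A (Ideal.span {t})]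
    (hbd : ∃ N : ℕ, ∀ a : A, (∃ m : ℕ, t ^ m * a = 0) → t ^ N * a = 0)
    (e : Localization.Away (algebraMap A (AdicCompletion (Ideal.span {t}) A) t)) (he : IsIdempotentElem e) :
    ∃! e₀ : Localization.Away t, IsIdempotentElem e₀ ∧ Localization.awayMap (algebraMap A (AdicCompletion (Ideal.span {t}) A)) t e₀ = e := by
  classical
  letI : Algebra (Localization.Away t) (Localization.Away (algebraMap A (AdicCompletion (Ideal.span {t}) A) t)) :=
    (Localization.awayMap (algebraMap A (AdicCompletion (Ideal.span {t}) A)) t).toAlgebra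
  have S := Groth.Agent.H21.DenseInst.completion t
    (HenselianRing.jac (R := A) (I := Ideal.span {t}) (Ideal.mem_span_singleton_self t)) rfl
  let ψ := algebraMap (Localization.Away t) (Localization.Away (algebraMap A (AdicCompletion (Ideal.span {t}) A) t))
  let e' : Matrix (Fin 1) (Fin 1) (Localization.Away (algebraMap A (AdicCompletion (Ideal.span {t}) A) t)) := Matrix.of fun _ _ => e
  have he' : e' * e' = e' := by
    ext i j
    simpa [e', Matrix.mul_apply] using he.eq
  obtain ⟨z, hz⟩ := S.exists_sm e'
  obtain ⟨X, hX, hne⟩ := Groth.Agent.H21.DenseProj.exists_idem_near S e' he' (z + 1)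
  have key : ∀ f : Localization.Away t, IsIdempotentElem f → S.Sm ((z + 1 : ℕ) : ℤ) (e' - (Matrix.of fun _ _ : Fin 1 => f).map ψ) → ψ f = e := by
    intro f hf hnf
    obtain ⟨w, hw, hew⟩ := S.exists_conj (f := (Matrix.of fun _ _ : Fin 1 => f).map ψ) he'
      (by ext i j; simp only [Matrix.mul_apply, Fin.sum_univ_one, Matrix.map_apply, Matrix.of_apply, ← map_mul, hf.eq])
      hz le_rfl (by rw [← neg_sub e']; exact hnf.neg S)
    have h := congrFun (congrFun hew 0) 0
    rw [Matrix.det_fin_one] at hw
    simp only [Matrix.mul_apply, Fin.sum_univ_one, Matrix.map_apply, Matrix.of_apply, e'] at h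
    rw [mul_comm (w 0 0)] at h
    exact (hw.mul_left_inj.mp h).symm
  have hX0 : IsIdempotentElem (X 0 0) := by simpa [IsIdempotentElem, Matrix.mul_apply] using congrFun (congrFun hX 0) 0
  have hX00 : X = Matrix.of fun _ _ : Fin 1 => X 0 0 := by
    ext i j; rw [Subsingleton.elim i 0, Subsingleton.elim j 0]; rfl
  refine ⟨X 0 0, ⟨hX0, key _ hX0 (by rw [← hX00]; exact hne)⟩, ?_⟩
  rintro f ⟨hf, hfe⟩
  -- two idempotents with the same image
  let d := f - X 0 0
  have hd0 : S.Sm ((1 : ℕ) : ℤ) ((Matrix.of fun _ _ : Fin 1 => d).map ψ) := by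
    have hzero : ψ d = 0 := by
      rw [map_sub, key _ hX0 (by rw [← hX00]; exact hne)]
      exact sub_eq_zero.mpr hfe
    convert S.sm_zero (I := Fin 1) (J := Fin 1) ((1 : ℕ) : ℤ) using 1
    ext i j
    simpa using hzero
  have hu : IsUnit (1 - d * d) := by
    have h := S.isUnit_of_sm (M := 1) le_rfl (C := (1 : Matrix (Fin 1) (Fin 1) (Localization.Away t)) - Matrix.of fun _ _ => d * d) (by
      have hzero : ψ d = 0 := by
        rw [map_sub, key _ hX0 (by rw [← hX00]; exact hne)]
        exact sub_eq_zero.mpr hfe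
      convert S.sm_zero (I := Fin 1) (J := Fin 1) ((1 : ℕ) : ℤ) using 1
      ext i j
      rw [Subsingleton.elim i j]
      have h2 : ψ d * ψ d = 0 := by rw [hzero, zero_mul]
      rw [← map_mul] at h2
      simp [Matrix.map_apply, h2, ψ] at h2 ⊢)
    rw [Matrix.det_fin_one] at h
    simpa using h
  have hd3 : (1 - d * d) * d = 0 := by
    have h1 : f * f = f := hf
    have h2 : X 0 0 * X 0 0 = X 0 0 := hX0
    simp only [d]
    linear_combination (-(f + 1 - 3 * X 0 0)) * h1 + (1 - 3 * f + X 0 0) * h2
  exact sub_eq_zero.mp (hu.mul_right_eq_zero.mp hd3)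

end Groth.Agent.S15774
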