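import Groth.Statements.S1578
import Groth.Agent.H97.AssTilde
-- import your own Groth.Agent.* helpers here

set_option autoImplicit false
universe u
open CategoryTheory CategoryTheory.Limits AlgebraicGeometry
open Divisors

namespace Groth.Agent.S1578

/-- Let M be a module over a ring A, F the associated quasi-coherent module on Spec A, and p a prime of
A. If p is an associated prime of M then p is an associated point of F; the converse holds when p is
finitely generated. -/
theorem result (A : CommRingCat.{u}) (M : ModuleCat.{u} A)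
    (p : Spec A) :
    (p.asIdeal ∈ associatedPrimes A M → Curv2.IsAssPoint (tilde M) p) ∧
    (p.asIdeal.FG → Curv2.IsAssPoint (tilde M) p → p.asIdeal ∈ associatedPrimes A M) := by
  rw [← Groth.Agent.Lib.AssPt.Basic.isWeakAssPoint_iff_isAssPoint,
    Groth.Agent.H97.AssTilde.isWeakAssPoint_tilde_iff]
  refine ⟨?_, fun hp ⟨m, hm⟩ => Groth.Agent.H97.AssTilde.exists_eq_radical_of_fg hp hm⟩
  rintro ⟨hp, m, hm⟩
  rw [Groth.Agent.Lib.AssPt.Basic.colon_bot_singleton] at hm
  refine ⟨m, ⟨⟨hp, hm.ge.trans' Ideal.le_radical⟩, fun q hq hqp => ?_⟩⟩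
  exact hm.le.trans (hq.1.radical_le_iff.2 hq.2)

end Groth.Agent.S1578
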