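import Groth.Statements.S15784
import Mathlib

set_option autoImplicit false
universe u
open Neron

namespace Groth.Agent.S15784

/-- Let O be a discrete valuation ring with fraction field L and uniformizer ϖ', let ϖ be an element of
the maximal ideal of O, let q = u·ϖ'^n with u a unit of O and n ≥ 1, and let m ≥ 1 be a divisor of
n. Then the following are equivalent: (i) there is a nonzero element z = w·ϖ'^a of L, with w a unit
of O and a an integer congruent to n/m modulo n, and an integer j such that z^m·q^j lies in 1 + ϖO;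
(ii) ϖ'^n/q is an m-th power in the group of units of O/ϖO, that is, u·(y^m + ϖ·r) = 1 for some y, r
∈ O. (The published statement phrases (i) geometrically, as the existence of a point of order m in
the special fibre of the Néron model of the Weil restriction of the Tate curve with parameter q from
L down to a subfield over which L is totally ramified with ϖ a uniformizer of the subfield, whose
image in the component group also has order m; this row states the equivalence between (i) and (ii)
that the printed argument establishes.) -/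
theorem result
    (O : Type u) [CommRing O] [IsDomain O] [IsDiscreteValuationRing O]
    (L : Type u) [Field L] [Algebra O L] [IsFractionRing O L]
    (ϖ' : O) (hϖ' : Irreducible ϖ') (ϖ : O) (hϖ : ϖ ∈ IsLocalRing.maximalIdeal O)
    (n : ℕ) (hn : 1 ≤ n) (u : Oˣ) (q : O) (hq : q = u * ϖ' ^ n)
    (m : ℕ) (hm : 1 ≤ m) (hmn : m ∣ n) :
    (∃ (w : Oˣ) (a j t : ℤ) (r : O), a = (n / m : ℕ) + t * n ∧
        (algebraMap O L w * algebraMap O L ϖ' ^ a) ^ m * algebraMap O L q ^ j = algebraMap O L (1 + ϖ * r)) ↔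
      ∃ y r : O, (u : O) * (y ^ m + ϖ * r) = 1 := by
  classical
  let g := algebraMap O L
  have hg : Function.Injective g := IsFractionRing.injective O L
  let P : L := g ϖ'
  have hP : P ≠ 0 := (map_ne_zero_iff _ hg).2 hϖ'.ne_zero
  let U : Oˣ →* Lˣ := Units.map g.toMonoidHom
  have hU : ∀ (x : Oˣ) (k : ℤ), ((U x : Lˣ) : L) ^ k = g ((x ^ k : Oˣ) : O) := fun x k => by
    rw [← Units.val_zpow_eq_zpow_val, ← map_zpow]; rfl
  have hn' : m * (n / m) = n := Nat.mul_div_cancel' hmn
  have expand : ∀ (w : Oˣ) (a j : ℤ), (g w * P ^ a) ^ m * g q ^ j =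
      g ((w ^ m * u ^ j : Oˣ) : O) * P ^ (a * m + n * j) := by
    intro w a j
    rw [hq, map_mul, map_pow, mul_zpow, mul_pow, zpow_add₀ hP, zpow_mul, zpow_natCast, zpow_mul, zpow_natCast,
      Units.val_mul, map_mul, Units.val_pow_eq_pow_val, map_pow, ← hU u j]
    show _ * ((U u : L) ^ j * _) = _
    ring
  have hunit : ∀ r : O, IsUnit (1 + ϖ * r) := fun r => by
    by_contra h
    have h' : 1 + ϖ * r ∈ IsLocalRing.maximalIdeal O := h
    have := Ideal.sub_mem _ h' (Ideal.mul_mem_right r _ hϖ)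
    rw [add_sub_cancel_right] at this
    exact (IsLocalRing.maximalIdeal.isMaximal O).ne_top ((Ideal.eq_top_iff_one _).2 this)
  have huniq : ∀ (x y : Oˣ) (k : ℤ), g x * P ^ k = g y → k = 0 ∧ x = y := by
    intro x y k h
    have hnot : ∀ (i : ℕ) (x y : Oˣ), g x * P ^ i = g y → i = 0 := by
      intro i x y h
      by_contra hi
      rw [← map_pow, ← map_mul] at h
      exact hϖ'.not_isUnit ((isUnit_pow_iff hi).1 (isUnit_of_mul_isUnit_right (hg h ▸ y.isUnit)))
    obtain ⟨i, rfl | rfl⟩ := k.eq_nat_or_neg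
    · rw [zpow_natCast] at h
      obtain rfl := hnot i x y h
      exact ⟨rfl, Units.ext (hg (by simpa using h))⟩
    · have h' : g y * P ^ i = g x := by
        rw [← h, mul_assoc, zpow_neg, zpow_natCast, inv_mul_cancel₀ (pow_ne_zero _ hP), mul_one]
      obtain rfl := hnot i y x h'
      exact ⟨rfl, Units.ext (hg (by simpa using h))⟩
  constructor
  · rintro ⟨w, a, j, t, r, ha, he⟩
    rw [expand] at he
    obtain ⟨hk, hx⟩ := huniq _ (hunit r).unit _ (he.trans (congrArg g (hunit r).unit_spec.symm))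
    have hm' : (m : ℤ) * ((n / m : ℕ) : ℤ) = n := by exact_mod_cast hn'
    have hj : j = -(1 + t * m) := by
      rw [ha] at hk
      have h2 : (n : ℤ) * (j + (1 + t * m)) = 0 := by linear_combination hk - hm'
      rcases mul_eq_zero.1 h2 with h | h
      · exact absurd h (by exact_mod_cast (show n ≠ 0 by omega))
      · linarith
    let v : Oˣ := (w * u ^ (-t))
    have hv : v ^ m * u⁻¹ = (hunit r).unit := by
      rw [← hx, hj, mul_pow, ← zpow_natCast (u ^ (-t)), ← zpow_mul, mul_assoc, ← zpow_neg_one, ← zpow_add]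
      congr 2
      ring
    let e := (hunit r).unit
    refine ⟨((v⁻¹ : Oˣ) : O), ((u⁻¹ * e⁻¹ : Oˣ) : O) * r, ?_⟩
    have he' : u * (v⁻¹) ^ m = e⁻¹ := by
      rw [eq_inv_iff_mul_eq_one, show e = v ^ m * u⁻¹ from hv.symm, inv_pow]
      group
    have h3 : (u : O) * ((v⁻¹ : Oˣ) : O) ^ m = ((e⁻¹ : Oˣ) : O) := by
      rw [← he']; simp
    calc (u : O) * (((v⁻¹ : Oˣ) : O) ^ m + ϖ * (((u⁻¹ * e⁻¹ : Oˣ) : O) * r))
        = (u : O) * ((v⁻¹ : Oˣ) : O) ^ m + (u * ((u⁻¹ : Oˣ) : O)) * ((e⁻¹ : Oˣ) : O) * (ϖ * r) := by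
          rw [Units.val_mul]; ring
      _ = ((e⁻¹ : Oˣ) : O) * (1 + ϖ * r) := by rw [h3, Units.mul_inv]; ring
      _ = 1 := by rw [← (hunit r).unit_spec]; exact e.inv_mul
  · rintro ⟨y, r, h⟩
    have hy : IsUnit y := by
      by_contra hy
      have h' : y ∈ IsLocalRing.maximalIdeal O := hy
      have : (1 : O) ∈ IsLocalRing.maximalIdeal O := by
        rw [← h]
        exact Ideal.mul_mem_left _ _ (Ideal.add_mem _ (Ideal.pow_mem_of_mem _ h' m (by omega))
          (Ideal.mul_mem_right r _ hϖ))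
      exact (IsLocalRing.maximalIdeal.isMaximal O).ne_top ((Ideal.eq_top_iff_one _).2 this)
    obtain ⟨y, rfl⟩ := hy
    refine ⟨y⁻¹, (n / m : ℕ), -1, 0, r * ((y⁻¹ ^ m : Oˣ) : O), by simp, ?_⟩
    rw [expand]
    have hk : ((n / m : ℕ) : ℤ) * m + n * (-1) = 0 := by
      have hm' : (m : ℤ) * ((n / m : ℕ) : ℤ) = n := by exact_mod_cast hn'
      linear_combination hm'
    rw [hk, zpow_zero, mul_one]
    apply congrArg
    rw [zpow_neg_one, Units.val_mul]
    have h1 : ((u⁻¹ : Oˣ) : O) = (y : O) ^ m + ϖ * r := by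
      rw [← mul_one ((u⁻¹ : Oˣ) : O), ← h, ← mul_assoc, Units.inv_mul, one_mul]
    rw [h1, mul_add, ← Units.val_pow_eq_pow_val y, ← Units.val_mul, inv_pow, inv_mul_cancel, Units.val_one]
    ring

end Groth.Agent.S15784
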