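import Groth.Statements.S15789
import Groth.Agent.Lib.WildFam.Galois

set_option autoImplicit false
universe u
open WildQuot

namespace Groth.Agent.S15789

open MvPolynomial in
/-- Let `k` be a field of characteristic `p > 0`, `n ≥ 2`, `R = k[[x_1, …, x_n]]`, `a_1, …, a_n ∈ R`
nonzero with zero constant term, and `A = R[u_1, …, u_n] / (u_i ^ p - a_i ^ (p-1) u_i - x_i : i =
1..n)`. Then the group of `R`-algebra automorphisms of `A` has exactly `p ^ n` elements, is
commutative and every element has `p`-th power the identity (it is the elementary abelian group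
generated by the substitutions `u_i ↦ u_i + a_i`), and an element of `A` is fixed by every
`R`-algebra automorphism if and only if it comes from `R`. (The published statement says that
`Frac(A)/Frac(R)` is Galois with group `(ℤ/pℤ)^n` and `R = A^H`; this row states it through the
`R`-algebra automorphisms of `A`.) -/
theorem result
    (p : ℕ) [Fact p.Prime] (k : Type u) [Field k] [CharP k p] (n : ℕ) (hn : 2 ≤ n)
    (a : Fin n → MvPowerSeries (Fin n) k)
    (ha0 : ∀ i, a i ≠ 0) (ham : ∀ i, MvPowerSeries.constantCoeff (a i) = 0) :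
    let R := MvPowerSeries (Fin n) k
    let I : Ideal (MvPolynomial (Fin n) R) :=
      Ideal.span (Set.range fun i : Fin n =>
        X i ^ p - C (a i ^ (p - 1)) * X i - C (MvPowerSeries.X i))
    Nat.card ((MvPolynomial (Fin n) R ⧸ I) ≃ₐ[R] (MvPolynomial (Fin n) R ⧸ I)) = p ^ n ∧
      (∀ σ τ : (MvPolynomial (Fin n) R ⧸ I) ≃ₐ[R] (MvPolynomial (Fin n) R ⧸ I), σ * τ = τ * σ) ∧
      (∀ σ : (MvPolynomial (Fin n) R ⧸ I) ≃ₐ[R] (MvPolynomial (Fin n) R ⧸ I), σ ^ p = 1) ∧
      (∀ b : MvPolynomial (Fin n) R ⧸ I,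
        (∀ σ : (MvPolynomial (Fin n) R ⧸ I) ≃ₐ[R] (MvPolynomial (Fin n) R ⧸ I), σ b = b) ↔
          b ∈ Set.range (algebraMap R (MvPolynomial (Fin n) R ⧸ I))) := by
  haveI := Groth.Agent.H24.PowerSeries.isRegularLocalRing_fin k n
  haveI := Groth.Agent.H24.PowerSeries.isAdicComplete k (Fin n)
  have hp : 2 ≤ p := (Fact.out : p.Prime).two_le
  have hm : IsLocalRing.maximalIdeal (MvPowerSeries (Fin n) k) =
      Ideal.span (Set.range fun i : Fin n => MvPowerSeries.X i) :=
    Groth.Agent.H24.PowerSeries.maximalIdeal_eq k (Fin n)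
  have hma : ∀ i, a i ∈ IsLocalRing.maximalIdeal (MvPowerSeries (Fin n) k) := fun i => by
    rw [IsLocalRing.mem_maximalIdeal, mem_nonunits_iff, MvPowerSeries.isUnit_iff_constantCoeff, ham i]
    exact not_isUnit_zero
  intro R I
  let x : Fin n → R := fun i => MvPowerSeries.X i
  haveI hreg : IsRegularLocalRing (Groth.Agent.Lib.WildFam.Basic.Fam p a x) :=
    Groth.Agent.Lib.WildFam.Local.isRegularLocalRing hp hm hma
      (Groth.Agent.H24.PowerSeries.ringKrullDim_eq k n)
  haveI : IsDomain (Groth.Agent.Lib.WildFam.Basic.Fam p a x) :=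
    Groth.Agent.Lib.Regular.Quotient.isDomain _
  haveI : IsIntegrallyClosed (Groth.Agent.Lib.WildFam.Basic.Fam p a x) :=
    Groth.Agent.Lib.Regular.UFD.isIntegrallyClosed _
  haveI hf : FaithfulSMul R (Groth.Agent.Lib.WildFam.Basic.Fam p a x) :=
    Groth.Agent.Lib.WildFam.Local.faithfulSMul hp hm hma
  haveI : CharP R p := charP_of_injective_ringHom (f := (MvPowerSeries.C : k →+* R))
    MvPowerSeries.C_injective p
  haveI : CharP (Groth.Agent.Lib.WildFam.Basic.Fam p a x) p :=
    charP_of_injective_algebraMap (FaithfulSMul.algebraMap_injective R _) p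
  have ha : ∀ i, algebraMap R (Groth.Agent.Lib.WildFam.Basic.Fam p a x) (a i) ≠ 0 := fun i h =>
    ha0 i ((FaithfulSMul.algebraMap_injective R _) (h.trans (map_zero _).symm))
  have hb := Groth.Agent.Lib.WildFam.Galois.trans_bijective (R := R) (a := a) (x := x) (p := p) ha
  refine ⟨?_, ?_, ?_, fun b => Groth.Agent.Lib.WildFam.Galois.fixed_iff ha b⟩
  · rw [← Nat.card_congr (Equiv.ofBijective _ hb)]
    simp [Nat.card_eq_fintype_card]
  · intro σ τ
    obtain ⟨ν, rfl⟩ := hb.2 σ
    obtain ⟨μ, rfl⟩ := hb.2 τ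
    rw [← map_mul, ← map_mul, mul_comm]
  · intro σ
    obtain ⟨ν, rfl⟩ := hb.2 σ
    rw [← map_pow, show ν ^ p = 1 from Multiplicative.toAdd.injective (funext fun i => by simp), map_one]

end Groth.Agent.S15789
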