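import Groth.Statements.S1579
import Mathlib
import Groth.Agent.Lib.AssPt.Modules
import Groth.Agent.Lib.QCoh.Pushforward

set_option autoImplicit false
universe u
open CategoryTheory CategoryTheory.Limits AlgebraicGeometry
open Divisors

namespace Groth.Agent.S1579

section

variable {A B : Type u} [CommRing A] [CommRing B]

theorem colon_restrict (φ : A →+* B) {M M' : Type*} [AddCommGroup M] [Module A M] [AddCommGroup M'] [Module B M']
    (ι : M ≃+ M') (h : ∀ (a : A) (x : M), ι (a • x) = φ a • ι x) (x : M) :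
    (⊥ : Submodule A M).colon {x} = ((⊥ : Submodule B M').colon {ι x}).comap φ := by
  ext a
  rw [Ideal.mem_comap, Submodule.mem_colon_singleton, Submodule.mem_colon_singleton, Submodule.mem_bot,
    Submodule.mem_bot, ← h, AddEquiv.map_eq_zero_iff]

theorem exists_minimalPrimes_over (φ : A →+* B) (J : Ideal B) (p : Ideal A)
    (hp : p ∈ (J.comap φ).minimalPrimes) : ∃ q ∈ J.minimalPrimes, q.comap φ = p := by
  obtain ⟨P, hPp, hJP, hPc⟩ := Ideal.exists_comap_eq_of_mem_minimalPrimes φ p hp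
  obtain ⟨q, hq, hqP⟩ := Ideal.exists_minimalPrimes_le hJP
  haveI := hq.1.1
  have hle : q.comap φ ≤ p := (Ideal.comap_mono hqP).trans hPc.le
  exact ⟨q, hq, le_antisymm hle (hp.2 ⟨Ideal.IsPrime.comap φ, Ideal.comap_mono hq.1.2⟩ hle)⟩

/-- For a finite ring map, a prime minimal over an annihilator lies over a prime minimal over the
contraction of the annihilator of a multiple. -/
theorem exists_minimal_below (φ : A →+* B) (hφ : φ.Finite) {M : Type u} [AddCommGroup M] [Module B M]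
    (N : Submodule B M) (m : M) (q : Ideal B) (hq : q ∈ (N.colon {m}).minimalPrimes) :
    ∃ e : B, q.comap φ ∈ ((N.colon {e • m}).comap φ).minimalPrimes := by
  classical
  letI := φ.toAlgebra
  haveI : Module.Finite A B := hφ
  haveI : q.IsPrime := hq.1.1
  let p := q.comap φ
  haveI : p.IsPrime := Ideal.IsPrime.comap φ
  set J := N.colon {m} with hJdef
  have hinc : ∀ P P' : Ideal B, P.IsPrime → P'.IsPrime → P ≤ P' → P.comap φ = p → P'.comap φ = p → P = P' :=
    fun P P' hP hP' hle h h' => Algebra.QuasiFinite.eq_of_le_of_under_eq (R := A) P P' hle (h.trans h'.symm)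
  -- an element of `q` avoiding the other primes over `p`
  have hfin : (p.primesOver B).Finite := Algebra.QuasiFinite.finite_primesOver p
  obtain ⟨c, hcq, hc⟩ : ∃ c ∈ q, ∀ P : Ideal B, P.IsPrime → P.comap φ = p → c ∈ P → P = q := by
    by_contra! h
    have hsub : (q : Set B) ⊆ ⋃ P ∈ (hfin.toFinset.erase q : Finset (Ideal B)), (P : Set B) := by
      intro c hc
      obtain ⟨P, hP, hPc, hcP, hne⟩ := h c hc
      exact Set.mem_biUnion (Finset.mem_erase.mpr ⟨hne, hfin.mem_toFinset.mpr ⟨hP, ⟨hPc.symm⟩⟩⟩) hcP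
    obtain ⟨P, hP, hle⟩ := (Ideal.subset_union_prime q q (fun P hP _ _ =>
      (hfin.mem_toFinset.mp (Finset.mem_of_mem_erase hP)).1)).mp hsub
    obtain ⟨hne, hP⟩ := Finset.mem_erase.mp hP
    obtain ⟨hPp, ⟨hPo⟩⟩ := hfin.mem_toFinset.mp hP
    exact hne (hinc q P inferInstance hPp hle rfl hPo.symm).symm
  obtain ⟨s, hsq, n, hsn⟩ : ∃ s, s ∉ q ∧ ∃ n : ℕ, s * c ^ n ∈ J := by
    by_contra! hcon
    let S : Submonoid B := q.primeCompl ⊔ Submonoid.powers c
    have hdisj : Disjoint (J : Set B) S := by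
      rw [Set.disjoint_left]
      intro z hz hzS
      obtain ⟨s, hs, w, ⟨n, rfl⟩, rfl⟩ := Submonoid.mem_sup.1 hzS
      exact hcon s hs n hz
    obtain ⟨P, hP, hJP, hdP⟩ := Ideal.exists_le_prime_disjoint J S hdisj
    have hPq : P ≤ q := fun z hz => by
      by_contra hzq
      exact Set.disjoint_left.1 hdP hz (Submonoid.mem_sup_left hzq)
    exact Set.disjoint_left.1 hdP (hq.2 ⟨hP, hJP⟩ hPq hcq) (Submonoid.mem_sup_right (Submonoid.mem_powers c))
  let T : Submonoid B := p.primeCompl.map φ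
  have hover : ∀ P : Ideal B, P.IsPrime → Disjoint (P : Set B) T →
      ∃ P' : Ideal B, P'.IsPrime ∧ P ≤ P' ∧ P'.comap φ = p := by
    intro P hP hd
    have hle : P.comap φ ≤ p := fun a ha => by
      by_contra hap
      exact Set.disjoint_left.mp hd ha ⟨a, hap, rfl⟩
    obtain ⟨P', h1, h2, h3⟩ := Ideal.exists_ideal_over_prime_of_isIntegral (S := B) p P hle
    exact ⟨P', h2, h1, h3⟩
  obtain ⟨x, y, t, htp, hxy⟩ : ∃ x y : B, ∃ t, t ∉ p ∧ x * c ^ n + y * s = φ t := by
    by_contra! hcon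
    have hdisj : Disjoint (Ideal.span {c ^ n, s} : Set B) T := by
      rw [Set.disjoint_left]
      rintro z hz ⟨t, ht, rfl⟩
      obtain ⟨x, y, h⟩ := Ideal.mem_span_pair.mp hz
      exact hcon x y t ht h
    obtain ⟨P, hP, hle, hd⟩ := Ideal.exists_le_prime_disjoint _ T hdisj
    obtain ⟨P', hP', hPP', hP'c⟩ := hover P hP hd
    have hcP : c ∈ P' := hP'.mem_of_pow_mem n (hPP' (hle (Ideal.subset_span (by simp))))
    have := hc P' hP' hP'c hcP
    exact hsq (this ▸ hPP' (hle (Ideal.subset_span (by simp))))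
  set e := y * s with hedef
  have hidem : e * (φ t - e) ∈ J := by
    rw [← hxy, hedef, add_sub_cancel_right, show y * s * (x * c ^ n) = (x * y) * (s * c ^ n) by ring]
    exact J.mul_mem_left _ hsn
  have hpow : ∀ k : ℕ, e ^ (k + 1) - φ t ^ k * e ∈ J := by
    intro k
    induction k with
    | zero => simp
    | succ k ih =>
      have : e ^ (k + 2) - φ t ^ (k + 1) * e = e * (e ^ (k + 1) - φ t ^ k * e) - φ t ^ k * (e * (φ t - e)) := by ring
      rw [this]
      exact sub_mem (J.mul_mem_left _ ih) (J.mul_mem_left _ hidem)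
  have hcol : ∀ z : B, z ∈ N.colon {e • m} ↔ z * e ∈ J := fun z => by
    rw [hJdef, Submodule.mem_colon_singleton, Submodule.mem_colon_singleton, smul_smul]
  refine ⟨e, ⟨inferInstance, fun u hu => ?_⟩, fun p' hp' hle a ha => ?_⟩
  · by_contra hup
    rw [Ideal.mem_comap, hcol] at hu
    rcases (inferInstance : q.IsPrime).mem_or_mem (hq.1.2 hu) with h | h
    · exact hup h
    · refine htp (show φ t ∈ q from ?_)
      rw [← hxy]
      exact add_mem (q.mul_mem_left _ (Ideal.pow_mem_of_mem q hcq n (Nat.pos_of_ne_zero fun h0 => hsq (hq.1.2 (by simpa [h0] using hsn))))) h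
  · haveI := hp'.1
    by_contra hap
    -- `φ a * e` is nilpotent modulo `J` up to `T`
    obtain ⟨t', ht', k, hk⟩ : ∃ t', t' ∉ p ∧ ∃ k : ℕ, φ t' * (φ a * e) ^ k ∈ J := by
      by_contra! hcon
      have hdisj : Disjoint (J : Set B) (T ⊔ Submonoid.powers (φ a * e) : Submonoid B) := by
        rw [Set.disjoint_left]
        intro z hz hzS
        obtain ⟨_, ⟨t', ht', rfl⟩, w, ⟨k, rfl⟩, rfl⟩ := Submonoid.mem_sup.1 hzS
        exact hcon t' ht' k hz
      obtain ⟨P, hP, hJP, hdP⟩ := Ideal.exists_le_prime_disjoint J _ hdisj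
      obtain ⟨P', hP', hPP', hP'c⟩ := hover P hP (hdP.mono_right fun z hz => Submonoid.mem_sup_left hz)
      refine Set.disjoint_left.1 hdP ?_ (Submonoid.mem_sup_right (Submonoid.mem_powers _))
      by_cases hcP : c ∈ P
      · have hPq : P ≤ q := hc P' hP' hP'c (hPP' hcP) ▸ hPP'
        exact P.mul_mem_right _ (hq.2 ⟨hP, hJP⟩ hPq ha)
      · refine P.mul_mem_left _ (P.mul_mem_left _ ?_)
        exact (hP.mem_or_mem (hJP hsn)).resolve_right fun h => hcP (hP.mem_of_pow_mem n h)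
    have h1 : φ (t' * t ^ k * a ^ (k + 1)) * e ∈ J := by
      have h2 : φ t' * (φ a * e) ^ (k + 1) ∈ J := by
        rw [pow_succ, ← mul_assoc]; exact J.mul_mem_right _ hk
      have h3 : φ (t' * t ^ k * a ^ (k + 1)) * e =
          φ t' * (φ a * e) ^ (k + 1) - φ t' * φ a ^ (k + 1) * (e ^ (k + 1) - φ t ^ k * e) := by
        rw [map_mul, map_mul, map_pow, map_pow, mul_pow]; ring
      rw [h3]
      exact sub_mem h2 (J.mul_mem_left _ (hpow k))
    have h4 : t' * t ^ k * a ^ (k + 1) ∈ p' := hp'.2 (Ideal.mem_comap.mpr ((hcol _).mpr h1))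
    rcases hp'.1.mem_or_mem h4 with h | h
    · rcases hp'.1.mem_or_mem h with h | h
      · exact ht' (hle h)
      · exact htp (hle (hp'.1.mem_of_pow_mem k h))
    · exact hap (hp'.1.mem_of_pow_mem _ h)

end

open Groth.Agent.Lib


/-- Let f : X → S be finite and F quasi-coherent on X. Then the weakly associated points of f_* F are
precisely the images under f of the weakly associated points of F. -/
theorem result {X S : Scheme.{u}} (f : X ⟶ S) [IsFinite f] (F : X.Modules) (hF : Coh.IsQCoh F) :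
    {s : S | Curv2.IsWeakAssPoint ((Coh.push f).obj F) s} = f.base '' {x : X | Curv2.IsWeakAssPoint F x} := by
  haveI : F.IsQuasicoherent := hF
  haveI : ((Coh.push f).obj F).IsQuasicoherent := Groth.Agent.Lib.QCoh.Pushforward.isQCoh_pushforward _
  -- the local statement
  have key : ∀ (V : S.Opens) (hV : IsAffineOpen V) (s : S) (hs : s ∈ V),
      Curv2.IsWeakAssPoint ((Coh.push f).obj F) s ↔
        ∃ x : X, f.base x = s ∧ Curv2.IsWeakAssPoint F x := by
    intro V hV s hs
    have hW : IsAffineOpen (f ⁻¹ᵁ V) := hV.preimage f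
    let φ := (f.app V).hom
    have hfin : φ.Finite := IsFinite.finite_app (f := f) V hV
    have hcomap : ∀ (x : X) (hx : x ∈ f ⁻¹ᵁ V),
        (hW.primeIdealOf ⟨x, hx⟩).asIdeal.comap φ = (hV.primeIdealOf ⟨f.base x, hx⟩).asIdeal := by
      intro x hx
      have := congrArg PrimeSpectrum.asIdeal (IsAffineOpen.comap_primeIdealOf_appLE V hV (f ⁻¹ᵁ V) hW le_rfl hx)
      show _ = _
      rw [Scheme.Hom.appLE_eq_app] at this
      exact this
    have hcolon : ∀ t : Γ((Coh.push f).obj F, V),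
        (⊥ : Submodule Γ(S, V) Γ((Coh.push f).obj F, V)).colon {t} =
          ((⊥ : Submodule Γ(X, f ⁻¹ᵁ V) Γ(F, f ⁻¹ᵁ V)).colon {(show Γ(F, f ⁻¹ᵁ V) from t)}).comap φ := fun t =>
      colon_restrict φ (M := Γ((Coh.push f).obj F, V)) (M' := Γ(F, f ⁻¹ᵁ V)) (AddEquiv.refl _) (fun a x => rfl) t
    rw [AssPt.Basic.isWeakAssPoint_iff_isAssPoint, AssPt.Modules.isAssPoint_iff hV hs]
    constructor
    · rintro ⟨t, ht⟩
      rw [hcolon] at ht
      obtain ⟨q, hq, hqc⟩ := exists_minimalPrimes_over φ _ _ ht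
      haveI : q.IsPrime := hq.1.1
      obtain ⟨x, hx, hxq⟩ := AssPt.Basic.exists_point_of_prime hW q
      refine ⟨x, ?_, ?_⟩
      · have h1 := hcomap x hx
        rw [hxq, hqc] at h1
        have h2 : hV.primeIdealOf ⟨s, hs⟩ = hV.primeIdealOf ⟨f.base x, hx⟩ := PrimeSpectrum.ext h1
        have h3 := congrArg hV.fromSpec h2
        rw [hV.fromSpec_primeIdealOf, hV.fromSpec_primeIdealOf] at h3
        exact h3.symm
      · rw [AssPt.Basic.isWeakAssPoint_iff_isAssPoint, AssPt.Modules.isAssPoint_iff hW hx]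
        exact ⟨t, hxq.symm ▸ hq⟩
    · rintro ⟨x, rfl, hxa⟩
      have hx : x ∈ f ⁻¹ᵁ V := hs
      rw [AssPt.Basic.isWeakAssPoint_iff_isAssPoint, AssPt.Modules.isAssPoint_iff hW hx] at hxa
      obtain ⟨m, hm⟩ := hxa
      obtain ⟨e, he⟩ := exists_minimal_below φ hfin (⊥ : Submodule Γ(X, f ⁻¹ᵁ V) Γ(F, f ⁻¹ᵁ V)) m _ hm
      refine ⟨(show Γ((Coh.push f).obj F, V) from e • m), ?_⟩
      rw [hcolon, ← hcomap x hx]
      exact he
  ext s
  obtain ⟨V, hV, hsV, -⟩ := exists_isAffineOpen_mem_and_subset (X := S) (x := s) (U := ⊤) trivial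
  simp only [Set.mem_setOf_eq, Set.mem_image]
  rw [key V hV s hsV]
  exact ⟨fun ⟨x, h1, h2⟩ => ⟨x, h2, h1⟩, fun ⟨x, h1, h2⟩ => ⟨x, h2, h1⟩⟩

end Groth.Agent.S1579
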