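import Groth.Statements.S15792
import Groth.Agent.Lib.WildAdm.Basic
import Mathlib.LinearAlgebra.LinearIndependent.Lemmas
import Mathlib.RingTheory.Ideal.Cotangent

set_option autoImplicit false
universe u v
open WildQuot

namespace Groth.Agent.S15792

/-- Let `A` be a regular local ring of Krull dimension `n` and prime characteristic `p`, and let a
finite `p`-group `G` act on `A` by ring automorphisms inducing the identity on the residue field.
Then there is an admissible regular system of parameters: `u_1, …, u_n ∈ A` such that for every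
choice `σ_1, …, σ_n ∈ G` the elements `σ_1 u_1, …, σ_n u_n` generate the maximal ideal. (The
published statement is for a complete regular local ring containing a field of representatives fixed
by `G`; this row drops completeness and asks only that `G` act trivially on the residue field.) -/
theorem result
    (p : ℕ) [Fact p.Prime] (A : Type u) [CommRing A] [IsRegularLocalRing A] [CharP A p]
    (G : Type v) [Group G] [Finite G] [MulSemiringAction G A] (hG : IsPGroup p G)
    (hres : ∀ (σ : G) (a : A), σ • a - a ∈ IsLocalRing.maximalIdeal A)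
    (n : ℕ) (hn : ringKrullDim A = n) :
    ∃ u : Fin n → A, ∀ τ : Fin n → G,
      Ideal.span (Set.range fun i => τ i • u i) = IsLocalRing.maximalIdeal A := by
  classical
  set m := IsLocalRing.maximalIdeal A
  have hfr : m.spanFinrank = n := by
    have := IsRegularLocalRing.spanFinrank_maximalIdeal (R := A)
    rw [hn] at this
    exact_mod_cast this
  have hfd : Module.finrank (IsLocalRing.ResidueField A) (IsLocalRing.CotangentSpace A) = n := by
    rw [← IsLocalRing.spanFinrank_maximalIdeal_eq_finrank_cotangentSpace]; exact hfr
  have hbuild : ∀ j ≤ n, ∃ u : Fin j → m,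
      LinearIndependent (IsLocalRing.ResidueField A) (fun i => (m.toCotangent (u i) : IsLocalRing.CotangentSpace A)) ∧
      ∀ (σ : G) (i : Fin j),
        σ • (u i : A) - (u i : A) ∈ Ideal.span ((fun l => (u l : A)) '' {l | l < i}) ⊔ m ^ 2 := by
    intro j
    induction j with
    | zero => exact fun _ => ⟨Fin.elim0, linearIndependent_empty_type, fun _ i => i.elim0⟩
    | succ j ih =>
      intro hj
      obtain ⟨u, hli, htri⟩ := ih (by omega)
      let I : Ideal A := Ideal.span (Set.range fun l => (u l : A)) ⊔ m ^ 2
      have hst : ∀ (σ : G) (x : A), x ∈ I → σ • x ∈ I := by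
        intro σ x hx
        refine Ideal.map_le_iff_le_comap.mpr (sup_le (Ideal.span_le.mpr ?_) ?_)
          (Ideal.mem_map_of_mem (MulSemiringAction.toRingHom G A σ) hx)
        · rintro _ ⟨l, rfl⟩
          change σ • (u l : A) ∈ I
          rw [← sub_add_cancel (σ • (u l : A)) (u l : A)]
          have hmono : Ideal.span ((fun l => (u l : A)) '' {k | k < l}) ⊔ m ^ 2 ≤ I :=
            sup_le ((Ideal.span_mono (Set.image_subset_range _ _)).trans le_sup_left) le_sup_right
          exact add_mem (hmono (htri σ l))
            (Ideal.mem_sup_left (Ideal.subset_span ⟨l, rfl⟩))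
        · exact fun y hy => Ideal.mem_sup_right (Groth.Agent.Lib.WildAdm.Basic.smul_mem_sq σ hy)
      have hmemI : ∀ x : m, (x : A) ∈ I → (m.toCotangent x : IsLocalRing.CotangentSpace A) ∈
          Submodule.span (IsLocalRing.ResidueField A) (Set.range fun i => (m.toCotangent (u i) : IsLocalRing.CotangentSpace A)) := by
        intro x hx
        obtain ⟨y, hy, z, hz, hyz⟩ := Submodule.mem_sup.mp hx
        obtain ⟨c, hc⟩ := Ideal.mem_span_range_iff_exists_fun.mp hy
        have hx' : m.toCotangent x = ∑ i, c i • m.toCotangent (u i) := by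
          simp only [← map_smul, ← map_sum]
          refine (Ideal.toCotangent_eq m).mpr ?_
          rw [← hyz, ← hc]
          simpa using hz
        rw [hx']
        exact sum_mem fun i _ => Submodule.smul_of_tower_mem _ (c i) (Submodule.subset_span ⟨i, rfl⟩)
      obtain ⟨x0, hx0⟩ : ∃ x0 : m, (x0 : A) ∉ I := by
        by_contra! h
        have htop : Submodule.span (IsLocalRing.ResidueField A)
            (Set.range fun i => (m.toCotangent (u i) : IsLocalRing.CotangentSpace A)) = ⊤ := by
          refine eq_top_iff.mpr fun v _ => ?_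
          obtain ⟨x, rfl⟩ := m.toCotangent_surjective v
          exact hmemI x (h x)
        have := finrank_le_of_span_eq_top htop
        rw [hfd, Fintype.card_fin] at this
        omega
      obtain ⟨v, hvm, hvI, hvfix⟩ :=
        Groth.Agent.Lib.WildAdm.Basic.exists_fixed_mod p hG I hst x0.2 hx0
      refine ⟨Fin.snoc u ⟨v, hvm⟩, ?_, ?_⟩
      · have : (fun i => (m.toCotangent (Fin.snoc (α := fun _ => m) u ⟨v, hvm⟩ i) : IsLocalRing.CotangentSpace A)) =
            Fin.snoc (fun i => (m.toCotangent (u i) : IsLocalRing.CotangentSpace A)) (m.toCotangent ⟨v, hvm⟩) := by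
          funext i
          refine Fin.lastCases ?_ (fun i => ?_) i <;> simp
        rw [this, linearIndependent_finSnoc]
        refine ⟨hli, fun hmem => hvI ?_⟩
        obtain ⟨c, hc⟩ := (Submodule.mem_span_range_iff_exists_fun _).mp hmem
        choose c' hc' using fun i => Ideal.Quotient.mk_surjective (c i)
        have hsum : m.toCotangent (∑ i, c' i • u i) = m.toCotangent ⟨v, hvm⟩ := by
          rw [map_sum]
          refine Eq.trans (Finset.sum_congr rfl fun i _ => ?_) hc
          rw [map_smul, ← hc' i]
          exact (algebraMap_smul (IsLocalRing.ResidueField A) (c' i) _).symm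
        have := (Ideal.toCotangent_eq m).mp hsum.symm
        simp only [AddSubmonoidClass.coe_finsetSum, SetLike.val_smul, smul_eq_mul] at this
        rw [← sub_add_cancel v (∑ i, c' i * (u i : A))]
        exact add_mem (Ideal.mem_sup_right this)
          (Ideal.mem_sup_left (sum_mem fun i _ => Ideal.mul_mem_left _ _ (Ideal.subset_span ⟨i, rfl⟩)))
      · intro σ i
        refine Fin.lastCases ?_ (fun i => ?_) i
        · rw [Fin.snoc_last]
          have hle : I ≤ Ideal.span ((fun l => (Fin.snoc (α := fun _ => m) u ⟨v, hvm⟩ l : A)) '' {l | l < Fin.last j}) ⊔ m ^ 2 :=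
            sup_le_sup_right (Ideal.span_mono (by
              rintro _ ⟨l, rfl⟩
              exact ⟨l.castSucc, Fin.castSucc_lt_last l, by simp⟩)) _
          exact hle (hvfix σ)
        · rw [Fin.snoc_castSucc]
          have hle : Ideal.span ((fun l => (u l : A)) '' {l | l < i}) ⊔ m ^ 2 ≤
              Ideal.span ((fun l => (Fin.snoc (α := fun _ => m) u ⟨v, hvm⟩ l : A)) '' {l | l < i.castSucc}) ⊔ m ^ 2 :=
            sup_le_sup_right (Ideal.span_mono (by
              rintro _ ⟨l, hl, rfl⟩
              exact ⟨l.castSucc, by simpa using hl, by simp⟩)) _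
          exact hle (htri σ i)
  obtain ⟨u, hli, htri⟩ := hbuild n le_rfl
  have hspan : Ideal.span (Set.range fun i => (u i : A)) = m := by
    have htop : Submodule.span (IsLocalRing.ResidueField A)
        (m.toCotangent '' (Set.range u)) = (⊤ : Submodule (IsLocalRing.ResidueField A) (IsLocalRing.CotangentSpace A)) := by
      rw [← Set.range_comp]
      exact hli.span_eq_top_of_card_eq_finrank' (by rw [hfd, Fintype.card_fin])
    have h1 := congrArg (Submodule.map m.subtype) (IsLocalRing.CotangentSpace.span_image_eq_top_iff.mp htop)
    rw [Submodule.map_span, Submodule.map_subtype_top, ← Set.range_comp] at h1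
    exact h1
  refine ⟨fun i => (u i : A), fun τ => ?_⟩
  refine Groth.Agent.Lib.WildAdm.Basic.span_eq_of_triangular hfr (fun i => (u i : A)) hspan
    (fun σ i => ?_) τ
  rw [← sub_add_cancel (σ • (u i : A)) (u i : A)]
  have hmono : Ideal.span ((fun l => (u l : A)) '' {l | l < i}) ⊔ m ^ 2 ≤
      Ideal.span ((fun l => (u l : A)) '' {l | l ≤ i}) ⊔ m ^ 2 :=
    sup_le ((Ideal.span_mono (Set.image_mono fun l hl => le_of_lt (show l < i from hl))).trans le_sup_left) le_sup_right
  exact add_mem (hmono (htri σ i))
    (Ideal.mem_sup_left (Ideal.subset_span ⟨i, show i ≤ i from le_rfl, rfl⟩))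

end Groth.Agent.S15792
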