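import Groth.Statements.S15793
import Groth.Agent.Lib.WildAdm.Basic
import Groth.Agent.Lib.Regular.Quotient
import Mathlib.GroupTheory.SpecificGroups.Cyclic

set_option autoImplicit false
universe u v w
open WildQuot

namespace Groth.Agent.S15793

/-- Let `A` be a complete regular local ring of Krull dimension at least `2` and prime characteristic
`p`, with maximal ideal `m`; let `k` be a field with a ring map `k → A` whose composite with `A →
A/m` is onto (a field of representatives); let `G` be a group of order `p` acting on `A` by ring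
automorphisms that fix the image of `k`, ramified precisely at the origin: for every prime `P ≠ m`,
the inertia subgroup of `P` (the elements of `G` fixing every element of `A` modulo `P`) is trivial.
Then no element of `m` outside `m ^ 2` is fixed by every element of `G`; in particular the action is
not linear in any regular system of parameters. -/
theorem result
    (p : ℕ) [Fact p.Prime] (A : Type u) [CommRing A] [IsRegularLocalRing A] [CharP A p]
    [IsAdicComplete (IsLocalRing.maximalIdeal A) A] (hdim : 2 ≤ ringKrullDim A)
    (k : Type v) [Field k] [Algebra k A]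
    (hk : Function.Surjective (IsLocalRing.residue A ∘ algebraMap k A))
    (G : Type w) [Group G] [Finite G] [MulSemiringAction G A] (hcard : Nat.card G = p)
    (hGk : ∀ (σ : G) (c : k), σ • algebraMap k A c = algebraMap k A c)
    (hram : ∀ P : Ideal A, P.IsPrime → P ≠ IsLocalRing.maximalIdeal A → P.inertia G = ⊥)
    (v : A) (hv : v ∈ IsLocalRing.maximalIdeal A) (hv2 : v ∉ IsLocalRing.maximalIdeal A ^ 2) :
    ∃ σ : G, σ • v ≠ v := by
  classical
  by_contra! hfix
  set m := IsLocalRing.maximalIdeal A
  obtain ⟨t, ht, htcard⟩ := Groth.Agent.Lib.Regular.Quotient.exists_gens_of_notMem_sq hv hv2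
  let L : List A := v :: t.toList
  let w : Fin L.length → A := L.get
  have hrange : Set.range w = (({v} ∪ t : Finset A) : Set A) := by
    ext x
    simp only [w, Set.range_list_get, L]
    simp
  have hwspan : Ideal.span (Set.range w) = m := by rw [hrange]; exact ht
  obtain ⟨σ, hσ⟩ : ∃ σ : G, σ ≠ 1 := by
    haveI : Nontrivial G := Finite.one_lt_card_iff_nontrivial.mp (by
      rw [hcard]; exact (Fact.out : p.Prime).one_lt)
    exact exists_ne 1
  let I : Ideal A := Ideal.span ((fun x => σ • x - x) '' (t : Set A))
  have hIm : I ≤ m := by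
    rw [Ideal.span_le]
    rintro _ ⟨x, hx, rfl⟩
    have hxm : x ∈ m := by
      change x ∈ IsLocalRing.maximalIdeal A
      rw [← ht]; exact Ideal.subset_span (by simp [Finset.mem_coe.mp hx])
    exact sub_mem (Groth.Agent.Lib.WildAdm.Basic.smul_mem σ hxm) hxm
  have hall : ∀ x, σ • x - x ∈ I := by
    refine Groth.Agent.Lib.WildAdm.Basic.smul_sub_mem_of_gens hk w hwspan σ (hGk σ) hIm fun i => ?_
    have hi : w i ∈ (({v} ∪ t : Finset A) : Set A) := hrange ▸ ⟨i, rfl⟩
    simp only [Finset.coe_union, Finset.coe_singleton, Set.singleton_union, Set.mem_insert_iff] at hi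
    rcases hi with h | h
    · rw [h, hfix σ, sub_self]; exact zero_mem _
    · exact Ideal.subset_span ⟨_, h, rfl⟩
  obtain ⟨⟨P, hP⟩⟩ : Nonempty I.minimalPrimes :=
    Ideal.nonempty_minimalPrimes (ne_top_of_le_ne_top (IsLocalRing.maximalIdeal.isMaximal A).ne_top hIm)
  haveI : P.IsPrime := hP.1.1
  have hPne : P ≠ m := by
    intro hPm
    have h1 : m.height ≤ (t.card : ℕ∞) := by
      refine hPm ▸ (Ideal.height_le_spanRank_toENat_of_mem_minimalPrimes I P hP).trans ?_
      have h3 : I.spanFinrank ≤ t.card := by
        refine (Submodule.spanFinrank_span_le_ncard_of_finite (Set.toFinite _)).trans ?_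
        exact (Set.ncard_image_le (Set.toFinite _)).trans (le_of_eq (Set.ncard_coe_finset t))
      rw [Submodule.fg_iff_spanRank_eq_spanFinrank.mpr (IsNoetherian.noetherian I)]
      simpa using h3
    have h4 : (m.height : WithBot ℕ∞) = (m.spanFinrank : WithBot ℕ∞) := by
      rw [IsLocalRing.maximalIdeal_height_eq_ringKrullDim, IsRegularLocalRing.spanFinrank_maximalIdeal]
    have h5 : m.height = (m.spanFinrank : ℕ∞) := WithBot.coe_inj.mp h4
    rw [h5, ← htcard, Nat.cast_le] at h1
    omega
  have hbot := hram P hP.1.1 hPne
  exact hσ (Subgroup.mem_bot.mp (hbot ▸ (show σ ∈ P.inertia G from fun x => hP.1.2 (hall x))))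

end Groth.Agent.S15793
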