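import Groth.Statements.S15796
import Groth.Agent.Lib.WildAdm.Basic

set_option autoImplicit false
universe u v
open WildQuot

namespace Groth.Agent.S15796

/-- Let `A` be a Noetherian local ring of Krull dimension `n` whose maximal ideal `m` is generated by
`u_1, …, u_n`, and let a finite group `G` act on `A` by ring automorphisms. If some `σ ∈ G` maps
some `u_i` into the ideal generated by the `u_j` with `j ≠ i`, then the system `u` is not weakly
admissible: for some choice `σ_1, …, σ_n ∈ G` the radical of `(σ_1 u_1, …, σ_n u_n)` does not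
contain `m`. (The published statement is for a linear action on `k[[u_1, …, u_n]]` whose matrix has
a zero diagonal entry; this row assumes instead that some `σ u_i` lies in the ideal generated by the
other `u_j`.) -/
theorem result
    (A : Type u) [CommRing A] [IsLocalRing A] [IsNoetherianRing A]
    (G : Type v) [Group G] [Finite G] [MulSemiringAction G A]
    (n : ℕ) (hn : ringKrullDim A = n) (u : Fin n → A)
    (hu : Ideal.span (Set.range u) = IsLocalRing.maximalIdeal A)
    (σ : G) (i : Fin n) (hσ : σ • u i ∈ Ideal.span (u '' {j | j ≠ i})) :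
    ∃ τ : Fin n → G,
      ¬ IsLocalRing.maximalIdeal A ≤ (Ideal.span (Set.range fun j => τ j • u j)).radical := by
  classical
  refine ⟨Function.update (fun _ => 1) i σ, fun hle => ?_⟩
  let J : Ideal A := Ideal.span (u '' {j | j ≠ i})
  have hJ : Ideal.span (Set.range fun j => Function.update (fun _ => (1 : G)) i σ j • u j) ≤ J := by
    rw [Ideal.span_le]
    rintro _ ⟨j, rfl⟩
    by_cases h : j = i
    · subst h; simpa using hσ
    · simp only [Function.update_of_ne h, one_smul]
      exact Ideal.subset_span ⟨j, h, rfl⟩
  have hJm : J ≤ IsLocalRing.maximalIdeal A :=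
    hu ▸ Ideal.span_mono (Set.image_subset_range _ _)
  have hJtop : J ≠ ⊤ := ne_top_of_le_ne_top (IsLocalRing.maximalIdeal.isMaximal A).ne_top hJm
  have hrad : IsLocalRing.maximalIdeal A ≤ J.radical := hle.trans (Ideal.radical_mono hJ)
  have hmin : IsLocalRing.maximalIdeal A ∈ J.minimalPrimes :=
    ⟨⟨(IsLocalRing.maximalIdeal.isMaximal A).isPrime, hJm⟩, fun P hP _ => hrad.trans (hP.1.isRadical.radical_le_iff.mpr hP.2)⟩
  have h1 : (IsLocalRing.maximalIdeal A).height ≤ ((n - 1 : ℕ) : ℕ∞) := by
    refine (Ideal.height_le_spanRank_toENat_of_mem_minimalPrimes J _ hmin).trans ?_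
    have h2 : (u '' {j | j ≠ i}).ncard ≤ n - 1 := by
      refine (Set.ncard_image_le (Set.toFinite _)).trans (le_of_eq ?_)
      rw [Set.ncard_eq_toFinset_card']
      simp [Finset.filter_ne', Finset.card_erase_of_mem]
    have h3 : J.spanFinrank ≤ n - 1 := (Submodule.spanFinrank_span_le_ncard_of_finite (Set.toFinite _)).trans h2
    rw [Submodule.fg_iff_spanRank_eq_spanFinrank.mpr (IsNoetherian.noetherian J)]
    rw [map_natCast]; exact_mod_cast h3
  rw [← IsLocalRing.maximalIdeal_height_eq_ringKrullDim] at hn
  have h4 : (IsLocalRing.maximalIdeal A).height = (n : ℕ∞) := WithBot.coe_inj.mp hn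
  rw [h4, Nat.cast_le] at h1
  have := i.2
  omega

end Groth.Agent.S15796
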