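import Groth.Statements.S15797
import Groth.Agent.Lib.WildAdm.Basic
import Groth.Agent.Lib.WildAdm.Length

set_option autoImplicit false
universe u v
open WildQuot

namespace Groth.Agent.S15797

/-- Let `A` be a regular local ring of Krull dimension `n` with maximal ideal `m` generated by `u_1, …,
u_n`, let a finite group `G` of order `g` act on `A` by ring automorphisms, and suppose `u` is
weakly admissible: for every choice `σ_1, …, σ_n ∈ G` the radical of `(σ_1 u_1, …, σ_n u_n)`
contains `m`. With `x_i = ∏_{σ ∈ G} σ u_i` the norms, the length of `A / (x_1, …, x_n)` is at least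
`g ^ n` (so the finite flat map from `k[[x_1, …, x_n]]` has degree at least `g ^ n`). (The published
statement is for a complete regular local ring containing a `G`-fixed field of representatives; this
row does not assume those.) -/
theorem result
    (A : Type u) [CommRing A] [IsRegularLocalRing A]
    (G : Type v) [Group G] [Fintype G] [MulSemiringAction G A]
    (n : ℕ) (hn : ringKrullDim A = n) (u : Fin n → A)
    (hu : Ideal.span (Set.range u) = IsLocalRing.maximalIdeal A)
    (hwa : ∀ τ : Fin n → G,
      IsLocalRing.maximalIdeal A ≤ (Ideal.span (Set.range fun i => τ i • u i)).radical) :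
    ((Fintype.card G ^ n : ℕ) : ℕ∞) ≤
      Module.length A (A ⧸ Ideal.span (Set.range fun i => ∏ σ : G, σ • u i)) := by
  classical
  have hum : ∀ i, u i ∈ IsLocalRing.maximalIdeal A := fun i => hu ▸ Ideal.subset_span ⟨i, rfl⟩
  have key := Groth.Agent.Lib.WildAdm.Length.length_mix_ge (fun i (g : G) => g • u i) ?_ ?_
    Finset.univ (fun _ => 1)
  · rw [show Groth.Agent.Lib.WildAdm.Length.mix (fun i (g : G) => g • u i) Finset.univ (fun _ => 1) =
        fun i => ∏ σ : G, σ • u i from funext fun i => by
        simp [Groth.Agent.Lib.WildAdm.Length.mix], Finset.card_univ, Fintype.card_fin] at key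
    exact key
  · intro S τ i hi y hy
    refine Groth.Agent.Lib.WildAdm.Length.mem_of_mul_mem_of_params hn
      (Groth.Agent.Lib.WildAdm.Length.mix (fun i (g : G) => g • u i) S τ) ?_ ?_ i y ?_
    · intro j
      by_cases hj : j ∈ S
      · simp only [Groth.Agent.Lib.WildAdm.Length.mix, if_pos hj]
        exact Groth.Agent.Lib.WildAdm.Basic.prod_mem 1 (u j) (by rw [one_smul]; exact hum j)
      · simp only [Groth.Agent.Lib.WildAdm.Length.mix, if_neg hj]
        exact Groth.Agent.Lib.WildAdm.Basic.smul_mem _ (hum j)
    · refine Groth.Agent.Lib.WildAdm.Basic.le_radical_of_forall u hwa S τ (fun j hj => ?_) (fun j hj => ?_)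
      · refine Ideal.subset_span ⟨j, ?_⟩
        simp only [Groth.Agent.Lib.WildAdm.Length.mix, if_pos hj]
      · refine Ideal.subset_span ⟨j, ?_⟩
        simp only [Groth.Agent.Lib.WildAdm.Length.mix, if_neg hj]
    · simpa [Groth.Agent.Lib.WildAdm.Length.mix, hi] using hy
  · intro τ
    haveI : Nontrivial (A ⧸ Ideal.span (Set.range fun i => τ i • u i)) :=
      Ideal.Quotient.nontrivial_iff.mpr (ne_top_of_le_ne_top
        (IsLocalRing.maximalIdeal.isMaximal A).ne_top (Ideal.span_le.mpr (by
          rintro _ ⟨j, rfl⟩
          exact Groth.Agent.Lib.WildAdm.Basic.smul_mem _ (hum j))))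
    exact Order.one_le_iff_pos.mpr Module.length_pos

end Groth.Agent.S15797
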