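import Groth.Statements.S15799
import Groth.Agent.Lib.WildParam.Basic
import Groth.Agent.Lib.WildAS.Extend

set_option autoImplicit false
universe u v w
open WildQuot
open Groth.Agent.Lib.WildAS.Extend

namespace Groth.Agent.S15799

/-- Let `A` be a complete regular local ring of Krull dimension `n ≥ 2` and prime characteristic `p`,
`k` a field with `k → A` mapping onto the residue field, and `G` a group of order `p` acting on `A`
by `k`-algebra automorphisms, ramified precisely at the origin (for every non-maximal prime `P`, the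
inertia subgroup of `P` (the elements of `G` fixing every element modulo `P`) is trivial). Let `u_1,
…, u_n` be an admissible regular system of parameters (for every choice `σ_1, …, σ_n ∈ G`, the
elements `σ_i u_i` generate the maximal ideal) and let `φ : k[[X_1, …, X_n]] → A` be the `k`-algebra
map with `φ X_i = x_i = ∏_{σ} σ u_i`, whose image is the norm subring `R`. Then `Frac(A^G)` is not
purely inseparable over `Frac(R)`; equivalently (as `A` is integral over the integrally closed `R`),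
some `G`-invariant `y ∈ A` has no iterated `p`-th power `y ^ (p ^ e)` in `R`. -/
theorem result
    (p : ℕ) [Fact p.Prime] (A : Type u) [CommRing A] [IsRegularLocalRing A] [CharP A p]
    [IsAdicComplete (IsLocalRing.maximalIdeal A) A] (n : ℕ) (hn : ringKrullDim A = n) (h2 : 2 ≤ n)
    (k : Type v) [Field k] [Algebra k A]
    (hk : Function.Surjective (IsLocalRing.residue A ∘ algebraMap k A))
    (G : Type w) [Group G] [Fintype G] [MulSemiringAction G A] (hcard : Fintype.card G = p)
    [SMulCommClass G k A]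
    (hram : ∀ P : Ideal A, P.IsPrime → P ≠ IsLocalRing.maximalIdeal A → P.inertia G = ⊥)
    (u : Fin n → A)
    (hu : ∀ τ : Fin n → G,
      Ideal.span (Set.range fun i => τ i • u i) = IsLocalRing.maximalIdeal A)
    (φ : MvPowerSeries (Fin n) k →ₐ[k] A) (hφ : ∀ i, φ (MvPowerSeries.X i) = ∏ σ : G, σ • u i) :
    ∃ y : A, (∀ σ : G, σ • y = y) ∧ ∀ e : ℕ, y ^ p ^ e ∉ Set.range φ := by
  classical
  have hp : p.Prime := Fact.out
  haveI := Groth.Agent.Lib.Regular.Quotient.isDomain A
  have hcard' : Nat.card G = p := by rw [Nat.card_eq_fintype_card, hcard]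
  let x : Fin n → A := fun i => ∏ σ : G, σ • u i
  have hum : ∀ (i : Fin n) (σ : G), σ • u i ∈ IsLocalRing.maximalIdeal A := fun i σ => by
    rw [← hu fun _ => σ]
    exact Ideal.subset_span ⟨i, rfl⟩
  have hxm : ∀ i, x i ∈ IsLocalRing.maximalIdeal A := fun i =>
    Ideal.IsPrime.prod_mem_iff.mpr ⟨1, Finset.mem_univ _, hum i 1⟩
  have hx : (Ideal.span (Set.range x)).radical = IsLocalRing.maximalIdeal A := by
    refine le_antisymm ((IsLocalRing.maximalIdeal.isMaximal A).isPrime.radical_le_iff.mpr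
      (Ideal.span_le.mpr (by rintro _ ⟨i, rfl⟩; exact hxm i))) ?_
    rw [Ideal.radical_eq_sInf]
    refine le_sInf fun Q ⟨hQ, hQp⟩ => ?_
    have h : ∀ i, ∃ σ : G, σ • u i ∈ Q := fun i => by
      obtain ⟨σ, -, hσ⟩ := hQp.prod_mem_iff.mp (hQ (Ideal.subset_span ⟨i, rfl⟩))
      exact ⟨σ, hσ⟩
    choose τ hτ using h
    rw [← hu τ, Ideal.span_le]
    rintro _ ⟨i, rfl⟩
    exact hτ i
  have hinj := Groth.Agent.Lib.WildParam.Basic.injective φ hφ hx hk hn
  have hfin := Groth.Agent.Lib.WildParam.Basic.finite φ hφ hx hk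
  let P := MvPowerSeries (Fin n) k
  haveI := Groth.Agent.H24.PowerSeries.isRegularLocalRing_fin k n
  haveI := Groth.Agent.Lib.Regular.Quotient.isDomain P
  haveI : CharP P p := RingHom.charP φ.toRingHom hinj p
  letI := φ.toRingHom.toAlgebra
  haveI : Module.Finite P A := hfin
  haveI : Algebra.IsIntegral P A := Algebra.IsIntegral.of_finite P A
  have hfix : ∀ (g : G) (f : P), g • φ f = φ f := fun g f => by
    have h := Groth.Agent.H24.PowerSeries.hom_ext (IsLocalRing.maximalIdeal A)
      (f := (MulSemiringAction.toAlgHom k A g).comp φ) (g := φ)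
      (fun i => by
        rw [AlgHom.comp_apply, hφ]
        change g • x i ∈ _
        rw [show g • x i = x i by
          rw [Finset.smul_prod']
          exact Fintype.prod_equiv (Equiv.mulLeft g) _ _ fun σ => smul_smul g σ _]
        exact hxm i)
      (fun i => by
        rw [AlgHom.comp_apply, hφ]
        change g • x i = x i
        rw [Finset.smul_prod']
        exact Fintype.prod_equiv (Equiv.mulLeft g) _ _ fun σ => smul_smul g σ _)
    exact AlgHom.congr_fun h f
  by_contra! hins
  have hB : ∀ y : A, y ∈ FixedPoints.subalgebra k A G → ∃ e, ∀ e', e ≤ e' → ∃ f, φ f = y ^ p ^ e' := by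
    intro y hy
    obtain ⟨e, f, hf⟩ := hins y hy
    exact ⟨e, fun e' he => ⟨f ^ p ^ (e' - e), by
      rw [map_pow, hf, ← pow_mul, ← pow_add, Nat.add_sub_cancel' he]⟩⟩
  have hcst : ∀ (g : G) (e : ℕ), cst A hcard' g ^ p ^ e = cst A hcard' g := fun g e => by
    induction e with
    | zero => rw [pow_zero, pow_one]
    | succ e ih => rw [pow_succ, pow_mul, ih, cst_pow]
  have hne1 : ∀ {Q : Ideal A}, (∃ π : P, π ≠ 0 ∧ Q.comap (algebraMap P A) = Ideal.span {π}) →
      Q ≠ IsLocalRing.maximalIdeal A := by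
    rintro Q ⟨π, hπ, hQ⟩ rfl
    have hm : (Ideal.span {π}).IsMaximal :=
      hQ ▸ Ideal.isMaximal_comap_of_isIntegral_of_isMaximal (IsLocalRing.maximalIdeal A)
    have h1 : (IsLocalRing.maximalIdeal P).height ≤ 1 := by
      rw [← IsLocalRing.eq_maximalIdeal hm]
      haveI := hm.isPrime
      refine Ideal.height_le_one_of_isPrincipal_of_mem_minimalPrimes (Ideal.span {π}) _ ?_
      rw [Ideal.minimalPrimes_eq_subsingleton_self]
      exact rfl
    have h3 := IsLocalRing.maximalIdeal_height_eq_ringKrullDim (R := P)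
    rw [Groth.Agent.H24.PowerSeries.ringKrullDim_eq k n] at h3
    have h4 : (IsLocalRing.maximalIdeal P).height = n := WithBot.coe_injective h3
    rw [h4] at h1
    have h5 : n ≤ 1 := by exact_mod_cast h1
    omega
  have hbot : (⊥ : Ideal A) ≠ IsLocalRing.maximalIdeal A := fun h => by
    have hf : IsField A := IsLocalRing.isField_iff_maximalIdeal_eq.mpr h.symm
    rw [ringKrullDim_eq_zero_of_isField hf] at hn
    have : n = 0 := by exact_mod_cast hn.symm
    omega
  obtain ⟨y0, T0, hT00, hT0B, hy0⟩ := exists_local_gen (k := k) hcard' (⊥ : Ideal A)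
    (hram ⊥ Ideal.isPrime_bot hbot)
  replace hT00 : T0 ≠ 0 := fun h => hT00 (Ideal.mem_bot.mpr h)
  obtain ⟨e1, he1⟩ := hB T0 hT0B
  obtain ⟨e2, he2⟩ := hB (asNum p y0 T0) (asNum_mem hcard' hT0B hy0)
  let e0 := max e1 e2
  obtain ⟨tP, htP⟩ := he1 e0 (le_max_left _ _)
  obtain ⟨nP, hnP⟩ := he2 e0 (le_max_right _ _)
  let Y := y0 ^ p ^ e0
  let T := T0 ^ p ^ e0
  have hT : T ≠ 0 := pow_ne_zero _ hT00
  have hTB : T ∈ FixedPoints.subalgebra k A G := pow_mem hT0B _
  have hY : ∀ g : G, g • Y = Y + cst A hcard' g * T := fun g => by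
    rw [smul_pow', hy0 g, add_pow_char_pow, mul_pow, hcst]
  have hN : φ nP = Y ^ p - T ^ (p - 1) * Y := by
    rw [hnP, asNum, sub_pow_char_pow, mul_pow, ← pow_mul, ← pow_mul, ← pow_mul, ← pow_mul]
    rw [mul_comm p, mul_comm (p - 1)]
  let KP := FractionRing P
  let KA := FractionRing A
  let ι : A →+* KA := algebraMap A KA
  let ιP : P →+* KP := algebraMap P KP
  have hιA : Function.Injective ι := IsFractionRing.injective A KA
  haveI : CharP KA p := charP_of_injective_algebraMap hιA p
  haveI : CharP KP p := charP_of_injective_algebraMap (IsFractionRing.injective P KP) p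
  let j : KP →+* KA := IsFractionRing.lift (g := ι.comp φ.toRingHom) (hιA.comp hinj)
  have hj : ∀ f, j (ιP f) = ι (φ f) := fun f => IsFractionRing.lift_algebraMap _ f
  replace htP : φ tP = T := htP
  have htK : ι T ≠ 0 := (map_ne_zero_iff ι hιA).mpr hT
  let a : KP := ιP nP / ιP tP ^ p
  let Z : KA := ι Y / ι T
  have hsplit : ∀ (y t : A), t ≠ 0 → ι (y ^ p - t ^ (p - 1) * y) =
      ((ι y / ι t) ^ p - ι y / ι t) * ι t ^ p := by
    intro y t ht
    have ht' : ι t ≠ 0 := (map_ne_zero_iff ι hιA).mpr ht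
    have h1 : ι t ^ p = ι t ^ (p - 1) * ι t := by rw [← pow_succ, Nat.sub_add_cancel hp.one_le]
    rw [map_sub, map_mul, map_pow, map_pow, sub_mul, div_pow, div_mul_cancel₀ _ (pow_ne_zero _ ht')]
    congr 1
    rw [h1, mul_comm (ι t ^ (p - 1)) (ι t), ← mul_assoc, div_mul_cancel₀ _ ht', mul_comm]
  have ha : j a = Z ^ p - Z := by
    simp only [a, map_div₀, map_pow, hj, htP, hN]
    rw [hsplit Y T hT]
    exact mul_div_cancel_right₀ _ (pow_ne_zero _ htK)
  obtain ⟨c, b, hb⟩ := Groth.Agent.Lib.WildAS.Purity.exists_sub_mem (A := P) p a fun π hπ => by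
    haveI : (Ideal.span {π}).IsPrime := (Ideal.span_singleton_prime hπ.ne_zero).mpr hπ
    obtain ⟨Q, -, hQ, hQP⟩ := Ideal.exists_ideal_over_prime_of_isIntegral (Ideal.span {π}) (⊥ : Ideal A)
      (by
        intro f hf
        rw [show f = 0 from hinj ((Ideal.mem_bot.mp (Ideal.mem_comap.mp hf)).trans (map_zero φ).symm)]
        exact zero_mem _)
    obtain ⟨y1, T1, hT1, hT1B, hy1⟩ := exists_local_gen (k := k) hcard' Q
      (hram Q hQ (hne1 ⟨π, hπ.ne_zero, hQP⟩))
    have hd : Y * T1 - y1 * T ∈ FixedPoints.subalgebra k A G := fun g => by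
      rw [smul_sub, smul_mul', smul_mul', hY g, hy1 g, hT1B g, hTB g]; ring
    obtain ⟨e3, he3⟩ := hB T1 hT1B
    obtain ⟨e4, he4⟩ := hB (asNum p y1 T1) (asNum_mem hcard' hT1B hy1)
    obtain ⟨e5, he5⟩ := hB _ hd
    let e := max e3 (max e4 e5)
    obtain ⟨t1, ht1⟩ := he3 e (le_max_left _ _)
    obtain ⟨n1, hn1⟩ := he4 e ((le_max_left _ _).trans (le_max_right _ _))
    obtain ⟨d1, hd1⟩ := he5 e ((le_max_right _ _).trans (le_max_right _ _))
    have hT10 : T1 ≠ 0 := fun h => hT1 (h ▸ zero_mem Q)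
    have ht1K : ι T1 ≠ 0 := (map_ne_zero_iff ι hιA).mpr hT10
    have hπt : ¬ π ∣ t1 := fun h => hT1 (hQ.mem_of_pow_mem (p ^ e) (by
      have h1 : t1 ∈ Q.comap (algebraMap P A) := hQP.symm ▸ Ideal.mem_span_singleton.mpr h
      exact ht1 ▸ h1))
    let δ : KP := ιP d1 / (ιP tP ^ p ^ e * ιP t1)
    let S : KP := ∑ i ∈ Finset.range e, a ^ p ^ i
    refine ⟨S - δ, n1, t1 ^ p, fun h => hπt (hπ.dvd_of_dvd_pow h), ?_⟩
    have hS : a + S ^ p - S = a ^ p ^ e := by
      have h1 : S ^ p = ∑ i ∈ Finset.range e, a ^ p ^ (i + 1) := by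
        rw [sum_pow_char]
        exact Finset.sum_congr rfl fun i _ => by rw [← pow_mul, ← pow_succ]
      rw [h1, add_sub_assoc, ← Finset.sum_sub_distrib, Finset.sum_range_sub (fun i => a ^ p ^ i),
        pow_zero, pow_one, add_sub_cancel]
    have hc : a + (S - δ) ^ p - (S - δ) = a ^ p ^ e - δ ^ p + δ := by
      rw [sub_pow_char]; linear_combination hS
    change (a + (S - δ) ^ p - (S - δ)) * ιP (t1 ^ p) = ιP n1
    refine j.injective ?_
    let Z1 : KA := ι y1 / ι T1
    have hδ : j δ = Z ^ p ^ e - Z1 ^ p ^ e := by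
      simp only [δ, map_div₀, map_mul, map_pow, hj, htP, ht1, hd1]
      rw [← sub_pow_char_pow (p := p), ← mul_pow, ← div_pow]
      congr 1
      rw [map_sub, map_mul, map_mul, eq_comm, div_sub_div _ _ htK ht1K]
      ring
    rw [hc, map_mul, map_add, map_sub, map_pow j a, map_pow j δ, ha, hδ, hj, hj, hn1, map_pow φ, ht1,
      map_pow ι (T1 ^ p ^ e), map_pow ι T1, map_pow ι (asNum p y1 T1), asNum, hsplit y1 T1 hT10]
    simp only [mul_pow, sub_pow_char, sub_pow_char_pow]
    rw [pow_right_comm Z p, pow_right_comm (ι T1) (p ^ e)]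
    change _ = ((Z1 ^ p) ^ p ^ e - Z1 ^ p ^ e) * _
    rw [pow_right_comm Z1 p]
    ring
  let W : KA := Z + j c
  have hW : W ^ p - W = ι (φ b) := by
    rw [← hj, hb, map_sub, map_add, map_pow, ha, add_pow_char]; ring
  haveI := Groth.Agent.Lib.Regular.UFD.isIntegrallyClosed A
  obtain ⟨w, hw⟩ : ∃ w : A, ι w = W := by
    refine IsIntegrallyClosed.isIntegral_iff.mp ⟨Polynomial.X ^ p - (Polynomial.X + Polynomial.C (φ b)),
      Polynomial.monic_X_pow_sub ?_, ?_⟩
    · rw [Polynomial.degree_X_add_C]; exact_mod_cast hp.one_lt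
    · rw [Polynomial.eval₂_sub, Polynomial.eval₂_X_pow, Polynomial.eval₂_add, Polynomial.eval₂_X,
        Polynomial.eval₂_C]
      linear_combination hW
  obtain ⟨num, den, hden, hc⟩ := IsFractionRing.div_surjective P c
  have hden0 : φ den ≠ 0 := (map_ne_zero_iff φ hinj).mpr (nonZeroDivisors.ne_zero hden)
  have hkey : w * (T * φ den) = Y * φ den + T * φ num := by
    refine hιA ?_
    rw [map_mul, map_mul, map_add, map_mul, map_mul, hw]
    have hd : ι (φ den) ≠ 0 := (map_ne_zero_iff ι hιA).mpr hden0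
    simp only [W, Z]
    rw [← hc, map_div₀, show j (algebraMap P KP num) = ι (φ num) from hj num,
      show j (algebraMap P KP den) = ι (φ den) from hj den,
      add_mul, ← mul_assoc, div_mul_cancel₀ _ htK, mul_left_comm, div_mul_cancel₀ _ hd]
  obtain ⟨g, hg⟩ : ∃ g : G, g ≠ 1 :=
    Fintype.exists_ne_of_one_lt_card (by rw [hcard]; exact hp.one_lt) 1
  have hgw : g • w = w + cst A hcard' g := by
    have h := congrArg (g • ·) hkey
    simp only [smul_mul', smul_add, hY g, hTB g, hfix] at h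
    refine mul_right_cancel₀ (mul_ne_zero hT hden0) ?_
    linear_combination h - hkey
  have hgm : ∀ t ∈ IsLocalRing.maximalIdeal A, g • t ∈ IsLocalRing.maximalIdeal A := fun t ht =>
    (IsLocalRing.mem_maximalIdeal _).mpr fun h => (IsLocalRing.mem_maximalIdeal _).mp ht (by
      simpa using h.map (MulSemiringAction.toRingHom G A g⁻¹))
  obtain ⟨lam, hlam⟩ := hk (IsLocalRing.residue A w)
  have hwl : w - algebraMap k A lam ∈ IsLocalRing.maximalIdeal A := by
    rw [← IsLocalRing.residue_eq_zero_iff, map_sub, sub_eq_zero]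
    exact hlam.symm
  have hmem : cst A hcard' g ∈ IsLocalRing.maximalIdeal A := by
    have h := sub_mem (hgm _ hwl) hwl
    rwa [smul_sub, smul_algebraMap, hgw, sub_sub_sub_cancel_right, add_sub_cancel_left] at h
  refine (IsLocalRing.mem_maximalIdeal _).mp hmem ?_
  refine IsUnit.map (ZMod.castHom (dvd_refl p) A) (isUnit_iff_ne_zero.mpr fun h => hg ?_)
  exact (idx hcard').map_eq_one_iff.mp (Multiplicative.toAdd.injective h)

end Groth.Agent.S15799
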