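import Groth.Statements.S1580
import Mathlib

set_option autoImplicit false
universe u
open CategoryTheory CategoryTheory.Limits AlgebraicGeometry
open Divisors

namespace Groth.Agent.S1580

section

open AlgebraicGeometry CategoryTheory

theorem exists_basicOpen_avoid {X S : Scheme.{u}} (f : X ⟶ S) {V : S.Opens} (hV : IsAffineOpen V)
    {W : X.Opens} (hW : IsAffineOpen W) (hWV : W ≤ f ⁻¹ᵁ V) {s : S} (hsV : s ∈ V) (Z : Set X)
    (hZcl : IsClosed (Z ∪ ((f ⁻¹ᵁ V : X.Opens) : Set X)ᶜ)) (hclear : ∀ x ∈ Z, ¬ f.base x ⤳ s) :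
    ∃ g : Γ(S, V), s ∈ S.basicOpen g ∧ ∀ x ∈ Z, x ∈ W → f.base x ∉ S.basicOpen g := by
  let φ := (f.appLE V W hWV).hom
  obtain ⟨J, hJ⟩ := (PrimeSpectrum.isClosed_iff_zeroLocus_ideal _).mp
    (hZcl.preimage hW.fromSpec.continuous)
  let T : Submonoid Γ(S, V) :=
    { carrier := {g | s ∈ S.basicOpen g}
      one_mem' := by
        show s ∈ S.basicOpen (1 : Γ(S, V))
        rw [S.mem_basicOpen _ s hsV, map_one]
        exact isUnit_one
      mul_mem' := fun {a b} ha hb => by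
        show s ∈ S.basicOpen (a * b)
        rw [S.basicOpen_mul]
        exact ⟨ha, hb⟩ }
  by_cases hdis : Disjoint (J : Set Γ(X, W)) (T.map φ)
  · exfalso
    obtain ⟨q, hq, hJq, hqd⟩ := Ideal.exists_le_prime_disjoint J (T.map φ) hdis
    let z : X := hW.fromSpec ⟨q, hq⟩
    have hzW : z ∈ W := hW.range_fromSpec.le ⟨_, rfl⟩
    have hzZ : z ∈ Z := by
      have : (⟨q, hq⟩ : PrimeSpectrum Γ(X, W)) ∈ hW.fromSpec ⁻¹' (Z ∪ ((f ⁻¹ᵁ V : X.Opens) : Set X)ᶜ) := by
        rw [hJ]; exact hJq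
      exact this.resolve_right fun h => h (hWV hzW)
    refine hclear z hzZ (specializes_iff_forall_open.mpr fun O hO hsO => ?_)
    obtain ⟨g, hgO, hsg⟩ := hV.exists_basicOpen_le (V := ⟨O, hO⟩) ⟨s, hsO⟩ hsV
    refine hgO ?_
    have hng : φ g ∉ q := fun h => Set.disjoint_left.mp hqd h ⟨g, hsg, rfl⟩
    have : z ∈ X.basicOpen (φ g) := by
      show (⟨q, hq⟩ : PrimeSpectrum Γ(X, W)) ∈ hW.fromSpec ⁻¹ᵁ X.basicOpen (φ g)
      rw [hW.fromSpec_preimage_basicOpen]
      exact hng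
    rw [Scheme.basicOpen_appLE f W V hWV g] at this
    exact this.2
  · obtain ⟨b, hbJ, g, hg, rfl⟩ := Set.not_disjoint_iff.mp hdis
    refine ⟨g, hg, fun x hxZ hxW hxg => ?_⟩
    obtain ⟨q, rfl⟩ : x ∈ Set.range hW.fromSpec := hW.range_fromSpec.ge hxW
    have hmem : q ∈ hW.fromSpec ⁻¹' (Z ∪ ((f ⁻¹ᵁ V : X.Opens) : Set X)ᶜ) := Or.inl hxZ
    rw [hJ] at hmem
    have hx' : hW.fromSpec q ∈ X.basicOpen (φ g) := by
      rw [Scheme.basicOpen_appLE f W V hWV g]
      exact ⟨hxW, hxg⟩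
    have hq' : q ∈ hW.fromSpec ⁻¹ᵁ X.basicOpen (φ g) := hx'
    rw [hW.fromSpec_preimage_basicOpen] at hq'
    exact hq' (hmem hbJ)

end


/-- Let f : X → S be quasi-compact and quasi-separated and F quasi-coherent on X. A point of S not in
the image of f is not weakly associated to f_* F. -/
theorem result {X S : Scheme.{u}} (f : X ⟶ S) [QuasiCompact f] [QuasiSeparated f]
    (F : X.Modules) (hF : Coh.IsQCoh F) (s : S) (hs : s ∉ Set.range f.base) :
    ¬ Curv2.IsWeakAssPoint ((Coh.push f).obj F) s := by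
  rintro ⟨m, hm⟩
  obtain ⟨U₀, hsU₀, t₀, rfl⟩ := ((Coh.push f).obj F).presheaf.exists_germ_eq m
  obtain ⟨_, ⟨V, hV, rfl⟩, hsV, hVU⟩ := S.isBasis_affineOpens.exists_subset_of_mem_open hsU₀ U₀.isOpen
  let t : Γ(F, f ⁻¹ᵁ V) := ((Coh.push f).obj F).presheaf.map (homOfLE hVU).op t₀
  rw [← TopCat.Presheaf.germ_res_apply ((Coh.push f).obj F).presheaf (homOfLE hVU) s hsV t₀] at hm
  -- the support of `t` avoids points over generalizations of `s`
  let Z : Set X := {x | ∃ hx : x ∈ f ⁻¹ᵁ V, F.presheaf.germ (f ⁻¹ᵁ V) x hx t ≠ 0}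
  have hclear : ∀ x ∈ Z, ¬ f.base x ⤳ s := by
    rintro x ⟨hxV, hx⟩ hsp
    have hne : f.base x ≠ s := fun h => hs ⟨x, h⟩
    have hnsp : ¬ s ⤳ f.base x := fun h => hne (hsp.antisymm h).eq
    rw [specializes_iff_forall_open] at hnsp
    push Not at hnsp
    obtain ⟨O, hO, hxO, hsO⟩ := hnsp
    obtain ⟨a, ha, hxa⟩ := hV.exists_basicOpen_le (V := ⟨O, hO⟩) ⟨f.base x, hxO⟩ hxV
    have hsa : S.presheaf.germ V s hsV a ∈ IsLocalRing.maximalIdeal (S.presheaf.stalk s) := fun hu =>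
      hsO (ha ((S.mem_basicOpen a s hsV).mpr hu))
    rw [← hm, Ideal.mem_radical_iff] at hsa
    obtain ⟨n, hn⟩ := hsa
    rw [LinearMap.mem_ker, LinearMap.toSpanSingleton_apply, ← map_pow] at hn
    have h1 : ((Coh.push f).obj F).presheaf.germ V s hsV ((f.app V (a ^ n)) • t) = 0 := by
      refine Eq.trans ?_ hn
      exact PresheafOfModules.germ_smul (R := S.presheaf)
        (show PresheafOfModules (S.presheaf ⋙ forget₂ CommRingCat RingCat) from ((Coh.push f).obj F).val)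
        s V hsV (a ^ n) t
    rw [← map_zero (((Coh.push f).obj F).presheaf.germ V s hsV).hom] at h1
    obtain ⟨V', hsV', i, j, hij⟩ := TopCat.Presheaf.germ_eq ((Coh.push f).obj F).presheaf s hsV hsV _ _ h1
    have hxV' : x ∈ f ⁻¹ᵁ V' := hsp.mem_open V'.isOpen hsV'
    have hres : F.presheaf.map (((TopologicalSpace.Opens.map f.base).map i).op) ((f.app V (a ^ n)) • t) = 0 :=
      hij.trans (map_zero _)
    have h2 : F.presheaf.germ (f ⁻¹ᵁ V) x hxV ((f.app V (a ^ n)) • t) = 0 := by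
      rw [← TopCat.Presheaf.germ_res_apply F.presheaf ((TopologicalSpace.Opens.map f.base).map i) x hxV' _,
        hres]
      exact map_zero _
    have h3 : X.presheaf.germ (f ⁻¹ᵁ V) x hxV (f.app V (a ^ n)) • F.presheaf.germ (f ⁻¹ᵁ V) x hxV t = 0 := by
      refine Eq.trans ?_ h2
      exact (PresheafOfModules.germ_smul (R := X.presheaf)
        (show PresheafOfModules (X.presheaf ⋙ forget₂ CommRingCat RingCat) from F.val)
        x (f ⁻¹ᵁ V) hxV (f.app V (a ^ n)) t).symm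
    refine hx (((?_ : IsUnit (X.presheaf.germ (f ⁻¹ᵁ V) x hxV (f.app V (a ^ n))))).smul_eq_zero.mp h3)
    rw [map_pow, map_pow]
    refine IsUnit.pow n ((X.mem_basicOpen (f.app V a) x hxV).mp ?_)
    rw [← Scheme.preimage_basicOpen]
    exact hxa
  -- hence some neighbourhood of `s` pulls back to the complement of the support
  have hZcl : IsClosed (Z ∪ ((f ⁻¹ᵁ V : X.Opens) : Set X)ᶜ) := by
    rw [← isOpen_compl_iff, isOpen_iff_forall_mem_open]
    intro x hx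
    simp only [Set.mem_compl_iff, Set.mem_union, not_or, not_not] at hx
    obtain ⟨hxZ, hxV⟩ := hx
    have h0 : F.presheaf.germ (f ⁻¹ᵁ V) x hxV t = 0 := by
      by_contra h
      exact hxZ ⟨hxV, h⟩
    rw [← map_zero (F.presheaf.germ (f ⁻¹ᵁ V) x hxV).hom] at h0
    obtain ⟨W, hxW, i, j, hij⟩ := TopCat.Presheaf.germ_eq F.presheaf x hxV hxV _ _ h0
    refine ⟨W, fun y hy hy' => ?_, W.isOpen, hxW⟩
    rcases hy' with ⟨hyV, hyne⟩ | hyV
    · refine hyne ?_
      rw [← TopCat.Presheaf.germ_res_apply F.presheaf i y hy t, hij, map_zero, map_zero]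
    · exact hyV (i.le hy)
  obtain ⟨g, hsg, hg⟩ : ∃ g : Γ(S, V), s ∈ S.basicOpen g ∧ ∀ x ∈ Z, f.base x ∉ S.basicOpen g := by
    have hloc : ∀ W : {W : X.Opens // IsAffineOpen W ∧ W ≤ f ⁻¹ᵁ V},
        ∃ g : Γ(S, V), s ∈ S.basicOpen g ∧ ∀ x ∈ Z, x ∈ W.1 → f.base x ∉ S.basicOpen g := by
      rintro ⟨W, hW, hWV⟩
      exact exists_basicOpen_avoid f hV hW hWV hsV Z hZcl hclear
    have hcpt : IsCompact ((f ⁻¹ᵁ V : X.Opens) : Set X) :=
      QuasiCompact.isCompact_preimage (V : Set S) V.isOpen hV.isCompact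
    obtain ⟨I, hI⟩ := hcpt.elim_finite_subcover
      (fun W : {W : X.Opens // IsAffineOpen W ∧ W ≤ f ⁻¹ᵁ V} => (W.1 : Set X)) (fun W => W.1.isOpen)
      (fun x hx => by
        obtain ⟨_, ⟨W, hW, rfl⟩, hxW, hWV⟩ := X.isBasis_affineOpens.exists_subset_of_mem_open hx (f ⁻¹ᵁ V).isOpen
        exact Set.mem_iUnion.mpr ⟨⟨W, hW, hWV⟩, hxW⟩)
    choose g hg hg' using hloc
    refine ⟨∏ W ∈ I, g W, ?_, fun x hx hxg => ?_⟩
    · rw [S.mem_basicOpen _ s hsV, map_prod]
      exact IsUnit.prod_iff.mpr fun W _ => (S.mem_basicOpen _ s hsV).mp (hg W)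
    · obtain ⟨W, hWI, hxW⟩ := Set.mem_iUnion₂.mp (hI (show x ∈ ((f ⁻¹ᵁ V : X.Opens) : Set X) from hx.1))
      refine hg' W x hx hxW ?_
      have hfxV : f.base x ∈ V := hx.1
      rw [S.mem_basicOpen _ _ hfxV, map_prod] at hxg
      exact (S.mem_basicOpen _ _ hfxV).mpr (IsUnit.prod_iff.mp hxg W hWI)
  -- so the germ vanishes
  have hzero : ((Coh.push f).obj F).presheaf.germ V s hsV t = 0 := by
    rw [← TopCat.Presheaf.germ_res_apply ((Coh.push f).obj F).presheaf (homOfLE (S.basicOpen_le g)) s hsg t]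
    have : (((Coh.push f).obj F).presheaf.map (homOfLE (S.basicOpen_le g)).op) t = 0 := by
      show F.presheaf.map ((TopologicalSpace.Opens.map f.base).map (homOfLE (S.basicOpen_le g))).op t = 0
      refine TopCat.Presheaf.section_ext ⟨F.presheaf, F.isSheaf⟩ _ _ _ fun x hx => ?_
      rw [map_zero]
      refine (TopCat.Presheaf.germ_res_apply F.presheaf _ x hx t).trans ?_
      by_contra h
      exact hg x ⟨_, h⟩ hx
    rw [this, map_zero]
  have h1 : (1 : S.presheaf.stalk s) ∈ IsLocalRing.maximalIdeal (S.presheaf.stalk s) := by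
    rw [← hm, Ideal.mem_radical_iff]
    refine ⟨1, ?_⟩
    rw [LinearMap.mem_ker, LinearMap.toSpanSingleton_apply, pow_one, one_smul]
    exact hzero
  exact (IsLocalRing.maximalIdeal.isMaximal (S.presheaf.stalk s)).ne_top ((Ideal.eq_top_iff_one _).mpr h1)

end Groth.Agent.S1580
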