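import Groth.Statements.S15803
import Groth.Agent.Lib.Purity.Branch
import Mathlib.GroupTheory.SpecificGroups.Cyclic

set_option autoImplicit false
universe u v w
open WildQuot

namespace Groth.Agent.S15803

/-- Let `R` be a regular local ring and `A` a normal local domain, finite over `R` (with `R → A`
injective) and with the same residue field; let a finite group `H` act faithfully on `A` by
`R`-algebra automorphisms with ring of invariants exactly `R` (so `Frac(A)/Frac(R)` is Galois with
group `H`); let `p` be a prime and suppose that every nontrivial inertia subgroup of a height-one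
prime of `A` has order `p` and is normal in `H`. Then `H` is commutative and every element satisfies
`h ^ p = 1`: `H` is an elementary abelian `p`-group (of order the degree of `Frac(A)` over
`Frac(R)`). (The published statement is for `A` a complete regular local ring with an action
ramified precisely at the origin, `R = k[[x_1, …, x_n]]` a norm subring and `H` the Galois group of
`Frac(A)/Frac(R)`, when that extension is Galois; this row assumes only the hypotheses listed
above.) -/
theorem result
    (p : ℕ) [Fact p.Prime] (R : Type u) [CommRing R] [IsRegularLocalRing R]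
    (A : Type v) [CommRing A] [IsDomain A] [IsIntegrallyClosed A] [IsLocalRing A]
    [Algebra R A] [Module.Finite R A] (hinj : Function.Injective (algebraMap R A))
    (hres : Function.Surjective (IsLocalRing.residue A ∘ algebraMap R A))
    (H : Type w) [Group H] [Finite H] [MulSemiringAction H A] [SMulCommClass H R A] [FaithfulSMul H A]
    (hfix : ∀ a : A, (∀ h : H, h • a = a) → a ∈ Set.range (algebraMap R A))
    (hMR2 : ∀ P : Ideal A, P.IsPrime → P.height = 1 → P.inertia H ≠ ⊥ →
      Nat.card (P.inertia H) = p ∧ (P.inertia H).Normal) :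
    (∀ g h : H, g * h = h * g) ∧ ∀ h : H, h ^ p = 1 := by
  have hp : p.Prime := Fact.out
  have htop := Groth.Agent.Lib.Purity.Branch.inertiaSpan_eq_top (R := R) (H := H) hinj hres hfix
  have hpair : ∀ P Q : {P : Ideal A // P.IsPrime ∧ P.height = 1}, ∀ x ∈ P.1.inertia H, ∀ y ∈ Q.1.inertia H,
      x * y = y * x := by
    intro P Q x hx y hy
    by_cases hP : P.1.inertia H = ⊥
    · rw [Subgroup.mem_bot.mp (hP ▸ hx : x ∈ (⊥ : Subgroup H)), one_mul, mul_one]
    by_cases hQ : Q.1.inertia H = ⊥
    · rw [Subgroup.mem_bot.mp (hQ ▸ hy : y ∈ (⊥ : Subgroup H)), one_mul, mul_one]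
    obtain ⟨hcP, hnP⟩ := hMR2 P.1 P.2.1 P.2.2 hP
    obtain ⟨hcQ, hnQ⟩ := hMR2 Q.1 Q.2.1 Q.2.2 hQ
    rcases hp.eq_one_or_self_of_dvd _ (hcP ▸ Subgroup.card_dvd_of_le (inf_le_left : P.1.inertia H ⊓ Q.1.inertia H ≤ _))
      with h | h
    · exact (Subgroup.commute_of_normal_of_disjoint _ _ hnP hnQ
        (disjoint_iff.mpr (Subgroup.eq_bot_of_card_eq _ h)) x y hx hy).eq
    · have hPQ : P.1.inertia H = Q.1.inertia H := by
        have h1 := Subgroup.eq_of_le_of_card_ge (inf_le_left : P.1.inertia H ⊓ Q.1.inertia H ≤ _) (by rw [h, hcP])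
        have h2 := Subgroup.eq_of_le_of_card_ge (inf_le_right : P.1.inertia H ⊓ Q.1.inertia H ≤ _) (by rw [h, hcQ])
        exact h1.symm.trans h2
      haveI : IsCyclic (P.1.inertia H) := isCyclic_of_prime_card hcP
      have hc := (IsCyclic.commutative (α := P.1.inertia H)).is_comm.comm ⟨x, hx⟩ ⟨y, hPQ.symm ▸ hy⟩
      exact congrArg Subtype.val hc
  have hcomm : ∀ g h : H, g * h = h * g := by
    have hcen : (⊤ : Subgroup H) ≤ Subgroup.center H := by
      rw [← htop]
      refine iSup_le fun P x hx => Subgroup.mem_center_iff.mpr fun g => ?_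
      have hle : (⊤ : Subgroup H) ≤ Subgroup.centralizer {x} := by
        rw [← htop]
        refine iSup_le fun Q y hy => Subgroup.mem_centralizer_singleton_iff.mpr (hpair Q P y hy x hx)
      exact Subgroup.mem_centralizer_singleton_iff.mp (hle (Subgroup.mem_top g))
    exact fun g h => Subgroup.mem_center_iff.mp (hcen (Subgroup.mem_top h)) g
  refine ⟨hcomm, fun h => ?_⟩
  let K : Subgroup H :=
    { carrier := {x | x ^ p = 1}
      one_mem' := one_pow p
      mul_mem' := fun {x y} hx hy => by
        show (x * y) ^ p = 1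
        rw [(show Commute x y from hcomm x y).mul_pow, show x ^ p = 1 from hx, show y ^ p = 1 from hy, one_mul]
      inv_mem' := fun {x} hx => by
        show x⁻¹ ^ p = 1
        rw [inv_pow, show x ^ p = 1 from hx, inv_one] }
  have hle : (⊤ : Subgroup H) ≤ K := by
    rw [← htop]
    refine iSup_le fun P x hx => ?_
    by_cases hP : P.1.inertia H = ⊥
    · rw [Subgroup.mem_bot.mp (hP ▸ hx : x ∈ (⊥ : Subgroup H))]
      exact K.one_mem
    have h1 : (⟨x, hx⟩ : P.1.inertia H) ^ p = 1 := (hMR2 P.1 P.2.1 P.2.2 hP).1 ▸ pow_card_eq_one'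
    exact congrArg Subtype.val h1
  exact hle (Subgroup.mem_top h)

end Groth.Agent.S15803
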