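import Groth.Statements.S15804
import Groth.Agent.S15803
import Mathlib.GroupTheory.PGroup

set_option autoImplicit false
universe u v w
open WildQuot

namespace Groth.Agent.S15804

/-- Let `R` be a regular local ring and `A` a normal local domain, finite over `R` (with `R → A`
injective) and with the same residue field; let a finite group `H` act faithfully on `A` by
`R`-algebra automorphisms with ring of invariants exactly `R` (so `Frac(A)/Frac(R)` is Galois with
group `H`); assume `A` has Krull dimension `2`, `H` has order `p ^ 2` for a prime `p`, and `Γ ≤ H`
is a subgroup of order `p` whose intersection with the inertia subgroup of every non-maximal prime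
of `A` is trivial (the action of `Γ` is ramified precisely at the origin). Then every nontrivial
inertia subgroup of a height-one prime of `A` has order `p`, and `H` is commutative with every
element satisfying `h ^ p = 1`, i.e. elementary abelian of order `p ^ 2`. (The published statement
is for `A` a complete regular local ring with an action ramified precisely at the origin, `R =
k[[x_1, …, x_n]]` a norm subring and `H` the Galois group of `Frac(A)/Frac(R)`, when that extension
is Galois; this row assumes only the hypotheses listed above.) -/
theorem result
    (p : ℕ) [Fact p.Prime] (R : Type u) [CommRing R] [IsRegularLocalRing R]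
    (A : Type v) [CommRing A] [IsDomain A] [IsIntegrallyClosed A] [IsLocalRing A]
    [Algebra R A] [Module.Finite R A] (hinj : Function.Injective (algebraMap R A))
    (hres : Function.Surjective (IsLocalRing.residue A ∘ algebraMap R A))
    (H : Type w) [Group H] [Finite H] [MulSemiringAction H A] [SMulCommClass H R A] [FaithfulSMul H A]
    (hfix : ∀ a : A, (∀ h : H, h • a = a) → a ∈ Set.range (algebraMap R A))
    (hdim : ringKrullDim A = 2) (hcard : Nat.card H = p ^ 2)
    (Γ : Subgroup H) (hΓ : Nat.card Γ = p)
    (hram : ∀ P : Ideal A, P.IsPrime → P ≠ IsLocalRing.maximalIdeal A → P.inertia H ⊓ Γ = ⊥) :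
    (∀ P : Ideal A, P.IsPrime → P.height = 1 → P.inertia H ≠ ⊥ → Nat.card (P.inertia H) = p) ∧
      (∀ g h : H, g * h = h * g) ∧ ∀ h : H, h ^ p = 1 := by
  classical
  have hp : p.Prime := Fact.out
  have hcomm : ∀ g h : H, g * h = h * g := fun g h =>
    IsPGroup.commutative_of_card_eq_prime_sq (G := H) hcard g h
  have horder : ∀ P : Ideal A, P.IsPrime → P.height = 1 → P.inertia H ≠ ⊥ → Nat.card (P.inertia H) = p := by
    intro P hP h1 hne
    obtain ⟨i, hi, hci⟩ := (Nat.dvd_prime_pow hp).mp (hcard ▸ Subgroup.card_subgroup_dvd_card (P.inertia H))
    have hPm : P ≠ IsLocalRing.maximalIdeal A := fun h => by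
      rw [← IsLocalRing.maximalIdeal_height_eq_ringKrullDim, ← h, h1] at hdim
      exact absurd hdim (by decide)
    interval_cases i
    · exact absurd (Subgroup.eq_bot_of_card_eq _ (by simpa using hci)) hne
    · simpa using hci
    · exfalso
      have htop : P.inertia H = ⊤ := Subgroup.eq_top_of_card_eq _ (by rw [hci, hcard])
      have := hram P hP hPm
      rw [htop, top_inf_eq] at this
      rw [this, Subgroup.card_bot] at hΓ
      exact hp.ne_one hΓ.symm
  refine ⟨horder, hcomm, (Groth.Agent.S15803.result p R A hinj hres H hfix fun P hP h1 hne =>
    ⟨horder P hP h1 hne, ⟨fun x hx g => by rwa [hcomm g x, mul_inv_cancel_right]⟩⟩).2⟩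

end Groth.Agent.S15804
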