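import Groth.Statements.S15808
import Groth.Agent.Lib.WildFam.MinorRing
import Groth.Agent.Lib.WildFam.MinorCI
import Groth.Agent.Lib.WildFam.MinorNormal

set_option autoImplicit false
universe u
open WildQuot

namespace Groth.Agent.S15808

set_option maxHeartbeats 800000 in
open MvPolynomial in
/-- Let `k` be a field of characteristic `p > 0`, `n ≥ 2`, `R = k[[x_1, …, x_n]]`, `a_1, …, a_n ∈ R`
with zero constant term and pairwise coprime, `μ ∈ R` nonzero and coprime to each `a_i`; fix an
index `i₀` and let `B = R[Z_j : j ≠ i₀] / (Z_j ^ p - (μ a_{i₀} a_j) ^ (p-1) Z_j - (a_{i₀} ^ p x_j -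
a_j ^ p x_{i₀}) : j ≠ i₀)`, the complete-intersection ring of the minor elements through `u_{i₀}`.
Then `B` is a free `R`-module of rank `p ^ (n-1)`, `B` is an integral domain, and the localisation
`B[1/(μ a_{i₀})]` is integrally closed. (The published statement uses the first index for `i₀`; this
row allows any index.) -/
theorem result
    (p : ℕ) [Fact p.Prime] (k : Type u) [Field k] [CharP k p] (n : ℕ) (hn : 2 ≤ n)
    (a : Fin n → MvPowerSeries (Fin n) k) (μ : MvPowerSeries (Fin n) k)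
    (ham : ∀ i, MvPowerSeries.constantCoeff (a i) = 0) (hcop : ∀ i j, i ≠ j → IsRelPrime (a i) (a j))
    (hμ : μ ≠ 0) (hμa : ∀ i, IsRelPrime μ (a i)) (i₀ : Fin n) :
    let R := MvPowerSeries (Fin n) k
    let r : {j : Fin n // j ≠ i₀} → MvPolynomial {j : Fin n // j ≠ i₀} R := fun j =>
      X j ^ p - C ((μ * a i₀ * a j.1) ^ (p - 1)) * X j
        - C (a i₀ ^ p * MvPowerSeries.X j.1 - a j.1 ^ p * MvPowerSeries.X i₀)
    let B := MvPolynomial {j : Fin n // j ≠ i₀} R ⧸ Ideal.span (Set.range r)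
    Module.Free R B ∧ Module.finrank R B = p ^ (n - 1) ∧ IsDomain B ∧
      IsIntegrallyClosed (Localization.Away (algebraMap R B (μ * a i₀))) := by
  classical
  intro R r B
  haveI := Groth.Agent.Lib.WildFam.MinorRing.isDomain k n
  obtain ⟨hd, hic, hchar, hfs⟩ := Groth.Agent.Lib.WildFam.MinorRing.facts p k n a μ ham
  have ha := Groth.Agent.Lib.WildFam.MinorRing.ne_zero hn ham hcop i₀
  let A := Groth.Agent.Lib.WildFam.Basic.Fam p (fun i => μ * a i) fun i : Fin n => MvPowerSeries.X i
  let z : {j : Fin n // j ≠ i₀} → A :=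
    Groth.Agent.Lib.WildFam.Minor.minor μ a (fun i => MvPowerSeries.X i) i₀
  have hp := (Fact.out : p.Prime).two_le
  have hrel := Groth.Agent.Lib.WildFam.Minor.minor_rel (p := p) μ a (fun i => MvPowerSeries.X i) i₀
  have hli := Groth.Agent.Lib.WildFam.Minor.linearIndependent_minor (p := p) μ a
    (fun i => MvPowerSeries.X i) i₀ ha
  obtain ⟨hfree, hrank⟩ := Groth.Agent.Lib.WildFam.MinorCI.free_quotient hp z _ _ hrel hli
  have hker := Groth.Agent.Lib.WildFam.MinorCI.ker_aeval hp z _ _ hrel hli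
  let φ : B →ₐ[R] A := Ideal.Quotient.liftₐ _ (aeval z) fun g hg => hker.ge hg
  have hφ : Function.Injective φ := by
    refine (injective_iff_map_eq_zero φ).mpr fun y hy => ?_
    obtain ⟨g, rfl⟩ := Ideal.Quotient.mk_surjective y
    exact Ideal.Quotient.eq_zero_iff_mem.mpr (hker.le hy)
  haveI hBd : IsDomain B := hφ.isDomain _
  refine ⟨hfree, ?_, hBd, ?_⟩
  · refine hrank.trans ?_
    rw [Fintype.card_subtype_compl, Fintype.card_fin, Fintype.card_subtype_eq]
  let b : B := algebraMap R B (μ * a i₀)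
  have hbA : φ b ≠ 0 := by
    rw [φ.commutes]
    exact (map_ne_zero_iff _ (FaithfulSMul.algebraMap_injective R A)).mpr (mul_ne_zero hμ ha)
  have hb : b ≠ 0 := fun e => hbA (by rw [e, map_zero])
  let σ : A ≃ₐ[R] A := Groth.Agent.Lib.WildFam.Galois.trans (Multiplicative.ofAdd fun _ => (1 : ZMod p))
  have hσ : ∀ i, σ (Groth.Agent.Lib.WildFam.Basic.gen p (fun i => μ * a i)
      (fun i : Fin n => MvPowerSeries.X i) i) = Groth.Agent.Lib.WildFam.Basic.gen p (fun i => μ * a i)
      (fun i : Fin n => MvPowerSeries.X i) i + algebraMap R A (μ * a i) := fun i =>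
    (Groth.Agent.Lib.WildFam.Galois.trans_gen _ i).trans (by
      rw [Groth.Agent.Lib.WildFam.Galois.cst, map_one, one_mul])
  have hσφ : ∀ s : B, σ (φ s) = φ s := fun s => by
    have h : σ.toAlgHom.comp φ = φ := by
      refine Ideal.Quotient.algHom_ext R (MvPolynomial.algHom_ext fun j => ?_)
      have e : φ (Ideal.Quotient.mk _ (X j)) = z j := aeval_X z j
      change σ (φ (Ideal.Quotient.mk _ (X j))) = φ (Ideal.Quotient.mk _ (X j))
      rw [e]
      change σ (algebraMap R A (a i₀) * _ - algebraMap R A (a j.1) * _) =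
        algebraMap R A (a i₀) * _ - algebraMap R A (a j.1) * _
      rw [map_sub, map_mul, map_mul, σ.commutes, σ.commutes, hσ, hσ, map_mul, map_mul]
      ring
    exact AlgHom.congr_fun h s
  refine Groth.Agent.Lib.WildFam.MinorNormal.isIntegrallyClosed_away φ.toRingHom hφ σ.toAlgHom.toRingHom
    hσφ b hb fun t ht => ?_
  obtain ⟨N, hN⟩ := Groth.Agent.Lib.WildFam.Minor.exists_pow_mul_mem μ a (fun i => MvPowerSeries.X i)
    i₀ ha (φ.commutes (μ * a i₀) ▸ hbA) σ hσ t ht
  rw [Algebra.adjoin_range_eq_range_aeval] at hN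
  obtain ⟨g, hg⟩ := hN
  refine ⟨N, Ideal.Quotient.mk _ g, ?_⟩
  exact Eq.trans hg (congrArg (fun e => e ^ N * t) (φ.commutes (μ * a i₀)).symm)

end Groth.Agent.S15808
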