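import Groth.Statements.S15809
import Groth.Agent.Lib.CodimIso.Scheme

set_option autoImplicit false
universe u
open CategoryTheory MonoidalCategory CartesianMonoidalCategory AlgebraicGeometry Limits
open WildQuot

namespace Groth.Agent.S15809

/-- Let `S` be a Noetherian scheme, `G` a finite flat `S`-group scheme and `Y` a finite flat `S`-scheme
with an action of `G`; let `Ψ : G ×_S Y → Y ×_S Y` be `(g, y) ↦ (g y, y)`. Suppose that for every
point `s ∈ S` of codimension at most `1` (local ring of dimension `≤ 1`) the fibre `Y_s` is a torsor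
under `G_s`: it is nonempty and the base change of `Ψ` to `Spec κ(s)` is an isomorphism. Then `Y` is
a `G`-torsor: `Ψ` is an isomorphism and `Y → S` is surjective (so the finite flat cover `Y → S`
itself trivialises `Y`). -/
theorem result
    (S : Scheme.{u}) [AlgebraicGeometry.IsNoetherian S]
    (G Y : Over S) [GrpObj G]
    [AlgebraicGeometry.IsFinite G.hom] [AlgebraicGeometry.Flat G.hom]
    [AlgebraicGeometry.IsFinite Y.hom] [AlgebraicGeometry.Flat Y.hom]
    (a : AlgGrp.Action G Y)
    (hfib : ∀ s : S, ringKrullDim (S.presheaf.stalk s) ≤ 1 →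
      s ∈ Set.range Y.hom.base ∧
      IsIso (pullback.map (G ⊗ Y).hom (S.fromSpecResidueField s) (Y ⊗ Y).hom (S.fromSpecResidueField s)
        (CartesianMonoidalCategory.lift a.act (CartesianMonoidalCategory.snd G Y)).left
        (𝟙 _) (𝟙 S)
        ((Category.comp_id _).trans
          (Over.w (CartesianMonoidalCategory.lift a.act (CartesianMonoidalCategory.snd G Y))).symm)
        ((Category.comp_id _).trans (Category.id_comp _).symm))) :
    IsIso (CartesianMonoidalCategory.lift a.act (CartesianMonoidalCategory.snd G Y)).left ∧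
      Function.Surjective Y.hom.base := by
  have hfin : ∀ P Q : Over S, ∀ [AlgebraicGeometry.IsFinite P.hom] [AlgebraicGeometry.Flat P.hom]
      [AlgebraicGeometry.IsFinite Q.hom] [AlgebraicGeometry.Flat Q.hom],
      AlgebraicGeometry.IsFinite (P ⊗ Q).hom ∧ AlgebraicGeometry.Flat (P ⊗ Q).hom := by
    intro P Q _ _ _ _
    change AlgebraicGeometry.IsFinite (pullback.fst P.hom Q.hom ≫ P.hom) ∧
      AlgebraicGeometry.Flat (pullback.fst P.hom Q.hom ≫ P.hom)
    exact ⟨inferInstance, inferInstance⟩
  have hsurj : Function.Surjective Y.hom.base :=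
    Groth.Agent.Lib.CodimIso.Scheme'.surjective_of_codim_zero Y.hom Y.hom.isClosedMap.isClosed_range
      fun s hs => (hfib s (hs.trans zero_le_one)).1
  refine ⟨?_, hsurj⟩
  haveI := (hfin G Y).1
  haveI := (hfin G Y).2
  haveI := (hfin Y Y).1
  haveI := (hfin Y Y).2
  refine Groth.Agent.Lib.CodimIso.Scheme'.isIso_of_codim_one (G ⊗ Y).hom (Y ⊗ Y).hom
    (CartesianMonoidalCategory.lift a.act (CartesianMonoidalCategory.snd G Y)).left
    (Over.w (CartesianMonoidalCategory.lift a.act (CartesianMonoidalCategory.snd G Y))) fun s hs => ?_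
  obtain ⟨y, hy⟩ := hsurj s
  refine ⟨⟨(CartesianMonoidalCategory.lift (𝟙 Y) (𝟙 Y)).left y, ?_⟩,
    @asIso _ _ _ _ _ (hfib s hs).2, pullback.lift_fst _ _ _⟩
  rw [← Scheme.Hom.comp_apply, Over.w (CartesianMonoidalCategory.lift (𝟙 Y) (𝟙 Y))]
  exact hy

end Groth.Agent.S15809
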