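import Groth.Statements.S1581
import Groth.Agent.Lib.DescAlg.Descends

set_option autoImplicit false
universe u
open CategoryTheory CategoryTheory.Limits AlgebraicGeometry
open Variety

namespace Groth.Agent.S1581
open CategoryTheory CategoryTheory.Limits AlgebraicGeometry
/-- Let X be a scheme over a field k and K a field extension of k. If X_K is proper over K then X is
proper over k. -/
theorem result (k : Type u) [Field k] (X : Scheme.{u}) [X.Over (Spec (CommRingCat.of k))] (K : Type u) [Field K] [Algebra k K]
    [IsProper (Curv2.bcSnd k X K)] : IsProper (X ↘ (Spec (CommRingCat.of k))) := by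
  let φ : Spec (CommRingCat.of K) ⟶ Spec (CommRingCat.of k) :=
    Spec.map (CommRingCat.ofHom (algebraMap k K))
  have hφ : (@Surjective ⊓ @Flat ⊓ @QuasiCompact : MorphismProperty Scheme.{u}) φ := by
    refine ⟨⟨⟨fun p => ⟨default, Subsingleton.elim (α := PrimeSpectrum k) _ _⟩⟩, ?_⟩, inferInstance⟩
    rw [HasRingHomProperty.Spec_iff (P := @Flat)]
    exact (RingHom.flat_algebraMap_iff (R := k) (S := K)).mpr inferInstance
  have h : IsPullback (Curv2.bcSnd k X K) (Curv2.bcFst k X K) φ (X ↘ Spec (CommRingCat.of k)) :=
    (IsPullback.of_hasPullback _ _).flip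
  exact MorphismProperty.of_isPullback_of_descendsAlong h hφ ‹_›

end Groth.Agent.S1581
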