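import Groth.Statements.S15810
import Groth.Agent.Lib.WildFam.LinearFam
import Groth.Agent.Lib.WildFam.MinorRing

set_option autoImplicit false
universe u
open WildQuot

namespace Groth.Agent.S15810

open MvPolynomial in
/-- Let `k` be a field of characteristic `p > 0`, `n ≥ 2`, `R = k[[x_1, …, x_n]]`, `a_1, …, a_n ∈ R`
with zero constant term and pairwise coprime, `μ ∈ R` nonzero and coprime to each `a_i`, `A = R[u_1,
…, u_n] / (u_i ^ p - (μ a_i) ^ (p-1) u_i - x_i : i = 1..n)`, and `σ_1, …, σ_n` the `R`-algebra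
automorphisms of `A` with `σ_i u_j = u_j + δ_{ij} μ a_i` (they generate an elementary abelian group
`H` of order `p ^ n`). For a nonzero vector `s ∈ (ℤ/p)^n` let `H_s = {ν : Σ ν_i s_i = 0}`, `α =
∏_{s_i ≠ 0} a_i`, `α_i = ∏_{j ≠ i, s_j ≠ 0} a_j`, `z_s = Σ_{s_i ≠ 0} s_i α_i u_i` and `f_s(T) = T ^
p - (μ α) ^ (p-1) T - Σ_{s_i ≠ 0} s_i α_i ^ p x_i`. Then an element of `A` is fixed by `∏_i σ_i ^
{ν_i}` for every `ν ∈ H_s` if and only if it is a polynomial over `R` in `z_s`, and the kernel of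
`R[T] → A`, `T ↦ z_s`, is generated by `f_s`: the ring of invariants of `H_s` is `R[T]/(f_s)`, in
particular free of rank `p` over `R`. -/
theorem result
    (p : ℕ) [Fact p.Prime] (k : Type u) [Field k] [CharP k p] (n : ℕ) (hn : 2 ≤ n)
    (a : Fin n → MvPowerSeries (Fin n) k) (μ : MvPowerSeries (Fin n) k)
    (ham : ∀ i, MvPowerSeries.constantCoeff (a i) = 0) (hcop : ∀ i j, i ≠ j → IsRelPrime (a i) (a j))
    (hμ : μ ≠ 0) (hμa : ∀ i, IsRelPrime μ (a i))
    (s : Fin n → ZMod p) (hs : s ≠ 0) :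
    let R := MvPowerSeries (Fin n) k
    let I : Ideal (MvPolynomial (Fin n) R) :=
      Ideal.span (Set.range fun i : Fin n =>
        X i ^ p - C ((μ * a i) ^ (p - 1)) * X i - C (MvPowerSeries.X i))
    let A := MvPolynomial (Fin n) R ⧸ I
    let u : Fin n → A := fun i => Ideal.Quotient.mk I (X i)
    let c : Fin n → R := fun i => algebraMap k R (ZMod.castHom (dvd_refl p) k (s i))
    let α : R := ∏ i ∈ Finset.univ.filter (fun i => s i ≠ 0), a i
    let αi : Fin n → R := fun i => ∏ j ∈ (Finset.univ.filter (fun j => s j ≠ 0)).erase i, a j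
    let z : A := ∑ i ∈ Finset.univ.filter (fun i => s i ≠ 0), algebraMap R A (c i * αi i) * u i
    let f : Polynomial R := Polynomial.X ^ p - Polynomial.C ((μ * α) ^ (p - 1)) * Polynomial.X
      - Polynomial.C (∑ i ∈ Finset.univ.filter (fun i => s i ≠ 0), c i * αi i ^ p * MvPowerSeries.X i)
    ∀ σ : Fin n → (A ≃ₐ[R] A),
      (∀ i j, σ i (u j) = u j + (if i = j then algebraMap R A (μ * a i) else 0)) →
      (∀ t : A, (∀ ν : Fin n → ZMod p, ∑ i, ν i * s i = 0 →
          (List.ofFn (fun i : Fin n => σ i ^ (ν i).val)).prod t = t) ↔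
        t ∈ (Polynomial.aeval z : Polynomial R →ₐ[R] A).range) ∧
      RingHom.ker (Polynomial.aeval z : Polynomial R →ₐ[R] A) = Ideal.span {f} := by
  classical
  intro R I A u c α αi z f σ hσ
  have hp := (Fact.out : p.Prime)
  haveI : CharP R p := charP_of_injective_algebraMap (algebraMap k R).injective p
  haveI := Groth.Agent.H24.PowerSeries.isRegularLocalRing_fin k n
  haveI := Groth.Agent.Lib.Regular.Quotient.isDomain R
  haveI := Groth.Agent.Lib.Regular.UFD.uniqueFactorizationMonoid R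
  obtain ⟨hd, hic, hchar, hfs⟩ := Groth.Agent.Lib.WildFam.MinorRing.facts p k n a μ ham
  haveI : CharP A p := hchar
  have hne := Groth.Agent.Lib.WildFam.MinorRing.ne_zero hn ham hcop
  obtain ⟨i₀, hi₀⟩ := Function.ne_iff.mp hs
  let S : Finset (Fin n) := Finset.univ.filter fun i => s i ≠ 0
  have hS : ∀ i, i ∈ S ↔ s i ≠ 0 := fun i => by simp [S]
  let zz : Fin n → R := fun i => if s i ≠ 0 then c i * αi i else 0
  have hc : ∀ i, s i ≠ 0 → IsUnit (c i) := fun i hi => IsUnit.map _
    (isUnit_iff_ne_zero.mpr ((map_ne_zero_iff _ (ZMod.castHom (dvd_refl p) k).injective).mpr hi))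
  have hcast : ∀ i, c i = ZMod.castHom (dvd_refl p) R (s i) := fun i => RingHom.congr_fun
    (Subsingleton.elim ((algebraMap k R).comp (ZMod.castHom (dvd_refl p) k)) (ZMod.castHom (dvd_refl p) R)) (s i)
  have hαi : ∀ i, s i ≠ 0 → αi i ≠ 0 := fun i _ => Finset.prod_ne_zero_iff.mpr fun j _ => hne j
  have hα : ∀ i, s i ≠ 0 → a i * αi i = α := fun i hi => Finset.mul_prod_erase S a ((hS i).mpr hi)
  have hz : z = ∑ i, zz i • Groth.Agent.Lib.WildFam.Basic.gen p (fun i => μ * a i)
      (fun i : Fin n => MvPowerSeries.X i) i := by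
    simp only [z, zz, ite_smul, zero_smul, Finset.sum_filter]
    refine Finset.sum_congr rfl fun i _ => ?_
    by_cases hi : s i ≠ 0
    · rw [if_pos hi, if_pos hi]; exact (Algebra.smul_def (c i * αi i) (u i)).symm
    · rw [if_neg hi, if_neg hi]
  have hzne : ∀ i, zz i ≠ 0 ↔ s i ≠ 0 := fun i => by
    by_cases hi : s i ≠ 0
    · simp only [zz, if_pos hi]
      exact ⟨fun _ => hi, fun _ => mul_ne_zero (hc i hi).ne_zero (hαi i hi)⟩
    · simp only [zz, if_neg hi]
      exact ⟨fun h => absurd rfl h, fun h => absurd h hi⟩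
  have hza : ∀ i, zz i * (μ * a i) = ZMod.castHom (dvd_refl p) R (s i) * (μ * α) := fun i => by
    by_cases hi : s i ≠ 0
    · simp only [zz, if_pos hi, ← hcast]
      rw [← hα i hi]; ring
    · simp only [zz, if_neg hi]
      rw [not_not.mp hi, map_zero, zero_mul, zero_mul]
  have hcopz : ∀ π : R, Prime π → ∃ i, ¬ π ∣ zz i := by
    intro π hπ
    have key : ∀ l, s l ≠ 0 → (∀ j ∈ S.erase l, ¬ π ∣ a j) → ¬ π ∣ zz l := fun l hl h hd => by
      simp only [zz, if_pos hl] at hd
      rcases hπ.dvd_or_dvd hd with hd | hd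
      · exact hπ.not_unit (isUnit_of_dvd_unit hd (hc l hl))
      · obtain ⟨j, hj, hdj⟩ := hπ.exists_mem_finset_dvd hd
        exact h j hj hdj
    by_cases hex : ∃ l ∈ S, π ∣ a l
    · obtain ⟨l, hl, hla⟩ := hex
      exact ⟨l, key l ((hS l).mp hl) fun j hj hja =>
        hπ.not_unit (hcop j l (Finset.ne_of_mem_erase hj) hja hla)⟩
    · exact ⟨i₀, key i₀ hi₀ fun j hj hja => hex ⟨j, Finset.mem_of_mem_erase hj, hja⟩⟩
  have hroot : Polynomial.aeval z f = 0 := by
    have hz2 : z = ∑ i ∈ S, algebraMap R A (c i * αi i) * u i := rfl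
    simp only [f, map_sub, map_mul, Polynomial.aeval_C, map_pow, Polynomial.aeval_X]
    rw [show (∑ i ∈ Finset.univ.filter (fun i => s i ≠ 0), c i * αi i ^ p * MvPowerSeries.X i) =
      ∑ i ∈ S, c i * αi i ^ p * MvPowerSeries.X i from rfl, hz2, map_sum, sum_pow_char (R := A) (p := p), Finset.mul_sum,
      ← Finset.sum_sub_distrib, ← Finset.sum_sub_distrib]
    refine Finset.sum_eq_zero fun i hi => ?_
    have hci : c i ^ p = c i := by rw [hcast, ← map_pow, ZMod.pow_card]
    have hrel : u i ^ p - algebraMap R A ((μ * a i) ^ (p - 1)) * u i - algebraMap R A (MvPowerSeries.X i) = 0 :=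
      Groth.Agent.Lib.WildFam.Basic.gen_rel p (fun i => μ * a i) (fun i : Fin n => MvPowerSeries.X i) i
    have hcoef : (c i * αi i) ^ p * (μ * a i) ^ (p - 1) = (μ * α) ^ (p - 1) * (c i * αi i) := by
      rw [mul_pow, hci, ← hα i ((hS i).mp hi)]
      conv_lhs => rw [← Nat.sub_add_cancel hp.one_le, pow_succ, Nat.add_sub_cancel]
      ring
    have hconst : (c i * αi i) ^ p = c i * αi i ^ p := by rw [mul_pow, hci]
    have h1 := congrArg (algebraMap R A) hcoef
    have h2 := congrArg (algebraMap R A) hconst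
    simp only [map_mul, map_pow, map_sub, mul_pow] at hrel h1 h2 ⊢
    linear_combination (algebraMap R A (c i) * algebraMap R A (αi i)) ^ p * hrel + u i * h1
      + algebraMap R A (MvPowerSeries.X i) * h2
  refine ⟨fun t => ?_, ?_⟩
  · rw [hz]
    refine Iff.trans ?_ (Groth.Agent.Lib.WildFam.LinearFam.invariants_iff zz s i₀ hi₀ hzne (μ * α) hza
      (fun i => mul_ne_zero hμ (hne i)) hcopz t)
    refine forall_congr' fun ν => imp_congr_right fun _ => ?_
    rw [Groth.Agent.Lib.WildFam.LinearFam.prod_ofFn_trans σ hσ ν]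
  · have hlt : (Polynomial.C ((μ * α) ^ (p - 1)) * Polynomial.X + Polynomial.C (∑ i ∈ Finset.univ.filter
        (fun i => s i ≠ 0), c i * αi i ^ p * MvPowerSeries.X i)).natDegree < p :=
      lt_of_le_of_lt Polynomial.natDegree_linear_le hp.one_lt
    have hmon : f.Monic := by
      simp only [f]
      rw [sub_sub]
      exact Polynomial.monic_X_pow_sub (lt_of_le_of_lt Polynomial.degree_le_natDegree (by exact_mod_cast hlt))
    have hdeg : f.natDegree = p := by
      simp only [f]
      rw [sub_sub, Polynomial.natDegree_sub_eq_left_of_natDegree_lt (by rwa [Polynomial.natDegree_X_pow]),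
        Polynomial.natDegree_X_pow]
    rw [hz] at hroot ⊢
    exact Groth.Agent.Lib.WildFam.LinearFam.ker_aeval zz i₀ ((hzne i₀).mpr hi₀) f hmon hdeg hroot

end Groth.Agent.S15810
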