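import Groth.Statements.S15811
import Mathlib.FieldTheory.Finite.Basic
import Mathlib.Algebra.CharP.Algebra


set_option autoImplicit false
universe u
open WildQuot

namespace Groth.Agent.S15811

/-- Let `R` be an integrally closed domain of prime characteristic `p` with fraction field `K`, and `α ∈
R`. Then `α ≠ 0` and the polynomial `T ^ p - α T` splits into linear factors over `K` — which says
that the finite flat group scheme `Spec R[T]/(T ^ p - α T)` of order `p` has constant generic fibre
(its `p` roots are then distinct) — if and only if `α = a ^ (p-1)` for some nonzero `a ∈ R`. (The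
published statement is that the generic fibre of the finite flat group scheme of order `p` with
parameters `α, β` satisfying `α β = 0`, whose underlying scheme is `Spec R[T]/(T ^ p - α T)`, is
constant if and only if `β = 0` and `α` is the `(p-1)`-th power of a nonzero element of `R`; this
row states the polynomial condition, in which `α ≠ 0` already forces `β = 0` over a domain.) -/
theorem result
    (p : ℕ) [Fact p.Prime] (R : Type u) [CommRing R] [IsDomain R] [IsIntegrallyClosed R]
    [CharP R p] (α : R) :
    (α ≠ 0 ∧ (Polynomial.map (algebraMap R (FractionRing R))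
        (Polynomial.X ^ p - Polynomial.C α * Polynomial.X)).Splits) ↔
      ∃ a : R, a ≠ 0 ∧ α = a ^ (p - 1) := by
  have hp : p.Prime := Fact.out
  let K := FractionRing R
  haveI : CharP K p := charP_of_injective_algebraMap (IsFractionRing.injective R K) p
  have hmap : Polynomial.map (algebraMap R K) (Polynomial.X ^ p - Polynomial.C α * Polynomial.X) =
      Polynomial.X * (Polynomial.X ^ (p - 1) - Polynomial.C (algebraMap R K α)) := by
    rw [Polynomial.map_sub, Polynomial.map_pow, Polynomial.map_mul, Polynomial.map_X, Polynomial.map_C,
      mul_sub, ← pow_succ', Nat.sub_add_cancel hp.one_le, mul_comm]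
  constructor
  · rintro ⟨hα, hs⟩
    rw [hmap, Polynomial.splits_X_mul] at hs
    have hdeg : (Polynomial.X ^ (p - 1) - Polynomial.C (algebraMap R K α)).degree ≠ 0 := by
      rw [Polynomial.degree_X_pow_sub_C (by have := hp.two_le; omega)]
      simp only [ne_eq, Nat.cast_eq_zero]
      have := hp.two_le
      omega
    obtain ⟨c, hc⟩ := hs.exists_eval_eq_zero hdeg
    rw [Polynomial.eval_sub, Polynomial.eval_pow, Polynomial.eval_X, Polynomial.eval_C, sub_eq_zero] at hc
    have hci : IsIntegral R c := IsIntegral.of_pow (by have := hp.two_le; omega) (hc ▸ isIntegral_algebraMap)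
    obtain ⟨a, rfl⟩ := IsIntegrallyClosed.isIntegral_iff.mp hci
    rw [← map_pow] at hc
    have h1 : a ^ (p - 1) = α := IsFractionRing.injective R K hc
    refine ⟨a, ?_, h1.symm⟩
    rintro rfl
    rw [zero_pow (by have := hp.two_le; omega)] at h1
    exact hα h1.symm
  · rintro ⟨a, ha, rfl⟩
    refine ⟨pow_ne_zero _ ha, ?_⟩
    have ha' : algebraMap R K a ≠ 0 := (map_ne_zero_iff _ (IsFractionRing.injective R K)).mpr ha
    rw [Polynomial.splits_iff_card_roots]
    let f : Polynomial K := Polynomial.map (algebraMap R K) (Polynomial.X ^ p - Polynomial.C (a ^ (p - 1)) * Polynomial.X)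
    have hdeg : f.natDegree ≤ p := by
      refine Polynomial.natDegree_map_le.trans ((Polynomial.natDegree_sub_le _ _).trans (max_le (Polynomial.natDegree_X_pow p).le ?_))
      exact ((Polynomial.natDegree_C_mul_le _ _).trans Polynomial.natDegree_X_le).trans hp.one_le
    have hlead : f.coeff p = 1 := by
      simp only [f, Polynomial.coeff_map, Polynomial.coeff_sub, Polynomial.coeff_X_pow, if_true,
        Polynomial.coeff_C_mul_X, if_neg hp.one_lt.ne', sub_zero, map_one]
    have hne : f ≠ 0 := fun h => one_ne_zero (hlead.symm.trans (by rw [h, Polynomial.coeff_zero]))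
    let g : ZMod p ↪ K := ⟨fun c => ZMod.castHom (dvd_refl p) K c * algebraMap R K a,
      fun c d h => (ZMod.castHom (dvd_refl p) K).injective (mul_right_cancel₀ ha' h)⟩
    have hsub : (Finset.univ.map g).val ⊆ f.roots := by
      intro z hz
      rw [Finset.mem_val, Finset.mem_map] at hz
      obtain ⟨c, -, rfl⟩ := hz
      rw [Polynomial.mem_roots hne]
      show f.eval (ZMod.castHom (dvd_refl p) K c * algebraMap R K a) = 0
      simp only [f, Polynomial.eval_map, Polynomial.eval₂_sub, Polynomial.eval₂_X_pow, Polynomial.eval₂_mul,
        Polynomial.eval₂_C, Polynomial.eval₂_X, mul_pow, ← map_pow, ZMod.pow_card]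
      have h : algebraMap R K (a ^ p) = algebraMap R K (a ^ (p - 1)) * algebraMap R K a := by
        rw [← map_mul, ← pow_succ, Nat.sub_add_cancel hp.one_le]
      rw [h]
      ring
    have h1 := Multiset.card_le_card ((Multiset.le_iff_subset (Finset.univ.map g).nodup).mpr hsub)
    rw [Finset.card_val, Finset.card_map, Finset.card_univ, ZMod.card] at h1
    exact le_antisymm (Polynomial.card_roots' f) (hdeg.trans h1)

end Groth.Agent.S15811
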