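import Groth.Statements.S15812
import Groth.Agent.Lib.Purity.Product

set_option autoImplicit false
universe u v w
open WildQuot
open scoped Pointwise

namespace Groth.Agent.S15812

/-- Let `R` be a regular local ring and `A` a normal local domain, finite over `R` (with `R → A`
injective) and with the same residue field; let a finite group `H` act faithfully on `A` by
`R`-algebra automorphisms with ring of invariants exactly `R` (so `Frac(A)/Frac(R)` is Galois with
group `H`); assume `H` is commutative of order `p ^ n` (`p` prime) and let `G_1, …, G_n ≤ H` be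
subgroups of order `p` generating `H`, each the inertia subgroup of some height-one prime of `A`,
such that every nontrivial inertia subgroup of a height-one prime of `A` is one of the `G_i`. Put
`G_i^⊥ =` the subgroup generated by the `G_j` with `j ≠ i`, and assume each invariant ring
`A^{G_i^⊥}` is a free `R`-module (the published statement asks them to be Cohen–Macaulay, which for
a finite algebra over the regular local ring `R` is the same). Then the subalgebras `A^{G_1^⊥}, …,
A^{G_n^⊥}` generate `A` over `R`. (The published conclusion is that the product map `A^{G_1^⊥} ⊗_R ⋯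
⊗_R A^{G_n^⊥} → A` is an isomorphism; as each factor is then free of rank `p` and `A` has rank `p ^
n` over `R`, that is equivalent to the generation statement given here. The published statement is
for `A` a complete regular local ring with an action ramified precisely at the origin, `R = k[[x_1,
…, x_n]]` a norm subring and `H` the Galois group of `Frac(A)/Frac(R)`, when that extension is
Galois; this row assumes only the hypotheses listed above.) -/
theorem result
    (p : ℕ) [Fact p.Prime] (R : Type u) [CommRing R] [IsRegularLocalRing R]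
    (A : Type v) [CommRing A] [IsDomain A] [IsIntegrallyClosed A] [IsLocalRing A]
    [Algebra R A] [Module.Finite R A] (hinj : Function.Injective (algebraMap R A))
    (hres : Function.Surjective (IsLocalRing.residue A ∘ algebraMap R A))
    (H : Type w) [Group H] [Finite H] [MulSemiringAction H A] [SMulCommClass H R A] [FaithfulSMul H A]
    (hfix : ∀ a : A, (∀ h : H, h • a = a) → a ∈ Set.range (algebraMap R A))
    (hcomm : ∀ g h : H, g * h = h * g)
    (n : ℕ) (hcard : Nat.card H = p ^ n) (Gi : Fin n → Subgroup H)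
    (hGi : ∀ i, Nat.card (Gi i) = p) (hsup : (⨆ i, Gi i) = ⊤)
    (hinert : ∀ i, ∃ P : Ideal A, P.IsPrime ∧ P.height = 1 ∧ P.inertia H = Gi i)
    (hMR3 : ∀ P : Ideal A, P.IsPrime → P.height = 1 → P.inertia H ≠ ⊥ → ∃ i, P.inertia H = Gi i)
    (hMR4 : ∀ i, Module.Free R
      (FixedPoints.subalgebra R A ↥(⨆ j ∈ (Finset.univ.erase i : Finset (Fin n)), Gi j : Subgroup H))) :
    (⨆ i, FixedPoints.subalgebra R A ↥(⨆ j ∈ (Finset.univ.erase i : Finset (Fin n)), Gi j : Subgroup H)) = ⊤ := by
  classical
  have hp : p.Prime := Fact.out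
  haveI := Groth.Agent.Lib.Regular.Quotient.isDomain R
  haveI := Groth.Agent.Lib.Regular.UFD.uniqueFactorizationMonoid R
  letI : CommGroup H := { ‹Group H› with mul_comm := hcomm }
  haveI : Algebra.IsIntegral R A := Algebra.IsIntegral.of_finite R A
  let K : Fin n → Subgroup H := fun i => ⨆ j ∈ (Finset.univ.erase i : Finset (Fin n)), Gi j
  let Ai : Fin n → Subalgebra R A := fun i => FixedPoints.subalgebra R A (K i)
  let C : Subalgebra R A := ⨆ i, Ai i
  show C = ⊤
  haveI : ∀ i, (K i).Normal := fun i => ⟨fun x hx g => by rwa [hcomm g x, mul_inv_cancel_right]⟩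
  -- the group is the product
  let ψ : ((i : Fin n) → Gi i) →* H :=
    { toFun := fun f => ∏ i, (f i : H)
      map_one' := by simp
      map_mul' := fun f g => by simp [Finset.prod_mul_distrib] }
  have hψs : ∀ i (x : Gi i), ψ (Pi.mulSingle i x) = (x : H) := fun i x => by
    change ∏ j, ((Pi.mulSingle (M := fun l => Gi l) i x) j : H) = x
    rw [Finset.prod_eq_single i (fun j _ hj => by rw [Pi.mulSingle_eq_of_ne hj]; rfl)
      (fun h => absurd (Finset.mem_univ i) h), Pi.mulSingle_eq_same]
  have hsurj : Function.Surjective ψ := by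
    rw [← MonoidHom.range_eq_top, eq_top_iff, ← hsup]
    exact iSup_le fun i x hx => ⟨Pi.mulSingle i ⟨x, hx⟩, hψs i _⟩
  have hψ : Function.Bijective ψ := (Nat.bijective_iff_surjective_and_card ψ).mpr
    ⟨hsurj, by simp [Nat.card_pi, hGi, hcard]⟩
  have hK : ∀ j f, ψ f ∈ K j → f j = 1 := by
    intro j f hf
    have hle : K j ≤ ((Pi.evalMonoidHom (fun i => Gi i) j).ker).map ψ := by
      refine iSup₂_le fun l hl x hx => ⟨Pi.mulSingle l ⟨x, hx⟩, ?_, hψs l _⟩
      exact Pi.mulSingle_eq_of_ne (Finset.mem_erase.mp hl).1.symm _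
    obtain ⟨g, hg, he⟩ := hle hf
    rw [← hψ.1 he]
    exact hg
  have hGK : ∀ i j, i ≠ j → Gi i ≤ K j := fun i j hij =>
    le_iSup₂_of_le i (Finset.mem_erase.mpr ⟨hij, Finset.mem_univ i⟩) le_rfl
  have hKcard : ∀ j, Nat.card (H ⧸ K j) = p := by
    intro j
    rw [← hGi j]
    refine (Nat.card_congr (Equiv.ofBijective (fun x : Gi j => (QuotientGroup.mk (x : H) : H ⧸ K j))
      ⟨fun x y hxy => ?_, fun q => ?_⟩)).symm
    · have h1 : ψ (Pi.mulSingle j (x⁻¹ * y)) ∈ K j := by
        rw [hψs]
        exact QuotientGroup.eq.mp hxy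
      have h2 := hK j _ h1
      rw [Pi.mulSingle_eq_same] at h2
      exact inv_mul_eq_one.mp h2
    · obtain ⟨h, rfl⟩ := QuotientGroup.mk_surjective q
      obtain ⟨f, rfl⟩ := hψ.2 h
      refine ⟨f j, QuotientGroup.eq.mpr ?_⟩
      change ((f j : H))⁻¹ * ∏ i, (f i : H) ∈ K j
      rw [← Finset.mul_prod_erase _ _ (Finset.mem_univ j), inv_mul_cancel_left]
      exact Subgroup.prod_mem _ fun i hi => hGK i j (Finset.mem_erase.mp hi).1 (f i).2
  -- Galois identities in `C` outside the inertia of a prime
  have hrep : ∀ (q : Ideal R) [q.IsPrime] (S : Finset (Fin n)),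
      (∀ j ∈ S, ∀ P : Ideal A, P.IsPrime → P.comap (algebraMap R A) = q → P.inertia H ≤ K j) →
      ∃ D : R, D ∉ q ∧ Groth.Agent.Lib.Purity.Galois.Rep C
        (fun h : H => if (∀ j ∈ S, h ∈ K j) then algebraMap R A D else 0) := by
    intro q _ S
    induction S using Finset.induction_on with
    | empty =>
      intro _
      refine ⟨1, fun h1 => Ideal.IsPrime.ne_top inferInstance ((Ideal.eq_top_iff_one q).mpr h1), ?_⟩
      have : (fun h : H => if (∀ j ∈ (∅ : Finset (Fin n)), h ∈ K j) then algebraMap R A 1 else 0) = 1 :=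
        funext fun h => by simp
      rw [this]
      exact Groth.Agent.Lib.Purity.Galois.Rep.one
    | insert j S hj ih =>
      intro hin
      obtain ⟨D, hD, hDr⟩ := ih fun l hl => hin l (Finset.mem_insert_of_mem hl)
      obtain ⟨E, hE, ι, hι, a, b, hab, hEr⟩ := Groth.Agent.Lib.Purity.Product.exists_rep_fixed (R := R) hinj hfix (K j) q
        (hin j (Finset.mem_insert_self _ _))
      have hle : Ai j ≤ C := le_iSup Ai j
      have hEC : Groth.Agent.Lib.Purity.Galois.Rep C (Set.indicator (K j : Set H) fun _ => algebraMap R A E) :=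
        ⟨ι, hι, a, b, fun i => ⟨hle (hab i).1, hle (hab i).2⟩, hEr⟩
      refine ⟨E * D, fun h => ((Ideal.IsPrime.mem_or_mem ‹q.IsPrime› h).elim hE hD), ?_⟩
      have := hEC.mul hDr
      have heq : (fun h : H => if (∀ l ∈ insert j S, h ∈ K l) then algebraMap R A (E * D) else 0) =
          (Set.indicator (K j : Set H) fun _ => algebraMap R A E) *
            (fun h : H => if (∀ l ∈ S, h ∈ K l) then algebraMap R A D else 0) := funext fun h => by
        rw [Pi.mul_apply]
        simp only [Finset.forall_mem_insert, Set.indicator_apply, SetLike.mem_coe]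
        by_cases h1 : h ∈ K j <;> by_cases h2 : ∀ l ∈ S, h ∈ K l <;> simp [h1, h2]
      rw [heq]
      exact this
  have hall : ∀ h : H, (∀ j, h ∈ K j) → h = 1 := by
    intro h hh
    obtain ⟨f, rfl⟩ := hψ.2 h
    rw [show f = 1 from funext fun j => hK j f (hh j), map_one]
  have hbot : ∀ P : Ideal A, P.IsPrime → P.comap (algebraMap R A) = ⊥ → P.inertia H = ⊥ := by
    intro P hP h0
    haveI := hP
    rw [Subgroup.eq_bot_iff_forall]
    intro x hx
    refine eq_of_smul_eq_smul (α := A) fun c => ?_
    have h1 := hx c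
    rw [Ideal.eq_bot_of_comap_eq_bot h0] at h1
    rw [one_smul]
    exact sub_eq_zero.mp (Ideal.mem_bot.mp h1)
  -- multiples land in `C`
  have hmult : ∀ π : R, (π = 0 ∨ Prime π) → ∃ D : R, ¬ π ∣ D ∧ ∀ a : A, algebraMap R A D * a ∈ C := by
    intro π hπ
    haveI hq : (Ideal.span {π} : Ideal R).IsPrime := by
      rcases hπ with rfl | hπ
      · simpa using Ideal.isPrime_bot
      · exact (Ideal.span_singleton_prime hπ.ne_zero).mpr hπ
    rcases isEmpty_or_nonempty (Fin n) with he | ⟨⟨i1⟩⟩
    · refine ⟨1, fun h => hq.ne_top ((Ideal.eq_top_iff_one _).mpr (Ideal.mem_span_singleton.mpr h)), fun a => ?_⟩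
      obtain ⟨r, rfl⟩ := hfix a fun h => by rw [hall h (fun j => he.elim j), one_smul]
      rw [← map_mul]
      exact C.algebraMap_mem _
    -- all primes over `(π)` have the same inertia
    obtain ⟨i0, hi0⟩ : ∃ i0, ∀ P : Ideal A, P.IsPrime → P.comap (algebraMap R A) = Ideal.span {π} →
        ∀ j ≠ i0, P.inertia H ≤ K j := by
      by_cases hex : ∀ P : Ideal A, P.IsPrime → P.comap (algebraMap R A) = Ideal.span {π} → P.inertia H = ⊥
      · exact ⟨i1, fun P hP hPq j _ => (hex P hP hPq).le.trans bot_le⟩
      · push Not at hex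
        obtain ⟨P0, hP0, hP0q, hne⟩ := hex
        haveI := hP0
        have hh1 : P0.height = 1 := by
          have h1 : P0.height ≤ 1 := by
            refine (Groth.Agent.Lib.Dim.Integral.height_le_height_under (R := R) P0).trans ?_
            rw [show P0.under R = Ideal.span {π} from hP0q]
            refine Ideal.height_le_one_of_isPrincipal_of_mem_minimalPrimes (Ideal.span {π}) _ ?_
            rw [Ideal.minimalPrimes_eq_subsingleton_self]
            exact rfl
          refine le_antisymm h1 (Order.one_le_iff_pos.mpr (pos_iff_ne_zero.mpr fun h0 => hne ?_))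
          refine hbot P0 hP0 ?_
          rw [Ideal.height_eq_zero_iff_eq_bot.mp h0, Ideal.comap_bot_of_injective _ hinj]
        obtain ⟨i0, hi0⟩ := hMR3 P0 hP0 hh1 hne
        refine ⟨i0, fun P hP hPq j hj => ?_⟩
        haveI := hP
        haveI : Algebra.IsInvariant R A H := ⟨hfix⟩
        obtain ⟨h, rfl⟩ := Algebra.IsInvariant.exists_smul_of_under_eq R A H P0 P (hP0q.trans hPq.symm)
        intro x hx
        refine hGK i0 j hj.symm (hi0 ▸ fun z => ?_)
        have h1 : h • (x • z - z) ∈ h • P0 := by
          rw [smul_sub, smul_smul, hcomm h x, ← smul_smul]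
          exact hx (h • z)
        exact Ideal.smul_mem_pointwise_smul_iff.mp h1
    obtain ⟨D, hD, hDr⟩ := hrep (Ideal.span {π}) (Finset.univ.erase i0) fun j hj P hP hPq =>
      hi0 P hP hPq j (Finset.mem_erase.mp hj).1
    refine ⟨D, fun h => hD (Ideal.mem_span_singleton.mpr h), fun a => ?_⟩
    obtain ⟨ι, _, x, y, hxy, hr⟩ := hDr
    have hrK : Groth.Agent.Lib.Purity.Galois.Rep C
        (Groth.Agent.Lib.Purity.Galois.delta (G := K i0) (algebraMap R A D)) :=
      ⟨ι, inferInstance, x, y, hxy, fun g => by
        refine (hr (g : H)).trans ?_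
        simp only [Groth.Agent.Lib.Purity.Galois.delta]
        by_cases hg : g = 1
        · subst hg
          simp
        · rw [if_neg hg, if_neg fun hh => hg (Subtype.ext (hall g fun j => ?_))]
          by_cases hj : j = i0
          · exact hj ▸ g.2
          · exact hh j (Finset.mem_erase.mpr ⟨hj, Finset.mem_univ j⟩)⟩
    haveI : Fintype (K i0) := Fintype.ofFinite _
    obtain ⟨κ, _, x', y', hxy', hid⟩ := hrK.trace_identity
    rw [hid]
    refine sum_mem fun l _ => mul_mem (hxy' l).1 ((le_iSup Ai i0) ?_)
    intro g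
    rw [Finset.smul_sum]
    exact Fintype.sum_equiv (Equiv.mulLeft g) _ _ fun g' => smul_smul g g' _
  -- `C` is spanned by products of bases
  have hfree : ∀ j, Module.Free R (Ai j) := hMR4
  have hfin : ∀ j, Module.Finite R (Ai j) := fun j =>
    (Groth.Agent.Lib.Purity.Branch.fixed_props (R := R) hinj (K j)).2.2
  have hrank : ∀ j, Module.finrank R (Ai j) = p := fun j => by
    rw [Groth.Agent.Lib.Purity.Product.finrank_fixed (R := R) hinj hfix (K j), hKcard]
  let e : ∀ j, Module.Basis (Fin p) R (Ai j) := fun j => Module.finBasisOfFinrankEq R (Ai j) (hrank j)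
  let g : (Fin n → Fin p) → A := fun f => ∏ j, (e j (f j) : A)
  let S := Submodule.span R (Set.range g)
  have hprod : ∀ x : ∀ j, Ai j, ∏ j, (x j : A) ∈ S := by
    intro x
    have h1 : ∀ j, (x j : A) = ∑ l, (e j).repr (x j) l • (e j l : A) := fun j => by
      have := congrArg Subtype.val ((e j).sum_repr (x j))
      simp only [AddSubmonoidClass.coe_finsetSum, SetLike.val_smul] at this
      exact this.symm
    simp only [h1, Finset.prod_univ_sum, Fintype.piFinset_univ]
    refine Submodule.sum_mem _ fun f _ => ?_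
    rw [Finset.prod_smul]
    exact Submodule.smul_mem _ _ (Submodule.subset_span ⟨f, rfl⟩)
  have hmul : ∀ s t, s ∈ S → t ∈ S → s * t ∈ S := by
    intro s t hs ht
    have h1 : S * S ≤ S := by
      rw [Submodule.span_mul_span, Submodule.span_le]
      rintro _ ⟨_, ⟨f, rfl⟩, _, ⟨f', rfl⟩, rfl⟩
      have := hprod fun j => e j (f j) * e j (f' j)
      simpa [g, Finset.prod_mul_distrib] using this
    exact h1 (Submodule.mul_mem_mul hs ht)
  have hone : (1 : A) ∈ S := by simpa using hprod fun j => 1
  have hCS : ∀ a ∈ C, a ∈ S := by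
    have : C ≤ S.toSubalgebra hone hmul := iSup_le fun j a ha => by
      have := hprod (Pi.mulSingle j ⟨a, ha⟩)
      rw [Finset.prod_eq_single j (fun l _ hl => by rw [Pi.mulSingle_eq_of_ne hl]; rfl)
        (fun h => absurd (Finset.mem_univ j) h), Pi.mulSingle_eq_same] at this
      exact this
    exact fun a ha => this ha
  -- they are independent
  obtain ⟨D0, hD0, hD0r⟩ := hrep ⊥ Finset.univ fun j _ P hP hPq => (hbot P hP hPq).le.trans bot_le
  have hD0' : D0 ≠ 0 := fun h => hD0 (h ▸ zero_mem _)
  haveI : Fintype H := Fintype.ofFinite H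
  obtain ⟨E0, hE0, hE0m⟩ := hmult 0 (Or.inl rfl)
  have hE0' : E0 ≠ 0 := fun h => hE0 (by rw [h])
  have hne : algebraMap R A E0 ≠ 0 := (map_ne_zero_iff _ hinj).mpr hE0'
  let Φ : ((Fin n → Fin p) → R) →ₗ[R] A := Fintype.linearCombination R g
  have hΦ : LinearMap.range Φ = S := Fintype.range_linearCombination R g
  have hrankA : p ^ n ≤ Module.finrank R S := by
    have hA : p ^ n ≤ Module.finrank R A := by
      obtain ⟨ι, _, x, y, -, hr⟩ := hD0r
      have hr' : Groth.Agent.Lib.Purity.Galois.Rep (⊤ : Subalgebra R A)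
          (Groth.Agent.Lib.Purity.Galois.delta (G := H) (algebraMap R A D0)) :=
        ⟨ι, inferInstance, x, y, fun i => ⟨Algebra.mem_top, Algebra.mem_top⟩, fun h => by
          refine (hr h).trans ?_
          simp only [Groth.Agent.Lib.Purity.Galois.delta]
          by_cases hh : h = 1
          · subst hh
            simp
          · rw [if_neg hh, if_neg fun hh' => hh (hall h fun j => hh' j (Finset.mem_univ j))]⟩
      exact Groth.Agent.Lib.Purity.Product.card_le_finrank hinj hD0' hr' hcard
    have hA' : Module.finrank R A ≤ Module.finrank R S :=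
      LinearMap.finrank_le_finrank_of_injective
        (f := LinearMap.codRestrict S (LinearMap.mulLeft R (algebraMap R A E0)) fun a => hCS _ (hE0m a))
        fun a b h => mul_left_cancel₀ hne (congrArg Subtype.val h)
    exact hA.trans hA'
  have hΦinj : Function.Injective Φ := by
    have h1 := Submodule.finrank_quotient_add_finrank (LinearMap.ker Φ)
    rw [Φ.quotKerEquivRange.finrank_eq, hΦ, Module.finrank_fintype_fun_eq_card] at h1
    simp only [Fintype.card_fun, Fintype.card_fin] at h1
    have h0 : Module.finrank R (LinearMap.ker Φ) = 0 := by omega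
    rw [← LinearMap.ker_eq_bot]
    exact Submodule.finrank_eq_zero.mp h0
  rw [eq_top_iff]
  intro a _
  have hcoord : ∀ {D : R}, (∀ a : A, algebraMap R A D * a ∈ C) → ∃ c, Φ c = D • a := fun {D} hD => by
    rw [← LinearMap.mem_range, hΦ, Algebra.smul_def]
    exact hCS _ (hD a)
  obtain ⟨c, hc⟩ := hcoord hE0m
  have hdvd : ∀ f, E0 ∣ c f := fun f =>
    Groth.Agent.Lib.Purity.Galois.dvd_of_forall hE0' fun π hπ => by
      obtain ⟨D, hD, hDm⟩ := hmult π (Or.inr hπ)
      obtain ⟨d, hd⟩ := hcoord hDm
      refine ⟨D, hD, d f, ?_⟩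
      have : D • c = E0 • d := hΦinj (by rw [map_smul, map_smul, hc, hd, smul_comm])
      exact congrFun this f
  choose c' hc' using hdvd
  have ha : a = Φ c' := by
    refine mul_left_cancel₀ hne ?_
    rw [← Algebra.smul_def, ← Algebra.smul_def, ← map_smul, ← hc]
    exact congrArg Φ (funext hc')
  have hgC : S ≤ Subalgebra.toSubmodule C := by
    rw [Submodule.span_le]
    rintro _ ⟨f, rfl⟩
    exact (Subalgebra.mem_toSubmodule (S := C)).mpr (prod_mem fun j _ => le_iSup Ai j (e j (f j)).2)
  rw [ha]
  exact hgC (hΦ ▸ LinearMap.mem_range_self Φ c')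

end Groth.Agent.S15812
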