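import Groth.Statements.S15813
import Groth.Agent.Lib.WildFam.Break
import Mathlib.RingTheory.IntegralClosure.IntegrallyClosed
import Mathlib.RingTheory.PowerSeries.Inverse
import Mathlib.RingTheory.Polynomial.RationalRoot

set_option autoImplicit false
universe u
open WildQuot

namespace Groth.Agent.S15813

/-- Let `k` be a field of characteristic `p > 0`, `A = k[[u]]`, and `σ` a `k`-algebra automorphism of
`A` of order exactly `p`, with ramification break `m`: `σ u - u` has order `m + 1`. Let `x = ∏_{i <
p} σ^i u` be the norm of `u`, let `f ∈ A` be `σ`-invariant with nonzero constant term (a unit of the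
invariant ring `k[[x]]`), let `μ > 0` be prime to `p`, and let `z ∈ Frac(A)` satisfy the
Artin–Schreier equation `z ^ p - z = f / x ^ μ`. Then `μ = m`. (The published statement also records
that `Frac(A) = Frac(A^σ)(z)`; that follows from the equation since `p` does not divide `μ`, so it
is not repeated as a hypothesis.) -/
theorem result
    (p : ℕ) [Fact p.Prime] (k : Type u) [Field k] [CharP k p]
    (σ : PowerSeries k ≃ₐ[k] PowerSeries k) (hσp : σ ^ p = 1) (hσ1 : σ ≠ 1)
    (m : ℕ) (hm : (σ PowerSeries.X - PowerSeries.X).order = ((m + 1 : ℕ) : ℕ∞))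
    (f : PowerSeries k) (hfσ : σ f = f) (hf0 : PowerSeries.constantCoeff f ≠ 0)
    (μ : ℕ) (hμ : 0 < μ) (hpμ : ¬ p ∣ μ)
    (z : FractionRing (PowerSeries k))
    (hz : z ^ p - z = algebraMap (PowerSeries k) (FractionRing (PowerSeries k)) f /
      algebraMap (PowerSeries k) (FractionRing (PowerSeries k))
        (∏ i ∈ Finset.range p, (σ ^ i) PowerSeries.X) ^ μ) :
    μ = m := by
  set x : PowerSeries k := ∏ i ∈ Finset.range p, (σ ^ i) PowerSeries.X with hx
  have hf : IsUnit f := PowerSeries.isUnit_iff_constantCoeff.mpr (isUnit_iff_ne_zero.mpr hf0)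
  have hx0 : algebraMap (PowerSeries k) (FractionRing (PowerSeries k)) x ≠ 0 := by
    rw [Ne, IsFractionRing.to_map_eq_zero_iff]
    intro h
    have := Groth.Agent.Lib.WildFam.Break.order_nm (p := p) σ
    rw [show Groth.Agent.Lib.WildFam.Break.nm (p := p) σ = x from rfl, h, PowerSeries.order_zero] at this
    exact ENat.top_ne_natCast _ this
  set φ := algebraMap (PowerSeries k) (FractionRing (PowerSeries k)) with hφ
  obtain ⟨q, rfl⟩ : ∃ q, p = q + 1 := ⟨p - 1, by have := (Fact.out : p.Prime).pos; omega⟩
  have hw : (z * φ x ^ μ) ^ (q + 1) - φ x ^ (μ * q) * (z * φ x ^ μ) = φ f * φ x ^ (μ * q) := by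
    rw [eq_div_iff (pow_ne_zero _ hx0)] at hz
    linear_combination (φ x ^ (μ * q)) * hz
  have hint : IsIntegral (PowerSeries k) (z * φ x ^ μ) := by
    refine ⟨Polynomial.X ^ (q + 1) - Polynomial.C (x ^ (μ * q)) * Polynomial.X - Polynomial.C (f * x ^ (μ * q)), ?_, ?_⟩
    · have hq : 1 < q + 1 := (Fact.out : (q + 1).Prime).one_lt
      exact ((Polynomial.monic_X_pow _).sub_of_left (lt_of_le_of_lt (Polynomial.degree_C_mul_X_le _)
        (by rw [Polynomial.degree_X_pow]; exact_mod_cast hq))).sub_of_left (lt_of_le_of_lt Polynomial.degree_C_le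
        (by rw [Polynomial.degree_sub_eq_left_of_degree_lt, Polynomial.degree_X_pow]
            · exact_mod_cast Nat.succ_pos q
            · exact lt_of_le_of_lt (Polynomial.degree_C_mul_X_le _) (by rw [Polynomial.degree_X_pow]; exact_mod_cast hq)))
    · simp only [Polynomial.eval₂_sub, Polynomial.eval₂_mul, Polynomial.eval₂_pow, Polynomial.eval₂_C,
        Polynomial.eval₂_X, map_mul, map_pow]
      rw [← hφ]
      linear_combination hw
  obtain ⟨w, hwz⟩ := IsIntegrallyClosed.isIntegral_iff.mp hint
  rw [← hφ] at hwz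
  refine Groth.Agent.Lib.WildFam.Break.conductor_eq σ hσp hm hfσ hf hμ hpμ (w := w) ?_
  apply IsFractionRing.injective (PowerSeries k) (FractionRing (PowerSeries k))
  rw [← hφ, map_sub, map_mul, map_mul, map_pow, map_pow, hwz, Nat.add_sub_cancel]
  exact hw

end Groth.Agent.S15813
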