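import Groth.Statements.S15815
import Groth.Agent.Lib.Koszul.Scaled

set_option autoImplicit false
universe u
open CategoryTheory
open Koszul

namespace Groth.Agent.S15815

/-- Let A be a commutative ring, f = (f_1, …, f_n) a finite sequence in A with Koszul complex K(f)
(cohomological, in degrees -n, …, 0) and differentials ∂^q : K(f)^q → K(f)^{q+1}, and let x be a
non-zero-divisor of A. Then for every integer q the q-th cohomology module of the Koszul complex of
the sequence (x f_1, …, x f_n) is isomorphic as an A-module to Ker(∂^q) / (x · Im(∂^{q-1})), the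
q-cocycles of K(f) modulo x times the q-coboundaries (existence of an A-linear isomorphism; the
Koszul complex is the iterated mapping-cone model). -/
theorem result (A : Type u) [CommRing A] (l : List A) (x : A)
    (hx : x ∈ nonZeroDivisors A) (q : ℤ) :
    Nonempty ((Koszul.koszul A (l.map (fun f => x * f))).homology q ≅
      ModuleCat.of A (↥(LinearMap.ker ((Koszul.koszul A l).d q (q + 1)).hom) ⧸
        Submodule.comap (LinearMap.ker ((Koszul.koszul A l).d q (q + 1)).hom).subtype
          (Ideal.span {x} • LinearMap.range ((Koszul.koszul A l).d (q - 1) q).hom))) := by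
  suffices h : ∀ K : CochainComplex (ModuleCat.{u} A) ℤ,
      Groth.Agent.Lib.Koszul.Basic.koszulOn (Groth.Agent.Lib.Koszul.Basic.sgl (ModuleCat.of A A)) l = K →
      Nonempty ((Koszul.koszul A (l.map (fun f => x * f))).homology q ≅
        ModuleCat.of A (↥(LinearMap.ker (K.d q (q + 1)).hom) ⧸
          Submodule.comap (LinearMap.ker (K.d q (q + 1)).hom).subtype
            (Ideal.span {x} • LinearMap.range (K.d (q - 1) q).hom))) from
    h _ (Groth.Agent.Lib.Koszul.Basic.koszul_eq l).symm
  rintro K rfl
  obtain ⟨e⟩ := Groth.Agent.Lib.Koszul.Scaled.nonempty_homologyEquiv hx l q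
  exact ⟨Groth.Agent.Lib.Koszul.Basic.koszulHomologyIso _ q ≪≫ e.toModuleIso⟩

end Groth.Agent.S15815
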