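import Groth.Statements.S15816
import Groth.Agent.Lib.Koszul.Scaled

set_option autoImplicit false
universe u
open CategoryTheory
open scoped TensorProduct
open Koszul

namespace Groth.Agent.S15816

/-- Let A be a commutative ring, f = (f_1, …, f_n) a sequence in A that is regular in the weak sense
(f_1 is a non-zero-divisor of A and each f_i is a non-zero-divisor modulo (f_1, …, f_{i-1})), with
Koszul complex K(f) and differentials ∂^q, and let x be a non-zero-divisor of A. Then for every
integer q < 0 the q-th cohomology module of the Koszul complex of (x f_1, …, x f_n) is isomorphic as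
an A-module to Ker(∂^q) ⊗_A A/(x) (existence of an A-linear isomorphism; mapping-cone model of the
Koszul complex). -/
theorem result (A : Type u) [CommRing A] (l : List A)
    (hl : RingTheory.Sequence.IsWeaklyRegular A l) (x : A) (hx : x ∈ nonZeroDivisors A) (q : ℤ) (hq : q < 0) :
    Nonempty ((Koszul.koszul A (l.map (fun f => x * f))).homology q ≅
      ModuleCat.of A (↥(LinearMap.ker ((Koszul.koszul A l).d q (q + 1)).hom) ⊗[A] (A ⧸ Ideal.span {x}))) := by
  suffices h : ∀ K : CochainComplex (ModuleCat.{u} A) ℤ,
      Groth.Agent.Lib.Koszul.Basic.koszulOn (Groth.Agent.Lib.Koszul.Basic.sgl (ModuleCat.of A A)) l = K →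
      Nonempty ((Koszul.koszul A (l.map (fun f => x * f))).homology q ≅
        ModuleCat.of A (↥(LinearMap.ker (K.d q (q + 1)).hom) ⊗[A] (A ⧸ Ideal.span {x}))) from
    h _ (Groth.Agent.Lib.Koszul.Basic.koszul_eq l).symm
  rintro K rfl
  obtain ⟨e⟩ := Groth.Agent.Lib.Koszul.Scaled.nonempty_homologyEquiv_of_weaklyRegular hx hl hq.ne
  exact ⟨Groth.Agent.Lib.Koszul.Basic.koszulHomologyIso _ q ≪≫ e.toModuleIso⟩

end Groth.Agent.S15816
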