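import Groth.Statements.S15817
import Mathlib.CategoryTheory.Limits.Types.Pullbacks
import Mathlib.Algebra.Category.ModuleCat.Limits
import Mathlib.Tactic.Abel
-- import your own Groth.Agent.* helpers here

set_option autoImplicit false
universe u v
open CategoryTheory
open CAlg

namespace Groth.Agent.S15817

/-- Let A be a commutative ring, M an A-module and P, Q submodules of M. Then the commuting square of
quotient projections with corners M/(P ∩ Q), M/P, M/Q and M/(P + Q) is cartesian in the category of
A-modules: M/(P ∩ Q) is the fibre product of M/P and M/Q over M/(P + Q). -/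
theorem result (A : Type u) [CommRing A] (M : Type v) [AddCommGroup M] [Module A M]
    (P Q : Submodule A M) :
    IsPullback (ModuleCat.ofHom (Submodule.factor (inf_le_left : P ⊓ Q ≤ P)))
      (ModuleCat.ofHom (Submodule.factor (inf_le_right : P ⊓ Q ≤ Q)))
      (ModuleCat.ofHom (Submodule.factor (le_sup_left : P ≤ P ⊔ Q)))
      (ModuleCat.ofHom (Submodule.factor (le_sup_right : Q ≤ P ⊔ Q))) := by
  have w : CommSq (ModuleCat.ofHom (Submodule.factor (inf_le_left : P ⊓ Q ≤ P)))
      (ModuleCat.ofHom (Submodule.factor (inf_le_right : P ⊓ Q ≤ Q)))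
      (ModuleCat.ofHom (Submodule.factor (le_sup_left : P ≤ P ⊔ Q)))
      (ModuleCat.ofHom (Submodule.factor (le_sup_right : Q ≤ P ⊔ Q))) := ⟨by
    ext x
    simp [Submodule.factor]⟩
  refine IsPullback.of_map (forget (ModuleCat.{v} A)) w.w ?_
  rw [Limits.Types.isPullback_iff]
  refine ⟨by rw [← Functor.map_comp, ← Functor.map_comp, w.w], ?_, ?_⟩
  · intro x y hxy
    induction x using Submodule.Quotient.induction_on with | _ x => ?_
    induction y using Submodule.Quotient.induction_on with | _ y => ?_
    exact (Submodule.Quotient.eq _).mpr ⟨(Submodule.Quotient.eq P).mp hxy.1, (Submodule.Quotient.eq Q).mp hxy.2⟩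
  · intro b c hbc
    induction b using Submodule.Quotient.induction_on with | _ b => ?_
    induction c using Submodule.Quotient.induction_on with | _ c => ?_
    obtain ⟨p, hp, q, hq, hpq⟩ := Submodule.mem_sup.mp ((Submodule.Quotient.eq (P ⊔ Q)).mp hbc)
    refine ⟨Submodule.Quotient.mk (b - p), (Submodule.Quotient.eq P).mpr ?_, (Submodule.Quotient.eq Q).mpr ?_⟩
    · change b - p - b ∈ P
      rw [show b - p - b = -p by abel]; exact neg_mem hp
    · change b - p - c ∈ Q
      have hq' : b - c = p + q := hpq.symm
      rw [show b - p - c = b - c - p by abel, hq', add_sub_cancel_left]; exact hq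

end Groth.Agent.S15817
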