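import Groth.Statements.S1582
import Groth.Agent.H52.FBase.ReducedProd
import Groth.Agent.Lib.GeomConn.GenericFibre
-- import your own Groth.Agent.* helpers here

set_option autoImplicit false
universe u
open CategoryTheory CategoryTheory.Limits AlgebraicGeometry
open Variety

namespace Groth.Agent.S1582

open TensorProduct in
private theorem isReduced_tensor {k A B : Type u} [Field k] [IsAlgClosed k] [CommRing A] [CommRing B]
    [Algebra k A] [Algebra k B] [_root_.IsReduced A] [_root_.IsReduced B] :
    _root_.IsReduced (A ⊗[k] B) := by
  refine Groth.Agent.H52.FBase.ReducedProd.isReduced_tensor fun K _ _ => ?_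
  have : _root_.IsReduced (K ⊗[k] A) := by
    refine Groth.Agent.H52.FBase.ReducedProd.isReduced_tensor fun L _ _ => ?_
    haveI : NoZeroDivisors (K ⊗[k] L) :=
      ⟨fun {x y} h => Groth.Agent.Lib.GeomConn.SepClosed.eq_zero_or_eq_zero x y h⟩
    infer_instance
  exact isReduced_of_injective (Algebra.TensorProduct.comm k A K)
    (Algebra.TensorProduct.comm k A K).injective

private theorem isReduced_pullback_spec {k : Type u} [Field k] [IsAlgClosed k] {A B : CommRingCat.{u}}
    (φ : CommRingCat.of k ⟶ A) (χ : CommRingCat.of k ⟶ B) [_root_.IsReduced A] [_root_.IsReduced B] :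
    AlgebraicGeometry.IsReduced (pullback (Spec.map φ) (Spec.map χ)) := by
  let _ : Algebra k A := φ.hom.toAlgebra
  let _ : Algebra k B := χ.hom.toAlgebra
  have hT : _root_.IsReduced (TensorProduct k A B) := isReduced_tensor
  have : AlgebraicGeometry.IsReduced (Spec (CommRingCat.of (TensorProduct k A B))) :=
    (affine_isReduced_iff _).mpr hT
  exact isReduced_of_isOpenImmersion (pullbackSpecIso k A B).hom

/-- Let k be algebraically closed and X, Y varieties over k (integral, separated, of finite type). Then
the fibre product X ×_k Y is integral (and so again a variety over k). -/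
theorem result (k : Type u) [Field k] [IsAlgClosed k] (X Y : Scheme.{u})
    (f : X ⟶ Spec (CommRingCat.of k)) (g : Y ⟶ Spec (CommRingCat.of k))
    [IsIntegral X] [IsIntegral Y] [IsSeparated f] [IsSeparated g]
    [LocallyOfFiniteType f] [LocallyOfFiniteType g] [QuasiCompact f] [QuasiCompact g] :
    IsIntegral (pullback f g) := by
  haveI : AlgebraicGeometry.IsReduced (pullback f g) := by
    apply +allowSynthFailures @AlgebraicGeometry.IsReduced.of_openCover
      (𝒰 := Scheme.Pullback.openCoverOfLeftRight X.affineCover Y.affineCover f g)
    intro ij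
    have hA : AlgebraicGeometry.IsReduced (X.affineCover.X ij.1) :=
      isReduced_of_isOpenImmersion (X.affineCover.f ij.1)
    have hB : AlgebraicGeometry.IsReduced (Y.affineCover.X ij.2) :=
      isReduced_of_isOpenImmersion (Y.affineCover.f ij.2)
    haveI hA' := (affine_isReduced_iff _).mp hA
    haveI hB' := (affine_isReduced_iff _).mp hB
    have key := isReduced_pullback_spec (Spec.preimage (X.affineCover.f ij.1 ≫ f))
      (Spec.preimage (Y.affineCover.f ij.2 ≫ g))
    rw [Spec.map_preimage, Spec.map_preimage] at key
    exact key
  haveI : IrreducibleSpace ↥(pullback f g) := by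
    letI : X.Over (Spec (CommRingCat.of k)) := ⟨f⟩
    haveI : GeometricallyIrreducible f := by
      refine (Groth.Agent.Lib.GeomConn.Geometric.geometricallyIrreducible_iff_forall k X).2
        fun K _ _ => ?_
      letI := Curv2.resAlgebra k X (genericPoint X)
      refine Groth.Agent.Lib.GeomConn.GenericFibre.irreducibleSpace_bc_of_separableClosure_eq_bot k X K
        (eq_bot_iff.2 fun a ha => IntermediateField.mem_bot.2 ?_)
      exact minpoly.mem_range_of_degree_eq_one k a (IsAlgClosed.degree_eq_one_of_irreducible k
        (minpoly.irreducible (mem_separableClosure_iff.1 ha).isIntegral))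
    haveI : UniversallyOpen f := inferInstance
    infer_instance
  exact isIntegral_of_irreducibleSpace_of_isReduced _

end Groth.Agent.S1582
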