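import Groth.Statements.S15823
import Groth.Agent.Lib.DerivedOX.Kunneth
import Groth.Agent.Lib.DerivedOX.SplitFibre
import Groth.Agent.Lib.SchColim29.RpushTor
import Groth.Agent.Lib.ModSS29.ChangeRings
import Groth.Agent.S12131
import Groth.Agent.Lib.JacCrit.OverField
-- import your own Groth.Agent.* helpers here

set_option autoImplicit false
universe u
open CategoryTheory CategoryTheory.Limits AlgebraicGeometry
attribute [local instance] HasDerivedCategory.standard
open RegImm

set_option maxHeartbeats 1000000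
set_option linter.style.haveILetI false

namespace Groth.Agent.S15823

open CategoryTheory Limits AlgebraicGeometry HomologicalComplex

open Groth.Agent.Lib Groth.Agent.Lib.DerivedOX PullTranspose

/-- Everything is flat over a field. -/
theorem isFlatOver_field {k : Type u} [Field k] {X : Scheme.{u}} (f : X ⟶ Spec (CommRingCat.of k))
    (F : X.Modules) : FlatMod.IsFlatOver f F := fun x => by
  show letI := FlatMod.moduleStalkOver f F x; Module.Flat _ _
  letI := FlatMod.moduleStalkOver f F x
  let p : Spec (CommRingCat.of k) := f x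
  have hfield : IsField ((Spec (CommRingCat.of k)).presheaf.stalk p) := by
    letI := (Spec (CommRingCat.of k)).presheaf.algebra_section_stalk (U := ⊤) ⟨p, trivial⟩
    haveI := (isAffineOpen_top (Spec (CommRingCat.of k))).isLocalization_stalk ⟨p, trivial⟩
    exact (RingEquiv.ofBijective _ (IsField.localization_map_bijective
      (M := ((isAffineOpen_top (Spec (CommRingCat.of k))).primeIdealOf ⟨p, trivial⟩).asIdeal.primeCompl)
      (Rₘ := (Spec (CommRingCat.of k)).presheaf.stalk p)
      (fun h => h (Ideal.zero_mem _)) (JacCrit.OverField.isField_top (K := k)))).symm.toMulEquiv.isField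
      (JacCrit.OverField.isField_top (K := k))
  letI := hfield.toField
  exact (inferInstance : Module.Flat ((Spec (CommRingCat.of k)).presheaf.stalk p) (F.presheaf.stalk x))

/-- Base change of the structure sheaf of a closed subscheme. -/
theorem nonempty_pull_push_structure {X S X' S' : Scheme.{u}} (i : X ⟶ S) [IsAffineHom i] (g : S' ⟶ S)
    (g' : X' ⟶ X) (i' : X' ⟶ S') (h : IsPullback g' i' i g) :
    Nonempty ((Scheme.Modules.pullback g).obj
        ((Scheme.Modules.pushforward i).obj (Coh.structureModule X)) ≅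
      (Scheme.Modules.pushforward i').obj (Coh.structureModule X')) := by
  haveI := TensorMod.QCohInv.isQCoh_structureModule X
  haveI := Groth.Agent.S12131.result i g g' i' h (Coh.structureModule X)
  exact ⟨asIso (((Scheme.Modules.pullbackPushforwardAdjunction g).homEquiv _ _).symm
      ((Scheme.Modules.pushforward i).map
          ((Scheme.Modules.pullbackPushforwardAdjunction g').unit.app (Coh.structureModule X)) ≫
        (Scheme.Modules.pushforwardComp g' i).hom.app _ ≫
        (Scheme.Modules.pushforwardCongr h.w).hom.app _ ≫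
        (Scheme.Modules.pushforwardComp i' g).inv.app _)) ≪≫
    (Scheme.Modules.pushforward i').mapIso (PicLoc.pullbackStructureIso g')⟩

/-- `e_* O = O` for an isomorphism. -/
theorem nonempty_push_structure {Z W : Scheme.{u}} (e : Z ⟶ W) [IsIso e] :
    Nonempty ((Scheme.Modules.pushforward e).obj (Coh.structureModule Z) ≅ Coh.structureModule W) := by
  have sq : IsPullback (inv e) (𝟙 W) e (𝟙 W) := IsPullback.of_vert_isIso ⟨by simp⟩
  obtain ⟨i⟩ := nonempty_pull_push_structure e (𝟙 W) (inv e) (𝟙 W) sq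
  exact ⟨((Scheme.Modules.pullbackId W).app _).symm ≪≫ i ≪≫ (Scheme.Modules.pushforwardId W).app _⟩

/-- `(i₁ × i₂)_* O = p^* i₁_* O ⊗ q^* i₂_* O`. -/
theorem nonempty_prod_structure {X Y₁ Y₂ S : Scheme.{u}} (f : X ⟶ S) (i₁ : Y₁ ⟶ X) (i₂ : Y₂ ⟶ X)
    [IsClosedImmersion i₁] [IsClosedImmersion i₂] (m : pullback (i₁ ≫ f) (i₂ ≫ f) ⟶ pullback f f)
    (hm₁ : m ≫ pullback.fst f f = pullback.fst _ _ ≫ i₁)
    (hm₂ : m ≫ pullback.snd f f = pullback.snd _ _ ≫ i₂) :
    Nonempty (((DCoh.tensorBi (X := pullback f f)).obj ((Scheme.Modules.pullback (pullback.fst f f)).obj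
        ((Scheme.Modules.pushforward i₁).obj (Coh.structureModule Y₁)))).obj
      ((Scheme.Modules.pullback (pullback.snd f f)).obj
        ((Scheme.Modules.pushforward i₂).obj (Coh.structureModule Y₂))) ≅
      (Scheme.Modules.pushforward m).obj (Coh.structureModule _)) := by
  let p := pullback.fst f f
  let q := pullback.snd f f
  let w₁ := pullback.fst i₁ p
  let a := pullback.snd i₁ p
  haveI : IsClosedImmersion a :=
    MorphismProperty.of_isPullback (IsPullback.of_hasPullback i₁ p) inferInstance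
  obtain ⟨e₁⟩ := nonempty_pull_push_structure i₁ p w₁ a (IsPullback.of_hasPullback i₁ p)
  let w₂ := pullback.fst i₂ (a ≫ q)
  let b := pullback.snd i₂ (a ≫ q)
  obtain ⟨e₂⟩ := nonempty_pull_push_structure i₂ (a ≫ q) w₂ b (IsPullback.of_hasPullback i₂ (a ≫ q))
  let N := (Scheme.Modules.pullback q).obj
    ((Scheme.Modules.pushforward i₂).obj (Coh.structureModule Y₂))
  -- `pullback i₂ (a ≫ q)` is the product of the two subschemes
  have hc₁ : a ≫ p = w₁ ≫ i₁ := pullback.condition.symm
  have hc₂ : b ≫ a ≫ q = w₂ ≫ i₂ := pullback.condition.symm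
  let φ : pullback (i₁ ≫ f) (i₂ ≫ f) ⟶ pullback i₂ (a ≫ q) :=
    pullback.lift (pullback.snd _ _)
      (pullback.lift (pullback.fst _ _) m hm₁.symm)
      (by rw [pullback.lift_snd_assoc]; exact hm₂.symm)
  let φ' : pullback i₂ (a ≫ q) ⟶ pullback (i₁ ≫ f) (i₂ ≫ f) :=
    pullback.lift (b ≫ w₁) w₂ (by
      rw [Category.assoc, ← reassoc_of% hc₁, ← reassoc_of% hc₂, pullback.condition])
  have hφb : φ ≫ b ≫ a = m :=
    (pullback.lift_snd_assoc _ _ _ _).trans (pullback.lift_snd _ _ _)
  have h1 : φ ≫ φ' = 𝟙 _ := by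
    refine pullback.hom_ext ?_ ?_
    · refine ((Category.assoc _ _ _).trans ((congrArg (φ ≫ ·) (pullback.lift_fst _ _ _)).trans ?_)).trans
        (Category.id_comp _).symm
      exact (pullback.lift_snd_assoc _ _ _ _).trans (pullback.lift_fst _ _ _)
    · refine ((Category.assoc _ _ _).trans ((congrArg (φ ≫ ·) (pullback.lift_snd _ _ _)).trans ?_)).trans
        (Category.id_comp _).symm
      exact pullback.lift_fst _ _ _
  have h2 : φ' ≫ m = b ≫ a := by
    apply pullback.hom_ext
    · rw [Category.assoc, hm₁, pullback.lift_fst_assoc, Category.assoc, Category.assoc, hc₁]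
    · rw [Category.assoc, hm₂, pullback.lift_snd_assoc, Category.assoc, hc₂]
  have h3 : φ' ≫ φ = 𝟙 _ := by
    refine pullback.hom_ext ?_ (pullback.hom_ext ?_ ?_)
    · exact ((Category.assoc _ _ _).trans ((congrArg (φ' ≫ ·) (pullback.lift_fst _ _ _)).trans
        (pullback.lift_snd _ _ _))).trans (Category.id_comp _).symm
    · refine Eq.trans ?_ (congrArg (· ≫ w₁) (Category.id_comp b).symm)
      exact (congrArg (· ≫ w₁) ((Category.assoc _ _ _).trans
        (congrArg (φ' ≫ ·) (pullback.lift_snd _ _ _)))).trans ((Category.assoc _ _ _).trans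
        ((congrArg (φ' ≫ ·) (pullback.lift_fst _ _ _)).trans (pullback.lift_fst _ _ _)))
    · refine Eq.trans ?_ (congrArg (· ≫ a) (Category.id_comp b).symm)
      exact (congrArg (· ≫ a) ((Category.assoc _ _ _).trans
        (congrArg (φ' ≫ ·) (pullback.lift_snd _ _ _)))).trans ((Category.assoc _ _ _).trans
        ((congrArg (φ' ≫ ·) (pullback.lift_snd _ _ _)).trans h2))
  haveI : IsIso φ := ⟨φ', h1, h3⟩
  obtain ⟨e₃⟩ := nonempty_push_structure φ
  exact ⟨((DCoh.tensorBi (X := pullback f f)).mapIso e₁).app N ≪≫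
    (ModSS29.ChangeRings.projClosed a (E := Coh.structureModule _)).app N ≪≫
    (Scheme.Modules.pushforward a).mapIso
      (UnitTensor.lu _ ≪≫ (Scheme.Modules.pullbackComp a q).app _ ≪≫ e₂ ≪≫
        (Scheme.Modules.pushforward b).mapIso e₃.symm) ≪≫
    (Scheme.Modules.pushforwardComp b a).app _ ≪≫
    (Scheme.Modules.pushforwardComp φ (b ≫ a)).app _ ≪≫
    (Scheme.Modules.pushforwardCongr hφb).app _⟩

/-- Let k be a field and X a scheme with a smooth morphism f : X → Spec k, and let i₁ : Y₁ → X and i₂ :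
Y₂ → X be closed immersions which are regular (ideals locally generated by regular sequences). Write
X ×_k X for the fibre product of f with itself, Δ : X → X ×_k X for the diagonal, Y₁ ×_k Y₂ for the
fibre product of the structure morphisms i₁ ≫ f and i₂ ≫ f, and i₁ × i₂ : Y₁ ×_k Y₂ → X ×_k X for
the induced closed immersion. Assume that the total left derived functors − ⊗^L i₂_*O_{Y₂} on D(O_X)
and LΔ^* : D(O_{X ×_k X}) → D(O_X) exist. Then the objects i₁_*O_{Y₁} ⊗^L i₂_*O_{Y₂} and LΔ^*((i₁ ×
i₂)_* O_{Y₁ ×_k Y₂}) of D(O_X) are isomorphic (existence of an isomorphism; the direct image along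
the closed immersion i₁ × i₂ is the underived one, which is exact). (The published statement allows
n subschemes and the n-fold product; this row is the case n = 2.) -/
theorem result (k : Type u) [Field k]
    {X Y₁ Y₂ : Scheme.{u}} (f : X ⟶ Spec (CommRingCat.of k)) [Smooth f]
    (i₁ : Y₁ ⟶ X) (i₂ : Y₂ ⟶ X) [IsClosedImmersion i₁] [IsClosedImmersion i₂]
    (h₁ : RegImm.IsRegularImmersion RegImm.Kind.regular i₁) (h₂ : RegImm.IsRegularImmersion RegImm.Kind.regular i₂)
    [DCoh.HasLTensorMod ((Scheme.Modules.pushforward i₂).obj (Coh.structureModule Y₂))]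
    [DCoh.HasLpull (pullback.diagonal f)] :
    Nonempty ((DCoh.LTensorMod ((Scheme.Modules.pushforward i₂).obj (Coh.structureModule Y₂))).obj
        (DCoh.inD X ((Scheme.Modules.pushforward i₁).obj (Coh.structureModule Y₁))) ≅
      (DCoh.Lpull (pullback.diagonal f)).obj (DCoh.inD (pullback f f)
        ((Scheme.Modules.pushforward (pullback.map (i₁ ≫ f) (i₂ ≫ f) f f i₁ i₂ (𝟙 (Spec (CommRingCat.of k))) (Category.comp_id _) (Category.comp_id _))).obj
          (Coh.structureModule (pullback (i₁ ≫ f) (i₂ ≫ f)))))) := by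
  let p := pullback.fst f f
  let q := pullback.snd f f
  let Δ := pullback.diagonal f
  haveI : Flat p := MorphismProperty.pullback_fst f f inferInstance
  haveI : Flat q := MorphismProperty.pullback_snd f f inferInstance
  letI : DCoh.HasLpull p := LeftExists.hasLpull p
  letI : DCoh.HasLpull q := LeftExists.hasLpull q
  let F₁ := (Scheme.Modules.pushforward i₁).obj (Coh.structureModule Y₁)
  let F₂ := (Scheme.Modules.pushforward i₂).obj (Coh.structureModule Y₂)
  let S₁ := (single X.Modules (ComplexShape.up ℤ) 0).obj F₁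
  let S₂ := (single X.Modules (ComplexShape.up ℤ) 0).obj F₂
  letI : DCoh.HasLTensorCx S₂ := LeftExists.hasLTensorCx S₂
  let R₁ := (KFlat.res X).obj S₁
  let R₂ := (KFlat.res X).obj S₂
  let r₁ : R₁ ⟶ S₁ := (KFlat.aug X).app S₁
  let r₂ : R₂ ⟶ S₂ := (KFlat.aug X).app S₂
  haveI : QuasiIso r₁ := KFlat.quasiIso_aug S₁
  haveI : QuasiIso r₂ := KFlat.quasiIso_aug S₂
  have k₁ : DCoh.IsKFlat R₁ := KFlat.isKFlat_res S₁
  have k₂ : DCoh.IsKFlat R₂ := KFlat.isKFlat_res S₂
  -- left hand side
  obtain ⟨l₁⟩ := SchColim29.RpushTor.nonempty_ltensorMod_iso F₂ k₁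
  obtain ⟨l₂⟩ := QCohLocal.nonempty_LTensorCx_iso S₂ k₁
  haveI := TensorQis.quasiIso_left k₁ r₂
  -- right hand side
  let A := (pullC p).obj S₁
  have hqi : QuasiIso ((pullC p).map r₁) := by
    haveI := BCFlat.isIso_counitCx p R₁
    haveI := BCFlat.isIso_counitCx p S₁
    have h := (counitCx p).naturality r₁
    dsimp only [Functor.comp_map] at h
    haveI : IsIso (DerivedCategory.Q.map r₁) := inferInstance
    haveI : IsIso ((counitCx p).app R₁ ≫ DerivedCategory.Q.map ((pullC p).map r₁)) := by
      erw [← h]; exact IsIso.comp_isIso' inferInstance ‹IsIso ((counitCx p).app S₁)›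
    exact (DerivedCategory.isIso_Q_map_iff_quasiIso _ _).1
      (IsIso.of_isIso_comp_left ((counitCx p).app R₁) _)
  haveI := hqi
  haveI := LeftExists.quasiIso_tensor_right (KFlatPullback.isKFlat_pullback q k₂) ((pullC p).map r₁)
  have hAK := Kunneth.isKFlat_stalkOver q 0 (A := A)
    (fun i hi => Functor.map_isZero (Scheme.Modules.pullback p)
      (isZero_single_obj_X (ComplexShape.up ℤ) 0 F₁ i (by omega)))
    (fun i x => Flat55.FlatOverAt.isFlatOverAt_baseChange (hc := IsPullback.of_hasPullback f f) (x' := x)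
      (h := isFlatOver_field f (S₁.X i) (p x)))
  haveI := Kunneth.quasiIso_tensor_pullC q hAK r₂
  let T := (DCoh.tensorCx.obj ((pullC p).obj R₁)).obj ((pullC q).obj R₂)
  have hT : DCoh.IsKFlat T := PullTensor.isKFlat_tensor (KFlatPullback.isKFlat_pullback p k₁)
    (KFlatPullback.isKFlat_pullback q k₂)
  haveI := PullTranspose.isIso_counitCx Δ hT
  obtain ⟨ep⟩ := nonempty_prod_structure f i₁ i₂
    (pullback.map (i₁ ≫ f) (i₂ ≫ f) f f i₁ i₂ (𝟙 (Spec (CommRingCat.of k))) (Category.comp_id _)
      (Category.comp_id _))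
    (pullback.lift_fst _ _ _) (pullback.lift_snd _ _ _)
  let idC : (pullC (𝟙 X)) ≅ 𝟭 _ := NatIso.ofComponents
    (fun K => HomologicalComplex.Hom.isoOfComponents
      (fun i => (Scheme.Modules.pullbackId X).app (K.X i))
      (fun i j _ => ((Scheme.Modules.pullbackId X).hom.naturality (K.d i j)).symm))
    (fun {K L} g => HomologicalComplex.hom_ext _ _ fun i => (Scheme.Modules.pullbackId X).hom.naturality (g.f i))
  let cancelC : ∀ (r : pullback f f ⟶ X) (_ : Δ ≫ r = 𝟙 X) (K : CochainComplex X.Modules ℤ),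
      (pullC Δ).obj ((pullC r).obj K) ≅ K := fun r h K =>
    BCMain.compC Δ r K ≪≫ eqToIso (by rw [h]) ≪≫ idC.app K
  let eR : DerivedCategory.Q.obj T ≅ DCoh.inD (pullback f f)
      (((DCoh.tensorBi (X := pullback f f)).obj ((Scheme.Modules.pullback p).obj F₁)).obj
        ((Scheme.Modules.pullback q).obj F₂)) :=
    asIso (DerivedCategory.Q.map ((DCoh.tensorCx.map ((pullC p).map r₁)).app _)) ≪≫
      asIso (DerivedCategory.Q.map ((DCoh.tensorCx.obj A).map ((pullC q).map r₂))) ≪≫
      DerivedCategory.Q.mapIso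
        ((DCoh.tensorCx.mapIso ((singleMapHomologicalComplex (Scheme.Modules.pullback p) (ComplexShape.up ℤ) 0).app F₁)).app _ ≪≫
          (DCoh.tensorCx.obj _).mapIso ((singleMapHomologicalComplex (Scheme.Modules.pullback q) (ComplexShape.up ℤ) 0).app F₂) ≪≫
          ((SingleTensor.singleZeroIso (DCoh.tensorBi (X := pullback f f)) _).app _).symm ≪≫
          (singleMapHomologicalComplex _ (ComplexShape.up ℤ) 0).app _) ≪≫
      ((DerivedCategory.singleFunctorIsoCompQ _ 0).app _).symm
  exact ⟨(DCoh.LTensorMod F₂).mapIso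
      ((DerivedCategory.singleFunctorIsoCompQ _ 0).app F₁ ≪≫
        (asIso (DerivedCategory.Q.map r₁)).symm) ≪≫ l₁ ≪≫ l₂ ≪≫
    (asIso (DerivedCategory.Q.map ((DCoh.tensorCx.obj R₁).map r₂))).symm ≪≫
    DerivedCategory.Q.mapIso
      ((DCoh.tensorCx.mapIso (cancelC p (pullback.diagonal_fst f) R₁).symm).app R₂ ≪≫
        (DCoh.tensorCx.obj _).mapIso (cancelC q (pullback.diagonal_snd f) R₂).symm ≪≫
        (UnitTensor.pullIso Δ _ _).symm) ≪≫
    (asIso ((counitCx Δ).app T)).symm ≪≫
    (DCoh.Lpull Δ).mapIso (eR ≪≫ (DerivedCategory.singleFunctor _ 0).mapIso ep)⟩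

end Groth.Agent.S15823
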