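import Groth.Statements.S9142
import Groth.Agent.H26.CILoc
import Groth.Agent.Lib.Depth.CM
import Groth.Agent.Lib.Excellent.Transport


set_option autoImplicit false
universe u
open Synt

namespace Groth.Agent.S9142

theorem cm_quot {R : Type u} [CommRing R] [IsNoetherianRing R] [IsLocalRing R] (rs : List R) :
    ∀ {M : Type u} [AddCommGroup M] [Module R M] [Module.Finite R M],
      LocCoh.IsCohenMacaulayModule R M → RingTheory.Sequence.IsWeaklyRegular M rs →
      (∀ r ∈ rs, r ∈ IsLocalRing.maximalIdeal R) →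
      LocCoh.IsCohenMacaulayModule R (M ⧸ Ideal.ofList rs • (⊤ : Submodule R M)) := by
  induction rs with
  | nil =>
    intro M _ _ _ h _ _
    exact (Groth.Agent.Lib.Depth.CM.isCohenMacaulayModule_congr
      (Submodule.quotEquivOfEqBot _ (by rw [Ideal.ofList_nil, Submodule.bot_smul]))).mpr h
  | cons r rs ih =>
    intro M _ _ _ h hw hm
    rw [RingTheory.Sequence.isWeaklyRegular_cons_iff] at hw
    exact (Groth.Agent.Lib.Depth.CM.isCohenMacaulayModule_congr
      (Submodule.quotOfListConsSMulTopEquivQuotSMulTopInner M r rs)).mpr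
      (ih ((Groth.Agent.Lib.Depth.CM.isCohenMacaulayModule_quotSMulTop_iff
        (hm r (List.mem_cons_self ..)) hw.1).mpr h) hw.2 fun x hx => hm x (List.mem_cons_of_mem _ hx))

/-- A local complete intersection over a field is a Cohen–Macaulay ring. -/
theorem result (k S : Type u) [Field k] [CommRing S] [Algebra k S]
    (h : Synt.IsLCIOver k S) : LocCoh.IsCohenMacaulayRing S := by
  haveI : Algebra.FiniteType k S := h.1
  haveI : IsNoetherianRing S := Algebra.FiniteType.isNoetherianRing k S
  refine { isCohenMacaulayLocalRing_localization := fun p _ => ?_ }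
  obtain ⟨R, _, _, _, _, rs, hm, hreg, ⟨e⟩⟩ := (Groth.Agent.H26.CILoc.isLCIOver_iff k).1 h ⟨p, inferInstance⟩
  haveI : LocCoh.IsCohenMacaulayLocalRing R :=
    Groth.Agent.Lib.JacCrit.FlatRegular.isCohenMacaulayLocalRing R
  haveI : IsLocalRing (R ⧸ Ideal.ofList rs) := e.toRingEquiv.isLocalRing
  haveI : LocCoh.IsCohenMacaulayLocalRing (R ⧸ Ideal.ofList rs) :=
    (Groth.Agent.Lib.Depth.CM.isCohenMacaulayLocalRing_quotient_iff_module (Ideal.ofList rs)).mpr
      ((Groth.Agent.Lib.Depth.CM.isCohenMacaulayModule_congr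
        (Submodule.quotEquivOfEq (Ideal.ofList rs • (⊤ : Submodule R R)) (Ideal.ofList rs)
          (by rw [smul_eq_mul, Ideal.mul_top]))).mp
        (cm_quot rs Groth.Agent.Lib.Depth.CM.isCohenMacaulayModule_self hreg.toIsWeaklyRegular hm))
  exact Groth.Agent.Lib.Excellent.Transport.isCohenMacaulayLocalRing_of_ringEquiv e.toRingEquiv.symm

end Groth.Agent.S9142
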