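import Groth.Statements.S15824
import Groth.Agent.H26.RegImmKind
import Groth.Agent.S9142


set_option autoImplicit false
universe u
open CategoryTheory AlgebraicGeometry
open RegImm

namespace Groth.Agent.S15824

/-- Let X be a locally Noetherian scheme all of whose local rings are Cohen–Macaulay, and i : Z → X a
closed immersion which is regular (around every point, on some affine open of X the ideal of Z is
generated by a regular sequence). Then Z has no embedded points (each associated point of Z is
generic in an irreducible component): for every point z of Z, if the maximal ideal of O_{Z,z} is an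
associated prime of O_{Z,z} (as a module over itself), then O_{Z,z} has Krull dimension 0. (The
published statement takes X Noetherian and Z a local complete intersection subscheme; the assertion
is local on X and uses only that the ideal of Z is locally generated by a regular sequence.) -/
theorem result {X Z : Scheme.{u}}
    [IsLocallyNoetherian X] (hCM : ∀ x : X, LocCoh.IsCohenMacaulayLocalRing (X.presheaf.stalk x))
    (i : Z ⟶ X) [IsClosedImmersion i] (hi : RegImm.IsRegularImmersion RegImm.Kind.regular i) (z : Z)
    (hz : IsAssociatedPrime (IsLocalRing.maximalIdeal (Z.presheaf.stalk z)) (Z.presheaf.stalk z)) :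
    ringKrullDim (Z.presheaf.stalk z) = 0 := by
  haveI := hCM (i z)
  obtain ⟨rs, hrs, hI⟩ := Groth.Agent.H26.RegImmKind.isRegularIdeal_ker (hi.2 z)
  have hsurj := i.stalkMap_surjective z
  let e : (X.presheaf.stalk (i z) ⧸ Ideal.ofList rs) ≃+* Z.presheaf.stalk z :=
    (Ideal.quotEquivOfEq hI).trans (RingHom.quotientKerEquivOfSurjective hsurj)
  haveI : IsLocalRing (X.presheaf.stalk (i z) ⧸ Ideal.ofList rs) := e.symm.isLocalRing
  have hm : ∀ r ∈ rs, r ∈ IsLocalRing.maximalIdeal (X.presheaf.stalk (i z)) := fun r hr =>
    IsLocalRing.le_maximalIdeal (RingHom.ker_ne_top _) (hI.le (Ideal.subset_span hr))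
  haveI : LocCoh.IsCohenMacaulayLocalRing (X.presheaf.stalk (i z) ⧸ Ideal.ofList rs) :=
    (Groth.Agent.Lib.Depth.CM.isCohenMacaulayLocalRing_quotient_iff_module (Ideal.ofList rs)).mpr
      ((Groth.Agent.Lib.Depth.CM.isCohenMacaulayModule_congr
        (Submodule.quotEquivOfEq (Ideal.ofList rs • (⊤ : Submodule _ _)) (Ideal.ofList rs)
          (by rw [smul_eq_mul, Ideal.mul_top]))).mp
        (Groth.Agent.S9142.cm_quot rs Groth.Agent.Lib.Depth.CM.isCohenMacaulayModule_self
          hrs.toIsWeaklyRegular hm))
  haveI : LocCoh.IsCohenMacaulayLocalRing (Z.presheaf.stalk z) :=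
    Groth.Agent.Lib.Excellent.Transport.isCohenMacaulayLocalRing_of_ringEquiv e
  rw [Groth.Agent.Lib.Depth.CM.ringKrullDim_eq_depth,
    (Groth.Agent.Lib.Depth.Assoc.depth_eq_zero_iff (Z.presheaf.stalk z)).mpr hz]
  rfl

end Groth.Agent.S15824
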