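import Groth.Statements.S15826
import Groth.Agent.Lib.BlowPB.Conormal
import Groth.Agent.Lib.QCoh.Closure

set_option autoImplicit false
universe u
open CategoryTheory AlgebraicGeometry Opposite
open RegImm

open Groth.Agent

namespace Groth.Agent.S15826

/-- Let X be a scheme, E a finite locally free O_X-module of rank n and s : E → O_X a regular section,
meaning that around every point of X there is an affine open U and a basis e_1, …, e_n of E(U) over
Γ(X, U) such that s(e_1), …, s(e_n) is a weakly regular sequence in Γ(X, U) (each a non-zero-divisor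
modulo the previous ones). Let i : Y → X be a closed immersion whose ideal sheaf I_Y is the image of
s: t : E → I_Y is an epimorphism of O_X-modules with t followed by the inclusion I_Y → O_X equal to
s. Then the pulled-back map i^*t : i^*E → i^*I_Y is an isomorphism of O_Y-modules; its target is the
conormal sheaf C_{Y/X} = I_Y/I_Y², so E|_Y ≅ C_{Y/X} via s and, dually, N_{Y/X} ≅ E^∨|_Y. (The
published statement calls s regular when its image is a regular ideal sheaf locally generated by
rank-many sections; the local bases mapping to regular sequences used here are how the published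
proofs read that condition.) -/
theorem result {X Y : Scheme.{u}} (n : ℕ) (E : X.Modules)
    (hE : FlatMod.IsFinLocFreeOfRank n E) (s : E ⟶ Coh.structureModule X)
    (hs : ∀ x : X, ∃ U : X.affineOpens, x ∈ U.1 ∧
      ∃ b : Module.Basis (Fin n) Γ(X, U.1) (E.val.obj (op U.1)),
        @RingTheory.Sequence.IsWeaklyRegular Γ(X, U.1) Γ(X, U.1) _ _ _ (List.ofFn fun k => (s.val.app (op U.1)).hom (b k)))
    (i : Y ⟶ X) [IsClosedImmersion i] (t : E ⟶ ClSub.idealMod i.ker) [Epi t]
    (hts : t ≫ ClSub.idealModι i.ker = s) :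
    IsIso ((Scheme.Modules.pullback i).map t) := by
  classical
  have hEq : E.IsQuasicoherent :=
    Lib.TensorMod.QCohInv.isQCoh_of_isFinLocFree (Lib.TensorMod.LocFree.of_rank hE)
  haveI := hEq
  haveI := Lib.Conormal92.Affine.isQCoh_idealMod i
  let α := (Scheme.Modules.pullback i).map t
  have key : ∀ z : Y, ∃ O : Y.Opens, z ∈ O ∧ ∀ W ≤ O, Function.Bijective (α.app W) := fun z => by
    obtain ⟨⟨U, hU⟩, hzU, b, hb⟩ := hs (i z)
    refine ⟨i ⁻¹ᵁ U, hzU, fun W hW => ?_⟩
    have hbB := Lib.BlowPB.Frame.isBasis hU b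
    have hval : ∀ k, OmegaSh.idealSect i.ker U (t.app U (b k)) = (s.val.app (op U)).hom (b k) := fun k =>
      congr(Scheme.Modules.Hom.app $hts U (b k))
    have hspan : Ideal.span (Set.range fun k => OmegaSh.idealSect i.ker U (t.app U (b k))) =
        RingHom.ker (i.app U).hom := by
      refine le_antisymm (Ideal.span_le.2 ?_) fun x hx => ?_
      · rintro _ ⟨k, rfl⟩
        exact Lib.Conormal92.Affine.app_idealSect _
      · obtain ⟨κ, rfl⟩ := (Lib.Conormal92.Affine.exists_idealSect_iff hU x).2 hx
        obtain ⟨e, rfl⟩ := Lib.QCoh.Closure.sections_surjective_of_epi t hU κ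
        have he : e = ∑ k, (b.repr e k : Γ(X, U)) • (show Γ(E, U) from b k) := (b.sum_repr e).symm
        rw [he, map_sum, map_sum]
        refine Ideal.sum_mem _ fun k _ => ?_
        rw [Scheme.Modules.Hom.app_smul, Lib.Kaehler.Conormal.idealSect_smul]
        exact Ideal.mul_mem_left _ _ (Ideal.subset_span ⟨k, rfl⟩)
    have hac : Lib.Wiebe.Link.Acyc fun k => OmegaSh.idealSect i.ker U (t.app U (b k)) := by
      rw [show (fun k => OmegaSh.idealSect i.ker U (t.app U (b k))) = fun k => (s.val.app (op U)).hom (b k) from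
        funext hval]
      exact Lib.Synt92.CubeBase.acyc_of_isWeaklyRegular _ hb
    refine Lib.BlowPB.Conormal.bijective_of_frames α
      (Lib.EulerSeq.Frame.isBasis_pbRes (π := i) hEq hU hbB)
      (Lib.BlowPB.Conormal.isBasis_conormalSect (Lib.Conormal92.Affine.isChart_of_closed i hU)
        (fun k => t.app U (b k)) hac hspan) (fun k => ?_) hW
    refine (Lib.DescAlg.PbSec.pbRes_natural i t le_rfl (b k)).trans ?_
    show ((Scheme.Modules.pullback i).obj _).presheaf.map (homOfLE (le_refl (i ⁻¹ᵁ U))).op
      (OmegaSh.conormalSect i U (t.app U (b k))) = _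
    rw [show (homOfLE (le_refl (i ⁻¹ᵁ U))).op = 𝟙 (op (i ⁻¹ᵁ U)) from rfl]
    erw [CategoryTheory.Functor.map_id]
    rfl
  have k2 : ∀ x : Y, ∀ U : Y.Opens, x ∈ U → ∃ V ≤ U, x ∈ V ∧ Function.Bijective (α.app V) := fun x U hx => by
    obtain ⟨O, hO, h⟩ := key x
    exact ⟨U ⊓ O, inf_le_left, ⟨hx, hO⟩, h _ inf_le_right⟩
  haveI : Mono α := by
    rw [Lib.Modules.Stalk.mono_iff_stalk_injective]
    exact fun x => Lib.ClSub.Basis.stalk_injective_of_basis α x fun U hx => by
      obtain ⟨V, hV, hxV, h⟩ := k2 x U hx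
      exact ⟨V, hV, hxV, h.1⟩
  haveI : Epi α := by
    rw [Lib.Modules.Stalk.epi_iff_stalk_surjective]
    exact fun x => Lib.ClSub.Basis.stalk_surjective_of_basis α x fun U hx => by
      obtain ⟨V, hV, hxV, h⟩ := k2 x U hx
      exact ⟨V, hV, hxV, h.2⟩
  exact isIso_of_mono_of_epi α

end Groth.Agent.S15826
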