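import Groth.Statements.S15832
import Mathlib.Tactic.Group

set_option autoImplicit false
universe u
open TopGrp

namespace Groth.Agent.S15832

/-- For a group T with a topology, let B be the family of two-sided translates x Γ y, where Γ runs over
the subgroups of T open in the given topology and x, y over T; the topology generated by B makes T a
topological group in which every neighbourhood of the identity contains a subgroup open for that
topology. (The published statement is for the free topological product of two Noohi groups whose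
open subgroups form a basis of neighbourhoods of the identity; the argument uses only the group
structure and the chosen family of subgroups, so the row is stated for an arbitrary group with a
topology. The published conventions include Hausdorffness in the word topological group; this row
does not assert it, and the published argument does not prove it.) -/
theorem result (T : Type u) [Group T]
    [TopologicalSpace T] :
    @NonarchimedeanGroup T _ (TopologicalSpace.generateFrom
      {S : Set T | ∃ (Γ : OpenSubgroup T) (x y : T), S = (fun g : T => x * g * y) '' (Γ : Set T)}) := by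
  set B : Set (Set T) := {S : Set T | ∃ (Γ : OpenSubgroup T) (x y : T), S = (fun g : T => x * g * y) '' (Γ : Set T)} with hB
  have hop : ∀ (Γ : OpenSubgroup T) (x y : T),
      @IsOpen T (TopologicalSpace.generateFrom B) ((fun g : T => x * g * y) '' (Γ : Set T)) :=
    fun Γ x y => TopologicalSpace.isOpen_generateFrom_of_mem ⟨Γ, x, y, rfl⟩
  let τ := TopologicalSpace.generateFrom B
  haveI hinv : @ContinuousInv T τ _ := by
    refine @ContinuousInv.mk T τ _ (continuous_generateFrom_iff.mpr ?_)
    rintro _ ⟨Γ, x, y, rfl⟩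
    convert hop Γ y⁻¹ x⁻¹ using 1
    ext g
    constructor
    · rintro ⟨c, hc, h⟩
      exact ⟨c⁻¹, inv_mem hc, by simp only at h ⊢; rw [← inv_inv g, ← h]; group⟩
    · rintro ⟨c, hc, rfl⟩
      exact ⟨c⁻¹, inv_mem hc, by group⟩
  haveI hmul : @ContinuousMul T τ _ := by
    refine @ContinuousMul.mk T τ _ (continuous_generateFrom_iff.mpr ?_)
    rintro _ ⟨Γ, x, y, rfl⟩
    rw [@isOpen_prod_iff T T τ τ]
    rintro a b ⟨c, hc, hab⟩
    have hab' : a * b = x * c * y := hab.symm
    refine ⟨(fun g : T => a * b * y⁻¹ * g * (y * b⁻¹)) '' (Γ : Set T), (fun g : T => b * y⁻¹ * g * y) '' (Γ : Set T),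
      hop Γ _ _, hop Γ _ _, ⟨1, one_mem _, by group⟩, ⟨1, one_mem _, by group⟩, ?_⟩
    rintro ⟨u, v⟩ ⟨⟨d, hd, rfl⟩, ⟨e, he, rfl⟩⟩
    refine ⟨c * d * e, mul_mem (mul_mem hc hd) he, ?_⟩
    calc x * (c * d * e) * y = (x * c * y) * y⁻¹ * d * e * y := by group
      _ = (a * b) * y⁻¹ * d * e * y := by rw [hab']
      _ = _ := by group
  haveI : @IsTopologicalGroup T τ _ := @IsTopologicalGroup.mk T τ _ hmul hinv
  refine @NonarchimedeanGroup.mk T _ τ _ fun U hU => ?_
  obtain ⟨V, hVU, hV, h1⟩ := (@mem_nhds_iff T τ 1 U).mp hU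
  suffices ∀ V, TopologicalSpace.GenerateOpen B V → (1 : T) ∈ V → ∃ H : @OpenSubgroup T _ τ, ∀ g ∈ H, g ∈ V by
    obtain ⟨H, hH⟩ := this V hV h1
    exact ⟨H, fun g hg => hVU (hH g hg)⟩
  intro V hV
  induction hV with
  | basic s hs =>
    obtain ⟨Γ, x, y, rfl⟩ := hs
    rintro ⟨c, hc, hxy⟩
    refine ⟨@OpenSubgroup.mk T _ τ ((Γ : Subgroup T).map (MulAut.conj y⁻¹).toMonoidHom) ?_, ?_⟩
    · convert hop Γ y⁻¹ y using 1
      ext g
      simp
    · rintro _ ⟨g, hg, rfl⟩
      refine ⟨c * g, mul_mem hc hg, ?_⟩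
      simp only [MulEquiv.coe_toMonoidHom, MulAut.conj_apply, inv_inv] at hxy ⊢
      calc x * (c * g) * y = (x * c * y) * (y⁻¹ * g * y) := by group
        _ = _ := by rw [hxy, one_mul]
  | univ => exact fun _ => ⟨@OpenSubgroup.mk T _ τ ⊤ (@isOpen_univ T τ), fun _ _ => trivial⟩
  | inter s t _ _ ihs iht =>
    rintro ⟨h1, h2⟩
    obtain ⟨H, hH⟩ := ihs h1
    obtain ⟨K, hK⟩ := iht h2
    exact ⟨H ⊓ K, fun g hg => ⟨hH g hg.1, hK g hg.2⟩⟩
  | sUnion S _ ih =>
    rintro ⟨s, hs, h1⟩
    obtain ⟨H, hH⟩ := ih s hs h1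
    exact ⟨H, fun g hg => ⟨s, hs, hH g hg⟩⟩

end Groth.Agent.S15832
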