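import Groth.Statements.S15833
import Mathlib.AlgebraicGeometry.Morphisms.ClosedImmersion

set_option autoImplicit false
universe u
open EtBase

namespace Groth.Agent.S15833

open CategoryTheory CategoryTheory.Limits AlgebraicGeometry in
/-- Let i : X₀ ⟶ X be a surjective closed immersion of schemes and f : Y ⟶ X a morphism. Then f
satisfies the valuative criterion (existence and uniqueness of a lift in every valuative square,
over arbitrary valuation rings) if and only if its base change Y ×_X X₀ ⟶ X₀ does. (The published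
statement takes X locally Noetherian and connected, X₀ the reduced closed subscheme with the same
underlying space and f étale, and combines this step with the equivalence between étale schemes over
X and over X₀ to identify the geometric coverings, i.e. the étale morphisms satisfying the valuative
criterion, of X and of X₀; the argument for this step uses only that X₀ ⟶ X is a surjective closed
immersion and that valuation rings are reduced.) -/
theorem result {X X₀ Y : Scheme.{u}} (i : X₀ ⟶ X)
    [IsClosedImmersion i] [Surjective i] (f : Y ⟶ X) :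
    ValuativeCriterion f ↔ ValuativeCriterion (pullback.snd f i) := by
  have key : ∀ {R : Type u} [CommRing R] [IsDomain R] (b : Spec (CommRingCat.of R) ⟶ X),
      ∃ b₀ : Spec (CommRingCat.of R) ⟶ X₀, b₀ ≫ i = b := by
    intro R _ _ b
    haveI := isIso_of_isClosedImmersion_of_surjective (pullback.snd i b)
    exact ⟨inv (pullback.snd i b) ≫ pullback.fst i b, by rw [Category.assoc, pullback.condition, IsIso.inv_hom_id_assoc]⟩
  rw [ValuativeCriterion.iff, ValuativeCriterion.iff]
  constructor
  · rintro ⟨he, hu⟩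
    constructor
    · intro S
      obtain ⟨⟨⟨l, h₁, h₂⟩⟩⟩ := he ⟨S.R, S.K, S.i₁ ≫ pullback.fst f i, S.i₂ ≫ i,
        ⟨by rw [Category.assoc, pullback.condition, reassoc_of% S.commSq.w]⟩⟩
      refine ⟨⟨⟨pullback.lift l S.i₂ h₂, ?_, pullback.lift_snd _ _ _⟩⟩⟩
      apply pullback.hom_ext
      · rw [Category.assoc, pullback.lift_fst]
        exact h₁
      · rw [Category.assoc, pullback.lift_snd]
        exact S.commSq.w.symm
    · intro S
      refine ⟨fun l l' => CommSq.LiftStruct.ext ?_⟩
      apply pullback.hom_ext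
      · have := (hu ⟨S.R, S.K, S.i₁ ≫ pullback.fst f i, S.i₂ ≫ i,
          ⟨by rw [Category.assoc, pullback.condition, reassoc_of% S.commSq.w]⟩⟩).elim
          ⟨l.l ≫ pullback.fst f i, (reassoc_of% l.fac_left) _, (Category.assoc _ _ _).trans ((l.l ≫= pullback.condition).trans ((reassoc_of% l.fac_right) i))⟩
          ⟨l'.l ≫ pullback.fst f i, (reassoc_of% l'.fac_left) _, (Category.assoc _ _ _).trans ((l'.l ≫= pullback.condition).trans ((reassoc_of% l'.fac_right) i))⟩
        exact congrArg CommSq.LiftStruct.l this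
      · rw [l.fac_right, l'.fac_right]
  · rintro ⟨he, hu⟩
    have lifts : ∀ (S : ValuativeCommSq f), ∃ b₀ : Spec (CommRingCat.of S.R) ⟶ X₀, b₀ ≫ i = S.i₂ ∧
        S.i₁ ≫ f = (Spec.map (CommRingCat.ofHom (algebraMap S.R S.K)) ≫ b₀) ≫ i := fun S => by
      obtain ⟨b₀, hb⟩ := key S.i₂
      exact ⟨b₀, hb, by rw [Category.assoc, hb, S.commSq.w]⟩
    constructor
    · intro S
      obtain ⟨b₀, hb, hw⟩ := lifts S
      obtain ⟨⟨⟨l, h₁, h₂⟩⟩⟩ := he ⟨S.R, S.K,
        pullback.lift S.i₁ (Spec.map (CommRingCat.ofHom (algebraMap S.R S.K)) ≫ b₀) hw, b₀,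
        ⟨pullback.lift_snd _ _ _⟩⟩
      refine ⟨⟨⟨l ≫ pullback.fst f i, ?_, ?_⟩⟩⟩
      · rw [reassoc_of% h₁, pullback.lift_fst]
      · rw [Category.assoc, pullback.condition, reassoc_of% h₂, hb]
    · intro S
      obtain ⟨b₀, hb, hw⟩ := lifts S
      refine ⟨fun l l' => CommSq.LiftStruct.ext ?_⟩
      have := (hu ⟨S.R, S.K,
        pullback.lift S.i₁ (Spec.map (CommRingCat.ofHom (algebraMap S.R S.K)) ≫ b₀) hw, b₀,
        ⟨pullback.lift_snd _ _ _⟩⟩).elim
        ⟨pullback.lift l.l b₀ (by rw [l.fac_right, hb]), pullback.hom_ext ((Category.assoc _ _ _).trans ((congrArg _ (pullback.lift_fst _ _ _)).trans (l.fac_left.trans (pullback.lift_fst _ _ _).symm))) ((Category.assoc _ _ _).trans ((congrArg _ (pullback.lift_snd _ _ _)).trans (pullback.lift_snd _ _ _).symm)), pullback.lift_snd _ _ _⟩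
        ⟨pullback.lift l'.l b₀ (by rw [l'.fac_right, hb]), pullback.hom_ext ((Category.assoc _ _ _).trans ((congrArg _ (pullback.lift_fst _ _ _)).trans (l'.fac_left.trans (pullback.lift_fst _ _ _).symm))) ((Category.assoc _ _ _).trans ((congrArg _ (pullback.lift_snd _ _ _)).trans (pullback.lift_snd _ _ _).symm)), pullback.lift_snd _ _ _⟩
      exact (pullback.lift_fst _ _ _).symm.trans ((congrArg (fun z => CommSq.LiftStruct.l z ≫ pullback.fst f i) this).trans (pullback.lift_fst _ _ _))

end Groth.Agent.S15833
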