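import Groth.Statements.S15835

import Mathlib.LinearAlgebra.Matrix.Charpoly.Coeff
import Mathlib.Algebra.Polynomial.Expand
import Mathlib.NumberTheory.Padics.PadicVal.Basic
import Mathlib.FieldTheory.Finite.Basic

set_option autoImplicit false
universe u
open SprIso

namespace Groth.Agent.S15835

theorem X_sub_C_pow_eq_X_pow_iff (p : ℕ) [Fact p.Prime] (R : Type u) [CommRing R] [CharP R p] (n : ℕ) (hn : 0 < n)
    (a : R) : (Polynomial.X - Polynomial.C a) ^ n = Polynomial.X ^ n ↔ a ^ (p ^ padicValNat p n) = 0 := by
  obtain ⟨r, hr⟩ : p ^ padicValNat p n ∣ n := pow_padicValNat_dvd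
  have hrp : ¬ p ∣ r := fun ⟨c, hc⟩ => pow_succ_padicValNat_not_dvd hn.ne' ⟨c, by
    conv_lhs => rw [hr, hc]
    ring⟩
  have hr0 : r ≠ 0 := fun h => hn.ne' (by rw [hr, h, mul_zero])
  set q := p ^ padicValNat p n with hq
  have hq0 : 0 < q := pow_pos (Fact.out : p.Prime).pos _
  have key : (Polynomial.X - Polynomial.C a) ^ n = Polynomial.expand R q ((Polynomial.X - Polynomial.C (a ^ q)) ^ r) := by
    rw [map_pow, map_sub, Polynomial.expand_X, Polynomial.expand_C, hr, pow_mul, hq, sub_pow_char_pow,
      ← Polynomial.C_pow]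
  rw [key, show (Polynomial.X : Polynomial R) ^ n = Polynomial.expand R q (Polynomial.X ^ r) by
    rw [map_pow, Polynomial.expand_X, ← pow_mul, ← hr], (Polynomial.expand_injective hq0).eq_iff]
  refine ⟨fun h => ?_, fun h => by rw [h, map_zero, sub_zero]⟩
  obtain ⟨s, rfl⟩ := Nat.exists_eq_succ_of_ne_zero hr0
  have h1 := congrArg (fun P : Polynomial R => P.coeff s) h
  simp only [sub_eq_add_neg, ← map_neg, Polynomial.coeff_X_add_C_pow, Polynomial.coeff_X_pow,
    Nat.succ_eq_add_one, Nat.add_sub_cancel_left, pow_one, Nat.choose_succ_self_right] at h1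
  rw [if_neg (by omega), neg_mul, neg_eq_zero] at h1
  have hu : IsUnit ((s + 1 : ℕ) : R) :=
    (ZMod.isUnit_iff_coprime _ _).2 (((Fact.out : p.Prime).coprime_iff_not_dvd.2 hrp).symm) |>.map
      (ZMod.castHom dvd_rfl R) |> fun h => by simpa using h
  exact hu.mul_left_eq_zero.1 h1

/-- Over a commutative ring R of prime characteristic p, let n ≥ 1 and let p^m be the largest power of p
dividing n. The locus of n × n matrices with characteristic polynomial t^n is stable under adding a
scalar matrix a·1 with n·a = 0 exactly when a^(p^m) = 0: for X with characteristic polynomial t^n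
and such an a, the matrix X + a·1 has characteristic polynomial t^n if and only if a^(p^m) = 0.
(Stated on points with values in an arbitrary ring of characteristic p; the scheme-theoretic
assertion about the nilpotent scheme of SL_n is this statement for all such rings.) -/
theorem result (p : ℕ) [Fact p.Prime] (R : Type u) [CommRing R]
    [CharP R p] (n : ℕ) (hn : 0 < n) (X : Matrix (Fin n) (Fin n) R) (hX : X.charpoly = Polynomial.X ^ n)
    (a : R) (ha : (n : R) * a = 0) :
    (X + Matrix.scalar (Fin n) a).charpoly = Polynomial.X ^ n ↔ a ^ (p ^ padicValNat p n) = 0 := by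
  have h : (X + Matrix.scalar (Fin n) a).charpoly = (Polynomial.X - Polynomial.C a) ^ n := by
    have h1 := Matrix.charpoly_sub_scalar X (-a)
    rw [map_neg, sub_neg_eq_add, hX, Polynomial.pow_comp, Polynomial.X_comp, map_neg, ← sub_eq_add_neg] at h1
    exact h1
  rw [h]
  exact X_sub_C_pow_eq_X_pow_iff p R n hn a

end Groth.Agent.S15835
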