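import Groth.Statements.S15836
import Mathlib

set_option autoImplicit false
universe u
open SprIso

namespace Groth.Agent.S15836

open Polynomial

/-- Gauss' lemma over an integrally closed domain: products of coefficients. -/
lemma coeff_mul_coeff_mem {A : Type*} [CommRing A] [IsDomain A] [IsIntegrallyClosed A]
    {K : Type*} [Field K] [Algebra A K] [IsFractionRing A K] (p q : K[X])
    (h : ∀ n, (p * q).coeff n ∈ (algebraMap A K).range) (i j : ℕ) :
    p.coeff i * q.coeff j ∈ (algebraMap A K).range := by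
  classical
  haveI : IsIntegrallyClosedIn (algebraMap A K).range K := by
    rw [Subring.isIntegrallyClosedIn_iff]
    intro x hx
    obtain ⟨r, hr1, hr2⟩ := hx
    have : IsIntegral A x := by
      obtain ⟨r', hr', -, hr'm⟩ := Polynomial.lifts_and_degree_eq_and_monic
        (f := (algebraMap A K).rangeRestrict) (p := r) (by
          rw [Polynomial.lifts_iff_coeff_lifts]
          exact fun n => (algebraMap A K).rangeRestrict_surjective _) hr1
      refine ⟨r', hr'm, ?_⟩
      rw [← hr', Polynomial.eval₂_map] at hr2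
      exact hr2
    obtain ⟨y, hy⟩ := IsIntegrallyClosed.isIntegral_iff.1 this
    exact ⟨y, hy⟩
  by_contra hc
  obtain ⟨V, hV, hV'⟩ := Subring.exists_le_valuationSubring_of_isIntegrallyClosedIn hc
  let v := V.valuation
  have hgt : 1 < v (p.coeff i * q.coeff j) := not_le.1 fun hle => hV' ((V.valuation_le_one_iff _).1 hle)
  have key : ∀ (r : K[X]) (n : ℕ), r.coeff n ≠ 0 → ∃ m, (∀ l, v (r.coeff l) ≤ v (r.coeff m)) ∧
      ∀ l < m, v (r.coeff l) < v (r.coeff m) := fun r n hn => by
    obtain ⟨m₀, hm₀, hmax⟩ := r.support.exists_max_image (fun l => v (r.coeff l))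
      ⟨n, Polynomial.mem_support_iff.2 hn⟩
    have hall : ∀ l, v (r.coeff l) ≤ v (r.coeff m₀) := fun l => by
      by_cases hl : r.coeff l = 0
      · simp [hl]
      · exact hmax l (Polynomial.mem_support_iff.2 hl)
    have he : ∃ m, v (r.coeff m₀) ≤ v (r.coeff m) := ⟨m₀, le_rfl⟩
    exact ⟨Nat.find he, fun l => (hall l).trans (Nat.find_spec he),
      fun l hl => (not_le.1 (Nat.find_min he hl)).trans_le (Nat.find_spec he)⟩
  have hi : p.coeff i ≠ 0 := fun hi => by simp [hi] at hgt
  have hj : q.coeff j ≠ 0 := fun hj => by simp [hj] at hgt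
  obtain ⟨m, hm, hm'⟩ := key p i hi
  obtain ⟨n, hn, hn'⟩ := key q j hj
  have hmpos : 0 < v (p.coeff m) := (zero_lt_iff.2 (by simpa using hi)).trans_le (hm i)
  have hnpos : 0 < v (q.coeff n) := (zero_lt_iff.2 (by simpa using hj)).trans_le (hn j)
  have hmn : v ((p * q).coeff (m + n)) = v (p.coeff m * q.coeff n) := by
    rw [Polynomial.coeff_mul]
    refine Valuation.map_sum_eq_of_lt v (s := Finset.HasAntidiagonal.antidiagonal (m + n)) (j := (m, n)) (f := fun x => p.coeff x.1 * q.coeff x.2)
      (by simp) ?_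
    intro x hx
    simp only [Finset.mem_sdiff, Finset.mem_singleton, Finset.HasAntidiagonal.mem_antidiagonal] at hx
    simp only [map_mul]
    rcases lt_trichotomy x.1 m with hl | hl | hl
    · exact mul_lt_mul_of_lt_of_le_of_nonneg_of_pos (hm' _ hl) (hn _) zero_le hnpos
    · exact absurd (Prod.ext hl (by omega : x.2 = n)) hx.2
    · exact mul_lt_mul_of_le_of_lt_of_nonneg_of_pos (hm _) (hn' _ (by omega)) zero_le hmpos
  have h1 : v ((p * q).coeff (m + n)) ≤ 1 := (V.valuation_le_one_iff _).2 (hV (h _))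
  rw [hmn] at h1
  have h2 : v (p.coeff i * q.coeff j) ≤ v (p.coeff m * q.coeff n) := by
    rw [map_mul, map_mul]; exact mul_le_mul' (hm i) (hn j)
  exact absurd (h2.trans h1) (not_le.2 hgt)

lemma prod_C_mul_X_pow {R : Type*} [CommRing R] {ι : Type*} (S : Finset ι) (g : ι → R) (d : ι → ℕ) :
    ∏ x ∈ S, (Polynomial.C (g x) * Polynomial.X) ^ d x =
      (∏ x ∈ S, Polynomial.C (g x) ^ d x) * Polynomial.X ^ ∑ x ∈ S, d x := by
  rw [← Finset.prod_pow_eq_pow_sum, ← Finset.prod_mul_distrib]
  exact Finset.prod_congr rfl fun x _ => mul_pow _ _ _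

/-- An invertible module over a normal domain with a contraction `σ` is free. -/
theorem free_of_contraction {A : Type u} [CommRing A] [IsDomain A] [IsIntegrallyClosed A]
    (σ : A →+* A[X]) (h1 : ∀ a, (σ a).eval 1 = a)
    (h0 : ∀ a, (σ a).eval 0 ≠ 0 → IsUnit ((σ a).eval 0))
    (M : Type u) [AddCommGroup M] [Module A M] [Module.Invertible A M] : Module.Free A M := by
  classical
  let K := FractionRing A
  let ι := algebraMap A K
  obtain ⟨t, ht⟩ := (Module.Invertible.bijective (R := A) (M := M)).2 1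
  obtain ⟨s, rfl⟩ := TensorProduct.exists_finset t
  simp only [map_sum, contractLeft_apply] at ht
  obtain ⟨φ, m₀, hb0⟩ : ∃ (φ : Module.Dual A M) (m : M), (σ (φ m)).eval 0 ≠ 0 := by
    by_contra! hc
    have := congrArg (fun a => (σ a).eval 0) ht
    simp [Polynomial.eval_finsetSum, hc] at this
  have comm : ∀ (φ ψ : Module.Dual A M) (m n : M), φ m * ψ n = φ n * ψ m := fun φ ψ m n => by
    have := congrArg (TensorProduct.lift ((LinearMap.mul A A).compl₁₂ φ ψ))
      (Module.Invertible.tmul_comm (R := A) (m₁ := m) (m₂ := n))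
    simpa using this
  have hb : φ m₀ ≠ 0 := fun h => hb0 (by simp [h])
  have hinj : ∀ m, φ m = 0 → m = 0 := fun m hm => by
    refine (Module.forall_dual_apply_eq_zero_iff A m).1 fun ψ => ?_
    have := comm φ ψ m₀ m
    rw [hm, zero_mul] at this
    exact (mul_eq_zero.1 this).resolve_left hb
  let S : A →+* K[X] := (Polynomial.mapRingHom ι).comp σ
  have hS1 : ∀ a, (S a).eval 1 = ι a := fun a => by
    simp [S, Polynomial.eval_one_map, h1]
  have hS0 : ∀ a, (S a).eval 0 = ι ((σ a).eval 0) := fun a => by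
    simp [S, Polynomial.eval_zero_map]
  let P : Ideal K[X] := Ideal.span (Set.range fun m => S (φ m))
  obtain ⟨g, hg⟩ : ∃ g, P = Ideal.span {g} := ⟨_, (Ideal.span_singleton_generator P).symm⟩
  have hp : ∀ m, ∃ p, S (φ m) = g * p := fun m =>
    Ideal.mem_span_singleton.1 (hg ▸ Ideal.subset_span ⟨m, rfl⟩)
  choose p hp using hp
  have hSb : S (φ m₀) ≠ 0 := fun h => hb (IsFractionRing.injective A K (by
    rw [← hS1, h, map_zero, Polynomial.eval_zero]))
  have hq : ∀ ψ : Module.Dual A M, ∃ q, g * S (ψ m₀) = S (φ m₀) * q := fun ψ => by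
    have hle : P ≤ Submodule.comap (LinearMap.mulRight K[X] (S (ψ m₀))) (Ideal.span {S (φ m₀)}) := by
      refine Ideal.span_le.2 ?_
      rintro _ ⟨m, rfl⟩
      refine Ideal.mem_span_singleton.2 ⟨S (ψ m), ?_⟩
      simp only [LinearMap.mulRight_apply, ← map_mul, comm φ ψ m m₀]
    exact Ideal.mem_span_singleton.1 (hle (hg ▸ Ideal.mem_span_singleton_self g))
  choose q hq using hq
  have hpq : ∀ m ψ, p m * q ψ = S (ψ m) := fun m ψ => by
    refine mul_left_cancel₀ hSb ?_
    calc S (φ m₀) * (p m * q ψ) = p m * (S (φ m₀) * q ψ) := by ring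
      _ = S (φ m) * S (ψ m₀) := by rw [← hq, hp m]; ring
      _ = S (φ m₀) * S (ψ m) := by rw [← map_mul, ← map_mul, comm φ ψ m m₀]
  have hc : ∀ m ψ i j, (p m).coeff i * (q ψ).coeff j ∈ ι.range := fun m ψ i j =>
    coeff_mul_coeff_mem _ _ (fun n => ⟨(σ (ψ m)).coeff n, by simp [hpq, S, ι]⟩) i j
  have hp01 : ∀ m ψ, (p m).eval 0 * (q ψ).eval 1 ∈ ι.range := fun m ψ => by
    rw [Polynomial.eval_eq_sum (p := q ψ), Polynomial.sum, Finset.mul_sum,
      ← Polynomial.coeff_zero_eq_eval_zero]
    exact Subring.sum_mem _ fun j _ => by simpa using hc m ψ 0 j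
  have hp10 : ∀ m ψ, (p m).eval 1 * (q ψ).eval 0 ∈ ι.range := fun m ψ => by
    rw [Polynomial.eval_eq_sum (p := p m), Polynomial.sum, Finset.sum_mul,
      ← Polynomial.coeff_zero_eq_eval_zero]
    exact Subring.sum_mem _ fun j _ => by simpa using hc m ψ j 0
  choose w hw using hp01 m₀
  choose r hr using hp10
  obtain ⟨c, hc0⟩ := h0 _ hb0
  let z : M := ∑ x ∈ s, w x.1 • x.2
  have hsum : ∑ x ∈ s, p x.2 * q x.1 = 1 := by
    rw [Finset.sum_congr rfl fun x _ => hpq x.2 x.1, ← map_sum, ht, map_one]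
  have hz : ι (φ z) = g.eval 1 * (p m₀).eval 0 := by
    have := congrArg (fun f => g.eval 1 * (p m₀).eval 0 * Polynomial.eval 1 f) hsum
    simp only [Polynomial.eval_finsetSum, Polynomial.eval_one, mul_one, Polynomial.eval_mul] at this
    rw [← this, Finset.mul_sum]
    simp only [z, map_sum, map_smul, smul_eq_mul, map_mul]
    refine Finset.sum_congr rfl fun x _ => ?_
    rw [show ι (w x.1) = _ from hw x.1, ← hS1 (φ x.2), hp x.2, Polynomial.eval_mul]
    ring
  have hgen : ∀ m, ∃ a : A, a • z = m := fun m => by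
    let a : A := (c⁻¹ : Aˣ) * ∑ x ∈ s, r m x.1 * (σ (φ x.2)).eval 0
    refine ⟨a, ?_⟩
    rw [← sub_eq_zero]
    refine hinj _ (IsFractionRing.injective A K ?_)
    rw [map_sub, map_smul, map_sub, smul_eq_mul, map_mul, map_zero, sub_eq_zero]
    have hcne : ι (c : A) ≠ 0 := fun h => c.ne_zero (IsFractionRing.injective A K (by rw [h, map_zero]))
    refine mul_left_cancel₀ hcne ?_
    rw [show algebraMap A K = ι from rfl, hz, ← mul_assoc, ← map_mul, ← hS1 (φ m), hp m]
    simp only [a, ← mul_assoc, Units.mul_inv, one_mul, map_sum, map_mul]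
    simp only [← hS0, hp, Polynomial.eval_mul]
    rw [hc0, ← hS0, hp m₀, Polynomial.eval_mul]
    have := congrArg (fun f => (p m).eval 1 * Polynomial.eval 0 f) hsum
    simp only [Polynomial.eval_finsetSum, Polynomial.eval_one, mul_one, Polynomial.eval_mul,
      Finset.mul_sum] at this
    conv_rhs => rw [← this]
    simp only [Finset.mul_sum]
    erw [Finset.sum_mul, Finset.sum_mul]
    refine Finset.sum_congr rfl fun x _ => ?_
    rw [show ι (r m x.1) = _ from hr m x.1]
    ring
  have hz0 : φ z ≠ 0 := fun h => hb (by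
    obtain ⟨a, ha⟩ := hgen m₀
    rw [← ha, map_smul, h, smul_zero])
  refine Module.Free.of_equiv (LinearEquiv.ofBijective (LinearMap.toSpanSingleton A M z) ⟨?_, ?_⟩)
  · intro a b hab
    have h := congrArg φ hab
    simp only [LinearMap.toSpanSingleton_apply, map_smul, smul_eq_mul] at h
    exact mul_right_cancel₀ hz0 h
  · intro m
    obtain ⟨a, ha⟩ := hgen m
    exact ⟨a, by simpa using ha⟩


/-- Let k be a field and C a closed subscheme of affine n-space over k which is stable under the scaling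
action of the affine line, i.e. C = Spec A with A = k[x_1, …, x_n]/I for an ideal I generated by
homogeneous polynomials, and assume C is normal (A is an integrally closed domain). Then Pic(C) = 0:
every invertible A-module is free. -/
theorem result (k : Type u) [Field k] (n : ℕ)
    (I : Ideal (MvPolynomial (Fin n) k))
    (hI : ∃ s : Set (MvPolynomial (Fin n) k), (∀ f ∈ s, ∃ d : ℕ, f.IsHomogeneous d) ∧ I = Ideal.span s)
    [IsDomain (MvPolynomial (Fin n) k ⧸ I)] [IsIntegrallyClosed (MvPolynomial (Fin n) k ⧸ I)]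
    (M : Type u) [AddCommGroup M] [Module (MvPolynomial (Fin n) k ⧸ I) M]
    [Module.Invertible (MvPolynomial (Fin n) k ⧸ I) M] :
    Module.Free (MvPolynomial (Fin n) k ⧸ I) M := by
  obtain ⟨s, hs, rfl⟩ := hI
  let mk := Ideal.Quotient.mk (Ideal.span s)
  let τ := MvPolynomial.eval₂Hom
    (Polynomial.C.comp (mk.comp MvPolynomial.C))
    (fun i : Fin n => Polynomial.C (mk (MvPolynomial.X i)) * Polynomial.X)
  have hmon : ∀ d c, τ (MvPolynomial.monomial d c) =
      Polynomial.C (mk (MvPolynomial.monomial d c)) * Polynomial.X ^ (d.sum fun _ e => e) := by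
    intro d c
    rw [MvPolynomial.coe_eval₂Hom, MvPolynomial.eval₂_monomial, MvPolynomial.monomial_eq]
    simp only [Finsupp.prod, Finsupp.sum, map_mul, map_prod, map_pow, mul_pow,
      Finset.prod_mul_distrib, Finset.prod_pow_eq_pow_sum, RingHom.comp_apply, mul_assoc]
    congr 1
    exact prod_C_mul_X_pow _ _ _
  have hle : Ideal.span s ≤ RingHom.ker τ := by
    refine Ideal.span_le.2 fun f hf => RingHom.mem_ker.2 ?_
    obtain ⟨d, hd⟩ := hs f hf
    have hτ : τ f = Polynomial.C (mk f) * Polynomial.X ^ d := by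
      conv_lhs => rw [MvPolynomial.as_sum f, map_sum]
      conv_rhs => rw [MvPolynomial.as_sum f, map_sum, map_sum, Finset.sum_mul]
      refine Finset.sum_congr rfl fun e he => ?_
      rw [hmon, ← hd (MvPolynomial.mem_support_iff.1 he)]
      simp [Finsupp.weight_apply, Finsupp.sum]
    rw [hτ, Ideal.Quotient.eq_zero_iff_mem.2 (Ideal.subset_span hf), map_zero, zero_mul]
  let σ := Ideal.Quotient.lift (Ideal.span s) τ fun a ha => hle ha
  refine free_of_contraction σ (fun a => ?_) (fun a ha => ?_) M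
  · obtain ⟨f, rfl⟩ := Ideal.Quotient.mk_surjective a
    show (Polynomial.evalRingHom 1).comp τ f = mk f
    congr 1
    ext <;> simp [τ, mk]
  · obtain ⟨f, rfl⟩ := Ideal.Quotient.mk_surjective a
    have hf : (σ (Ideal.Quotient.mk _ f)).eval 0 = mk (MvPolynomial.C f.constantCoeff) := by
      show (Polynomial.evalRingHom 0).comp τ f =
        (mk.comp (MvPolynomial.C.comp MvPolynomial.constantCoeff)) f
      congr 1
      ext <;> simp [τ, mk]
    rw [hf] at ha ⊢
    exact ((isUnit_iff_ne_zero.2 fun h => ha (by simp [h])).map MvPolynomial.C).map mk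

end Groth.Agent.S15836
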