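import Groth.Statements.S15837

import Groth.Agent.Lib.GrpSch.FiniteAgree

set_option autoImplicit false
universe u
open CategoryTheory MonoidalCategory CartesianMonoidalCategory MonObj GrpObj AlgebraicGeometry
open SprIso

open Groth.Agent.Lib.GrpSch Groth.Agent.Lib.GrpSch.FiniteAgree

namespace Groth.Agent.S15837

/-- Let S be a scheme, G an S-group scheme of finite presentation acting on an S-scheme X which is
affine and of finite presentation over S, and Y a closed subscheme of X which is finite, flat and of
finite presentation over S. Then the functorial stabilizer of Y in G — whose points with values in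
an S-scheme T are the points g of G such that g acts as the identity on every point of Y with values
in a scheme over T — is represented by a closed subscheme of G whose inclusion is of finite
presentation. -/
theorem result (S : Scheme.{u}) (G X Y : Over S) [GrpObj G]
    [LocallyOfFinitePresentation G.hom] [QuasiCompact G.hom] [QuasiSeparated G.hom]
    [IsAffineHom X.hom] [LocallyOfFinitePresentation X.hom] (a : AlgGrp.Action G X)
    (i : Y ⟶ X) [IsClosedImmersion i.left] [IsFinite Y.hom] [Flat Y.hom] [LocallyOfFinitePresentation Y.hom] :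
    ∃ (Z : Over S) (j : Z ⟶ G), IsClosedImmersion j.left ∧ LocallyOfFinitePresentation j.left ∧
      ∀ (T : Over S) (g : T ⟶ G), (∃ z : T ⟶ Z, z ≫ j = g) ↔
        ∀ (T' : Over S) (t : T' ⟶ T) (y : T' ⟶ Y), lift (t ≫ g) (y ≫ i) ≫ a.act = y ≫ i := by
  haveI : IsSeparated X.hom := inferInstance
  haveI : IsClosedImmersion (diag X) := FiniteAgree.diag_closed
  haveI : IsFinite (fst G Y).left := fst_left_of (P := @IsFinite) G ‹_›
  haveI : Flat (fst G Y).left := fst_left_of (P := @Flat) G ‹_›
  haveI : LocallyOfFinitePresentation (fst G Y).left := fst_left_of (P := @LocallyOfFinitePresentation) G ‹_›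
  haveI : IsClosedImmersion (eqι ((G ◁ i) ≫ a.act) (snd G Y ≫ i)) :=
    MorphismProperty.pullback_fst (P := @IsClosedImmersion) _ _ ‹_›
  obtain ⟨Z, j, hj, hfp, hZ⟩ := FiniteAgree.exists_agree (fst G Y) ((G ◁ i) ≫ a.act) (snd G Y ≫ i)
  refine ⟨Over.mk (j ≫ G.hom), Over.homMk j, hj, hfp FiniteAgree.diag_lfp, fun T g => ?_⟩
  refine Iff.trans ?_ ((hZ T g).trans ⟨fun h T' t y => ?_, fun h W p q hpq => ?_⟩)
  · exact ⟨fun ⟨z, hz⟩ => ⟨z.left, congrArg CommaMorphism.left hz⟩,
      fun ⟨z, hz⟩ => ⟨Over.homMk z (by
        change z ≫ j ≫ G.hom = T.hom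
        rw [reassoc_of% hz]; exact Over.w g), Over.OverMorphism.ext hz⟩⟩
  · have := h T' (lift (t ≫ g) y) t (lift_fst _ _)
    rwa [lift_whiskerLeft_assoc, lift_snd_assoc] at this
  · have h1 := h W q (p ≫ snd G Y)
    rw [← hpq, Category.assoc] at h1
    rwa [← Category.assoc p, show p ≫ (G ◁ i) = lift (p ≫ fst G Y) (p ≫ snd G Y ≫ i) by
      rw [← comp_lift]; congr 1]

end Groth.Agent.S15837
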