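import Groth.Statements.S15838

import Mathlib.LinearAlgebra.JordanChevalley

set_option autoImplicit false
universe u
open scoped TensorProduct
open SprIso

namespace Groth.Agent.S15838


theorem semisimple_part_mem_adjoin {k : Type u} [Field k] [PerfectField k]
    {V : Type u} [AddCommGroup V] [Module k V] [FiniteDimensional k V]
    (X Y N : Module.End k V) (hY : Y.IsSemisimple) (hN : IsNilpotent N) (hc : Commute Y N)
    (hX : X = Y + N) : Y ∈ Algebra.adjoin k {X} := by
  obtain ⟨n, hn, s, hs, hnn, hss, he⟩ := Module.End.exists_isNilpotent_isSemisimple (f := X)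
  have hYX : Commute Y X := hX ▸ (Commute.refl Y).add_right hc
  have hNX : Commute N X := hX ▸ hc.symm.add_right (Commute.refl N)
  have hYs : Commute Y s := Algebra.commute_of_mem_adjoin_singleton_of_commute hs hYX
  have hNn : Commute N n := Algebra.commute_of_mem_adjoin_singleton_of_commute hn hNX
  have h1 : Y - s = n - N := by
    rw [sub_eq_sub_iff_add_eq_add, ← hX, ← he]
  have h2 : (Y - s).IsSemisimple := Module.End.IsSemisimple.sub_of_commute hYs hY hss
  have h3 : IsNilpotent (Y - s) := h1 ▸ Commute.isNilpotent_sub hNn.symm hnn hN
  have h4 : Y - s = 0 := Module.End.eq_zero_of_isNilpotent_isSemisimple h3 h2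
  rw [sub_eq_zero] at h4
  exact h4 ▸ hs

theorem commute_baseChange_of_mem_adjoin {k : Type u} [Field k]
    {V : Type u} [AddCommGroup V] [Module k V] {R : Type u} [CommRing R] [Algebra k R]
    (h : Module.End R (R ⊗[k] V)) {X Y : Module.End k V} (hY : Y ∈ Algebra.adjoin k {X})
    (hh : Commute h (X.baseChange R)) : Commute h (Y.baseChange R) := by
  induction hY using Algebra.adjoin_induction with
  | mem a ha => rcases ha with rfl; exact hh
  | algebraMap r =>
    have : (algebraMap k (Module.End k V) r).baseChange R = r • (1 : Module.End R (R ⊗[k] V)) := by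
      rw [Algebra.algebraMap_eq_smul_one, LinearMap.baseChange_smul, Module.End.one_eq_id,
        LinearMap.baseChange_id]
      rfl
    rw [this]
    exact (Commute.one_right h).smul_right r
  | add a b _ _ ha hb => rw [LinearMap.baseChange_add]; exact ha.add_right hb
  | mul a b _ _ ha hb => rw [LinearMap.baseChange_mul]; exact ha.mul_right hb
/-- General linear group case: this is the case G = GL(V), to which the general case reduces along a
closed embedding. Let k be a perfect field and V a finite-dimensional k-vector space. If an
invertible endomorphism g of V has multiplicative Jordan decomposition g = t u (t semisimple, u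
unipotent, t and u commuting), then the scheme-theoretic centralizer of g in GL(V) is the
centralizer of u inside the centralizer of t: for every commutative k-algebra R, an R-linear
endomorphism h of R ⊗ V commutes with g_R if and only if it commutes with both t_R and u_R.
Likewise, if an endomorphism X of V has additive Jordan decomposition X = Y + N (Y semisimple, N
nilpotent, commuting), then h commutes with X_R if and only if it commutes with both Y_R and N_R. -/
theorem result (k : Type u) [Field k] [PerfectField k]
    (V : Type u) [AddCommGroup V] [Module k V] [FiniteDimensional k V]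
    (R : Type u) [CommRing R] [Algebra k R] (h : Module.End R (R ⊗[k] V)) :
    (∀ (g t u : Module.End k V), IsUnit g → t.IsSemisimple → IsNilpotent (u - 1) → Commute t u → g = t * u →
      (Commute h (g.baseChange R) ↔ Commute h (t.baseChange R) ∧ Commute h (u.baseChange R))) ∧
    (∀ (X Y N : Module.End k V), Y.IsSemisimple → IsNilpotent N → Commute Y N → X = Y + N →
      (Commute h (X.baseChange R) ↔ Commute h (Y.baseChange R) ∧ Commute h (N.baseChange R))) := by
  refine ⟨fun g t u hg ht hu htu hgtu => ?_, fun X Y N hY hN hYN hX => ?_⟩
  · have hN : IsNilpotent (t * (u - 1)) :=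
      (htu.sub_right (Commute.one_right t)).isNilpotent_mul_left hu
    have hX : g = t + t * (u - 1) := by rw [hgtu, mul_sub, _root_.mul_one]; abel
    have hc : Commute t (t * (u - 1)) :=
      (Commute.refl t).mul_right (htu.sub_right (Commute.one_right t))
    have hmem := semisimple_part_mem_adjoin g t (t * (u - 1)) ht hN hc hX
    refine ⟨fun hh => ?_, fun hh => by rw [hgtu, LinearMap.baseChange_mul]; exact hh.1.mul_right hh.2⟩
    have h1 := commute_baseChange_of_mem_adjoin h hmem hh
    refine ⟨h1, ?_⟩
    have hu1 : IsUnit u := by simpa using hu.isUnit_add_one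
    have ht1 : IsUnit t := (htu.isUnit_mul_iff.mp (hgtu ▸ hg)).1
    have ht2 : IsUnit (t.baseChange R) := ht1.map (Module.End.baseChangeHom k R V)
    rw [hgtu, LinearMap.baseChange_mul] at hh
    apply ht2.mul_left_cancel
    calc t.baseChange R * (h * u.baseChange R) = h * (t.baseChange R * u.baseChange R) := by
          rw [← mul_assoc, ← h1.eq, mul_assoc]
      _ = t.baseChange R * (u.baseChange R * h) := by rw [hh.eq, mul_assoc]
  · have hmem := semisimple_part_mem_adjoin X Y N hY hN hYN hX
    refine ⟨fun hh => ?_, fun hh => by rw [hX, LinearMap.baseChange_add]; exact hh.1.add_right hh.2⟩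
    have h1 := commute_baseChange_of_mem_adjoin h hmem hh
    refine ⟨h1, ?_⟩
    have : N = X - Y := by rw [hX]; abel
    rw [this, LinearMap.baseChange_sub]
    exact Commute.sub_right (R := Module.End R (R ⊗[k] V)) hh h1

end Groth.Agent.S15838
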