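import Groth.Statements.S15839
import Groth.Agent.Lib.GrpSch.Basic
import Mathlib.AlgebraicGeometry.Morphisms.FinitePresentation

set_option autoImplicit false
universe u
open CategoryTheory MonoidalCategory CartesianMonoidalCategory MonObj GrpObj AlgebraicGeometry
open SprIso

namespace Groth.Agent.S15839

/-- Let S be a scheme, G an S-group scheme which is affine and of finite presentation over S, and g a
section of G over S. Then the centralizer of g — the subfunctor of G whose points with values in an
S-scheme T are the points x of G with x g_T = g_T x — is represented by a closed subscheme of G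
whose inclusion is of finite presentation. -/
theorem result (S : Scheme.{u}) (G : Over S) [GrpObj G]
    [IsAffineHom G.hom] [LocallyOfFinitePresentation G.hom] (g : 𝟙_ (Over S) ⟶ G) :
    ∃ (Z : Over S) (j : Z ⟶ G), IsClosedImmersion j.left ∧ LocallyOfFinitePresentation j.left ∧
      ∀ (T : Over S) (x : T ⟶ G), (∃ z : T ⟶ Z, z ≫ j = x) ↔
        x * (toUnit T ≫ g) = (toUnit T ≫ g) * x := by
  let f : G ⟶ G := 𝟙 G * (toUnit G ≫ g) * (𝟙 G)⁻¹ * (toUnit G ≫ g)⁻¹
  have hclo : IsClosedImmersion η[G].left := Groth.Agent.Lib.GrpSch.isClosedImmersion_η G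
  have hfp : LocallyOfFinitePresentation η[G].left := by
    rw [HasRingHomProperty.iff_exists_appLE (P := @LocallyOfFinitePresentation)
      (RingHom.finitePresentation_stableUnderComposition.stableUnderCompositionWithLocalizationAway
        RingHom.finitePresentation_holdsForLocalizationAway).left]
    intro x
    obtain ⟨U, hU, hxU, -⟩ := AlgebraicGeometry.exists_isAffineOpen_mem_and_subset (X := S) (x := x) (U := ⊤) trivial
    have hVU : U ≤ η[G].left ⁻¹ᵁ (G.hom ⁻¹ᵁ U) := by
      rw [← Scheme.Hom.comp_preimage, Groth.Agent.Lib.GrpSch.η_left_comp_hom, Scheme.Hom.id_preimage]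
    refine ⟨⟨G.hom ⁻¹ᵁ U, hU.preimage G.hom⟩, ⟨U, hU⟩, hxU, hVU, ?_⟩
    refine RingHom.FinitePresentation.of_comp_finiteType (G.hom.appLE U (G.hom ⁻¹ᵁ U) le_rfl).hom ?_
      (HasRingHomProperty.appLE @LocallyOfFiniteType G.hom inferInstance ⟨U, hU⟩
        ⟨G.hom ⁻¹ᵁ U, hU.preimage G.hom⟩ le_rfl)
    rw [← CommRingCat.hom_comp, Scheme.Hom.appLE_comp_appLE]
    simp only [Groth.Agent.Lib.GrpSch.η_left_comp_hom]
    have hidQ : (((𝟙 S : S ⟶ S).appLE U U le_rfl)).hom.FinitePresentation := by
      have h1 : (𝟙 S : S ⟶ S).appLE U U le_rfl = 𝟙 Γ(S, U) := by simp [Scheme.Hom.appLE]; exact S.presheaf.map_id _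
      rw [h1]
      exact RingHom.FinitePresentation.id Γ(S, U)
    exact hidQ
  let Z : Over S := Over.mk (Limits.pullback.snd η[G].left f.left ≫ G.hom)
  let j : Z ⟶ G := Over.homMk (Limits.pullback.snd η[G].left f.left) rfl
  refine ⟨Z, j, inferInstanceAs (IsClosedImmersion (Limits.pullback.snd η[G].left f.left)),
    inferInstanceAs (LocallyOfFinitePresentation (Limits.pullback.snd η[G].left f.left)), fun T x => ?_⟩
  have hxf : x ≫ f = x * (toUnit T ≫ g) * x⁻¹ * (toUnit T ≫ g)⁻¹ := by
    simp only [f, MonObj.comp_mul, GrpObj.comp_inv, Category.comp_id, ← Category.assoc,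
      toUnit_unique (x ≫ toUnit G) (toUnit T)]
  have hiff : x * (toUnit T ≫ g) = (toUnit T ≫ g) * x ↔ x ≫ f = 1 := by
    rw [hxf, mul_inv_eq_one, mul_inv_eq_iff_eq_mul]
  rw [hiff, Hom.one_def]
  constructor
  · rintro ⟨z, rfl⟩
    have hc : j ≫ f = toUnit Z ≫ η[G] := by
      ext1
      simp only [Over.comp_left, Over.toUnit_left]
      have h := Limits.pullback.condition (f := η[G].left) (g := f.left)
      have hz : Limits.pullback.fst η[G].left f.left = Z.hom := by
        have h2 := congrArg (· ≫ G.hom) h
        simp only [Category.assoc, Over.w f, Groth.Agent.Lib.GrpSch.η_left_comp_hom, Category.comp_id] at h2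
        exact h2
      rw [← hz]
      exact h.symm
    rw [Category.assoc, hc, ← Category.assoc, toUnit_unique (z ≫ toUnit Z) (toUnit T)]
  · intro h
    have h' : T.hom ≫ η[G].left = x.left ≫ f.left := by
      have := congrArg CommaMorphism.left h
      simpa using this.symm
    refine ⟨Over.homMk (Limits.pullback.lift T.hom x.left h') ?_, ?_⟩
    · change _ ≫ Limits.pullback.snd η[G].left f.left ≫ G.hom = _
      rw [Limits.pullback.lift_snd_assoc]
      exact Over.w x
    · ext1
      exact Limits.pullback.lift_snd _ _ h'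

end Groth.Agent.S15839
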