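import Groth.Statements.S15841

set_option autoImplicit false
universe u
open scoped TensorProduct
open SprIso

namespace Groth.Agent.S15841

/-- For a connected reductive group G with maximal torus T whose derived group is simply connected, and
a Coxeter element w (the product of the simple reflections, each once, in any order), an element of
Lie T = k ⊗ X_*(T) fixed by Ad(w) is killed by the differential of every simple root, i.e. lies in
the centre of Lie G. In root-datum form: let P be a root pairing over ℤ with character lattice M and
cocharacter lattice N, b a base, and suppose each simple coroot has a dual character ω_i in M with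
⟨ω_i, α_i^∨⟩ = 1 and ⟨ω_i, α_j^∨⟩ = 0 for every other simple j (the simply connected derived group
hypothesis). If l lists the simple roots without repetition, w^∨ is the composite of the
coreflections along l acting on N, k is a field and H in k ⊗ N satisfies w^∨_k H = H, then (α_i)_k H
= 0 for every simple root α_i, where (α_i)_k is the base change to k of the functional ⟨α_i, −⟩ on
N. (Stated for an arbitrary field k; the published setting is an algebraically closed field, and the
argument does not depend on k.) -/
theorem result {ι M N : Type u} [AddCommGroup M] [AddCommGroup N]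
    (P : RootPairing ι ℤ M N) (b : P.Base)
    (hsc : ∀ i ∈ b.support, ∃ ω : M, P.coroot' i ω = 1 ∧ ∀ j ∈ b.support, j ≠ i → P.coroot' j ω = 0)
    (l : List ι) (hl : l.Nodup) (hlb : ∀ i : ι, i ∈ l ↔ i ∈ b.support)
    (k : Type u) [Field k] (H : k ⊗[ℤ] N)
    (hH : ((l.map (fun i => ((P.coreflection i : N ≃ₗ[ℤ] N) : N →ₗ[ℤ] N))).prod).baseChange k H = H) :
    ∀ i ∈ b.support, (P.root' i).baseChange k H = 0 := by
  classical
  have key : ∀ l : List ι, l.Nodup → (∀ i ∈ l, i ∈ b.support) →
      ((l.map (fun i => ((P.coreflection i : N ≃ₗ[ℤ] N) : N →ₗ[ℤ] N))).prod).baseChange k H = H →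
      ∀ i ∈ l, (P.root' i).baseChange k H = 0 := by
    intro l
    induction l with
    | nil => simp
    | cons a t ih =>
      intro hnd hsub hfix
      obtain ⟨hat, hndt⟩ := List.nodup_cons.mp hnd
      obtain ⟨ω, hω1, hω⟩ := hsc a (hsub a List.mem_cons_self)
      let W : Module.End ℤ N := (t.map (fun i => ((P.coreflection i : N ≃ₗ[ℤ] N) : N →ₗ[ℤ] N))).prod
      let Ω : N →ₗ[ℤ] ℤ := P.toLinearMap ω
      have hΩW : Ω ∘ₗ W = Ω := by
        have : ∀ s : List ι, (∀ i ∈ s, i ∈ b.support ∧ i ≠ a) →
            Ω ∘ₗ (s.map (fun i => ((P.coreflection i : N ≃ₗ[ℤ] N) : N →ₗ[ℤ] N))).prod = Ω := by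
          intro s
          induction s with
          | nil => intro; ext x; simp
          | cons c r ihr =>
            intro hs
            ext x
            have h0 : Ω (P.coroot c) = 0 := hω c (hs c List.mem_cons_self).1 (hs c List.mem_cons_self).2
            have hx := LinearMap.congr_fun (ihr fun i hi => hs i (List.mem_cons_of_mem _ hi)) x
            simp only [List.map_cons, List.prod_cons, Module.End.mul_eq_comp, LinearMap.coe_comp,
              Function.comp_apply, LinearEquiv.coe_coe, RootPairing.coreflection_apply, map_sub, map_smul,
              h0, smul_zero, sub_zero] at hx ⊢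
            exact hx
        exact this t fun i hi => ⟨hsub i (List.mem_cons_of_mem _ hi), fun h => hat (h ▸ hi)⟩
      rw [List.map_cons, List.prod_cons, Module.End.mul_eq_comp, LinearMap.baseChange_comp,
        LinearMap.comp_apply] at hfix
      have hΩs : Ω ∘ₗ ((P.coreflection a : N ≃ₗ[ℤ] N) : N →ₗ[ℤ] N) = Ω - P.root' a := by
        ext x
        have h1 : Ω (P.coroot a) = 1 := hω1
        simp [RootPairing.coreflection_apply, h1]
      have hs2 : ((P.coreflection a : N ≃ₗ[ℤ] N) : N →ₗ[ℤ] N) =
          LinearMap.id - (P.root' a).smulRight (P.coroot a) := by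
        ext x
        simp [RootPairing.coreflection_apply]
      have hz : (P.root' a).baseChange k (W.baseChange k H) = 0 := by
        have h := congrArg (Ω.baseChange k) hfix
        rw [← LinearMap.comp_apply, ← LinearMap.baseChange_comp, hΩs, LinearMap.baseChange_sub,
          LinearMap.sub_apply, ← LinearMap.comp_apply, ← LinearMap.baseChange_comp, hΩW] at h
        simpa [W] using h
      have hW : W.baseChange k H = H := by
        have e : (P.root' a).smulRight (P.coroot a) =
            (LinearMap.toSpanSingleton ℤ N (P.coroot a)) ∘ₗ P.root' a := by ext x; simp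
        rw [hs2, LinearMap.baseChange_sub, LinearMap.baseChange_id, LinearMap.sub_apply, LinearMap.id_apply,
          e, LinearMap.baseChange_comp, LinearMap.comp_apply] at hfix
        change W.baseChange k H - _ = H at hfix
        rwa [hz, map_zero, sub_zero] at hfix
      rw [hW] at hz
      intro i hi
      rcases List.mem_cons.mp hi with rfl | hi
      · exact hz
      · exact ih hndt (fun i hi => hsub i (List.mem_cons_of_mem _ hi)) hW i hi
  intro i hi
  exact key l hl (fun i hi => (hlb i).1 hi) hH i ((hlb i).2 hi)

end Groth.Agent.S15841
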