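import Groth.Statements.S15842

import Mathlib.LinearAlgebra.FiniteDimensional.Lemmas
import Mathlib.RingTheory.LocalProperties.Basic
import Mathlib.FieldTheory.Minpoly.Field
import Mathlib.RingTheory.LocalRing.ResidueField.Basic
import Mathlib.LinearAlgebra.Matrix.ToLinearEquiv
import Mathlib.RingTheory.Polynomial.UniqueFactorization

set_option autoImplicit false
universe u
open SprIso

namespace Groth.Agent.S15842

open Polynomial in
theorem exists_vector_minpoly {K : Type*} [Field K] {V : Type*} [AddCommGroup V] [Module K V]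
    [FiniteDimensional K V] (f : Module.End K V) :
    ∃ v : V, ∀ q : K[X], aeval f q v = 0 → minpoly K f ∣ q := by
  classical
  set μ := minpoly K f with hμdef
  have hint : IsIntegral K f := Algebra.IsIntegral.isIntegral f
  have hμ : μ ≠ 0 := minpoly.ne_zero hint
  have hμ0 : aeval f μ = 0 := minpoly.aeval K f
  set P := (UniqueFactorizationMonoid.normalizedFactors μ).toFinset with hP
  have hPirr : ∀ p ∈ P, Irreducible p := fun p hp =>
    UniqueFactorizationMonoid.irreducible_of_normalized_factor p (by simpa [hP] using hp)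
  have hPdvd : ∀ p ∈ P, p ∣ μ := fun p hp =>
    UniqueFactorizationMonoid.dvd_of_mem_normalizedFactors (by simpa [hP] using hp)
  have hsplit : ∀ p ∈ P, ∃ (m : K[X]) (q : K[X]) (x : V),
      μ = p * m ∧ ¬ p ∣ q ∧ (∃ e, μ = p ^ e * q) ∧ aeval f m x ≠ 0 := by
    intro p hp
    obtain ⟨m, hm⟩ := hPdvd p hp
    obtain ⟨q, hq, hpq⟩ :=
      (FiniteMultiplicity.of_not_isUnit (hPirr p hp).not_isUnit hμ).exists_eq_pow_mul_and_not_dvd
    have hm0 : aeval f m ≠ 0 := by
      intro h
      have hd : μ ∣ m := minpoly.dvd K f h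
      have hdeg := Polynomial.natDegree_le_of_dvd hd (by rintro rfl; simp [hm] at hμ)
      rw [hm, Polynomial.natDegree_mul (hPirr p hp).ne_zero (by rintro rfl; simp [hm] at hμ)] at hdeg
      have := (hPirr p hp).natDegree_pos
      omega
    obtain ⟨x, hx⟩ := DFunLike.ne_iff.mp hm0
    exact ⟨m, q, x, hm, hpq, ⟨_, hq⟩, hx⟩
  choose! m q x hm hpq hq hx using hsplit
  refine ⟨∑ p ∈ P, aeval f (q p) (x p), fun r hr => ?_⟩
  by_contra hdvd
  obtain ⟨c, hc⟩ := gcd_dvd_left μ r
  have hcu : ¬ IsUnit c := by
    intro hu
    apply hdvd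
    have : μ ∣ gcd μ r := by
      obtain ⟨u, rfl⟩ := hu
      exact ⟨↑u⁻¹, (Units.eq_mul_inv_iff_mul_eq u).mpr hc.symm⟩
    exact this.trans (gcd_dvd_right μ r)
  have hc0 : c ≠ 0 := by rintro rfl; simp at hc; exact hμ hc
  obtain ⟨p0, hp0, hp0c⟩ := WfDvdMonoid.exists_irreducible_factor hcu hc0
  obtain ⟨p, hpmem, hassoc⟩ := UniqueFactorizationMonoid.exists_mem_normalizedFactors_of_dvd hμ hp0
    (hp0c.trans ⟨gcd μ r, by rw [mul_comm]; exact hc⟩)
  have hpP : p ∈ P := by simpa [hP] using hpmem
  obtain ⟨c', hc'⟩ := hassoc.symm.dvd.trans hp0c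
  obtain ⟨s, t, hst⟩ : ∃ s t : K[X], gcd μ r = s * μ + t * r := by
    obtain ⟨s, t, h⟩ := exists_gcd_eq_mul_add_mul μ r
    exact ⟨s, t, by rw [h]; ring⟩
  have hgcd : aeval f (gcd μ r) (∑ p ∈ P, aeval f (q p) (x p)) = 0 := by
    rw [hst]
    simp only [map_add, map_mul, LinearMap.add_apply, Module.End.mul_apply, hr, hμ0,
      LinearMap.zero_apply, map_zero, add_zero, mul_zero]
  have hmp : m p = c' * gcd μ r := by
    have h1 : p * m p = p * (c' * gcd μ r) := (hm p hpP).symm.trans (hc.trans (by rw [hc']; ring))
    exact mul_left_cancel₀ (hPirr p hpP).ne_zero h1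
  have hsum : aeval f (m p) (∑ p ∈ P, aeval f (q p) (x p)) = 0 := by
    rw [hmp, map_mul, Module.End.mul_apply, hgcd, map_zero]
  rw [map_sum] at hsum
  rw [Finset.sum_eq_single p ?_ (fun h => absurd hpP h)] at hsum
  · obtain ⟨a, b, hab⟩ := ((hPirr p hpP).coprime_iff_not_dvd.mpr (hpq p hpP))
    apply hx p hpP
    have h1 : m p = a * μ + b * (m p * q p) := by
      linear_combination (-(m p)) * hab - a * (hm p hpP)
    rw [h1]
    simp only [map_add, LinearMap.add_apply, map_mul, Module.End.mul_apply, hμ0, LinearMap.zero_apply,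
      map_zero, zero_add]
    simp [hsum]
  · intro p' hp' hne
    have hdq : p ∣ q p' := by
      obtain ⟨e, he⟩ := hq p' hp'
      have h1 : p ∣ p' ^ e * q p' := he ▸ hPdvd p hpP
      refine ((hPirr p hpP).prime.dvd_or_dvd h1).resolve_left fun h => hne ?_
      have h2 := (hPirr p hpP).prime.dvd_of_dvd_pow h
      have h3 := (hPirr p hpP).associated_of_dvd (hPirr p' hp') h2
      have hn : ∀ z ∈ P, normalize z = z := fun z hz =>
        UniqueFactorizationMonoid.normalize_normalized_factor z (by simpa [hP] using hz)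
      rw [← hn p hpP, ← hn p' hp']
      exact (normalize_eq_normalize h3.dvd h3.symm.dvd).symm
    obtain ⟨t', ht'⟩ := hdq
    rw [← Module.End.mul_apply, ← map_mul, show m p * q p' = t' * μ from by rw [hm p hpP, ht']; ring,
      map_mul, hμ0, mul_zero, LinearMap.zero_apply]

open Polynomial in
theorem exists_cyclic_of_finrank {K : Type*} [Field K] {n : ℕ} (g : Matrix (Fin n) (Fin n) K)
    (h : Module.finrank K (Subalgebra.centralizer K ({g} : Set (Matrix (Fin n) (Fin n) K))) = n) :
    ∃ v : Fin n → K, ∀ c : Fin n → K,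
      (∑ i, c i • (g ^ (i : ℕ)).mulVec v) = 0 → c = 0 := by
  classical
  set f : Module.End K (Fin n → K) := Matrix.toLinAlgEquiv' g with hf
  obtain ⟨v, hv⟩ := exists_vector_minpoly f
  set μ := minpoly K f with hμdef
  have hμm : μ.Monic := minpoly.monic (Algebra.IsIntegral.isIntegral f)
  set d := μ.natDegree with hd
  have hμ0 : aeval f μ = 0 := minpoly.aeval K f
  let θ : (Fin n → K) → (Fin d → K) →ₗ[K] (Fin n → K) := fun u =>
    Fintype.linearCombination K (fun i : Fin d => (f ^ (i : ℕ)) u)
  have hθinj : Function.Injective (θ v) := by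
    rw [← LinearMap.ker_eq_bot, LinearMap.ker_eq_bot']
    intro c hc
    have h0 : aeval f (∑ i : Fin d, C (c i) * X ^ (i : ℕ)) v = 0 := by
      simpa [θ, Fintype.linearCombination_apply, map_sum, LinearMap.sum_apply,
        Algebra.algebraMap_eq_smul_one] using hc
    have h1 : (∑ i : Fin d, C (c i) * X ^ (i : ℕ)) = 0 := by
      refine Polynomial.eq_zero_of_dvd_of_degree_lt (hv _ h0) ?_
      calc _ < (d : WithBot ℕ) := degree_sum_fin_lt c
        _ = μ.degree := (degree_eq_natDegree hμm.ne_zero).symm
    funext i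
    have h2 := congrArg (fun p : K[X] => p.coeff (i : ℕ)) h1
    simpa [finsetSum_coeff, coeff_C_mul, coeff_X_pow, Fin.val_inj] using h2
  have hdn : d ≤ n := by simpa using LinearMap.finrank_le_finrank_of_injective hθinj
  rcases hdn.lt_or_eq with hlt | heq
  swap
  · refine ⟨v, fun c hc => ?_⟩
    have hcast : θ v (fun i => c (Fin.cast heq i)) = 0 := by
      rw [← hc, Fintype.linearCombination_apply]
      refine Fintype.sum_equiv (finCongr heq) _ _ (fun i => ?_)
      simp [hf, ← map_pow]
    have := hθinj (hcast.trans (map_zero (θ v)).symm)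
    funext i
    simpa using congrFun this (Fin.cast heq.symm i)
  exfalso
  haveI : NeZero n := ⟨by omega⟩
  have hd0 : 0 < d := minpoly.natDegree_pos (Algebra.IsIntegral.isIntegral f)
  obtain ⟨li, hli⟩ := (θ v).exists_leftInverse_of_injective (LinearMap.ker_eq_bot.mpr hθinj)
  let φ : (Fin n → K) →ₗ[K] K := (LinearMap.proj ⟨d - 1, by omega⟩) ∘ₗ li
  have hφ : ∀ i : Fin d, φ ((f ^ (i : ℕ)) v) = if (i : ℕ) = d - 1 then 1 else 0 := by
    intro i
    have h1 : (f ^ (i : ℕ)) v = θ v (Pi.single i 1) := by
      simp [θ, Fintype.linearCombination_apply, Pi.single_apply]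
    have h2 := LinearMap.congr_fun hli (Pi.single i (1 : K))
    simp only [LinearMap.comp_apply, LinearMap.id_apply] at h2
    simp only [φ, LinearMap.comp_apply, h1, h2, LinearMap.proj_apply, Pi.single_apply, Fin.ext_iff]
    simp [eq_comm]
  let Φ : (Fin n → K) →ₗ[K] (Fin d → K) := LinearMap.pi fun j => φ ∘ₗ (f ^ (j : ℕ))
  have hΦθ : Function.Injective (Φ ∘ₗ θ v) := by
    rw [← LinearMap.ker_eq_bot, LinearMap.ker_eq_bot']
    intro c hc
    by_contra hne
    obtain ⟨i1, hi1⟩ := Function.ne_iff.mp hne
    have hS : (Finset.univ.filter (fun i : Fin d => c i ≠ 0)).Nonempty := ⟨i1, by simpa using hi1⟩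
    set i0 := (Finset.univ.filter (fun i : Fin d => c i ≠ 0)).max' hS with hi0
    have hi0m : c i0 ≠ 0 := (Finset.mem_filter.mp (Finset.max'_mem _ hS)).2
    have h1 := congrFun hc ⟨d - 1 - i0, by omega⟩
    simp only [LinearMap.comp_apply, Φ, LinearMap.pi_apply, θ, Fintype.linearCombination_apply,
      map_sum, map_smul, Pi.zero_apply, smul_eq_mul] at h1
    rw [Finset.sum_eq_single i0 ?_ (by simp)] at h1
    · apply hi0m
      rw [← Module.End.mul_apply, ← pow_add] at h1
      have := hφ ⟨d - 1, by omega⟩
      simp only [if_true] at this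
      rw [show d - 1 - (i0 : ℕ) + i0 = d - 1 by omega, this, mul_one] at h1
      exact h1
    · intro i _ hne
      by_cases hci : c i = 0
      · simp [hci]
      have hle : i ≤ i0 := Finset.le_max' _ i (by simpa using hci)
      have hlt' : i < i0 := lt_of_le_of_ne hle hne
      rw [← Module.End.mul_apply, ← pow_add]
      have := hφ ⟨d - 1 - i0 + i, by omega⟩
      simp only at this
      rw [this, if_neg (by omega), mul_zero]
  let E : (Fin d → K) ≃ₗ[K] (Fin d → K) :=
    LinearEquiv.ofBijective (Φ ∘ₗ θ v) ⟨hΦθ, LinearMap.injective_iff_surjective.mp hΦθ⟩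
  let T : (Fin n → K) → Module.End K (Fin n → K) := fun u => θ u ∘ₗ E.symm.toLinearMap ∘ₗ Φ
  have hk : ∀ w, Φ w = 0 → Φ (f w) = 0 := by
    intro w hw
    funext j
    simp only [Φ, LinearMap.pi_apply, LinearMap.comp_apply, Pi.zero_apply]
    rw [← Module.End.mul_apply, ← pow_succ]
    by_cases hj : (j : ℕ) + 1 < d
    · exact congrFun hw ⟨(j : ℕ) + 1, hj⟩
    · have h1 : (f ^ d) + ∑ i ∈ Finset.range d, μ.coeff i • f ^ i = 0 := by
        have h2 := congrArg (aeval f) hμm.as_sum
        rw [hμ0] at h2
        simpa [map_sum, Algebra.smul_def] using h2.symm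
      rw [show (j : ℕ) + 1 = d by omega, eq_neg_of_add_eq_zero_left h1]
      simp only [LinearMap.neg_apply, LinearMap.sum_apply, LinearMap.smul_apply, map_neg, map_sum,
        map_smul, neg_eq_zero]
      refine Finset.sum_eq_zero fun i hi => ?_
      rw [show φ ((f ^ i) w) = 0 from congrFun hw ⟨i, Finset.mem_range.mp hi⟩, smul_zero]
  have hTf : ∀ u x, T u (f x) = f (T u x) := by
    intro u x
    set c := E.symm (Φ x) with hc
    have hw : Φ (x - θ v c) = 0 := by
      rw [map_sub, sub_eq_zero]
      exact (E.apply_symm_apply (Φ x)).symm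
    set qq : K[X] := ∑ i : Fin d, C (c i) * X ^ (i : ℕ) with hqq
    set r := (X * qq) %ₘ μ with hr
    let c' : Fin d → K := fun i => r.coeff i
    have hθc : ∀ u', θ u' c = aeval f qq u' := by
      intro u'
      simp [θ, qq, Fintype.linearCombination_apply, map_sum, LinearMap.sum_apply,
        Algebra.algebraMap_eq_smul_one]
    have hθc' : ∀ u', θ u' c' = aeval f r u' := by
      intro u'
      have hrd : r.natDegree < d := natDegree_modByMonic_lt _ hμm (by
        intro h1; rw [hd, h1, natDegree_one] at hd0; exact lt_irrefl _ hd0)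
      rw [aeval_eq_sum_range' hrd, LinearMap.sum_apply, Finset.sum_range (fun i => (r.coeff i • f ^ i) u')]
      simp [θ, c', Fintype.linearCombination_apply]
    have hrX : ∀ u', aeval f r u' = f (aeval f qq u') := by
      intro u'
      rw [hr, aeval_modByMonic_eq_self_of_root hμ0, map_mul, aeval_X, Module.End.mul_apply]
    have hc'eq : E.symm (Φ (f x)) = c' := by
      rw [LinearEquiv.symm_apply_eq]
      show Φ (f x) = Φ (θ v c')
      have := hk _ hw
      rw [map_sub, map_sub, sub_eq_zero] at this
      rw [this, hθc', hrX, hθc]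
    show θ u (E.symm (Φ (f x))) = f (θ u (E.symm (Φ x)))
    rw [hc'eq, ← hc, hθc', hrX, hθc]
  have hTv : ∀ u, T u v = u := by
    intro u
    have h1 : θ v (Pi.single ⟨0, hd0⟩ 1) = v := by
      simp [θ, Fintype.linearCombination_apply, Pi.single_apply]
    have h2 : E.symm (Φ v) = Pi.single ⟨0, hd0⟩ 1 := by
      rw [LinearEquiv.symm_apply_eq]; show Φ v = Φ (θ v _); rw [h1]
    show θ u (E.symm (Φ v)) = u
    rw [h2]
    simp [θ, Fintype.linearCombination_apply, Pi.single_apply]
  obtain ⟨w0, hw0, hw0ne⟩ : ∃ w0 : Fin n → K, Φ w0 = 0 ∧ w0 ≠ 0 := by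
    by_contra hcon
    push_neg at hcon
    have hinj : Function.Injective Φ := by
      rw [← LinearMap.ker_eq_bot, LinearMap.ker_eq_bot']; exact hcon
    have := LinearMap.finrank_le_finrank_of_injective hinj
    simp at this
    omega
  let L : ((Fin n → K) × K) →ₗ[K] Matrix (Fin n) (Fin n) K :=
    { toFun := fun p => Matrix.toLinAlgEquiv'.symm (T p.1 + p.2 • (1 - T v))
      map_add' := fun p p' => by
        rw [← map_add]; congr 1
        refine LinearMap.ext fun x => ?_
        simp [T, θ, Fintype.linearCombination_apply, Finset.sum_add_distrib, add_smul, smul_add]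
        abel
      map_smul' := fun a p => by
        rw [RingHom.id_apply, ← map_smul]; congr 1
        refine LinearMap.ext fun x => ?_
        simp [T, θ, Fintype.linearCombination_apply, Finset.smul_sum, smul_comm a, smul_smul, smul_add]
        rw [mul_comm] }
  have hLmem : ∀ p, L p ∈ Subalgebra.toSubmodule (Subalgebra.centralizer K ({g} : Set _)) := by
    intro p
    rw [Subalgebra.mem_toSubmodule, Subalgebra.mem_centralizer_iff]
    intro z hz
    rw [Set.mem_singleton_iff] at hz
    subst hz
    apply Matrix.toLinAlgEquiv'.injective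
    simp only [L, LinearMap.coe_mk, AddHom.coe_mk, map_mul, AlgEquiv.apply_symm_apply, ← hf]
    refine LinearMap.ext fun x => ?_
    simp [hTf, map_sub, map_add]
  have hLinj : Function.Injective L := by
    rw [← LinearMap.ker_eq_bot, LinearMap.ker_eq_bot']
    rintro ⟨u, a⟩ h0
    have h1 : T u + a • (1 - T v) = 0 := by
      apply Matrix.toLinAlgEquiv'.symm.injective
      simpa [L] using h0
    have hu : u = 0 := by
      simpa [hTv] using LinearMap.congr_fun h1 v
    have ha : a = 0 := by
      have h2 := LinearMap.congr_fun h1 w0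
      simp [T, hw0] at h2
      exact h2.resolve_right hw0ne
    simp [hu, ha]
  have hfr := LinearMap.finrank_le_finrank_of_injective
    (f := L.codRestrict _ hLmem) (fun a b hab => hLinj (congrArg Subtype.val hab))
  rw [Subalgebra.finrank_toSubmodule, h] at hfr
  simp at hfr

/-- General linear group case: this is the case G = GL_n (its derived group SL_n is simply connected and
every prime is good for it, so the hypotheses on the fundamental group and on the characteristic
that the general statement needs hold over every base, and strong regularity is regularity). Let A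
be a commutative ring and g an n × n matrix over A — a section of GL_n when invertible, or of its
Lie algebra gl_n = M_n in general, the centralizer being in both cases the invertible matrices
commuting with g — which is fiberwise regular, i.e. at every field-valued point A → K the commutant
of g_K in M_n(K) has dimension n, the rank of GL_n. Then the centralizer of g in GL_n is
commutative: for every commutative A-algebra B and all invertible x, y ∈ M_n(B) commuting with g_B,
x y = y x. -/
theorem result (A : Type u) [CommRing A] (n : ℕ)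
    (g : Matrix (Fin n) (Fin n) A)
    (hreg : ∀ (K : Type u) [Field K] (φ : A →+* K),
      Module.finrank K (Subalgebra.centralizer K ({g.map φ} : Set (Matrix (Fin n) (Fin n) K))) = n)
    (B : Type u) [CommRing B] [Algebra A B] (x y : Matrix (Fin n) (Fin n) B) (hx : IsUnit x) (hy : IsUnit y)
    (hxg : x * g.map (algebraMap A B) = g.map (algebraMap A B) * x)
    (hyg : y * g.map (algebraMap A B) = g.map (algebraMap A B) * y) :
    x * y = y * x := by
  classical
  ext i j
  refine Module.eq_of_localization_maximal (R := B) (M := B)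
    (fun P [P.IsMaximal] => Localization.AtPrime P)
    (fun P [P.IsMaximal] => Algebra.linearMap B (Localization.AtPrime P)) _ _ (fun P hP => ?_)
  simp only [Algebra.linearMap_apply]
  set L := Localization.AtPrime P
  let ψ : A →+* L := (algebraMap B L).comp (algebraMap A B)
  set G : Matrix (Fin n) (Fin n) L := g.map ψ with hG
  obtain ⟨v₀, hv₀⟩ := exists_cyclic_of_finrank (g.map ((IsLocalRing.residue L).comp ψ))
    (hreg (IsLocalRing.ResidueField L) _)
  choose v hv using fun i => IsLocalRing.residue_surjective (v₀ i)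
  let W : Matrix (Fin n) (Fin n) L := Matrix.of fun r c => ((G ^ (c : ℕ)).mulVec v) r
  have hW : IsUnit W := by
    rw [Matrix.isUnit_iff_isUnit_det]
    by_contra hnu
    have h0 : (W.map (IsLocalRing.residue L)).det = 0 := by
      rw [← RingHom.mapMatrix_apply, ← RingHom.map_det, IsLocalRing.residue_eq_zero_iff]
      exact hnu
    obtain ⟨c, hc0, hc⟩ := Matrix.exists_mulVec_eq_zero_iff.mpr h0
    apply hc0
    apply hv₀
    rw [← hc]
    funext r
    simp only [Finset.sum_apply, Pi.smul_apply, smul_eq_mul, Matrix.mulVec, dotProduct, W,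
      Matrix.map_apply, Matrix.of_apply, map_sum, map_mul, hv]
    refine Finset.sum_congr rfl fun i' _ => ?_
    rw [mul_comm (c i')]
    congr 1
    refine Finset.sum_congr rfl fun l _ => ?_
    congr 1
    have : (g.map ((IsLocalRing.residue L).comp ψ)) = (IsLocalRing.residue L).mapMatrix G := by
      ext; simp [hG, ψ]
    rw [this, ← map_pow]; rfl
  have key : ∀ z : Matrix (Fin n) (Fin n) B, z * g.map (algebraMap A B) = g.map (algebraMap A B) * z →
      ∃ p : Polynomial L, z.map (algebraMap B L) = Polynomial.aeval G p := by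
    intro z hz
    set Z := z.map (algebraMap B L) with hZ
    have hZG : Commute Z G := by
      have := congrArg (fun M : Matrix (Fin n) (Fin n) B => M.map (algebraMap B L)) hz
      simp only [Matrix.map_mul, Matrix.map_map] at this
      exact this
    obtain ⟨c, hc⟩ := (Matrix.mulVec_surjective_iff_isUnit.mpr hW) (Z.mulVec v)
    let p : Polynomial L := ∑ i : Fin n, Polynomial.C (c i) * Polynomial.X ^ (i : ℕ)
    refine ⟨p, ?_⟩
    set Q := Polynomial.aeval G p with hQ
    have hQv : Q.mulVec v = Z.mulVec v := by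
      rw [← hc]
      funext r
      simp only [hQ, p, map_sum, map_mul, map_pow, Polynomial.aeval_X, Polynomial.aeval_C,
        Matrix.sum_mulVec, Finset.sum_apply, ← Algebra.smul_def, Matrix.smul_mulVec, Pi.smul_apply, smul_eq_mul]
      simp [Matrix.mulVec, dotProduct, W, mul_comm]
    have hQG : Commute Q G := by
      have := congrArg (Polynomial.aeval G) (mul_comm p Polynomial.X)
      rw [map_mul, map_mul, Polynomial.aeval_X] at this
      exact this
    have hcol : Z * W = Q * W := by
      ext r c'
      have e : ∀ M : Matrix (Fin n) (Fin n) L, Commute M G →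
          (M * W) r c' = ((G ^ (c' : ℕ)).mulVec (M.mulVec v)) r := by
        intro M hM
        rw [Matrix.mulVec_mulVec, ← (hM.pow_right (c' : ℕ)).eq, ← Matrix.mulVec_mulVec]
        simp [Matrix.mul_apply, W, Matrix.mulVec, dotProduct]
      rw [e Z hZG, e Q hQG, hQv]
    exact hW.mul_left_injective hcol
  obtain ⟨p, hp⟩ := key x hxg
  obtain ⟨q, hq⟩ := key y hyg
  have hh : (x * y).map (algebraMap B L) = (y * x).map (algebraMap B L) := by
    rw [Matrix.map_mul, Matrix.map_mul, hp, hq, ← map_mul, ← map_mul, mul_comm]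
  exact congrFun (congrFun hh i) j

end Groth.Agent.S15842
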