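import Groth.Statements.S15843

import Groth.Agent.S15842
import Mathlib.RingTheory.Flat.Localization
import Mathlib.LinearAlgebra.Matrix.MvPolynomial
import Mathlib.RingTheory.Flat.Stability
import Mathlib.RingTheory.Localization.BaseChange

set_option autoImplicit false
universe u
open SprIso

namespace Groth.Agent.S15843

/-- Column matrix v, Gv, …, G^{n-1}v. -/
def colMat {T : Type*} [CommRing T] {n : ℕ} (G : Matrix (Fin n) (Fin n) T) (v : Fin n → T) :
    Matrix (Fin n) (Fin n) T := Matrix.of fun r c => ((G ^ (c : ℕ)).mulVec v) r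

theorem colMat_map {T T' : Type*} [CommRing T] [CommRing T'] {n : ℕ} (h : T →+* T')
    (G : Matrix (Fin n) (Fin n) T) (v : Fin n → T) :
    (colMat G v).map h = colMat (G.map h) (h ∘ v) := by
  ext r c
  simp only [colMat, Matrix.map_apply, Matrix.of_apply, Matrix.mulVec, dotProduct, map_sum, map_mul,
    Function.comp_apply]
  refine Finset.sum_congr rfl fun l _ => ?_
  congr 1
  rw [← RingHom.mapMatrix_apply, ← map_pow]; rfl

theorem colMat_mulVec {T : Type*} [CommRing T] {n : ℕ} (G : Matrix (Fin n) (Fin n) T) (v : Fin n → T)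
    (c : Fin n → T) :
    (colMat G v).mulVec c = (∑ i : Fin n, c i • G ^ (i : ℕ)).mulVec v := by
  funext r
  simp [colMat, Matrix.mulVec, dotProduct, Matrix.sum_apply, Finset.mul_sum, mul_comm,
    mul_left_comm]
  rw [Finset.sum_comm]

theorem comm_eq {T : Type*} [CommRing T] {n : ℕ} (G : Matrix (Fin n) (Fin n) T) (v : Fin n → T)
    (Wi : Matrix (Fin n) (Fin n) T) (hWi : colMat G v * Wi = 1)
    (Z : Matrix (Fin n) (Fin n) T) (hZ : Commute Z G) :
    Z = ∑ i : Fin n, (Wi.mulVec (Z.mulVec v)) i • G ^ (i : ℕ) := by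
  set c := Wi.mulVec (Z.mulVec v) with hc
  set Q := ∑ i : Fin n, c i • G ^ (i : ℕ) with hQ
  have hQv : Q.mulVec v = Z.mulVec v := by
    rw [hQ, ← colMat_mulVec, hc, Matrix.mulVec_mulVec, hWi, Matrix.one_mulVec]
  have hQG : Commute Q G :=
    Commute.sum_left _ _ _ fun i _ => ((Commute.refl G).pow_left _).smul_left (c i)
  have hcol : Z * colMat G v = Q * colMat G v := by
    ext r c'
    have e : ∀ M : Matrix (Fin n) (Fin n) T, Commute M G →
        (M * colMat G v) r c' = ((G ^ (c' : ℕ)).mulVec (M.mulVec v)) r := by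
      intro M hM
      rw [Matrix.mulVec_mulVec, ← (hM.pow_right (c' : ℕ)).eq, ← Matrix.mulVec_mulVec]
      simp [Matrix.mul_apply, colMat, Matrix.mulVec, dotProduct]
    rw [e Z hZ, e Q hQG, hQv]
  calc Z = Z * colMat G v * Wi := by rw [mul_assoc, hWi, mul_one]
    _ = Q * colMat G v * Wi := by rw [hcol]
    _ = Q := by rw [mul_assoc, hWi, mul_one]

theorem exists_cyclic_local {L : Type*} [CommRing L] [IsLocalRing L] {n : ℕ} (G : Matrix (Fin n) (Fin n) L)
    (h : Module.finrank (IsLocalRing.ResidueField L) (Subalgebra.centralizer (IsLocalRing.ResidueField L)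
      ({G.map (IsLocalRing.residue L)} : Set (Matrix (Fin n) (Fin n) (IsLocalRing.ResidueField L)))) = n) :
    ∃ v : Fin n → L, IsUnit (colMat G v) := by
  obtain ⟨v₀, hv₀⟩ := Groth.Agent.S15842.exists_cyclic_of_finrank _ h
  choose v hv using fun i => IsLocalRing.residue_surjective (v₀ i)
  refine ⟨v, ?_⟩
  rw [Matrix.isUnit_iff_isUnit_det]
  by_contra hnu
  have h0 : ((colMat G v).map (IsLocalRing.residue L)).det = 0 := by
    rw [← RingHom.mapMatrix_apply, ← RingHom.map_det, IsLocalRing.residue_eq_zero_iff]
    exact hnu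
  obtain ⟨c, hc0, hc⟩ := Matrix.exists_mulVec_eq_zero_iff.mpr h0
  apply hc0
  apply hv₀
  have : (IsLocalRing.residue L) ∘ v = v₀ := funext hv
  rw [colMat_map, this, colMat_mulVec, Matrix.sum_mulVec] at hc
  simpa [Matrix.smul_mulVec] using hc

set_option maxHeartbeats 1000000

/-- The flatness assertion, for a section of the group and equally for a section of its Lie algebra, in
the case G = GL_n (its derived group SL_n is simply connected and every prime is good for it, so the
hypotheses on the fundamental group and on the characteristic that the general statement needs hold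
over every base, and strong regularity is regularity). Let A be a commutative ring and g an n × n
matrix over A — a section of GL_n when invertible, of its Lie algebra gl_n in general; in both cases
the centralizer in GL_n is the scheme of invertible matrices commuting with g — which is fiberwise
regular (at every field-valued point A → K the commutant of g_K in M_n(K) has dimension n). Then the
centralizer Z_{GL_n}(g) is flat over A; concretely, with X the generic n × n matrix over A[x_ij],
the ring obtained from A[x_ij] by dividing by the entries of X g − g X and inverting det X is a flat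
A-module. -/
theorem result (A : Type u) [CommRing A] (n : ℕ)
    (g : Matrix (Fin n) (Fin n) A)
    (hreg : ∀ (K : Type u) [Field K] (φ : A →+* K),
      Module.finrank K (Subalgebra.centralizer K ({g.map φ} : Set (Matrix (Fin n) (Fin n) K))) = n) :
    Module.Flat A (Localization.Away
      (Ideal.Quotient.mk (Ideal.span (Set.range fun ij : Fin n × Fin n =>
        (Matrix.mvPolynomialX (Fin n) (Fin n) A * g.map MvPolynomial.C -
          g.map MvPolynomial.C * Matrix.mvPolynomialX (Fin n) (Fin n) A :
            Matrix (Fin n) (Fin n) (MvPolynomial (Fin n × Fin n) A)) ij.1 ij.2))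
        (Matrix.mvPolynomialX (Fin n) (Fin n) A).det)) := by
  classical
  set I : Ideal (MvPolynomial (Fin n × Fin n) A) := Ideal.span (Set.range fun ij : Fin n × Fin n =>
        (Matrix.mvPolynomialX (Fin n) (Fin n) A * g.map MvPolynomial.C -
          g.map MvPolynomial.C * Matrix.mvPolynomialX (Fin n) (Fin n) A :
            Matrix (Fin n) (Fin n) (MvPolynomial (Fin n × Fin n) A)) ij.1 ij.2) with hI
  suffices hR : Module.Flat A (MvPolynomial (Fin n × Fin n) A ⧸ I) from
    Module.Flat.trans A (MvPolynomial (Fin n × Fin n) A ⧸ I) _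
  refine Module.flat_of_localized_maximal (MvPolynomial (Fin n × Fin n) A ⧸ I) (fun P hP => ?_)
  haveI hloc : IsLocalizedModule P.primeCompl
      (IsScalarTower.toAlgHom A (MvPolynomial (Fin n × Fin n) A ⧸ I)
        (Localization (Algebra.algebraMapSubmonoid (MvPolynomial (Fin n × Fin n) A ⧸ I) P.primeCompl))).toLinearMap :=
    (isLocalizedModule_iff_isLocalization (R := A) (S := P.primeCompl)
      (A := MvPolynomial (Fin n × Fin n) A ⧸ I)
      (Aₛ := Localization (Algebra.algebraMapSubmonoid (MvPolynomial (Fin n × Fin n) A ⧸ I) P.primeCompl))).mpr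
      inferInstance
  suffices Module.Flat A
      (Localization (Algebra.algebraMapSubmonoid (MvPolynomial (Fin n × Fin n) A ⧸ I) P.primeCompl)) from
    Module.Flat.of_linearEquiv (IsLocalizedModule.iso P.primeCompl
      (IsScalarTower.toAlgHom A (MvPolynomial (Fin n × Fin n) A ⧸ I)
        (Localization (Algebra.algebraMapSubmonoid (MvPolynomial (Fin n × Fin n) A ⧸ I) P.primeCompl))).toLinearMap)
  set R := MvPolynomial (Fin n × Fin n) A ⧸ I
  set M := Algebra.algebraMapSubmonoid R P.primeCompl
  set RP := Localization M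
  set AP := Localization.AtPrime P
  let ι : A →+* AP := algebraMap A AP
  obtain ⟨v, hv⟩ := exists_cyclic_local (g.map ι) (by
    rw [Matrix.map_map, ← RingHom.coe_comp]
    exact hreg (IsLocalRing.ResidueField AP) ((IsLocalRing.residue AP).comp ι))
  obtain ⟨Wi, hWi, -⟩ := isUnit_iff_exists.mp hv
  have hu : ∀ y : P.primeCompl, IsUnit (algebraMap A RP y) := fun y => by
    rw [IsScalarTower.algebraMap_apply A R RP]
    exact IsLocalization.map_units RP (⟨algebraMap A R y, Algebra.mem_algebraMapSubmonoid_of_mem y⟩ : M)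
  let h1 : AP →+* RP := @IsLocalization.lift A _ P.primeCompl AP _ _ RP _ _ (algebraMap A RP) hu
  have h1ι : ∀ a, h1 (ι a) = algebraMap A RP a := fun a => IsLocalization.lift_eq hu a
  let xbar : Matrix (Fin n) (Fin n) RP := Matrix.of fun i j =>
    algebraMap R RP (Ideal.Quotient.mk I (MvPolynomial.X (i, j)))
  let G2 : Matrix (Fin n) (Fin n) RP := g.map (algebraMap A RP)
  have hcomm : Commute xbar G2 := by
    let F : MvPolynomial (Fin n × Fin n) A →+* RP := (algebraMap R RP).comp (Ideal.Quotient.mk I)
    have hF : ∀ ij : Fin n × Fin n, F ((Matrix.mvPolynomialX (Fin n) (Fin n) A * g.map MvPolynomial.C -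
          g.map MvPolynomial.C * Matrix.mvPolynomialX (Fin n) (Fin n) A :
            Matrix (Fin n) (Fin n) (MvPolynomial (Fin n × Fin n) A)) ij.1 ij.2) = 0 := by
      intro ij
      simp only [F, RingHom.comp_apply]
      refine (congrArg _ (Ideal.Quotient.eq_zero_iff_mem.mpr ?_)).trans (map_zero _)
      exact Ideal.subset_span ⟨ij, rfl⟩
    have h2 : xbar = F.mapMatrix (Matrix.mvPolynomialX (Fin n) (Fin n) A) := rfl
    have h3 : G2 = F.mapMatrix (g.map MvPolynomial.C) := by
      ext i j
      simp only [G2, Matrix.map_apply, RingHom.mapMatrix_apply]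
      rw [IsScalarTower.algebraMap_apply A R RP]
      rfl
    show xbar * G2 = G2 * xbar
    rw [← sub_eq_zero, h2, h3, ← map_mul, ← map_mul, ← map_sub]
    ext i j
    exact hF (i, j)
  let cc : Fin n → RP := (Wi.map h1).mulVec (xbar.mulVec (h1 ∘ v))
  let ψ : (MvPolynomial (Fin n) AP) →+* RP := MvPolynomial.eval₂Hom h1 cc
  let X' : Matrix (Fin n) (Fin n) (MvPolynomial (Fin n) AP) :=
    ∑ i : Fin n, (MvPolynomial.X i : (MvPolynomial (Fin n) AP)) • ((g.map ι).map (MvPolynomial.C (R := AP))) ^ (i : ℕ)
  let e : MvPolynomial (Fin n × Fin n) A →ₐ[A] (MvPolynomial (Fin n) AP) := MvPolynomial.aeval fun p => X' p.1 p.2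
  have heI : ∀ a ∈ I, e a = 0 := by
    intro a ha
    refine (Ideal.span_le.mpr ?_ : I ≤ RingHom.ker e.toRingHom) ha
    rintro _ ⟨ij, rfl⟩
    rw [SetLike.mem_coe, RingHom.mem_ker]
    have h2 : e.toRingHom.mapMatrix (Matrix.mvPolynomialX (Fin n) (Fin n) A) = X' := by
      ext i j; simp [e, Matrix.mvPolynomialX_apply]
    have h3 : e.toRingHom.mapMatrix (g.map MvPolynomial.C) = (g.map ι).map MvPolynomial.C := by
      ext i j; simp [e, ι, MvPolynomial.algebraMap_apply]
    have hc : Commute X' ((g.map ι).map MvPolynomial.C) :=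
      Commute.sum_left _ _ _ fun i _ => ((Commute.refl _).pow_left _).smul_left _
    have : e.toRingHom.mapMatrix (Matrix.mvPolynomialX (Fin n) (Fin n) A * g.map MvPolynomial.C -
          g.map MvPolynomial.C * Matrix.mvPolynomialX (Fin n) (Fin n) A) = 0 := by
      rw [map_sub, map_mul, map_mul, h2, h3, hc.eq, sub_self]
    exact congrFun (congrFun this ij.1) ij.2
  let φ0 : R →ₐ[A] (MvPolynomial (Fin n) AP) := Ideal.Quotient.liftₐ I e heI
  have hMu : ∀ y : M, IsUnit (φ0.toRingHom y) := by
    rintro ⟨_, a, ha, rfl⟩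
    rw [show φ0.toRingHom (algebraMap A R a) = algebraMap A (MvPolynomial (Fin n) AP) a from φ0.commutes a,
      IsScalarTower.algebraMap_apply A AP (MvPolynomial (Fin n) AP)]
    exact (IsLocalization.map_units AP (⟨a, ha⟩ : P.primeCompl)).map _
  let φ : RP →+* (MvPolynomial (Fin n) AP) := @IsLocalization.lift R _ M RP _ _ (MvPolynomial (Fin n) AP) _ _ φ0.toRingHom hMu
  have hφ : ∀ r, φ (algebraMap R RP r) = φ0 r := fun r => IsLocalization.lift_eq hMu r
  have hφ1 : φ.comp h1 = MvPolynomial.C := by
    refine IsLocalization.ringHom_ext P.primeCompl (RingHom.ext fun a => ?_)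
    simp only [RingHom.comp_apply]
    rw [show h1 (algebraMap A AP a) = algebraMap A RP a from h1ι a,
      IsScalarTower.algebraMap_apply A R RP, hφ, φ0.commutes]
    rfl
  have hxφ : xbar.map φ = X' := by
    refine Matrix.ext fun i j => ?_
    show φ (algebraMap R RP _) = X' i j
    rw [hφ]
    show e (MvPolynomial.X (i, j)) = X' i j
    exact MvPolynomial.aeval_X _ _
  have hψφ : ψ.comp φ = RingHom.id RP := by
    refine @IsLocalization.ringHom_ext R _ M RP _ _ _ RP _ _ _ ?_
    refine Ideal.Quotient.ringHom_ext (MvPolynomial.ringHom_ext (fun a => ?_) (fun p => ?_))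
    · simp only [RingHom.comp_apply, RingHom.id_apply]
      rw [hφ, show φ0 (Ideal.Quotient.mk I (MvPolynomial.C a)) = algebraMap A (MvPolynomial (Fin n) AP) a from φ0.commutes a,
        IsScalarTower.algebraMap_apply A AP (MvPolynomial (Fin n) AP), MvPolynomial.algebraMap_eq]
      simp only [ψ, MvPolynomial.eval₂Hom_C]
      rw [show h1 (algebraMap A AP a) = algebraMap A RP a from h1ι a, IsScalarTower.algebraMap_apply A R RP]
      rfl
    · obtain ⟨i, j⟩ := p
      simp only [RingHom.comp_apply, RingHom.id_apply]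
      rw [hφ, show φ0 (Ideal.Quotient.mk I (MvPolynomial.X (i, j))) = X' i j from MvPolynomial.aeval_X _ _]
      have hG2 : (g.map ι).map h1 = G2 := by ext; simp [G2, h1ι]
      have hWi2 : colMat G2 (h1 ∘ v) * Wi.map h1 = 1 := by
        rw [← hG2, ← colMat_map, ← Matrix.map_mul, hWi, Matrix.map_one _ h1.map_zero h1.map_one]
      have key := comm_eq G2 (h1 ∘ v) (Wi.map h1) hWi2 xbar hcomm
      have hψX : ψ.mapMatrix X' = xbar := by
        conv_rhs => rw [key]
        have hsm : ∀ (s : (MvPolynomial (Fin n) AP)) (N : Matrix (Fin n) (Fin n) (MvPolynomial (Fin n) AP)), ψ.mapMatrix (s • N) = ψ s • ψ.mapMatrix N :=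
          fun s N => by ext; simp
        simp only [X', map_sum, hsm, map_pow]
        refine Finset.sum_congr rfl fun i _ => ?_
        congr 1
        · simp [ψ, cc]
        · congr 1
          rw [← hG2]
          ext; simp [ψ]
      exact congrFun (congrFun hψX i) j
  have hφψ : φ.comp ψ = RingHom.id (MvPolynomial (Fin n) AP) := by
    refine MvPolynomial.ringHom_ext (fun a => ?_) (fun i => ?_)
    · simp only [RingHom.comp_apply, RingHom.id_apply, ψ, MvPolynomial.eval₂Hom_C]
      exact RingHom.congr_fun hφ1 a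
    · simp only [RingHom.comp_apply, RingHom.id_apply, ψ, MvPolynomial.eval₂Hom_X', cc]
      rw [RingHom.map_mulVec]
      have h2 : φ ∘ (xbar.mulVec (h1 ∘ v)) = X'.mulVec (MvPolynomial.C ∘ v) := by
        funext r
        rw [Function.comp_apply, RingHom.map_mulVec, hxφ, ← Function.comp_assoc, ← RingHom.coe_comp, hφ1]
      rw [h2, Matrix.map_map, ← RingHom.coe_comp, hφ1]
      simp only [X']
      rw [← colMat_mulVec, ← colMat_map MvPolynomial.C, Matrix.mulVec_mulVec, ← Matrix.map_mul,
        mul_eq_one_comm.mp hWi, Matrix.map_one _ (map_zero _) (map_one _), Matrix.one_mulVec]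
  let ee : (MvPolynomial (Fin n) AP) ≃ₐ[A] RP :=
    { RingEquiv.ofRingHom ψ φ hψφ hφψ with
      commutes' := fun a => by
        show ψ (algebraMap A (MvPolynomial (Fin n) AP) a) = _
        rw [IsScalarTower.algebraMap_apply A AP (MvPolynomial (Fin n) AP), MvPolynomial.algebraMap_eq]
        exact (MvPolynomial.eval₂Hom_C h1 cc _).trans (h1ι a) }
  haveI : Module.Flat A (MvPolynomial (Fin n) AP) := Module.Flat.trans A AP (MvPolynomial (Fin n) AP)
  exact Module.Flat.of_linearEquiv ee.toLinearEquiv.symm

end Groth.Agent.S15843
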