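import Groth.Statements.S15844

import Groth.Agent.S15842

set_option autoImplicit false
universe u
open SprIso

namespace Groth.Agent.S15844

/-- General linear group case: this is the case G = GL_n (derived group SL_n simply connected, all
primes good). Let A be a commutative ring, u an n × n matrix over A with characteristic polynomial
(t − 1)^n (a section of the unipotent scheme) and X one with characteristic polynomial t^n (a
section of the nilpotent scheme), both fiberwise regular — at every field-valued point A → K the
commutant in M_n(K) has dimension n — and suppose X commutes with u (X lies in the Lie algebra of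
the centralizer of u). Then Z(u) = Z(X) inside GL_n: for every commutative A-algebra B and every
invertible x ∈ M_n(B), x commutes with u_B if and only if x commutes with X_B. -/
theorem result (A : Type u) [CommRing A] (n : ℕ)
    (u X : Matrix (Fin n) (Fin n) A)
    (hu : u.charpoly = (Polynomial.X - 1) ^ n) (hX : X.charpoly = Polynomial.X ^ n)
    (hureg : ∀ (K : Type u) [Field K] (φ : A →+* K),
      Module.finrank K (Subalgebra.centralizer K ({u.map φ} : Set (Matrix (Fin n) (Fin n) K))) = n)
    (hXreg : ∀ (K : Type u) [Field K] (φ : A →+* K),
      Module.finrank K (Subalgebra.centralizer K ({X.map φ} : Set (Matrix (Fin n) (Fin n) K))) = n)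
    (hXu : X * u = u * X)
    (B : Type u) [CommRing B] [Algebra A B] (x : Matrix (Fin n) (Fin n) B) (hx : IsUnit x) :
    x * u.map (algebraMap A B) = u.map (algebraMap A B) * x ↔
      x * X.map (algebraMap A B) = X.map (algebraMap A B) * x := by
  classical
  have hXn : X ^ n = 0 := by
    have h := Matrix.aeval_self_charpoly X
    rwa [hX, map_pow, Polynomial.aeval_X] at h
  have hun : (u - 1) ^ n = 0 := by
    have h := Matrix.aeval_self_charpoly u
    rwa [hu, map_pow, map_sub, Polynomial.aeval_X, map_one] at h
  set f := (algebraMap A B).mapMatrix (m := Fin n) with hf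
  have hX1 : IsUnit (f (X + 1)) := (IsNilpotent.isUnit_add_one ⟨n, hXn⟩).map f
  have hu1 : IsUnit (f u) := by
    have h0 : IsUnit (u - 1 + 1) := IsNilpotent.isUnit_add_one ⟨n, hun⟩
    rw [sub_add_cancel] at h0
    exact h0.map f
  have hc : f X * f u = f u * f X := by rw [← map_mul, ← map_mul, hXu]
  change x * f u = f u * x ↔ x * f X = f X * x
  constructor
  · intro h
    have h1 := S15842.result A n u hureg B x (f (X + 1)) hx hX1 h (by
      show f (X + 1) * f u = f u * f (X + 1)
      rw [map_add, map_one, add_mul, mul_add, hc, _root_.one_mul, _root_.mul_one])
    rw [map_add, map_one, mul_add, add_mul, _root_.mul_one, _root_.one_mul] at h1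
    exact add_right_cancel h1
  · intro h
    exact S15842.result A n X hXreg B x (f u) hx hu1 h hc.symm

end Groth.Agent.S15844
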