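import Groth.Statements.S15845


set_option autoImplicit false
universe u
open SprIso

namespace Groth.Agent.S15845


theorem lower_zero {n : ℕ} {R : Type u} [CommRing R] (x N : Matrix (Fin n) (Fin n) R)
    (hN : ∀ i j : Fin n, j ≤ i → N i j = 0)
    (hs : ∀ i j : Fin n, j.val = i.val + 1 → IsUnit (N i j))
    (hc : x * N = N * x)
    (i j : Fin n) (hji : j < i) : x i j = 0 := by
  have hj1 : j.val + 1 < n := by have := i.isLt; omega
  let m : Fin n := ⟨j.val + 1, hj1⟩
  have h := congrFun (congrFun hc i) m
  rw [Matrix.mul_apply, Matrix.mul_apply] at h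
  have hL : ∑ l, x i l * N l m = x i j * N j m := by
    refine Finset.sum_eq_single j (fun l _ hl => ?_) (by simp)
    rcases lt_or_gt_of_ne hl with hlt | hgt
    · rw [lower_zero x N hN hs hc i l (hlt.trans hji), zero_mul]
    · rw [hN l m (by show j.val + 1 ≤ l.val; exact hgt), mul_zero]
  rw [hL] at h
  suffices hR : ∑ l, N i l * x l m = 0 by
    rw [hR] at h
    exact ((hs j m rfl).mul_left_eq_zero).mp h
  refine Finset.sum_eq_zero fun l _ => ?_
  rcases le_or_gt l i with hli | hli
  · rw [hN i l hli, zero_mul]
  · rw [lower_zero x N hN hs hc l m (by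
      show j.val + 1 < l.val
      have h1 : j.val < i.val := hji
      have h2 : i.val < l.val := hli
      omega), mul_zero]
termination_by (n - (i.val - j.val), n - i.val)
decreasing_by
  · simp_wf
    apply Prod.Lex.left
    have h1 : l.val < j.val := hlt
    have h2 : j.val < i.val := hji
    omega
  · simp_wf
    have h2 : i.val < l.val := hli
    have h1 : j.val < i.val := hji
    have h3 := l.isLt
    rcases Nat.lt_or_ge (n - (l.val - (j.val + 1))) (n - (i.val - j.val)) with h | h
    · exact Prod.Lex.left _ _ h
    · have heq : n - (l.val - (j.val + 1)) = n - (i.val - j.val) := by omega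
      rw [heq]
      exact Prod.Lex.right _ (by omega)

theorem diag_eq {n : ℕ} {R : Type u} [CommRing R] (x N : Matrix (Fin n) (Fin n) R)
    (hN : ∀ i j : Fin n, j ≤ i → N i j = 0)
    (hs : ∀ i j : Fin n, j.val = i.val + 1 → IsUnit (N i j))
    (hc : x * N = N * x) (i j : Fin n) (hij : j.val = i.val + 1) : x i i = x j j := by
  have hz := lower_zero x N hN hs hc
  have h := congrFun (congrFun hc i) j
  rw [Matrix.mul_apply, Matrix.mul_apply] at h
  rw [Finset.sum_eq_single i (fun l _ hl => ?_) (by simp),
    Finset.sum_eq_single j (fun l _ hl => ?_) (by simp)] at h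
  · rw [mul_comm (N i j)] at h
    exact (hs i j hij).mul_right_cancel h
  · rcases le_or_gt l i with hli | hli
    · rw [hN i l hli, zero_mul]
    · rw [hz l j (by
        show j.val < l.val
        have h2 : i.val < l.val := hli
        have h3 : l.val ≠ j.val := fun e => hl (Fin.ext e)
        omega), mul_zero]
  · rcases lt_or_gt_of_ne hl with hlt | hgt
    · rw [hz i l hlt, zero_mul]
    · rw [hN l j (by
        show j.val ≤ l.val
        have : i.val < l.val := hgt
        omega), mul_zero]
/-- General linear group case: this is the case G = GL_n with its upper-triangular Borel subgroup B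
(derived group SL_n simply connected, all primes good, so the hypotheses on the characteristic
hold), together with the companion statement for a regular nilpotent element of Lie B. Let k be a
field and u an n × n upper-triangular matrix over k whose diagonal entries are all equal and whose
superdiagonal entries u_{i,i+1} are all non-zero — for diagonal 1 this is a regular unipotent
element of B(k), for diagonal 0 a regular nilpotent element of Lie B. Then the centralizer of u in
GL_n is contained in B and is the product of the centre with the centralizer in the unipotent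
radical: for every commutative k-algebra R and every invertible x ∈ M_n(R) commuting with u_R, x is
upper triangular and its diagonal entries are all equal. (The smoothness of the centralizer in the
unipotent radical, also part of the published statement, is not stated here.) -/
theorem result (k : Type u) [Field k] (n : ℕ)
    (u : Matrix (Fin n) (Fin n) k) (htri : ∀ i j : Fin n, j < i → u i j = 0) (hdiag : ∀ i j : Fin n, u i i = u j j)
    (hreg : ∀ (i j : Fin n), j.val = i.val + 1 → u i j ≠ 0)
    (R : Type u) [CommRing R] [Algebra k R] (x : Matrix (Fin n) (Fin n) R) (hx : IsUnit x)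
    (hxu : x * u.map (algebraMap k R) = u.map (algebraMap k R) * x) :
    (∀ i j : Fin n, j < i → x i j = 0) ∧ (∀ i j : Fin n, x i i = x j j) := by
  by_cases hn : n = 0
  · subst hn
    exact ⟨fun i => i.elim0, fun i => i.elim0⟩
  haveI : NeZero n := ⟨hn⟩
  set c : R := algebraMap k R (u 0 0) with hc
  set U : Matrix (Fin n) (Fin n) R := u.map (algebraMap k R) with hU
  set N : Matrix (Fin n) (Fin n) R := U - c • 1 with hNdef
  have hcomm : x * N = N * x := by
    rw [hNdef, mul_sub, sub_mul, hxu, mul_smul_comm, smul_mul_assoc, _root_.mul_one, _root_.one_mul]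
  have hN : ∀ i j : Fin n, j ≤ i → N i j = 0 := by
    intro i j hji
    rcases eq_or_lt_of_le hji with h | h
    · subst h
      simp [hNdef, hU, hc, hdiag j 0, Algebra.algebraMap_eq_smul_one]
    · simp [hNdef, hU, hc, htri i j h, Matrix.one_apply_ne (ne_of_gt h)]
  have hs : ∀ i j : Fin n, j.val = i.val + 1 → IsUnit (N i j) := by
    intro i j hij
    have hne : i ≠ j := by intro e; subst e; omega
    have : N i j = algebraMap k R (u i j) := by simp [hNdef, hU, Matrix.one_apply_ne hne]
    rw [this]
    exact (isUnit_iff_ne_zero.mpr (hreg i j hij)).map _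
  refine ⟨lower_zero x N hN hs hcomm, ?_⟩
  have h0 : ∀ m : ℕ, ∀ h : m < n, x 0 0 = x ⟨m, h⟩ ⟨m, h⟩ := by
    intro m
    induction m with
    | zero => intro h; rfl
    | succ m ih =>
      intro h
      exact (ih (by omega)).trans (diag_eq x N hN hs hcomm ⟨m, by omega⟩ ⟨m + 1, h⟩ rfl)
  intro i j
  exact ((h0 i.val i.isLt).symm).trans (h0 j.val j.isLt)

end Groth.Agent.S15845
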