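import Groth.Statements.S15849
import Groth.Agent.Lib.ShStab.SurfExt

set_option autoImplicit false
universe u
open CategoryTheory CategoryTheory.Limits AlgebraicGeometry
open ShStab

namespace Groth.Agent.S15849

open Groth.Agent.Lib Groth.Agent.Lib.ShStab SubLattice Interval PolyOrder SurfExt StabCat Polynomial

theorem coeff_comp_two {P : ℚ[X]} (hP : P.natDegree ≤ 2) (c : ℚ) :
    alpha 2 (P.comp (Polynomial.X + C c)) = alpha 2 P ∧
      alpha 1 (P.comp (Polynomial.X + C c)) = alpha 1 P + c * alpha 2 P := by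
  have e : P = C (P.coeff 0) + C (P.coeff 1) * Polynomial.X + C (P.coeff 2) * Polynomial.X ^ 2 := by
    ext i
    match i with
    | 0 => simp
    | 1 => simp
    | 2 => simp
    | i + 3 =>
      rw [coeff_eq_zero_of_natDegree_lt (by omega)]
      simp [coeff_X_pow, coeff_X]
  have e2 : P.comp (Polynomial.X + C c) =
      C (P.coeff 0 + P.coeff 1 * c + P.coeff 2 * c ^ 2) +
        C (P.coeff 1 + 2 * c * P.coeff 2) * Polynomial.X + C (P.coeff 2) * Polynomial.X ^ 2 := by
    conv_lhs => rw [e]
    simp only [add_comp, mul_comp, pow_comp, C_comp, X_comp, map_add, map_mul, map_pow]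
    rw [show (C (2 : ℚ)) = (2 : ℚ[X]) from map_ofNat C 2]
    ring
  rw [e2]
  constructor <;>
    simp only [alpha, coeff_add, coeff_C_mul, coeff_C, coeff_X_pow, coeff_X] <;> norm_num <;> ring

attribute [local instance] Groth.Agent.Lib.TensorMod.Invertible.law in
theorem isMuStable_aux
    (k : Type u) [Field k] (S : Scheme.{u}) [S.Over (Spec (CommRingCat.of k))] [IsIntegral S]
    [Smooth (S ↘ Spec (CommRingCat.of k))] (hdim : topologicalKrullDim S = 2)
    [IsProper (S ↘ Spec (CommRingCat.of k))] [AlgebraicGeometry.IsNoetherian S]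
    (L : S.Modules) (hLi : PicF.IsInvertible L) (hL : CohB1.IsAmple L)
    (hgen : ∀ c : PicLoc.PicSet S, ∃ n : ℤ, c = PicGrp.cls L hLi ^ n)
    (N : S.Modules) (ι : N ⟶ L) [Mono ι] (hN : Coh.IsCoh N)
    (hZ : topologicalKrullDim (CohB1.support (cokernel ι)) ≤ 0)
    (V : S.Modules) (hV : Coh.IsCoh V) (hVtf : TorSh.IsTorsionFree V)
    (a : Coh.structureModule S ⟶ V) (b : V ⟶ N) (w : a ≫ b = 0)
    (hex : (ShortComplex.mk a b w).ShortExact)
    (hns : ∀ r : V ⟶ Coh.structureModule S, a ≫ r ≠ 𝟙 (Coh.structureModule S)) :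
    ShStab.IsMuStable k S L V 2 := by
  have hreg := fun x => Cyc.SmoothReg.isRegularLocalRing_stalk (S ↘ Spec (CommRingCat.of k)) x
  have hnorm := RefHull.ExtHull.isNormal hreg
  have hOi : PicF.IsInvertible (Coh.structureModule S) := PicLoc.isInvertible_structureModule S
  have hOc : Coh.IsCoh (Coh.structureModule S) := RefHull.Reflexive.isCoh_structure
  have hLc := Ample.GG.isCoh_of_isInvertible hLi
  have hVp := MuBasics.isPure_of_isTorsionFree hVtf 2 hdim
  have hOp := isPure_of_isInvertible hdim hOi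
  have hO1 : CurveBundle.Rank.grank (Coh.structureModule S) = 1 :=
    CurveBundle.Rank.grank_eq_of_rank (TensorMod.LocFree.of_isInvertible hOi)
  have hO0 : ¬ IsZero (Coh.structureModule S) := fun hz => by
    have h := (Modules.Stalk.isZero_iff_stalk_subsingleton).mp hz (genericPoint S)
    have h' := @Module.finrank_zero_of_subsingleton (S.presheaf.stalk (genericPoint S))
      ((Coh.structureModule S).presheaf.stalk (genericPoint S)) _ _ _ _ h
    rw [CurveBundle.Rank.grank] at hO1
    exact one_ne_zero (hO1.symm.trans h')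
  haveI : Mono a := hex.mono_f
  haveI : Epi b := hex.epi_g
  have hV0 : ¬ IsZero V := fun hz => hO0 (IsZero.of_mono a hz)
  -- numerical invariants
  set A := alpha 2 (hp k L (Coh.structureModule S)) with hA
  set B := alpha 1 (hp k L (Coh.structureModule S)) with hB
  have hApos : 0 < A := Basics.alpha_pos_of_pure (k := k) hL hOp (𝟙 _) hOc hO0
  have twists : ∀ (G : S.Modules), Coh.IsCoh G → ∀ (j : ℕ),
      alpha 2 (hp k L (CohB1.tensorMod G (CohB1.tensorPow L j))) = alpha 2 (hp k L G) ∧
      alpha 1 (hp k L (CohB1.tensorMod G (CohB1.tensorPow L j))) =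
        alpha 1 (hp k L G) + (j : ℚ) * alpha 2 (hp k L G) := fun G hG j => by
    rw [hp_tensor_pow (k := k) hL hG j]
    exact coeff_comp_two (natDegree_le_two (k := k) hL hdim hG) j
  have hpow : ∀ i : ℕ, alpha 2 (hp k L (CohB1.tensorPow L i)) = A ∧
      alpha 1 (hp k L (CohB1.tensorPow L i)) = B + (i : ℚ) * A := fun i => by
    have hc := Ample.GG.isCoh_of_isInvertible (TensorMod.Invertible.isInvertible_tensorPow hLi i)
    rw [← hp_iso k hL (TensorMod.Basic.leftUnit _).symm hc]
    exact twists _ hOc i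
  have hLA : alpha 2 (hp k L L) = A ∧ alpha 1 (hp k L L) = B + A := by
    have h1 := hpow 1
    rw [hp_iso k hL (show L ≅ CohB1.tensorPow L 1 from (TensorMod.Basic.leftUnit L).symm) hLc] at h1
    simpa using h1
  have hNA : alpha 2 (hp k L N) = A ∧ alpha 1 (hp k L N) = B + A := by
    have hQ := CohBasics.Closure.isCoh_cokernel ι hN.1 hLc
    have h2 := alpha_eq_zero_of_dim_le (k := k) hL hQ hZ (i := 2) (by norm_num)
    have h1 := alpha_eq_zero_of_dim_le (k := k) hL hQ hZ (i := 1) (by norm_num)
    rw [hp_cokernel k hL ι hN hLc, alpha_sub] at h1 h2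
    exact ⟨by linarith [hLA.1], by linarith [hLA.2]⟩
  have hVA : alpha 2 (hp k L V) = 2 * A ∧ alpha 1 (hp k L V) = 2 * B + A := by
    have h : hp k L V = hp k L (Coh.structureModule S) + hp k L N :=
      hp_add k hL (S := ShortComplex.mk a b w) hex hOc hV hN
    rw [h, alpha_add, alpha_add]
    exact ⟨by linarith [hNA.1], by linarith [hNA.2]⟩
  refine ⟨hV, hV0, hVp V (𝟙 V) inferInstance hV hV0, fun F j hj hF => ?_, fun F j hj hFc pF pV hpF hpV h1 h2 => ?_⟩
  · by_cases hz : IsZero F
    · have hem : CohB1.support F = ∅ := Set.eq_empty_iff_forall_notMem.mpr fun x hx =>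
        hx ((Modules.Stalk.isZero_iff_stalk_subsingleton).mp hz x)
      rw [hem]
      haveI : IsEmpty (TopologicalSpace.IrreducibleCloseds (∅ : Set S)) :=
        ⟨fun Z => Z.isIrreducible.nonempty.some.2⟩
      rw [topologicalKrullDim, Order.krullDim_eq_bot]
      simp
    · rw [hVp F j hj hF hz]
      exact_mod_cast (show (2 : ℕ) + 1 ≠ 2 by norm_num)
  obtain rfl := hp_eq k L hpF
  obtain rfl := hp_eq k L hpV
  haveI := hj
  rw [hatSlope, hatSlope, show (2 : ℕ) - 1 = 1 from rfl, div_lt_div_iff₀ h1 (h1.trans h2), hVA.1, hVA.2]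
  rw [hVA.1] at h2
  set g : F ⟶ L := j ≫ b ≫ ι with hg
  have hK := CohBasics.Closure.isCoh_kernel g hFc hLc.1
  have hI := CohBasics.Closure.isCoh_image g hFc.1 hLc
  let kK : kernel g ⟶ Coh.structureModule S := hex.exact.lift (kernel.ι g ≫ j) (by
    rw [← cancel_mono ι, Limits.zero_comp]
    simp only [Category.assoc]
    exact kernel.condition g)
  have hkK : kK ≫ a = kernel.ι g ≫ j := hex.exact.lift_f _ _
  haveI : Mono (kK ≫ a) := by rw [hkK]; exact mono_comp _ _
  haveI : Mono kK := mono_of_mono kK a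
  have hsum := Basics.hp_kernel_image (k := k) hL g hFc hLc
  by_cases hI0 : IsZero (Abelian.image g)
  · have hK0 : ¬ IsZero (kernel g) := fun hz => by
      rw [hsum, hp_isZero k hL hz, hp_isZero k hL hI0] at h1
      simp [alpha] at h1
    obtain ⟨e2, e1, -⟩ := sub_invertible (k := k) hL hdim hOi kK hK hK0
    rw [hsum, hp_isZero k hL hI0, add_zero, e2]
    nlinarith [mul_le_mul_of_nonneg_right e1 (show (0:ℚ) ≤ 2 * A by linarith)]
  by_cases hK0 : IsZero (kernel g)
  swap
  · exfalso
    obtain ⟨e2, -, -⟩ := sub_invertible (k := k) hL hdim hOi kK hK hK0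
    obtain ⟨f2, -, -⟩ := sub_invertible (k := k) hL hdim hLi (Abelian.image.ι g) hI hI0
    rw [hsum, alpha_add, e2, f2, hLA.1] at h2
    linarith
  haveI : Mono g := Preadditive.mono_of_isZero_kernel _ hK0
  have hF0 : ¬ IsZero F := fun hz => hI0 ((Interval.isZero_iff (k := k) hL hI).2 (by
    have h' := hsum
    rw [hp_isZero k hL hz, hp_isZero k hL hK0, zero_add] at h'
    exact h'.symm))
  obtain ⟨eF2, eF1, hFr⟩ := sub_invertible (k := k) hL hdim hLi g hFc hF0
  rw [hLA.1] at eF2
  rw [hLA.2] at eF1
  -- the reflexive hull of `F`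
  have hFt := CurveBundle.Rank.isTorsionFree_of_mono j hVtf
  set H := RefHull.ddual F
  have hHc : Coh.IsCoh H := RefHull.Reflexive.isCoh_ddual hFc
  have hHr : RefHull.IsReflexive H :=
    RefHull.Reflexive.isReflexive_dual (RefHull.Reflexive.isCoh_dual hFc)
  have hbη := RefHull.Generic.stalkMap_bidual_bijective_genericPoint hFc
  have hHi : PicF.IsInvertible H := by
    refine RefHull.ExtHull.isInvertible hreg hdim.le ⟨hHc, hHr, ?_⟩
    obtain ⟨v0, hv0, hv⟩ := finrank_eq_one_iff'.mp
      (show Module.finrank S.functionField (F.presheaf.stalk (genericPoint S)) = 1 from hFr)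
    refine RefHull.Tensor.genInvertible_of_basis hHc
      (RefHull.Generic.toGen_injective_of_isReflexive hHc hHr)
      (t := RefHull.stalkMapₗ (RefHull.bidualMap F) (genericPoint S) v0)
      (fun h => hv0 (hbη.1 (h.trans (map_zero _).symm))) fun x => ?_
    obtain ⟨x', rfl⟩ := hbη.2 x
    obtain ⟨c, rfl⟩ := hv x'
    exact ⟨c, (map_smul (RefHull.stalkMapₗ (RefHull.bidualMap F) (genericPoint S)) c v0).symm⟩
  haveI := hFc.1
  haveI : Mono (RefHull.bidualMap F) := CurveBundle.Rank.mono_of_generic_injective hFt _ (by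
    rw [← SimpleEnd.stalkMapₗ_eq]; exact hbη.1)
  have hQc := CohBasics.Closure.isCoh_cokernel (RefHull.bidualMap F) hFc.1 hHc
  haveI := hQc.1
  haveI := hQc.2
  have hQd : topologicalKrullDim (CohB1.support (cokernel (RefHull.bidualMap F))) ≤ 0 := by
    refine dim_le_zero hdim (Modules.Support.isClosed_support _) fun y hy hy1 => hy ⟨fun u v => ?_⟩
    obtain ⟨-, hexy, hsy⟩ := CurveBundle.Rank.stalk_exact
      (S := ShortComplex.mk (RefHull.bidualMap F) (cokernel.π _) (cokernel.condition _))
      { exact := ShortComplex.exact_cokernel _ } y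
    have hz : ∀ u : (cokernel (RefHull.bidualMap F)).presheaf.stalk y, u = 0 := fun u => by
      obtain ⟨u', rfl⟩ := hsy u
      exact (hexy u').2 (by
        obtain ⟨u'', hu⟩ := RefHull.Generic.stalkMap_bidual_surjective hnorm hFc y hy1 u'
        exact ⟨u'', hu⟩)
    rw [hz u, hz v]
  have hFH : alpha 1 (hp k L F) = alpha 1 (hp k L H) ∧ alpha 2 (hp k L F) = alpha 2 (hp k L H) := by
    have q1 := alpha_eq_zero_of_dim_le (k := k) hL hQc hQd (i := 1) (by norm_num)
    have q2 := alpha_eq_zero_of_dim_le (k := k) hL hQc hQd (i := 2) (by norm_num)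
    rw [hp_cokernel k hL _ hFc hHc, alpha_sub] at q1 q2
    exact ⟨by linarith, by linarith⟩
  obtain ⟨n, hn⟩ := hgen (PicGrp.cls H hHi)
  have hα : alpha 1 (hp k L F) = B + (n : ℚ) * A := by
    set i := n.toNat with hi
    set m := (-n).toNat with hm
    have hnim : n = (i : ℤ) - (m : ℤ) := by omega
    have hiso : Nonempty (CohB1.tensorMod H (CohB1.tensorPow L m) ≅ CohB1.tensorPow L i) := by
      refine (PicGrp.cls_eq_cls_iff
        (TensorMod.Invertible.isInvertible_tensorMod hHi (TensorMod.Invertible.isInvertible_tensorPow hLi m))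
        (TensorMod.Invertible.isInvertible_tensorPow hLi i)).1 ?_
      rw [ModelFibre.VertPic.cls_tensor hHi (TensorMod.Invertible.isInvertible_tensorPow hLi m),
        ModelFibre.VertPic.cls_pow hLi, ModelFibre.VertPic.cls_pow hLi, hn, hnim, ← zpow_natCast, ← zpow_add,
        sub_add_cancel, zpow_natCast]
    obtain ⟨e⟩ := hiso
    have t1 := (twists H hHc m).2
    rw [hFH.1]
    have t2 := (hpow i).2
    rw [hp_iso k hL e.symm (Ample.GG.isCoh_of_isInvertible (TensorMod.Invertible.isInvertible_tensorPow hLi i)), t2, ← hFH.2, eF2] at t1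
    rw [hnim]
    push_cast
    linarith
  rw [eF2]
  by_cases hn0 : n ≤ 0
  · have hn' : (n : ℚ) ≤ 0 := by exact_mod_cast hn0
    nlinarith [mul_nonpos_of_nonpos_of_nonneg hn' hApos.le]
  exfalso
  have hn1 : (n : ℚ) = 1 := by
    have h1' : n ≤ 1 := by
      by_contra hc
      have hn2 : (2 : ℚ) ≤ n := by exact_mod_cast (show (2 : ℤ) ≤ n by omega)
      nlinarith [mul_le_mul_of_nonneg_right hn2 hApos.le]
    exact_mod_cast (show n = 1 by omega)
  rw [hn1, one_mul] at hα
  -- `F` maps onto `N` in codimension one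
  haveI : Mono (j ≫ b) := mono_of_mono_fac (show (j ≫ b) ≫ ι = g by rw [Category.assoc])
  have hPc := CohBasics.Closure.isCoh_cokernel (j ≫ b) hFc.1 hN
  have hPd : topologicalKrullDim (CohB1.support (cokernel (j ≫ b))) ≤ 0 := by
    by_cases hz : IsZero (cokernel (j ≫ b))
    · have hem : CohB1.support (cokernel (j ≫ b)) = ∅ := Set.eq_empty_iff_forall_notMem.mpr fun x hx =>
        hx ((Modules.Stalk.isZero_iff_stalk_subsingleton).mp hz x)
      rw [hem]
      haveI : IsEmpty (TopologicalSpace.IrreducibleCloseds (∅ : Set S)) :=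
        ⟨fun Z => Z.isIrreducible.nonempty.some.2⟩
      rw [topologicalKrullDim, Order.krullDim_eq_bot]
      exact bot_le
    have hd2 := natDegree_le_two (k := k) hL hdim hPc
    have hpos := Interval.lc_pos (k := k) hL hPc hz
    rw [Interval.dim_eq (k := k) hL hPc hz]
    have q : ∀ i : ℕ, i = 1 ∨ i = 2 → alpha i (hp k L (cokernel (j ≫ b))) = 0 := by
      rintro i (rfl | rfl) <;> rw [hp_cokernel k hL (j ≫ b) hFc hN, alpha_sub]
      · linarith [hNA.2]
      · linarith [hNA.1]
    have hdeg : (hp k L (cokernel (j ≫ b))).natDegree = 0 := by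
      rcases (show (hp k L (cokernel (j ≫ b))).natDegree = 0 ∨ (hp k L (cokernel (j ≫ b))).natDegree = 1 ∨
          (hp k L (cokernel (j ≫ b))).natDegree = 2 by omega) with h | h | h
      · exact h
      · exact absurd (q 1 (Or.inl rfl)) (PolyOrder.alpha_pos h hpos).ne'
      · exact absurd (q 2 (Or.inr rfl)) (PolyOrder.alpha_pos h hpos).ne'
    rw [hdeg]
    rfl
  haveI := hPc.1
  haveI := hPc.2
  let C' := cokernel j
  let c := a ≫ cokernel.π j
  have hC'c : Coh.IsCoh C' := CohBasics.Closure.isCoh_cokernel j hFc.1 hV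
  have key : ∀ y : S, (∃ m : ℕ, 1 ≤ m ∧ topologicalKrullDim ↥(closure ({y} : Set S)) = (m : WithBot ℕ∞)) →
      Function.Bijective (RefHull.stalkMapₗ (c ≫ RefHull.bidualMap C') y) := by
    rintro y ⟨m, hm, hy⟩
    have hns' : Subsingleton ((cokernel (j ≫ b)).presheaf.stalk y) := by
      refine not_not.mp fun hmem => ?_
      have h := (hy.ge.trans (Devissage.Dim.dim_closure_le (Modules.Support.isClosed_support _) hmem)).trans hPd
      have h' : m ≤ 0 := by exact_mod_cast h
      omega
    obtain ⟨hjb, hjbe, -⟩ := CurveBundle.Rank.stalk_exact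
      (S := ShortComplex.mk (j ≫ b) (cokernel.π _) (cokernel.condition _))
      { exact := ShortComplex.exact_cokernel _ } y
    obtain ⟨hai, habe, -⟩ := CurveBundle.Rank.stalk_exact hex y
    obtain ⟨hji, hjπ, hπ⟩ := CurveBundle.Rank.stalk_exact
      (S := ShortComplex.mk j (cokernel.π j) (cokernel.condition j))
      { exact := ShortComplex.exact_cokernel _ } y
    simp only [Modules.StalkModule.stalkMapₗ_comp] at hjb hjbe
    have hc : Function.Bijective (RefHull.stalkMapₗ c y) := by
      rw [SimpleEnd.stalkMapₗ_eq, Modules.StalkModule.stalkMapₗ_comp]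
      refine ⟨(injective_iff_map_eq_zero _).2 fun o ho => ?_, fun u => ?_⟩
      · obtain ⟨f, hf⟩ := (hjπ _).1 ho
        have h0 := (habe _).2 ⟨o, rfl⟩
        rw [← hf] at h0
        have hf0 : f = 0 := hjb (h0.trans (map_zero _).symm)
        rw [hf0, map_zero] at hf
        exact hai (hf.symm.trans (map_zero _).symm)
      · obtain ⟨v, rfl⟩ := hπ u
        obtain ⟨f, hf⟩ := (hjbe (Modules.StalkModule.stalkMapₗ b y v)).1 (@Subsingleton.elim _ hns' _ _)
        obtain ⟨o, ho⟩ := (habe (v - Modules.StalkModule.stalkMapₗ j y f)).1 (by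
          rw [map_sub, sub_eq_zero]; exact hf.symm)
        refine ⟨o, ?_⟩
        rw [LinearMap.comp_apply]
        erw [ho]
        rw [map_sub, (hjπ _).2 ⟨f, rfl⟩, sub_zero]
    haveI : Module.IsReflexive (S.presheaf.stalk y) (C'.presheaf.stalk y) :=
      Module.equiv ((RefHull.Reflexive.oEquiv y).symm.trans (LinearEquiv.ofBijective _ hc))
    have hb := (RefHull.Reflexive.bijective_stalkMap_bidual_iff hC'c y).2 this
    rw [show ⇑(RefHull.stalkMapₗ (c ≫ RefHull.bidualMap C') y) =
        RefHull.stalkMapₗ (RefHull.bidualMap C') y ∘ RefHull.stalkMapₗ c y from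
      funext fun v => RefHull.Colim.stalkMap_comp c _ y v]
    exact hb.comp hc
  have hη : topologicalKrullDim ↥(closure ({genericPoint S} : Set S)) = (2 : WithBot ℕ∞) := by
    rw [genericPoint_closure, IsHomeomorph.topologicalKrullDim_eq _
      (Homeomorph.Set.univ S).isHomeomorph, hdim]
  have hOt := CurveBundle.Coherent.isTorsionFree (TensorMod.LocFree.of_rank (TensorMod.LocFree.of_isInvertible hOi))
  haveI := hOc.1
  haveI : Mono (c ≫ RefHull.bidualMap C') := CurveBundle.Rank.mono_of_generic_injective hOt _ (by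
    rw [← SimpleEnd.stalkMapₗ_eq]
    exact (key _ ⟨2, by norm_num, hη⟩).1)
  have hOr : RefHull.IsReflexive (Coh.structureModule S) :=
    (RefHull.Reflexive.isReflexive_iff_forall hOc).2 fun x => Module.equiv (RefHull.Reflexive.oEquiv x).symm
  haveI : IsIso (c ≫ RefHull.bidualMap C') :=
    ReflexIso.isIso_of_codim_one hnorm hOc (RefHull.Reflexive.isCoh_ddual hC'c) hOr
      (RefHull.Reflexive.isReflexive_dual (RefHull.Reflexive.isCoh_dual hC'c)) _
      (key _ ⟨2, by norm_num, hη⟩).2 fun y hy => by
        obtain ⟨m, hm, hy'⟩ := ReflexIso.dim_closure_of_codim_one (S ↘ Spec (CommRingCat.of k)) (n := 2) hdim y hy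
        exact (key y ⟨m, by omega, hy'⟩).2
  exact hns (cokernel.π j ≫ RefHull.bidualMap C' ≫ inv (c ≫ RefHull.bidualMap C')) (by
    rw [← Category.assoc, ← Category.assoc]
    exact IsIso.hom_inv_id _)

/-- Let k be an algebraically closed field of characteristic zero and S a smooth projective surface over
k (integral, smooth over k, of dimension two, with a closed immersion over k into some projective
space) whose Picard group is infinite cyclic, generated by the class of an ample invertible sheaf L.
Let N ⊆ L be a coherent subsheaf whose quotient L/N has support of dimension at most zero (N is L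
twisted by the ideal sheaf of a finite subscheme, possibly empty), and let V be a coherent
O_S-module with torsion-free stalks in a short exact sequence 0 → O_S → V → N → 0 that does not
split. Then V is slope-stable of dimension two with respect to L: V has no coherent subsheaf with
one-dimensional support, and every coherent subsheaf whose multiplicity lies strictly between 0 and
that of V has normalised slope of its Hilbert polynomial strictly smaller than that of V. (The
published statement does not ask the extension to be non-split; for the split extension V = O_S ⊕ N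
the subsheaf N has larger slope than V, and the printed argument uses that the sequence does not
split, so non-splitness is assumed here.) -/
theorem result
    (k : Type u) [Field k] [IsAlgClosed k] [CharZero k]
    (S : Scheme.{u}) [S.Over (Spec (CommRingCat.of k))] [IsIntegral S]
    [Smooth (S ↘ Spec (CommRingCat.of k))] (hdim : topologicalKrullDim S = 2)
    [IsProper (S ↘ Spec (CommRingCat.of k))]
    (hproj : ∃ (n : ℕ) (ι : S ⟶ CohB1.ProjSpace n k), IsClosedImmersion ι ∧
      ι ≫ CohB1.ProjSpace.toSpec n k = S ↘ Spec (CommRingCat.of k))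
    (L : S.Modules) (hLi : PicF.IsInvertible L) (hLa : CohB1.IsAmple L)
    [PicGrp.Law S] (hgen : ∀ c : PicLoc.PicSet S, ∃ n : ℤ, c = PicGrp.cls L hLi ^ n)
    (hfree : ∀ n : ℤ, PicGrp.cls L hLi ^ n = 1 → n = 0)
    (N : S.Modules) (ι : N ⟶ L) [Mono ι] (hN : Coh.IsCoh N)
    (hZ : topologicalKrullDim (CohB1.support (cokernel ι)) ≤ 0)
    (V : S.Modules) (hV : Coh.IsCoh V) (hVtf : TorSh.IsTorsionFree V)
    (a : Coh.structureModule S ⟶ V) (b : V ⟶ N) (w : a ≫ b = 0)
    (hex : (ShortComplex.mk a b w).ShortExact)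
    (hns : ∀ r : V ⟶ Coh.structureModule S, a ≫ r ≠ 𝟙 (Coh.structureModule S)) :
    ShStab.IsMuStable k S L V 2 := by
  haveI := Groth.Agent.Lib.Curves.GlobalSections.isNoetherian_of_proper k S
  obtain rfl : ‹PicGrp.Law S› = Groth.Agent.Lib.TensorMod.Invertible.law S := Subsingleton.elim _ _
  exact isMuStable_aux k S hdim L hLi hLa hgen N ι hN hZ V hV hVtf a b w hex hns

end Groth.Agent.S15849
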