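import Groth.Statements.S15851
import Groth.Agent.Lib.ExtShSurf
import Groth.Agent.Lib.ExtShBidualMain
import Groth.Agent.S15848
import Groth.Agent.Lib.ResDescend36.Ample
-- import your own Groth.Agent.* helpers here

set_option autoImplicit false
universe u
open CategoryTheory CategoryTheory.Limits AlgebraicGeometry
attribute [local instance] HasDerivedCategory.standard
open Surf

namespace Groth.Agent.S15851

/-- Let k be an algebraically closed field of characteristic zero, S a smooth projective surface over k
(integral, smooth over k, of dimension two, with a closed immersion over k into some projective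
space) and ω an O_S-module which is a second exterior power of the sheaf of differentials of S over
k (the canonical sheaf). Let j : C → S be a closed immersion with C integral of dimension one and A
a coherent O_C-module with torsion-free stalks and one-dimensional generic stalk (a rank-one
torsion-free sheaf on C). Put A^* = Ext^1_{O_S}(j_*A, ω), the value at ω of the first right derived
functor of the sheaf Hom functor Hom_{O_S}(j_*A, -) (taken as the right adjoint of j_*A ⊗ -). Then
Ext^1_{O_S}(A^*, ω) is isomorphic to j_*A: the operation A ↦ A^* is an involution up to isomorphism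
(existence of an isomorphism only). (The instance binders on sheaf Hom functors and injective
resolutions always hold.) -/
theorem result
    (k : Type u) [Field k] [IsAlgClosed k] [CharZero k]
    (S : Scheme.{u}) [S.Over (Spec (CommRingCat.of k))] [IsIntegral S]
    [Smooth (S ↘ Spec (CommRingCat.of k))] (hdim : topologicalKrullDim S = 2)
    [IsProper (S ↘ Spec (CommRingCat.of k))]
    (hproj : ∃ (n : ℕ) (ι : S ⟶ CohB1.ProjSpace n k), IsClosedImmersion ι ∧
      ι ≫ CohB1.ProjSpace.toSpec n k = S ↘ Spec (CommRingCat.of k))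
    [HasInjectiveResolutions S.Modules]
    (ω : S.Modules) (hω : Canon.IsTopDiff (S ↘ Spec (CommRingCat.of k)) 2 ω)
    (C : Scheme.{u}) (j : C ⟶ S) [IsClosedImmersion j] [IsIntegral C]
    (hC : topologicalKrullDim C = 1)
    (M : C.Modules) (hM : Coh.IsCoh M) (hMtf : TorSh.IsTorsionFree M)
    (hrk : Module.finrank (C.presheaf.stalk (genericPoint C)) (M.presheaf.stalk (genericPoint C)) = 1)
    [DCoh.HasSheafHom ((Coh.push j).obj M)] [(DCoh.sheafHom ((Coh.push j).obj M)).Additive]
    [DCoh.HasSheafHom (((DCoh.sheafHom ((Coh.push j).obj M)).rightDerived 1).obj ω)]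
    [(DCoh.sheafHom (((DCoh.sheafHom ((Coh.push j).obj M)).rightDerived 1).obj ω)).Additive] :
    Nonempty (((DCoh.sheafHom (((DCoh.sheafHom ((Coh.push j).obj M)).rightDerived 1).obj ω)).rightDerived 1).obj ω ≅ (Coh.push j).obj M) := by
  obtain ⟨n, ι, hι, hιc⟩ := hproj
  haveI := hι
  haveI : IsLocallyNoetherian S := LocallyOfFiniteType.isLocallyNoetherian (S ↘ Spec (CommRingCat.of k))
  haveI : IsLocallyNoetherian C := LocallyOfFiniteType.isLocallyNoetherian j
  haveI : CompactSpace S := QuasiCompact.compactSpace_of_compactSpace (S ↘ Spec (CommRingCat.of k))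
  have hP : Coh.IsCoh ((Coh.push j).obj M) := Groth.Agent.Lib.Cyc.Dev.SchemeEquiv.isCoh_push j hM
  have hW := Groth.Agent.Lib.ExtShSurf.isInvertible_topDiff (k := k) hdim hω
  haveI : ∀ A : S.Modules, ModSite.HasSheafHom (O := S.sheaf) A := fun A =>
    Groth.Agent.Lib.ModTensor.ModSite.hasSheafHom (O := S.sheaf) _
  haveI : ∀ A : S.Modules, (Groth.Agent.Lib.ExtShStalk.Hom.R A).Additive := fun A =>
    (Groth.Agent.Lib.ExtShStalk.Hom.adj A).right_adjoint_additive
  haveI : HasInjectiveResolutions (ModSite.Mod S.sheaf) := ‹HasInjectiveResolutions S.Modules›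
  obtain ⟨E₀, π, hE₀, hπ⟩ := Groth.Agent.Lib.ResDescend36.Ample.hasResolutionProperty _
    (Groth.Agent.Lib.Ample.Pullback.isAmple_pullback ι (Groth.Agent.Lib.Ample.Pullback.isQuasiAffine_of_isAffineHom ι)
      (Groth.Agent.Lib.HProj.QuasiProj.isAmple_twist_projSpace n k)) ((Coh.push j).obj M) hP.1 hP.2
  haveI := hπ
  let T : ShortComplex S.Modules := ShortComplex.mk (kernel.ι π) π (kernel.condition π)
  have hT : T.ShortExact :=
    { exact := ShortComplex.exact_of_f_is_kernel _ (kernelIsKernel π)
      epi_g := hπ }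
  have h₀ : IsZero ((Groth.Agent.Lib.ExtShStalk.Hom.R ((Coh.push j).obj M)).obj ω) :=
    Groth.Agent.Lib.Modules.Stalk.isZero_iff_stalk_subsingleton.2 fun x =>
      Groth.Agent.Lib.ExtShSurf.subsingleton_stalk_hom j
        (Groth.Agent.Lib.ExtShSurf.genericPoint_not_mem_range j hdim hC) hP hW x
  obtain ⟨e⟩ := Groth.Agent.Lib.ExtShBidual.nonempty_bidual_iso hT
    (Groth.Agent.S15848.result k S hdim C j hC M hM hMtf E₀ hE₀ π) hE₀ hW h₀
  let i := Groth.Agent.Lib.SpecSeq.Composite.rightDerivedCongr
    ((DCoh.sheafHomAdj ((Coh.push j).obj M)).rightAdjointUniq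
      (Groth.Agent.Lib.ExtShStalk.Hom.adj ((Coh.push j).obj M))) 1 ω
  let P' := ((DCoh.sheafHom ((Coh.push j).obj M)).rightDerived 1).obj ω
  obtain ⟨c⟩ := Groth.Agent.Lib.ExtShTensor.nonempty_ext_congr i ω 1
  exact ⟨Groth.Agent.Lib.SpecSeq.Composite.rightDerivedCongr
    ((DCoh.sheafHomAdj P').rightAdjointUniq (Groth.Agent.Lib.ExtShStalk.Hom.adj P')) 1 ω ≪≫ c ≪≫ e⟩


end Groth.Agent.S15851
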