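import Groth.Statements.S15852
import Groth.Agent.Lib.ExtShSurf
import Groth.Agent.S19675
-- import your own Groth.Agent.* helpers here

set_option autoImplicit false
universe u
open CategoryTheory CategoryTheory.Limits AlgebraicGeometry
open Surf

namespace Groth.Agent.S15852

/-- Let k be an algebraically closed field of characteristic zero, S a smooth projective surface over k
(integral, smooth over k, of dimension two, with a closed immersion over k into some projective
space) and ω an O_S-module which is a second exterior power of the sheaf of differentials of S over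
k. Let j : C → S be a closed immersion with C integral of dimension one and A a coherent O_C-module
with torsion-free stalks and one-dimensional generic stalk, and put A^* = Ext^1_{O_S}(j_*A, ω), the
first right derived functor of the sheaf Hom functor Hom_{O_S}(j_*A, -) (the right adjoint of j_*A ⊗
-) evaluated at ω. Then the group Ext^1_{O_S}(j_*A, ω), computed in the category of all O_S-modules
with its k-linear structure (the Ext instance is the stated hypothesis; it holds), is k-linearly
isomorphic to H^0(S, A^*), and also to the k-dual of H^1(S, j_*A) = H^1(C, A). (Existence of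
k-linear isomorphisms only.) -/
theorem result
    (k : Type u) [Field k] [IsAlgClosed k] [CharZero k]
    (S : Scheme.{u}) [S.Over (Spec (CommRingCat.of k))] [IsIntegral S]
    [Smooth (S ↘ Spec (CommRingCat.of k))] (hdim : topologicalKrullDim S = 2)
    [IsProper (S ↘ Spec (CommRingCat.of k))]
    (hproj : ∃ (n : ℕ) (ι : S ⟶ CohB1.ProjSpace n k), IsClosedImmersion ι ∧
      ι ≫ CohB1.ProjSpace.toSpec n k = S ↘ Spec (CommRingCat.of k))
    [HasInjectiveResolutions S.Modules] [HasExt.{u} S.Modules]
    (ω : S.Modules) (hω : Canon.IsTopDiff (S ↘ Spec (CommRingCat.of k)) 2 ω)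
    (C : Scheme.{u}) (j : C ⟶ S) [IsClosedImmersion j] [IsIntegral C]
    (hC : topologicalKrullDim C = 1)
    (M : C.Modules) (hM : Coh.IsCoh M) (hMtf : TorSh.IsTorsionFree M)
    (hrk : Module.finrank (C.presheaf.stalk (genericPoint C)) (M.presheaf.stalk (genericPoint C)) = 1)
    [DCoh.HasSheafHom ((Coh.push j).obj M)] [(DCoh.sheafHom ((Coh.push j).obj M)).Additive] :
    Nonempty (Abelian.Ext ((Coh.push j).obj M) ω 1 ≃ₗ[k]
        Coh.HH S (((DCoh.sheafHom ((Coh.push j).obj M)).rightDerived 1).obj ω) 0) ∧
      Nonempty (Abelian.Ext ((Coh.push j).obj M) ω 1 ≃ₗ[k]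
        Module.Dual k (Coh.HH S ((Coh.push j).obj M) 1)) := by
  obtain ⟨n, ι, hι, hιc⟩ := hproj
  haveI := hι
  haveI := Groth.Agent.Lib.ExtShSurf.smoothOfRelativeDimension_two (k := k) hdim
  haveI : IsLocallyNoetherian S := LocallyOfFiniteType.isLocallyNoetherian (S ↘ Spec (CommRingCat.of k))
  haveI : IsLocallyNoetherian C := LocallyOfFiniteType.isLocallyNoetherian j
  have hP : Coh.IsCoh ((Coh.push j).obj M) := Groth.Agent.Lib.Cyc.Dev.SchemeEquiv.isCoh_push j hM
  have hW := Groth.Agent.Lib.ExtShSurf.isInvertible_topDiff (k := k) hdim hω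
  haveI : ModSite.HasSheafHom (O := S.sheaf) ((Coh.push j).obj M) :=
    Groth.Agent.Lib.ModTensor.ModSite.hasSheafHom (O := S.sheaf) _
  haveI : (Groth.Agent.Lib.ExtShStalk.Hom.R ((Coh.push j).obj M)).Additive :=
    (Groth.Agent.Lib.ExtShStalk.Hom.adj _).right_adjoint_additive
  haveI : HasInjectiveResolutions (ModSite.Mod S.sheaf) := ‹HasInjectiveResolutions S.Modules›
  obtain ⟨e⟩ := Groth.Agent.Lib.ExtShTwist.nonempty_ext_linearEquiv k ((Coh.push j).obj M) ω 1 fun m hm q => by
    obtain rfl : m = 0 := by omega
    exact Groth.Agent.Lib.ExtShSurf.subsingleton_HH_of_isZero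
      (Groth.Agent.Lib.ExtShSurf.isZero_extSh_zero j
        (Groth.Agent.Lib.ExtShSurf.genericPoint_not_mem_range j hdim hC) hP hW) (q + 1)
  let i := Groth.Agent.Lib.SpecSeq.Composite.rightDerivedCongr
    ((Groth.Agent.Lib.ExtShStalk.Hom.adj ((Coh.push j).obj M)).rightAdjointUniq
      (DCoh.sheafHomAdj ((Coh.push j).obj M))) 1 ω
  refine ⟨⟨e.trans (Groth.Agent.Lib.Curves.LES.isoK k i 0)⟩, ?_⟩
  exact Groth.Agent.S19675.result k 2 n S ι hιc ω hω ((Coh.push j).obj M) hP 1 (by omega)


end Groth.Agent.S15852
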