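import Groth.Statements.S15855
import Groth.Agent.Lib.ExtShSurfMain
import Groth.Agent.Lib.SpecSeq.Composite
-- import your own Groth.Agent.* helpers here

set_option autoImplicit false
universe u
open CategoryTheory CategoryTheory.Limits AlgebraicGeometry
attribute [local instance] HasDerivedCategory.standard
open Surf

namespace Groth.Agent.S15855

/-- Let k be an algebraically closed field of characteristic zero, S a smooth projective surface over k
(integral, smooth over k, of dimension two, with a closed immersion over k into some projective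
space), ω an O_S-module which is a second exterior power of the sheaf of differentials of S over k,
j : C → S a closed immersion with C integral of dimension one, and A a coherent O_C-module with
torsion-free stalks and one-dimensional generic stalk, with H^0(S, j_*A) ≠ 0 and H^1(S, j_*A) ≠ 0.
For a coherent O_S-module F write F^* = Ext^1_{O_S}(F, ω) (first right derived functor of the sheaf
Hom functor Hom_{O_S}(F, -), the right adjoint of F ⊗ -, at ω). Let A' ⊆ j_*A be the base-point-free
part of A: a globally generated coherent subsheaf such that H^0(S, A') → H^0(S, j_*A) is surjective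
(the image of the evaluation map). Let B ⊆ A'^* be, likewise, a globally generated coherent subsheaf
with H^0(S, B) → H^0(S, A'^*) surjective, and put A'' = B^*. Then both A'' and A''^* are globally
generated (quotients of free O_S-modules). -/
theorem result
    (k : Type u) [Field k] [IsAlgClosed k] [CharZero k]
    (S : Scheme.{u}) [S.Over (Spec (CommRingCat.of k))] [IsIntegral S]
    [Smooth (S ↘ Spec (CommRingCat.of k))] (hdim : topologicalKrullDim S = 2)
    [IsProper (S ↘ Spec (CommRingCat.of k))]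
    (hproj : ∃ (n : ℕ) (ι : S ⟶ CohB1.ProjSpace n k), IsClosedImmersion ι ∧
      ι ≫ CohB1.ProjSpace.toSpec n k = S ↘ Spec (CommRingCat.of k))
    [HasInjectiveResolutions S.Modules]
    (ω : S.Modules) (hω : Canon.IsTopDiff (S ↘ Spec (CommRingCat.of k)) 2 ω)
    (C : Scheme.{u}) (j : C ⟶ S) [IsClosedImmersion j] [IsIntegral C]
    (hC : topologicalKrullDim C = 1)
    (M : C.Modules) (hM : Coh.IsCoh M) (hMtf : TorSh.IsTorsionFree M)
    (hrk : Module.finrank (C.presheaf.stalk (genericPoint C)) (M.presheaf.stalk (genericPoint C)) = 1)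
    (h0 : 0 < Module.finrank k (Coh.HH S ((Coh.push j).obj M) 0)) (h1 : 0 < Module.finrank k (Coh.HH S ((Coh.push j).obj M) 1))
    (A' : S.Modules) (ι₁ : A' ⟶ ((Coh.push j).obj M)) [Mono ι₁] (hA'c : Coh.IsCoh A')
    (hA'g : Curv2.IsGloballyGenerated A') (hA'0 : Function.Surjective (Canon.HHlin k ι₁ 0))
    [DCoh.HasSheafHom A'] [(DCoh.sheafHom A').Additive]
    (B : S.Modules) (ι₂ : B ⟶ ((DCoh.sheafHom A').rightDerived 1).obj ω) [Mono ι₂] (hBc : Coh.IsCoh B)
    (hBg : Curv2.IsGloballyGenerated B) (hB0 : Function.Surjective (Canon.HHlin k ι₂ 0))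
    [DCoh.HasSheafHom B] [(DCoh.sheafHom B).Additive]
    [DCoh.HasSheafHom (((DCoh.sheafHom B).rightDerived 1).obj ω)] [(DCoh.sheafHom (((DCoh.sheafHom B).rightDerived 1).obj ω)).Additive] :
    Curv2.IsGloballyGenerated (((DCoh.sheafHom B).rightDerived 1).obj ω) ∧
      Curv2.IsGloballyGenerated (((DCoh.sheafHom (((DCoh.sheafHom B).rightDerived 1).obj ω)).rightDerived 1).obj ω) := by
  obtain ⟨n, ι, hι, hιc⟩ := hproj
  haveI := hι
  haveI : ∀ A : S.Modules, ModSite.HasSheafHom (O := S.sheaf) A := fun A =>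
    Groth.Agent.Lib.ModTensor.ModSite.hasSheafHom (O := S.sheaf) _
  haveI : ∀ A : S.Modules, (Groth.Agent.Lib.ExtShStalk.Hom.R A).Additive := fun A =>
    (Groth.Agent.Lib.ExtShStalk.Hom.adj A).right_adjoint_additive
  haveI : HasInjectiveResolutions (ModSite.Mod S.sheaf) := ‹HasInjectiveResolutions S.Modules›
  have hA : Groth.Agent.Lib.ExtShSurfGG.Pure j A' :=
    (Groth.Agent.Lib.ExtShSurfGG.pure_push (k := k) j hdim ι hC M hM hMtf).sub (k := k) j hdim hA'c ι₁
  let iA : ((DCoh.sheafHom A').rightDerived 1).obj ω ≅ Groth.Agent.Lib.ExtShSurfGG.D ω A' :=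
    Groth.Agent.Lib.SpecSeq.Composite.rightDerivedCongr
      ((DCoh.sheafHomAdj A').rightAdjointUniq (Groth.Agent.Lib.ExtShStalk.Hom.adj A')) 1 ω
  let iB : ((DCoh.sheafHom B).rightDerived 1).obj ω ≅ Groth.Agent.Lib.ExtShSurfGG.D ω B :=
    Groth.Agent.Lib.SpecSeq.Composite.rightDerivedCongr
      ((DCoh.sheafHomAdj B).rightAdjointUniq (Groth.Agent.Lib.ExtShStalk.Hom.adj B)) 1 ω
  haveI : Mono (ι₂ ≫ iA.hom) := mono_comp _ _
  have hB0' : Function.Surjective (Groth.Agent.Lib.Curves.LES.mapK k (ι₂ ≫ iA.hom) 0) := by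
    rw [Groth.Agent.Lib.Curves.LES.mapK_comp]
    exact (Groth.Agent.Lib.Curves.LES.isoK k iA 0).surjective.comp hB0
  obtain ⟨h₁, h₂⟩ := Groth.Agent.Lib.ExtShSurfGG.gg_dual (k := k) j hdim hC ι hιc hω hA hA'g
    (ι₂ ≫ iA.hom) hBc hBg hB0'
  let P' := ((DCoh.sheafHom B).rightDerived 1).obj ω
  obtain ⟨c⟩ := Groth.Agent.Lib.ExtShTensor.nonempty_ext_congr iB ω 1
  exact ⟨Groth.Agent.H34.GlobGen.gg_of_epi iB.inv h₁,
    Groth.Agent.H34.GlobGen.gg_of_epi (Groth.Agent.Lib.SpecSeq.Composite.rightDerivedCongr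
      ((DCoh.sheafHomAdj P').rightAdjointUniq (Groth.Agent.Lib.ExtShStalk.Hom.adj P')) 1 ω ≪≫ c).inv h₂⟩

end Groth.Agent.S15855
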