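import Groth.Statements.S15859
import Groth.Agent.Lib.FibMono72.Mono
import Groth.Agent.Lib.GrothVanSupport
import Groth.Agent.Lib.ExchangeFP29.Main
import Groth.Agent.Lib.ZarCoh.FP
import Groth.Agent.Lib.ZarCoh.FlatBC.Equiv
import Groth.Agent.Lib.Cyc.FP.Stalk
import Groth.Agent.Lib.Exchange.Proper
import Mathlib.AlgebraicGeometry.AlgClosed.Basic

set_option autoImplicit false
universe u
open CategoryTheory CategoryTheory.Limits AlgebraicGeometry
open Surf

namespace Groth.Agent.S15859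

set_option linter.all false
set_option maxHeartbeats 1000000
set_option backward.isDefEq.respectTransparency.types false

open CategoryTheory CategoryTheory.Limits AlgebraicGeometry Groth.Agent.Lib TensorProduct

variable {k : Type u} [Field k] [IsAlgClosed k] {S Y B : Scheme.{u}} [S.Over (Spec (CommRingCat.of k))]
  [IsProper (S ↘ Spec (CommRingCat.of k))]

/-- The fibre over a rational point, identified with a slice. -/
theorem exists_fibre_iso (pB : B ⟶ Spec (CommRingCat.of k)) [LocallyOfFiniteType pB] (q : Y ⟶ B)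
    (y : B) (hy : IsClosed ({y} : Set B)) (s : S ⟶ Y)
    (hs : IsPullback s (S ↘ Spec (CommRingCat.of k)) q (pointOfClosedPoint pB y hy)) :
    ∃ σ : q.fiber y ≅ S, σ.hom ≫ s = q.fiberι y ∧
      σ.hom ≫ (S ↘ Spec (CommRingCat.of k)) =
        q.fiberToSpecResidueField y ≫ Spec.map (residueFieldIsoBase pB y hy).inv := by
  let r₀ := residueFieldIsoBase pB y hy
  let θ : Spec (CommRingCat.of k) ⟶ Spec (B.residueField y) := Spec.map r₀.hom
  haveI : IsIso θ := inferInstance
  have h' : IsPullback s ((S ↘ Spec (CommRingCat.of k)) ≫ θ) q (B.fromSpecResidueField y) :=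
    hs.of_iso (Iso.refl _) (Iso.refl _) (asIso θ) (Iso.refl _) (by simp) (by simp) (by simp)
      (by simp [θ, r₀, pointOfClosedPoint])
  refine ⟨h'.isoPullback.symm, h'.isoPullback_inv_fst, ?_⟩
  have e : θ ≫ Spec.map r₀.inv = 𝟙 _ := by rw [← Spec.map_comp, Iso.inv_hom_id, Spec.map_id]
  have key : ∀ {Z : Scheme.{u}} (a : Z ⟶ S), (a ≫ (S ↘ Spec (CommRingCat.of k)) ≫ θ) ≫ Spec.map r₀.inv =
      a ≫ (S ↘ Spec (CommRingCat.of k)) := fun a => by simp [e]
  exact (key _).symm.trans (congrArg (· ≫ Spec.map r₀.inv) h'.isoPullback_inv_snd)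

/-- The dimensions of the cohomology of a slice are those of the fibre. -/
theorem betti_slice (pB : B ⟶ Spec (CommRingCat.of k)) [LocallyOfFiniteType pB] (q : Y ⟶ B)
    (D : Y.Modules) [D.IsQuasicoherent] (y : B) (hy : IsClosed ({y} : Set B)) (s : S ⟶ Y)
    (hs : IsPullback s (S ↘ Spec (CommRingCat.of k)) q (pointOfClosedPoint pB y hy)) (n : ℕ) :
    Module.finrank k (Coh.HH S ((Scheme.Modules.pullback s).obj D) n) = PerfAux.betti q D y n := by
  obtain ⟨σ, hσ, hw⟩ := exists_fibre_iso pB q y hy s hs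
  let r₀ := residueFieldIsoBase pB y hy
  letI : (q.fiber y).Over (Spec (CommRingCat.of k)) := ⟨σ.hom ≫ (S ↘ Spec (CommRingCat.of k))⟩
  haveI : CompactSpace S := QuasiCompact.compactSpace_of_compactSpace (S ↘ Spec (CommRingCat.of k))
  haveI : QuasiSeparatedSpace S := quasiSeparatedSpace_of_quasiSeparated (S ↘ Spec (CommRingCat.of k))
  let M := (Scheme.Modules.pullback s).obj D
  haveI : M.IsQuasicoherent := QCoh.Pullback.isQCoh_pullback s D
  have h : IsPullback σ.hom (q.fiber y ↘ Spec (CommRingCat.of k)) (S ↘ Spec (CommRingCat.of k))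
      (Spec.map (CommRingCat.ofHom (algebraMap k k))) :=
    haveI : IsIso (Spec.map (CommRingCat.ofHom (algebraMap k k))) := by
      rw [show (CommRingCat.ofHom (algebraMap k k)) = 𝟙 _ from rfl, Spec.map_id]; infer_instance
    IsPullback.of_horiz_isIso ⟨by
      rw [show (CommRingCat.ofHom (algebraMap k k)) = 𝟙 _ from rfl, Spec.map_id, Category.comp_id]; rfl⟩
  obtain ⟨e⟩ := ZarCoh.FlatBC.Equiv.nonempty_linearEquiv h M n
  let i : (Scheme.Modules.pullback σ.hom).obj M ≅ (Scheme.Modules.pullback (q.fiberι y)).obj D :=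
    (Scheme.Modules.pullbackComp σ.hom s).app D ≪≫ (Scheme.Modules.pullbackCongr hσ).app D
  rw [((TensorProduct.lid k _).symm.trans (e.trans (Curves.LES.isoK k i n))).finrank_eq]
  refine (congrArg Cardinal.toNat (rank_eq_of_equiv_equiv r₀.hom
    (AddEquiv.refl (PerfAux.fiberH q D y n))
    (r₀.commRingCatIsoToRingEquiv.bijective) ?_)).symm
  intro r m
  show Coh.toGlobal (X := q.fiber y) (q.fiberToSpecResidueField y) r • m =
    Coh.toGlobal (X := q.fiber y) (σ.hom ≫ (S ↘ Spec (CommRingCat.of k))) (r₀.hom r) • m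
  rw [hw, ZarCoh.Exchange.LocalRep.toGlobal_comp, Iso.hom_inv_id_apply]
  rfl

/-- A monomorphism with flat cokernel stays one on a slice. -/
theorem mono_slice (pB : B ⟶ Spec (CommRingCat.of k)) [LocallyOfFiniteType pB] (q : Y ⟶ B)
    {T : ShortComplex Y.Modules} (hT : T.ShortExact) (h3 : FlatMod.IsFlatOver q T.X₃)
    (y : B) (hy : IsClosed ({y} : Set B)) (s : S ⟶ Y)
    (hs : IsPullback s (S ↘ Spec (CommRingCat.of k)) q (pointOfClosedPoint pB y hy)) :
    (T.map (Scheme.Modules.pullback s)).ShortExact := by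
  obtain ⟨σ, hσ, -⟩ := exists_fibre_iso pB q y hy s hs
  haveI := FibMono72.mono_fibre q hT h3 y
  haveI : Mono ((Scheme.Modules.pullback σ.inv).map ((Scheme.Modules.pullback (q.fiberι y)).map T.f)) :=
    Cyc.FP.Stalk.mono_pullback σ.inv _
  have hsq : σ.inv ≫ q.fiberι y = s := by rw [← hσ, Iso.inv_hom_id_assoc]
  have hm : Mono ((Scheme.Modules.pullback s).map T.f) :=
    ((MorphismProperty.monomorphisms _).arrow_mk_iso_iff
      (((Functor.mapArrowFunctor _ _).mapIso (Scheme.Modules.pullbackComp σ.inv (q.fiberι y) ≪≫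
        Scheme.Modules.pullbackCongr hsq)).app (Arrow.mk T.f))).1 this
  haveI : PreservesColimitsOfSize.{u, u} (Scheme.Modules.pullback s) :=
    (Scheme.Modules.pullbackPushforwardAdjunction s).leftAdjoint_preservesColimits
  haveI : PreservesFiniteColimits (Scheme.Modules.pullback s) := PreservesColimitsOfSize.preservesFiniteColimits _
  haveI := hT.epi_g
  exact ShortComplex.ShortExact.mk' (ShortComplex.exact_of_g_is_cokernel _
    ((CokernelCofork.ofπ T.g T.zero).mapIsColimit hT.gIsCokernel (Scheme.Modules.pullback s)))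
    hm (inferInstanceAs (Epi ((Scheme.Modules.pullback s).map T.g)))

/-- Let k be an algebraically closed field of characteristic zero, S a smooth projective surface over k
(integral, smooth over k, of dimension two, with a closed immersion over k into some projective
space) and P an integral one-dimensional k-scheme locally of finite type (a curve, not necessarily
proper). Let 𝒜, 𝒜', 𝒜'' be coherent O-modules on S ×_k P, flat over P, with monomorphisms 𝒜' → 𝒜 and
𝒜' → 𝒜'' whose cokernels 𝒬 and 𝒬~ are flat over P, the fibres of 𝒬~ being supported in dimension at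
most zero (so they have constant length). For a k-point p of P write F_p for the pull-back of a
module F along the section S → S ×_k P at p (identity on S, p on the second factor), a module on S.
Suppose that at some k-point p₀ one has dim H^0(S, 𝒜'_{p₀}) = dim H^0(S, 𝒜_{p₀}) and dim H^1(S,
𝒜'_{p₀}) = dim H^1(S, 𝒜''_{p₀}), and that dim H^0(S, 𝒜''_p) ≥ dim H^0(S, 𝒜''_{p₀}) for every k-point
p. Then dim H^0(S, 𝒜_p) ≥ dim H^0(S, 𝒜_{p₀}) for every k-point p. (The published statement also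
assumes that the fibres 𝒜_p, 𝒜'_p, 𝒜''_p are rank-one torsion-free sheaves on curves C_p ⊆ S, using
this only to see that the fibrewise maps are injective; that follows here from the flatness of the
cokernels, so the assumption is not made.) -/
theorem result
    (k : Type u) [Field k] [IsAlgClosed k] [CharZero k]
    (S : Scheme.{u}) [S.Over (Spec (CommRingCat.of k))] [IsIntegral S]
    [Smooth (S ↘ Spec (CommRingCat.of k))] (hdim : topologicalKrullDim S = 2)
    [IsProper (S ↘ Spec (CommRingCat.of k))]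
    (hproj : ∃ (n : ℕ) (ι : S ⟶ CohB1.ProjSpace n k), IsClosedImmersion ι ∧
      ι ≫ CohB1.ProjSpace.toSpec n k = (S ↘ Spec (CommRingCat.of k)))
    (P : Scheme.{u}) (pP : P ⟶ Spec (CommRingCat.of k)) [IsIntegral P] [LocallyOfFiniteType pP]
    (hP : topologicalKrullDim P = 1)
    (𝒜 𝒜' 𝒜'' : (pullback (S ↘ Spec (CommRingCat.of k)) pP).Modules) (h𝒜 : Coh.IsCoh 𝒜) (h𝒜' : Coh.IsCoh 𝒜') (h𝒜'' : Coh.IsCoh 𝒜'')
    (hfl : FlatMod.IsFlatOver (pullback.snd (S ↘ Spec (CommRingCat.of k)) pP) 𝒜)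
    (hfl' : FlatMod.IsFlatOver (pullback.snd (S ↘ Spec (CommRingCat.of k)) pP) 𝒜')
    (hfl'' : FlatMod.IsFlatOver (pullback.snd (S ↘ Spec (CommRingCat.of k)) pP) 𝒜'')
    (α : 𝒜' ⟶ 𝒜) (β : 𝒜' ⟶ 𝒜'') [Mono α] [Mono β]
    (hQ : FlatMod.IsFlatOver (pullback.snd (S ↘ Spec (CommRingCat.of k)) pP) (cokernel α))
    (hQ' : FlatMod.IsFlatOver (pullback.snd (S ↘ Spec (CommRingCat.of k)) pP) (cokernel β))
    (hQ'0 : ∀ (t : Spec (CommRingCat.of k) ⟶ P) (_ : t ≫ pP = 𝟙 _)
      (s : S ⟶ pullback (S ↘ Spec (CommRingCat.of k)) pP) (_ : s ≫ pullback.fst (S ↘ Spec (CommRingCat.of k)) pP = 𝟙 S)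
      (_ : s ≫ pullback.snd (S ↘ Spec (CommRingCat.of k)) pP = (S ↘ Spec (CommRingCat.of k)) ≫ t),
      topologicalKrullDim (CohB1.support ((Scheme.Modules.pullback s).obj (cokernel β))) ≤ 0)
    (t₀ : Spec (CommRingCat.of k) ⟶ P) (ht₀ : t₀ ≫ pP = 𝟙 _)
    (s₀ : S ⟶ pullback (S ↘ Spec (CommRingCat.of k)) pP) (hs₀ : s₀ ≫ pullback.fst (S ↘ Spec (CommRingCat.of k)) pP = 𝟙 S)
    (hs₀' : s₀ ≫ pullback.snd (S ↘ Spec (CommRingCat.of k)) pP = (S ↘ Spec (CommRingCat.of k)) ≫ t₀)
    (h0 : Module.finrank k (Coh.HH S ((Scheme.Modules.pullback s₀).obj 𝒜') 0) =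
      Module.finrank k (Coh.HH S ((Scheme.Modules.pullback s₀).obj 𝒜) 0))
    (h1 : Module.finrank k (Coh.HH S ((Scheme.Modules.pullback s₀).obj 𝒜') 1) =
      Module.finrank k (Coh.HH S ((Scheme.Modules.pullback s₀).obj 𝒜'') 1))
    (hup : ∀ (t : Spec (CommRingCat.of k) ⟶ P) (_ : t ≫ pP = 𝟙 _)
      (s : S ⟶ pullback (S ↘ Spec (CommRingCat.of k)) pP) (_ : s ≫ pullback.fst (S ↘ Spec (CommRingCat.of k)) pP = 𝟙 S)
      (_ : s ≫ pullback.snd (S ↘ Spec (CommRingCat.of k)) pP = (S ↘ Spec (CommRingCat.of k)) ≫ t),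
      Module.finrank k (Coh.HH S ((Scheme.Modules.pullback s₀).obj 𝒜'') 0) ≤
        Module.finrank k (Coh.HH S ((Scheme.Modules.pullback s).obj 𝒜'') 0))
    (t : Spec (CommRingCat.of k) ⟶ P) (ht : t ≫ pP = 𝟙 _)
    (s : S ⟶ pullback (S ↘ Spec (CommRingCat.of k)) pP) (hs : s ≫ pullback.fst (S ↘ Spec (CommRingCat.of k)) pP = 𝟙 S)
    (hs' : s ≫ pullback.snd (S ↘ Spec (CommRingCat.of k)) pP = (S ↘ Spec (CommRingCat.of k)) ≫ t) :
    Module.finrank k (Coh.HH S ((Scheme.Modules.pullback s₀).obj 𝒜) 0) ≤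
      Module.finrank k (Coh.HH S ((Scheme.Modules.pullback s).obj 𝒜) 0) := by
  let q := pullback.snd (S ↘ Spec (CommRingCat.of k)) pP
  haveI : IsLocallyNoetherian P := LocallyOfFiniteType.isLocallyNoetherian pP
  haveI : IsProper q := inferInstanceAs (IsProper (pullback.snd _ _))
  haveI : IsLocallyNoetherian (pullback (S ↘ Spec (CommRingCat.of k)) pP) := LocallyOfFiniteType.isLocallyNoetherian q
  haveI : IsLocallyNoetherian S := LocallyOfFiniteType.isLocallyNoetherian (S ↘ Spec (CommRingCat.of k))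
  haveI : CompactSpace S := QuasiCompact.compactSpace_of_compactSpace (S ↘ Spec (CommRingCat.of k))
  haveI : IsNoetherian S := ⟨⟩
  have hQc : ∀ {M N : (pullback (S ↘ Spec (CommRingCat.of k)) pP).Modules} (f : M ⟶ N),
      Coh.IsCoh M → Coh.IsCoh N → Coh.IsCoh (cokernel f) := fun f hM hN =>
    CohBasics.Closure.isCoh_cokernel f hM.1 hN
  -- slices
  have slice : ∀ (τ : Spec (CommRingCat.of k) ⟶ P) (_ : τ ≫ pP = 𝟙 _)
      (v : S ⟶ pullback (S ↘ Spec (CommRingCat.of k)) pP) (_ : v ≫ pullback.fst (S ↘ Spec (CommRingCat.of k)) pP = 𝟙 S)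
      (_ : v ≫ q = (S ↘ Spec (CommRingCat.of k)) ≫ τ),
      ∃ (y : P) (hy : IsClosed ({y} : Set P)),
        IsPullback v (S ↘ Spec (CommRingCat.of k)) q (pointOfClosedPoint pP y hy) := by
    intro τ hτ v hv hv'
    have hy : IsClosed ({τ (IsLocalRing.closedPoint k)} : Set P) := (pointEquivClosedPoint pP ⟨τ, hτ⟩).2
    refine ⟨τ (IsLocalRing.closedPoint k), hy, ?_⟩
    rw [← ext_of_apply_closedPoint_eq pP hτ (pointOfClosedPoint_comp pP _ hy)
      (pointOfClosedPoint_apply pP _ hy _).symm]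
    refine IsPullback.of_right ?_ hv' (IsPullback.of_hasPullback _ _)
    rw [hv, hτ]
    exact IsPullback.of_horiz_isIso ⟨by simp⟩
  -- the length of the finite quotient
  let Q' := cokernel β
  have hQ'c : Coh.IsCoh Q' := hQc β h𝒜' h𝒜''
  haveI : Q'.IsQuasicoherent := hQ'c.1
  have hvan : ∀ (τ : Spec (CommRingCat.of k) ⟶ P) (hτ : τ ≫ pP = 𝟙 _)
      (v : S ⟶ pullback (S ↘ Spec (CommRingCat.of k)) pP) (hv : v ≫ pullback.fst (S ↘ Spec (CommRingCat.of k)) pP = 𝟙 S)
      (hv' : v ≫ q = (S ↘ Spec (CommRingCat.of k)) ≫ τ) (n : ℕ), 0 < n →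
      Subsingleton (Coh.HH S ((Scheme.Modules.pullback v).obj Q') n) := by
    intro τ hτ v hv hv' n hn
    haveI := (Cyc.FP.Stalk.isCoh_pullback v hQ'c).2
    exact GrothVanSupport.subsingleton_HH 2 hdim.le _ (d := 0) (by simpa using hQ'0 τ hτ v hv hv') n hn
  have hchi : ∀ (τ : Spec (CommRingCat.of k) ⟶ P) (hτ : τ ≫ pP = 𝟙 _)
      (v : S ⟶ pullback (S ↘ Spec (CommRingCat.of k)) pP) (hv : v ≫ pullback.fst (S ↘ Spec (CommRingCat.of k)) pP = 𝟙 S)
      (hv' : v ≫ q = (S ↘ Spec (CommRingCat.of k)) ≫ τ),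
      ∃ y : P, PerfAux.eulerChar q Q' y = (Module.finrank k (Coh.HH S ((Scheme.Modules.pullback v).obj Q') 0) : ℤ) := by
    intro τ hτ v hv hv'
    obtain ⟨y, hy, hpb⟩ := slice τ hτ v hv hv'
    refine ⟨y, ?_⟩
    rw [PerfAux.eulerChar, finsum_eq_single _ 0 fun n hn => ?_]
    · rw [pow_zero, one_mul, betti_slice pP q Q' y hy v hpb 0]
    · haveI := hvan τ hτ v hv hv' n (Nat.pos_of_ne_zero hn)
      rw [← betti_slice pP q Q' y hy v hpb n, Module.finrank_zero_of_subsingleton]
      simp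
  have hl : Module.finrank k (Coh.HH S ((Scheme.Modules.pullback s₀).obj (cokernel β)) 0) =
      Module.finrank k (Coh.HH S ((Scheme.Modules.pullback s).obj (cokernel β)) 0) := by
    obtain ⟨y₀, hy₀⟩ := hchi t₀ ht₀ s₀ hs₀ hs₀'
    obtain ⟨y, hy⟩ := hchi t ht s hs hs'
    have := (Groth.Agent.Lib.ExchangeFP29.Main.isLocallyConstant_eulerChar q Q'
      (Groth.Agent.Lib.ZarCoh.FP.isFP_of_isCoh Q' hQ'c) hQ').apply_eq_of_preconnectedSpace y₀ y
    rw [hy₀, hy] at this
    exact_mod_cast this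
  -- the fibre sequences
  let Tα := ShortComplex.mk α (cokernel.π α) (cokernel.condition α)
  let Tβ := ShortComplex.mk β (cokernel.π β) (cokernel.condition β)
  have hTα : Tα.ShortExact :=
    { exact := ShortComplex.exact_cokernel α, mono_f := inferInstanceAs (Mono α), epi_g := inferInstanceAs (Epi (cokernel.π α)) }
  have hTβ : Tβ.ShortExact :=
    { exact := ShortComplex.exact_cokernel β, mono_f := inferInstanceAs (Mono β), epi_g := inferInstanceAs (Epi (cokernel.π β)) }
  obtain ⟨y₀, hy₀, hpb₀⟩ := slice t₀ ht₀ s₀ hs₀ hs₀'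
  obtain ⟨y, hy, hpb⟩ := slice t ht s hs hs'
  have hA := mono_slice pP q hTα hQ y hy s hpb
  have hB := mono_slice pP q hTβ hQ' y hy s hpb
  have hB₀ := mono_slice pP q hTβ hQ' y₀ hy₀ s₀ hpb₀
  have fin : ∀ (v : S ⟶ pullback (S ↘ Spec (CommRingCat.of k)) pP) {M : (pullback (S ↘ Spec (CommRingCat.of k)) pP).Modules},
      Coh.IsCoh M → ∀ n, Module.Finite k (Coh.HH S ((Scheme.Modules.pullback v).obj M) n) := fun v M hM n =>
    _root_.ZarCoh.Exchange.Proper.finite_HH k _ (Cyc.FP.Stalk.isCoh_pullback v hM) n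
  haveI := fin s h𝒜 0
  haveI := fin s h𝒜' 0
  haveI := fin s h𝒜'' 0
  haveI := fin s hQ'c 0
  haveI := fin s₀ h𝒜' 0
  haveI := fin s₀ h𝒜' 1
  haveI := fin s₀ h𝒜'' 0
  haveI := fin s₀ h𝒜'' 1
  haveI := fin s₀ hQ'c 0
  -- `h⁰(A') ≤ h⁰(A)`
  have e1 : Module.finrank k (Coh.HH S ((Scheme.Modules.pullback s).obj 𝒜') 0) ≤
      Module.finrank k (Coh.HH S ((Scheme.Modules.pullback s).obj 𝒜) 0) := by
    haveI : Mono ((Scheme.Modules.pullback s).map α) := hA.mono_f
    exact LinearMap.finrank_le_finrank_of_injective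
      (f := Curves.LES.mapK k ((Scheme.Modules.pullback s).map α) 0) (Curves.LES.mapK_injective_of_mono k _)
  -- left exactness at the point
  have e2 : Module.finrank k (Coh.HH S ((Scheme.Modules.pullback s).obj 𝒜'') 0) ≤
      Module.finrank k (Coh.HH S ((Scheme.Modules.pullback s).obj 𝒜') 0) +
        Module.finrank k (Coh.HH S ((Scheme.Modules.pullback s).obj (cokernel β)) 0) := by
    let g := Curves.LES.mapK k (Tβ.map (Scheme.Modules.pullback s)).g 0
    have r1 := LinearMap.finrank_range_add_finrank_ker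
      (Curves.LES.mapK k ((Scheme.Modules.pullback s).map (cokernel.π β)) 0)
    have r2 := Submodule.finrank_le (LinearMap.range (Curves.LES.mapK k ((Scheme.Modules.pullback s).map (cokernel.π β)) 0))
    have r3 := LinearMap.finrank_range_le (Curves.LES.mapK k ((Scheme.Modules.pullback s).map β) 0)
    have ex : LinearMap.ker (Curves.LES.mapK k ((Scheme.Modules.pullback s).map (cokernel.π β)) 0) =
        LinearMap.range (Curves.LES.mapK k ((Scheme.Modules.pullback s).map β) 0) :=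
      LinearMap.exact_iff.1 (Curves.LES.exactK₂ k hB 0)
    rw [ex] at r1
    omega
  -- exactness at the special point
  have e3 : Module.finrank k (Coh.HH S ((Scheme.Modules.pullback s₀).obj 𝒜'') 0) =
      Module.finrank k (Coh.HH S ((Scheme.Modules.pullback s₀).obj 𝒜') 0) +
        Module.finrank k (Coh.HH S ((Scheme.Modules.pullback s₀).obj (cokernel β)) 0) := by
    haveI : Mono ((Scheme.Modules.pullback s₀).map β) := hB₀.mono_f
    let f0 := Curves.LES.mapK k ((Scheme.Modules.pullback s₀).map β) 0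
    let g0 := Curves.LES.mapK k ((Scheme.Modules.pullback s₀).map (cokernel.π β)) 0
    let f1 := Curves.LES.mapK k ((Scheme.Modules.pullback s₀).map β) 1
    have hsurj1 : Function.Surjective f1 := fun z => (Curves.LES.exactK₂ k hB₀ 1 z).1
      (@Subsingleton.elim _ (hvan t₀ ht₀ s₀ hs₀ hs₀' 1 one_pos) _ _)
    have hinj1 : Function.Injective f1 :=
      (LinearMap.injective_iff_surjective_of_finrank_eq_finrank h1).2 hsurj1
    have hsurj0 : Function.Surjective g0 := fun z => by
      refine (Curves.LES.exactK₃ k hB₀ 0 1 rfl z).1 (hinj1 ?_)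
      exact ((Curves.LES.exactK₁ k hB₀ 0 1 rfl _).2 ⟨z, rfl⟩).trans (map_zero f1).symm
    have r1 := LinearMap.finrank_range_add_finrank_ker g0
    have ex : LinearMap.ker g0 = LinearMap.range f0 := LinearMap.exact_iff.1 (Curves.LES.exactK₂ k hB₀ 0)
    rw [ex, LinearMap.range_eq_top.2 hsurj0, finrank_top,
      LinearMap.finrank_range_of_inj (Curves.LES.mapK_injective_of_mono k _)] at r1
    exact r1.symm.trans (add_comm _ _)
  have := hup t ht s hs hs'
  omega

end Groth.Agent.S15859
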