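import Groth.Statements.S15870
import Groth.Agent.Lib.TorsorSch.Neron
import Groth.Agent.Lib.WeilRep.SmoothAlg
import Groth.Agent.Lib.WeilRep.AlgFinite
import Groth.Agent.Lib.WeilRep.Counit
import Mathlib

set_option autoImplicit false
set_option linter.style.haveILetI false
universe u
open CategoryTheory AlgebraicGeometry
open scoped CategoryTheory.Obj TensorProduct
open NonAbH1

namespace Groth.Agent.S15870

/-- Over an affine base a finite projective algebra: an fppf algebra over which a smooth surjective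
affine scheme acquires a section. -/
theorem exists_alg {R B D : Type u} [CommRing R] [CommRing B] [Algebra R B] [Module.Finite R B] [Module.Projective R B]
    (hRB : Function.Surjective (PrimeSpectrum.comap (algebraMap R B)))
    [CommRing D] [Algebra B D] [Algebra.Smooth B D] (hBD : Function.Surjective (PrimeSpectrum.comap (algebraMap B D))) :
    ∃ (P : Type u) (_ : CommRing P) (_ : Algebra R P) (ψ : D →+* P ⊗[R] B),
      Module.Flat R P ∧ Algebra.FinitePresentation R P ∧ Function.Surjective (PrimeSpectrum.comap (algebraMap R P)) ∧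
      ψ.comp (algebraMap B D) = (Algebra.TensorProduct.includeRight (R := R) (A := P) (B := B)).toRingHom := by
  haveI := (inferInstance : Algebra.Smooth B D).formallySmooth
  haveI hDfp : Algebra.FinitePresentation B D := (inferInstance : Algebra.Smooth B D).finitePresentation
  obtain ⟨P, _, _, ψ, hP⟩ := Lib.WeilRep.AlgFinite.exists_isUniv (R := R) (B := B) (algebraMap B D)
  have hfp : Algebra.FinitePresentation R P := Lib.WeilRep.AlgFinite.finitePresentation _ (by convert hDfp; exact Algebra.algebra_ext _ _ fun _ => rfl) hP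
  have hψfp : ψ.FinitePresentation := by
    refine RingHom.FinitePresentation.of_comp_finiteType (algebraMap B D) ?_
      (RingHom.finiteType_algebraMap.2 inferInstance)
    rw [hP.1]
    exact Lib.WeilRep.Counit.includeRight_finitePresentation P
  have hψ : ψ.Smooth := by
    letI := ψ.toAlgebra
    exact { formallySmooth := Lib.WeilRep.SmoothAlg.counit_formallySmooth ψ hP, finitePresentation := hψfp }
  have hψs := Lib.WeilRep.SmoothAlg.counit_surjective hBD ψ hP
  have hinc : (Algebra.TensorProduct.includeRight (R := R) (A := P) (B := B)).toRingHom.Flat := by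
    rw [← hP.1]
    exact (RingHom.flat_algebraMap_iff.2 (inferInstance : Module.Flat B D)).comp hψ.flat
  have hcomm : (algebraMap B (B ⊗[R] P)).Flat := by
    have h := hinc.comp (RingHom.Flat.of_bijective (f := (Algebra.TensorProduct.comm R P B).toRingEquiv.toRingHom)
      (Algebra.TensorProduct.comm R P B).bijective)
    convert h using 1
    ext b
    simp [Algebra.TensorProduct.algebraMap_apply]
  haveI : Module.Flat B (B ⊗[R] P) := RingHom.flat_algebraMap_iff.1 hcomm
  haveI : Module.FaithfullyFlat R B := Module.FaithfullyFlat.of_comap_surjective hRB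
  have hflat : Module.Flat R P := Module.Flat.of_flat_tensorProduct R P B
  refine ⟨P, inferInstance, inferInstance, ψ, hflat, hfp, fun p => ?_, hP.1⟩
  obtain ⟨b, rfl⟩ := hRB p
  obtain ⟨d, rfl⟩ := hBD b
  obtain ⟨q, rfl⟩ := hψs d
  refine ⟨PrimeSpectrum.comap (Algebra.TensorProduct.includeLeft (R := R) (S := R) (A := P) (B := B)).toRingHom q, ?_⟩
  simp only [← PrimeSpectrum.comap_comp_apply, hP.1]
  congr 1
  exact ((Algebra.TensorProduct.includeLeft (R := R) (S := R) (A := P) (B := B)).comp_algebraMap).trans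
    (Algebra.TensorProduct.includeRight (R := R) (A := P) (B := B)).comp_algebraMap.symm

open CategoryTheory.Limits in
/-- Around every point of the base there is an fppf neighbourhood over which the torsor has a section. -/
theorem exists_local {S S' : Scheme.{u}} (π : S' ⟶ S) [IsFinite π] [Flat π] [LocallyOfFinitePresentation π]
    {E : Over S'} [Smooth E.hom] [Surjective E.hom] (s : S) :
    ∃ (W : Scheme.{u}) (g : W ⟶ S), Flat g ∧ LocallyOfFinitePresentation g ∧ s ∈ Set.range g ∧
      NonAbH1.HasSectionOver E (pullback.snd g π) := by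
  classical
  have hopen : IsOpen (Set.range π) := π.isOpenMap.isOpen_range
  have hclosed : IsClosed (Set.range π) := π.isClosedMap.isClosed_range
  by_cases hs : s ∈ Set.range π
  swap
  · let O : S.Opens := ⟨(Set.range π)ᶜ, hclosed.isOpen_compl⟩
    refine ⟨_, Scheme.Opens.ι O, inferInstance, inferInstance, ⟨(⟨s, hs⟩ : O), rfl⟩, ?_⟩
    set g := Scheme.Opens.ι O
    have : IsEmpty (pullback g π : Scheme.{u}) := ⟨fun z => (pullback.fst g π z).2 ⟨pullback.snd g π z, by
      have e := congrArg (fun f : pullback g π ⟶ S => f z) (pullback.condition (f := g) (g := π))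
      exact e.symm⟩⟩
    exact ⟨isInitialOfIsEmpty.to _, isInitialOfIsEmpty.hom_ext _ _⟩
  obtain ⟨V, hV, hsV, hVr⟩ := exists_isAffineOpen_mem_and_subset (show s ∈ (⟨Set.range π, hopen⟩ : S.Opens) from hs)
  have hV' : IsAffineOpen (π ⁻¹ᵁ V) := hV.preimage π
  -- a smooth affine cover of the preimage
  have hpt : ∀ b : (π ⁻¹ᵁ V : S'.Opens), ∃ O : E.left.Opens, IsAffineOpen O ∧ O ≤ E.hom ⁻¹ᵁ (π ⁻¹ᵁ V) ∧ b.1 ∈ E.hom '' O := by
    intro b
    obtain ⟨e, he⟩ := E.hom.surjective b.1
    obtain ⟨O, hO, heO, hle⟩ := exists_isAffineOpen_mem_and_subset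
      (show e ∈ E.hom ⁻¹ᵁ (π ⁻¹ᵁ V) by show E.hom e ∈ π ⁻¹ᵁ V; rw [he]; exact b.2)
    exact ⟨O, hO, hle, e, heO, he⟩
  choose O hO hOle hbO using hpt
  obtain ⟨t, ht⟩ := hV'.isCompact.elim_finite_subcover (fun b => E.hom '' (O b : Set E.left))
    (fun b => E.hom.isOpenMap _ (O b).2) (fun b hb => Set.mem_iUnion.2 ⟨⟨b, hb⟩, hbO _⟩)
  haveI : ∀ i : t, IsAffine ((O i.1 : E.left.Opens) : Scheme.{u}) := fun i => hO i.1
  let X' : Scheme.{u} := ∐ fun i : t => ((O i.1 : E.left.Opens) : Scheme.{u})
  let j : X' ⟶ E.left := Sigma.desc fun i : t => (O i.1).ι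
  let q : X' ⟶ (π ⁻¹ᵁ V : S'.Opens) := Sigma.desc fun i : t =>
    IsOpenImmersion.lift (π ⁻¹ᵁ V).ι ((O i.1).ι ≫ E.hom) (by
      rintro _ ⟨y, rfl⟩
      rw [Scheme.Opens.range_ι]
      exact hOle _ y.2)
  have hqj : q ≫ (π ⁻¹ᵁ V).ι = j ≫ E.hom := Sigma.hom_ext _ _ fun i => by
    simp [q, j, IsOpenImmersion.lift_fac]
  have hj : ∀ i : t, Sigma.ι _ i ≫ j = (O i.1).ι := fun i => Sigma.ι_desc _ _
  have hqsm : Smooth q := by
    have : Smooth (q ≫ (π ⁻¹ᵁ V).ι) := by
      rw [hqj]
      have : IsZariskiLocalAtSource @Smooth.{u} :=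
        HasRingHomProperty.instIsZariskiLocalAtSource (P := @Smooth) (Q := RingHom.Smooth)
      have : Smooth j := IsZariskiLocalAtSource.sigmaDesc (P := @Smooth) fun i => inferInstance
      infer_instance
    exact MorphismProperty.of_postcomp (W := @Smooth) (W' := @IsOpenImmersion) q (π ⁻¹ᵁ V).ι inferInstance this
  have hqs : Surjective q := ⟨fun b => by
    obtain ⟨i, hit, e, he, heb⟩ := Set.mem_iUnion₂.1 (ht b.2)
    refine ⟨Sigma.ι (fun i : t => ((O i.1 : E.left.Opens) : Scheme.{u})) ⟨i, hit⟩ ⟨e, he⟩, (π ⁻¹ᵁ V).ι.isOpenEmbedding.injective ?_⟩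
    have e₁ : Sigma.ι (fun i : t => ((O i.1 : E.left.Opens) : Scheme.{u})) ⟨i, hit⟩ ≫ q ≫ (π ⁻¹ᵁ V).ι = (O i).ι ≫ E.hom := by
      rw [hqj, ← Category.assoc, hj]
    exact (congrArg (fun f : ((O i : E.left.Opens) : Scheme.{u}) ⟶ S' => f ⟨e, he⟩) e₁).trans heb⟩
  haveI : IsAffine ((π ⁻¹ᵁ V : S'.Opens) : Scheme.{u}) := hV'
  haveI : IsAffine (V : Scheme.{u}) := hV
  let R := Γ((V : Scheme.{u}), ⊤)
  let B := Γ(((π ⁻¹ᵁ V : S'.Opens) : Scheme.{u}), ⊤)
  let D := Γ(X', ⊤)
  letI : Algebra R B := (π ∣_ V).appTop.hom.toAlgebra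
  letI : Algebra B D := q.appTop.hom.toAlgebra
  have hrq : ∀ {Y Z : Scheme.{u}} [IsAffine Y] [IsAffine Z] (f : Y ⟶ Z) [Surjective f],
      Function.Surjective (PrimeSpectrum.comap f.appTop.hom) := by
    intro Y Z _ _ f _
    have : Surjective (Spec.map f.appTop) := by
      rw [← MorphismProperty.cancel_left_of_respectsIso @Surjective Y.isoSpec.hom]
      have e : Y.isoSpec.hom ≫ Spec.map f.appTop = f ≫ Z.isoSpec.hom := Scheme.isoSpec_hom_naturality f
      rw [e]
      infer_instance
    exact this.1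
  haveI : Surjective (π ∣_ V) := ⟨fun v => by
    obtain ⟨w, hw⟩ := hVr v.2
    refine ⟨⟨w, show π w ∈ V by rw [hw]; exact v.2⟩, V.ι.isOpenEmbedding.injective ?_⟩
    rw [← Scheme.Hom.comp_apply, morphismRestrict_ι, Scheme.Hom.comp_apply]
    exact hw⟩
  haveI : Algebra.Smooth B D := (HasRingHomProperty.iff_of_isAffine (P := @Smooth)).1 hqsm
  have hfin : (π ∣_ V).appTop.hom.Finite :=
    ((HasAffineProperty.iff_of_isAffine (P := @IsFinite)).1 (inferInstance : IsFinite (π ∣_ V))).2
  haveI : Module.Finite R B := hfin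
  haveI : Module.Flat R B := (HasRingHomProperty.iff_of_isAffine (P := @Flat)).1 (inferInstance : Flat (π ∣_ V))
  haveI : Algebra.FinitePresentation R B :=
    (HasRingHomProperty.iff_of_isAffine (P := @LocallyOfFinitePresentation)).1
      (inferInstance : LocallyOfFinitePresentation (π ∣_ V))
  haveI : Module.FinitePresentation R B := Module.FinitePresentation.of_finite_of_finitePresentation R B
  haveI : Module.Projective R B := Module.Flat.projective_of_finitePresentation
  obtain ⟨P, _, _, ψ, hPflat, hPfp, hPs, hψ⟩ := exists_alg (R := R) (B := B) (D := D) (hrq (π ∣_ V)) (hrq q)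
  let g₀ : Spec (CommRingCat.of P) ⟶ Spec R := Spec.map (CommRingCat.ofHom (algebraMap R P))
  let g : Spec (CommRingCat.of P) ⟶ S := g₀ ≫ (V : Scheme.{u}).isoSpec.inv ≫ V.ι
  haveI : Flat g₀ := Flat.SpecMap_iff.2 (RingHom.flat_algebraMap_iff.2 hPflat)
  haveI : LocallyOfFinitePresentation g₀ :=
    (HasRingHomProperty.Spec_iff (P := @LocallyOfFinitePresentation)).2 (RingHom.finitePresentation_algebraMap.2 hPfp)
  refine ⟨_, g, inferInstance, inferInstance, ?_, ?_⟩
  · obtain ⟨p, hp⟩ := hPs ((V : Scheme.{u}).isoSpec.hom ⟨s, hsV⟩)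
    refine ⟨p, ?_⟩
    show V.ι ((V : Scheme.{u}).isoSpec.inv (g₀ p)) = s
    rw [show g₀ p = (V : Scheme.{u}).isoSpec.hom ⟨s, hsV⟩ from hp]
    exact congrArg (fun f : (V : Scheme.{u}) ⟶ S => f ⟨s, hsV⟩) (Iso.hom_inv_id_assoc (V : Scheme.{u}).isoSpec V.ι)
  · -- the square
    have h₁ : IsPullback (Spec.map (CommRingCat.ofHom (Algebra.TensorProduct.includeLeftRingHom (R := R) (A := P) (B := B))))
        (Spec.map (CommRingCat.ofHom (Algebra.TensorProduct.includeRight (R := R) (A := P) (B := B)).toRingHom))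
        g₀ (Spec.map (CommRingCat.ofHom (algebraMap R B))) :=
      isPullback_SpecMap_of_isPushout _ _ _ _ (CommRingCat.isPushout_tensorProduct R P B)
    have h₂ : IsPullback (Spec.map (CommRingCat.ofHom (algebraMap R B)))
        (((π ⁻¹ᵁ V : S'.Opens) : Scheme.{u}).isoSpec.inv ≫ (π ⁻¹ᵁ V).ι) ((V : Scheme.{u}).isoSpec.inv ≫ V.ι) π := by
      have := (IsPullback.of_vert_isIso (fst := Spec.map (CommRingCat.ofHom (algebraMap R B)))
        (snd := ((π ⁻¹ᵁ V : S'.Opens) : Scheme.{u}).isoSpec.inv) (f := (V : Scheme.{u}).isoSpec.inv) (g := π ∣_ V)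
        ⟨Scheme.isoSpec_inv_naturality (π ∣_ V)⟩).paste_vert (isPullback_morphismRestrict π V)
      exact this
    have sq : IsPullback (Spec.map (CommRingCat.ofHom (Algebra.TensorProduct.includeLeftRingHom (R := R) (A := P) (B := B))))
        (Spec.map (CommRingCat.ofHom (Algebra.TensorProduct.includeRight (R := R) (A := P) (B := B)).toRingHom) ≫
          ((π ⁻¹ᵁ V : S'.Opens) : Scheme.{u}).isoSpec.inv ≫ (π ⁻¹ᵁ V).ι) g π :=
      (h₁.flip.paste_horiz h₂.flip).flip
    refine ⟨sq.isoPullback.inv ≫ Spec.map (CommRingCat.ofHom ψ) ≫ X'.isoSpec.inv ≫ j, ?_⟩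
    rw [← sq.isoPullback_inv_snd]
    simp only [Category.assoc]
    congr 1
    rw [← hqj]
    have e : X'.isoSpec.inv ≫ q = Spec.map q.appTop ≫ ((π ⁻¹ᵁ V : S'.Opens) : Scheme.{u}).isoSpec.inv :=
      (Scheme.isoSpec_inv_naturality q).symm
    rw [reassoc_of% e, ← Spec.map_comp_assoc]
    congr 2
    exact CommRingCat.hom_ext hψ

/-- Let π : S' → S be finite locally free (finite, flat, locally of finite presentation), G a smooth
S'-group scheme and E an fppf G-torsor over S'. Then E trivializes fppf locally on S: some fppf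
covering family of S consists of morphisms U → S such that E has a section over U ×_S S' → S'. (The
published statement is for a variable S-scheme T, torsors over S' ×_S T and G a group algebraic
space; this row is the case T = S with G a scheme, to which the general case reduces by base change
of π.) -/
theorem result
    {S S' : Scheme.{u}} (π : S' ⟶ S) [IsFinite π] [Flat π] [LocallyOfFinitePresentation π]
    (G : Over S') [GrpObj G] [Smooth G.hom]
    (E : NonAbH1.TorsorSch G Scheme.fppfPrecoverage) :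
    ∃ R ∈ Scheme.fppfPrecoverage S, ∀ ⦃U : Scheme.{u}⦄ (g : U ⟶ S), R g →
      NonAbH1.HasSectionOver E.X (Limits.pullback.snd g π) := by
  have t := Lib.TorsorSch.Descent.isTorsorFor_mono Scheme.fppfPrecoverage_le_fpqcPrecoverage E.isTorsor
  have : Smooth E.X.hom := Lib.TorsorSch.Basic.of_hom (P := @Smooth) t inferInstance
  have : Surjective E.X.hom := Lib.TorsorSch.Basic.of_hom (P := @Surjective) t
    ⟨fun x ↦ ⟨(MonObj.one (X := G)).left x, congr($(Over.w (MonObj.one (X := G))) x)⟩⟩
  choose W g hfl hfp hs hsec using fun s => exists_local π (E := E.X) s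
  refine ⟨Presieve.ofArrows W g, ?_, ?_⟩
  · exact (Scheme.ofArrows_mem_precoverage_iff _).2 ⟨fun s => ⟨s, hs s⟩, fun i => ⟨hfl i, hfp i⟩⟩
  · rintro U f ⟨s⟩
    exact hsec s

end Groth.Agent.S15870
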