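import Groth.Statements.S15873
import Groth.Agent.Lib.TorsorSch.NormalBase

set_option autoImplicit false
universe u
open CategoryTheory MonoidalCategory CartesianMonoidalCategory MonObj GrpObj AlgebraicGeometry
open NonAbH1

namespace Groth.Agent.S15873

/-- The residue map at the generic point is an isomorphism on spectra. -/
theorem isIso_residue (S : Scheme.{u}) [IsIntegral S] :
    IsIso (Spec.map (S.residue (genericPoint S))) := by
  have : IsIso (S.residue (genericPoint S)) := by
    rw [ConcreteCategory.isIso_iff_bijective]
    exact ⟨RingHom.injective (R := S.functionField) (S.residue (genericPoint S)).hom,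
      S.residue_surjective _⟩
  infer_instance

/-- Let G be an étale k-group scheme, S a normal integral k-scheme with generic point η and E an fppf
torsor over S under G. Then every point of E over S with values in Spec κ(η) extends to a unique
section of E over S: E(S) → E(κ(η)) is bijective. (The published statement takes S merely integral;
for the nodal cubic over an algebraically closed field and the connected étale double cover, a
torsor under the constant group of order 2, the generic fibre has rational points while there is no
section, and the published proof extends generic points of finite étale schemes, which requires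
normality, so S is taken normal here.) -/
theorem result (k : Type u) [Field k]
    (G : Over (Spec (CommRingCat.of k))) [GrpObj G] [Etale G.hom]
    (S : Scheme.{u}) [IsIntegral S] (hS : Pi1.IsNormalScheme S) (s : S ⟶ Spec (CommRingCat.of k))
    (E : NonAbH1.TorsorSch (Red.bc s G) Scheme.fppfPrecoverage) :
    (∀ σ₁ σ₂ : S ⟶ E.X.left, σ₁ ≫ E.X.hom = 𝟙 S → σ₂ ≫ E.X.hom = 𝟙 S →
        S.fromSpecResidueField (genericPoint S) ≫ σ₁ = S.fromSpecResidueField (genericPoint S) ≫ σ₂ → σ₁ = σ₂) ∧
    (∀ x : Spec (S.residueField (genericPoint S)) ⟶ E.X.left,
        x ≫ E.X.hom = S.fromSpecResidueField (genericPoint S) →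
        ∃ σ : S ⟶ E.X.left, σ ≫ E.X.hom = 𝟙 S ∧ S.fromSpecResidueField (genericPoint S) ≫ σ = x) := by
  obtain ⟨hsep, hext⟩ := Groth.Agent.Lib.TorsorSch.NormalBase.exists_section_of_etale G hS s
    E.isTorsor
  have := isIso_residue S
  have hres : S.fromSpecResidueField (genericPoint S) =
      Spec.map (S.residue (genericPoint S)) ≫ S.fromSpecStalk (genericPoint S) := rfl
  refine ⟨fun σ₁ σ₂ h₁ h₂ h ↦ ?_, fun x hx ↦ ?_⟩
  · rw [hres, Category.assoc, Category.assoc, cancel_epi] at h
    refine Groth.Agent.Lib.TorsorSch.RatSection.ext_of_genericPoint E.X.hom (𝟙 S) h₁ h₂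
      fun d hd ↦ ?_
    rw [Category.comp_id] at hd
    rw [hd]
    exact h
  · obtain ⟨σ, h1, h2⟩ := hext (inv (Spec.map (S.residue (genericPoint S))) ≫ x)
      (by rw [Category.assoc, hx, hres, IsIso.inv_hom_id_assoc])
    exact ⟨σ, h1, by rw [hres, Category.assoc, h2, IsIso.hom_inv_id_assoc]⟩

end Groth.Agent.S15873
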