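import Groth.Statements.S15875
import Groth.Agent.Lib.WeilRep.QcKernel
import Groth.Agent.Lib.WeilRep.AF
import Groth.Agent.Lib.ProCons45.Descend
import Groth.Agent.Lib.GrpSch.Basic

set_option autoImplicit false
universe u
open CategoryTheory MonoidalCategory CartesianMonoidalCategory MonObj GrpObj AlgebraicGeometry
open AGF

set_option backward.isDefEq.respectTransparency false
set_option linter.style.haveILetI false
open Groth.Agent.Lib AlgebraicGeometry CategoryTheory CategoryTheory.Limits

namespace Groth.Agent.S15875

/-- Let k'/k be a finite purely inseparable field extension, G a k-group locally of finite type, q :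
G_{k'} → Ḡ a faithfully flat homomorphism onto a k'-group Ḡ locally of finite type with
quasi-compact kernel N, and (R, q_R) a Weil restriction of Ḡ to k carrying a group structure for
which q_R is a homomorphism. Then the comparison morphism i : G → R corresponding to q is
quasi-compact. (The published statement allows any finite extension k'/k and adds that the kernel of
i is quasi-compact as well; the published proof goes through the purely inseparable case of the
kernel of the counit of Weil restriction, so k'/k is taken purely inseparable here.) -/
theorem result (k k' : Type u) [Field k] [Field k'] [Algebra k k']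
    [Module.Finite k k'] [IsPurelyInseparable k k']
    (G : Over (Spec (CommRingCat.of k))) [GrpObj G] [LocallyOfFiniteType G.hom]
    (Gbar : Over (Spec (CommRingCat.of k'))) [GrpObj Gbar] [LocallyOfFiniteType Gbar.hom]
    (q : Red.bc (Spec.map (CommRingCat.ofHom (algebraMap k k'))) G ⟶ Gbar) [IsMonHom q] [Surjective q.left] [Flat q.left]
    (N : Over (Spec (CommRingCat.of k'))) (iN : N ⟶ Red.bc (Spec.map (CommRingCat.ofHom (algebraMap k k'))) G) (hN : AlgGrp.IsKernel iN q) [CompactSpace N.left]
    (R : Over (Spec (CommRingCat.of k))) [GrpObj R] (qR : Red.bc (Spec.map (CommRingCat.ofHom (algebraMap k k'))) R ⟶ Gbar) [IsMonHom qR]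
    (hR : WeilRes.IsWeilRes (Spec.map (CommRingCat.ofHom (algebraMap k k'))) Gbar R qR) :
    QuasiCompact (hR.lift G q).left := by
  let f := Spec.map (CommRingCat.ofHom (algebraMap k k'))
  haveI : Surjective f := ⟨fun y => ⟨IsLocalRing.closedPoint k', Subsingleton.elim (α := ↥(Spec (CommRingCat.of k))) _ _⟩⟩
  haveI : QuasiCompact f := inferInstance
  haveI : LocallyOfFiniteType f := by
    rw [HasRingHomProperty.Spec_iff (P := @LocallyOfFiniteType)]
    exact RingHom.Finite.finiteType (RingHom.finite_algebraMap.mpr inferInstance)
  haveI : LocallyOfFiniteType (Red.bc f G).hom := inferInstanceAs (LocallyOfFiniteType (pullback.snd G.hom f))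
  haveI : IsLocallyNoetherian Gbar.left := LocallyOfFiniteType.isLocallyNoetherian Gbar.hom
  haveI : LocallyOfFiniteType (q.left ≫ Gbar.hom) := by rw [Over.w q]; infer_instance
  haveI : LocallyOfFiniteType q.left := locallyOfFiniteType_of_comp q.left Gbar.hom
  haveI : LocallyOfFinitePresentation q.left := inferInstance
  haveI : UniversallyOpen q.left := UniversallyOpen.of_flat q.left
  haveI : QuasiCompact N.hom := (HasAffineProperty.iff_of_isAffine (P := @QuasiCompact)).mpr inferInstance
  haveI := Lib.WeilRep.QcKernel.quasiCompact_of_kernel q iN hN q.left.isOpenMap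
  haveI : IsSeparated R.hom := GrpSch.isSeparated_of_field R
  haveI : IsSeparated (Red.bc f R).hom := inferInstanceAs (IsSeparated (pullback.snd R.hom f))
  haveI : IsSeparated (qR.left ≫ Gbar.hom) := by rw [Over.w qR]; infer_instance
  haveI : IsSeparated qR.left := IsSeparated.of_comp qR.left Gbar.hom
  let i := hR.lift G q
  have hi : (Over.pullback f).map i ≫ qR = q := hR.restr_lift G q
  haveI : QuasiCompact (((Over.pullback f).map i).left ≫ qR.left) := by
    rw [← Over.comp_left, hi]; infer_instance
  haveI : QuasiCompact ((Over.pullback f).map i).left := QuasiCompact.of_comp _ qR.left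
  have sq := Lib.WeilRep.AF.isPullback_map f i
  haveI : Surjective (pullback.fst R.hom f) := inferInstance
  haveI : QuasiCompact (pullback.snd i.left (pullback.fst R.hom f)) := by
    have h : sq.flip.isoPullback.inv ≫ ((Over.pullback f).map i).left = pullback.snd i.left (pullback.fst R.hom f) :=
      IsPullback.isoPullback_inv_snd _
    rw [← h]; infer_instance
  exact Lib.ProCons45.Descend.quasiCompact_of_snd i.left (pullback.fst R.hom f)

end Groth.Agent.S15875
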