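import Groth.Statements.S15876
import Groth.Agent.Lib.WeilRep.KernelGen
import Groth.Agent.Lib.WittU.NoTorus
import Groth.Agent.Lib.GrpSch.Basic

set_option autoImplicit false
universe u
open CategoryTheory MonoidalCategory CartesianMonoidalCategory MonObj GrpObj AlgebraicGeometry
open AGF

set_option backward.isDefEq.respectTransparency false
set_option linter.style.haveILetI false
set_option synthInstance.maxHeartbeats 200000
open Groth.Agent.Lib Groth.Agent.Lib.WeilRep AlgebraicGeometry CategoryTheory CategoryTheory.Limits MonoidalCategory CartesianMonoidalCategory MonObj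

namespace Groth.Agent.S15876

/-- Let k'/k be a finite purely inseparable extension, G' a k'-group locally of finite type, (R, q) a
Weil restriction of G' to k with a group structure making q : R_{k'} → G' a homomorphism, and K the
kernel of q. Then K is affine and quasi-compact with no non-trivial subtorus in its geometric fibre,
and when G' is smooth K is moreover smooth and connected. (The published statement says that K is
unipotent, and split unipotent when G' is smooth; unipotent k'-groups are affine of finite type with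
no geometric subtori and split ones are in addition smooth and connected, which is what this row
records, a weaker conclusion.) -/
theorem result (k k' : Type u) [Field k] [Field k']
    [Algebra k k'] [Module.Finite k k'] [IsPurelyInseparable k k']
    (G' : Over (Spec (CommRingCat.of k'))) [GrpObj G'] [LocallyOfFiniteType G'.hom]
    (R : Over (Spec (CommRingCat.of k))) [GrpObj R] (q : Red.bc (Spec.map (CommRingCat.ofHom (algebraMap k k'))) R ⟶ G') [IsMonHom q]
    (hR : WeilRes.IsWeilRes (Spec.map (CommRingCat.ofHom (algebraMap k k'))) G' R q)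
    (K : Over (Spec (CommRingCat.of k'))) [GrpObj K] (iK : K ⟶ Red.bc (Spec.map (CommRingCat.ofHom (algebraMap k k'))) R) [IsMonHom iK]
    (hK : AlgGrp.IsKernel iK q) :
    (IsAffine K.left ∧ CompactSpace ↥K.left ∧ (∀ s : ↥(Spec (CommRingCat.of k')), Red.HasNoSubtorus (AlgebraicClosure ((Spec (CommRingCat.of k')).residueField s)) (Red.geomFibre s K))) ∧
    (Smooth G'.hom → Smooth K.hom ∧ ConnectedSpace ↥K.left) := by
  let f := Spec.map (CommRingCat.ofHom (algebraMap k k'))
  let e : ∀ Y : Over (Spec (CommRingCat.of k)), (Y ⟶ R) ≃ (Red.bc f Y ⟶ G') := fun Y =>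
    Equiv.ofBijective (WeilRes.restr f q Y) (hR Y)
  have he : ∀ (Y Z : Over (Spec (CommRingCat.of k))) (h : Y ⟶ Z) (g : Z ⟶ R),
      e Y (h ≫ g) = (Over.pullback f).map h ≫ e Z g := fun Y Z h g => WeilRes.restr_comp f q h g
  have hmul : ∀ (Y : Over (Spec (CommRingCat.of k))) (g h : Y ⟶ R), e Y (g * h) = e Y g * e Y h :=
    fun Y g h => WeilRes.restr_mul f q Y g h
  have hq : e R (𝟙 R) = q := WeilRes.restr_id f q
  haveI : IsSeparated G'.hom := GrpSch.isSeparated_of_field G'
  let o₀ : ↥G'.left := (η[G'] : 𝟙_ (Over (Spec (CommRingCat.of k'))) ⟶ G').left.base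
    (IsLocalRing.closedPoint k' : ↥(Spec (CommRingCat.of k')))
  obtain ⟨V, hV, hoV, -⟩ := exists_isAffineOpen_mem_and_subset (X := G'.left) (x := o₀) (U := ⊤) trivial
  let U : Over (Spec (CommRingCat.of k')) := Over.mk (V.ι ≫ G'.hom)
  let jU : U ⟶ G' := Over.homMk V.ι rfl
  haveI : IsOpenImmersion jU.left := inferInstanceAs (IsOpenImmersion V.ι)
  haveI : IsAffine U.left := hV
  have hro : Set.range (η[G'] : 𝟙_ (Over (Spec (CommRingCat.of k'))) ⟶ G').left ⊆ Set.range V.ι := by
    rintro _ ⟨z, rfl⟩
    rw [Scheme.Opens.range_ι]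
    exact (congrArg (fun t => (η[G'] : 𝟙_ (Over (Spec (CommRingCat.of k'))) ⟶ G').left.base t)
      (Subsingleton.elim (α := ↥(Spec (CommRingCat.of k'))) z (IsLocalRing.closedPoint k'))).symm ▸ hoV
  let o : 𝟙_ (Over (Spec (CommRingCat.of k'))) ⟶ U := Over.homMk (IsOpenImmersion.lift V.ι _ hro) (by
    change IsOpenImmersion.lift V.ι _ hro ≫ V.ι ≫ G'.hom = _
    rw [IsOpenImmersion.lift_fac_assoc, Over.w])
  have ho : o ≫ jU = η[G'] := Over.OverMorphism.ext (IsOpenImmersion.lift_fac _ _ _)
  let θ : Spec (CommRingCat.of Γ(U.left, ⊤)) ≅ U.left := U.left.isoSpec.symm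
  obtain ⟨β, hβ⟩ := Spec.map_surjective (θ.hom ≫ U.hom)
  obtain ⟨P, _, _, ψ, hP⟩ := AlgFinite.exists_isUniv (R := k) (B := k') β.hom
  obtain ⟨u, -, hbij⟩ := Counit.exists_univ U θ β.hom hβ.symm hP
  haveI : IsAffine (Counit.wObj k P).left := inferInstanceAs (IsAffine (Spec (CommRingCat.of P)))
  have hK' : AlgGrp.IsKernel iK (e R (𝟙 R)) := by rw [hq]; exact hK
  obtain ⟨iso⟩ := KernelGen.exists_iso_kernel jU o ho e he iK hK' u hbij
  haveI : IsIso iso.hom.left := inferInstanceAs (IsIso ((Over.forget _).map iso.hom))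
  haveI : IsAffine ((Over.pullback f).obj (Counit.wObj k P)).left :=
    inferInstanceAs (IsAffine (pullback (Counit.wObj k P).hom f))
  have hsq := (IsPullback.of_hasPullback u o).map (Over.forget _)
  haveI : IsClosedImmersion o.left := by
    haveI : IsClosedImmersion (o.left ≫ U.hom) := by
      rw [Over.w]; exact inferInstanceAs (IsClosedImmersion (𝟙 (Spec (CommRingCat.of k'))))
    exact IsClosedImmersion.of_comp _ U.hom
  haveI : IsClosedImmersion (pullback.fst u o).left :=
    MorphismProperty.of_isPullback (P := @IsClosedImmersion) hsq.flip ‹_›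
  haveI : IsAffine (pullback u o).left := isAffine_of_isAffineHom (pullback.fst u o).left
  haveI : IsAffine K.left := IsAffine.of_isIso iso.hom.left
  haveI : Mono iK := by
    haveI : Mono (η[G'] : 𝟙_ (Over (Spec (CommRingCat.of k'))) ⟶ G') := ⟨fun a b _ => toUnit_unique a b⟩
    exact hK.mono_fst_of_mono
  have hiK : iK ≫ e R (𝟙 R) = 1 := by rw [Hom.one_def]; exact hK'.w
  have hN : ∃ N : ℕ, 0 < N ∧ (𝟙 K) ^ N = 1 := by
    letI : Algebra k' Γ(K.left, ⊤) := (AffPts.strMap K).toAlgebra
    letI : Algebra k Γ(K.left, ⊤) := ((AffPts.strMap K).comp (algebraMap k k')).toAlgebra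
    haveI : IsScalarTower k k' Γ(K.left, ⊤) := IsScalarTower.of_algebraMap_eq fun _ => rfl
    let j : Kernel.spC k' Γ(K.left, ⊤) ⟶ K := AffPts.mkPt (RingHom.id _) (RingHom.id_comp _)
    haveI : IsIso j.left := by
      change IsIso (Spec.map (CommRingCat.ofHom (RingHom.id Γ(K.left, ⊤))) ≫ K.left.isoSpec.inv)
      rw [CommRingCat.ofHom_id, Spec.map_id, Category.id_comp]; infer_instance
    haveI : Epi j.left := inferInstance
    haveI : Epi j := Over.epi_of_epi_left j
    have hx : (j ≫ iK) ≫ e R (𝟙 R) = 1 := by rw [Category.assoc, hiK, MonObj.comp_one]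
    have fin : ∀ N : ℕ, (j ≫ iK) ^ N = 1 → (𝟙 K) ^ N = 1 := fun N h => by
      rw [← cancel_mono iK, ← cancel_epi j, MonObj.pow_comp, MonObj.one_comp, MonObj.comp_one, MonObj.comp_pow,
        Category.id_comp]
      exact h
    obtain ⟨p, hp⟩ : ∃ p, ExpChar k p := ⟨ringExpChar k, inferInstance⟩
    cases hp with
    | zero =>
      exact ⟨1, Nat.one_pos, fin 1 (by
        rw [pow_one]
        exact KernelGen.eq_one_of_surjective jU o ho e he hmul
          (IsPurelyInseparable.surjective_algebraMap_of_isSeparable k k') _ hx)⟩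
    | prime hprime =>
      obtain ⟨m, hm⟩ := KernelGen.exists_pow_eq_one jU o ho e he hmul p (CharP.cast_eq_zero k p) _ hx
      exact ⟨p ^ m, pow_pos hprime.pos m, fin _ hm⟩
  refine ⟨⟨inferInstance, inferInstance, fun s => ?_⟩, fun hsm => ?_⟩
  · obtain ⟨N, hN0, hN⟩ := hN
    refine Lib.WittU.NoTorus.hasNoSubtorus_of_pow hN0 fun X x => ?_
    refine RedPts.BC.down_injective ?_
    rw [show RedPts.BC.down (Red.geomPt s) (x ^ N) = RedPts.BC.down (Red.geomPt s) x ^ N from
      map_pow (RedPts.BC.downMulEquiv (Red.geomPt s) X K) x N, RedPts.BC.down_one,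
      ← Category.comp_id (RedPts.BC.down (Red.geomPt s) x), ← MonObj.comp_pow, hN, MonObj.comp_one]
  haveI : Smooth U.hom := inferInstanceAs (Smooth (V.ι ≫ G'.hom))
  haveI : Surjective U.hom := ⟨fun y =>
    ⟨o.left (IsLocalRing.closedPoint k' : ↥(Spec (CommRingCat.of k'))),
      Subsingleton.elim (α := ↥(Spec (CommRingCat.of k'))) _ y⟩⟩
  refine ⟨?_, ?_⟩
  · have hu : Smooth u.left := by
      have h := (Counit.smooth_surjective (R := k) (B := k') U (Counit.wObj k P)
        (fun T => Equiv.ofBijective _ (hbij T))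
        (fun Y Z h g => by
          change (Over.pullback f).map (h ≫ g) ≫ u = (Over.pullback f).map h ≫ (Over.pullback f).map g ≫ u
          rw [Functor.map_comp, Category.assoc])).1
      change Smooth ((Over.pullback f).map (𝟙 (Counit.wObj k P)) ≫ u).left at h
      rwa [CategoryTheory.Functor.map_id, Category.id_comp] at h
    haveI : Smooth (pullback.snd u o).left := MorphismProperty.of_isPullback (P := @Smooth) hsq hu
    rw [← Over.w iso.hom, ← Over.w (pullback.snd u o)]
    haveI : Smooth (𝟙_ (Over (Spec (CommRingCat.of k')))).hom := inferInstanceAs (Smooth (𝟙 _))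
    infer_instance
  · let e₀ : ↥K.left := (η[K] : 𝟙_ (Over (Spec (CommRingCat.of k'))) ⟶ K).left.base
      (IsLocalRing.closedPoint k' : ↥(Spec (CommRingCat.of k')))
    suffices key : ∀ (F : Type u) [Field F] [Algebra k' F] (z : Kernel.spC k' F ⟶ K) (pF : ↥(Spec (CommRingCat.of F))),
        z.left.base pF ∈ connectedComponent e₀ by
      refine connectedSpace_iff_connectedComponent.2 ⟨e₀, Set.eq_univ_of_forall fun x => ?_⟩
      let F := K.left.residueField x
      letI : Algebra k' F := (Spec.preimage (R := CommRingCat.of k') (K.left.fromSpecResidueField x ≫ K.hom)).hom.toAlgebra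
      have h := key F (Over.homMk (K.left.fromSpecResidueField x) (Spec.map_preimage _).symm)
        (IsLocalRing.closedPoint F)
      exact (Scheme.fromSpecResidueField_apply x (IsLocalRing.closedPoint F)) ▸ h
    intro F _ _ z pF
    letI : Algebra k F := ((algebraMap k' F).comp (algebraMap k k')).toAlgebra
    haveI : IsScalarTower k k' F := IsScalarTower.of_algebraMap_eq fun _ => rfl
    have hz : (z ≫ iK) ≫ e R (𝟙 R) = 1 := by rw [Category.assoc, hiK, MonObj.comp_one]
    haveI : IsScalarTower k k' (Polynomial F) := inferInstance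
    obtain ⟨y, hy, hy₀, hy₁⟩ := KernelGen.exists_path (C := F) jU o ho e he hmul (IsScalarTower.toAlgHom k' F (Polynomial F))
      Polynomial.X ((Polynomial.aeval (0 : F)).restrictScalars k') ((Polynomial.aeval (1 : F)).restrictScalars k')
      (fun c => Polynomial.aeval_C (0 : F) c) (fun c => Polynomial.aeval_C (1 : F) c) (Polynomial.aeval_X (0 : F))
      (Polynomial.aeval_X (1 : F)) (z ≫ iK) hz
    let Y : Kernel.spC k' (Polynomial F) ⟶ K := hK'.lift y (toUnit _) (by rw [← Hom.one_def]; exact hy)
    have hY : Y ≫ iK = y := hK'.lift_fst _ _ _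
    have h1 : Kernel.spr ((Polynomial.aeval (1 : F)).restrictScalars k') ≫ Y = z := by
      rw [← cancel_mono iK, Category.assoc, hY, hy₁]
    have h0 : Kernel.spr ((Polynomial.aeval (0 : F)).restrictScalars k') ≫ Y = toUnit _ ≫ η[K] := by
      rw [← cancel_mono iK, Category.assoc, hY, hy₀, ← Hom.one_def, MonObj.one_comp]
    haveI : ConnectedSpace ↥(Kernel.spC k' (Polynomial F)).left :=
      inferInstanceAs (ConnectedSpace (PrimeSpectrum (Polynomial F)))
    refine (isPreconnected_range Y.left.continuous).subset_connectedComponent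
      ⟨(Kernel.spr ((Polynomial.aeval (0 : F)).restrictScalars k')).left.base pF, ?_⟩
      ⟨(Kernel.spr ((Polynomial.aeval (1 : F)).restrictScalars k')).left.base pF, ?_⟩
    · refine (congrArg (fun m => m.left.base pF) h0).trans ?_
      exact congrArg (η[K] : 𝟙_ (Over (Spec (CommRingCat.of k'))) ⟶ K).left.base
        (Subsingleton.elim (α := ↥(Spec (CommRingCat.of k'))) _ _)
    · exact congrArg (fun m => m.left.base pF) h1

end Groth.Agent.S15876
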