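import Groth.Statements.S15877
import Groth.Agent.Lib.WeilRep.CounitKernel
import Groth.Agent.Lib.WeilRep.QcKernel
import Groth.Agent.Lib.WeilRep.AF
import Groth.Agent.Lib.WeilRep.UnipQuot
import Groth.Agent.Lib.WeilRep.QuotIdent
import Groth.Agent.Lib.GrpQ.Kernel
import Groth.Agent.Lib.GrpQ.Desc
import Groth.Agent.Lib.GrpQ.Transfer
import Groth.Agent.Lib.Flat55.FlatDescend
import Groth.Agent.Lib.GrpSch.Basic
import Groth.Agent.Lib.SpHomog.Criterion

set_option autoImplicit false
universe u
open CategoryTheory MonoidalCategory CartesianMonoidalCategory MonObj GrpObj AlgebraicGeometry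
open AGF

set_option backward.isDefEq.respectTransparency false
set_option linter.style.haveILetI false
set_option synthInstance.maxHeartbeats 200000
set_option maxHeartbeats 800000
open Groth.Agent.Lib Groth.Agent.Lib.WeilRep AlgebraicGeometry CategoryTheory CategoryTheory.Limits MonoidalCategory CartesianMonoidalCategory MonObj

namespace Groth.Agent.S15877

/-- Let k'/k be finite purely inseparable, G a k-group locally of finite type, q : G_{k'} → Ḡ a
faithfully flat homomorphism onto a k'-group locally of finite type with quasi-compact kernel, (R,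
q_R) a Weil restriction of Ḡ to k with a group structure making q_R a homomorphism, i : G → R the
comparison homomorphism corresponding to q, H the closed subgroup of R through which i factors by a
faithfully flat homomorphism, and (Q, q₀) the fppf homogeneous space R/H. Then Q is an affine
scheme. -/
theorem result (k k' : Type u) [Field k] [Field k']
    [Algebra k k'] [Module.Finite k k'] [IsPurelyInseparable k k']
    (G : Over (Spec (CommRingCat.of k))) [GrpObj G] [LocallyOfFiniteType G.hom]
    (Gbar : Over (Spec (CommRingCat.of k'))) [GrpObj Gbar] [LocallyOfFiniteType Gbar.hom]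
    (q : Red.bc (Spec.map (CommRingCat.ofHom (algebraMap k k'))) G ⟶ Gbar) [IsMonHom q] [Surjective q.left] [Flat q.left]
    (N : Over (Spec (CommRingCat.of k'))) (iN : N ⟶ Red.bc (Spec.map (CommRingCat.ofHom (algebraMap k k'))) G) (hN : AlgGrp.IsKernel iN q) [CompactSpace N.left]
    (R : Over (Spec (CommRingCat.of k))) [GrpObj R] (qR : Red.bc (Spec.map (CommRingCat.ofHom (algebraMap k k'))) R ⟶ Gbar) [IsMonHom qR]
    (hR : WeilRes.IsWeilRes (Spec.map (CommRingCat.ofHom (algebraMap k k'))) Gbar R qR)
    (H : Over (Spec (CommRingCat.of k))) [GrpObj H] (j : H ⟶ R) [IsMonHom j] [IsClosedImmersion j.left]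
    (p : G ⟶ H) [IsMonHom p] [Surjective p.left] [Flat p.left] (hfac : p ≫ j = hR.lift G q)
    (Q : Over (Spec (CommRingCat.of k))) (aQ : AlgGrp.Action R Q) (q₀ : 𝟙_ (Over (Spec (CommRingCat.of k))) ⟶ Q)
    (hQ : ChGrp.IsHomog Scheme.fppfPrecoverage j aQ q₀) :
    IsAffine Q.left := by
  let f := Spec.map (CommRingCat.ofHom (algebraMap k k'))
  haveI : Surjective f := ⟨fun y => ⟨IsLocalRing.closedPoint k', Subsingleton.elim (α := ↥(Spec (CommRingCat.of k))) _ y⟩⟩
  haveI : Flat f := Flat.SpecMap_iff.mpr (RingHom.flat_algebraMap_iff.mpr inferInstance)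
  haveI : LocallyOfFiniteType f := by
    rw [HasRingHomProperty.Spec_iff (P := @LocallyOfFiniteType)]
    exact RingHom.Finite.finiteType (RingHom.finite_algebraMap.mpr inferInstance)
  haveI : LocallyOfFiniteType (Red.bc f G).hom := inferInstanceAs (LocallyOfFiniteType (pullback.snd G.hom f))
  haveI : IsLocallyNoetherian Gbar.left := LocallyOfFiniteType.isLocallyNoetherian Gbar.hom
  haveI : LocallyOfFiniteType q.left := GrpQ.locallyOfFiniteType_left q
  haveI : UniversallyOpen q.left := UniversallyOpen.of_flat q.left
  haveI : QuasiCompact N.hom := (HasAffineProperty.iff_of_isAffine (P := @QuasiCompact)).mpr inferInstance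
  haveI := Lib.WeilRep.QcKernel.quasiCompact_of_kernel q iN hN q.left.isOpenMap
  haveI : IsSeparated Gbar.hom := GrpSch.isSeparated_of_field Gbar
  -- the kernel of the counit
  obtain ⟨K, _, iK, _, _, hK, -⟩ := GrpQ.exists_kernel qR
  obtain ⟨hKaff, hKft, e, M, he, hM⟩ := CounitKernel.affine_finiteType_expChar_pow Gbar R qR hR K iK hK
  haveI := hKaff; haveI := hKft
  haveI : Mono iK := GrpQ.kernel_mono hK
  -- the subgroup covers
  let j' : Red.bc f H ⟶ Red.bc f R := (Over.pullback f).map j
  let p' : Red.bc f G ⟶ Red.bc f H := (Over.pullback f).map p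
  let m : Red.bc f H ⟶ Gbar := j' ≫ qR
  have hpm : p' ≫ m = q := by
    rw [← Category.assoc, show p' ≫ j' = (Over.pullback f).map (hR.lift G q) by
      rw [← hfac, Functor.map_comp]]
    exact hR.restr_lift G q
  have hp' : Flat p'.left ∧ Surjective p'.left := by
    have sq := (AF.isPullback_map f p).flip
    exact ⟨MorphismProperty.of_isPullback (P := @Flat) sq ‹_›,
      MorphismProperty.of_isPullback (P := @Surjective) sq ‹_›⟩
  haveI := hp'.1; haveI := hp'.2
  haveI : Flat (p'.left ≫ m.left) := by rw [← Over.comp_left, hpm]; infer_instance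
  haveI : Surjective (p'.left ≫ m.left) := by rw [← Over.comp_left, hpm]; infer_instance
  haveI : QuasiCompact (p'.left ≫ m.left) := by rw [← Over.comp_left, hpm]; infer_instance
  haveI : QuasiCompact m.left := GrpQ.Transfer.quasiCompact_of_comp_surjective p'.left m.left
  haveI : Flat m.left := Flat55.FlatDescend.flat_of_comp p'.left m.left
  haveI : Surjective m.left := Surjective.of_comp p'.left m.left
  haveI : Flat (j' ≫ qR).left := inferInstanceAs (Flat m.left)
  haveI : Surjective (j' ≫ qR).left := inferInstanceAs (Surjective m.left)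
  haveI : QuasiCompact (j' ≫ qR).left := inferInstanceAs (QuasiCompact m.left)
  obtain ⟨L, _, iL, X, a, o, _, _, hX, ⟨iso⟩⟩ := QuotIdent.exists_quotient f j aQ q₀ hQ qR iK hK
  haveI hXaff : IsAffine X.left := by
    let Ω := AlgebraicClosure k'
    let r := Spec.map (CommRingCat.ofHom (algebraMap k' Ω))
    haveI := hX.1
    haveI : Mono iL := Over.mono_of_mono_left iL
    haveI : IsClosedImmersion ((Over.pullback r).map iL).left :=
      MorphismProperty.of_isPullback (P := @IsClosedImmersion) (AF.isPullback_map r iL).flip ‹_›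
    haveI : IsAffine ((Over.pullback r).obj K).left := inferInstanceAs (IsAffine (pullback K.hom r))
    haveI : LocallyOfFiniteType ((Over.pullback r).obj K).hom :=
      inferInstanceAs (LocallyOfFiniteType (pullback.snd K.hom r))
    haveI := he
    haveI : ExpChar k' e := expChar_of_injective_algebraMap (algebraMap k k').injective e
    haveI : ExpChar Ω e := expChar_of_injective_algebraMap (algebraMap k' Ω).injective e
    have hpow : (𝟙 ((Over.pullback r).obj K)) ^ e ^ M = 1 := by
      refine RedPts.BC.down_injective ?_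
      rw [show RedPts.BC.down r ((𝟙 ((Over.pullback r).obj K)) ^ e ^ M) = RedPts.BC.down r (𝟙 _) ^ e ^ M from
        map_pow (RedPts.BC.downMulEquiv r _ K) _ _, RedPts.BC.down_one,
        ← Category.comp_id (RedPts.BC.down r (𝟙 ((Over.pullback r).obj K))), ← MonObj.comp_pow, hM, MonObj.comp_one]
    exact QuotBC.isAffine_of_bc (K := Ω) X
      (UnipQuot.isAffine_quotient e M _ _ _ hpow _ (QuotBC.isQuotient_bc r a o hX))
  haveI : IsIso iso.hom.left := inferInstanceAs (IsIso ((Over.forget _).map iso.hom))
  exact QuotBC.isAffine_of_bc (K := k') Q (IsAffine.of_isIso (inv iso.hom.left))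

end Groth.Agent.S15877
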