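import Groth.Statements.S15878
import Groth.Agent.Lib.WeilRep.CounitKernel
import Groth.Agent.Lib.WeilRep.QcKernel
import Groth.Agent.Lib.WeilRep.AF
import Groth.Agent.Lib.WittU.NoTorus
import Groth.Agent.Lib.GrpQ.Kernel
import Groth.Agent.Lib.GrpQ.Desc
import Groth.Agent.Lib.GrpQ.DomFF
import Groth.Agent.Lib.GrpQ.Transfer
import Groth.Agent.Lib.Flat55.FlatDescend
import Groth.Agent.Lib.DescAlg.Descends
import Groth.Agent.Lib.SpHomog.Criterion
import Groth.Agent.S3278
import Groth.Agent.Lib.GrpSch.Basic

set_option autoImplicit false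
universe u
open CategoryTheory MonoidalCategory CartesianMonoidalCategory MonObj GrpObj AlgebraicGeometry
open AGF

set_option backward.isDefEq.respectTransparency false
set_option linter.style.haveILetI false
set_option synthInstance.maxHeartbeats 200000
set_option maxHeartbeats 800000
open Groth.Agent.Lib Groth.Agent.Lib.WeilRep AlgebraicGeometry CategoryTheory CategoryTheory.Limits MonoidalCategory CartesianMonoidalCategory MonObj

namespace Groth.Agent.S15878

/-- With k'/k finite purely inseparable, G a k-group locally of finite type, q : G_{k'} → Ḡ a faithfully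
flat homomorphism with quasi-compact kernel onto a commutative k'-group locally of finite type, (R,
q_R) a Weil restriction of Ḡ to k with q_R a homomorphism, H the image of the comparison
homomorphism i : G → R (H a closed subgroup of R through which i factors by a faithfully flat
homomorphism), and π : R → Q the fppf quotient group of R by H: Q is affine and its geometric fibre
has no non-trivial subtorus. (The published statement says that Q is a commutative unipotent
k-group; the absence of geometric subtori is the weaker property recorded here, and commutativity is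
inherited from R.) -/
theorem result (k k' : Type u) [Field k] [Field k']
    [Algebra k k'] [Module.Finite k k'] [IsPurelyInseparable k k']
    (G : Over (Spec (CommRingCat.of k))) [GrpObj G] [LocallyOfFiniteType G.hom]
    (Gbar : Over (Spec (CommRingCat.of k'))) [GrpObj Gbar] [LocallyOfFiniteType Gbar.hom]
    (q : Red.bc (Spec.map (CommRingCat.ofHom (algebraMap k k'))) G ⟶ Gbar) [IsMonHom q] [Surjective q.left] [Flat q.left]
    (N : Over (Spec (CommRingCat.of k'))) (iN : N ⟶ Red.bc (Spec.map (CommRingCat.ofHom (algebraMap k k'))) G) (hN : AlgGrp.IsKernel iN q) [CompactSpace N.left]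
    (R : Over (Spec (CommRingCat.of k))) [GrpObj R] (qR : Red.bc (Spec.map (CommRingCat.ofHom (algebraMap k k'))) R ⟶ Gbar) [IsMonHom qR]
    (hR : WeilRes.IsWeilRes (Spec.map (CommRingCat.ofHom (algebraMap k k'))) Gbar R qR)
    (H : Over (Spec (CommRingCat.of k))) [GrpObj H] (j : H ⟶ R) [IsMonHom j] [IsClosedImmersion j.left]
    (p : G ⟶ H) [IsMonHom p] [Surjective p.left] [Flat p.left] (hfac : p ≫ j = hR.lift G q)
    [IsCommMonObj Gbar]
    (Q : Over (Spec (CommRingCat.of k))) [GrpObj Q] (π : R ⟶ Q) [IsMonHom π] (hQ : RedSub.IsQuotient j π) :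
    IsAffine Q.left ∧ (∀ s : ↥(Spec (CommRingCat.of k)), Red.HasNoSubtorus (AlgebraicClosure ((Spec (CommRingCat.of k)).residueField s)) (Red.geomFibre s Q)) := by
  let f := Spec.map (CommRingCat.ofHom (algebraMap k k'))
  haveI : Surjective f := ⟨fun y => ⟨IsLocalRing.closedPoint k', Subsingleton.elim (α := ↥(Spec (CommRingCat.of k))) _ y⟩⟩
  haveI : Flat f := Flat.SpecMap_iff.mpr (RingHom.flat_algebraMap_iff.mpr inferInstance)
  haveI : LocallyOfFiniteType f := by
    rw [HasRingHomProperty.Spec_iff (P := @LocallyOfFiniteType)]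
    exact RingHom.Finite.finiteType (RingHom.finite_algebraMap.mpr inferInstance)
  haveI : LocallyOfFiniteType (Red.bc f G).hom := inferInstanceAs (LocallyOfFiniteType (pullback.snd G.hom f))
  haveI : IsLocallyNoetherian Gbar.left := LocallyOfFiniteType.isLocallyNoetherian Gbar.hom
  haveI : LocallyOfFiniteType q.left := GrpQ.locallyOfFiniteType_left q
  haveI : UniversallyOpen q.left := UniversallyOpen.of_flat q.left
  haveI : QuasiCompact N.hom := (HasAffineProperty.iff_of_isAffine (P := @QuasiCompact)).mpr inferInstance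
  haveI := Lib.WeilRep.QcKernel.quasiCompact_of_kernel q iN hN q.left.isOpenMap
  haveI : IsSeparated Gbar.hom := GrpSch.isSeparated_of_field Gbar
  -- the kernel of the counit
  obtain ⟨K, _, iK, _, _, hK, -⟩ := GrpQ.exists_kernel qR
  obtain ⟨hKaff, hKft, M, hM0, hM⟩ := CounitKernel.affine_finiteType_pow Gbar R qR hR K iK hK
  haveI := hKaff; haveI := hKft
  haveI : Mono iK := GrpQ.kernel_mono hK
  -- the subgroup covers
  let j' : Red.bc f H ⟶ Red.bc f R := (Over.pullback f).map j
  let p' : Red.bc f G ⟶ Red.bc f H := (Over.pullback f).map p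
  let π' : Red.bc f R ⟶ Red.bc f Q := (Over.pullback f).map π
  let m : Red.bc f H ⟶ Gbar := j' ≫ qR
  have hpm : p' ≫ m = q := by
    rw [← Category.assoc, show p' ≫ j' = (Over.pullback f).map (hR.lift G q) by
      rw [← hfac, Functor.map_comp]]
    exact hR.restr_lift G q
  have hp' : Flat p'.left ∧ Surjective p'.left := by
    have sq := (AF.isPullback_map f p).flip
    exact ⟨MorphismProperty.of_isPullback (P := @Flat) sq ‹_›,
      MorphismProperty.of_isPullback (P := @Surjective) sq ‹_›⟩
  haveI := hp'.1; haveI := hp'.2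
  haveI : Flat (p'.left ≫ m.left) := by rw [← Over.comp_left, hpm]; infer_instance
  haveI : Surjective (p'.left ≫ m.left) := by rw [← Over.comp_left, hpm]; infer_instance
  haveI : QuasiCompact (p'.left ≫ m.left) := by rw [← Over.comp_left, hpm]; infer_instance
  haveI : QuasiCompact m.left := GrpQ.Transfer.quasiCompact_of_comp_surjective p'.left m.left
  haveI : Flat m.left := Flat55.FlatDescend.flat_of_comp p'.left m.left
  haveI : Surjective m.left := Surjective.of_comp p'.left m.left
  -- the quotient map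
  obtain ⟨hπs, hπf, -, hπp⟩ := hQ
  have hπ' : Flat π'.left ∧ Surjective π'.left := by
    have sq := (AF.isPullback_map f π).flip
    exact ⟨MorphismProperty.of_isPullback (P := @Flat) sq hπf, MorphismProperty.of_isPullback (P := @Surjective) sq hπs⟩
  haveI := hπ'.1; haveI := hπ'.2
  haveI hπhom : IsMonHom π' := inferInstanceAs (IsMonHom ((Over.pullback f).map π))
  have hjπ : j ≫ π = 1 := by
    have h := congrArg (fun z => lift (1 : H ⟶ R) (𝟙 H) ≫ z) hπp.w
    simp only [lift_fst_assoc, lift_whiskerLeft_assoc, Category.id_comp, Category.assoc] at h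
    rw [MonObj.one_comp, ← Category.assoc, ← Hom.mul_def, _root_.one_mul] at h
    exact h.symm
  have hj'π : ∀ {T : Over (Spec (CommRingCat.of k'))} (x : T ⟶ Red.bc f H), (x ≫ j') ≫ π' = 1 := fun x => by
    refine RedPts.BC.down_injective ?_
    rw [RedPts.BC.down_map, RedPts.BC.down_map, RedPts.BC.down_one, Category.assoc, hjπ, MonObj.comp_one]
  let θ : K ⟶ Red.bc f Q := iK ≫ π'
  let Ψ : Red.bc f H ⊗ K ⟶ Red.bc f R := (fst _ _ ≫ j') * (snd _ _ ≫ iK)
  have hiK : ∀ {T : Over (Spec (CommRingCat.of k'))} (x : T ⟶ K), (x ≫ iK) ≫ qR = 1 := fun x => by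
    rw [Category.assoc, GrpQ.kernel_comp hK, MonObj.comp_one]
  have hcomp : ∀ {T : Over (Spec (CommRingCat.of k'))} (l : T ⟶ Red.bc f H ⊗ K),
      l ≫ Ψ = (l ≫ fst _ _) ≫ j' * (l ≫ snd _ _) ≫ iK := fun l => by
    rw [MonObj.comp_mul, Category.assoc, Category.assoc]
  have sqΨ : IsPullback Ψ.left (fst (Red.bc f H) K).left qR.left m.left := by
    refine GrpQ.DomFlat.isPullback_of_forall ?_ ?_ ?_
    · rw [MonObj.mul_comp, hiK, _root_.mul_one, Category.assoc]
    · intro T x y hxy
      obtain ⟨n, hn⟩ := (GrpQ.mem_kernel hK ((y ≫ j')⁻¹ * x)).2 (by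
        rw [MonObj.mul_comp, GrpObj.inv_comp, hxy, Category.assoc, inv_mul_cancel])
      exact ⟨lift y n, by rw [hcomp, lift_fst, lift_snd, hn, mul_inv_cancel_left], lift_fst _ _⟩
    · intro T l l' h1 h2
      rw [hcomp, hcomp, h2, mul_left_cancel_iff, cancel_mono] at h1
      exact CartesianMonoidalCategory.hom_ext _ _ h2 h1
  haveI : Flat Ψ.left := MorphismProperty.of_isPullback (P := @Flat) sqΨ.flip ‹_›
  haveI : Surjective Ψ.left := MorphismProperty.of_isPullback (P := @Surjective) sqΨ.flip ‹_›
  have hΨπ : Ψ ≫ π' = snd _ _ ≫ θ := by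
    rw [MonObj.mul_comp, hj'π, _root_.one_mul, Category.assoc]
  haveI : IsMonHom θ := inferInstanceAs (IsMonHom (iK ≫ π'))
  have hθ : GrpQ.IsCover θ := by
    haveI : Flat (Red.bc f H).hom := SpHomog.flat_to_field _
    haveI : Surjective (Red.bc f H).hom := ⟨fun y =>
      ⟨(η : 𝟙_ _ ⟶ Red.bc f H).left.base (IsLocalRing.closedPoint k' : ↥(Spec (CommRingCat.of k'))),
        Subsingleton.elim (α := ↥(Spec (CommRingCat.of k'))) _ y⟩⟩
    let s2 : (Red.bc f H ⊗ K).left ⟶ K.left := (snd (Red.bc f H) K).left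
    haveI : Flat s2 := inferInstanceAs (Flat (pullback.snd (Red.bc f H).hom K.hom))
    haveI : Surjective s2 := inferInstanceAs (Surjective (pullback.snd (Red.bc f H).hom K.hom))
    have h : s2 ≫ θ.left = Ψ.left ≫ π'.left := congrArg CommaMorphism.left hΨπ.symm
    haveI : Flat (s2 ≫ θ.left) := by rw [h]; infer_instance
    haveI : Surjective (s2 ≫ θ.left) := by rw [h]; infer_instance
    exact ⟨Flat55.FlatDescend.flat_of_comp s2 θ.left, Surjective.of_comp s2 θ.left, GrpQ.quasiCompact_left θ⟩
  -- affine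
  haveI : IsSeparated (Red.bc f Q).hom := GrpSch.isSeparated_of_field _
  haveI : IsAffine (Red.bc f Q).left := by
    obtain ⟨L, _, iL, _, _, hL, hLn⟩ := GrpQ.exists_kernel θ
    obtain ⟨Q₂, _, q₂, _, hQ₂, -, hf₂, hs₂, hker⟩ := S3278.result k' K L iL hLn
    haveI := hQ₂; haveI := hf₂; haveI := hs₂
    haveI := GrpQ.isCover_hom q₂
    obtain ⟨φ, hφ⟩ := GrpQ.exists_desc (GrpQ.isCover_hom q₂) θ fun Z x y h =>
      GrpQ.comp_eq_of_kernel hker θ (by rw [GrpQ.kernel_comp hL, Hom.one_def]) x y h
    obtain ⟨ψ, hψ⟩ := GrpQ.exists_desc hθ q₂ fun Z x y h =>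
      GrpQ.comp_eq_of_kernel hL q₂ (by rw [GrpQ.kernel_comp hker, Hom.one_def]) x y h
    haveI : IsIso φ := ⟨ψ, GrpQ.cancel_cover (GrpQ.isCover_hom q₂) (by rw [← Category.assoc, hφ, hψ, Category.comp_id]),
      GrpQ.cancel_cover hθ (by rw [← Category.assoc, hψ, hφ, Category.comp_id])⟩
    haveI : IsIso φ.left := inferInstanceAs (IsIso ((Over.forget _).map φ))
    exact IsAffine.of_isIso (inv φ.left)
  let c : (Over.map f).obj (Red.bc f Q) ⟶ Q := RedPts.BC.down f (𝟙 (Red.bc f Q))
  have hcl : c.left = pullback.fst Q.hom f := by rw [RedPts.BC.down_left]; exact Category.id_comp _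
  have hc : GrpQ.IsCover c := by
    refine ⟨?_, ?_, ?_⟩ <;> rw [hcl] <;> infer_instance
  refine ⟨?_, fun s => ?_⟩
  · haveI : IsAffineHom (pullback.snd Q.hom f) :=
      inferInstanceAs (IsAffineHom (Red.bc f Q).hom)
    have h : IsAffineHom Q.hom :=
      MorphismProperty.of_pullback_snd_of_descendsAlong (P := @IsAffineHom)
        (Q := (@Surjective ⊓ @Flat ⊓ @QuasiCompact : MorphismProperty Scheme.{u})) (f := Q.hom) (g := f)
        ⟨⟨inferInstance, inferInstance⟩, inferInstance⟩ inferInstance
    exact isAffine_of_isAffineHom Q.hom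
  · have h1 : (𝟙 (Red.bc f Q)) ^ M = 1 := GrpQ.cancel_cover hθ (by
      rw [MonObj.comp_pow, Category.comp_id, MonObj.comp_one, ← Category.id_comp θ, ← MonObj.pow_comp, hM,
        MonObj.one_comp])
    have h2 : (𝟙 Q) ^ M = 1 := GrpQ.cancel_cover hc (by
      rw [MonObj.comp_pow, Category.comp_id, MonObj.comp_one]
      exact (map_pow (RedPts.BC.downMulEquiv f _ Q) (𝟙 (Red.bc f Q)) M).symm.trans
        ((congrArg (RedPts.BC.down f) h1).trans RedPts.BC.down_one))
    refine WittU.NoTorus.hasNoSubtorus_of_pow hM0 fun X x => ?_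
    refine RedPts.BC.down_injective ?_
    rw [show RedPts.BC.down (Red.geomPt s) (x ^ M) = RedPts.BC.down (Red.geomPt s) x ^ M from
      map_pow (RedPts.BC.downMulEquiv (Red.geomPt s) X Q) x M, RedPts.BC.down_one,
      ← Category.comp_id (RedPts.BC.down (Red.geomPt s) x), ← MonObj.comp_pow, h2, MonObj.comp_one]

end Groth.Agent.S15878
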