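import Groth.Statements.S15880
import Groth.Agent.Lib.ProjCoh.GlobalFun
import Mathlib.AlgebraicGeometry.Morphisms.Flat
import Mathlib.AlgebraicGeometry.Morphisms.Affine
import Mathlib.AlgebraicGeometry.Morphisms.IsIso

set_option autoImplicit false
universe u
open CategoryTheory CategoryTheory.Limits AlgebraicGeometry
open CohB1

namespace Groth.Agent.S15880

section Aux

theorem exists_splitting {C : Type*} [Category C] [Preadditive C] {ι : Type*} [Fintype ι] [DecidableEq ι]
    {O M : C} [HasCoproduct fun _ : ι => O] (e : M ≅ ∐ fun _ : ι => O) :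
    ∃ (inc : ι → (O ⟶ M)) (prj : ι → (M ⟶ O)),
      (∀ i j, inc i ≫ prj j = if i = j then 𝟙 O else 0) ∧ ∑ i, prj i ≫ inc i = 𝟙 M := by
  refine ⟨fun i => Sigma.ι (fun _ : ι => O) i ≫ e.inv,
    fun i => e.hom ≫ Sigma.desc fun j => if j = i then 𝟙 O else 0, fun i j => by simp, ?_⟩
  rw [← cancel_epi e.inv, ← cancel_mono e.hom]
  refine Sigma.hom_ext _ _ fun j => ?_
  simp [Preadditive.comp_sum, Preadditive.sum_comp, ite_comp]

variable {F X : Scheme.{u}} (f : F ⟶ X)

/-- A free pushforward has, on every open, the same global basis. -/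
theorem exists_basis {ι : Type u} [Fintype ι]
    (e : (Scheme.Modules.pushforward f).obj (SheafOfModules.unit F.ringCatSheaf) ≅
      ∐ fun _ : ι => (SheafOfModules.unit X.ringCatSheaf : X.Modules)) :
    ∃ b : ι → Γ(F, ⊤), ∀ U : X.Opens, Function.Bijective
      (fun β : ι → Γ(X, U) => ∑ i, f.app U (β i) * F.presheaf.map (homOfLE le_top).op (b i)) := by
  classical
  let O : X.Modules := SheafOfModules.unit X.ringCatSheaf
  let M : X.Modules := (Scheme.Modules.pushforward f).obj (SheafOfModules.unit F.ringCatSheaf)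
  obtain ⟨inc, prj, hdelta, hsum⟩ := exists_splitting (O := O) (M := M) e
  let one (U : X.Opens) : Γ(O, U) := (1 : Γ(X, U))
  refine ⟨fun i => (inc i).app ⊤ (one ⊤), fun U => ?_⟩
  have hres : ∀ i, F.presheaf.map (homOfLE le_top).op ((inc i).app ⊤ (one ⊤)) = (inc i).app U (one U) := by
    intro i
    have h := ConcreteCategory.congr_hom ((inc i).mapPresheaf.naturality (homOfLE (le_top : U ≤ ⊤)).op) (one ⊤)
    refine Eq.trans h.symm ?_
    show (inc i).app U _ = _
    congr 1
    exact map_one (X.presheaf.map (homOfLE (le_top : U ≤ ⊤)).op).hom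
  have hsmul : ∀ (i) (r : Γ(X, U)), (inc i).app U (r : Γ(O, U)) =
      f.app U r * F.presheaf.map (homOfLE le_top).op ((inc i).app ⊤ (one ⊤)) := by
    intro i r
    rw [hres]
    have h := Scheme.Modules.Hom.app_smul (inc i) r (one U)
    have h1 : (r • one U : Γ(O, U)) = r := mul_one (r : Γ(X, U))
    rw [h1] at h
    exact h
  have happ : ∀ (s : Finset ι) (φ : ι → (M ⟶ M)) (z : Γ(M, U)),
      (∑ i ∈ s, φ i).app U z = ∑ i ∈ s, (φ i).app U z := by
    intro s φ z
    induction s using Finset.induction with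
    | empty => simp
    | insert a s ha ih => simp [Finset.sum_insert ha, ih]
  refine ⟨fun β β' h => funext fun j => ?_, fun z => ⟨fun i => (prj i).app U z, ?_⟩⟩
  · have key : ∀ γ : ι → Γ(O, U), (prj j).app U (∑ i, (inc i).app U (γ i)) = γ j := by
      intro γ
      have h : ∀ i, (prj j).app U ((inc i).app U (γ i)) = (if i = j then 𝟙 O else 0 : O ⟶ O).app U (γ i) :=
        fun i => congrArg (fun φ : O ⟶ O => φ.app U (γ i)) (hdelta i j)
      rw [map_sum, Finset.sum_congr rfl fun i _ => h i, Finset.sum_eq_single j]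
      · rw [if_pos rfl]; rfl
      · intro i _ hij
        rw [if_neg hij]; rfl
      · simp
    rw [← key β, ← key β']
    congr 1
    simp only [hsmul]
    exact h
  · have h : (∑ i, prj i ≫ inc i).app U z = (𝟙 M : M ⟶ M).app U z :=
      congrArg (fun φ : M ⟶ M => φ.app U z) hsum
    have h' := (happ Finset.univ (fun i => prj i ≫ inc i) z).symm.trans h
    refine Eq.trans ?_ h'
    refine Finset.sum_congr rfl fun i _ => ?_
    exact (hsmul i _).symm

theorem mem_closure_of_isPushout {K A B C : CommRingCat.{u}} {u' : K ⟶ A} {v : K ⟶ B} {i : A ⟶ C}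
    {j : B ⟶ C} (h : IsPushout u' v i j) (z : C) :
    z ∈ AddSubmonoid.closure (Set.range fun ab : A × B => i ab.1 * j ab.2) := by
  algebraize [u'.hom, v.hom]
  let e := (CommRingCat.isPushout_tensorProduct K A B).isoIsPushout _ _ h
  obtain ⟨t, rfl⟩ : ∃ t, e.hom t = z := ⟨e.inv z, e.inv_hom_id_apply z⟩
  induction t using TensorProduct.induction_on with
  | zero => rw [map_zero]; exact zero_mem _
  | tmul a b =>
    refine AddSubmonoid.subset_closure ⟨(a, b), ?_⟩
    have h1 := ConcreteCategory.congr_hom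
      (IsPushout.inl_isoIsPushout_hom _ _ (CommRingCat.isPushout_tensorProduct K A B) h) a
    have h2 := ConcreteCategory.congr_hom
      (IsPushout.inr_isoIsPushout_hom _ _ (CommRingCat.isPushout_tensorProduct K A B) h) b
    show i a * j b = _
    rw [← h1, ← h2]
    show e.hom _ * e.hom _ = _
    rw [← map_mul]
    congr 1
    show (Algebra.TensorProduct.includeLeft (S := K) a) * Algebra.TensorProduct.includeRight b = _
    simp
  | add a b ha hb => rw [map_add]; exact add_mem ha hb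

theorem isIso_lift_toSpecΓ [IsAffineHom f] {k : CommRingCat.{u}} (π : X ⟶ Spec k) (hπ : IsIso π.appTop)
    (c : Spec Γ(F, ⊤) ⟶ Spec k) (hc : F.toSpecΓ ≫ c = f ≫ π) {ι : Type u} [Fintype ι]
    (b : ι → Γ(F, ⊤)) (hb : ∀ U : X.Opens, Function.Bijective
      (fun β : ι → Γ(X, U) => ∑ i, f.app U (β i) * F.presheaf.map (homOfLE le_top).op (b i))) :
    IsIso (pullback.lift F.toSpecΓ f hc) := by
  let ψ := pullback.lift F.toSpecΓ f hc
  let snd := pullback.snd c π
  let fst := pullback.fst c π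
  haveI : IsAffineHom c := inferInstance
  haveI : IsAffineHom snd := MorphismProperty.of_isPullback (P := @IsAffineHom.{u}) (IsPullback.of_hasPullback c π) ‹_›
  refine IsZariskiLocalAtTarget.of_iSup_eq_top (P := MorphismProperty.isomorphisms Scheme.{u})
    (fun U : X.affineOpens => snd ⁻¹ᵁ U.1) ?_ fun U => ?_
  · rw [← Scheme.Hom.preimage_iSup, iSup_affineOpens_eq_top, Scheme.Hom.preimage_top]
  obtain ⟨U, hU⟩ := U
  let V := snd ⁻¹ᵁ U
  have hV : IsAffineOpen V := hU.preimage snd
  have hle : f ⁻¹ᵁ U ≤ ψ ⁻¹ᵁ V := by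
    show _ ≤ (ψ ≫ snd) ⁻¹ᵁ U
    rw [pullback.lift_snd]
  have hWV : ψ ⁻¹ᵁ V = f ⁻¹ᵁ U := by
    show (ψ ≫ snd) ⁻¹ᵁ U = _
    rw [pullback.lift_snd]
  have hVA : V ≤ fst ⁻¹ᵁ ⊤ := le_top.trans (Scheme.Hom.preimage_top _).ge
  have hpo := (isIso_pushoutSection_iff (IsPullback.of_hasPullback c π)
      (US := ⊤) (UT := U) (UX := ⊤) (UY := V) (by simp) (by simp) (by simp [V, snd])).1
    (isIso_pushoutSection_of_isAffineOpen _ _ _ _ (isAffineOpen_top _) hU (isAffineOpen_top _))
  let Φ := ψ.appLE V (f ⁻¹ᵁ U) hle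
  let G := Scheme.ΓSpecIso Γ(F, ⊤)
  have hΦs : ∀ β, Φ (snd.appLE U V le_rfl β) = f.app U β := fun β => by
    have h := ConcreteCategory.congr_hom
      (Scheme.Hom.appLE_comp_appLE ψ snd U V (f ⁻¹ᵁ U) le_rfl hle) β
    refine h.trans (ConcreteCategory.congr_hom (?_ : _ = f.app U) β)
    simp only [ψ, snd, pullback.lift_snd]
    exact Scheme.Hom.appLE_eq_app _
  have hΦf : ∀ a, Φ (fst.appLE ⊤ V hVA (G.inv a)) = F.presheaf.map (homOfLE le_top).op a := fun a => by
    have h := ConcreteCategory.congr_hom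
      (Scheme.Hom.appLE_comp_appLE ψ fst ⊤ V (f ⁻¹ᵁ U) hVA hle) (G.inv a)
    refine h.trans ?_
    simp only [ψ, fst, pullback.lift_fst]
    rw [Scheme.Hom.appLE]
    show F.presheaf.map _ (F.toSpecΓ.appTop (G.inv a)) = _
    rw [Scheme.toSpecΓ_appTop, Iso.inv_hom_id_apply]
    rfl
  have hconst : ∀ t : Γ(X, ⊤), ∃ r : Γ(Spec k, ⊤), π.appTop r = t :=
    (ConcreteCategory.bijective_of_isIso π.appTop).2
  let Θ : (ι → Γ(X, U)) →+ Γ(pullback c π, V) :=
    AddMonoidHom.mk' (fun β => ∑ i, snd.appLE U V le_rfl (β i) * fst.appLE ⊤ V hVA (G.inv (b i)))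
      fun β β' => by simp [add_mul, Finset.sum_add_distrib]
  have hΘ : Function.Surjective Θ := by
    intro z
    refine AddSubmonoid.closure_induction (motive := fun z _ => ∃ β, Θ β = z) ?_ ⟨0, map_zero Θ⟩
      (fun x y _ _ ⟨β, hβ⟩ ⟨β', hβ'⟩ => ⟨β + β', by rw [map_add, hβ, hβ']⟩) (mem_closure_of_isPushout hpo z)
    rintro _ ⟨⟨a, t⟩, rfl⟩
    obtain ⟨α, hα⟩ := (hb ⊤).2 (G.hom a)
    have hα' : (∑ i, f.appTop (α i) * b i) = G.hom a := by
      refine Eq.trans (Finset.sum_congr rfl fun i _ => ?_) hα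
      exact congrArg (fun z => f.appTop (α i) * z) (ConcreteCategory.congr_hom (F.presheaf.map_id _) (b i)).symm
    have ha : a = ∑ i, G.inv (f.appTop (α i)) * G.inv (b i) := by
      rw [← Iso.hom_inv_id_apply G a, ← hα', map_sum]
      exact Finset.sum_congr rfl fun i _ => map_mul _ _ _
    choose r hr using hconst
    refine ⟨fun i => t * π.appLE ⊤ U (by simp) (r (α i)), ?_⟩
    show ∑ i, _ = fst.appLE ⊤ V _ a * snd.appLE U V _ t
    rw [ha, map_sum, Finset.sum_mul]
    refine Finset.sum_congr rfl fun i _ => ?_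
    have hw := ConcreteCategory.congr_hom hpo.w (r (α i))
    have hcr : c.appLE ⊤ ⊤ (by simp) (r (α i)) = G.inv (f.appTop (α i)) := by
      haveI : IsIso F.toSpecΓ.appTop := by rw [Scheme.toSpecΓ_appTop]; infer_instance
      apply (ConcreteCategory.bijective_of_isIso F.toSpecΓ.appTop).1
      have h := ConcreteCategory.congr_hom (congrArg Scheme.Hom.appTop hc) (r (α i))
      simp only [Scheme.Hom.comp_appTop, ConcreteCategory.comp_apply, hr] at h
      rw [Scheme.toSpecΓ_appTop, Iso.inv_hom_id_apply]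
      rw [Scheme.toSpecΓ_appTop] at h
      rw [show c.appLE ⊤ ⊤ (by simp) = c.appTop from Scheme.Hom.appLE_eq_app _]
      exact h
    rw [map_mul, map_mul, mul_comm _ (snd.appLE U V le_rfl t), ← mul_assoc, ← hcr]
    congr 2
    exact hw.symm
  have hcomp : ∀ β, Φ (Θ β) = ∑ i, f.app U (β i) * F.presheaf.map (homOfLE le_top).op (b i) := by
    intro β
    show Φ (∑ i, _) = _
    simp only [map_sum, map_mul, hΦs, hΦf]
  have hbij : Function.Bijective Φ := by
    refine ⟨fun z z' h => ?_, fun w => ?_⟩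
    · obtain ⟨β, rfl⟩ := hΘ z
      obtain ⟨β', rfl⟩ := hΘ z'
      rw [hcomp, hcomp] at h
      rw [(hb U).1 h]
    · obtain ⟨β, hβ⟩ := (hb U).2 w
      exact ⟨Θ β, (hcomp β).trans hβ⟩
  haveI : IsIso Φ := (ConcreteCategory.isIso_iff_bijective _).2 hbij
  haveI : IsIso (ψ.app V) := by
    haveI : IsIso (F.presheaf.map (homOfLE hle).op) := by
      rw [show (homOfLE hle).op = (eqToHom hWV.symm).op from rfl]
      infer_instance
    haveI : IsIso (ψ.app V ≫ F.presheaf.map (homOfLE hle).op) := ‹IsIso Φ›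
    exact IsIso.of_isIso_comp_right _ (F.presheaf.map (homOfLE hle).op)
  haveI : IsAffine V.toScheme := hV
  show IsIso (ψ ∣_ V)
  have hW : IsAffineOpen (ψ ⁻¹ᵁ V) := hWV ▸ hU.preimage f
  haveI : IsAffine (ψ ⁻¹ᵁ V).toScheme := hW
  have hVV : V.ι ''ᵁ ⊤ = V := V.ι_image_top
  haveI : IsIso (ψ.app (V.ι ''ᵁ ⊤)) := by rw [hVV]; infer_instance
  haveI : IsIso (ψ ∣_ V).appTop := by
    rw [morphismRestrict_appTop]
    have he : ∀ (W W' : F.Opens) (h : W = W'), IsIso (F.presheaf.map (eqToHom h).op) := by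
      intro W W' h
      subst h
      rw [eqToHom_refl, op_id, F.presheaf.map_id]
      infer_instance
    exact @IsIso.comp_isIso _ _ _ _ _ _ _ ‹IsIso (ψ.app (V.ι ''ᵁ ⊤))› (he _ _ _)
  exact ((MorphismProperty.isomorphisms Scheme.{u}).arrow_mk_iso_iff
    (arrowIsoSpecΓOfIsAffine (ψ ∣_ V))).mpr (inferInstanceAs (IsIso (Spec.map (ψ ∣_ V).appTop)))

end Aux

/-- Let k be a field, s a k-point of P^n_k and f : F → P^n_k a finite morphism whose direct image of the
structure sheaf is isomorphic to the free module O^{⊕d} on P^n_k. Then F is, over P^n_k, isomorphic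
to the base change F_s ×_k P^n_k of its fibre at s (existence of an isomorphism over P^n_k). (The
published statement is the equivalence of categories between finite k-schemes and finite flat
P^n_k-schemes with free direct image of the structure sheaf, with inverse F ↦ s^*F; this row states
its essential surjectivity in the pinned form F ≅ (s^*F) ×_k P^n_k.) -/
theorem result (k : Type u) [Field k] (n d : ℕ)
    (s : Spec (CommRingCat.of k) ⟶ CohB1.ProjSpace n k) (hs : s ≫ CohB1.ProjSpace.toSpec n k = 𝟙 _)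
    (F : Scheme.{u}) (f : F ⟶ CohB1.ProjSpace n k) [IsFinite f]
    (e : (Scheme.Modules.pushforward f).obj (SheafOfModules.unit F.ringCatSheaf) ≅
      ∐ fun _ : ULift.{u} (Fin d) => (SheafOfModules.unit (CohB1.ProjSpace n k).ringCatSheaf :
        (CohB1.ProjSpace n k).Modules)) :
    Nonempty (Over.mk f ≅ Over.mk (pullback.snd (pullback.snd f s) (CohB1.ProjSpace.toSpec n k))) := by
  obtain ⟨b, hb⟩ := exists_basis f e
  let π := CohB1.ProjSpace.toSpec n k
  let c : Spec Γ(F, ⊤) ⟶ Spec (CommRingCat.of k) :=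
    Spec.map ((Scheme.ΓSpecIso (CommRingCat.of k)).inv ≫ (f ≫ π).appTop)
  have hc : F.toSpecΓ ≫ c = f ≫ π := by
    show F.toSpecΓ ≫ Spec.map (_ ≫ _) = _
    rw [Spec.map_comp, ← Scheme.toSpecΓ_naturality_assoc]
    simp [← SpecMap_ΓSpecIso_hom, ← Spec.map_comp]
  haveI := isIso_lift_toSpecΓ f π (Groth.Agent.Lib.ProjCoh.GlobalFun.isIso_appTop n k) c hc b hb
  let ψ := pullback.lift F.toSpecΓ f hc
  have h0 : IsPullback F.toSpecΓ f c π :=
    IsPullback.of_iso_pullback ⟨hc⟩ (asIso ψ) (pullback.lift_fst _ _ _) (pullback.lift_snd _ _ _)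
  have h1 := (IsPullback.of_hasPullback f s).paste_horiz h0
  rw [show s ≫ π = 𝟙 _ from hs] at h1
  haveI : IsIso (pullback.fst f s ≫ F.toSpecΓ) := h1.isIso_fst_of_isIso
  let μ := pullback.map (pullback.snd f s) π c π (pullback.fst f s ≫ F.toSpecΓ) (𝟙 _) (𝟙 _)
    (by simpa using h1.w.symm) (by simp)
  exact ⟨Over.isoMk (asIso ψ ≪≫ (asIso μ).symm) (by
    show (ψ ≫ inv μ) ≫ pullback.snd _ _ = f
    have hμ : inv μ ≫ pullback.snd (pullback.snd f s) π = pullback.snd c π := by
      rw [IsIso.inv_comp_eq]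
      simp only [μ, pullback.map, pullback.lift_snd, Category.comp_id]
    rw [Category.assoc, hμ]
    exact pullback.lift_snd _ _ _)⟩

end Groth.Agent.S15880
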