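import Groth.Statements.S15881
import Groth.Agent.H73.Glue.Morphism
import Groth.Agent.H73.Glue.Torsor
import Groth.Agent.Lib.TorsorSch.Descent

set_option autoImplicit false
set_option linter.style.haveILetI false
universe u
open CategoryTheory MonoidalCategory CartesianMonoidalCategory MonObj GrpObj AlgebraicGeometry
open NonAbH1

namespace Groth.Agent.S15881

/-- With φ : A → A' and t as in the glueing set-up (A/t^m → A'/t^m bijective for all m, φ bijective on
t-power torsion), G a flat A-group scheme with quasi-affine underlying scheme, and P, P' fppf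
G-torsors over A: an equivariant isomorphism of the base changes to A[1/t] and one of the base
changes to A', which agree over A'[1/t] under the canonical identifications of iterated base
changes, are the base changes of a unique equivariant isomorphism P ≅ P' over A. (The hypothesis h
is the evident commutativity of the square of base rings.) -/
theorem result (A A' : Type u) [CommRing A] [CommRing A']
    (φ : A →+* A') (t : A)
    (hq : ∀ m : ℕ, Function.Bijective (Ideal.quotientMap (Ideal.map φ (Ideal.span {t} ^ m)) φ Ideal.le_comap_map))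
    (htor : ∀ a' : A', (∃ m : ℕ, φ t ^ m * a' = 0) → ∃! a : A, (∃ m : ℕ, t ^ m * a = 0) ∧ φ a = a')
    (h : Spec.map (CommRingCat.ofHom (Localization.awayMap φ t)) ≫
        Spec.map (CommRingCat.ofHom (algebraMap A (Localization.Away t))) =
      Spec.map (CommRingCat.ofHom (algebraMap A' (Localization.Away (φ t)))) ≫ Spec.map (CommRingCat.ofHom φ))
    (G : Over (Spec (CommRingCat.of A))) [GrpObj G] [Flat G.hom] [G.left.IsQuasiAffine]
    (P P' : NonAbH1.TorsorSch G Scheme.fppfPrecoverage)
    (αU : NonAbH1.EquivIso (P.act.bc (Spec.map (CommRingCat.ofHom (algebraMap A (Localization.Away t))))) (P'.act.bc (Spec.map (CommRingCat.ofHom (algebraMap A (Localization.Away t))))))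
    (α' : NonAbH1.EquivIso (P.act.bc (Spec.map (CommRingCat.ofHom φ))) (P'.act.bc (Spec.map (CommRingCat.ofHom φ))))
    (hagree : (NonAbH1.EquivIso.bc (Spec.map (CommRingCat.ofHom (Localization.awayMap φ t))) αU).iso.hom ≫ (ActBC.bcCompIso (Spec.map (CommRingCat.ofHom (Localization.awayMap φ t))) (Spec.map (CommRingCat.ofHom (algebraMap A (Localization.Away t)))) P'.X h).hom =
      (ActBC.bcCompIso (Spec.map (CommRingCat.ofHom (Localization.awayMap φ t))) (Spec.map (CommRingCat.ofHom (algebraMap A (Localization.Away t)))) P.X h).hom ≫ (ActBC.bcCompIso (Spec.map (CommRingCat.ofHom (algebraMap A' (Localization.Away (φ t))))) (Spec.map (CommRingCat.ofHom φ)) P.X rfl).inv ≫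
        (NonAbH1.EquivIso.bc (Spec.map (CommRingCat.ofHom (algebraMap A' (Localization.Away (φ t))))) α').iso.hom ≫ (ActBC.bcCompIso (Spec.map (CommRingCat.ofHom (algebraMap A' (Localization.Away (φ t))))) (Spec.map (CommRingCat.ofHom φ)) P'.X rfl).hom) :
    ∃! α : NonAbH1.EquivIso P.act P'.act,
      (NonAbH1.EquivIso.bc (Spec.map (CommRingCat.ofHom (algebraMap A (Localization.Away t)))) α).iso = αU.iso ∧ (NonAbH1.EquivIso.bc (Spec.map (CommRingCat.ofHom φ)) α).iso = α'.iso := by
  letI : Algebra A A' := φ.toAlgebra
  have hD : H73.Glue.GlueData A A' t := ⟨hq, htor⟩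
  obtain ⟨hflatP, -⟩ := H73.Glue.torsor_flat_quasiAffine P
  obtain ⟨-, hqaP'⟩ := H73.Glue.torsor_flat_quasiAffine P'
  haveI := hflatP
  haveI := hqaP'
  haveI : (Spec (CommRingCat.of A)).IsQuasiAffine := inferInstance
  let iU := Spec.map (CommRingCat.ofHom (algebraMap A (Localization.Away t)))
  let i' := Spec.map (CommRingCat.ofHom φ)
  let fU : Limits.pullback P.X.hom iU ⟶ P'.X.left := αU.iso.hom.left ≫ Limits.pullback.fst P'.X.hom iU
  let f' : Limits.pullback P.X.hom i' ⟶ P'.X.left := α'.iso.hom.left ≫ Limits.pullback.fst P'.X.hom i'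
  have hc : ∀ (T : Scheme.{u}) (x : T ⟶ P.X.left) (k : T ⟶ Spec (CommRingCat.of (H73.Glue.AT' t A')))
      (hx : x ≫ P.X.hom = (k ≫ Spec.map (CommRingCat.ofHom (H73.Glue.awayAlgHom t).toRingHom)) ≫ H73.Glue.iU A t)
      (hx' : x ≫ P.X.hom = (k ≫ Spec.map (CommRingCat.ofHom (algebraMap A' (H73.Glue.AT' t A')))) ≫ H73.Glue.i' A A'),
      Limits.pullback.lift x _ hx ≫ fU = Limits.pullback.lift x _ hx' ≫ f' := by
    intro T x k hx hx'
    let bU := Spec.map (CommRingCat.ofHom (Localization.awayMap φ t))
    let b' := Spec.map (CommRingCat.ofHom (algebraMap A' (Localization.Away (φ t))))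
    let d := b' ≫ i'
    have hd : x ≫ P.X.hom = k ≫ d := by
      rw [hx']; exact Category.assoc _ _ _
    let z : T ⟶ (Red.bc d P.X).left := Limits.pullback.lift x k hd
    let yU : T ⟶ (Red.bc bU (Red.bc iU P.X)).left :=
      Limits.pullback.lift (Limits.pullback.lift x (k ≫ bU) hx) k (Limits.pullback.lift_snd _ _ _)
    let y' : T ⟶ (Red.bc b' (Red.bc i' P.X)).left :=
      Limits.pullback.lift (Limits.pullback.lift x (k ≫ b') hx') k (Limits.pullback.lift_snd _ _ _)
    have e := congrArg (fun m => yU ≫ CommaMorphism.left m ≫ Limits.pullback.fst P'.X.hom d) hagree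
    have eU : yU ≫ (ActBC.bcCompIso bU iU P.X h).hom.left = z := by
      refine Limits.pullback.hom_ext ?_ ?_
      · rw [Category.assoc]
        erw [ActBC.bcCompIso_hom_left_fst]
        simp only [yU, z]
        erw [Limits.pullback.lift_fst_assoc, Limits.pullback.lift_fst]
        exact (Limits.pullback.lift_fst _ _ _).symm
      · rw [Category.assoc]
        erw [Over.w (ActBC.bcCompIso bU iU P.X h).hom]
        exact (Limits.pullback.lift_snd _ _ _).trans (Limits.pullback.lift_snd _ _ _).symm
    have e' : y' ≫ (ActBC.bcCompIso b' i' P.X rfl).hom.left = z := by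
      refine Limits.pullback.hom_ext ?_ ?_
      · rw [Category.assoc]
        erw [ActBC.bcCompIso_hom_left_fst]
        simp only [y', z]
        erw [Limits.pullback.lift_fst_assoc, Limits.pullback.lift_fst]
        exact (Limits.pullback.lift_fst _ _ _).symm
      · rw [Category.assoc]
        erw [Over.w (ActBC.bcCompIso b' i' P.X rfl).hom]
        exact (Limits.pullback.lift_snd _ _ _).trans (Limits.pullback.lift_snd _ _ _).symm
    have e'' : z ≫ (ActBC.bcCompIso b' i' P.X rfl).inv.left = y' := by
      rw [← e', Category.assoc, ← Over.comp_left, Iso.hom_inv_id, Over.id_left]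
      exact Category.comp_id _
    simp only [Over.comp_left, Category.assoc] at e
    erw [ActBC.bcCompIso_hom_left_fst, ActBC.bcCompIso_hom_left_fst] at e
    erw [reassoc_of% eU] at e
    erw [reassoc_of% e''] at e
    erw [ActBC.pullback_map_left_fst_assoc] at e
    erw [ActBC.pullback_map_left_fst_assoc] at e
    simp only [yU, y'] at e
    erw [Limits.pullback.lift_fst_assoc, Limits.pullback.lift_fst_assoc] at e
    exact e
  obtain ⟨F, hF1, hF2⟩ := H73.Glue.exists_glue hD P.X.hom fU f' hc
  have hFw : F ≫ P'.X.hom = P.X.hom := by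
    refine H73.Glue.hom_ext hD P.X.hom _ _ ?_ ?_
    · rw [← Category.assoc, hF1, Limits.pullback.condition]
      simp only [fU, Category.assoc]
      rw [Limits.pullback.condition, ← Category.assoc]
      exact congrArg (· ≫ iU) (Over.w αU.iso.hom)
    · rw [← Category.assoc, hF2, Limits.pullback.condition]
      simp only [f', Category.assoc]
      rw [Limits.pullback.condition, ← Category.assoc]
      exact congrArg (· ≫ i') (Over.w α'.iso.hom)
  let g : P.X ⟶ P'.X := Over.homMk F hFw
  have hgU : (Over.pullback iU).map g = αU.iso.hom := by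
    apply Over.OverMorphism.ext
    refine Limits.pullback.hom_ext ?_ ?_
    · erw [ActBC.pullback_map_left_fst]
      exact hF1
    · exact (Over.w ((Over.pullback iU).map g)).trans (Over.w αU.iso.hom).symm
  have hg' : (Over.pullback i').map g = α'.iso.hom := by
    apply Over.OverMorphism.ext
    refine Limits.pullback.hom_ext ?_ ?_
    · erw [ActBC.pullback_map_left_fst]
      exact hF2
    · exact (Over.w ((Over.pullback i').map g)).trans (Over.w α'.iso.hom).symm
  have hstep : ∀ {S' : Scheme.{u}} (i : S' ⟶ Spec (CommRingCat.of A))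
      (α : NonAbH1.EquivIso (P.act.bc i) (P'.act.bc i)), (Over.pullback i).map g = α.iso.hom →
      (Over.pullback i).map (P.act.act ≫ g) = (Over.pullback i).map ((G ◁ g) ≫ P'.act.act) := by
    intro S' i α hα
    rw [← cancel_epi (Functor.LaxMonoidal.μ (Over.pullback i) G P.X)]
    rw [Functor.map_comp, Functor.map_comp, ← Functor.LaxMonoidal.μ_natural_right_assoc, hα]
    have := α.comm
    simp only [AlgGrp.Action.bc_act, Category.assoc] at this
    exact this
  have hflatGP : Flat (G ⊗ P.X).hom := by
    show Flat (Limits.pullback.fst G.hom P.X.hom ≫ G.hom)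
    infer_instance
  have heq : AlgGrp.Action.IsEquivariant P.act P'.act g := by
    show P.act.act ≫ g = (G ◁ g) ≫ P'.act.act
    apply Over.OverMorphism.ext
    refine H73.Glue.hom_ext hD (G ⊗ P.X).hom _ _ ?_ ?_
    · have := congrArg (fun m => CommaMorphism.left m ≫ Limits.pullback.fst P'.X.hom iU) (hstep iU αU hgU)
      erw [ActBC.pullback_map_left_fst, ActBC.pullback_map_left_fst] at this
      exact this
    · have := congrArg (fun m => CommaMorphism.left m ≫ Limits.pullback.fst P'.X.hom i') (hstep i' α' hg')
      erw [ActBC.pullback_map_left_fst, ActBC.pullback_map_left_fst] at this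
      exact this
  haveI := Lib.TorsorSch.Basic.isIso_of_isEquivariant
    (Lib.TorsorSch.Descent.isTorsorFor_mono Scheme.fppfPrecoverage_le_fpqcPrecoverage P.isTorsor)
    P'.isTorsor.1 g heq
  refine ⟨⟨asIso g, heq⟩, ⟨Iso.ext hgU, Iso.ext hg'⟩, ?_⟩
  rintro ⟨e, he⟩ ⟨h1, h2⟩
  have hUe : (Over.pullback iU).map e.hom = αU.iso.hom := congrArg Iso.hom h1
  have h'e : (Over.pullback i').map e.hom = α'.iso.hom := congrArg Iso.hom h2
  suffices hh : e = asIso g by subst hh; rfl
  refine Iso.ext (Over.OverMorphism.ext ?_)
  refine H73.Glue.hom_ext hD P.X.hom _ _ ?_ ?_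
  · show _ = Limits.pullback.fst P.X.hom iU ≫ F
    rw [hF1]
    have := congrArg (fun m => CommaMorphism.left m ≫ Limits.pullback.fst P'.X.hom iU) hUe
    erw [ActBC.pullback_map_left_fst] at this
    exact this
  · show _ = Limits.pullback.fst P.X.hom i' ≫ F
    rw [hF2]
    have := congrArg (fun m => CommaMorphism.left m ≫ Limits.pullback.fst P'.X.hom i') h'e
    erw [ActBC.pullback_map_left_fst] at this
    exact this

end Groth.Agent.S15881
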