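import Groth.Statements.S15890
import Groth.Agent.Lib.H58Versch
import Groth.Agent.Lib.H58VerschCoord
import Groth.Agent.Lib.H58RelFrobEtaleUniv
import Mathlib.LinearAlgebra.Dual.Lemmas
import Mathlib.RingTheory.Etale.Basic
-- import your own Groth.Agent.* helpers here

set_option autoImplicit false
universe u v
open Versch

namespace Groth.Agent.S15890

/-- Let p be a prime, k a field of characteristic p and A a finite-dimensional commutative and
cocommutative Hopf algebra over k (a finite commutative k-group scheme G = Spec A), and let v : A →
A ⊗_k k^(Frob) be the comorphism of the Verschiebung V : G^(p) → G (the ring map whose transpose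
under the canonical pairing is the relative Frobenius of the dual Hopf algebra). Then G is
multiplicative, i.e. the dual Hopf algebra Hom_k(A, k) of the Cartier dual G^D is étale over k, if
and only if v is bijective, i.e. V is an isomorphism. -/
theorem result (p : ℕ) [Fact p.Prime] (k : Type u) [Field k] [CharP k p]
    (A : Type v) [CommRing A] [HopfAlgebra k A] [Coalgebra.IsCocomm k A] [FiniteDimensional k A]
    (v : A →+* FrobAlg.BaseChange p k A) (hv : Versch.IsVerschiebung p k A v) :
    Algebra.Etale k (CartDual.D k A) ↔ Function.Bijective v := by
  classical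
  open TensorProduct Groth.Agent.Lib in
  let b := Module.finBasis k A
  let bD : Module.Basis _ k (CartDual.D k A) := b.dualBasis.map (CartDual.toDual k A).symm
  haveI : Module.Finite k (CartDual.D k A) := Module.Finite.of_basis bD
  have hv_inj : Function.Bijective v ↔ Function.Injective v := by
    refine ⟨fun h => h.1, fun h => ⟨h, ?_⟩⟩
    let vL : A →ₗ[k] (Fin (Module.finrank k A) → k) :=
      { toFun := fun a => H58VerschCoord.coords p b (v a)
        map_add' := fun a a' => by rw [map_add, map_add]
        map_smul' := fun r a => by
          rw [RingHom.id_apply, Algebra.smul_def, map_mul, H58Versch.v_algebraMap p v hv, mul_comm, H58VerschCoord.coords_mul] }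
    have h1 : Function.Surjective vL :=
      (LinearMap.injective_iff_surjective_of_finrank_eq_finrank (by rw [Module.finrank_fin_fun])).1
        ((H58VerschCoord.coords p b).injective.comp h)
    intro z
    obtain ⟨a, ha⟩ := h1 (H58VerschCoord.coords p b z)
    exact ⟨a, (H58VerschCoord.coords p b).injective ha⟩
  let e := H58VerschCoord.coords p bD
  let FL : (Fin (Module.finrank k A) → k) →ₗ[k] CartDual.D k A :=
    { toFun := fun c => FrobAlg.relFrob p k (CartDual.D k A) (e.symm c)
      map_add' := fun c c' => by rw [map_add, map_add]
      map_smul' := fun r c => by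
        obtain ⟨z, rfl⟩ := e.surjective c
        have h : r • e z = e (z * ((1 : CartDual.D k A) ⊗ₜ[k] FrobAlg.toTwist p k r)) :=
          (H58VerschCoord.coords_mul p bD z r).symm
        rw [h, AddEquiv.symm_apply_apply, AddEquiv.symm_apply_apply, map_mul, RelFrobEtale.relFrob_includeRight p r, mul_comm,
          RingHom.id_apply]
        exact (Algebra.smul_def _ _).symm }
  have hFL : ∀ z, FL (e z) = FrobAlg.relFrob p k (CartDual.D k A) z := fun z =>
    congrArg (FrobAlg.relFrob p k (CartDual.D k A)) (e.symm_apply_apply z)
  have hF_surj : Function.Bijective (FrobAlg.relFrob p k (CartDual.D k A)) ↔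
      Function.Surjective (FrobAlg.relFrob p k (CartDual.D k A)) := by
    refine ⟨fun h => h.2, fun h => ⟨?_, h⟩⟩
    have h1 : Function.Surjective FL := fun y => by
      obtain ⟨z, rfl⟩ := h y
      exact ⟨e z, hFL z⟩
    have h2 : Function.Injective FL := (LinearMap.injective_iff_surjective_of_finrank_eq_finrank
      (by rw [Module.finrank_fin_fun, Module.finrank_eq_card_basis bD, Fintype.card_fin])).2 h1
    intro z z' hz
    exact e.injective (h2 (((hFL z).trans hz).trans (hFL z').symm))
  have hpair : ∀ (a : A), v a = 0 ↔ ∀ w, (FrobAlg.relFrob p k (CartDual.D k A) w) a = 0 := by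
    intro a
    constructor
    · intro ha w
      induction w using TensorProduct.induction_on with
      | zero => simp [CartDual.coe_apply]
      | add u w hu hw =>
        simp only [CartDual.coe_apply] at hu hw ⊢
        rw [map_add, WithConv.ofConv_add, LinearMap.add_apply, hu, hw, add_zero]
      | tmul x s =>
        apply (FrobAlg.toTwist p k).injective
        rw [← hv a x s, ha, map_zero, map_zero, zero_mul]
    · intro h
      refine Versch.evTw_injective p k A fun x => ?_
      have h2 := hv a x 1
      rw [mul_one, h, map_zero] at h2
      rw [map_zero, h2]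
  have hdual : Function.Injective v ↔ Function.Surjective (FrobAlg.relFrob p k (CartDual.D k A)) := by
    constructor
    · intro h
      by_contra hns
      have hne : LinearMap.range ((CartDual.toDual k A).toLinearMap ∘ₗ FL) ≠ ⊤ := fun he => hns fun y => by
        obtain ⟨c, hc⟩ := LinearMap.range_eq_top.1 he (CartDual.toDual k A y)
        exact ⟨_, (CartDual.toDual k A).injective hc⟩
      obtain ⟨ξ, hξ0, hξ⟩ := Submodule.exists_dual_map_eq_bot_of_lt_top (lt_top_iff_ne_top.2 hne) inferInstance
      obtain ⟨a, rfl⟩ := (Module.bijective_dual_eval k A).2 ξ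
      refine hξ0 ?_
      have ha : v a = 0 := (hpair a).2 fun w => by
        have h1 := (Submodule.eq_bot_iff _).1 hξ _ ⟨_, LinearMap.mem_range_self _ (e w), rfl⟩
        rw [← hFL w]
        exact h1
      rw [h (ha.trans (map_zero v).symm), map_zero]
    · intro h
      refine (injective_iff_map_eq_zero v).2 fun a ha => (Module.bijective_dual_eval k A).1 (LinearMap.ext fun φ => ?_)
      rw [map_zero, LinearMap.zero_apply]
      obtain ⟨z, hz⟩ := h ((CartDual.toDual k A).symm φ)
      have := (hpair a).1 ha z
      rw [hz] at this
      exact this
  rw [hv_inj, hdual, ← hF_surj]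
  refine ⟨fun _ => H58RelFrobEtaleUniv.bijective_of_etale p, fun h => ?_⟩
  exact ⟨H58RelFrobEtaleUniv.formallyEtale_of_bijective p h, Algebra.FinitePresentation.of_finiteType.1 inferInstance⟩

end Groth.Agent.S15890
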