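import Groth.Statements.S15891
import Groth.Agent.Lib.H58Versch
-- import your own Groth.Agent.* helpers here

set_option autoImplicit false
universe u
open scoped TensorProduct
open Versch

namespace Groth.Agent.S15891

/-- Let p be a prime, R a commutative ring of characteristic p and A a commutative and cocommutative
Hopf algebra over R which is finitely generated and projective as an R-module, of characteristic p
(a finite locally free commutative group scheme G = Spec A over S = Spec R), and let v : A → A^(p) =
A ⊗_R R^(Frob) be the comorphism of the Verschiebung V : G^(p) → G (the ring map whose transpose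
under the canonical pairing is the relative Frobenius of the dual Hopf algebra). Then F ∘ V = [p] is
multiplication by p on the S-group G^(p): the ring endomorphism v ∘ F* of A^(p), where F* : A^(p) →
A is the relative Frobenius comorphism, transported along the symmetry A ⊗_R R^(Frob) ≅ R^(Frob) ⊗_R
A, is the p-th convolution power of the identity of the Hopf algebra R^(Frob) ⊗_R A over R^(Frob)
(the base change of A along the Frobenius of R). (The published notes work over a Noetherian base
ring; the row allows any commutative base ring of characteristic p.) -/
theorem result (p : ℕ) [Fact p.Prime] (R : Type u) [CommRing R] [CharP R p]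
    (A : Type u) [CommRing A] [HopfAlgebra R A] [Coalgebra.IsCocomm R A] [Module.Finite R A] [Module.Projective R A]
    [CharP A p] (v : A →+* FrobAlg.BaseChange p R A) (hv : Versch.IsVerschiebung p R A v) :
    ((Algebra.TensorProduct.comm R A (FrobAlg.Twist p R)).toRingEquiv.toRingHom.comp
        ((v.comp (FrobAlg.relFrob p R A)).comp
          (Algebra.TensorProduct.comm R A (FrobAlg.Twist p R)).symm.toRingEquiv.toRingHom)) =
      (SGA3b.powConv (FrobAlg.Twist p R) (FrobAlg.Twist p R ⊗[R] A) p).toRingHom := by
  open Groth.Agent.Lib in
  refine RingHom.ext fun z => ?_
  induction z using TensorProduct.induction_on with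
  | zero => simp
  | add u w hu hw => rw [map_add, map_add, hu, hw]
  | tmul s b =>
    show (Algebra.TensorProduct.comm R A (FrobAlg.Twist p R)) (v (FrobAlg.relFrob p R A
      ((Algebra.TensorProduct.comm R A (FrobAlg.Twist p R)).symm (s ⊗ₜ b)))) = SGA3b.powConv _ _ p (s ⊗ₜ b)
    rw [H58Versch.powConv_tmul, Algebra.TensorProduct.comm_symm_tmul, RelFrobEtale.relFrob_tmul, map_mul v, map_pow,
      H58Versch.v_algebraMap p v hv, RelFrobEtale.pow_eq, ← H58Versch.powConv_eq_relFrob_comp p v hv,
      Algebra.TensorProduct.tmul_mul_tmul, mul_one, one_mul, RingEquiv.apply_symm_apply, Algebra.TensorProduct.comm_tmul]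

end Groth.Agent.S15891
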