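import Groth.Statements.S15893
import Mathlib

set_option autoImplicit false
universe u v w
open CartDual

namespace Groth.Agent.S15893

/-- Let R be a commutative ring and A, B commutative and cocommutative Hopf algebras over R, each
finitely generated and projective as an R-module (finite locally free commutative group schemes G =
Spec A, H = Spec B over Spec R). Then Cartier duality is a fully faithful contravariant functor: the
map sending a bialgebra homomorphism f : A → B (a homomorphism of group schemes H → G) to its
transpose between the dual Hopf algebras, Hom_R(B, R) → Hom_R(A, R) (the dual homomorphism G^D →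
H^D), is a bijection between bialgebra homomorphisms A → B and bialgebra homomorphisms Hom_R(B, R) →
Hom_R(A, R). (The published statement also asserts that the canonical map to the double dual is an
isomorphism, which makes duality an involutory anti-equivalence; that part is not restated here. The
published notes work over a Noetherian base ring; the row allows any commutative base ring.) -/
theorem result (R : Type u) [CommRing R] (A : Type v) (B : Type w)
    [CommRing A] [HopfAlgebra R A] [Coalgebra.IsCocomm R A] [Module.Finite R A] [Module.Projective R A]
    [CommRing B] [HopfAlgebra R B] [Coalgebra.IsCocomm R B] [Module.Finite R B] [Module.Projective R B] :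
    Function.Bijective (fun f : A →ₐc[R] B => CartDual.transpose R f) := by
  constructor
  · intro f g h
    refine DFunLike.ext f g fun a => Module.eval_apply_injective R (LinearMap.ext fun φ => ?_)
    exact congrArg (fun t : CartDual.D R B →ₐc[R] CartDual.D R A => (t (WithConv.toConv φ)).ofConv a) h
  · intro g
    have hbij : Function.Bijective (CartDual.eval R B) := by
      have h := (Module.bijective_dual_eval R B)
      constructor
      · intro b b' hb
        refine h.1 (LinearMap.ext fun φ => ?_)
        exact congrArg (fun t : CartDual.D R (CartDual.D R B) => t.ofConv (WithConv.toConv φ)) hb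
      · intro t
        obtain ⟨b, hb⟩ := h.2 (t.ofConv ∘ₗ (CartDual.toDual R B).symm.toLinearMap)
        refine ⟨b, WithConv.ofConv_injective (LinearMap.ext fun x => ?_)⟩
        exact LinearMap.congr_fun hb x.ofConv
    let E : B ≃ₐ[R] CartDual.D R (CartDual.D R B) :=
      AlgEquiv.ofBijective (CartDual.eval R B).toAlgHom hbij
    let f : A →ₗ[R] B := E.symm.toLinearMap ∘ₗ
      (CartDual.transpose R g).toCoalgHom.toLinearMap ∘ₗ (CartDual.eval R A).toCoalgHom.toLinearMap
    have hf : ∀ (a : A) (x : CartDual.D R B), x.ofConv (f a) = (g x).ofConv a := by
      intro a x
      have h1 : (E (f a)).ofConv x = (CartDual.transpose R g (CartDual.eval R A a)).ofConv x := by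
        show (E (E.symm _)).ofConv x = _
        rw [AlgEquiv.apply_symm_apply]
        rfl
      exact h1
    have hsep : ∀ b b' : B, (∀ x : CartDual.D R B, x.ofConv b = x.ofConv b') → b = b' := fun b b' h =>
      Module.eval_apply_injective R (LinearMap.ext fun φ => h (WithConv.toConv φ))
    have hmul : ∀ a a', f (a * a') = f a * f a' := fun a a' => hsep _ _ fun x => by
      rw [hf, ← CartDual.coe_apply, ← CartDual.ev₂_coalgebra_comul_tmul,
        show Coalgebra.comul (R := R) (g x) = TensorProduct.map g.toCoalgHom.toLinearMap g.toCoalgHom.toLinearMap
          (Coalgebra.comul (R := R) x) from (CoalgHomClass.map_comp_comul_apply g x).symm,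
        ← CartDual.coe_apply, ← CartDual.ev₂_coalgebra_comul_tmul]
      induction Coalgebra.comul (R := R) x using TensorProduct.induction_on with
      | zero => simp
      | add p q hp hq => simp only [map_add, LinearMap.add_apply, hp, hq]
      | tmul y z =>
        simp only [TensorProduct.map_tmul, CartDual.ev₂_tmul, CartDual.coe_apply]
        rw [hf, hf]
        rfl
    have hone : f 1 = 1 := hsep _ _ fun x => by
      rw [hf]
      exact CoalgHomClass.counit_comp_apply g x
    have hcomul : ∀ a, Coalgebra.comul (R := R) (f a) = TensorProduct.map f f (Coalgebra.comul (R := R) a) := by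
      intro a
      refine Module.eval_apply_injective R (LinearMap.ext fun φ => ?_)
      obtain ⟨y, rfl⟩ := (CartDual.ev₂ R B).surjective φ
      show CartDual.ev₂ R B y (Coalgebra.comul (R := R) (f a)) =
        CartDual.ev₂ R B y (TensorProduct.map f f (Coalgebra.comul (R := R) a))
      induction y using TensorProduct.induction_on with
      | zero => simp
      | add p q hp hq => simp only [map_add, LinearMap.add_apply, hp, hq]
      | tmul x z =>
        have h1 : (x * z).ofConv (f a) = (g x * g z).ofConv a := by rw [hf, map_mul]
        simp only [LinearMap.convMul_def, WithConv.ofConv_toConv, LinearMap.comp_apply] at h1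
        rw [CartDual.ev₂_tmul_eq']
        show LinearMap.mul' R R (TensorProduct.map x.ofConv z.ofConv (Coalgebra.comul (R := R) (f a))) =
          LinearMap.mul' R R (TensorProduct.map x.ofConv z.ofConv
            (TensorProduct.map f f (Coalgebra.comul (R := R) a)))
        rw [h1]
        generalize Coalgebra.comul (R := R) a = w
        induction w using TensorProduct.induction_on with
        | zero => simp
        | add p q hp hq => simp only [map_add, hp, hq]
        | tmul p q => simp [hf]
    have hcounit : ∀ a, Coalgebra.counit (R := R) (f a) = Coalgebra.counit (R := R) a := by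
      intro a
      have h1 := hf a 1
      rw [map_one] at h1
      simpa [LinearMap.convOne_def] using h1
    let F : A →ₐ[R] B := AlgHom.ofLinearMap f hone hmul
    refine ⟨BialgHom.ofAlgHom F (AlgHom.ext hcounit) (AlgHom.ext fun a => (hcomul a).symm), ?_⟩
    exact DFunLike.ext _ _ fun x => WithConv.ofConv_injective (LinearMap.ext fun a => hf a x)

end Groth.Agent.S15893
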