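import Groth.Statements.S15895
import Groth.Agent.Lib.H58Versch
import Groth.Prelude.Def_CartDual2
-- import your own Groth.Agent.* helpers here

set_option autoImplicit false
universe u
open scoped TensorProduct
open Versch

namespace Groth.Agent.S15895

/-- Let p be a prime, R a commutative ring of characteristic p and B = Hom_R(R[ℤ/p], R) the dual Hopf
algebra of the group algebra of the cyclic group of order p: the Hopf algebra of the constant group
scheme ℤ/p over Spec R (the Cartier dual of μ_p). Let v : B → B ⊗_R R^(Frob) be the comorphism of
the Verschiebung V : (ℤ/p)^(p) → ℤ/p (the ring map whose transpose under the canonical pairing is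
the relative Frobenius of the dual Hopf algebra of B). Then V is the trivial homomorphism: v is the
composite of the counit ε : B → R, the identity of underlying rings R → R^(Frob) and the inclusion
of the twisted factor R^(Frob) → B ⊗_R R^(Frob), i.e. v(b) = 1 ⊗ ε(b). -/
theorem result (p : ℕ) [Fact p.Prime] (R : Type u) [CommRing R]
    [CharP R p] (v : CartDual.D R (MonoidAlgebra R (Multiplicative (ZMod p))) →+* FrobAlg.BaseChange p R (CartDual.D R (MonoidAlgebra R (Multiplicative (ZMod p)))))
    (hv : Versch.IsVerschiebung p R (CartDual.D R (MonoidAlgebra R (Multiplicative (ZMod p)))) v) :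
    v = ((Algebra.TensorProduct.includeRight (R := R) (A := CartDual.D R (MonoidAlgebra R (Multiplicative (ZMod p))))
            (B := FrobAlg.Twist p R)).toRingHom.comp (FrobAlg.toTwist p R).toRingHom).comp
          (Bialgebra.counitAlgHom R (CartDual.D R (MonoidAlgebra R (Multiplicative (ZMod p))))).toRingHom := by
  open TensorProduct in
  apply RingHom.ext
  intro a
  refine Versch.evTw_injective p R (CartDual.D R (MonoidAlgebra R (Multiplicative (ZMod p)))) (fun x => ?_)
  refine ((Versch.isVerschiebung_iff p R _ v).1 hv a x).trans ?_
  show _ = Versch.evTw p R _ x ((1 : CartDual.D R (MonoidAlgebra R (Multiplicative (ZMod p)))) ⊗ₜ FrobAlg.toTwist p R (Coalgebra.counit (R := R) a))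
  rw [Versch.evTw_tmul', ← map_mul]
  congr 1
  obtain ⟨r, hr⟩ : ∃ r, CartDual.eval R (MonoidAlgebra R (Multiplicative (ZMod p))) r = x := by
    obtain ⟨r, hr⟩ := (Module.bijective_dual_eval R (MonoidAlgebra R (Multiplicative (ZMod p)))).2
      ((CartDual.toDual R (CartDual.D R (MonoidAlgebra R (Multiplicative (ZMod p)))) x).comp
        (CartDual.toDual R (MonoidAlgebra R (Multiplicative (ZMod p)))).symm.toLinearMap)
    refine ⟨r, WithConv.ofConv_injective (LinearMap.ext fun z => ?_)⟩
    exact LinearMap.congr_fun hr (CartDual.toDual R _ z)
  subst hr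
  have hrp : r ^ p = algebraMap R _ ((Coalgebra.counit (R := R) r) ^ p) := by
    rcases subsingleton_or_nontrivial R with hR | hR
    · haveI := Module.subsingleton R (MonoidAlgebra R (Multiplicative (ZMod p)))
      exact Subsingleton.elim _ _
    haveI : CharP (MonoidAlgebra R (Multiplicative (ZMod p))) p :=
      charP_of_injective_algebraMap (R := R) (fun a b h => by simpa using congr_arg (Coalgebra.counit (R := R)) h) p
    induction r using MonoidAlgebra.induction_linear with
    | zero => simp [(Fact.out : p.Prime).ne_zero]
    | single g c =>
      rw [MonoidAlgebra.single_pow, MonoidAlgebra.coe_algebraMap]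
      have hg : g ^ p = 1 := by
        apply Multiplicative.toAdd.injective
        rw [toAdd_pow, toAdd_one, nsmul_eq_mul, ZMod.natCast_self, zero_mul]
      simp [hg]
    | add u w hu hw => rw [add_pow_expChar, map_add, add_pow_expChar, map_add, hu, hw]
  rw [show CartDual.eval R _ r ^ p = CartDual.eval R _ (r ^ p) from (map_pow _ _ _).symm, hrp]
  simp only [CartDual.eval_apply, Algebra.algebraMap_eq_smul_one]
  rw [CartDual.coe_apply, map_smul, smul_eq_mul, LinearMap.convOne_apply]
  simp

end Groth.Agent.S15895
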