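import Groth.Statements.S15896
import Groth.Agent.S15062
import Groth.Agent.Lib.OT67.UnitComp
import Groth.Agent.Lib.OT67.QuotLift

set_option autoImplicit false
universe u
open scoped TensorProduct
open Hopf

namespace Groth.Agent.S15896

/-- Let R be a henselian Noetherian local ring and A a commutative and cocommutative Hopf algebra over R
which is finitely generated and projective as an R-module (a finite flat commutative R-group G =
Spec A). Let e ∈ A be an idempotent with ε(e) = 1 such that the ideal (1 − e) is a Hopf ideal and A⁰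
= A/(1 − e) is a local ring, projective over R, with cocommutative quotient structure (G⁰ = Spec A⁰
is the connected component of the unit section). Let B = Hom_R(A⁰, R) be the dual Hopf algebra (the
Cartier dual (G⁰)^D) and e' ∈ B an idempotent with ε(e') = 1 and B/(1 − e') local (the unit
component of (G⁰)^D). Say that x ∈ B is invariant when (id ⊗ (multiplication by e'))(Δ x) = x ⊗ e',
i.e. x is invariant under translation by the unit component of (G⁰)^D, so that the invariant
elements form the Hopf algebra of the maximal étale quotient of (G⁰)^D; the ideal in A⁰ of the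
closed subgroup G_μ ⊆ G⁰ ⊆ G consists of the elements annihilated by every invariant x (G_μ is the
Cartier dual of the étale quotient of (G⁰)^D, a connected multiplicative subgroup of G). Then G_μ is
the largest connected multiplicative closed subgroup of G: for every Hopf ideal J of A such that A/J
is a local ring, projective over R, cocommutative, and has étale dual Hopf algebra Hom_R(A/J, R) (H
= Spec A/J a connected closed subgroup with étale Cartier dual), every a ∈ A whose image in A⁰ is
annihilated by all invariant x lies in J, i.e. H ⊆ G_μ. -/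
theorem result (R : Type u) [CommRing R]
    [HenselianLocalRing R] [IsNoetherianRing R] (A : Type u) [CommRing A] [HopfAlgebra R A] [Coalgebra.IsCocomm R A]
    [Module.Finite R A] [Module.Projective R A] (e : A) (he : IsIdempotentElem e)
    (hε : Bialgebra.counitAlgHom R A e = 1) [(Ideal.span ({1 - e} : Set A)).IsHopfIdeal R] [IsLocalRing (A ⧸ Ideal.span ({1 - e} : Set A))]
    [Module.Projective R (A ⧸ Ideal.span ({1 - e} : Set A))] [Coalgebra.IsCocomm R (A ⧸ Ideal.span ({1 - e} : Set A))]
    (e' : CartDual.D R (A ⧸ Ideal.span ({1 - e} : Set A))) (he' : IsIdempotentElem e')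
    (hε' : Bialgebra.counitAlgHom R (CartDual.D R (A ⧸ Ideal.span ({1 - e} : Set A))) e' = 1)
    [IsLocalRing (CartDual.D R (A ⧸ Ideal.span ({1 - e} : Set A)) ⧸ Ideal.span ({1 - e'} : Set (CartDual.D R (A ⧸ Ideal.span ({1 - e} : Set A)))))]
    (J : Ideal A) [J.IsHopfIdeal R] [IsLocalRing (A ⧸ J)] [Module.Projective R (A ⧸ J)]
    [Coalgebra.IsCocomm R (A ⧸ J)] [Algebra.Etale R (CartDual.D R (A ⧸ J))]
    (a : A) (ha : ∀ x : CartDual.D R (A ⧸ Ideal.span ({1 - e} : Set A)), LinearMap.lTensor (CartDual.D R (A ⧸ Ideal.span ({1 - e} : Set A))) (LinearMap.mulLeft R e') (Coalgebra.comul (R := R) x) = x ⊗ₜ[R] e' → x (Ideal.Quotient.mk (Ideal.span ({1 - e} : Set A)) a) = 0) :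
    a ∈ J := by
  let I := Ideal.span ({1 - e} : Set A)
  let π : A →ₐc[R] A ⧸ J := Bialgebra.Quotient.mkBialgHom J
  have hπ1 : π e = 1 := by
    refine Groth.Agent.Lib.OT67.eq_one_of_point (Bialgebra.counitAlgHom R (A ⧸ J)) (he.map π) ?_
    exact (CoalgHomClass.counit_comp_apply π e).trans hε
  have hπI : ∀ c ∈ I, π c = 0 := fun c hc => by
    obtain ⟨d, rfl⟩ := Ideal.mem_span_singleton'.1 hc
    rw [map_mul, map_sub, map_one, hπ1, sub_self, mul_zero]
  let φ := Groth.Agent.Lib.OT67.liftBialg I π hπI
  let T := CartDual.transpose R φ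
  let K := Ideal.span ({1 - e'} : Set (CartDual.D R (A ⧸ I)))
  have hinv := (Groth.Agent.S15062.result R (CartDual.D R (A ⧸ I)) e' he' hε').1 (CartDual.D R (A ⧸ J)) T
  let sec : (CartDual.D R (A ⧸ I) ⧸ K) →ₗ[R] CartDual.D R (A ⧸ I) :=
    (K.restrictScalars R).liftQ (LinearMap.mulLeft R e') (by
      intro c hc
      obtain ⟨d, rfl⟩ := Ideal.mem_span_singleton'.1 hc
      show e' * (d * (1 - e')) = 0
      rw [mul_left_comm, mul_sub, mul_one, he'.eq, sub_self, mul_zero])
  rw [← Ideal.Quotient.eq_zero_iff_mem]
  have key : ∀ y : CartDual.D R (A ⧸ J), y (Ideal.Quotient.mk J a) = 0 := by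
    intro y
    have h1 := hinv y
    rw [AlgHom.mem_equalizer] at h1
    have h2 := congrArg (LinearMap.lTensor (CartDual.D R (A ⧸ I)) sec) h1
    have h3 : ∀ z : CartDual.D R (A ⧸ I) ⊗[R] CartDual.D R (A ⧸ I),
        LinearMap.lTensor (CartDual.D R (A ⧸ I)) sec
          (Algebra.TensorProduct.map (AlgHom.id R _) (Ideal.Quotient.mkₐ R K) z) =
        LinearMap.lTensor (CartDual.D R (A ⧸ I)) (LinearMap.mulLeft R e') z := by
      intro z
      induction z using TensorProduct.induction_on with
      | zero => simp
      | add p q hp hq => simp only [map_add, hp, hq]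
      | tmul p q => rfl
    rw [AlgHom.comp_apply, Bialgebra.comulAlgHom_apply, h3] at h2
    have h4 := ha (T y) (h2.trans (by
      show T y ⊗ₜ[R] (e' * 1) = _
      rw [mul_one]))
    rw [CartDual.transpose_apply, Groth.Agent.Lib.OT67.liftBialg_mk] at h4
    exact h4
  exact (Module.forall_dual_apply_eq_zero_iff R (Ideal.Quotient.mk J a)).1 fun g => key (WithConv.toConv g)

end Groth.Agent.S15896
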