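import Groth.Statements.S1590
import Groth.Agent.H25.Node.AtWorst
import Groth.Agent.Lib.Cyc.TorPD

set_option autoImplicit false
set_option linter.style.haveILetI false
universe u
open CategoryTheory CategoryTheory.Limits AlgebraicGeometry
open Curves

namespace Groth.Agent.S1590

attribute [local instance] Curv2.stalkAlgebra

open IsLocalRing in
/-- A closed point off the generic points has positive dimension. -/
theorem one_le_dim {Y : Scheme.{u}} (hY : ∀ Z ∈ irreducibleComponents (Y : Type u), topologicalKrullDim Z = 1)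
    (y : Y) (hy : IsClosed ({y} : Set Y)) : 1 ≤ ringKrullDim (Y.presheaf.stalk y) := by
  obtain ⟨z, hzy, hne⟩ : ∃ z, z ⤳ y ∧ z ≠ y := by
    by_contra hc
    push Not at hc
    have h1 := irreducibleComponent_mem_irreducibleComponents y
    have hg := (isIrreducible_irreducibleComponent (x := y)).isGenericPoint_genericPoint
      isClosed_irreducibleComponent
    have h2 := hc _ (hg.specializes mem_irreducibleComponent)
    have h3 : irreducibleComponent y = {y} := by
      rw [← hg.def, h2, hy.closure_eq]
    have h4 := hY _ h1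
    rw [h3] at h4
    have h5 : topologicalKrullDim ({y} : Set Y) ≤ 0 := by
      unfold topologicalKrullDim
      haveI : Subsingleton (TopologicalSpace.IrreducibleCloseds ({y} : Set Y)) := ⟨fun a b =>
        TopologicalSpace.IrreducibleCloseds.ext (by
          rw [Subsingleton.eq_univ_of_nonempty a.isIrreducible.nonempty,
            Subsingleton.eq_univ_of_nonempty b.isIrreducible.nonempty])⟩
      exact Order.krullDim_nonpos_of_subsingleton
    rw [h4] at h5
    exact absurd h5 (by decide)
  obtain ⟨P, hP⟩ : z ∈ Set.range (Y.fromSpecStalk y) := by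
    rw [Scheme.range_fromSpecStalk]; exact hzy
  refine Order.one_le_krullDim_iff.2 ⟨P, IsLocalRing.closedPoint _,
    lt_of_le_of_ne (le_maximalIdeal P.isPrime.ne_top) fun e => hne ?_⟩
  rw [← hP, e, Scheme.fromSpecStalk_closedPoint]

open IsLocalRing in
/-- A reduced quotient of positive dimension of a nodal local ring is nodal or regular. -/
theorem nodal_or_regular (k A B : Type u) [Field k] [CommRing A] [IsLocalRing A]
    [IsNoetherianRing A] [CommRing B] [IsLocalRing B] [IsNoetherianRing B] [_root_.IsReduced B]
    [Algebra k B] [Algebra.FormallySmooth k (ResidueField B)]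
    (ψ : A →+* B) (hψ : Function.Surjective ψ) (hn : H25.Node.IsNodal A) (hdim : 1 ≤ ringKrullDim B) :
    H25.Node.IsNodal B ∨ IsRegularLocalRing B := by
  haveI : IsLocalHom ψ := IsLocalHom.of_surjective _ hψ
  have hmap : (maximalIdeal A).map ψ = maximalIdeal B := by
    refine le_antisymm (((local_hom_TFAE ψ).out 0 2 rfl rfl).1 inferInstance) fun z hz => ?_
    obtain ⟨a, rfl⟩ := hψ z
    exact Ideal.mem_map_of_mem _ ((mem_maximalIdeal a).2 fun hu => hz (hu.map ψ))
  obtain ⟨x, y, hxy, v, hv, hd⟩ := hn.exists_rel
  have hxy' : Ideal.span {ψ x, ψ y} = maximalIdeal B := by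
    rw [← hmap, ← hxy, Ideal.map_span, Set.image_pair]
  have hv' : H25.Node.quad (ψ ∘ v) (ψ x) (ψ y) ∈ maximalIdeal B ^ 3 := by
    rw [← H25.Node.map_quad, ← hmap, ← Ideal.map_pow]; exact Ideal.mem_map_of_mem _ hv
  have hd' : IsUnit (H25.Node.disc (ψ ∘ v)) := by
    rw [← H25.Node.map_disc]; exact hd.map ψ
  have hle : Module.finrank (ResidueField B) (CotangentSpace B) ≤ 2 := by
    rw [← spanFinrank_maximalIdeal_eq_finrank_cotangentSpace, ← hxy']
    exact (Submodule.spanFinrank_span_le_ncard_of_finite (Set.toFinite _)).trans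
      ((Set.ncard_insert_le _ _).trans (by rw [Set.ncard_singleton]))
  rcases lt_or_eq_of_le hle with h | h
  · refine Or.inr (IsRegularLocalRing.of_spanFinrank_maximalIdeal_le _ ?_)
    rw [spanFinrank_maximalIdeal_eq_finrank_cotangentSpace]
    exact le_trans (by exact_mod_cast Nat.lt_succ_iff.1 h) hdim
  · exact Or.inl (H25.Node.Algebraic.isNodal k B h hxy' hv' hd')

/-- Let X be locally of finite type over k, with all irreducible components of dimension one and
at-worst-nodal singularities. A reduced closed subscheme Y of X all of whose irreducible components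
have dimension one again has at-worst-nodal singularities. -/
theorem result (k : Type u) [Field k] (X : Scheme.{u}) [X.Over (Spec (CommRingCat.of k))] [LocallyOfFiniteType (X ↘ (Spec (CommRingCat.of k)))]
    (hequi : ∀ Z ∈ irreducibleComponents (X : Type u), topologicalKrullDim Z = 1) (hX : Curv2.AtWorstNodal k X)
    (I : X.IdealSheafData) [IsReduced I.subscheme]
    (hY : ∀ Z ∈ irreducibleComponents (I.subscheme : Type u), topologicalKrullDim Z = 1) :
    @Curv2.AtWorstNodal k _ I.subscheme ⟨I.subschemeι ≫ (X ↘ (Spec (CommRingCat.of k)))⟩ := by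
  letI oY : I.subscheme.Over (Spec (CommRingCat.of k)) :=
    ⟨I.subschemeι ≫ (X ↘ (Spec (CommRingCat.of k)))⟩
  haveI : LocallyOfFiniteType (I.subscheme ↘ Spec (CommRingCat.of k)) :=
    inferInstanceAs (LocallyOfFiniteType (I.subschemeι ≫ (X ↘ (Spec (CommRingCat.of k)))))
  haveI : IsLocallyNoetherian X :=
    LocallyOfFiniteType.isLocallyNoetherian (X ↘ Spec (CommRingCat.of k))
  haveI : IsLocallyNoetherian I.subscheme :=
    LocallyOfFiniteType.isLocallyNoetherian (I.subscheme ↘ Spec (CommRingCat.of k))
  intro y hy
  set i := I.subschemeι with hi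
  have hx : IsClosed ({i y} : Set X) := by
    rw [← Set.image_singleton]; exact i.isClosedMap _ hy
  have hsurj : Function.Surjective (i.stalkMap y).hom := i.stalkMap_surjective y
  have hdimY : 1 ≤ ringKrullDim (I.subscheme.presheaf.stalk y) := one_le_dim hY y hy
  letI : Algebra (X.presheaf.stalk (i y)) (I.subscheme.presheaf.stalk y) := (i.stalkMap y).hom.toAlgebra
  haveI : IsLocalHom (algebraMap (X.presheaf.stalk (i y)) (I.subscheme.presheaf.stalk y)) :=
    inferInstanceAs (IsLocalHom (i.stalkMap y).hom)
  haveI : IsScalarTower k (X.presheaf.stalk (i y)) (I.subscheme.presheaf.stalk y) :=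
    IsScalarTower.of_algebraMap_eq' (H25.Node.Change.stalkMap_hom k i y)
  rcases (hX (i y) hx).imp_left (H25.Node.AtWorst.exists_smooth_iff k X (i y)).1 with hs | hn
  · refine Or.inl ((H25.Node.AtWorst.exists_smooth_iff k I.subscheme y).2 ?_)
    haveI := H25.Node.AtWorst.regular_of_smooth k X hs
    haveI := Lib.Regular.Quotient.isDomain (X.presheaf.stalk (i y))
    have hinj : Function.Injective (i.stalkMap y).hom := by
      rw [injective_iff_map_eq_zero]
      intro a ha
      by_contra ha0
      have h1 := ringKrullDim_quotient_succ_le_of_nonZeroDivisor (mem_nonZeroDivisors_of_ne_zero ha0)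
      have h2 : ringKrullDim (I.subscheme.presheaf.stalk y) ≤
          ringKrullDim (X.presheaf.stalk (i y) ⧸ Ideal.span {a}) :=
        ringKrullDim_le_of_surjective (Ideal.Quotient.lift _ (i.stalkMap y).hom fun b hb => by
          obtain ⟨c, rfl⟩ := Ideal.mem_span_singleton.1 hb
          rw [map_mul, ha, zero_mul]) (Ideal.Quotient.lift_surjective_of_surjective _ _ hsurj)
      have h3 := (Lib.Cyc.TorPD.ringKrullDim_stalk_le (i y)).trans
        (H25.Node.AtWorst.dim_le_one X hequi)
      have h4 : (1 : WithBot ℕ∞) + 1 ≤ 1 :=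
        (add_le_add (hdimY.trans h2) le_rfl).trans (h1.trans h3)
      exact absurd h4 (by decide)
    haveI : IsIso (i.stalkMap y) := (ConcreteCategory.isIso_iff_bijective _).2 ⟨hinj, hsurj⟩
    show RingHom.FormallySmooth ((i ≫ (X ↘ Spec (CommRingCat.of k))).stalkMap y).hom
    rw [Scheme.Hom.stalkMap_comp]
    exact (RingHom.FormallySmooth.respectsIso.cancel_right_isIso _ (i.stalkMap y)).2 hs
  · obtain ⟨-, hsep, hnode⟩ := (H25.Node.Sch.isNode_iff k X _).1 hn
    haveI := hsep
    have hres : Function.Surjective (algebraMap (IsLocalRing.ResidueField (X.presheaf.stalk (i y)))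
        (IsLocalRing.ResidueField (I.subscheme.presheaf.stalk y))) := fun z => by
      obtain ⟨b, rfl⟩ := IsLocalRing.residue_surjective z
      obtain ⟨a, rfl⟩ := hsurj b
      exact ⟨IsLocalRing.residue _ a, rfl⟩
    haveI : Algebra.IsSeparable (IsLocalRing.ResidueField (X.presheaf.stalk (i y)))
        (IsLocalRing.ResidueField (I.subscheme.presheaf.stalk y)) :=
      Algebra.IsSeparable.of_algHom _ _ (AlgEquiv.ofBijective (Algebra.ofId
        (IsLocalRing.ResidueField (X.presheaf.stalk (i y))) _) ⟨RingHom.injective _, hres⟩).symm.toAlgHom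
    have hsepY := (H25.Node.Change.separable_iff k (X.presheaf.stalk (i y))
      (I.subscheme.presheaf.stalk y)).1 hsep
    haveI := hsepY
    haveI : Algebra.FormallyEtale k (IsLocalRing.ResidueField (I.subscheme.presheaf.stalk y)) :=
      Algebra.FormallyEtale.of_isSeparable k _
    rcases nodal_or_regular k _ _ (i.stalkMap y).hom hsurj hnode hdimY with h | h
    · exact Or.inr ((H25.Node.Sch.isNode_iff k I.subscheme y).2 ⟨hy, hsepY, h⟩)
    · exact Or.inl ((H25.Node.AtWorst.exists_smooth_iff k I.subscheme y).2
        (H25.Node.SmoothPoint.mem_smoothLocus k I.subscheme y h hsepY))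

end Groth.Agent.S1590
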