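import Groth.Statements.S15902
import Groth.Agent.Lib.KoszulSh.Sections
import Groth.Agent.Lib.KoszulSh.Spread
import Groth.Agent.Lib.Pinch.StalkFrame
import Groth.Agent.H26.RegImmLocal

set_option autoImplicit false
universe u
open CategoryTheory AlgebraicGeometry Opposite
open KoszSh

namespace Groth.Agent.S15902


open TopologicalSpace Opposite RingTheory.Sequence
open Groth.Agent.Lib.Pinch Groth.Agent.Lib.Modules

theorem exists_free_basis (W : Scheme.{u}) (n : ℕ) :
    ∃ b : Module.Basis (Fin n) Γ(W, ⊤) Γ(FlatMod.freeMod W n, ⊤), ∀ i, b i = Free.gen W i := by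
  have hf : StalkFrame.IsFrame (FlatMod.freeMod W n) ⊤ (Free.gen W (n := n)) := fun x hx => by
    have h := (FreeStalk.stalkBasis W n x).equivFun.symm.bijective
    convert h using 1
    funext c
    simp
  have hid : ∀ c : Fin n → Γ(W, ⊤), StalkFrame.comb (Free.gen W (n := n)) (le_refl (⊤ : W.Opens)) c =
      ∑ i, c i • Free.gen W i := fun c => by
    simp only [StalkFrame.comb, Groth.Agent.Lib.TensorMod.Dual.rs_self]
  have hli : LinearIndependent Γ(W, ⊤) (Free.gen W (n := n)) :=
    Fintype.linearIndependent_iff.2 fun c hc => congrFun (StalkFrame.comb_injective hf le_rfl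
      (a₁ := c) (a₂ := 0) (by rw [hid, hid, hc]; simp))
  have hsp : ⊤ ≤ Submodule.span Γ(W, ⊤) (Set.range (Free.gen W (n := n))) := fun v _ => by
    obtain ⟨c, rfl⟩ := StalkFrame.comb_surjective hf le_rfl v
    rw [hid]
    exact Submodule.sum_mem _ fun i _ => Submodule.smul_mem _ _ (Submodule.subset_span ⟨i, rfl⟩)
  exact ⟨Module.Basis.mk hli hsp, fun i => Module.Basis.mk_apply _ _ _⟩

theorem isFinLocFree_free (W : Scheme.{u}) (n : ℕ) : FlatMod.IsFinLocFree (FlatMod.freeMod W n) :=
  FreeStalk.isFinLocFree_of_retract (𝟙 _) (𝟙 _) (Category.comp_id _)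

/-- Let X be a locally Noetherian scheme all of whose local rings are Cohen–Macaulay, i : Y → X a closed
immersion and c a natural number such that Y is a local complete intersection of codimension c in
the following sense: around every point of Y there is an affine open of X on which c sections
generate the ideal sheaf of Y, and for every point y of Y the ideal of Y in the local ring O_{X,y}
(the kernel of O_{X,y} → O_{Y,y}) has height at least c. Then around every point of Y there is an
affine open U of X and sections f_1, …, f_c ∈ Γ(X, U) which generate the ideal of Y on U and form a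
weakly regular sequence in Γ(X, U); consequently, on the open subscheme U, for every cosection s :
O_U^c → O_U sending the k-th standard basis section to f_k and every Koszul complex K(O_U^c, s) of
s, the homology sheaves of K(O_U^c, s) vanish in every degree q ≥ 1, so that K(O_U^c, s) is a finite
free resolution of the restriction of i_*O_Y to U. (The published statement takes Y a local complete
intersection in a smooth variety X over a field, the ideal being generated near each closed point by
codim(Y, X) elements, and asserts the existence of such a neighbourhood with a free Koszul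
resolution; the hypotheses here are what that gives at every point of Y over a Cohen–Macaulay base,
the existence of the Koszul complex is not asserted, and the resolution property is stated for every
Koszul complex of the local free pair.) -/
theorem result {X Y : Scheme.{u}}
    [IsLocallyNoetherian X] (hCM : ∀ x : X, LocCoh.IsCohenMacaulayLocalRing (X.presheaf.stalk x))
    (i : Y ⟶ X) [IsClosedImmersion i] (c : ℕ)
    (hgen : ∀ y : Y, ∃ U : X.affineOpens, i.base y ∈ U.1 ∧ ∃ g : Fin c → Γ(X, U.1), i.ker.ideal U = Ideal.span (Set.range g))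
    (hht : ∀ y : Y, (c : ℕ∞) ≤ (RingHom.ker (i.stalkMap y).hom).height) :
    ∀ y : Y, ∃ U : X.affineOpens, i.base y ∈ U.1 ∧ ∃ f : Fin c → Γ(X, U.1),
      i.ker.ideal U = Ideal.span (Set.range f) ∧ RingTheory.Sequence.IsWeaklyRegular Γ(X, U.1) (List.ofFn f) ∧
      ∀ (s : FlatMod.freeMod (↑U.1) c ⟶ Coh.structureModule (↑U.1)),
        (∀ k : Fin c, KoszSh.secForm s ⊤ ((Limits.Sigma.ι (fun _ : Fin c => Coh.structureModule (↑U.1)) k).app ⊤
            (OmegaSh.strSect (↑U.1) ⊤ 1)) = U.1.topIso.inv (f k)) →
        ∀ (C : KoszSh.Cx (FlatMod.freeMod (↑U.1) c) s) (q : ℕ), 1 ≤ q → Limits.IsZero (C.K.homology q) := by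
  intro y
  obtain ⟨U, hyU, g, hg⟩ := hgen y
  let R := X.presheaf.stalk (i.base y)
  haveI : LocCoh.IsCohenMacaulayLocalRing R := hCM _
  let a : Fin c → R := fun k => X.presheaf.germ U.1 (i.base y) hyU (g k)
  have hker : RingHom.ker (i.stalkMap y).hom = Ideal.span (Set.range a) := by
    rw [Groth.Agent.H26.RegImmLocal.ker_stalkMap i U y hyU, hg, Ideal.map_span, ← Set.range_comp]
    rfl
  have hregR : IsWeaklyRegular R (List.ofFn a) := Lib.KoszulSh.Spread.isWeaklyRegular_of_height a
    (hker ▸ RingHom.ker_ne_top _) (hker ▸ hht y)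
  let p := (U.2.primeIdealOf ⟨i.base y, hyU⟩).asIdeal
  letI := TopCat.Presheaf.algebra_section_stalk X.presheaf (⟨i.base y, hyU⟩ : U.1)
  haveI : IsLocalization.AtPrime R p := U.2.isLocalization_stalk ⟨i.base y, hyU⟩
  let e : Localization.AtPrime p ≃ₐ[Γ(X, U.1)] R := IsLocalization.algEquiv p.primeCompl _ _
  have hregp : IsWeaklyRegular (Localization.AtPrime p)
      ((List.ofFn g).map (algebraMap Γ(X, U.1) (Localization.AtPrime p))) := by
    refine (AddEquiv.isWeaklyRegular_congr (e := e.toAddEquiv) (bs := List.ofFn a) ?_).2 hregR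
    rw [List.map_ofFn, List.forall₂_iff_get]
    refine ⟨by simp, fun k h₁ h₂ x => ?_⟩
    simp only [List.get_ofFn]
    show e (algebraMap _ _ (g _) * x) = a _ * e x
    rw [map_mul, e.commutes]
    rfl
  haveI : IsNoetherianRing Γ(X, U.1) := IsLocallyNoetherian.component_noetherian U
  obtain ⟨t, ht, htreg⟩ := Lib.KoszulSh.Spread.exists_away p (List.ofFn g) hregp
  let V : X.affineOpens := X.affineBasicOpen t
  have hyV : i.base y ∈ V.1 := by
    show i.base y ∈ X.basicOpen t
    rw [X.mem_basicOpen t _ hyU]
    exact IsLocalization.map_units R (⟨t, ht⟩ : p.primeCompl)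
  let f : Fin c → Γ(X, V.1) := fun k => X.presheaf.map (homOfLE (X.basicOpen_le t)).op (g k)
  letI : Algebra Γ(X, U.1) Γ(X, V.1) := (X.presheaf.map (homOfLE (X.basicOpen_le t)).op).hom.toAlgebra
  haveI : IsLocalization.Away t Γ(X, V.1) := U.2.isLocalization_basicOpen t
  have hfreg : IsWeaklyRegular Γ(X, V.1) (List.ofFn f) := by
    have := htreg Γ(X, V.1)
    rwa [List.map_ofFn] at this
  refine ⟨V, hyV, f, ?_, hfreg, fun s hs C q hq => ?_⟩
  · show i.ker.ideal (X.affineBasicOpen t) = _
    rw [← i.ker.map_ideal_basicOpen U t, hg, Ideal.map_span, ← Set.range_comp]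
    rfl
  obtain ⟨q, rfl⟩ := Nat.exists_eq_add_of_le' hq
  haveI : (FlatMod.freeMod (↑V.1) c).IsQuasicoherent :=
    AffineSections.isQCoh_of_isFinLocFree (isFinLocFree_free _ c)
  haveI : IsAffine V.1.toScheme := V.2
  obtain ⟨b, hb⟩ := exists_free_basis (↑V.1) c
  refine Lib.KoszulSh.Sections.isZero_homology C c (fun z => ⟨⟨⊤, isAffineOpen_top _⟩, trivial, b, ?_⟩) q
  have hval : ∀ k, KoszSh.secForm s ⊤ (b k) = V.1.topIso.inv (f k) := fun k => by
    rw [hb]; exact hs k
  simp only [hval]
  refine (AddEquiv.isWeaklyRegular_congr (e := V.1.topIso.commRingCatIsoToRingEquiv.symm.toAddEquiv)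
    (bs := List.ofFn fun k => V.1.topIso.inv (f k)) ?_).1 hfreg
  rw [List.forall₂_iff_get]
  refine ⟨by simp, fun k h₁ h₂ x => ?_⟩
  simp only [List.get_ofFn]
  exact map_mul V.1.topIso.inv.hom _ x

end Groth.Agent.S15902
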