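import Groth.Statements.S15905
import Groth.Agent.H90.DPOrbits

open W4c3severiratdp Groth.Agent.H90.DPLattice Groth.Agent.H90.DPOrbits

set_option autoImplicit false
open Surf

namespace Groth.Agent.S15905

open W4c3severiratdp in
/-- Work in the lattice of vectors (a; b_1, …, b_δ), standing for divisor classes a ℓ − Σ b_i e_i on the
blow-up of the projective plane at δ points written in a standard basis, with intersection form a a'
− Σ b_i b_i' and canonical class K = (−3; −1, …, −1); a conic class is a class Q with Q·Q = 0 and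
K·Q = −2. Then the number of conic classes is 2160 for δ = 8, 126 for δ = 7, 27 for δ = 6, 10 for δ
= 5, 5 for δ = 4, 3 for δ = 3 and 2 for δ = 2. -/
theorem result :
    {v : DP 8 | IsConic v}.ncard = 2160 ∧ {v : DP 7 | IsConic v}.ncard = 126 ∧
      {v : DP 6 | IsConic v}.ncard = 27 ∧ {v : DP 5 | IsConic v}.ncard = 10 ∧
      {v : DP 4 | IsConic v}.ncard = 5 ∧ {v : DP 3 | IsConic v}.ncard = 3 ∧
      {v : DP 2 | IsConic v}.ncard = 2 := by
  have key : ∀ (δ n : ℕ), δ ≤ 8 → (conicList δ).length = n → {v : DP δ | IsConic v}.ncard = n := by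
    intro δ n hδ hn
    rw [← Set.ncard_image_of_injective _ (toL_injective (δ := δ))]
    have : toL '' {v : DP δ | IsConic v} = ((conicList δ).toFinset : Set (List ℤ)) := by
      ext l
      simp only [Set.mem_image, Set.mem_ofPred_eq, List.coe_toFinset]
      constructor
      · rintro ⟨v, hv, rfl⟩
        exact conic_mem hδ hv
      · intro h
        obtain ⟨v, h₁, h₂, rfl⟩ := exists_of_mem_classes h
        exact ⟨v, ⟨h₁, h₂⟩, rfl⟩
    rw [this, Set.ncard_coe_finset, conicList,
      List.toFinset_card_of_nodup (nodup_classes (by decide) (by decide) _ _ _)]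
    exact hn
  refine ⟨?_, ?_, ?_, ?_, ?_, ?_, ?_⟩ <;> refine key _ _ (by norm_num) ?_ <;> decide +kernel

end Groth.Agent.S15905
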