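import Groth.Statements.S15906
import Groth.Agent.H90.DPLattice
import Mathlib.Data.Fin.Tuple.Sort

open W4c3severiratdp Groth.Agent.H90.DPLattice

set_option autoImplicit false
open Surf

namespace Groth.Agent.S15906

open W4c3severiratdp in
/-- Work in the lattice of vectors (a; b_1, …, b_δ), standing for divisor classes a ℓ − Σ b_i e_i on the
blow-up of the projective plane at δ points written in a standard basis, with intersection form a a'
− Σ b_i b_i' and canonical class K = (−3; −1, …, −1); a conic class is a class Q with Q·Q = 0 and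
K·Q = −2, an exceptional class (the class of a (−1)-curve) is a class E with E·E = −1 and K·E = −1,
and the Weyl group W_δ is the group of additive automorphisms of the lattice preserving the form and
fixing K. For δ = 8, a class (a; b_1, …, b_8) is a conic class if and only if, up to a permutation
of b_1, …, b_8, it is one of the fifteen vectors (1; 1, 0, 0, 0, 0, 0, 0, 0), (2; 1, 1, 1, 1, 0, 0,
0, 0), (3; 2, 1, 1, 1, 1, 1, 0, 0), (4; 2, 2, 2, 1, 1, 1, 1, 0), (4; 3, 1, 1, 1, 1, 1, 1, 1), (5; 2,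
2, 2, 2, 2, 2, 1, 0), (5; 3, 2, 2, 2, 1, 1, 1, 1), (6; 3, 3, 2, 2, 2, 2, 1, 1), (7; 3, 3, 3, 3, 2,
2, 2, 1), (7; 4, 3, 2, 2, 2, 2, 2, 2), (8; 4, 3, 3, 3, 3, 2, 2, 2), (8; 3, 3, 3, 3, 3, 3, 3, 1), (9;
4, 4, 3, 3, 3, 3, 3, 2), (10; 4, 4, 4, 4, 3, 3, 3, 3), (11; 4, 4, 4, 4, 4, 4, 4, 3). (One line of
the published table is illegible in the available copy; the fifteen vectors here are the complete
solution set of the two defining equations a² = Σ b_i², 3a − Σ b_i = 2.) -/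
theorem result (v : DP 8) :
    IsConic v ↔
      ∃ t ∈ ({![1, 1, 0, 0, 0, 0, 0, 0, 0],
        ![2, 1, 1, 1, 1, 0, 0, 0, 0],
        ![3, 2, 1, 1, 1, 1, 1, 0, 0],
        ![4, 2, 2, 2, 1, 1, 1, 1, 0],
        ![4, 3, 1, 1, 1, 1, 1, 1, 1],
        ![5, 2, 2, 2, 2, 2, 2, 1, 0],
        ![5, 3, 2, 2, 2, 1, 1, 1, 1],
        ![6, 3, 3, 2, 2, 2, 2, 1, 1],
        ![7, 3, 3, 3, 3, 2, 2, 2, 1],
        ![7, 4, 3, 2, 2, 2, 2, 2, 2],
        ![8, 4, 3, 3, 3, 3, 2, 2, 2],
        ![8, 3, 3, 3, 3, 3, 3, 3, 1],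
        ![9, 4, 4, 3, 3, 3, 3, 3, 2],
        ![10, 4, 4, 4, 4, 3, 3, 3, 3],
        ![11, 4, 4, 4, 4, 4, 4, 4, 3]} : Set (DP 8)),
        ∃ σ : Equiv.Perm (Fin 8), v 0 = t 0 ∧ ∀ i : Fin 8, v (σ i).succ = t i.succ := by
  let R : List (DP 8) := (List.range 7).map (sw 8)
  let L15 : List (DP 8) := [![1, 1, 0, 0, 0, 0, 0, 0, 0],
    ![2, 1, 1, 1, 1, 0, 0, 0, 0],
    ![3, 2, 1, 1, 1, 1, 1, 0, 0],
    ![4, 2, 2, 2, 1, 1, 1, 1, 0],
    ![4, 3, 1, 1, 1, 1, 1, 1, 1],
    ![5, 2, 2, 2, 2, 2, 2, 1, 0],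
    ![5, 3, 2, 2, 2, 1, 1, 1, 1],
    ![6, 3, 3, 2, 2, 2, 2, 1, 1],
    ![7, 3, 3, 3, 3, 2, 2, 2, 1],
    ![7, 4, 3, 2, 2, 2, 2, 2, 2],
    ![8, 4, 3, 3, 3, 3, 2, 2, 2],
    ![8, 3, 3, 3, 3, 3, 3, 3, 1],
    ![9, 4, 4, 3, 3, 3, 3, 3, 2],
    ![10, 4, 4, 4, 4, 3, 3, 3, 3],
    ![11, 4, 4, 4, 4, 4, 4, 4, 3]]
  have perm : ∀ (x y : DP 8) (σ : Equiv.Perm (Fin 8)), x 0 = y 0 →
      (∀ i : Fin 8, x (σ i).succ = y i.succ) →
      form x x = form y y ∧ form (canon 8) x = form (canon 8) y := by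
    intro x y σ h0 h
    refine ⟨?_, ?_⟩
    · simp only [form, h0]
      rw [← Equiv.sum_comp σ]
      simp only [h]
    · rw [form_canon, form_canon, h0, ← Equiv.sum_comp σ]
      simp only [h]
  constructor
  · intro hv
    let σ := Tuple.sort fun i : Fin 8 => -v i.succ
    let w : DP 8 := Fin.cases (v 0) fun i => v (σ i).succ
    have hw0 : w 0 = v 0 := rfl
    have hw : ∀ i : Fin 8, w i.succ = v (σ i).succ := fun i => by simp [w]
    obtain ⟨e₁, e₂⟩ := perm v w σ hw0.symm fun i => (hw i).symm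
    have hmono := Tuple.monotone_sort fun i : Fin 8 => -v i.succ
    have hd : ∀ α ∈ R, 0 ≤ form w α := by
      intro α hα
      simp only [R, List.mem_map, List.mem_range] at hα
      obtain ⟨i, hi, rfl⟩ := hα
      have hm := hmono (show (⟨i, by omega⟩ : Fin 8) ≤ ⟨i + 1, by omega⟩ by simp)
      simp only [Function.comp_apply] at hm
      have h1 := hw ⟨i, by omega⟩
      have h2 := hw ⟨i + 1, by omega⟩
      have : form w (sw 8 i) = w (Fin.succ ⟨i, by omega⟩) - w (Fin.succ ⟨i + 1, by omega⟩) := by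
        simp only [form, sw, vec, Fin.cases_zero, Fin.cases_succ, mul_zero, zero_sub]
        rw [Fintype.sum_eq_add (⟨i, by omega⟩ : Fin 8) ⟨i + 1, by omega⟩ (by simp [Fin.ext_iff])]
        · simp
          ring
        · rintro x ⟨hx, hy⟩
          simp only [ne_eq, Fin.ext_iff] at hx hy
          simp [hx, hy]
      rw [this, h1, h2]
      linarith
    have hmem : toL w ∈ dominants (conicList 8) R :=
      mem_dominants (conic_mem le_rfl ⟨e₁ ▸ hv.1, e₂ ▸ hv.2⟩) hd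
    have hL : ∀ l ∈ dominants (conicList 8) R, l ∈ L15.map toL := by decide +kernel
    have hw15 : w ∈ L15 := by
      obtain ⟨x, hx, hxe⟩ := List.mem_map.1 (hL _ hmem)
      rwa [← toL_inj.1 hxe]
    refine ⟨w, ?_, σ, hw0.symm, fun i => (hw i).symm⟩
    simp only [L15, List.mem_cons, List.not_mem_nil, or_false] at hw15
    simp only [Set.mem_insert_iff, Set.mem_singleton_iff]
    exact hw15
  · rintro ⟨t, ht, σ, h0, h⟩
    obtain ⟨e₁, e₂⟩ := perm v t σ h0 h
    have key : ∀ x ∈ L15, form x x = 0 ∧ form (canon 8) x = -2 := by decide +kernel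
    have htL : t ∈ L15 := by
      simp only [Set.mem_insert_iff, Set.mem_singleton_iff] at ht
      simp only [L15, List.mem_cons, List.not_mem_nil, or_false]
      exact ht
    exact ⟨e₁.trans (key t htL).1, e₂.trans (key t htL).2⟩

end Groth.Agent.S15906
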