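import Groth.Statements.S15908
import Groth.Agent.H90.DPOrbits

open W4c3severiratdp Groth.Agent.H90.DPLattice Groth.Agent.H90.DPOrbits

set_option autoImplicit false
open Surf

namespace Groth.Agent.S15908

open W4c3severiratdp in
/-- Work in the lattice of vectors (a; b_1, …, b_δ), standing for divisor classes a ℓ − Σ b_i e_i on the
blow-up of the projective plane at δ points written in a standard basis, with intersection form a a'
− Σ b_i b_i' and canonical class K = (−3; −1, …, −1); a conic class is a class Q with Q·Q = 0 and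
K·Q = −2, an exceptional class (the class of a (−1)-curve) is a class E with E·E = −1 and K·E = −1,
and the Weyl group W_δ is the group of additive automorphisms of the lattice preserving the form and
fixing K. For δ = 8 the ordered pairs (Q_1, Q_2) of conic classes with Q_1·Q_2 = 4 form exactly two
W_8-orbits: there are two such pairs that no element of W_8 carries one to the other, and every such
pair is carried by an element of W_8 to one of these two. -/
theorem result :
    ∃ p₁ p₂ q₁ q₂ : DP 8, IsConic p₁ ∧ IsConic p₂ ∧ IsConic q₁ ∧ IsConic q₂ ∧ form p₁ p₂ = 4 ∧ form q₁ q₂ = 4 ∧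
      (¬ ∃ g : DP 8 ≃ₗ[ℤ] DP 8, IsWeyl g ∧ g p₁ = q₁ ∧ g p₂ = q₂) ∧
      ∀ v₁ v₂ : DP 8, IsConic v₁ → IsConic v₂ → form v₁ v₂ = 4 →
        ∃ g : DP 8 ≃ₗ[ℤ] DP 8, IsWeyl g ∧ ((g v₁ = p₁ ∧ g v₂ = p₂) ∨ (g v₁ = q₁ ∧ g v₂ = q₂)) := by
  let p : DP 8 := ![5, 1, 2, 2, 2, 2, 2, 2, 0]
  let q : DP 8 := ![4, 0, 2, 2, 2, 1, 1, 1, 1]
  refine ⟨q0 8, p, q0 8, q, ⟨by decide +kernel, by decide +kernel⟩,
    ⟨by decide +kernel, by decide +kernel⟩, ⟨by decide +kernel, by decide +kernel⟩,
    ⟨by decide +kernel, by decide +kernel⟩, by decide +kernel, by decide +kernel, ?_, ?_⟩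
  · rintro ⟨g, hg, e₁, e₂⟩
    have hu : q0 8 + p = (2 : ℤ) • (![3, 1, 1, 1, 1, 1, 1, 1, 0] : DP 8) := by decide +kernel
    have h := congrArg g hu
    rw [map_add, map_smul, e₁, e₂] at h
    have h0 := congrFun h 0
    simp only [Pi.add_apply, Pi.smul_apply, smul_eq_mul] at h0
    have e : q0 8 0 + q 0 = 5 := by decide +kernel
    omega
  · intro v₁ v₂ h₁ h₂ h4
    obtain ⟨g, hg, e₁, m⟩ := exists_pair_normal (by norm_num) le_rfl h₁ h₂
    have key : ∀ l ∈ dominants (conicList 8) (stab 8),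
        dotL l (toL (q0 8)) = 4 → l = toL p ∨ l = toL q := by decide +kernel
    refine ⟨g, hg, ?_⟩
    have hl : dotL (toL (g v₂)) (toL (q0 8)) = 4 := by
      rw [← form_eq_dotL, ← e₁, hg.1, form_comm, h4]
    rcases key _ m hl with h | h
    · exact Or.inl ⟨e₁, toL_injective h⟩
    · exact Or.inr ⟨e₁, toL_injective h⟩

end Groth.Agent.S15908
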