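import Groth.Statements.S15909
import Groth.Agent.H90.DPOrbits

open W4c3severiratdp Groth.Agent.H90.DPLattice Groth.Agent.H90.DPOrbits

set_option autoImplicit false
open Surf

namespace Groth.Agent.S15909

open W4c3severiratdp in
/-- Work in the lattice of vectors (a; b_1, …, b_δ), standing for divisor classes a ℓ − Σ b_i e_i on the
blow-up of the projective plane at δ points written in a standard basis, with intersection form a a'
− Σ b_i b_i' and canonical class K = (−3; −1, …, −1); a conic class is a class Q with Q·Q = 0 and
K·Q = −2, an exceptional class (the class of a (−1)-curve) is a class E with E·E = −1 and K·E = −1,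
and the Weyl group W_δ is the group of additive automorphisms of the lattice preserving the form and
fixing K. Let δ = 8 (a del Pezzo surface of degree one) and let L be an exceptional class. If L_1
and L_2 are exceptional classes with L_1·L = L_2·L, then L_1 and L_2 lie in the same orbit of the
stabilizer of L in W_8. -/
theorem result (L L₁ L₂ : DP 8) (hL : IsExc L) (hL₁ : IsExc L₁)
    (hL₂ : IsExc L₂) (h : form L₁ L = form L₂ L) :
    ∃ g : DP 8 ≃ₗ[ℤ] DP 8, IsWeyl g ∧ g L = L ∧ g L₁ = L₂ := by
  obtain ⟨g, hg, e⟩ := exists_weyl_exc hL
  obtain ⟨k, hk, ke, k₁⟩ := exists_stab_exc_map (isExc_map hg hL₁) (isExc_map hg hL₂)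
    (by rw [← e, hg.1, hg.1, h])
  exact ⟨(g.trans k).trans g.symm, isWeyl_trans (isWeyl_trans hg hk) (isWeyl_symm hg),
    by simp [e, ke, LinearEquiv.symm_apply_eq], by simp [k₁]⟩

end Groth.Agent.S15909
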