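import Groth.Statements.S15910
import Groth.Agent.H90.DPOrbits
import Mathlib.Data.Fin.Tuple.Sort

open W4c3severiratdp Groth.Agent.H90.DPLattice Groth.Agent.H90.DPOrbits

set_option autoImplicit false
open Surf

namespace Groth.Agent.S15910

open W4c3severiratdp in
/-- Work in the lattice of vectors (a; b_1, …, b_δ), standing for divisor classes a ℓ − Σ b_i e_i on the
blow-up of the projective plane at δ points written in a standard basis, with intersection form a a'
− Σ b_i b_i' and canonical class K = (−3; −1, …, −1); a conic class is a class Q with Q·Q = 0 and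
K·Q = −2, an exceptional class (the class of a (−1)-curve) is a class E with E·E = −1 and K·E = −1,
and the Weyl group W_δ is the group of additive automorphisms of the lattice preserving the form and
fixing K. Let δ = 8 and let L be an exceptional class. Let B be the set of unordered triples {λ_1,
λ_2, λ_3} of exceptional classes (repetitions allowed) with λ_1 + λ_2 + λ_3 = −2K + L. Then the
stabilizer of L in W_8 has exactly four orbits on B. Triples are written as maps Fin 3 → lattice and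
compared up to reordering: there are four members of B, no two of which are identified by an element
of the stabilizer followed by a reordering, and every member of B is so identified with one of the
four. -/
theorem result (L : DP 8) (hL : IsExc L) :
    ∃ r : Fin 4 → (Fin 3 → DP 8),
      (∀ j, (∀ i, IsExc (r j i)) ∧ r j 0 + r j 1 + r j 2 = L - 2 • canon 8) ∧
      (∀ j j', (∃ g : DP 8 ≃ₗ[ℤ] DP 8, IsWeyl g ∧ g L = L ∧ ∃ σ : Equiv.Perm (Fin 3), ∀ i, g (r j (σ i)) = r j' i) → j = j') ∧
      ∀ t : Fin 3 → DP 8, (∀ i, IsExc (t i)) → t 0 + t 1 + t 2 = L - 2 • canon 8 →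
        ∃ j, ∃ g : DP 8 ≃ₗ[ℤ] DP 8, IsWeyl g ∧ g L = L ∧ ∃ σ : Equiv.Perm (Fin 3), ∀ i, g (t (σ i)) = r j i := by
  let e : DP 8 := ex 7
  let C : DP 8 := e - 2 • canon 8
  obtain ⟨g₀, hg₀, he₀⟩ := exists_weyl_exc hL
  have hC0 : g₀ (L - 2 • canon 8) = C := by
    rw [map_sub, map_nsmul, he₀, hg₀.2]
  -- the four representatives for `L = e_8`
  let R : Fin 4 → Fin 3 → DP 8 := ![
    ![e, e, ![6, 2, 2, 2, 2, 2, 2, 2, 3]],
    ![e, ![0, 0, 0, 0, 0, 0, 0, -1, 0], C - e - ![0, 0, 0, 0, 0, 0, 0, -1, 0]],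
    ![e, ![1, 1, 0, 0, 0, 0, 0, 0, 1], C - e - ![1, 1, 0, 0, 0, 0, 0, 0, 1]],
    ![ex 6, ![1, 0, 0, 0, 0, 0, 0, 1, 0] + ![0, 1, 0, 0, 0, 0, 0, 0, 0],
      C - ex 6 - (![1, 0, 0, 0, 0, 0, 0, 1, 0] + ![0, 1, 0, 0, 0, 0, 0, 0, 0])]]
  have hR : ∀ j, (∀ i, form (R j i) (R j i) = -1 ∧ form (canon 8) (R j i) = -1) ∧
      R j 0 + R j 1 + R j 2 = C := by decide +kernel
  refine ⟨fun j i => g₀.symm (R j i), fun j => ⟨fun i => isExc_map (isWeyl_symm hg₀) ((hR j).1 i),
    ?_⟩, ?_, ?_⟩
  · rw [← map_add, ← map_add, (hR j).2, LinearEquiv.symm_apply_eq, hC0]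
  · rintro j j' ⟨g, hg, hgL, σ, hσ⟩
    have key : ∀ j j' : Fin 4, ∑ i, form (R j i) e ^ 2 = ∑ i, form (R j' i) e ^ 2 → j = j' := by
      decide +kernel
    refine key j j' ?_
    rw [← Equiv.sum_comp σ]
    refine Finset.sum_congr rfl fun i _ => ?_
    have h1 : R j' i = g₀ (g (g₀.symm (R j (σ i)))) := by rw [hσ i, LinearEquiv.apply_symm_apply]
    have h2 : e = g₀ (g (g₀.symm e)) := by
      have hL' : g₀.symm e = L := by rw [LinearEquiv.symm_apply_eq]; exact he₀.symm
      rw [hL', hgL]; exact he₀.symm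
    rw [h1]
    conv_rhs => rw [h2]
    rw [hg₀.1, hg.1, (isWeyl_symm hg₀).1]
  intro t ht hsum
  -- every triple for `e_8`
  suffices H : ∀ s : Fin 3 → DP 8, (∀ i, IsExc (s i)) → s 0 + s 1 + s 2 = C →
      form (s 0) e ≤ form (s 1) e → form (s 1) e ≤ form (s 2) e →
      ∃ j, ∃ k : DP 8 ≃ₗ[ℤ] DP 8, IsWeyl k ∧ k e = e ∧ ∀ i, k (s i) = R j i by
    let σ := Tuple.sort fun i => form (g₀ (t i)) e
    have hm := Tuple.monotone_sort fun i => form (g₀ (t i)) e
    have hs : g₀ (t (σ 0)) + g₀ (t (σ 1)) + g₀ (t (σ 2)) = C := by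
      have h := Equiv.sum_comp σ fun i => g₀ (t i)
      simp only [Fin.sum_univ_three] at h
      rw [h, ← map_add, ← map_add, hsum, hC0]
    obtain ⟨j, k, hk, ke, hki⟩ := H (fun i => g₀ (t (σ i))) (fun i => isExc_map hg₀ (ht _)) hs
      (hm (show (0 : Fin 3) ≤ 1 by decide)) (hm (show (1 : Fin 3) ≤ 2 by decide))
    refine ⟨j, (g₀.trans k).trans g₀.symm, isWeyl_trans (isWeyl_trans hg₀ hk) (isWeyl_symm hg₀),
      ?_, σ, fun i => ?_⟩
    · simp only [LinearEquiv.trans_apply, he₀]
      rw [LinearEquiv.symm_apply_eq]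
      exact ke.trans he₀.symm
    · simp [hki i]
  intro s hs hsC o₁ o₂
  have hrange : ∀ v : DP 8, IsExc v → -1 ≤ form v e ∧ form v e ≤ 3 ∧
      (form v e = -1 → v = e) ∧ (form v e = 3 → v = ![6, 2, 2, 2, 2, 2, 2, 2, 3]) := by
    intro v hv
    have h : ∀ l ∈ excList 8, -1 ≤ dotL l (toL e) ∧ dotL l (toL e) ≤ 3 ∧
        (dotL l (toL e) = -1 → l = toL e) ∧
        (dotL l (toL e) = 3 → l = toL (![6, 2, 2, 2, 2, 2, 2, 2, 3] : DP 8)) := by decide +kernel
    simpa only [← form_eq_dotL, toL_inj] using h _ (exc_mem le_rfl hv)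
  obtain ⟨a₁, a₂, a₃, a₄⟩ := hrange _ (hs 0)
  obtain ⟨b₁, b₂, b₃, b₄⟩ := hrange _ (hs 1)
  obtain ⟨c₁, c₂, c₃, c₄⟩ := hrange _ (hs 2)
  have hCe : form C e = 1 := by decide +kernel
  have hsum1 : form (s 0) e + form (s 1) e + form (s 2) e = 1 := by
    rw [← form_add_left, ← form_add_left, hsC, hCe]
  have third : ∀ (k : DP 8 ≃ₗ[ℤ] DP 8), IsWeyl k → k e = e →
      k (s 2) = C - k (s 0) - k (s 1) := by
    intro k hk ke
    have : k C = C := by rw [map_sub, map_nsmul, ke, hk.2]
    conv_rhs => rw [← this, ← hsC]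
    simp only [map_add]; abel
  by_cases h : form (s 0) e = -1
  · have e₀ := a₃ h
    by_cases h' : form (s 1) e = -1
    · refine ⟨0, LinearEquiv.refl ℤ _, isWeyl_one, rfl, fun i => ?_⟩
      fin_cases i
      · simpa [R] using e₀
      · simpa [R] using b₃ h'
      · simpa [R] using c₄ (by omega)
    · have hR1 : ∀ x : DP 8, IsExc x → form (s 1) e = form x e → ∀ j : Fin 4,
          R j 0 = e → R j 1 = x → R j 2 = C - e - x →
          ∃ j, ∃ k : DP 8 ≃ₗ[ℤ] DP 8, IsWeyl k ∧ k e = e ∧ ∀ i, k (s i) = R j i := by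
        intro x hx hxe j r₀ r₁ r₂
        obtain ⟨k, hk, ke, k₁⟩ := exists_stab_exc_map (hs 1) hx hxe
        refine ⟨j, k, hk, ke, fun i => ?_⟩
        have k₀ : k (s 0) = e := by rw [e₀]; exact ke
        fin_cases i
        · exact k₀.trans r₀.symm
        · exact k₁.trans r₁.symm
        · exact ((third k hk ke).trans (by rw [k₀, k₁])).trans r₂.symm
      rcases (show form (s 1) e = 0 ∨ form (s 1) e = 1 by omega) with h1 | h1
      · exact hR1 ![0, 0, 0, 0, 0, 0, 0, -1, 0] ⟨by decide +kernel, by decide +kernel⟩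
          (h1.trans (by decide +kernel)) 1 rfl rfl rfl
      · exact hR1 ![1, 1, 0, 0, 0, 0, 0, 0, 1] ⟨by decide +kernel, by decide +kernel⟩
          (h1.trans (by decide +kernel)) 2 rfl rfl rfl
  · have h0 : form (s 0) e = 0 := by omega
    have h1 : form (s 1) e = 0 := by omega
    -- the two classes meet once
    have hx : form (s 0) (s 1) = 1 := by
      have h2 : s 2 = C + (-1 : ℤ) • s 0 + (-1 : ℤ) • s 1 := by rw [← hsC]; simp; abel
      have hq := (hs 2).1
      rw [h2] at hq
      simp only [form_add_left, form_add_right, form_smul_left, form_smul_right] at hq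
      have hC : ∀ i, form (s i) C = form (s i) e + 2 := by
        intro i
        have hc : form (canon 8) (s i) = -1 := (hs i).2
        have h' : C = e + (-2 : ℤ) • canon 8 := by decide +kernel
        rw [h', form_add_right, form_smul_right, form_comm (s i) (canon 8), hc]; ring
      have hCC : form C C = 7 := by decide +kernel
      rw [form_comm C (s 0), form_comm C (s 1), form_comm (s 1) (s 0), hC 0, hC 1, (hs 0).1,
        (hs 1).1, h0, h1, hCC] at hq
      linarith
    obtain ⟨k, hk, ke, k₀⟩ := exists_stab_exc_map (hs 0)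
      (w := ex 6) ⟨by decide +kernel, by decide +kernel⟩ (h0.trans (by decide +kernel))
    obtain ⟨k', hk', ke', ke6, hm⟩ := exists_stab_exc_two (isExc_map hk (hs 1))
    have key : ∀ l ∈ dominants (excList 8) (eroots 5), dotL l (toL e) = 0 →
        dotL l (toL (ex 6)) = 1 → l = toL (R 3 1) := by decide +kernel
    have e1 : k' (k (s 1)) = R 3 1 := by
      refine toL_injective (key _ hm ?_ ?_)
      · rw [← form_eq_dotL, form_weyl_eq hk' ke', form_weyl_eq hk ke, h1]
      · rw [← form_eq_dotL, form_weyl_eq hk' ke6, ← k₀, hk.1, form_comm, hx]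
    have eW := isWeyl_trans hk hk'
    have eE : (k.trans k') e = e := by rw [LinearEquiv.trans_apply, ke]; exact ke'
    have e0 : (k.trans k') (s 0) = R 3 0 := by rw [LinearEquiv.trans_apply, k₀, ke6]; rfl
    refine ⟨3, k.trans k', eW, eE, fun i => ?_⟩
    fin_cases i
    · exact e0
    · exact e1
    · exact (third _ eW eE).trans (by rw [e0, show (k.trans k') (s 1) = R 3 1 from e1]; rfl)

end Groth.Agent.S15910
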