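import Groth.Statements.S15916
import Groth.Agent.Lib.SurfInt.NefInt
import Groth.Agent.Lib.Curves.GlobalSections

set_option autoImplicit false
universe u
open CategoryTheory CategoryTheory.Limits AlgebraicGeometry TopologicalSpace
open Surf

namespace Groth.Agent.S15916

/-- Let k be an algebraically closed field of characteristic zero and X a smooth projective surface over
k (integral, proper and smooth over k of dimension 2, with a closed immersion over k into some
projective space); intersection numbers of invertible modules are (L·M) = χ(O_X) − χ(L) − χ(M) + χ(L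
⊗ M), and for an integral closed one-dimensional subscheme C ⊆ X write (L·C) = χ(O_C ⊗ L) − χ(O_C);
an invertible module is nef when (L·C) ≥ 0 for all such C. Let D be an invertible module generated
by its global sections, nef, with (D·D) > 0, and let N be a nef invertible module with (D·N) = 0.
Then N is numerically trivial: (N·C) = 0 for every integral curve C ⊆ X. (The published statement
concludes that N is zero in Pic X; on the product of an elliptic curve with the projective line, the
pull-back N of a non-trivial degree-zero class of the elliptic curve is nef, orthogonal to an ample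
base-point-free D, and non-zero, while the printed proof establishes numerical triviality, which is
what this row states.) -/
theorem result (k : Type u) [Field k] [IsAlgClosed k]
    [CharZero k] (X : Scheme.{u}) [X.Over (Spec (CommRingCat.of k))] [IsIntegral X] [IsProper (X ↘ (Spec (CommRingCat.of k)))] [Smooth (X ↘ (Spec (CommRingCat.of k)))]
    (hdim : topologicalKrullDim X = 2)
    (hproj : ∃ (n : ℕ) (ι : X ⟶ CohB1.ProjSpace n k), IsClosedImmersion ι ∧ ι ≫ CohB1.ProjSpace.toSpec n k = (X ↘ (Spec (CommRingCat.of k))))
    (D N : X.Modules) (hDi : PicF.IsInvertible D) (hNi : PicF.IsInvertible N)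
    (hDgg : Curv2.IsGloballyGenerated D)
    (hDnef : ∀ C : X.IdealSheafData, IsIntegral C.subscheme → topologicalKrullDim (C.support : Set X) = 1 → 0 ≤ (Curv2.euler k X (CohB1.tensorMod (ClSub.quotMod C) D) - Curv2.euler k X (ClSub.quotMod C)))
    (hD2 : 0 < FGA.intNum k X 2 ![D, D] (Coh.structureModule X))
    (hNnef : ∀ C : X.IdealSheafData, IsIntegral C.subscheme → topologicalKrullDim (C.support : Set X) = 1 → 0 ≤ (Curv2.euler k X (CohB1.tensorMod (ClSub.quotMod C) N) - Curv2.euler k X (ClSub.quotMod C)))
    (hDN : FGA.intNum k X 2 ![D, N] (Coh.structureModule X) = 0) :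
    ∀ C : X.IdealSheafData, IsIntegral C.subscheme → topologicalKrullDim (C.support : Set X) = 1 → (Curv2.euler k X (CohB1.tensorMod (ClSub.quotMod C) N) - Curv2.euler k X (ClSub.quotMod C)) = 0 := by
  haveI : IsNoetherian X := Groth.Agent.Lib.Curves.GlobalSections.isNoetherian_of_proper k X
  obtain ⟨n, ι, hι, -⟩ := hproj
  haveI := hι
  have hH := Groth.Agent.Lib.SurfInt.ProjSurf.isAmple ι
  have hfin := Groth.Agent.Lib.Snapper.Finite.cohFinite k X
  intro C hC hCd
  haveI := hC
  have hreg := Groth.Agent.Lib.SurfInt.NegDef.regular_of_smooth (k := k) (X := X)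
  have key : ∀ (C : X.IdealSheafData), IsIntegral C.subscheme →
      topologicalKrullDim (C.support : Set X) = 1 → PicF.IsInvertible (ClSub.idealMod C) ∧
      Curv2.euler k X (CohB1.tensorMod (ClSub.quotMod C) N) - Curv2.euler k X (ClSub.quotMod C) =
        - FGA.intNum k X 2 ![ClSub.idealMod C, N] (Coh.structureModule X) := fun C hC hCd => by
    haveI := hC
    have hI := Groth.Agent.Lib.SurfInt.Effective.isInvertible_idealMod
      (Groth.Agent.Lib.SurfInt.NegDef.isEff hfin hdim hreg C hCd)
    refine ⟨hI, ?_⟩
    rw [Groth.Agent.Lib.Curves.Euler.euler_eq_of_iso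
        (Groth.Agent.Lib.TensorMod.Basic.comm (ClSub.quotMod C) N),
      Groth.Agent.Lib.SurfInt.Effective.intNum_ideal hfin hdim.le hI hNi,
      Groth.Agent.Lib.Snapper.Chi.euler_eq_eulerCharLE (d := 2) hdim.le,
      Groth.Agent.Lib.Snapper.Chi.euler_eq_eulerCharLE (d := 2) hdim.le]
    ring
  obtain ⟨hI, he⟩ := key C hC hCd
  rw [he, neg_eq_zero]
  exact Groth.Agent.Lib.SurfInt.NefInt.eq_zero_of_orth (k := k) hdim hDi hNi hH
    (fun C' hC' hC'd => by
      have := hNnef C' hC' hC'd
      rw [(key C' hC' hC'd).2] at this
      linarith) hD2 hDN hI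

end Groth.Agent.S15916
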