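import Groth.Statements.S4905
import Mathlib.LinearAlgebra.TensorProduct.Basis
import Mathlib.AlgebraicGeometry.Morphisms.UniversallyOpen
import Mathlib.AlgebraicGeometry.IdealSheaf.Functorial
import Mathlib.AlgebraicGeometry.Morphisms.ClosedImmersion

set_option autoImplicit false
universe u
open CategoryTheory AlgebraicGeometry
open EGA43

namespace Groth.Agent.S4905

section Aux

open CategoryTheory.Limits TopologicalSpace

open scoped TensorProduct in
/-- If `A` embeds in a product of `B j`, a nilpotent of `A ⊗ K` with reduced `B j ⊗ K` is zero. -/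
theorem isReduced_tensor_aux {k : Type u} [Field k] (K : Type u) [Field K] [Algebra k K]
    {A : Type u} [CommRing A] [Algebra k A] {J : Type*} (B : J → Type u) [∀ j, CommRing (B j)]
    [∀ j, Algebra k (B j)] (ψ : ∀ j, A →ₐ[k] B j)
    (hinj : ∀ a : A, (∀ j, ψ j a = 0) → a = 0)
    (hB : ∀ j, _root_.IsReduced (B j ⊗[k] K)) : _root_.IsReduced (A ⊗[k] K) := by
  classical
  refine ⟨fun x hx => ?_⟩
  let b := Module.Free.chooseBasis k K
  apply (TensorProduct.equivFinsuppOfBasisRight b).injective
  rw [map_zero]
  ext i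
  apply hinj
  intro j
  have h0 : Algebra.TensorProduct.map (ψ j) (AlgHom.id k K) x = 0 :=
    (hB j).eq_zero _ (hx.map _)
  have key : ∀ y : A ⊗[k] K, TensorProduct.equivFinsuppOfBasisRight b
      (Algebra.TensorProduct.map (ψ j) (AlgHom.id k K) y) i =
        ψ j (TensorProduct.equivFinsuppOfBasisRight b y i) := by
    intro y
    induction y using TensorProduct.induction_on with
    | zero => simp
    | tmul a c =>
      rw [Algebra.TensorProduct.map_tmul, TensorProduct.equivFinsuppOfBasisRight_apply_tmul_apply,
        TensorProduct.equivFinsuppOfBasisRight_apply_tmul_apply, map_smul]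
      rfl
    | add y z hy hz => simp only [map_add, Finsupp.add_apply, hy, hz]
  rw [← key, h0, map_zero, Finsupp.zero_apply]

theorem eq_zero_of_forall_notMem {Y : Scheme.{u}} [IsReduced Y] {U : Y.Opens} (a : Γ(Y, U))
    (h : ∀ z : Y, z ∉ Y.basicOpen a) : a = 0 :=
  (basicOpen_eq_bot_iff a).1 (Opens.ext (Set.eq_empty_iff_forall_notMem.2 h))

theorem vanishingIdeal_support_of_isReduced {Y : Scheme.{u}} (I : Y.IdealSheafData)
    [IsReduced I.subscheme] : Scheme.IdealSheafData.vanishingIdeal I.support = I := by
  rw [Scheme.IdealSheafData.vanishingIdeal_support]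
  refine le_antisymm (fun U a ha => ?_) I.le_radical
  rw [← Scheme.IdealSheafData.ker_subschemeι_app, RingHom.mem_ker]
  obtain ⟨n, hn⟩ := ha
  rw [← Scheme.IdealSheafData.ker_subschemeι_app, RingHom.mem_ker, map_pow] at hn
  exact IsReduced.eq_zero _ ⟨n, hn⟩

theorem isReduced_pullback_comp {W Z S T : Scheme.{u}} (a : W ⟶ Z) [IsOpenImmersion a]
    (c : Z ⟶ S) (q : T ⟶ S) (b : W ⟶ S) (e : b = a ≫ c) [IsReduced (pullback c q)] :
    IsReduced (pullback b q) := by
  subst e
  haveI h1 : IsReduced (pullback a (pullback.fst c q)) :=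
    isReduced_of_isOpenImmersion (pullback.snd a (pullback.fst c q))
  exact isReduced_of_isOpenImmersion (pullbackRightPullbackFstIso c q a).inv

/-- A reduced `k`-scheme with a dense family of geometrically reduced schemes over it is
geometrically reduced. -/
theorem isReduced_pullback_of_dense {k : Type u} [Field k] {Y : Scheme.{u}} [IsReduced Y]
    (g : Y ⟶ Spec (CommRingCat.of k)) {ι : Type u} (Z : ι → Scheme.{u}) (h : ∀ i, Z i ⟶ Y)
    (hd : Dense (⋃ i, Set.range (h i)))
    (K : Type u) [Field K] [Algebra k K]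
    (hred : ∀ i, IsReduced (pullback (h i ≫ g) (Spec.map (CommRingCat.ofHom (algebraMap k K))))) :
    IsReduced (pullback g (Spec.map (CommRingCat.ofHom (algebraMap k K)))) := by
  set q := Spec.map (CommRingCat.ofHom (algebraMap k K)) with hq
  suffices ∀ V : Y.affineOpens, IsReduced (pullback (V.2.fromSpec ≫ g) q) by
    haveI : ∀ x : ↥(pullback g q), _root_.IsReduced ((pullback g q).presheaf.stalk x) := by
      intro x
      obtain ⟨V, hV, hxV, -⟩ := exists_isAffineOpen_mem_and_subset (x := pullback.fst g q x)
        (U := ⊤) trivial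
      haveI := this ⟨V, hV⟩
      have hx' : pullback.fst g q x ∈ Set.range hV.fromSpec := by
        rw [hV.range_fromSpec]; exact hxV
      obtain ⟨v, hv⟩ := hx'
      obtain ⟨w, hw₁, hw₂⟩ := Scheme.Pullback.exists_preimage_pullback (f := hV.fromSpec)
        (g := pullback.fst g q) v x hv
      let r : pullback (hV.fromSpec ≫ g) q ⟶ pullback g q :=
        pullback.map _ _ _ _ hV.fromSpec (𝟙 _) (𝟙 _) (by simp) (by simp)
      let w' := (pullbackRightPullbackFstIso g q hV.fromSpec).hom w
      have er : (pullbackRightPullbackFstIso g q hV.fromSpec).hom ≫ r =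
          pullback.snd hV.fromSpec (pullback.fst g q) := by
        apply pullback.hom_ext
        · rw [Category.assoc]; erw [pullback.lift_fst]
          rw [pullbackRightPullbackFstIso_hom_fst_assoc]; exact pullback.condition
        · rw [Category.assoc]; erw [pullback.lift_snd]
          rw [Category.comp_id]; exact pullbackRightPullbackFstIso_hom_snd _ _ _
      have hr : r w' = x := by
        rw [← hw₂, ← er]
        exact (Scheme.Hom.comp_apply _ _ w).symm
      rw [← hr]
      haveI : IsOpenImmersion r := inferInstance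
      exact isReduced_of_injective (r.stalkMap w').hom
        (ConcreteCategory.bijective_of_isIso (r.stalkMap w')).1
    exact isReduced_of_isReduced_stalk _
  intro V
  let σ : k →+* Γ(Y, V.1) := (Spec.preimage (V.2.fromSpec ≫ g)).hom
  have hσ : Spec.map (CommRingCat.ofHom σ) = V.2.fromSpec ≫ g := Spec.map_preimage _
  letI : Algebra k Γ(Y, V.1) := σ.toAlgebra
  let J := Σ i : ι, {W : (Z i).affineOpens // W.1 ≤ h i ⁻¹ᵁ V.1}
  let B : J → Type u := fun j => Γ(Z j.1, j.2.1.1)
  let φ : ∀ j : J, Γ(Y, V.1) →+* Γ(Z j.1, j.2.1.1) := fun j => ((h j.1).appLE V.1 j.2.1.1 j.2.2).hom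
  letI instB : ∀ j, Algebra k (B j) := fun j => ((φ j).comp σ).toAlgebra
  have hB : ∀ j, _root_.IsReduced (TensorProduct k (B j) K) := by
    rintro ⟨i, W, hW⟩
    haveI := hred i
    have e : Spec.map (CommRingCat.ofHom (algebraMap k (B ⟨i, W, hW⟩))) =
        W.2.fromSpec ≫ h i ≫ g := by
      show Spec.map (CommRingCat.ofHom σ ≫ (h i).appLE V.1 W.1 hW) = _
      rw [Spec.map_comp, hσ, ← Category.assoc, ← Category.assoc]
      exact congrArg (· ≫ g) (IsAffineOpen.SpecMap_appLE_fromSpec (h i) V.2 W.2 hW)
    haveI : IsReduced (pullback (Spec.map (CommRingCat.ofHom (algebraMap k (B ⟨i, W, hW⟩)))) q) :=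
      haveI : IsOpenImmersion W.2.fromSpec := IsAffineOpen.isOpenImmersion_fromSpec W.2
      isReduced_pullback_comp W.2.fromSpec (h i ≫ g) q _ e
    haveI : IsReduced (Spec (CommRingCat.of (TensorProduct k (B ⟨i, W, hW⟩) K))) :=
      isReduced_of_isOpenImmersion (pullbackSpecIso k (B ⟨i, W, hW⟩) K).inv
    exact (affine_isReduced_iff (CommRingCat.of (TensorProduct k (B ⟨i, W, hW⟩) K))).1 inferInstance
  haveI : _root_.IsReduced (TensorProduct k Γ(Y, V.1) K) := by
    refine isReduced_tensor_aux K B (fun j => { φ j with commutes' := fun c => rfl }) (fun a ha => ?_) hB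
    refine eq_zero_of_forall_notMem a fun z hz => ?_
    obtain ⟨z', hz', hzr⟩ := hd.inter_open_nonempty _ (Y.basicOpen a).isOpen ⟨z, hz⟩
    obtain ⟨i, w, rfl⟩ := Set.mem_iUnion.1 hzr
    obtain ⟨W, hW, hwW, hWV⟩ := exists_isAffineOpen_mem_and_subset (x := w) (U := h i ⁻¹ᵁ V.1)
      (Y.basicOpen_le a hz')
    replace hWV : W ≤ h i ⁻¹ᵁ V.1 := hWV
    have h1 : w ∈ (Z i).basicOpen ((h i).appLE V.1 W hWV a) := by
      rw [Scheme.basicOpen_appLE]; exact ⟨hwW, hz'⟩
    have h2 : (h i).appLE V.1 W hWV a = 0 := ha ⟨i, ⟨W, hW⟩, hWV⟩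
    rw [h2] at h1
    simp at h1
  haveI : IsReduced (pullback (Spec.map (CommRingCat.ofHom (algebraMap k Γ(Y, V.1)))) q) :=
    isReduced_of_isOpenImmersion (pullbackSpecIso k Γ(Y, V.1) K).hom
  exact isReduced_of_isOpenImmersion
    (pullback.congrHom (show V.2.fromSpec ≫ g = Spec.map (CommRingCat.ofHom (algebraMap k Γ(Y, V.1))) from hσ.symm) (rfl : q = q)).hom

theorem isReduced_pullback_of_geomRed {k : Type u} [Field k] {Y : Scheme.{u}}
    (g : Y ⟶ Spec (CommRingCat.of k)) (h : ∀ y, FBase.IsGeomReducedAt g y)
    (K : Type u) [Field K] [Algebra k K] :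
    IsReduced (pullback g (Spec.map (CommRingCat.ofHom (algebraMap k K)))) := by
  haveI : ∀ x : ↥(pullback g (Spec.map (CommRingCat.ofHom (algebraMap k K)))),
      _root_.IsReduced ((pullback g (Spec.map (CommRingCat.ofHom (algebraMap k K)))).presheaf.stalk x) :=
    fun x => h _ K x rfl
  exact isReduced_of_isReduced_stalk _

theorem isReduced_of_geomRed {k : Type u} [Field k] {Y : Scheme.{u}}
    (g : Y ⟶ Spec (CommRingCat.of k)) (h : ∀ y, FBase.IsGeomReducedAt g y) : IsReduced Y := by
  haveI := isReduced_pullback_of_geomRed g h k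
  haveI : IsIso (Spec.map (CommRingCat.ofHom (algebraMap k k))) := by
    rw [show CommRingCat.ofHom (algebraMap k k) = 𝟙 _ from rfl, Spec.map_id]; infer_instance
  exact isReduced_of_isOpenImmersion (inv (pullback.fst g (Spec.map (CommRingCat.ofHom (algebraMap k k)))))

end Aux

open CategoryTheory.Limits in
/-- Let k be a field, X a k-scheme, (f_i : Z_i ⟶ X) a family of k-morphisms with every Z_i geometrically
reduced over k, and Y the reduced closed subscheme of X whose underlying space is the closure of ⋃
f_i(Z_i), i.e. the closed subscheme defined by the vanishing ideal sheaf of that closed set. Let k'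
be a field extension of k, X' = X ⊗_k k' and f'_i : Z_i ⊗_k k' ⟶ X' the base changes. Then the
reduced closed subscheme of X' on the closure of ⋃ f'_i(Z_i ⊗_k k') is Y ⊗_k k': the vanishing ideal
sheaf of that closure equals the pullback (comap) along X' ⟶ X of the vanishing ideal sheaf defining
Y. (The published statement also concludes that Y is geometrically reduced over k; this row states
only the equality of Y' with Y ⊗_k k'.) -/
theorem result {k : Type u} [Field k] {X : Scheme.{u}}
    (p : X ⟶ Spec (CommRingCat.of k)) {ι : Type u} (Z : ι → Scheme.{u}) (f : ∀ i, Z i ⟶ X)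
    (hred : ∀ (i : ι) (z : Z i), FBase.IsGeomReducedAt (f i ≫ p) z)
    (k' : Type u) [Field k'] [Algebra k k'] :
    letI q : Spec (CommRingCat.of k') ⟶ Spec (CommRingCat.of k) := Spec.map (CommRingCat.ofHom (algebraMap k k'))
    letI f' : ∀ i, pullback (f i ≫ p) q ⟶ pullback p q :=
      fun i => pullback.map (f i ≫ p) q p q (f i) (𝟙 _) (𝟙 _) (Category.comp_id _) ((Category.comp_id _).trans (Category.id_comp _).symm)
    Scheme.IdealSheafData.vanishingIdeal (TopologicalSpace.Closeds.closure (⋃ i, Set.range (f' i))) =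
      (Scheme.IdealSheafData.vanishingIdeal (TopologicalSpace.Closeds.closure (⋃ i, Set.range (f i)))).comap
        (pullback.fst p q) := by
  let q := Spec.map (CommRingCat.ofHom (algebraMap k k'))
  let f' : ∀ i, pullback (f i ≫ p) q ⟶ pullback p q := fun i => pullback.map (f i ≫ p) q p q (f i) (𝟙 _) (𝟙 _) (Category.comp_id _) ((Category.comp_id _).trans (Category.id_comp _).symm)
  show Scheme.IdealSheafData.vanishingIdeal (TopologicalSpace.Closeds.closure (⋃ i, Set.range (f' i))) = _
  let C : TopologicalSpace.Closeds X := TopologicalSpace.Closeds.closure (⋃ i, Set.range (f i))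
  let I := Scheme.IdealSheafData.vanishingIdeal C
  have hI : (I.support : Set X) = closure (⋃ i, Set.range (f i)) :=
    rfl
  -- the images
  have hrange : ∀ i, Set.range (f' i) = pullback.fst p q ⁻¹' Set.range (f i) := by
    intro i
    ext x
    constructor
    · rintro ⟨z, rfl⟩
      refine ⟨pullback.fst (f i ≫ p) q z, ?_⟩
      rw [← Scheme.Hom.comp_apply, ← Scheme.Hom.comp_apply]
      exact congrArg (fun m : _ ⟶ X => m z) (pullback.lift_fst _ _ _).symm
    · rintro ⟨z, hz⟩
      obtain ⟨w, hw₁, hw₂⟩ := Scheme.Pullback.exists_preimage_pullback (f := f i)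
        (g := pullback.fst p q) z x hz
      refine ⟨(pullbackRightPullbackFstIso p q (f i)).hom w, ?_⟩
      have er : (pullbackRightPullbackFstIso p q (f i)).hom ≫ f' i =
          pullback.snd (f i) (pullback.fst p q) := by
        apply pullback.hom_ext
        · rw [Category.assoc]; erw [pullback.lift_fst]
          rw [pullbackRightPullbackFstIso_hom_fst_assoc]; exact pullback.condition
        · rw [Category.assoc]; erw [pullback.lift_snd]
          rw [Category.comp_id]; exact pullbackRightPullbackFstIso_hom_snd _ _ _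
      rw [← hw₂, ← er]
      exact (Scheme.Hom.comp_apply _ _ w).symm
  haveI : UniversallyOpen q := inferInstance
  have hopen : IsOpenMap (pullback.fst p q) := (pullback.fst p q).isOpenMap
  have hsupp : (I.comap (pullback.fst p q)).support =
      TopologicalSpace.Closeds.closure (⋃ i, Set.range (f' i)) := by
    apply SetLike.coe_injective
    rw [Scheme.IdealSheafData.support_comap]
    show pullback.fst p q ⁻¹' (I.support : Set X) = closure _
    rw [hI, hopen.preimage_closure_eq_closure_preimage (pullback.fst p q).continuous]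
    simp only [Set.preimage_iUnion, hrange]
  suffices IsReduced (I.comap (pullback.fst p q)).subscheme by
    rw [← hsupp, vanishingIdeal_support_of_isReduced]
  haveI : IsReduced I.subscheme := by
    have h1 : ∀ U : X.affineOpens, (I.ideal U).IsRadical := by
      intro U
      show (PrimeSpectrum.vanishingIdeal _).IsRadical
      exact PrimeSpectrum.isRadical_vanishingIdeal _
    haveI : ∀ U, _root_.IsReduced (Γ(X, U.1) ⧸ I.ideal U) := fun U =>
      (Ideal.isRadical_iff_quotient_reduced _).1 (h1 U)
    haveI : ∀ U, IsReduced (I.subschemeCover.openCover.X U) := fun U =>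
      (affine_isReduced_iff _).2 (this U)
    exact IsReduced.of_openCover _ I.subschemeCover.openCover
  haveI : ∀ i, IsReduced (Z i) := fun i => isReduced_of_geomRed (f i ≫ p) (hred i)
  have hle : ∀ i, I.subschemeι.ker ≤ (f i).ker := by
    intro i
    rw [Scheme.IdealSheafData.ker_subschemeι]
    refine Scheme.IdealSheafData.le_ofIdeals_iff.2 fun U a ha => ?_
    rw [RingHom.mem_ker]
    refine eq_zero_of_forall_notMem _ fun z hz => ?_
    rw [← Scheme.preimage_basicOpen] at hz
    have hzC : f i z ∈ I.support := by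
      show f i z ∈ (I.support : Set X)
      rw [hI]; exact subset_closure (Set.mem_iUnion.2 ⟨i, z, rfl⟩)
    have hzU : f i z ∈ U.1 := X.basicOpen_le a hz
    rw [Scheme.IdealSheafData.mem_support_iff_of_mem hzU, Scheme.mem_zeroLocus_iff] at hzC
    exact hzC a ha hz
  let h := fun i => IsClosedImmersion.lift I.subschemeι (f i) (hle i)
  have hh : ∀ i, h i ≫ I.subschemeι = f i := fun i => IsClosedImmersion.lift_fac _ _ _
  have hd : Dense (⋃ i, Set.range (h i)) := by
    rw [I.subschemeι.isEmbedding.toIsInducing.dense_iff]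
    intro y
    rw [Set.image_iUnion]
    have : ∀ i, I.subschemeι '' Set.range (h i) = Set.range (f i) := by
      intro i
      rw [← Set.range_comp, ← hh i]
      exact congrArg Set.range (funext fun z => (Scheme.Hom.comp_apply _ _ z).symm)
    simp only [this]
    rw [← hI, ← Scheme.IdealSheafData.range_subschemeι]
    exact ⟨y, rfl⟩
  haveI : ∀ i, IsReduced (pullback (h i ≫ I.subschemeι ≫ p) q) := fun i => by
    rw [← Category.assoc, hh]
    exact isReduced_pullback_of_geomRed (f i ≫ p) (hred i) k'
  haveI := isReduced_pullback_of_dense (I.subschemeι ≫ p) Z h hd k' this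
  let e : (I.comap (pullback.fst p q)).subscheme ≅ pullback (I.subschemeι ≫ p) q :=
    I.comapIso (pullback.fst p q) ≪≫ pullbackSymmetry _ _ ≪≫ pullbackRightPullbackFstIso p q I.subschemeι
  exact isReduced_of_isOpenImmersion e.hom

end Groth.Agent.S4905
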