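import Groth.Statements.S15917
import Groth.Agent.Lib.TreeVan29.Step
import Groth.Agent.Lib.IntTheory.Curves
import Groth.Agent.S4905

set_option autoImplicit false
universe u
open CategoryTheory CategoryTheory.Limits AlgebraicGeometry TopologicalSpace
open Curves

namespace Groth.Agent.S15917

section helpers
open AlgebraicGeometry CategoryTheory CategoryTheory.Limits TopologicalSpace
open Groth.Agent.Lib Groth.Agent.Lib.Curves Groth.Agent.Lib.Curves.SubUnion Groth.Agent.Lib.TreeVan29

variable (k : Type u) [Field k] [IsAlgClosed k] {C : Scheme.{u}} [C.Over (Spec (CommRingCat.of k))]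
  [IsProper (C ↘ (Spec (CommRingCat.of k)))] [IsReduced C] [ConnectedSpace C]
  (hdim : topologicalKrullDim C ≤ 1) (hg : Subsingleton (Coh.HH C (Coh.structureModule C) 1))
  {F : C.Modules} (hF : FlatMod.IsFinLocFree F)

omit [IsAlgClosed k] [C.Over (Spec (CommRingCat.of k))] [IsProper (C ↘ (Spec (CommRingCat.of k)))] [IsReduced C]
  [ConnectedSpace C] in
include hdim in
theorem dim_closure_eq_one {η : C} (h : closure ({η} : Set C) ≠ {η}) :
    topologicalKrullDim (closure ({η} : Set C)) = 1 := by
  refine le_antisymm ((Topology.IsInducing.subtypeVal.topologicalKrullDim_le).trans hdim) ?_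
  obtain ⟨x, hx, hne⟩ : ∃ x ∈ closure ({η} : Set C), x ≠ η := by
    by_contra hc
    push Not at hc
    exact h (subset_antisymm (fun x hx => hc x hx) subset_closure)
  let T : Set C := closure {η}
  let a : T := ⟨x, hx⟩
  let b : T := ⟨η, subset_closure rfl⟩
  let Ia : IrreducibleCloseds T := ⟨closure {a}, isIrreducible_singleton.closure, isClosed_closure⟩
  let Ib : IrreducibleCloseds T := ⟨closure {b}, isIrreducible_singleton.closure, isClosed_closure⟩
  have hba : b ⤳ a := by
    rw [← Topology.IsInducing.subtypeVal.specializes_iff]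
    exact specializes_iff_mem_closure.2 hx
  have hlt : Ia < Ib := by
    refine lt_of_le_of_ne (show closure {a} ⊆ closure {b} from specializes_iff_closure_subset.1 hba) fun e => hne ?_
    have e' : closure ({a} : Set T) = closure {b} := congrArg SetLike.coe e
    have h2 : a ⤳ b := specializes_iff_closure_subset.2 e'.ge
    exact congrArg Subtype.val (Inseparable.eq (h2.antisymm hba))
  let s : LTSeries (IrreducibleCloseds T) := (RelSeries.singleton _ Ia).snoc Ib hlt
  exact le_trans (le_of_eq rfl) (Order.LTSeries.length_le_krullDim s)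

include hdim hg hF

open scoped Classical in
theorem h1On_gens (B₀ : Finset C) (hB₀ : B₀ ⊆ gens k) (hne : B₀.Nonempty)
    (hgg : ∀ Z : C.IdealSheafData, IsIntegral Z.subscheme → topologicalKrullDim (Z.support : Set C) = 1 →
      ¬ ((Z.support : Set C) ⊆ uT B₀) → Curv2.IsGloballyGenerated ((Scheme.Modules.pullback Z.subschemeι).obj F))
    (B : Finset C) (hB : B ⊆ gens k) (hsub : B₀ ⊆ B) (hc : _root_.IsPreconnected (uT B)) :
    h1On k F (gens (X := C) k) = h1On k F B := by
  induction hn : (gens (X := C) k \ B).card using Nat.strong_induction_on generalizing B with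
  | _ n ih =>
    by_cases hBG : gens (X := C) k ⊆ B
    · rw [Finset.Subset.antisymm hB hBG]
    obtain ⟨η, hη, hηB, hmeet⟩ : ∃ η ∈ gens (X := C) k, η ∉ B ∧ (closure {η} ∩ uT B).Nonempty := by
      by_contra hcon
      push Not at hcon
      have hcov : (Set.univ : Set C) ⊆ uT B ∪ uT (gens (X := C) k \ B) := by
        rw [← TreeVan29.uT_union, Finset.union_sdiff_of_subset hB, uT_gens k]
      obtain ⟨η₁, hη₁, hn₁⟩ := Finset.not_subset.1 hBG
      obtain ⟨η₂, hη₂⟩ := hne.mono hsub
      obtain ⟨x, -, hxB, hxB'⟩ := isPreconnected_closed_iff.1 (isPreconnected_univ (α := C)) _ _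
        (isClosed_uT B) (isClosed_uT _) hcov ⟨η₂, trivial, mem_uT_of_mem hη₂⟩
        ⟨η₁, trivial, mem_uT_of_mem (Finset.mem_sdiff.2 ⟨hη₁, hn₁⟩)⟩
      obtain ⟨ξ, hξ, hxξ⟩ := Set.mem_iUnion₂.1 hxB'
      exact (hcon ξ (Finset.mem_sdiff.1 hξ).1 (Finset.mem_sdiff.1 hξ).2).subset ⟨hxξ, hxB⟩
    have hgen : η ∈ genericPoints C := (mem_gens k).1 hη
    obtain ⟨x, hxη, hxB⟩ := hmeet
    have hUc : _root_.IsPreconnected (uT (insert η B)) := by
      rw [Finset.insert_eq, TreeVan29.uT_union, uT_singleton]
      exact IsPreconnected.union x hxη hxB isPreconnected_singleton.closure hc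
    have hgB : IsGen B := fun z hz => (mem_gens k).1 (hB hz)
    have hnotB : η ∉ uT B := fun h => hηB ((mem_uT_iff hgen).1 h)
    have hgg' : Curv2.IsGloballyGenerated ((Scheme.Modules.pullback
        (VecSt.subschι C (uT ({η} : Finset C)) (isClosed_uT _))).obj F) := by
      refine hgg (Scheme.IdealSheafData.vanishingIdeal ⟨uT ({η} : Finset C), isClosed_uT _⟩) ?_ ?_ ?_
      · have e : Scheme.IdealSheafData.vanishingIdeal ⟨uT ({η} : Finset C), isClosed_uT _⟩ = IntMult.ptIdeal η :=
          congrArg _ (Closeds.ext (uT_singleton η))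
        rw [e]
        exact IntTheory.Curves.isIntegral_ptIdeal η
      · rw [Scheme.IdealSheafData.coe_support_vanishingIdeal]
        show topologicalKrullDim (uT ({η} : Finset C)) = 1
        rw [uT_singleton]
        refine dim_closure_eq_one hdim fun e => hnotB ?_
        rw [e, Set.mem_singleton_iff] at hxη
        exact hxη ▸ hxB
      · rw [Scheme.IdealSheafData.coe_support_vanishingIdeal]
        intro h
        exact hnotB (uT_mono hsub (h (mem_uT_of_mem (Finset.mem_singleton_self η))))
    rw [← h1On_insert k hdim hg hF hgen hgB (hne.mono hsub) hηB hc hUc hgg']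
    refine ih _ ?_ (insert η B) (Finset.insert_subset hη hB) (hsub.trans (Finset.subset_insert η B)) hUc rfl
    rw [← hn]
    exact Finset.card_lt_card ((Finset.ssubset_iff_of_subset (Finset.sdiff_subset_sdiff le_rfl (Finset.subset_insert η B))).2
      ⟨η, Finset.mem_sdiff.2 ⟨hη, hηB⟩, by simp⟩)

open scoped Classical in
theorem main (B₀ : Finset C) (hB₀ : B₀ ⊆ gens k) (hne : B₀.Nonempty) (hc : _root_.IsPreconnected (uT B₀))
    (R : C.IdealSheafData) (hR : R = Scheme.IdealSheafData.vanishingIdeal ⟨uT B₀, isClosed_uT B₀⟩)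
    (hgg : ∀ Z : C.IdealSheafData, IsIntegral Z.subscheme → topologicalKrullDim (Z.support : Set C) = 1 →
      ¬ ((Z.support : Set C) ⊆ uT B₀) → Curv2.IsGloballyGenerated ((Scheme.Modules.pullback Z.subschemeι).obj F)) :
    letI : R.subscheme.Over (Spec (CommRingCat.of k)) := ⟨R.subschemeι ≫ (C ↘ (Spec (CommRingCat.of k)))⟩
    Module.finrank k (Coh.HH C F 1) =
      Module.finrank k (Coh.HH R.subscheme ((Scheme.Modules.pullback R.subschemeι).obj F) 1) := by
  subst hR
  letI : (VecSt.subsch C (uT B₀) (isClosed_uT B₀)).Over (Spec (CommRingCat.of k)) :=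
    ⟨VecSt.subschι C (uT B₀) (isClosed_uT B₀) ≫ (C ↘ Spec (CommRingCat.of k))⟩
  haveI := GlobalSections.isNoetherian_of_proper k C
  haveI := GlobalSections.noetherianSpace_of_proper k C
  have hO := TFOne.EDeg.isTF1_structure (X := C)
  have hG : IsGen (gens (X := C) k) := fun η h => (mem_gens k).mp h
  have hqG := isQuotOn_OS hG
  haveI := hqG.1
  haveI := hO.1.1
  haveI : Mono (toOS (gens (X := C) k)) := TFOne.Generic.mono_of_generic hO.2.1 _ fun η hη =>
    (TFOne.Generic.bijective_stalk hO hqG hη (mem_uT_of_mem ((mem_gens k).2 hη))).1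
  haveI := isIso_of_mono_of_epi (toOS (gens (X := C) k))
  let e1 : F ≅ CohB1.tensorMod F (OS (gens (X := C) k)) :=
    (TensorMod.Basic.rightUnit F).symm ≪≫ TensorMod.Basic.tensorIso (Iso.refl F) (asIso (toOS (gens (X := C) k)))
  let iB := VecSt.subschι C (uT B₀) (isClosed_uT B₀)
  haveI := (CurveBundle.Coherent.isCoh hF).1
  haveI : ((Scheme.Modules.pullback iB).obj F).IsQuasicoherent := QCoh.Pullback.isQCoh_pullback iB F
  let e2 : CohB1.tensorMod F (OS B₀) ≅ (Coh.push iB).obj ((Scheme.Modules.pullback iB).obj F) :=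
    (Modules.ProjFormula.projIso iB (Modules.DualBasis.hasDBases_of_isFinLocFree hF)).app
      (Coh.structureModule (VecSt.subsch C (uT B₀) (isClosed_uT B₀))) ≪≫
      (Coh.push iB).mapIso (TensorMod.Basic.rightUnit _)
  refine (LES.isoK k e1 1).finrank_eq.trans ?_
  refine (h1On_gens k hdim hg hF B₀ hB₀ hne hgg B₀ hB₀ subset_rfl hc).trans ?_
  exact ((LES.isoK k e2 1).trans (ZarCoh.Linear.affineLinearEquiv (A := k) iB rfl _ 1)).finrank_eq

end helpers

/-- Let k be an algebraically closed field of characteristic zero and C a rational tree over k: a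
connected, reduced scheme, proper over k of dimension one, with at-worst-nodal singularities and
H¹(C, O_C) = 0 (equivalently, all components are smooth rational curves and the dual graph is a
tree). Let F be a finite locally free O_C-module and R ⊆ C a closed subscheme that is reduced and
connected and whose support is a union of irreducible components of C. If for every irreducible
component Z of C not contained in R (taken with its reduced structure, i.e. every integral closed
one-dimensional subscheme Z whose support is not inside R) the restriction F|_Z is generated by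
global sections, then h¹(C, F) = h¹(R, F|_R). -/
theorem result (k : Type u) [Field k] [IsAlgClosed k] [CharZero k]
    (C : Scheme.{u}) [C.Over (Spec (CommRingCat.of k))] [IsProper (C ↘ (Spec (CommRingCat.of k)))] [IsReduced C] [ConnectedSpace C]
    (hdim : topologicalKrullDim C = 1) (hnodal : Curv2.AtWorstNodal k C)
    (hg : Subsingleton (Coh.HH C (Coh.structureModule C) 1))
    (F : C.Modules) (hF : FlatMod.IsFinLocFree F)
    (R : C.IdealSheafData) [IsReduced R.subscheme] [ConnectedSpace R.subscheme]
    (hRunion : ∀ x ∈ (R.support : Set C), ∃ Z : C.IdealSheafData, IsIntegral Z.subscheme ∧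
      topologicalKrullDim (Z.support : Set C) = 1 ∧ (Z.support : Set C) ⊆ R.support ∧ x ∈ (Z.support : Set C))
    (hgg : ∀ Z : C.IdealSheafData, IsIntegral Z.subscheme → topologicalKrullDim (Z.support : Set C) = 1 →
      ¬ ((Z.support : Set C) ⊆ R.support) → Curv2.IsGloballyGenerated ((Scheme.Modules.pullback Z.subschemeι).obj F)) :
    letI : R.subscheme.Over (Spec (CommRingCat.of k)) := ⟨R.subschemeι ≫ (C ↘ (Spec (CommRingCat.of k)))⟩
    Module.finrank k (Coh.HH C F 1) =
      Module.finrank k (Coh.HH R.subscheme ((Scheme.Modules.pullback R.subschemeι).obj F) 1) := by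
  classical
  have hd : topologicalKrullDim C ≤ 1 := hdim.le
  set B₀ := (Groth.Agent.Lib.Curves.SubUnion.gens (X := C) k).filter fun η => η ∈ (R.support : Set C) with hB₀def
  have hB : Groth.Agent.Lib.Curves.SubUnion.uT B₀ = (R.support : Set C) := by
    refine subset_antisymm (Set.iUnion₂_subset fun η hη =>
      closure_minimal (Set.singleton_subset_iff.2 (Finset.mem_filter.1 hη).2) R.support.isClosed) fun x hx => ?_
    obtain ⟨Z, hZi, hZd, hZs, hxZ⟩ := hRunion x hx
    haveI := hZi
    have hirr : IsIrreducible (Z.support : Set C) := by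
      rw [← Scheme.IdealSheafData.range_subschemeι, ← Set.image_univ]
      exact (IrreducibleSpace.isIrreducible_univ _).image _ Z.subschemeι.continuous.continuousOn
    obtain ⟨ξ, hξ⟩ := QuasiSober.sober hirr Z.support.isClosed
    by_cases hgen : ξ ∈ genericPoints C
    · exact Set.mem_biUnion (x := ξ) (Finset.mem_filter.2 ⟨(Groth.Agent.Lib.Curves.SubUnion.mem_gens k).2 hgen, hZs hξ.mem⟩)
        (hξ.def.ge hxZ)
    · exfalso
      have hc := Groth.Agent.H97.DimOneSetup.isClosed_singleton_of_not_gen hd hgen
      rw [← hξ.def, hc.closure_eq] at hZd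
      haveI : Unique ({ξ} : Set C) := ⟨⟨⟨ξ, rfl⟩⟩, fun y => Subtype.ext y.2⟩
      have h0 := topologicalKrullDim_zero_of_discreteTopology ({ξ} : Set C)
      rw [hZd] at h0
      exact absurd h0 (by norm_num)
  have hconn : _root_.IsPreconnected (Groth.Agent.Lib.Curves.SubUnion.uT B₀) := by
    rw [hB, ← Scheme.IdealSheafData.range_subschemeι]
    exact (isConnected_range R.subschemeι.continuous).isPreconnected
  have hne : B₀.Nonempty := by
    obtain ⟨w⟩ := (inferInstance : Nonempty R.subscheme)
    have hw : R.subschemeι w ∈ Groth.Agent.Lib.Curves.SubUnion.uT B₀ :=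
      hB.ge ((Scheme.IdealSheafData.range_subschemeι R).le ⟨w, rfl⟩)
    obtain ⟨η, hη, -⟩ := Set.mem_iUnion₂.1 hw
    exact ⟨η, hη⟩
  refine main k hd hg hF B₀ (Finset.filter_subset _ _) hne hconn R ?_ fun Z h1 h2 h3 => hgg Z h1 h2 (by rwa [hB] at h3)
  refine (Groth.Agent.S4905.vanishingIdeal_support_of_isReduced R).symm.trans (congrArg _ ?_)
  exact TopologicalSpace.Closeds.ext hB.symm

end Groth.Agent.S15917
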