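import Groth.Statements.S15918
import Groth.Agent.Lib.TreeVan29.Seq
import Groth.Agent.S4905

set_option autoImplicit false
universe u
open CategoryTheory CategoryTheory.Limits AlgebraicGeometry TopologicalSpace
open Curves

namespace Groth.Agent.S15918

section helpers
open AlgebraicGeometry CategoryTheory CategoryTheory.Limits
open Groth.Agent.Lib Groth.Agent.Lib.Curves Groth.Agent.Lib.Curves.SubUnion

theorem isIrreducible_support {C : Scheme.{u}} (Z : C.IdealSheafData) [IsIntegral Z.subscheme] :
    IsIrreducible (Z.support : Set C) := by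
  rw [← Scheme.IdealSheafData.range_subschemeι, ← Set.image_univ]
  exact (IrreducibleSpace.isIrreducible_univ _).image _ Z.subschemeι.continuous.continuousOn

theorem main (k : Type u) [Field k] [IsAlgClosed k]
    (C : Scheme.{u}) [C.Over (Spec (CommRingCat.of k))] [IsProper (C ↘ (Spec (CommRingCat.of k)))] [IsReduced C] [ConnectedSpace C]
    (hdim : topologicalKrullDim C ≤ 1) (hg : Subsingleton (Coh.HH C (Coh.structureModule C) 1))
    {F : C.Modules} (hF : FlatMod.IsFinLocFree F) (A B : Finset C) (hA : IsGen A) (hB : IsGen B)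
    (hAB : Disjoint A B) (hcov : uT A ∪ uT B = Set.univ)
    (C₁ C₂ : C.IdealSheafData)
    (h₁ : C₁ = Scheme.IdealSheafData.vanishingIdeal ⟨uT A, isClosed_uT A⟩)
    (h₂ : C₂ = Scheme.IdealSheafData.vanishingIdeal ⟨uT B, isClosed_uT B⟩)
    (P : C₁.subscheme.IdealSheafData) [IsReduced P.subscheme]
    (hP : ∀ x : C₁.subscheme, x ∈ (P.support : Set C₁.subscheme) ↔ C₁.subschemeι x ∈ (C₂.support : Set C))
    (hvan : Subsingleton (Coh.HH C₁.subscheme
        (CohB1.tensorMod ((Scheme.Modules.pullback C₁.subschemeι).obj F) (ClSub.idealMod P)) 1)) :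
    letI : C₂.subscheme.Over (Spec (CommRingCat.of k)) := ⟨C₂.subschemeι ≫ (C ↘ (Spec (CommRingCat.of k)))⟩
    Module.finrank k (Coh.HH C F 1) =
      Module.finrank k (Coh.HH C₂.subscheme ((Scheme.Modules.pullback C₂.subschemeι).obj F) 1) := by
  subst h₁ h₂
  exact TreeVan29.finrank_h1_eq k hdim hg hA hB hAB hcov hF P (fun x => (hP x).trans (by
    rw [Scheme.IdealSheafData.coe_support_vanishingIdeal]; rfl)) hvan

end helpers

/-- Let k be an algebraically closed field of characteristic zero and C a rational tree over k: a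
connected, reduced scheme, proper over k of dimension one, with at-worst-nodal singularities and
H¹(C, O_C) = 0. Let F be a finite locally free O_C-module. Suppose C = C_1 ∪ C_2 with C_1, C_2
reduced closed subschemes whose supports are unions of irreducible components of C having no
irreducible component in common, and let P = C_1 ∩ C_2 be the finite set of nodes where they meet,
taken as a reduced closed subscheme of C_1 with ideal I_P. If H¹(C_1, F|_{C_1} ⊗ I_P) = 0 then h¹(C,
F) = h¹(C_2, F|_{C_2}). -/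
theorem result (k : Type u) [Field k] [IsAlgClosed k] [CharZero k]
    (C : Scheme.{u}) [C.Over (Spec (CommRingCat.of k))] [IsProper (C ↘ (Spec (CommRingCat.of k)))] [IsReduced C] [ConnectedSpace C]
    (hdim : topologicalKrullDim C = 1) (hnodal : Curv2.AtWorstNodal k C)
    (hg : Subsingleton (Coh.HH C (Coh.structureModule C) 1))
    (F : C.Modules) (hF : FlatMod.IsFinLocFree F)
    (C₁ C₂ : C.IdealSheafData) [IsReduced C₁.subscheme] [IsReduced C₂.subscheme]
    (hunion₁ : ∀ x ∈ (C₁.support : Set C), ∃ Z : C.IdealSheafData, IsIntegral Z.subscheme ∧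
      topologicalKrullDim (Z.support : Set C) = 1 ∧ (Z.support : Set C) ⊆ C₁.support ∧ x ∈ (Z.support : Set C))
    (hunion₂ : ∀ x ∈ (C₂.support : Set C), ∃ Z : C.IdealSheafData, IsIntegral Z.subscheme ∧
      topologicalKrullDim (Z.support : Set C) = 1 ∧ (Z.support : Set C) ⊆ C₂.support ∧ x ∈ (Z.support : Set C))
    (hcover : (C₁.support : Set C) ∪ C₂.support = Set.univ)
    (hnocommon : ∀ Z : C.IdealSheafData, IsIntegral Z.subscheme → topologicalKrullDim (Z.support : Set C) = 1 →
      ¬ ((Z.support : Set C) ⊆ C₁.support ∧ (Z.support : Set C) ⊆ C₂.support))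
    (P : C₁.subscheme.IdealSheafData) [IsReduced P.subscheme]
    (hP : ∀ x : C₁.subscheme, x ∈ (P.support : Set C₁.subscheme) ↔ C₁.subschemeι x ∈ (C₂.support : Set C))
    (hvan : Subsingleton (Coh.HH C₁.subscheme
        (CohB1.tensorMod ((Scheme.Modules.pullback C₁.subschemeι).obj F) (ClSub.idealMod P)) 1)) :
    letI : C₂.subscheme.Over (Spec (CommRingCat.of k)) := ⟨C₂.subschemeι ≫ (C ↘ (Spec (CommRingCat.of k)))⟩
    Module.finrank k (Coh.HH C F 1) =
      Module.finrank k (Coh.HH C₂.subscheme ((Scheme.Modules.pullback C₂.subschemeι).obj F) 1) := by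
  classical
  open Groth.Agent.Lib Groth.Agent.Lib.Curves Groth.Agent.Lib.Curves.SubUnion in
  have hd : topologicalKrullDim C ≤ 1 := hdim.le
  let G := Groth.Agent.Lib.Curves.SubUnion.gens (X := C) k
  have comp : ∀ (D : C.IdealSheafData) (hu : ∀ x ∈ (D.support : Set C), ∃ Z : C.IdealSheafData, IsIntegral Z.subscheme ∧
      topologicalKrullDim (Z.support : Set C) = 1 ∧ (Z.support : Set C) ⊆ D.support ∧ x ∈ (Z.support : Set C)),
      Groth.Agent.Lib.Curves.SubUnion.uT (G.filter fun η => η ∈ (D.support : Set C)) = (D.support : Set C) := by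
    intro D hu
    refine subset_antisymm (Set.iUnion₂_subset fun η hη =>
      closure_minimal (Set.singleton_subset_iff.2 (Finset.mem_filter.1 hη).2) D.support.isClosed) fun x hx => ?_
    obtain ⟨Z, hZi, hZd, hZs, hxZ⟩ := hu x hx
    haveI := hZi
    obtain ⟨ξ, hξ⟩ := QuasiSober.sober (isIrreducible_support Z) Z.support.isClosed
    by_cases hgen : ξ ∈ genericPoints C
    · exact Set.mem_biUnion (x := ξ) (Finset.mem_filter.2 ⟨(Groth.Agent.Lib.Curves.SubUnion.mem_gens k).2 hgen, hZs hξ.mem⟩)
        (hξ.def.ge hxZ)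
    · exfalso
      have hc := Groth.Agent.H97.DimOneSetup.isClosed_singleton_of_not_gen hd hgen
      rw [← hξ.def, hc.closure_eq] at hZd
      haveI : Unique ({ξ} : Set C) := ⟨⟨⟨ξ, rfl⟩⟩, fun y => Subtype.ext y.2⟩
      have h0 := topologicalKrullDim_zero_of_discreteTopology ({ξ} : Set C)
      rw [hZd] at h0
      exact absurd h0 (by norm_num)
  set A := G.filter fun η => η ∈ (C₁.support : Set C) with hAdef
  set B := G.filter fun η => η ∈ (C₂.support : Set C) with hBdef
  have hA := comp C₁ hunion₁
  have hB := comp C₂ hunion₂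
  refine main k C hd hg hF A B (fun η h => (Groth.Agent.Lib.Curves.SubUnion.mem_gens k).1 (Finset.mem_filter.1 h).1)
    (fun η h => (Groth.Agent.Lib.Curves.SubUnion.mem_gens k).1 (Finset.mem_filter.1 h).1)
    (Finset.disjoint_left.2 fun η h1 h2 => ?_) (by rw [hA, hB, hcover]) C₁ C₂ ?_ ?_ P hP hvan
  · obtain ⟨hG1, hη1⟩ := Finset.mem_filter.1 h1
    obtain ⟨Z, hZi, hZd, hZs, hηZ⟩ := hunion₁ η hη1
    haveI := hZi
    have hgen : closure ({η} : Set C) ∈ irreducibleComponents (C : Type u) := (Groth.Agent.Lib.Curves.SubUnion.mem_gens k).1 hG1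
    have hsub : closure ({η} : Set C) ⊆ (Z.support : Set C) :=
      closure_minimal (Set.singleton_subset_iff.2 hηZ) Z.support.isClosed
    have heq : (Z.support : Set C) ⊆ closure {η} := hgen.2 (isIrreducible_support Z) hsub
    exact hnocommon Z hZi hZd ⟨hZs, heq.trans
      (closure_minimal (Set.singleton_subset_iff.2 (Finset.mem_filter.1 h2).2) C₂.support.isClosed)⟩
  · refine (Groth.Agent.S4905.vanishingIdeal_support_of_isReduced C₁).symm.trans (congrArg _ ?_)
    exact TopologicalSpace.Closeds.ext hA.symm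
  · refine (Groth.Agent.S4905.vanishingIdeal_support_of_isReduced C₂).symm.trans (congrArg _ ?_)
    exact TopologicalSpace.Closeds.ext hB.symm

end Groth.Agent.S15918
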