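import Groth.Statements.S15920
import Groth.Agent.Lib.Snapper.Finite
import Groth.Agent.Lib.CohDelta.AbR
import Groth.Agent.H21.LerayEuler.Step
import Groth.Agent.Lib.Modules.ProjFormula
import Groth.Agent.Lib.Curves.Birational
import Groth.Agent.Lib.Curves.H0Components
import Groth.Agent.Lib.Curves.Positivity
import Groth.Agent.Lib.CurveBundle.Coherent
import Groth.Agent.H34.DefAmple

set_option autoImplicit false
universe u
open CategoryTheory CategoryTheory.Limits AlgebraicGeometry TopologicalSpace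
open Curves

namespace Groth.Agent.S15920

section helpers
open AlgebraicGeometry CategoryTheory CategoryTheory.Limits TopologicalSpace Opposite
open Groth.Agent Groth.Agent.Lib Groth.Agent.Lib.Curves Groth.Agent.Lib.Curves.LES

theorem isZero_of_torsion {X : Scheme.{u}} [IsLocallyNoetherian X] [CompactSpace X] {Q : X.Modules}
    (hC : ∀ x, ¬ IsClosed ({x} : Set X) → Subsingleton (Q.presheaf.stalk x))
    (hsub : Subsingleton (Coh.HH X Q 0)) : IsZero Q := by
  haveI := H34.DefAmple.isFlasque_toAb hC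
  refine Modules.Stalk.isZero_iff_stalk_subsingleton.2 fun x => subsingleton_of_forall_eq 0 fun v => ?_
  obtain ⟨U, hU, s, rfl⟩ := TopCat.Presheaf.exists_germ_eq Q.presheaf v
  obtain ⟨t, ht⟩ := Lib.ZarCoh.Basic.flasque_surjective (X := X.toTopCat) (Coh.toAb Q) (le_top : U ≤ ⊤) s
  haveI hs := (Curves.GlobalSections.h0Equiv Q).symm.injective.subsingleton
  have ht0 : t = 0 := @Subsingleton.elim _ hs t 0
  rw [← ht, ht0, map_zero]
  exact map_zero _

variable (k : Type u) [Field k]

theorem h0_one [IsAlgClosed k] (X : Scheme.{u}) [X.Over (Spec (CommRingCat.of k))]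
    [IsProper (X ↘ (Spec (CommRingCat.of k)))] [IsReduced X] [ConnectedSpace X] :
    Module.finrank k (Coh.HH X (Coh.structureModule X) 0) = 1 := by
  haveI := GlobalSections.noetherianSpace_of_proper k X
  haveI := GlobalSections.isNoetherian_of_proper k X
  haveI := Snapper.Finite.cohFinite k X _ (Snapper.Twist.isCoh_structureModule X) 0
  rw [H0Components.finrank_h0_eq_card k]
  simp

variable {C C' : Scheme.{u}} (π : C' ⟶ C) (hdim : topologicalKrullDim C = 1) [ConnectedSpace C]
  (p : C) (hpc : IsClosed ({p} : Set C))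
  (hiso : IsIso (π ∣_ (⟨({p} : Set C)ᶜ, hpc.isOpen_compl⟩ : C.Opens)))

include hdim hpc in
theorem dense_compl : Dense ({p}ᶜ : Set C) := by
  rw [dense_compl_singleton_iff_not_open]
  intro ho
  have : ({p} : Set C) = Set.univ := IsClopen.eq_univ ⟨hpc, ho⟩ ⟨p, rfl⟩
  haveI : Subsingleton C := ⟨fun a b => (this.ge (Set.mem_univ a)).trans (this.ge (Set.mem_univ b)).symm⟩
  haveI : Subsingleton (IrreducibleCloseds C) := ⟨fun s t => IrreducibleCloseds.ext
    ((Set.eq_univ_of_forall fun z => by obtain ⟨w, hw⟩ := s.isIrreducible.nonempty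
                                        rwa [Subsingleton.elim z w]).trans
      (Set.eq_univ_of_forall fun z => by obtain ⟨w, hw⟩ := t.isIrreducible.nonempty
                                         rwa [Subsingleton.elim z w]).symm)⟩
  have h := Order.krullDim_nonpos_of_subsingleton (α := IrreducibleCloseds C)
  change topologicalKrullDim C ≤ 0 at h
  rw [hdim] at h
  exact absurd h (by norm_num)

include hdim hiso in
theorem mono_unit [IsReduced C] : Mono (ClSub.unitToPush π) := by
  rw [Modules.Stalk.mono_iff_app_injective]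
  intro V
  refine (injective_iff_map_eq_zero ((ClSub.unitToPush π).app V).hom).mpr fun t ht => ?_
  have h0 : π.app V (show Γ(C, V) from t) = 0 := ht
  have hb : π ⁻¹ᵁ (C.basicOpen (show Γ(C, V) from t)) = ⊥ := by
    rw [Scheme.preimage_basicOpen, h0, Scheme.basicOpen_zero]
  have hsub : ∀ x ∈ C.basicOpen (show Γ(C, V) from t), x = p := by
    intro x hx
    by_contra hne
    obtain ⟨y, hy⟩ := (π ∣_ (⟨({p} : Set C)ᶜ, hpc.isOpen_compl⟩ : C.Opens)).homeomorph.surjective ⟨x, hne⟩
    have hy' : π y.1 = x := (morphismRestrict_base_coe π _ y).symm.trans (congrArg Subtype.val hy)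
    have : y.1 ∈ π ⁻¹ᵁ (C.basicOpen (show Γ(C, V) from t)) := show π y.1 ∈ _ from hy'.symm ▸ hx
    rw [hb] at this
    exact this
  have hempty : C.basicOpen (show Γ(C, V) from t) = ⊥ := by
    ext x
    refine ⟨fun hx => ?_, fun hx => absurd hx (by simp)⟩
    obtain ⟨z, hz, hzp⟩ := (dense_compl hdim p hpc).inter_open_nonempty _
      (C.basicOpen (show Γ(C, V) from t)).2 ⟨x, hx⟩
    exact absurd (hsub z hz) hzp
  exact eq_zero_of_basicOpen_eq_bot _ hempty

include hdim hiso in
theorem stalk_right (G : C'.Modules) [HasInjectiveResolutions C'.Modules] (x : C) (hx : x ≠ p) :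
    Subsingleton ((H21.LerayEuler.right π G).X₃.presheaf.stalk x) := by
  let U : C.Opens := ⟨({p} : Set C)ᶜ, hpc.isOpen_compl⟩
  let φ := H21.LerayEuler.phi π G
  let g := (H21.LerayEuler.shift G).g
  haveI : Epi g := inferInstanceAs (Epi (cokernel.π (Injective.ι G)))
  refine subsingleton_of_forall_eq 0 fun w => ?_
  obtain ⟨v, rfl⟩ := (Modules.StalkModule.epi_iff_stalkMapₗ_surjective (cokernel.π φ)).mp inferInstance x w
  obtain ⟨W, hxW, s, rfl⟩ := TopCat.Presheaf.exists_germ_eq
    ((Coh.push π).obj (H21.LerayEuler.shift G).X₃).presheaf v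
  let Φ := (π ∣_ U).homeomorph
  obtain ⟨y, hy⟩ := Φ.surjective ⟨x, hx⟩
  have hΦ : ∀ z, (Φ z).1 = π z.1 := fun z => morphismRestrict_base_coe π U z
  have hy' : π y.1 = x := (hΦ y).symm.trans (congrArg Subtype.val hy)
  have hyW : y.1 ∈ π ⁻¹ᵁ W := show π y.1 ∈ W from hy'.symm ▸ hxW
  obtain ⟨u, hu⟩ := (Modules.StalkModule.epi_iff_stalkMapₗ_surjective g).mp inferInstance y.1
    ((H21.LerayEuler.shift G).X₃.presheaf.germ (π ⁻¹ᵁ W) y.1 hyW s)
  obtain ⟨N, hyN, t, rfl⟩ := TopCat.Presheaf.exists_germ_eq (H21.LerayEuler.shift G).X₂.presheaf u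
  rw [Modules.StalkModule.stalkMapₗ_germ] at hu
  obtain ⟨M, hyM, i₁, i₂, hM⟩ := TopCat.Presheaf.germ_eq _ y.1 hyN hyW _ _ hu
  let M' : C'.Opens := M ⊓ π ⁻¹ᵁ U
  let W' : C.Opens := ⟨Subtype.val '' (Φ '' (Subtype.val ⁻¹' (M : Set C'))),
    U.2.isOpenMap_subtype_val _ (Φ.isOpenMap _ (M.2.preimage continuous_subtype_val))⟩
  have hxW' : x ∈ W' := ⟨Φ y, ⟨y, hyM, rfl⟩, (hΦ y).trans hy'⟩
  have hW'W : W' ≤ W := by
    rintro _ ⟨_, ⟨z, hz, rfl⟩, rfl⟩
    rw [hΦ z]
    exact i₂.le hz
  have hpre : π ⁻¹ᵁ W' ≤ M := by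
    rintro z ⟨_, ⟨z', hz', rfl⟩, hzz⟩
    have hzU : π z ∈ U := hzz ▸ (Φ z').2
    have : z' = ⟨z, hzU⟩ := Φ.injective (Subtype.ext (hzz.trans (hΦ ⟨z, hzU⟩).symm))
    subst this
    exact hz'
  rw [← TopCat.Presheaf.germ_res_apply _ (homOfLE hW'W) x hxW' s]
  let t' : Γ((H21.LerayEuler.shift G).X₂, π ⁻¹ᵁ W') :=
    (H21.LerayEuler.shift G).X₂.presheaf.map (homOfLE (hpre.trans i₁.le)).op t
  have hts : φ.app W' t' = ((Coh.push π).obj (H21.LerayEuler.shift G).X₃).presheaf.map (homOfLE hW'W).op s := by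
    change g.app (π ⁻¹ᵁ W') t' = (H21.LerayEuler.shift G).X₃.presheaf.map (homOfLE (fun z hz => hW'W hz)).op s
    refine (NatTrans.naturality_apply g.mapPresheaf (homOfLE (hpre.trans i₁.le)).op t).trans ?_
    let F3 := (H21.LerayEuler.shift G).X₃.presheaf
    have hres : ∀ {A B D : C'.Opens} (h₁ : B ≤ A) (h₂ : D ≤ B) (a : F3.obj (op A)),
        F3.map (homOfLE h₂).op (F3.map (homOfLE h₁).op a) = F3.map (homOfLE (h₂.trans h₁)).op a := fun h₁ h₂ a => by
      rw [← ConcreteCategory.comp_apply, ← F3.map_comp]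
      rfl
    refine (hres i₁.le hpre _).symm.trans ?_
    refine (congrArg (F3.map (homOfLE hpre).op) hM).trans ?_
    exact hres i₂.le hpre s
  rw [← hts, ← Modules.StalkModule.stalkMapₗ_germ, ← LinearMap.comp_apply, ← Modules.StalkModule.stalkMapₗ_comp,
    cokernel.condition, Modules.StalkModule.stalkMapₗ_zero]
  rfl

variable [C.Over (Spec (CommRingCat.of k))] [IsProper (C ↘ (Spec (CommRingCat.of k)))]
  [C'.Over (Spec (CommRingCat.of k))] [IsProper (C' ↘ (Spec (CommRingCat.of k)))]
  [IsReduced C] [IsReduced C'] [ConnectedSpace C'] [IsAlgClosed k]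
  (hπ : π ≫ (C ↘ (Spec (CommRingCat.of k))) = C' ↘ (Spec (CommRingCat.of k)))
  (hg : Subsingleton (Coh.HH C (Coh.structureModule C) 1))

include hπ hdim hg hiso in
theorem isIso_unit : IsIso (ClSub.unitToPush π) := by
  haveI := GlobalSections.noetherianSpace_of_proper k C
  haveI := GlobalSections.isNoetherian_of_proper k C
  haveI := mono_unit π hdim p hpc hiso
  let φ := ClSub.unitToPush π
  suffices hz : IsZero (cokernel φ) by
    haveI : Epi φ := Preadditive.epi_of_isZero_cokernel φ hz
    exact isIso_of_mono_of_epi φ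
  refine isZero_of_torsion (Q := cokernel φ) (fun x hx => ?_) ?_
  · by_contra hs
    have hxp : x ∈ ({p}ᶜ : Set C)ᶜ :=
      Birational.support_cokernel_unit π (⟨({p} : Set C)ᶜ, hpc.isOpen_compl⟩ : C.Opens) hs
    rw [compl_compl, Set.mem_singleton_iff] at hxp
    exact hx (hxp ▸ hpc)
  let S : ShortComplex C.Modules := ShortComplex.mk φ (cokernel.π φ) (cokernel.condition φ)
  have hS : S.ShortExact :=
    { exact := ShortComplex.exact_of_g_is_cokernel _ (cokernelIsCokernel φ)
      mono_f := inferInstanceAs (Mono φ)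
      epi_g := inferInstanceAs (Epi (cokernel.π φ)) }
  have h1 : Module.finrank k (Coh.HH C S.X₁ 0) = 1 := h0_one k C
  have h2 : Module.finrank k (Coh.HH C S.X₂ 0) = 1 :=
    (H21.LerayEuler.pushH0 (k := k) π hπ (Coh.structureModule C')).finrank_eq.trans (h0_one k C')
  haveI : FiniteDimensional k (Coh.HH C S.X₁ 0) := Module.finite_of_finrank_pos (R := k) (by omega)
  haveI : FiniteDimensional k (Coh.HH C S.X₂ 0) := Module.finite_of_finrank_pos (R := k) (by omega)
  have hsur : Function.Surjective (mapK k S.f 0) :=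
    (LinearMap.injective_iff_surjective_of_finrank_eq_finrank (h1.trans h2.symm)).1
      (haveI : Mono S.f := inferInstanceAs (Mono φ); mapK_injective_of_mono k S.f)
  refine subsingleton_of_forall_eq 0 fun z => ?_
  haveI : Subsingleton (Coh.HH C S.X₁ 1) := hg
  obtain ⟨y, rfl⟩ := (exactK₃ k hS 0 1 rfl z).1 (Subsingleton.elim _ _)
  exact (exactK₂ k hS 0 y).2 (hsur y)

include hπ hdim hg hiso in
theorem main (hdim' : topologicalKrullDim C' = 1) (hg' : Subsingleton (Coh.HH C' (Coh.structureModule C') 1))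
    (F : C.Modules) (hF : FlatMod.IsFinLocFree F) :
    Module.finrank k (Coh.HH C F 0) = Module.finrank k (Coh.HH C' ((Scheme.Modules.pullback π).obj F) 0) ∧
      Module.finrank k (Coh.HH C F 1) = Module.finrank k (Coh.HH C' ((Scheme.Modules.pullback π).obj F) 1) := by
  haveI := GlobalSections.isNoetherian_of_proper k C
  haveI := GlobalSections.isNoetherian_of_proper k C'
  haveI := CohDelta.Sect.enoughInjectives (X := C')
  haveI : IsProper (π ≫ (C ↘ (Spec (CommRingCat.of k)))) := by rw [hπ]; infer_instance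
  haveI : IsProper π := IsProper.of_comp π (C ↘ (Spec (CommRingCat.of k)))
  let O' := Coh.structureModule C'
  haveI hu := isIso_unit k π hdim p hpc hiso hπ hg
  let eO : Coh.structureModule C ≅ (Coh.push π).obj O' := asIso (ClSub.unitToPush π)
  have hR0 : IsZero ((Coh.Rpush π 1).obj O') := by
    obtain ⟨eR⟩ := H21.LerayEuler.nonempty_R1_iso π O'
    refine IsZero.of_iso ?_ eR
    refine isZero_of_torsion (fun x hx => stalk_right π hdim p hpc hiso O' x fun e => hx (e ▸ hpc)) ?_
    refine subsingleton_of_forall_eq 0 fun z => ?_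
    have hL := H21.LerayEuler.left_shortExact π O'
    have hR := H21.LerayEuler.right_shortExact π O'
    haveI : Subsingleton (Coh.HH C (H21.LerayEuler.left π O').X₁ 2) :=
      Positivity.subsingleton_HH_of_two_le hdim.le _ 2 le_rfl
    haveI : Subsingleton (Coh.HH C (H21.LerayEuler.right π O').X₁ 1) := subsingleton_of_forall_eq 0 fun b => by
      obtain ⟨a, rfl⟩ := (exactK₃ k hL 1 2 rfl b).1 (Subsingleton.elim _ _)
      haveI : Subsingleton (Coh.HH C (H21.LerayEuler.left π O').X₂ 1) := H21.LerayEuler.acyclic_left_middle π O' 0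
      exact (congrArg _ (Subsingleton.elim a 0)).trans (map_zero _)
    obtain ⟨y, rfl⟩ := (exactK₃ k hR 0 1 rfl z).1 (Subsingleton.elim _ _)
    haveI : Subsingleton (Coh.HH C' (H21.LerayEuler.shift O').X₁ 1) := hg'
    let E := fun M : C'.Modules => H21.LerayEuler.pushH0 (k := k) π hπ M
    obtain ⟨w, hw⟩ := (exactK₃ k (H21.LerayEuler.shift_shortExact O') 0 1 rfl (E _ y)).1 (Subsingleton.elim _ _)
    have hy : mapK k (H21.LerayEuler.phi π O') 0 ((E _).symm w) = y := by
      refine (E (H21.LerayEuler.shift O').X₃).injective ?_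
      refine (H21.LerayEuler.pushH0_natural π hπ (H21.LerayEuler.shift O').g _).trans ?_
      exact (congrArg (mapK k (H21.LerayEuler.shift O').g 0) ((E _).apply_symm_apply w)).trans hw
    rw [← hy]
    have hφ : mapK k (H21.LerayEuler.phi π O') 0 =
        (mapK k (H21.LerayEuler.right π O').f 0).comp (mapK k (H21.LerayEuler.left π O').g 0) := by
      have h : H21.LerayEuler.phi π O' = (H21.LerayEuler.left π O').g ≫ (H21.LerayEuler.right π O').f :=
        (Abelian.image.fac (H21.LerayEuler.phi π O')).symm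
      rw [h]
      exact mapK_comp k _ _ 0
    exact (congrArg _ (LinearMap.congr_fun hφ _)).trans ((exactK₂ k hR 0).apply_apply_eq_zero _)
  have hE := Modules.DualBasis.hasDBases_of_isFinLocFree hF
  let P := (Scheme.Modules.pullback π).obj F
  have hRP : IsZero ((Coh.Rpush π 1).obj P) := by
    have h1 : IsZero (CohB1.tensorMod F ((Coh.Rpush π 1).obj O')) :=
      Functor.map_isZero (Modules.DualAdj.tensorL F) hR0
    exact (h1.of_iso (Modules.ProjFormula.higherProjIso π hE O' 1).symm).of_iso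
      (((Coh.Rpush π 1).mapIso (TensorMod.Basic.rightUnit P)).symm)
  let e : (Coh.push π).obj P ≅ F :=
    (Coh.push π).mapIso (TensorMod.Basic.rightUnit P).symm ≪≫
      ((Modules.ProjFormula.projIso π hE).app O').symm ≪≫
      TensorMod.Basic.tensorIso (Iso.refl F) eO.symm ≪≫ TensorMod.Basic.rightUnit F
  refine ⟨((isoK k e 0).symm ≪≫ₗ H21.LerayEuler.pushH0 (k := k) π hπ P).finrank_eq, ?_⟩
  haveI : Module.Finite k (Coh.HH C' P 1) := Snapper.Finite.cohFinite k C' P
    (CurveBundle.Coherent.isCoh (TensorMod.LocFree.isFinLocFree_pullback π hF)) 1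
  have h := (H21.LerayEuler.finrank_H1 (k := k) π P hπ).1
  obtain ⟨eR⟩ := H21.LerayEuler.nonempty_R1_iso π P
  haveI : Subsingleton (Coh.HH C (H21.LerayEuler.right π P).X₃ 0) :=
    H21.LerayEuler.subsingleton_HH_isZero (k := k) (hRP.of_iso eR.symm) 0
  haveI : Subsingleton ↥(LinearMap.range (mapK k (H21.LerayEuler.right π P).g 0)) :=
    ⟨fun a b => Subtype.ext (Subsingleton.elim _ _)⟩
  rw [Module.finrank_zero_of_subsingleton (M := ↥(LinearMap.range (mapK k (H21.LerayEuler.right π P).g 0))),
    add_zero, (isoK k e 1).finrank_eq] at h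
  exact h.symm

end helpers


/-- Let k be an algebraically closed field of characteristic zero; a rational tree over k is a
connected, reduced scheme, proper over k of dimension one, with at-worst-nodal singularities and
H¹(O) = 0. Let C be a rational tree, p ∈ C a node, and π : C' → C the total transform of C at p: C'
is a rational tree, π is a morphism over k restricting to an isomorphism over C ∖ {p}, and the fibre
π⁻¹(p) is, as a set, a closed subscheme E of C' isomorphic to P¹_k over k (the exceptional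
component). Then for every finite locally free O_C-module F and i = 0, 1 one has h^i(C, F) = h^i(C',
π^*F). -/
theorem result (k : Type u) [Field k] [IsAlgClosed k] [CharZero k]
    (C : Scheme.{u}) [C.Over (Spec (CommRingCat.of k))] [IsProper (C ↘ (Spec (CommRingCat.of k)))] [IsReduced C] [ConnectedSpace C] (hdim : topologicalKrullDim C = 1) (hnodal : Curv2.AtWorstNodal k C)
    (hg : Subsingleton (Coh.HH C (Coh.structureModule C) 1))
    (C' : Scheme.{u}) [C'.Over (Spec (CommRingCat.of k))] [IsProper (C' ↘ (Spec (CommRingCat.of k)))] [IsReduced C'] [ConnectedSpace C'] (hdim' : topologicalKrullDim C' = 1) (hnodal' : Curv2.AtWorstNodal k C')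
    (hg' : Subsingleton (Coh.HH C' (Coh.structureModule C') 1))
    (p : C) (hp : Curv2.IsNode k C p) (hpc : IsClosed ({p} : Set C))
    (π : C' ⟶ C) (hπ : π ≫ (C ↘ (Spec (CommRingCat.of k))) = C' ↘ (Spec (CommRingCat.of k)))
    (hiso : IsIso (π ∣_ (⟨({p} : Set C)ᶜ, hpc.isOpen_compl⟩ : C.Opens)))
    (E : C'.IdealSheafData) (e : E.subscheme ≅ CohB1.ProjSpace 1 k)
    (he : e.hom ≫ CohB1.ProjSpace.toSpec 1 k = E.subschemeι ≫ (C' ↘ (Spec (CommRingCat.of k))))
    (hfib : ∀ x : C', π x = p ↔ x ∈ (E.support : Set C'))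
    (F : C.Modules) (hF : FlatMod.IsFinLocFree F) :
    Module.finrank k (Coh.HH C F 0) = Module.finrank k (Coh.HH C' ((Scheme.Modules.pullback π).obj F) 0) ∧
      Module.finrank k (Coh.HH C F 1) = Module.finrank k (Coh.HH C' ((Scheme.Modules.pullback π).obj F) 1) :=
  main k π hdim p hpc hiso hπ hg hdim' hg' F hF

end Groth.Agent.S15920
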