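import Groth.Statements.S15922
import Groth.Agent.Lib.CurveBundle.Point
import Groth.Agent.Lib.SurfInt.Effective
import Groth.Agent.Lib.SurfInt.Stalk
import Groth.Agent.Lib.TFNodal.Enlarge
import Groth.Agent.Lib.TFOne.Euler

set_option autoImplicit false
universe u
open CategoryTheory CategoryTheory.Limits AlgebraicGeometry
open Curves

namespace Groth.Agent.S15922

open Groth.Agent CategoryTheory AlgebraicGeometry TopologicalSpace
set_option linter.style.haveILetI false
set_option maxHeartbeats 1000000

/-- Let k be an algebraically closed field, X a curve over k (proper over k, reduced, connected, every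
irreducible component of dimension one) and P a closed point of X, with m_P the ideal sheaf of the
reduced point P viewed as an O_X-module. Then m_P is a torsion-free sheaf of rank one and degree -1:
regular elements of each local ring O_{X,x} act injectively on the stalk of m_P at x, the stalk at
every generic point of an irreducible component has dimension one over the local ring there, and
χ(X, m_P) - χ(X, O_X) = -1. -/
theorem result (k : Type u) [Field k] [IsAlgClosed k] (X : Scheme.{u}) [X.Over (Spec (CommRingCat.of k))] [IsProper (X ↘ (Spec (CommRingCat.of k)))] [IsReduced X] [ConnectedSpace X]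
    (hequi : ∀ Z ∈ irreducibleComponents (X : Type u), topologicalKrullDim Z = 1)
    (P : X) (hP : IsClosed ({P} : Set X)) :
    TorSh.IsTorsionFree (ClSub.idealMod (Scheme.IdealSheafData.vanishingIdeal ⟨{P}, hP⟩)) ∧
    (∀ η : X, closure ({η} : Set X) ∈ irreducibleComponents (X : Type u) →
      Module.finrank (X.presheaf.stalk η) ((ClSub.idealMod (Scheme.IdealSheafData.vanishingIdeal ⟨{P}, hP⟩)).presheaf.stalk η) = 1) ∧
    Curv2.deg k X (ClSub.idealMod (Scheme.IdealSheafData.vanishingIdeal ⟨{P}, hP⟩)) 1 = -1 :=  by
  classical
  haveI := Lib.Curves.GlobalSections.isNoetherian_of_proper k X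
  haveI := Lib.Curves.GlobalSections.noetherianSpace_of_proper k X
  let I := Scheme.IdealSheafData.vanishingIdeal (X := X) ⟨{P}, hP⟩
  have hsupp : (I.support : Set X) = {P} := by
    rw [Scheme.IdealSheafData.coe_support_vanishingIdeal]
    rfl
  have hdim : topologicalKrullDim X ≤ 1 := Lib.TFOne.Euler.dim_le hequi
  have hne : ∀ η : X, closure ({η} : Set X) ∈ irreducibleComponents (X : Type u) → η ≠ P := by
    rintro η hη rfl
    have h := hequi _ hη
    rw [hP.closure_eq] at h
    have h0 : topologicalKrullDim ↥({η} : Set X) ≤ 0 := by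
      haveI : Subsingleton (IrreducibleCloseds ↥({η} : Set X)) := ⟨fun A B => IrreducibleCloseds.ext (by
        obtain ⟨a, ha⟩ := A.isIrreducible.nonempty
        obtain ⟨b, hb⟩ := B.isIrreducible.nonempty
        ext z
        exact ⟨fun _ => Subsingleton.elim b z ▸ hb, fun _ => Subsingleton.elim a z ▸ ha⟩)⟩
      exact Order.krullDim_nonpos_of_subsingleton
    rw [h] at h0
    exact absurd h0 (by decide)
  have hq : ∀ η : X, closure ({η} : Set X) ∈ irreducibleComponents (X : Type u) →
      Subsingleton ((ClSub.quotMod I).presheaf.stalk η) := fun η hη =>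
    Lib.Modules.Support.not_mem_support_iff.mp (by
      rw [Lib.ClSub.Quot.support_quotMod, hsupp]; exact hne η hη)
  haveI := Lib.ClSub.Quot.mono_idealModι I
  have hI : Coh.IsCoh (ClSub.idealMod I) := Lib.TFNodal.Enlarge.isCoh_idealMod I
  have hQ : Coh.IsCoh (ClSub.quotMod I) := Lib.SurfInt.Effective.isCoh_quotMod I
  refine ⟨?_, fun η hη => ?_, ?_⟩
  · refine Lib.CurveBundle.Rank.isTorsionFree_of_mono (ClSub.idealModι I) fun x => ?_
    exact (Lib.SurfInt.Stalk.oStalk x).injective.moduleIsTorsionFree _ fun c v => map_smul _ c v
  · haveI := hq η hη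
    have hb : Function.Bijective (Lib.SurfInt.Stalk.idealStalk I η) := by
      refine ⟨Lib.SurfInt.Stalk.idealStalk_injective I η, ?_⟩
      rw [← LinearMap.range_eq_top, Lib.SurfInt.Stalk.range_idealStalk, ← Lib.SurfInt.Stalk.ker_quotStalk,
        LinearMap.ker_eq_top]
      exact LinearMap.ext fun _ => Subsingleton.elim _ _
    rw [(LinearEquiv.ofBijective _ hb).finrank_eq]
    exact Module.finrank_self _
  · have h := Lib.Curves.Degree.euler_ses (k := k) (A := ClSub.idealMod I) (B := Coh.structureModule X)
      (C := ClSub.quotMod I) (Lib.ClSub.Quot.idealSeq_shortExact I)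
      (Lib.Curves.Finiteness.isGood_of_isCoh hdim hI)
      (Lib.Curves.Degree.isGood_structureModule (k := k) hdim)
      (Lib.Curves.Finiteness.isGood_of_isCoh hdim hQ)
    have hT : Lib.Curves.Positivity.IsTorsion (ClSub.quotMod I) := fun η hη => hq η hη
    have h1 := hT.euler (k := k) hdim
    have h2 : Module.finrank k (Coh.HH X (ClSub.quotMod I) 0) = 1 := Lib.CurveBundle.Point.hdim_quotMod k hP
    rw [h2] at h1
    show Curv2.deg k X (ClSub.idealMod I) 1 = -1
    unfold Curv2.deg
    omega

end Groth.Agent.S15922
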