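import Groth.Statements.S15923
import Groth.Agent.Lib.BirMap96.PointCartier
import Groth.Agent.Lib.ProjDualExt.Dim
import Groth.Agent.Lib.JacCrit.OverField
import Groth.Agent.Lib.JacCrit.SmoothNhd
import Groth.Agent.Lib.SmoothCurve.Stalk
-- import your own Groth.Agent.* helpers here

set_option autoImplicit false
set_option linter.style.haveILetI false
universe u
open CategoryTheory CategoryTheory.Limits AlgebraicGeometry
open Curves

namespace Groth.Agent.S15923

/-- Let k be an algebraically closed field, X a curve over k (proper over k, reduced, connected, every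
irreducible component of dimension one) and P a closed point of X, with m_P the ideal sheaf of the
reduced point P as an O_X-module. Then m_P is invertible (locally on X isomorphic to the structure
sheaf) exactly when some open neighbourhood of P is smooth over k. -/
theorem result (k : Type u) [Field k] [IsAlgClosed k] (X : Scheme.{u}) [X.Over (Spec (CommRingCat.of k))] [IsProper (X ↘ (Spec (CommRingCat.of k)))] [IsReduced X] [ConnectedSpace X]
    (hequi : ∀ Z ∈ irreducibleComponents (X : Type u), topologicalKrullDim Z = 1)
    (P : X) (hP : IsClosed ({P} : Set X)) :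
    PicF.IsInvertible (ClSub.idealMod (Scheme.IdealSheafData.vanishingIdeal ⟨{P}, hP⟩)) ↔
      ∃ U : X.Opens, P ∈ U ∧ Smooth (U.ι ≫ (X ↘ (Spec (CommRingCat.of k)))) := by
  set p := X ↘ Spec (CommRingCat.of k)
  haveI : IsLocallyNoetherian X := LocallyOfFiniteType.isLocallyNoetherian p
  haveI : CompactSpace X := QuasiCompact.compactSpace_of_compactSpace p
  haveI : IsNoetherian X := {}
  haveI := Groth.Agent.Lib.JacCrit.OverField.locallyOfFinitePresentation p
  have hdim : ringKrullDim (X.presheaf.stalk P) = 1 := by
    rw [ringKrullDim_stalk_eq_coheight]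
    refine le_antisymm ?_ ?_
    · refine (Groth.Agent.Lib.SmoothCurve.Stalk.coheight_le_topologicalKrullDim P).trans ?_
      exact Groth.Agent.Lib.ProjDualExt.Dim.topologicalKrullDim_le_of_components
        fun Z hZ => (hequi Z hZ).le
    · suffices h : (1 : ℕ∞) ≤ Order.coheight P by exact_mod_cast h
      rw [Order.one_le_iff_ne_zero, Ne, Order.coheight_eq_zero]
      intro hmax
      obtain ⟨Z, hZ, hPZ⟩ : ∃ Z ∈ irreducibleComponents (X : Type u), P ∈ Z :=
        ⟨irreducibleComponent P, irreducibleComponent_mem_irreducibleComponents P, mem_irreducibleComponent⟩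
      obtain ⟨g, hg⟩ := QuasiSober.sober hZ.1 (isClosed_of_mem_irreducibleComponents Z hZ)
      have hgP : g ⤳ P := hg.specializes hPZ
      have hPg : P ⤳ g := hmax (show P ≤ g from hgP)
      have hsing : Z = {P} := by
        refine Set.Subset.antisymm (fun z hz => ?_) (by simpa using hPZ)
        exact hP.closure_eq.subset (specializes_iff_mem_closure.mp (hPg.trans (hg.specializes hz)))
      have h1 := hequi Z hZ
      subst hsing
      haveI : Subsingleton ↥({P} : Set X) := ⟨fun a b => Subtype.ext (a.2.trans b.2.symm)⟩
      have h0 := topologicalKrullDim_zero_of_discreteTopology ↥({P} : Set X)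
      rw [h1] at h0
      exact absurd h0 (by norm_num)
  constructor
  · intro h
    haveI := Groth.Agent.Lib.BirMap96.PointCartier.isRegularLocalRing_of_isInvertible P hP hdim.ge h
    exact (Groth.Agent.Lib.JacCrit.SmoothNhd.exists_smooth_nhd_iff p P).mpr
      (Groth.Agent.Lib.JacCrit.OverField.mem_smoothLocus_of_isRegular (f := p) (x := P) (h := inferInstance))
  · intro h
    haveI := Groth.Agent.Lib.JacCrit.OverField.isRegularLocalRing_stalk P (f := p)
      ((Groth.Agent.Lib.JacCrit.SmoothNhd.exists_smooth_nhd_iff p P).mp h)
    exact Groth.Agent.Lib.BirMap96.PointCartier.isInvertible_of_regular P hP hdim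

end Groth.Agent.S15923
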