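import Groth.Statements.S15926
import Groth.Agent.S1551
import Groth.Agent.H84.CohAmple.Push
import Groth.Agent.H25.Node.AtWorst
import Groth.Agent.Lib.Ample.GG
import Groth.Agent.Lib.Cyc.PP.Count
import Groth.Agent.Lib.Cyc.SheafLen
import Groth.Agent.Lib.Cyc.C1Indep
import Groth.Agent.Lib.TFOne.Euler
import Groth.Agent.Lib.TFOne.Generic
import Groth.Agent.Lib.TFOne.Push
import Groth.Agent.Lib.Curves.NormEuler
import Groth.Agent.Lib.RefHull.Tensor

set_option autoImplicit false
set_option linter.style.haveILetI false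
universe u
open CategoryTheory CategoryTheory.Limits AlgebraicGeometry
open Curves

namespace Groth.Agent.S15926

open Groth.Agent.Lib Groth.Agent.H84.CohAmple Groth.Agent.H97.AffineImages TopologicalSpace Opposite
open Groth.Agent.Lib.Modules.StalkModule (stalkMapₗ stalkMapₗ_germ)
open Groth.Agent.Lib.TensorMod.Basic (comm assoc tensorIso leftUnit rightUnit tensorBy)
open scoped TensorProduct

variable {X : Scheme.{u}}

/-- The stalk is free of rank one. -/
def Triv (M : X.Modules) (z : X) : Prop :=
  Nonempty (M.presheaf.stalk z ≃ₗ[X.presheaf.stalk z] X.presheaf.stalk z)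

theorem triv_congr {M N : X.Modules} (e : M ≅ N) {z : X} (h : Triv M z) : Triv N z :=
  ⟨(Modules.StalkModule.stalkLinearEquiv e z).symm.trans h.some⟩

theorem triv_structure (z : X) : Triv (Coh.structureModule X) z :=
  ⟨RefHull.Reflexive.oEquiv z⟩

/-- The stalk of `A ⊗ E` is that of `A` where `E` is trivial. -/
theorem exists_tensor_equiv_left (A : X.Modules) {E : X.Modules} {z : X} (hE : Triv E z) :
    Nonempty ((CohB1.tensorMod A E).presheaf.stalk z ≃ₗ[X.presheaf.stalk z] A.presheaf.stalk z) :=
  ⟨(RefHull.Tensor.tStalk A E z).trans ((TensorProduct.congr (LinearEquiv.refl _ _) hE.some).trans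
    (TensorProduct.rid _ _))⟩

theorem triv_tensor {A E : X.Modules} {z : X} (hA : Triv A z) (hE : Triv E z) :
    Triv (CohB1.tensorMod A E) z :=
  ⟨(exists_tensor_equiv_left A hE).some.trans hA.some⟩

theorem triv_of_tensor {A E : X.Modules} {z : X} (hE : Triv E z)
    (h : Triv (CohB1.tensorMod A E) z) : Triv A z :=
  ⟨(exists_tensor_equiv_left A hE).some.symm.trans h.some⟩

/-- A local isomorphism with `O` trivializes the stalk. -/
theorem triv_of_restrict {M : X.Modules} {z : X}
    (h : ∃ U : X.Opens, z ∈ U ∧ Nonempty (M.restrict U.ι ≅ Coh.structureModule (↑U : Scheme.{u}))) :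
    Triv M z := by
  obtain ⟨U, hz, ⟨i⟩⟩ := h
  obtain ⟨e, he⟩ := TensorMod.Gen.exists_gen_of_iso i
  refine ⟨(LinearEquiv.ofBijective (LinearMap.toSpanSingleton (X.presheaf.stalk z) (M.presheaf.stalk z)
    (M.presheaf.germ U z hz e)) ⟨?_, fun v => ?_⟩).symm⟩
  · refine (injective_iff_map_eq_zero _).2 fun a ha => ?_
    exact Cyc.C1Indep.germ_gen_injective he z hz a ha
  · obtain ⟨V, hzV, m, rfl⟩ := TopCat.Presheaf.exists_germ_eq M.presheaf v
    obtain ⟨a, ha⟩ := (he (V ⊓ U) inf_le_right).2 (M.presheaf.map (homOfLE inf_le_left).op m)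
    have hW : z ∈ V ⊓ U := ⟨hzV, hz⟩
    refine ⟨X.presheaf.germ (V ⊓ U) z hW a, ?_⟩
    refine Eq.trans ?_ (TopCat.Presheaf.germ_res_apply M.presheaf (homOfLE (inf_le_left : V ⊓ U ≤ V)) z hW m)
    refine Eq.trans ?_ (congrArg (M.presheaf.germ (V ⊓ U) z hW) ha)
    refine Eq.trans ?_ (Modules.StalkModule.germ_smul (M := M) hW a _).symm
    exact congrArg (X.presheaf.germ (V ⊓ U) z hW a • ·)
      (TopCat.Presheaf.germ_res_apply M.presheaf (homOfLE (inf_le_right : V ⊓ U ≤ U)) z hW e).symm

theorem triv_invertible {M : X.Modules} (hM : PicF.IsInvertible M) (z : X) : Triv M z :=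
  triv_of_restrict (hM z)

/-- Torsion-free modules tensor trivial ones stay torsion-free. -/
theorem isTorsionFree_tensor {A E : X.Modules} (hA : TorSh.IsTorsionFree A) (hE : TorSh.IsTorsionFree E)
    (h : ∀ z, Triv A z ∨ Triv E z) : TorSh.IsTorsionFree (CohB1.tensorMod A E) := fun z => by
  rcases h z with h | h
  · obtain ⟨e⟩ := exists_tensor_equiv_left E h
    let e' := (Modules.StalkModule.stalkLinearEquiv (comm A E) z).trans e
    haveI := hE z
    exact e'.injective.moduleIsTorsionFree _ fun c v => map_smul _ c v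
  · obtain ⟨e⟩ := exists_tensor_equiv_left A h
    haveI := hA z
    exact e.injective.moduleIsTorsionFree _ fun c v => map_smul _ c v

theorem isTorsionFree_structure : TorSh.IsTorsionFree (Coh.structureModule X) := fun z =>
  (RefHull.Reflexive.oEquiv z).injective.moduleIsTorsionFree _ fun c v => map_smul _ c v

/-- A map of torsion-free modules which is generically an isomorphism is a monomorphism. -/
theorem mono_of_surjective_generic [IsReduced X] [IsLocallyNoetherian X] {A B : X.Modules}
    (hA : Coh.IsCoh A) (hT : TorSh.IsTorsionFree A) (φ : A ⟶ B)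
    (h : ∀ η, IsGen η → Function.Surjective (stalkMapₗ φ η) ∧ Triv A η ∧ Triv B η) : Mono φ := by
  haveI := hA.1
  refine TFOne.Generic.mono_of_generic hT φ fun η hη => ?_
  obtain ⟨hs, ⟨ea⟩, ⟨eb⟩⟩ := h η (show IsGen η from hη)
  let ψ : A.presheaf.stalk η →ₗ[X.presheaf.stalk η] A.presheaf.stalk η :=
    ((eb.trans ea.symm).toLinearMap).comp (stalkMapₗ φ η)
  haveI := Module.Finite.equiv ea.symm
  have hψ : Function.Injective ψ := OrzechProperty.injective_of_surjective_endomorphism ψ
    ((eb.trans ea.symm).surjective.comp hs)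
  intro a b hab
  exact hψ (congrArg (eb.trans ea.symm) hab)

/-- Sections avoiding finitely many residue conditions. -/
theorem exists_section {k : Type u} [Field k] [Infinite k] [X.Over (Spec (CommRingCat.of k))]
    {F : X.Modules} {Z : Set X} (hZ : Z.Finite) (hg : ∀ z ∈ Z, Ample.GG.GenAt F z)
    (ht : ∀ z ∈ Z, Triv F z) :
    ∃ s : Coh.structureModule X ⟶ F, ∀ z ∈ Z, Function.Surjective (stalkMapₗ s z) := by
  let φ : k →+* Γ(X, ⊤) :=
    ((Scheme.ΓSpecIso (CommRingCat.of k)).inv ≫ (X ↘ Spec (CommRingCat.of k)).appTop).hom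
  letI : Module k Γ(F, ⊤) := Module.compHom _ φ
  haveI : Finite Z := hZ.to_subtype
  let g : Γ(F, ⊤) → ∀ z : X, F.presheaf.stalk z := fun t z => F.presheaf.germ ⊤ z (Ample.GG.memTop z) t
  let e : ∀ z : Z, F.presheaf.stalk z.1 ≃ₗ[X.presheaf.stalk z.1] X.presheaf.stalk z.1 :=
    fun z => (ht z.1 z.2).some
  let P : Z → Submodule k Γ(F, ⊤) := fun z =>
    { carrier := {t | e z (g t z.1) ∈ IsLocalRing.maximalIdeal (X.presheaf.stalk z.1)}
      add_mem' := fun {a b} ha hb => by
        show e z (F.presheaf.germ ⊤ z.1 (Ample.GG.memTop z.1) (a + b)) ∈ IsLocalRing.maximalIdeal (X.presheaf.stalk z.1)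
        rw [map_add, map_add]
        exact add_mem ha hb
      zero_mem' := by
        show e z (F.presheaf.germ ⊤ z.1 (Ample.GG.memTop z.1) (0 : Γ(F, ⊤))) ∈ IsLocalRing.maximalIdeal (X.presheaf.stalk z.1)
        rw [map_zero, map_zero]
        exact zero_mem _
      smul_mem' := fun c a ha => by
        show e z (F.presheaf.germ ⊤ z.1 (Ample.GG.memTop z.1) (φ c • a)) ∈ IsLocalRing.maximalIdeal (X.presheaf.stalk z.1)
        refine Eq.subst (motive := fun w => e z w ∈ IsLocalRing.maximalIdeal (X.presheaf.stalk z.1))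
          (Modules.StalkModule.germ_smul (M := F) (Ample.GG.memTop z.1) (φ c) a).symm ?_
        rw [map_smul, smul_eq_mul]
        exact Ideal.mul_mem_left _ _ ha }
  have hP : ∀ z, P z ≠ ⊤ := fun z htop => by
    have h1 : (Submodule.span (X.presheaf.stalk z.1) (Set.range fun t : Γ(F, ⊤) => g t z.1)) ≤
        Submodule.comap (e z).toLinearMap (IsLocalRing.maximalIdeal (X.presheaf.stalk z.1)) := by
      rw [Submodule.span_le]
      rintro _ ⟨t, rfl⟩
      exact show t ∈ P z from htop ▸ Submodule.mem_top
    have h2 : (e z).symm 1 ∈ Submodule.span (X.presheaf.stalk z.1) (Set.range fun t : Γ(F, ⊤) => g t z.1) := by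
      rw [show Submodule.span (X.presheaf.stalk z.1) (Set.range fun t : Γ(F, ⊤) => g t z.1) = ⊤ from hg z.1 z.2]
      exact Submodule.mem_top
    have h3 := h1 h2
    simp only [Submodule.mem_comap, LinearEquiv.coe_coe, LinearEquiv.apply_symm_apply] at h3
    exact (IsLocalRing.maximalIdeal.isMaximal _).ne_top ((Ideal.eq_top_iff_one _).2 h3)
  obtain ⟨t, htP⟩ := Submodule.exists_forall_notMem_of_forall_ne_top P hP
  obtain ⟨s, hs⟩ := Ample.GenLocus.exists_hom_of_sec t
  refine ⟨s, fun z hz v => ?_⟩
  have hu : IsUnit (e ⟨z, hz⟩ (g t z)) := by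
    by_contra hu
    exact htP ⟨z, hz⟩ ((IsLocalRing.mem_maximalIdeal _).2 hu)
  obtain ⟨u, hu⟩ := hu
  refine ⟨(e ⟨z, hz⟩ v * ↑u⁻¹) •
    (Coh.structureModule X).presheaf.germ ⊤ z (Ample.GG.memTop z) (TensorMod.Gen.one X ⊤), ?_⟩
  have hsg : stalkMapₗ s z ((Coh.structureModule X).presheaf.germ ⊤ z (Ample.GG.memTop z) (TensorMod.Gen.one X ⊤)) =
      g t z := by
    exact (stalkMapₗ_germ s (Ample.GG.memTop z) _).trans
      (congrArg (F.presheaf.germ ⊤ z (Ample.GG.memTop z)) hs)
  refine (e ⟨z, hz⟩).injective ?_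
  rw [map_smul, map_smul, hsg, ← hu, smul_eq_mul, mul_assoc, Units.inv_mul, mul_one]

section Euler

variable {k : Type u} [Field k] [X.Over (Spec (CommRingCat.of k))]
  [IsProper (X ↘ Spec (CommRingCat.of k))]

theorem euler_ses (hd : topologicalKrullDim X ≤ 1) {A B : X.Modules} (hA : Coh.IsCoh A) (hB : Coh.IsCoh B)
    (s : A ⟶ B) [Mono s] :
    Curv2.euler k X B = Curv2.euler k X A + Curv2.euler k X (cokernel s) := by
  haveI := Curves.GlobalSections.isNoetherian_of_proper k X
  haveI := Curves.GlobalSections.noetherianSpace_of_proper k X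
  exact Curves.Euler.euler_add (k := k) (S := ShortComplex.mk s (cokernel.π s) (cokernel.condition s))
    (ShortComplex.ShortExact.mk' (ShortComplex.exact_of_g_is_cokernel _ (cokernelIsCokernel s))
      (inferInstanceAs (Mono s)) (inferInstanceAs (Epi (cokernel.π s))))
    (Curves.Finiteness.isGood_of_isCoh hd hA) (Curves.Finiteness.isGood_of_isCoh hd hB)
    (Curves.Finiteness.isGood_of_isCoh hd (CohBasics.Closure.isCoh_cokernel s hA.1 hB))

/-- Modules with the same stalks, at finitely many points, have the same `χ`. -/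
theorem euler_eq_of_stalks (hd : topologicalKrullDim X ≤ 1) {P Q : X.Modules} (hP : Coh.IsCoh P)
    (hQ : Coh.IsCoh Q) {Z : Set X} (hZ : Z.Finite) (hZc : ∀ z ∈ Z, IsClosed ({z} : Set X))
    (hs : CohB1.support Q ⊆ Z)
    (h : ∀ z, Nonempty (P.presheaf.stalk z ≃ₗ[X.presheaf.stalk z] Q.presheaf.stalk z)) :
    Curv2.euler k X P = Curv2.euler k X Q := by
  classical
  haveI := Curves.GlobalSections.isNoetherian_of_proper k X
  haveI := Curves.GlobalSections.noetherianSpace_of_proper k X
  have hsupp : {z | Nontrivial (P.presheaf.stalk z)} = {z | Nontrivial (Q.presheaf.stalk z)} :=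
    Set.ext fun z => (h z).some.toEquiv.nontrivial_congr
  have hQf : {z | Nontrivial (Q.presheaf.stalk z)}.Finite :=
    hZ.subset fun z hz => hs (not_subsingleton_iff_nontrivial.2 hz)
  have hPf : {z | Nontrivial (P.presheaf.stalk z)}.Finite := hsupp ▸ hQf
  have hcl : ∀ z, Nontrivial (Q.presheaf.stalk z) → IsClosed ({z} : Set X) := fun z hz =>
    hZc z (hs (not_subsingleton_iff_nontrivial.2 hz))
  have hclP : ∀ z, Nontrivial (P.presheaf.stalk z) → IsClosed ({z} : Set X) := fun z hz =>
    hcl z ((h z).some.toEquiv.nontrivial_congr.1 hz)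
  have e1 : ∀ {R : X.Modules}, Coh.IsCoh R → Curv2.euler k X R = FGA.eulerCharLE k X R 1 := fun {R} hR => by
    rw [(Curves.Finiteness.isGood_of_isCoh (k := k) hd hR).euler, FGA.eulerCharLE, Finset.sum_range_succ,
      Finset.sum_range_one]
    simp only [Curves.Euler.hdim, pow_zero, one_mul, pow_one, neg_one_mul]
    ring
  rw [e1 hP, e1 hQ,
    @Cyc.PP.Count.euler_eq_sum X k _ _ _ _ P hP.2 hPf
      (fun z hz => Curves.NormEuler.residueFieldMap_finite z (hclP z hz))
      (fun z hz => Cyc.SheafLen.length_ne_top hP z fun y hy hny => (hy.mem_closed (hclP y hny) rfl).symm) 1,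
    @Cyc.PP.Count.euler_eq_sum X k _ _ _ _ Q hQ.2 hQf
      (fun z hz => Curves.NormEuler.residueFieldMap_finite z (hcl z hz))
      (fun z hz => Cyc.SheafLen.length_ne_top hQ z fun y hy hny => (hy.mem_closed (hcl y hny) rfl).symm) 1]
  refine Finset.sum_congr (by simp [hsupp]) fun z _ => ?_
  rw [(h z).some.length_eq]

/-- Twisting a generically bijective inclusion by a module trivial near the cokernel. -/
theorem euler_twist [IsReduced X] (hd : topologicalKrullDim X ≤ 1) {A B E : X.Modules}
    (hA : Coh.IsCoh A) (hB : Coh.IsCoh B) (hE : Coh.IsCoh E) (s : A ⟶ B)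
    (hAt : TorSh.IsTorsionFree A) (hAEt : TorSh.IsTorsionFree (CohB1.tensorMod A E))
    (hgen : ∀ η, IsGen η → Function.Surjective (stalkMapₗ s η) ∧ Triv A η ∧ Triv B η ∧ Triv E η)
    (hz : ∀ z, ¬ Function.Surjective (stalkMapₗ s z) → Triv E z) :
    Curv2.euler k X (CohB1.tensorMod B E) - Curv2.euler k X (CohB1.tensorMod A E) =
      Curv2.euler k X B - Curv2.euler k X A := by
  haveI := Curves.GlobalSections.isNoetherian_of_proper k X
  haveI := Curves.GlobalSections.noetherianSpace_of_proper k X
  haveI : Mono s := mono_of_surjective_generic hA hAt s fun η hη =>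
    ⟨(hgen η hη).1, (hgen η hη).2.1, (hgen η hη).2.2.1⟩
  let sE : CohB1.tensorMod A E ⟶ CohB1.tensorMod B E := (tensorBy E).map s
  have hAE := RefHull.Tensor.isCoh_tensorMod hA hE
  have hBE := RefHull.Tensor.isCoh_tensorMod hB hE
  have hC : Coh.IsCoh (cokernel s) := CohBasics.Closure.isCoh_cokernel s hA.1 hB
  haveI := hC.2
  let V : X.Opens := ⟨(CohB1.support (cokernel s))ᶜ, (Modules.Support.isClosed_support _).isOpen_compl⟩
  have hV : ∀ z ∈ V, Function.Surjective (stalkMapₗ s z) :=
    Push.surjective_of_support_cokernel s fun z hz => hz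
  have hVgen : ∀ η, IsGen η → η ∉ CohB1.support (cokernel s) := fun η hη =>
    Push.notMem_support_cokernel s (hgen η hη).1
  haveI : Mono sE := mono_of_surjective_generic hAE hAEt sE fun η hη =>
    ⟨Push.surjective_tensor (U := V) s hV E η (hVgen η hη),
      triv_tensor (hgen η hη).2.1 (hgen η hη).2.2.2, triv_tensor (hgen η hη).2.2.1 (hgen η hη).2.2.2⟩
  rw [euler_ses hd hA hB s, euler_ses hd hAE hBE sE]
  have hfin : (CohB1.support (cokernel s)).Finite :=
    H97.DimOneSetup.finite_of_no_gen hd (Modules.Support.isClosed_support _) fun z hz hg => hVgen z hg hz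
  haveI : PreservesColimitsOfSize.{0, 0} (tensorBy E) := preservesSmallestColimits_of_preservesColimits _
  have key : Curv2.euler k X (cokernel sE) = Curv2.euler k X (cokernel s) := by
    refine euler_eq_of_stalks hd (CohBasics.Closure.isCoh_cokernel sE hAE.1 hBE) hC hfin
      (fun z hz => H97.DimOneSetup.isClosed_singleton_of_not_gen hd fun hg => hVgen z hg hz)
      subset_rfl fun z => ?_
    let e0 := Modules.StalkModule.stalkLinearEquiv (PreservesCokernel.iso (tensorBy E) s) z
    by_cases hsz : Function.Surjective (stalkMapₗ s z)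
    · haveI := Modules.Support.not_mem_support_iff.mp (Push.notMem_support_cokernel s hsz)
      haveI : Subsingleton ((CohB1.tensorMod (cokernel s) E).presheaf.stalk z) :=
        (RefHull.Tensor.tStalk (cokernel s) E z).toEquiv.subsingleton
      haveI : Subsingleton (((tensorBy E).obj (cokernel s)).presheaf.stalk z) :=
        inferInstanceAs (Subsingleton ((CohB1.tensorMod (cokernel s) E).presheaf.stalk z))
      haveI : Subsingleton ((cokernel sE).presheaf.stalk z) := e0.symm.toEquiv.subsingleton
      exact ⟨LinearEquiv.ofSubsingleton _ _⟩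
    · exact ⟨e0.symm.trans (exists_tensor_equiv_left (cokernel s) (hz z hsz)).some⟩
  rw [key]
  ring

end Euler

/-- Let k be an algebraically closed field, X a nodal curve over k (proper over k, connected, every
irreducible component of dimension one, at-worst-nodal singularities), and L, M coherent
torsion-free O_X-modules of rank one (regular elements of each local ring act injectively on the
stalk; the stalk at each generic point of an irreducible component has dimension one) such that
every point of X has an open neighbourhood on which L or M is isomorphic to the structure sheaf (M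
is invertible wherever L is not). Then deg(L ⊗ M) = deg(L) + deg(M), degrees of rank-one sheaves
being χ(X, −) − χ(X, O_X). (L ⊗ M is again torsion-free of rank one; that clause is not part of this
statement.) -/
theorem result (k : Type u) [Field k] [IsAlgClosed k] (X : Scheme.{u}) [X.Over (Spec (CommRingCat.of k))] [IsProper (X ↘ (Spec (CommRingCat.of k)))] [ConnectedSpace X]
    (hequi : ∀ Z ∈ irreducibleComponents (X : Type u), topologicalKrullDim Z = 1) (hX : Curv2.AtWorstNodal k X)
    (L M : X.Modules) (hLc : Coh.IsCoh L) (hMc : Coh.IsCoh M) (hLt : TorSh.IsTorsionFree L) (hMt : TorSh.IsTorsionFree M)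
    (hLr : ∀ η : X, closure ({η} : Set X) ∈ irreducibleComponents (X : Type u) → Module.finrank (X.presheaf.stalk η) (L.presheaf.stalk η) = 1)
    (hMr : ∀ η : X, closure ({η} : Set X) ∈ irreducibleComponents (X : Type u) → Module.finrank (X.presheaf.stalk η) (M.presheaf.stalk η) = 1)
    (hLM : ∀ P : X, (∃ U : X.Opens, P ∈ U ∧ Nonempty (L.restrict U.ι ≅ Coh.structureModule (↑U : Scheme.{u}))) ∨ (∃ U : X.Opens, P ∈ U ∧ Nonempty (M.restrict U.ι ≅ Coh.structureModule (↑U : Scheme.{u})))) :
    Curv2.deg k X (CohB1.tensorMod L M) 1 = Curv2.deg k X L 1 + Curv2.deg k X M 1 := by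
  classical
  haveI : IsReduced X := H25.Node.AtWorst.isReduced k X hX
  haveI := Curves.GlobalSections.isNoetherian_of_proper k X
  haveI := Curves.GlobalSections.noetherianSpace_of_proper k X
  have hd : topologicalKrullDim X ≤ 1 := TFOne.Euler.dim_le hequi
  haveI : X.IsSeparated := ⟨by
    rw [Subsingleton.elim (terminal.from X) ((X ↘ Spec (CommRingCat.of k)) ≫ terminal.from _)]
    infer_instance⟩
  have hd1 : topologicalKrullDim X = 1 := by
    obtain ⟨Z, hZ, -⟩ := exists_mem_irreducibleComponents_subset_of_isIrreducible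
      ({Classical.arbitrary X} : Set X) isIrreducible_singleton
    refine le_antisymm hd ?_
    rw [← hequi Z hZ]
    exact Topology.IsInducing.subtypeVal.topologicalKrullDim_le
  obtain ⟨A, hAamp⟩ := Groth.Agent.S1551.result X hd1
  have hAi := (Ample.Pow.isAmple_iff.1 hAamp).1
  have hfield : ∀ η : X, IsGen η → IsField (X.presheaf.stalk η) := fun η hη => by
    haveI : Subsingleton (PrimeSpectrum (X.presheaf.stalk η)) := ⟨fun a b => by
      refine (X.fromSpecStalk η).isEmbedding.injective ?_
      have ha : (X.fromSpecStalk η) a ∈ Set.range (X.fromSpecStalk η) := ⟨a, rfl⟩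
      have hb : (X.fromSpecStalk η) b ∈ Set.range (X.fromSpecStalk η) := ⟨b, rfl⟩
      rw [Scheme.range_fromSpecStalk] at ha hb
      rw [hη.eq_of_specializes ha, hη.eq_of_specializes hb]⟩
    haveI : Ring.KrullDimLE 0 (X.presheaf.stalk η) := Ring.KrullDimLE.mk₀ fun I hI => by
      rw [show I = IsLocalRing.maximalIdeal (X.presheaf.stalk η) from
        congrArg PrimeSpectrum.asIdeal (Subsingleton.elim (⟨I, hI⟩ : PrimeSpectrum (X.presheaf.stalk η))
          (IsLocalRing.closedPoint (X.presheaf.stalk η)))]
      exact IsLocalRing.maximalIdeal.isMaximal _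
    exact Ring.KrullDimLE.isField_of_isReduced
  have hgenTriv : ∀ (F : X.Modules), Coh.IsCoh F → ∀ η, IsGen η →
      Module.finrank (X.presheaf.stalk η) (F.presheaf.stalk η) = 1 → Triv F η := fun F hF η hη h1 => by
    letI := (hfield η hη).toField
    haveI := RefHull.Reflexive.finite_stalk hF η
    exact ⟨(LinearEquiv.ofFinrankEq _ _ (h1.trans (Module.finrank_self _).symm))⟩
  have hfinGen : {η : X | IsGen η}.Finite := H97.DimOneSetup.finite_gen
  have hpow : ∀ n, PicF.IsInvertible (CohB1.tensorPow A n) := fun n =>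
    TensorMod.Invertible.isInvertible_tensorPow hAi n
  have hpowc : ∀ n, Coh.IsCoh (CohB1.tensorPow A n) := fun n => Ample.GG.isCoh_of_isInvertible (hpow n)
  have hO : Coh.IsCoh (Coh.structureModule X) := RefHull.Reflexive.isCoh_structure
  have hLη : ∀ η, IsGen η → Triv L η := fun η hη => hgenTriv L hLc η hη (hLr η hη)
  have hMη : ∀ η, IsGen η → Triv M η := fun η hη => hgenTriv M hMc η hη (hMr η hη)
  have hor : ∀ z, Triv L z ∨ Triv M z := fun z => (hLM z).imp triv_of_restrict triv_of_restrict
  -- the points where a module is not trivial are finite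
  have hfinite : ∀ F : X.Modules, Coh.IsCoh F → (∀ η, IsGen η → Triv F η) →
      {z : X | ¬ Triv F z}.Finite := by
    intro F hF hFη
    obtain ⟨n, hn⟩ := Ample.GG.eventually_genAt_twist hAamp F hF
    let G := CohB1.tensorMod F (CohB1.tensorPow A n)
    have hGη : ∀ η, IsGen η → Triv G η := fun η hη => triv_tensor (hFη η hη) (triv_invertible (hpow n) η)
    obtain ⟨s, hs⟩ := exists_section (k := k) hfinGen (fun z _ => hn n le_rfl z) (F := G) (fun z hz => hGη z hz)
    haveI : Mono s := mono_of_surjective_generic hO isTorsionFree_structure s fun η hη =>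
      ⟨hs η hη, triv_structure η, hGη η hη⟩
    have hC := CohBasics.Closure.isCoh_cokernel s hO.1 (RefHull.Tensor.isCoh_tensorMod hF (hpowc n))
    haveI := hC.2
    refine (H97.DimOneSetup.finite_of_no_gen hd (Modules.Support.isClosed_support (cokernel s))
      fun z hz hg => Push.notMem_support_cokernel s (hs z hg) hz).subset fun z hz => ?_
    by_contra hzs
    let V : X.Opens := ⟨(CohB1.support (cokernel s))ᶜ, (Modules.Support.isClosed_support _).isOpen_compl⟩
    have hb : Function.Bijective (stalkMapₗ s z) :=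
      ⟨(Modules.StalkModule.mono_iff_stalkMapₗ_injective s).1 inferInstance z,
        Push.surjective_of_support_cokernel (U := V) s (fun w hw => hw) z hzs⟩
    exact hz (triv_of_tensor (triv_invertible (hpow n) z)
      ⟨(LinearEquiv.ofBijective _ hb).symm.trans (triv_structure z).some⟩)
  have hT := hfinite M hMc hMη
  have hS := hfinite L hLc hLη
  -- choose the twist and the two sections
  let Z : Set X := {η : X | IsGen η} ∪ {z | ¬ Triv M z} ∪ {z | ¬ Triv L z}
  have hZ : Z.Finite := (hfinGen.union hT).union hS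
  let Y : Set X := {η : X | IsGen η} ∪ {z | ¬ Triv M z}
  obtain ⟨n₁, hn₁⟩ := Ample.GG.eventually_genAt_twist hAamp L hLc
  obtain ⟨n₂, hn₂⟩ := Ample.GG.eventually_genAt_twist hAamp (Coh.structureModule X) hO
  let n := max n₁ n₂
  let B := CohB1.tensorPow A n
  let LB := CohB1.tensorMod L B
  have hB : Coh.IsCoh B := hpowc n
  have hBt : ∀ z, Triv B z := triv_invertible (hpow n)
  obtain ⟨t, ht⟩ := exists_section (k := k) hZ
    (fun z _ => (hn₂ n (le_max_right _ _) z).of_iso (leftUnit B)) (F := B) (fun z _ => hBt z)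
  have hYt : ∀ z ∈ Y, Triv LB z := fun z hz => by
    refine triv_tensor ?_ (hBt z)
    rcases hz with hz | hz
    · exact hLη z hz
    · exact (hor z).resolve_right hz
  obtain ⟨s, hs⟩ := exists_section (k := k) (hfinGen.union hT) (fun z _ => hn₁ n (le_max_left _ _) z)
    (F := LB) hYt
  have hLB : Coh.IsCoh LB := RefHull.Tensor.isCoh_tensorMod hLc hB
  have hLMc : Coh.IsCoh (CohB1.tensorMod L M) := RefHull.Tensor.isCoh_tensorMod hLc hMc
  have hLMt : TorSh.IsTorsionFree (CohB1.tensorMod L M) := isTorsionFree_tensor hLt hMt hor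
  have hOE : ∀ {E : X.Modules}, TorSh.IsTorsionFree E →
      TorSh.IsTorsionFree (CohB1.tensorMod (Coh.structureModule X) E) := fun {E} hE =>
    isTorsionFree_tensor isTorsionFree_structure hE fun z => Or.inl (triv_structure z)
  have h1 := euler_twist (k := k) hd hO hLB hMc s isTorsionFree_structure (hOE hMt)
    (fun η hη => ⟨hs η (Or.inl hη), triv_structure η, hYt η (Or.inl hη), hMη η hη⟩)
    (fun z hz => by
      by_contra h
      exact hz (hs z (Or.inr h)))
  have h2 := euler_twist (k := k) hd hO hB hLc t isTorsionFree_structure (hOE hLt)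
    (fun η hη => ⟨ht η (Or.inl (Or.inl hη)), triv_structure η, hBt η, hLη η hη⟩)
    (fun z hz => by
      by_contra h
      exact hz (ht z (Or.inr h)))
  have h3 := euler_twist (k := k) hd hO hB hLMc t isTorsionFree_structure (hOE hLMt)
    (fun η hη => ⟨ht η (Or.inl (Or.inl hη)), triv_structure η, hBt η, triv_tensor (hLη η hη) (hMη η hη)⟩)
    (fun z hz => by
      by_contra h
      refine hz (ht z ?_)
      by_cases hM' : Triv M z
      · exact Or.inr fun hL' => h (triv_tensor hL' hM')
      · exact Or.inl (Or.inr hM'))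
  have eq1 : Curv2.euler k X (CohB1.tensorMod LB M) =
      Curv2.euler k X (CohB1.tensorMod B (CohB1.tensorMod L M)) :=
    Curves.Euler.euler_eq_of_iso (tensorIso (comm L B) (Iso.refl M) ≪≫ assoc B L M)
  have eq2 : Curv2.euler k X LB = Curv2.euler k X (CohB1.tensorMod B L) :=
    Curves.Euler.euler_eq_of_iso (comm L B)
  have eq3 : ∀ E : X.Modules, Curv2.euler k X (CohB1.tensorMod (Coh.structureModule X) E) = Curv2.euler k X E :=
    fun E => Curves.Euler.euler_eq_of_iso (leftUnit E)
  rw [eq3] at h1 h2 h3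
  simp only [Curv2.deg]
  omega

end Groth.Agent.S15926
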