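import Groth.Statements.S15925
import Groth.Agent.S15926
import Groth.Agent.H84.NodeIdeal
import Groth.Agent.H84.NodeTwist
import Groth.Agent.H25.Node.Scheme
import Groth.Agent.H25.Node.Complete
import Groth.Agent.Lib.Cyc.SheafLen
import Mathlib.RingTheory.DiscreteValuationRing.TFAE

set_option autoImplicit false
set_option linter.style.haveILetI false
set_option maxHeartbeats 1000000
universe u
open CategoryTheory CategoryTheory.Limits AlgebraicGeometry
open Curves

namespace Groth.Agent.S15925

open Groth.Agent.Lib Groth.Agent.H97.AffineImages Groth.Agent.S15926 TopologicalSpace Opposite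
open Groth.Agent.Lib.Modules.StalkModule (stalkMapₗ stalkMapₗ_germ)
open scoped nonZeroDivisors

attribute [local instance] Curv2.stalkAlgebra

variable {X : Scheme.{u}}

/-- A finitely generated module of finite length is killed by a power of any element of the
maximal ideal. -/
theorem exists_pow_smul_eq_zero {R : Type u} [CommRing R] [IsLocalRing R] {M : Type u}
    [AddCommGroup M] [Module R M] (h : Module.length R M ≠ ⊤) {f : R}
    (hf : f ∈ IsLocalRing.maximalIdeal R) : ∃ n : ℕ, ∀ x : M, f ^ n • x = 0 := by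
  obtain ⟨hN, hA⟩ := isFiniteLength_iff_isNoetherian_isArtinian.1 (Module.length_ne_top_iff.1 h)
  obtain ⟨n, hn⟩ := monotone_stabilizes_iff_artinian.2 hA
    ⟨fun i => OrderDual.toDual (Ideal.span {f ^ i} • (⊤ : Submodule R M)),
      fun i j hij => Submodule.smul_mono
        ((Ideal.span_singleton_le_span_singleton).2 (pow_dvd_pow f hij)) le_rfl⟩
  refine ⟨n, fun x => ?_⟩
  have h1 : Ideal.span {f ^ n} • (⊤ : Submodule R M) = ⊥ := by
    refine Submodule.eq_bot_of_le_smul_of_le_jacobson_bot (Ideal.span {f}) _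
      (IsNoetherian.noetherian _) ?_ (((Ideal.span_singleton_le_iff_mem _).2 hf).trans
        (IsLocalRing.maximalIdeal_le_jacobson _))
    rw [← Submodule.mul_smul, Ideal.span_singleton_mul_span_singleton, ← pow_succ']
    exact le_of_eq (congrArg OrderDual.ofDual (hn (n + 1) n.le_succ) :)
  exact (Submodule.mem_bot R).1 (h1.le (Submodule.smul_mem_smul
    (Ideal.mem_span_singleton_self _) Submodule.mem_top))

/-- The stalk, inside the local ring, of the ideal of a finite set of closed points. -/
theorem range_idealStalk {Z : Set X} (hZ : IsClosed Z) (hfin : Z.Finite)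
    (hpt : ∀ z ∈ Z, IsClosed ({z} : Set X)) (x : X) :
    (x ∉ Z → LinearMap.range (SqZeroLift.aι (Scheme.IdealSheafData.vanishingIdeal ⟨Z, hZ⟩) x) = ⊤) ∧
    (x ∈ Z → LinearMap.range (SqZeroLift.aι (Scheme.IdealSheafData.vanishingIdeal ⟨Z, hZ⟩) x) =
      IsLocalRing.maximalIdeal (X.presheaf.stalk x)) := by
  set I := Scheme.IdealSheafData.vanishingIdeal (X := X) ⟨Z, hZ⟩
  let O : X.Opens := ⟨(Z \ {x})ᶜ, by
    rw [isOpen_compl_iff, ← Set.biUnion_of_singleton (Z \ {x})]
    exact hfin.sdiff.isClosed_biUnion fun y hy => hpt y hy.1⟩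
  have hxO : x ∈ O := fun h => h.2 rfl
  have hmem : ∀ r : X.presheaf.stalk x, (x ∈ Z → r ∈ IsLocalRing.maximalIdeal (X.presheaf.stalk x)) →
      r ∈ LinearMap.range (SqZeroLift.aι I x) := by
    intro r hr
    obtain ⟨V, hxV, s, rfl⟩ := TopCat.Presheaf.exists_germ_eq X.presheaf r
    obtain ⟨W, hW, hxW, hWV⟩ := exists_isAffineOpen_mem_and_subset (show x ∈ V ⊓ O from ⟨hxV, hxO⟩)
    have hle : W ≤ V := fun w hw => (hWV hw).1
    let s' : Γ(X, W) := X.presheaf.map (homOfLE hle).op s
    have e : X.presheaf.germ W x hxW s' = X.presheaf.germ V x hxV s :=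
      TopCat.Presheaf.germ_res_apply X.presheaf (homOfLE hle) x hxW s
    have hs : s' ∈ I.ideal ⟨W, hW⟩ := by
      rw [Scheme.IdealSheafData.vanishingIdeal_ideal, PrimeSpectrum.mem_vanishingIdeal]
      intro p hp
      have hpW : hW.fromSpec p ∈ W := hW.range_fromSpec.le ⟨p, rfl⟩
      have hpx : hW.fromSpec p = x := by
        by_contra hne
        exact (hWV hpW).2 ⟨hp, hne⟩
      have hxZ : x ∈ Z := hpx ▸ hp
      by_contra hc
      have h1 : hW.fromSpec p ∈ X.basicOpen s' := (hW.fromSpec_preimage_basicOpen s').ge hc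
      rw [hpx] at h1
      exact (IsLocalRing.mem_maximalIdeal _).mp (hr hxZ) (e ▸ (X.mem_basicOpen s' x hxW).mp h1)
    have hk : I.subschemeι.app W s' = 0 := by
      rw [← I.ker_subschemeι_app ⟨W, hW⟩] at hs
      exact hs
    obtain ⟨m, hm⟩ := (ClSub.Sections.mem_range_idealModι_app_iff I W s').2 hk
    exact ⟨_, by rw [SqZeroLift.aι_germ I hxW m, hm, e]⟩
  refine ⟨fun hx => eq_top_iff.2 fun r _ => hmem r fun h => absurd h hx,
    fun hx => le_antisymm ?_ fun r hr => hmem r fun _ => hr⟩
  have key : ∀ y ∈ Set.range I.subschemeι, ∀ t, ¬ IsUnit (SqZeroLift.aι I y t) := by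
    rintro _ ⟨z, rfl⟩ t hu
    have h0 := hu.map (I.subschemeι.stalkMap z).hom
    rw [SqZeroLift.stalkMap_aι] at h0
    exact not_isUnit_zero h0
  rintro _ ⟨t, rfl⟩
  refine (IsLocalRing.mem_maximalIdeal _).mpr (key x ?_ t)
  rw [Scheme.IdealSheafData.range_subschemeι, Scheme.IdealSheafData.coe_support_vanishingIdeal]
  exact hx

/-- The ideal module of a closed set is coherent. -/
theorem isCoh_idealMod [IsLocallyNoetherian X] (K : X.IdealSheafData) : Coh.IsCoh (ClSub.idealMod K) := by
  haveI := Ample.QAffCrit.isQCoh_idealMod K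
  refine CohBasics.Closure.isCoh_of_finite_sections fun W hW => ?_
  haveI : IsNoetherianRing Γ(X, W) := IsLocallyNoetherian.component_noetherian ⟨W, hW⟩
  haveI : Mono (_root_.ClSub.idealModι K) := (ClSub.Quot.idealSeq_shortExact K).mono_f
  let f : Γ(ClSub.idealMod K, W) →ₗ[Γ(X, W)] Γ(X, W) :=
    { toFun := fun t => ((_root_.ClSub.idealModι K).app W t : Γ(X, W))
      map_add' := fun s t => map_add _ s t
      map_smul' := fun c t => Scheme.Modules.Hom.app_smul _ c t }
  exact Module.Finite.of_injective f
    ((Modules.Stalk.mono_iff_app_injective _).1 inferInstance W)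


/-- Let k be an algebraically closed field, X a nodal curve over k (proper over k, connected, every
irreducible component of dimension one, at-worst-nodal singularities) and L a coherent torsion-free
O_X-module of rank one (regular elements of each local ring act injectively on the stalk; the stalk
at each generic point of an irreducible component has dimension one). Let S be the set of points of
X at which L is not invertible, i.e. which have no open neighbourhood on which L is isomorphic to
the structure sheaf. Then there is an invertible O_X-module M with L ≅ I_S ⊗ M, where I_S is the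
ideal sheaf of the reduced closed subscheme on the closure of S, viewed as an O_X-module. (S is a
finite set of nodes P_1, …, P_m, so I_S ⊗ M is the tensor product m_{P_1} ⊗ ⋯ ⊗ m_{P_m} ⊗ M of the
ideal sheaves of these points with M, which is the published form; existence of an isomorphism
only.) -/
theorem result (k : Type u) [Field k] [IsAlgClosed k] (X : Scheme.{u}) [X.Over (Spec (CommRingCat.of k))] [IsProper (X ↘ (Spec (CommRingCat.of k)))] [ConnectedSpace X]
    (hequi : ∀ Z ∈ irreducibleComponents (X : Type u), topologicalKrullDim Z = 1) (hX : Curv2.AtWorstNodal k X)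
    (L : X.Modules) (hLc : Coh.IsCoh L) (hLt : TorSh.IsTorsionFree L)
    (hrk : ∀ η : X, closure ({η} : Set X) ∈ irreducibleComponents (X : Type u) → Module.finrank (X.presheaf.stalk η) (L.presheaf.stalk η) = 1) :
    ∃ M : X.Modules, PicF.IsInvertible M ∧
      Nonempty (L ≅ CohB1.tensorMod (ClSub.idealMod (Scheme.IdealSheafData.vanishingIdeal
        ⟨closure {P : X | ¬ ∃ U : X.Opens, P ∈ U ∧ Nonempty (L.restrict U.ι ≅ Coh.structureModule (↑U : Scheme.{u}))}, isClosed_closure⟩)) M) := by
  classical
  haveI : IsReduced X := H25.Node.AtWorst.isReduced k X hX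
  haveI := Curves.GlobalSections.isNoetherian_of_proper k X
  haveI := Curves.GlobalSections.noetherianSpace_of_proper k X
  have hd : topologicalKrullDim X ≤ 1 := TFOne.Euler.dim_le hequi
  haveI : X.IsSeparated := ⟨by
    rw [Subsingleton.elim (terminal.from X) ((X ↘ Spec (CommRingCat.of k)) ≫ terminal.from _)]
    infer_instance⟩
  have hd1 : topologicalKrullDim X = 1 := by
    obtain ⟨Z, hZ, -⟩ := exists_mem_irreducibleComponents_subset_of_isIrreducible
      ({Classical.arbitrary X} : Set X) isIrreducible_singleton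
    refine le_antisymm hd ?_
    rw [← hequi Z hZ]
    exact Topology.IsInducing.subtypeVal.topologicalKrullDim_le
  have hfield : ∀ η : X, IsGen η → IsField (X.presheaf.stalk η) := fun η hη => by
    haveI : Subsingleton (PrimeSpectrum (X.presheaf.stalk η)) := ⟨fun a b => by
      refine (X.fromSpecStalk η).isEmbedding.injective ?_
      have ha : (X.fromSpecStalk η) a ∈ Set.range (X.fromSpecStalk η) := ⟨a, rfl⟩
      have hb : (X.fromSpecStalk η) b ∈ Set.range (X.fromSpecStalk η) := ⟨b, rfl⟩
      rw [Scheme.range_fromSpecStalk] at ha hb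
      rw [hη.eq_of_specializes ha, hη.eq_of_specializes hb]⟩
    haveI : Ring.KrullDimLE 0 (X.presheaf.stalk η) := Ring.KrullDimLE.mk₀ fun I hI => by
      rw [show I = IsLocalRing.maximalIdeal (X.presheaf.stalk η) from
        congrArg PrimeSpectrum.asIdeal (Subsingleton.elim (⟨I, hI⟩ : PrimeSpectrum (X.presheaf.stalk η))
          (IsLocalRing.closedPoint (X.presheaf.stalk η)))]
      exact IsLocalRing.maximalIdeal.isMaximal _
    exact Ring.KrullDimLE.isField_of_isReduced
  have hLη : ∀ η, IsGen η → Triv L η := fun η hη => by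
    letI := (hfield η hη).toField
    haveI := RefHull.Reflexive.finite_stalk hLc η
    exact ⟨LinearEquiv.ofFinrankEq _ _ ((hrk η hη).trans (Module.finrank_self _).symm)⟩
  have hO : Coh.IsCoh (Coh.structureModule X) := RefHull.Reflexive.isCoh_structure
  -- a twist of `L` with a section that is generically bijective
  obtain ⟨A, hAamp⟩ := Groth.Agent.S1551.result X hd1
  have hAi := (Ample.Pow.isAmple_iff.1 hAamp).1
  obtain ⟨n, hn⟩ := Ample.GG.eventually_genAt_twist hAamp L hLc
  have hB : PicF.IsInvertible (CohB1.tensorPow A n) := TensorMod.Invertible.isInvertible_tensorPow hAi n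
  let G := CohB1.tensorMod L (CohB1.tensorPow A n)
  have hGc : Coh.IsCoh G := RefHull.Tensor.isCoh_tensorMod hLc (Ample.GG.isCoh_of_isInvertible hB)
  have hGη : ∀ η, IsGen η → Triv G η := fun η hη => triv_tensor (hLη η hη) (triv_invertible hB η)
  obtain ⟨s, hs⟩ := exists_section (k := k) (H97.DimOneSetup.finite_gen (X := X))
    (fun z _ => hn n le_rfl z) (F := G) (fun z hz => hGη z hz)
  haveI : Mono s := mono_of_surjective_generic hO isTorsionFree_structure s fun η hη =>
    ⟨hs η hη, triv_structure η, hGη η hη⟩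
  have hC := CohBasics.Closure.isCoh_cokernel s hO.1 hGc
  haveI := hC.2
  have hsupp : ∀ z ∈ CohB1.support (cokernel s), ¬ IsGen z := fun z hz hg =>
    H84.CohAmple.Push.notMem_support_cokernel s (hs z hg) hz
  have hinjs : ∀ z, Function.Injective (stalkMapₗ s z) :=
    (Modules.StalkModule.mono_iff_stalkMapₗ_injective s).1 inferInstance
  -- the exceptional set
  set S : Set X := {P : X | ¬ ∃ U : X.Opens, P ∈ U ∧
    Nonempty (L.restrict U.ι ≅ Coh.structureModule (↑U : Scheme.{u}))}
  have hTriv : ∀ z, z ∉ S ↔ Triv L z := fun z => by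
    refine ⟨fun hz => triv_of_restrict (not_not.1 hz), fun ⟨e⟩ hz => hz ?_⟩
    obtain ⟨U, hzU, -, ⟨i⟩⟩ := TFNodal.Spread.exists_iso_restrict hLc hO
      (e.trans (RefHull.Reflexive.oEquiv z).symm) (V := ⊤) trivial
    exact ⟨U, hzU, ⟨i ≪≫ Scheme.Modules.restrictUnitIso U.ι⟩⟩
  have hnotgen : ∀ z ∈ S, ¬ IsGen z := fun z hz hg => (hTriv z).2 (hLη z hg) hz
  have hSfin : S.Finite := by
    refine (H97.DimOneSetup.finite_of_no_gen hd (Modules.Support.isClosed_support (cokernel s))
      hsupp).subset fun z hz => ?_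
    by_contra hzs
    let V : X.Opens := ⟨(CohB1.support (cokernel s))ᶜ, (Modules.Support.isClosed_support _).isOpen_compl⟩
    have hb : Function.Bijective (stalkMapₗ s z) := ⟨hinjs z,
      H84.CohAmple.Push.surjective_of_support_cokernel (U := V) s (fun w hw => hw) z hzs⟩
    exact (hTriv z).2 (triv_of_tensor (triv_invertible hB z)
      ⟨(LinearEquiv.ofBijective _ hb).symm.trans (triv_structure z).some⟩) hz
  have hpt : ∀ z ∈ S, IsClosed ({z} : Set X) := fun z hz =>
    H97.DimOneSetup.isClosed_singleton_of_not_gen hd (hnotgen z hz)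
  have hScl : IsClosed S := by
    rw [← Set.biUnion_of_singleton S]
    exact hSfin.isClosed_biUnion hpt
  -- the stalks at the exceptional points
  have hpoint : ∀ z ∈ S, Nonempty (L.presheaf.stalk z ≃ₗ[X.presheaf.stalk z]
      IsLocalRing.maximalIdeal (X.presheaf.stalk z)) ∧
      ∃ f ∈ IsLocalRing.maximalIdeal (X.presheaf.stalk z), f ∈ (X.presheaf.stalk z)⁰ := by
    intro z hz
    let R := X.presheaf.stalk z
    have hdimR : ringKrullDim R ≤ 1 := H97.DimOneSetup.ringKrullDim_stalk_le_one hd z
    haveI : Ring.KrullDimLE 1 R := Ring.krullDimLE_iff.2 hdimR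
    have hnf : ¬ IsField R := fun hF => by
      letI := hF.toField
      obtain ⟨η, hη, hηz⟩ := exists_gen_specializes z
      have h1 : z ∈ Set.range (X.fromSpecStalk z) := by
        rw [Scheme.range_fromSpecStalk]; exact specializes_rfl
      have h2 : η ∈ Set.range (X.fromSpecStalk z) := by
        rw [Scheme.range_fromSpecStalk]; exact hηz
      obtain ⟨a, ha⟩ := h1
      obtain ⟨b, hb⟩ := h2
      have hss : Subsingleton (PrimeSpectrum R) := ⟨fun a b => PrimeSpectrum.ext
        (((Ideal.eq_bot_or_top a.asIdeal).resolve_right a.2.ne_top).trans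
          ((Ideal.eq_bot_or_top b.asIdeal).resolve_right b.2.ne_top).symm)⟩
      exact hnotgen z hz ((ha.symm.trans ((congrArg _ (hss.elim a b)).trans hb)) ▸ hη)
    -- a regular element of the maximal ideal, and the dichotomy for ideals
    suffices hf : ∃ f ∈ IsLocalRing.maximalIdeal R, f ∈ R⁰ ∧ ∀ (I : Ideal R) (g : R), g ∈ I → g ∈ R⁰ →
        Nonempty (I ≃ₗ[R] R) ∨ Nonempty (I ≃ₗ[R] IsLocalRing.maximalIdeal R) by
      obtain ⟨f, hfm, hf, halg⟩ := hf
      obtain ⟨eG⟩ := exists_tensor_equiv_left L (triv_invertible hB z)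
      let e0 : (Coh.structureModule X).presheaf.stalk z := (RefHull.Reflexive.oEquiv z).symm 1
      have hlen : Module.length R ((cokernel s).presheaf.stalk z) ≠ ⊤ :=
        Cyc.SheafLen.length_ne_top hC z fun y hy hny => by
          have hys : y ∈ CohB1.support (cokernel s) := not_subsingleton_iff_nontrivial.2 hny
          exact (hy.mem_closed (H97.DimOneSetup.isClosed_singleton_of_not_gen hd (hsupp y hys)) rfl).symm
      obtain ⟨N, hN⟩ := exists_pow_smul_eq_zero hlen hfm
      have hex : Function.Exact (stalkMapₗ s z) (stalkMapₗ (cokernel.π s) z) :=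
        (ShortComplex.ShortExact.moduleCat_exact_iff_function_exact _).1
          ((ShortComplex.exact_of_g_is_cokernel (ShortComplex.mk s (cokernel.π s) (cokernel.condition s))
            (cokernelIsCokernel s)).map (Modules.StalkModule.stalkModFunctor X z))
      obtain ⟨I, hcI, ⟨eI⟩⟩ := H84.NodeIdeal.exists_ideal_equiv (R := R)
        (M := L.presheaf.stalk z)
        (fun r hr x hx => (hLt z).isSMulRegular (isRegular_iff_mem_nonZeroDivisors.2 hr)
          (hx.trans (smul_zero r).symm))
        (eG (stalkMapₗ s z e0))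
        (fun r hr => by
          rw [← map_smul, LinearEquiv.map_eq_zero_iff, ← map_smul] at hr
          have h0 := hinjs z (hr.trans (map_zero _).symm)
          rw [← map_smul, LinearEquiv.map_eq_zero_iff, smul_eq_mul, mul_one] at h0
          exact h0)
        (pow_mem hf N) (fun x => by
          obtain ⟨w, hw⟩ := (hex (f ^ N • eG.symm x)).1 (by rw [map_smul]; exact hN _)
          refine Submodule.mem_span_singleton.2 ⟨RefHull.Reflexive.oEquiv z w, ?_⟩
          rw [← map_smul, ← map_smul, ← map_smul, smul_eq_mul, mul_one,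
            LinearEquiv.symm_apply_apply, hw, map_smul, LinearEquiv.apply_symm_apply])
      refine ⟨?_, f, hfm, hf⟩
      rcases halg I _ hcI (pow_mem hf N) with h | h
      · exact absurd hz ((hTriv z).2 ⟨eI.trans h.some⟩)
      · exact ⟨eI.trans h.some⟩
    rcases hX z (hpt z hz) with h | h
    · haveI := H25.Node.AtWorst.regular_of_smooth k X ((H25.Node.AtWorst.exists_smooth_iff k X z).1 h)
      haveI : IsDomain R := Lib.Regular.Quotient.isDomain R
      haveI : IsPrincipalIdealRing R := by
        refine ((tfae_of_isNoetherianRing_of_isLocalRing_of_isDomain R).out 0 5).2 ?_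
        have h1 := (IsRegularLocalRing.iff_finrank_cotangentSpace R).1 inferInstance
        exact_mod_cast h1.le.trans hdimR
      obtain ⟨f, hfm, hf0⟩ : ∃ f ∈ IsLocalRing.maximalIdeal R, f ≠ 0 :=
        Submodule.exists_mem_ne_zero_of_ne_bot fun h =>
          hnf (IsLocalRing.isField_iff_maximalIdeal_eq.2 h)
      exact ⟨f, hfm, mem_nonZeroDivisors_of_ne_zero hf0, fun I g hgI hg =>
        Or.inl (H84.NodeIdeal.equiv_ring_of_principal hgI hg
          (IsPrincipalIdealRing.principal I).principal.choose_spec)⟩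
    · obtain ⟨-, -, hnode⟩ := (H25.Node.Sch.isNode_iff k X z).1 h
      obtain ⟨hred, -⟩ := H25.Node.AtWorst.node_props k X h
      haveI := hred
      obtain ⟨a, b, hab, hab3⟩ := H25.Node.Complete.exists_pair k
        (H25.Node.Sch.residue_surjective k X z (hpt z hz)) hnode
      obtain ⟨f, hfm, hf⟩ := TFOne.Generic.exists_mem_nonZeroDivisors (IsLocalRing.maximalIdeal R)
        fun p hp hle => by
          haveI := Ideal.minimalPrimes_isPrime hp
          have hpm : p = IsLocalRing.maximalIdeal R :=
            le_antisymm (IsLocalRing.le_maximalIdeal (Ideal.IsPrime.ne_top inferInstance)) hle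
          have h0 : (IsLocalRing.maximalIdeal R).height = 0 := Ideal.height_eq_zero_iff.2 (hpm ▸ hp)
          have h1 := IsLocalRing.maximalIdeal_height_eq_ringKrullDim (R := R)
          rw [h0, (H25.Node.AtWorst.node_props k X h).2] at h1
          exact absurd h1 (by simp)
      exact ⟨f, hfm, hf, fun I g hgI hg =>
        H84.NodeIdeal.equiv_ring_or_maximalIdeal hnode hab hab3 hfm hf I hgI hg⟩
  -- the ideal of the set and the twist
  have hC0 : (⟨closure S, isClosed_closure⟩ : Closeds X) = ⟨S, hScl⟩ :=
    Closeds.ext hScl.closure_eq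
  rw [show (Scheme.IdealSheafData.vanishingIdeal (X := X) ⟨closure S, isClosed_closure⟩) =
    Scheme.IdealSheafData.vanishingIdeal ⟨S, hScl⟩ from congrArg _ hC0]
  set I := Scheme.IdealSheafData.vanishingIdeal (X := X) ⟨S, hScl⟩
  have hr := fun x => range_idealStalk hScl hSfin hpt x
  let eI : ∀ x, (ClSub.idealMod I).presheaf.stalk x ≃ₗ[X.presheaf.stalk x]
      LinearMap.range (SqZeroLift.aι I x) := fun x =>
    LinearEquiv.ofInjective _ (SqZeroLift.aι_injective I x)
  refine H84.NodeTwist.exists_twist (isCoh_idealMod I) hLc hSfin hpt ?_ ?_ ?_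
  · intro x r hr0
    by_cases hx : x ∈ S
    · obtain ⟨-, f, hfm, hf⟩ := hpoint x hx
      obtain ⟨a, ha⟩ := ((hr x).2 hx).ge hfm
      have h := congrArg (SqZeroLift.aι I x) (hr0 a)
      rw [map_smul, map_zero, ha] at h
      exact mem_nonZeroDivisors_iff_right.1 hf r h
    · obtain ⟨a, ha⟩ := ((hr x).1 hx).ge (Submodule.mem_top (x := (1 : X.presheaf.stalk x)))
      have h := congrArg (SqZeroLift.aι I x) (hr0 a)
      rw [map_smul, map_zero, ha, smul_eq_mul, mul_one] at h
      exact h
  · intro x hx
    exact ⟨((eI x).trans (LinearEquiv.ofEq _ _ ((hr x).1 hx))).trans Submodule.topEquiv⟩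
  · intro x
    by_cases hx : x ∈ S
    · obtain ⟨⟨e⟩, -⟩ := hpoint x hx
      exact ⟨((eI x).trans (LinearEquiv.ofEq _ _ ((hr x).2 hx))).trans e.symm⟩
    · obtain ⟨e⟩ := (hTriv x).1 hx
      exact ⟨(((eI x).trans (LinearEquiv.ofEq _ _ ((hr x).1 hx))).trans Submodule.topEquiv).trans e.symm⟩

end Groth.Agent.S15925
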