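import Groth.Statements.S15937
import Groth.Agent.Lib.BlowStrict85.Data
-- import your own Groth.Agent.* helpers here

set_option autoImplicit false
universe u
open CategoryTheory CategoryTheory.Limits AlgebraicGeometry
open IntTh

namespace Groth.Agent.S15937

set_option linter.style.haveILetI false

open Groth.Agent.Lib Groth.Agent.Lib.BlowStrict85 RingTheory.Sequence

/-- Let X ⟶ S, Y ⟶ S and Z ⟶ S be locally projective, flat, surjective and locally of finite
presentation, with fibres of local dimension n, n − c and n − c − c′ at every point respectively (c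
+ c′ ≤ n), where i : Y ⟶ X and i′ : Z ⟶ Y are closed immersions over S that are regular of constant
codimensions c and c′ (locally cut out by regular sequences of those lengths). Let b′ : M′ ⟶ P¹_Y be
a blowing-up of P¹_Y in Z × {∞} and b : M ⟶ P¹_X a blowing-up of P¹_X in the image of Z × {∞} (the
deformations to the normal cone of i′ and of i′ followed by i), both given through the universal
property. Then every morphism j : M′ ⟶ M whose composite with b equals b′ followed by the morphism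
P¹_Y ⟶ P¹_X induced by i (there is exactly one such j) is a closed immersion and a regular
immersion, locally cut out by a regular sequence. -/
theorem result
    {S X Y Z M M' : Scheme.{u}} (f : X ⟶ S) (n c c' : ℕ) (hc : c + c' ≤ n)
    (hfproj : RedSub.IsLocallyProjective (Over.mk f))
    [Flat f] [Surjective f] [LocallyOfFinitePresentation f]
    (hfdim : ∀ x : ↥X, FlatMor.fibreDimAt f x = n)
    (i : Y ⟶ X) [IsClosedImmersion i]
    (hi : RegImm.IsRegularImmersionOfCodim RegImm.Kind.regular c i)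
    (hgproj : RedSub.IsLocallyProjective (Over.mk (i ≫ f)))
    [Flat (i ≫ f)] [Surjective (i ≫ f)] [LocallyOfFinitePresentation (i ≫ f)]
    (hgdim : ∀ y : ↥Y, FlatMor.fibreDimAt (i ≫ f) y = ((n - c : ℕ) : WithBot ℕ∞))
    (i' : Z ⟶ Y) [IsClosedImmersion i']
    (hi' : RegImm.IsRegularImmersionOfCodim RegImm.Kind.regular c' i')
    (hhproj : RedSub.IsLocallyProjective (Over.mk (i' ≫ i ≫ f)))
    [Flat (i' ≫ i ≫ f)] [Surjective (i' ≫ i ≫ f)] [LocallyOfFinitePresentation (i' ≫ i ≫ f)]
    (hhdim : ∀ z : ↥Z, FlatMor.fibreDimAt (i' ≫ i ≫ f) z = ((n - c - c' : ℕ) : WithBot ℕ∞))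
    (b' : M' ⟶ CohB1.ProjSpaceOver 1 Y) (hb' : BlowUp.IsBlowUp b' (i' ≫ P1.sect Y 1).ker)
    (b : M ⟶ CohB1.ProjSpaceOver 1 X) (hb : BlowUp.IsBlowUp b (i' ≫ i ≫ P1.sect X 1).ker)
    (j : M' ⟶ M) (hj : j ≫ b = b' ≫ P1.toP1 i) :
    IsClosedImmersion j ∧ RegImm.IsRegularImmersion RegImm.Kind.regular j := by
  haveI := isClosedImmersion_toP1 i
  haveI := isClosedImmersion_toP1 i'
  obtain ⟨h1, h2⟩ := comap_centre i i'
  obtain ⟨g1, g2⟩ := comap_centre i' (𝟙 Z)
  rw [Category.id_comp, Category.id_comp] at g1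
  rw [Category.id_comp] at g2
  have hY : ∀ y : CohB1.ProjSpaceOver 1 Y, ∃ (V : (CohB1.ProjSpaceOver 1 Y).affineOpens) (m : ℕ)
      (s : Fin m → Γ(CohB1.ProjSpaceOver 1 Y, V.1)), y ∈ V.1 ∧ IsWeaklyRegular Γ(CohB1.ProjSpaceOver 1 Y, V.1) (List.ofFn s) ∧
        (i' ≫ P1.sect Y 1).ker.ideal V = Ideal.span (Set.range s) := by
    intro y
    by_cases hy : y ∈ (i' ≫ P1.sect Y 1).ker.support
    · rw [← SetLike.mem_coe, Scheme.Hom.support_ker,
        (i' ≫ P1.sect Y 1).isClosedEmbedding.isClosed_range.closure_eq] at hy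
      obtain ⟨z₀, rfl⟩ := hy
      have hE : BlowUp.IsEffCartierIdeal ((i' ≫ P1.sect Y 1).ker.comap (P1.toP1 i')) := by
        rw [g1]; exact isEffCartier_sect Z 1
      obtain ⟨U, hU, a, hyU, ha, hka⟩ := exists_seq_toP1 i' hi' (P1.sect Z 1 z₀)
      obtain ⟨V, m, s, hyV, hs, hsI⟩ := exists_seq_of_isEffCartier hE (P1.sect Z 1 z₀)
      obtain ⟨U', c₀, a', hz, -, ha', -, hI'⟩ :=
        exists_data (P1.toP1 i') _ g2 _ hU hyU a ha hka V hyV s hs hsI
      refine ⟨U', c₀, a', ?_, ha', hI'⟩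
      rw [← Scheme.Hom.comp_apply, sect_comp_toP1] at hz
      exact hz
    · obtain ⟨V, hV, hyV, hle⟩ := exists_isAffineOpen_mem_and_subset
        (show y ∈ (i' ≫ P1.sect Y 1).ker.support.compl from hy)
      refine ⟨⟨V, hV⟩, 1, fun _ => 1, hyV, ?_, ?_⟩
      · rw [List.ofFn_succ, List.ofFn_zero, isWeaklyRegular_singleton_iff]
        exact fun p q h => by simpa using h
      · rw [Set.range_const, Ideal.span_singleton_one, ← PrimeSpectrum.zeroLocus_empty_iff_eq_top]
        refine Set.eq_empty_iff_forall_notMem.mpr fun z hz => ?_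
        have hzS : hV.fromSpec z ∈ ((i' ≫ P1.sect Y 1).ker.support : Set _) ∩ V := by
          rw [(i' ≫ P1.sect Y 1).ker.coe_support_inter ⟨V, hV⟩, ← hV.fromSpec_image_zeroLocus]
          exact Set.mem_image_of_mem _ hz
        exact hle hzS.2 hzS.1
  obtain ⟨hc, hreg⟩ := isRegularImmersion_strict (P1.toP1 i) _ b hb b' (by rw [h1]; exact hb') j hj c
    fun y => by
      obtain ⟨U, hU, a, hyU, ha, hka⟩ := exists_seq_toP1 i hi y
      obtain ⟨V, m, s, hyV, hs, hsI⟩ := hY y
      exact exists_data (P1.toP1 i) _ h2 y hU hyU a ha hka V hyV s hs (by rw [h1]; exact hsI)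
  refine ⟨hc, hreg.1, fun z => ?_⟩
  obtain ⟨U, hzU, hcl, rs, -, h3, h4⟩ := hreg.2 z
  exact ⟨U, hzU, hcl, rs, h3, h4⟩

end Groth.Agent.S15937
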