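import Groth.Statements.S15939
import Mathlib

set_option autoImplicit false
universe u
open CAlg

namespace Groth.Agent.S15939

open Polynomial in
/-- Let κ be a field and A a commutative κ-algebra whose only κ-subalgebras are the image of κ and A
itself, these two being different. Then A is finite-dimensional over κ, and A is isomorphic as a
κ-algebra to the dual numbers over κ, or to κ × κ, or A is a field which is either separable over κ
or isomorphic to κ[X]/(X^p - a) with p the (positive) characteristic of κ and a an element of κ that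
is not a p-th power. (The published statement also records that these four cases exclude one
another; that part is not restated.) -/
theorem result (κ A : Type u) [Field κ] [CommRing A] [Algebra κ A]
    (h : IsSimpleOrder (Subalgebra κ A)) :
    FiniteDimensional κ A ∧
    (Nonempty (A ≃ₐ[κ] DualNumber κ) ∨ Nonempty (A ≃ₐ[κ] (κ × κ)) ∨
      (IsField A ∧ (Algebra.IsSeparable κ A ∨
        ∃ (p : ℕ) (a : κ), p.Prime ∧ CharP κ p ∧ (∀ b : κ, b ^ p ≠ a) ∧
          Nonempty (A ≃ₐ[κ] AdjoinRoot (X ^ p - C a))))) := by
  haveI := h
  have hbt : ∀ S : Subalgebra κ A, S = ⊥ ∨ S = ⊤ := fun S => eq_bot_or_eq_top S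
  have hgen : ∀ x : A, x ∉ (⊥ : Subalgebra κ A) → Algebra.adjoin κ {x} = ⊤ := fun x hx =>
    (hbt _).resolve_left fun e => hx (e ▸ Algebra.subset_adjoin rfl)
  obtain ⟨a, ha⟩ : ∃ a : A, a ∉ (⊥ : Subalgebra κ A) := by
    by_contra! hc
    exact bot_ne_top (α := Subalgebra κ A) (eq_top_iff.mpr fun x _ => hc x)
  haveI : Nontrivial A := by
    by_contra hn
    haveI := not_nontrivial_iff_subsingleton.mp hn
    exact ha ((Subsingleton.elim (0 : A) a) ▸ zero_mem _)
  have hsurj : ∀ {B : Type u} [Semiring B] [Algebra κ B] (f : B →ₐ[κ] A) (x : A),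
      x ∉ (⊥ : Subalgebra κ A) → x ∈ f.range → Function.Surjective f := fun f x hx hxf => by
    rw [← AlgHom.range_eq_top]
    exact (hbt _).resolve_left fun e => hx (e ▸ hxf)
  have hint : IsIntegral κ a := by
    by_contra hni
    have htr : Transcendental κ a := fun halg => hni halg.isIntegral
    have h2 : a ^ 2 ∉ (⊥ : Subalgebra κ A) := by
      rw [Algebra.mem_bot]
      rintro ⟨c, hc⟩
      exact htr ⟨X ^ 2 - C c, X_pow_sub_C_ne_zero (by norm_num) c, by simp [hc]⟩
    obtain ⟨P, hP⟩ := (Algebra.adjoin_singleton_eq_range_aeval κ (a ^ 2) ▸ (hgen _ h2).symm ▸ Algebra.mem_top :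
      a ∈ (Polynomial.aeval (a ^ 2) : κ[X] →ₐ[κ] A).range)
    refine htr ⟨Polynomial.expand κ 2 P - X, fun e => ?_, by
      simp only [map_sub, Polynomial.expand_aeval, Polynomial.aeval_X]
      exact sub_eq_zero.mpr hP⟩
    have := congrArg Polynomial.natDegree (sub_eq_zero.mp e)
    rw [Polynomial.natDegree_expand, Polynomial.natDegree_X] at this
    omega
  haveI hfin : FiniteDimensional κ A := by
    have := hint.fg_adjoin_singleton
    rw [hgen a ha, Algebra.top_toSubmodule] at this
    exact ⟨this⟩
  refine ⟨hfin, ?_⟩
  have hbot : ∀ {x : A}, x ∈ (⊥ : Subalgebra κ A) ↔ ∃ c : κ, algebraMap κ A c = x := fun {x} => Algebra.mem_bot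
  by_cases hA : IsField A
  · refine Or.inr (Or.inr ⟨hA, ?_⟩)
    letI : Field A := hA.toField
    obtain ⟨q, hq⟩ := ExpChar.exists κ
    cases hq with
    | zero => exact Or.inl inferInstance
    | prime hp =>
      haveI := Fact.mk hp
      rcases hbt (separableClosure κ A).toSubalgebra with hs | hs
      swap
      · left
        have : separableClosure κ A = ⊤ := IntermediateField.toSubalgebra_injective (by rw [hs, IntermediateField.top_toSubalgebra])
        exact (separableClosure.eq_top_iff κ A).mp this
      right
      have hs' : separableClosure κ A = ⊥ := IntermediateField.toSubalgebra_injective (by rw [hs, IntermediateField.bot_toSubalgebra])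
      haveI : IsPurelyInseparable κ A := by
        rw [← separableClosure.eq_bot_iff]
        exact hs'
      haveI : ExpChar κ q := ExpChar.prime hp
      have hex : ∃ n, a ^ q ^ n ∈ (algebraMap κ A).range := IsPurelyInseparable.pow_mem κ q a
      classical
      obtain ⟨m, hm⟩ : ∃ m, Nat.find hex = m + 1 := by
        refine ⟨Nat.find hex - 1, ?_⟩
        have : Nat.find hex ≠ 0 := fun h0 => by
          have := Nat.find_spec hex
          rw [h0, pow_zero, pow_one] at this
          exact ha (hbot.mpr this)
        omega
      set b := a ^ q ^ m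
      have hb : b ∉ (⊥ : Subalgebra κ A) := fun hb => Nat.find_min hex (show m < Nat.find hex by omega) (hbot.mp hb)
      obtain ⟨c, hc⟩ := Nat.find_spec hex
      have hbc : b ^ q = algebraMap κ A c := by rw [hc, hm, pow_succ, pow_mul]
      have hnp : ∀ d : κ, d ^ q ≠ c := by
        intro d hd
        haveI : CharP A q := charP_of_injective_algebraMap' κ q
        apply hb
        refine hbot.mpr ⟨d, ?_⟩
        have h0 : (b - algebraMap κ A d) ^ q = 0 := by rw [sub_pow_char, hbc, ← map_pow, hd, sub_self]
        exact (sub_eq_zero.mp (eq_zero_of_pow_eq_zero h0)).symm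
      refine ⟨q, c, hp, inferInstance, hnp, ⟨(AlgEquiv.ofBijective
        (AdjoinRoot.liftAlgHom (X ^ q - C c) (Algebra.ofId κ A) b (by simp [hbc])) ⟨?_, ?_⟩).symm⟩⟩
      · haveI := Fact.mk (X_pow_sub_C_irreducible_of_prime hp hnp)
        exact RingHom.injective _
      · exact hsurj _ b hb ⟨AdjoinRoot.root _, by simp⟩
  · obtain ⟨x, hx0, hxu⟩ : ∃ x : A, x ≠ 0 ∧ ¬ IsUnit x := by
      by_contra! hc
      exact hA ⟨exists_pair_ne A, mul_comm, fun {y} hy => ⟨_, (hc y hy).mul_val_inv⟩⟩
    have hxb : x ∉ (⊥ : Subalgebra κ A) := fun hx => by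
      obtain ⟨c, rfl⟩ := hbot.mp hx
      exact hxu ((isUnit_iff_ne_zero.mpr fun hc => hx0 (by rw [hc, map_zero])).map _)
    by_cases hx2 : x * x = 0
    · left
      refine ⟨(AlgEquiv.ofBijective (DualNumber.lift ⟨(Algebra.ofId κ A, x), hx2, fun r => Commute.all _ _⟩) ⟨?_, ?_⟩).symm⟩
      · rw [injective_iff_map_eq_zero]
        intro z hz
        rw [DualNumber.lift_apply_apply] at hz
        simp [Algebra.ofId_apply] at hz
        have h1 : algebraMap κ A z.fst * x = 0 := by linear_combination x * hz - algebraMap κ A z.snd * hx2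
        have hz1 : z.fst = 0 := by
          by_contra hc
          exact hx0 (((isUnit_iff_ne_zero.mpr hc).map (algebraMap κ A)).mul_right_eq_zero.mp h1)
        have hz2 : z.snd = 0 := by
          by_contra hc
          rw [hz1, map_zero, zero_add] at hz
          exact hx0 (((isUnit_iff_ne_zero.mpr hc).map (algebraMap κ A)).mul_right_eq_zero.mp hz)
        exact TrivSqZeroExt.ext hz1 hz2
      · exact hsurj _ x hxb ⟨DualNumber.eps, by simp⟩
    · right; left
      have hI : ∀ z : A, z ≠ 0 → ¬ IsUnit z → ∀ y : A, ∃ c : κ, ∃ r : A, y = algebraMap κ A c + r * z := by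
        intro z hz0 hzu y
        let S : Subalgebra κ A :=
          { carrier := {y | ∃ c : κ, ∃ r : A, y = algebraMap κ A c + r * z}
            add_mem' := by
              rintro _ _ ⟨c, r, rfl⟩ ⟨c', r', rfl⟩
              exact ⟨c + c', r + r', by rw [map_add]; ring⟩
            mul_mem' := by
              rintro _ _ ⟨c, r, rfl⟩ ⟨c', r', rfl⟩
              exact ⟨c * c', algebraMap κ A c * r' + r * algebraMap κ A c' + r * r' * z, by rw [map_mul]; ring⟩
            algebraMap_mem' := fun c => ⟨c, 0, by simp⟩ }
        have hS : S = ⊤ := (hbt S).resolve_left fun e => by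
          have hzS : z ∈ S := ⟨0, 1, by simp⟩
          rw [e] at hzS
          obtain ⟨c, hc⟩ := hbot.mp hzS
          exact hzu (hc ▸ (isUnit_iff_ne_zero.mpr fun h0 => hz0 (by rw [← hc, h0, map_zero])).map _)
        have hyS : y ∈ S := hS ▸ Algebra.mem_top
        exact hyS
      obtain ⟨c, r, hr⟩ := hI (x * x) hx2 (fun hu => hxu (isUnit_of_mul_isUnit_left hu)) x
      have hc0 : c = 0 := by
        by_contra hc
        refine hxu (isUnit_of_mul_isUnit_left (y := 1 - r * x) ?_)
        rw [show x * (1 - r * x) = algebraMap κ A c by linear_combination hr]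
        exact (isUnit_iff_ne_zero.mpr hc).map _
      rw [hc0, map_zero, zero_add] at hr
      set e := r * x with he_def
      have he : e * e = e := by linear_combination -r * hr
      have he0 : e ≠ 0 := fun h0 => hx0 (by linear_combination hr + x * h0)
      have he1 : e ≠ 1 := fun h1 => hxu (IsUnit.of_mul_eq_one r (by linear_combination h1))
      have heb : e ∉ (⊥ : Subalgebra κ A) := fun hm => by
        obtain ⟨d, hd⟩ := hbot.mp hm
        rw [← hd, ← map_mul] at he
        rcases eq_or_ne d 0 with rfl | hd0
        · exact he0 (by rw [← hd, map_zero])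
        · have := mul_left_cancel₀ hd0 (((algebraMap κ A).injective he).trans (mul_one d).symm)
          exact he1 (by rw [← hd, this, map_one])
      let φ : κ × κ →ₐ[κ] A :=
        { toFun := fun z => algebraMap κ A z.1 * e + algebraMap κ A z.2 * (1 - e)
          map_one' := by simp
          map_mul' := fun z w => by
            simp only [Prod.fst_mul, Prod.snd_mul, map_mul]
            linear_combination -(algebraMap κ A z.1 - algebraMap κ A z.2) * (algebraMap κ A w.1 - algebraMap κ A w.2) * he
          map_zero' := by simp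
          map_add' := fun z w => by simp only [Prod.fst_add, Prod.snd_add, map_add]; ring
          commutes' := fun d => by simp [Algebra.algebraMap_self]; ring }
      refine ⟨(AlgEquiv.ofBijective φ ⟨?_, ?_⟩).symm⟩
      · rw [injective_iff_map_eq_zero]
        intro z hz
        change algebraMap κ A z.1 * e + algebraMap κ A z.2 * (1 - e) = 0 at hz
        refine Prod.ext ?_ ?_
        · by_contra hc
          exact he0 (((isUnit_iff_ne_zero.mpr hc).map (algebraMap κ A)).mul_right_eq_zero.mp
            (by linear_combination e * hz - (algebraMap κ A z.1 - algebraMap κ A z.2) * he))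
        · by_contra hc
          exact he1 (sub_eq_zero.mp (((isUnit_iff_ne_zero.mpr hc).map (algebraMap κ A)).mul_right_eq_zero.mp
            (show algebraMap κ A z.2 * (1 - e) = 0 by
              linear_combination (1 - e) * hz + (algebraMap κ A z.1 - algebraMap κ A z.2) * he))).symm
      · exact hsurj φ e heb ⟨(1, 0), by simp [φ]⟩

end Groth.Agent.S15939
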