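import Groth.Statements.S1594
import Groth.Agent.H25.Node.Descent
import Groth.Agent.Lib.DescAlg.Descends
import Mathlib.AlgebraicGeometry.Morphisms.LocalFlatDescent

set_option autoImplicit false
set_option linter.style.haveILetI false
universe u
open CategoryTheory CategoryTheory.Limits AlgebraicGeometry
open Curves

namespace Groth.Agent.S1594

/-- (2) implies (1), for a covering by one flat quasi-compact surjective morphism: let f : X → S and g :
S' → S flat, quasi-compact and surjective. If the base change X ×_S S' → S' is at-worst-nodal of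
relative dimension one then so is f. -/
theorem result {X S S' : Scheme.{u}} (f : X ⟶ S) (g : S' ⟶ S) [Flat g] [QuasiCompact g] [Surjective g]
    (h : Curv2.IsNodalFamily (pullback.snd f g)) : Curv2.IsNodalFamily f := by
  obtain ⟨hflat, hfp, hfib⟩ := h
  haveI := hflat
  haveI := hfp
  have hg : (@Surjective ⊓ @Flat ⊓ @QuasiCompact : MorphismProperty Scheme.{u}) g :=
    ⟨⟨inferInstance, inferInstance⟩, inferInstance⟩
  haveI hF : Flat f := MorphismProperty.of_pullback_snd_of_descendsAlong (P := @Flat)
    (Q := @Surjective ⊓ @Flat ⊓ @QuasiCompact) hg hflat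
  haveI hP : LocallyOfFinitePresentation f :=
    MorphismProperty.of_pullback_snd_of_descendsAlong (P := @LocallyOfFinitePresentation)
      (Q := @Surjective ⊓ @Flat ⊓ @QuasiCompact) hg hfp
  refine ⟨hF, hP, fun s => ?_⟩
  obtain ⟨s', rfl⟩ := g.surjective s
  letI : (f.fiber (g s')).Over (Spec (CommRingCat.of (S.residueField (g s')))) :=
    ⟨f.fiberToSpecResidueField (g s')⟩
  haveI : LocallyOfFiniteType ((f.fiber (g s')) ↘ Spec (CommRingCat.of (S.residueField (g s')))) :=
    inferInstanceAs (LocallyOfFiniteType (pullback.snd f (S.fromSpecResidueField (g s'))))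
  letI : Algebra (S.residueField (g s')) (S'.residueField s') := (g.residueFieldMap s').hom.toAlgebra
  have h := isPullback_fiberToSpecResidueField_of_isPullback (IsPullback.of_hasPullback f g) s'
  letI : ((pullback.snd f g).fiber s').Over (Spec (CommRingCat.of (S'.residueField s'))) :=
    ⟨(pullback.snd f g).fiberToSpecResidueField s'⟩
  haveI : LocallyOfFiniteType (((pullback.snd f g).fiber s') ↘ Spec (CommRingCat.of (S'.residueField s'))) :=
    inferInstanceAs (LocallyOfFiniteType (pullback.snd (pullback.snd f g) (S'.fromSpecResidueField s')))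
  obtain ⟨hd, hn⟩ := hfib s'
  letI : (Curv2.bc (S.residueField (g s')) (f.fiber (g s')) (S'.residueField s')).Over
      (Spec (CommRingCat.of (S'.residueField s'))) :=
    ⟨Curv2.bcSnd (S.residueField (g s')) (f.fiber (g s')) (S'.residueField s')⟩
  exact Groth.Agent.H25.Node.Descent.of_bc (S.residueField (g s')) (f.fiber (g s')) (S'.residueField s')
    (Groth.Agent.H25.Node.Invariance.etale (S'.residueField s') ((pullback.snd f g).fiber s') hd hn
      h.isoPullback.inv h.isoPullback_inv_snd)

end Groth.Agent.S1594
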