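import Groth.Statements.S15957
import Groth.Agent.Lib.WeilExt.LftPoints
import Groth.Agent.S3250

set_option autoImplicit false
universe u
open Neron

namespace Groth.Agent.S15957

open CategoryTheory AlgebraicGeometry in
/-- (ii) ⇒ (i): let R be a discrete valuation ring with field of fractions K and G a smooth separated
group scheme over Spec R. Suppose that for every local extension R ⊆ R' of discrete valuation rings
of ramification index one (the maximal ideal of R generates that of R' and the residue field
extension is separable, i.e. geometrically reduced) with R' strictly Henselian, and K' the fraction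
field of R', every K'-valued point of G over R extends to an R'-valued point. Then G is a Néron
lft-model of its generic fibre: for every smooth scheme Y over Spec R, restriction to generic fibres
is a bijection from morphisms Y → G over R onto morphisms Y_K → G_K over K. (The published statement
is the equivalence of this criterion, of the Néron lft property, and of a third intermediate
criterion; only this implication is stated.) -/
theorem result
    (R : Type u) [CommRing R] [IsDomain R] [IsDiscreteValuationRing R]
    (G : Over (Spec (CommRingCat.of R))) [GrpObj G] [Smooth G.hom] [IsSeparated G.hom]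
    (h : ∀ (R' : Type u) [CommRing R'] [IsDomain R'] [IsDiscreteValuationRing R'] [Algebra R R']
        [IsLocalHom (algebraMap R R')] [HenselianLocalRing R'] [IsSepClosed (IsLocalRing.ResidueField R')],
      (IsLocalRing.maximalIdeal R).map (algebraMap R R') = IsLocalRing.maximalIdeal R' →
      Algebra.IsGeometricallyReduced (IsLocalRing.ResidueField R) (IsLocalRing.ResidueField R') →
      ∀ x : Spec (CommRingCat.of (FractionRing R')) ⟶ G.left,
        x ≫ G.hom = Spec.map (CommRingCat.ofHom ((algebraMap R' (FractionRing R')).comp (algebraMap R R'))) →
        ∃ y : Spec (CommRingCat.of R') ⟶ G.left, y ≫ G.hom = Spec.map (CommRingCat.ofHom (algebraMap R R')) ∧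
          Spec.map (CommRingCat.ofHom (algebraMap R' (FractionRing R'))) ≫ y = x) :
    ∀ Y : Over (Spec (CommRingCat.of R)), Smooth Y.hom →
      Function.Bijective (fun g : Y ⟶ G => (Neron.genericFibre R).map g) := by
  intro Y hY
  obtain ⟨ϖ, hϖ⟩ := IsDiscreteValuationRing.exists_irreducible R
  have : IsLocalization.Away ϖ (FractionRing R) :=
    Groth.Agent.S3250.isLocalization_away_of_irreducible R hϖ
  have : AlgebraicGeometry.IsOpenImmersion (Neron.genPt R) :=
    AlgebraicGeometry.IsOpenImmersion.of_isLocalization ϖ
  open CategoryTheory CategoryTheory.Limits in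
  let : GrpObj (Over.mk G.hom) := inferInstanceAs (GrpObj G)
  open CategoryTheory CategoryTheory.Limits in
  have key := fun (k : (Neron.genericFibre R).obj Y ⟶ (Neron.genericFibre R).obj G) =>
    Groth.Agent.Lib.WeilExt.LftPoints.existsUnique_of_unramified_points Y.hom G.hom h
      (k.left ≫ pullback.fst G.hom (Neron.genPt R)) (by
        rw [Category.assoc, pullback.condition, ← Category.assoc]
        exact (congrArg (· ≫ Neron.genPt R) (Over.w k)).trans pullback.condition.symm)
  open CategoryTheory CategoryTheory.Limits in
  have hfst : ∀ g : Y ⟶ G, ((Neron.genericFibre R).map g).left ≫ pullback.fst G.hom (Neron.genPt R)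
      = pullback.fst Y.hom (Neron.genPt R) ≫ g.left := fun g => pullback.lift_fst _ _ _
  open CategoryTheory CategoryTheory.Limits in
  refine ⟨fun g₁ g₂ hg => ?_, fun k => ?_⟩
  · apply CategoryTheory.Over.OverMorphism.ext
    refine (key ((Neron.genericFibre R).map g₁)).unique ⟨CategoryTheory.Over.w g₁, (hfst g₁).symm⟩
      ⟨CategoryTheory.Over.w g₂, ?_⟩
    rw [show (Neron.genericFibre R).map g₁ = (Neron.genericFibre R).map g₂ from hg]
    exact (hfst g₂).symm
  · obtain ⟨g, ⟨hg, hgk⟩, -⟩ := key k
    refine ⟨CategoryTheory.Over.homMk g hg, ?_⟩
    apply CategoryTheory.Over.OverMorphism.ext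
    apply CategoryTheory.Limits.pullback.hom_ext
    · exact (hfst (CategoryTheory.Over.homMk g hg)).trans hgk
    · exact (CategoryTheory.Over.w ((Neron.genericFibre R).map (CategoryTheory.Over.homMk g hg))).trans
        (CategoryTheory.Over.w k).symm

end Groth.Agent.S15957
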