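import Groth.Statements.S1596
import Groth.Agent.H25.PushOne.Main
import Groth.Agent.H25.PushOne.Fibre
import Groth.Agent.Lib.FittSheaf.Smooth
import Groth.Agent.H54.BCX.Main

set_option autoImplicit false
set_option linter.style.haveILetI false
universe u
open CategoryTheory CategoryTheory.Limits AlgebraicGeometry
attribute [local instance] HasDerivedCategory.standard
open Curves

namespace Groth.Agent.S1596

/-- Let f : X → S be a proper morphism of schemes that is at-worst-nodal of relative dimension one with
geometrically connected fibres. Then R¹f_*O_X is a finite locally free O_S-module and R^q f_*O_X = 0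
for every q ≥ 2. The published statement also includes the compatibility of these direct images with
base change, which is not asserted here. (Existence of injective resolutions in the category of
O_X-modules is carried as an instance binder.) -/
theorem result {X S : Scheme.{u}} (f : X ⟶ S) [IsProper f] (hf : Curv2.IsNodalFamily f)
    [GeometricallyConnected f] [HasInjectiveResolutions X.Modules] :
    FlatMod.IsFinLocFree ((Coh.Rpush f 1).obj (Coh.structureModule X)) ∧
      ∀ q : ℕ, 2 ≤ q → IsZero ((Coh.Rpush f q).obj (Coh.structureModule X)) := by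
  haveI := hf.1
  haveI := hf.2.1
  have hF := Groth.Agent.H46.FibreProf.Unit.isFP_structureModule X
  haveI := Groth.Agent.H26.FreeCrit.isQuasicoherent_of_isFP hF
  have hfl : FlatMod.IsFlatOver f (Coh.structureModule X) := fun x =>
    (Groth.Agent.H46.FibreProf.Unit.isFlatOverAt_structureModule f x).2 (Flat.stalkMap f x)
  have hv : ∀ (q : ℕ), 2 ≤ q → ∀ y, CohIII.fiberRank f (Coh.structureModule X) q y = 0 := fun q hq y => by
    have hd : topologicalKrullDim (f.fiber y) ≤ ((1 : ℕ) : WithBot ℕ∞) :=
      Groth.Agent.H25.Node.AtWorst.dim_le_one (f.fiber y) (hf.2.2 y).1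
    exact (Groth.Agent.Lib.ExchangeFP29.Main.fiberRank_eq_zero_iff f _ hF y q).2
      (Groth.Agent.H54.BCX.Main.subsingleton_fiberH y hd (by omega))
  exact ⟨Groth.Agent.H25.PushOne.Main.isFinLocFree_Rpush_one f
      (Groth.Agent.H25.PushOne.Fibre.fiberRank_zero f hf) (hv 2 le_rfl),
    fun q hq => Groth.Agent.Lib.ExchangeFP29.Main.isZero_Rpush f _ hF hfl q (hv q hq)⟩

end Groth.Agent.S1596
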