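import Groth.Statements.S15976
import Groth.Agent.H68.AvoidSpan

set_option autoImplicit false
universe u
open IntSh

namespace Groth.Agent.S15976

open CategoryTheory CategoryTheory.Limits AlgebraicGeometry Opposite in
open Groth.Agent.Lib in
theorem mono_of_mulS {V : Scheme.{u}} {L M : V.Modules} (τ : Coh.structureModule V ⟶ L)
    (hM : Coh.IsQCoh M) (h : ∀ x, Curv2.IsAssPoint M x → x ∈ CohB1.genLocus L τ) :
    Mono (((DCoh.tensorBi (X := V)).obj M).map τ) := by
  rw [← Groth.Agent.H68.AvoidSpan.tmap_id_eq_tensorBi]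
  have h1 : Mono ((TensorMod.Basic.rightUnit M).inv ≫ TensorMod.Basic.tmap (𝟙 M) τ) :=
    UnifReg.Hyperplane.mono_mulS τ hM h
  have e : TensorMod.Basic.tmap (𝟙 M) τ = (TensorMod.Basic.rightUnit M).hom ≫
      (TensorMod.Basic.rightUnit M).inv ≫ TensorMod.Basic.tmap (𝟙 M) τ :=
    (Iso.hom_inv_id_assoc _ _).symm
  rw [e]
  exact @mono_comp _ _ _ _ _ _ inferInstance _ h1

open CategoryTheory CategoryTheory.Limits AlgebraicGeometry Opposite in
/-- Let A be a Noetherian local ring with infinite residue field, V a Noetherian scheme over Spec A, L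
an invertible O_V-module generated by finitely many global sections σ_0, …, σ_N (at every point some
σ_i generates L), and F_1, …, F_m coherent O_V-modules. Then some A-linear combination σ of the σ_i
is F_j-regular for every j, regularity of a global section σ of L with respect to F meaning that the
map F ⊗ O_V → F ⊗ L induced by σ is injective. The combination is expressed through the global
sections σ(1), σ_i(1) ∈ Γ(V, L) and the images in Γ(V, O_V) of the coefficients from A. -/
theorem result
    {A : Type u} [CommRing A] [IsNoetherianRing A] [IsLocalRing A]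
    (hA : Infinite (IsLocalRing.ResidueField A))
    {V : Scheme.{u}} [IsNoetherian V] (f : V ⟶ Spec (CommRingCat.of A))
    (L : V.Modules) (hL : PicF.IsInvertible L)
    {N : ℕ} (σ : Fin (N + 1) → (Coh.structureModule V ⟶ L))
    (hgen : ∀ x : V, ∃ i, x ∈ CohB1.genLocus L (σ i))
    {m : ℕ} (F : Fin m → V.Modules) (hF : ∀ j, Coh.IsCoh (F j)) :
    ∃ (τ : Coh.structureModule V ⟶ L) (a : Fin (N + 1) → A),
      τ.val.app (op ⊤) (1 : V.ringCatSheaf.obj.obj (op ⊤)) =
        ∑ i, f.appTop ((Scheme.ΓSpecIso (CommRingCat.of A)).inv (a i)) •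
          (σ i).val.app (op ⊤) (1 : V.ringCatSheaf.obj.obj (op ⊤)) ∧
      ∀ j, Mono (((DCoh.tensorBi (X := V)).obj (F j)).map τ) := by
  let φ : A →+* Γ(V, ⊤) := f.appTop.hom.comp (Scheme.ΓSpecIso (CommRingCat.of A)).inv.hom
  obtain ⟨τ, a, hτ, hgenτ⟩ := Groth.Agent.H68.AvoidSpan.exists_combination hA φ hL σ
    (Set.finite_iUnion fun j => Groth.Agent.Lib.UnifReg.Hyperplane.finite_assPoints (hF j))
    (fun x _ => hgen x)
  exact ⟨τ, a, hτ, fun j => mono_of_mulS τ (hF j).1 fun x hx => hgenτ x (Set.mem_iUnion.2 ⟨j, hx⟩)⟩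

end Groth.Agent.S15976
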