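import Groth.Statements.S15977
import Groth.Agent.Lib.KVec.RelGen
import Groth.Agent.Lib.KVec.Splice
open Groth.Agent Groth.Agent.Lib

set_option autoImplicit false
universe u
open IntSh

namespace Groth.Agent.S15977

open CategoryTheory CategoryTheory.Limits AlgebraicGeometry in
/-- Let π : X → Y be a projective morphism of Noetherian schemes, F a coherent O_X-module flat over Y
whose support meets every fibre of π in a set of Krull dimension at most d, and assume that π is
flat or that Y carries an ample invertible module. Then every finite locally free O_X-module E has a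
resolution 0 → E → E_0 → ⋯ → E_d → 0 by finite locally free modules E_i with R^p π_*(F ⊗ E_i) = 0
for all p > 0 and all i. (The published statement takes Y connected and d equal to the constant
relative dimension of the support of F; this row asks only that the fibres of the support have
dimension at most d.) The resolution is written as an exact cochain complex C with C^0 ≅ E, C^{i+1}
= E_i and C^i = 0 for i > d + 1. -/
theorem result
    {X Y : Scheme.{u}} [IsNoetherian X] [IsNoetherian Y] (π : X ⟶ Y)
    (hπ : RelProj.IsProjective π)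
    [HasInjectiveResolutions X.Modules]
    (F : X.Modules) (hF : Coh.IsCoh F) (hFf : FlatMod.IsFlatOver π F)
    (d : ℕ) (hd : ∀ y : Y, topologicalKrullDim ↥{x : X | x ∈ CohB1.support F ∧ π.base x = y} ≤ d)
    (hAB : Flat π ∨ ∃ H : Y.Modules, CohB1.IsAmple H)
    (E : X.Modules) (hE : FlatMod.IsFinLocFree E) :
    ∃ (C : CochainComplex X.Modules ℕ) (e : C.X 0 ≅ E),
      C.Acyclic ∧ (∀ i, d + 1 < i → IsZero (C.X i)) ∧ (∀ i, FlatMod.IsFinLocFree (C.X i)) ∧
      ∀ i, 1 ≤ i → ∀ p, 0 < p →
        IsZero ((Coh.Rpush π p).obj (((DCoh.tensorBi (X := X)).obj F).obj (C.X i))) := by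
  classical
  have hs : KVec.RelGen.Setup π F d := ⟨hπ, hF, hFf, fun y => hd y, hAB⟩
  let Q : ℕ → X.Modules → Prop := fun k G => ∃ (C : CochainComplex X.Modules ℕ) (_ : C.X 0 ≅ G),
    C.Acyclic ∧ (∀ i, k + 1 < i → IsZero (C.X i)) ∧ (∀ i, FlatMod.IsFinLocFree (C.X i)) ∧
    ∀ i, 1 ≤ i → ∀ p, 0 < p → IsZero ((Coh.Rpush π p).obj (CohB1.tensorMod F (C.X i)))
  refine KVec.RelGen.induction hs (Q := Q) ?_ ?_ hE
  · intro G hG hA
    let Z : X.Modules := FlatMod.freeMod X 0
    have hZ : IsZero Z := ((IsZero.iff_id_eq_zero _).2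
      (Limits.Sigma.hom_ext _ _ fun b => Fin.elim0 b))
    let C₀ : CochainComplex X.Modules ℕ := CochainComplex.of (fun _ => Z) (fun _ => 0) (fun _ => comp_zero)
    have hC₀ : C₀.Acyclic := fun i =>
      ShortComplex.exact_of_isZero_X₂ _ hZ
    have hS := KRes.KSub.shortExact_iso (Iso.refl G) hZ
    refine ⟨KVec.Splice.complex (ShortComplex.mk (Iso.refl G).hom (0 : G ⟶ Z) comp_zero) C₀ (Iso.refl Z), Iso.refl G, KVec.Splice.acyclic _ _ _ hS hC₀, ?_, ?_, ?_⟩
    · intro i hi
      obtain ⟨j, rfl⟩ : ∃ j, i = j + 2 := ⟨i - 2, by omega⟩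
      exact hZ
    · intro i
      match i with
      | 0 => exact hG
      | 1 => exact hG
      | j + 2 => exact KAugNil98.Main.isFinLocFree_isZero hZ
    · intro i hi p hp
      match i, hi with
      | 1, _ => exact hA.1 p hp
      | j + 2, _ =>
        exact Functor.map_isZero _ (Functor.map_isZero ((DCoh.tensorBi (X := X)).obj F) hZ)
  · rintro k S G hS ⟨e⟩ hG h₁ h₂ h₃ hA ⟨C, e', hC, hz, hf, hv⟩
    refine ⟨KVec.Splice.complex S C e', e, KVec.Splice.acyclic _ _ _ hS hC, ?_, ?_, ?_⟩
    · intro i hi
      obtain ⟨j, rfl⟩ : ∃ j, i = j + 2 := ⟨i - 2, by omega⟩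
      exact hz (j + 1) (by omega)
    · intro i
      match i with
      | 0 => exact h₁
      | 1 => exact h₂
      | j + 2 => exact hf (j + 1)
    · intro i hi p hp
      match i, hi with
      | 1, _ => exact hA.1 p hp
      | j + 2, _ => exact hv (j + 1) (by omega) p hp

end Groth.Agent.S15977
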