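import Groth.Statements.S15979
import Groth.Agent.H70.DescMain
import Groth.Agent.Lib.RefHull.Ord

set_option autoImplicit false
universe u
open IntSh

namespace Groth.Agent.S15979

section helpers

open CategoryTheory CategoryTheory.Limits AlgebraicGeometry Topology
open Groth.Agent.H46.DimData Groth.Agent.H70

variable {Y : Scheme.{u}} [IsIntegral Y] [IsNoetherian Y]

/-- From local equations with support a prime divisor to an effective Cartier divisor. -/
theorem glue (hYn : Pi1.IsNormalScheme Y) {η : Y} (hη : ringKrullDim (Y.presheaf.stalk η) = 1)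
    (hloc : ∀ y : Y, ∃ U : Y.affineOpens, y ∈ U.1 ∧ ∃ g : Γ(Y, U),
      ∀ v ∈ U.1, (v ∈ Y.basicOpen g ↔ v ∉ closure {η})) :
    ∃ J : Y.IdealSheafData, FGA.IsEffCartier J ∧ (J.support : Set Y) = closure {η} := by
  classical
  choose U hyU g hg using hloc
  haveI := Groth.Agent.Lib.RefHull.Generic.isPrincipalIdealRing_of_dim_le_one hYn η hη.le
  haveI : IsDomain (Y.presheaf.stalk η) := (hYn η).1
  haveI : IsDiscreteValuationRing (Y.presheaf.stalk η) := by
    refine { not_a_field' := fun h => ?_ }
    have hf : IsField (Y.presheaf.stalk η) := IsLocalRing.isField_iff_maximalIdeal_eq.mpr h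
    have := ringKrullDim_eq_zero_of_isField hf
    rw [hη] at this
    exact one_ne_zero this
  set 𝔪 := IsLocalRing.maximalIdeal (Y.presheaf.stalk η)
  obtain ⟨ϖ, hϖ⟩ := IsDiscreteValuationRing.exists_irreducible (Y.presheaf.stalk η)
  have hgen : genericPoint Y ∉ closure {η} := fun h => by
    have he : η = genericPoint Y :=
      ((specializes_iff_mem_closure.2 h).antisymm (genericPoint_specializes η)).eq
    subst he
    have h0 : ringKrullDim (Y.presheaf.stalk (genericPoint Y)) = 0 :=
      ringKrullDim_eq_zero_of_field (F := Y.functionField)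
    rw [hη] at h0
    exact one_ne_zero h0
  have hg0 : ∀ y, g y ≠ 0 := fun y h => by
    have hgU := (genericPoint_specializes y).mem_open (U y).1.2 (hyU y)
    have := (hg y _ hgU).2 hgen
    rw [h, Scheme.basicOpen_zero] at this
    exact this
  have hord : ∀ y, ∃ e : ℕ, 0 < e ∧ ∀ h : η ∈ (U y).1,
      Ideal.span {Y.presheaf.germ _ η h (g y)} = 𝔪 ^ e := by
    intro y
    by_cases h : η ∈ (U y).1
    swap
    · exact ⟨1, one_pos, fun h' => absurd h' h⟩
    have hne : Y.presheaf.germ _ η h (g y) ≠ 0 := fun h0 => hg0 y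
      (germ_injective_of_isIntegral Y η h (h0.trans (map_zero _).symm))
    obtain ⟨e, he⟩ := IsDiscreteValuationRing.ideal_eq_span_pow_irreducible
      (s := Ideal.span {Y.presheaf.germ _ η h (g y)})
      (fun h' => hne (Ideal.span_singleton_eq_bot.1 h')) hϖ
    rw [← Ideal.span_singleton_pow, ← hϖ.maximalIdeal_eq] at he
    refine ⟨e, Nat.pos_of_ne_zero fun e0 => ?_, fun _ => he⟩
    rw [e0, pow_zero, Ideal.one_eq_top, Ideal.span_singleton_eq_top, ← Scheme.mem_basicOpen _ _ _ h]
      at he
    exact (hg y η h).1 he (subset_closure rfl)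
  choose e he0 he using hord
  obtain ⟨T, hT⟩ := isCompact_univ.elim_finite_subcover (fun y => ((U y).1 : Set Y))
    (fun y => (U y).1.2) fun y _ => Set.mem_iUnion.2 ⟨y, hyU y⟩
  set N := ∏ y ∈ T, e y
  have hN0 : 0 < N := Finset.prod_pos fun y _ => he0 y
  set ρ := CommRingCat.ofHom (Ideal.Quotient.mk (𝔪 ^ N))
  set f := Spec.map ρ ≫ Y.fromSpecStalk η
  haveI : IsLocallyNoetherian (Spec (CommRingCat.of (Y.presheaf.stalk η ⧸ 𝔪 ^ N))) := inferInstance
  haveI : QuasiCompact f := inferInstance
  have hclosed : ∀ v, f v = η := fun v => by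
    show Y.fromSpecStalk η (Spec.map ρ v) = η
    have : Spec.map ρ v = IsLocalRing.closedPoint (Y.presheaf.stalk η) := by
      refine PrimeSpectrum.ext (le_antisymm (IsLocalRing.le_maximalIdeal Ideal.IsPrime.ne_top') ?_)
      intro a ha
      refine v.isPrime.mem_of_pow_mem N ?_
      show Ideal.Quotient.mk (𝔪 ^ N) a ^ N ∈ v.asIdeal
      have h0 : Ideal.Quotient.mk (𝔪 ^ N) (a ^ N) = 0 :=
        Ideal.Quotient.eq_zero_iff_mem.2 (Ideal.pow_mem_pow ha N)
      rw [← map_pow]
      exact h0.symm ▸ zero_mem _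
    rw [this, Scheme.fromSpecStalk_closedPoint]
  refine ⟨f.ker, fun y => ?_, ?_⟩
  · obtain ⟨t, htT, hyt⟩ : ∃ t ∈ T, y ∈ (U t).1 := by
      simpa using hT (Set.mem_univ y)
    haveI : Nonempty (U t).1 := ⟨⟨y, hyt⟩⟩
    haveI : IsNoetherianRing Γ(Y, U t) := IsLocallyNoetherian.component_noetherian (U t)
    haveI : IsIntegrallyClosed Γ(Y, U t) :=
      Groth.Agent.Lib.FEt.NormalCover.isIntegrallyClosed_sections hYn
    obtain ⟨k, hk⟩ : e t ∣ N := Finset.dvd_prod_of_mem e htT
    refine ⟨U t, hyt, g t ^ k, mem_nonZeroDivisors_of_ne_zero (pow_ne_zero _ (hg0 t)), ?_⟩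
    by_cases hηt : η ∈ (U t).1
    swap
    · have hu : IsUnit (g t) := Y.toRingedSpace.isUnit_of_isUnit_germ _ _ fun v hv =>
        (Scheme.mem_basicOpen Y (g t) v hv).1 ((hg t v hv).2 fun hvη =>
          hηt ((specializes_iff_mem_closure.2 hvη).mem_open (U t).1.2 hv))
      rw [Ideal.span_singleton_eq_top.2 (hu.pow k), Scheme.Hom.ker_apply]
      refine (Ideal.eq_top_iff_one _).2 ?_
      haveI : Subsingleton Γ(Spec (CommRingCat.of (Y.presheaf.stalk η ⧸ 𝔪 ^ N)), f ⁻¹ᵁ (U t).1) := by
        have hbot : f ⁻¹ᵁ (U t).1 = ⊥ := by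
          ext v
          simp only [TopologicalSpace.Opens.coe_bot, Set.mem_empty_iff_false, iff_false]
          intro hv
          exact hηt (hclosed v ▸ hv)
        rw [hbot]
        infer_instance
      exact Subsingleton.elim _ _
    · ext a
      rw [Scheme.Hom.ker_apply, RingHom.mem_ker, Ideal.mem_span_singleton]
      have hker : (f.app (U t).1).hom a = 0 ↔ Y.presheaf.germ _ η hηt a ∈ 𝔪 ^ N := by
        have hle : (⊤ : (Spec (CommRingCat.of (Y.presheaf.stalk η ⧸ 𝔪 ^ N))).Opens) ≤
            f ⁻¹ᵁ (U t).1 := fun v _ => show f v ∈ (U t).1 from (hclosed v).symm ▸ hηt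
        have happ : f.app (U t).1 ≫ (Spec (CommRingCat.of (Y.presheaf.stalk η ⧸ 𝔪 ^ N))).presheaf.map
            (homOfLE hle).op = Y.presheaf.germ _ η hηt ≫ ρ ≫ (Scheme.ΓSpecIso _).inv := by
          have e1 : (⊤ : (Spec (Y.presheaf.stalk η)).Opens) ≤ Y.fromSpecStalk η ⁻¹ᵁ (U t).1 :=
            fun w _ => show Y.fromSpecStalk η w ∈ (U t).1 from
              (show Y.fromSpecStalk η w ⤳ η from
                Scheme.range_fromSpecStalk.le ⟨_, rfl⟩).mem_open (U t).1.2 hηt
          show f.appLE (U t).1 ⊤ hle = _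
          rw [show f.appLE (U t).1 ⊤ hle = (Y.fromSpecStalk η).appLE (U t).1 ⊤ e1 ≫
              (Spec.map ρ).appLE ⊤ ⊤ le_top from
            (Scheme.Hom.appLE_comp_appLE _ _ _ _ _ _ _).symm,
            show (Spec.map ρ).appLE ⊤ ⊤ le_top = (Spec.map ρ).appTop by
              simp [Scheme.Hom.appLE, Scheme.Hom.appTop],
            Scheme.ΓSpecIso_inv_naturality, Scheme.Hom.appLE, Scheme.fromSpecStalk_app hηt]
          simp only [Category.assoc, ← Functor.map_comp_assoc]
          congr 2
        have := congrArg (fun z => z.hom a) happ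
        simp only [CommRingCat.hom_comp, RingHom.comp_apply] at this
        rw [← Ideal.Quotient.eq_zero_iff_mem]
        haveI hiso : IsIso ((Spec (CommRingCat.of (Y.presheaf.stalk η ⧸ 𝔪 ^ N))).presheaf.map
            (homOfLE hle).op) := by
          have : homOfLE hle = eqToHom (le_antisymm hle le_top) := Subsingleton.elim _ _
          rw [this]; infer_instance
        rw [← map_eq_zero_iff _ (ConcreteCategory.bijective_of_isIso
          ((Spec (CommRingCat.of (Y.presheaf.stalk η ⧸ 𝔪 ^ N))).presheaf.map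
            (homOfLE hle).op)).injective]
        erw [this]
        exact map_eq_zero_iff _ (ConcreteCategory.bijective_of_isIso (Scheme.ΓSpecIso _).inv).injective
      rw [hker, hk, pow_mul, ← he t hηt, Ideal.span_singleton_pow, Ideal.mem_span_singleton,
        ← map_pow]
      constructor
      · intro hd
        refine DescAlg.dvd_of_codimOne (pow_ne_zero _ (hg0 t)) fun p hp hht hgp => ?_
        obtain ⟨Pη, hPη⟩ := DescMain.exists_prime (U t).2 hηt
        have hgp' : g t ∈ p := hp.mem_of_pow_mem k hgp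
        have hcl : (U t).2.fromSpec ⟨p, hp⟩ ∈ closure {η} := by
          by_contra hc
          exact (DescMain.mem_prime_iff (U t).2 (g t) ⟨p, hp⟩).1 hgp'
            ((hg t _ ((U t).2.range_fromSpec.le ⟨_, rfl⟩)).2 hc)
        have hle : Pη.asIdeal ≤ p := (DescMain.fromSpec_le_iff (U t).2 Pη ⟨p, hp⟩).1
          (by rw [hPη]; exact specializes_iff_mem_closure.2 hcl)
        have hne : Pη.asIdeal ≠ ⊥ := fun h0 => hg0 t ((Submodule.mem_bot _).1 (h0 ▸
          (DescMain.mem_prime_iff (U t).2 (g t) Pη).2 (by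
            rw [hPη]; exact fun hc => (hg t η hηt).1 hc (subset_closure rfl))))
        have hpe : Pη.asIdeal = p := by
          by_contra hne'
          have h1 := Ideal.height_strict_mono_of_isPrime (lt_of_le_of_ne hle hne')
          have h2 : (1 : ℕ∞) ≤ Pη.asIdeal.height :=
            ENat.one_le_iff_ne_zero.2 fun h0 => hne (by
              rw [Ideal.height_eq_zero_iff (R := Γ(Y, U t)), IsDomain.minimalPrimes_eq_singleton_bot,
                Set.mem_singleton_iff] at h0
              exact h0)
          exact absurd (lt_of_le_of_lt h2 (lt_of_lt_of_le h1 hht)) (lt_irrefl _)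
        obtain ⟨c, hc⟩ := hd
        letI := TopCat.Presheaf.algebra_section_stalk Y.presheaf (⟨η, hηt⟩ : (U t).1)
        haveI := (U t).2.isLocalization_stalk ⟨η, hηt⟩
        obtain ⟨⟨c', s⟩, hcs⟩ := IsLocalization.surj
          ((U t).2.primeIdealOf ⟨η, hηt⟩).asIdeal.primeCompl c
        have halg : ∀ z, algebraMap Γ(Y, U t) (Y.presheaf.stalk η) z =
            Y.presheaf.germ _ η hηt z := fun z => rfl
        obtain ⟨l, hl⟩ := (IsLocalization.eq_iff_exists
          ((U t).2.primeIdealOf ⟨η, hηt⟩).asIdeal.primeCompl (Y.presheaf.stalk η)).1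
            (show algebraMap Γ(Y, U t) (Y.presheaf.stalk η) (s.1 * a) =
              algebraMap Γ(Y, U t) (Y.presheaf.stalk η) (g t ^ k * c') by
              rw [map_mul, map_mul, ← hcs, halg a, hc, halg (g t ^ k)]; ring)
        have hPeq : (U t).2.primeIdealOf ⟨η, hηt⟩ = Pη :=
          (U t).2.fromSpec.isOpenEmbedding.injective
            (((U t).2.fromSpec_primeIdealOf ⟨η, hηt⟩).trans hPη.symm)
        refine ⟨l.1 * s.1, fun h => ?_, ⟨l.1 * c', by linear_combination hl⟩⟩
        have hnot : ∀ o : ((U t).2.primeIdealOf ⟨η, hηt⟩).asIdeal.primeCompl, o.1 ∉ p := fun o => by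
          rw [← hpe, ← hPeq]; exact o.2
        exact (hp.mem_or_mem h).elim (hnot l) (hnot s)
      · rintro ⟨c, rfl⟩
        exact ⟨_, map_mul _ _ _⟩
  · rw [Scheme.Hom.support_ker]
    congr 1
    refine Set.Subset.antisymm ?_ ?_
    · rintro _ ⟨v, rfl⟩
      exact hclosed v
    · intro w hw
      rw [Set.mem_singleton_iff.1 hw]
      haveI : Nontrivial (Y.presheaf.stalk η ⧸ 𝔪 ^ N) := Ideal.Quotient.nontrivial_iff.2 fun h =>
        (IsLocalRing.maximalIdeal.isMaximal (Y.presheaf.stalk η)).ne_top
          (top_le_iff.1 (h.ge.trans (Ideal.pow_le_self hN0.ne')))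
      obtain ⟨v⟩ : Nonempty (Spec (CommRingCat.of (Y.presheaf.stalk η ⧸ 𝔪 ^ N))) :=
        (inferInstance : Nonempty (PrimeSpectrum (Y.presheaf.stalk η ⧸ 𝔪 ^ N)))
      exact ⟨v, hclosed v⟩

end helpers

open CategoryTheory CategoryTheory.Limits AlgebraicGeometry in
/-- Let π : X → Y be a surjective locally projective morphism between normal separated Noetherian
integral schemes which is equidimensional in the sense that all fibres π⁻¹(y), y ∈ Y, have the same
Krull dimension d. If X is ℚ-factorial, so is Y. Here a normal Noetherian integral scheme is called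
ℚ-factorial when for every point ξ whose local ring has dimension one the prime divisor given by the
closure of ξ is, as a set, the support of some effective Cartier divisor (equivalently: some
positive multiple of every Weil divisor is Cartier). -/
theorem result
    {X Y : Scheme.{u}} [IsNoetherian X] [IsNoetherian Y] [IsIntegral X] [IsIntegral Y]
    [X.IsSeparated] [Y.IsSeparated]
    (hXn : Pi1.IsNormalScheme X) (hYn : Pi1.IsNormalScheme Y)
    (π : X ⟶ Y) (hπ : RelProj.IsLocallyProjective π) [Surjective π]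
    (d : ℕ) (hd : ∀ y : Y, topologicalKrullDim (↥(π.fiber y) : Type u) = d)
    (hX : ∀ ξ : X, ringKrullDim (X.presheaf.stalk ξ) = 1 →
      ∃ I : X.IdealSheafData, FGA.IsEffCartier I ∧ (I.support : Set X) = closure {ξ}) :
    ∀ η : Y, ringKrullDim (Y.presheaf.stalk η) = 1 →
      ∃ J : Y.IdealSheafData, FGA.IsEffCartier J ∧ (J.support : Set Y) = closure {η} := by
  intro η hη
  haveI : IsProper π := Groth.Agent.H70.DescMain.isProper_of_isLocallyProjective π hπ
  refine glue hYn hη fun y =>
    Groth.Agent.H70.DescMain.exists_local_equation hYn π hπ d hd hX ?_ y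
  rw [Groth.Agent.H46.DimData.ringKrullDim_stalk] at hη
  exact_mod_cast hη

end Groth.Agent.S15979
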