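import Groth.Statements.S1598
import Groth.Agent.Lib.Flat55.CompletionFibreRegular

set_option autoImplicit false
universe u
open CategoryTheory CategoryTheory.Limits AlgebraicGeometry
open Resolve

namespace Groth.Agent.S1598

/-- Let A be a Noetherian local ring with completion A^, X locally of finite type over Spec A, Y its
base change to Spec A^, and y a point of Y lying over the closed point of Spec A^ with image x in X.
Then the local ring of Y at y is regular if and only if the local ring of X at x is regular. -/
theorem result (A : Type u) [CommRing A] [IsLocalRing A] [IsNoetherianRing A]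
    (X : Scheme.{u}) (f : X ⟶ Spec (CommRingCat.of A)) [LocallyOfFiniteType f]
    (y : Curv2.bcCpl A f) (hy : (Curv2.bcCplSnd A f).base y = IsLocalRing.closedPoint (Curv2.cpl A)) :
    IsRegularLocalRing ((Curv2.bcCpl A f).presheaf.stalk y) ↔
      IsRegularLocalRing (X.presheaf.stalk ((Curv2.bcCplFst A f).base y)) := by
  let Ah := AdicCompletion (IsLocalRing.maximalIdeal A) A
  have : IsNoetherianRing (Curv2.cpl A) := inferInstanceAs (IsNoetherianRing Ah)
  have : IsLocallyNoetherian X := LocallyOfFiniteType.isLocallyNoetherian f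
  have : IsLocallyNoetherian (Curv2.bcCpl A f) := LocallyOfFiniteType.isLocallyNoetherian (Curv2.bcCplSnd A f)
  have hflat : Flat (Spec.map (CommRingCat.ofHom (algebraMap A (Curv2.cpl A)))) := by
    rw [Flat.SpecMap_iff, CommRingCat.hom_ofHom, RingHom.flat_algebraMap_iff]
    infer_instance
  have : Flat (Curv2.bcCplFst A f) := MorphismProperty.pullback_fst _ _ hflat
  have hres : ∀ a : Curv2.cpl A, ∃ a₀ : A, a - algebraMap A (Curv2.cpl A) a₀ ∈
      (IsLocalRing.maximalIdeal A).map (algebraMap A (Curv2.cpl A)) := by
    intro a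
    obtain ⟨r, hr⟩ := (AdicCompletion.residueField_map_bijective_of_fg
      (IsNoetherian.noetherian (IsLocalRing.maximalIdeal A))).2 (IsLocalRing.residue _ a)
    obtain ⟨a₀, rfl⟩ := IsLocalRing.residue_surjective r
    refine ⟨a₀, ?_⟩
    rw [← AdicCompletion.maximalIdeal_eq_map, ← IsLocalRing.residue_eq_zero_iff, map_sub, ← hr,
      IsLocalRing.ResidueField.map_residue, sub_self]
  let φ := ((Curv2.bcCplFst A f).stalkMap y).hom
  letI : Algebra (X.presheaf.stalk ((Curv2.bcCplFst A f).base y)) ((Curv2.bcCpl A f).presheaf.stalk y) := φ.toAlgebra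
  have : IsLocalHom (algebraMap (X.presheaf.stalk ((Curv2.bcCplFst A f).base y)) ((Curv2.bcCpl A f).presheaf.stalk y)) :=
    inferInstanceAs (IsLocalHom φ)
  have : Module.Flat (X.presheaf.stalk ((Curv2.bcCplFst A f).base y)) ((Curv2.bcCpl A f).presheaf.stalk y) :=
    Flat.stalkMap (Curv2.bcCplFst A f) y
  exact (Groth.Agent.Lib.Regular.Descent.isRegularLocalRing_iff _
    (Groth.Agent.Lib.Flat55.CompletionFibreRegular.maximalIdeal_map_eq f hres y hy)).symm

end Groth.Agent.S1598
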