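import Groth.Statements.S15980
import Groth.Agent.Lib.C1Coh29.Div

set_option autoImplicit false
universe u
open IntSh

namespace Groth.Agent.S15980

open CategoryTheory CategoryTheory.Limits AlgebraicGeometry in
/-- Let X be a normal separated Noetherian integral scheme with generic point ξ. For a Weil divisor D,
given as a finitely supported integer-valued function on the points x with dim O_{X,x} = 1, the
class Σ_x D(x)·[O_{x̄}] in the Grothendieck group of coherent O_X-modules (O_{x̄} the structure
sheaf of the reduced closure of x) lies in the subgroup generated by the classes of coherent modules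
whose support has codimension at least 2 if and only if D is principal, i.e. there is a nonzero
rational function f with D(x) = ord_x(f) at every point x with dim O_{X,x} = 1. (This is the
statement that prime divisors induce an injection of the Weil divisor class group into the first
graded piece of the coniveau filtration; the published lemma phrases it as an isomorphism onto the
group of reflexive rank-one sheaves compatible with the determinant, and cites the surjectivity. The
published statement also allows X disconnected: a normal Noetherian scheme is the disjoint union of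
its finitely many integral components and the claim splits accordingly, and the published proof
begins by reducing to the integral case, which is the case stated here.) -/
theorem result
    {X : Scheme.{u}} [IsNoetherian X] [IsIntegral X] [X.IsSeparated] (hXn : Pi1.IsNormalScheme X)
    (D : X →₀ ℤ) (hD : ∀ x ∈ D.support, ringKrullDim (X.presheaf.stalk x) = 1) :
    (D.sum fun x n => n • KZero.clSub (fun M : X.Modules => Coh.IsCoh M) (Cyc.closureStructureSheaf x)) ∈
        AddSubgroup.closure {c : SGA6.Kcoh X | ∃ F : X.Modules, Coh.IsCoh F ∧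
          (∀ x ∈ CohB1.support F, (2 : WithBot ℕ∞) ≤ ringKrullDim (X.presheaf.stalk x)) ∧
          c = KZero.clSub (fun M : X.Modules => Coh.IsCoh M) F} ↔
      ∃ f : X.residueField (genericPoint X), f ≠ 0 ∧
        ∀ x : X, ringKrullDim (X.presheaf.stalk x) = 1 →
          D x = Cyc.ordAt x (genericPoint X) (genericPoint_specializes x) f := by
  classical
  let P : ObjectProperty X.Modules := fun M => Coh.IsCoh M
  change (D.sum fun x n => n • KZero.clSub P (Cyc.closureStructureSheaf x)) ∈ Lib.C1Coh29.Div.F2 X ↔ _
  let d : Lib.C1Coh29.Sheaf.P1 X → ℤ := fun x => D x.1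
  have hd : (Function.support d).Finite :=
    D.support.finite_toSet.preimage Subtype.val_injective.injOn |>.subset fun x hx => by
      simpa [d] using hx
  have hsum : (D.sum fun x n => n • KZero.clSub P (Cyc.closureStructureSheaf x)) =
      ∑ᶠ x, d x • Lib.C1Coh29.Div.O x := by
    have hs : (Function.support fun x => d x • Lib.C1Coh29.Div.O x) ⊆
        ↑(D.support.subtype fun x => ringKrullDim (X.presheaf.stalk x) = 1) := fun x hx => by
      rw [SetLike.mem_coe, Finset.mem_subtype, Finsupp.mem_support_iff]
      exact fun h => hx (show d x • Lib.C1Coh29.Div.O x = 0 by rw [show d x = 0 from h, zero_smul])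
    rw [finsum_eq_sum_of_support_subset _ hs]
    refine Eq.trans ?_ (Finset.sum_subtype_eq_sum_filter
      (fun x => D x • KZero.clSub P (Cyc.closureStructureSheaf x))).symm
    rw [Finset.filter_true_of_mem hD]
    rfl
  have hhom : Lib.C1Coh29.Div.hom (∑ᶠ x, d x • Lib.C1Coh29.Div.O x) = QuotientAddGroup.mk d := by
    have hs : (Function.support fun x => d x • Lib.C1Coh29.Div.O x) ⊆ ↑hd.toFinset := fun x hx => by
      simpa using fun h => hx (show d x • Lib.C1Coh29.Div.O x = 0 by rw [h, zero_smul])
    rw [finsum_eq_sum_of_support_subset _ hs, map_sum]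
    have h1 : ∀ y, Lib.C1Coh29.Div.hom (d y • Lib.C1Coh29.Div.O y) =
        QuotientAddGroup.mk' _ (fun x => d y * if x = y then 1 else 0) := fun y => by
      rw [map_zsmul, Lib.C1Coh29.Div.O, Lib.C1Coh29.Div.hom_cl
        (Lib.Devissage.Closure.isCoh_closureStructureSheaf _),
        Lib.C1Coh29.Div.c1_tors (Lib.C1Coh29.Div.tors_O _ (Lib.C1Coh29.Div.ne_gen y)),
        ← QuotientAddGroup.mk_zsmul]
      refine congrArg QuotientAddGroup.mk (funext fun x => ?_)
      rw [Pi.smul_apply, smul_eq_mul, Lib.C1Coh29.Div.len_O]
      split_ifs <;> simp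
    rw [Finset.sum_congr rfl fun y _ => h1 y, ← map_sum]
    refine congrArg QuotientAddGroup.mk (funext fun x => ?_)
    rw [Finset.sum_apply]
    simp only [mul_ite, mul_one, mul_zero, Finset.sum_ite_eq, Set.Finite.mem_toFinset,
      Function.mem_support]
    exact ite_eq_left_iff.2 fun h => (not_not.1 h).symm
  constructor
  · intro hmem
    have h0 := Lib.C1Coh29.Div.hom_F2 hmem
    rw [hsum, hhom, QuotientAddGroup.eq_zero_iff] at h0
    obtain ⟨f, hf, hfd⟩ := h0
    refine ⟨X.residue (genericPoint X) f, (map_ne_zero _).2 hf, fun x hx => ?_⟩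
    exact (hfd ⟨x, hx⟩).trans (Lib.C1Coh29.Div.ordAt_residue ⟨x, hx⟩ f hf).symm
  · rintro ⟨g, hg, hgD⟩
    obtain ⟨f, rfl⟩ := X.residue_surjective (genericPoint X) g
    have hf : f ≠ 0 := fun h => hg (by rw [h, map_zero])
    obtain ⟨A, B, hA, hB, heq, hlen⟩ := Lib.C1Coh29.Div.exists_principal f hf
    have hfin : ∀ {C : X.Modules}, Lib.C1Coh29.Div.Tors C →
        (Function.support fun x => Lib.C1Coh29.Div.len C x • Lib.C1Coh29.Div.O x).Finite := fun hC =>
      (Lib.C1Coh29.Div.finite_len hC).subset fun x hx h0 =>
        hx (show Lib.C1Coh29.Div.len _ x • Lib.C1Coh29.Div.O x = 0 by rw [h0, zero_nsmul])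
    have hdl : (fun x => d x • Lib.C1Coh29.Div.O x) = fun x =>
        Lib.C1Coh29.Div.len A x • Lib.C1Coh29.Div.O x - Lib.C1Coh29.Div.len B x • Lib.C1Coh29.Div.O x := by
      funext x
      rw [show d x = _ from hgD x.1 x.2, Lib.C1Coh29.Div.ordAt_residue x f hf, ← hlen x, sub_smul,
        natCast_zsmul, natCast_zsmul]
    rw [hsum, hdl, finsum_sub_distrib (hfin hA) (hfin hB)]
    have := AddSubgroup.sub_mem _ (Lib.C1Coh29.Div.devissage hB) (Lib.C1Coh29.Div.devissage hA)
    rw [heq] at this
    simpa using this

end Groth.Agent.S15980
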