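import Groth.Statements.S15987
import Mathlib.RingTheory.Derivation.Basic
import Mathlib.Tactic.Ring

set_option autoImplicit false
universe u v
open Deform

namespace Groth.Agent.S15987

open TrivSqZeroExt in
/-- Let k be a field, A a commutative k-algebra and q_i : A → k (i ∈ ι) k-algebra maps (marked k-points
of Spec A). The k-algebra automorphisms φ of the ring of dual numbers A[ε] that fix ε (so are
k[ε]-linear), are the identity modulo ε, and satisfy q_i((φ x)_ε) = q_i(x_ε) for all i and x
(compatibility with the trivial lifts A[ε] → k[ε] of the marked points) are in bijection with the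
k-derivations D : A → A such that q_i ∘ D = 0 for every i, the bijection sending φ to a ↦ (φ(a))_ε.
(The source identifies the right-hand side with the global vector fields vanishing at the marked
points; the condition the computation yields is q_i ∘ D = 0, which is the same for Spec A smooth
over k but is weaker in general, e.g. for A = k[x]/(x^2) with 2 invertible in k.) -/
theorem result
    (k : Type u) [Field k] (A : Type u) [CommRing A] [Algebra k A] {ι : Type v} (q : ι → (A →ₐ[k] k)) :
    ∃ e : {φ : DualNumber A ≃ₐ[k] DualNumber A //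
            φ DualNumber.eps = DualNumber.eps ∧ (∀ x, (φ x).fst = x.fst) ∧
              ∀ i x, q i (φ x).snd = q i x.snd} ≃
          {D : Derivation k A A // ∀ i a, q i (D a) = 0},
      ∀ φ (a : A), (e φ).1 a = (φ.1 (inl a : DualNumber A)).snd := by
  have hdec : ∀ x : DualNumber A, x = inl x.fst + DualNumber.eps * inl x.snd := fun x => by
    refine TrivSqZeroExt.ext ?_ ?_ <;> simp [DualNumber.fst_eps, DualNumber.snd_eps, TrivSqZeroExt.fst_mul, TrivSqZeroExt.snd_mul]
  let mkD : {φ : DualNumber A ≃ₐ[k] DualNumber A //
      φ DualNumber.eps = DualNumber.eps ∧ (∀ x, (φ x).fst = x.fst) ∧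
        ∀ i x, q i (φ x).snd = q i x.snd} → Derivation k A A := fun φ =>
    Derivation.mk'
      { toFun := fun a => (φ.1 (inl a)).snd
        map_add' := fun a b => by rw [inl_add, map_add, snd_add]
        map_smul' := fun c a => by
          rw [show (inl (c • a) : DualNumber A) = c • inl a from inl_smul A c a, map_smul, snd_smul]
          rfl }
      (fun a b => by
        show (φ.1 (inl (a * b))).snd = a • (φ.1 (inl b)).snd + b • (φ.1 (inl a)).snd
        rw [show (inl (a * b) : DualNumber A) = inl a * inl b from inl_mul A a b, map_mul, snd_mul,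
          φ.2.2.1, φ.2.2.1, fst_inl, fst_inl]
        simp [mul_comm])
  let inv : Derivation k A A → (DualNumber A →ₐ[k] DualNumber A) := fun D =>
    { toFun := fun x => inl x.fst + inr (x.snd + D x.fst)
      map_one' := by refine TrivSqZeroExt.ext ?_ ?_ <;> simp
      map_mul' := fun x y => by
        refine TrivSqZeroExt.ext ?_ ?_
        · simp
        · simp [TrivSqZeroExt.snd_mul, mul_add]
          ring
      map_zero' := by refine TrivSqZeroExt.ext ?_ ?_ <;> simp
      map_add' := fun x y => by
        refine TrivSqZeroExt.ext ?_ ?_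
        · simp
        · simp
          ring
      commutes' := fun c => by
        refine TrivSqZeroExt.ext ?_ ?_ <;> simp [TrivSqZeroExt.algebraMap_eq_inl'] }
  have hinv : ∀ D x, inv D x = inl x.fst + inr (x.snd + D x.fst) := fun D x => rfl
  have hadd : ∀ D x, inv D (inv (-D) x) = x := fun D x => by
    refine TrivSqZeroExt.ext ?_ ?_ <;> simp [hinv]
  refine ⟨{ toFun := fun φ => ⟨mkD φ, fun i a => ?_⟩
            invFun := fun D => ⟨AlgEquiv.ofAlgHom (inv D.1) (inv (-D.1)) (AlgHom.ext (hadd D.1))
              (AlgHom.ext fun x => ?_), ?_, fun x => ?_, fun i x => ?_⟩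
            left_inv := fun φ => ?_
            right_inv := fun D => ?_ }, fun φ a => rfl⟩
  · show q i (φ.1 (inl a)).snd = 0
    rw [φ.2.2.2 i (inl a), snd_inl, map_zero]
  · simpa using hadd (-D.1) x
  · refine TrivSqZeroExt.ext ?_ ?_ <;> simp [hinv]
  · simp [hinv]
  · simp [hinv, D.2 i]
  · refine Subtype.ext (AlgEquiv.ext fun x => ?_)
    show inv (mkD φ) x = φ.1 x
    conv_rhs => rw [hdec x, map_add, map_mul, φ.2.1]
    refine TrivSqZeroExt.ext ?_ ?_
    · simp [hinv, φ.2.2.1, DualNumber.fst_eps, DualNumber.snd_eps]
    · simp [hinv, φ.2.2.1, DualNumber.fst_eps, DualNumber.snd_eps, TrivSqZeroExt.snd_mul, mkD]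
      ring
  · refine Subtype.ext (Derivation.ext fun a => ?_)
    show (inv D.1 (inl a)).snd = D.1 a
    simp [hinv]

end Groth.Agent.S15987
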