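import Groth.Statements.S15988
import Mathlib.RingTheory.Kaehler.Basic
import Mathlib.RingTheory.Smooth.Basic
import Mathlib.RingTheory.Ideal.Quotient.Operations
import Mathlib.Tactic.Ring

set_option autoImplicit false
universe u v
open Deform

namespace Groth.Agent.S15988

open TrivSqZeroExt in
/-- Let k be a field, A a smooth commutative k-algebra, q_i : A → k (i ∈ ι, ι finite) pairwise distinct
k-algebra maps, and q'_i : A[ε] → k[ε] k-algebra maps with q'_i(ε) = ε which reduce to q_i modulo ε
(marked points of a first-order deformation with underlying trivial deformation). Then some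
k-algebra automorphism φ of A[ε] with φ(ε) = ε and φ = id modulo ε carries every q'_i to the trivial
lift of q_i: q'_i(φ x) = (q_i(x_0), q_i(x_ε)) for all i and x. Together with the triviality of
first-order deformations of a smooth affine scheme this gives the source's statement that
first-order deformations of a smooth affine scheme with marked points are trivial. (The published
statement does not say that the finitely many marked points are distinct; for two coincident points
with different lifts no such automorphism exists, so the points are taken pairwise distinct here,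
and the source's non-singular is read as smooth over k.) -/
theorem result
    (k : Type u) [Field k] (A : Type u) [CommRing A] [Algebra k A] [Algebra.Smooth k A]
    {ι : Type v} [Finite ι] (q : ι → (A →ₐ[k] k)) (hq : Function.Injective q)
    (q' : ι → (DualNumber A →ₐ[k] DualNumber k))
    (hε : ∀ i, q' i DualNumber.eps = DualNumber.eps) (hq' : ∀ i x, (q' i x).fst = q i x.fst) :
    ∃ φ : DualNumber A ≃ₐ[k] DualNumber A,
      φ DualNumber.eps = DualNumber.eps ∧ (∀ x, (φ x).fst = x.fst) ∧
        ∀ i x, (q' i (φ x)).fst = q i x.fst ∧ (q' i (φ x)).snd = q i x.snd := by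
  classical
  have hdec : ∀ x : DualNumber A, x = inl x.fst + DualNumber.eps * inl x.snd := fun x => by
    refine TrivSqZeroExt.ext ?_ ?_ <;>
      simp [DualNumber.fst_eps, DualNumber.snd_eps, TrivSqZeroExt.fst_mul, TrivSqZeroExt.snd_mul]
  have hq'inl : ∀ i a, (q' i (inl a)).fst = q i a := fun i a => by rw [hq', fst_inl]
  have hsnd : ∀ i x, (q' i x).snd = (q' i (inl x.fst)).snd + q i x.snd := fun i x => by
    conv_lhs => rw [hdec x, map_add, map_mul, hε]
    simp [DualNumber.fst_eps, DualNumber.snd_eps, hq'inl, TrivSqZeroExt.snd_mul]
  let K : ι → Ideal A := fun i => RingHom.ker (q i)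
  have hKmk : ∀ i a, Ideal.Quotient.mk (K i) a = Ideal.Quotient.mk (K i) (algebraMap k A (q i a)) := fun i a => by
    rw [Ideal.Quotient.eq, RingHom.mem_ker, map_sub, AlgHom.commutes]
    exact sub_self _
  have hKmax : ∀ i, (K i).IsMaximal := fun i =>
    RingHom.ker_isMaximal_of_surjective (q i) fun c => ⟨algebraMap k A c, (q i).commutes c⟩
  have hcop : Pairwise fun i j => IsCoprime (K i) (K j) := fun i j hij =>
    Ideal.isCoprime_iff_sup_eq.2 ((hKmax i).coprime_of_ne (hKmax j) fun h => hij (hq (AlgHom.ext fun a => by
      have h1 : a - algebraMap k A (q i a) ∈ K j := h ▸ (Ideal.Quotient.eq.1 (hKmk i a))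
      rw [RingHom.mem_ker, map_sub, AlgHom.commutes, sub_eq_zero] at h1
      exact h1.symm)))
  -- the tangent vectors
  let δ : ∀ i, Derivation k A (A ⧸ K i) := fun i =>
    Derivation.mk'
      { toFun := fun a => Ideal.Quotient.mk (K i) (algebraMap k A (q' i (inl a)).snd)
        map_add' := fun a b => by rw [inl_add, map_add, snd_add, map_add, map_add]
        map_smul' := fun c a => by
          rw [show (inl (c • a) : DualNumber A) = c • inl a from inl_smul A c a, map_smul, snd_smul,
            RingHom.id_apply, smul_eq_mul, map_mul, map_mul, Algebra.smul_def]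
          rfl }
      (fun a b => by
        show Ideal.Quotient.mk (K i) (algebraMap k A (q' i (inl (a * b))).snd) =
          Ideal.Quotient.mk (K i) (a * algebraMap k A (q' i (inl b)).snd) +
            Ideal.Quotient.mk (K i) (b * algebraMap k A (q' i (inl a)).snd)
        rw [show (inl (a * b) : DualNumber A) = inl a * inl b from inl_mul A a b, map_mul, snd_mul]
        simp only [hq'inl, smul_eq_mul, MulOpposite.smul_eq_mul_unop, MulOpposite.unop_op, map_add, map_mul,
          ← hKmk i a, ← hKmk i b]
        ring)
  let g : A →ₗ[A] ((i : ι) → A ⧸ K i) := LinearMap.pi fun i => (K i).mkQ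
  have hg : Function.Surjective g := fun f => by
    obtain ⟨x, hx⟩ := Ideal.quotientInfToPiQuotient_surj hcop f
    obtain ⟨a, rfl⟩ := Ideal.Quotient.mk_surjective x
    exact ⟨a, funext fun i => congrFun hx i⟩
  let Δ : Derivation k A ((i : ι) → A ⧸ K i) :=
    Derivation.mk' (LinearMap.pi fun i => (δ i).toLinearMap) fun a b =>
      funext fun i => (δ i).leibniz a b
  obtain ⟨L, hL⟩ := Module.projective_lifting_property g Δ.liftKaehlerDifferential hg
  let D : Derivation k A A := -(L.compDer (KaehlerDifferential.D k A))
  have hD : ∀ i a, q i (D a) = -(q' i (inl a)).snd := fun i a => by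
    have h1 : g (L (KaehlerDifferential.D k A a)) = Δ a := by
      rw [← LinearMap.comp_apply, hL, Derivation.liftKaehlerDifferential_comp_D]
    have h2 : L (KaehlerDifferential.D k A a) - algebraMap k A (q' i (inl a)).snd ∈ K i :=
      Ideal.Quotient.eq.1 (congrFun h1 i)
    rw [RingHom.mem_ker, map_sub, AlgHom.commutes, sub_eq_zero] at h2
    show q i (-L (KaehlerDifferential.D k A a)) = _
    rw [map_neg, h2]
    rfl
  let inv : Derivation k A A → (DualNumber A →ₐ[k] DualNumber A) := fun D =>
    { toFun := fun x => inl x.fst + inr (x.snd + D x.fst)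
      map_one' := by refine TrivSqZeroExt.ext ?_ ?_ <;> simp
      map_mul' := fun x y => by
        refine TrivSqZeroExt.ext ?_ ?_
        · simp
        · simp [TrivSqZeroExt.snd_mul, mul_add]
          ring
      map_zero' := by refine TrivSqZeroExt.ext ?_ ?_ <;> simp
      map_add' := fun x y => by
        refine TrivSqZeroExt.ext ?_ ?_
        · simp
        · simp
          ring
      commutes' := fun c => by
        refine TrivSqZeroExt.ext ?_ ?_ <;> simp [TrivSqZeroExt.algebraMap_eq_inl'] }
  have hinv : ∀ D x, inv D x = inl x.fst + inr (x.snd + D x.fst) := fun D x => rfl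
  have hadd : ∀ D x, inv D (inv (-D) x) = x := fun D x => by
    refine TrivSqZeroExt.ext ?_ ?_ <;> simp [hinv]
  refine ⟨AlgEquiv.ofAlgHom (inv D) (inv (-D)) (AlgHom.ext (hadd D))
    (AlgHom.ext fun x => by simpa using hadd (-D) x), ?_, fun x => ?_, fun i x => ⟨?_, ?_⟩⟩
  · refine TrivSqZeroExt.ext ?_ ?_ <;> simp [hinv]
  · simp [hinv]
  · rw [hq']
    simp [hinv]
  · rw [hsnd i]
    simp [hinv, hD]

end Groth.Agent.S15988
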