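import Groth.Statements.S15989
import Groth.Agent.Lib.HypSeq89.TwistedCubic

set_option autoImplicit false
universe u
open ModFun

namespace Groth.Agent.S15989

open Groth.Agent.Lib.HypSeq89 CategoryTheory.Limits

open AlgebraicGeometry CategoryTheory in
/-- Over an algebraically closed field k, the moduli problem of curves of genus 1 (proper smooth
geometrically irreducible C → T with one-dimensional geometric fibres of genus 1, modulo isomorphism
over T, on all k-schemes T) is not representable: no k-scheme M carries a universal family. (The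
published statement asserts non-representability for every genus g and every number n of marked
points, which fails for g = 0 and n = 3: three disjoint sections identify every family with the
projective line over the base marked at 0, 1 and ∞, so that functor is represented by a point; its
argument is carried out in genus 1 with one marked point, and the unpointed genus-1 case stated here
is what that argument, with the same isotrivial family, proves.) -/
theorem result (k : Type u) [Field k] [IsAlgClosed k]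
    (M : Over (Spec (CommRingCat.of k))) :
    ¬ ModFun.IsFineModuli ⊤ (ModFun.Mg (Spec (CommRingCat.of k)) 1) M := by
  classical
  rintro ⟨ξ, -, huniv⟩
  let S := Spec (CommRingCat.of k)
  let K := FractionRing (Polynomial k)
  let L := AlgebraicClosure K
  let e : k := if (3 : k) = 0 then 1 else 0
  let t : K := algebraMap (Polynomial k) K Polynomial.X
  have ht : t ≠ 0 := fun h => Polynomial.X_ne_zero
    (IsFractionRing.injective (Polynomial k) K (h.trans (map_zero _).symm))
  let cst : k →+* K := (algebraMap (Polynomial k) K).comp Polynomial.C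
  have hb : ∀ u : K, u ≠ 0 → (3 : K) ≠ 0 ∧ u * cst e = 0 ∨ (3 : K) = 0 ∧ u * cst e ≠ 0 := fun u hu => by
    by_cases h3 : (3 : k) = 0
    · exact Or.inr ⟨by rw [← map_ofNat cst 3, h3, map_zero], by simp [e, h3, hu]⟩
    · exact Or.inl ⟨fun h => h3 (cst.injective (by rw [map_ofNat, h, map_zero])), by simp [e, h3]⟩
  let G₀ : LefPen.Form 2 K 3 := diagCubic ![1, 1, 1] (1 * cst e)
  let G₁ : LefPen.Form 2 K 3 := diagCubic ![1, t, t ^ 2] (t * cst e)
  have hsm₀ : Smooth (pcv G₀) := smooth_diagCubic (fun j => by fin_cases j <;> simp) (hb 1 one_ne_zero)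
  have hsm₁ : Smooth (pcv G₁) := smooth_diagCubic (fun j => by fin_cases j <;> simp [ht]) (hb t ht)
  have hG₀ : G₀ ≠ 0 := diagCubic_ne_zero (by simp) _
  have hG₁ : G₁ ≠ 0 := diagCubic_ne_zero (by simp) _
  let φ : K →+* L := algebraMap K L
  obtain ⟨s, hs⟩ := IsAlgClosed.exists_pow_nat_eq (φ t) (n := 3) (by norm_num)
  have hs0 : s ≠ 0 := fun h => ht (φ.injective (by rw [map_zero, ← hs, h]; simp))
  let H : LefPen.Form 2 L 3 := diagCubic ![1, 1, 1] (φ (cst e))
  have hH₀ : (H : MvPolynomial (Fin 3) L) = diagAlg 1 (MvPolynomial.map φ G₀.1) :=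
    map_diag_diagCubic φ 1 _ _ _ _ (fun j => by fin_cases j <;> simp) (by simp)
  have hH₁ : (H : MvPolynomial (Fin 3) L) =
      diagAlg ![1, (Units.mk0 s hs0)⁻¹, ((Units.mk0 s hs0) ^ 2)⁻¹] (MvPolynomial.map φ G₁.1) := by
    refine map_diag_diagCubic φ _ _ _ _ _ (fun j => ?_) ?_
    · fin_cases j <;> simp [map_pow, ← hs, Units.val_mk0]
      · exact mul_inv_cancel₀ (pow_ne_zero _ hs0)
      · rw [show (s ^ 2) ^ 3 = (s ^ 3) ^ 2 by ring]
        exact mul_inv_cancel₀ (pow_ne_zero _ (pow_ne_zero _ hs0))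
    · simp [map_mul, ← hs]; rw [show s⁻¹ * (s ^ 2)⁻¹ = (s ^ 3)⁻¹ by rw [← mul_inv, ← pow_succ'], mul_right_comm, mul_inv_cancel₀ (pow_ne_zero _ hs0), one_mul]
  obtain ⟨i₀, hp₀⟩ := exists_isPullback φ 1 G₀ H hH₀
  obtain ⟨i₁, hp₁⟩ := exists_isPullback φ _ G₁ H hH₁
  haveI := hsm₀
  haveI := hsm₁
  haveI hsmH : Smooth (pcv H) := MorphismProperty.of_isPullback hp₀ hsm₀
  let T : Over S := Over.mk (Spec.map (CommRingCat.ofHom cst))
  let T' : Over S := Over.mk (Spec.map (CommRingCat.ofHom φ) ≫ T.hom)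
  let π : T' ⟶ T := Over.homMk (Spec.map (CommRingCat.ofHom φ)) rfl
  obtain ⟨g₀, hg₀, -⟩ := huniv T (Over.mk (pcv G₀)) trivial ⟨trivial, isCurveOfGenus_one G₀ hG₀⟩
  obtain ⟨g₁, hg₁, -⟩ := huniv T (Over.mk (pcv G₁)) trivial ⟨trivial, isCurveOfGenus_one G₁ hG₁⟩
  obtain ⟨g, -, huq⟩ := huniv T' (Over.mk (pcv H)) trivial
    ⟨trivial, isCurveOfGenus_one H (diagCubic_ne_zero (by simp) _)⟩
  have key : ∀ (G : LefPen.Form 2 K 3) (i : (LefPen.hypIdeal H).subscheme ⟶ (LefPen.hypIdeal G).subscheme)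
      (_ : IsPullback i (pcv H) (pcv G) (Spec.map (CommRingCat.ofHom φ))) (f : T ⟶ M),
      Nonempty ((Over.pullback f.left).obj ξ ≅ (Over.mk (pcv G) : Over T.left)) → π ≫ f = g := by
    rintro G i hi f ⟨ε⟩
    refine huq _ ⟨?_⟩
    exact (Over.pullbackComp π.left f.left).app ξ ≪≫ (Over.pullback π.left).mapIso ε ≪≫
      (Over.isoMk hi.isoPullback (by exact hi.isoPullback_hom_snd)).symm
  have heq : g₀ = g₁ := by
    have h : π.left ≫ g₀.left = π.left ≫ g₁.left :=
      congrArg (fun f => f.left) ((key G₀ i₀ hp₀ g₀ hg₀).trans (key G₁ i₁ hp₁ g₁ hg₁).symm)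
    haveI : Surjective (Spec.map (CommRingCat.ofHom φ)) := ⟨fun x =>
      ⟨IsLocalRing.closedPoint L, Subsingleton.elim (α := PrimeSpectrum K) _ _⟩⟩
    haveI : Flat (Spec.map (CommRingCat.ofHom φ)) := by
      rw [HasRingHomProperty.Spec_iff (P := @Flat)]
      exact (RingHom.flat_algebraMap_iff.mpr inferInstance : (algebraMap K L).Flat)
    haveI : Epi π.left := Flat.epi_of_flat_of_surjective (Spec.map (CommRingCat.ofHom φ))
    exact Over.OverMorphism.ext ((cancel_epi π.left).1 h)
  subst heq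
  obtain ⟨ε₀⟩ := hg₀
  obtain ⟨ε₁⟩ := hg₁
  let ε : (Over.mk (pcv G₀) : Over T.left) ≅ Over.mk (pcv G₁) := ε₀.symm ≪≫ ε₁
  obtain ⟨σ, hσ⟩ := exists_section G₀ 0 ![-1, 0] (by
    rw [show G₀.1 = (diagCubic ![1, 1, 1] (1 * cst e)).1 from rfl, eval_diagCubic]
    simp [Fin.insertNth_zero]
    norm_num)
  obtain ⟨v, hv, hv0⟩ := exists_zero G₁ (σ ≫ ε.hom.left) (by
    rw [Category.assoc]
    exact (congrArg (σ ≫ ·) (Over.w ε.hom)).trans hσ)
  refine hv (no_zero e v ?_)
  rw [eval_diagCubic] at hv0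
  simp at hv0
  linear_combination hv0

end Groth.Agent.S15989
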