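import Groth.Statements.S1599
import Groth.Agent.H19.IntClosBC.FlatDescent
import Groth.Agent.Lib.Excellent.CompletionNoetherian
import Groth.Agent.Lib.Excellent.CompletionFinite


set_option autoImplicit false
universe u
open CategoryTheory CategoryTheory.Limits AlgebraicGeometry
open Resolve

namespace Groth.Agent.S1599

/-- Let A be a Noetherian local ring with maximal ideal m and B ⊆ C finite A-algebras. If B is a normal
ring and the m-adic completion of C is a normal ring, then the m-adic completion of B is a normal
ring. -/
theorem result (A : Type u) [CommRing A] [IsLocalRing A] [IsNoetherianRing A]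
    (B C : Type u) [CommRing B] [CommRing C] [Algebra A B] [Algebra A C] [Algebra B C] [IsScalarTower A B C]
    [Module.Finite A B] [Module.Finite A C] (hinj : Function.Injective (algebraMap B C))
    (hB : EGA4.IsNormalRing B)
    (hC : EGA4.IsNormalRing (AdicCompletion ((IsLocalRing.maximalIdeal A).map (algebraMap A C)) C)) :
    EGA4.IsNormalRing (AdicCompletion ((IsLocalRing.maximalIdeal A).map (algebraMap A B)) B) := by
  haveI : IsNoetherianRing B := IsNoetherianRing.of_finite A B
  haveI : Module.Finite B C := Module.Finite.of_restrictScalars_finite A B C
  let J := (IsLocalRing.maximalIdeal A).map (algebraMap A B)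
  have hJ : J.map (algebraMap B C) = (IsLocalRing.maximalIdeal A).map (algebraMap A C) := by
    rw [Ideal.map_map, ← IsScalarTower.algebraMap_eq]
  rw [← hJ] at hC
  haveI : Module.Flat B (AdicCompletion J B) := AdicCompletion.flat_of_isNoetherian J
  exact Groth.Agent.H19.IntClosBC.FlatDescent.isNormalRing_of_tensor C (AdicCompletion J B) hB hinj
    (Groth.Agent.Lib.NormalTensor.Basic.isNormalRing_congr
      (Groth.Agent.Lib.Excellent.CompletionFinite.completionEquiv J C).symm.toRingEquiv hC)


end Groth.Agent.S1599
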