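import Groth.Statements.S15991
import Groth.Agent.Lib.ArtinFun.AffTrivial


set_option autoImplicit false
universe u v
open Deform

namespace Groth.Agent.S15991

open Groth.Agent.Lib.ArtinFun.AffTrivial Groth.Agent.Lib.ArtinFun.AffDef

open AlgebraicGeometry CategoryTheory in
/-- Let k be a field and X an affine scheme smooth over k, with finitely many pairwise distinct
k-rational points p_j (j ∈ ι). Let X' → Spec k[ε] be flat, i : X → X' a morphism making X the fibre
over the closed point Spec k → Spec k[ε] (cartesian square), and p'_j : Spec k[ε] → X' sections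
restricting to the p_j. Then there is an isomorphism φ : X' ≅ X ×_{Spec k} Spec k[ε] over Spec k[ε]
such that i followed by φ is the inclusion of X at the closed point (its first component is the
identity of X) and each p'_j followed by φ is the constant section through p_j: every first-order
deformation of a smooth affine scheme with marked points is trivial. (The source says non-singular;
smooth over k is assumed here, and the marked points are taken pairwise distinct and finite in
number.) -/
theorem result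
    (k : Type u) [Field k] (X : Scheme.{u}) (hX : X ⟶ Spec (CommRingCat.of k)) [IsAffine X] [Smooth hX]
    {ι : Type v} [Finite ι] (p : ι → (Spec (CommRingCat.of k) ⟶ X)) (hp : ∀ j, p j ≫ hX = 𝟙 _)
    (hinj : Function.Injective p)
    (X' : Scheme.{u}) (g : X' ⟶ Spec (CommRingCat.of (DualNumber k))) [Flat g] (i : X ⟶ X')
    (hsq : IsPullback i hX g
      (Spec.map (CommRingCat.ofHom (TrivSqZeroExt.fstHom k k k).toRingHom)))
    (p' : ι → (Spec (CommRingCat.of (DualNumber k)) ⟶ X')) (hp' : ∀ j, p' j ≫ g = 𝟙 _)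
    (hpp' : ∀ j, p j ≫ i = Spec.map (CommRingCat.ofHom (TrivSqZeroExt.fstHom k k k).toRingHom) ≫ p' j) :
    ∃ φ : X' ≅ Limits.pullback hX (Spec.map (CommRingCat.ofHom (algebraMap k (DualNumber k)))),
      φ.hom ≫ Limits.pullback.snd hX (Spec.map (CommRingCat.ofHom (algebraMap k (DualNumber k)))) = g ∧
        i ≫ φ.hom ≫ Limits.pullback.fst hX (Spec.map (CommRingCat.ofHom (algebraMap k (DualNumber k)))) = 𝟙 X ∧
          ∀ j, p' j ≫ φ.hom ≫
              Limits.pullback.fst hX (Spec.map (CommRingCat.ofHom (algebraMap k (DualNumber k)))) =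
            Spec.map (CommRingCat.ofHom (algebraMap k (DualNumber k))) ≫ p j := by
  classical
  haveI : Module.Finite k (DualNumber k) := inferInstanceAs (Module.Finite k (k × k))
  haveI : IsArtinianRing (DualNumber k) := IsArtinianRing.of_finite k _
  obtain ⟨B₀, i₁, i₂, D, eX, eT, hx, hT, hi, hs⟩ :=
    exists_affine_data X hX (DualNumber k) (TrivSqZeroExt.fstHom k k k) X' g i hsq
  haveI := hs inferInstance
  letI algR : Algebra (DualNumber k) D.R := D.algebra
  letI : Algebra k D.R := ((algebraMap (DualNumber k) D.R).comp (algebraMap k (DualNumber k))).toAlgebra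
  let π : D.R →ₐ[k] B₀ :=
    { D.π with
      commutes' := fun c => (D.comm (algebraMap k (DualNumber k) c)).trans (congrArg (algebraMap k B₀) ((TrivSqZeroExt.fstHom k k k).commutes c)) }
  have hp₀ : ∀ j, ∃ f : B₀ →ₐ[k] k, sp f.toRingHom = p j ≫ eX.hom := fun j => by
    obtain ⟨f, hf⟩ := exists_sp (R := B₀) (S := k) (p j ≫ eX.hom)
    refine ⟨{ f with commutes' := fun c => RingHom.congr_fun (sp_injective (f := f.comp (algebraMap k B₀)) (g := RingHom.id k) ?_) c }, hf⟩
    rw [← sp_comp, hf, Category.assoc]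
    refine ((congrArg (fun m => p j ≫ m) hx).trans (hp j)).trans ?_
    exact (Spec.map_id _).symm
  choose pj hpj using hp₀
  have hq₀ : ∀ j, ∃ q : D.R →ₐ[k] DualNumber k, sp q.toRingHom = p' j ≫ eT.hom ∧
      (∀ a, q (algebraMap (DualNumber k) D.R a) = a) ∧ ∀ r, TrivSqZeroExt.fst (q r) = pj j (π r) := fun j => by
    obtain ⟨q, hq⟩ := exists_sp (R := D.R) (S := DualNumber k) (p' j ≫ eT.hom)
    have h1 : ∀ a, q (algebraMap (DualNumber k) D.R a) = a := fun a => by
      refine RingHom.congr_fun (sp_injective (f := q.comp (algebraMap (DualNumber k) D.R)) (g := RingHom.id _) ?_) a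
      rw [← sp_comp, hq, Category.assoc]
      refine ((congrArg (fun m => p' j ≫ m) hT).trans (hp' j)).trans ?_
      exact (Spec.map_id _).symm
    refine ⟨{ q with commutes' := fun c => h1 _ }, hq, h1, fun r => ?_⟩
    refine RingHom.congr_fun (sp_injective (f := (TrivSqZeroExt.fstHom k k k).toRingHom.comp q)
      (g := (pj j).toRingHom.comp D.π) ?_) r
    rw [← sp_comp, ← sp_comp, hq, hpj, Category.assoc, ← hi, ← Category.assoc, ← Category.assoc]
    exact congrArg (· ≫ eT.hom) (hpp' j).symm
  choose q hq hq1 hq2 using hq₀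
  have hpinj : ∀ j j', RingHom.ker (pj j).toRingHom = RingHom.ker (pj j').toRingHom → j = j' := fun j j' h => by
    refine hinj ((cancel_mono eX.hom).1 ((hpj j).symm.trans ((congrArg sp (RingHom.ext fun b => ?_)).trans (hpj j'))))
    have h1 : b - algebraMap k B₀ (pj j b) ∈ RingHom.ker (pj j).toRingHom := by
      rw [RingHom.mem_ker]
      show pj j (b - algebraMap k B₀ (pj j b)) = 0
      rw [map_sub, AlgHom.commutes]
      exact sub_self _
    rw [h, RingHom.mem_ker] at h1
    have h2 : pj j' (b - algebraMap k B₀ (pj j b)) = 0 := h1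
    rw [map_sub, AlgHom.commutes, sub_eq_zero] at h2
    exact h2.symm
  have hcrt : ∀ c : ι → k, ∃ s : B₀, ∀ j, pj j s = c j := fun c => by
    haveI : ∀ j, (RingHom.ker (pj j).toRingHom).IsMaximal := fun j =>
      RingHom.ker_isMaximal_of_surjective _ fun a => ⟨algebraMap k B₀ a, (pj j).commutes a⟩
    have hcop : Pairwise (fun j j' => IsCoprime (RingHom.ker (pj j).toRingHom) (RingHom.ker (pj j').toRingHom)) := fun j j' h =>
      Ideal.isCoprime_iff_sup_eq.2 (Ideal.IsMaximal.coprime_of_ne inferInstance inferInstance fun he => h (hpinj j j' he))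
    obtain ⟨s, hs⟩ := Ideal.pi_quotient_surjective hcop fun j => Ideal.Quotient.mk _ (algebraMap k B₀ (c j))
    refine ⟨s, fun j => ?_⟩
    have h1 := Ideal.Quotient.eq.1 (hs j)
    rw [RingHom.mem_ker] at h1
    have h2 : pj j (s - algebraMap k B₀ (c j)) = 0 := h1
    rwa [map_sub, AlgHom.commutes, sub_eq_zero] at h2
  let τ : D.R →ₐ[k] B₀ × (ι → DualNumber k) := π.prod (AlgHom.pi fun j => q j)
  have hmem : ∀ b : B₀, (b, fun j => (algebraMap k (DualNumber k) (pj j b))) ∈ τ.range := fun b => by
    obtain ⟨r₀, hr₀⟩ := D.surj b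
    obtain ⟨s, hs⟩ := hcrt fun j => TrivSqZeroExt.snd (q j r₀)
    obtain ⟨st, hst⟩ := D.surj s
    refine ⟨r₀ - algebraMap (DualNumber k) D.R DualNumber.eps * st, Prod.ext ?_ (funext fun j => ?_)⟩
    · show D.π (r₀ - algebraMap (DualNumber k) D.R DualNumber.eps * st) = b
      rw [map_sub, map_mul, hr₀]
      refine (congrArg (fun z => b - z * D.π st) (D.comm DualNumber.eps)).trans ?_
      show b - algebraMap k B₀ (TrivSqZeroExt.fst (DualNumber.eps : DualNumber k)) * D.π st = b
      rw [DualNumber.fst_eps, map_zero, zero_mul, sub_zero]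
    · show q j (r₀ - algebraMap (DualNumber k) D.R DualNumber.eps * st) = _
      rw [map_sub, map_mul, hq1]
      have h1 : TrivSqZeroExt.fst (q j r₀) = pj j b := (hq2 j r₀).trans (congrArg (pj j) hr₀)
      have h2 : TrivSqZeroExt.fst (q j st) = TrivSqZeroExt.snd (q j r₀) := ((hq2 j st).trans (congrArg (pj j) hst)).trans (hs j)
      refine TrivSqZeroExt.ext ?_ ?_
      · simp [h1, TrivSqZeroExt.algebraMap_eq_inl]
      · simp [h2, TrivSqZeroExt.algebraMap_eq_inl]
  let K : Ideal D.R := RingHom.ker τ.rangeRestrict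
  let eK : (D.R ⧸ K) ≃ₐ[k] τ.range :=
    Ideal.quotientKerAlgEquivOfSurjective (f := τ.rangeRestrict) (AlgHom.rangeRestrict_surjective τ)
  let f : B₀ →ₐ[k] D.R ⧸ K := eK.symm.toAlgHom.comp
    (((AlgHom.id k B₀).prod (AlgHom.pi fun j => (Algebra.ofId k (DualNumber k)).comp (pj j))).codRestrict τ.range hmem)
  have hK : IsNilpotent (RingHom.ker (Ideal.Quotient.mkₐ k K : D.R →+* D.R ⧸ K)) := by
    obtain ⟨N, hN⟩ := isNilpotent_ker_π D
    refine ⟨N, le_bot_iff.1 ((Ideal.pow_right_mono ?_ N).trans hN.le)⟩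
    intro r hr
    have h1 : τ r = 0 := congrArg Subtype.val (Ideal.Quotient.eq_zero_iff_mem.1 hr : τ.rangeRestrict r = 0)
    exact congrArg Prod.fst h1
  let σ : B₀ →ₐ[k] D.R := Algebra.FormallySmooth.liftOfSurjective f (Ideal.Quotient.mkₐ k K) Ideal.Quotient.mk_surjective hK
  have hσ : ∀ b, τ (σ b) = (b, fun j => algebraMap k (DualNumber k) (pj j b)) := fun b => by
    have h1 : Ideal.Quotient.mk K (σ b) = f b := Algebra.FormallySmooth.liftOfSurjective_apply f
      (Ideal.Quotient.mkₐ k K) Ideal.Quotient.mk_surjective hK b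
    have h2 := congrArg (fun z => (eK z : B₀ × (ι → DualNumber k))) h1
    exact h2.trans (congrArg Subtype.val (eK.apply_symm_apply _))
  obtain ⟨φ, h1, h2⟩ := exists_iso_of_section X hX D eX hx σ.toRingHom (fun c => σ.commutes c)
    (fun b => congrArg Prod.fst (hσ b))
  refine ⟨eT ≪≫ φ, by rw [Iso.trans_hom, Category.assoc]; exact (congrArg (eT.hom ≫ ·) h1).trans hT, ?_, fun j => ?_⟩
  · rw [Iso.trans_hom, Category.assoc]
    refine (congrArg (fun m => i ≫ eT.hom ≫ m) h2).trans ?_
    rw [← Category.assoc i, hi, Category.assoc, ← Category.assoc (sp D.π), sp_comp]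
    have h3 : sp (D.π.comp σ.toRingHom) = 𝟙 _ :=
      (congrArg sp (RingHom.ext fun b => congrArg Prod.fst (hσ b) : D.π.comp σ.toRingHom = RingHom.id B₀)).trans (Spec.map_id _)
    rw [h3, Category.id_comp, Iso.hom_inv_id]
  · rw [Iso.trans_hom, Category.assoc]
    refine (congrArg (fun m => p' j ≫ eT.hom ≫ m) h2).trans ?_
    rw [← Category.assoc (p' j), ← hq, ← Category.assoc (sp _), sp_comp]
    have h3 : (q j).toRingHom.comp σ.toRingHom = (algebraMap k (DualNumber k)).comp (pj j).toRingHom :=
      RingHom.ext fun b => congrFun (congrArg Prod.snd (hσ b)) j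
    rw [h3, ← sp_comp, hpj, Category.assoc, Category.assoc, Iso.hom_inv_id, Category.comp_id]

end Groth.Agent.S15991
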