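import Groth.Statements.S15993
import Groth.Agent.Lib.SchDense.Factor
import Mathlib.AlgebraicGeometry.Morphisms.FlatMono
-- import your own Groth.Agent.* helpers here

set_option autoImplicit false
open CategoryTheory AlgebraicGeometry
universe u
open EtHull CategoryTheory.Limits Groth.Agent.Lib.SchDense.Basic Groth.Agent.Lib.SchDense.Factor

namespace Groth.Agent.S15993

/-- Let f : X → S be a morphism of schemes which is faithfully flat (flat and surjective), quasi-compact
and separated, and schematically birational in the following sense: there are schematically dense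
opens U of S and V of X, with the inclusion V → X quasi-compact, such that f maps V into U and the
induced morphism V → U is an isomorphism. Then f is an isomorphism. (The source states this for
algebraic spaces and puts no quasi-compactness condition on the dense opens. Its proof base-changes
along f and uses that the inverse image of V in X ×_S X is again schematically dense, which holds
when V → X is quasi-compact, for instance when X is locally Noetherian, and fails in general: over
the Boolean ring of eventually constant sequences of elements of the field with two elements, the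
spectrum of the ring of eventually two-periodic sequences is faithfully flat and affine, and it is
an isomorphism above the open set of principal points, which is schematically dense on both sides,
yet it is not an isomorphism, the point at infinity being doubled. So V is taken retrocompact in X
here, and X, S are schemes.) -/
theorem result {X S : Scheme.{u}} (f : X ⟶ S)
    [Flat f] [Surjective f] [QuasiCompact f] [IsSeparated f]
    (U : S.Opens) (V : X.Opens) [QuasiCompact V.ι]
    (hU : CInt.IsSchematicallyDense U) (hV : CInt.IsSchematicallyDense V)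
    (hle : V ≤ f ⁻¹ᵁ U) (hiso : IsIso (f.resLE U V hle)) : IsIso f := by
  -- `V` is all of `f ⁻¹ U`
  let fU := f ⁻¹ᵁ U
  let i : (V : Scheme.{u}) ⟶ fU := X.homOfLE hle
  have hi : i ≫ fU.ι = V.ι := X.homOfLE_ι hle
  have hres : i ≫ (f ∣_ U) = f.resLE U V hle := by
    rw [← cancel_mono U.ι, Category.assoc, morphismRestrict_ι, Scheme.Hom.resLE_comp_ι,
      reassoc_of% hi]
  let σ : (U : Scheme.{u}) ⟶ fU := inv (f.resLE U V hle) ≫ i
  have hσ : σ ≫ (f ∣_ U) = 𝟙 _ := by
    rw [Category.assoc, hres, IsIso.inv_hom_id]
  have hiσ : i ≫ (f ∣_ U) ≫ σ = i := by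
    rw [reassoc_of% hres]; simp [σ]
  have hgσ : (f ∣_ U) ≫ σ = 𝟙 _ := by
    refine ext_of_isSchematicallyDense (f ∣_ U) (by rw [Category.assoc, hσ]; simp)
      (isSchematicallyDense_preimage hV fU) ?_
    let k : ((fU.ι ⁻¹ᵁ V : (fU : Scheme.{u}).Opens) : Scheme.{u}) ⟶ V :=
      IsOpenImmersion.lift V.ι ((fU.ι ⁻¹ᵁ V).ι ≫ fU.ι) (by
        rintro _ ⟨x, rfl⟩
        exact ⟨⟨_, x.2⟩, rfl⟩)
    have hk : (fU.ι ⁻¹ᵁ V).ι = k ≫ i := by
      rw [← cancel_mono fU.ι, Category.assoc, hi]
      exact (IsOpenImmersion.lift_fac _ _ _).symm
    rw [hk, Category.assoc, hiσ, Category.assoc, Category.comp_id]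
  have : IsIso (f ∣_ U) := ⟨σ, hgσ, hσ⟩
  -- the two projections agree
  have := std_of_isSchematicallyDense hV
  have heq : pullback.fst f f = pullback.snd f f := by
    refine ext_of_std f pullback.condition (pullback.fst (pullback.fst f f) V.ι) ?_
    let a := pullback.snd (pullback.fst f f) V.ι ≫ i
    have ha : a ≫ fU.ι = pullback.fst (pullback.fst f f) V.ι ≫ pullback.fst f f := by
      rw [Category.assoc, hi, pullback.condition]
    let b : pullback (pullback.fst f f) V.ι ⟶ fU :=
      IsOpenImmersion.lift fU.ι (pullback.fst (pullback.fst f f) V.ι ≫ pullback.snd f f) (by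
        rintro _ ⟨x, rfl⟩
        simp only [Scheme.Opens.range_ι]
        show f ((pullback.fst (pullback.fst f f) V.ι ≫ pullback.snd f f) x) ∈ U
        rw [← Scheme.Hom.comp_apply, Category.assoc, ← pullback.condition (f := f) (g := f),
          ← reassoc_of% ha, ← morphismRestrict_ι, Scheme.Hom.comp_apply, Scheme.Hom.comp_apply]
        exact ((f ∣_ U) (a x)).2)
    have hb : b ≫ fU.ι = pullback.fst (pullback.fst f f) V.ι ≫ pullback.snd f f :=
      IsOpenImmersion.lift_fac _ _ _
    have hab : a = b := by
      rw [← cancel_mono (f ∣_ U), ← cancel_mono U.ι]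
      calc (a ≫ f ∣_ U) ≫ U.ι = (a ≫ fU.ι) ≫ f := by
            simp only [Category.assoc, morphismRestrict_ι]; rfl
        _ = (b ≫ fU.ι) ≫ f := by
            rw [ha, hb, Category.assoc, Category.assoc, pullback.condition]
        _ = (b ≫ f ∣_ U) ≫ U.ι := by simp only [Category.assoc, morphismRestrict_ι]; rfl
    rw [← ha, hab, hb]
  have : Mono f := ⟨fun g h hgh => by
    calc g = pullback.lift g h hgh ≫ pullback.fst f f := (pullback.lift_fst _ _ _).symm
      _ = pullback.lift g h hgh ≫ pullback.snd f f := by rw [heq]
      _ = h := pullback.lift_snd _ _ _⟩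
  exact Flat.isIso_of_surjective_of_mono f

end Groth.Agent.S15993
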