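import Groth.Statements.S15994
import Groth.Agent.Lib.EtHull9.Finest
-- import your own Groth.Agent.* helpers here

set_option autoImplicit false
open CategoryTheory AlgebraicGeometry
universe u
open EtHull

namespace Groth.Agent.S15994

/-- Let S be a Noetherian scheme all of whose local rings are geometrically unibranch and whose
structure sheaf has no embedded associated points, and let f : X → S be flat, surjective and of
finite presentation. Then there is a factorization X → E₀ → S of f with E₀ → S étale and affine and
X → E₀ schematically dominant (the étale affine hull of X over S), and it is initial among all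
factorizations of f through étale affine S-schemes: for every factorization X → E → S of f with E →
S étale and affine there is a unique morphism E₀ → E compatible with the maps from X and to S. In
particular it is the largest factorization with X → E schematically dominant. (The source allows X
to be an algebraic space; X is a scheme here.) -/
theorem result {X S : Scheme.{u}} [IsNoetherian S]
    (hS : ∀ s : S, CAlg2.IsGeomUnibranch (S.presheaf.stalk s))
    (hemb : AssSch.NoEmbedded (Coh.structureModule S))
    (f : X ⟶ S) [Flat f] [Surjective f] [LocallyOfFinitePresentation f] [QuasiCompact f]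
    [QuasiSeparated f] :
    ∃ (E₀ : Scheme.{u}) (g₀ : E₀ ⟶ S) (u₀ : X ⟶ E₀), Etale g₀ ∧ IsAffineHom g₀ ∧
      IsSchemeTheoreticallyDominant u₀ ∧ u₀ ≫ g₀ = f ∧
      ∀ (E : Scheme.{u}) (g : E ⟶ S) (u : X ⟶ E), Etale g → IsAffineHom g → u ≫ g = f →
        ∃! v : E₀ ⟶ E, u₀ ≫ v = u ∧ v ≫ g = g₀ := by
  obtain ⟨T, hT⟩ := Groth.Agent.Lib.EtHull9.exists_trivial (f := f)
  obtain ⟨A, -, hA⟩ := Groth.Agent.Lib.EtHull9.exists_finest (f := f) hemb (fun _ => True)
    ⟨T, trivial⟩ fun A B _ _ => by
      obtain ⟨C, hCA, hCB, -⟩ := Groth.Agent.Lib.EtHull9.exists_sup hS hemb A B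
      exact ⟨C, trivial, hCA, hCB⟩
  refine ⟨A.E, A.g, A.u, A.etale, A.affine, A.dom, A.fac, fun E g u hg hg' hu => ?_⟩
  haveI := hg
  haveI := hg'
  haveI := A.dom
  obtain ⟨B, i, hiu, hig, -⟩ := Groth.Agent.Lib.EtHull9.exists_clopen_part (f := f) hS hemb g u hu
  obtain ⟨h⟩ := hA B trivial
  refine ⟨h.v ≫ i, ⟨by rw [← Category.assoc, h.hu, hiu], by rw [Category.assoc, hig, h.hg]⟩,
    fun v hv => ?_⟩
  refine Groth.Agent.S2299.result A.u g _ _ ?_ ?_
  · rw [hv.2, Category.assoc, hig, h.hg]
  · rw [hv.1, ← Category.assoc, h.hu, hiu]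

end Groth.Agent.S15994
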