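import Groth.Statements.S15995
import Mathlib.CategoryTheory.Limits.Shapes.Pullback.IsPullback.Basic

set_option autoImplicit false
open CategoryTheory AlgebraicGeometry
universe u
open FrobSch

namespace Groth.Agent.S15995
open CategoryTheory CategoryTheory.Limits AlgebraicGeometry

lemma isPullback_of_relPerfect {p : ℕ} [Fact p.Prime] {A B : Scheme.{u}} [FrobSch.IsCharP A p]
    [FrobSch.IsCharP B p] (f : A ⟶ B) (hf : IsIso (FrobSch.relFrob f p)) :
    IsPullback (FrobSch.frob A p) f f (FrobSch.frob B p) :=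
  haveI := hf
  (IsPullback.of_hasPullback f (FrobSch.frob B p)).of_iso (asIso (FrobSch.relFrob f p)).symm
    (Iso.refl _) (Iso.refl _) (Iso.refl _) (by simp) (by simp) (by simp) (by simp)

lemma relPerfect_of_isPullback {p : ℕ} [Fact p.Prime] {A B : Scheme.{u}} [FrobSch.IsCharP A p]
    [FrobSch.IsCharP B p] (f : A ⟶ B) (h : IsPullback (FrobSch.frob A p) f f (FrobSch.frob B p)) :
    IsIso (FrobSch.relFrob f p) := by
  have : FrobSch.relFrob f p = h.isoPullback.hom := by
    apply pullback.hom_ext <;> simp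
  rw [this]
  infer_instance

/-- Coperfection commutes with base restriction. Let S and T be schemes of characteristic p and f : T →
S a relatively perfect morphism (its relative Frobenius T → T^(p/S) is an isomorphism). Let g : X →
T and let c : X → X' be a T-morphism to a relatively perfect T-scheme π : X' → T which is a
coperfection of X over T: for every relatively perfect T-scheme Y, every T-morphism X → Y factors
uniquely through c. Then X' with structure map π ≫ f is relatively perfect over S and c is a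
coperfection of X over S: every S-morphism from X to a relatively perfect S-scheme factors uniquely
through c. (The source works with algebraic spaces; schemes here.) -/
theorem result (p : ℕ) [Fact p.Prime] {X X' T S : Scheme.{u}}
    [FrobSch.IsCharP S p] [FrobSch.IsCharP T p] (f : T ⟶ S) (hf : IsIso (FrobSch.relFrob f p))
    (g : X ⟶ T) (π : X' ⟶ T) (hπ : IsIso (FrobSch.relFrob π p)) (c : X ⟶ X') (hc : c ≫ π = g)
    (huniv : ∀ (Y : Scheme.{u}) (q : Y ⟶ T), IsIso (FrobSch.relFrob q p) →
      ∀ k : X ⟶ Y, k ≫ q = g → ∃! h : X' ⟶ Y, h ≫ q = π ∧ c ≫ h = k) :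
    IsIso (FrobSch.relFrob (π ≫ f) p) ∧
      ∀ (Y : Scheme.{u}) (r : Y ⟶ S), IsIso (FrobSch.relFrob r p) →
        ∀ k : X ⟶ Y, k ≫ r = g ≫ f → ∃! h : X' ⟶ Y, h ≫ r = π ≫ f ∧ c ≫ h = k := by
  haveI : FrobSch.IsCharP X' p := FrobSch.IsCharP.of_hom π p
  have hT := isPullback_of_relPerfect f hf
  have hX' := isPullback_of_relPerfect π hπ
  refine ⟨relPerfect_of_isPullback (π ≫ f) (hX'.paste_vert hT), fun Y r hr k hk => ?_⟩
  haveI : FrobSch.IsCharP Y p := FrobSch.IsCharP.of_hom r p
  haveI : FrobSch.IsCharP (pullback r f) p := FrobSch.IsCharP.of_hom (pullback.snd r f) p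
  have hYT := IsPullback.of_hasPullback r f
  have hq : IsIso (FrobSch.relFrob (pullback.snd r f) p) := by
    apply relPerfect_of_isPullback
    have h1 := hYT.paste_horiz (isPullback_of_relPerfect r hr)
    rw [← FrobSch.frob_comp (p := p) (pullback.fst r f), ← FrobSch.frob_comp (p := p) f] at h1
    exact IsPullback.of_right h1 (FrobSch.frob_comp p _) hYT
  obtain ⟨h', ⟨h1, h2⟩, huniq⟩ := huniv _ (pullback.snd r f) hq (hYT.lift k g hk) (hYT.lift_snd _ _ _)
  refine ⟨h' ≫ pullback.fst r f, ⟨?_, ?_⟩, fun h₂ ⟨ha, hb⟩ => ?_⟩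
  · rw [Category.assoc, hYT.w, ← Category.assoc, h1]
  · rw [← Category.assoc, h2, hYT.lift_fst]
  · have hlift : hYT.lift h₂ π ha = h' := huniq _ ⟨hYT.lift_snd _ _ _, by
      apply hYT.hom_ext <;> simp [hb, hc]⟩
    rw [← hlift, hYT.lift_fst]

end Groth.Agent.S15995
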