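import Groth.Statements.S15996
import Groth.Agent.H68.EtHull.Regular
import Groth.Agent.H54.IndQAff
import Groth.Agent.Lib.Unram.FibreCount
import Groth.Agent.Lib.Cyc.SmoothReg
import Mathlib.AlgebraicGeometry.QuasiAffine

set_option autoImplicit false
open CategoryTheory AlgebraicGeometry
universe u
open EtHull

namespace Groth.Agent.S15996

/-- Let R be a Noetherian ring whose localizations at all prime ideals are regular local rings, S = Spec
R, and q : U → S an étale, separated and quasi-compact morphism of schemes. The following are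
equivalent: (1) there is an open immersion of U into a scheme E which is étale and affine over S,
compatible with q; (2) the affine hull Spec Γ(U, O_U) → S of U over S is étale. (The source states
this for a locally Noetherian algebraic space S all of whose étale atlases are locally ℚ-factorial;
this row is the case of an affine regular Noetherian base, a regular scheme being locally
ℚ-factorial.) -/
theorem result {R : Type u} [CommRing R]
    [IsNoetherianRing R] (hreg : ∀ (P : Ideal R) [P.IsPrime], IsRegularLocalRing (Localization.AtPrime P))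
    {U : Scheme.{u}} (q : U ⟶ Spec (CommRingCat.of R)) [Etale q] [IsSeparated q] [QuasiCompact q] :
    (∃ (E : Scheme.{u}) (j : U ⟶ E) (g : E ⟶ Spec (CommRingCat.of R)),
        IsOpenImmersion j ∧ Etale g ∧ IsAffineHom g ∧ j ≫ g = q) ↔
      Etale (Spec.map q.appTop ≫ (Spec (CommRingCat.of R)).isoSpec.inv) := by
  have : CompactSpace U := QuasiCompact.compactSpace_of_compactSpace q
  constructor
  · rintro ⟨E, j, g, hj, hg, hgaff, rfl⟩
    have : IsAffine E := isAffine_of_isAffineHom g
    have : IsRegularRing R := isRegularRing_iff.mpr hreg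
    let φ : CommRingCat.of R ⟶ Γ(E, ⊤) := (Scheme.ΓSpecIso _).inv ≫ g.appTop
    have hg' : E.isoSpec.hom ≫ Spec.map φ = g := by
      simp [φ, Spec.map_comp, Scheme.isoSpec_hom, Scheme.isoSpec, ← Scheme.toSpecΓ_naturality_assoc,
        SpecMap_ΓSpecIso_inv_toSpecΓ]
    have : Etale (Spec.map φ) := by
      have h : Spec.map φ = E.isoSpec.inv ≫ g := by rw [← hg', Iso.inv_hom_id_assoc]
      rw [h]; infer_instance
    let _ : Algebra R Γ(E, ⊤) := φ.hom.toAlgebra
    have : Algebra.Etale R Γ(E, ⊤) :=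
      RingHom.etale_algebraMap.mp ((HasRingHomProperty.Spec_iff (P := @Etale)).mp ‹_›)
    have : IsNoetherianRing Γ(E, ⊤) := Algebra.FiniteType.isNoetherianRing R _
    let j₀ : U ⟶ Spec Γ(E, ⊤) := j ≫ E.isoSpec.hom
    obtain ⟨U₁, hle, hU₁, hbij⟩ := Groth.Agent.H68.EtHull.exists_affine_open
      (fun m _ => Groth.Agent.Lib.Cyc.SmoothReg.isRegularLocalRing_of_etale (P := R) m) j₀.opensRange
    have : IsAffine (U₁ : Scheme.{u}) := hU₁
    let j₁ : U ⟶ (U₁ : Scheme.{u}) := j₀.isoOpensRange.hom ≫ (Spec Γ(E, ⊤)).homOfLE hle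
    let g₁ : (U₁ : Scheme.{u}) ⟶ Spec (CommRingCat.of R) := U₁.ι ≫ Spec.map φ
    have hj₁ : j₁ ≫ g₁ = j ≫ g := by
      rw [show j₁ ≫ g₁ = (j₀.isoOpensRange.hom ≫ (Spec Γ(E, ⊤)).homOfLE hle ≫ U₁.ι) ≫ Spec.map φ by
        simp [j₁, g₁], Scheme.homOfLE_ι, Scheme.Hom.isoOpensRange_hom_ι, Category.assoc, hg']
    have hb : IsIso j₁.appTop := by
      have : IsIso ((Spec Γ(E, ⊤)).homOfLE hle).appTop := by
        have : IsIso ((Spec Γ(E, ⊤)).presheaf.map (homOfLE hle).op) :=
          (ConcreteCategory.isIso_iff_bijective _).mpr hbij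
        rw [show ((Spec Γ(E, ⊤)).homOfLE hle).appTop = (Spec Γ(E, ⊤)).presheaf.map
            (eqToHom (U₁.ι_image_top : U₁.ι ''ᵁ ⊤ = U₁).symm).op ≫
          (Spec Γ(E, ⊤)).presheaf.map (homOfLE hle).op ≫ (Spec Γ(E, ⊤)).presheaf.map
            (eqToHom (j₀.opensRange.ι_image_top : j₀.opensRange.ι ''ᵁ ⊤ = j₀.opensRange)).op from by
          rw [Scheme.Hom.appTop, Scheme.homOfLE_app, ← Functor.map_comp, ← Functor.map_comp]; rfl]
        refine @IsIso.comp_isIso _ _ _ _ _ _ _ 
          ((Spec Γ(E, ⊤)).presheaf.mapIso (eqToIso U₁.ι_image_top.symm).op).isIso_hom ?_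
        exact @IsIso.comp_isIso _ _ _ _ _ _ _ ‹_›
          ((Spec Γ(E, ⊤)).presheaf.mapIso (eqToIso j₀.opensRange.ι_image_top).op).isIso_hom
      simp only [j₁, Scheme.Hom.comp_appTop]
      exact @IsIso.comp_isIso _ _ _ _ _ _ _ ‹_› 
        (inferInstanceAs (IsIso (Scheme.Γ.map j₀.isoOpensRange.hom.op)))
    have h : Spec.map (j ≫ g).appTop ≫ (Spec (CommRingCat.of R)).isoSpec.inv =
        Spec.map j₁.appTop ≫ (U₁ : Scheme.{u}).isoSpec.inv ≫ g₁ := by
      rw [← hj₁, Scheme.Hom.comp_appTop, Spec.map_comp, Category.assoc,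
        Scheme.isoSpec_inv_naturality]
    rw [h]
    infer_instance
  · intro h
    have : U.IsQuasiAffine := Groth.Agent.H54.IndQAff.isQuasiAffine_of_hom
      (Groth.Agent.H54.IndQAff.of_locallyQuasiFinite q)
    refine ⟨_, U.toSpecΓ, Spec.map q.appTop ≫ (Spec (CommRingCat.of R)).isoSpec.inv,
      inferInstance, h, inferInstance, ?_⟩
    rw [← Category.assoc, ← Scheme.toSpecΓ_naturality, Category.assoc, ← Scheme.isoSpec_hom,
      Iso.hom_inv_id, Category.comp_id]

end Groth.Agent.S15996
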