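import Groth.Statements.S15997
import Groth.Agent.Lib.AssPt.FlatDom
import Groth.Agent.Lib.StCurv.CohenMacaulay
import Groth.Agent.Lib.Unram.UnibranchEtale
import Mathlib.AlgebraicGeometry.Morphisms.QuasiFinite
import Mathlib.AlgebraicGeometry.Noetherian
import Groth.Agent.Lib.Henselian.DescendSection
-- import your own Groth.Agent.* helpers here

set_option autoImplicit false
open CategoryTheory CategoryTheory.Limits AlgebraicGeometry
universe u
open EtHull

namespace Groth.Agent.S15997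

set_option linter.style.haveILetI false

open Groth.Agent.Lib Groth.Agent.Lib.AssPt.Basic in
/-- Associated points of a scheme etale over a base without embedded points are maximal. -/
theorem eq_of_specializes_maxAssoc {P S : Scheme.{u}} [IsLocallyNoetherian S]
    (hemb : AssSch.NoEmbedded (Coh.structureModule S)) (g : P ⟶ S) [Etale g] {x y : P}
    (hx : MaxAssoc (P.presheaf.stalk x)) (hyx : y ⤳ x) : y = x := by
  obtain ⟨t, hty, ht⟩ := AssPt.FlatDom.exists_maxAssoc_generalization y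
  have h1 : g t = g x := (hemb (g x)
    ((isAssPoint_structure_iff _).2 ((AssPt.FlatDom.maxAssoc_iff_of_etale g x).1 hx)) (g t)
    ((isAssPoint_structure_iff _).2 ((AssPt.FlatDom.maxAssoc_iff_of_etale g t).1 ht))
    ((hty.trans hyx).map g.continuous)).symm
  haveI := Groth.Agent.Lib.Henselian.DescendSection.locallyQuasiFinite_of_etale g
  have hdisc := g.isDiscrete_preimage_singleton (g x)
  haveI : DiscreteTopology ↑(⇑g ⁻¹' {g x}) := hdisc.1
  have h2 : (⟨t, h1⟩ : ↑(⇑g ⁻¹' {g x})) ⤳ ⟨x, rfl⟩ := (subtype_specializes_iff _ _).2 (hty.trans hyx)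
  have h3 : t = x := congrArg Subtype.val h2.eq
  subst h3
  exact (hyx.antisymm hty).eq

/-- Let S be a Noetherian scheme all of whose local rings are geometrically unibranch and whose
structure sheaf has no embedded associated points, and let f : X → S be flat, surjective and of
finite presentation. Call an admissible factorization a factorization X → E → S of f with E → S
étale and affine and X → E schematically dominant. Then any two admissible factorizations X → E₁ → S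
and X → E₂ → S have a supremum: an admissible factorization X → E → S with compatible S-morphisms E
→ E₁ and E → E₂, such that every admissible factorization X → E' → S with compatible S-morphisms E'
→ E₁ and E' → E₂ admits a compatible morphism E' → E. (The source allows X to be an algebraic space;
X is a scheme here.) -/
theorem result {X S : Scheme.{u}} [IsNoetherian S]
    (hS : ∀ s : S, CAlg2.IsGeomUnibranch (S.presheaf.stalk s))
    (hemb : AssSch.NoEmbedded (Coh.structureModule S))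
    (f : X ⟶ S) [Flat f] [Surjective f] [LocallyOfFinitePresentation f] [QuasiCompact f]
    [QuasiSeparated f]
    (E₁ E₂ : Scheme.{u}) (g₁ : E₁ ⟶ S) (g₂ : E₂ ⟶ S) (u₁ : X ⟶ E₁) (u₂ : X ⟶ E₂)
    [Etale g₁] [Etale g₂] [IsAffineHom g₁] [IsAffineHom g₂]
    [IsSchemeTheoreticallyDominant u₁] [IsSchemeTheoreticallyDominant u₂]
    (h₁ : u₁ ≫ g₁ = f) (h₂ : u₂ ≫ g₂ = f) :
    ∃ (E : Scheme.{u}) (g : E ⟶ S) (u : X ⟶ E) (v₁ : E ⟶ E₁) (v₂ : E ⟶ E₂),
      Etale g ∧ IsAffineHom g ∧ IsSchemeTheoreticallyDominant u ∧ u ≫ g = f ∧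
      u ≫ v₁ = u₁ ∧ u ≫ v₂ = u₂ ∧ v₁ ≫ g₁ = g ∧ v₂ ≫ g₂ = g ∧
      ∀ (E' : Scheme.{u}) (g' : E' ⟶ S) (u' : X ⟶ E') (w₁ : E' ⟶ E₁) (w₂ : E' ⟶ E₂),
        Etale g' → IsAffineHom g' → IsSchemeTheoreticallyDominant u' → u' ≫ g' = f →
        u' ≫ w₁ = u₁ → u' ≫ w₂ = u₂ → w₁ ≫ g₁ = g' → w₂ ≫ g₂ = g' →
        ∃ w : E' ⟶ E, u' ≫ w = u ∧ w ≫ v₁ = w₁ ∧ w ≫ v₂ = w₂ := by
  let P := pullback g₁ g₂
  let gP : P ⟶ S := pullback.fst g₁ g₂ ≫ g₁
  haveI : Etale gP := MorphismProperty.comp_mem @Etale _ _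
    (MorphismProperty.pullback_fst (P := @Etale) g₁ g₂ ‹_›) ‹_›
  haveI : IsAffineHom (pullback.fst g₁ g₂) := MorphismProperty.pullback_fst _ _ ‹_›
  haveI : IsAffineHom gP := MorphismProperty.comp_mem @IsAffineHom _ _ ‹_› ‹_›
  let u : X ⟶ P := pullback.lift u₁ u₂ (h₁.trans h₂.symm)
  have hu : u ≫ gP = f := by rw [← Category.assoc, pullback.lift_fst, h₁]
  haveI : Flat (u ≫ gP) := hu ▸ inferInstance
  haveI : Flat u := Groth.Agent.Lib.StCurv.flat_of_comp_etale u gP
  haveI : IsLocallyNoetherian P := LocallyOfFiniteType.isLocallyNoetherian gP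
  haveI : CompactSpace P := QuasiCompact.compactSpace_of_compactSpace gP
  haveI : IsNoetherian P := {}
  have huniq : ∀ x : P, ∃! Z, Z ∈ irreducibleComponents ↥P ∧ x ∈ Z := fun x =>
    Groth.Agent.Lib.Unram.UnibranchEtale.existsUnique_component x
      (Groth.Agent.Lib.Unram.UnibranchEtale.stalk_props gP x (Flat.stalkMap gP x)
        (FormallyUnramified.stalkMap gP x) (hS _)).1
  let A : Set (Set P) := {Z ∈ irreducibleComponents ↥P | (Z ∩ Set.range u).Nonempty}
  let B : Set (Set P) := {Z ∈ irreducibleComponents ↥P | ¬ (Z ∩ Set.range u).Nonempty}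
  have hfin := TopologicalSpace.NoetherianSpace.finite_irreducibleComponents (α := ↥P)
  have hA : IsClosed (⋃₀ A) := by
    rw [Set.sUnion_eq_biUnion]
    exact (hfin.subset fun Z hZ => hZ.1).isClosed_biUnion fun Z hZ =>
      isClosed_of_mem_irreducibleComponents Z hZ.1
  have hB : IsClosed (⋃₀ B) := by
    rw [Set.sUnion_eq_biUnion]
    exact (hfin.subset fun Z hZ => hZ.1).isClosed_biUnion fun Z hZ =>
      isClosed_of_mem_irreducibleComponents Z hZ.1
  have hAB : (⋃₀ A)ᶜ = ⋃₀ B := by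
    ext x
    obtain ⟨Z, ⟨hZ, hxZ⟩, hun⟩ := huniq x
    refine ⟨fun hx => ⟨Z, ⟨hZ, fun hne => hx ⟨Z, ⟨hZ, hne⟩, hxZ⟩⟩, hxZ⟩, ?_⟩
    rintro ⟨Z₁, hZ₁, hx₁⟩ ⟨Z₂, hZ₂, hx₂⟩
    exact hZ₁.2 ((hun Z₁ ⟨hZ₁.1, hx₁⟩).trans (hun Z₂ ⟨hZ₂.1, hx₂⟩).symm ▸ hZ₂.2)
  let U : P.Opens := ⟨⋃₀ A, by rw [← isClosed_compl_iff, hAB]; exact hB⟩
  haveI : IsClosedImmersion U.ι := .of_isPreimmersion _ (by rw [Scheme.Opens.range_ι]; exact hA)
  have hru : ∀ x, u x ∈ U := fun x => by
    obtain ⟨Z, ⟨hZ, hxZ⟩, -⟩ := huniq (u x)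
    exact ⟨Z, ⟨hZ, u x, hxZ, x, rfl⟩, hxZ⟩
  let uE : X ⟶ U := IsOpenImmersion.lift U.ι u (by
    rw [Scheme.Opens.range_ι]; rintro _ ⟨x, rfl⟩; exact hru x)
  have huE : uE ≫ U.ι = u := IsOpenImmersion.lift_fac _ _ _
  let g : (U : Scheme.{u}) ⟶ S := U.ι ≫ gP
  haveI : Etale g := MorphismProperty.comp_mem @Etale _ _ inferInstance ‹_›
  haveI : IsAffineHom g := inferInstance
  have huEg : uE ≫ g = f := by rw [← Category.assoc, huE, hu]
  haveI : Flat (uE ≫ g) := huEg ▸ inferInstance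
  haveI : Flat uE := Groth.Agent.Lib.StCurv.flat_of_comp_etale uE g
  have hdom : IsSchemeTheoreticallyDominant uE := by
    rw [Groth.Agent.Lib.AssPt.FlatDom.isSchemeTheoreticallyDominant_iff_of_flat]
    intro x hx
    obtain ⟨Z, ⟨hZ, hne⟩, hxZ⟩ : (U.ι x : P) ∈ ⋃₀ A := x.2
    obtain ⟨z, hzZ, w, hw⟩ := hne
    obtain ⟨η, hη⟩ := QuasiSober.sober hZ.1 (isClosed_of_mem_irreducibleComponents Z hZ)
    have hηx : η ⤳ U.ι x := hη.specializes hxZ
    have hxP : Groth.Agent.Lib.AssPt.Basic.MaxAssoc (P.presheaf.stalk (U.ι x)) :=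
      (Groth.Agent.Lib.AssPt.FlatDom.maxAssoc_iff_of_etale U.ι x).1 hx
    have heq := eq_of_specializes_maxAssoc hemb gP hxP hηx
    have hwz : η ⤳ u w := hw ▸ hη.specializes hzZ
    obtain ⟨w', -, hw'⟩ := Flat.generalizingMap (f := u) hwz
    refine ⟨w', U.ι.isOpenEmbedding.injective ?_⟩
    rw [← Scheme.Hom.comp_apply, huE, hw', heq]
  refine ⟨U, g, uE, U.ι ≫ pullback.fst g₁ g₂, U.ι ≫ pullback.snd g₁ g₂, inferInstance, inferInstance,
    hdom, huEg, by rw [reassoc_of% huE, pullback.lift_fst],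
    by rw [reassoc_of% huE, pullback.lift_snd], Category.assoc _ _ _,
    by rw [Category.assoc, ← pullback.condition], ?_⟩
  intro E' g' u' w₁ w₂ hg' hg'' hu' hu'g huw₁ huw₂ hw₁ hw₂
  haveI := hg''
  haveI := hu'
  haveI : QuasiCompact (u' ≫ g') := hu'g ▸ inferInstance
  haveI : QuasiCompact u' := QuasiCompact.of_comp u' g'
  let w' : E' ⟶ P := pullback.lift w₁ w₂ (hw₁.trans hw₂.symm)
  have huw' : u' ≫ w' = u := by
    apply pullback.hom_ext
    · rw [Category.assoc, pullback.lift_fst, pullback.lift_fst, huw₁]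
    · rw [Category.assoc, pullback.lift_snd, pullback.lift_snd, huw₂]
  have hrw' : Set.range w' ⊆ Set.range U.ι := by
    rw [Scheme.Opens.range_ι]
    rintro _ ⟨e, rfl⟩
    by_contra he
    obtain ⟨x, hy⟩ := u'.denseRange.exists_mem_open
      (hA.isOpen_compl.preimage w'.continuous) ⟨e, he⟩
    refine hy ?_
    rw [← Scheme.Hom.comp_apply, huw']
    exact hru x
  refine ⟨IsOpenImmersion.lift U.ι w' hrw', ?_, ?_, ?_⟩
  · rw [← cancel_mono U.ι, Category.assoc, IsOpenImmersion.lift_fac, huw', huE]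
  · rw [IsOpenImmersion.lift_fac_assoc, pullback.lift_fst]
  · rw [IsOpenImmersion.lift_fac_assoc, pullback.lift_snd]

end Groth.Agent.S15997
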