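import Groth.Statements.S16000

import Mathlib.RingTheory.RingHom.FaithfullyFlat
import Mathlib.RingTheory.Flat.EquationalCriterion
import Mathlib.RingTheory.Flat.FaithfullyFlat.Algebra
import Mathlib.LinearAlgebra.DirectSum.Finsupp
import Mathlib.FieldTheory.Perfect
import Mathlib.RingTheory.Flat.Basic

set_option autoImplicit false
open scoped TensorProduct
universe u
open FrobAlg

namespace Groth.Agent.S16000

open TensorProduct in

theorem injective_lTensor_pi {R : Type*} [CommRing R] (P : Type*) [AddCommGroup P] [Module R P]
    [Module.Projective R P] {ι : Type*} (M : ι → Type*) [∀ i, AddCommGroup (M i)] [∀ i, Module R (M i)]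
    (z : P ⊗[R] (Π i, M i)) (h : ∀ i, (LinearMap.proj i).lTensor P z = 0) : z = 0 := by
  classical
  obtain ⟨s, hs⟩ := Module.projective_def.1 ‹Module.Projective R P›
  have h0 : TensorProduct.finsuppScalarLeft R (Π i, M i) P (s.rTensor _ z) = 0 := by
    ext j i
    rw [TensorProduct.finsuppScalarLeft_apply, Finsupp.zero_apply, Pi.zero_apply]
    have e : ∀ w : (P →₀ R) ⊗[R] (Π i, M i),
        TensorProduct.lid R _ ((Finsupp.lapply j).rTensor _ w) i =
          TensorProduct.lid R _ ((Finsupp.lapply j).rTensor _ ((LinearMap.proj i).lTensor _ w)) := by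
      intro w
      induction w using TensorProduct.induction_on with
      | zero => simp
      | tmul a b => simp
      | add a b ha hb => simp only [map_add, Pi.add_apply, ha, hb]
    rw [e, ← LinearMap.comp_apply ((LinearMap.proj i).lTensor _), LinearMap.lTensor_comp_rTensor,
      ← LinearMap.rTensor_comp_lTensor, LinearMap.comp_apply, h i, map_zero, map_zero, map_zero]
  have h1 : s.rTensor (Π i, M i) z = 0 := by simpa using h0
  have h2 := congrArg ((Finsupp.linearCombination R _root_.id : (P →₀ R) →ₗ[R] P).rTensor (Π i, M i)) h1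
  rw [map_zero, ← LinearMap.comp_apply, ← LinearMap.rTensor_comp,
    show (Finsupp.linearCombination R _root_.id : (P →₀ R) →ₗ[R] P).comp s = LinearMap.id from LinearMap.ext hs] at h2
  simpa using h2

section
variable (p : ℕ) [Fact p.Prime] (R : Type u) [CommRing R] [CharP R p]

set_option linter.unusedVariables false in
/-- `R`, as an algebra over itself by the `n`-th iterate of Frobenius -/
@[nolint unusedArguments] def Stage (p : ℕ) (R : Type u) (n : ℕ) : Type u := R

instance (n : ℕ) : CommRing (Stage p R n) := inferInstanceAs (CommRing R)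

/-- the identity -/
def toStage (n : ℕ) : R ≃+* Stage p R n := RingEquiv.refl R

instance algebraStage (n : ℕ) : Algebra R (Stage p R n) :=
  ((toStage p R n : R →+* Stage p R n).comp (iterateFrobenius R p n)).toAlgebra

theorem algebraMap_stage (n : ℕ) (r : R) : algebraMap R (Stage p R n) r = toStage p R n (r ^ p ^ n) := rfl

theorem projective_stage [Module.Projective R (FrobAlg.Twist p R)] (n : ℕ) :
    Module.Projective R (Stage p R n) := by
  induction n with
  | zero =>
    let e : R ≃ₗ[R] Stage p R 0 :=
      { (toStage p R 0).toAddEquiv with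
        map_smul' := fun r x => by
          show toStage p R 0 (r * x) = r • toStage p R 0 x
          rw [Algebra.smul_def, algebraMap_stage, pow_zero, pow_one, map_mul] }
    exact Module.Projective.of_equiv' e
  | succ n ih =>
    let g : FrobAlg.Twist p R →+* Stage p R (n + 1) :=
      ((toStage p R (n + 1) : R →+* Stage p R (n + 1)).comp (iterateFrobenius R p n)).comp
        ((FrobAlg.toTwist p R).symm : FrobAlg.Twist p R →+* R)
    let : Algebra (FrobAlg.Twist p R) (Stage p R (n + 1)) := g.toAlgebra
    have : IsScalarTower R (FrobAlg.Twist p R) (Stage p R (n + 1)) := .of_algebraMap_eq fun r => by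
      show toStage p R (n + 1) (r ^ p ^ (n + 1)) =
        toStage p R (n + 1) (iterateFrobenius R p n ((FrobAlg.toTwist p R).symm (algebraMap R (FrobAlg.Twist p R) r)))
      rw [FrobAlg.algebraMap_twist, RingEquiv.symm_apply_apply, iterateFrobenius_def, ← pow_mul, ← pow_succ']
    let σ : R →+* FrobAlg.Twist p R := FrobAlg.toTwist p R
    let σ' : FrobAlg.Twist p R →+* R := (FrobAlg.toTwist p R).symm
    have i1 : RingHomInvPair σ σ' := RingHomInvPair.of_ringEquiv _
    have i2 : RingHomInvPair σ' σ := RingHomInvPair.of_ringEquiv_symm _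
    let e : Stage p R n ≃ₛₗ[σ] Stage p R (n + 1) :=
      { ((toStage p R n).symm.trans (toStage p R (n + 1))).toAddEquiv with
        map_smul' := fun r x => by
          show toStage p R (n + 1) ((toStage p R n).symm (r • x)) = σ r • toStage p R (n + 1) ((toStage p R n).symm x)
          rw [Algebra.smul_def, Algebra.smul_def, map_mul, map_mul]
          rfl }
    have : Module.Projective (FrobAlg.Twist p R) (Stage p R (n + 1)) := Module.Projective.of_equiv e
    obtain ⟨s, hs⟩ := Module.projective_def.1 this
    classical
    have : Module.Projective R (Stage p R (n + 1) →₀ FrobAlg.Twist p R) :=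
      Module.Projective.of_equiv' (finsuppLequivDFinsupp R).symm
    exact Module.Projective.of_split (s.restrictScalars R)
      ((Finsupp.linearCombination (FrobAlg.Twist p R) _root_.id).restrictScalars R) (LinearMap.ext hs)

/-- the inclusion of a stage in the perfect closure -/
noncomputable def stageHom (n : ℕ) : Stage p R n →+* PerfectClosure R p :=
  ((iterateFrobeniusEquiv (PerfectClosure R p) p n).symm : PerfectClosure R p →+* PerfectClosure R p).comp
    ((PerfectClosure.of R p).comp ((toStage p R n).symm : Stage p R n →+* R))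

theorem stageHom_apply (n : ℕ) (x : R) : stageHom p R n (toStage p R n x) = PerfectClosure.mk R p (n, x) := by
  apply (iterateFrobeniusEquiv (PerfectClosure R p) p n).injective
  show iterateFrobeniusEquiv (PerfectClosure R p) p n ((iterateFrobeniusEquiv (PerfectClosure R p) p n).symm
    (PerfectClosure.of R p x)) = _
  rw [RingEquiv.apply_symm_apply, coe_iterateFrobeniusEquiv, coe_iterateFrobenius,
    PerfectClosure.iterate_frobenius_mk]

theorem stageHom_algebraMap (n : ℕ) (r : R) :
    stageHom p R n (algebraMap R (Stage p R n) r) = PerfectClosure.of R p r := by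
  apply (iterateFrobeniusEquiv (PerfectClosure R p) p n).injective
  rw [algebraMap_stage]
  show iterateFrobeniusEquiv (PerfectClosure R p) p n ((iterateFrobeniusEquiv (PerfectClosure R p) p n).symm
    (PerfectClosure.of R p (r ^ p ^ n))) = _
  rw [RingEquiv.apply_symm_apply, iterateFrobeniusEquiv_def, ← map_pow]

/-- the transition maps between stages -/
noncomputable def stageUp (n m : ℕ) : Stage p R n →+* Stage p R (m + n) :=
  (toStage p R (m + n) : R →+* Stage p R (m + n)).comp
    ((iterateFrobenius R p m).comp ((toStage p R n).symm : Stage p R n →+* R))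

theorem stageHom_up (n m : ℕ) (x : Stage p R n) : stageHom p R (m + n) (stageUp p R n m x) = stageHom p R n x := by
  apply (iterateFrobeniusEquiv (PerfectClosure R p) p (m + n)).injective
  show iterateFrobeniusEquiv (PerfectClosure R p) p (m + n) ((iterateFrobeniusEquiv (PerfectClosure R p) p (m + n)).symm
    (PerfectClosure.of R p (iterateFrobenius R p m x))) = _
  rw [RingEquiv.apply_symm_apply, iterateFrobeniusEquiv_add_apply]
  show _ = iterateFrobeniusEquiv (PerfectClosure R p) p m (iterateFrobeniusEquiv (PerfectClosure R p) p n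
    ((iterateFrobeniusEquiv (PerfectClosure R p) p n).symm (PerfectClosure.of R p x)))
  rw [RingEquiv.apply_symm_apply, iterateFrobeniusEquiv_def]
  exact (congrArg (PerfectClosure.of R p) (iterateFrobenius_def (R := R) p m x)).trans (map_pow _ _ _)

theorem stageUp_algebraMap (n m : ℕ) (r : R) :
    stageUp p R n m (algebraMap R (Stage p R n) r) = algebraMap R (Stage p R (m + n)) r := by
  rw [algebraMap_stage, algebraMap_stage]
  show toStage p R (m + n) (iterateFrobenius R p m (r ^ p ^ n)) = _
  rw [iterateFrobenius_def, ← pow_mul, ← pow_add, add_comm]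

theorem exists_stage {ι : Type*} [Finite ι] (x : ι → PerfectClosure R p) :
    ∃ (n : ℕ) (y : ι → Stage p R n), ∀ i, stageHom p R n (y i) = x i := by
  choose z hz using fun i => PerfectClosure.mk_surjective R p (x i)
  obtain ⟨N, hN⟩ := (Set.finite_range fun i => (z i).1).bddAbove
  have hle : ∀ i, ∃ m, m + (z i).1 = N := fun i => ⟨N - (z i).1, Nat.sub_add_cancel (hN ⟨i, rfl⟩)⟩
  choose m hm using hle
  refine ⟨N, fun i => hm i ▸ stageUp p R (z i).1 (m i) (toStage p R _ (z i).2), fun i => ?_⟩
  have key : ∀ (M : ℕ) (e : m i + (z i).1 = M),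
      stageHom p R M (e ▸ stageUp p R (z i).1 (m i) (toStage p R _ (z i).2)) = x i := by
    rintro M rfl
    rw [stageHom_up, stageHom_apply, ← hz i]
  exact key N (hm i)

theorem eventually_zero {n : ℕ} {x : Stage p R n} (h : stageHom p R n x = 0) : ∃ m, stageUp p R n m x = 0 := by
  have h1 : PerfectClosure.mk R p (n, (toStage p R n).symm x) = PerfectClosure.mk R p (0, 0) := by
    rw [← stageHom_apply, RingEquiv.apply_symm_apply, h]
    rfl
  obtain ⟨m, hm⟩ := (PerfectClosure.mk_eq_iff R p _ _).1 h1
  refine ⟨m, ?_⟩
  show toStage p R (m + n) (iterateFrobenius R p m x) = 0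
  rw [coe_iterateFrobenius]
  simp only [zero_add, ← coe_iterateFrobenius, map_zero] at hm
  have : (frobenius R p)^[m] x = 0 := by
    rw [← coe_iterateFrobenius]
    exact hm
  rw [this, map_zero]

theorem faithfullyFlat_perfectClosure [Module.Projective R (FrobAlg.Twist p R)] :
    letI : Algebra R (PerfectClosure R p) := (PerfectClosure.of R p).toAlgebra
    Module.FaithfullyFlat R (PerfectClosure R p) := by
  letI : Algebra R (PerfectClosure R p) := (PerfectClosure.of R p).toAlgebra
  have hsm : ∀ (n : ℕ) (a : R) (y : Stage p R n), stageHom p R n (a • y) = a • stageHom p R n y := fun n a y => by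
    rw [Algebra.smul_def, Algebra.smul_def, map_mul, stageHom_algebraMap]
    rfl
  have hsu : ∀ (n m : ℕ) (a : R) (y : Stage p R n), stageUp p R n m (a • y) = a • stageUp p R n m y := fun n m a y => by
    rw [Algebra.smul_def, Algebra.smul_def, map_mul, stageUp_algebraMap]
  refine (Module.FaithfullyFlat.iff_flat_and_ideal_smul_eq_top _ _).2 ⟨?_, fun I hI => ?_⟩
  · refine Module.Flat.of_forall_isTrivialRelation fun {l f x} hfx => ?_
    obtain ⟨n, y, hy⟩ := exists_stage p R x
    obtain ⟨m, hm⟩ := eventually_zero p R (x := ∑ i, f i • y i) (by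
      simp only [map_sum, hsm, hy]; exact hfx)
    have := projective_stage p R (m + n)
    obtain ⟨q, a, z, hz, ha⟩ := Module.Flat.isTrivialRelation_of_sum_smul_eq_zero (R := R) (M := Stage p R (m + n))
      (f := f) (x := fun i => stageUp p R n m (y i)) (by simpa only [map_sum, hsu] using hm)
    refine ⟨q, a, fun j => stageHom p R _ (z j), fun i => ?_, ha⟩
    rw [← hy i, ← stageHom_up p R n m, show stageUp p R n m (y i) = _ from hz i]
    simp only [map_sum, hsm]
  · by_contra hne
    have h1 : (1 : PerfectClosure R p) ∈ I • (⊤ : Submodule R (PerfectClosure R p)) := by rw [hI]; exact Submodule.mem_top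
    have h2 : ∀ x ∈ I • (⊤ : Submodule R (PerfectClosure R p)), ∃ (n : ℕ) (y : Stage p R n),
        (toStage p R n).symm y ∈ I ∧ stageHom p R n y = x := by
      intro x hx
      refine Submodule.smul_induction_on hx (fun a ha v _ => ?_) (fun u w hu hw => ?_)
      ·
        obtain ⟨n, y, hy⟩ := exists_stage p R (fun _ : Unit => v)
        refine ⟨n, a • y (), ?_, by rw [hsm, hy ()]⟩
        rw [Algebra.smul_def, map_mul, algebraMap_stage, RingEquiv.symm_apply_apply]
        exact Ideal.mul_mem_right _ _ (Ideal.pow_mem_of_mem _ ha _ (pow_pos (Fact.out : p.Prime).pos _))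
      · obtain ⟨n, y, hy, hy'⟩ := hu
        obtain ⟨n', y', hyI, hy''⟩ := hw
        have key : ∀ (N : ℕ) (e : n + n' = N), ∃ w : Stage p R N, (toStage p R N).symm w ∈ I ∧ stageHom p R N w = stageHom p R n' y' := by
          rintro N rfl
          exact ⟨stageUp p R n' n y', Ideal.pow_mem_of_mem _ hyI _ (pow_pos (Fact.out : p.Prime).pos _), stageHom_up p R _ _ _⟩
        obtain ⟨w', hw1, hw2⟩ := key (n' + n) (add_comm _ _)
        refine ⟨n' + n, stageUp p R n n' y + w', ?_, ?_⟩
        · rw [map_add]
          exact Ideal.add_mem _ (Ideal.pow_mem_of_mem _ hy _ (pow_pos (Fact.out : p.Prime).pos _)) hw1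
        · rw [map_add, stageHom_up, hw2, hy', hy'']
    obtain ⟨n, y, hy, hy'⟩ := h2 1 h1
    obtain ⟨m, hm⟩ := eventually_zero p R (x := y - 1) (by rw [map_sub, hy', map_one, sub_self])
    rw [map_sub, map_one, sub_eq_zero] at hm
    have h3 : (toStage p R (m + n)).symm (stageUp p R n m y) ∈ I := Ideal.pow_mem_of_mem _ hy _ (pow_pos (Fact.out : p.Prime).pos _)
    rw [hm, map_one] at h3
    exact hne ((Ideal.eq_top_iff_one _).2 h3)

end

/-- Let p be a prime, R a commutative ring of characteristic p such that R is a projective R-module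
through its absolute Frobenius, and A a commutative R-algebra of characteristic p, with Frobenius
twists A^{p^i/R} = R ⊗_{F^i,R} A, relative Frobenius maps A^{p^{i+1}/R} → A^{p^i/R} and
preperfection A^{p^∞/R} = lim_i A^{p^i/R} ⊆ Π_i A^{p^i/R}. Let R' be the direct-limit perfection
colim(R → R → ⋯) of R along Frobenius, an R-module through the canonical map R → R'. Then the
natural map R' ⊗_R A^{p^∞/R} → Π_i (R' ⊗_R A^{p^i/R}), r ⊗ x ↦ (r ⊗ x_i)_i, is injective; in
particular the base-change map R' ⊗_R lim_i A^{p^i/R} → lim_i (R' ⊗_R A^{p^i/R}) is injective. (The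
published statement identifies the target limit with the preperfection of A ⊗_R R' over R'; that
identification is not part of this row.) -/
theorem result
    (p : ℕ) [Fact p.Prime] (R : Type u) [CommRing R] [CharP R p]
    (A : Type u) [CommRing A] [Algebra R A] [CharP A p]
    [Module.Projective R (FrobAlg.Twist p R)] :
    letI : Algebra R (PerfectClosure R p) := (PerfectClosure.of R p).toAlgebra
    Function.Injective
      (LinearMap.pi fun i : ℕ =>
        LinearMap.lTensor (PerfectClosure R p)
          (((Pi.evalAlgHom R (fun k => W4c1imperftorsors.Twist p R A k) i).comp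
            (W4c1imperftorsors.prePerf p R A).val).toLinearMap) :
        PerfectClosure R p ⊗[R] ↥(W4c1imperftorsors.prePerf p R A) →ₗ[R]
          (Π i : ℕ, PerfectClosure R p ⊗[R] W4c1imperftorsors.Twist p R A i)) := by
  letI : Algebra R (PerfectClosure R p) := (PerfectClosure.of R p).toAlgebra
  have hFF := faithfullyFlat_perfectClosure p R
  have hflat : Module.Flat R (PerfectClosure R p) := hFF.toFlat
  refine (injective_iff_map_eq_zero _).2 fun x hx => ?_
  have hlift : ∀ w : PerfectClosure R p ⊗[R] ↥(W4c1imperftorsors.prePerf p R A),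
      ∃ (n : ℕ) (z : Stage p R n ⊗[R] ↥(W4c1imperftorsors.prePerf p R A)),
        ∀ ψ : Stage p R n →ₗ[R] PerfectClosure R p, (∀ y, ψ y = stageHom p R n y) → ψ.rTensor _ z = w := by
    intro w
    obtain ⟨S, rfl⟩ := TensorProduct.exists_finset w
    obtain ⟨n, y, hy⟩ := exists_stage p R (fun i : S => i.1.1)
    refine ⟨n, ∑ i : S, y i ⊗ₜ[R] i.1.2, fun ψ hψ => ?_⟩
    simp only [map_sum, LinearMap.rTensor_tmul, hψ, hy]
    rw [Finset.sum_coe_sort S (fun i => i.1 ⊗ₜ[R] i.2)]
  obtain ⟨n, z, hz⟩ := hlift x
  let : Algebra (Stage p R n) (PerfectClosure R p) := (stageHom p R n).toAlgebra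
  have : IsScalarTower R (Stage p R n) (PerfectClosure R p) :=
    .of_algebraMap_eq fun r => (stageHom_algebraMap p R n r).symm
  have : Module.FaithfullyFlat (Stage p R n) (PerfectClosure R p) := by
    rw [← RingHom.faithfullyFlat_algebraMap_iff]
    show (stageHom p R n).FaithfullyFlat
    refine RingHom.FaithfullyFlat.stableUnderComposition _ _ (RingHom.FaithfullyFlat.stableUnderComposition _ _ ?_ ?_) ?_
    · exact RingHom.FaithfullyFlat.of_bijective (toStage p R n).symm.bijective
    · exact (RingHom.faithfullyFlat_algebraMap_iff (R := R) (S := PerfectClosure R p)).2 hFF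
    · exact RingHom.FaithfullyFlat.of_bijective (iterateFrobeniusEquiv (PerfectClosure R p) p n).symm.bijective
  let ψ : Stage p R n →ₗ[R] PerfectClosure R p := (IsScalarTower.toAlgHom R (Stage p R n) (PerfectClosure R p)).toLinearMap
  have hpure : ∀ (M : Type u) [AddCommGroup M] [Module R M] (w : Stage p R n ⊗[R] M), ψ.rTensor M w = 0 → w = 0 := by
    intro M _ _ w hw
    refine Module.FaithfullyFlat.tensorProduct_mk_injective (A := Stage p R n) (B := PerfectClosure R p) (Stage p R n ⊗[R] M) ?_
    rw [map_zero]
    apply (TensorProduct.AlgebraTensorModule.cancelBaseChange R (Stage p R n) (PerfectClosure R p) (PerfectClosure R p) M).injective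
    rw [map_zero, ← hw]
    clear hw
    induction w using TensorProduct.induction_on with
    | zero => simp
    | tmul a b => simp [ψ, Algebra.smul_def]
    | add a b ha hb => simp only [map_add, ha, hb]
  have := projective_stage p R n
  have hx' := hz ψ (fun y => rfl)
  have hz0 : ∀ i, (((Pi.evalAlgHom R (fun k => W4c1imperftorsors.Twist p R A k) i).comp
      (W4c1imperftorsors.prePerf p R A).val).toLinearMap).lTensor (Stage p R n) z = 0 := fun i => by
    refine hpure _ _ ?_
    rw [← LinearMap.comp_apply, LinearMap.rTensor_comp_lTensor, ← LinearMap.lTensor_comp_rTensor, LinearMap.comp_apply, hx']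
    exact congrFun hx i
  have hz1 : (W4c1imperftorsors.prePerf p R A).val.toLinearMap.lTensor (Stage p R n) z = 0 := by
    refine injective_lTensor_pi _ _ _ fun i => ?_
    rw [← LinearMap.comp_apply, ← LinearMap.lTensor_comp]
    exact hz0 i
  have hz2 : z = 0 := by
    apply Module.Flat.lTensor_preserves_injective_linearMap (M := Stage p R n)
      (W4c1imperftorsors.prePerf p R A).val.toLinearMap Subtype.val_injective
    rw [map_zero]
    exact hz1
  rw [← hx', hz2, map_zero]


end Groth.Agent.S16000
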