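import Groth.Statements.S16009
import Groth.Agent.H34.SplitP1.Bundle
import Groth.Agent.Lib.CurveBundle.WeilDual
import Groth.Agent.Lib.CurveBundle.EndAlg
import Groth.Agent.Lib.Amp36.HomTensor
import Groth.Agent.Lib.Cyc.CH.DualPullback
import Groth.Agent.Lib.ModelFibre.P1Curve
import Groth.Agent.Lib.TFOne.Euler
import Groth.Agent.Lib.ExtShSurf
import Groth.Agent.Lib.SmoothCurve.Curve

set_option autoImplicit false
open CategoryTheory AlgebraicGeometry CategoryTheory.Limits
open VBPn

namespace Groth.Agent.S16009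

set_option linter.all false
open Groth.Agent.Lib Groth.Agent.Lib.TensorMod.Basic Opposite TopologicalSpace
open Groth.Agent.Lib.CurveBundle.WeilDual (dualCongr dualBiprod isZero_dual dual_tensor)

local notation "ℙ₁" => CohB1.ProjSpace 1 ℂ

/-! ### The line -/

theorem isProper_line : IsProper (ℙ₁ ↘ Spec (CommRingCat.of ℂ)) := ProjSpace.Basic.isProper_toSpec 1 ℂ

theorem isInvertible_TS (a : ℤ) : PicF.IsInvertible (Twist.twistProjSpace 1 ℂ a) :=
  ProjCoh.Horrocks.isInvertible_TS (d := 1) (k := ℂ) a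

theorem euler_TS (a : ℤ) : Curv2.euler ℂ ℙ₁ (Twist.twistProjSpace 1 ℂ a) = a + 1 := by
  haveI := isProper_line
  have hd : topologicalKrullDim ℙ₁ ≤ 1 := by
    rw [ProjSpace.Dim.topologicalKrullDim_projSpace]; simp
  have h := Groth.Agent.S4466.result ℂ 1 one_pos a
  simp only [Finset.sum_range_succ, Finset.sum_range_zero, zero_add, pow_zero, one_mul, pow_one,
    Nat.cast_one, Ring.choose_one_right] at h
  rw [Curves.Euler.euler_eq (Curves.Degree.isGood (k := ℂ) hd (isInvertible_TS a)).vanish]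
  simp only [Curves.Euler.hdim]
  linarith

theorem sum_TS : ∀ (m : ℕ) (d : Fin m → ℤ),
    FlatMod.IsFinLocFree (∐ fun j => Twist.twistProjSpace 1 ℂ (d j)) ∧
      Curv2.euler ℂ ℙ₁ (∐ fun j => Twist.twistProjSpace 1 ℂ (d j)) = ∑ j, (d j + 1) := by
  haveI := isProper_line
  haveI : IsLocallyNoetherian ℙ₁ := LocallyOfFiniteType.isLocallyNoetherian (ℙ₁ ↘ Spec (CommRingCat.of ℂ))
  intro m
  induction m with
  | zero =>
    intro d
    have hz : IsZero (∐ fun j => Twist.twistProjSpace 1 ℂ (d j)) :=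
      (IsZero.iff_id_eq_zero _).2 (Sigma.hom_ext _ _ fun i => i.elim0)
    refine ⟨TensorMod.LocFree.of_iso (IsZero.iso ((IsZero.iff_id_eq_zero _).2
      (Sigma.hom_ext _ _ fun i => Fin.elim0 i)) hz) (TensorMod.LocFree.of_rank (TensorMod.LocFree.isFinLocFree_freeMod ℙ₁ 0)), ?_⟩
    rw [Finset.univ_eq_empty, Finset.sum_empty]
    haveI : ∀ i, Subsingleton (Coh.HH ℙ₁ (∐ fun j => Twist.twistProjSpace 1 ℂ (d j)) i) := fun i =>
      ExtShSurf.subsingleton_HH_of_isZero hz i
    simp [Curv2.euler, Module.finrank_zero_of_subsingleton]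
  | succ m ih =>
    intro d
    obtain ⟨h1, h2⟩ := ih fun j => d j.succ
    have h0 := TensorMod.LocFree.of_rank (TensorMod.LocFree.of_isInvertible (isInvertible_TS (d 0)))
    let e := CurveBundle.WeilFinite.sigmaFinSucc fun j => Twist.twistProjSpace 1 ℂ (d j)
    refine ⟨TensorMod.LocFree.of_iso ((biprod.isoCoprod _ _).symm ≪≫ e.symm) (TensorMod.LocFree.isFinLocFree_biprod h0 h1), ?_⟩
    rw [Curves.Euler.euler_eq_of_iso e, TFOne.Euler.euler_biprod
      (Perfect.Coherent.isCoh_of_isFinLocFree h0) (Perfect.Coherent.isCoh_of_isFinLocFree h1),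
      euler_TS, h2, Fin.sum_univ_succ]

/-- A semistable bundle on the line is a sum of copies of one twist. -/
theorem exists_uniform {r : ℕ} (hr : 0 < r) {G : (CohB1.ProjSpace 1 ℂ).Modules} (hG : FlatMod.IsFinLocFreeOfRank r G)
    (h : ModFun.IsSlopeSemistable ℂ ℙ₁ G r) :
    ∃ c : ℤ, Nonempty (G ≅ ∐ fun _ : Fin r => Twist.twistProjSpace 1 ℂ c) := by
  classical
  haveI := isProper_line
  obtain ⟨d, -, ⟨e⟩⟩ := H34.SplitP1.exists_splitting hG
  have hO : Curv2.euler ℂ ℙ₁ (Coh.structureModule ℙ₁) = 1 := by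
    exact (Curves.Euler.euler_eq_of_iso (ProjCoh.Coherent.twZero.symm ≪≫ ProjCoh.Coherent.twIso 0)).trans ((euler_TS 0).trans (zero_add 1))
  have hdG : Curv2.deg ℂ ℙ₁ G r = ∑ j, d j := by
    simp [Curv2.deg, Curves.Euler.euler_eq_of_iso e, (sum_TS r d).2, hO, Finset.sum_add_distrib]
  have hle : ∀ i ∈ Finset.univ, d i * (r : ℤ) ≤ ∑ j, d j := fun i _ => by
    let ι : Twist.twistProjSpace 1 ℂ (d i) ⟶ G := Sigma.ι (fun j => Twist.twistProjSpace 1 ℂ (d j)) i ≫ e.inv
    haveI : Mono (Sigma.ι (fun j => Twist.twistProjSpace 1 ℂ (d j)) i) :=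
      SplitMono.mono ⟨Sigma.desc fun j => if hj : j = i then eqToHom (by rw [hj]) else 0, by simp⟩
    have := h _ 1 ι inferInstance one_pos (TensorMod.LocFree.of_isInvertible (isInvertible_TS (d i)))
    rw [hdG] at this
    simpa [Curv2.deg, euler_TS, hO] using this
  have heq := (Finset.sum_eq_sum_iff_of_le hle).1 (by
    rw [← Finset.sum_mul, Finset.sum_const, Finset.card_univ, Fintype.card_fin, nsmul_eq_mul]; ring)
  refine ⟨d ⟨0, hr⟩, ⟨e ≪≫ Sigma.mapIso fun j => eqToIso ?_⟩⟩
  congr 1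
  exact mul_right_cancel₀ (by exact_mod_cast hr.ne')
    ((heq j (Finset.mem_univ j)).trans (heq ⟨0, hr⟩ (Finset.mem_univ _)).symm)

/-! ### Endomorphisms of a sum of copies of a line bundle -/

section
variable {Y : Scheme.{0}} [IsLocallyNoetherian Y]

theorem dual_unit : Nonempty (RefHull.dual (Coh.structureModule Y) ≅ Coh.structureModule Y) := by
  have hO := PicLoc.isInvertible_structureModule Y
  exact ⟨RefHull.DualComp.dualIso _ ≪≫ (leftUnit _).symm ≪≫ TensorMod.Invertible.tensorDualIso hO⟩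

theorem dual_free : ∀ m : ℕ, Nonempty (RefHull.dual (FlatMod.freeMod Y m) ≅ FlatMod.freeMod Y m) := by
  intro m
  have hc : ∀ m, Coh.IsCoh (FlatMod.freeMod Y m) := fun m => Perfect.Coherent.isCoh_freeMod _ m
  have hO : Coh.IsCoh (Coh.structureModule Y) :=
    (CohBasics.Closure.isCoh_of_iso (TensorMod.LocFree.freeModOneIso _) (hc 1))
  induction m with
  | zero =>
    have hz : IsZero (FlatMod.freeMod Y 0) :=
      (IsZero.iff_id_eq_zero _).2 (Sigma.hom_ext _ _ fun i => i.elim0)
    exact ⟨(isZero_dual (hc 0) hz).iso hz⟩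
  | succ m ih =>
    obtain ⟨i⟩ := ih
    obtain ⟨j⟩ := dual_unit (Y := Y)
    let e : FlatMod.freeMod Y (m + 1) ≅ Coh.structureModule Y ⊞ FlatMod.freeMod Y m :=
      CurveBundle.WeilFinite.sigmaFinSucc fun _ : Fin (m + 1) => Coh.structureModule Y
    have hb := CohBasics.Closure.isCoh_biprod hO (hc m)
    exact ⟨dualCongr (hc _) hb e ≪≫ dualBiprod hO (hc m) hb ≪≫ biprod.mapIso j i ≪≫ e.symm⟩

/-- The endomorphisms of `L^r` form a free module. -/
theorem end_free {L G : Y.Modules} (hL : PicF.IsInvertible L) (r : ℕ) (hG : Coh.IsCoh G)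
    (e : G ≅ ∐ fun _ : Fin r => L) :
    Nonempty (CohB1.tensorMod (RefHull.dual G) G ≅ FlatMod.freeMod Y (r * r)) := by
  haveI := TensorMod.LocFree.preservesFinCoproducts (tensorBy L) (Fin r)
  let F := FlatMod.freeMod Y r
  let f : CohB1.tensorMod F L ≅ G :=
    PreservesCoproduct.iso (tensorBy L) _ ≪≫ (Sigma.mapIso fun _ => leftUnit L) ≪≫ e.symm
  have hLf := TensorMod.LocFree.of_rank (TensorMod.LocFree.of_isInvertible hL)
  have hFf := TensorMod.LocFree.of_rank (TensorMod.LocFree.isFinLocFree_freeMod Y r)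
  obtain ⟨g⟩ := dual_tensor hLf hFf
  obtain ⟨w⟩ := dual_free (Y := Y) r
  let dG : RefHull.dual G ≅ CohB1.tensorMod (RefHull.dual L) F :=
    dualCongr hG (Perfect.Coherent.isCoh_of_isFinLocFree (TensorMod.LocFree.isFinLocFree_tensorMod hFf hLf)) f.symm ≪≫
      RefHull.DualComp.dualIso _ ≪≫ g ≪≫
      tensorIso (RefHull.DualComp.dualIso L).symm ((RefHull.DualComp.dualIso _).symm ≪≫ w)
  exact ⟨tensorIso dG (f.symm ≪≫ comm F L) ≪≫ TensorMod.Basic.assoc _ _ _ ≪≫
    tensorIso (Iso.refl _) ((TensorMod.Basic.assoc _ _ _).symm ≪≫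
      tensorIso (comm F L) (Iso.refl F) ≪≫ TensorMod.Basic.assoc _ _ _) ≪≫
    (TensorMod.Basic.assoc _ _ _).symm ≪≫
    tensorIso (tensorIso (RefHull.DualComp.dualIso L) (Iso.refl _) ≪≫ comm _ _ ≪≫
      TensorMod.Invertible.tensorDualIso hL) (TensorMod.LocFree.tensorFreeModIso Y r r) ≪≫ leftUnit _⟩

end

/-- The dual of a bundle of rank `r` has rank `r`. -/
theorem rank_dual {X : Scheme.{0}} [IsLocallyNoetherian X] {E : X.Modules} {r : ℕ}
    (hE : FlatMod.IsFinLocFreeOfRank r E) : FlatMod.IsFinLocFreeOfRank r (RefHull.dual E) := fun x => by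
  obtain ⟨U, hxU, ⟨i⟩⟩ := hE x
  haveI : IsLocallyNoetherian (U : Scheme.{0}) := isLocallyNoetherian_of_isOpenImmersion U.ι
  obtain ⟨w⟩ := Cyc.CH.nonempty_pullback_dual_iso U.ι hE
  obtain ⟨v⟩ := dual_free (Y := (U : Scheme.{0})) r
  refine ⟨U, hxU, ⟨(Scheme.Modules.restrictFunctorIsoPullback U.ι).app _ ≪≫ w ≪≫
    dualCongr (Perfect.Coherent.isCoh_of_isFinLocFree (TensorMod.LocFree.isFinLocFree_pullback U.ι
      (TensorMod.LocFree.of_rank hE))) (Perfect.Coherent.isCoh_freeMod _ r)
      (((Scheme.Modules.restrictFunctorIsoPullback U.ι).app E).symm ≪≫ i) ≪≫ v⟩⟩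

/-! ### A bundle with free endomorphism sheaf -/

section
variable {X : Scheme.{0}} [X.Over (Spec (CommRingCat.of ℂ))] [IsIntegral X]
  [IsProper (X ↘ Spec (CommRingCat.of ℂ))]

/-- The fibre of an endomorphism at a point. -/
noncomputable def fib {E : X.Modules} {r : ℕ} {x : X} (b : Module.Basis (Fin r) (X.presheaf.stalk x) (E.presheaf.stalk x))
    (f : E ⟶ E) : Matrix (Fin r) (Fin r) (IsLocalRing.ResidueField (X.presheaf.stalk x)) :=
  (IsLocalRing.residue (X.presheaf.stalk x)).mapMatrix (LinearMap.toMatrix b b (Modules.StalkModule.stalkMapₗ f x))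

theorem fib_comp {E : X.Modules} {r : ℕ} {x : X} (b : Module.Basis (Fin r) (X.presheaf.stalk x) (E.presheaf.stalk x))
    (f g : E ⟶ E) : fib b (f ≫ g) = fib b g * fib b f := by
  rw [fib, fib, fib, ← map_mul, ← LinearMap.toMatrix_comp]
  congr 2
  exact Modules.StalkModule.stalkMapₗ_comp f g x

/-- A bundle whose endomorphism sheaf is free has fibrewise isomorphism of endomorphisms. -/
theorem fib_bijective [IsLocallyNoetherian X] {E : X.Modules} {r N : ℕ} (hE : Coh.IsCoh E)
    (φ : FlatMod.freeMod X N ≅ RefHull.homSh E E) {x : X} (hx : IsClosed ({x} : Set X))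
    (b : Module.Basis (Fin r) (X.presheaf.stalk x) (E.presheaf.stalk x)) :
    Function.Bijective (fib b) := by
  classical
  let gs : Fin N → Γ(RefHull.homSh E E, ⊤) := fun i => φ.hom.app ⊤ (Modules.Free.gen X i)
  let O := X.presheaf.stalk x
  let res := IsLocalRing.residue O
  let ev := LinearEquiv.ofBijective _ (RefHull.HomSh.evalStalk_bijective (F := E) (G := E) hE x)
  let B : Module.Basis (Fin N) O (Matrix (Fin r) (Fin r) O) :=
    (Modules.FreeStalk.stalkBasis X N x).map
      ((Modules.StalkModule.stalkLinearEquiv φ x) ≪≫ₗ ev ≪≫ₗ LinearMap.toMatrix b b)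
  have hB : ∀ i, B i = LinearMap.toMatrix b b ((gs i).1 ⟨x, trivial⟩) := fun i => by
    simp only [B, Module.Basis.map_apply, Modules.FreeStalk.stalkBasis_apply, LinearEquiv.trans_apply]
    congr 1
    refine (congrArg ev (Modules.StalkModule.stalkMapₗ_germ φ.hom (U := (⊤ : X.Opens)) (x := x) trivial (Modules.Free.gen X i))).trans ?_
    exact RefHull.evalStalk_germ E E (U := (⊤ : X.Opens)) x trivial (gs i)
  have hgb : TensorMod.Basis.IsBasis (U := (⊤ : X.Opens)) gs :=
    H34.SplitP1.Basis.isBasis_map φ (TensorMod.Basis.isBasis_freeMod X N)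
  -- endomorphisms in the basis
  have hrep : ∀ f : E ⟶ E, ∃ c : Fin N → Γ(X, ⊤), HomSheaf.Basic.topEquiv f = ∑ i, c i • gs i ∧
      LinearMap.toMatrix b b (Modules.StalkModule.stalkMapₗ f x) = ∑ i, X.presheaf.germ ⊤ x trivial (c i) • B i := fun f => by
    obtain ⟨c, hc⟩ := (hgb ⊤ le_rfl).2 (HomSheaf.Basic.topEquiv f)
    simp only [TensorMod.Basis.comb, TensorMod.Dual.rs_self] at hc
    refine ⟨c, hc.symm, ?_⟩
    have h1 := congrArg (fun g => LinearMap.toMatrix b b (ev ((RefHull.homSh E E).presheaf.germ ⊤ x trivial g))) hc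
    simp only [map_sum, Modules.StalkModule.germ_smul, map_smul] at h1
    refine Eq.trans ?_ (h1.symm.trans (Finset.sum_congr rfl fun i _ => ?_))
    · exact congrArg _ (RefHull.evalStalk_germ E E (U := (⊤ : X.Opens)) x trivial (HomSheaf.Basic.topEquiv f)).symm
    · rw [hB]
      exact congrArg (fun t => X.presheaf.germ ⊤ x trivial (c i) • LinearMap.toMatrix b b t) (RefHull.evalStalk_germ E E (U := (⊤ : X.Opens)) x trivial (gs i))
  have hconst : ∀ z : IsLocalRing.ResidueField O, ∃ c : Γ(X, ⊤), res (X.presheaf.germ ⊤ x trivial c) = z :=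
    fun z => by
      obtain ⟨a, ha⟩ := SmoothCurve.Curve.residue_stalkConst_surjective (X ↘ Spec (CommRingCat.of ℂ)) hx z
      exact ⟨_, ha⟩
  have hF := isField_of_universallyClosed ℂ (X ↘ Spec (CommRingCat.of ℂ))
  refine ⟨fun f f' hff => ?_, fun M => ?_⟩
  · obtain ⟨c, hc, hcm⟩ := hrep f
    obtain ⟨c', hc', hcm'⟩ := hrep f'
    suffices c = c' from HomSheaf.Basic.topEquiv.injective (by rw [hc, hc', this])
    funext i
    -- the coefficients agree in the residue field
    have h0 : res.mapMatrix (∑ i, X.presheaf.germ ⊤ x trivial (c i - c' i) • B i) = 0 := by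
      simp only [map_sub, sub_smul, Finset.sum_sub_distrib, ← hcm, ← hcm']
      exact sub_eq_zero.2 hff
    by_contra hne
    obtain ⟨w, hw⟩ := hF.mul_inv_cancel (sub_ne_zero.2 hne)
    have hu : IsUnit (X.presheaf.germ ⊤ x trivial (c i - c' i)) :=
      (IsUnit.of_mul_eq_one w hw).map (X.presheaf.germ ⊤ x trivial).hom
    refine (IsLocalRing.mem_maximalIdeal _).1 ?_ hu
    -- a combination lying in the maximal ideal has coefficients there
    have hmem : (∑ i, X.presheaf.germ ⊤ x trivial (c i - c' i) • B i) ∈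
        (IsLocalRing.maximalIdeal O) • (⊤ : Submodule O (Matrix (Fin r) (Fin r) O)) := by
      rw [Matrix.matrix_eq_sum_single (∑ i, X.presheaf.germ ⊤ x trivial (c i - c' i) • B i)]
      refine Submodule.sum_mem _ fun a _ => Submodule.sum_mem _ fun d _ => ?_
      rw [← mul_one ((∑ i, X.presheaf.germ ⊤ x trivial (c i - c' i) • B i) a d), ← smul_eq_mul,
        ← Matrix.smul_single]
      refine Submodule.smul_mem_smul ?_ trivial
      exact Ideal.Quotient.eq_zero_iff_mem.1 (congrFun (congrFun h0 a) d)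
    have := (Submodule.mem_ideal_smul_span_iff_exists_sum _ B _).1 (by rw [B.span_eq]; exact hmem)
    obtain ⟨t, htm, ht⟩ := this
    have : (fun i => X.presheaf.germ ⊤ x trivial (c i - c' i)) = fun i => t i := by
      classical
      refine funext fun j => ?_
      have h2 := congrArg (fun v => B.repr v j) ht
      simpa [Finsupp.sum_fintype, Finsupp.finsetSum_apply, Finsupp.single_apply, Finset.sum_sub_distrib] using h2.symm
    rw [show X.presheaf.germ ⊤ x trivial (c i - c' i) = t i from congrFun this i]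
    exact htm i
  · obtain ⟨M', hM'⟩ : ∃ M' : Matrix (Fin r) (Fin r) O, res.mapMatrix M' = M := by
      choose M' hM' using fun a d => IsLocalRing.residue_surjective (M a d)
      exact ⟨Matrix.of M', Matrix.ext hM'⟩
    choose c hc using fun i => hconst (res (B.repr M' i))
    refine ⟨HomSheaf.Basic.topEquiv.symm (∑ i, c i • gs i), ?_⟩
    obtain ⟨c', hc', hcm⟩ := hrep (HomSheaf.Basic.topEquiv.symm (∑ i, c i • gs i))
    rw [Equiv.apply_symm_apply] at hc'
    have hcc : c = c' := (hgb ⊤ le_rfl).1 (by simpa [TensorMod.Basis.comb, TensorMod.Dual.rs_self] using hc')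
    subst hcc
    rw [fib, hcm, ← hM']
    conv_rhs => rw [← B.sum_repr M']
    ext a d
    simp only [RingHom.mapMatrix_apply, Matrix.map_apply, Matrix.sum_apply, Matrix.smul_apply, smul_eq_mul,
      map_sum, map_mul]
    exact Finset.sum_congr rfl fun i _ => congrArg (· * _) (hc i)

/-- A bundle with free endomorphism sheaf is a sum of copies of a line bundle. -/
theorem exists_line [IsLocallyNoetherian X] {E : X.Modules} {r N : ℕ} (hr : 0 < r)
    (hE : FlatMod.IsFinLocFreeOfRank r E) (φ : FlatMod.freeMod X N ≅ RefHull.homSh E E) :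
    ∃ L : X.Modules, PicF.IsInvertible L ∧ Nonempty (E ≅ ∐ fun _ : Fin r => L) := by
  classical
  haveI : QuasiCompact (X ↘ Spec (CommRingCat.of ℂ)) := inferInstance
  haveI : CompactSpace X := QuasiCompact.compactSpace_of_compactSpace (X ↘ Spec (CommRingCat.of ℂ))
  obtain ⟨x, -, hx⟩ := IsClosed.exists_closed_singleton (X := X) isClosed_univ Set.univ_nonempty
  obtain ⟨b⟩ := CurveBundle.Coherent.exists_basis_stalk hE x
  have hfb := fib_bijective (Perfect.Coherent.isCoh_of_isFinLocFree (TensorMod.LocFree.of_rank hE)) φ hx b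
  choose ε hε using fun a d : Fin r => hfb.2 (Matrix.single a d 1)
  have hm : ∀ a d c, ε d c ≫ ε a d = ε a c := fun a d c => hfb.1 (by rw [fib_comp, hε, hε, hε]; simp)
  have hm0 : ∀ a d c e, d ≠ e → ε e c ≫ ε a d = 0 := fun a d c e hne => hfb.1 (by
    rw [fib_comp, hε, hε, Matrix.single_mul_single_of_ne _ _ _ _ hne]
    simp [fib, Modules.StalkModule.stalkMapₗ_zero])
  have hone : ∑ a, ε a a = 𝟙 E := hfb.1 (by
    have : fib b (∑ a, ε a a) = ∑ a, fib b (ε a a) := by
      simp only [fib]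
      rw [← map_sum, ← map_sum]
      congr 2
      exact (Modules.StalkModule.stalkModFunctor X x).map_sum (f := fun a => ε a a) (s := Finset.univ) |> congrArg ModuleCat.Hom.hom |>.trans (ModuleCat.hom_sum _ _)
    rw [this, Finset.sum_congr rfl fun a _ => hε a a]
    have h1 : Modules.StalkModule.stalkMapₗ (𝟙 E) x = LinearMap.id := Modules.StalkModule.stalkMapₗ_id x
    rw [fib, h1, LinearMap.toMatrix_id, map_one]
    ext u v
    rw [Matrix.sum_apply]
    rcases eq_or_ne u v with rfl | huv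
    · rw [Finset.sum_eq_single u (fun w _ hw => by simp [Matrix.single_apply, hw]) (by simp)]
      simp
    · rw [Finset.sum_eq_zero fun w _ => by rw [Matrix.single_apply, if_neg (by rintro ⟨rfl, rfl⟩; exact huv rfl)]]
      simp [huv])
  let z : Fin r := ⟨0, hr⟩
  obtain ⟨L, i, p, hip, hpi⟩ := (inferInstance : IsIdempotentComplete X.Modules).idempotents_split E (ε z z)
    (hm z z z)
  let a : Fin r → (L ⟶ E) := fun j => i ≫ ε j z
  let q : Fin r → (E ⟶ L) := fun j => ε z j ≫ p
  have hpp : ε z z ≫ p = p := by rw [← hpi, Category.assoc, hip, Category.comp_id]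
  have hii : i ≫ ε z z = i := by rw [← hpi, ← Category.assoc, hip, Category.id_comp]
  have hqa : ∀ j, q j ≫ a j = ε j j := fun j => by
    show (ε z j ≫ p) ≫ i ≫ ε j z = _
    rw [Category.assoc, ← Category.assoc p, hpi, ← Category.assoc, hm, hm]
  have haq : ∀ j l, a j ≫ q l = if j = l then 𝟙 L else 0 := fun j l => by
    show (i ≫ ε j z) ≫ ε z l ≫ p = _
    split_ifs with h
    · subst h
      rw [Category.assoc, ← Category.assoc (ε j z), hm, hpp, hip]
    · rw [Category.assoc, ← Category.assoc (ε j z), hm0 z l z j (fun e => h e.symm), zero_comp, comp_zero]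
  let e : E ≅ ∐ fun _ : Fin r => L :=
    { hom := ∑ j, q j ≫ Sigma.ι (fun _ : Fin r => L) j
      inv := Sigma.desc a
      hom_inv_id := by
        simp only [Preadditive.sum_comp, Category.assoc, Sigma.ι_desc, hqa, hone]
      inv_hom_id := Sigma.hom_ext _ _ fun j => by
        rw [Sigma.ι_desc_assoc, Category.comp_id, Preadditive.comp_sum]
        simp [← Category.assoc, haq, ite_comp] }
  refine ⟨L, ?_, ⟨e⟩⟩
  -- locally free of rank one
  have hLf : FlatMod.IsFinLocFree L := TensorMod.TensorInv.isFinLocFree_of_locally fun y => by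
    obtain ⟨U, hyU, ⟨ι⟩⟩ := hE y
    exact ⟨U, hyU, Modules.FreeStalk.isFinLocFree_of_retract
      ((Scheme.Modules.restrictFunctor U.ι).map i ≫ ι.hom) (ι.inv ≫ (Scheme.Modules.restrictFunctor U.ι).map p)
      (by rw [Category.assoc, ι.hom_inv_id_assoc, ← Functor.map_comp, hip, CategoryTheory.Functor.map_id])⟩
  refine TensorMod.LocFree.isInvertible_of_rank_one fun y => ?_
  obtain ⟨W, n, hyW, ⟨u⟩⟩ := hLf y
  obtain ⟨U, hyU, ⟨ι⟩⟩ := hE y
  obtain ⟨u'⟩ := TensorMod.LocFree.exists_restrict_iso_freeMod (inf_le_left : W ⊓ U ≤ W) u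
  obtain ⟨ι'⟩ := TensorMod.LocFree.exists_restrict_iso_freeMod (inf_le_right : W ⊓ U ≤ U) ι
  have := (Scheme.Modules.restrictAdjunction (W ⊓ U).ι).leftAdjoint_preservesColimits
  have := TensorMod.LocFree.preservesFinCoproducts (Scheme.Modules.restrictFunctor (W ⊓ U).ι) (Fin r)
  have hn : n = 1 := by
    have h := TensorMod.TensorInv.freeMod_rank_eq (X := ((W ⊓ U : X.Opens) : Scheme.{0})) (m := r * n) (n := r)
      ⟨y, hyW, hyU⟩ ((sigmaSigmaIso (fun _ : Fin r => Fin n) (fun _ _ => Coh.structureModule _) ≪≫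
          (Sigma.whiskerEquiv ((Equiv.sigmaEquivProd (Fin r) (Fin n)).trans finProdFinEquiv).symm
            (fun _ => Iso.refl _)).symm).symm ≪≫
        (Sigma.mapIso fun _ : Fin r => u'.symm) ≪≫
        (PreservesCoproduct.iso (Scheme.Modules.restrictFunctor (W ⊓ U).ι) fun _ : Fin r => L).symm ≪≫
        (Scheme.Modules.restrictFunctor (W ⊓ U).ι).mapIso e.symm ≪≫ ι')
    exact Nat.eq_of_mul_eq_mul_left hr (h.trans (mul_one r).symm)
  subst hn
  exact ⟨W, hyW, ⟨u⟩⟩

end

/-- Let X be a proper integral scheme over the complex numbers such that, for every n, a finite locally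
free O_X-module of rank n whose pull-back along every morphism of complex schemes from the
projective line to X is free of rank n is itself free of rank n. Let E be finite locally free of
rank r ≥ 1 such that its pull-back along every such morphism from the projective line is
slope-semistable of rank r (degrees on the line being χ − rank · χ(O)). Then E is isomorphic to the
direct sum of r copies of one invertible module L. (The published statement assumes X rationally
connected and takes the triviality criterion for bundles trivial on all rational curves from the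
literature; the row carries that criterion as the hypothesis on X instead, and asks X to be proper
rather than projective, since the argument uses only that the global functions of X are the
constants.) -/
theorem result
    (X : Scheme.{0}) [X.Over (Spec (CommRingCat.of ℂ))] [IsIntegral X]
    [IsProper (X ↘ Spec (CommRingCat.of ℂ))]
    (htriv : ∀ (n : ℕ) (F : X.Modules), FlatMod.IsFinLocFreeOfRank n F →
      (∀ (f : CohB1.ProjSpace 1 ℂ ⟶ X), f ≫ (X ↘ Spec (CommRingCat.of ℂ)) = CohB1.ProjSpace.toSpec 1 ℂ →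
        Nonempty ((Scheme.Modules.pullback f).obj F ≅ FlatMod.freeMod (CohB1.ProjSpace 1 ℂ) n)) →
      Nonempty (F ≅ FlatMod.freeMod X n))
    (r : ℕ) (hr : 0 < r) (E : X.Modules) (hE : FlatMod.IsFinLocFreeOfRank r E)
    (hss : ∀ (f : CohB1.ProjSpace 1 ℂ ⟶ X), f ≫ (X ↘ Spec (CommRingCat.of ℂ)) = CohB1.ProjSpace.toSpec 1 ℂ →
      ModFun.IsSlopeSemistable ℂ (CohB1.ProjSpace 1 ℂ) ((Scheme.Modules.pullback f).obj E) r) :
    ∃ L : X.Modules, PicF.IsInvertible L ∧ Nonempty (E ≅ ∐ fun _ : Fin r => L) := by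
  haveI := isProper_line
  haveI : IsLocallyNoetherian ℙ₁ := LocallyOfFiniteType.isLocallyNoetherian (ℙ₁ ↘ Spec (CommRingCat.of ℂ))
  haveI : IsLocallyNoetherian X := LocallyOfFiniteType.isLocallyNoetherian (X ↘ Spec (CommRingCat.of ℂ))
  have hEf := TensorMod.LocFree.of_rank hE
  have hEc := Perfect.Coherent.isCoh_of_isFinLocFree hEf
  let F := CohB1.tensorMod (RefHull.dual E) E
  have hdual : FlatMod.IsFinLocFreeOfRank r (RefHull.dual E) :=
    rank_dual hE
  have hFr : FlatMod.IsFinLocFreeOfRank (r * r) F := TensorMod.LocFree.rank_tensorMod hdual hE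
  obtain ⟨t⟩ := htriv (r * r) F hFr fun f hf => by
    obtain ⟨c, ⟨e⟩⟩ := exists_uniform hr (TensorMod.LocFree.rank_pullback f hE) (hss f hf)
    obtain ⟨w⟩ := Cyc.CH.nonempty_pullback_dual_iso f hE
    obtain ⟨v⟩ := end_free (isInvertible_TS c) r
      (Perfect.Coherent.isCoh_of_isFinLocFree (TensorMod.LocFree.isFinLocFree_pullback f hEf)) e
    exact ⟨TensorMod.Pullback.pullbackTensorIso f (RefHull.dual E) E ≪≫ tensorIso w (Iso.refl _) ≪≫ v⟩
  haveI := Amp36.HomTensor.isIso_tens_of_finLocFree (F := Coh.structureModule X) hEf E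
  haveI := CurveBundle.HomDeg.isIso_post hEc (leftUnit E)
  exact exists_line hr hE (t.symm ≪≫ asIso (HomSheaf.Basic.tens E (Coh.structureModule X) E) ≪≫
    asIso (CurveBundle.GenusOneSplit.post (leftUnit E).hom E))

end Groth.Agent.S16009
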