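import Groth.Statements.S1601
import Groth.Agent.Lib.PBasis.Field
import Mathlib.RingTheory.AdjoinRoot
import Mathlib.Algebra.MvPolynomial.PDeriv
import Mathlib.RingTheory.PrincipalIdealDomain
import Mathlib.RingTheory.Polynomial.Basic

set_option autoImplicit false
universe u
open Resolve

namespace Groth.Agent.S1601

open MvPolynomial

section

variable {κ : Type u} [Field κ]

theorem exists_derivation [CharP κ 2] {s : κ} (hs : ¬ IsSquare s) : ∃ D : Derivation ℤ κ κ, D s = 1 := by
  classical
  have : Fact (Nat.Prime 2) := ⟨Nat.prime_two⟩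
  let k := (⊥ : Subfield κ)
  let F : IntermediateField k κ := (frobenius κ 2).fieldRange.toIntermediateField fun x =>
    (bot_le : k ≤ (frobenius κ 2).fieldRange) x.2
  have hind : EGA41.IsPIndependent 2 k (Subtype.val : ({s} : Set κ) → κ) := by
    rw [Groth.Agent.Lib.PBasis.Field.isPIndependent_set_iff]
    rintro a rfl hmem
    rw [sdiff_self] at hmem
    have : Groth.Agent.Lib.PBasis.Field.FF 2 k (∅ : Set κ) ≤ F := IntermediateField.adjoin_le_iff.2 (by
      rintro y (⟨z, rfl⟩ | h)
      · exact ⟨z, frobenius_def 2 z⟩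
      · exact absurd h (Set.notMem_empty y))
    obtain ⟨z, hz⟩ := this hmem
    exact hs ⟨z, by rw [← hz, frobenius_def, sq]⟩
  obtain ⟨B, hLB, -, hB⟩ := Groth.Agent.Lib.PBasis.Field.exists_pBasis Set.univ {s} (Set.subset_univ _)
    Groth.Agent.Lib.PBasis.Field.isPGenerating_univ hind
  obtain ⟨D, hD, -⟩ := Groth.Agent.Lib.PBasis.Deriv.existsUnique_derivation_rel (L := κ) hB fun _ => (1 : κ)
  exact ⟨D.restrictScalars ℤ, hD ⟨s, hLB rfl⟩⟩

theorem derivation_sq_mem {R P : Type*} [CommRing R] [CommRing P] [Algebra R P] (D : Derivation R P P)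
    (I : Ideal P) {f : P} (h : f ∈ I ^ 2) : D f ∈ I := by
  rw [sq] at h
  induction h using Submodule.mul_induction_on' with
  | mem_mul_mem a ha b hb =>
    rw [D.leibniz]
    exact add_mem (I.mul_mem_right _ ha) (I.mul_mem_right _ hb)
  | add a _ b _ ha hb => rw [map_add]; exact add_mem ha hb

/-- The lift of a derivation of the coefficients. -/
noncomputable def lift (D : Derivation ℤ κ κ) :
    MvPolynomial (Fin 2) κ →+* TrivSqZeroExt (MvPolynomial (Fin 2) κ) (MvPolynomial (Fin 2) κ) :=
  eval₂Hom
    { toFun := fun c => TrivSqZeroExt.inl (C c) + TrivSqZeroExt.inr (C (D c))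
      map_one' := by simp
      map_mul' := fun a b => by
        ext <;> simp [D.leibniz, mul_comm, add_comm]
      map_zero' := by simp
      map_add' := fun a b => by ext <;> simp }
    fun i => TrivSqZeroExt.inl (X i)

theorem fst_lift (D : Derivation ℤ κ κ) (f : MvPolynomial (Fin 2) κ) : (lift D f).fst = f := by
  induction f using MvPolynomial.induction_on with
  | C a => simp [lift]
  | add p q hp hq => rw [map_add, TrivSqZeroExt.fst_add, hp, hq]
  | mul_X p i hp => rw [map_mul, TrivSqZeroExt.fst_mul, hp]; simp [lift]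

theorem snd_lift_mem (D : Derivation ℤ κ κ) (I : Ideal (MvPolynomial (Fin 2) κ)) {f : MvPolynomial (Fin 2) κ}
    (h : f ∈ I ^ 2) : (lift D f).snd ∈ I := by
  rw [sq] at h
  induction h using Submodule.mul_induction_on' with
  | mem_mul_mem a ha b hb =>
    rw [map_mul, TrivSqZeroExt.snd_mul, fst_lift, fst_lift, MulOpposite.smul_eq_mul_unop, smul_eq_mul]
    exact add_mem (I.mul_mem_right _ ha) (I.mul_mem_left _ hb)
  | add a _ b _ ha hb => rw [map_add, TrivSqZeroExt.snd_add]; exact add_mem ha hb

section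

variable (I : Ideal (MvPolynomial (Fin 2) κ))
  (hI : ¬ (Module.Finite κ (MvPolynomial (Fin 2) κ ⧸ I) ∧ Module.finrank κ (MvPolynomial (Fin 2) κ ⧸ I) ≤ 1))
  {i j : Fin 2} (hij : i ≠ j)

include hI

theorem not_const_mem {u : κ} (h : C u ∈ I) : u = 0 := by
  by_contra hu
  have hT : I = ⊤ := Ideal.eq_top_of_isUnit_mem _ h ((Ne.isUnit hu).map C)
  subst hT
  have : Subsingleton (MvPolynomial (Fin 2) κ ⧸ (⊤ : Ideal (MvPolynomial (Fin 2) κ))) :=
    Ideal.Quotient.subsingleton_iff.2 rfl
  refine hI ⟨inferInstance, ?_⟩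
  rw [Module.finrank_zero_of_subsingleton]
  exact zero_le_one

include hij

theorem not_two (α β : κ) (h1 : X i - C α ∈ I) (h2 : X j - C β ∈ I) : False := by
  have hs : Function.Surjective (Algebra.linearMap κ (MvPolynomial (Fin 2) κ ⧸ I)) := by
    intro q
    obtain ⟨p, rfl⟩ := Ideal.Quotient.mk_surjective q
    induction p using MvPolynomial.induction_on with
    | C a => exact ⟨a, rfl⟩
    | add p q hp hq =>
      obtain ⟨a, ha⟩ := hp; obtain ⟨b, hb⟩ := hq
      exact ⟨a + b, by rw [map_add, ha, hb, map_add]⟩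
    | mul_X p k hp =>
      obtain ⟨a, ha⟩ := hp
      obtain ⟨γ, hγ⟩ : ∃ γ, X k - C γ ∈ I := by
        rcases (show k = i ∨ k = j by omega) with rfl | rfl
        · exact ⟨α, h1⟩
        · exact ⟨β, h2⟩
      refine ⟨a * γ, ?_⟩
      show algebraMap κ (MvPolynomial (Fin 2) κ ⧸ I) (a * γ) = _
      rw [map_mul, map_mul (Ideal.Quotient.mk I), Ideal.Quotient.eq.2 hγ, ← ha]
      rfl
  refine hI ⟨Module.Finite.of_surjective _ hs, ?_⟩
  exact (LinearMap.finrank_le_finrank_of_surjective hs).trans (Module.finrank_self κ).le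

/-- If `I` contains `X i - p X j - q` then the quadric is a multiple of its square. -/
theorem line (p q a b c d e f : κ) (hl : X i - C p * X j - C q ∈ I)
    (hmem : (C a + C b * X i + C c * X j + C d * X i ^ 2 + C e * X i * X j + C f * X j ^ 2 :
      MvPolynomial (Fin 2) κ) ∈ I ^ 2) :
    a = d * q ^ 2 ∧ b = -(2 * d * q) ∧ c = 2 * d * p * q ∧ e = -(2 * d * p) ∧ f = d * p ^ 2 := by
  classical
  let t : Polynomial κ := Polynomial.X
  let φ : MvPolynomial (Fin 2) κ →+* Polynomial κ :=
    eval₂Hom Polynomial.C (fun k => if k = i then Polynomial.C p * t + Polynomial.C q else t)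
  have hφC : ∀ x, φ (C x) = Polynomial.C x := fun x => eval₂Hom_C ..
  have hφi : φ (X i) = Polynomial.C p * t + Polynomial.C q := by simp [φ]
  have hφj : φ (X j) = t := by simp [φ, hij.symm]
  have hker : ∀ g, g - eval₂ C (fun k => if k = i then C p * X j + C q else X j) g ∈ I := by
    intro g
    rw [← Ideal.Quotient.eq_zero_iff_mem, map_sub, sub_eq_zero]
    induction g using MvPolynomial.induction_on with
    | C a => rw [eval₂_C]
    | add u v hu hv => rw [eval₂_add, map_add, map_add, ← hu, ← hv]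
    | mul_X u k hu =>
      rw [eval₂_mul, eval₂_X, map_mul, map_mul, ← hu]
      congr 1
      rcases (show k = i ∨ k = j by omega) with rfl | rfl
      · rw [if_pos rfl, Ideal.Quotient.eq, ← sub_sub]; exact hl
      · rw [if_neg hij.symm]
  let ψ : Polynomial κ →+* MvPolynomial (Fin 2) κ := Polynomial.eval₂RingHom C (X j)
  have hψ : ∀ g, ψ (φ g) = eval₂ C (fun k => if k = i then C p * X j + C q else X j) g := by
    intro g
    induction g using MvPolynomial.induction_on with
    | C a => simp [φ, ψ]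
    | add u v hu hv => rw [map_add, map_add, eval₂_add, hu, hv]
    | mul_X u k hu =>
      rw [map_mul, map_mul, eval₂_mul, eval₂_X, hu]
      congr 1
      by_cases hk : k = i <;> simp [φ, ψ, t, hk]
  have hback : ∀ r : Polynomial κ, r ∈ I.map φ → ψ r ∈ I := by
    intro r hr
    induction hr using Submodule.span_induction with
    | mem r hr =>
      obtain ⟨g, hg, rfl⟩ := hr
      rw [hψ]
      have := I.sub_mem hg (hker g)
      rwa [sub_sub_cancel] at this
    | zero => rw [map_zero]; exact zero_mem _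
    | add u v _ _ hu hv => rw [map_add]; exact add_mem hu hv
    | smul u v _ hv => rw [smul_eq_mul, map_mul]; exact I.mul_mem_left _ hv
  obtain ⟨r, hr⟩ := (IsPrincipalIdealRing.principal (I.map φ)).principal
  replace hr : I.map φ = Ideal.span {r} := hr
  have hψr : ψ r ∈ I := hback r (hr ▸ Ideal.mem_span_singleton_self r)
  have hdeg : r = 0 ∨ 2 ≤ r.natDegree := by
    by_contra hd
    push Not at hd
    have hr1 : r.natDegree ≤ 1 := by omega
    have hX : ψ r = C (r.coeff 1) * X j + C (r.coeff 0) := by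
      conv_lhs => rw [Polynomial.eq_X_add_C_of_natDegree_le_one hr1]
      simp [ψ]
    rw [hX] at hψr
    by_cases h1 : r.coeff 1 = 0
    · rw [h1, map_zero, zero_mul, zero_add] at hψr
      refine hd.1 ?_
      rw [Polynomial.eq_X_add_C_of_natDegree_le_one hr1, h1, not_const_mem I hI hψr]
      simp
    · refine not_two I hI hij (p * (-(r.coeff 0) / r.coeff 1) + q) (-(r.coeff 0) / r.coeff 1) ?_ ?_
      · rw [show X i - C (p * (-(r.coeff 0) / r.coeff 1) + q) =
          (X i - C p * X j - C q) + C p * (X j - C (-(r.coeff 0) / r.coeff 1)) by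
            rw [map_add, map_mul]; ring]
        refine add_mem hl (I.mul_mem_left _ ?_)
        have := I.mul_mem_left (C (r.coeff 1)⁻¹) hψr
        rwa [mul_add, ← mul_assoc, ← map_mul, inv_mul_cancel₀ h1, map_one, one_mul, ← map_mul,
          show (r.coeff 1)⁻¹ * r.coeff 0 = -(-(r.coeff 0) / r.coeff 1) by field_simp, map_neg, ← sub_eq_add_neg] at this
      · have := I.mul_mem_left (C (r.coeff 1)⁻¹) hψr
        rwa [mul_add, ← mul_assoc, ← map_mul, inv_mul_cancel₀ h1, map_one, one_mul, ← map_mul,
          show (r.coeff 1)⁻¹ * r.coeff 0 = -(-(r.coeff 0) / r.coeff 1) by field_simp, map_neg, ← sub_eq_add_neg] at this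
  have hdvd : ∀ g ∈ I, r ∣ φ g := fun g hg => Ideal.mem_span_singleton.1 (hr ▸ Ideal.mem_map_of_mem φ hg)
  have hzero : ∀ (g : Polynomial κ) (n : ℕ), r ^ n ∣ g → (0 < n → g.natDegree < 2 * n) → 0 < n → g = 0 := by
    intro g n hg hlt hn
    rcases hdeg with h | h
    · subst h; rwa [zero_pow hn.ne', zero_dvd_iff] at hg
    · refine Polynomial.eq_zero_of_dvd_of_natDegree_lt hg ?_
      rw [Polynomial.natDegree_pow]
      calc g.natDegree < 2 * n := hlt hn
        _ ≤ n * r.natDegree := by rw [mul_comm 2 n]; exact Nat.mul_le_mul_left n h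
  set Q : MvPolynomial (Fin 2) κ :=
    C a + C b * X i + C c * X j + C d * X i ^ 2 + C e * X i * X j + C f * X j ^ 2
  have h0 : φ Q = 0 := by
    refine hzero _ 2 ?_ (fun _ => ?_) two_pos
    · have : φ Q ∈ (I ^ 2).map φ := Ideal.mem_map_of_mem _ hmem
      rwa [Ideal.map_pow, hr, Ideal.span_singleton_pow, Ideal.mem_span_singleton] at this
    · simp only [Q, map_add, map_mul, map_pow, hφC, hφi, hφj, t]
      refine lt_of_le_of_lt ?_ (by norm_num : (2 : ℕ) < 2 * 2)
      compute_degree
  have hlin : φ (pderiv i Q) = Polynomial.C (2 * d * p + e) * Polynomial.X + Polynomial.C (b + 2 * d * q) := by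
    simp only [Q, map_add, pderiv_mul, pderiv_C, pderiv_X_self, pderiv_X_of_ne hij.symm, pderiv_pow, map_mul,
      map_pow, map_zero, map_one, map_natCast, map_ofNat, hφC, hφi, hφj, t, Polynomial.C_ofNat, Nat.cast_ofNat]
    ring
  have h1 : φ (pderiv i Q) = 0 := by
    refine hzero _ 1 ?_ (fun _ => ?_) one_pos
    · rw [pow_one]
      exact hdvd _ (derivation_sq_mem (pderiv i) I hmem)
    · rw [hlin]
      exact lt_of_le_of_lt Polynomial.natDegree_linear_le (by norm_num)
  simp only [Q, map_add, map_mul, map_pow, hφC, hφi, hφj, t] at h0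
  have e2 : Polynomial.C (d * p ^ 2 + e * p + f) * Polynomial.X ^ 2 +
      Polynomial.C (b * p + c + 2 * d * p * q + e * q) * Polynomial.X +
      Polynomial.C (a + b * q + d * q ^ 2) = (0 : Polynomial κ) := by
    simp only [map_add, map_mul, map_pow, Polynomial.C_ofNat]; linear_combination h0
  have k2 : Polynomial.C (2 * d * p + e) * Polynomial.X + Polynomial.C (b + 2 * d * q) = (0 : Polynomial κ) :=
    hlin.symm.trans h1
  have A2 := congrArg (fun g => Polynomial.coeff g 2) e2
  have A1 := congrArg (fun g => Polynomial.coeff g 1) e2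
  have A0 := congrArg (fun g => Polynomial.coeff g 0) e2
  have B1 := congrArg (fun g => Polynomial.coeff g 1) k2
  have B0 := congrArg (fun g => Polynomial.coeff g 0) k2
  simp [-map_add, -map_mul, -map_pow, -map_sub, Polynomial.coeff_X, Polynomial.coeff_C] at A2 A1 A0 B1 B0
  refine ⟨?_, ?_, ?_, ?_, ?_⟩
  · linear_combination A0 - q * B0
  · linear_combination B0
  · linear_combination A1 - p * B0 - q * B1
  · linear_combination B1
  · linear_combination A2 - p * B1

/-- Without affine linear elements in `I`, a quadric `d X² + f Y² + a` in `I²` is a square. -/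
theorem noLinear [CharP κ 2] (hW : ∀ u v w : κ, C u + C v * X i + C w * X j ∈ I → u = 0 ∧ v = 0 ∧ w = 0)
    (a d f : κ) (hd : d ≠ 0) (hmem : (C a + C d * X i ^ 2 + C f * X j ^ 2 : MvPolynomial (Fin 2) κ) ∈ I ^ 2) :
    ∃ g h : κ, a = d * g ^ 2 ∧ f = d * h ^ 2 := by
  classical
  let s := f / d
  let a' := a / d
  set x : MvPolynomial (Fin 2) κ := X i
  set y : MvPolynomial (Fin 2) κ := X j
  have hQ : x ^ 2 + C s * y ^ 2 + C a' ∈ I ^ 2 := by
    have := (I ^ 2).mul_mem_left (C d⁻¹) hmem
    convert this using 1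
    simp only [s, a', div_eq_inv_mul, map_mul, mul_add, ← mul_assoc]
    rw [← map_mul C d⁻¹ d, inv_mul_cancel₀ hd, map_one]
    ring
  by_cases hs : IsSquare s
  · by_cases ha : IsSquare a'
    · obtain ⟨g, hg⟩ := ha
      obtain ⟨h, hh⟩ := hs
      exact ⟨g, h, by rw [sq, ← hg]; simp [a', mul_div_cancel₀ a hd], by rw [sq, ← hh]; simp [s, mul_div_cancel₀ f hd]⟩
    · exfalso
      obtain ⟨D, hD⟩ := exists_derivation ha
      obtain ⟨h, hh⟩ := hs
      have hDs : D s = 0 := by
        rw [hh, D.leibniz, ← two_smul κ, CharTwo.two_eq_zero, zero_smul]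
      have := snd_lift_mem D I hQ
      simp [lift, x, y, hD, hDs, sq] at this
      exact one_ne_zero (not_const_mem I hI (u := (1 : κ)) (by rw [map_one]; exact this))
  exfalso
  obtain ⟨D, hD⟩ := exists_derivation hs
  let B : κ := D a'
  have hv : y ^ 2 + C B ∈ I := by
    have := snd_lift_mem D I hQ
    simp [lift, x, y, hD, sq] at this
    simpa [sq, B, y] using this
  let A : κ := a' - s * B
  have hu : x ^ 2 + C A ∈ I := by
    have := I.sub_mem (Ideal.pow_le_self two_ne_zero hQ) (I.mul_mem_left (C s) hv)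
    convert this using 1
    simp only [A, map_sub, map_mul]; ring
  let N : Ideal (MvPolynomial (Fin 2) κ) := Ideal.span {x ^ 2 + C A, y ^ 2 + C B}
  have hred : ∀ g : MvPolynomial (Fin 2) κ, ∃ α u v w : κ,
      g - (C α * (x * y) + (C u + C v * x + C w * y)) ∈ N := by
    intro g
    induction g using MvPolynomial.induction_on with
    | C c => exact ⟨0, c, 0, 0, by simp⟩
    | add g h hg hh =>
      obtain ⟨α, u, v, w, h1⟩ := hg
      obtain ⟨α', u', v', w', h2⟩ := hh
      refine ⟨α + α', u + u', v + v', w + w', ?_⟩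
      convert N.add_mem h1 h2 using 1
      simp only [map_add]; ring
    | mul_X g k hg =>
      obtain ⟨α, u, v, w, h1⟩ := hg
      have hx2 : x ^ 2 + C A ∈ N := Ideal.subset_span (Or.inl rfl)
      have hy2 : y ^ 2 + C B ∈ N := Ideal.subset_span (Or.inr rfl)
      rcases (show k = i ∨ k = j by omega) with rfl | rfl
      · refine ⟨w, -(v * A), u, -(α * A), ?_⟩
        convert N.add_mem (N.mul_mem_right x h1) (N.mul_mem_left (C α * y + C v) hx2) using 1
        simp only [map_neg, map_mul, x]; ring
      · refine ⟨v, -(w * B), -(α * B), u, ?_⟩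
        convert N.add_mem (N.mul_mem_right y h1) (N.mul_mem_left (C α * x + C w) hy2) using 1
        simp only [map_neg, map_mul, y]; ring
  have hNI : N ≤ I := Ideal.span_le.2 (by rintro z (rfl | rfl); exacts [hu, hv])
  by_cases hIN : I ≤ N
  · -- `I = (x² + A, y² + B)`
    let r : Polynomial κ := (Polynomial.X ^ 2 + Polynomial.C A) ^ 2
    have hr : r.Monic := (Polynomial.monic_X_pow_add_C A two_ne_zero).pow 2
    let v' : Polynomial (AdjoinRoot r) := Polynomial.X ^ 2 + Polynomial.C (algebraMap κ (AdjoinRoot r) B)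
    let θ : MvPolynomial (Fin 2) κ →+* AdjoinRoot v' :=
      eval₂Hom ((AdjoinRoot.of v').comp (AdjoinRoot.of r))
        fun k => if k = i then AdjoinRoot.of v' (AdjoinRoot.root r) else AdjoinRoot.root v'
    have hθC : ∀ c, θ (C c) = AdjoinRoot.of v' (AdjoinRoot.of r c) := fun c => eval₂Hom_C ..
    have hθx : θ x = AdjoinRoot.of v' (AdjoinRoot.root r) := by simp [θ, x]
    have hθy : θ y = AdjoinRoot.root v' := by simp [θ, y, hij.symm]
    have hθv : θ (y ^ 2 + C B) = 0 := by
      have h := AdjoinRoot.eval₂_root v'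
      simp only [v', Polynomial.eval₂_add, Polynomial.eval₂_X_pow, Polynomial.eval₂_C] at h
      rw [map_add, map_pow, hθy, hθC]
      exact h
    have hθu : θ (x ^ 2 + C A) = AdjoinRoot.of v' (AdjoinRoot.mk r (Polynomial.X ^ 2 + Polynomial.C A)) := by
      simp [hθx, hθC]
    have hmapI : (I.map θ) ≤ Ideal.span {θ (x ^ 2 + C A)} := by
      refine (Ideal.map_mono hIN).trans ?_
      rw [Ideal.map_span, Ideal.span_le]
      rintro z ⟨w, rfl | rfl, rfl⟩
      · exact Ideal.mem_span_singleton_self _
      · rw [hθv]; exact zero_mem _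
    have hzero : θ (x ^ 2 + C s * y ^ 2 + C a') = 0 := by
      have h := Ideal.pow_right_mono hmapI 2 (by rw [← Ideal.map_pow]; exact Ideal.mem_map_of_mem θ hQ)
      rw [Ideal.span_singleton_pow, Ideal.mem_span_singleton, hθu, ← map_pow, ← map_pow,
        show ((Polynomial.X ^ 2 + Polynomial.C A) ^ 2 : Polynomial κ) = r from rfl, AdjoinRoot.mk_self, map_zero,
        zero_dvd_iff] at h
      exact h
    rw [show x ^ 2 + C s * y ^ 2 + C a' = (x ^ 2 + C A) + C s * (y ^ 2 + C B) by
      simp only [A, map_sub, map_mul]; ring, map_add, map_mul, hθv, mul_zero, add_zero, hθu] at hzero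
    have : Nontrivial (AdjoinRoot r) := AdjoinRoot.nontrivial r (by
      intro h0
      have := Polynomial.natDegree_eq_of_degree_eq_some h0
      simp [r, Polynomial.natDegree_pow, Polynomial.natDegree_X_pow_add_C] at this)
    have hne : v'.natDegree ≠ 0 := by rw [Polynomial.natDegree_X_pow_add_C]; exact two_ne_zero
    have hinj : Function.Injective (AdjoinRoot.of v') := by
      have hm : v'.Monic := Polynomial.monic_X_pow_add_C _ two_ne_zero
      refine (injective_iff_map_eq_zero _).2 fun c hc => ?_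
      have h2 := Polynomial.modByMonic_eq_zero_iff_dvd hm |>.2 (AdjoinRoot.mk_eq_zero.1 hc)
      rwa [(Polynomial.modByMonic_eq_self_iff hm).2 ?_, Polynomial.C_eq_zero] at h2
      refine lt_of_le_of_lt Polynomial.degree_C_le ?_
      exact Polynomial.natDegree_pos_iff_degree_pos.1 (Nat.pos_of_ne_zero hne)
    have hdvd := AdjoinRoot.mk_eq_zero.1 ((map_eq_zero_iff _ hinj).1 hzero)
    have := Polynomial.natDegree_le_of_dvd hdvd (Polynomial.monic_X_pow_add_C A two_ne_zero).ne_zero
    simp [r, Polynomial.natDegree_pow, Polynomial.natDegree_X_pow_add_C] at this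
  · -- `I` is the square of the ideal of a rational point
    obtain ⟨g, hgI, hgN⟩ := SetLike.not_le_iff_exists.1 hIN
    obtain ⟨α, u, v, w, hg⟩ := hred g
    have hlin : C α * (x * y) + (C u + C v * x + C w * y) ∈ I := by
      have := I.sub_mem hgI (hNI hg)
      rwa [sub_sub_cancel] at this
    have hα : α ≠ 0 := by
      rintro rfl
      rw [map_zero, zero_mul, zero_add] at hlin
      obtain ⟨rfl, rfl, rfl⟩ := hW u v w hlin
      exact hgN (by simpa using hg)
    let p := v / α
    let q := w / α
    let r := u / α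
    have hh : x * y + C p * x + C q * y + C r ∈ I := by
      have := I.mul_mem_left (C α⁻¹) hlin
      convert this using 1
      simp only [p, q, r, div_eq_inv_mul, map_mul, mul_add, ← mul_assoc]
      rw [← map_mul C α⁻¹ α, inv_mul_cancel₀ hα, map_one]
      ring
    obtain ⟨-, h1, h2⟩ := hW (-(p * A) - q * r) (r - p * q) (-A - q ^ 2) (by
      convert I.sub_mem (I.sub_mem (I.mul_mem_left x hh) (I.mul_mem_left (y + C p) hu)) (I.mul_mem_left (C q) hh) using 1
      simp only [map_sub, map_neg, map_mul, map_pow, x, y]; ring)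
    obtain ⟨-, -, h3⟩ := hW (-(q * B) - p * r) (-B - p ^ 2) (r - p * q) (by
      convert I.sub_mem (I.sub_mem (I.mul_mem_left y hh) (I.mul_mem_left (x + C q) hv)) (I.mul_mem_left (C p) hh) using 1
      simp only [map_sub, map_neg, map_mul, map_pow, x, y]; ring)
    obtain ⟨-, h4, -⟩ := hW (-(q * B) - p * r) (-B - p ^ 2) (r - p * q) (by
      convert I.sub_mem (I.sub_mem (I.mul_mem_left y hh) (I.mul_mem_left (x + C q) hv)) (I.mul_mem_left (C p) hh) using 1
      simp only [map_sub, map_neg, map_mul, map_pow, x, y]; ring)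
    have hA : A = -q ^ 2 := by linear_combination -h2
    have hB : B = -p ^ 2 := by linear_combination -h4
    have hr : r = p * q := sub_eq_zero.1 h1
    let χ : MvPolynomial (Fin 2) κ →+* Polynomial κ :=
      eval₂Hom Polynomial.C fun k => if k = i then Polynomial.X - Polynomial.C q else -Polynomial.C p
    have hχC : ∀ c, χ (C c) = Polynomial.C c := fun c => eval₂Hom_C ..
    have hχx : χ x = Polynomial.X - Polynomial.C q := by simp [χ, x]
    have hχy : χ y = -Polynomial.C p := by simp [χ, y, hij.symm]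
    have h2' : (2 : Polynomial κ) = 0 := CharTwo.two_eq_zero
    have hχu : χ (x ^ 2 + C A) = Polynomial.X ^ 2 := by
      rw [map_add, map_pow, hχx, hχC, hA, map_neg, map_pow]
      linear_combination (-(Polynomial.X * Polynomial.C q)) * h2'
    have hχv : χ (y ^ 2 + C B) = 0 := by rw [map_add, map_pow, hχy, hχC, hB, map_neg, map_pow]; ring
    have hχh : χ (x * y + C p * x + C q * y + C r) = 0 := by
      simp only [map_add, map_mul, hχx, hχy, hχC, hr]; ring
    have hIle : I.map χ ≤ Ideal.span {Polynomial.X ^ 2} := by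
      refine Ideal.map_le_iff_le_comap.2 fun z hz => ?_
      obtain ⟨α', u', v', w', hz'⟩ := hred z
      have hrest : C α' * (x * y) + (C u' + C v' * x + C w' * y) ∈ I := by
        have := I.sub_mem hz (hNI hz')
        rwa [sub_sub_cancel] at this
      obtain ⟨e0, e1, e2⟩ := hW (u' - α' * r) (v' - α' * p) (w' - α' * q) (by
        convert I.sub_mem hrest (I.mul_mem_left (C α') hh) using 1
        simp only [map_sub, map_mul, x, y]; ring)
      have hzI : C α' * (x * y) + (C u' + C v' * x + C w' * y) = C α' * (x * y + C p * x + C q * y + C r) := by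
        rw [sub_eq_zero.1 e0, sub_eq_zero.1 e1, sub_eq_zero.1 e2, map_mul, map_mul, map_mul]; ring
      have hN : N ≤ (Ideal.span {(Polynomial.X : Polynomial κ) ^ 2}).comap χ := Ideal.span_le.2 (by
        rintro t (rfl | rfl)
        · rw [SetLike.mem_coe, Ideal.mem_comap, hχu]; exact Ideal.mem_span_singleton_self _
        · rw [SetLike.mem_coe, Ideal.mem_comap, hχv]; exact zero_mem _)
      rw [← sub_add_cancel z (C α' * (x * y) + (C u' + C v' * x + C w' * y))]
      refine add_mem (hN hz') ?_
      rw [hzI, Ideal.mem_comap, map_mul, hχh, mul_zero]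
      exact zero_mem _
    have h := Ideal.pow_right_mono hIle 2 (by rw [← Ideal.map_pow]; exact Ideal.mem_map_of_mem χ hQ)
    rw [Ideal.span_singleton_pow, Ideal.mem_span_singleton,
      show x ^ 2 + C s * y ^ 2 + C a' = (x ^ 2 + C A) + C s * (y ^ 2 + C B) by
        simp only [A, map_sub, map_mul]; ring, map_add, map_mul, hχu, hχv, mul_zero, add_zero] at h
    have := Polynomial.natDegree_le_of_dvd h (pow_ne_zero 2 Polynomial.X_ne_zero)
    simp [← pow_mul] at this

end

end

/-- Let κ be a field and I an ideal of κ[x, y] whose colength is greater than one (the quotient is not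
of dimension at most one over κ). If a nonzero polynomial a + bx + cy + dx^2 + exy + fy^2 lies in
I^2, then it equals j (g + hx + iy)^2 for some scalars j, g, h, i. -/
theorem result (κ : Type u) [Field κ] (I : Ideal (MvPolynomial (Fin 2) κ))
    (hI : ¬ (Module.Finite κ (MvPolynomial (Fin 2) κ ⧸ I) ∧ Module.finrank κ (MvPolynomial (Fin 2) κ ⧸ I) ≤ 1))
    (a b c d e f : κ) (hne : (a, b, c, d, e, f) ≠ (0, 0, 0, 0, 0, 0))
    (hmem : (MvPolynomial.C a + MvPolynomial.C b * MvPolynomial.X 0 + MvPolynomial.C c * MvPolynomial.X 1 +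
      MvPolynomial.C d * MvPolynomial.X 0 ^ 2 + MvPolynomial.C e * MvPolynomial.X 0 * MvPolynomial.X 1 +
      MvPolynomial.C f * MvPolynomial.X 1 ^ 2 : MvPolynomial (Fin 2) κ) ∈ I ^ 2) :
    ∃ j g h i : κ, (MvPolynomial.C a + MvPolynomial.C b * MvPolynomial.X 0 + MvPolynomial.C c * MvPolynomial.X 1 +
      MvPolynomial.C d * MvPolynomial.X 0 ^ 2 + MvPolynomial.C e * MvPolynomial.X 0 * MvPolynomial.X 1 +
      MvPolynomial.C f * MvPolynomial.X 1 ^ 2 : MvPolynomial (Fin 2) κ) =
      MvPolynomial.C j * (MvPolynomial.C g + MvPolynomial.C h * MvPolynomial.X 0 + MvPolynomial.C i * MvPolynomial.X 1) ^ 2 := by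
  classical
  set Q : MvPolynomial (Fin 2) κ := MvPolynomial.C a + MvPolynomial.C b * MvPolynomial.X 0 + MvPolynomial.C c * MvPolynomial.X 1 +
      MvPolynomial.C d * MvPolynomial.X 0 ^ 2 + MvPolynomial.C e * MvPolynomial.X 0 * MvPolynomial.X 1 +
      MvPolynomial.C f * MvPolynomial.X 1 ^ 2 with hQdef
  by_cases hW : ∀ u v w : κ, C u + C v * X (0 : Fin 2) + C w * X 1 ∈ I → u = 0 ∧ v = 0 ∧ w = 0
  · have hx := derivation_sq_mem (pderiv (0 : Fin 2)) I hmem
    have hy := derivation_sq_mem (pderiv (1 : Fin 2)) I hmem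
    obtain ⟨hb, hd2, he⟩ := hW b (2 * d) e (by
      convert hx using 1
      simp only [hQdef, map_add, pderiv_mul, pderiv_C, pderiv_X_self, pderiv_X_of_ne (one_ne_zero (α := Fin 2)),
        pderiv_pow, map_mul, map_ofNat, Nat.cast_ofNat]
      ring)
    obtain ⟨hc, -, hf2⟩ := hW c e (2 * f) (by
      convert hy using 1
      simp only [hQdef, map_add, pderiv_mul, pderiv_C, pderiv_X_self, pderiv_X_of_ne (zero_ne_one (α := Fin 2)),
        pderiv_pow, map_mul, map_ofNat, Nat.cast_ofNat]
      ring)
    subst hb hc he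
    have hdf : d ≠ 0 ∨ f ≠ 0 := by
      by_contra hcon
      push Not at hcon
      obtain ⟨rfl, rfl⟩ := hcon
      have ha : a = 0 := not_const_mem I hI (by simpa [hQdef] using Ideal.pow_le_self two_ne_zero hmem)
      exact hne (by simp [ha])
    have h2 : (2 : κ) = 0 := by
      rcases hdf with h | h
      · exact (mul_eq_zero.1 hd2).resolve_right h
      · exact (mul_eq_zero.1 hf2).resolve_right h
    have : CharP κ 2 := (CharTwo.of_one_ne_zero_of_two_eq_zero one_ne_zero h2)
    have hC2 : (2 : MvPolynomial (Fin 2) κ) = 0 := CharTwo.two_eq_zero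
    rcases hdf with hd | hf
    · obtain ⟨g, h, ha, hf'⟩ := noLinear I hI (i := 0) (j := 1) (by decide) hW a d f hd (by
        convert hmem using 1; simp [hQdef])
      refine ⟨d, g, 1, h, ?_⟩
      rw [hQdef, ha, hf']
      simp only [map_mul, map_pow, map_zero, map_one]
      linear_combination (-(C d * (C g * X 0 + C g * C h * X 1 + C h * X 0 * X 1))) * hC2
    · obtain ⟨g, h, ha, hd'⟩ := noLinear I hI (i := 1) (j := 0) (by decide)
        (fun u v w hm => by
          obtain ⟨h1, h2, h3⟩ := hW u w v (by convert hm using 1; ring)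
          exact ⟨h1, h3, h2⟩) a f d hf (by convert hmem using 1; simp [hQdef]; ring)
      refine ⟨f, g, h, 1, ?_⟩
      rw [hQdef, ha, hd']
      simp only [map_mul, map_pow, map_zero, map_one]
      linear_combination (-(C f * (C g * X 1 + C g * C h * X 0 + C h * X 0 * X 1))) * hC2
  push Not at hW
  obtain ⟨u, v, w, hm, hne'⟩ := hW
  by_cases hv : v = 0
  · have hw : w ≠ 0 := by
      rintro rfl
      refine hne' (not_const_mem I hI ?_) hv rfl
      simpa [hv] using hm
    obtain ⟨ha, hb, hc, he, hd⟩ := line I hI (i := 1) (j := 0) (by decide) (-(v / w)) (-(u / w)) a c b f e d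
      (by
        have := I.mul_mem_left (C w⁻¹) hm
        convert this using 1
        simp only [div_eq_inv_mul, map_neg, map_mul, mul_add, ← mul_assoc]
        rw [← map_mul C w⁻¹ w, inv_mul_cancel₀ hw, map_one]; ring)
      (by convert hmem using 1; rw [hQdef]; ring)
    refine ⟨f, u / w, v / w, 1, ?_⟩
    rw [hQdef, ha, hb, hc, he, hd]
    simp only [map_mul, map_pow, map_neg, map_one, map_ofNat]
    ring
  · obtain ⟨ha, hb, hc, he, hf⟩ := line I hI (i := 0) (j := 1) (by decide) (-(w / v)) (-(u / v)) a b c d e f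
      (by
        have := I.mul_mem_left (C v⁻¹) hm
        convert this using 1
        simp only [div_eq_inv_mul, map_neg, map_mul, mul_add, ← mul_assoc]
        rw [← map_mul C v⁻¹ v, inv_mul_cancel₀ hv, map_one]; ring)
      hmem
    refine ⟨d, u / v, 1, w / v, ?_⟩
    rw [hQdef, ha, hb, hc, he, hf]
    simp only [map_mul, map_pow, map_neg, map_one, map_ofNat]
    ring

end Groth.Agent.S1601
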