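import Groth.Statements.S16010
import Groth.Agent.Lib.ThetaStab.GenIn

set_option autoImplicit false
universe u v w x
open W4c3ghconstell

namespace Groth.Agent.S16010

/-- Let k be an algebraically closed field of characteristic zero, A a commutative Hopf algebra over k
which is a finitely generated domain and linearly reductive (the coordinate ring of a connected
reductive group G; irreducible representations of G are indexed by the simple subcoalgebras D of A),
R a Noetherian commutative k-algebra with a multiplicative A-coaction (an affine G-scheme X = Spec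
R), and M an R-module with a compatible A-coaction (a G-equivariant quasi-coherent module on X)
which is finite over R, is the sum of its isotypic components M_D, and has dim_k M_D = h(D) < ∞ for
every simple subcoalgebra D. Fix a weight θ from simple subcoalgebras to ℚ, negative at only
finitely many D, with Σ_D θ(D) h(D) = 0 (a convergent real series) and with θ(D) ≠ 0, h(D) ≠ 0 for
some D; the weight of a k-subspace N of M is the real series Σ_D θ(D) · dim_k (N ∩ M_D). If M is
θ-stable, i.e. M has weight 0 and every non-zero proper R-submodule of M stable under the coaction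
has weight > 0, then M is generated as an R-module by its isotypic components M_D with θ(D) < 0.
(The published statement is over the complex numbers and records the multiplicity of each
irreducible representation rather than the dimension of the isotypic component; rescaling θ
translates between the two, and the printed argument uses only the bookkeeping stated here.) -/
theorem result (k : Type u) [Field k] [IsAlgClosed k] [CharZero k]
    (A : Type v) [CommRing A] [IsDomain A] [HopfAlgebra k A] [Algebra.FiniteType k A]
    (hred : HopfRep.IsLinearlyReductive k A)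
    (R : Type w) [CommRing R] [Algebra k R] [IsNoetherianRing R] [HopfRep.Comod k A R] [GLin.IsCoactAlg k A R]
    (M : Type x) [AddCommGroup M] [Module k M] [Module R M] [IsScalarTower k R M]
    [HopfRep.Comod k A M] [TameAct.IsHopfMod k A R M]
    (h : W4c3ghconstell.SimpSub k A → ℕ) (θ : W4c3ghconstell.SimpSub k A → ℚ)
    (hfin : {D | θ D < 0}.Finite) (hsum : HasSum (fun D => (θ D : ℝ) * (h D : ℝ)) 0)
    (hne : ∃ D, θ D ≠ 0 ∧ h D ≠ 0)
    (hM : W4c3ghconstell.IsConstellation k A R M h)
    (hst : W4c3ghconstell.IsThetaStable k A R M θ) :
    W4c3ghconstell.genIn k A R M {D | θ D < 0} ⊤ = ⊤ := by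
  obtain ⟨_, _, hd⟩ := hM
  set N := genIn k A R M {D | θ D < 0} ⊤ with hN
  have hsub : HopfRep.IsSubcomod (k := k) (A := A) (N.restrictScalars k) :=
    Groth.Agent.Lib.ThetaStab.isSubcomod_genIn _ (by simpa using Groth.Agent.Lib.Comod.Basic.isSubcomod_top)
  have h0 : ∀ D, θ D < 0 → hilbAt M (N.restrictScalars k) D = hilbAt M (⊤ : Submodule k M) D := fun D hD => by
    rw [hN, Groth.Agent.Lib.ThetaStab.hilbAt_genIn _ (show D ∈ {D | θ D < 0} from hD), Submodule.restrictScalars_top]
  have hle : theta M θ (N.restrictScalars k) ≤ theta M θ (⊤ : Submodule k M) :=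
    Groth.Agent.Lib.ThetaStab.theta_le_theta θ hd hsum.summable (fun D hD => (h0 D hD).ge)
      fun D _ => Groth.Agent.Lib.ThetaStab.hilbAt_mono hd le_top D
  rw [hst.1] at hle
  by_contra htop
  by_cases hbot : N = ⊥
  · obtain ⟨D, hD, hhD⟩ := hne
    have h1 := Groth.Agent.Lib.ThetaStab.eq_of_theta_eq θ hd hsum.summable (N := (⊥ : Submodule k M)) (N' := ⊤)
      (fun E hE => by rw [← h0 E hE, hbot, Submodule.restrictScalars_bot])
      (fun E _ => Groth.Agent.Lib.ThetaStab.hilbAt_mono hd bot_le E)
      (by rw [Groth.Agent.Lib.ThetaStab.theta_bot, hst.1]) D hD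
    rw [Groth.Agent.Lib.ThetaStab.hilbAt_bot, Groth.Agent.Lib.ThetaStab.hilbAt_top hd] at h1
    exact hhD h1.symm
  · exact absurd (hst.2 N hsub hbot htop) (not_lt.2 hle)

end Groth.Agent.S16010
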