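import Groth.Statements.S16016
import Mathlib

set_option autoImplicit false
universe u
open W4c3ghconstell

namespace Groth.Agent.S16016

/-- Let k be a field with 2 ≠ 0, index k⁶ by two copies of {0,1,2} (basis vectors p₁, p₂, p₃ in the
first copy and p₄, p₅, p₆ in the second), let Q be the symmetric matrix with blocks ((0, 1), (1,
0)), so that the form it defines pairs pᵢ with pᵢ₊₃, and let W₀ be the span of p₁ and p₂. Then a 6 ×
6 matrix A satisfies AᵀQ + QA = 0 (A lies in the orthogonal Lie algebra of Q) and has the image of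
Aᵀ contained in W₀ if and only if A = a · (E₄₂ − E₅₁) for some scalar a, where Eᵢⱼ is the matrix
unit. (The lemma in the source concludes that the set of such A inside a certain nilpotent orbit
closure of this Lie algebra is one-dimensional; this row is the computation its proof performs,
which determines all such A in the Lie algebra. Characteristic 2 is excluded: there E₁₄ᵀ also
qualifies.) -/
theorem result (k : Type u) [Field k] (h2 : (2 : k) ≠ 0)
    (A : Matrix (Fin 3 ⊕ Fin 3) (Fin 3 ⊕ Fin 3) k) :
    (A.transpose * Matrix.fromBlocks (0 : Matrix (Fin 3) (Fin 3) k) 1 1 0 +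
        Matrix.fromBlocks (0 : Matrix (Fin 3) (Fin 3) k) 1 1 0 * A = 0 ∧
      LinearMap.range (Matrix.mulVecLin A.transpose) ≤
        Submodule.span k {Pi.single (Sum.inl 0 : Fin 3 ⊕ Fin 3) (1 : k), Pi.single (Sum.inl 1 : Fin 3 ⊕ Fin 3) (1 : k)}) ↔
    ∃ a : k, A = a • (Matrix.single (Sum.inr 0) (Sum.inl 1) (1 : k) - Matrix.single (Sum.inr 1) (Sum.inl 0) (1 : k)) := by
  set Q : Matrix (Fin 3 ⊕ Fin 3) (Fin 3 ⊕ Fin 3) k := Matrix.fromBlocks (0 : Matrix (Fin 3) (Fin 3) k) 1 1 0 with hQ
  constructor
  · rintro ⟨hA, hr⟩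
    have hrow : ∀ i j, j ≠ Sum.inl 0 → j ≠ Sum.inl 1 → A i j = 0 := by
      intro i j h0 h1
      have h := hr ⟨Pi.single i 1, rfl⟩
      rw [Submodule.mem_span_pair] at h
      obtain ⟨a, b, hab⟩ := h
      have := congrFun hab j
      simp [Matrix.mulVecLin_apply, Matrix.mulVec_single, h0, h1] at this
      exact this.symm
    have e1 : ∀ a b, A (Sum.inr b) (Sum.inl a) + A (Sum.inr a) (Sum.inl b) = 0 := fun a b => by
      have h := congrFun (congrFun hA (Sum.inl a)) (Sum.inl b)
      simpa [hQ, Matrix.mul_apply, Fintype.sum_sum_type, Matrix.one_apply] using h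
    have e2 : ∀ a b, A (Sum.inr b) (Sum.inr a) + A (Sum.inl a) (Sum.inl b) = 0 := fun a b => by
      have h := congrFun (congrFun hA (Sum.inr a)) (Sum.inl b)
      simpa [hQ, Matrix.mul_apply, Fintype.sum_sum_type, Matrix.one_apply] using h
    have d : ∀ a, A (Sum.inr a) (Sum.inl a) = 0 := fun a => by
      have h := e1 a a
      rw [← two_mul] at h
      exact (mul_eq_zero.1 h).resolve_left h2
    have z1 : ∀ a b, A (Sum.inl a) (Sum.inl b) = 0 := fun a b => by
      have h := e2 a b
      rwa [hrow _ (Sum.inr a) (by simp) (by simp), zero_add] at h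
    have z2 : ∀ b, A (Sum.inr 2) (Sum.inl b) = 0 := fun b => by
      have h := e1 b 2
      rwa [hrow _ (Sum.inl 2) (by simp) (by simp), add_zero] at h
    refine ⟨A (Sum.inr 0) (Sum.inl 1), ?_⟩
    ext i j
    rcases j with j | j
    · rcases i with i | i
      · rw [z1]; simp [Matrix.single_apply]
      · fin_cases i <;> fin_cases j <;>
          simp [Matrix.single_apply, d, z2, hrow _ (Sum.inl 2) (by simp) (by simp)] <;>
          linear_combination e1 1 0
    · rw [hrow i _ (by simp) (by simp)]; simp [Matrix.single_apply]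
  · rintro ⟨a, rfl⟩
    constructor
    · ext i j
      rcases i with i | i <;> rcases j with j | j <;> fin_cases i <;> fin_cases j <;>
        simp [hQ, Matrix.mul_apply, Fintype.sum_sum_type, Matrix.one_apply, Matrix.single_apply, Fin.sum_univ_three]
    · rintro _ ⟨v, rfl⟩
      rw [Submodule.mem_span_pair]
      refine ⟨-(a * v (Sum.inr 1)), a * v (Sum.inr 0), ?_⟩
      ext j
      rcases j with j | j <;> fin_cases j <;>
        simp [Matrix.mulVecLin_apply, Matrix.mulVec, dotProduct, Fintype.sum_sum_type, Fin.sum_univ_three, Matrix.single_apply]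

end Groth.Agent.S16016
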