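import Groth.Statements.S16021
import Groth.Agent.Lib.CechEdge.Edge

set_option autoImplicit false
universe u
open CategoryTheory CategoryTheory.Limits Opposite
open CechEdge

namespace Groth.Agent.S16021

/-- On a small site with fibre products, with coverings given as indexed families of objects over their
target, an abelian presheaf is a sheaf if and only if, for every object U and every family of
objects over U whose generated sieve is covering, the canonical map from the sections over U to the
degree-0 Cech cohomology with respect to the family is bijective. -/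
theorem result {C : Type u} [SmallCategory C] [HasPullbacks C]
    (J : GrothendieckTopology C) (P : Cᵒᵖ ⥤ AddCommGrpCat.{u}) :
    Presheaf.IsSheaf J P ↔ ∀ (U : C) (ι : Type u) (Y : ι → Over U),
      Sieve.ofArrows (fun i => (Y i).left) (fun i => (Y i).hom) ∈ J U →
        Function.Bijective (CechEdge.toCech Y P) := by
  refine ⟨fun hP U ι Y hY => Groth.Agent.Lib.CechEdge.toCech_bijective_of_isSheaf Y J hP hY, fun h => ?_⟩
  rw [Presheaf.isSheaf_iff_isSheaf_forget J P (forget AddCommGrpCat), isSheaf_iff_isSheaf_of_type]
  intro X S hS
  let κ := Σ W : C, {g : W ⟶ X // S.arrows g}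
  let Y : κ → Over X := fun a => Over.mk a.2.1
  have hgen : Sieve.ofArrows (fun i => (Y i).left) (fun i => (Y i).hom) = S := by
    refine le_antisymm ?_ fun W g hg => Sieve.ofArrows_mk _ _ (⟨W, g, hg⟩ : κ)
    rw [Sieve.ofArrows, Sieve.generate_le_iff]
    rintro _ _ ⟨a⟩
    exact a.2.2
  have hb := (Groth.Agent.Lib.CechEdge.toCech_bijective_iff Y P).1 (h X κ Y (hgen.symm ▸ hS))
  rw [Presieve.isSheafFor_iff_generate] at hb
  exact hgen ▸ hb

end Groth.Agent.S16021
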