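import Groth.Statements.S16030
import Mathlib.RingTheory.Spectrum.Prime.Topology
import Mathlib.RingTheory.Ideal.Operations

set_option autoImplicit false
universe u
open CAlg

namespace Groth.Agent.S16030

/-- For a finite set F of points of the spectrum of a commutative ring A and an open subset U containing
F, some basic open D(a) contains F and is contained in U. -/
theorem result
    (A : Type u) [CommRing A] (F : Set (PrimeSpectrum A)) (hF : F.Finite)
    (U : TopologicalSpace.Opens (PrimeSpectrum A)) (hFU : F ⊆ (U : Set (PrimeSpectrum A))) :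
    ∃ a : A, F ⊆ (PrimeSpectrum.basicOpen a : Set (PrimeSpectrum A)) ∧ PrimeSpectrum.basicOpen a ≤ U := by
  classical
  obtain ⟨I, hI⟩ := (PrimeSpectrum.isClosed_iff_zeroLocus_ideal _).mp U.2.isClosed_compl
  have hnot : ∀ q ∈ hF.toFinset, ¬ I ≤ q.asIdeal := fun q hq hle => by
    have : q ∈ (U : Set (PrimeSpectrum A))ᶜ := hI ▸ hle
    exact this (hFU (hF.mem_toFinset.mp hq))
  rcases F.eq_empty_or_nonempty with rfl | ⟨q₀, -⟩
  · exact ⟨0, Set.empty_subset _, by simp⟩
  obtain ⟨a, haI, ha⟩ : ∃ a ∈ I, ∀ q ∈ hF.toFinset, a ∉ q.asIdeal := by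
    by_contra! h
    have hsub : (I : Set A) ⊆ ⋃ q ∈ (hF.toFinset : Set (PrimeSpectrum A)), (q.asIdeal : Set A) :=
      fun x hx => by
        obtain ⟨q, hq, hxq⟩ := h x hx
        exact Set.mem_biUnion hq hxq
    obtain ⟨q, hq, hle⟩ := (Ideal.subset_union_prime (f := fun q : PrimeSpectrum A => q.asIdeal)
      q₀ q₀ fun q _ _ _ => q.2).mp hsub
    exact hnot q hq hle
  refine ⟨a, fun q hq => ha q (hF.mem_toFinset.mpr hq), fun q hq => ?_⟩
  by_contra hqU
  have hq' : q ∈ U.carrierᶜ := hqU
  rw [hI] at hq'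
  exact hq (hq' haI)

end Groth.Agent.S16030
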