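import Groth.Statements.S16031
import Groth.Agent.Lib.Ferrand.Chart
import Groth.Agent.Lib.Ferrand.Finite

set_option autoImplicit false
universe u
open CategoryTheory CategoryTheory.Limits AlgebraicGeometry
open FlatMor

namespace Groth.Agent.S16031

/-- Let θ₁ : Y ⟶ X₁ and θ₂ : Y ⟶ X₂ be closed immersions of schemes and let X, with φ₁ : X₁ ⟶ X and φ₂ :
X₂ ⟶ X, be their pushout in the category of schemes. If a finite set E of points of X has each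
preimage φᵢ⁻¹(E) contained in an affine open of Xᵢ, then E is contained in an affine open of X. -/
theorem result
    {Y X₁ X₂ X : Scheme.{u}} (θ₁ : Y ⟶ X₁) (θ₂ : Y ⟶ X₂) [IsClosedImmersion θ₁] [IsClosedImmersion θ₂]
    (φ₁ : X₁ ⟶ X) (φ₂ : X₂ ⟶ X) (hX : IsPushout θ₁ θ₂ φ₁ φ₂)
    (E : Set ↥X) (hE : E.Finite)
    (h₁ : ∃ U₁ : X₁.Opens, IsAffineOpen U₁ ∧ φ₁ ⁻¹' E ⊆ (U₁ : Set ↥X₁))
    (h₂ : ∃ U₂ : X₂.Opens, IsAffineOpen U₂ ∧ φ₂ ⁻¹' E ⊆ (U₂ : Set ↥X₂)) :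
    ∃ U : X.Opens, IsAffineOpen U ∧ E ⊆ (U : Set ↥X) := by
  classical
  obtain ⟨U₁, hU₁, hE₁⟩ := h₁
  obtain ⟨U₂, hU₂, hE₂⟩ := h₂
  have hcov := Lib.Ferrand.cover_of_isClosedImmersion θ₁ θ₂
  have hg := Lib.Ferrand.GluedBy.of_isPushout hcov hX
  -- finiteness of the preimages
  have hpt : ∀ y, φ₁ (θ₁ y) = φ₂ (θ₂ y) := fun y => by
    rw [← Scheme.Hom.comp_apply, hX.w, Scheme.Hom.comp_apply]
  have hinj₁ : Function.Injective φ₁ := by
    have := (Lib.Ferrand.GluedBy.of_isPushout (Lib.Ferrand.cover_of_isClosedImmersion θ₂ θ₁)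
      hX.flip).isClosedImmersion_right
    exact φ₁.isClosedEmbedding.injective
  have hinj₂ : Function.Injective φ₂ := by
    have := hg.isClosedImmersion_right
    exact φ₂.isClosedEmbedding.injective
  have hF₁ : (φ₁ ⁻¹' E).Finite := hE.preimage hinj₁.injOn
  have hF₂ : (φ₂ ⁻¹' E).Finite := hE.preimage hinj₂.injOn
  -- shrink `U₁`
  let C : Y.Opens := θ₁ ⁻¹ᵁ U₁ ⊓ θ₂ ⁻¹ᵁ U₂
  obtain ⟨f, hfC, hEf⟩ := Lib.Ferrand.exists_basicOpen_finite_le hU₁ hF₁ hE₁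
    ⟨_, (θ₁.isClosedMap _ C.2.isClosed_compl).isOpen_compl⟩ (by
      rintro _ hx ⟨y, hy, rfl⟩
      exact hy ⟨hE₁ hx, hE₂ (show φ₂ (θ₂ y) ∈ E by rw [← hpt]; exact hx)⟩)
  have hU₁' := hU₁.basicOpen f
  have hC : θ₁ ⁻¹ᵁ X₁.basicOpen f ≤ θ₂ ⁻¹ᵁ U₂ := fun y hy => by
    by_contra hn
    exact hfC hy ⟨y, fun h => hn h.2, rfl⟩
  -- shrink `U₂`
  obtain ⟨h, hhC, hEh⟩ := Lib.Ferrand.exists_basicOpen_finite_le hU₂ hF₂ hE₂
    ⟨_, (θ₂.isClosedMap _ (θ₁ ⁻¹ᵁ X₁.basicOpen f).2.isClosed_compl).isOpen_compl⟩ (by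
      rintro _ hx ⟨y, hy, rfl⟩
      exact hy (hEf (show φ₁ (θ₁ y) ∈ E by rw [hpt]; exact hx)))
  have hle : θ₂ ⁻¹ᵁ X₂.basicOpen h ≤ θ₁ ⁻¹ᵁ X₁.basicOpen f := fun y hy => by
    by_contra hn
    exact hhC hy ⟨y, hn, rfl⟩
  -- lift `h` to the basic open of `f`
  obtain ⟨f₀, hf₀⟩ := θ₁.app_surjective _ hU₁' (θ₂.appLE U₂ _ hC h)
  let p := (θ₁.app (X₁.basicOpen f)).hom
  have hbas : ∀ i ∈ RingHom.ker p,
      θ₁ ⁻¹ᵁ X₁.basicOpen (f₀ + i) = θ₂ ⁻¹ᵁ X₂.basicOpen h := fun i hi => by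
    rw [Scheme.preimage_basicOpen, map_add, RingHom.mem_ker.mp hi, add_zero, hf₀,
      Scheme.basicOpen_appLE]
    exact inf_eq_right.mpr hle
  have : Fintype (φ₁ ⁻¹' E) := hF₁.fintype
  let q : φ₁ ⁻¹' E → PrimeSpectrum Γ(X₁, X₁.basicOpen f) :=
    fun x => hU₁'.primeIdealOf ⟨x.1, hEf x.2⟩
  obtain ⟨i, hi, hif⟩ := Lib.Ferrand.exists_add_mem_forall_notMem
    (Finset.univ.image fun x => (q x).asIdeal) (fun P hP => by
      obtain ⟨x, -, rfl⟩ := Finset.mem_image.mp hP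
      exact (q x).2) (RingHom.ker p) f₀ (fun P hP hf₀P hle' => by
      obtain ⟨x, -, rfl⟩ := Finset.mem_image.mp hP
      -- such a point comes from `Y`
      obtain ⟨y, hy⟩ : x.1 ∈ Set.range θ₁ := by
        have hW := hU₁'.preimage θ₁
        have hps : Function.Surjective p := θ₁.app_surjective _ hU₁'
        have := Ideal.map_isPrime_of_surjective hps hle'
        let P : PrimeSpectrum Γ(Y, θ₁ ⁻¹ᵁ X₁.basicOpen f) := ⟨(q x).asIdeal.map p, this⟩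
        have hz : hW.fromSpec P ∈ θ₁ ⁻¹ᵁ X₁.basicOpen f := hW.range_fromSpec.le ⟨P, rfl⟩
        have hzP : hW.primeIdealOf ⟨_, hz⟩ = P :=
          hW.fromSpec.isOpenEmbedding.injective (hW.fromSpec_primeIdealOf ⟨_, hz⟩)
        have h₁ : PrimeSpectrum.comap p P = hU₁'.primeIdealOf ⟨θ₁ (hW.fromSpec P), hz⟩ := by
          have := IsAffineOpen.comap_primeIdealOf_appLE (f := θ₁) _ hU₁' _ hW le_rfl hz
          rw [Scheme.Hom.appLE_eq_app, hzP] at this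
          exact this
        have h₂ : PrimeSpectrum.comap p P = q x := by
          ext1
          rw [PrimeSpectrum.comap_asIdeal, Ideal.comap_map_of_surjective p hps]
          exact sup_eq_left.mpr (by rwa [← RingHom.ker_eq_comap_bot])
        exact ⟨hW.fromSpec P, by
          have := congrArg (fun w => hU₁'.fromSpec w) (h₁.symm.trans h₂)
          simpa only [q, IsAffineOpen.fromSpec_primeIdealOf] using this⟩
      refine (Lib.Ferrand.mem_basicOpen_iff hU₁' f₀ ⟨x.1, hEf x.2⟩).mp ?_ hf₀P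
      rw [← hy]
      have := (SetLike.ext_iff.mp (hbas 0 (Ideal.zero_mem _)) y).mpr
        (hEh (show φ₂ (θ₂ y) ∈ E by rw [← hpt, hy]; exact x.2))
      rw [add_zero] at this
      exact this)
  obtain ⟨O, hO, hO₁, hO₂⟩ := Lib.Ferrand.exists_affineOpen_of_pair hcov hX
    ⟨_, _, hU₁'.basicOpen (f₀ + i), hU₂.basicOpen h, hbas i hi⟩
  refine ⟨O, hO, fun e he => ?_⟩
  rcases hg.surj e with ⟨x, rfl⟩ | ⟨x, rfl⟩
  · have hm : (q ⟨x, he⟩).asIdeal ∈ Finset.univ.image fun x => (q x).asIdeal :=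
      Finset.mem_image.mpr ⟨⟨x, he⟩, Finset.mem_univ _, rfl⟩
    exact hO₁.ge ((Lib.Ferrand.mem_basicOpen_iff hU₁' _ ⟨x, hEf he⟩).mpr (hif _ hm))
  · exact hO₂.ge (hEh he)

end Groth.Agent.S16031
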