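import Groth.Statements.S4094
import Groth.Agent.Lib.GrpQ.FfMonoGrp

set_option autoImplicit false
universe u
open CategoryTheory MonoidalCategory CartesianMonoidalCategory MonObj GrpObj AlgebraicGeometry CategoryTheory.Limits
open GrpQ

namespace Groth.Agent.S4094

/-- Let u : G → H be a homomorphism of S-group schemes with G locally of finite presentation and H
locally of finite type over S, whose kernel K is flat over S. Then there are an S-group scheme Q,
locally of finite presentation over S, and homomorphisms p : G → Q, i : Q → H with p ≫ i = u, p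
surjective, flat and locally of finite presentation with kernel K, and i a monomorphism. -/
theorem result (S : Scheme.{u}) (G H : Over S) [GrpObj G] [GrpObj H]
    [LocallyOfFinitePresentation G.hom] [LocallyOfFiniteType H.hom] (u : G ⟶ H) [IsMonHom u]
    (hK : Flat (pullback u η[H]).hom) :
    ∃ (Q : Over S) (_ : GrpObj Q) (p : G ⟶ Q) (i : Q ⟶ H), IsMonHom p ∧ IsMonHom i ∧ p ≫ i = u ∧
      Surjective p.left ∧ Flat p.left ∧ LocallyOfFinitePresentation p.left ∧ Mono i ∧
      LocallyOfFinitePresentation Q.hom ∧ AlgGrp.IsKernel (pullback.fst u η[H]) p := by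
  have hp : AlgGrp.IsKernel (pullback.fst u η[H]) u := by
    show IsPullback _ (toUnit _) u η[H]
    rw [← toUnit_unique (pullback.snd u η[H]) (toUnit _)]
    exact IsPullback.of_hasPullback _ _
  obtain ⟨Q, gQ, p, i, h1, h2, h3, h4, h5, h6, h7, h8, -, h9⟩ :=
    Lib.GrpQ.FfMono.exists_quot_kernel u _ hp hK (Or.inl ‹_›)
  exact ⟨Q, gQ, p, i, h1, h2, h3, h4, h5, h6, h7, h8, h9⟩

end Groth.Agent.S4094
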