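import Groth.Statements.S16037
import Groth.Agent.Lib.GrpQ.Image
import Groth.Agent.S4094
import Groth.Agent.Lib.GrpQ.MonoClosed


set_option autoImplicit false
set_option maxHeartbeats 1000000
set_option linter.all false
universe u
open CategoryTheory CategoryTheory.Limits AlgebraicGeometry MonoidalCategory MonObj
open GrpSch
open CartesianMonoidalCategory Groth.Agent.Lib Groth.Agent.Lib.GrpQ

namespace Groth.Agent.S16037

/-- A schematically dominant homomorphism of algebraic groups over a field is faithfully flat. -/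
theorem flat_surjective_of_std {k : Type u} [Field k] {G C : Over (Spec (CommRingCat.of k))} [GrpObj G] [GrpObj C]
    [LocallyOfFiniteType G.hom] [QuasiCompact G.hom] [LocallyOfFiniteType C.hom] (p : G ⟶ C) [IsMonHom p]
    [IsSchemeTheoreticallyDominant p.left] : Flat p.left ∧ Surjective p.left := by
  haveI : IsLocallyNoetherian G.left := LocallyOfFiniteType.isLocallyNoetherian G.hom
  haveI : LocallyOfFinitePresentation G.hom := inferInstance
  obtain ⟨Q, _, q, i, hq, hi, hqi, hs, hf, -, hm, hQ, -⟩ := S4094.result _ G C p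
    (GrpSch.flat_of_isField (Field.toIsField k) _)
  haveI := hQ
  haveI := hm
  haveI := hs
  haveI := hf
  haveI : CompactSpace G.left := QuasiCompact.compactSpace_of_compactSpace G.hom
  haveI : CompactSpace Q.left := ⟨by
    rw [← q.left.surjective.range_eq]; exact isCompact_range q.left.continuous⟩
  haveI : QuasiCompact Q.hom := quasiCompact_of_compactSpace Q.hom
  haveI := quasiCompact_left i
  haveI : QuasiCompact q.left := quasiCompact_left q
  haveI : IsClosedImmersion i.left := MonoClosed.isClosedImmersion_of_mono i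
  haveI : IsIso i.left := IsClosedImmersion.isIso_iff_ker_eq_bot.mpr (by
    have h : (p.left).ker = ⊥ := p.left.ker_eq_bot
    rw [← hqi, Over.comp_left] at h
    exact le_bot_iff.1 (h ▸ Scheme.Hom.le_ker_comp _ _))
  rw [← hqi, Over.comp_left]
  exact ⟨inferInstance, inferInstance⟩

/-- Over a field k, let G be a group scheme of finite type, G' a group scheme which is a cofiltered
limit of group schemes of finite type (limit cone of homomorphisms), and u : G ⟶ G' a quasi-compact
homomorphism which is schematically dominant. Then u is faithfully flat and G' is of finite type. -/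
theorem result
    (k : Type u) [Field k] (G : Over (Spec (CommRingCat.of k))) [GrpObj G]
    [LocallyOfFiniteType G.hom] [QuasiCompact G.hom]
    (J : Type u) [SmallCategory J] [IsCofiltered J] (D : J ⥤ Over (Spec (CommRingCat.of k)))
    [∀ j, GrpObj (D.obj j)] [∀ (j j' : J) (φ : j ⟶ j'), IsMonHom (D.map φ)]
    (hD : ∀ j, LocallyOfFiniteType (D.obj j).hom ∧ QuasiCompact (D.obj j).hom)
    (c : Cone D) (hc : IsLimit c) [GrpObj c.pt] [∀ j, IsMonHom (M := c.pt) (N := D.obj j) (c.π.app j)]
    (u : G ⟶ c.pt) [IsMonHom u] [QuasiCompact u.left] (hdom : u.left.ker = ⊥) :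
    Flat u.left ∧ Surjective u.left ∧ LocallyOfFiniteType c.pt.hom ∧ QuasiCompact c.pt.hom := by
  classical
  haveI : IsLocallyNoetherian G.left := LocallyOfFiniteType.isLocallyNoetherian G.hom
  haveI : CompactSpace G.left := QuasiCompact.compactSpace_of_compactSpace G.hom
  haveI : IsSchemeTheoreticallyDominant u.left := ⟨hdom⟩
  have hdata : ∀ j : J, ∃ (C : Over (Spec (CommRingCat.of k))) (_ : GrpObj C) (p : G ⟶ C) (i : C ⟶ D.obj j)
      (_ : IsMonHom p) (_ : IsMonHom i) (N : Over (Spec (CommRingCat.of k))) (n : N ⟶ G),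
      p ≫ i = u ≫ c.π.app j ∧ IsSchemeTheoreticallyDominant p.left ∧ IsClosedImmersion i.left ∧ IsCover p ∧
      LocallyOfFiniteType C.hom ∧ QuasiCompact C.hom ∧ IsClosedImmersion n.left ∧ AlgGrp.IsKernel n p := by
    intro j
    obtain ⟨C, gC, p, i, hp, hi, hpi, hstd, hcl⟩ := Image.exists_image (u ≫ c.π.app j)
    haveI := (hD j).1
    haveI := (hD j).2
    haveI := hstd
    haveI : LocallyOfFiniteType C.hom := by rw [← Over.w i]; infer_instance
    haveI : QuasiCompact C.hom := by rw [← Over.w i]; infer_instance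
    obtain ⟨h1, h2⟩ := flat_surjective_of_std p
    haveI := GrpSch.isSeparated_of_field C
    obtain ⟨N, _, n, -, hn, hK, -⟩ := exists_kernel p
    exact ⟨C, gC, p, i, hp, hi, N, n, hpi, hstd, hcl, ⟨h1, h2, quasiCompact_left _⟩,
      inferInstance, inferInstance, hn, hK⟩
  choose C gC p i hp hi N n hpi hstd hcl hcov hlft hqc hn hK using hdata
  letI := gC
  obtain ⟨_, ⟨j₀, rfl⟩, hmax⟩ := (H4.IdealAcc.wellFoundedGT G.left).wf.has_min
    (Set.range fun j => (n j).left.ker) ⟨_, ⟨IsCofiltered.nonempty.some, rfl⟩⟩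
  haveI := hp
  haveI := hi
  haveI := hstd
  haveI := hcl
  haveI := hn
  haveI : ∀ j, Mono (i j) := fun j => mono_of_left _
  have hw : ∀ {j : J} (φ : j ⟶ j₀), ∃ w : C j ⟶ C j₀, IsIso w ∧ p j ≫ w = p j₀ := by
    intro j φ
    have hu' : (p j ≫ i j ≫ D.map φ) = p j₀ ≫ i j₀ := by
      rw [hpi j₀, ← Category.assoc, hpi j, Category.assoc, c.w]
    have hle : (i j₀).left.ker ≤ (i j ≫ D.map φ).left.ker := by
      rw [← Image.ker_comp_eq (p j).left (i j ≫ D.map φ).left, ← Over.comp_left, hu', Over.comp_left]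
      exact Scheme.Hom.le_ker_comp _ _
    let w : C j ⟶ C j₀ := Over.homMk (IsClosedImmersion.lift (i j₀).left (i j ≫ D.map φ).left hle) (by
      rw [← Over.w (i j₀), IsClosedImmersion.lift_fac_assoc, Over.w])
    have hwi : w ≫ i j₀ = i j ≫ D.map φ := Over.OverMorphism.ext (IsClosedImmersion.lift_fac _ _ _)
    have hpw : p j ≫ w = p j₀ := by
      rw [← cancel_mono (i j₀), Category.assoc, hwi, hu']
    haveI : IsMonHom w := DomFlat.isMonHom_of_comp_mono w (i j₀) (by rw [hwi]; infer_instance)
    have := kernel_mono (hK j₀)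
    obtain ⟨m, hm⟩ := (mem_kernel (hK j₀) (n j)).2 (by
      rw [← hpw, ← Category.assoc, kernel_comp (hK j), MonObj.one_comp])
    have hker : (n j₀).left.ker ≤ (n j).left.ker := by
      rw [← hm, Over.comp_left]; exact Scheme.Hom.le_ker_comp _ _
    have heq : (n j).left.ker = (n j₀).left.ker := by
      by_contra hne
      exact hmax _ ⟨j, rfl⟩ (lt_of_le_of_ne hker (Ne.symm hne))
    have hmem : ∀ {T : Over (Spec (CommRingCat.of k))} (y : T ⟶ G), y ≫ p j₀ = 1 → y ≫ p j = 1 := by
      intro T y hy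
      obtain ⟨z, rfl⟩ := (mem_kernel (hK j₀) y).2 hy
      refine (mem_kernel (hK j) _).1 ⟨Over.homMk (IsClosedImmersion.lift (n j).left (z ≫ n j₀).left ?_) ?_,
        Over.OverMorphism.ext (IsClosedImmersion.lift_fac _ _ _)⟩
      · rw [heq, Over.comp_left]; exact Scheme.Hom.le_ker_comp _ _
      · rw [← Over.w (n j), IsClosedImmersion.lift_fac_assoc, Over.w]
    haveI hmono : Mono w := ⟨fun {T} y y' hyy => by
      obtain ⟨T₁, p₁, x₁, hp₁, hx₁⟩ := exists_lift (hcov j) y
      obtain ⟨T₂, p₂, x₂, hp₂, hx₂⟩ := exists_lift (hcov j) (p₁ ≫ y')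
      refine cancel_cover (hp₂.comp hp₁) ?_
      have e₁ : (p₂ ≫ p₁) ≫ y = (p₂ ≫ x₁) ≫ p j := by simp only [Category.assoc, hx₁]
      have e₂ : (p₂ ≫ p₁) ≫ y' = x₂ ≫ p j := by simp only [Category.assoc, hx₂]
      have h0 : (p₂ ≫ x₁) ≫ p j₀ = x₂ ≫ p j₀ := by
        simp only [← hpw, ← Category.assoc] at e₁ e₂ ⊢
        rw [← e₁, ← e₂, Category.assoc _ y, Category.assoc _ y', hyy]
      have h1 := hmem ((p₂ ≫ x₁)⁻¹ * x₂) (by rw [MonObj.mul_comp, GrpObj.inv_comp, h0, inv_mul_cancel])
      rw [MonObj.mul_comp, GrpObj.inv_comp, inv_mul_eq_one] at h1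
      rw [e₁, e₂, h1]⟩
    have hwcov : IsCover w := by
      obtain ⟨h1, h2, h3⟩ := hcov j₀
      obtain ⟨h1', h2', h3'⟩ := hcov j
      have e : (p j).left ≫ w.left = (p j₀).left := by rw [← Over.comp_left, hpw]
      have : Flat ((p j).left ≫ w.left) := by rw [e]; exact h1
      have : Surjective ((p j).left ≫ w.left) := by rw [e]; exact h2
      haveI := hqc j
      exact ⟨Flat55.FlatDescend.flat_of_comp (p j).left w.left, Surjective.of_comp (p j).left w.left,
        quasiCompact_left _⟩
    exact ⟨w, isIso_of_mono w hwcov, hpw⟩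
  have hs : ∀ j : J, ∃ s : C j₀ ⟶ D.obj j, p j₀ ≫ s = u ≫ c.π.app j := by
    intro j
    obtain ⟨w, hwi, hpw⟩ := hw (IsCofiltered.minToRight j j₀)
    refine ⟨inv w ≫ i _ ≫ D.map (IsCofiltered.minToLeft j j₀), ?_⟩
    rw [← hpw, Category.assoc, IsIso.hom_inv_id_assoc, ← Category.assoc, hpi, Category.assoc, c.w]
  choose s hs using hs
  let K : Cone D :=
    { pt := C j₀
      π :=
        { app := s
          naturality := fun a b φ => cancel_cover (hcov j₀) (by
            simp only [Functor.const_obj_obj, Functor.const_obj_map, Category.id_comp]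
            rw [hs, ← Category.assoc, hs, Category.assoc, c.w]) } }
  let t : C j₀ ⟶ c.pt := hc.lift K
  have ht : ∀ j, t ≫ c.π.app j = s j := fun j => hc.fac K j
  have hut : p j₀ ≫ t = u := hc.hom_ext fun j => by rw [Category.assoc, ht, hs]
  have hst : s j₀ = i j₀ := cancel_cover (hcov j₀) (by rw [hs, hpi])
  haveI : IsSeparated c.pt.hom := GrpSch.isSeparated_of_field c.pt
  haveI : IsSeparated ((c.π.app j₀).left ≫ (D.obj j₀).hom) := by
    rw [Over.w]; exact GrpSch.isSeparated_of_field c.pt
  haveI : IsSeparated (c.π.app j₀).left := IsSeparated.of_comp _ (D.obj j₀).hom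
  haveI : IsClosedImmersion (t.left ≫ (c.π.app j₀).left) := by
    rw [← Over.comp_left, ht, hst]; infer_instance
  haveI : IsClosedImmersion t.left := IsClosedImmersion.of_comp t.left (c.π.app j₀).left
  haveI : IsIso t.left := IsClosedImmersion.isIso_iff_ker_eq_bot.mpr (by
    rw [← Image.ker_comp_eq (p j₀).left t.left, ← Over.comp_left, hut, hdom])
  obtain ⟨h1, h2, -⟩ := hcov j₀
  haveI := h1
  haveI := h2
  haveI := hlft j₀
  haveI := hqc j₀
  have hpt : c.pt.hom = CategoryTheory.inv t.left ≫ (C j₀).hom := by rw [IsIso.eq_inv_comp, Over.w]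
  refine ⟨?_, ?_, ?_, ?_⟩
  · rw [← hut, Over.comp_left]; infer_instance
  · rw [← hut, Over.comp_left]; infer_instance
  · rw [hpt]; infer_instance
  · rw [hpt]; infer_instance

end Groth.Agent.S16037
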