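import Groth.Statements.S16044
import Mathlib

set_option autoImplicit false
universe u
open CategoryTheory CategoryTheory.Limits AlgebraicGeometry
open GrpSch

open scoped TensorProduct

namespace Groth.Agent.S16044

theorem tensor_injective {A R B : Type u} [CommRing A] [IsDomain A] [IsDiscreteValuationRing A] [CommRing R] [CommRing B]
    [Algebra A R] [Algebra A B] (ψ : R →ₐ[A] B) (hinj : Function.Injective ψ)
    (hsat : ∀ (a : A) (x : R) (b : B), a ≠ 0 → ψ x = a • b → ∃ y, x = a • y) (hB : Module.IsTorsionFree A B)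
    (κ : Type u) [CommRing κ] [Algebra A κ] :
    Function.Injective (Algebra.TensorProduct.map ψ (AlgHom.id A κ)) := by
  let N := LinearMap.range ψ.toLinearMap
  have : Module.IsTorsionFree A (B ⧸ N) := by
    rw [Submodule.isTorsionFree_iff_torsion_eq_bot, Submodule.eq_bot_iff]
    rintro q ⟨⟨a, ha⟩, hq⟩
    obtain ⟨b, rfl⟩ := N.mkQ_surjective q
    have ha0 : a ≠ 0 := nonZeroDivisors.ne_zero ha
    have hab : a • b ∈ N := (Submodule.Quotient.mk_eq_zero N).1 (by simpa [Submonoid.smul_def] using hq)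
    obtain ⟨x, hx⟩ := hab
    obtain ⟨y, rfl⟩ := hsat a x b ha0 hx
    have : a • ψ y = a • b := by simpa using hx
    exact (Submodule.Quotient.mk_eq_zero N).2 ⟨y, smul_right_injective B ha0 this⟩
  have h := LinearMap.lTensor_injective_of_exact_of_flat N.mkQ N.mkQ_surjective ψ.toLinearMap hinj
    (by rw [LinearMap.exact_iff, Submodule.ker_mkQ]) κ
  have e : ⇑(Algebra.TensorProduct.map ψ (AlgHom.id A κ)) = ⇑(LinearMap.rTensor κ ψ.toLinearMap) := by
    funext z
    induction z using TensorProduct.induction_on with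
    | zero => simp
    | tmul x y => simp
    | add x y hx hy => simp [hx, hy]
  rw [e]
  exact (LinearMap.lTensor_inj_iff_rTensor_inj _ _).1 h

theorem map_appTop_injective {A R B : Type u} [CommRing A] [CommRing R] [CommRing B]
    [Algebra A R] [Algebra A B] (ψ : R →ₐ[A] B) (κ : Type u) [CommRing κ] [Algebra A κ]
    (hinj : Function.Injective (Algebra.TensorProduct.map ψ (AlgHom.id A κ)))
    (w₁ : Spec.map (CommRingCat.ofHom (algebraMap A B)) ≫ 𝟙 _ =
      Spec.map (CommRingCat.ofHom ψ.toRingHom) ≫ Spec.map (CommRingCat.ofHom (algebraMap A R)))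
    (w₂ : Spec.map (CommRingCat.ofHom (algebraMap A κ)) ≫ 𝟙 _ =
      𝟙 _ ≫ Spec.map (CommRingCat.ofHom (algebraMap A κ))) :
    Function.Injective (pullback.map (Spec.map (CommRingCat.ofHom (algebraMap A B)))
      (Spec.map (CommRingCat.ofHom (algebraMap A κ))) (Spec.map (CommRingCat.ofHom (algebraMap A R)))
      (Spec.map (CommRingCat.ofHom (algebraMap A κ))) (Spec.map (CommRingCat.ofHom ψ.toRingHom)) (𝟙 _) (𝟙 _)
      w₁ w₂).appTop.hom := by
  set m := pullback.map (Spec.map (CommRingCat.ofHom (algebraMap A B)))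
      (Spec.map (CommRingCat.ofHom (algebraMap A κ))) (Spec.map (CommRingCat.ofHom (algebraMap A R)))
      (Spec.map (CommRingCat.ofHom (algebraMap A κ))) (Spec.map (CommRingCat.ofHom ψ.toRingHom)) (𝟙 _) (𝟙 _) w₁ w₂
  let T := CommRingCat.ofHom (Algebra.TensorProduct.map ψ (AlgHom.id A κ)).toRingHom
  have e : m = (pullbackSpecIso A B κ).hom ≫ Spec.map T ≫ (pullbackSpecIso A R κ).inv := by
    rw [← Iso.inv_comp_eq]
    refine pullback.hom_ext ?_ ?_
    · simp only [m, Category.assoc, pullback.lift_fst, pullbackSpecIso_inv_fst', pullbackSpecIso_inv_fst'_assoc,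
        ← Spec.map_comp, T]
      congr 1
    · simp only [m, Category.assoc, pullback.lift_snd, Category.comp_id, pullbackSpecIso_inv_snd, ← Spec.map_comp, T]
      congr 1
      ext x
      simp
  have hb : ∀ {Y Z : Scheme.{u}} (e : Y ⟶ Z) [IsIso e], Function.Bijective e.appTop.hom := fun e _ =>
    (ConcreteCategory.isIso_iff_bijective e.appTop).1 (inferInstanceAs (IsIso (Scheme.Γ.map e.op)))
  have hT : Function.Injective (Spec.map T).appTop.hom := by
    have nat := Scheme.ΓSpecIso_naturality T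
    intro x y hxy
    apply ((ConcreteCategory.isIso_iff_bijective (Scheme.ΓSpecIso _).hom).1 inferInstance).1
    apply hinj
    have hx := congrArg (fun F : Γ(Spec _, ⊤) ⟶ _ => F x) nat
    have hy := congrArg (fun F : Γ(Spec _, ⊤) ⟶ _ => F y) nat
    exact hx.symm.trans ((congrArg (Scheme.ΓSpecIso _).hom hxy).trans hy)
  rw [e]
  simp only [Scheme.Hom.comp_appTop]
  exact (hb (pullbackSpecIso A B κ).hom).1.comp (hT.comp (hb (pullbackSpecIso A R κ).inv).1)

theorem exists_affine_cover (X : Scheme.{u}) [CompactSpace X] :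
    ∃ (J : Type u) (_ : Finite J) (V : J → X.Opens), (∀ j, IsAffineOpen (V j)) ∧ ⨆ j, V j = ⊤ := by
  classical
  obtain ⟨t, ht⟩ := isCompact_univ.elim_finite_subcover (fun V : X.affineOpens => ((V : X.Opens) : Set X))
    (fun V => V.1.2) (fun x _ => by
      obtain ⟨V, hV, hx, -⟩ := exists_isAffineOpen_mem_and_subset (show x ∈ (⊤ : X.Opens) from trivial)
      exact Set.mem_iUnion.2 ⟨⟨V, hV⟩, hx⟩)
  refine ⟨t, inferInstance, fun j => j.1.1, fun j => j.1.2, TopologicalSpace.Opens.ext (Set.eq_univ_of_forall fun x => ?_)⟩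
  obtain ⟨V, hV, hxV⟩ := Set.mem_iUnion₂.1 (ht (Set.mem_univ x))
  exact TopologicalSpace.Opens.mem_iSup.2 ⟨⟨V, hV⟩, hxV⟩

/-- Let S be the spectrum of a discrete valuation ring and X a quasi-compact quasi-separated flat
S-scheme, with canonical morphism c : X ⟶ Spec Γ(X, O_X) over S. Then on each fibre over a point of
S the base change of c is schematically dominant (its kernel ideal sheaf vanishes). -/
theorem result
    (A : Type u) [CommRing A] [IsDomain A] [IsDiscreteValuationRing A]
    (X : Scheme.{u}) (f : X ⟶ Spec (CommRingCat.of A)) [Flat f] [QuasiCompact f] [QuasiSeparated f]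
    (g : Spec Γ(X, ⊤) ⟶ Spec (CommRingCat.of A)) (hg : X.toSpecΓ ≫ g = f) (s : ↥(Spec (CommRingCat.of A))) :
    (pullback.map f ((Spec (CommRingCat.of A)).fromSpecResidueField s) g ((Spec (CommRingCat.of A)).fromSpecResidueField s)
        X.toSpecΓ (𝟙 _) (𝟙 _) ((Category.comp_id f).trans hg.symm)
        ((Category.comp_id _).trans (Category.id_comp _).symm)).ker = ⊥ := by
  classical
  have : CompactSpace X := QuasiCompact.compactSpace_of_compactSpace f
  obtain ⟨J, hJ, V, hV, hcov⟩ := exists_affine_cover X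
  have : ∀ j, IsAffine (V j : Scheme.{u}) := hV
  let U : Scheme.{u} := ∐ fun j => (V j : Scheme.{u})
  let h : U ⟶ X := Sigma.desc fun j => (V j).ι
  let φ : CommRingCat.of A ⟶ Γ(X, ⊤) := Spec.preimage g
  have hφ : Spec.map φ = g := Spec.map_preimage g
  let ρ := Spec.preimage ((Spec (CommRingCat.of A)).fromSpecResidueField s)
  have hρ : Spec.map ρ = (Spec (CommRingCat.of A)).fromSpecResidueField s := Spec.map_preimage _
  let ψ : Γ(X, ⊤) ⟶ Γ(U, ⊤) := h.appTop
  letI : Algebra A Γ(X, ⊤) := φ.hom.toAlgebra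
  letI : Algebra A Γ(U, ⊤) := (φ ≫ ψ).hom.toAlgebra
  letI : Algebra A ((Spec (CommRingCat.of A)).residueField s) := ρ.hom.toAlgebra
  let Ψ : Γ(X, ⊤) →ₐ[A] Γ(U, ⊤) := { ψ.hom with commutes' := fun _ => rfl }
  have hfU : h ≫ f = U.isoSpec.hom ≫ Spec.map (φ ≫ ψ) := by
    rw [← hg, ← hφ, Spec.map_comp, ← Category.assoc, Scheme.toSpecΓ_naturality, Category.assoc]
    rfl
  -- flatness gives torsion-freeness of sections
  have tf : ∀ (W : X.Opens) (a : A), a ≠ 0 → ∀ z : Γ(X, W),
      X.presheaf.map (homOfLE (le_top : W ≤ ⊤)).op (φ a) * z = 0 → z = 0 := by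
    intro W a ha z hz
    refine TopCat.Presheaf.section_ext X.sheaf W z 0 fun x hx => ?_
    obtain ⟨W', hW', hxW', hle₀⟩ := exists_isAffineOpen_mem_and_subset (show x ∈ W from hx)
    have hle : W' ≤ W := hle₀
    have hfl : (f.appLE ⊤ W' le_top).hom.Flat := f.flat_appLE (isAffineOpen_top _) hW' le_top
    have e : (Scheme.ΓSpecIso (CommRingCat.of A)).inv ≫ f.appLE ⊤ W' le_top = φ ≫ X.presheaf.map (homOfLE le_top).op := by
      rw [Scheme.Hom.appLE, ← Category.assoc]
      congr 1
      show _ ≫ f.appTop = φ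
      rw [← hg, Scheme.Hom.comp_appTop, ← hφ, ← Scheme.ΓSpecIso_inv_naturality_assoc, Scheme.toSpecΓ_appTop,
        Iso.inv_hom_id, Category.comp_id]
    have hfl' : ((φ ≫ X.presheaf.map (homOfLE (le_top : W' ≤ ⊤)).op).hom).Flat := by
      rw [← e]
      exact (RingHom.Flat.of_bijective (Scheme.ΓSpecIso (CommRingCat.of A)).commRingCatIsoToRingEquiv.symm.bijective).comp hfl
    let _ : Algebra A Γ(X, W') := (φ ≫ X.presheaf.map (homOfLE (le_top : W' ≤ ⊤)).op).hom.toAlgebra
    have : Module.Flat A Γ(X, W') := hfl'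
    have hz' : a • X.presheaf.map (homOfLE hle).op z = 0 := by
      show X.presheaf.map _ (φ a) * _ = 0
      have := congrArg (X.presheaf.map (homOfLE hle).op) hz
      rw [map_mul, map_zero, ← ConcreteCategory.comp_apply, ← Functor.map_comp] at this
      exact this
    have h0 := (smul_eq_zero.1 hz').resolve_left ha
    have := congrArg (X.presheaf.germ W' x hxW') h0
    rw [map_zero, TopCat.Presheaf.germ_res_apply] at this
    exact this.trans (map_zero _).symm
  have hi : ∀ j, Sigma.ι (fun j => (V j : Scheme.{u})) j ≫ h = (V j).ι := fun j => Sigma.ι_desc _ _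
  have hres : ∀ (x : Γ(X, ⊤)) j, X.presheaf.map (homOfLE (le_top : V j ≤ ⊤)).op x =
      ((Sigma.ι (fun j => (V j : Scheme.{u})) j).appTop ≫ (V j).topIso.hom) (ψ x) := by
    intro x j
    rw [← ConcreteCategory.comp_apply]
    show _ = (h.appTop ≫ _) x
    rw [← Category.assoc, ← Scheme.Hom.comp_appTop, hi, Scheme.Opens.ι_appTop]
    simp only [Scheme.Opens.topIso_hom, eqToHom_op]
    erw [← Functor.map_comp]
    rfl
  have hcov' : ∀ (x y : Γ(X, ⊤)), (∀ j, X.presheaf.map (homOfLE (le_top : V j ≤ ⊤)).op x =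
      X.presheaf.map (homOfLE (le_top : V j ≤ ⊤)).op y) → x = y := fun x y hxy =>
    TopCat.Sheaf.eq_of_locally_eq' X.sheaf V ⊤ (fun j => homOfLE le_top) (by rw [hcov]) x y hxy
  have hinj : Function.Injective ψ.hom := fun x y hxy => hcov' x y fun j => by
    rw [hres, hres]; exact congrArg _ hxy
  have hsat : ∀ (a : A) (x : Γ(X, ⊤)) (b : Γ(U, ⊤)), a ≠ 0 → Ψ x = a • b → ∃ y, x = a • y := by
    intro a x b ha hx
    let bj : ∀ j, Γ(X, V j) := fun j => ((Sigma.ι (fun j => (V j : Scheme.{u})) j).appTop ≫ (V j).topIso.hom) b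
    have hxj : ∀ j, X.presheaf.map (homOfLE (le_top : V j ≤ ⊤)).op x =
        X.presheaf.map (homOfLE (le_top : V j ≤ ⊤)).op (φ a) * bj j := fun j => by
      rw [hres x j, hres (φ a) j]
      show _ = _ * ((Sigma.ι (fun j => (V j : Scheme.{u})) j).appTop ≫ (V j).topIso.hom) b
      rw [← map_mul]
      exact congrArg _ hx
    obtain ⟨(y : Γ(X, ⊤)), hy, -⟩ := TopCat.Sheaf.existsUnique_gluing' X.sheaf V ⊤ (fun j => homOfLE le_top)
      (by rw [hcov]) bj (fun i j => by
        refine sub_eq_zero.1 (tf _ a ha _ ?_)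
        have hi := congrArg (X.presheaf.map (homOfLE (inf_le_left : V i ⊓ V j ≤ V i)).op) (hxj i)
        have hj := congrArg (X.presheaf.map (homOfLE (inf_le_right : V i ⊓ V j ≤ V j)).op) (hxj j)
        have rr : ∀ {O₁ O₂ : X.Opens} (le : O₁ ≤ O₂) (w : Γ(X, ⊤)),
            X.presheaf.map (homOfLE le).op (X.presheaf.map (homOfLE (le_top : O₂ ≤ ⊤)).op w) =
              X.presheaf.map (homOfLE (le_top : O₁ ≤ ⊤)).op w := fun le w => by
          rw [← ConcreteCategory.comp_apply, ← Functor.map_comp]; rfl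
        rw [map_mul, rr, rr] at hi hj
        rw [show (TopologicalSpace.Opens.infLELeft (V i) (V j)) = homOfLE inf_le_left from rfl,
          show (TopologicalSpace.Opens.infLERight (V i) (V j)) = homOfLE inf_le_right from rfl]
        refine (mul_sub _ _ _).trans (sub_eq_zero.2 ?_)
        exact ((hi.symm).trans hj :))
    refine ⟨y, hcov' _ _ fun j => ?_⟩
    rw [hxj j]
    show _ = X.presheaf.map _ (φ a * y)
    rw [map_mul]
    exact congrArg _ (hy j).symm
  have hBf : (φ ≫ ψ).hom.Flat := by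
    have : Flat h := inferInstance
    have : Flat (U.isoSpec.hom ≫ Spec.map (φ ≫ ψ)) := hfU ▸ inferInstance
    rwa [MorphismProperty.cancel_left_of_respectsIso @Flat, Flat.SpecMap_iff] at this
  have : Module.Flat A Γ(U, ⊤) := hBf
  have key := tensor_injective Ψ hinj hsat Module.Flat.isTorsionFree ((Spec (CommRingCat.of A)).residueField s)
  -- translation
  let i := (Spec (CommRingCat.of A)).fromSpecResidueField s
  let c := pullback.map f i g i X.toSpecΓ (𝟙 _) (𝟙 _) ((Category.comp_id f).trans hg.symm)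
    ((Category.comp_id _).trans (Category.id_comp _).symm)
  let h' : pullback (h ≫ f) i ⟶ pullback f i := pullback.map _ _ _ _ h (𝟙 _) (𝟙 _) (by simp) (by simp)
  suffices hk : (h' ≫ c).ker = ⊥ from eq_bot_iff.2 (hk ▸ Scheme.Hom.le_ker_comp h' c)
  let α : pullback (h ≫ f) i ⟶ pullback (Spec.map (φ ≫ ψ)) (Spec.map ρ) :=
    pullback.map _ _ _ _ U.isoSpec.hom (𝟙 _) (𝟙 _) (by simpa using hfU) (by simp [hρ, i])
  let β : pullback g i ⟶ pullback (Spec.map φ) (Spec.map ρ) :=
    pullback.map _ _ _ _ (𝟙 _) (𝟙 _) (𝟙 _) (by simp [hφ]) (by simp [hρ, i])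
  let m : pullback (Spec.map (φ ≫ ψ)) (Spec.map ρ) ⟶ pullback (Spec.map φ) (Spec.map ρ) :=
    pullback.map _ _ _ _ (Spec.map ψ) (𝟙 _) (𝟙 _) (by rw [Category.comp_id, Spec.map_comp]) (by simp)
  have hm : Function.Injective m.appTop.hom := map_appTop_injective Ψ _ key _ _
  have hfac : (h' ≫ c) ≫ β = α ≫ m := by
    refine pullback.hom_ext ?_ ?_
    · simp only [h', c, β, α, m, Category.assoc, pullback.lift_fst, pullback.lift_fst_assoc, Category.comp_id]
      rw [Scheme.toSpecΓ_naturality]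
      rfl
    · simp only [h', c, β, α, m, Category.assoc, pullback.lift_snd, Category.comp_id]
  have : IsIso α := pullback.map_isIso _ _ _ _ _ _ _ _ _
  have : IsIso β := pullback.map_isIso _ _ _ _ _ _ _ _ _
  have : IsAffine (pullback g i) := .of_isIso β
  rw [Scheme.ker_of_isAffine]
  suffices hinj' : Function.Injective (h' ≫ c).appTop.hom by
    rw [(RingHom.injective_iff_ker_eq_bot _).1 hinj']; exact le_bot_iff.1 (Scheme.IdealSheafData.le_of_isAffine (by simp))
  have hb : ∀ {Y Z : Scheme.{u}} (e : Y ⟶ Z) [IsIso e], Function.Bijective e.appTop.hom := fun e _ =>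
    (ConcreteCategory.isIso_iff_bijective e.appTop).1 (inferInstanceAs (IsIso (Scheme.Γ.map e.op)))
  have h2 : Function.Injective ((h' ≫ c) ≫ β).appTop.hom := by
    rw [hfac, Scheme.Hom.comp_appTop]
    exact (hb α).1.comp hm
  rw [Scheme.Hom.comp_appTop] at h2
  intro x y hxy
  obtain ⟨x', rfl⟩ := (hb β).2 x
  obtain ⟨y', rfl⟩ := (hb β).2 y
  exact congrArg _ (h2 hxy)

end Groth.Agent.S16044
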