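import Groth.Statements.S16045
import Groth.Agent.Lib.Ferrand.BaseChange
import Mathlib.CategoryTheory.Comma.Over.Pullback

set_option autoImplicit false
universe u
open CategoryTheory CategoryTheory.Limits AlgebraicGeometry
open FlatMor

namespace Groth.Agent.S16045

/-- Let θ₁ : Y ⟶ X₁ and θ₂ : Y ⟶ X₂ be closed immersions of schemes over S and X their pushout in
schemes over S. For a flat morphism g : S' ⟶ S, the square obtained by base change along g is a
pushout in schemes over S': pinching along a closed subscheme commutes with flat base change. -/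
theorem result
    {S S' : Scheme.{u}} (g : S' ⟶ S) [Flat g]
    {Y X₁ X₂ X : Over S} (θ₁ : Y ⟶ X₁) (θ₂ : Y ⟶ X₂) [IsClosedImmersion θ₁.left] [IsClosedImmersion θ₂.left]
    (φ₁ : X₁ ⟶ X) (φ₂ : X₂ ⟶ X) (hX : IsPushout θ₁ θ₂ φ₁ φ₂) :
    IsPushout ((Over.pullback g).map θ₁) ((Over.pullback g).map θ₂)
      ((Over.pullback g).map φ₁) ((Over.pullback g).map φ₂) := by
  have hX' : IsPushout θ₁.left θ₂.left φ₁.left φ₂.left := hX.map (Over.forget S)
  have hg' := Lib.Ferrand.GluedBy.of_isPushout
    (Lib.Ferrand.cover_of_isClosedImmersion θ₁.left θ₂.left) hX'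
  have key : ∀ {A B : Over S} (k : A ⟶ B),
      IsPullback (pullback.fst A.hom g) ((Over.pullback g).map k).left k.left (pullback.fst B.hom g) := by
    intro A B k
    refine IsPullback.of_bot ?_ ?_ (IsPullback.of_hasPullback B.hom g)
    · rw [Over.w k]
      convert IsPullback.of_hasPullback A.hom g using 1
      exact Over.w ((Over.pullback g).map k)
    · exact (pullback.lift_fst _ _ _).symm
  refine IsPushout.of_map (Over.forget S') (by rw [← Functor.map_comp, hX.w, Functor.map_comp]) ?_
  refine hg'.baseChange X.hom g (IsPullback.of_hasPullback X.hom g) (key φ₁) (key φ₂) (key θ₁)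
    (pullback.lift_fst _ _ _) ?_ (.inl inferInstance)
  show ((Over.pullback g).map θ₁ ≫ (Over.pullback g).map φ₁).left =
    ((Over.pullback g).map θ₂ ≫ (Over.pullback g).map φ₂).left
  rw [← Functor.map_comp, ← Functor.map_comp, hX.w]

end Groth.Agent.S16045
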