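import Groth.Statements.S16046
import Mathlib.RingTheory.Localization.Integral
import Mathlib.RingTheory.Valuation.ValuationRing
import Mathlib.FieldTheory.Minpoly.IsIntegrallyClosed
import Mathlib.RingTheory.Flat.Basic
import Mathlib.Algebra.GCDMonoid.IntegrallyClosed
import Mathlib.RingTheory.Bezout

set_option autoImplicit false
universe u
open TensorProduct
open ValRing

namespace Groth.Agent.S16046

open Polynomial

/-- Approximation of fractions. -/
theorem approx {A A' K K' : Type u} [CommRing A] [IsDomain A] [ValuationRing A] [Field K] [Algebra A K]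
    [IsFractionRing A K] [CommRing A'] [IsDomain A'] [ValuationRing A'] [Field K'] [Algebra A' K'] [IsFractionRing A' K']
    [Algebra A A'] [Algebra K K'] [Algebra A K'] [IsScalarTower A A' K'] [IsScalarTower A K K']
    (hdense : ∀ a' b' : A', b' ≠ 0 → ∃ a : A, b' ∣ a' - algebraMap A A' a) (k' : K') :
    ∃ (k : K) (c : A'), k' = algebraMap K K' k + algebraMap A' K' c := by
  obtain ⟨a', b', hb', rfl⟩ := IsFractionRing.div_surjective A' k'
  have hb0 : b' ≠ 0 := nonZeroDivisors.ne_zero hb'
  by_cases hu : IsUnit b'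
  · obtain ⟨v, rfl⟩ := hu
    refine ⟨0, a' * ↑v⁻¹, ?_⟩
    rw [map_zero, zero_add, map_mul, map_units_inv, div_eq_mul_inv]
  obtain ⟨b, c, hbc⟩ := hdense b' (b' * b') (mul_ne_zero hb0 hb0)
  have hv : IsUnit (1 - b' * c) :=
    IsLocalRing.isUnit_one_sub_self_of_mem_nonunits _ (Ideal.mul_mem_right c (IsLocalRing.maximalIdeal A') hu)
  have hb : algebraMap A A' b = b' * (1 - b' * c) := by linear_combination -hbc
  have hbA : algebraMap A A' b ≠ 0 := by rw [hb]; exact mul_ne_zero hb0 hv.ne_zero
  obtain ⟨a, d, had⟩ := hdense (a' * (1 - b' * c)) (algebraMap A A' b) hbA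
  refine ⟨algebraMap A K a / algebraMap A K b, d, ?_⟩
  rw [map_div₀, ← IsScalarTower.algebraMap_apply A K K', ← IsScalarTower.algebraMap_apply A K K',
    IsScalarTower.algebraMap_apply A A' K', IsScalarTower.algebraMap_apply A A' K']
  have h1 : algebraMap A' K' b' ≠ 0 := (map_ne_zero_iff _ (IsFractionRing.injective A' K')).2 hb0
  have h2 : algebraMap A' K' (algebraMap A A' b) ≠ 0 := (map_ne_zero_iff _ (IsFractionRing.injective A' K')).2 hbA
  rw [div_add' _ _ _ h2, div_eq_div_iff h1 h2, ← map_mul, ← map_mul, ← map_add, ← map_mul]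
  exact congrArg _ (by linear_combination a' * hb + b' * had)

open TensorProduct in
/-- Elements of `L` integral over `A'` in the base change are integral over `A`. -/
theorem descend {A A' K K' L : Type u} [CommRing A] [IsDomain A] [ValuationRing A] [Field K] [Algebra A K]
    [IsFractionRing A K] [Field L] [Algebra K L] [FiniteDimensional K L] [Algebra A L] [IsScalarTower A K L]
    [CommRing A'] [IsDomain A'] [ValuationRing A'] [Field K'] [Algebra A' K'] [IsFractionRing A' K']
    [Algebra A A'] [IsLocalHom (algebraMap A A')] [Algebra K K'] [Algebra A K'] [IsScalarTower A A' K']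
    [IsScalarTower A K K'] (l : L)
    (hl : ((Ideal.Quotient.mk (nilradical (K' ⊗[K] L))).comp
      ((Algebra.TensorProduct.includeLeft : K' →ₐ[K] K' ⊗[K] L).toRingHom.comp (algebraMap A' K'))).IsIntegralElem
      (Ideal.Quotient.mk _ (1 ⊗ₜ[K] l))) :
    IsIntegral A l := by
  classical
  obtain ⟨g, hgm, hg⟩ := hl
  rw [← Polynomial.hom_eval₂, Ideal.Quotient.eq_zero_iff_mem, mem_nilradical] at hg
  obtain ⟨N, hN⟩ := hg
  rw [← eval₂_map, show (Algebra.TensorProduct.includeLeft : K' →ₐ[K] K' ⊗[K] L).toRingHom = algebraMap K' (K' ⊗[K] L)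
    from rfl, ← aeval_def, ← map_pow, ← Polynomial.map_pow] at hN
  have hint : IsIntegral K l := IsIntegral.of_finite K l
  set f := minpoly K l with hf
  set F := f.map (algebraMap K K') with hF
  have hFm : F.Monic := (minpoly.monic hint).map _
  set h := (g ^ N).map (algebraMap A' K') with hh
  have hdvd : F ∣ h := by
    rw [← modByMonic_eq_zero_iff_dvd hFm]
    set r := h %ₘ F with hr
    have hFz : aeval ((1 : K') ⊗ₜ[K] l) F = 0 := by
      rw [hF, aeval_map_algebraMap,
        show (1 : K') ⊗ₜ[K] l = (Algebra.TensorProduct.includeRight : L →ₐ[K] K' ⊗[K] L) l from rfl, aeval_algHom_apply,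
        hf, minpoly.aeval, map_zero]
    have hr0 : aeval ((1 : K') ⊗ₜ[K] l) r = 0 := by
      have h1 := congrArg (aeval ((1 : K') ⊗ₜ[K] l)) (modByMonic_add_div h F)
      rwa [map_add, map_mul, hFz, zero_mul, add_zero, hN] at h1
    have hdeg : r.degree < F.degree := degree_modByMonic_lt h hFm
    refine Polynomial.ext fun i => ?_
    rw [coeff_zero]
    by_cases hi : i < f.natDegree
    swap
    · refine coeff_eq_zero_of_degree_lt (hdeg.trans_le ?_)
      rw [hF, degree_map, degree_eq_natDegree (minpoly.ne_zero hint)]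
      exact_mod_cast Nat.le_of_not_lt hi
    obtain ⟨φ, hφ⟩ : ∃ φ : L →ₗ[K] K, ∀ j, j < f.natDegree → φ (l ^ j) = if j = i then 1 else 0 := by
      have hli := linearIndependent_pow (K := K) l
      obtain ⟨φ, hφ⟩ := LinearMap.exists_extend ((Module.Basis.span hli).coord ⟨i, hi⟩)
      refine ⟨φ, fun j hj => ?_⟩
      have h1 := LinearMap.congr_fun hφ (Module.Basis.span hli ⟨j, hj⟩)
      rw [LinearMap.comp_apply, Submodule.subtype_apply, Module.Basis.coord_apply, Module.Basis.repr_self,
        Finsupp.single_apply, Module.Basis.span_apply] at h1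
      rw [h1]
      simp [Fin.ext_iff]
    have hdeg' : r.natDegree < f.natDegree := by
      rcases eq_or_ne r 0 with h0 | h0
      · rw [h0, natDegree_zero]; omega
      · rw [natDegree_lt_iff_degree_lt h0]
        rwa [hF, degree_map, degree_eq_natDegree (minpoly.ne_zero hint)] at hdeg
    rw [aeval_eq_sum_range' hdeg'] at hr0
    have h1 := congrArg (fun t => TensorProduct.rid K K' (φ.lTensor K' t)) hr0
    simp only [map_sum, map_zero] at h1
    rw [Finset.sum_eq_single i] at h1
    · rwa [Algebra.TensorProduct.tmul_pow, one_pow, TensorProduct.smul_tmul', smul_eq_mul, mul_one, LinearMap.lTensor_tmul,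
        TensorProduct.rid_tmul, hφ i hi, if_pos rfl, one_smul] at h1
    · intro j hj hji
      rw [Algebra.TensorProduct.tmul_pow, one_pow, TensorProduct.smul_tmul', LinearMap.lTensor_tmul,
        TensorProduct.rid_tmul, hφ j (Finset.mem_range.1 hj), if_neg hji, zero_smul]
    · exact fun h => absurd (Finset.mem_range.2 hi) h
  obtain ⟨F₀, hF₀⟩ := IsIntegrallyClosed.eq_map_mul_C_of_dvd (R := A') K' (hgm.pow N) hdvd
  rw [hFm.leadingCoeff, map_one, mul_one] at hF₀
  have hcoef : f ∈ lifts (algebraMap A K) := by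
    rw [lifts_iff_coeff_lifts]
    intro i
    rcases ValuationRing.isInteger_or_isInteger A (f.coeff i) with ⟨a, ha⟩ | ⟨a, ha⟩
    · exact ⟨a, ha⟩
    · by_cases hu : IsUnit a
      · refine ⟨(hu.unit⁻¹ : Aˣ), ?_⟩
        rw [map_units_inv, IsUnit.unit_spec, ha, inv_inv]
      by_cases h0 : f.coeff i = 0
      · exact ⟨0, by rw [map_zero, h0]⟩
      exfalso
      refine hu (IsUnit.of_map (algebraMap A A') a (IsUnit.of_mul_eq_one (F₀.coeff i) ?_))
      apply IsFractionRing.injective A' K'
      rw [map_mul, map_one, ← IsScalarTower.algebraMap_apply A A' K', IsScalarTower.algebraMap_apply A K K', ha,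
        ← coeff_map (f := algebraMap A' K'), hF₀, hF, coeff_map, map_inv₀, inv_mul_cancel₀]
      exact (_root_.map_ne_zero _).2 h0
  obtain ⟨f₀, hf₀, -, hf₀m⟩ := lifts_and_degree_eq_and_monic hcoef (minpoly.monic hint)
  refine ⟨f₀, hf₀m, ?_⟩
  rw [IsScalarTower.algebraMap_eq A K L, ← eval₂_map, hf₀, ← aeval_def, hf, minpoly.aeval]


/-- Surjectivity assertion: let A ⊆ A' be valuation rings with fraction fields K ⊆ K', A' dominating A
and A dense in A' for the valuation topology, and L a finite extension of K; put L' = K' ⊗_K L. Then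
every element of L' modulo its nilradical which is integral over A' is a finite sum Σ a'ᵢ·lᵢ with
a'ᵢ ∈ A' and lᵢ ∈ L integral over A. (The published statement also identifies the kernel of the map
from the tensor product with the nilradical; that part is not stated here.) -/
theorem result
    (A K L A' K' : Type u) [CommRing A] [IsDomain A] [ValuationRing A] [Field K] [Algebra A K] [IsFractionRing A K]
    [Field L] [Algebra K L] [FiniteDimensional K L] [Algebra A L] [IsScalarTower A K L]
    [CommRing A'] [IsDomain A'] [ValuationRing A'] [Field K'] [Algebra A' K'] [IsFractionRing A' K']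
    [Algebra A A'] [IsLocalHom (algebraMap A A')] (hinj : Function.Injective (algebraMap A A'))
    [Algebra K K'] [Algebra A K'] [IsScalarTower A A' K'] [IsScalarTower A K K']
    (hdense : ∀ a' b' : A', b' ≠ 0 → ∃ a : A, b' ∣ a' - algebraMap A A' a)
    (x : (K' ⊗[K] L) ⧸ nilradical (K' ⊗[K] L))
    (hx : ((Ideal.Quotient.mk (nilradical (K' ⊗[K] L))).comp
            ((Algebra.TensorProduct.includeLeft : K' →ₐ[K] K' ⊗[K] L).toRingHom.comp (algebraMap A' K'))).IsIntegralElem x) :
    ∃ (n : ℕ) (a : Fin n → A') (l : Fin n → L), (∀ i, IsIntegral A (l i)) ∧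
      x = Ideal.Quotient.mk (nilradical (K' ⊗[K] L)) (∑ i, algebraMap A' K' (a i) ⊗ₜ[K] l i) := by
  classical
  obtain ⟨t, rfl⟩ := Ideal.Quotient.mk_surjective x
  set φ := (Ideal.Quotient.mk (nilradical (K' ⊗[K] L))).comp
    ((Algebra.TensorProduct.includeLeft : K' →ₐ[K] K' ⊗[K] L).toRingHom.comp (algebraMap A' K')) with hφ
  letI : Algebra A' ((K' ⊗[K] L) ⧸ nilradical (K' ⊗[K] L)) := φ.toAlgebra
  let b₀ := Module.finBasis K L
  have hm : ∀ i, ∃ (d : K) (m : L), d ≠ 0 ∧ IsIntegral A m ∧ b₀ i = d • m := fun i => by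
    obtain ⟨⟨s, hs⟩, hsi⟩ := IsIntegral.exists_multiple_integral_of_isLocalization (nonZeroDivisors A) (b₀ i)
      (IsIntegral.of_finite K (b₀ i))
    have hs0 : algebraMap A K s ≠ 0 := (map_ne_zero_iff _ (IsFractionRing.injective A K)).2 (nonZeroDivisors.ne_zero hs)
    refine ⟨(algebraMap A K s)⁻¹, s • b₀ i, inv_ne_zero hs0, hsi, ?_⟩
    rw [← IsScalarTower.algebraMap_smul K s (b₀ i), smul_smul, inv_mul_cancel₀ hs0, one_smul]
  choose d m hd hmi hb using hm
  have hgen : ∀ t : K' ⊗[K] L, ∃ k' : Fin (Module.finrank K L) → K', t = ∑ i, k' i ⊗ₜ[K] m i := fun t => by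
    induction t using TensorProduct.induction_on with
    | zero => exact ⟨fun _ => 0, by simp⟩
    | add a b ha hb' =>
      obtain ⟨p, hp⟩ := ha
      obtain ⟨q, hq⟩ := hb'
      exact ⟨fun i => p i + q i, by simp only [TensorProduct.add_tmul, Finset.sum_add_distrib, ← hp, ← hq]⟩
    | tmul r y =>
      refine ⟨fun i => (b₀.repr y i * d i) • r, ?_⟩
      conv_lhs => rw [← b₀.sum_repr y]
      simp only [TensorProduct.tmul_sum]
      refine Finset.sum_congr rfl fun i _ => ?_
      rw [hb i, smul_smul, TensorProduct.tmul_smul, TensorProduct.smul_tmul']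
  obtain ⟨k', rfl⟩ := hgen t
  choose k c hkc using fun i => approx (K := K) (A := A) hdense (k' i)
  let l : L := ∑ i, k i • m i
  have ht : ∑ i, k' i ⊗ₜ[K] m i = (1 : K') ⊗ₜ[K] l + ∑ i, algebraMap A' K' (c i) ⊗ₜ[K] m i := by
    rw [TensorProduct.tmul_sum, ← Finset.sum_add_distrib]
    refine Finset.sum_congr rfl fun i _ => ?_
    rw [hkc i, TensorProduct.add_tmul, TensorProduct.tmul_smul, TensorProduct.smul_tmul', Algebra.smul_def, mul_one]
  have hint1 : IsIntegral A' (Ideal.Quotient.mk (nilradical (K' ⊗[K] L)) (∑ i, algebraMap A' K' (c i) ⊗ₜ[K] m i)) := by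
    rw [map_sum]
    refine IsIntegral.sum _ fun i _ => ?_
    rw [show algebraMap A' K' (c i) ⊗ₜ[K] m i = (algebraMap A' K' (c i) ⊗ₜ[K] (1 : L)) * ((1 : K') ⊗ₜ[K] m i) by
      rw [Algebra.TensorProduct.tmul_mul_tmul, mul_one, one_mul], map_mul]
    refine IsIntegral.mul (isIntegral_algebraMap (x := c i)) ?_
    obtain ⟨g, hgm, hg⟩ := hmi i
    refine ⟨g.map (algebraMap A A'), hgm.map _, ?_⟩
    rw [Polynomial.eval₂_map]
    have hc : (algebraMap A' ((K' ⊗[K] L) ⧸ nilradical (K' ⊗[K] L))).comp (algebraMap A A') =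
        ((Ideal.Quotient.mk (nilradical (K' ⊗[K] L))).comp
          (Algebra.TensorProduct.includeRight : L →ₐ[K] K' ⊗[K] L).toRingHom).comp (algebraMap A L) := RingHom.ext fun a => by
      show Ideal.Quotient.mk _ (algebraMap A' K' (algebraMap A A' a) ⊗ₜ[K] (1 : L)) =
        Ideal.Quotient.mk _ ((1 : K') ⊗ₜ[K] algebraMap A L a)
      rw [← IsScalarTower.algebraMap_apply A A' K', IsScalarTower.algebraMap_apply A K K',
        IsScalarTower.algebraMap_apply A K L, Algebra.algebraMap_eq_smul_one (algebraMap A K a),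
        Algebra.algebraMap_eq_smul_one (algebraMap A K a), TensorProduct.smul_tmul]
    rw [hc, show Ideal.Quotient.mk (nilradical (K' ⊗[K] L)) ((1 : K') ⊗ₜ[K] m i) =
      ((Ideal.Quotient.mk (nilradical (K' ⊗[K] L))).comp
        (Algebra.TensorProduct.includeRight : L →ₐ[K] K' ⊗[K] L).toRingHom) (m i) from rfl, ← Polynomial.hom_eval₂, hg,
      map_zero]
  have hl : IsIntegral A' (Ideal.Quotient.mk (nilradical (K' ⊗[K] L)) ((1 : K') ⊗ₜ[K] l)) := by
    have h1 : IsIntegral A' (Ideal.Quotient.mk (nilradical (K' ⊗[K] L)) (∑ i, k' i ⊗ₜ[K] m i)) := hx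
    have h2 := h1.sub hint1
    rwa [← map_sub, ht, add_sub_cancel_right] at h2
  have hlA := descend (A := A) (A' := A') l hl
  refine ⟨Module.finrank K L + 1, Fin.cases 1 c, Fin.cases l m, fun i => ?_, ?_⟩
  · refine Fin.cases ?_ ?_ i
    · simpa using hlA
    · simpa using hmi
  · rw [ht, Fin.sum_univ_succ]
    simp only [Fin.cases_zero, Fin.cases_succ, map_one]

end Groth.Agent.S16046
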