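import Groth.Statements.S1605
import Groth.Agent.Lib.Curves.SubUnionMain

set_option autoImplicit false
universe u
open CategoryTheory CategoryTheory.Limits AlgebraicGeometry
open Curves

namespace Groth.Agent.S1605

open Groth.Agent.Lib

/-- Let X be proper over k, reduced, connected, of dimension one; L an invertible module; Z a closed
subscheme of dimension zero with ideal sheaf I. If H^1(X, I ⊗ L) ≠ 0, then there is a reduced
connected closed subscheme Y of X of dimension one with deg(L|_Y) ≤ -2 χ(Y, O_Y) + deg(Z ∩ Y), the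
scheme-theoretic intersection having degree dim_k H^0 of its structure sheaf. -/
theorem result (k : Type u) [Field k] (X : Scheme.{u}) [X.Over (Spec (CommRingCat.of k))] [IsProper (X ↘ (Spec (CommRingCat.of k)))] [IsReduced X] [ConnectedSpace X]
    (hdim : topologicalKrullDim X = 1) (L : X.Modules) (hL : PicF.IsInvertible L)
    (Z : X.IdealSheafData) (hZ : topologicalKrullDim (Z.support : Set X) ≤ 0)
    (h1 : Nontrivial (Coh.HH X (CohB1.tensorMod (ClSub.idealMod Z) L) 1)) :
    ∃ (J : X.IdealSheafData), IsReduced J.subscheme ∧ ConnectedSpace J.subscheme ∧ topologicalKrullDim J.subscheme = 1 ∧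
      @Curv2.deg k _ J.subscheme ⟨J.subschemeι ≫ (X ↘ (Spec (CommRingCat.of k)))⟩ ((Scheme.Modules.pullback J.subschemeι).obj L) 1 ≤
        -2 * @Curv2.euler k _ J.subscheme ⟨J.subschemeι ≫ (X ↘ (Spec (CommRingCat.of k)))⟩ (Coh.structureModule J.subscheme) +
          Module.finrank k (Coh.HH X (ClSub.quotMod (Z ⊔ J)) 0) :=  by
  classical
  haveI := Curves.GlobalSections.noetherianSpace_of_proper k X
  haveI := Curves.GlobalSections.isNoetherian_of_proper k X
  have hZg : ∀ η ∈ genericPoints X, η ∉ (Z.support : Set X) := fun η hη =>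
    Curves.SubUnion.generic_notMem hdim hZ hη
  obtain ⟨e⟩ := Curves.SubUnion.nonempty_iso_gens k hdim.le hL hZg
  have hn : Nontrivial (Coh.HH X (Curves.SubUnion.GT L Z (Curves.SubUnion.gens (X := X) k)) 1) :=
    (Curves.LES.isoK k e 1).toEquiv.nontrivial_congr.mp h1
  obtain ⟨S, -, hS, hne, hconn, hle⟩ := Curves.SubUnion.exists_connected k hdim.le hL hZg
    (fun η h => (Curves.SubUnion.mem_gens k).mp h) hn
  refine ⟨Curves.SubUnion.idl S, TFOne.Push.isReduced_subsch (Curves.SubUnion.isClosed_uT S),
    Curves.SubUnion.connectedSpace_idl hconn hne, Curves.SubUnion.dim_idl hdim hS hne, ?_⟩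
  rw [(Curves.SubUnion.deg_eq k hdim.le hL hZg hS).2]
  exact hle

end Groth.Agent.S1605
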