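import Groth.Statements.S16051
import Mathlib.Algebra.Lie.Classical
import Mathlib.LinearAlgebra.Isomorphisms
import Mathlib.LinearAlgebra.Dimension.Constructions
import Mathlib.LinearAlgebra.Dimension.Finite
import Mathlib.LinearAlgebra.FreeModule.Finite.Basic
import Mathlib.Tactic.Abel

set_option autoImplicit false
universe u
open LieAlg

namespace Groth.Agent.S16051

section Aux

variable {O : Type u} [CommRing O]

/-- entries indexed by natural numbers -/
def ent (n : ℕ) (M : Matrix (Fin (n + 1)) (Fin (n + 1)) O) (a b : ℕ) : O :=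
  if h : a < n + 1 ∧ b < n + 1 then M ⟨a, h.1⟩ ⟨b, h.2⟩ else 0

theorem ent_fin {n : ℕ} (M : Matrix (Fin (n + 1)) (Fin (n + 1)) O) (i j : Fin (n + 1)) :
    ent n M i.val j.val = M i j := by
  simp [ent, i.isLt, j.isLt]

theorem ent_add (n : ℕ) (M N : Matrix (Fin (n + 1)) (Fin (n + 1)) O) (a b : ℕ) :
    ent n (M + N) a b = ent n M a b + ent n N a b := by
  unfold ent; split_ifs <;> simp

theorem ent_smul (n : ℕ) (r : O) (M : Matrix (Fin (n + 1)) (Fin (n + 1)) O) (a b : ℕ) :
    ent n (r • M) a b = r * ent n M a b := by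
  unfold ent; split_ifs <;> simp

/-- the functionals cutting out the image -/
def Φ (n : ℕ) : Matrix (Fin (n + 1)) (Fin (n + 1)) O →ₗ[O] (O × O × O) × (Fin (n - 1) → O) where
  toFun M := ((ent n M n n, ent n M n 0, ent n M (n - 1) n),
    fun k => ∑ c ∈ Finset.range (n - (k.val + 1)), ent n M (k.val + 1 + c) c)
  map_add' M N := by simp [ent_add, Finset.sum_add_distrib, Prod.ext_iff]; funext k; simp [Finset.sum_add_distrib]
  map_smul' r M := by simp [ent_smul, Prod.ext_iff, Finset.mul_sum]; funext k; simp [Finset.mul_sum]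

/-- solution of the recursion -/
def S (z : ℕ → ℕ → O) : ℕ → ℕ → O
  | 0, _ => 0
  | i + 1, j => z i j + (if j = 0 then 0 else S z i (j - 1))

theorem S_succ_zero (z : ℕ → ℕ → O) (i : ℕ) : S z (i + 1) 0 = z i 0 := by
  show z i 0 + _ = _; simp

theorem S_succ_succ (z : ℕ → ℕ → O) (i j : ℕ) : S z (i + 1) (j + 1) = z i (j + 1) + S z i j := by
  show z i (j + 1) + _ = _; simp

theorem S_sum (z : ℕ → ℕ → O) : ∀ (j i : ℕ), j ≤ i →
    S z (i + 1) j = ∑ c ∈ Finset.range (j + 1), z (i - j + c) c
  | 0, i, _ => by simp [S_succ_zero]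
  | j + 1, i + 1, h => by
    rw [S_succ_succ, Finset.sum_range_succ, S_sum z j i (by omega), add_comm]
    congr 1
    · exact Finset.sum_congr rfl fun c _ => by congr 1; omega
    · congr 1; omega

variable (n : ℕ) (X : Matrix (Fin (n + 1)) (Fin (n + 1)) O)

theorem mul_left_apply (hx : ∀ i j, X i j = if j.val = i.val + 1 ∧ j.val < n then 1 else 0)
    (W : Matrix (Fin (n + 1)) (Fin (n + 1)) O) (i j : Fin (n + 1)) :
    (X * W) i j = if i.val + 1 < n then ent n W (i.val + 1) j.val else 0 := by
  rw [Matrix.mul_apply]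
  by_cases h : i.val + 1 < n
  · rw [if_pos h, Finset.sum_eq_single (⟨i.val + 1, by omega⟩ : Fin (n + 1))]
    · rw [hx, if_pos ⟨rfl, h⟩, one_mul, ← ent_fin W]
    · intro b _ hb
      rw [hx, if_neg (fun hh => hb (Fin.ext hh.1)), zero_mul]
    · simp
  · rw [if_neg h]
    exact Finset.sum_eq_zero fun b _ => by rw [hx, if_neg (by omega), zero_mul]

theorem mul_right_apply (hx : ∀ i j, X i j = if j.val = i.val + 1 ∧ j.val < n then 1 else 0)
    (W : Matrix (Fin (n + 1)) (Fin (n + 1)) O) (i j : Fin (n + 1)) :
    (W * X) i j = if 1 ≤ j.val ∧ j.val < n then ent n W i.val (j.val - 1) else 0 := by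
  rw [Matrix.mul_apply]
  by_cases h : 1 ≤ j.val ∧ j.val < n
  · rw [if_pos h, Finset.sum_eq_single (⟨j.val - 1, by omega⟩ : Fin (n + 1))]
    · rw [hx, if_pos ⟨by show j.val = j.val - 1 + 1; omega, h.2⟩, mul_one, ← ent_fin W]
    · intro b _ hb
      rw [hx, if_neg (fun hh => hb (Fin.ext (by show b.val = j.val - 1; omega))), mul_zero]
    · simp
  · rw [if_neg h]
    exact Finset.sum_eq_zero fun b _ => by rw [hx, if_neg (by omega), mul_zero]

theorem ent_comm (hx : ∀ i j, X i j = if j.val = i.val + 1 ∧ j.val < n then 1 else 0)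
    (W : Matrix (Fin (n + 1)) (Fin (n + 1)) O) {a b : ℕ} (ha : a < n + 1) (hb : b < n + 1) :
    ent n (X * W - W * X) a b = (if a + 1 < n then ent n W (a + 1) b else 0) -
      (if 1 ≤ b ∧ b < n then ent n W a (b - 1) else 0) := by
  rw [ent, dif_pos ⟨ha, hb⟩, Matrix.sub_apply, mul_left_apply n X hx, mul_right_apply n X hx]

theorem Φ_comm (hx : ∀ i j, X i j = if j.val = i.val + 1 ∧ j.val < n then 1 else 0) (hn : 1 ≤ n)
    (W : Matrix (Fin (n + 1)) (Fin (n + 1)) O) : Φ n (X * W - W * X) = 0 := by
  refine Prod.ext (Prod.ext ?_ (Prod.ext ?_ ?_)) (funext fun k => ?_)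
  · show ent n (X * W - W * X) n n = 0
    rw [ent_comm n X hx W (by omega) (by omega), if_neg (by omega), if_neg (by omega), sub_zero]
  · show ent n (X * W - W * X) n 0 = 0
    rw [ent_comm n X hx W (by omega) (by omega), if_neg (by omega), if_neg (by omega), sub_zero]
  · show ent n (X * W - W * X) (n - 1) n = 0
    rw [ent_comm n X hx W (by omega) (by omega), if_neg (by omega), if_neg (by omega), sub_zero]
  · show ∑ c ∈ Finset.range (n - (k.val + 1)), ent n (X * W - W * X) (k.val + 1 + c) c = 0
    let g : ℕ → O := fun c => if 1 ≤ c ∧ k.val + 1 + c < n + 0 then ent n W (k.val + 1 + c) (c - 1) else 0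
    rw [Finset.sum_congr rfl (g := fun c => g (c + 1) - g c) fun c hc => ?_, Finset.sum_range_sub]
    · simp only [g]
      rw [if_neg (by omega), if_neg (by omega), sub_zero]
    · rw [Finset.mem_range] at hc
      rw [ent_comm n X hx W (by omega) (by omega)]
      simp only [g]
      congr 1
      · by_cases h : k.val + 1 + c + 1 < n
        · rw [if_pos h, if_pos (by omega)]
          rfl
        · rw [if_neg h, if_neg (by omega)]
      · by_cases h : 1 ≤ c
        · rw [if_pos (by omega), if_pos (by omega)]
        · rw [if_neg (by omega), if_neg (by omega)]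

theorem ker_sub_range (hx : ∀ i j, X i j = if j.val = i.val + 1 ∧ j.val < n then 1 else 0) (hn : 1 ≤ n)
    (Z : Matrix (Fin (n + 1)) (Fin (n + 1)) O) (htr : Z.trace = 0) (hZ : Φ n Z = 0) :
    ∃ W, X * W - W * X = Z := by
  have h1 : ent n Z n n = 0 := congrArg (fun v => v.1.1) hZ
  have h2 : ent n Z n 0 = 0 := congrArg (fun v => v.1.2.1) hZ
  have h3 : ent n Z (n - 1) n = 0 := congrArg (fun v => v.1.2.2) hZ
  have h4 : ∀ d, d < n → ∑ c ∈ Finset.range (n - d), ent n Z (d + c) c = 0 := by
    intro d hd
    rcases d with _ | d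
    · have : Z.trace = (∑ c ∈ Finset.range n, ent n Z c c) + ent n Z n n := by
        rw [← Finset.sum_range_succ (fun c => ent n Z c c), Finset.sum_range, Matrix.trace]
        exact Finset.sum_congr rfl fun i _ => (ent_fin Z i i).symm
      rw [htr, h1, add_zero] at this
      simpa using this.symm
    · exact congrFun (congrArg (fun v => v.2) hZ) ⟨d, by omega⟩
  refine ⟨Matrix.of fun i j => if i.val = n then (if j.val + 1 < n then -ent n Z n (j.val + 1) else 0)
    else if i.val = 0 then 0 else if j.val = n then ent n Z (i.val - 1) n else S (ent n Z) i.val j.val, ?_⟩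
  ext ⟨a, ha⟩ ⟨b, hb⟩
  rw [Matrix.sub_apply, mul_left_apply n X hx, mul_right_apply n X hx]
  rw [show Z ⟨a, ha⟩ ⟨b, hb⟩ = ent n Z a b by simp [ent, ha, hb]]
  simp only [Fin.val_mk]
  by_cases hA : a + 1 < n
  · rw [if_pos hA, ent, dif_pos ⟨by omega, hb⟩]
    simp only [Matrix.of_apply, Fin.val_mk]
    rw [if_neg (by omega), if_neg (by omega)]
    by_cases hB : b = n
    · subst hB
      rw [if_pos rfl, if_neg (by omega), sub_zero]
      simp
    · rw [if_neg hB]
      by_cases hb0 : b = 0
      · subst hb0
        rw [if_neg (by omega), sub_zero, S_succ_zero]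
      · obtain ⟨b, rfl⟩ : ∃ b', b = b' + 1 := ⟨b - 1, by omega⟩
        rw [if_pos (by omega), ent, dif_pos ⟨by omega, by omega⟩, S_succ_succ]
        simp only [Nat.add_sub_cancel, Matrix.of_apply, Fin.val_mk]
        rw [if_neg (by omega)]
        by_cases ha0 : a = 0
        · subst ha0
          rw [if_pos rfl, show S (ent n Z) 0 b = 0 from rfl, add_zero, sub_zero]
        · rw [if_neg ha0, if_neg (by omega), add_sub_cancel_right]
  · rw [if_neg hA, zero_sub]
    by_cases hB : 1 ≤ b ∧ b < n
    · obtain ⟨b, rfl⟩ : ∃ b', b = b' + 1 := ⟨b - 1, by omega⟩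
      rw [if_pos hB, ent, dif_pos ⟨ha, by omega⟩]
      simp only [Nat.add_sub_cancel, Matrix.of_apply, Fin.val_mk]
      rcases Nat.lt_or_ge a n with haN | haN
      · rw [if_neg (by omega), if_neg (by omega), if_neg (by omega)]
        have hs := h4 (a - (b + 1)) (by omega)
        have hS := S_sum (ent n Z) (b + 1) a (by omega)
        rw [show n - (a - (b + 1)) = b + 1 + 1 by omega, ← hS, S_succ_succ] at hs
        exact (eq_neg_of_add_eq_zero_left hs).symm
      · rw [if_pos (by omega), if_pos (by omega), neg_neg, show a = n by omega]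
    · rw [if_neg hB, neg_zero]
      rcases Nat.lt_or_ge a n with haN | haN
      · obtain rfl : a = n - 1 := by omega
        rcases Nat.eq_zero_or_pos b with rfl | hb0
        · have := h4 (n - 1) (by omega)
          rw [show n - (n - 1) = 1 by omega, Finset.sum_range_one, Nat.add_zero] at this
          exact this.symm
        · rw [show b = n by omega, h3]
      · obtain rfl : a = n := by omega
        rcases Nat.eq_zero_or_pos b with rfl | hb0
        · rw [h2]
        · rw [show b = a by omega, h1]

theorem Φ_surj (hn : 1 ≤ n) (v : (O × O × O) × (Fin (n - 1) → O)) :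
    ∃ M : Matrix (Fin (n + 1)) (Fin (n + 1)) O, M.trace = 0 ∧ Φ n M = v := by
  obtain ⟨⟨a, b, c⟩, f⟩ := v
  let M : Matrix (Fin (n + 1)) (Fin (n + 1)) O := fun i j =>
    if i.val = n ∧ j.val = n then a else if i.val = 0 ∧ j.val = 0 then -a
    else if i.val = n ∧ j.val = 0 then b else if i.val = n - 1 ∧ j.val = n then c
    else if h : (1 ≤ i.val ∧ i.val < n) ∧ j.val = 0 then f ⟨i.val - 1, by omega⟩ else 0
  refine ⟨M, ?_, ?_⟩
  · have hd : ∀ i : Fin (n + 1), M i i = (if i = Fin.last n then a else 0) + (if i = 0 then -a else 0) := by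
      intro i
      simp only [M, Fin.ext_iff, Fin.val_last, Fin.val_zero]
      rcases Nat.eq_zero_or_pos i.val with h0 | h0
      · rw [if_neg (by omega), if_pos (by omega), if_neg (by omega), if_pos h0, zero_add]
      · rcases Nat.lt_or_ge i.val n with hl | hl
        · rw [if_neg (by omega), if_neg (by omega), if_neg (by omega), if_neg (by omega), dif_neg (by omega),
            if_neg (by omega), if_neg (by omega), add_zero]
        · rw [if_pos (by omega), if_pos (by omega), if_neg (by omega), add_zero]
    rw [Matrix.trace, Finset.sum_congr rfl fun i _ => (show M.diag i = _ from hd i), Finset.sum_add_distrib]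
    simp
  · have e : ∀ (p q : ℕ) (hp : p < n + 1) (hq : q < n + 1), ent n M p q = M ⟨p, hp⟩ ⟨q, hq⟩ :=
      fun p q hp hq => dif_pos ⟨hp, hq⟩
    refine Prod.ext (Prod.ext ?_ (Prod.ext ?_ ?_)) (funext fun k => ?_)
    · show ent n M n n = a
      rw [e n n (by omega) (by omega)]; simp [M]
    · show ent n M n 0 = b
      rw [e n 0 (by omega) (by omega)]
      simp only [M]
      rw [if_neg (by omega), if_neg (by omega), if_pos (by simp)]
    · show ent n M (n - 1) n = c
      rw [e (n - 1) n (by omega) (by omega)]
      simp only [M]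
      rw [if_neg (by omega), if_neg (by omega), if_neg (by omega), if_pos (by simp)]
    · show ∑ c' ∈ Finset.range (n - (k.val + 1)), ent n M (k.val + 1 + c') c' = f k
      rw [Finset.sum_eq_single 0]
      · rw [e _ _ (by omega) (by omega)]
        simp only [M]
        rw [if_neg (by omega), if_neg (by omega), if_neg (by omega), if_neg (by omega)]
        rw [dif_pos ⟨⟨by omega, by omega⟩, trivial⟩]
        congr 1
      · intro t ht ht0
        rw [Finset.mem_range] at ht
        rw [e _ _ (by omega) (by omega)]
        simp only [M]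
        rw [if_neg (by omega), if_neg (by omega), if_neg (by omega), if_neg (by omega), dif_neg (by omega)]
      · intro h
        exact absurd (Finset.mem_range.mpr (by omega)) h

end Aux

/-- Let O be a discrete valuation ring of characteristic zero with residue field of characteristic p,
let 1 ≤ n with n + 1 < p (type A_n with p above the Coxeter number), and let x ∈ sl_{n+1}(O) be the
standard subregular nilpotent element, the matrix with entries x_{i,i+1} = 1 for i + 1 < n and 0
elsewhere (one Jordan block of size n and one of size 1; in the source this is the sum of the root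
vectors of the first n − 1 simple roots, completed there to an sl₂-triple). Then the quotient of
sl_{n+1}(O) by the image of ad_x is a free O-module of rank n + 2. (The source works over a complete
such ring with algebraically closed residue field; completeness and algebraic closedness are not
used for this statement.) -/
theorem result (O : Type u) [CommRing O] [IsDomain O] [IsDiscreteValuationRing O]
    [CharZero O] (p : ℕ) [Fact p.Prime] [CharP (IsLocalRing.ResidueField O) p]
    (n : ℕ) (hn : 1 ≤ n) (hp : n + 1 < p)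
    (x : LieAlgebra.SpecialLinear.sl (Fin (n + 1)) O)
    (hx : ∀ i j : Fin (n + 1), (x : Matrix (Fin (n + 1)) (Fin (n + 1)) O) i j =
      if j.val = i.val + 1 ∧ j.val < n then 1 else 0) :
    Module.Free O (LieAlgebra.SpecialLinear.sl (Fin (n + 1)) O ⧸
        LinearMap.range (LieAlgebra.ad O (LieAlgebra.SpecialLinear.sl (Fin (n + 1)) O) x)) ∧
      Module.finrank O (LieAlgebra.SpecialLinear.sl (Fin (n + 1)) O ⧸
        LinearMap.range (LieAlgebra.ad O (LieAlgebra.SpecialLinear.sl (Fin (n + 1)) O) x)) = n + 2 := by
  let Ψ : LieAlgebra.SpecialLinear.sl (Fin (n + 1)) O →ₗ[O] (O × O × O) × (Fin (n - 1) → O) :=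
    { toFun := fun y => Φ n y.val
      map_add' := fun y z => map_add (Φ n) y.val z.val
      map_smul' := fun r y => map_smul (Φ n) r y.val }
  have hΨs : Function.Surjective Ψ := fun v => by
    obtain ⟨M, hM, hv⟩ := Φ_surj n hn v
    exact ⟨⟨M, hM⟩, hv⟩
  have hker : LinearMap.range (LieAlgebra.ad O (LieAlgebra.SpecialLinear.sl (Fin (n + 1)) O) x) = LinearMap.ker Ψ := by
    refine le_antisymm ?_ fun y hy => ?_
    · rintro _ ⟨y, rfl⟩
      show Φ n (x.val * y.val - y.val * x.val) = 0
      exact Φ_comm n x.val hx hn y.val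
    · obtain ⟨W, hW⟩ := ker_sub_range n x.val hx hn y.val y.property (LinearMap.mem_ker.mp hy)
      let E : Matrix (Fin (n + 1)) (Fin (n + 1)) O := Matrix.single (Fin.last n) (Fin.last n) W.trace
      have hE1 : x.val * E = 0 := by
        ext i j
        rw [mul_left_apply n x.val hx]
        split_ifs with h
        · rw [ent, dif_pos ⟨by omega, j.isLt⟩]
          simp only [E, Matrix.single_apply]
          refine if_neg fun hh => ?_
          have := congrArg Fin.val hh.1; simp at this; omega
        · rfl
      have hE2 : E * x.val = 0 := by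
        ext i j
        rw [mul_right_apply n x.val hx]
        split_ifs with h
        · rw [ent, dif_pos ⟨i.isLt, by omega⟩]
          simp only [E, Matrix.single_apply]
          refine if_neg fun hh => ?_
          have := congrArg Fin.val hh.2; simp at this; omega
        · rfl
      refine ⟨⟨W - E, ?_⟩, Subtype.ext ?_⟩
      · show Matrix.trace (W - E) = 0
        simp [E, Matrix.trace_sub]
      · show x.val * (W - E) - (W - E) * x.val = y.val
        rw [mul_sub, sub_mul, hE1, hE2, sub_zero, sub_zero, hW]
  let e := (Submodule.quotEquivOfEq _ _ hker).trans (LinearMap.quotKerEquivOfSurjective Ψ hΨs)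
  refine ⟨Module.Free.of_equiv e.symm, e.finrank_eq.trans ?_⟩
  simp only [Module.finrank_prod, Module.finrank_self, Module.finrank_pi, Fintype.card_fin]
  omega

end Groth.Agent.S16051
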