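import Groth.Statements.S16052
import Mathlib
import Groth.Agent.H23.TameRoot

set_option autoImplicit false
universe u
open Polynomial
open CAlg

namespace Groth.Agent.S16052

/-- Let O be a henselian discrete valuation ring of characteristic zero with algebraically closed
residue field of characteristic p, ϖ a uniformizer and K the fraction field. Let r_1, …, r_m ≥ 1 and
b_1, …, b_m ≥ 1 be integers with gcd(r_i, b_i) = 1 for each i and r_1 + ⋯ + r_m < p, and let v_1, …,
v_m be units of O. Then the splitting field over K of the polynomial ∏_i (y^{r_i} − v_i ϖ^{b_i}) has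
degree lcm(r_1, …, r_m) over K. (In the source O is complete and this polynomial is the y-part of a
deformation y ↦ x² + z² + f(y) of an A_n-singularity with n + 1 = Σ r_i; the proposition goes on to
identify the monodromy element, which is not stated here.) -/
theorem result (O : Type u) [CommRing O] [IsDomain O]
    [IsDiscreteValuationRing O] [HenselianLocalRing O] [CharZero O] [IsAlgClosed (IsLocalRing.ResidueField O)]
    (p : ℕ) [Fact p.Prime] [CharP (IsLocalRing.ResidueField O) p]
    (ϖ : O) (hϖ : Irreducible ϖ) (m : ℕ) (r b : Fin m → ℕ) (v : Fin m → Oˣ)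
    (hr : ∀ i, 1 ≤ r i) (hb : ∀ i, 1 ≤ b i) (hrb : ∀ i, Nat.Coprime (r i) (b i)) (hp : ∑ i, r i < p) :
    Module.finrank (FractionRing O)
        (∏ i, (X ^ (r i) - C (algebraMap O (FractionRing O) ((v i : O) * ϖ ^ (b i))))).SplittingField =
      Finset.univ.lcm r := by
  classical
  set R := Finset.univ.lcm r with hR
  set K := FractionRing O
  have hRpos : 0 < R := Nat.pos_of_ne_zero fun h0 => by
    obtain ⟨i, -, hi⟩ := Finset.lcm_eq_zero_iff.mp h0
    have := hr i
    omega
  have hcast : ∀ n : ℕ, ¬ p ∣ n → (n : IsLocalRing.ResidueField O) ≠ 0 := fun n hn h0 =>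
    hn ((CharP.cast_eq_zero_iff _ p n).mp h0)
  have hri : ∀ i, ¬ p ∣ r i := fun i hd => by
    have := Finset.single_le_sum (f := r) (fun j _ => Nat.zero_le _) (Finset.mem_univ i)
    exact absurd (Nat.le_of_dvd (hr i) hd) (by omega)
  have hRp : ¬ p ∣ R := fun hd => by
    have h1 : R ∣ ∏ i, r i := Finset.lcm_dvd fun i hi => Finset.dvd_prod_of_mem r hi
    obtain ⟨i, -, hi⟩ := (Fact.out : p.Prime).prime.exists_mem_finset_dvd (hd.trans h1)
    exact hri i hi
  obtain ⟨ζ, hζ⟩ := Groth.Agent.H23.TameRoot.exists_primitiveRoot (hcast R hRp)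
  choose w hwu hw using fun i => Groth.Agent.H23.TameRoot.exists_root' (hcast (r i) (hri i)) (v i).isUnit
  set F : K[X] := ∏ i, (X ^ (r i) - C (algebraMap O K ((v i : O) * ϖ ^ (b i)))) with hF
  set L := F.SplittingField
  have hFm : F.Monic := monic_prod_of_monic _ _ fun i _ => monic_X_pow_sub_C _ (by have := hr i; omega)
  let ι : O →+* L := (algebraMap K L).comp (algebraMap O K)
  have hιinj : Function.Injective ι := (algebraMap K L).injective.comp (IsFractionRing.injective O K)
  have hy : ∀ i, ∃ y : L, y ^ r i = ι ((v i : O) * ϖ ^ b i) := by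
    intro i
    have hdvd : X ^ (r i) - C (algebraMap O K ((v i : O) * ϖ ^ (b i))) ∣ F := Finset.dvd_prod_of_mem _ (Finset.mem_univ i)
    have hs := (SplittingField.splits F).of_dvd (hFm.map _).ne_zero (Polynomial.map_dvd (algebraMap K L) hdvd)
    obtain ⟨y, hy⟩ := hs.exists_eval_eq_zero (by
      rw [degree_map, degree_X_pow_sub_C (hr i)]
      exact_mod_cast (by have := hr i; omega : r i ≠ 0))
    exact ⟨y, by simpa [ι, sub_eq_zero] using hy⟩
  choose y hy using hy
  have hϖ0 : ι ϖ ≠ 0 := (map_ne_zero_iff ι hιinj).mpr hϖ.ne_zero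
  have hw0 : ∀ i, ι (w i) ≠ 0 := fun i => ((hwu i).map ι).ne_zero
  let z : Fin m → L := fun i => y i / ι (w i)
  have hz : ∀ i, z i ^ r i = ι ϖ ^ b i := fun i => by
    show (y i / ι (w i)) ^ r i = _
    rw [div_pow, hy i, ← map_pow ι (w i), hw i, map_mul, map_pow, mul_div_cancel_left₀ _ ((v i).isUnit.map ι).ne_zero]
  have hz0 : ∀ i, z i ≠ 0 := fun i h0 => by
    have := hz i
    rw [h0, zero_pow (by have := hr i; omega)] at this
    exact pow_ne_zero _ hϖ0 this.symm
  -- Bezout
  have hdvd : ∀ i, r i ∣ R := fun i => Finset.dvd_lcm (Finset.mem_univ i)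
  obtain ⟨c0, c, hc⟩ : ∃ (c0 : ℤ) (c : Fin m → ℤ), c0 * R + ∑ i, c i * ((b i * (R / r i) : ℕ) : ℤ) = 1 := by
    have h1 : (1 : ℤ) ∈ Ideal.span (insert (R : ℤ) (Set.range fun i => ((b i * (R / r i) : ℕ) : ℤ))) := by
      obtain ⟨g, hg⟩ := (IsPrincipalIdealRing.principal
        (Ideal.span (insert (R : ℤ) (Set.range fun i => ((b i * (R / r i) : ℕ) : ℤ))))).principal
      rw [hg, Ideal.submodule_span_eq, Ideal.mem_span_singleton]
      have hgd : ∀ x ∈ insert (R : ℤ) (Set.range fun i => ((b i * (R / r i) : ℕ) : ℤ)), g.natAbs ∣ x.natAbs := by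
        intro x hx
        have := Ideal.subset_span hx
        rw [hg, Ideal.submodule_span_eq, SetLike.mem_coe, Ideal.mem_span_singleton] at this
        exact Int.natAbs_dvd_natAbs.mpr this
      rw [← Int.natAbs_dvd_natAbs, Int.natAbs_one, Nat.dvd_one]
      by_contra hne
      obtain ⟨l, hl, hlg⟩ := Nat.exists_prime_and_dvd hne
      have hlR : l ∣ R := by simpa using hlg.trans (hgd _ (Set.mem_insert _ _))
      have hli : ∀ i, l ∣ b i * (R / r i) := fun i => by
        have := hlg.trans (hgd _ (Set.mem_insert_of_mem _ ⟨i, rfl⟩))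
        rwa [Int.natAbs_natCast] at this
      have key : ∀ i, r i ∣ R / l := by
        intro i
        rcases (Nat.Prime.dvd_mul hl).mp (hli i) with hb' | hq
        · have hcop : Nat.Coprime (r i) l := by
            exact Nat.Coprime.coprime_dvd_right hb' (hrb i)
          have : r i ∣ l * (R / l) := by rw [Nat.mul_div_cancel' hlR]; exact hdvd i
          exact hcop.dvd_of_dvd_mul_left this
        · obtain ⟨q, hq⟩ := hq
          refine ⟨q, ?_⟩
          have := Nat.mul_div_cancel' (hdvd i)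
          rw [hq] at this
          rw [← this, show r i * (l * q) = l * (r i * q) by ring, Nat.mul_div_cancel_left _ hl.pos]
      have := Nat.le_of_dvd (Nat.div_pos (Nat.le_of_dvd hRpos hlR) hl.pos) (Finset.lcm_dvd (s := Finset.univ) fun i _ => key i)
      exact absurd this (not_le.mpr (Nat.div_lt_self hRpos hl.one_lt))
    obtain ⟨c0, z', hz', h1⟩ := Ideal.mem_span_insert.mp h1
    obtain ⟨c, hc⟩ := (Submodule.mem_span_range_iff_exists_fun ℤ).mp hz'
    exact ⟨c0, c, by simp only [smul_eq_mul] at hc; rw [hc, ← h1]⟩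
  let x : L := ι ϖ ^ c0 * ∏ i, z i ^ c i
  have hx : x ^ R = ι ϖ := by
    rw [← zpow_natCast x R]
    show (ι ϖ ^ c0 * ∏ i, z i ^ c i) ^ ((R : ℕ) : ℤ) = _
    rw [mul_zpow, ← Finset.prod_zpow, ← zpow_mul]
    have : ∀ i, (z i ^ c i) ^ ((R : ℕ) : ℤ) = ι ϖ ^ (c i * ((b i * (R / r i) : ℕ) : ℤ)) := fun i => by
      rw [← zpow_mul, show c i * ((R : ℕ) : ℤ) = (r i : ℤ) * (c i * ((R / r i : ℕ) : ℤ)) by
        conv_lhs => rw [← Nat.mul_div_cancel' (hdvd i)]
        push_cast; ring, zpow_mul, zpow_natCast, hz, ← zpow_natCast, ← zpow_mul]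
      congr 1
      push_cast; ring
    simp only [this]
    have hsum : ∀ s : Finset (Fin m), ∏ i ∈ s, ι ϖ ^ (c i * ((b i * (R / r i) : ℕ) : ℤ)) =
        ι ϖ ^ ∑ i ∈ s, c i * ((b i * (R / r i) : ℕ) : ℤ) := by
      intro s
      induction s using Finset.induction with
      | empty => simp
      | insert a s ha ih => rw [Finset.prod_insert ha, Finset.sum_insert ha, ih, zpow_add₀ hϖ0]
    rw [hsum, ← zpow_add₀ hϖ0, hc, zpow_one]
  have hx0 : x ≠ 0 := fun h0 => by
    rw [h0, zero_pow hRpos.ne'] at hx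
    exact hϖ0 hx.symm
  set E := IntermediateField.adjoin K {x}
  have hmem : ∀ o : O, ι o ∈ E := fun o => E.algebraMap_mem _
  have htop : E = ⊤ := by
    rw [eq_top_iff]
    intro t _
    have ht : t ∈ Algebra.adjoin K (F.rootSet L) := by rw [SplittingField.adjoin_rootSet F]; trivial
    refine (Algebra.adjoin_le (S := E.toSubalgebra) ?_) ht
    intro s hs
    rw [mem_rootSet] at hs
    have hs' : aeval s (∏ i, (X ^ (r i) - C (algebraMap O K ((v i : O) * ϖ ^ (b i))))) = 0 := hs.2
    rw [map_prod, Finset.prod_eq_zero_iff] at hs'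
    obtain ⟨i, -, hi⟩ := hs'
    rw [map_sub, map_pow, aeval_X, aeval_C, sub_eq_zero] at hi
    have hi' : s ^ r i = (ι (w i) * x ^ (b i * (R / r i))) ^ r i := by
      rw [mul_pow, ← map_pow, hw, ← pow_mul, mul_assoc, Nat.div_mul_cancel (hdvd i), mul_comm (b i) R, pow_mul, hx]
      rw [hi]
      simp [ι]
    have hne : ι (w i) * x ^ (b i * (R / r i)) ≠ 0 := mul_ne_zero (hw0 i) (pow_ne_zero _ hx0)
    have hs2 : (ι (w i) * x ^ (b i * (R / r i))) ^ R = s ^ R := by
      obtain ⟨q, hq⟩ := hdvd i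
      have hq' : ∀ t : L, t ^ R = (t ^ r i) ^ q := fun t => by rw [← pow_mul, ← hq]
      rw [hq', hq' s, hi']
    obtain ⟨jj, hjj⟩ := Groth.Agent.H23.TameRoot.mem_adjoin hRpos hζ hne hs2
    rw [hjj]
    exact mul_mem (pow_mem (hmem ζ) _) (mul_mem (hmem (w i)) (pow_mem (IntermediateField.subset_adjoin K {x} rfl) _))
  exact (Groth.Agent.H23.TameRoot.finrank_isCyclic hϖ hRpos hζ (L := L) (x := x) hx htop).1

end Groth.Agent.S16052
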