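import Groth.Statements.S16053
import Mathlib
import Groth.Agent.H23.TameRoot
import Groth.Agent.Lib.Henselian.LocalRing

set_option autoImplicit false
universe u
open Polynomial
open CAlg

namespace Groth.Agent.S16053

open IsLocalRing in
lemma exists_w {O : Type u} [CommRing O] [IsDomain O] [IsDiscreteValuationRing O] [HenselianLocalRing O]
    [IsAlgClosed (ResidueField O)] (f : O[X]) (e : ℕ) (hdeg : f.natDegree = e) (he : 1 ≤ e) (hmon : f.Monic)
    (hf : f.IsEisensteinAt (maximalIdeal O)) {ϖ : O} (hϖ : Irreducible ϖ) (hcast : (e : ResidueField O) ≠ 0)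
    {L : Type u} [Field L] (ι : O →+* L) (π0 : L) (hπ0 : f.eval₂ ι π0 = 0) :
    ∃ W : O[X], ∀ π : L, f.eval₂ ι π = 0 → W.eval₂ ι π ≠ 0 ∧ (π / W.eval₂ ι π) ^ e = ι ϖ := by
  classical
  have hmax := (IsDiscreteValuationRing.irreducible_iff_uniformizer ϖ).mp hϖ
  haveI : Nontrivial (AdjoinRoot f) := (AdjoinRoot.lift ι π0 hπ0).domain_nontrivial
  haveI : Module.Finite O (AdjoinRoot f) := hmon.finite_adjoinRoot
  haveI : Algebra.IsIntegral O (AdjoinRoot f) := Algebra.IsIntegral.of_finite O _
  let ρ := AdjoinRoot.root f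
  have hc : ∀ i < e, ∃ c, f.coeff i = ϖ * c := fun i hi =>
    Ideal.mem_span_singleton.mp (hmax ▸ hf.mem (hdeg.symm ▸ hi))
  choose! c hc using hc
  have hf0 : residue O (f.coeff 0) = 0 := (residue_eq_zero_iff _).mpr (hf.mem (hdeg.symm ▸ he))
  let φ : AdjoinRoot f →+* ResidueField O := AdjoinRoot.lift (residue O) 0
    (by rw [eval₂_at_zero, hf0])
  have hφs : Function.Surjective φ := fun y => by
    obtain ⟨a, rfl⟩ := residue_surjective y
    exact ⟨AdjoinRoot.of f a, AdjoinRoot.lift_of _⟩
  have hpow : ρ ^ e = AdjoinRoot.of f ϖ * -∑ i ∈ Finset.range e, AdjoinRoot.of f (c i) * ρ ^ i := by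
    have h1 : f.eval₂ (AdjoinRoot.of f) ρ = 0 := AdjoinRoot.eval₂_root f
    rw [eval₂_eq_sum_range, hdeg, Finset.sum_range_succ, show f.coeff e = 1 by rw [← hdeg]; exact hmon, map_one, one_mul] at h1
    rw [mul_neg, Finset.mul_sum]
    rw [Finset.sum_congr rfl (fun i hi => by rw [hc i (Finset.mem_range.mp hi), map_mul])] at h1
    rw [Finset.sum_congr rfl (fun i _ => (mul_assoc _ _ _).symm)]
    linear_combination h1
  have hle : ∀ n : Ideal (AdjoinRoot f), n.IsMaximal → RingHom.ker φ ≤ n := by
    intro n hn z hz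
    have hm : ∀ a ∈ maximalIdeal O, AdjoinRoot.of f a ∈ n := by
      intro a ha
      have := eq_maximalIdeal (Ideal.isMaximal_comap_of_isIntegral_of_isMaximal (R := O) n)
      exact (this.ge ha : a ∈ n.comap (algebraMap O (AdjoinRoot f)))
    have hρ : ρ ∈ n := hn.isPrime.mem_of_pow_mem e (by
      rw [hpow]; exact n.mul_mem_right _ (hm ϖ (hmax ▸ Ideal.mem_span_singleton_self ϖ)))
    induction z using AdjoinRoot.induction_on with
    | ih P =>
      have hP0 : P.coeff 0 ∈ maximalIdeal O := by
        rw [← residue_eq_zero_iff, ← eval₂_at_zero (residue O) (p := P)]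
        have hz' : φ (AdjoinRoot.mk f P) = 0 := hz
        rwa [AdjoinRoot.lift_mk] at hz'
      rw [← P.X_mul_divX_add, map_add, map_mul, AdjoinRoot.mk_X, AdjoinRoot.mk_C]
      exact n.add_mem (n.mul_mem_right _ hρ) (hm _ hP0)
  have hkmax : (RingHom.ker φ).IsMaximal := RingHom.ker_isMaximal_of_surjective φ hφs
  haveI : IsLocalRing (AdjoinRoot f) := IsLocalRing.of_unique_max_ideal
    ⟨_, hkmax, fun n hn => (hkmax.eq_of_le hn.ne_top (hle n hn)).symm⟩
  have hker : maximalIdeal (AdjoinRoot f) = RingHom.ker φ := (eq_maximalIdeal hkmax).symm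
  haveI := Groth.Agent.Lib.Henselian.LocalRing.henselianLocalRing_of_isIntegral O (AdjoinRoot f)
  set uu := -∑ i ∈ Finset.range e, AdjoinRoot.of f (c i) * ρ ^ i with huu
  have hφu : φ uu = - residue O (c 0) := by
    rw [huu, map_neg, map_sum, Finset.sum_eq_single 0]
    · simp [φ, ρ]
    · intro i _ hi; simp [φ, ρ, zero_pow hi]
    · intro h0; simp at h0; omega
  have hc0 : residue O (c 0) ≠ 0 := by
    intro h0
    rw [residue_eq_zero_iff, hmax, Ideal.mem_span_singleton] at h0
    apply hf.notMem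
    rw [hc 0 he, hmax, Ideal.span_singleton_pow, Ideal.mem_span_singleton, sq]
    exact mul_dvd_mul_left _ h0
  have huunit : IsUnit uu := by
    by_contra hn
    have : uu ∈ RingHom.ker φ := hker ▸ hn
    rw [RingHom.mem_ker, hφu, neg_eq_zero] at this
    exact hc0 this
  obtain ⟨b0, hb0⟩ := IsAlgClosed.exists_pow_nat_eq (- residue O (c 0)) he
  obtain ⟨b, rfl⟩ := residue_surjective b0
  have hn' : (e : ResidueField (AdjoinRoot f)) ≠ 0 := by
    intro h0
    rw [← map_natCast (residue (AdjoinRoot f)), residue_eq_zero_iff, hker, RingHom.mem_ker, map_natCast] at h0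
    exact hcast h0
  obtain ⟨w, hwu, hw, -⟩ := Groth.Agent.H23.TameRoot.exists_root hn' huunit (b := AdjoinRoot.of f b) (by
    rw [hker, RingHom.mem_ker, map_sub, map_pow, hφu, AdjoinRoot.lift_of, hb0, sub_self])
  obtain ⟨W, rfl⟩ := AdjoinRoot.mk_surjective w
  refine ⟨W, fun π hπ => ?_⟩
  let ev : AdjoinRoot f →+* L := AdjoinRoot.lift ι π hπ
  have hev : ev (AdjoinRoot.mk f W) = W.eval₂ ι π := AdjoinRoot.lift_mk _ W
  have hne : W.eval₂ ι π ≠ 0 := hev ▸ (hwu.map ev).ne_zero
  refine ⟨hne, ?_⟩
  have h1 : π ^ e = ι ϖ * W.eval₂ ι π ^ e := by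
    have := congrArg ev hpow
    rw [map_pow, map_mul, AdjoinRoot.lift_of, show ev ρ = π from AdjoinRoot.lift_root _, ← hw, map_pow, hev] at this
    exact this
  rw [div_pow, h1, mul_div_cancel_right₀ _ (pow_ne_zero _ hne)]


/-- Let O be a henselian discrete valuation ring of characteristic zero with algebraically closed
residue field of characteristic p and fraction field K, and let f ∈ O[y] be a monic polynomial of
degree e with 1 ≤ e < p which is Eisenstein at the maximal ideal of O. Then the splitting field of f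
over K has degree e over K and the Galois group of f over K is cyclic. (In the source O is complete,
e = n + 1 and f is the y-part y^{n+1} + u_n ϖ^{a_n} y^{n−1} + ⋯ + u_1 ϖ of an A_n-degeneration
meeting the discriminant transversally; the corollary's conclusion that monodromy acts through a
Coxeter element is not stated here.) -/
theorem result (O : Type u) [CommRing O] [IsDomain O]
    [IsDiscreteValuationRing O] [HenselianLocalRing O] [CharZero O] [IsAlgClosed (IsLocalRing.ResidueField O)]
    (p : ℕ) [Fact p.Prime] [CharP (IsLocalRing.ResidueField O) p]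
    (f : O[X]) (hmon : f.Monic) (e : ℕ) (hdeg : f.natDegree = e) (he : 1 ≤ e) (hep : e < p)
    (hf : f.IsEisensteinAt (IsLocalRing.maximalIdeal O)) :
    Module.finrank (FractionRing O) (f.map (algebraMap O (FractionRing O))).SplittingField = e ∧
      IsCyclic (f.map (algebraMap O (FractionRing O))).Gal := by
  classical
  obtain ⟨ϖ, hϖ⟩ := IsDiscreteValuationRing.exists_irreducible O
  have hmax := (IsDiscreteValuationRing.irreducible_iff_uniformizer ϖ).mp hϖ
  set K := FractionRing O
  have hcast : (e : IsLocalRing.ResidueField O) ≠ 0 := fun h0 => by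
    have := Nat.le_of_dvd (by omega) ((CharP.cast_eq_zero_iff _ p e).mp h0)
    omega
  obtain ⟨ζ, hζ⟩ := Groth.Agent.H23.TameRoot.exists_primitiveRoot hcast
  set F := f.map (algebraMap O K) with hF
  set L := F.SplittingField
  have hFm : F.Monic := hmon.map _
  have hFd : F.natDegree = e := by rw [hF, hmon.natDegree_map, hdeg]
  let ι : O →+* L := (algebraMap K L).comp (algebraMap O K)
  have hϖ0 : ι ϖ ≠ 0 :=
    (map_ne_zero_iff ι ((algebraMap K L).injective.comp (IsFractionRing.injective O K))).mpr hϖ.ne_zero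
  obtain ⟨π0, hπ0'⟩ := (SplittingField.splits F).exists_eval_eq_zero (by
    rw [degree_map, degree_eq_natDegree hFm.ne_zero, hFd]
    exact_mod_cast (by omega : e ≠ 0))
  have hev : ∀ π : L, aeval π F = 0 → f.eval₂ ι π = 0 := fun π hπ => by
    have h' : aeval π (f.map (algebraMap O K)) = 0 := hπ
    rwa [aeval_def, eval₂_map] at h'
  have hπ0 : aeval π0 F = 0 := by rwa [aeval_def, eval₂_eq_eval_map]
  obtain ⟨W, hw⟩ := exists_w f e hdeg he hmon hf hϖ hcast ι π0 (hev π0 hπ0)
  have hx : ∀ π : L, aeval π F = 0 → ∃ x : L, x ^ e = ι ϖ ∧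
      IntermediateField.adjoin K {π} = IntermediateField.adjoin K {x} := by
    intro π hπ
    obtain ⟨hW0, hW⟩ := hw π (hev π hπ)
    refine ⟨π / W.eval₂ ι π, hW, ?_⟩
    set x := π / W.eval₂ ι π
    have hπint : IsIntegral K π := ⟨F, hFm, by rwa [← aeval_def]⟩
    have hxmem : x ∈ IntermediateField.adjoin K {π} := by
      refine div_mem (IntermediateField.subset_adjoin K {π} rfl) ?_
      have : W.eval₂ ι π = aeval π (W.map (algebraMap O K)) := by rw [aeval_def, eval₂_map]
      rw [this]
      exact SetLike.le_def.mp (Algebra.adjoin_le (S := (IntermediateField.adjoin K {π}).toSubalgebra) (IntermediateField.subset_adjoin K {π})) (Polynomial.aeval_mem_adjoin_singleton K π)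
    haveI : FiniteDimensional K (IntermediateField.adjoin K {π}) := IntermediateField.adjoin.finiteDimensional hπint
    refine (IntermediateField.eq_of_le_of_finrank_le (IntermediateField.adjoin_simple_le_iff.mpr hxmem) ?_).symm
    rw [Groth.Agent.H23.TameRoot.finrank_adjoin hϖ (by omega) hW, IntermediateField.adjoin.finrank hπint, ← hFd]
    exact natDegree_le_of_dvd (minpoly.dvd K π hπ) hFm.ne_zero
  obtain ⟨x0, hx0, hadj0⟩ := hx π0 hπ0
  have hx00 : x0 ≠ 0 := fun h0 => by
    rw [h0, zero_pow (by omega)] at hx0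
    exact hϖ0 hx0.symm
  set E := IntermediateField.adjoin K {x0}
  have htop : E = ⊤ := by
    rw [eq_top_iff]
    intro t _
    have ht : t ∈ Algebra.adjoin K (F.rootSet L) := by rw [SplittingField.adjoin_rootSet F]; trivial
    refine (Algebra.adjoin_le (S := E.toSubalgebra) ?_) ht
    intro π hπ
    obtain ⟨x, hx1, hadj⟩ := hx π (mem_rootSet.mp hπ).2
    have hxE : x ∈ E := by
      obtain ⟨j, hj⟩ := Groth.Agent.H23.TameRoot.mem_adjoin (by omega : 0 < e) hζ hx00 (hx0.trans hx1.symm)
      rw [hj]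
      exact mul_mem (pow_mem (E.algebraMap_mem (algebraMap O K ζ)) j) (IntermediateField.subset_adjoin K {x0} rfl)
    exact IntermediateField.adjoin_simple_le_iff.mpr hxE (hadj ▸ IntermediateField.subset_adjoin K {π} rfl)
  obtain ⟨h1, h2⟩ := Groth.Agent.H23.TameRoot.finrank_isCyclic hϖ (by omega) hζ (L := L) hx0 htop
  exact ⟨h1, h2⟩

end Groth.Agent.S16053
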