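import Groth.Statements.S16057
import Groth.Agent.H68.SerreRel.Relative
import Groth.Agent.H68.SerreRel.ReesMod
import Groth.Agent.Lib.LCFin.Cd
-- import your own Groth.Agent.* helpers here

set_option autoImplicit false
universe u
open GrLC
set_option maxHeartbeats 400000

namespace Groth.Agent.S16057

open Groth.Agent.Lib.Graded Groth.Agent.Lib.Graded.Basic Groth.Agent.Lib.Graded.StarInj
open Groth.Agent.H68.SerreRel Groth.Agent.H68.SerreRel.ReesMod

section Generic

variable {R : Type u} [CommRing R] [IsNoetherianRing R] {σ : Type u} [SetLike σ R] [AddSubgroupClass σ R]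
variable {𝒜 : ℤ → σ} [GradedRing 𝒜] {a : HomogeneousIdeal 𝒜}

/-- If the cokernel has no cohomology in degree `n`, the cohomology is unchanged there. -/
theorem nonempty_equiv_of_V {X Y Z : GrLC.GMod.{u} 𝒜} {f : X.carrier →ₗ[R] Y.carrier}
    {g : Y.carrier →ₗ[R] Z.carrier} (hses : Horseshoe.SES X.gr Y.gr Z.gr f g)
    (E' : GrLC.StarInjRes 𝒜 X.gr) (E : GrLC.StarInjRes 𝒜 Y.gr) {n : ℤ} (hV : ∀ i, Van.V a Z i n) (i : ℕ) :
    Nonempty (E'.Hcomp a i n ≃ₗ[GrLC.deg0 𝒜] E.Hcomp a i n) := by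
  obtain ⟨E''⟩ := Res.nonempty_starInjRes 𝒜 Z.gr
  obtain ⟨δ, hδ, h1, h2, h3, h4⟩ := LES.exists_les E' E E'' a hses _ (Chain.lift_ε E' E _ hses.grHom_i) _
    (Chain.lift_ε E E'' _ hses.grHom_π)
  let φ := Chain.lift E' E f
  have hz : ∀ (j : ℕ) (y : E''.H a j), y ∈ E''.Hgr a j n → y = 0 := fun j =>
    (AddSubgroup.eq_bot_iff_forall _).1 (hV j E'')
  letI := Res.hgrDecomp E a i
  letI := fun j => Res.hgrDecomp E' a j
  letI := fun j => Res.hgrDecomp E'' a j
  let F : E'.Hcomp a i n →ₗ[GrLC.deg0 𝒜] E.Hcomp a i n :=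
    ((φ.hMap a i).restrictScalars (GrLC.deg0 𝒜)).restrict fun x hx => Chain.Map.hMap_grHom a φ i n x hx
  refine ⟨LinearEquiv.ofBijective F ⟨(injective_iff_map_eq_zero _).2 fun x hx => Subtype.ext ?_, fun y => ?_⟩⟩
  · have hx' : φ.hMap a i x.1 = 0 := congrArg Subtype.val hx
    cases i with
    | zero => exact h4 (hx'.trans (map_zero _).symm)
    | succ j =>
      obtain ⟨z, hz', hzx⟩ := exists_hom_preimage (hδ j) (y := x.1) x.2
        ((h3 j).le (LinearMap.mem_ker.2 hx'))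
      rw [← hzx, hz j z hz', map_zero]
      rfl
  · have hy : (Chain.lift E E'' g).hMap a i y.1 = 0 :=
      hz i _ (Chain.Map.hMap_grHom a _ i n y.1 y.2)
    obtain ⟨x, hx, hxy⟩ := exists_hom_preimage (Chain.Map.hMap_grHom a φ i) (y := y.1) y.2
      ((h1 i).le (LinearMap.mem_ker.2 hy))
    exact ⟨⟨x, hx⟩, Subtype.ext hxy⟩

section Quot

variable {M' : Type u} [AddCommGroup M'] [Module R M'] {τ : Type u} [SetLike τ M'] [AddSubgroupClass τ M']
  {ℳ' : ℤ → τ} [DirectSum.Decomposition ℳ'] [SetLike.GradedSMul 𝒜 ℳ'] {Q : Submodule R M'}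
  (hQ : Q.IsHomogeneous ℳ')

/-- The quotient map onto the bundled quotient. -/
noncomputable def qmk : M' →ₗ[R] (qMod 𝒜 ℳ' Q hQ).carrier := Q.mkQ

theorem qmk_surjective : Function.Surjective (qmk (𝒜 := 𝒜) hQ) := Q.mkQ_surjective

theorem qmk_eq_zero {x : M'} : qmk (𝒜 := 𝒜) hQ x = 0 ↔ x ∈ Q := Submodule.Quotient.mk_eq_zero Q

theorem qmk_mem {n : ℤ} {x : M'} (hx : x ∈ ℳ' n) :
    qmk (𝒜 := 𝒜) hQ x ∈ GrLC.comp 𝒜 (qMod 𝒜 ℳ' Q hQ).gr n := mkQ_mem_qGr ℳ' Q hx

theorem exists_qmk_of_mem {n : ℤ} {y : (qMod 𝒜 ℳ' Q hQ).carrier}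
    (hy : y ∈ GrLC.comp 𝒜 (qMod 𝒜 ℳ' Q hQ).gr n) : ∃ x ∈ ℳ' n, qmk (𝒜 := 𝒜) hQ x = y :=
  hy

theorem qMod_gam_eq_top (h : ∀ r ∈ a.toIdeal, ∀ x : M', r • x ∈ Q) :
    GrLC.gam a.toIdeal (qMod 𝒜 ℳ' Q hQ).carrier = ⊤ := by
  refine eq_top_iff.2 fun y _ => ⟨1, fun r hr => ?_⟩
  rw [pow_one] at hr
  obtain ⟨x, rfl⟩ := qmk_surjective hQ y
  rw [← map_smul]
  exact (qmk_eq_zero hQ).2 (h r hr x)

theorem killed_qMod (J : Ideal (GrLC.deg0 𝒜)) (h : ∀ c ∈ J, ∀ x : M', (c : R) • x ∈ Q) :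
    Killed J (qMod 𝒜 ℳ' Q hQ) := by
  intro c hc y
  obtain ⟨x, rfl⟩ := qmk_surjective hQ y
  rw [← map_smul]
  exact (qmk_eq_zero hQ).2 (h c hc x)

end Quot

/-- Pieces of the cohomology of a shift. -/
noncomputable def shiftHcompEquiv (X : GrLC.GMod.{u} 𝒜) (E : GrLC.StarInjRes 𝒜 X.gr) (i : ℕ) (k : ℕ) :
    (LES.shiftRes X.gr E 1).Hcomp a i (k : ℤ) ≃ₗ[GrLC.deg0 𝒜] E.Hcomp a i ((k + 1 : ℕ) : ℤ) where
  toFun x := ⟨x.1, ((LES.mem_shiftRes_Hgr a E 1 i k x.1).1 x.2 :)⟩
  invFun x := ⟨x.1, (LES.mem_shiftRes_Hgr a E 1 i k x.1).2 x.2⟩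
  map_add' _ _ := rfl
  map_smul' _ _ := rfl

end Generic

section Numeric

variable {R : Type u} [CommRing R] [IsNoetherianRing R] {σ : Type u} [SetLike σ R] [AddSubgroupClass σ R]
variable {𝒜 : ℤ → σ} [GradedRing 𝒜] {a : HomogeneousIdeal 𝒜}

/-- The numerical argument, abstractly. -/
theorem numeric (hp : ∀ n : ℤ, n < 0 → ∀ r ∈ 𝒜 n, r = 0) (ha : a.toIdeal = (FGInduction.posIdeal 𝒜).toIdeal)
    {J : Ideal (GrLC.deg0 𝒜)}
    (hJ : ∀ (A : Type u) [AddCommGroup A] [Module (GrLC.deg0 𝒜) A] [Module.Finite (GrLC.deg0 𝒜) A],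
      (∀ c ∈ J, ∀ y : A, c • y = 0) → IsArtinian (GrLC.deg0 𝒜) A)
    {N : ℕ} (hvan : ∀ (M : Type u) [AddCommGroup M] [Module R M] (i : ℕ), N < i →
      Subsingleton (LocCoh.H a.toIdeal i M))
    {S X G : GrLC.GMod.{u} 𝒜} {f : S.carrier →ₗ[R] X.carrier} {g : X.carrier →ₗ[R] G.carrier}
    (hses : Horseshoe.SES S.gr X.gr G.gr f g) (hXf : Module.Finite R X.carrier)
    (hGf : Module.Finite R G.carrier) (hk : Killed J G)
    (EX : GrLC.StarInjRes 𝒜 X.gr) (ES' : GrLC.StarInjRes 𝒜 S.gr)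
    (eS : ∀ (i : ℕ) (k : ℕ), Nonempty
      (ES'.Hcomp a i (k : ℤ) ≃ₗ[GrLC.deg0 𝒜] EX.Hcomp a i ((k + 1 : ℕ) : ℤ)))
    (l : ℕ → ℚ) (hl : ∀ k : ℕ, ell (GrLC.deg0 𝒜) (GrLC.comp 𝒜 G.gr (k : ℤ)) = l (k + 1) - l k)
    (P : Polynomial ℚ) (hP : ∃ N₀ : ℕ, ∀ k : ℕ, N₀ ≤ k → P.eval (k : ℚ) = l k) (n : ℕ) :
    (∀ i, IsFiniteLength (GrLC.deg0 𝒜) (EX.Hcomp a i (n : ℤ))) ∧
      Set.Finite {i : ℕ | EX.Hcomp a i (n : ℤ) ≠ ⊥} ∧
      P.eval (n : ℚ) - l n =
        finsum (fun i : ℕ => (-1 : ℚ) ^ i * ell (GrLC.deg0 𝒜) (EX.Hcomp a i (n : ℤ))) := by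
  let EG := res G
  have nX := fun i (k : ℤ) => isNoetherian_Hcomp hp ha X hXf EX i k
  have aG := fun i (k : ℤ) => isArtinian_Hcomp hp ha hJ G hGf hk EG i k
  have nG := fun i (k : ℤ) => isNoetherian_Hcomp hp ha G hGf EG i k
  obtain ⟨r, hr⟩ := Finiteness.exists_V_of_le (a := a) hp ha.ge X hXf
  have hlarge : ∀ (i : ℕ) (k : ℕ), r ≤ (k : ℤ) →
      EX.Hcomp a i (k : ℤ) = ⊥ := fun i k hk' =>
    (LES.Hcomp_eq_bot_iff _ EX i _).2 (hr i k hk' EX)
  -- finite length in nonnegative degrees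
  have aX : ∀ (j : ℕ) (k : ℕ), r ≤ (k : ℤ) + j → ∀ i, IsArtinian (GrLC.deg0 𝒜)
      (EX.Hcomp a i (k : ℤ)) := by
    intro j
    induction j with
    | zero =>
      intro k hk' i
      rw [hlarge i k (by simpa using hk')]
      infer_instance
    | succ j ih =>
      intro k hk' i
      obtain ⟨e⟩ := eS i k
      haveI := ih (k + 1) (by push_cast; push_cast at hk'; omega) i
      haveI : IsArtinian _ (ES'.Hcomp a i (k : ℤ)) :=
        isArtinian_of_linearEquiv e.symm
      haveI := aG i (k : ℤ)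
      obtain ⟨δ, -, h1, -, -, -⟩ := LES.exists_les ES' EX EG _ hses _
        (Chain.lift_ε ES' EX _ hses.grHom_i) _ (Chain.lift_ε EX EG _ hses.grHom_π)
      let φ := Chain.lift ES' EX f
      let ψ := Chain.lift EX EG g
      letI := Res.hgrDecomp ES' a i
      letI := Res.hgrDecomp EX a i
      exact isArtinian_of_range_eq_ker
        (M := ES'.Hcomp a i (k : ℤ))
        (P := EG.Hcomp a i (k : ℤ))
        (((φ.hMap _ i).restrictScalars _).restrict fun x hx => Chain.Map.hMap_grHom _ φ i _ x hx)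
        (((ψ.hMap _ i).restrictScalars _).restrict fun x hx => Chain.Map.hMap_grHom _ ψ i _ x hx)
        (Groth.Agent.Lib.Graded.SerreFormula.ker_restrict_eq_range
          (f := (φ.hMap a i).restrictScalars (GrLC.deg0 𝒜)) (g := (ψ.hMap a i).restrictScalars (GrLC.deg0 𝒜)) _ _
          (fun x => LinearMap.mem_ker.1 ((h1 i).ge ⟨x, rfl⟩))
          fun y hy h0 => exists_hom_preimage (Chain.Map.hMap_grHom _ φ i) hy ((h1 i).le (LinearMap.mem_ker.2 h0))).symm
  have aX' : ∀ (k i : ℕ), IsArtinian (GrLC.deg0 𝒜)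
      (EX.Hcomp a i (k : ℤ)) := fun k i =>
    aX (r - k).toNat k (by omega) i
  -- the difference equation
  obtain ⟨N₀, hP⟩ := hP
  let χ : ℕ → ℚ := fun k => chi a N EX (k : ℤ)
  have hstep : ∀ k : ℕ, χ k = χ (k + 1) + chi a N EG (k : ℤ) := by
    intro k
    have hS : chi a N ES' (k : ℤ) = χ (k + 1) :=
      Finset.sum_congr rfl fun i _ => congrArg _ (ell_congr _ (eS i k).some)
    rw [← hS]
    refine chi_ses hvan hses ES' EX EG (k : ℤ) (fun i => ?_) (fun i => ?_) (fun i => aX' k i)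
      (fun i => nX i k) (fun i => aG i k) (fun i => nG i k)
    · haveI := aX' (k + 1) i
      exact isArtinian_of_linearEquiv (eS i k).some.symm
    · haveI := nX i ((k + 1 : ℕ) : ℤ)
      exact isNoetherian_of_linearEquiv (eS i k).some.symm
  let Q : Polynomial ℚ := P.comp (Polynomial.X + 1) - P
  have hQ : ∀ k : ℕ, Q.eval (k : ℚ) = P.eval ((k + 1 : ℕ) : ℚ) - P.eval (k : ℚ) := fun k => by
    simp [Q, Polynomial.eval_comp]
  have hP' : ∀ k : ℕ, N₀ ≤ k → P.eval (k : ℚ) = l k := hP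
  have hGpoly : ∀ k : ℕ, ell (GrLC.deg0 𝒜)
      (GrLC.comp 𝒜 G.gr (k : ℤ)) -
        chi a N EG (k : ℤ) = Q.eval (k : ℚ) := by
    intro k
    have h := delta_eq_poly hp ha hJ hvan G hGf hk (P := Q) (n₀ := (N₀ : ℤ)) (fun m hm => by
      obtain ⟨m, rfl⟩ := Int.eq_ofNat_of_zero_le ((Int.natCast_nonneg N₀).trans hm)
      rw [Int.cast_natCast, hQ, hl m, hP' m (by omega), hP' (m + 1) (by omega)]) (k : ℤ)
    rw [Int.cast_natCast] at h
    rw [← h, delta_eq EG]
  let Φ : ℕ → ℚ := fun k => P.eval (k : ℚ) - l k - χ k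
  have hconst : ∀ k : ℕ, Φ k = Φ (k + 1) := fun k => by
    have h1 := hGpoly k
    have h2 := hstep k
    rw [hl k, hQ] at h1
    simp only [Φ]
    linarith
  have hzero : ∀ (j k : ℕ), r ≤ (k : ℤ) + j → N₀ ≤ k + j → Φ k = 0 := by
    intro j
    induction j with
    | zero =>
      intro k hk1 hk2
      have hχ : χ k = 0 := Finset.sum_eq_zero fun i _ => by
        haveI : Subsingleton (EX.Hcomp a i (k : ℤ)) := by
          rw [hlarge i k (by simpa using hk1)]; infer_instance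
        rw [ell_eq_zero, mul_zero]
      simp only [Φ, hχ, hP' k (by simpa using hk2)]
      ring
    | succ j ih =>
      intro k hk1 hk2
      rw [hconst k]
      exact ih (k + 1) (by push_cast at hk1 ⊢; omega) (by omega)
  have hΦ : Φ n = 0 := hzero ((r - n).toNat + N₀) n (by push_cast; omega) (by omega)
  have hbot : ∀ i, N < i → EX.Hcomp a i (n : ℤ) = ⊥ :=
    fun i hi => Hcomp_eq_bot hvan X EX hi _
  refine ⟨fun i => isFiniteLength_iff_isNoetherian_isArtinian.2 ⟨nX i n, aX' n i⟩,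
    (Finset.range (N + 1)).finite_toSet.subset fun i hi => by
      rw [Finset.coe_range, Set.mem_Iio]
      by_contra h
      exact hi (hbot i (by omega)), ?_⟩
  rw [finsum_eq_sum_of_support_subset _ (s := Finset.range (N + 1)) fun i hi => by
    rw [Finset.coe_range, Set.mem_Iio]
    by_contra h
    refine hi ?_
    dsimp only
    haveI : Subsingleton (EX.Hcomp a i (n : ℤ)) := by
      rw [hbot i (by omega)]; infer_instance
    change (-1 : ℚ) ^ i * ell _ (EX.Hcomp _ i (n : ℤ)) = 0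
    rw [ell_eq_zero, mul_zero]]
  change P.eval (n : ℚ) - l n = χ n
  simp only [Φ] at hΦ
  linarith


end Numeric

section Core

variable {A : Type u} [CommRing A] (I : Ideal A) (M : Type u) [AddCommGroup M] [Module A M]

local notation "Rs" => reesAlgebra I
local notation "Ms" => Ideal.Filtration.submodule (Rees.powFilt I M)
local notation "𝒢" => Rees.degZ (reesAlgebra I)
local notation "ℳ" => Rees.mdegZ (Rees.powFilt I M)
local notation "D₀" => GrLC.deg0 (Rees.degZ (reesAlgebra I))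
local notation "Irr" => GrSyz.irrel (Rees.degZ (reesAlgebra I))

/-- The Rees module, bundled. -/
noncomputable def X₀ : GrLC.GMod.{u} 𝒢 := GrLC.GMod.of 𝒢 Ms ℳ

/-- Its part of positive degree. -/
noncomputable def S₀ : GrLC.GMod.{u} 𝒢 := subMod 𝒢 (X₀ I M).gr (pos I M) (isHomogeneous_pos I M)

/-- The latter shifted. -/
noncomputable def S₁ : GrLC.GMod.{u} 𝒢 := shiftMod 𝒢 (S₀ I M).gr 1

/-- The shift down, as a map of bundled modules. -/
noncomputable def dn : (S₁ I M).carrier →ₗ[Rs] (X₀ I M).carrier := down I M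

/-- The image of the shift down. -/
noncomputable abbrev Rg : Submodule Rs Ms := LinearMap.range (down I M)

theorem dn_grHom : GrLC.IsGrHom (S₁ I M).gr (X₀ I M).gr (dn I M) :=
  fun _ _ hx => down_mem I M hx

/-- The associated graded module. -/
noncomputable def G₀ : GrLC.GMod.{u} 𝒢 :=
  qMod 𝒢 ℳ (Rg I M) (isHomogeneous_range (dn_grHom I M))

theorem ses_down : Horseshoe.SES (S₁ I M).gr (X₀ I M).gr (G₀ I M).gr (dn I M)
    (Rg I M).mkQ where
  grHom_i := dn_grHom I M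
  grHom_π _ _ hx := mkQ_mem_qGr ℳ _ hx
  injective := down_injective I M
  surjective := Submodule.mkQ_surjective _
  exact := Submodule.ker_mkQ _

/-- The degree zero ring is the base ring. -/
noncomputable def toD : A →+* D₀ where
  toFun a := ⟨algebraMap A Rs a, (Rees.mem_degZ_iff _ 0 _).2 fun m hm => by
    change (Polynomial.C a).coeff m = 0
    exact Polynomial.coeff_C_ne_zero (by omega)⟩
  map_one' := Subtype.ext (map_one _)
  map_mul' a b := Subtype.ext (map_mul _ a b)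
  map_zero' := Subtype.ext (map_zero _)
  map_add' a b := Subtype.ext (map_add _ a b)

theorem toD_bijective : Function.Bijective (toD I) := by
  refine ⟨fun a b h => Polynomial.C_injective (congrArg (fun c : D₀ => ((c : Rs) : Polynomial A)) h :), fun c => ?_⟩
  refine ⟨((c : Rs) : Polynomial A).coeff 0, Subtype.ext (Subtype.ext (Polynomial.ext fun m => ?_))⟩
  change (Polynomial.C _).coeff m = _
  rw [Polynomial.coeff_C]
  split_ifs with h
  · rw [h]
  · exact ((Rees.mem_degZ_iff _ 0 _).1 c.2 m (by omega)).symm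

/-- `A ≃ R₀`. -/
noncomputable def eD : A ≃+* D₀ := RingEquiv.ofBijective (toD I) (toD_bijective I)

theorem eD_smul (a : A) (x : Ms) : ((eD I a : D₀) : Rs) • x = a • x := algebraMap_smul Rs a x

theorem coeff_algebraMap_smul (a : A) (x : Ms) (m : ℕ) :
    ((a • x : Ms) : PolynomialModule A M).coeff m = a • (x : PolynomialModule A M).coeff m := rfl

theorem mem_N_succ {a : A} (ha : a ∈ I) {m : ℕ} {z : M} (hz : z ∈ (Rees.powFilt I M).N m) :
    a • z ∈ (Rees.powFilt I M).N (m + 1) :=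
  (Rees.powFilt I M).smul_le m (Submodule.smul_mem_smul ha hz)

theorem hRg : (Rg I M).IsHomogeneous ℳ := isHomogeneous_range (dn_grHom I M)

theorem smul_mem_Rg (c : D₀) (hc : c ∈ I.map (eD I).toRingHom) (x : Ms) : (c : Rs) • x ∈ Rg I M := by
  obtain ⟨a, ha, rfl⟩ := (Ideal.mem_map_iff_of_surjective _ (eD I).surjective).1 hc
  change ((eD I a : D₀) : Rs) • x ∈ Rg I M
  classical
  let f : ℕ →₀ M := Finsupp.mapDomain Nat.succ (a • ((x : Ms) : PolynomialModule A M).coeff)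
  have hf : ∀ m, f (m + 1) = a • ((x : Ms) : PolynomialModule A M).coeff m := fun m =>
    (Finsupp.mapDomain_apply Nat.succ_injective _ m).trans rfl
  have hf0 : f 0 = 0 := Finsupp.mapDomain_notin_range _ _ (by simp)
  let w : Ms := ⟨PolynomialModule.ofCoeff A f, fun m => by
    cases m with
    | zero => rw [PolynomialModule.coeff_ofCoeff, hf0]; exact zero_mem _
    | succ m => rw [PolynomialModule.coeff_ofCoeff, hf]; exact mem_N_succ I M ha ((x : Ms).2 m)⟩
  refine ⟨(⟨w, hf0⟩ : pos I M), Subtype.ext (PolynomialModule.ext (Finsupp.ext fun m => ?_))⟩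
  refine (coeff_down I M ⟨w, hf0⟩ m).trans ?_
  rw [eD_smul]
  exact hf m

variable [IsNoetherianRing A]

instance : IsNoetherianRing Rs := Algebra.FiniteType.isNoetherianRing A _

theorem gam_quot_pos :
    GrLC.gam (GrSyz.irrel 𝒢).toIdeal (qMod 𝒢 (X₀ I M).gr (pos I M) (isHomogeneous_pos I M)).carrier = ⊤ :=
  qMod_gam_eq_top (ℳ' := (X₀ I M).gr) (isHomogeneous_pos I M) fun _ hr x => irrel_smul_mem_pos I M hr x

theorem killed_G : Killed (I.map (eD I).toRingHom) (G₀ I M) :=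
  killed_qMod _ _ (smul_mem_Rg I M)

theorem posIdeal_eq : (GrSyz.irrel 𝒢).toIdeal = (FGInduction.posIdeal 𝒢).toIdeal := rfl

theorem hpos (n : ℤ) (hn : n < 0) (r : Rs) (hr : r ∈ 𝒢 n) : r = 0 :=
  Subtype.ext (Polynomial.ext fun m => (Rees.mem_degZ_iff _ n r).1 hr m (by omega))

theorem V_quot_pos {n : ℤ} (hn : n ≠ 0) (i : ℕ) :
    Van.V Irr (qMod 𝒢 (X₀ I M).gr (pos I M) (isHomogeneous_pos I M)) i n := by
  rcases Nat.eq_zero_or_pos i with rfl | hi
  · refine Van.V_zero_iff.2 ?_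
    rintro _ ⟨x, hx, rfl⟩ -
    exact (Submodule.Quotient.mk_eq_zero _).2 (mem_pos_of_mem I M hn hx)
  · exact Van.V_torsion (gam_quot_pos I M) hi

/-- In nonzero degrees the positive part has the same graded local cohomology. -/
theorem exists_equiv_Hcomp_pos (E : GrLC.StarInjRes 𝒢 (X₀ I M).gr) (E' : GrLC.StarInjRes 𝒢 (S₀ I M).gr)
    (i : ℕ) {n : ℤ} (hn : n ≠ 0) :
    Nonempty (E'.Hcomp Irr i n ≃ₗ[D₀] E.Hcomp Irr i n) := by
  exact nonempty_equiv_of_V (Van.ses_quot (X₀ I M) (pos I M) (isHomogeneous_pos I M)) E' E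
    (fun j => V_quot_pos I M hn j) i

variable [Module.Finite A M]

theorem finite_X : Module.Finite Rs (X₀ I M).carrier :=
  Module.Finite.iff_fg.2 (((Rees.powFilt I M).submodule_fg_iff_stable fun i => IsNoetherian.noetherian _).2
    (I.stableFiltration_stable ⊤))

theorem finite_G : Module.Finite Rs (G₀ I M).carrier :=
  FGInduction.finite_qMod (X₀ I M) (finite_X I M) _ _

end Core

section Main

variable {A : Type u} [CommRing A] [IsNoetherianRing A] [IsLocalRing A] (I : Ideal A)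
  (hI : I.radical = IsLocalRing.maximalIdeal A)
  (M : Type u) [AddCommGroup M] [Module A M] [Module.Finite A M]

local notation "Rs" => reesAlgebra I
local notation "𝒢" => Rees.degZ (reesAlgebra I)
local notation "D₀" => GrLC.deg0 (Rees.degZ (reesAlgebra I))
local notation "Irr" => GrSyz.irrel (Rees.degZ (reesAlgebra I))

include hI in
theorem artinian_of_killed (N : Type u) [AddCommGroup N] [Module D₀ N] [Module.Finite D₀ N]
    (h : ∀ c ∈ I.map (eD I).toRingHom, ∀ y : N, c • y = 0) : IsArtinian D₀ N := by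
  haveI := Pieces.isNoetherianRing_deg0 𝒢
  obtain ⟨k, hk⟩ := Ideal.exists_pow_le_of_le_radical_of_fg (I := IsLocalRing.maximalIdeal A) hI.ge
    (IsNoetherian.noetherian _)
  haveI : ((IsLocalRing.maximalIdeal A).map (eD I).toRingHom).IsMaximal :=
    Ideal.map_isMaximal_of_equiv (eD I)
  refine FinitenessApp.isArtinian_of_pow_maximal ((IsLocalRing.maximalIdeal A).map (eD I).toRingHom) k N
    fun c hc y => h c ?_ y
  rw [← Ideal.map_pow] at hc
  exact Ideal.map_mono hk hc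

include hI in
theorem artinian_quot (n : ℕ) : IsArtinian A (M ⧸ (Rees.powFilt I M).N n) := by
  obtain ⟨k, hk⟩ := Ideal.exists_pow_le_of_le_radical_of_fg (I := IsLocalRing.maximalIdeal A) hI.ge
    (IsNoetherian.noetherian _)
  refine FinitenessApp.isArtinian_of_pow_maximal (IsLocalRing.maximalIdeal A) (k * n) _ fun r hr y => ?_
  obtain ⟨x, rfl⟩ := Submodule.mkQ_surjective _ y
  rw [← map_smul, Submodule.mkQ_apply, Submodule.Quotient.mk_eq_zero]
  refine Submodule.smul_mem_smul ?_ trivial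
  exact Ideal.pow_right_mono hk n (by rwa [← pow_mul])

include hI in
theorem ell_comp_G (n : ℕ) :
    ell D₀ (GrLC.comp 𝒢 (G₀ I M).gr (n : ℤ)) =
      ell A (M ⧸ (Rees.powFilt I M).N (n + 1)) - ell A (M ⧸ (Rees.powFilt I M).N n) := by
  let F := Rees.powFilt I M
  letI : Algebra A D₀ := (eD I).toRingHom.toAlgebra
  letI : Module A (GrLC.comp 𝒢 (G₀ I M).gr (n : ℤ)) := Module.compHom _ (eD I).toRingHom
  haveI : IsScalarTower A D₀ (GrLC.comp 𝒢 (G₀ I M).gr (n : ℤ)) := IsScalarTower.of_algebraMap_smul fun _ _ => rfl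
  have hlen : Module.length A (GrLC.comp 𝒢 (G₀ I M).gr (n : ℤ)) =
      Module.length D₀ (GrLC.comp 𝒢 (G₀ I M).gr (n : ℤ)) := Module.length_eq_of_surjective (eD I).surjective
  have hadd : ∀ z w : F.N n, elt I M n (z + w) = elt I M n z + elt I M n w := fun z w =>
    congrArg Subtype.val ((Rees.mdegEquiv F n).map_add z w)
  have hsmul : ∀ (a : A) (z : F.N n), elt I M n (a • z) = ((eD I a : D₀) : Rs) • elt I M n z := fun a z =>
    (Rees.mdegEquiv_smul F n a z).trans (eD_smul I M a (elt I M n z)).symm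
  let q := qmk (𝒜 := 𝒢) (ℳ' := Rees.mdegZ F) (hRg I M)
  let f : F.N n →ₗ[A] GrLC.comp 𝒢 (G₀ I M).gr (n : ℤ) :=
    { toFun := fun z => ⟨q (elt I M n z), qmk_mem (hRg I M) (elt_mem I M n z)⟩
      map_add' := fun z w => Subtype.ext (by
        change q _ = q _ + q _
        rw [hadd, map_add])
      map_smul' := fun a z => Subtype.ext (by
        change q _ = ((eD I a : D₀) : Rs) • q _
        rw [hsmul, map_smul]) }
  have hsurj : Function.Surjective f := fun y => by
    obtain ⟨x, hx, hxy⟩ := exists_qmk_of_mem (hRg I M) y.2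
    refine ⟨⟨_, x.2 n⟩, Subtype.ext ?_⟩
    change q _ = _
    rw [← eq_elt I M hx]
    exact hxy
  let g : F.N n →ₗ[A] M ⧸ F.N (n + 1) := (F.N (n + 1)).mkQ.comp (F.N n).subtype
  have hker : LinearMap.ker f = LinearMap.ker g := by
    ext z
    constructor
    · intro hz
      have hz' : elt I M n z ∈ Rg I M :=
        (qmk_eq_zero (hRg I M)).1 (congrArg Subtype.val (LinearMap.mem_ker.1 hz))
      obtain ⟨w, hw⟩ := hz'
      have := congrArg (fun t : Ideal.Filtration.submodule F => (t : PolynomialModule A M).coeff n) hw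
      rw [LinearMap.mem_ker]
      refine (Submodule.Quotient.mk_eq_zero _).2 ?_
      have h2 : (z : M) = ((w : Ideal.Filtration.submodule F) : PolynomialModule A M).coeff (n + 1) := by
        refine Eq.trans ?_ (coeff_down I M w n)
        refine Eq.trans ?_ this.symm
        rw [coeff_elt, if_pos rfl]
      change (z : M) ∈ F.N (n + 1)
      rw [h2]
      exact (w : Ideal.Filtration.submodule F).2 (n + 1)
    · intro hz
      have hz' : (z : M) ∈ F.N (n + 1) :=
        (Submodule.Quotient.mk_eq_zero _).1 (LinearMap.mem_ker.1 hz)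
      refine LinearMap.mem_ker.2 (Subtype.ext ((qmk_eq_zero (hRg I M)).2 ?_))
      have h0 : ((elt I M (n + 1) ⟨(z : M), hz'⟩ : _) : PolynomialModule A M).coeff 0 = 0 := by
        rw [coeff_elt, if_neg (by omega)]
      refine ⟨(⟨elt I M (n + 1) ⟨(z : M), hz'⟩, h0⟩ : pos I M),
        Subtype.ext (PolynomialModule.ext (Finsupp.ext fun m => ?_))⟩
      refine (coeff_down I M _ m).trans ?_
      rw [coeff_elt, coeff_elt]
      simp
  haveI := artinian_quot I hI M (n + 1)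
  have hr := ker_add_range A ((F.N (n + 1)).mapQ (F.N n) LinearMap.id (F.antitone (Nat.le_succ n)))
  have hkerQ : LinearMap.ker ((F.N (n + 1)).mapQ (F.N n) LinearMap.id (F.antitone (Nat.le_succ n))) =
      LinearMap.range g := by
    rw [Submodule.ker_mapQ, LinearMap.range_comp, Submodule.range_subtype]
    rfl
  have hrange : LinearMap.range ((F.N (n + 1)).mapQ (F.N n) LinearMap.id (F.antitone (Nat.le_succ n))) = ⊤ := by
    rw [Submodule.range_mapQ, LinearMap.range_id, Submodule.map_top, Submodule.range_mkQ]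
  have e2 := ell_congr A ((LinearEquiv.ofEq _ _ hrange).trans Submodule.topEquiv)
  have e3 := ell_congr A (LinearEquiv.ofEq _ _ hkerQ)
  have e4 : ell A (LinearMap.range g) = ell A (GrLC.comp 𝒢 (G₀ I M).gr (n : ℤ)) :=
    ell_congr A ((g.quotKerEquivRange.symm.trans (Submodule.quotEquivOfEq _ _ hker.symm)).trans
      (f.quotKerEquivOfSurjective hsurj))
  have e5 : ell A (GrLC.comp 𝒢 (G₀ I M).gr (n : ℤ)) = ell D₀ (GrLC.comp 𝒢 (G₀ I M).gr (n : ℤ)) := by
    rw [ell, ell, hlen]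
  linarith

end Main


set_option maxHeartbeats 1600000 in
/-- Let A be a Noetherian local ring with maximal ideal m, and I an ideal of A whose radical is m (an
m-primary ideal), and M a finitely generated A-module; let R(I) = ⊕_{n ≥ 0} Iⁿ Xⁿ ⊆ A[X] be the Rees
algebra, graded by the powers of X, with irrelevant ideal R(I)_+ = ⊕_{n ≥ 1} Iⁿ Xⁿ, and M* = ⊕_{n ≥
0} IⁿM Xⁿ the Rees module of M, a graded R(I)-module; let P ∈ ℚ[t] be the Hilbert–Samuel polynomial
of M with respect to I, that is, P(n) = ℓ_A(M/IⁿM) for all sufficiently large n. Then for every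
integer n ≥ 0, writing H^i_{R(I)_+}(M*)_n for the degree-n homogeneous piece of the i-th graded
local cohomology module of M* with support in R(I)_+ (computed from any *injective resolution of M*
in the category of graded R(I)-modules), a module over R(I)_0 = A: each H^i_{R(I)_+}(M*)_n has
finite length, only finitely many of them are nonzero, and P(n) − ℓ_A(M/IⁿM) = Σ_{i ≥ 0} (−1)^i
ℓ(H^i_{R(I)_+}(M*)_n). -/
theorem result (A : Type u) [CommRing A]
    [IsNoetherianRing A] [IsLocalRing A] (I : Ideal A) (hI : I.radical = IsLocalRing.maximalIdeal A)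
    (M : Type u) [AddCommGroup M] [Module A M] [Module.Finite A M] (P : Polynomial ℚ)
    (hP : ∃ N : ℕ, ∀ n : ℕ, N ≤ n →
      P.eval (n : ℚ) = ((Module.length A (M ⧸ (I ^ n • (⊤ : Submodule A M)))).toNat : ℚ))
    (E : GrLC.StarInjRes (Rees.degZ (reesAlgebra I)) (Rees.mdegZ (Rees.powFilt I M))) (n : ℕ) :
    (∀ i : ℕ, IsFiniteLength (GrLC.deg0 (Rees.degZ (reesAlgebra I))) (E.Hcomp (GrSyz.irrel (Rees.degZ (reesAlgebra I))) i (n : ℤ))) ∧
      Set.Finite {i : ℕ | E.Hcomp (GrSyz.irrel (Rees.degZ (reesAlgebra I))) i (n : ℤ) ≠ ⊥} ∧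
      P.eval (n : ℚ) - ((Module.length A (M ⧸ (I ^ n • (⊤ : Submodule A M)))).toNat : ℚ) =
        finsum (fun i : ℕ => (-1 : ℚ) ^ i *
          ((Module.length (GrLC.deg0 (Rees.degZ (reesAlgebra I))) (E.Hcomp (GrSyz.irrel (Rees.degZ (reesAlgebra I))) i (n : ℤ))).toNat : ℚ)) := by
  obtain ⟨N, hN⟩ := Groth.Agent.Lib.LCFin.Cd.exists_cdLE (GrSyz.irrel (Rees.degZ (reesAlgebra I))).toIdeal
  obtain ⟨ES⟩ := Res.nonempty_starInjRes (Rees.degZ (reesAlgebra I)) (S₀ I M).gr
  have h := numeric (hpos I) (posIdeal_eq I) (artinian_of_killed I hI) hN (ses_down I M) (finite_X I M)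
    (finite_G I M) (killed_G I M) (E : GrLC.StarInjRes (Rees.degZ (reesAlgebra I)) (X₀ I M).gr)
    (LES.shiftRes (S₀ I M).gr ES 1)
    (fun i k => (exists_equiv_Hcomp_pos I M E ES i (n := ((k + 1 : ℕ) : ℤ)) (by omega)).map
      fun e => (shiftHcompEquiv (S₀ I M) ES i k).trans e)
    (fun k => ell A (M ⧸ (Rees.powFilt I M).N k)) (ell_comp_G I hI M) P hP n
  refine ⟨?_, ?_, ?_⟩
  · exact h.1
  · exact h.2.1.subset fun i hi => hi
  · exact h.2.2

end Groth.Agent.S16057
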