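import Groth.Statements.S16059
import Groth.Agent.H68.DemazureCone.Unit
import Groth.Agent.H68.DemazureCone.Normal
import Groth.Agent.H68.GrNormal
import Mathlib

set_option autoImplicit false
universe u
open FiltBl

namespace Groth.Agent.S16059

open DirectSum in
/-- Over a field through which the grading is linear, the criterion of `GrNormal` applies. -/
theorem finiteLength_of_normal {A : Type u} [CommRing A] [IsNoetherianRing A] (𝓕 : FiltBl.IdealFiltration A)
    [IsDomain (AssocGr.GrRing 𝓕)] (hfg : Algebra.FiniteType A 𝓕.rees) (hmax : (𝓕.F 1).IsMaximal)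
    (L : Type u) [Field L] [Algebra (AssocGr.GrRing 𝓕) L] [IsFractionRing (AssocGr.GrRing 𝓕) L]
    (hN : ∀ (p : Ideal (AssocGr.GrRing 𝓕)) [p.IsPrime],
      ¬ (HomogeneousIdeal.irrelevant (AssocGr.gr 𝓕)).toIdeal ≤ p → IsIntegrallyClosed (Localization.AtPrime p)) :
    IsFiniteLength (AssocGr.GrRing 𝓕) (↥(integralClosure (AssocGr.GrRing 𝓕) L) ⧸
      LinearMap.range (Algebra.linearMap (AssocGr.GrRing 𝓕) ↥(integralClosure (AssocGr.GrRing 𝓕) L))) := by
  classical
  haveI : IsNoetherianRing 𝓕.rees := Algebra.FiniteType.isNoetherianRing A _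
  haveI : IsNoetherianRing (AssocGr.GrRing 𝓕) :=
    isNoetherianRing_of_surjective _ _ (AssocGr.mkG 𝓕).toRingHom (AssocGr.mkG_surjective 𝓕)
  letI : Field (A ⧸ 𝓕.F 1) := Ideal.Quotient.field _
  let π : A ⧸ 𝓕.F 1 →+* AssocGr.GrRing 𝓕 := Ideal.Quotient.lift _ (algebraMap A _) fun a ha => by
    rw [AssocGr.algebraMap_eq,
      (AssocGr.inDeg_eq_zero_iff 𝓕 0 ⟨a, by rw [𝓕.zero_eq]; trivial⟩).2 ha]
    rfl
  letI : Algebra (A ⧸ 𝓕.F 1) (AssocGr.GrRing 𝓕) := π.toAlgebra
  let 𝒢 : ℕ → Submodule (A ⧸ 𝓕.F 1) (AssocGr.GrRing 𝓕) := fun n =>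
    { carrier := AssocGr.gr 𝓕 n
      add_mem' := fun hx hy => add_mem hx hy
      zero_mem' := zero_mem _
      smul_mem' := fun c x hx => by
        obtain ⟨c, rfl⟩ := Ideal.Quotient.mk_surjective c
        show π (Ideal.Quotient.mk _ c) * x ∈ AssocGr.gr 𝓕 n
        rw [show π (Ideal.Quotient.mk _ c) = algebraMap A _ c from rfl, ← Algebra.smul_def]
        exact Submodule.smul_mem _ c hx }
  letI : GradedAlgebra 𝒢 :=
    { one_mem := SetLike.GradedOne.one_mem (A := AssocGr.gr 𝓕)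
      mul_mem := fun i j x y hx hy => SetLike.GradedMul.mul_mem (A := AssocGr.gr 𝓕) hx hy
      decompose' := fun x => (decompose (AssocGr.gr 𝓕) x : ⨁ i, AssocGr.gr 𝓕 i)
      left_inv := (decompose (AssocGr.gr 𝓕)).symm_apply_apply
      right_inv := (decompose (AssocGr.gr 𝓕)).apply_symm_apply }
  refine (H68.GrNormal.normal_puncturedSpec_iff 𝒢 L fun x hx => ?_).1 fun p hp hle => ?_
  · obtain ⟨a, ha⟩ := AssocGr.inDeg_surjective 𝓕 0 ⟨x, hx⟩
    refine ⟨Ideal.Quotient.mk _ a, ?_⟩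
    show algebraMap A (AssocGr.GrRing 𝓕) a = x
    rw [AssocGr.algebraMap_eq]
    exact congrArg Subtype.val ha
  · exact hN p fun h => hle fun y hy => h hy

open AlgebraicGeometry in
/-- Normality outside the irrelevant ideal. -/
theorem normal_punctured {A : Type u} [CommRing A] [IsDomain A] (𝓕 : FiltBl.IdealFiltration A)
    [IsDomain (AssocGr.GrRing 𝓕)]
    (hr : ∀ r : ℕ, 2 ≤ r → ∃ n : ℕ, ¬ r ∣ n ∧ AssocGr.gr 𝓕 n ≠ ⊥)
    (hcart : PicF.IsInvertible (GrTwist.twist (Rees.deg 𝓕.rees) 1))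
    (hnor : ∀ x : Proj (AssocGr.gr 𝓕), IsDomain ((Proj (AssocGr.gr 𝓕)).presheaf.stalk x) ∧
      IsIntegrallyClosed ((Proj (AssocGr.gr 𝓕)).presheaf.stalk x))
    (p : Ideal (AssocGr.GrRing 𝓕)) [hp : p.IsPrime]
    (hle : ¬ (HomogeneousIdeal.irrelevant (AssocGr.gr 𝓕)).toIdeal ≤ p) :
    IsIntegrallyClosed (Localization.AtPrime p) := by
  haveI hc : (p.homogeneousCore (AssocGr.gr 𝓕)).toIdeal.IsPrime := hp.homogeneousCore
  have hle' : ¬ (HomogeneousIdeal.irrelevant (AssocGr.gr 𝓕)).toIdeal ≤ (p.homogeneousCore (AssocGr.gr 𝓕)).toIdeal :=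
    fun h => hle (h.trans (Ideal.toIdeal_homogeneousCore_le _ _))
  obtain ⟨m, a, s, ha, hs, ha', hs'⟩ := H68.DemazureCone.exists_degree_one_unit 𝓕 hr hcart _
    (p.homogeneousCore (AssocGr.gr 𝓕)).isHomogeneous hle'
  let x : Proj (AssocGr.gr 𝓕) := (⟨p.homogeneousCore (AssocGr.gr 𝓕), hc, hle'⟩ : ProjectiveSpectrum (AssocGr.gr 𝓕))
  haveI := (hnor x).2
  exact H68.DemazureCone.isIntegrallyClosed_atPrime (AssocGr.gr 𝓕) p ha hs ha' hs'
    (IsIntegrallyClosed.of_equiv (Proj.stalkIso (AssocGr.gr 𝓕) x).commRingCatIsoToRingEquiv)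

open AlgebraicGeometry in
/-- Let A be a Noetherian local ring with maximal ideal m that is a quotient of a Gorenstein ring, and F
a filtration of ideals on A (F^0 = A ⊇ F^1 ⊇ ⋯, F^i F^j ⊆ F^{i+j}) with every F^n nonzero and ⋂ F^n
= 0, whose Rees algebra R = ⊕_{n ≥ 0} F^n T^n is finitely generated over A and with F^1 of height at
least 2. Assume moreover that A is an integrally closed domain containing a field, that F^1 is
m-primary, that the associated graded ring G = ⊕_{n ≥ 0} F^n/F^{n+1} is an integral domain, and that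
there is no integer r ≥ 2 such that all nonzero homogeneous pieces of G lie in degrees divisible by
r. Let X = Proj R be the filtered blowing-up, with its twisting sheaves O_X(n), and E = Proj G,
which is the closed subscheme of X defined by the homogeneous ideal ⊕_{n ≥ 0} F^{n+1} T^n of R, so
that the ideal sheaf of E in X is isomorphic to O_X(1) and E is an effective Cartier divisor on X
exactly when O_X(1) is an invertible O_X-module. If O_X(1) is invertible (locally isomorphic to O_X)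
and E is normal (every local ring of Proj G is an integrally closed domain), then, writing Ḡ for the
integral closure of G in its fraction field, the G-module Ḡ/G has finite length. -/
theorem result
    (A : Type u) [CommRing A] [IsNoetherianRing A] [IsLocalRing A]
    (S : Type u) [CommRing S] [LocCoh.IsGorensteinRing S] (π : S →+* A) (hπ : Function.Surjective π)
    (𝓕 : FiltBl.IdealFiltration A) (hne : ∀ n, 𝓕.F n ≠ ⊥) (hsep : ⨅ n, 𝓕.F n = ⊥)
    (hfg : Algebra.FiniteType A 𝓕.rees) (hht : 2 ≤ (𝓕.F 1).height)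
    [IsDomain A] [IsIntegrallyClosed A] (k : Type u) [Field k] [Algebra k A]
    (hI : (𝓕.F 1).radical = IsLocalRing.maximalIdeal A) [IsDomain (AssocGr.GrRing 𝓕)]
    (hr : ∀ r : ℕ, 2 ≤ r → ∃ n : ℕ, ¬ r ∣ n ∧ AssocGr.gr 𝓕 n ≠ ⊥)
    (hcart : PicF.IsInvertible (GrTwist.twist (Rees.deg 𝓕.rees) 1))
    (hnor : ∀ x : Proj (AssocGr.gr 𝓕), IsDomain ((Proj (AssocGr.gr 𝓕)).presheaf.stalk x) ∧
      IsIntegrallyClosed ((Proj (AssocGr.gr 𝓕)).presheaf.stalk x))
    (L : Type u) [Field L] [Algebra (AssocGr.GrRing 𝓕) L] [IsFractionRing (AssocGr.GrRing 𝓕) L] :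
    IsFiniteLength (AssocGr.GrRing 𝓕) (↥(integralClosure (AssocGr.GrRing 𝓕) L) ⧸
      LinearMap.range (Algebra.linearMap (AssocGr.GrRing 𝓕) ↥(integralClosure (AssocGr.GrRing 𝓕) L))) := by
  have hne1 : 𝓕.F 1 ≠ ⊤ := fun h => by
    rw [h, Ideal.radical_top] at hI
    exact (IsLocalRing.maximalIdeal.isMaximal A).ne_top hI.symm
  have hprime : (𝓕.F 1).IsPrime := by
    refine ⟨hne1, fun {a b} hab => ?_⟩
    by_contra hcon
    push_neg at hcon
    exact H68.DemazureCone.mul_notMem 𝓕 (m := 0) (n := 0) (by rw [𝓕.zero_eq]; trivial) hcon.1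
      (by rw [𝓕.zero_eq]; trivial) hcon.2 hab
  have hmax : (𝓕.F 1).IsMaximal := by
    rw [← hprime.radical, hI]
    exact IsLocalRing.maximalIdeal.isMaximal A
  exact finiteLength_of_normal 𝓕 hfg hmax L fun p _ hle => normal_punctured 𝓕 hr hcart hnor p hle

end Groth.Agent.S16059
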