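import Groth.Statements.S1607
import Groth.Agent.Lib.Ideal.EffCartier
import Groth.Agent.Lib.AssPt.Basic
import Mathlib.RingTheory.Ideal.MinimalPrime.Noetherian
import Mathlib.AlgebraicGeometry.Morphisms.Affine

set_option autoImplicit false
universe u
open CategoryTheory CategoryTheory.Limits AlgebraicGeometry
open Variety

namespace Groth.Agent.S1607

/-- If X is affine and each of its local rings is Noetherian of dimension at most one, then every
quasi-compact open subscheme of X is affine. -/
theorem result (X : Scheme.{u}) [IsAffine X]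
    (hX : ∀ x : X, IsNoetherianRing (X.presheaf.stalk x) ∧ ringKrullDim (X.presheaf.stalk x) ≤ 1)
    (U : X.Opens) (hU : IsCompact (U : Set X)) : IsAffineOpen U := by
  classical
  have hT : IsAffineOpen (⊤ : X.Opens) := isAffineOpen_top X
  obtain ⟨s, hs, hU'⟩ : ∃ s : Finset Γ(X, ⊤), (∀ a ∈ s, X.basicOpen a ≤ U) ∧
      ∀ z ∈ U, ∃ a ∈ s, z ∈ X.basicOpen a := by
    choose a ha hza using fun z : U => hT.exists_basicOpen_le z (show (z : X) ∈ (⊤ : X.Opens) from trivial)
    obtain ⟨t, ht⟩ := hU.elim_finite_subcover (fun z : U => (X.basicOpen (a z) : Set X))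
      (fun z => (X.basicOpen _).isOpen) fun z hz => Set.mem_iUnion.2 ⟨⟨z, hz⟩, hza ⟨z, hz⟩⟩
    refine ⟨t.image a, fun b hb => ?_, fun z hz => ?_⟩
    · obtain ⟨i, -, rfl⟩ := Finset.mem_image.1 hb
      exact ha i
    · obtain ⟨i, hi, hzi⟩ := Set.mem_iUnion₂.1 (ht hz)
      exact ⟨_, Finset.mem_image_of_mem a hi, hzi⟩
  haveI : IsAffineHom U.ι := by
    refine isAffineHom_of_forall_exists_isAffineOpen _ fun x => ?_
    by_cases hx : x ∈ U
    · obtain ⟨W, hW, hxW, hWU⟩ := exists_isAffineOpen_mem_and_subset hx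
      exact ⟨W, hxW, hW, hW.preimage_of_isOpenImmersion U.ι (by rw [Scheme.Opens.opensRange_ι]; exact hWU)⟩
    letI := X.presheaf.algebra_section_stalk (U := ⊤) ⟨x, trivial⟩
    haveI := hT.isLocalization_stalk ⟨x, trivial⟩
    let p := (hT.primeIdealOf ⟨x, trivial⟩).asIdeal
    let R := X.presheaf.stalk x
    haveI := (hX x).1
    haveI : Ring.KrullDimLE 1 R := Ring.krullDimLE_iff.2 (by exact_mod_cast (hX x).2)
    let I : Ideal R := Ideal.span (algebraMap Γ(X, ⊤) R '' {a | X.basicOpen a ≤ U})
    -- one function vanishing off `U` and unit at the generisations in `U`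
    obtain ⟨h, hhU, hh⟩ : ∃ h : Γ(X, ⊤), X.basicOpen h ≤ U ∧ ∀ q ∈ minimalPrimes R,
        ¬ I ≤ q → algebraMap Γ(X, ⊤) R h ∉ q := by
      let J : Ideal Γ(X, ⊤) :=
        { carrier := {a | X.basicOpen a ≤ U}
          zero_mem' := by simp
          add_mem' := fun {a b} ha hb z hz => by
            rw [X.mem_basicOpen_top, map_add] at hz
            rcases IsLocalRing.isUnit_or_isUnit_of_isUnit_add hz with h | h
            · exact ha ((X.mem_basicOpen_top a z).2 h)
            · exact hb ((X.mem_basicOpen_top b z).2 h)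
          smul_mem' := fun c a ha => by
            show X.basicOpen (c * a) ≤ U
            rw [X.basicOpen_mul]
            exact inf_le_right.trans ha }
      let S : Finset (Ideal R) := (minimalPrimes.finite_of_isNoetherianRing (R := R)).toFinset.filter fun q => ¬ I ≤ q
      obtain ⟨h, hhJ, hh⟩ : ∃ h ∈ J, ∀ q ∈ S, algebraMap Γ(X, ⊤) R h ∉ q := by
        by_contra hc
        push Not at hc
        have hsub : (J : Set Γ(X, ⊤)) ⊆ ⋃ q ∈ (S : Set (Ideal R)), (q.comap (algebraMap Γ(X, ⊤) R) : Set Γ(X, ⊤)) :=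
          fun a ha => by
            obtain ⟨q, hq, haq⟩ := hc a ha
            exact Set.mem_biUnion hq haq
        obtain ⟨q, hq, hle⟩ := (Ideal.subset_union_prime (f := fun q : Ideal R => q.comap (algebraMap Γ(X, ⊤) R)) ⊥ ⊥
          (fun q hq _ _ => by
            haveI := ((minimalPrimes.finite_of_isNoetherianRing (R := R)).mem_toFinset.1 (Finset.mem_filter.1 hq).1).1.1
            exact Ideal.IsPrime.comap _)).1 hsub
        refine (Finset.mem_filter.1 hq).2 (Ideal.span_le.2 ?_)
        rintro _ ⟨a, ha, rfl⟩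
        exact hle ha
      exact ⟨h, hhJ, fun q hq hI => hh q (Finset.mem_filter.2 ⟨(minimalPrimes.finite_of_isNoetherianRing (R := R)).mem_toFinset.2 hq, hI⟩)⟩
    have key : ∀ a ∈ s, ∃ w, w ∉ p ∧ X.basicOpen w ⊓ X.basicOpen a ≤ X.basicOpen h := by
      intro a ha
      have haU : X.basicOpen a ≤ U := hs a ha
      have hax : algebraMap Γ(X, ⊤) R a ∈ (Ideal.span {algebraMap Γ(X, ⊤) R h}).radical := by
        rw [Ideal.radical_eq_sInf, Ideal.mem_sInf]
        rintro q ⟨hq, hqp⟩
        haveI := hqp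
        by_cases hmax : q = IsLocalRing.maximalIdeal R
        · subst hmax
          exact fun hu => hx (haU ((X.mem_basicOpen_top a x).2 hu))
        have hmin : q ∈ minimalPrimes R :=
          (Ring.krullDimLE_one_iff.1 inferInstance q hqp).resolve_right
            fun hm => hmax (IsLocalRing.eq_maximalIdeal hm)
        by_contra haq
        exact hh q hmin (fun hI => haq (hI (Ideal.subset_span ⟨a, haU, rfl⟩)))
          (hq (Ideal.mem_span_singleton_self _))
      obtain ⟨N, hN⟩ := Ideal.mem_radical_iff.1 hax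
      rw [← map_pow, ← Set.image_singleton, ← Ideal.map_span] at hN
      obtain ⟨w, hw, hwa⟩ := (IsLocalization.algebraMap_mem_map_algebraMap_iff p.primeCompl _ _ _).1 hN
      obtain ⟨c, hc⟩ := Ideal.mem_span_singleton'.1 hwa
      refine ⟨w, hw, fun z hz => ?_⟩
      have hu : z ∈ X.basicOpen (c * h) := by
        rw [hc, X.mem_basicOpen_top, map_mul, map_pow]
        exact ((X.mem_basicOpen_top w z).1 hz.1).mul (((X.mem_basicOpen_top a z).1 hz.2).pow N)
      rw [X.basicOpen_mul] at hu
      exact hu.2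
    choose w hwp hw using key
    let v := ∏ a ∈ s.attach, w a.1 a.2
    have hxv : x ∈ X.basicOpen v := (Groth.Agent.Lib.Ideal.EffCartier.mem_basicOpen_iff_notMem_prime hT trivial v).2
      fun hm => by
        obtain ⟨a, -, ha⟩ := ((hT.primeIdealOf ⟨x, trivial⟩).2.prod_mem_iff).1 hm
        exact hwp a.1 a.2 ha
    refine ⟨X.basicOpen v, hxv, hT.basicOpen v, ?_⟩
    have he : U.ι ⁻¹ᵁ X.basicOpen v = U.ι ⁻¹ᵁ X.basicOpen (v * h) := by
      ext z
      refine ⟨fun hz => ?_, fun hz => ?_⟩
      · show U.ι z ∈ X.basicOpen (v * h)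
        rw [X.basicOpen_mul]
        refine ⟨hz, ?_⟩
        obtain ⟨a, ha, hza⟩ := hU' (U.ι z) z.2
        refine hw a ha ⟨?_, hza⟩
        obtain ⟨k, hk⟩ : w a ha ∣ v := Finset.dvd_prod_of_mem (fun a : s => w a.1 a.2) (Finset.mem_attach s ⟨a, ha⟩)
        have h1 : U.ι z ∈ X.basicOpen (w a ha * k) := hk ▸ hz
        rw [X.basicOpen_mul] at h1
        exact h1.1
      · have h1 : U.ι z ∈ X.basicOpen (v * h) := hz
        rw [X.basicOpen_mul] at h1
        exact h1.1
    rw [he]
    refine (hT.basicOpen _).preimage_of_isOpenImmersion U.ι ?_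
    rw [Scheme.Opens.opensRange_ι, X.basicOpen_mul]
    exact inf_le_right.trans hhU
  exact isAffine_of_isAffineHom U.ι

end Groth.Agent.S1607
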