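import Groth.Statements.S16071
import Mathlib

set_option autoImplicit false
universe u
open CartDual

namespace Groth.Agent.S16071

/-- Let p be a prime, R a commutative ring of characteristic p and A = R[X]/(X^p) the Hopf algebra of
α_p over Spec R, with X primitive. Then the Cartier dual of α_p is again α_p: there is a bialgebra
isomorphism e from the dual Hopf algebra Hom_R(A, R), with the transposed structure maps, to A,
whose inverse sends X to the linear form dual to X with respect to the basis 1, X, …, X^{p-1} of A
(so e⁻¹(X) takes the value 1 on X and 0 on the other powers X^i, i < p). (Any commutative base ring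
of characteristic p is allowed.) -/
theorem result (p : ℕ) [Fact p.Prime] (R : Type u) [CommRing R] [CharP R p] :
    ∃ e : CartDual.D R (AlphaP.A p R) ≃ₐc[R] AlphaP.A p R,
      ∀ i : ℕ, i < p → (e.symm (AlphaP.x p R)) (AlphaP.x p R ^ i) = if i = 1 then 1 else 0 := by
  classical
  have h2 := (Fact.out : p.Prime).two_le
  haveI : Nontrivial R := CharP.nontrivial_of_char_ne_one (Fact.out : p.Prime).ne_one
  let b := AlphaP.basis p R
  let ξ : CartDual.D R (AlphaP.A p R) := WithConv.toConv (b.coord ⟨1, h2⟩)
  have hξ : ∀ j, ξ.ofConv (AlphaP.x p R ^ j) = if j = 1 then 1 else 0 := by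
    intro j
    by_cases hj : j < p
    · rw [show AlphaP.x p R ^ j = b ⟨j, hj⟩ by simp [b]]
      simp [ξ, Finsupp.single_apply, eq_comm]
    · rw [AlphaP.x_pow_of_le p R (not_lt.1 hj), map_zero, if_neg (by omega)]
  have hε : ∀ j, Coalgebra.counit (R := R) (AlphaP.x p R ^ j) = if j = 0 then 1 else 0 := by
    intro j
    rw [← Bialgebra.counitAlgHom_apply, map_pow, Bialgebra.counitAlgHom_apply, AlphaP.counit_x]
    rcases eq_or_ne j 0 with rfl | hj
    · simp
    · rw [zero_pow hj, if_neg hj]
  have hcomul : ∀ j : ℕ, Coalgebra.comul (R := R) (AlphaP.x p R ^ j) = ∑ i ∈ Finset.range (j + 1),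
      (j.choose i : R) • TensorProduct.tmul R (AlphaP.x p R ^ i) (AlphaP.x p R ^ (j - i)) := by
    intro j
    rw [Bialgebra.comul_pow, AlphaP.comul_x, add_pow]
    refine Finset.sum_congr rfl fun i _ => ?_
    rw [Algebra.TensorProduct.tmul_pow, Algebra.TensorProduct.tmul_pow, one_pow, one_pow,
      Algebra.TensorProduct.tmul_mul_tmul, mul_one, one_mul, Nat.cast_smul_eq_nsmul, nsmul_eq_mul, mul_comm]
  have hpow : ∀ (n j : ℕ), (ξ ^ n).ofConv (AlphaP.x p R ^ j) = if j = n ∧ j < p then (n.factorial : R) else 0 := by
    intro n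
    induction n with
    | zero =>
      intro j
      show algebraMap R R (Coalgebra.counit (R := R) (AlphaP.x p R ^ j)) = _
      rw [Algebra.algebraMap_self, RingHom.id_apply, hε]
      rcases eq_or_ne j 0 with rfl | hj
      · simp [(Fact.out : p.Prime).pos]
      · rw [if_neg hj, if_neg (fun h => hj h.1)]
    | succ n ih =>
      intro j
      by_cases hjp : j < p
      · rw [pow_succ, LinearMap.convMul_def]
        simp only [WithConv.ofConv_toConv, LinearMap.comp_apply, hcomul, map_sum, map_smul, TensorProduct.map_tmul,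
          LinearMap.mul'_apply, hξ, ih, smul_eq_mul, mul_ite, mul_one, mul_zero]
        rcases j with _ | j
        · rw [Finset.sum_range_one, if_neg (by omega), if_neg (by omega)]
        · rw [Finset.sum_eq_single j]
          · rw [if_pos (by omega)]
            by_cases hjn : j = n
            · subst hjn
              rw [if_pos ⟨rfl, by omega⟩, if_pos ⟨rfl, hjp⟩, Nat.choose_succ_self_right, Nat.factorial_succ,
                Nat.cast_mul]
            · rw [if_neg (fun h => hjn h.1), if_neg (fun h => hjn (Nat.succ_injective h.1))]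
          · intro i hi hij
            rw [if_neg]
            have := Finset.mem_range.1 hi
            omega
          · intro h; exact absurd (Finset.mem_range.2 (by omega)) h
      · rw [AlphaP.x_pow_of_le p R (not_lt.1 hjp), map_zero, if_neg (fun h => hjp h.2)]
  have hξp : ξ ^ p = 0 := by
    refine WithConv.ofConv_injective (b.ext fun i => ?_)
    rw [AlphaP.basis_apply, hpow, if_neg (fun h => absurd h.2 (by omega))]
    rfl
  let Φ : AlphaP.A p R →ₐ[R] CartDual.D R (AlphaP.A p R) := AlphaP.lift p R ξ hξp
  have hunit : ∀ i : Fin p, IsUnit (((i : ℕ).factorial : R)) := fun i =>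
    (CharP.isUnit_natCast_iff (Fact.out : p.Prime)).2 fun h => by
      have := (Fact.out : p.Prime).dvd_factorial.1 h
      omega
  let bD := (b.dualBasis.unitsSMul fun i => (hunit i).unit).map (CartDual.toDual R (AlphaP.A p R)).symm
  have hΦ : Φ.toLinearMap = (b.equiv bD (Equiv.refl _)).toLinearMap := b.ext fun i => by
    rw [LinearEquiv.coe_coe, Module.Basis.equiv_apply, AlgHom.toLinearMap_apply, Equiv.refl_apply]
    refine WithConv.ofConv_injective (b.ext fun j => ?_)
    rw [show (b i : AlphaP.A p R) = AlphaP.x p R ^ (i : ℕ) from AlphaP.basis_apply p R i, map_pow, AlphaP.lift_x,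
      show (b j : AlphaP.A p R) = AlphaP.x p R ^ (j : ℕ) from AlphaP.basis_apply p R j, hpow]
    rw [← AlphaP.basis_apply p R j]
    simp only [bD, Module.Basis.map_apply, Module.Basis.unitsSMul_apply]
    show _ = ((hunit i).unit • b.dualBasis i) (b j)
    rw [LinearMap.smul_apply, Module.Basis.dualBasis_apply_self, Units.smul_def, IsUnit.unit_spec, smul_eq_mul]
    by_cases hij : i = j
    · subst hij; simp
    · rw [if_neg (fun h => hij (Fin.ext h.1).symm), if_neg (fun h => hij h.symm), mul_zero]
  have hbij : Function.Bijective Φ := by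
    have h := (b.equiv bD (Equiv.refl _)).bijective
    rw [← LinearEquiv.coe_coe, ← hΦ] at h
    exact h
  let e := AlgEquiv.ofBijective Φ hbij
  let B := BialgEquiv.ofAlgEquiv e
    (AlphaP.algHom_ext (by
      show (Φ (AlphaP.x p R)).ofConv 1 = Coalgebra.counit (R := R) (AlphaP.x p R)
      rw [AlphaP.lift_x, AlphaP.counit_x, ← pow_zero (AlphaP.x p R), hξ]
      simp))
    (AlphaP.algHom_ext (by
      show Algebra.TensorProduct.map Φ Φ (Coalgebra.comul (R := R) (AlphaP.x p R)) =
        Coalgebra.comul (R := R) (Φ (AlphaP.x p R))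
      rw [AlphaP.comul_x, map_add, Algebra.TensorProduct.map_tmul, Algebra.TensorProduct.map_tmul, map_one,
        AlphaP.lift_x]
      apply (CartDual.ev₂ R (AlphaP.A p R)).injective
      refine TensorProduct.ext ?_
      refine b.ext fun i => b.ext fun j => ?_
      simp only [LinearMap.compr₂ₛₗ_apply, TensorProduct.mk_apply]
      rw [map_add, LinearMap.add_apply, CartDual.ev₂_tmul, CartDual.ev₂_tmul, CartDual.ev₂_coalgebra_comul_tmul,
        AlphaP.basis_apply, AlphaP.basis_apply, ← pow_add]
      have h1 : ∀ k, (1 : CartDual.D R (AlphaP.A p R)).ofConv (AlphaP.x p R ^ k) = if k = 0 then 1 else 0 := fun k => by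
        show algebraMap R R (Coalgebra.counit (R := R) (AlphaP.x p R ^ k)) = _
        rw [Algebra.algebraMap_self, RingHom.id_apply, hε]
      rw [hξ, hξ, hξ, h1, h1]
      split_ifs <;> first | ring1 | (exfalso; omega)))
  refine ⟨B.symm, fun i _ => ?_⟩
  show (Φ (AlphaP.x p R)).ofConv (AlphaP.x p R ^ i) = _
  rw [AlphaP.lift_x, hξ]

end Groth.Agent.S16071
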