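import Groth.Statements.S16073
import Groth.Agent.Lib.SmallGrpSchemes

set_option autoImplicit false
universe u
open Hopf

namespace Groth.Agent.S16073

/-- Let p be a prime and R a commutative ring of characteristic p (p = 0 in R, R nonzero). Then the
constant group scheme ℤ/p and α_p over Spec R are not isomorphic: there is no R-bialgebra
isomorphism between the Hopf algebra Maps(ℤ/p, R) of functions on the cyclic group of order p and
the Hopf algebra R[X]/(X^p) of α_p (X primitive). (Any nonzero commutative base ring of
characteristic p is allowed. The published statement allows any ring R with p·R = 0; over the zero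
ring both Hopf algebras are the zero ring and hence isomorphic, so R is assumed nonzero here.) -/
theorem result (p : ℕ) [Fact p.Prime] (R : Type u) [CommRing R] [CharP R p] :
    IsEmpty (ConstGrp.F R (Multiplicative (ZMod p)) ≃ₐc[R] AlphaP.A p R) := by
  haveI : Nontrivial R := CharP.nontrivial_of_char_ne_one (v := p) (Fact.out : p.Prime).ne_one
  refine ⟨fun φ => (Groth.Agent.Lib.SmallGrpSchemes.isEmpty_algEquiv_of_nil
    (a := (1 : Multiplicative (ZMod p))) (b := Multiplicative.ofAdd 1) (fun h => one_ne_zero (congrArg Multiplicative.toAdd h).symm)
    (Bialgebra.counitAlgHom R _) (Groth.Agent.Lib.SmallGrpSchemes.isNilpotent_alphaP p R)).false φ.toAlgEquiv⟩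

end Groth.Agent.S16073
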