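import Groth.Statements.S16076
import Groth.Agent.Lib.H58Versch
-- import your own Groth.Agent.* helpers here

set_option autoImplicit false
universe u
open scoped TensorProduct
open Versch

namespace Groth.Agent.S16076

/-- Let p be a prime, R a commutative ring of characteristic p and A = R[X]/(X^p) the Hopf algebra of
α_p over Spec R, with X primitive. Let v : A → A ⊗_R R^(Frob) be the comorphism of the Verschiebung
V : α_p^(p) → α_p (the ring map whose transpose under the canonical pairing is the relative
Frobenius of the dual Hopf algebra Hom_R(A, R)). Then V is the trivial homomorphism: v is the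
composite of the counit ε : A → R, the identity of underlying rings R → R^(Frob) and the inclusion
of the twisted factor R^(Frob) → A ⊗_R R^(Frob), i.e. v(a) = 1 ⊗ ε(a). (Any commutative base ring of
characteristic p is allowed.) -/
theorem result (p : ℕ) [Fact p.Prime] (R : Type u) [CommRing R] [CharP R p]
    (v : AlphaP.A p R →+* FrobAlg.BaseChange p R (AlphaP.A p R))
    (hv : Versch.IsVerschiebung p R (AlphaP.A p R) v) :
    v = ((Algebra.TensorProduct.includeRight (R := R) (A := AlphaP.A p R) (B := FrobAlg.Twist p R)).toRingHom.comp
          (FrobAlg.toTwist p R).toRingHom).comp (Bialgebra.counitAlgHom R (AlphaP.A p R)).toRingHom := by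
  open TensorProduct in
  apply RingHom.ext
  intro a
  apply Versch.evTw_injective p R
  intro x
  rw [(Versch.isVerschiebung_iff p R _ v).1 hv]
  show _ = Versch.evTw p R _ x ((1 : AlphaP.A p R) ⊗ₜ FrobAlg.toTwist p R (Coalgebra.counit (R := R) a))
  rw [Versch.evTw_tmul', ← map_mul]
  congr 1
  set y : CartDual.D R (AlphaP.A p R) := x - x 1 • 1 with hy
  have hy1 : y 1 = 0 := by
    rw [hy]; simp [CartDual.coe_apply, LinearMap.convOne_apply]
  have hyn : ∀ n k, k < n → (y ^ n) (AlphaP.x p R ^ k) = 0 := by
    intro n
    induction n with
    | zero => intro k hk; omega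
    | succ n ih =>
      intro k hk
      rw [pow_succ, CartDual.coe_apply, LinearMap.convMul_apply, Bialgebra.comul_pow, AlphaP.comul_x, Commute.add_pow (Commute.all _ _),
        map_sum, map_sum]
      refine Finset.sum_eq_zero fun i hi => ?_
      rw [Finset.mem_range] at hi
      rw [Algebra.TensorProduct.tmul_pow, Algebra.TensorProduct.tmul_pow, Algebra.TensorProduct.tmul_mul_tmul, one_pow, one_pow,
        mul_one, one_mul, ← nsmul_eq_mul', map_nsmul, map_nsmul, TensorProduct.map_tmul, LinearMap.mul'_apply]
      rcases Nat.lt_or_ge i n with h | h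
      · rw [← CartDual.coe_apply, ih i h, zero_mul, smul_zero]
      · rw [show k - i = 0 by omega, pow_zero, show y.ofConv 1 = 0 from hy1, mul_zero, smul_zero]
  have hy0 : y ^ p = 0 := by
    refine WithConv.ofConv_injective (LinearMap.ext fun b => ?_)
    obtain ⟨f, rfl⟩ := AlphaP.mk_surjective p R b
    induction f using Polynomial.induction_on' with
    | add f g hf hg => rw [map_add, map_add, map_add, hf, hg]
    | monomial k c =>
      rw [← Polynomial.C_mul_X_pow_eq_monomial, ← Polynomial.smul_eq_C_mul, map_smul, map_pow, AlphaP.mk_X, map_smul, map_smul]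
      rcases Nat.lt_or_ge k p with h | h
      · rw [← CartDual.coe_apply, hyn p k h]; rfl
      · rw [AlphaP.x_pow_of_le p R h, map_zero, map_zero]
  haveI : ExpChar (CartDual.D R (AlphaP.A p R)) p := ExpChar.prime Fact.out
  have hx : x = y + x 1 • 1 := (sub_add_cancel _ _).symm
  conv_lhs => rw [hx, add_pow_expChar, hy0, zero_add, smul_pow, one_pow]
  simp [CartDual.coe_apply, LinearMap.convOne_apply]

end Groth.Agent.S16076
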