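import Groth.Statements.S16077
import Mathlib.RingTheory.MvPolynomial.Ideal
import Mathlib.Algebra.CharP.Frobenius
import Mathlib.RingTheory.MvPolynomial.Basic
import Mathlib.LinearAlgebra.Dimension.Constructions
import Mathlib.Algebra.BigOperators.Fin
import Mathlib.Logic.Equiv.Basic
import Mathlib.Data.Fintype.BigOperators

set_option autoImplicit false
universe u
open CAlg

namespace Groth.Agent.S16077

open MvPolynomial in
lemma finrank_powSpan (p : ℕ) [Fact p.Prime] (k : Type u) [Field k] [CharP k p] (r : ℕ) (e : Fin r → ℕ) (m : ℕ) :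
    Module.finrank k (Submodule.span k (Set.range fun x : MvPolynomial (Fin r) k ⧸
      Ideal.span (Set.range fun i : Fin r => (X i : MvPolynomial (Fin r) k) ^ p ^ e i) => x ^ p ^ m)) =
      p ^ (∑ i, (e i - m)) := by
  classical
  have hp := (Fact.out : p.Prime)
  let I : Ideal (MvPolynomial (Fin r) k) := Ideal.span (Set.range fun i : Fin r => X i ^ p ^ e i)
  have hI : ∀ g, g ∈ I ↔ ∀ u ∈ g.support, ∃ i, p ^ e i ≤ u i := by
    intro g
    have : I = Ideal.span ((fun u => monomial u (1 : k)) '' Set.range fun i => Finsupp.single i (p ^ e i)) := by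
      rw [← Set.range_comp]; simp only [I, Function.comp_def, X_pow_eq_monomial]
    rw [this, mem_ideal_span_monomial_image]
    simp [Finsupp.single_le_iff]
  let Box := (i : Fin r) → Fin (p ^ (e i - m))
  let w : Box → (Fin r →₀ ℕ) := fun b => Finsupp.equivFunOnFinite.symm fun i => p ^ m * (b i : ℕ)
  let v : Box → (MvPolynomial (Fin r) k ⧸ I) := fun b => Ideal.Quotient.mk I (monomial (w b) 1)
  have hlt : ∀ (i : Fin r) (n : ℕ), p ^ m * n < p ^ e i ↔ n < p ^ (e i - m) := by
    intro i n
    rcases le_or_gt m (e i) with h | h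
    · conv_lhs => rw [show p ^ e i = p ^ m * p ^ (e i - m) by rw [← pow_add, Nat.add_sub_cancel' h]]
      exact Nat.mul_lt_mul_left (pow_pos hp.pos m)
    · rw [Nat.sub_eq_zero_of_le h.le, pow_zero, Nat.lt_one_iff]
      refine ⟨fun hlt => ?_, fun h0 => by subst h0; rw [mul_zero]; exact pow_pos hp.pos _⟩
      by_contra hn
      exact absurd (lt_of_le_of_lt (Nat.le_mul_of_pos_right _ (Nat.pos_of_ne_zero hn)) hlt)
        (not_lt.2 (Nat.pow_le_pow_right hp.pos h.le))
  have hwinj : Function.Injective w := by
    intro b b' h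
    funext i
    have := DFunLike.congr_fun h i
    exact Fin.ext (mul_left_cancel₀ (pow_ne_zero m hp.ne_zero) this)
  have hv : LinearIndependent k v := by
    rw [Fintype.linearIndependent_iff]
    intro c hc b
    have h0 : ∑ x, monomial (w x) (c x) ∈ I := by
      rw [← Ideal.Quotient.eq_zero_iff_mem, map_sum, ← hc]
      refine Finset.sum_congr rfl fun x _ => ?_
      rw [show v x = Ideal.Quotient.mkₐ k I (monomial (w x) 1) from rfl, ← map_smul, smul_monomial, smul_eq_mul, mul_one]
      rfl
    by_contra hne
    have hcoef : coeff (w b) (∑ x, monomial (w x) (c x)) = c b := by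
      rw [coeff_sum, Finset.sum_eq_single b (fun x _ h => by rw [coeff_monomial, if_neg (hwinj.ne h)]) (by simp),
        coeff_monomial, if_pos rfl]
    obtain ⟨i, hi⟩ := (hI _).1 h0 (w b) (by rw [mem_support_iff, hcoef]; exact hne)
    exact absurd hi (not_le.2 ((hlt i _).2 (b i).2))
  have hspan : Submodule.span k (Set.range v) = Submodule.span k (Set.range fun x : MvPolynomial (Fin r) k ⧸ I => x ^ p ^ m) := by
    apply le_antisymm
    · refine Submodule.span_mono ?_
      rintro _ ⟨b, rfl⟩
      refine ⟨Ideal.Quotient.mk I (monomial (Finsupp.equivFunOnFinite.symm fun i => (b i : ℕ)) 1), ?_⟩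
      show _ ^ p ^ m = v b
      rw [← map_pow, monomial_pow, one_pow]
      rw [show p ^ m • Finsupp.equivFunOnFinite.symm (fun i => (b i : ℕ)) = w b by ext i; simp [w]]
    · rw [Submodule.span_le]
      rintro _ ⟨x, rfl⟩
      obtain ⟨g, rfl⟩ := Ideal.Quotient.mk_surjective x
      show (Ideal.Quotient.mk I g) ^ p ^ m ∈ Submodule.span k (Set.range v)
      rw [← map_pow, ← iterateFrobenius_def, g.as_sum, map_sum, map_sum]
      refine Submodule.sum_mem _ fun u _ => ?_
      rw [iterateFrobenius_def, monomial_pow]
      by_cases hu : ∀ i, u i < p ^ (e i - m)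
      · have : (p ^ m • u) = w fun i => ⟨u i, hu i⟩ := by ext i; simp [w]
        rw [this, ← mul_one (coeff u g ^ p ^ m), ← smul_eq_mul, ← smul_monomial, ← Ideal.Quotient.mkₐ_eq_mk k,
          map_smul]
        exact Submodule.smul_mem _ _ (Submodule.subset_span ⟨_, rfl⟩)
      · push Not at hu
        obtain ⟨i, hi⟩ := hu
        rw [Ideal.Quotient.eq_zero_iff_mem.2 ((hI _).2 fun t ht => ⟨i, ?_⟩)]
        · exact zero_mem _
        · rw [Finset.mem_singleton.1 (support_monomial_subset ht)]
          rw [Finsupp.smul_apply, smul_eq_mul]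
          exact not_lt.1 fun h => absurd ((hlt i _).1 h) (not_lt.2 hi)
  rw [← hspan, finrank_span_eq_card hv, Fintype.card_pi]
  simp only [Fintype.card_fin]
  exact (Finset.prod_pow_eq_pow_sum _ _ _)


/-- Let k be a perfect field of characteristic p > 0 and let e_1, …, e_r ≥ 1 and f_1, …, f_s ≥ 1 be
natural numbers. If the k-algebras k[X_1, …, X_r]/(X_i^{p^{e_i}} : 1 ≤ i ≤ r) and k[X_1, …,
X_s]/(X_j^{p^{f_j}} : 1 ≤ j ≤ s) are isomorphic, then r = s and (f_j) is a permutation of (e_i):
there is a bijection σ between the index sets with f_{σ(i)} = e_i. Such truncated polynomial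
algebras are the coordinate rings of the connected finite k-group schemes, and the row says that the
number of variables and the exponents are invariants of the group, indeed of its algebra. (Only this
invariance is stated here; the existence of such a presentation for every connected finite k-group
is a separate statement.) -/
theorem result (p : ℕ) [Fact p.Prime] (k : Type u) [Field k]
    [CharP k p] [PerfectField k] (r s : ℕ) (e : Fin r → ℕ) (f : Fin s → ℕ) (he : ∀ i, 1 ≤ e i) (hf : ∀ j, 1 ≤ f j)
    (φ : (MvPolynomial (Fin r) k ⧸ Ideal.span (Set.range fun i : Fin r => (MvPolynomial.X i : MvPolynomial (Fin r) k) ^ p ^ e i)) ≃ₐ[k]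
      (MvPolynomial (Fin s) k ⧸ Ideal.span (Set.range fun j : Fin s => (MvPolynomial.X j : MvPolynomial (Fin s) k) ^ p ^ f j))) :
    ∃ σ : Fin r ≃ Fin s, ∀ i : Fin r, f (σ i) = e i := by
  classical
  have hp := (Fact.out : p.Prime)
  have hS : ∀ m, ∑ i, (e i - m) = ∑ j, (f j - m) := by
    intro m
    apply Nat.pow_right_injective hp.two_le
    show p ^ _ = p ^ _
    rw [← finrank_powSpan p k r e m, ← finrank_powSpan p k s f m, ← (φ.toLinearEquiv.finrank_map_eq _),
      Submodule.map_span]
    refine congrArg (fun t : Set _ => Module.finrank k (Submodule.span k t)) ?_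
    ext x
    constructor
    · rintro ⟨_, ⟨y, rfl⟩, rfl⟩; exact ⟨φ y, (map_pow φ y _).symm⟩
    · rintro ⟨y, rfl⟩
      obtain ⟨z, rfl⟩ := φ.surjective y
      exact ⟨_, ⟨z, rfl⟩, map_pow φ z _⟩
  have hgt : ∀ m, (Finset.univ.filter fun i => m < e i).card = (Finset.univ.filter fun j => m < f j).card := by
    intro m
    have key : ∀ {t : ℕ} (g : Fin t → ℕ), ∑ i, (g i - m) = ∑ i, (g i - (m + 1)) + (Finset.univ.filter fun i => m < g i).card := by
      intro t g
      rw [Finset.card_filter, ← Finset.sum_add_distrib]
      exact Finset.sum_congr rfl fun i _ => by split_ifs <;> omega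
    have := hS m
    rw [key e, key f, hS (m + 1)] at this
    omega
  have heq : ∀ v, Fintype.card {i // e i = v} = Fintype.card {j // f j = v} := by
    intro v
    rcases v with _ | v
    · rw [Fintype.card_eq_zero_iff.2 ⟨fun i => by have := he i.1; have := i.2; omega⟩,
        Fintype.card_eq_zero_iff.2 ⟨fun i => by have := hf i.1; have := i.2; omega⟩]
    have key : ∀ {t : ℕ} (g : Fin t → ℕ), (Finset.univ.filter fun i => v < g i).card =
        Fintype.card {i // g i = v + 1} + (Finset.univ.filter fun i => v + 1 < g i).card := by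
      intro t g
      rw [Fintype.card_subtype, ← Finset.card_union_of_disjoint]
      · congr 1; ext i; simp only [Finset.mem_union, Finset.mem_filter, Finset.mem_univ, true_and]; omega
      · rw [Finset.disjoint_filter]; intro i _ h; omega
    have := hgt v
    rw [key e, key f, hgt (v + 1)] at this
    omega
  exact ⟨Equiv.ofFiberEquiv fun v => Fintype.equivOfCardEq (heq v), fun i => Equiv.ofFiberEquiv_map _ i⟩

end Groth.Agent.S16077
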