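import Groth.Statements.S16078
import Groth.Agent.Lib.OT67.UnitComp

set_option autoImplicit false
universe u
open scoped TensorProduct
open Hopf

open scoped TensorProduct

namespace Groth.Agent.S16078

/-- Let R be a henselian Noetherian local ring, A and A'' commutative Hopf algebras over R which are
finite and flat as R-modules, and A'' → A an R-algebra homomorphism compatible with
comultiplications and counits making A faithfully flat over A'' (a faithfully flat homomorphism π :
G → G'' of finite flat R-groups); let J ⊆ A be the ideal generated by the image of the augmentation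
ideal of A'' (G' = Spec A/J = ker π, so that 1 → G' → G → G'' → 1 is exact). Let e ∈ A and e'' ∈ A''
be idempotents with ε(e) = 1, ε(e'') = 1 and A/(1 − e), A''/(1 − e'') local rings (the unit
components G⁰ and G''⁰), and let e' ∈ A be an element whose image in A/J is an idempotent, with
ε(e') = 1 and A/(J + (1 − e')) local (so G'⁰ = Spec (A/J)/(1 − e') is the unit component of G').
Suppose g : A''/(1 − e'') → A/(1 − e) is the ring homomorphism induced by A'' → A (the restriction
π⁰ : G⁰ → G''⁰ of π, which exists because G⁰ is connected). Then g is faithfully flat, and e ≡ e'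
modulo J, i.e. J + (1 − e) = J + (1 − e') and the kernel of π⁰, which is cut out in G⁰ by J, is
exactly G'⁰: the sequence 1 → G'⁰ → G⁰ → G''⁰ → 1 is exact. (The published statement also asserts
exactness of the maximal étale quotient G ↦ G^ét, not stated here.) -/
theorem result (R : Type u) [CommRing R] [HenselianLocalRing R]
    [IsNoetherianRing R] (A A'' : Type u) [CommRing A] [HopfAlgebra R A] [Module.Finite R A] [Module.Flat R A]
    [CommRing A''] [HopfAlgebra R A''] [Module.Finite R A''] [Module.Flat R A'']
    [Algebra A'' A] [IsScalarTower R A'' A] [Module.FaithfullyFlat A'' A]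
    (hΔ : (Bialgebra.comulAlgHom R A).comp (IsScalarTower.toAlgHom R A'' A) =
      (Algebra.TensorProduct.map (IsScalarTower.toAlgHom R A'' A) (IsScalarTower.toAlgHom R A'' A)).comp
        (Bialgebra.comulAlgHom R A''))
    (hε : (Bialgebra.counitAlgHom R A).comp (IsScalarTower.toAlgHom R A'' A) = Bialgebra.counitAlgHom R A'')
    (e : A) (he : IsIdempotentElem e) (heε : Bialgebra.counitAlgHom R A e = 1)
    [IsLocalRing (A ⧸ Ideal.span ({1 - e} : Set A))]
    (e'' : A'') (he'' : IsIdempotentElem e'') (he''ε : Bialgebra.counitAlgHom R A'' e'' = 1)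
    [IsLocalRing (A'' ⧸ Ideal.span ({1 - e''} : Set A''))]
    (e' : A) (he' : IsIdempotentElem (Ideal.Quotient.mk ((RingHom.ker (Bialgebra.counitAlgHom R A'')).map (algebraMap A'' A)) e'))
    (he'ε : Bialgebra.counitAlgHom R A e' = 1)
    [IsLocalRing (A ⧸ (((RingHom.ker (Bialgebra.counitAlgHom R A'')).map (algebraMap A'' A)) ⊔ Ideal.span ({1 - e'} : Set A)))]
    (g : (A'' ⧸ Ideal.span ({1 - e''} : Set A'')) →+* (A ⧸ Ideal.span ({1 - e} : Set A)))
    (hg : g.comp (Ideal.Quotient.mk (Ideal.span ({1 - e''} : Set A''))) =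
      (Ideal.Quotient.mk (Ideal.span ({1 - e} : Set A))).comp (algebraMap A'' A)) :
    g.FaithfullyFlat ∧
      Ideal.Quotient.mk ((RingHom.ker (Bialgebra.counitAlgHom R A'')).map (algebraMap A'' A)) e = Ideal.Quotient.mk ((RingHom.ker (Bialgebra.counitAlgHom R A'')).map (algebraMap A'' A)) e' := by
  classical
  let εA := Bialgebra.counitAlgHom R A
  let J := (RingHom.ker (Bialgebra.counitAlgHom R A'')).map (algebraMap A'' A)
  let I := Ideal.span ({1 - e} : Set A)
  let I'' := Ideal.span ({1 - e''} : Set A'')
  refine ⟨?_, ?_⟩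
  · algebraize [g]
    haveI : IsScalarTower A'' (A'' ⧸ I'') (A ⧸ I) := IsScalarTower.of_algebraMap_eq' hg.symm
    haveI : Module.Finite A'' A := Module.Finite.of_restrictScalars_finite R A'' A
    haveI : Module.Finite A'' (A ⧸ I) := Module.Finite.quotient A'' I
    haveI : Module.Finite (A'' ⧸ I'') (A ⧸ I) := Module.Finite.of_restrictScalars_finite A'' _ _
    haveI : Module.Flat A'' (A ⧸ I) := Groth.Agent.Lib.OT67.flat_component (R := A'') he
    haveI : Module.Flat (A'' ⧸ I'') (A ⧸ I) := by
      have h1 : Module.Flat (A'' ⧸ I'') ((A'' ⧸ I'') ⊗[A''] (A ⧸ I)) := inferInstance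
      have hsurj : Function.Surjective (algebraMap A'' (A'' ⧸ I'')) := Ideal.Quotient.mk_surjective
      let s : (A ⧸ I) →ₗ[A'' ⧸ I''] (A'' ⧸ I'') ⊗[A''] (A ⧸ I) :=
        { toFun := fun x => (1 : A'' ⧸ I'') ⊗ₜ[A''] x
          map_add' := fun x y => TensorProduct.tmul_add _ _ _
          map_smul' := fun c x => by
            obtain ⟨c, rfl⟩ := hsurj c
            simp only [algebraMap_smul, TensorProduct.tmul_smul, RingHom.id_apply] }
      exact Module.Flat.of_retract s (LinearMap.liftBaseChange (A'' ⧸ I'')
        (LinearMap.id : (A ⧸ I) →ₗ[A''] (A ⧸ I))) (LinearMap.ext fun x => by simp [s])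
    haveI : Module.Free (A'' ⧸ I'') (A ⧸ I) := Module.free_of_flat_of_isLocalRing
    rw [show g = algebraMap (A'' ⧸ I'') (A ⧸ I) from rfl, RingHom.faithfullyFlat_algebraMap_iff]
    infer_instance
  · let εQ : (A ⧸ J) →ₐ[R] R := Ideal.Quotient.liftₐ J εA fun a ha => by
      have hεJ : J ≤ RingHom.ker εA := by
        rw [Ideal.map_le_iff_le_comap]
        intro x hx
        exact (DFunLike.congr_fun hε x).trans hx
      exact hεJ ha
    have hu : ∀ (a b : A), IsIdempotentElem (Ideal.Quotient.mk J a) → IsIdempotentElem (Ideal.Quotient.mk J b) →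
        εA a = 1 → εA b = 1 → IsLocalRing (A ⧸ (J ⊔ Ideal.span ({1 - a} : Set A))) →
        Ideal.Quotient.mk J a = Ideal.Quotient.mk J a * Ideal.Quotient.mk J b := by
      intro a b ha hb hεa hεb hloc
      let Ka := J ⊔ Ideal.span ({1 - a} : Set A)
      let εa : (A ⧸ Ka) →ₐ[R] R := Ideal.Quotient.liftₐ Ka εA fun x hx => by
        have hle : Ka ≤ RingHom.ker εA := sup_le (fun y hy => by
          have h := εQ.toRingHom.congr_arg ((Ideal.Quotient.eq_zero_iff_mem (I := J)).2 hy)
          rw [map_zero] at h
          exact h) (by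
          rw [Ideal.span_le, Set.singleton_subset_iff, SetLike.mem_coe, RingHom.mem_ker, map_sub, map_one, hεa, sub_self])
        exact hle hx
      have h1 : Ideal.Quotient.mk Ka b = 1 :=
        Groth.Agent.Lib.OT67.eq_one_of_point εa (by
          have := hb.map (Ideal.Quotient.factor (le_sup_left : J ≤ Ka))
          simpa using this) hεb
      rw [← map_one (Ideal.Quotient.mk Ka), Ideal.Quotient.eq, Submodule.mem_sup] at h1
      obtain ⟨j, hj, i, hi, hji⟩ := h1
      obtain ⟨c, rfl⟩ := Ideal.mem_span_singleton'.1 hi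
      have h2 := congrArg (fun z => Ideal.Quotient.mk J a * Ideal.Quotient.mk J z) hji
      simp only [map_add, map_mul, map_sub, map_one, Ideal.Quotient.eq_zero_iff_mem.2 hj, zero_add] at h2
      linear_combination (Ideal.Quotient.mk J c) * ha.eq + h2
    have hloc : IsLocalRing (A ⧸ (J ⊔ I)) := by
      haveI : Nontrivial (A ⧸ (J ⊔ I)) := Ideal.Quotient.nontrivial_iff.2 fun h => by
        have hle : J ⊔ I ≤ RingHom.ker εA := sup_le (fun y hy => by
          have h := εQ.toRingHom.congr_arg ((Ideal.Quotient.eq_zero_iff_mem (I := J)).2 hy)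
          rw [map_zero] at h
          exact h) (by
          rw [Ideal.span_le, Set.singleton_subset_iff, SetLike.mem_coe, RingHom.mem_ker, map_sub, map_one, heε, sub_self])
        exact RingHom.ker_ne_top εA (top_le_iff.1 (h ▸ hle))
      exact IsLocalRing.of_surjective' (Ideal.Quotient.factor (le_sup_right : I ≤ J ⊔ I))
        (Ideal.Quotient.factor_surjective _)
    have h1 := hu e e' (he.map _) he' heε he'ε hloc
    have h2 := hu e' e he' (he.map _) he'ε heε inferInstance
    exact h1.trans (by rw [mul_comm]; exact h2.symm)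

end Groth.Agent.S16078
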