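import Groth.Statements.S16098
import Groth.Agent.H2.AdDense
import Groth.Agent.Lib.FunFld.Rational

set_option autoImplicit false
universe u
open AdFn

namespace Groth.Agent.S16098

/-- Let `K/k` be a function field of one variable (every element having finitely many poles, so that the
diagonal `K → A_K` exists), `A_K = ∏'_v (K_v, O_v)` its adele ring over all places, and `S` a
nonempty set of places. (1) For every adele `a` some `f ∈ K` has `a_v - f ∈ O_v` at every place `v ∉
S`: `A_K` is the sum of the principal adeles and the adeles integral outside `S`. (2) An adele `b`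
with `b_v = 0` for `v ∉ S` is a principal adele plus an everywhere-integral adele exactly when some
`S`-integer `f ∈ K` has `b_v - f ∈ O_v` for every `v ∈ S`. (The published statement is for a curve
over an algebraically closed field, possibly singular; here it is stated for the places of a
function field `K/k` of one variable over any field `k` algebraically closed in `K`.) -/
theorem result (k K : Type u) [Field k] [Field K]
    [Algebra k K] (hK : FunFld.IsFunctionField k K) [AdFn.HasFinitePoles k K]
    (S : Set (FunFld.Place k K)) (hS : S.Nonempty) :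
    (∀ a : AdFn.AdeleRing k K, ∃ f : K, ∀ v : FunFld.Place k K, v ∉ S →
        AdFn.AdeleRing.proj v (a - AdFn.AdeleRing.diag f) ∈ AdFn.Ov v) ∧
    (∀ b : AdFn.AdeleRing k K, (∀ v : FunFld.Place k K, v ∉ S → AdFn.AdeleRing.proj v b = 0) →
        ((∃ f : K, ∀ v : FunFld.Place k K, AdFn.AdeleRing.proj v (b - AdFn.AdeleRing.diag f) ∈ AdFn.Ov v) ↔
          ∃ f ∈ AdFn.SInt S, ∀ v ∈ S, AdFn.AdeleRing.proj v b - AdFn.toKv v f ∈ AdFn.Ov v)) := by
  classical
  refine ⟨fun a => ?_, fun b hb => ⟨fun ⟨f, hf⟩ => ⟨f, fun v hv => ?_, fun v hv => ?_⟩,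
    fun ⟨f, hfS, hf⟩ => ⟨f, fun v => ?_⟩⟩⟩
  · obtain ⟨P, hP⟩ := hS
    obtain ⟨N₀, hN₀⟩ := Lib.FunFld.Riemann.exists_bound_delta_eq hK
    let D : FunFld.Divisor k K := Finsupp.single P (max N₀ 0)
    have hdeg : N₀ ≤ D.deg := by
      rw [Lib.FunFld.Degree.deg_single]
      exact (le_max_left _ _).trans (le_mul_of_one_le_right (le_max_right _ _)
        (by exact_mod_cast Lib.FunFld.Existence.deg_pos hK P))
    choose c hc using fun v => H2.exists_sub_mem_Ov v (AdeleRing.proj v a)
    let c' : FunFld.Place k K → K := fun v => if AdeleRing.proj v a ∈ Ov v then 0 else c v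
    have hc' : ∀ v, AdeleRing.proj v a - toKv v (c' v) ∈ Ov v := fun v => by
      by_cases h : AdeleRing.proj v a ∈ Ov v
      · simp [c', h]
      · simpa [c', h] using hc v
    have hmem : c' ∈ FunFld.adele k K := a.2.mono fun v hv => by
      have hv' : AdeleRing.proj v a ∈ Ov v := hv
      simp [c', hv']
    rw [Lib.FunFld.Riemann.adele_eq_of_delta_eq hK (hN₀ D hdeg)] at hmem
    obtain ⟨b, hb, _, ⟨y, rfl⟩, hby⟩ := Submodule.mem_sup.mp hmem
    refine ⟨y, fun v hv => ?_⟩
    have hbv : v.1 (b v) ≤ 1 := by
      have := hb v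
      rwa [show D v = 0 from Finsupp.single_eq_of_ne (fun h => hv (h ▸ hP)), WithZero.exp_zero] at this
    have e : b v = c' v - y := by rw [← hby]; simp [FunFld.diag]
    rw [map_sub, AdeleRing.proj_diag,
      show AdeleRing.proj v a - toKv v y = (AdeleRing.proj v a - toKv v (c' v)) + toKv v (b v) by
        rw [e, map_sub]; ring]
    exact add_mem (hc' v) ((toKv_mem_Ov v _).2 hbv)
  · have := hf v
    rwa [map_sub, hb v hv, AdeleRing.proj_diag, zero_sub, neg_mem_iff, toKv_mem_Ov] at this
  · simpa only [map_sub, AdeleRing.proj_diag] using hf v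
  · rw [map_sub, AdeleRing.proj_diag]
    by_cases hv : v ∈ S
    · exact hf v hv
    · rw [hb v hv, zero_sub, neg_mem_iff, toKv_mem_Ov]
      exact hfS v hv

end Groth.Agent.S16098
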