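import Groth.Statements.S16099
import Groth.Agent.Lib.FunFld.Rational
-- import your own Groth.Agent.* helpers here

set_option autoImplicit false
universe u
open FunFld

namespace Groth.Agent.S16099
open Groth.Agent.Lib.FunFld.Place Groth.Agent.Lib.FunFld.Bound Groth.Agent.Lib.FunFld.Existence Groth.Agent.Lib.FunFld.Degree Groth.Agent.Lib.FunFld.Riemann Groth.Agent.Lib.FunFld.Weil Groth.Agent.Lib.FunFld.Rational

/-- For a function field `K/k` of one variable of genus `g` and any place `P`, the `k`-space `K /
(O_{\{P\}} + O_P)` is finite-dimensional of dimension `g` (the number of Weierstrass gaps when `P`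
is rational), where `O_{\{P\}}` is the ring of elements of `K` integral at every place other than
`P` and `O_P` is the valuation ring of `P` (written as the elements integral at every place outside
the complement of `\{P\}`). (The published example is for a curve over an algebraically closed field
and is stated with completions at `P`; this is the equivalent form inside `K`, over any field `k`
algebraically closed in `K`.) -/
theorem result (k K : Type u) [Field k] [Field K]
    [Algebra k K] (hK : FunFld.IsFunctionField k K) (P : FunFld.Place k K) :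
    FiniteDimensional k (K ⧸ (Subalgebra.toSubmodule (AdFn.SInt ({P} : Set (FunFld.Place k K))) ⊔
        Subalgebra.toSubmodule (AdFn.SInt (({P} : Set (FunFld.Place k K))ᶜ)))) ∧
    Module.finrank k (K ⧸ (Subalgebra.toSubmodule (AdFn.SInt ({P} : Set (FunFld.Place k K))) ⊔
        Subalgebra.toSubmodule (AdFn.SInt (({P} : Set (FunFld.Place k K))ᶜ)))) = FunFld.genus k K := by
  classical
  obtain ⟨N, hN⟩ := exists_bound_delta_eq hK
  set W := Subalgebra.toSubmodule (AdFn.SInt ({P} : Set (FunFld.Place k K))) ⊔
    Subalgebra.toSubmodule (AdFn.SInt (({P} : Set (FunFld.Place k K))ᶜ))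
  let i : K →ₗ[k] ↥(FunFld.adele k K) := LinearMap.codRestrict _
    (LinearMap.single k (fun _ : FunFld.Place k K => K) P) (fun x => by
      refine Filter.mem_cofinite.mpr ((Set.finite_singleton P).subset fun Q hQ => ?_)
      by_contra hne
      refine hQ (show Q.1 (Pi.single (M := fun _ => K) P x Q) ≤ 1 from ?_)
      rw [Pi.single_eq_of_ne (show Q ≠ P from hne)]; simp)
  let f : K →ₗ[k] ↥(FunFld.adele k K) ⧸ FunFld.ADK (0 : FunFld.Divisor k K) := Submodule.mkQ _ ∘ₗ i
  have hker : f.ker = W := by
    ext x
    refine (Submodule.Quotient.mk_eq_zero _).trans ⟨fun h => ?_, fun h => ?_⟩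
    · obtain ⟨b, hb, _, ⟨c, rfl⟩, hbc⟩ := Submodule.mem_sup.mp h
      refine Submodule.mem_sup.mpr ⟨c, fun Q hQ => ?_, x - c, fun Q hQ => ?_, add_sub_cancel _ _⟩
      · have : b Q + c = Pi.single (M := fun _ => K) P x Q := congrFun hbc Q
        rw [Pi.single_eq_of_ne (show Q ≠ P from hQ)] at this
        rw [eq_neg_of_add_eq_zero_right this, Valuation.map_neg]
        exact hb Q
      · obtain rfl : Q = P := not_not.mp hQ
        have : b Q + c = Pi.single (M := fun _ => K) Q x Q := congrFun hbc Q
        rw [Pi.single_eq_same] at this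
        rw [← this, add_sub_cancel_right]
        exact hb Q
    · obtain ⟨c, hc, d, hd, hcd⟩ := Submodule.mem_sup.mp h
      refine Submodule.mem_sup.mpr ⟨Pi.single (M := fun _ => K) P x - FunFld.diag k K c, fun Q => ?_,
        FunFld.diag k K c, ⟨c, rfl⟩, sub_add_cancel _ _⟩
      change Q.1 (Pi.single (M := fun _ => K) P x Q - c) ≤ WithZero.exp 0
      rcases eq_or_ne Q P with rfl | hQ
      · rw [Pi.single_eq_same, ← hcd, add_sub_cancel_left]
        exact hd Q (by simp)
      · rw [Pi.single_eq_of_ne hQ, zero_sub, Valuation.map_neg]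
        exact hc Q (by simpa using hQ)
  have hsurj : Function.Surjective f := by
    intro w
    obtain ⟨⟨a, ha⟩, rfl⟩ := Submodule.mkQ_surjective _ w
    have hD : N ≤ FunFld.Divisor.deg (Finsupp.single P (max N 0)) := by
      rw [deg_single]
      exact (le_max_left _ _).trans (le_mul_of_one_le_right (le_max_right _ _)
        (by exact_mod_cast deg_pos hK P))
    have ha' := ha
    rw [adele_eq_of_delta_eq hK (hN _ hD)] at ha'
    obtain ⟨b, hb, c, hc, hbc⟩ := Submodule.mem_sup.mp ha'
    refine ⟨b P, (Submodule.Quotient.eq _).mpr ?_⟩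
    refine Submodule.mem_sup.mpr ⟨Pi.single (M := fun _ => K) P (b P) - b, fun Q => ?_, -c,
      Submodule.neg_mem _ hc, ?_⟩
    · rcases eq_or_ne Q P with rfl | hQ
      · simp
      · have := hb Q
        rw [Finsupp.single_eq_of_ne hQ] at this
        simpa [Pi.single_eq_of_ne hQ] using this
    · change _ = Pi.single (M := fun _ => K) P (b P) - a
      rw [← hbc]; abel
  obtain ⟨hfin, hrank⟩ := finrank_adele_quot hK (0 : FunFld.Divisor k K)
  have := hfin
  rw [delta_zero hK, sub_zero] at hrank
  rw [← hker]
  let e := f.quotKerEquivOfSurjective hsurj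
  exact ⟨e.symm.finiteDimensional, by rw [e.finrank_eq]; exact_mod_cast hrank⟩

end Groth.Agent.S16099
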