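import Groth.Statements.S1610
import Groth.Agent.H2.Rigid.GeomRedAt
import Mathlib.FieldTheory.PurelyInseparable.PerfectClosure
-- import your own Groth.Agent.* helpers here

set_option autoImplicit false
universe u
open CategoryTheory CategoryTheory.Limits AlgebraicGeometry
open Variety

namespace Groth.Agent.S1610

open Groth.Agent.H52.FBase TensorProduct

/-- A local algebra which stays reduced after every finite subextension of a perfect purely
inseparable extension is geometrically reduced. -/
theorem isGeomRed {k R P : Type u} [Field k] [CommRing R] [IsLocalRing R] [Algebra k R]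
    [Field P] [Algebra k P] [IsPurelyInseparable k P] [PerfectField P]
    (hfin : ∀ L : IntermediateField k P, FiniteDimensional k L → _root_.IsReduced (R ⊗[k] L)) :
    Algebra.IsGeometricallyReduced k R := by
  let m : (L : IntermediateField k P) → R ⊗[k] L →ₐ[k] R ⊗[k] P := fun L =>
    Algebra.TensorProduct.map (AlgHom.id k R) L.val
  have hm : ∀ L, Function.Injective (m L) := fun L =>
    Module.Flat.lTensor_preserves_injective_linearMap L.val.toLinearMap Subtype.val_injective
  have hred : _root_.IsReduced (R ⊗[k] P) := by
    have hz : ∀ z : R ⊗[k] P, ∃ L : IntermediateField k P,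
        FiniteDimensional k L ∧ z ∈ Set.range (m L) := by
      intro z
      induction z with
      | zero => exact ⟨⊥, inferInstance, 0, map_zero _⟩
      | tmul a b =>
        refine ⟨IntermediateField.adjoin k {b},
          IntermediateField.adjoin.finiteDimensional (Algebra.IsIntegral.isIntegral b),
          a ⊗ₜ[k] (⟨b, IntermediateField.mem_adjoin_simple_self k b⟩ :
            IntermediateField.adjoin k {b}), rfl⟩
      | add a b ha hb =>
        obtain ⟨L₁, h₁, a', rfl⟩ := ha
        obtain ⟨L₂, h₂, b', rfl⟩ := hb
        refine ⟨L₁ ⊔ L₂, inferInstance,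
          Algebra.TensorProduct.map (AlgHom.id k R)
              (IntermediateField.inclusion (le_sup_left : L₁ ≤ L₁ ⊔ L₂)) a' +
            Algebra.TensorProduct.map (AlgHom.id k R)
              (IntermediateField.inclusion (le_sup_right : L₂ ≤ L₁ ⊔ L₂)) b', ?_⟩
        rw [map_add, ← AlgHom.comp_apply, ← AlgHom.comp_apply, ← Algebra.TensorProduct.map_comp,
          ← Algebra.TensorProduct.map_comp]
        rfl
    refine ⟨fun z hnil => ?_⟩
    obtain ⟨L, hL, w, rfl⟩ := hz z
    have := hfin L hL
    obtain ⟨n, hn⟩ := hnil
    have hw : w ^ n = 0 := hm L ((map_pow (m L).toRingHom w n).trans (hn.trans (map_zero (m L)).symm))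
    rw [IsNilpotent.eq_zero ⟨n, hw⟩, map_zero]
  have : Nontrivial (R ⊗[k] P) :=
    (Algebra.TensorProduct.includeLeft_injective (S := k)
      (FaithfulSMul.algebraMap_injective k P)).nontrivial
  obtain ⟨Q, hQ⟩ := Ideal.exists_maximal (R ⊗[k] P)
  have : Algebra.IsIntegral R (R ⊗[k] P) := inferInstance
  exact GeomPt.isGeometricallyReduced_of_perfect (k := k) (R := R) (Ω := P) Q
    (IsLocalRing.eq_maximalIdeal (Ideal.isMaximal_comap_of_isIntegral_of_isMaximal Q))

/-- Let k have characteristic p > 0, X a scheme over k and x a point. Then X is geometrically reduced at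
x if and only if for every finite purely inseparable extension k' of k and every point x' of X_{k'}
over x, the local ring of X_{k'} at x' is reduced. -/
theorem result (k : Type u) [Field k] (p : ℕ) [Fact p.Prime] [CharP k p]
    (X : Scheme.{u}) [X.Over (Spec (CommRingCat.of k))] (x : X) :
    Curv2.IsGeomReducedAt k X x ↔
      ∀ (k' : Type u) [Field k'] [Algebra k k'] [FiniteDimensional k k'] [IsPurelyInseparable k k']
        (x' : Curv2.bc k X k'), Curv2.bcFst k X k' x' = x → IsReduced ((Curv2.bc k X k').presheaf.stalk x') := by
  let f := X ↘ Spec (CommRingCat.of k)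
  refine ⟨fun h k' _ _ _ _ x' hx' => h k' x' hx', fun h => ?_⟩
  refine GeomPt.isGeomReducedAt_of_isGeometricallyReduced (f := f) (x := x) ?_
  let R := StalkBC.Ox f x
  let P := perfectClosure k (AlgebraicClosure k)
  have hfin : ∀ L : IntermediateField k P, FiniteDimensional k L →
      _root_.IsReduced (R ⊗[k] L) := by
    intro L _
    have : IsPurelyInseparable k L := IsPurelyInseparable.tower_bot k L P
    refine isReduced_ofLocalizationMaximal (R ⊗[k] L) fun Q _ => ?_
    let q : Spec (CommRingCat.of (R ⊗[k] L)) := (⟨Q, inferInstance⟩ : PrimeSpectrum _)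
    have : Algebra.IsIntegral R (R ⊗[k] L) := inferInstance
    have hq : (_root_.FBase.bcπ f L) (StalkBC.j f x L q) = x := (StalkBC.j_π_eq_iff f x L q).mpr
      (IsLocalRing.eq_maximalIdeal (Ideal.isMaximal_comap_of_isIntegral_of_isMaximal Q))
    have : _root_.IsReduced ((_root_.FBase.bc f L).presheaf.stalk (StalkBC.j f x L q)) :=
      h L (StalkBC.j f x L q) hq
    exact isReduced_of_injective (StalkBC.stalkEquiv f x L q).symm (RingEquiv.injective _)
  exact isGeomRed (P := P) hfin

end Groth.Agent.S1610
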