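import Groth.Statements.S16100
import Groth.Agent.H2.AdDense
import Groth.Agent.S16099

set_option autoImplicit false
universe u
open AdFn

namespace Groth.Agent.S16100

/-- For a function field `K/k` of one variable of genus `g` and any place `P` with completion `K_P` and
valuation ring `O_P ⊆ K_P`, the `k`-space `K_P / (O_{\{P\}} + O_P)`, where `O_{\{P\}} ⊆ K ⊆ K_P` is
the ring of elements of `K` integral at every place other than `P`, is finite-dimensional of
dimension `g` (the number of Weierstrass gaps when `P` is rational). (The published example is for a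
curve over an algebraically closed field; here any field `k` algebraically closed in `K` and any
place `P` are allowed.) -/
theorem result (k K : Type u) [Field k] [Field K]
    [Algebra k K] (hK : FunFld.IsFunctionField k K) (P : FunFld.Place k K) :
    FiniteDimensional k (AdFn.Kv P ⧸
        (Subalgebra.toSubmodule ((AdFn.SInt ({P} : Set (FunFld.Place k K))).map
            (IsScalarTower.toAlgHom k K (AdFn.Kv P))) ⊔
          Submodule.span k (AdFn.Ov P : Set (AdFn.Kv P)))) ∧
    Module.finrank k (AdFn.Kv P ⧸
        (Subalgebra.toSubmodule ((AdFn.SInt ({P} : Set (FunFld.Place k K))).map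
            (IsScalarTower.toAlgHom k K (AdFn.Kv P))) ⊔
          Submodule.span k (AdFn.Ov P : Set (AdFn.Kv P)))) = FunFld.genus k K := by
  obtain ⟨hfin, hrank⟩ := S16099.result k K hK P
  set W := Subalgebra.toSubmodule (AdFn.SInt ({P} : Set (FunFld.Place k K))) ⊔
    Subalgebra.toSubmodule (AdFn.SInt (({P} : Set (FunFld.Place k K))ᶜ))
  set W' := Subalgebra.toSubmodule ((AdFn.SInt ({P} : Set (FunFld.Place k K))).map
      (IsScalarTower.toAlgHom k K (AdFn.Kv P))) ⊔ Submodule.span k (AdFn.Ov P : Set (AdFn.Kv P))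
  have hspan : ∀ z, z ∈ Submodule.span k (AdFn.Ov P : Set (AdFn.Kv P)) → z ∈ AdFn.Ov P := by
    intro z hz
    induction hz using Submodule.span_induction with
    | mem x hx => exact hx
    | zero => exact zero_mem _
    | add x y _ _ hx hy => exact add_mem hx hy
    | smul c x _ hx =>
      rw [Algebra.smul_def, IsScalarTower.algebraMap_apply k K (AdFn.Kv P)]
      exact mul_mem ((AdFn.toKv_mem_Ov P _).2 (P.2.1 c)) hx
  let g : K →ₗ[k] AdFn.Kv P ⧸ W' :=
    W'.mkQ ∘ₗ (IsScalarTower.toAlgHom k K (AdFn.Kv P)).toLinearMap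
  have hker : g.ker = W := by
    ext x
    refine (Submodule.Quotient.mk_eq_zero _).trans ⟨fun h => ?_, fun h => ?_⟩
    · obtain ⟨_, ⟨s, hs, rfl⟩, o, ho, hso⟩ := Submodule.mem_sup.mp h
      refine Submodule.mem_sup.mpr ⟨s, hs, x - s, (H2.toKv_mem_Ov_iff_mem P _).1 ?_, add_sub_cancel _ _⟩
      have e : toKv P (x - s) = o := by
        rw [map_sub, sub_eq_iff_eq_add']
        exact hso.symm
      rw [e]; exact hspan o ho
    · obtain ⟨s, hs, o, ho, hso⟩ := Submodule.mem_sup.mp h
      refine Submodule.mem_sup.mpr ⟨_, ⟨s, hs, rfl⟩, toKv P o,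
        Submodule.subset_span ((H2.toKv_mem_Ov_iff_mem P o).2 ho), ?_⟩
      rw [← hso]; exact (map_add (toKv P) s o).symm
  have hsurj : Function.Surjective g := fun z => by
    obtain ⟨a, rfl⟩ := Submodule.mkQ_surjective _ z
    obtain ⟨x, hx⟩ := H2.exists_sub_mem_Ov P a
    exact ⟨x, ((Submodule.Quotient.eq _).mpr (Submodule.mem_sup_right (Submodule.subset_span hx))).symm⟩
  rw [← hker] at hfin hrank
  let e := g.quotKerEquivOfSurjective hsurj
  exact ⟨e.finiteDimensional, by rw [← e.finrank_eq]; exact hrank⟩

end Groth.Agent.S16100
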