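import Groth.Statements.S16104
import Mathlib.RingTheory.Length
import Mathlib.RingTheory.HopkinsLevitzki
import Mathlib.RingTheory.Ideal.KrullsHeightTheorem
-- import your own Groth.Agent.* helpers here

set_option autoImplicit false
universe u v
open LunaSt

namespace Groth.Agent.S16104

/-- Case of local rings. Let φ : A → B be a local homomorphism of Noetherian local rings whose composite
A → B/m_B² is surjective (the first infinitesimal neighbourhoods give a closed immersion), and
assume that A/m_A^(n+1) and B/m_B^(n+1) have the same length for every n (the associated graded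
modules of the two maximal ideals have pieces of the same dimension over the common residue field).
Then for every n the composite A → B/m_B^(n+1) is surjective with kernel m_A^(n+1): φ identifies all
infinitesimal neighbourhoods. (The published statement is for a pointed morphism of Noetherian local
algebraic stacks; its proof reduces to this case of local rings.) -/
theorem result
    (A : Type u) (B : Type v) [CommRing A] [CommRing B] [IsLocalRing A] [IsLocalRing B]
    [IsNoetherianRing A] [IsNoetherianRing B] (φ : A →+* B) [IsLocalHom φ]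
    (h1 : Function.Surjective ((Ideal.Quotient.mk (IsLocalRing.maximalIdeal B ^ 2)).comp φ))
    (hlen : ∀ n : ℕ, Module.length A (A ⧸ IsLocalRing.maximalIdeal A ^ (n + 1)) =
      Module.length B (B ⧸ IsLocalRing.maximalIdeal B ^ (n + 1))) (n : ℕ) :
    Function.Surjective ((Ideal.Quotient.mk (IsLocalRing.maximalIdeal B ^ (n + 1))).comp φ) ∧
      RingHom.ker ((Ideal.Quotient.mk (IsLocalRing.maximalIdeal B ^ (n + 1))).comp φ) =
        IsLocalRing.maximalIdeal A ^ (n + 1) := by
  set a := IsLocalRing.maximalIdeal A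
  set m := IsLocalRing.maximalIdeal B
  have ha : a.map φ ≤ m := Ideal.map_le_iff_le_comap.2 fun x hx => by
    rw [Ideal.mem_comap, IsLocalRing.mem_maximalIdeal, mem_nonunits_iff, isUnit_map_iff]
    exact hx
  have h2 : ∀ b : B, ∃ x, b - φ x ∈ m ^ 2 := fun b => by
    obtain ⟨x, hx⟩ := h1 (Ideal.Quotient.mk _ b)
    exact ⟨x, Ideal.Quotient.eq.1 hx.symm⟩
  have hstep : ∀ i, ∀ b ∈ m ^ i, ∃ x ∈ a ^ i, b - φ x ∈ m ^ (i + 1) := by
    intro i
    induction i with
    | zero =>
      intro b _
      obtain ⟨x, hx⟩ := h2 b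
      exact ⟨x, by simp, Ideal.pow_le_pow_right (by simp) hx⟩
    | succ i ih =>
      intro b hb
      rw [pow_succ] at hb
      induction hb using Submodule.mul_induction_on' with
      | mem_mul_mem p hp q hq =>
        obtain ⟨x, hx, hpx⟩ := ih p hp
        obtain ⟨y, hy⟩ := h2 q
        have hy' : y ∈ a := by
          by_contra hc
          have hu : φ y ∈ m := by
            have := sub_mem hq (Ideal.pow_le_self two_ne_zero hy)
            rwa [sub_sub_cancel] at this
          rw [IsLocalRing.mem_maximalIdeal, mem_nonunits_iff, isUnit_map_iff] at hu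
          exact hc ((IsLocalRing.mem_maximalIdeal y).2 hu)
        refine ⟨x * y, by rw [pow_succ]; exact Ideal.mul_mem_mul hx hy', ?_⟩
        rw [map_mul, show p * q - φ x * φ y = (p - φ x) * q + φ x * (q - φ y) by ring]
        refine add_mem (by rw [pow_succ _ (i + 1)]; exact Ideal.mul_mem_mul hpx hq) ?_
        rw [show i + 1 + 1 = i + 2 by omega, pow_add]
        refine Ideal.mul_mem_mul (Ideal.pow_right_mono ha i ?_) hy
        rw [← Ideal.map_pow]
        exact Ideal.mem_map_of_mem φ hx
      | add p _ q _ hp hq =>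
        obtain ⟨x, hx, hpx⟩ := hp
        obtain ⟨y, hy, hqy⟩ := hq
        exact ⟨x + y, add_mem hx hy, by rw [map_add, add_sub_add_comm]; exact add_mem hpx hqy⟩
  have hsurj : ∀ i, ∀ b : B, ∃ x, b - φ x ∈ m ^ i := by
    intro i
    induction i with
    | zero => exact fun b => ⟨0, by simp⟩
    | succ i ih =>
      intro b
      obtain ⟨x, hx⟩ := ih b
      obtain ⟨y, -, hy⟩ := hstep i _ hx
      exact ⟨x + y, by rw [map_add, ← sub_sub]; exact hy⟩
  set f := (Ideal.Quotient.mk (m ^ (n + 1))).comp φ with hf
  have hfs : Function.Surjective f := fun q => by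
    obtain ⟨b, rfl⟩ := Ideal.Quotient.mk_surjective q
    obtain ⟨x, hx⟩ := hsurj (n + 1) b
    exact ⟨x, (Ideal.Quotient.eq.2 hx).symm⟩
  refine ⟨hfs, ?_⟩
  have hle : a ^ (n + 1) ≤ RingHom.ker f := fun x hx => by
    rw [RingHom.mem_ker, hf, RingHom.comp_apply, Ideal.Quotient.eq_zero_iff_mem]
    refine Ideal.pow_right_mono ha (n + 1) ?_
    rw [← Ideal.map_pow]
    exact Ideal.mem_map_of_mem φ hx
  letI := f.toAlgebra
  have hl : Module.length A (B ⧸ m ^ (n + 1)) = Module.length B (B ⧸ m ^ (n + 1)) :=
    (Module.length_eq_of_surjective (S := A) (R := B ⧸ m ^ (n + 1)) (M := B ⧸ m ^ (n + 1)) hfs).trans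
      (Module.length_eq_of_surjective (S := B) (R := B ⧸ m ^ (n + 1)) (M := B ⧸ m ^ (n + 1))
        Ideal.Quotient.mk_surjective).symm
  let g : (A ⧸ a ^ (n + 1)) →ₗ[A] B ⧸ m ^ (n + 1) := Submodule.liftQ _ (Algebra.linearMap A _) hle
  have hgs : Function.Surjective g := fun q => by
    obtain ⟨x, rfl⟩ := hfs q
    exact ⟨Ideal.Quotient.mk _ x, rfl⟩
  haveI : IsArtinianRing (A ⧸ a ^ (n + 1)) := by
    refine isArtinianRing_iff_isNoetherianRing_krullDimLE_zero.2 ⟨inferInstance, Ring.KrullDimLE.mk₀ fun P hP => ?_⟩
    haveI := hP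
    have h : P.comap (Ideal.Quotient.mk (a ^ (n + 1))) = a := by
      refine ((IsLocalRing.maximalIdeal.isMaximal A).eq_of_le (Ideal.comap_ne_top _ hP.ne_top) fun x hx => ?_).symm
      refine (Ideal.comap_isPrime (Ideal.Quotient.mk (a ^ (n + 1))) P).mem_of_pow_mem (n + 1) ?_
      rw [Ideal.mem_comap, Ideal.Quotient.eq_zero_iff_mem.2 (Ideal.pow_mem_pow hx (n + 1))]
      exact zero_mem _
    rw [← Ideal.map_comap_of_surjective _ Ideal.Quotient.mk_surjective P, h]
    refine (Ideal.map_eq_top_or_isMaximal_of_surjective _ Ideal.Quotient.mk_surjective (IsLocalRing.maximalIdeal.isMaximal A)).resolve_left fun ht => hP.ne_top ?_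
    rw [← Ideal.map_comap_of_surjective _ Ideal.Quotient.mk_surjective P, h, ht]
  have hfin : Module.length A (A ⧸ a ^ (n + 1)) ≠ ⊤ := by
    rw [Module.length_eq_of_surjective (S := A) (R := A ⧸ a ^ (n + 1)) Ideal.Quotient.mk_surjective]
    exact Module.length_ne_top
  have hk : Module.length A (LinearMap.ker g) = 0 := by
    have h := Module.length_eq_add_of_exact (LinearMap.ker g).subtype g (Submodule.injective_subtype _) hgs
      (LinearMap.exact_subtype_ker_map g)
    rw [hl, ← hlen] at h
    exact WithTop.add_right_cancel hfin ((zero_add _).trans h).symm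
  rw [Module.length_eq_zero_iff, Submodule.subsingleton_iff_eq_bot] at hk
  refine le_antisymm (fun x hx => ?_) hle
  rw [← Ideal.Quotient.eq_zero_iff_mem]
  have h0 : Ideal.Quotient.mk (a ^ (n + 1)) x ∈ LinearMap.ker g := hx
  rw [hk, Submodule.mem_bot] at h0
  exact h0

end Groth.Agent.S16104
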