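import Groth.Statements.S16105
import Groth.Agent.Lib.Comod.Invariants
import Groth.Agent.Lib.Comod.Alg
import Mathlib.RingTheory.Filtration
import Mathlib.RingTheory.HopkinsLevitzki
import Mathlib.RingTheory.AdicCompletion.Basic
-- import your own Groth.Agent.* helpers here

set_option autoImplicit false
universe u v w w'
open LunaSt
open TensorProduct
open Groth.Agent.Lib.Comod.Basic Groth.Agent.Lib.Comod.Reynolds Groth.Agent.Lib.Comod.Invariants Groth.Agent.Lib.Comod.Alg

namespace Groth.Agent.S16105

/-- The key claim of its proof. Let k be a field and H a commutative Hopf algebra of finite type over k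
all of whose finite-dimensional comodules are semisimple (a linearly reductive affine group G = Spec
H). Let A be a Noetherian commutative k-algebra with a coaction of H that is an algebra map (an
action of G on Spec A), let m be a maximal ideal of A stable under the coaction (for instance the
ideal of a closed point fixed by G), and assume that the ring of invariants A^G is a Noetherian
local ring, complete with respect to its maximal ideal. Let M be a finite A-module with a compatible
H-coaction (a coherent G-module on Spec A). Then (i) an invariant element of M which lies in m^n M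
for every n is zero, and (ii) for every sequence of invariants x_0, x_1, … with x_(n+1) − x_n ∈ m^n
M there is an invariant x with x − x_n ∈ m^n M for all n. In other words M^G → lim_n M^G/(m^n M)^G
is bijective: the m-adic filtration and the filtration by powers of the maximal ideal of A^G induce
the same topology on M^G. (The ring of invariants is assumed Noetherian here; this also follows from
linear reductivity.) -/
theorem result
    (k : Type u) [Field k] (H : Type v) [CommRing H] [HopfAlgebra k H] [Algebra.FiniteType k H]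
    (hG : HopfRep.IsLinearlyReductive k H)
    (A : Type w) [CommRing A] [Algebra k A] [IsNoetherianRing A]
    [HopfRep.Comod k H A] [GLin.IsCoactAlg k H A]
    (m : Ideal A) [m.IsMaximal] (hm : HopfRep.IsSubcomod (k := k) (A := H) (m.restrictScalars k))
    [IsLocalRing ↥(GLin.invariants k H A)] [IsNoetherianRing ↥(GLin.invariants k H A)]
    [IsAdicComplete (IsLocalRing.maximalIdeal ↥(GLin.invariants k H A)) ↥(GLin.invariants k H A)]
    (M : Type w') [AddCommGroup M] [Module k M] [Module A M] [IsScalarTower k A M] [Module.Finite A M]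
    [HopfRep.Comod k H M] [TameAct.IsHopfMod k H A M] :
    (∀ x ∈ HopfRep.fixedPts k H M, (∀ n : ℕ, x ∈ (m ^ n • ⊤ : Submodule A M)) → x = 0) ∧
      ∀ x : ℕ → M, (∀ n, x n ∈ HopfRep.fixedPts k H M) →
        (∀ n, x (n + 1) - x n ∈ (m ^ n • ⊤ : Submodule A M)) →
          ∃ y ∈ HopfRep.fixedPts k H M, ∀ n, y - x n ∈ (m ^ n • ⊤ : Submodule A M) := by
  classical
  obtain ⟨F, hF⟩ := exists_isReynolds (A := H) A hG
  obtain ⟨E, hE⟩ := exists_isReynolds (A := H) M hG
  let Inv := GLin.invariants k H A
  let ν : Ideal Inv := IsLocalRing.maximalIdeal Inv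
  have hmem : ∀ c : Inv, c ∈ ν ↔ (c : A) ∈ m := by
    intro c
    refine ⟨fun hc => ?_, fun hc => (IsLocalRing.mem_maximalIdeal c).2 fun hu => ?_⟩
    · by_contra hcm
      obtain ⟨a, ha⟩ := Ideal.Quotient.mk_surjective
        ((Ideal.Quotient.field m).inv (Ideal.Quotient.mk m (c : A)))
      have h1 : a * (c : A) - 1 ∈ m := by
        rw [← Ideal.Quotient.eq, map_mul, ha, map_one]
        letI := Ideal.Quotient.field m
        exact inv_mul_cancel₀ (fun h => hcm (Ideal.Quotient.eq_zero_iff_mem.1 h))
      have h2 := hF.map_mem hG hm h1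
      rw [map_sub, hF.apply_of_mem one_mem_fixedPts, reynolds_mul_invariant hG hF a c.2] at h2
      let d : Inv := ⟨F a, hF.mem a⟩
      have h3 : 1 - d * c ∈ (IsLocalRing.maximalIdeal Inv) := by
        refine (IsLocalRing.mem_maximalIdeal _).2 fun hu => ?_
        refine Ideal.IsMaximal.ne_top ‹m.IsMaximal› (Ideal.eq_top_of_isUnit_mem _ ?_ (hu.map Inv.val))
        have := m.neg_mem h2
        rw [neg_sub] at this
        exact this
      exact (IsLocalRing.maximalIdeal.isMaximal Inv).ne_top ((Ideal.eq_top_iff_one _).2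
        (by have := add_mem h3 (Ideal.mul_mem_left _ d hc); rwa [sub_add_cancel] at this))
    · exact Ideal.IsMaximal.ne_top ‹m.IsMaximal› (Ideal.eq_top_of_isUnit_mem _ hc (hu.map Inv.val))
  -- a stable ideal meeting `1 + m` contains an invariant unit
  have hunit : ∀ C : Ideal A, HopfRep.IsSubcomod (k := k) (A := H) (C.restrictScalars k) →
      ∀ j ∈ m, 1 - j ∈ C → C = ⊤ := by
    intro C hC j hj hjC
    have htop : (1 : A) ∈ C ⊔ m := Submodule.mem_sup.2 ⟨1 - j, hjC, j, hj, sub_add_cancel 1 j⟩
    obtain ⟨a, ha, i, hi, hai⟩ := Submodule.mem_sup.1 htop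
    let c : Inv := ⟨F a, hF.mem a⟩
    have hcm : (c : A) ∉ m := fun hc => by
      have h1 := add_mem hc (hF.map_mem hG hm hi)
      rw [show (c : A) + F i = F 1 by rw [← hai, map_add], hF.apply_of_mem one_mem_fixedPts] at h1
      exact Ideal.IsMaximal.ne_top ‹m.IsMaximal› ((Ideal.eq_top_iff_one _).2 h1)
    have hu : IsUnit c := by
      by_contra hu
      exact hcm ((hmem c).1 ((IsLocalRing.mem_maximalIdeal c).2 hu))
    exact Ideal.eq_top_of_isUnit_mem _ (hF.map_mem hG hC ha) (hu.map Inv.val)
  refine ⟨fun x hx hxn => ?_, ?_⟩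
  · obtain ⟨⟨j, hj⟩, hjx⟩ := (Ideal.mem_iInf_smul_pow_eq_bot_iff m x).1 ((Submodule.mem_iInf _).2 hxn)
    have hC := isSubcomod_ker (A := H) (isComodHom_smul_fixed (R := A) hx)
    have h := hunit (LinearMap.ker (LinearMap.toSpanSingleton A M x)) hC j hj
      (by change (1 - j) • x = 0; rw [sub_smul, one_smul, hjx, sub_self])
    have h1 : (1 : A) • x = 0 := ((Ideal.eq_top_iff_one _).1 h :)
    rwa [one_smul] at h1
  intro x hxf hxd
  obtain ⟨s, hs, hgen⟩ := exists_finset_fixedPts (R := A) (M := M) hG
  let P : Submodule Inv M := Submodule.span Inv (s : Set M)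
  have hPf : ∀ p, p ∈ P ↔ p ∈ HopfRep.fixedPts k H M := by
    refine fun p => ⟨fun hp => ?_, fun hp => ?_⟩
    · induction hp using Submodule.span_induction with
      | mem z hz => exact hs hz
      | zero => exact zero_mem _
      | add a b _ _ ha hb => exact add_mem ha hb
      | smul c a _ ha => exact smul_mem_fixedPts c.2 ha
    · obtain ⟨c, hc, rfl⟩ := hgen p hp
      exact Submodule.sum_mem _ fun y hy => Submodule.smul_mem P (⟨c y, hc y⟩ : Inv) (Submodule.subset_span hy)
  haveI : Module.Finite Inv P := ⟨(Submodule.fg_top P).2 ⟨s, rfl⟩⟩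
  have hmono : ∀ {i j : ℕ}, i ≤ j → (m ^ j • ⊤ : Submodule A M) ≤ m ^ i • ⊤ := fun {i j} h =>
    Submodule.smul_mono_left (Ideal.pow_le_pow_right h)
  have hνm : ∀ (e : ℕ), ∀ c ∈ ν ^ e, (c : A) ∈ m ^ e := fun e c hc => by
    have h1 := Ideal.mem_map_of_mem Inv.val.toRingHom hc
    rw [Ideal.map_pow] at h1
    exact Ideal.pow_right_mono (show ν.map Inv.val.toRingHom ≤ m from Ideal.map_le_iff_le_comap.2 fun c hc => (hmem c).1 hc) e h1
  -- the two filtrations define the same topology
  have key : ∀ e : ℕ, ∃ n : ℕ, ∀ p : P, (p : M) ∈ (m ^ n • ⊤ : Submodule A M) →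
      p ∈ (ν ^ e • ⊤ : Submodule Inv P) := by
    intro e
    set Q := P ⧸ (ν ^ e • ⊤ : Submodule Inv P)
    haveI : IsNoetherianRing (Inv ⧸ ν ^ e) :=
      isNoetherianRing_of_surjective Inv _ (Ideal.Quotient.mk (ν ^ e)) Ideal.Quotient.mk_surjective
    haveI : IsArtinianRing (Inv ⧸ ν ^ e) := by
      refine isArtinianRing_iff_isNoetherianRing_krullDimLE_zero.2 ⟨inferInstance, Ring.KrullDimLE.mk₀ fun p hp => ?_⟩
      haveI := hp
      have hνmax := IsLocalRing.maximalIdeal.isMaximal Inv
      have h : p.comap (Ideal.Quotient.mk (ν ^ e)) = ν := by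
        refine (hνmax.eq_of_le (Ideal.comap_ne_top _ hp.ne_top) fun y hy => ?_).symm
        refine (Ideal.comap_isPrime (Ideal.Quotient.mk (ν ^ e)) p).mem_of_pow_mem e ?_
        rw [Ideal.mem_comap, Ideal.Quotient.eq_zero_iff_mem.2 (Ideal.pow_mem_pow hy e)]
        exact zero_mem _
      rw [← Ideal.map_comap_of_surjective _ Ideal.Quotient.mk_surjective p, h]
      refine (Ideal.map_eq_top_or_isMaximal_of_surjective _ Ideal.Quotient.mk_surjective hνmax).resolve_left
        fun ht => hp.ne_top ?_
      rw [← Ideal.map_comap_of_surjective _ Ideal.Quotient.mk_surjective p, h, ht]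
    haveI : Module.Finite (Inv ⧸ ν ^ e) Q := Module.Finite.of_restrictScalars_finite Inv _ _
    haveI : IsArtinian (Inv ⧸ ν ^ e) Q := inferInstance
    haveI : IsArtinian Inv Q :=
      (isArtinian_of_surjective_algebraMap (R := Inv ⧸ ν ^ e) (M := Q) Ideal.Quotient.mk_surjective :)
    let K : ℕ →o (Submodule Inv Q)ᵒᵈ :=
      ⟨fun n => OrderDual.toDual ((((m ^ n • ⊤ : Submodule A M).restrictScalars Inv).comap P.subtype).map
        (Submodule.mkQ _)), fun a b hab => Submodule.map_mono (Submodule.comap_mono (hmono hab))⟩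
    obtain ⟨n₀, hn₀⟩ := IsArtinian.monotone_stabilizes (R := Inv) (M := Q) K
    refine ⟨n₀, fun p hp => ?_⟩
    let W : Submodule k M := (((ν ^ e • ⊤ : Submodule Inv P)).map P.subtype).restrictScalars k
    have hW : HopfRep.IsSubcomod (k := k) (A := H) W := (isSubcomod_iff _).2 fun φ z hz => by
      obtain ⟨w, hw, rfl⟩ := hz
      rw [Submodule.subtype_apply, mem_fixedPts_iff.1 ((hPf _).1 w.2) φ]
      exact Submodule.smul_mem _ _ ⟨w, hw, rfl⟩
    set N := Submodule.span A (W : Set M)
    have h4 : N.mkQ (p : M) ∈ (⨅ i : ℕ, m ^ i • ⊤ : Submodule A (M ⧸ N)) := by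
      rw [Submodule.mem_iInf]
      intro i
      rw [← N.range_mkQ, ← Submodule.map_top, ← Submodule.map_smul'']
      rcases le_total i n₀ with h | h
      · exact Submodule.mem_map_of_mem (hmono h hp)
      have h1 : Submodule.Quotient.mk p ∈ (((m ^ i • ⊤ : Submodule A M).restrictScalars Inv).comap P.subtype).map
          (ν ^ e • ⊤ : Submodule Inv P).mkQ :=
        (le_of_eq (congrArg OrderDual.ofDual (hn₀ i h))) ⟨p, hp, rfl⟩
      obtain ⟨g, hg, hgp⟩ := h1
      rw [Submodule.mkQ_apply, Submodule.Quotient.eq] at hgp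
      refine ⟨(g : M), hg, ?_⟩
      rw [Submodule.mkQ_apply, Submodule.mkQ_apply, Submodule.Quotient.eq]
      exact Submodule.subset_span ⟨g - p, hgp, rfl⟩
    obtain ⟨⟨j, hj⟩, hjp⟩ := (Ideal.mem_iInf_smul_pow_eq_bot_iff m _).1 h4
    have hC : HopfRep.IsSubcomod (k := k) (A := H)
        ((N.comap (LinearMap.toSpanSingleton A M (p : M))).restrictScalars k) :=
      isSubcomod_comap (isComodHom_smul_fixed (R := A) ((hPf _).1 p.2)) (isSubcomod_span hW)
    have h := hunit _ hC j hj (by
      change (1 - j) • (p : M) ∈ N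
      rw [← Submodule.Quotient.mk_eq_zero, ← Submodule.mkQ_apply, map_smul, sub_smul, one_smul, hjp, sub_self])
    have hpN : (p : M) ∈ N := by
      have h1 : (1 : A) • (p : M) ∈ N := ((Ideal.eq_top_iff_one _).1 h :)
      rwa [one_smul] at h1
    have hEN : ∀ z ∈ N, ∀ a : A, E (a • z) ∈ W := by
      intro z hz
      induction hz using Submodule.span_induction with
      | mem w hw =>
        intro a
        obtain ⟨w', hw', rfl⟩ := hw
        rw [Submodule.subtype_apply, reynolds_smul_fixed hG hE hF a ((hPf _).1 w'.2)]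
        exact ⟨(⟨F a, hF.mem a⟩ : Inv) • w', Submodule.smul_mem _ _ hw', rfl⟩
      | zero => intro a; simp
      | add y z _ _ hy hz => intro a; rw [smul_add, map_add]; exact add_mem (hy a) (hz a)
      | smul b z _ hz => intro a; rw [smul_smul]; exact hz _
    have h5 := hEN _ hpN 1
    rw [one_smul, hE.apply_of_mem ((hPf _).1 p.2)] at h5
    obtain ⟨w, hw, hwp⟩ := h5
    rwa [← Subtype.ext (show (w : M) = p from hwp)]
  choose n hn using key
  let d : ℕ → ℕ := fun e => e + ∑ i ∈ Finset.range (e + 1), n i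
  have hd : ∀ e, e ≤ d e ∧ n e ≤ d e := fun e => ⟨Nat.le_add_right _ _,
    (Finset.single_le_sum (fun i _ => Nat.zero_le (n i)) (Finset.self_mem_range_succ e)).trans (Nat.le_add_left _ _)⟩
  have hdm : Monotone d := monotone_nat_of_le_succ fun e => by
    simp only [d]; rw [Finset.sum_range_succ (n := e + 1)]; omega
  have hcau : ∀ a b, a ≤ b → x b - x a ∈ (m ^ a • ⊤ : Submodule A M) := by
    intro a b hab
    induction hab with
    | refl => simp
    | @step b hab ih =>
      rw [show x b.succ - x a = (x (b + 1) - x b) + (x b - x a) by abel]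
      exact add_mem (hmono hab (hxd b)) ih
  have hdiff : ∀ e, ∃ a : s → Inv, (∀ j, a j ∈ ν ^ e) ∧ x (d (e + 1)) - x (d e) = ∑ j, (a j : A) • (j : M) := by
    intro e
    have h1 : (⟨x (d (e + 1)) - x (d e), sub_mem ((hPf _).2 (hxf _)) ((hPf _).2 (hxf _))⟩ : P) ∈
        (ν ^ e • ⊤ : Submodule Inv P) :=
      hn e _ (hmono (hd e).2 (hcau _ _ (hdm (Nat.le_succ e))))
    have h2 := Submodule.mem_map_of_mem (f := P.subtype) h1
    rw [Submodule.map_smul'', Submodule.map_top, Submodule.range_subtype] at h2
    have h3 : P = Submodule.span Inv (Set.range (fun j : s => (j : M))) := by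
      simp [P, Subtype.range_coe_subtype]
    replace h2 : x (d (e + 1)) - x (d e) ∈ ν ^ e • P := h2
    rw [h3, Submodule.mem_ideal_smul_span_iff_exists_sum] at h2
    obtain ⟨a, ha, hsum⟩ := h2
    refine ⟨a, ha, ?_⟩
    rw [← show ((a.sum fun i c => c • (i : M)) : M) = x (d (e + 1)) - x (d e) from hsum,
      Finsupp.sum_fintype _ _ (fun (i : s) => zero_smul Inv ((i : M)))]
    rfl
  choose a ha hsum using hdiff
  let S : s → ℕ → Inv := fun j e => ∑ i ∈ Finset.range e, a i j
  have hS : ∀ j, ∃ L : Inv, ∀ e, S j e ≡ L [SMOD (ν ^ e • ⊤ : Submodule Inv Inv)] := fun j => by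
    refine IsPrecomplete.prec inferInstance fun {p q} hpq => ?_
    rw [SModEq.sub_mem, smul_eq_mul, Ideal.mul_top, ← neg_mem_iff, neg_sub]
    simp only [S]
    rw [← Finset.sum_Ico_eq_sub _ hpq]
    exact Ideal.sum_mem _ fun i hi => Ideal.pow_le_pow_right (Finset.mem_Ico.1 hi).1 (ha i j)
  choose L hL using hS
  refine ⟨x (d 0) + ∑ j, (L j : A) • (j : M), add_mem (hxf _) (Submodule.sum_mem _ fun j _ =>
    smul_mem_fixedPts (L j).2 (hs j.2)), fun e => ?_⟩
  have htel : ∀ e, x (d e) = x (d 0) + ∑ j, (S j e : A) • (j : M) := by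
    intro e
    induction e with
    | zero => simp [S]
    | succ e ih =>
      have : x (d (e + 1)) = x (d e) + (x (d (e + 1)) - x (d e)) := by abel
      rw [this, hsum, ih, add_assoc, ← Finset.sum_add_distrib]
      congr 1
      refine Finset.sum_congr rfl fun j _ => ?_
      simp only [S, Finset.sum_range_succ, AddMemClass.coe_add, add_smul]
  have h1 : (∑ j, (L j : A) • (j : M)) - ∑ j, (S j e : A) • (j : M) ∈ (m ^ e • ⊤ : Submodule A M) := by
    rw [← Finset.sum_sub_distrib]
    refine Submodule.sum_mem _ fun j _ => ?_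
    rw [← sub_smul]
    refine Submodule.smul_mem_smul ?_ Submodule.mem_top
    have h2 := hL j e
    rw [SModEq.sub_mem, smul_eq_mul, Ideal.mul_top] at h2
    have h3 := hνm e _ h2
    rw [← neg_mem_iff] at h3
    simpa using h3
  rw [show x (d 0) + ∑ j, (L j : A) • (j : M) - x e =
    ((∑ j, (L j : A) • (j : M)) - ∑ j, (S j e : A) • (j : M)) +
      ((x (d 0) + ∑ j, (S j e : A) • (j : M)) - x e) by abel, ← htel e]
  exact add_mem h1 (hcau _ _ (hd e).1)

end Groth.Agent.S16105
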