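import Groth.Statements.S16106
import Groth.Agent.H60.FPColim
import Groth.Agent.Lib.Smoothing.ArtinApprox
-- import your own Groth.Agent.* helpers here

set_option autoImplicit false
universe u
open CategoryTheory CategoryTheory.Limits
open LunaSt

namespace Groth.Agent.S16106

/-- Local form. Let A be a local G-ring, that is a Noetherian local ring all of whose local rings have
regular completion maps (for instance an excellent local ring), with maximal ideal m and m-adic
completion Â. Let F be a functor from A-algebras (commutative rings under A) to sets preserving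
filtered colimits, let ξ ∈ F(Â) and N ≥ 0. Then there exist an étale A-algebra A′, a map of
A-algebras φ : A′ → A/m^(N+1) (an étale neighbourhood of the closed point with trivial residue field
extension) and ξ′ ∈ F(A′) such that ξ′ and ξ have the same image in F(A/m^(N+1)); here π is the
A-algebra map Â → A/m^(N+1), pinned by its underlying ring map. (The published statement is for any
point of the spectrum of a G-ring, with a functor locally of finite presentation on all schemes over
it; its proof first localizes at the point, and only the values of the functor on affine schemes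
enter, so the row states this local form for a functor on A-algebras preserving filtered colimits.) -/
theorem result (A : Type u) [CommRing A] [IsLocalRing A]
    (hG : CAlg.IsGRing A)
    (F : Under (CommRingCat.of A) ⥤ Type u)
    (hF : ∀ (J : Type u) [SmallCategory J] [IsFiltered J], PreservesColimitsOfShape J F)
    (N : ℕ)
    (π : Under.mk (CommRingCat.ofHom (algebraMap A
        (AdicCompletion (IsLocalRing.maximalIdeal A) A))) ⟶
      Under.mk (CommRingCat.ofHom (algebraMap A (A ⧸ IsLocalRing.maximalIdeal A ^ (N + 1)))))
    (hπ : π.right = CommRingCat.ofHom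
      (AdicCompletion.evalₐ (IsLocalRing.maximalIdeal A) (N + 1) :
        AdicCompletion (IsLocalRing.maximalIdeal A) A →ₐ[A]
          A ⧸ IsLocalRing.maximalIdeal A ^ (N + 1)).toRingHom)
    (ξ : F.obj (Under.mk (CommRingCat.ofHom (algebraMap A
        (AdicCompletion (IsLocalRing.maximalIdeal A) A))))) :
    ∃ (A' : Type u) (_ : CommRing A') (_ : Algebra A A') (_ : Algebra.Etale A A')
      (φ : Under.mk (CommRingCat.ofHom (algebraMap A A')) ⟶
        Under.mk (CommRingCat.ofHom (algebraMap A (A ⧸ IsLocalRing.maximalIdeal A ^ (N + 1)))))
      (ξ' : F.obj (Under.mk (CommRingCat.ofHom (algebraMap A A')))),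
      F.map φ ξ' = F.map π ξ := by
  have := hG.1
  let e : AdicCompletion (IsLocalRing.maximalIdeal A) A →ₐ[A] A ⧸ IsLocalRing.maximalIdeal A ^ (N + 1) :=
    AdicCompletion.evalₐ (IsLocalRing.maximalIdeal A) (N + 1)
  have hπe : π = Groth.Agent.H60.FPColim.hom e := Under.UnderMorphism.ext hπ
  obtain ⟨A', _, _, het, ψ, ξ', hξ⟩ := Groth.Agent.H60.FPColim.exists_approx F hF e ξ
    (fun n m P a ha ↦ by
      obtain ⟨R', _, _, het, ψ, _, _, _, _, _, b, hb, hab⟩ :=
        Groth.Agent.Lib.Smoothing.ArtinApprox.exists_etale_solution_local hG P a ha (N + 1)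
      refine ⟨R', inferInstance, inferInstance, het, e.comp ψ, b, hb, fun i ↦ sub_eq_zero.1 ?_⟩
      have hle : (IsLocalRing.maximalIdeal A ^ (N + 1)).map
          (algebraMap A (AdicCompletion (IsLocalRing.maximalIdeal A) A)) ≤ RingHom.ker e :=
        Ideal.map_le_iff_le_comap.2 fun r hr ↦ by
          rw [Ideal.mem_comap, RingHom.mem_ker, AlgHom.commutes]
          exact Ideal.Quotient.eq_zero_iff_mem.2 hr
      rw [AlgHom.comp_apply, ← map_sub]
      exact hle (hab i))
  exact ⟨A', inferInstance, inferInstance, het, Groth.Agent.H60.FPColim.hom ψ, ξ', hπe ▸ hξ⟩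

end Groth.Agent.S16106
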