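import Groth.Statements.S16107
import Groth.Agent.H60.AlgComod
-- import your own Groth.Agent.* helpers here

set_option autoImplicit false
universe u v w
open LunaSt
open TensorProduct
open Groth.Agent.Lib.Comod.Basic Groth.Agent.Lib.Comod.Reynolds Groth.Agent.Lib.Comod.Invariants Groth.Agent.H60.AlgComod

namespace Groth.Agent.S16107

/-- Let k be a field and H a commutative Hopf algebra of finite type over k all of whose
finite-dimensional comodules are semisimple (a linearly reductive affine group G = Spec H of finite
type). Let A be a Noetherian commutative k-algebra with a coaction of H that is an algebra map (an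
action of G on Spec A). Then A is of finite type as an algebra over its subring of invariants A^G.
(The published statement is that a good moduli space with affine diagonal of a Noetherian algebraic
stack is of finite type; this row is its case [Spec A/G] → Spec A^G.) -/
theorem result
    (k : Type u) [Field k] (H : Type v) [CommRing H] [HopfAlgebra k H] [Algebra.FiniteType k H]
    (hG : HopfRep.IsLinearlyReductive k H)
    (A : Type w) [CommRing A] [Algebra k A] [IsNoetherianRing A]
    [HopfRep.Comod k H A] [GLin.IsCoactAlg k H A] :
    Algebra.FiniteType ↥(GLin.invariants k H A) A := by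
  classical
  obtain ⟨t, ht⟩ := (Algebra.FiniteType.out : (⊤ : Subalgebra k H).FG)
  obtain ⟨W, hWfg, hW, htW⟩ := exists_subcomod_fg (k := k) (A := H) (V := H) t
  letI := subComod W hW
  haveI : Module.Finite k W := ⟨(Submodule.fg_top W).2 hWfg⟩
  let b := Module.Free.chooseBasis k W
  let B := MvPolynomial (Module.Free.ChooseBasisIndex k W) A
  letI : HopfRep.Comod k H B := polyComod A b
  haveI : GLin.IsCoactAlg k H B := isCoactAlg_poly b
  letI := diagComod k H A
  let π : B →ₐ[k] A ⊗[k] H :=
    { toRingHom := MvPolynomial.eval₂Hom (Algebra.TensorProduct.includeLeftRingHom) fun j => (1 : A) ⊗ₜ[k] (b j : H)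
      commutes' := fun c => by
        rw [IsScalarTower.algebraMap_apply k A B, MvPolynomial.algebraMap_eq]
        exact MvPolynomial.eval₂Hom_C _ _ _ }
  have hπC : ∀ a : A, π (MvPolynomial.C a) = a ⊗ₜ[k] (1 : H) := fun a => MvPolynomial.eval₂Hom_C _ _ a
  have hπl : ∀ w : W, π (lin (A := A) b w) = (1 : A) ⊗ₜ[k] (w : H) := by
    intro w
    have : π.toLinearMap ∘ₗ lin (A := A) b =
        (Algebra.TensorProduct.includeRight : H →ₐ[k] A ⊗[k] H).toLinearMap ∘ₗ W.subtype :=
      b.ext fun j => by
        simp only [LinearMap.comp_apply, AlgHom.toLinearMap_apply, lin, Module.Basis.constr_basis]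
        exact MvPolynomial.eval₂Hom_X' _ _ j
    exact LinearMap.congr_fun this w
  have hπsurj : π.range = ⊤ := by
    refine eq_top_iff.2 fun z _ => ?_
    induction z using TensorProduct.induction_on with
    | zero => exact zero_mem _
    | add y z hy hz => exact add_mem (hy trivial) (hz trivial)
    | tmul a h =>
      rw [show a ⊗ₜ[k] h = (a ⊗ₜ[k] (1 : H)) * ((1 : A) ⊗ₜ[k] h) by simp]
      refine mul_mem ⟨MvPolynomial.C a, hπC a⟩ ?_
      have hh : h ∈ π.range.comap (Algebra.TensorProduct.includeRight : H →ₐ[k] A ⊗[k] H) := by
        have hle : Algebra.adjoin k (t : Set H) ≤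
            π.range.comap (Algebra.TensorProduct.includeRight : H →ₐ[k] A ⊗[k] H) :=
          Algebra.adjoin_le fun w hw => ⟨lin b ⟨w, htW hw⟩, hπl ⟨w, htW hw⟩⟩
        exact hle (ht.symm ▸ Algebra.mem_top)
      exact hh
  have hhom : Hoch.IsComodHom H π.toLinearMap := by
    have key : (diag k H A).comp π = (Algebra.TensorProduct.map π (AlgHom.id k H)).comp (polyHom A b) := by
      refine AlgHom.ext_of_adjoin_eq_top (adjoin_poly b) ?_
      rintro z (⟨a, rfl⟩ | ⟨w, rfl⟩)
      · simp only [AlgHom.comp_apply, IsScalarTower.toAlgHom_apply, MvPolynomial.algebraMap_eq, hπC]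
        have h1 := LinearMap.congr_fun (diag_left (k := k) (H := H) (A := A)) a
        have h2 := LinearMap.congr_fun (polyHom_C (H := H) (A := A) b) a
        simp only [LinearMap.comp_apply, AlgHom.toLinearMap_apply, Algebra.TensorProduct.includeLeft_apply,
          IsScalarTower.toAlgHom_apply, MvPolynomial.algebraMap_eq] at h1 h2
        rw [h1, h2]
        generalize HopfRep.Comod.coact (k := k) (A := H) a = y
        induction y using TensorProduct.induction_on with
        | zero => simp
        | add y z hy hz => simp only [map_add, hy, hz]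
        | tmul p c => simp [hπC]
      · simp only [AlgHom.comp_apply, hπl]
        have h1 := LinearMap.congr_fun (diag_right (k := k) (H := H) (A := A)) (w : H)
        have h2 := LinearMap.congr_fun (polyHom_lin (H := H) (A := A) b) w
        have h3 := LinearMap.congr_fun (isComodHom_subtype hW) w
        simp only [LinearMap.comp_apply, AlgHom.toLinearMap_apply, Algebra.TensorProduct.includeRight_apply,
          Submodule.subtype_apply] at h1 h2 h3
        rw [h1, h2, h3]
        generalize HopfRep.Comod.coact (k := k) (A := H) w = y
        induction y using TensorProduct.induction_on with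
        | zero => simp
        | add y z hy hz => simp only [map_add, hy, hz]
        | tmul p c => simp [hπl]
    refine LinearMap.ext fun z => ?_
    have h4 := AlgHom.congr_fun key z
    change diag k H A (π z) = π.toLinearMap.rTensor H (polyHom A b z)
    simp only [AlgHom.comp_apply] at h4
    rw [h4]
    generalize polyHom (H := H) A b z = y
    induction y using TensorProduct.induction_on with
    | zero => simp
    | add y z hy hz => simp only [map_add, hy, hz]
    | tmul p c => simp
  let i : A →ₐ[k] B := IsScalarTower.toAlgHom k A B
  have hiC : Hoch.IsComodHom H i.toLinearMap := polyHom_C (H := H) (A := A) b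
  have hl : Hoch.IsComodHom H (lin (A := A) b) := polyHom_lin (H := H) (A := A) b
  haveI : IsNoetherianRing i.range := isNoetherianRing_of_surjective A _ i.rangeRestrict.toRingHom i.rangeRestrict_surjective
  obtain ⟨s, hs, hgen⟩ := exists_finset_invariants hG i.range
    (by rw [← Algebra.map_top, Subalgebra.map_toSubmodule, Algebra.top_toSubmodule]
        exact isSubcomod_map hiC isSubcomod_top)
    (LinearMap.range (lin (A := A) b)) (by rw [← Submodule.map_top]; exact Module.Finite.fg_top.map _) (isSubcomod_range hl) (by
      rw [eq_top_iff, ← adjoin_poly b]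
      exact Algebra.adjoin_mono (Set.union_subset_union le_rfl le_rfl))
  let p : A ⊗[k] H →ₐ[k] A :=
    (Algebra.TensorProduct.rid k k A).toAlgHom.comp (Algebra.TensorProduct.map (AlgHom.id k A) (Bialgebra.counitAlgHom k H))
  refine ⟨⟨s.image fun y => p (π y), eq_top_iff.2 fun a _ => ?_⟩⟩
  obtain ⟨y, hy, hya⟩ := exists_fixedPts_lift hG hhom (antipode_mem_fixedPts a)
    (show _ ∈ LinearMap.range π.toLinearMap from by
      obtain ⟨y, hy⟩ := (hπsurj ▸ Algebra.mem_top :
        (HopfAlgebraStruct.antipode (R := k) (A := H)).lTensor A (HopfRep.Comod.coact (k := k) (A := H) a) ∈ π.range)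
      exact ⟨y, hy⟩)
  have hpa : p ((HopfAlgebraStruct.antipode (R := k) (A := H)).lTensor A
      (HopfRep.Comod.coact (k := k) (A := H) a)) = a := by
    have h := LinearMap.congr_fun (HopfRep.Comod.counit_comp (k := k) (A := H) (V := A)) a
    simp only [LinearMap.comp_apply] at h
    have h2 : ∀ z : A ⊗[k] H, p ((HopfAlgebraStruct.antipode (R := k) (A := H)).lTensor A z) =
        TensorProduct.rid k A ((CoalgebraStruct.counit (R := k) (A := H)).lTensor A z) := fun z => by
      induction z using TensorProduct.induction_on with
      | zero => simp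
      | add y z hy hz => simp only [map_add, hy, hz]
      | tmul q c => simp [p, HopfAlgebra.counit_antipode]
    rw [h2, h]
    simp
  have hy' : y ∈ GLin.invariants k H B := hy
  rw [hgen] at hy'
  set T := Algebra.adjoin ↥(GLin.invariants k H A) ((s.image fun y => p (π y) : Finset A) : Set A)
  rw [← hpa, ← hya]
  change p (π y) ∈ T
  have hle : Algebra.adjoin k (((i.range : Set B) ∩ (GLin.invariants k H B : Set B)) ∪ ↑s) ≤
      (T.restrictScalars k).comap (p.comp π) := by
    refine Algebra.adjoin_le ?_
    rintro z (⟨⟨a', rfl⟩, hz⟩ | hz)
    · change p (π (i a')) ∈ T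
      have hp : p (π (i a')) = a' := by
        rw [show i a' = MvPolynomial.C a' from rfl, hπC]; simp [p]
      rw [hp]
      refine T.algebraMap_mem ⟨a', ?_⟩
      refine mem_fixedPts_iff.2 fun φ => ?_
      refine (MvPolynomial.C_injective (Module.Free.ChooseBasisIndex k W) A) ?_
      exact (map_dact hiC φ a').trans ((mem_fixedPts_iff.1 hz φ).trans (map_smul i.toLinearMap (φ 1) a').symm)
    · exact Algebra.subset_adjoin (Finset.mem_coe.2 (Finset.mem_image_of_mem _ hz))
  exact hle hy'

end Groth.Agent.S16107
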