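import Groth.Statements.S16109
import Groth.Agent.Lib.Biduality.HomTensor
import Groth.Agent.Lib.Biduality.ChartBase
import Groth.Agent.Lib.DerivedOX.FlatResolve


set_option autoImplicit false
set_option linter.style.haveILetI false
universe u
open CategoryTheory CategoryTheory.Limits
attribute [local instance] HasDerivedCategory.standard
open DCoh

namespace Groth.Agent.S16109

open Groth.Agent.Lib Groth.Agent.Lib.DerivedOX DualHom Groth.Agent.Lib.Biduality

open AlgebraicGeometry in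
/-- Let X be a separated Noetherian scheme; let E be an object of D^b_coh(X), given by a cochain complex
K of O_X-modules whose image in D(O_X) has coherent and bounded cohomology sheaves; let F and G be
given by bounded complexes L and I of injective O_X-modules whose images in D(O_X) have coherent
cohomology sheaves (so F and G lie in D^b_coh(X) and have finite injective dimension); assume
moreover that RHom(−, F) and RHom(−, G) send D^b_coh(X) into itself. Then for every cochain complex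
D representing RHom(E, F) there is an isomorphism RHom(F, G) ⊗^L E ≅ RHom(RHom(E, F), G) in D(O_X);
the derived tensor functors and their right adjoints RHom are taken under their existence binders.
(The published statement does not assume that F and G have finite injective dimension and names a
canonical map; this row assumes F and G given by bounded complexes of injective modules, the case
its printed argument treats, and asserts only the existence of an isomorphism.) -/
theorem result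
    (X : Scheme.{u}) [X.IsSeparated] [IsNoetherian X]
    (K : CochainComplex X.Modules ℤ) [DCoh.HasLTensorCx K] [DCoh.HasRSheafHom K]
    (hKcoh : ∀ i : ℤ, Coh.IsCoh (DCoh.HD (DCoh.toD X K) i))
    (hKbdd : ∃ a b : ℤ, ∀ i : ℤ, (i < a ∨ b < i) → IsZero (DCoh.HD (DCoh.toD X K) i))
    (L : CochainComplex X.Modules ℤ) [DCoh.HasLTensorCx L] [DCoh.HasRSheafHom L]
    (hLinj : ∀ i : ℤ, Injective (L.X i)) (hLbdd : ∃ a b : ℤ, ∀ i : ℤ, (i < a ∨ b < i) → IsZero (L.X i))
    (hLcoh : ∀ i : ℤ, Coh.IsCoh (DCoh.HD (DCoh.toD X L) i))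
    (I : CochainComplex X.Modules ℤ)
    (hIinj : ∀ i : ℤ, Injective (I.X i)) (hIbdd : ∃ a b : ℤ, ∀ i : ℤ, (i < a ∨ b < i) → IsZero (I.X i))
    (hIcoh : ∀ i : ℤ, Coh.IsCoh (DCoh.HD (DCoh.toD X I) i))
    (hF : ∀ (P : CochainComplex X.Modules ℤ) [DCoh.HasLTensorCx P] [DCoh.HasRSheafHom P],
      (∀ i : ℤ, Coh.IsCoh (DCoh.HD (DCoh.toD X P) i)) →
      (∃ a b : ℤ, ∀ i : ℤ, (i < a ∨ b < i) → IsZero (DCoh.HD (DCoh.toD X P) i)) →
      (∀ i : ℤ, Coh.IsCoh (DCoh.HD ((DCoh.RSheafHom P).obj (DCoh.toD X L)) i)) ∧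
        ∃ a b : ℤ, ∀ i : ℤ, (i < a ∨ b < i) → IsZero (DCoh.HD ((DCoh.RSheafHom P).obj (DCoh.toD X L)) i))
    (hG : ∀ (P : CochainComplex X.Modules ℤ) [DCoh.HasLTensorCx P] [DCoh.HasRSheafHom P],
      (∀ i : ℤ, Coh.IsCoh (DCoh.HD (DCoh.toD X P) i)) →
      (∃ a b : ℤ, ∀ i : ℤ, (i < a ∨ b < i) → IsZero (DCoh.HD (DCoh.toD X P) i)) →
      (∀ i : ℤ, Coh.IsCoh (DCoh.HD ((DCoh.RSheafHom P).obj (DCoh.toD X I)) i)) ∧
        ∃ a b : ℤ, ∀ i : ℤ, (i < a ∨ b < i) → IsZero (DCoh.HD ((DCoh.RSheafHom P).obj (DCoh.toD X I)) i))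
    (D : CochainComplex X.Modules ℤ) [DCoh.HasLTensorCx D] [DCoh.HasRSheafHom D]
    (hD : Nonempty (DCoh.toD X D ≅ (DCoh.RSheafHom K).obj (DCoh.toD X L))) :
    Nonempty ((DCoh.LTensorCx K).obj ((DCoh.RSheafHom L).obj (DCoh.toD X I)) ≅
      (DCoh.RSheafHom D).obj (DCoh.toD X I)) := by
  obtain ⟨aK, bK, hK⟩ := hKbdd
  obtain ⟨aL, bL, hL⟩ := hLbdd
  obtain ⟨aI, bI, hI⟩ := hIbdd
  haveI : L.IsStrictlyGE aL :=
    (CochainComplex.isStrictlyGE_iff _ _).2 fun i hi => hL i (Or.inl hi)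
  haveI : I.IsStrictlyGE aI :=
    (CochainComplex.isStrictlyGE_iff _ _).2 fun i hi => hI i (Or.inl hi)
  haveI : I.IsStrictlyLE bI :=
    (CochainComplex.isStrictlyLE_iff _ _).2 fun i hi => hI i (Or.inr hi)
  haveI : L.IsKInjective := Groth.Agent.Lib.SpecSeq.AcyclicComplex.isKInjective_of_isStrictlyGE L aL hLinj
  haveI : I.IsKInjective := Groth.Agent.Lib.SpecSeq.AcyclicComplex.isKInjective_of_isStrictlyGE I aI hIinj
  have hA₀ : ∃ bA : ℤ, ∀ i, bA < i → ((Hc L).obj I).ExactAt i := by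
    have hL' : ∀ i : ℤ, (i < aL ∨ bL < i) → IsZero (DCoh.HD (DCoh.toD X L) i) := fun i hi =>
      (((L.exactAt_iff_isZero_homology i).1
        (HomologicalComplex.ExactAt.of_isZero (hL i hi)))).of_iso
          ((DerivedCategory.homologyFunctorFactors X.Modules i).app L)
    obtain ⟨-, a, b, hab⟩ := hG L hLcoh ⟨aL, bL, hL'⟩
    haveI := KFlat.quasiIso_aug L
    obtain ⟨eA⟩ := DualCompare.nonempty_RSheafHom_iso (K := L) (KFlat.isKFlat_res L)
      ((KFlat.aug X).app L) (J := I) hIinj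
    haveI := Invariance.quasiIso_pre (J := I) hIinj ((KFlat.aug X).app L)
    let e : DerivedCategory.Q.obj ((Hc L).obj I) ≅ (DCoh.RSheafHom L).obj (DCoh.toD X I) :=
      asIso (DerivedCategory.Q.map ((pre ((KFlat.aug X).app L)).app I)) ≪≫ eA
    refine ⟨b, fun i hi => (HomologicalComplex.exactAt_iff_isZero_homology _ i).2 ?_⟩
    exact (hab i (Or.inr hi)).of_iso
      (((DerivedCategory.homologyFunctorFactors X.Modules i).app _).symm ≪≫
        (DerivedCategory.homologyFunctor X.Modules i).mapIso e)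
  obtain ⟨bA, hbA⟩ := hA₀
  obtain ⟨A', s, hA₁, hA₂, hs⟩ := FlatResolve.exists_flat_resolution _ bA hbA
  have hA : DCoh.IsKFlat A' := Amplitude.isKFlat_of_bounded A' bA hA₁ hA₂
  let PK := (KFlat.res X).obj K
  let rK : PK ⟶ K := (KFlat.aug X).app K
  haveI : QuasiIso rK := KFlat.quasiIso_aug K
  have eK : ∀ i, DCoh.HD (DCoh.toD X K) i ≅ PK.homology i := fun i =>
    (DerivedCategory.homologyFunctorFactors X.Modules i).app K ≪≫
      (asIso (HomologicalComplex.homologyMap rK i)).symm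
  haveI : PK.IsLE bK := (CochainComplex.isLE_iff _ _).2 fun i hi =>
    (HomologicalComplex.exactAt_iff_isZero_homology _ i).2
      ((hK i (Or.inr hi)).of_iso (eK i).symm)
  haveI := HomTensor.quasiIso_φ s hLinj hIinj hA hA₂ bA aL bI hA₁ PK bK
    (fun i => CohBasics.Closure.isCoh_of_iso (eK i) (hKcoh i))
  obtain ⟨e₀⟩ := hD
  obtain ⟨e₁⟩ := DualCompare.nonempty_RSheafHom_iso (K := K) (KFlat.isKFlat_res K) rK (J := L) hLinj
  let PD := (KFlat.res X).obj D
  let rD : PD ⟶ D := (KFlat.aug X).app D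
  haveI : QuasiIso rD := KFlat.quasiIso_aug D
  obtain ⟨B, u, v, hu, hv⟩ := ChartBase.exists_roof (P := PD) (Q := (Hc PK).obj L)
    (asIso (DerivedCategory.Q.map rD) ≪≫ e₀ ≪≫ e₁.symm)
  haveI := Invariance.quasiIso_pre (J := I) hIinj u
  haveI := Invariance.quasiIso_pre (J := I) hIinj v
  obtain ⟨e₂⟩ := DualCompare.nonempty_RSheafHom_iso (K := D) (KFlat.isKFlat_res D) rD (J := I) hIinj
  obtain ⟨eA⟩ := DualCompare.nonempty_RSheafHom_iso (K := L) (KFlat.isKFlat_res L)
    ((KFlat.aug X).app L) (J := I) hIinj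
  haveI := KFlat.quasiIso_aug L
  haveI := Invariance.quasiIso_pre (J := I) hIinj ((KFlat.aug X).app L)
  obtain ⟨t₁⟩ := QCohLocal.nonempty_LTensorCx_iso K hA
  obtain ⟨t₂⟩ := QCohLocal.nonempty_tensor_iso hA (asIso (DerivedCategory.Q.map rK)).symm
  exact ⟨(DCoh.LTensorCx K).mapIso (eA.symm ≪≫
      (asIso (DerivedCategory.Q.map ((pre ((KFlat.aug X).app L)).app I))).symm ≪≫
      (asIso (DerivedCategory.Q.map s)).symm) ≪≫ t₁ ≪≫ t₂ ≪≫
    asIso (DerivedCategory.Q.map (HomTensor.φ s PK)) ≪≫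
    asIso (DerivedCategory.Q.map ((pre v).app I)) ≪≫
    (asIso (DerivedCategory.Q.map ((pre u).app I))).symm ≪≫ e₂⟩

end Groth.Agent.S16109
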