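import Groth.Statements.S16113
import Groth.Agent.Lib.UnitsFG.FG


set_option autoImplicit false
universe u
open CategoryTheory MonoidalCategory CartesianMonoidalCategory MonObj GrpObj AlgebraicGeometry CategoryTheory.Limits
open AlgGrp

namespace Groth.Agent.S16113

/-- Over an algebraically closed field k, let X be an irreducible variety (an integral separated
k-scheme of finite type) and R = Γ(X, O_X). Then the quotient of the unit group R^× by the subgroup
k^× of nonzero constants is a free abelian group of finite rank: for some n there is a surjective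
group homomorphism from R^× onto ℤⁿ (written multiplicatively) whose kernel is exactly the image of
k^× under the structure map k → R. -/
theorem result (k : Type u) [Field k] [IsAlgClosed k]
    (X : Over (Spec (CommRingCat.of k))) [IsIntegral X.left] [IsSeparated X.hom] [LocallyOfFiniteType X.hom] [QuasiCompact X.hom] :
    ∃ (n : ℕ) (v : (Γ(X.left, ⊤))ˣ →* Multiplicative (Fin n → ℤ)), Function.Surjective v ∧
      v.ker = (Units.map (((Scheme.ΓSpecIso (CommRingCat.of k)).inv ≫ X.hom.appTop).hom : k →* Γ(X.left, ⊤))).range := by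
  classical
  let φ : k →+* Γ(X.left, ⊤) := ((Scheme.ΓSpecIso (CommRingCat.of k)).inv ≫ X.hom.appTop).hom
  have : IsLocallyNoetherian X.left := LocallyOfFiniteType.isLocallyNoetherian X.hom
  have : CompactSpace X.left := QuasiCompact.compactSpace_of_compactSpace X.hom
  have : IsNoetherian X.left := ⟨⟩
  have hint : ∀ x : Γ(X.left, ⊤), φ.IsIntegralElem x → x ∈ Set.range φ := fun x hx => by
    let _ : Algebra k Γ(X.left, ⊤) := φ.toAlgebra
    have hi : IsIntegral k x := hx
    exact minpoly.mem_range_of_degree_eq_one k x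
      (IsAlgClosed.degree_eq_one_of_irreducible k (minpoly.irreducible hi))
  have hfg : Group.FG ((Γ(X.left, ⊤))ˣ ⧸ (Units.map (φ : k →* Γ(X.left, ⊤))).range) :=
    Groth.Agent.Lib.UnitsFG.FG.fg_units_mod_constants X.hom
      TopologicalSpace.NoetherianSpace.finite_irreducibleComponents hint
  have : IsMulTorsionFree ((Γ(X.left, ⊤))ˣ ⧸ (Units.map (φ : k →* Γ(X.left, ⊤))).range) := by
    refine ⟨fun m hm a b hab => ?_⟩
    obtain ⟨u, hu⟩ := QuotientGroup.mk_surjective (a / b)
    have h1 : ((u ^ m : (Γ(X.left, ⊤))ˣ) : ((Γ(X.left, ⊤))ˣ ⧸ (Units.map (φ : k →* Γ(X.left, ⊤))).range)) = 1 := by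
      rw [QuotientGroup.mk_pow, hu]
      exact (div_pow a b m).trans (div_eq_one.2 hab)
    rw [QuotientGroup.eq_one_iff] at h1
    obtain ⟨c, hc⟩ := h1
    have hc' : (u : Γ(X.left, ⊤)) ^ m = φ c := by
      rw [← Units.val_pow_eq_pow_val, ← hc]
      rfl
    obtain ⟨d, hd⟩ := hint (u : Γ(X.left, ⊤)) ⟨Polynomial.X ^ m - Polynomial.C (c : k),
      Polynomial.monic_X_pow_sub_C _ hm, by simp [hc']⟩
    have hd0 : d ≠ 0 := fun h0 => by
      rw [h0, map_zero] at hd
      exact u.ne_zero hd.symm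
    rw [← div_eq_one, ← hu, QuotientGroup.eq_one_iff]
    exact ⟨Units.mk0 d hd0, Units.ext hd⟩
  let _ : AddCommGroup (Additive ((Γ(X.left, ⊤))ˣ ⧸ (Units.map (φ : k →* Γ(X.left, ⊤))).range)) := inferInstance
  let _ : Module ℤ (Additive ((Γ(X.left, ⊤))ˣ ⧸ (Units.map (φ : k →* Γ(X.left, ⊤))).range)) := AddCommGroup.toIntModule _
  have : AddGroup.FG (Additive ((Γ(X.left, ⊤))ˣ ⧸ (Units.map (φ : k →* Γ(X.left, ⊤))).range)) := AddGroup.fg_of_group_fg
  have : Module.Finite ℤ (Additive ((Γ(X.left, ⊤))ˣ ⧸ (Units.map (φ : k →* Γ(X.left, ⊤))).range)) := Module.Finite.iff_addGroup_fg.2 inferInstance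
  let e : Additive ((Γ(X.left, ⊤))ˣ ⧸ (Units.map (φ : k →* Γ(X.left, ⊤))).range) ≃+ (Fin (Module.finrank ℤ (Additive ((Γ(X.left, ⊤))ˣ ⧸ (Units.map (φ : k →* Γ(X.left, ⊤))).range))) → ℤ) :=
    (Module.finBasis ℤ (Additive ((Γ(X.left, ⊤))ˣ ⧸ (Units.map (φ : k →* Γ(X.left, ⊤))).range))).equivFun.toAddEquiv
  let em : ((Γ(X.left, ⊤))ˣ ⧸ (Units.map (φ : k →* Γ(X.left, ⊤))).range) ≃* Multiplicative (Fin (Module.finrank ℤ (Additive ((Γ(X.left, ⊤))ˣ ⧸ (Units.map (φ : k →* Γ(X.left, ⊤))).range))) → ℤ) := AddEquiv.toMultiplicativeRight e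
  refine ⟨_, em.toMonoidHom.comp (QuotientGroup.mk' _), em.surjective.comp QuotientGroup.mk_surjective, ?_⟩
  refine (MonoidHom.ker_mulEquiv_comp _ em).trans ?_
  exact QuotientGroup.ker_mk' _

end Groth.Agent.S16113
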