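import Groth.Statements.S16116
import Groth.Agent.Lib.GrpQ.Rosenlicht
import Groth.Agent.Lib.GrpSch.Orbit


set_option autoImplicit false
universe u
open CategoryTheory MonoidalCategory CartesianMonoidalCategory MonObj GrpObj AlgebraicGeometry CategoryTheory.Limits
open AlgGrp

namespace Groth.Agent.S16116

/-- Over an algebraically closed field k, let G be a connected algebraic group (a smooth connected
k-group scheme of finite type) acting by σ on an irreducible variety X (an integral separated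
k-scheme of finite type), and let f be a unit of Γ(X, O_X). Then f is a semi-invariant: there is a
unique character χ of G (a unit of Γ(G, O_G) with e^*(χ) = 1 and m^*(χ) = p₁^*(χ) · p₂^*(χ)) such
that σ^*(f) = p₁^*(χ) · p₂^*(f) in Γ(G × X, O). -/
theorem result (k : Type u) [Field k] [IsAlgClosed k]
    (G X : Over (Spec (CommRingCat.of k))) [GrpObj G] [Smooth G.hom] [QuasiCompact G.hom] [ConnectedSpace ↥G.left]
    [IsIntegral X.left] [IsSeparated X.hom] [LocallyOfFiniteType X.hom] [QuasiCompact X.hom] (a : AlgGrp.Action G X)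
    (f : Γ(X.left, ⊤)) (hf : IsUnit f) :
    ∃! χ : Γ(G.left, ⊤), IsUnit χ ∧ η[G].left.appTop χ = 1 ∧
      μ[G].left.appTop χ = (fst G G).left.appTop χ * (snd G G).left.appTop χ ∧
      a.act.left.appTop f = (fst G X).left.appTop χ * (snd G X).left.appTop f := by
  obtain ⟨χ, h1, h2, h3, h4⟩ := Groth.Agent.Lib.GrpQ.Rosenlicht.units_grp_prod (a.act.left.appTop f) (hf.map _)
  have e : (lift (toUnit X ≫ η[G]) (𝟙 X)).left.appTop (a.act.left.appTop f) = f := by
    change (a.act.left.appTop ≫ (lift (toUnit X ≫ η[G]) (𝟙 X)).left.appTop) f = f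
    rw [← Scheme.Hom.comp_appTop, ← Over.comp_left, Groth.Agent.Lib.GrpSch.act_η]
    simp
  rw [e] at h4
  refine ⟨χ, ⟨h1, h2, h3, h4⟩, fun χ' ⟨_, _, _, h4'⟩ => ?_⟩
  obtain ⟨x₀⟩ := Groth.Agent.Lib.GrpQ.Rosenlicht.exists_point X
  have h := congrArg (lift (𝟙 G) (toUnit G ≫ x₀)).left.appTop (h4'.symm.trans h4)
  have e1 : ∀ c, (lift (𝟙 G) (toUnit G ≫ x₀)).left.appTop ((fst G X).left.appTop c) = c := fun c => by
    change ((fst G X).left.appTop ≫ (lift (𝟙 G) (toUnit G ≫ x₀)).left.appTop) c = c
    rw [← Scheme.Hom.comp_appTop, ← Over.comp_left, lift_fst]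
    simp
  have hu : IsUnit ((lift (𝟙 G) (toUnit G ≫ x₀)).left.appTop ((snd G X).left.appTop f)) := (hf.map _).map _
  rw [map_mul, map_mul, e1, e1] at h
  exact hu.mul_left_injective h

end Groth.Agent.S16116
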