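import Groth.Statements.S16117
import Groth.Agent.Lib.GrpQ.Rosenlicht


set_option autoImplicit false
universe u
open CategoryTheory MonoidalCategory CartesianMonoidalCategory MonObj GrpObj AlgebraicGeometry CategoryTheory.Limits
open AlgGrp

namespace Groth.Agent.S16117

/-- Over an algebraically closed field k, let X and Y be irreducible varieties (integral separated
k-schemes of finite type). Then the product map on units is surjective: every unit of Γ(X × Y, O)
equals p₁^*(g) · p₂^*(h) for some units g of Γ(X, O_X) and h of Γ(Y, O_Y). -/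
theorem result (k : Type u) [Field k] [IsAlgClosed k]
    (X Y : Over (Spec (CommRingCat.of k))) [IsIntegral X.left] [IsSeparated X.hom] [LocallyOfFiniteType X.hom] [QuasiCompact X.hom]
    [IsIntegral Y.left] [IsSeparated Y.hom] [LocallyOfFiniteType Y.hom] [QuasiCompact Y.hom]
    (f : Γ((X ⊗ Y).left, ⊤)) (hf : IsUnit f) :
    ∃ (g : Γ(X.left, ⊤)) (h : Γ(Y.left, ⊤)), IsUnit g ∧ IsUnit h ∧
      f = (fst X Y).left.appTop g * (snd X Y).left.appTop h := by
  obtain ⟨x₀⟩ := Groth.Agent.Lib.GrpQ.Rosenlicht.exists_point X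
  obtain ⟨y₀⟩ := Groth.Agent.Lib.GrpQ.Rosenlicht.exists_point Y
  have h := Groth.Agent.Lib.GrpQ.Rosenlicht.units_prod x₀ y₀ f hf
  let c := Groth.Agent.Lib.GrpQ.Rosenlicht.valAt (lift x₀ y₀) f
  have hc : IsUnit c := hf.map _
  obtain ⟨d, hd⟩ := hc.exists_right_inv
  have hd' : IsUnit d := IsUnit.of_mul_eq_one_right _ hd
  refine ⟨(lift (𝟙 X) (toUnit X ≫ y₀)).left.appTop f * ((Scheme.ΓSpecIso (CommRingCat.of k)).inv ≫ X.hom.appTop).hom d,
    (lift (toUnit Y ≫ x₀) (𝟙 Y)).left.appTop f, (hf.map _).mul (Groth.Agent.Lib.GrpQ.Rosenlicht.isUnit_const hd'),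
    hf.map _, ?_⟩
  rw [map_mul, Groth.Agent.Lib.GrpQ.Rosenlicht.map_const]
  have hcd : ((Scheme.ΓSpecIso (CommRingCat.of k)).inv ≫ (X ⊗ Y).hom.appTop).hom c *
      ((Scheme.ΓSpecIso (CommRingCat.of k)).inv ≫ (X ⊗ Y).hom.appTop).hom d = 1 := by
    rw [← map_mul, hd, map_one]
  calc f = f * ((Scheme.ΓSpecIso (CommRingCat.of k)).inv ≫ (X ⊗ Y).hom.appTop).hom c *
        ((Scheme.ΓSpecIso (CommRingCat.of k)).inv ≫ (X ⊗ Y).hom.appTop).hom d := by
        rw [_root_.mul_assoc, hcd, _root_.mul_one]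
    _ = _ := by rw [h]; ring

end Groth.Agent.S16117
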