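import Groth.Statements.S16121
import Groth.Agent.Lib.Rat85.General
import Groth.Agent.H1.Classical.Scheme
import Groth.Agent.H1.GrpIrred
import Groth.Agent.H1.Hopf
-- import your own Groth.Agent.* helpers here

set_option autoImplicit false
universe u
open CategoryTheory MonoidalCategory CartesianMonoidalCategory MonObj GrpObj AlgebraicGeometry CategoryTheory.Limits
open AlgGrp

namespace Groth.Agent.S16121

/-- Over an algebraically closed field k, a connected linear algebraic group G (an affine, smooth,
connected k-group scheme) is a rational variety: there are a nonempty open subscheme U of G, an n,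
an open subscheme V of the affine space 𝔸ⁿ_k and an isomorphism U ≅ V compatible with the structure
morphisms to Spec k. -/
theorem result (k : Type u) [Field k] [IsAlgClosed k]
    (G : Over (Spec (CommRingCat.of k))) [GrpObj G] [IsAffine G.left] [Smooth G.hom] [ConnectedSpace ↥G.left] :
    ∃ (U : G.left.Opens) (n : ℕ) (V : (𝔸(ULift.{u} (Fin n); Spec (CommRingCat.of k))).Opens)
      (e : (U : Scheme.{u}) ≅ (V : Scheme.{u})), (U : Set ↥G.left).Nonempty ∧
        e.hom ≫ V.ι ≫ (𝔸(ULift.{u} (Fin n); Spec (CommRingCat.of k)) ↘ Spec (CommRingCat.of k)) = U.ι ≫ G.hom := by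
  obtain ⟨A, _, _, e, -⟩ := Groth.Agent.H1.Hopf.exists_iso G
  have hft : Algebra.FiniteType k A := by
    have : IsIso e.inv.left := ((Over.forget _).mapIso e).isIso_inv
    exact Groth.Agent.H1.Hopf.finiteType_of_locallyOfFiniteType (by rw [← Over.w e.inv]; infer_instance)
  have hdom : IsDomain A := by
    have := Groth.Agent.H1.GrpIrred.isIntegral G
    let ee := (Over.forget _).mapIso e
    have : IsIntegral ((Spec (CommRingCat.of A)).asOver (Spec (CommRingCat.of k))).left := by
      have : IsIso e.inv.left := ee.isIso_inv
      have : Nonempty ((Spec (CommRingCat.of A)).asOver (Spec (CommRingCat.of k))).left :=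
        ⟨e.hom.left (Classical.arbitrary G.left)⟩
      exact isIntegral_of_isOpenImmersion e.inv.left
    exact (affine_isIntegral_iff (CommRingCat.of A)).mp this
  obtain ⟨n, f, g, hf, hg, ⟨w⟩⟩ := Groth.Agent.Lib.Rat85.exists_localisation (k := k) A
  let P := MvPolynomial (ULift.{u} (Fin n)) k
  let jA : Spec (CommRingCat.of (Localization.Away f)) ⟶ Spec (CommRingCat.of A) :=
    Spec.map (CommRingCat.ofHom (algebraMap A (Localization.Away f)))
  let jP : Spec (CommRingCat.of (Localization.Away g)) ⟶ Spec (CommRingCat.of P) :=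
    Spec.map (CommRingCat.ofHom (algebraMap P (Localization.Away g)))
  let eG : Spec (CommRingCat.of A) ≅ G.left := ((Over.forget _).mapIso e).symm
  have heG : eG.hom ≫ G.hom = Spec.map (CommRingCat.ofHom (algebraMap k A)) := Over.w e.inv
  let eS := AffineSpace.SpecIso (ULift.{u} (Fin n)) (CommRingCat.of k)
  have : IsOpenImmersion jA := IsOpenImmersion.of_isLocalization f
  have : IsOpenImmersion jP := IsOpenImmersion.of_isLocalization g
  let iA := jA ≫ eG.hom
  let iP := jP ≫ eS.inv
  have : IsOpenImmersion iA := inferInstanceAs (IsOpenImmersion (jA ≫ eG.hom))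
  have : IsOpenImmersion iP := inferInstanceAs (IsOpenImmersion (jP ≫ eS.inv))
  let eW : Spec (CommRingCat.of (Localization.Away f)) ≅ Spec (CommRingCat.of (Localization.Away g)) :=
    Scheme.Spec.mapIso (w.symm.toRingEquiv.toCommRingCatIso).op
  refine ⟨iA.opensRange, n, iP.opensRange, iA.isoOpensRange.symm ≪≫ eW ≪≫ iP.isoOpensRange, ?_, ?_⟩
  · have : Nontrivial (Localization.Away f) :=
      (IsLocalization.injective (Localization.Away f)
        (le_nonZeroDivisors_of_noZeroDivisors fun ⟨m, hm⟩ => hf (eq_zero_of_pow_eq_zero hm) :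
          Submonoid.powers f ≤ nonZeroDivisors A)).nontrivial
    have : Nonempty (Spec (CommRingCat.of (Localization.Away f))) :=
      ⟨(Classical.arbitrary (PrimeSpectrum (Localization.Away f)) : PrimeSpectrum (Localization.Away f))⟩
    exact Set.range_nonempty iA
  · have hkey : eW.hom ≫ iP ≫ (𝔸(ULift.{u} (Fin n); Spec (CommRingCat.of k)) ↘ Spec (CommRingCat.of k)) = iA ≫ G.hom := by
      simp only [iP, iA, eS, Category.assoc, AffineSpace.SpecIso_inv_over, heG, eW, jA, jP]
      simp only [Functor.mapIso_hom, Iso.op_hom, Scheme.Spec_map, Quiver.Hom.unop_op, ← Spec.map_comp]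
      congr 1
      ext c
      change w.symm (algebraMap P (Localization.Away g) (MvPolynomial.C c)) = algebraMap A (Localization.Away f) (algebraMap k A c)
      rw [← IsScalarTower.algebraMap_apply, ← w.symm.commutes c, IsScalarTower.algebraMap_apply k P (Localization.Away g)]
      rfl
    simp only [Iso.trans_hom, Iso.symm_hom, Category.assoc]
    rw [← Category.assoc (iP.isoOpensRange).hom, Scheme.Hom.isoOpensRange_hom_ι, hkey, ← Category.assoc,
      Scheme.Hom.isoOpensRange_inv_comp]

end Groth.Agent.S16121
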