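import Groth.Statements.S16118
import Groth.Agent.S16121
import Groth.Agent.S7672
import Groth.Agent.H1.GrpIrred
import Groth.Prelude.Def_PicGrp
-- import your own Groth.Agent.* helpers here

set_option autoImplicit false
universe u
open CategoryTheory MonoidalCategory CartesianMonoidalCategory MonObj GrpObj AlgebraicGeometry CategoryTheory.Limits
open AlgGrp

namespace Groth.Agent.S16118

/-- Over an algebraically closed field k, let G be a connected linear algebraic group (an affine,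
smooth, connected k-group scheme) acting by σ on a normal irreducible variety X (an integral normal
separated k-scheme of finite type), and let L be an invertible O_X-module. Then L is G-invariant:
for every k-point g of G, with translation t_g : X → X, x ↦ g · x, the inverse image t_g^*(L) is
isomorphic to L. -/
theorem result (k : Type u) [Field k] [IsAlgClosed k]
    (G X : Over (Spec (CommRingCat.of k))) [GrpObj G] [IsAffine G.left] [Smooth G.hom] [ConnectedSpace ↥G.left]
    [IsIntegral X.left] [IsSeparated X.hom] [LocallyOfFiniteType X.hom] [QuasiCompact X.hom]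
    (hX : Pi1.IsNormalScheme X.left) (a : AlgGrp.Action G X)
    (g : 𝟙_ (Over (Spec (CommRingCat.of k))) ⟶ G) (L : X.left.Modules) (hL : PicF.IsInvertible L) :
    Nonempty ((Scheme.Modules.pullback (lift (toUnit X ≫ g) (𝟙 X) ≫ a.act).left).obj L ≅ L) := by
  obtain ⟨U, n, V, e, hUne, he⟩ := Groth.Agent.S16121.result k G
  let S := Spec (CommRingCat.of k)
  let tr : (𝟙_ (Over S) ⟶ G) → (X ⟶ X) := fun h => lift (toUnit X ≫ h) (𝟙 X) ≫ a.act
  have tr_one : tr 1 = 𝟙 X := by
    have h1 : (lift (toUnit X ≫ (1 : 𝟙_ (Over S) ⟶ G)) (𝟙 X)) = lift (toUnit X) (𝟙 X) ≫ η[G] ▷ X := by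
      rw [lift_whiskerRight, Hom.one_def, toUnit_unit, Category.id_comp]
    change lift (toUnit X ≫ (1 : 𝟙_ (Over S) ⟶ G)) (𝟙 X) ≫ a.act = 𝟙 X
    rw [h1, Category.assoc, a.one_act, leftUnitor_hom, lift_snd]
  have tr_mul : ∀ h h' : 𝟙_ (Over S) ⟶ G, tr h ≫ tr h' = tr (h' * h) := by
    intro h h'
    have h1 : tr h ≫ tr h' = lift (toUnit X ≫ h') (lift (toUnit X ≫ h) (𝟙 X) ≫ a.act) ≫ a.act := by
      simp only [tr, ← Category.assoc]
      congr 1
      rw [comp_lift, Category.assoc, Category.comp_id]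
      ext1
      · rw [lift_fst, lift_fst, ← Category.assoc (lift _ _), ← Category.assoc, comp_toUnit]
      · rw [lift_snd, lift_snd]
    have h2 : lift (toUnit X ≫ h') (lift (toUnit X ≫ h) (𝟙 X) ≫ a.act) =
        lift (lift (toUnit X ≫ h') (toUnit X ≫ h)) (𝟙 X) ≫ (α_ G G X).hom ≫ G ◁ a.act := by
      rw [lift_lift_associator_hom_assoc, lift_whiskerLeft]
    rw [h1, h2, Category.assoc, Category.assoc, ← a.mul_act, lift_whiskerRight_assoc]
    simp only [tr]
    congr 2
    rw [Hom.mul_def, ← Category.assoc, comp_lift]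
  -- two rational points of `U` differing by `g`
  let Lg : G ⟶ G := (toUnit G ≫ g) * 𝟙 G
  have hsurj : Function.Surjective Lg.left := by
    let Lg' : G ⟶ G := (toUnit G ≫ g⁻¹) * 𝟙 G
    have hinv : Lg' ≫ Lg = 𝟙 G := by
      have h1 : Lg' ≫ Lg = (toUnit G ≫ g) * Lg' := by
        rw [MonObj.comp_mul, Category.comp_id, ← Category.assoc, comp_toUnit]
      rw [h1, ← _root_.mul_assoc, ← MonObj.comp_mul, mul_inv_cancel]
      simp
    intro y
    refine ⟨Lg'.left y, ?_⟩
    have h2 := congrArg (fun f : G ⟶ G => f.left) hinv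
    simp only [Over.comp_left, Over.id_left] at h2
    exact congrArg (fun f : G.left ⟶ G.left => f y) h2
  haveI : IrreducibleSpace G.left := by
    haveI : QuasiCompact G.hom := inferInstance
    have := Groth.Agent.H1.GrpIrred.isIntegral G
    infer_instance
  have hW : ((U ⊓ Lg.left ⁻¹ᵁ U : G.left.Opens) : Set G.left).Nonempty := by
    obtain ⟨y, hy⟩ := hUne
    obtain ⟨x, hx⟩ := hsurj y
    exact nonempty_preirreducible_inter U.isOpen (Lg.left ⁻¹ᵁ U).isOpen ⟨y, hy⟩
      ⟨x, show Lg.left x ∈ U by rw [hx]; exact hy⟩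
  haveI : JacobsonSpace G.left := LocallyOfFiniteType.jacobsonSpace G.hom
  obtain ⟨z, hzW, hz⟩ := nonempty_inter_closedPoints hW (U ⊓ Lg.left ⁻¹ᵁ U).isOpen.isLocallyClosed
  let u : 𝟙_ (Over S) ⟶ G := Over.homMk (pointOfClosedPoint G.hom z hz) (pointOfClosedPoint_comp _ _ _)
  have hu : ∀ s, u.left s = z := fun s => pointOfClosedPoint_apply G.hom z hz s
  have hgu : u ≫ Lg = g * u := by
    rw [MonObj.comp_mul, Category.comp_id, ← Category.assoc, toUnit_unique (u ≫ toUnit G) (𝟙 _), Category.id_comp]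
  have hgus : ∀ s, (g * u).left s ∈ U := fun s => by
    rw [← hgu]
    show Lg.left (u.left s) ∈ U
    rw [hu]
    exact hzW.2
  let q := V.ι ≫ (𝔸(ULift.{u} (Fin n); S) ↘ S)
  have toV : ∀ v : 𝟙_ (Over S) ⟶ G, Set.range v.left ⊆ (U : Set G.left) →
      ∃ p : S ⟶ (V : Scheme.{u}), p ≫ q = 𝟙 _ ∧ p ≫ e.inv ≫ U.ι = v.left := by
    intro v hv
    let vU : S ⟶ (U : Scheme.{u}) := IsOpenImmersion.lift U.ι v.left (by rw [Scheme.Opens.range_ι]; exact hv)
    refine ⟨vU ≫ e.hom, ?_, ?_⟩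
    · rw [Category.assoc, he, IsOpenImmersion.lift_fac_assoc]
      exact Over.w v
    · rw [Category.assoc, e.hom_inv_id_assoc, IsOpenImmersion.lift_fac]
  obtain ⟨p₁, hp₁, hp₁'⟩ := toV u (by rintro _ ⟨s, rfl⟩; exact (hu s).symm ▸ hzW.1)
  obtain ⟨p₂, hp₂, hp₂'⟩ := toV (g * u) (by rintro _ ⟨s, rfl⟩; exact hgus s)
  let w : pullback X.hom q ⟶ (G ⊗ X).left :=
    pullback.lift (pullback.snd X.hom q ≫ e.inv ≫ U.ι) (pullback.fst X.hom q) (by
      rw [Category.assoc, Category.assoc, ← he, e.inv_hom_id_assoc]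
      exact pullback.condition.symm)
  let M := (Scheme.Modules.pullback (w ≫ a.act.left)).obj L
  have hM : PicF.IsInvertible M := PicLoc.isInvertible_pullback _ hL
  let σ₁ : X.left ⟶ pullback X.hom q := pullback.lift (𝟙 _) (X.hom ≫ p₁) (by rw [Category.id_comp, Category.assoc, hp₁, Category.comp_id])
  let σ₂ : X.left ⟶ pullback X.hom q := pullback.lift (𝟙 _) (X.hom ≫ p₂) (by rw [Category.id_comp, Category.assoc, hp₂, Category.comp_id])
  have hσ : ∀ (v : 𝟙_ (Over S) ⟶ G) (p : S ⟶ (V : Scheme.{u})) (σ : X.left ⟶ pullback X.hom q),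
      σ ≫ pullback.fst _ _ = 𝟙 _ → σ ≫ pullback.snd _ _ = X.hom ≫ p → p ≫ e.inv ≫ U.ι = v.left →
      σ ≫ w ≫ a.act.left = (tr v).left := by
    intro v p σ h1 h2 h3
    have hw : σ ≫ w = (lift (toUnit X ≫ v) (𝟙 X)).left := by
      refine pullback.hom_ext ?_ ?_
      · rw [Category.assoc, pullback.lift_fst, ← Category.assoc, h2, Category.assoc, h3]
        exact (congrArg (fun f : X ⟶ G => f.left) (lift_fst (toUnit X ≫ v) (𝟙 X))).symm.trans rfl
      · rw [Category.assoc, pullback.lift_snd, h1]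
        exact (congrArg (fun f : X ⟶ X => f.left) (lift_snd (toUnit X ≫ v) (𝟙 X))).symm
    rw [← Category.assoc, hw]
    rfl
  letI : X.left.Over S := ⟨X.hom⟩
  obtain ⟨i⟩ := @Groth.Agent.S7672.result k _ X.left ⟨X.hom⟩ _ hX ‹_› ‹_› ‹_› n V p₁ p₂ hp₁ hp₂ σ₁ σ₂
    (pullback.lift_fst _ _ _) (pullback.lift_snd _ _ _) (pullback.lift_fst _ _ _) (pullback.lift_snd _ _ _) M hM
  have h12 : PicF.pullCl (tr u).left (PicF.cl L) = PicF.pullCl (tr (g * u)).left (PicF.cl L) := by
    rw [← hσ u p₁ σ₁ (pullback.lift_fst _ _ _) (pullback.lift_snd _ _ _) hp₁',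
      ← hσ (g * u) p₂ σ₂ (pullback.lift_fst _ _ _) (pullback.lift_snd _ _ _) hp₂', PicLoc.pullCl_comp,
      PicLoc.pullCl_comp σ₂, PicLoc.pullCl_cl, PicLoc.pullCl_cl, PicLoc.pullCl_cl]
    exact Quot.sound ⟨i⟩
  have h13 := congrArg (PicF.pullCl (tr u⁻¹).left) h12
  rw [← PicLoc.pullCl_comp, ← PicLoc.pullCl_comp, ← Over.comp_left, ← Over.comp_left, tr_mul, tr_mul, mul_inv_cancel,
    tr_one, mul_inv_cancel_right, Over.id_left, PicLoc.pullCl_id, PicLoc.pullCl_cl] at h13
  rw [← PicGrp.cl_eq_cl_iff]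
  exact h13.symm

end Groth.Agent.S16118
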