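import Groth.Statements.S16120
import Groth.Agent.Lib.PicGen.Main
import Groth.Agent.Lib.PicGen.OpenUFD
import Groth.Agent.Lib.TensorMod.Pullback
import Groth.Agent.Lib.FibreDeg.Basic
import Groth.Agent.H52.FBase.GeomRedSch
import Groth.Agent.S2500
import Groth.Agent.S7819
-- import your own Groth.Agent.* helpers here

set_option autoImplicit false
universe u
open CategoryTheory MonoidalCategory CartesianMonoidalCategory MonObj GrpObj AlgebraicGeometry CategoryTheory.Limits
open PicGrp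

namespace Groth.Agent.S16120

/-- Over an algebraically closed field k, let X and Y be normal irreducible varieties (integral normal
separated k-schemes of finite type) and assume X rational: some nonempty open subscheme of X is
isomorphic over k to an open subscheme of an affine space 𝔸ⁿ_k. Assume the Picard group laws on X, Y
and X × Y, with pullback along the two projections multiplicative. Then the map Pic(X) × Pic(Y) →
Pic(X × Y), (c, d) ↦ p₁^*(c) · p₂^*(d), is bijective. (The published companion assertion on divisor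
class groups is not stated here.) -/
theorem result (k : Type u) [Field k] [IsAlgClosed k]
    (X Y : Over (Spec (CommRingCat.of k))) [IsIntegral X.left] [IsSeparated X.hom] [LocallyOfFiniteType X.hom] [QuasiCompact X.hom]
    [IsIntegral Y.left] [IsSeparated Y.hom] [LocallyOfFiniteType Y.hom] [QuasiCompact Y.hom]
    (hX : Pi1.IsNormalScheme X.left) (hY : Pi1.IsNormalScheme Y.left)
    (hrat : ∃ (U : X.left.Opens) (n : ℕ) (V : (𝔸(ULift.{u} (Fin n); Spec (CommRingCat.of k))).Opens)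
      (e : (U : Scheme.{u}) ≅ (V : Scheme.{u})), (U : Set ↥X.left).Nonempty ∧
        e.hom ≫ V.ι ≫ (𝔸(ULift.{u} (Fin n); Spec (CommRingCat.of k)) ↘ Spec (CommRingCat.of k)) = U.ι ≫ X.hom)
    [PicGrp.Law X.left] [PicGrp.Law Y.left] [PicGrp.Law (X ⊗ Y).left]
    (h₁ : PicGrp.PullMul (fst X Y).left) (h₂ : PicGrp.PullMul (snd X Y).left) :
    Function.Bijective (fun cd : PicLoc.PicSet X.left × PicLoc.PicSet Y.left =>
      PicGrp.pullHom (fst X Y).left h₁ cd.1 * PicGrp.pullHom (snd X Y).left h₂ cd.2) := by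
  classical
  obtain ⟨U, n, V, e, hUne, he⟩ := hrat
  let S₀ : Scheme.{u} := Spec (CommRingCat.of k)
  haveI : JacobsonSpace X.left := LocallyOfFiniteType.jacobsonSpace X.hom
  haveI : JacobsonSpace Y.left := LocallyOfFiniteType.jacobsonSpace Y.hom
  -- rational points
  obtain ⟨x₀, hx₀, hxU⟩ : ∃ x : Spec (CommRingCat.of k) ⟶ X.left, x ≫ X.hom = 𝟙 _ ∧ Set.range x ⊆ U := by
    obtain ⟨z, hzU, hz⟩ := nonempty_inter_closedPoints (Z := (U : Set X.left)) hUne U.isOpen.isLocallyClosed
    refine ⟨pointOfClosedPoint X.hom z hz, pointOfClosedPoint_comp _ _ _, ?_⟩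
    rintro _ ⟨a, rfl⟩
    exact (pointOfClosedPoint_apply X.hom z hz a).symm ▸ hzU
  obtain ⟨y₀, hy₀⟩ : ∃ y : Spec (CommRingCat.of k) ⟶ Y.left, y ≫ Y.hom = 𝟙 _ := by
    obtain ⟨z, -, hz⟩ := nonempty_inter_closedPoints (Z := (Set.univ : Set Y.left)) Set.univ_nonempty
      isOpen_univ.isLocallyClosed
    exact ⟨pointOfClosedPoint Y.hom z hz, pointOfClosedPoint_comp _ _ _⟩
  let xU : Spec (CommRingCat.of k) ⟶ (U : Scheme.{u}) :=
    IsOpenImmersion.lift U.ι x₀ (by rw [Scheme.Opens.range_ι]; exact hxU)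
  let u : Spec (CommRingCat.of k) ⟶ (V : Scheme.{u}) := xU ≫ e.hom
  have hu : u ≫ V.ι ≫ (𝔸(ULift.{u} (Fin n); Spec (CommRingCat.of k)) ↘ Spec (CommRingCat.of k)) = 𝟙 _ := by
    rw [Category.assoc, he, ← Category.assoc, IsOpenImmersion.lift_fac, hx₀]
  -- geometry of the projection to `X`
  haveI : IsLocallyNoetherian X.left := LocallyOfFiniteType.isLocallyNoetherian X.hom
  haveI : IsLocallyNoetherian Y.left := LocallyOfFiniteType.isLocallyNoetherian Y.hom
  haveI : CompactSpace Y.left := (quasiCompact_iff_compactSpace Y.hom).mp inferInstance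
  haveI : IsNoetherian Y.left := { }
  haveI : GeometricallyReduced Y.hom := Groth.Agent.H52.FBase.GeomRedSch.geometricallyReduced_of_perfectField Y.hom
  haveI : GeometricallyIrreducible Y.hom := Groth.Agent.S2500.result Y.hom
  haveI : GeometricallyIntegral Y.hom := GeometricallyIntegral.of_geometricallyReduced_of_geometricallyIrreducible _
  haveI : Flat Y.hom := Groth.Agent.Lib.FibreDeg.Basic.flat_of_field Y.hom
  let P := (X ⊗ Y).left
  let p₁ : P ⟶ X.left := (fst X Y).left
  let p₂ : P ⟶ Y.left := (snd X Y).left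
  haveI : Flat p₁ := inferInstanceAs (Flat (pullback.fst X.hom Y.hom))
  haveI : LocallyOfFiniteType p₁ := inferInstanceAs (LocallyOfFiniteType (pullback.fst X.hom Y.hom))
  haveI : GeometricallyIntegral p₁ := inferInstanceAs (GeometricallyIntegral (pullback.fst X.hom Y.hom))
  have hfib : ∀ x : X.left, IsIntegral (p₁.fiber x) := fun x => inferInstance
  haveI : IsLocallyNoetherian P := LocallyOfFiniteType.isLocallyNoetherian p₁
  haveI : IsIntegral P := Groth.Agent.Lib.PicGen.Integral.isIntegral p₁ hfib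
  constructor
  · -- injectivity: restrict to the two slices
    intro cd cd' h
    let a : X.left ⟶ P := pullback.lift (𝟙 _) (X.hom ≫ y₀) (by rw [Category.id_comp, Category.assoc, hy₀, Category.comp_id])
    let b : Y.left ⟶ P := pullback.lift (Y.hom ≫ x₀) (𝟙 _) (by rw [Category.id_comp, Category.assoc, hx₀, Category.comp_id])
    have ha₁ : a ≫ p₁ = 𝟙 _ := pullback.lift_fst _ _ _
    have ha₂ : a ≫ p₂ = X.hom ≫ y₀ := pullback.lift_snd _ _ _
    have hb₁ : b ≫ p₁ = Y.hom ≫ x₀ := pullback.lift_fst _ _ _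
    have hb₂ : b ≫ p₂ = 𝟙 _ := pullback.lift_snd _ _ _
    have hval : ∀ cd : PicLoc.PicSet X.left × PicLoc.PicSet Y.left,
        PicF.pullCl a (PicGrp.pullHom p₁ h₁ cd.1 * PicGrp.pullHom p₂ h₂ cd.2).1 = cd.1.1 ∧
        PicF.pullCl b (PicGrp.pullHom p₁ h₁ cd.1 * PicGrp.pullHom p₂ h₂ cd.2).1 = cd.2.1 := by
      intro cd
      have htrivX : ∀ c : PicLoc.PicSet X.left, PicF.pullCl x₀ c.1 = PicF.cl (Coh.structureModule S₀) := fun c => by
        obtain ⟨L, hc, hL⟩ := c.2
        obtain ⟨i⟩ := Groth.Agent.Lib.PicGen.OpenUFD.nonempty_iso_spec k _ (PicLoc.isInvertible_pullback x₀ hL)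
        rw [← hc]; exact Quot.sound ⟨i⟩
      have htrivY : ∀ c : PicLoc.PicSet Y.left, PicF.pullCl y₀ c.1 = PicF.cl (Coh.structureModule S₀) := fun c => by
        obtain ⟨L, hc, hL⟩ := c.2
        obtain ⟨i⟩ := Groth.Agent.Lib.PicGen.OpenUFD.nonempty_iso_spec k _ (PicLoc.isInvertible_pullback y₀ hL)
        rw [← hc]; exact Quot.sound ⟨i⟩
      have hone : ∀ {W : Scheme.{u}} (g : W ⟶ S₀), PicF.pullCl g (PicF.cl (Coh.structureModule S₀)) =
          PicF.cl (Coh.structureModule W) := fun g => Quot.sound ⟨PicLoc.pullbackStructureIso g⟩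
      constructor
      · rw [PicGrp.mul_val, PicGrp.pullHom_apply_val, PicGrp.pullHom_apply_val,
          Groth.Agent.Lib.TensorMod.Pullback.pullCl_mulCl, ← PicLoc.pullCl_comp, ← PicLoc.pullCl_comp,
          ha₁, ha₂, PicLoc.pullCl_id, PicLoc.pullCl_comp, htrivY, hone, ← PicGrp.one_val, ← PicGrp.mul_val, _root_.mul_one]
      · rw [PicGrp.mul_val, PicGrp.pullHom_apply_val, PicGrp.pullHom_apply_val,
          Groth.Agent.Lib.TensorMod.Pullback.pullCl_mulCl, ← PicLoc.pullCl_comp, ← PicLoc.pullCl_comp,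
          hb₁, hb₂, PicLoc.pullCl_id, PicLoc.pullCl_comp, htrivX, hone, ← PicGrp.one_val, ← PicGrp.mul_val, _root_.one_mul]
    refine Prod.ext (Subtype.ext ?_) (Subtype.ext ?_)
    · rw [← (hval cd).1, ← (hval cd').1]
      exact congrArg (fun c : PicLoc.PicSet P => PicF.pullCl a c.1) h
    · rw [← (hval cd).2, ← (hval cd').2]
      exact congrArg (fun c : PicLoc.PicSet P => PicF.pullCl b c.1) h
  · -- surjectivity: the chart `U × Y`, then descent along the projection to `X`
    intro c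
    let q := V.ι ≫ (𝔸(ULift.{u} (Fin n); Spec (CommRingCat.of k)) ↘ Spec (CommRingCat.of k))
    let w₁ : pullback Y.hom q ⟶ (U : Scheme.{u}) := pullback.snd Y.hom q ≫ e.inv
    have h0 : IsPullback w₁ (pullback.fst Y.hom q) (U.ι ≫ X.hom) Y.hom := by
      refine (IsPullback.of_hasPullback Y.hom q).flip.of_iso (Iso.refl _) e.symm (Iso.refl _) (Iso.refl _)
        (by simp [w₁]) (by simp) ?_ (by simp)
      simp only [Iso.symm_hom, Iso.refl_hom, Category.comp_id, q]
      rw [← he, e.inv_hom_id_assoc]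
    let φ : pullback Y.hom q ⟶ P := pullback.lift (w₁ ≫ U.ι) (pullback.fst Y.hom q)
      (by rw [Category.assoc]; exact h0.w)
    have hφ : IsPullback w₁ φ U.ι p₁ :=
      IsPullback.of_bot (by
        rw [show φ ≫ pullback.snd X.hom Y.hom = pullback.fst Y.hom q from pullback.lift_snd _ _ _]
        exact h0) (pullback.lift_fst _ _ _).symm (IsPullback.of_hasPullback X.hom Y.hom)
    obtain ⟨N, ⟨⟨N', rfl, hN'⟩, hN⟩, -⟩ := Groth.Agent.S7819.result (Spec (CommRingCat.of k)) n V u hu Y.hom hY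
      (PicF.pullCl φ c.1) (PicLoc.isInvertibleCl_pullCl φ c.2)
    let d : PicLoc.PicSet Y.left := PicGrp.cls N' hN'
    let c' : PicLoc.PicSet P := c * (PicGrp.pullHom p₂ h₂ d)⁻¹
    obtain ⟨L', hL'c, hL'⟩ := c'.2
    let ξ := genericPoint ↥X.left
    have hξU : ξ ∈ U := ((genericPoint_spec ↥X.left).mem_open_set_iff U.isOpen).mpr (by simpa using hUne)
    let r : Spec (X.left.residueField ξ) ⟶ (U : Scheme.{u}) := IsOpenImmersion.lift U.ι (X.left.fromSpecResidueField ξ)
      (by rw [Scheme.Opens.range_ι, Scheme.range_fromSpecResidueField]; simpa using hξU)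
    let κ : p₁.fiber ξ ⟶ pullback Y.hom q := hφ.lift (p₁.fiberToSpecResidueField ξ ≫ r) (p₁.fiberι ξ)
      (by rw [Category.assoc, IsOpenImmersion.lift_fac]; exact pullback.condition.symm)
    have hκ : κ ≫ φ = p₁.fiberι ξ := hφ.lift_snd _ _ _
    have hgen : Nonempty ((Scheme.Modules.pullback (p₁.fiberι ξ)).obj L' ≅ Coh.structureModule (p₁.fiber ξ)) := by
      rw [← PicGrp.cl_eq_cl_iff, ← PicLoc.pullCl_cl, hL'c]
      have hcd : PicF.pullCl (p₁.fiberι ξ) c.1 = PicF.pullCl (p₁.fiberι ξ) (PicGrp.pullHom p₂ h₂ d).1 := by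
        rw [← hκ, PicLoc.pullCl_comp, ← hN, PicGrp.pullHom_apply_val, PicLoc.pullCl_comp κ φ,
          ← PicLoc.pullCl_comp φ p₂, show φ ≫ p₂ = pullback.fst Y.hom q from pullback.lift_snd _ _ _]
        rfl
      show PicF.pullCl (p₁.fiberι ξ) (c * (PicGrp.pullHom p₂ h₂ d)⁻¹ : PicLoc.PicSet P).1 = _
      rw [PicGrp.mul_val, Groth.Agent.Lib.TensorMod.Pullback.pullCl_mulCl, hcd,
        ← Groth.Agent.Lib.TensorMod.Pullback.pullCl_mulCl, ← PicGrp.mul_val, mul_inv_cancel, PicGrp.one_val]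
      exact Quot.sound ⟨PicLoc.pullbackStructureIso _⟩
    obtain ⟨M, hM, ⟨i⟩⟩ := Groth.Agent.Lib.PicGen.Main.exists_descent p₁ hX hfib (Or.inr inferInstance) L' hL' hgen
    refine ⟨(PicGrp.cls M hM, d), ?_⟩
    have hc' : PicGrp.pullHom p₁ h₁ (PicGrp.cls M hM) = c' := Subtype.ext (by
      rw [PicGrp.pullHom_apply_val, ← hL'c]
      exact Quot.sound ⟨i.symm⟩)
    show PicGrp.pullHom p₁ h₁ (PicGrp.cls M hM) * PicGrp.pullHom p₂ h₂ d = c
    rw [hc', inv_mul_cancel_right]


end Groth.Agent.S16120
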