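import Groth.Statements.S16119
import Groth.Agent.S16121
import Groth.Agent.S16120
import Groth.Agent.H1.GrpIrred
import Groth.Agent.Lib.Cyc.SmoothReg
import Groth.Agent.Lib.Regular.UFD
import Groth.Agent.Lib.PicGen.OpenUFD
import Groth.Agent.Lib.TensorMod.Pullback
-- import your own Groth.Agent.* helpers here

set_option autoImplicit false
universe u
open CategoryTheory MonoidalCategory CartesianMonoidalCategory MonObj GrpObj AlgebraicGeometry CategoryTheory.Limits
open AlgGrp

namespace Groth.Agent.S16119

/-- Over an algebraically closed field k, let G be a connected linear algebraic group (an affine,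
smooth, connected k-group scheme) acting by σ on a normal irreducible variety X (an integral normal
separated k-scheme of finite type); assume the Picard group laws on G, X and G × X, with pullback
along σ and along the projection p₂ : G × X → X multiplicative. Let n be the exponent of the group
Pic(G) (a finite group). Then for every invertible O_X-module L with class c, σ^*(L^{⊗n}) ≅
p₂^*(L^{⊗n}): σ^*(cⁿ) = p₂^*(cⁿ) in Pic(G × X). (The published statement concludes that L^{⊗n}
admits a G-linearization; its argument establishes the displayed isomorphism, which is equivalent to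
G-linearizability of L^{⊗n}; that equivalence is not restated here.) -/
theorem result (k : Type u) [Field k] [IsAlgClosed k]
    (G X : Over (Spec (CommRingCat.of k))) [GrpObj G] [IsAffine G.left] [Smooth G.hom] [ConnectedSpace ↥G.left]
    [IsIntegral X.left] [IsSeparated X.hom] [LocallyOfFiniteType X.hom] [QuasiCompact X.hom]
    (hX : Pi1.IsNormalScheme X.left) (a : AlgGrp.Action G X)
    [PicGrp.Law G.left] [PicGrp.Law X.left] [PicGrp.Law (G ⊗ X).left]
    (hσ : PicGrp.PullMul a.act.left) (hp : PicGrp.PullMul (snd G X).left) (c : PicLoc.PicSet X.left) :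
    PicGrp.pullHom a.act.left hσ (c ^ Monoid.exponent (PicLoc.PicSet G.left)) =
      PicGrp.pullHom (snd G X).left hp (c ^ Monoid.exponent (PicLoc.PicSet G.left)) := by
  haveI : QuasiCompact G.hom := inferInstance
  haveI := Groth.Agent.H1.GrpIrred.isIntegral G
  have hG : Pi1.IsNormalScheme G.left := fun x => by
    have := Groth.Agent.Lib.Cyc.SmoothReg.isRegularLocalRing_stalk G.hom x
    exact ⟨inferInstance, Groth.Agent.Lib.Regular.UFD.isIntegrallyClosed _⟩
  have h₁ : PicGrp.PullMul (fst G X).left := fun c d _ _ => Groth.Agent.Lib.TensorMod.Pullback.pullCl_mulCl _ c d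
  obtain ⟨⟨e, d⟩, hed⟩ := (Groth.Agent.S16120.result k G X hG hX (Groth.Agent.S16121.result k G) h₁ hp).2
    (PicGrp.pullHom a.act.left hσ c)
  -- restriction to the slice at the unit
  let s : X ⟶ G ⊗ X := lift (toUnit X ≫ η[G]) (𝟙 X)
  have hs1 : s.left ≫ (fst G X).left = X.hom ≫ η[G].left := by
    rw [← Over.comp_left, lift_fst]
    rfl
  have hs2 : s.left ≫ (snd G X).left = 𝟙 _ := by
    rw [← Over.comp_left, lift_snd]
    rfl
  have hsa : s.left ≫ a.act.left = 𝟙 _ := by
    have h : s ≫ a.act = 𝟙 X := by
      have h1 : s = lift (toUnit X) (𝟙 X) ≫ η[G] ▷ X := by rw [lift_whiskerRight]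
      rw [h1, Category.assoc, a.one_act, leftUnitor_hom, lift_snd]
    rw [← Over.comp_left, h]
    rfl
  have hd : d = c := Subtype.ext (by
    have h := congrArg (fun p : PicLoc.PicSet (G ⊗ X).left => PicF.pullCl s.left p.1) hed
    simp only [PicGrp.mul_val, PicGrp.pullHom_apply_val, Groth.Agent.Lib.TensorMod.Pullback.pullCl_mulCl,
      ← PicLoc.pullCl_comp, hs1, hs2, hsa, PicLoc.pullCl_id] at h
    obtain ⟨L, hL, hLinv⟩ := e.2
    obtain ⟨i⟩ := Groth.Agent.Lib.PicGen.OpenUFD.nonempty_iso_spec k _ (PicLoc.isInvertible_pullback η[G].left hLinv)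
    have h1 : PicF.pullCl (X.hom ≫ η[G].left) e.1 = PicF.cl (Coh.structureModule X.left) := by
      rw [PicLoc.pullCl_comp, ← hL, show PicF.pullCl η[G].left (PicF.cl L) = PicF.cl (Coh.structureModule _) from
        Quot.sound ⟨i⟩]
      exact Quot.sound ⟨PicLoc.pullbackStructureIso _⟩
    rw [h1, ← PicGrp.one_val, ← PicGrp.mul_val, _root_.one_mul] at h
    exact h)
  dsimp only at hed
  rw [hd] at hed
  rw [map_pow, map_pow, ← hed, mul_pow, ← map_pow, Monoid.pow_exponent_eq_one, map_one, _root_.one_mul]

end Groth.Agent.S16119
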