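import Groth.Statements.S16122
import Groth.Agent.S16120
import Groth.Agent.S16121
import Groth.Agent.H1.GrpIrred
import Groth.Agent.H1.Hopf
import Groth.Agent.Lib.Cyc.SmoothReg
import Groth.Agent.Lib.Regular.UFD
import Groth.Agent.Lib.Rat85.General
import Groth.Agent.Lib.Pic85.DetTrick
import Groth.Agent.Lib.Pic85.Scale
import Groth.Agent.Lib.Pic85.Dict
-- import your own Groth.Agent.* helpers here

set_option autoImplicit false
universe u
open CategoryTheory MonoidalCategory CartesianMonoidalCategory MonObj GrpObj AlgebraicGeometry CategoryTheory.Limits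
open AlgGrp

namespace Groth.Agent.S16122

open Groth.Agent.Lib Groth.Agent.Lib.Pic85
open scoped TensorProduct

theorem regular_localization {k A : Type u} [Field k] [CommRing A]
    (f : Spec (CommRingCat.of A) ⟶ Spec (CommRingCat.of k)) [Smooth f] (p : PrimeSpectrum A) :
    IsRegularLocalRing (Localization.AtPrime p.asIdeal) := by
  have hr : IsRegularLocalRing ((Spec.structureSheaf A).presheaf.stalk p) :=
    Cyc.SmoothReg.isRegularLocalRing_stalk f p
  have : IsLocalization.AtPrime ((Spec.structureSheaf A).presheaf.stalk p) p.asIdeal :=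
    StructureSheaf.IsLocalization.to_stalk A p
  exact IsRegularLocalRing.of_ringEquiv
    (IsLocalization.algEquiv p.asIdeal.primeCompl ((Spec.structureSheaf A).presheaf.stalk p)
      (Localization.AtPrime p.asIdeal)).toRingEquiv

theorem ufd_localization {k A : Type u} [Field k] [CommRing A] [IsDomain A]
    (f : Spec (CommRingCat.of A) ⟶ Spec (CommRingCat.of k)) (hf : Smooth f) (m : Ideal A) (hm : m.IsMaximal) :
    UniqueFactorizationMonoid (Localization.AtPrime m) := by
  haveI := hf
  have : IsRegularLocalRing (Localization.AtPrime m) := regular_localization f ⟨m, hm.isPrime⟩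
  exact Regular.UFD.uniqueFactorizationMonoid _

theorem subsingleton_pic_away {k A P : Type u} [Field k] [CommRing A] [IsDomain A] [Algebra k A] [CommRing P]
    [IsDomain P] [UniqueFactorizationMonoid P] [Algebra k P] (f : A) (g : P) (hg : g ≠ 0) (hf : f ≠ 0)
    (w : Localization.Away f ≃ₐ[k] Localization.Away g) :
    Subsingleton (CommRing.Pic (Localization.Away f)) := by
  have : IsDomain (Localization.Away g) := IsLocalization.isDomain_of_le_nonZeroDivisors (S := Localization.Away g)
    (le_nonZeroDivisors_of_noZeroDivisors fun ⟨m, hm⟩ => hg (eq_zero_of_pow_eq_zero hm) : Submonoid.powers g ≤ _)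
  have : IsDomain (Localization.Away f) := IsLocalization.isDomain_of_le_nonZeroDivisors (S := Localization.Away f)
    (le_nonZeroDivisors_of_noZeroDivisors fun ⟨m, hm⟩ => hf (eq_zero_of_pow_eq_zero hm) : Submonoid.powers f ≤ _)
  have : UniqueFactorizationMonoid (Localization.Away g) := inferInstance
  have : UniqueFactorizationMonoid (Localization.Away f) :=
    w.symm.toMulEquiv.uniqueFactorizationMonoid inferInstance
  infer_instance

/-- Every class on a connected group is multiplicative. -/
theorem pullCl_mul {k : Type u} [Field k] [IsAlgClosed k]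
    (G : Over (Spec (CommRingCat.of k))) [GrpObj G] [IsAffine G.left] [Smooth G.hom] [ConnectedSpace ↥G.left]
    {T : Over (Spec (CommRingCat.of k))} (p q : T ⟶ G) (c : PicF.Cl G.left) (hc : PicF.IsInvertibleCl c) :
    PicF.pullCl (p * q).left c = PicGrp.mulCl (PicF.pullCl p.left c) (PicF.pullCl q.left c) := by
  haveI : QuasiCompact G.hom := inferInstance
  haveI := Groth.Agent.H1.GrpIrred.isIntegral G
  have hG : Pi1.IsNormalScheme G.left := fun x => by
    have := Cyc.SmoothReg.isRegularLocalRing_stalk G.hom x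
    exact ⟨inferInstance, Regular.UFD.isIntegrallyClosed _⟩
  letI := TensorMod.Invertible.law G.left
  letI := TensorMod.Invertible.law (G ⊗ G).left
  have h₁ : PicGrp.PullMul (fst G G).left := fun c d _ _ => TensorMod.Pullback.pullCl_mulCl _ c d
  have h₂ : PicGrp.PullMul (snd G G).left := fun c d _ _ => TensorMod.Pullback.pullCl_mulCl _ c d
  obtain ⟨⟨a, b⟩, hab⟩ := (Groth.Agent.S16120.result k G G hG hG (Groth.Agent.S16121.result k G) h₁ h₂).2
    (⟨PicF.pullCl μ[G].left c, PicLoc.isInvertibleCl_pullCl _ hc⟩ : PicLoc.PicSet (G ⊗ G).left)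
  have hab' : PicGrp.mulCl (PicF.pullCl (fst G G).left a.1) (PicF.pullCl (snd G G).left b.1) =
      PicF.pullCl μ[G].left c := congrArg Subtype.val hab
  have htriv : ∀ d : PicLoc.PicSet G.left, PicF.pullCl (G.hom ≫ η[G].left) d.1 =
      PicF.cl (Coh.structureModule G.left) := by
    intro d
    obtain ⟨L, hL, hLinv⟩ := d.2
    obtain ⟨i⟩ := PicGen.OpenUFD.nonempty_iso_spec k _ (PicLoc.isInvertible_pullback η[G].left hLinv)
    rw [PicLoc.pullCl_comp, ← hL, show PicF.pullCl η[G].left (PicF.cl L) = PicF.cl (Coh.structureModule _) from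
      Quot.sound ⟨i⟩]
    exact Quot.sound ⟨PicLoc.pullbackStructureIso _⟩
  have key : ∀ (s : G ⟶ G ⊗ G) (f₁ f₂ : G.left ⟶ G.left), s.left ≫ (fst G G).left = f₁ →
      s.left ≫ (snd G G).left = f₂ → s ≫ μ[G] = 𝟙 G →
      c = PicGrp.mulCl (PicF.pullCl f₁ a.1) (PicF.pullCl f₂ b.1) := by
    intro s f₁ f₂ h1 h2 h3
    have h := congrArg (PicF.pullCl s.left) hab'
    rw [TensorMod.Pullback.pullCl_mulCl, ← PicLoc.pullCl_comp, ← PicLoc.pullCl_comp, ← PicLoc.pullCl_comp, h1, h2,
      ← Over.comp_left, h3] at h
    rw [h]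
    exact (PicLoc.pullCl_id c).symm
  have ha : a.1 = c := by
    have := key (lift (𝟙 G) (toUnit G ≫ η[G])) (𝟙 _) (G.hom ≫ η[G].left)
      (by rw [← Over.comp_left, lift_fst]; rfl) (by rw [← Over.comp_left, lift_snd]; rfl)
      (by rw [← Hom.mul_def, ← Hom.one_def, _root_.mul_one])
    rw [PicLoc.pullCl_id, htriv, TensorMod.Invertible.mulCl_comm, TensorMod.Invertible.one_mulCl] at this
    exact this.symm
  have hb : b.1 = c := by
    have := key (lift (toUnit G ≫ η[G]) (𝟙 G)) (G.hom ≫ η[G].left) (𝟙 _)
      (by rw [← Over.comp_left, lift_fst]; rfl) (by rw [← Over.comp_left, lift_snd]; rfl)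
      (by rw [← Hom.mul_def, ← Hom.one_def, _root_.one_mul])
    rw [PicLoc.pullCl_id, htriv, TensorMod.Invertible.one_mulCl] at this
    exact this.symm
  rw [ha, hb] at hab'
  rw [Hom.mul_def, Over.comp_left, PicLoc.pullCl_comp, ← hab', TensorMod.Pullback.pullCl_mulCl,
    ← PicLoc.pullCl_comp, ← PicLoc.pullCl_comp, ← Over.comp_left, ← Over.comp_left, lift_fst, lift_snd]

/-- Over an algebraically closed field k, if G is a connected linear algebraic group (an affine, smooth,
connected k-group scheme), then Pic(G) is finite: there are only finitely many isomorphism classes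
of invertible O_G-modules. -/
theorem result (k : Type u) [Field k] [IsAlgClosed k]
    (G : Over (Spec (CommRingCat.of k))) [GrpObj G] [IsAffine G.left] [Smooth G.hom] [ConnectedSpace ↥G.left] :
    Finite (PicLoc.PicSet G.left) := by
  classical
  obtain ⟨A, _, _, e, he⟩ := Groth.Agent.H1.Hopf.exists_iso G
  have hft : Algebra.FiniteType k A := by
    have : IsIso e.inv.left := ((Over.forget _).mapIso e).isIso_inv
    exact Groth.Agent.H1.Hopf.finiteType_of_locallyOfFiniteType (by rw [← Over.w e.inv]; infer_instance)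
  have hdom : IsDomain A := by
    have := Groth.Agent.H1.GrpIrred.isIntegral G
    let ee := (Over.forget _).mapIso e
    have : IsIntegral ((Spec (CommRingCat.of A)).asOver (Spec (CommRingCat.of k))).left := by
      have : IsIso e.inv.left := ee.isIso_inv
      have : Nonempty ((Spec (CommRingCat.of A)).asOver (Spec (CommRingCat.of k))).left :=
        ⟨e.hom.left (Classical.arbitrary G.left)⟩
      exact isIntegral_of_isOpenImmersion e.inv.left
    exact (affine_isIntegral_iff (CommRingCat.of A)).mp this
  have hdom2 : IsDomain (A ⊗[k] A) := Groth.Agent.H52.FBase.GeomPt.isDomain_tensor_of_isAlgClosed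
  have : IsNoetherianRing A := Algebra.FiniteType.isNoetherianRing k A
  have hsm : Smooth ((Spec (CommRingCat.of A)).asOver (Spec (CommRingCat.of k))).hom := by
    have : IsIso e.inv.left := ((Over.forget _).mapIso e).isIso_inv
    rw [← Over.w e.inv]; infer_instance
  have hUFD : ∀ m : Ideal A, ∀ _ : m.IsMaximal, UniqueFactorizationMonoid (Localization.AtPrime m) :=
    fun m hm => ufd_localization (((Spec (CommRingCat.of A)).asOver (Spec (CommRingCat.of k))).hom) hsm m hm
  obtain ⟨n, f, g, hf, hg, ⟨w⟩⟩ := Groth.Agent.Lib.Rat85.exists_localisation (k := k) A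
  have := subsingleton_pic_away f g hg hf w
  -- every invertible ideal is multiplicative
  have hstr : ∀ I : Ideal A, Module.Invertible A I → Nonempty (Str I (Δ k A)) := by
    intro I _
    refine nonempty_str I (Δ k A) ((PicGrp.cl_eq_cl_iff _ _).mp ?_)
    let S := (Spec (CommRingCat.of A)).asOver (Spec (CommRingCat.of k))
    let T := (Spec (CommRingCat.of (A ⊗[k] A))).asOver (Spec (CommRingCat.of k))
    let pL : T ⟶ S := Spec.mapMulEquiv (WithConv.toConv (Algebra.TensorProduct.includeLeft : A →ₐ[k] A ⊗[k] A))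
    let pR : T ⟶ S := Spec.mapMulEquiv (WithConv.toConv (Algebra.TensorProduct.includeRight : A →ₐ[k] A ⊗[k] A))
    have hΔ : pL * pR = Spec.mapMulEquiv (WithConv.toConv (Δ k A)) := by
      rw [← map_mul]
      congr 1
      apply WithConv.ofConv_injective
      ext a
      show Algebra.TensorProduct.lmul' k (Algebra.TensorProduct.map _ _ (Δ k A a)) = Δ k A a
      induction Δ k A a using TensorProduct.induction_on with
      | zero => simp
      | add x y hx hy => simp only [map_add, hx, hy]
      | tmul x y => simp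
    let c : PicF.Cl G.left := PicF.pullCl e.hom.left (PicF.cl (til I))
    have hc : PicF.IsInvertibleCl c := PicLoc.isInvertibleCl_pullCl _ ⟨_, rfl, isInvertible_til I⟩
    have : IsMonHom e.inv := inferInstance
    have hmul : (pL ≫ e.inv) * (pR ≫ e.inv) = (pL * pR) ≫ e.inv := (MonObj.mul_comp _ _ _).symm
    have h := pullCl_mul G (pL ≫ e.inv) (pR ≫ e.inv) c hc
    simp only [hmul, hΔ, c, ← PicLoc.pullCl_comp, ← Over.comp_left, Category.assoc, Iso.inv_hom_id, Category.comp_id] at h
    exact h
  -- finitely many ideals represent all classes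
  let T : Set (Ideal A) := {P | P ∈ (Ideal.span {f}).minimalPrimes ∧ LP P}
  have hT : T.Finite := (Ideal.span {f}).finite_minimalPrimes_of_isNoetherianRing.subset fun P hP => hP.1
  obtain ⟨R, hR⟩ := exists_finset_classes T hT fun P hP => by
    have hP0 : P ≠ ⊥ := fun h => hf ((Ideal.mem_bot).mp (h ▸ hP.1.1.2 (Ideal.mem_span_singleton_self f)))
    have := invertible_of_lp hP0 hP.2
    exact exists_pow_eq_span hP0 (hstr P this).some
  have hfin : Set.Finite {c : PicF.Cl G.left | PicF.IsInvertibleCl c} := by
    refine ((R.finite_toSet).image fun J => PicF.pullCl e.hom.left (PicF.cl (til J))).subset fun c hc => ?_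
    obtain ⟨L, hL, hLi⟩ := PicLoc.isInvertibleCl_pullCl e.inv.left hc
    obtain ⟨I, hI0, hI, ⟨i⟩⟩ := exists_ideal L hLi
    obtain ⟨I', hI', hN, ⟨j⟩⟩ := exists_scale hf hI0
    obtain ⟨J, hJ, ⟨r⟩⟩ := hR I' (mem_closure hUFD hf I' hI' hN)
    refine ⟨J, hJ, ?_⟩
    show PicF.pullCl e.hom.left (PicF.cl (til J)) = c
    have hJL : PicF.cl (til J) = PicF.cl L :=
      Quot.sound ⟨(tilde.functor _).mapIso (r.trans j).toModuleIso ≪≫ i⟩
    refine (congrArg (PicF.pullCl e.hom.left) (hJL.trans hL)).trans ?_
    rw [
      ← PicLoc.pullCl_comp, ← Over.comp_left, Iso.hom_inv_id, Over.id_left, PicLoc.pullCl_id]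
  exact hfin.to_subtype

end Groth.Agent.S16122
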