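import Groth.Statements.S16124

import Groth.Agent.Lib.SchQuotAmple.Basic

set_option autoImplicit false
universe u
open CategoryTheory MonoidalCategory CartesianMonoidalCategory MonObj GrpObj AlgebraicGeometry CategoryTheory.Limits
open AlgGrp

namespace Groth.Agent.S16124

open CategoryTheory.Limits TopologicalSpace

/-- Over an algebraically closed field k, let X be a quasi-projective variety (a reduced separated
k-scheme, quasi-projective over k) with an action of a finite group Γ by k-automorphisms. Then X is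
covered by Γ-stable affine open subschemes: every point x of X lies in an affine open U with σ⁻¹(U)
= U for every σ in Γ. -/
theorem result (k : Type u) [Field k] [IsAlgClosed k]
    (X : Over (Spec (CommRingCat.of k))) [IsReduced X.left] [IsSeparated X.hom] (hX : RelProj.IsQuasiProjective X.hom)
    (Γgrp : Type u) [Group Γgrp] [Finite Γgrp] (ρ : Γgrp →* Aut X.left)
    (hρ : ∀ σ : Γgrp, (ρ σ).hom ≫ X.hom = X.hom) (x : ↥X.left) :
    ∃ U : X.left.Opens, x ∈ U ∧ IsAffineOpen U ∧ ∀ σ : Γgrp, (ρ σ).hom ⁻¹ᵁ U = U := by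
  obtain ⟨L, hL⟩ := hX.2.2
  obtain ⟨U, hU, hxU⟩ := Groth.Agent.Lib.SchQuotAmple.Basic.exists_affine_orbit X.hom ρ hρ hL x
  have : Scheme.IsSeparated X.left := ⟨by
    rw [← terminal.comp_from X.hom]; infer_instance⟩
  refine ⟨⨅ g : Γgrp, (ρ g).hom ⁻¹ᵁ U, ?_,
    IsAffineOpen.iInf fun g => hU.preimage (ρ g).hom, fun σ => ?_⟩
  · rw [← SetLike.mem_coe, Opens.coe_iInf, Set.mem_iInter]
    exact hxU
  · apply Opens.ext
    rw [Scheme.Hom.coe_preimage, Opens.coe_iInf, Set.preimage_iInter]
    simp only [Scheme.Hom.coe_preimage, ← Set.preimage_comp]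
    refine (Equiv.mulRight σ).iInf_congr fun g => ?_
    congr 1
    funext y
    show (ρ (g * σ)).hom y = (ρ g).hom ((ρ σ).hom y)
    rw [map_mul, Aut.Aut_mul_def, Iso.trans_hom, Scheme.Hom.comp_apply]

end Groth.Agent.S16124
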