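import Groth.Statements.S16127

import Mathlib.AlgebraicGeometry.Sites.Fpqc
import Mathlib.AlgebraicGeometry.GammaSpecAdjunction

set_option autoImplicit false
universe u
open CategoryTheory MonoidalCategory CartesianMonoidalCategory MonObj GrpObj AlgebraicGeometry CategoryTheory.Limits
open AlgGrp

namespace Groth.Agent.S16127

/-- The morphism to `Spec ℤ[T]` given by a global function. -/
noncomputable def fnHom {X : Scheme.{u}} (s : Γ(X, ⊤)) :
    X ⟶ Spec (CommRingCat.of (Polynomial (ULift.{u} ℤ))) :=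
  X.toSpecΓ ≫ Spec.map (CommRingCat.ofHom (Polynomial.eval₂RingHom ((Int.castRingHom _).comp ULift.ringEquiv.toRingHom) s))

theorem comp_fnHom {X Y : Scheme.{u}} (f : X ⟶ Y) (s : Γ(Y, ⊤)) : f ≫ fnHom s = fnHom (f.appTop s) := by
  rw [fnHom, ← Category.assoc, Scheme.toSpecΓ_naturality, Category.assoc, ← Spec.map_comp, fnHom]
  congr 2
  refine CommRingCat.hom_ext (Polynomial.ringHom_ext (fun n => ?_) (by simp))
  simp

/-- The function of a morphism to `Spec ℤ[T]`. -/
noncomputable def homFn {X : Scheme.{u}} (g : X ⟶ Spec (CommRingCat.of (Polynomial (ULift.{u} ℤ)))) : Γ(X, ⊤) :=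
  g.appTop ((Scheme.ΓSpecIso (CommRingCat.of (Polynomial (ULift.{u} ℤ)))).inv Polynomial.X)

theorem homFn_fnHom {X : Scheme.{u}} (s : Γ(X, ⊤)) : homFn (fnHom s) = s := by
  rw [homFn, fnHom, Scheme.Hom.comp_appTop]
  change X.toSpecΓ.appTop ((Spec.map _).appTop _) = s
  have h := ConcreteCategory.congr_hom (Scheme.ΓSpecIso_inv_naturality
    (CommRingCat.ofHom (Polynomial.eval₂RingHom ((Int.castRingHom Γ(X, ⊤)).comp ULift.ringEquiv.toRingHom) s))) Polynomial.X
  simp only [CommRingCat.comp_apply] at h
  refine (congrArg X.toSpecΓ.appTop h.symm).trans ?_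
  rw [Scheme.toSpecΓ_appTop]
  exact (congr($((Scheme.ΓSpecIso Γ(X, ⊤)).inv_hom_id) _)).trans (Polynomial.eval₂_X _ _)

theorem homFn_comp {X Y : Scheme.{u}} (f : X ⟶ Y) (g : Y ⟶ Spec (CommRingCat.of (Polynomial (ULift.{u} ℤ)))) :
    homFn (f ≫ g) = f.appTop (homFn g) := rfl

/-- Over an algebraically closed field k, let G be an algebraic group (a smooth k-group scheme of finite
type) acting by σ on a variety X, and let f : X → Y be a principal G-bundle over a variety Y (X, Y
reduced separated k-schemes of finite type; f flat and surjective, the square σ, p₂ : G × X → X, f,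
f cartesian). Then f^* identifies Γ(Y, O_Y) with the invariants Γ(X, O_X)^G: f^* on global sections
is injective and its range is the set of global functions s on X with σ^*(s) = p₂^*(s). -/
theorem result (k : Type u) [Field k] [IsAlgClosed k]
    (G X Y : Over (Spec (CommRingCat.of k))) [GrpObj G] [Smooth G.hom] [QuasiCompact G.hom]
    [IsReduced X.left] [IsSeparated X.hom] [LocallyOfFiniteType X.hom] [QuasiCompact X.hom]
    [IsReduced Y.left] [IsSeparated Y.hom] [LocallyOfFiniteType Y.hom] [QuasiCompact Y.hom]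
    (a : AlgGrp.Action G X) (f : X ⟶ Y) [Flat f.left] [Surjective f.left]
    (hsq : IsPullback a.act.left (snd G X).left f.left f.left) :
    Function.Injective (f.left.appTop) ∧
      Set.range (f.left.appTop) = {s : Γ(X.left, ⊤) | a.act.left.appTop s = (snd G X).left.appTop s} := by
  haveI : LocallyOfFiniteType (f.left ≫ Y.hom) := by rw [Over.w]; infer_instance
  haveI : QuasiCompact (f.left ≫ Y.hom) := by rw [Over.w]; infer_instance
  haveI : QuasiCompact f.left := QuasiCompact.of_comp f.left Y.hom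
  haveI : EffectiveEpi f.left := inferInstance
  refine ⟨fun s t h => ?_, Set.ext fun s => ⟨?_, fun hs => ?_⟩⟩
  · have h1 : fnHom s = fnHom t := by rw [← cancel_epi f.left, comp_fnHom, comp_fnHom, h]
    rw [← homFn_fnHom s, ← homFn_fnHom t, h1]
  · rintro ⟨t, rfl⟩
    change a.act.left.appTop (f.left.appTop t) = (snd G X).left.appTop (f.left.appTop t)
    rw [← CommRingCat.comp_apply, ← CommRingCat.comp_apply, ← Scheme.Hom.comp_appTop, ← Scheme.Hom.comp_appTop, hsq.w]
  · have hd : ∀ {Z : Scheme.{u}} (g1 g2 : Z ⟶ X.left), g1 ≫ f.left = g2 ≫ f.left → g1 ≫ fnHom s = g2 ≫ fnHom s := by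
      intro Z g1 g2 h
      have key : a.act.left ≫ fnHom s = (snd G X).left ≫ fnHom s := by
        rw [comp_fnHom, comp_fnHom]; exact congrArg _ hs
      rw [← hsq.lift_fst g1 g2 h]
      conv_rhs => rw [← hsq.lift_snd g1 g2 h]
      rw [Category.assoc, Category.assoc, key]
    refine ⟨homFn (EffectiveEpi.desc f.left (fnHom s) hd), ?_⟩
    rw [← homFn_comp, EffectiveEpi.fac, homFn_fnHom]

end Groth.Agent.S16127
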