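import Groth.Statements.S16128
import Groth.Agent.S16121
import Groth.Agent.S16120
import Groth.Agent.H1.GrpIrred
import Groth.Agent.Lib.Cyc.SmoothReg
import Groth.Agent.Lib.Regular.UFD
import Groth.Agent.Lib.PicGen.Main
import Groth.Agent.Lib.PicGen.OpenUFD
import Groth.Agent.Lib.TensorMod.Pullback
import Groth.Agent.Lib.TorPic85.Torsor
import Groth.Agent.Lib.Tori.AffineDescent
import Groth.Agent.H52.FBase.Descend
import Groth.Agent.H52.FBase.GeomRedSch
import Groth.Agent.S2500
-- import your own Groth.Agent.* helpers here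

set_option autoImplicit false
universe u
open CategoryTheory MonoidalCategory CartesianMonoidalCategory MonObj GrpObj AlgebraicGeometry CategoryTheory.Limits
open AlgGrp

namespace Groth.Agent.S16128

open Groth.Agent.Lib

/-- The fibres of a morphism which becomes geometrically integral after a surjective base change are integral. -/
theorem isIntegral_fiber {P X Y : Scheme.{u}} {q : P ⟶ X} {p : P ⟶ X} {f : X ⟶ Y} (h : IsPullback q p f f)
    [GeometricallyIntegral p] (hsurj : Surjective f) (y : Y) : AlgebraicGeometry.IsIntegral (f.fiber y) := by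
  obtain ⟨x, rfl⟩ := f.surjective y
  have hs := isPullback_fiberToSpecResidueField_of_isPullback h x
  have hint : AlgebraicGeometry.IsIntegral (p.fiber x) := inferInstance
  have hF : Flat (Spec.map (f.residueFieldMap x)) := by
    rw [HasRingHomProperty.Spec_iff (P := @Flat)]
    letI := (f.residueFieldMap x).hom.toAlgebra
    exact RingHom.flat_algebraMap_iff.mpr (inferInstance : Module.Flat (Y.residueField (f x)) (X.residueField x))
  have hS : Surjective (Spec.map (f.residueFieldMap x)) := ⟨fun z =>
    ⟨IsLocalRing.closedPoint _, Subsingleton.elim (α := PrimeSpectrum (Y.residueField (f x))) _ _⟩⟩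
  let π := pullback.map p (X.fromSpecResidueField x) f (Y.fromSpecResidueField (f x)) q
    (Spec.map (f.residueFieldMap x)) f h.w.symm (by simp)
  have hπF : Flat π := MorphismProperty.of_isPullback hs.flip hF
  have hπS : Surjective π := MorphismProperty.of_isPullback hs.flip hS
  exact @Groth.Agent.H52.FBase.Descend.isIntegral_of_flat_surjective _ _ π hπF hπS hint

/-- Over an algebraically closed field k, let G be a connected linear algebraic group (an affine,
smooth, connected k-group scheme), and f : X → Y a principal G-bundle between normal irreducible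
varieties (X, Y integral normal separated k-schemes of finite type; σ the action on X; f flat and
surjective with the square σ, p₂, f, f cartesian). Let x be a k-point of X with orbit map α_x : G →
X, g ↦ g · x, and assume the Picard group laws on G, X and Y with pullback along f and along α_x
multiplicative. Then the sequence Pic(Y) → Pic(X) → Pic(G) is exact at Pic(X): a class c satisfies
α_x^*(c) = 1 if and only if c lies in the image of f^*. -/
theorem result (k : Type u) [Field k] [IsAlgClosed k]
    (G X Y : Over (Spec (CommRingCat.of k))) [GrpObj G] [IsAffine G.left] [Smooth G.hom] [ConnectedSpace ↥G.left]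
    [IsIntegral X.left] [IsSeparated X.hom] [LocallyOfFiniteType X.hom] [QuasiCompact X.hom] (hX : Pi1.IsNormalScheme X.left)
    [IsIntegral Y.left] [IsSeparated Y.hom] [LocallyOfFiniteType Y.hom] [QuasiCompact Y.hom] (hY : Pi1.IsNormalScheme Y.left)
    (a : AlgGrp.Action G X) (f : X ⟶ Y) [Flat f.left] [Surjective f.left]
    (hsq : IsPullback a.act.left (snd G X).left f.left f.left)
    (x : 𝟙_ (Over (Spec (CommRingCat.of k))) ⟶ X)
    [PicGrp.Law G.left] [PicGrp.Law X.left] [PicGrp.Law Y.left]
    (hf : PicGrp.PullMul f.left) (hα : PicGrp.PullMul (a.orbitMap x).left) (c : PicLoc.PicSet X.left) :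
    PicGrp.pullHom (a.orbitMap x).left hα c = 1 ↔ c ∈ (PicGrp.pullHom f.left hf).range := by
  classical
  haveI : QuasiCompact G.hom := inferInstance
  haveI := Groth.Agent.H1.GrpIrred.isIntegral G
  have htriv : ∀ {Z : Scheme.{u}} (p : Z ⟶ Spec (CommRingCat.of k)) {W : Scheme.{u}}
      (s : Spec (CommRingCat.of k) ⟶ W) (d : PicF.Cl W), PicF.IsInvertibleCl d →
      PicF.pullCl (p ≫ s) d = PicF.cl (Coh.structureModule Z) := by
    intro Z p W s d hd
    obtain ⟨L, hL, hLinv⟩ := hd
    obtain ⟨i⟩ := PicGen.OpenUFD.nonempty_iso_spec k _ (PicLoc.isInvertible_pullback s hLinv)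
    rw [PicLoc.pullCl_comp, ← hL, show PicF.pullCl s (PicF.cl L) = PicF.cl (Coh.structureModule _) from
      Quot.sound ⟨i⟩]
    exact Quot.sound ⟨PicLoc.pullbackStructureIso _⟩
  have horb : (a.orbitMap x).left = (lift (𝟙 G) (toUnit G ≫ x)).left ≫ a.act.left := by
    rw [← Over.comp_left]; rfl
  have hsx : (lift (𝟙 G) (toUnit G ≫ x)).left ≫ (snd G X).left = G.hom ≫ x.left := by
    rw [← Over.comp_left, lift_snd]; rfl
  constructor
  swap
  · rintro ⟨d, rfl⟩
    refine Subtype.ext ?_
    rw [PicGrp.pullHom_apply_val, PicGrp.pullHom_apply_val, ← PicLoc.pullCl_comp, PicGrp.one_val]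
    have h : (a.orbitMap x).left ≫ f.left = G.hom ≫ (x.left ≫ f.left) :=
      (congrArg (· ≫ f.left) horb).trans ((Category.assoc _ _ _).trans ((congrArg (_ ≫ ·) hsq.w).trans
        ((Category.assoc _ _ _).symm.trans ((congrArg (· ≫ f.left) hsx).trans (Category.assoc _ _ _)))))
    rw [h]
    exact htriv G.hom (x.left ≫ f.left) d.1 d.2
  intro hc
  have hc' : PicF.pullCl (a.orbitMap x).left c.1 = PicF.cl (Coh.structureModule G.left) := by
    have := congrArg Subtype.val hc
    rwa [PicGrp.pullHom_apply_val, PicGrp.one_val] at this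
  -- `σ^* c = p₂^* c`
  have hG : Pi1.IsNormalScheme G.left := fun z => by
    have := Cyc.SmoothReg.isRegularLocalRing_stalk G.hom z
    exact ⟨inferInstance, Regular.UFD.isIntegrallyClosed _⟩
  letI := TensorMod.Invertible.law (G ⊗ X).left
  have h₁ : PicGrp.PullMul (fst G X).left := fun c d _ _ => TensorMod.Pullback.pullCl_mulCl _ c d
  have h₂ : PicGrp.PullMul (snd G X).left := fun c d _ _ => TensorMod.Pullback.pullCl_mulCl _ c d
  obtain ⟨⟨p, d⟩, hpd⟩ := (Groth.Agent.S16120.result k G X hG hX (Groth.Agent.S16121.result k G) h₁ h₂).2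
    (⟨PicF.pullCl a.act.left c.1, PicLoc.isInvertibleCl_pullCl _ c.2⟩ : PicLoc.PicSet (G ⊗ X).left)
  have hpd' : PicGrp.mulCl (PicF.pullCl (fst G X).left p.1) (PicF.pullCl (snd G X).left d.1) =
      PicF.pullCl a.act.left c.1 := congrArg Subtype.val hpd
  let s₀ : X ⟶ G ⊗ X := lift (toUnit X ≫ η[G]) (𝟙 X)
  have hd : d.1 = c.1 := by
    have h := congrArg (PicF.pullCl s₀.left) hpd'
    have h1 : s₀.left ≫ (fst G X).left = X.hom ≫ η[G].left := by rw [← Over.comp_left, lift_fst]; rfl
    have h2 : s₀.left ≫ (snd G X).left = 𝟙 _ := by rw [← Over.comp_left, lift_snd]; rfl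
    have h3 : s₀.left ≫ a.act.left = 𝟙 _ := by
      have h : s₀ ≫ a.act = 𝟙 X := by
        have h1 : s₀ = lift (toUnit X) (𝟙 X) ≫ η[G] ▷ X := by rw [lift_whiskerRight]
        rw [h1, Category.assoc, a.one_act, leftUnitor_hom, lift_snd]
      rw [← Over.comp_left, h]; rfl
    rw [TensorMod.Pullback.pullCl_mulCl, ← PicLoc.pullCl_comp, ← PicLoc.pullCl_comp, ← PicLoc.pullCl_comp, h1, h2, h3,
      htriv X.hom η[G].left p.1 p.2, TensorMod.Invertible.one_mulCl, PicLoc.pullCl_id, PicLoc.pullCl_id] at h
    exact h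
  have hp : p.1 = PicF.cl (Coh.structureModule G.left) := by
    have h := congrArg (PicF.pullCl (lift (𝟙 G) (toUnit G ≫ x)).left) hpd'
    have h1 : (lift (𝟙 G) (toUnit G ≫ x)).left ≫ (fst G X).left = 𝟙 _ := by rw [← Over.comp_left, lift_fst]; rfl
    rw [TensorMod.Pullback.pullCl_mulCl, ← PicLoc.pullCl_comp, ← PicLoc.pullCl_comp, ← PicLoc.pullCl_comp, h1, hsx,
      ← horb, hc', htriv G.hom x.left d.1 d.2, TensorMod.Invertible.mulCl_comm, TensorMod.Invertible.one_mulCl,
      PicLoc.pullCl_id] at h
    exact h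
  have hcl : PicF.pullCl a.act.left c.1 = PicF.pullCl (snd G X).left c.1 := by
    rw [← hpd', hp, hd, show PicF.pullCl (fst G X).left (PicF.cl (Coh.structureModule G.left)) =
      PicF.cl (Coh.structureModule (G ⊗ X).left) from Quot.sound ⟨PicLoc.pullbackStructureIso _⟩,
      TensorMod.Invertible.one_mulCl]
  -- geometry of `f`
  haveI : IsLocallyNoetherian X.left := LocallyOfFiniteType.isLocallyNoetherian X.hom
  haveI : IsLocallyNoetherian Y.left := LocallyOfFiniteType.isLocallyNoetherian Y.hom
  haveI : QuasiCompact (f.left ≫ Y.hom) := by rw [Over.w f]; infer_instance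
  haveI : QuasiCompact f.left := QuasiCompact.of_comp f.left Y.hom
  haveI : GeometricallyReduced G.hom := Groth.Agent.H52.FBase.GeomRedSch.geometricallyReduced_of_perfectField G.hom
  haveI : GeometricallyIrreducible G.hom := Groth.Agent.S2500.result G.hom
  haveI : GeometricallyIntegral G.hom := GeometricallyIntegral.of_geometricallyReduced_of_geometricallyIrreducible _
  haveI : GeometricallyIntegral (snd G X).left := inferInstanceAs (GeometricallyIntegral (pullback.snd G.hom X.hom))
  have hsndA : IsAffineHom (snd G X).left := MorphismProperty.pullback_snd (P := @IsAffineHom) G.hom X.hom inferInstance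
  have hfA : IsAffineHom f.left := by
    have := Tori.AffineDescent.descendsAlong_isAffineHom.{u}
    exact MorphismProperty.of_isPullback_of_descendsAlong (P := @IsAffineHom)
      (Q := @Surjective ⊓ @Flat ⊓ @QuasiCompact) hsq.flip ⟨⟨‹_›, ‹_›⟩, ‹_›⟩ hsndA
  have hfib : ∀ y : ↥Y.left, AlgebraicGeometry.IsIntegral (f.left.fiber y) := isIntegral_fiber hsq inferInstance
  -- an affine chart
  obtain ⟨V, hV, hηV, -⟩ := exists_isAffineOpen_mem_and_subset (X := Y.left) (x := genericPoint ↥Y.left) (U := ⊤) trivial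
  have hW : IsAffineOpen (f.left ⁻¹ᵁ V) := hV.preimage f.left
  obtain ⟨z, hz⟩ := f.left.surjective (genericPoint ↥Y.left)
  haveI : Nonempty V := ⟨⟨_, hηV⟩⟩
  haveI : Nonempty (f.left ⁻¹ᵁ V) := ⟨⟨z, show f.left z ∈ V from hz ▸ hηV⟩⟩
  let T : Type u := Γ(Y.left, V)
  let R : Type u := Γ(X.left, f.left ⁻¹ᵁ V)
  letI : Algebra k T := (Spec.preimage (hV.fromSpec ≫ Y.hom)).hom.toAlgebra
  letI : Algebra T R := (f.left.app V).hom.toAlgebra
  letI : Algebra k R := ((f.left.app V).hom.comp (algebraMap k T)).toAlgebra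
  haveI : IsScalarTower k T R := IsScalarTower.of_algebraMap_eq fun _ => rfl
  have hmap : Spec.map (f.left.app V) ≫ hV.fromSpec = hW.fromSpec ≫ f.left := by
    rw [Scheme.Hom.app_eq_appLE]
    exact IsAffineOpen.SpecMap_appLE_fromSpec f.left hV hW le_rfl
  have hjY : hV.fromSpec ≫ Y.hom = Spec.map (CommRingCat.ofHom (algebraMap k T)) := (Spec.map_preimage _).symm
  have hjX : hW.fromSpec ≫ X.hom = Spec.map (CommRingCat.ofHom (algebraMap k R)) := by
    rw [← Over.w f, ← Category.assoc, ← hmap, Category.assoc, hjY]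
    exact (Spec.map_comp _ _).symm
  have hpb : IsPullback hW.fromSpec (Spec.map (CommRingCat.ofHom (algebraMap T R))) f.left hV.fromSpec :=
    (isPullback_morphismRestrict f.left V).flip.of_iso hW.isoSpec (Iso.refl _) hV.isoSpec (Iso.refl _)
      (by rw [Iso.refl_hom, Category.comp_id, IsAffineOpen.fromSpec, Iso.hom_inv_id_assoc])
      (by
        rw [← cancel_mono hV.fromSpec, Category.assoc, Category.assoc]
        rw [show Spec.map (CommRingCat.ofHom (algebraMap T R)) ≫ hV.fromSpec = hW.fromSpec ≫ f.left from hmap,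
          IsAffineOpen.fromSpec, IsAffineOpen.fromSpec]
        simp [morphismRestrict_ι])
      (by simp)
      (by rw [Iso.refl_hom, Category.comp_id, IsAffineOpen.fromSpec, Iso.hom_inv_id_assoc])
  haveI : IsDomain T := inferInstanceAs (IsDomain Γ(Y.left, V))
  haveI : IsDomain R := inferInstanceAs (IsDomain Γ(X.left, f.left ⁻¹ᵁ V))
  obtain ⟨t, ht0, ht⟩ := TorPic85.exists_trivial a f hsq hV.fromSpec hW.fromSpec hjY hjX hpb c.1 c.2 hcl
  -- descend along `f`
  obtain ⟨L, hL, hLi⟩ := c.2
  let S := Localization.Away (algebraMap T R t)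
  let j : Spec (CommRingCat.of S) ⟶ X.left :=
    Spec.map (CommRingCat.ofHom (algebraMap R S)) ≫ hW.fromSpec
  haveI : IsOpenImmersion (Spec.map (CommRingCat.ofHom (algebraMap R S))) :=
    IsOpenImmersion.of_isLocalization (algebraMap T R t)
  have hbt : genericPoint ↥Y.left ∈ Y.left.basicOpen (show Γ(Y.left, V) from t) := by
    refine ((genericPoint_spec ↥Y.left).mem_open_set_iff (Y.left.basicOpen (show Γ(Y.left, V) from t)).isOpen).mpr ?_
    simp only [Set.univ_inter]
    rw [Set.nonempty_iff_ne_empty]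
    intro h
    exact ht0 ((basicOpen_eq_bot_iff _).mp (TopologicalSpace.Opens.ext h))
  have hrange : Set.range (f.left.fiberι (genericPoint ↥Y.left)) ⊆ Set.range j := by
    rw [Scheme.Hom.range_fiberι]
    intro v hv
    have hv' : f.left v = genericPoint ↥Y.left := hv
    have hmem : v ∈ f.left ⁻¹ᵁ Y.left.basicOpen (show Γ(Y.left, V) from t) := by
      show f.left v ∈ Y.left.basicOpen (show Γ(Y.left, V) from t); rw [hv']; exact hbt
    rw [Scheme.preimage_basicOpen, ← hW.fromSpec_image_basicOpen] at hmem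
    obtain ⟨q, hq, rfl⟩ := hmem
    obtain ⟨q', rfl⟩ : q ∈ Set.range (Spec.map (CommRingCat.ofHom (algebraMap R S))) := by
      show q ∈ Set.range (PrimeSpectrum.comap (algebraMap R S))
      rw [PrimeSpectrum.localization_away_comap_range S (algebraMap T R t)]
      exact hq
    exact ⟨q', rfl⟩
  let κ := IsOpenImmersion.lift j (f.left.fiberι (genericPoint ↥Y.left)) hrange
  have hgen : Nonempty ((Scheme.Modules.pullback (f.left.fiberι (genericPoint ↥Y.left))).obj L ≅
      Coh.structureModule (f.left.fiber (genericPoint ↥Y.left))) := by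
    rw [← PicGrp.cl_eq_cl_iff, ← PicLoc.pullCl_cl, hL, ← IsOpenImmersion.lift_fac j _ hrange, PicLoc.pullCl_comp, ht]
    exact Quot.sound ⟨PicLoc.pullbackStructureIso _⟩
  obtain ⟨M, hM, ⟨i⟩⟩ := PicGen.Main.exists_descent f.left hY hfib (Or.inl inferInstance) L hLi hgen
  refine ⟨PicGrp.cls M hM, Subtype.ext ?_⟩
  rw [PicGrp.pullHom_apply_val, ← hL]
  exact Quot.sound ⟨i.symm⟩

end Groth.Agent.S16128
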