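import Groth.Statements.S16129
import Groth.Agent.H60.TorsQuot.Fiber
import Groth.Agent.H56.GeomDescent

set_option autoImplicit false
universe u
open CategoryTheory MonoidalCategory CartesianMonoidalCategory MonObj GrpObj AlgebraicGeometry CategoryTheory.Limits
open AlgGrp

namespace Groth.Agent.S16129

/-- Over an algebraically closed field k, let G be a linear algebraic group (an affine smooth k-group
scheme), h : H → G a closed subgroup (H a smooth k-group scheme, h a homomorphism and a closed
immersion), and f : X → Y a principal G-bundle between varieties (X, Y reduced separated k-schemes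
of finite type; σ the action; f flat and surjective with the square σ, p₂, f, f cartesian). Then f
factors as f = ψ ∘ φ where φ : X → Z is a principal H-bundle for the action of H on X through h (Z a
reduced separated k-scheme of finite type; φ flat surjective with the corresponding cartesian
square) and ψ : Z → Y is smooth and surjective. (The published statement adds that the factorization
is unique, that the fibres of ψ are isomorphic to G/H, and that ψ is a G/H-bundle when H is normal;
these are not stated here.) -/
theorem result (k : Type u) [Field k] [IsAlgClosed k]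
    (G H X Y : Over (Spec (CommRingCat.of k))) [GrpObj G] [IsAffine G.left] [Smooth G.hom]
    [GrpObj H] [Smooth H.hom] [QuasiCompact H.hom] (h : H ⟶ G) [IsMonHom h] [IsClosedImmersion h.left]
    [IsReduced X.left] [IsSeparated X.hom] [LocallyOfFiniteType X.hom] [QuasiCompact X.hom]
    [IsReduced Y.left] [IsSeparated Y.hom] [LocallyOfFiniteType Y.hom] [QuasiCompact Y.hom]
    (a : AlgGrp.Action G X) (f : X ⟶ Y) [Flat f.left] [Surjective f.left]
    (hsq : IsPullback a.act.left (snd G X).left f.left f.left) :
    ∃ (Z : Over (Spec (CommRingCat.of k))) (φ : X ⟶ Z) (ψ : Z ⟶ Y),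
      IsReduced Z.left ∧ IsSeparated Z.hom ∧ LocallyOfFiniteType Z.hom ∧ QuasiCompact Z.hom ∧
      φ ≫ ψ = f ∧ Flat φ.left ∧ Surjective φ.left ∧
      IsPullback (a.restrict h).act.left (snd H X).left φ.left φ.left ∧ Smooth ψ.left ∧ Surjective ψ.left := by
  have hcart : IsPullback a.act (snd G X) f f :=
    IsPullback.of_map (Over.forget _) (Over.OverMorphism.ext hsq.w) hsq
  haveI : QuasiCompact (f.left ≫ Y.hom) := by rw [Over.w]; infer_instance
  haveI : QuasiCompact f.left := QuasiCompact.of_comp f.left Y.hom
  obtain ⟨D, h1, h2, h3⟩ := H60.TorsQuot.exists_quotient h a f hsq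
  haveI := h1; haveI := h2; haveI := h3
  haveI := D.flat; haveI := D.surj
  haveI : Flat H.hom := inferInstance
  obtain ⟨GH, pG, -, hlft, hsurj, hflat, -, hp, -, hqc, hsm, -⟩ :=
    Groth.Agent.S5351.result k H G h
  haveI : QuasiCompact GH.hom := hqc inferInstance
  haveI := hlft
  haveI : IsLocallyNoetherian GH.left := LocallyOfFiniteType.isLocallyNoetherian GH.hom
  haveI : QuasiCompact (pG.left ≫ GH.hom) := by rw [Over.w]; infer_instance
  haveI : QuasiCompact pG.left := QuasiCompact.of_comp pG.left GH.hom
  haveI := hsurj; haveI := hflat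
  have hw : D.ψ.left ≫ Y.hom = D.Z.hom := Over.w D.ψ
  refine ⟨D.Z, D.q, D.ψ, ?_, ?_, ?_, ?_, D.fac, D.flat, D.surj, D.cart.map (Over.forget _),
    H60.TorsQuot.psi_of @Smooth h pG hp a f hcart D (hsm inferInstance), ?_⟩
  · exact Groth.Agent.H56.GeomDescent.isReduced_of_flat_surjective D.q.left
  · rw [← hw]; infer_instance
  · rw [← hw]; infer_instance
  · rw [← hw]; infer_instance
  · haveI : Surjective (D.q.left ≫ D.ψ.left) := by rw [← Over.comp_left, D.fac]; infer_instance
    exact Surjective.of_comp D.q.left D.ψ.left

end Groth.Agent.S16129
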