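import Groth.Statements.S1613
import Groth.Agent.Lib.CurveFF.SmoothBC
import Groth.Agent.Lib.Curves.Positivity
-- import your own Groth.Agent.* helpers here

set_option autoImplicit false
universe u
open CategoryTheory CategoryTheory.Limits AlgebraicGeometry
open Curves

namespace Groth.Agent.S1613
open Groth.Agent.Lib
attribute [local instance] Curv2.stalkAlgebra

/-- Let X be a smooth proper connected curve over an algebraically closed field k, of genus g ≥ 2. Then
every O_X-linear map from the sheaf of differentials Ω_{X/k} to O_X is zero (X has no nonzero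
k-derivations of its structure sheaf). -/
theorem result (k : Type u) [Field k] [IsAlgClosed k] (X : Scheme.{u}) [X.Over (Spec (CommRingCat.of k))]
    (hX : Curve.IsSmoothProperCurve k X (X ↘ (Spec (CommRingCat.of k)))) (hg : 2 ≤ Curv2.genus k X)
    (θ : Omega.sheaf (X ↘ (Spec (CommRingCat.of k))) ⟶ Coh.structureModule X) : θ = 0 := by
  haveI : IsProper (X ↘ Spec (CommRingCat.of k)) := hX.1
  haveI : Smooth (X ↘ Spec (CommRingCat.of k)) := hX.2.1
  haveI : IsIntegral X := hX.2.2.1
  have hdim := hX.2.2.2
  have h0 := Curves.GlobalSections.finrank_h0_structure k X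
  obtain ⟨-, hd⟩ := CurveFF.SmoothBC.omega_facts hdim h0
  have hinv := CurveFF.SmoothBC.isInvertible (k := k) (X := X) hdim
  haveI := Curves.GlobalSections.noetherianSpace_of_proper k X
  by_contra hne
  have := Curves.Positivity.deg_le_of_ne_zero (k := k) hdim.le hinv
    (PicLoc.isInvertible_structureModule X) (Curves.Degree.isGood (k := k) hdim.le hinv)
    (Curves.Degree.isGood_structureModule (k := k) hdim.le) hne
  rw [Curves.Degree.deg_structureModule, hd] at this
  omega

end Groth.Agent.S1613
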