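import Groth.Statements.S16130

import Groth.Agent.Lib.GrpSch.OrbitDimFormula

set_option autoImplicit false
universe u
open CategoryTheory MonoidalCategory CartesianMonoidalCategory MonObj GrpObj AlgebraicGeometry CategoryTheory.Limits
open AlgGrp

namespace Groth.Agent.S16130

/-- Over an algebraically closed field k, let G be an algebraic group (a smooth k-group scheme of finite
type, not necessarily connected) acting on a variety X (a reduced separated k-scheme of finite
type), and let x be a k-point of X with orbit map α_x : G → X. Then dim G = dim(G · x) + dim(G_x),
where G · x is the image of α_x with its subspace topology and G_x is the stabilizer, the fibre of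
α_x over x; all dimensions are Krull dimensions of topological spaces. (The published statement also
asserts that the irreducible components of G · x are precisely the G⁰-orbits it contains, all of
that dimension; that clause is not stated here.) -/
theorem result (k : Type u) [Field k] [IsAlgClosed k]
    (G X : Over (Spec (CommRingCat.of k))) [GrpObj G] [Smooth G.hom] [QuasiCompact G.hom]
    [IsReduced X.left] [IsSeparated X.hom] [LocallyOfFiniteType X.hom] [QuasiCompact X.hom]
    (a : AlgGrp.Action G X) (x : 𝟙_ (Over (Spec (CommRingCat.of k))) ⟶ X) :
    topologicalKrullDim ↥G.left =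
      topologicalKrullDim ↥(Set.range (a.orbitMap x).left.base) +
        topologicalKrullDim ↥(Limits.pullback (a.orbitMap x).left x.left) := by
  rw [Groth.Agent.Lib.GrpSch.dim_eq_add_orbit a x]
  congr 1
  let φ := (a.orbitMap x).left
  have : IsClosedImmersion x.left :=
    isClosedImmersion_of_comp_eq_id X.hom x.left (Over.w x)
  let p := pullback.fst φ x.left
  have : IsClosedImmersion p := MorphismProperty.pullback_fst _ _ ‹_›
  have hr : Set.range p = φ ⁻¹' {φ (η[G].left (IsLocalRing.closedPoint k))} := by
    rw [Scheme.Pullback.range_fst]
    have h : φ (η[G].left (IsLocalRing.closedPoint k)) = x.left (IsLocalRing.closedPoint k) := by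
      rw [← Scheme.Hom.comp_apply, ← Over.comp_left, Groth.Agent.Lib.GrpSch.η_orbit]
    rw [h]
    congr 1
    ext z
    constructor
    · rintro ⟨w, rfl⟩
      rw [Subsingleton.elim (α := Spec (CommRingCat.of k)) w (IsLocalRing.closedPoint k)]
      rfl
    · rintro rfl
      exact ⟨_, rfl⟩
  refine Eq.trans ?_ (p.isEmbedding.toHomeomorph.isHomeomorph.topologicalKrullDim_eq).symm
  rw [hr]

end Groth.Agent.S16130
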