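import Groth.Statements.S16132
import Groth.Agent.Lib.CharQuot6.Quot
import Groth.Agent.Lib.SmWeil.AffHull

set_option autoImplicit false
set_option linter.style.haveILetI false
universe u
open CategoryTheory MonoidalCategory CartesianMonoidalCategory MonObj GrpObj AlgebraicGeometry CategoryTheory.Limits
open AlgGrp
open Groth.Agent.Lib
open Groth.Agent.Lib.CharQuot6

namespace Groth.Agent.S16132

/-- Over an algebraically closed field k, let G be a connected algebraic group (a smooth connected
k-group scheme of finite type, not necessarily affine). Then G has a largest torus quotient through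
which all characters factor: there are a torus T (isomorphic to the diagonalizable group of ℤ^r for
some r), a flat surjective homomorphism q : G → T such that every character χ : G → 𝔾_m is χ' ∘ q
for some character χ' of T, and a kernel h : H → G of q (a homomorphism from a k-group scheme H
making the square against the unit section of T cartesian) with H connected and every character of H
trivial. (So H is the smallest closed normal subgroup scheme of G with G/H a torus, and restriction
identifies the characters of G/H with those of G.) -/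
theorem result (k : Type u) [Field k] [IsAlgClosed k]
    (G : Over (Spec (CommRingCat.of k))) [GrpObj G] [Smooth G.hom] [QuasiCompact G.hom] [ConnectedSpace ↥G.left] :
    ∃ (r : ℕ) (T : Over (Spec (CommRingCat.of k))) (_ : GrpObj T) (_ : Red.IsSplitTorusWith (Fin r → ℤ) T)
      (q : G ⟶ T) (_ : IsMonHom q) (H : Over (Spec (CommRingCat.of k))) (_ : GrpObj H) (h : H ⟶ G) (_ : IsMonHom h),
      Flat q.left ∧ Surjective q.left ∧ AlgGrp.IsKernel h q ∧ ConnectedSpace ↥H.left ∧
      (∀ χ : G ⟶ Red.Gm (Spec (CommRingCat.of k)), IsMonHom χ → ∃ χ' : T ⟶ Red.Gm (Spec (CommRingCat.of k)), IsMonHom χ' ∧ q ≫ χ' = χ) ∧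
      (∀ ψ : H ⟶ Red.Gm (Spec (CommRingCat.of k)), IsMonHom ψ → ψ = 1) := by
  haveI := GrpSch.isSeparated_of_field G
  obtain ⟨hQg, hρ⟩ := GrpQ.Affinization.exists_grp G
  obtain ⟨hsur, hflat, hlft⟩ := GrpQ.Affinization.rho_faithfullyFlat G
  haveI := hρ; haveI := hsur; haveI := hflat; haveI := hlft
  let Q := GrpQ.Affinization.aff G
  let ρ : G ⟶ Q := GrpQ.Affinization.rho G
  haveI : IsMonHom ρ := hρ
  haveI : Flat ρ.left := hflat
  haveI : Surjective ρ.left := hsur
  haveI : IsReduced G.left := GrpSch.isReduced_of_smooth_field G.hom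
  haveI : IsReduced Q.left := H56.GeomDescent.isReduced_of_flat_surjective ρ.left
  haveI : LocallyOfFiniteType Q.hom := hlft
  haveI : GrpObj (Over.mk Q.hom) := hQg
  haveI : Smooth Q.hom := H1.Classical.Smooth.smooth_of_isReduced Q.hom
  haveI : ConnectedSpace Q.left := ρ.left.surjective.connectedSpace ρ.left.continuous
  haveI : QuasiCompact ρ.left := GrpQ.quasiCompact_left ρ
  haveI : QuasiCompact Q.hom := GrpQ.Affinization.qc_of_isAffine Q
  haveI := GrpSch.isSeparated_of_field Q
  -- the kernel of the affine hull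
  obtain ⟨N, _, iN, hiN, hclN, hKN, -⟩ := GrpQ.exists_kernel ρ
  haveI := hiN; haveI := hclN
  haveI : LocallyOfFiniteType N.hom := by rw [← Over.w iN]; infer_instance
  haveI : QuasiCompact N.hom := by rw [← Over.w iN]; infer_instance
  haveI hcN := GrpQ.KerRho.isIso_appTop_kernel iN hKN
  have hbij : Function.Bijective ((Scheme.ΓSpecIso (CommRingCat.of k)).inv ≫ N.hom.appTop).hom :=
    ConcreteCategory.bijective_of_isIso _
  haveI : ConnectedSpace N.left := GrpQ.AntiAff.connectedSpace hbij
  -- the affine case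
  obtain ⟨s, q, T₀, _, iT, hq, hT, hTs, hqs, huniv⟩ := exists_charQuot Q
  haveI := hq; haveI := hTs; haveI := hqs
  obtain ⟨hTsm, hTq, hTc, hTa⟩ := CharQuot6.torus_props (Groth.Agent.Lib.Tori.Basic.isTorus_DS (Spec (CommRingCat.of k)) (Fin s → ℤ))
  haveI := hTsm; haveI := hTq; haveI := hTc; haveI := hTa
  haveI := GrpSch.isSeparated_of_field (Red.DS (Spec (CommRingCat.of k)) (Fin s → ℤ))
  obtain ⟨H, _, i, hi, hic, hK, -⟩ := GrpQ.exists_kernel q
  haveI := hi; haveI := hic
  obtain ⟨hHs, hHc⟩ := smooth_connected_kernel huniv hK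
  haveI := hHs; haveI := hHc
  haveI : Flat q.left := GrpQ.flat_of_surjective_of_smooth q
  -- the kernel on G
  obtain ⟨K, _, κ, hκ, hκc, hKG, -⟩ := GrpQ.exists_kernel (ρ ≫ q)
  haveI := hκ; haveI := hκc
  obtain ⟨π, hπi⟩ := (GrpQ.mem_kernel hK (κ ≫ ρ)).2 (by rw [Category.assoc, GrpQ.kernel_comp hKG])
  haveI := GrpQ.kernel_mono hK
  haveI : IsMonHom π := GrpQ.DomFlat.isMonHom_of_comp_mono π i (by rw [hπi]; infer_instance)
  have sq : IsPullback κ π ρ i := IsPullback.of_bot (by
    rw [toUnit_unique (π ≫ toUnit H) (toUnit K)]; exact hKG) hπi.symm hK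
  have sql := sq.map (Over.forget _)
  haveI : Flat π.left := MorphismProperty.of_isPullback (P := @Flat) sql hflat
  haveI : Surjective π.left := MorphismProperty.of_isPullback (P := @Surjective) sql hsur
  haveI : LocallyOfFiniteType K.hom := by rw [← Over.w κ]; infer_instance
  haveI : QuasiCompact K.hom := by rw [← Over.w κ]; infer_instance
  haveI : LocallyOfFiniteType H.hom := by rw [← Over.w i]; infer_instance
  haveI : LocallyOfFinitePresentation π.left := by
    haveI : IsLocallyNoetherian H.left := LocallyOfFiniteType.isLocallyNoetherian H.hom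
    haveI := GrpQ.locallyOfFiniteType_left π
    infer_instance
  obtain ⟨j, hj⟩ := (GrpQ.mem_kernel hKG iN).2 (by
    rw [← Category.assoc, GrpQ.kernel_comp hKN, MonObj.one_comp])
  haveI := GrpQ.kernel_mono hKG
  haveI : IsMonHom j := GrpQ.DomFlat.isMonHom_of_comp_mono j κ (by rw [hj]; infer_instance)
  have hjπ : j ≫ π = 1 := by
    rw [← cancel_mono i, Category.assoc, hπi, ← Category.assoc, hj, GrpQ.kernel_comp hKN, MonObj.one_comp]
  haveI := GrpQ.kernel_mono hKN
  haveI : Mono j := mono_of_mono_fac hj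
  have hjK : AlgGrp.IsKernel j π := GrpQ.isKernel_of j hjπ fun T x hx => by
    obtain ⟨n, hn⟩ := (GrpQ.mem_kernel hKN (x ≫ κ)).2 (by
      rw [Category.assoc, ← hπi, ← Category.assoc, hx, MonObj.one_comp])
    exact ⟨n, by rw [← cancel_mono κ, Category.assoc, hj, hn]⟩
  haveI : ConnectedSpace K.left :=
    SmWeil.connectedSpace_of_kernel π j fun x hx => (GrpQ.mem_kernel hjK x).2 hx
  haveI : Flat (ρ ≫ q).left := by rw [Over.comp_left]; infer_instance
  haveI : Surjective (ρ ≫ q).left := by rw [Over.comp_left]; infer_instance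
  refine ⟨s, Red.DS (Spec (CommRingCat.of k)) (Fin s → ℤ), inferInstance, ⟨Iso.refl _⟩, ρ ≫ q, inferInstance,
    K, inferInstance, κ, hκ, inferInstance, inferInstance, hKG, inferInstance, fun χ hχ => ?_, fun ψ hψ => ?_⟩
  · haveI := hχ
    obtain ⟨hgs, hgq, hgc, hga⟩ := gm_props (k := k)
    haveI := hga
    haveI : IsIso ρ.left.appTop := GrpQ.Affinization.isIso_rho_appTop G
    obtain ⟨χ₁, hχ₁⟩ := GrpQ.Affinization.exists_fac ρ χ
    haveI : IsMonHom (ρ ≫ χ₁) := by rw [hχ₁]; exact hχ
    obtain ⟨χ', hχ', he⟩ := huniv χ₁ (GrpQ.isMonHom_of_cover (GrpQ.isCover_hom ρ) χ₁)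
    exact ⟨χ', hχ', by rw [Category.assoc, he, hχ₁]⟩
  · haveI := hψ
    obtain ⟨hgs, hgq, hgc, hga⟩ := gm_props (k := k)
    haveI := hga
    have hjψ : j ≫ ψ = 1 := by
      haveI : IsIso (toUnit N).left.appTop := hcN
      obtain ⟨y, hy⟩ := GrpQ.Affinization.exists_fac (toUnit N) (j ≫ ψ)
      have hy1 : y = 1 := by
        have := congrArg (η[N] ≫ ·) hy
        rw [← Category.assoc, toUnit_unique (η[N] ≫ toUnit N) (𝟙 _), Category.id_comp, IsMonHom.one_hom] at this
        rw [this, Hom.one_def, toUnit_unique (toUnit (𝟙_ (Over (Spec (CommRingCat.of k))))) (𝟙 _), Category.id_comp]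
      rw [← hy, hy1, MonObj.comp_one]
    have hπcov : GrpQ.IsCover π := GrpQ.isCover_hom π
    obtain ⟨ψ', hψ'⟩ := GrpQ.exists_desc hπcov ψ fun Z x y h => GrpQ.comp_eq_of_kernel hjK ψ (by
      rw [hjψ, Hom.one_def]) x y h
    haveI : IsMonHom (π ≫ ψ') := by rw [hψ']; exact hψ
    haveI : IsMonHom ψ' := GrpQ.isMonHom_of_cover hπcov ψ'
    rw [← hψ', char_kernel_eq_one huniv hT hK ψ', MonObj.comp_one]

end Groth.Agent.S16132
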