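import Groth.Statements.S16136
import Groth.Agent.Lib.ExchangeFP29.CounitFibre
import Groth.Agent.Lib.ExchangeFP29.MainBC
import Groth.Agent.Lib.Exchange.NearFibre
import Groth.Agent.Lib.TensorMod.FPConv
import Groth.Agent.Lib.TensorMod.QCohInv
import Groth.Agent.Lib.UnifReg.OnX

set_option linter.style.haveILetI false
set_option backward.isDefEq.respectTransparency false
set_option backward.isDefEq.respectTransparency.types false

set_option autoImplicit false
universe u
open CategoryTheory CategoryTheory.Limits AlgebraicGeometry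
open Coh

namespace Groth.Agent.S16136

open CategoryTheory CategoryTheory.Limits AlgebraicGeometry TopologicalSpace Opposite in
/-- Surjectivity on the closed points suffices. -/
theorem epi_of_closed {X : Scheme.{u}} [CompactSpace X] {F G : X.Modules}
    [SheafOfModules.IsFiniteType (R := X.ringCatSheaf) G] (w : F ⟶ G)
    (h : ∀ x : X, IsClosed ({x} : Set X) → ∃ (X' : Scheme.{u}) (a : X' ⟶ X) (x' : X'), a x' = x ∧
      Epi ((Scheme.Modules.pullback a).map w)) : Epi w := by
  refine (Groth.Agent.Lib.Modules.StalkModule.epi_iff_stalkMapₗ_surjective _).2 fun x => ?_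
  obtain ⟨c, hc, hcc⟩ := IsClosed.exists_closed_singleton (isClosed_closure (s := ({x} : Set X)))
    ⟨x, subset_closure rfl⟩
  have hsp : x ⤳ c := specializes_iff_mem_closure.2 hc
  obtain ⟨U, hcU, n, s, hs⟩ := Groth.Agent.Lib.Modules.GenStalk.exists_span_stalk_of_isFiniteType G c
  have hxU : x ∈ U := hsp.mem_open U.2 hcU
  have hsurj : Function.Surjective (Groth.Agent.Lib.Modules.StalkModule.stalkMapₗ w c) := by
    obtain ⟨X', a, x', rfl, he⟩ := h c hcc
    let _ := (a.stalkMap x').hom.toAlgebra
    haveI : IsLocalHom (algebraMap (X.presheaf.stalk (a x')) (X'.presheaf.stalk x')) :=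
      inferInstanceAs (IsLocalHom (a.stalkMap x').hom)
    haveI := Groth.Agent.Lib.Modules.GenStalk.finite_stalk G (a x')
    obtain ⟨eF, eG, hF, hG, hu⟩ := Groth.Agent.Lib.Flat55.FlatFunSheaf.exists_stalk_pullback_map a w x'
    have hs := (Groth.Agent.Lib.Modules.StalkModule.epi_iff_stalkMapₗ_surjective _).1 he x'
    refine Groth.Agent.Lib.ExchangeFP29.CounitFibre.surjective_of_lTensor (S := X'.presheaf.stalk x') _ fun y => ?_
    obtain ⟨v, hv⟩ := hs (eG y)
    obtain ⟨z, rfl⟩ := hF.2 v
    rw [hu] at hv
    exact ⟨z, hG.1 hv⟩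
  rw [← LinearMap.range_eq_top, eq_top_iff, ← hs x hxU, Submodule.span_le]
  rintro _ ⟨i, rfl⟩
  obtain ⟨v, hv⟩ := hsurj (G.presheaf.germ U c hcU (s i))
  obtain ⟨W, hW, t, rfl⟩ := TopCat.Presheaf.exists_germ_eq _ v
  rw [Groth.Agent.Lib.Modules.StalkModule.stalkMapₗ_germ] at hv
  obtain ⟨W', hcW', i1, i2, heq⟩ := TopCat.Presheaf.germ_eq G.presheaf c hW hcU _ _ hv
  have hxW' : x ∈ W' := hsp.mem_open W'.2 hcW'
  refine ⟨F.presheaf.germ W x (leOfHom i1 hxW') t, ?_⟩
  show Groth.Agent.Lib.Modules.StalkModule.stalkMapₗ w x _ = _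
  rw [Groth.Agent.Lib.Modules.StalkModule.stalkMapₗ_germ,
    ← TopCat.Presheaf.germ_res_apply G.presheaf i1 x hxW']
  exact (congrArg _ heq).trans (TopCat.Presheaf.germ_res_apply G.presheaf i2 x hxW' (s i))

/-- Let k be a field, Y a scheme proper over k and f : X → Y a proper flat morphism, X and Y each
carrying an ample invertible module (so both are projective over k), such that every
scheme-theoretic fibre of f is reduced. Let L be an invertible O_X-module with H^1(X, L) = 0 and
with H^i(X_y, L|_{X_y}) = 0 for every closed point y of Y and every i > 0, where X_y is the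
scheme-theoretic fibre and L|_{X_y} the module pull-back of L to it. If L|_{X_y} is globally
generated (a quotient of a free module) for every closed point y and the direct image f_*L is
globally generated on Y, then L is globally generated. (The published statement is over the complex
numbers and imposes the fibre conditions at every point; here k is any field and they are imposed at
closed points, which is what the argument uses.) -/
theorem result (k : Type u) [Field k]
    (X Y : Scheme.{u}) [Y.Over (Spec (CommRingCat.of k))] [IsProper (Y ↘ Spec (CommRingCat.of k))]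
    (hY : ∃ B : Y.Modules, CohB1.IsAmple B)
    (f : X ⟶ Y) [IsProper f] [Flat f] (hX : ∃ A : X.Modules, CohB1.IsAmple A)
    (hred : ∀ y : Y, IsReduced (f.fiber y))
    (L : X.Modules) (hL : PicF.IsInvertible L) (h1 : Subsingleton (Coh.HH X L 1))
    (h2 : ∀ y : Y, IsClosed ({y} : Set Y) → ∀ i : ℕ, 0 < i →
      Subsingleton (Coh.HH (f.fiber y) ((Scheme.Modules.pullback (f.fiberι y)).obj L) i))
    (hfib : ∀ y : Y, IsClosed ({y} : Set Y) →
      Curv2.IsGloballyGenerated ((Scheme.Modules.pullback (f.fiberι y)).obj L))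
    (hE : Curv2.IsGloballyGenerated ((Scheme.Modules.pushforward f).obj L)) :
    Curv2.IsGloballyGenerated L := by
  haveI : IsLocallyNoetherian Y := LocallyOfFiniteType.isLocallyNoetherian (Y ↘ Spec (CommRingCat.of k))
  haveI : CompactSpace Y := QuasiCompact.compactSpace_of_compactSpace (Y ↘ Spec (CommRingCat.of k))
  haveI : CompactSpace X := QuasiCompact.compactSpace_of_compactSpace f
  haveI : LocallyOfFinitePresentation f := inferInstance
  have hL' := Lib.TensorMod.LocFree.of_rank (Lib.TensorMod.LocFree.of_isInvertible hL)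
  haveI : L.IsQuasicoherent := Lib.TensorMod.QCohInv.isQCoh_of_isInvertible hL
  have hFP := Lib.TensorMod.FPConv.isFP_of_isFinLocFree hL'
  have hfl := _root_.ZarCoh.Exchange.NearFibre.isFlatOver_of_isFinLocFree f hL'
  haveI : SheafOfModules.IsFinitePresentation (R := X.ringCatSheaf) L := hFP
  haveI : SheafOfModules.IsFiniteType (R := X.ringCatSheaf) L := inferInstance
  have hepi : Epi ((Scheme.Modules.pullbackPushforwardAdjunction f).counit.app L) := by
    refine epi_of_closed (G := L) _ fun x hx => ?_
    have hy : IsClosed ({f x} : Set Y) := by simpa using f.isClosedMap _ hx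
    obtain ⟨z, hz⟩ : x ∈ Set.range (f.fiberι (f x)) := by rw [Scheme.Hom.range_fiberι]; rfl
    have h0 : ∀ t, CohIII.fiberRank f L 1 ((Y.fromSpecResidueField (f x)) t) = 0 := fun t => by
      rw [Scheme.fromSpecResidueField_apply]
      haveI : Subsingleton (CohIII.fiberH f L (f x) 1) := h2 (f x) hy 1 one_pos
      exact Module.finrank_zero_of_subsingleton
    have hpb : IsPullback (f.fiberι (f x)) (f.fiberToSpecResidueField (f x)) f (Y.fromSpecResidueField (f x)) :=
      IsPullback.of_hasPullback _ _
    haveI := Lib.ExchangeFP29.Main.isIso_bc0 f L hFP hfl (Y.fromSpecResidueField (f x)) (f.fiberι (f x))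
      (f.fiberToSpecResidueField (f x)) hpb h0
    exact ⟨_, f.fiberι (f x), z, hz, Lib.ExchangeFP29.CounitFibre.epi_pullback_counit f L _ _ _ hpb.w
      inferInstance (hfib (f x) hy)⟩
  obtain ⟨α, p, hp⟩ := Lib.UnifReg.OnX.gg_pullback f hE
  haveI := hp
  haveI := hepi
  exact ⟨α, p ≫ (Scheme.Modules.pullbackPushforwardAdjunction f).counit.app L, epi_comp _ _⟩

end Groth.Agent.S16136
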