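import Groth.Statements.S16141
import Groth.Agent.Lib.CurveBundle.RankTwoVanish
import Groth.Agent.Lib.CurveBundle.DetDeg
import Groth.Agent.Lib.CurveBundle.Choice

set_option autoImplicit false
universe u
open CategoryTheory CategoryTheory.Limits AlgebraicGeometry
open VBCurve

namespace Groth.Agent.S16141

/-- Let k be an algebraically closed field of characteristic zero and X a smooth proper geometrically
connected curve over k (topological dimension one) of genus g ≥ 2 (the text's standing setting: a
smooth projective complex curve of genus at least 2). Let E be a slope-semistable finite locally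
free O_X-module of rank 2 with trivial determinant: some second exterior power of E is isomorphic to
O_X. Then there is an invertible O_X-module L of degree g − 1 (degree χ(L) − χ(O_X)) with H^0(X, E ⊗
L) = 0. (The published statement says that the determinant linear series on the moduli space of
rank-2 bundles with trivial determinant has no base points; this row states the equivalent vanishing
for every semistable bundle that its proof establishes.) -/
theorem result
    (k : Type u) [Field k] [IsAlgClosed k] [CharZero k]
    (X : Scheme.{u}) [X.Over (Spec (CommRingCat.of k))]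
    [IsProper (X ↘ Spec (CommRingCat.of k))] [Smooth (X ↘ Spec (CommRingCat.of k))]
    [GeometricallyConnected (X ↘ Spec (CommRingCat.of k))] (hdim : topologicalKrullDim ↥X = 1)
    (g : ℕ) (hg : Curv2.genus k X = g) (hg2 : 2 ≤ g)
    (E : X.Modules) (hE : FlatMod.IsFinLocFreeOfRank 2 E) (hEss : ModFun.IsSlopeSemistable k X E 2)
    (hdet : ∃ D : X.Modules, ExtPow.IsExtPow 2 E D ∧ Nonempty (D ≅ Coh.structureModule X)) :
    ∃ L : X.Modules, PicF.IsInvertible L ∧ Curv2.deg k X L 1 = (g : ℤ) - 1 ∧
      Subsingleton (Coh.HH X (CohB1.tensorMod E L) 0) := by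
  open Groth.Agent.Lib Groth.Agent.Lib.CurveBundle Groth.Agent.Lib.TensorMod.Basic in
    have := Ctx.ofConnected k hdim
    have := ‹Degree.CurveCtx k X›.integral
    obtain ⟨D, hD, ⟨eD⟩⟩ := hdet
    obtain ⟨hEc, -, eE, -⟩ := Slope.bundle (k := k) hE
    have hd0 : Degree.dg k E = 0 := by
      rw [← (DetDeg.dg_of_isExtPow hE hD).2, Degree.dg_congr k eD]
      exact H0Crit.dg_structure
    have hss := Slope.ss_of hE hEss
    suffices H : ∀ (n : ℕ) (L : X.Modules), PicF.IsInvertible L →
        Curv2.deg k X L 1 = (g : ℤ) - 1 →
        Curves.Euler.hdim k X (CohB1.tensorMod E L) 0 ≤ n →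
        ∃ L : X.Modules, PicF.IsInvertible L ∧ Curv2.deg k X L 1 = (g : ℤ) - 1 ∧
          Subsingleton (Coh.HH X (CohB1.tensorMod E L) 0) by
      obtain ⟨L, hL, hLd, -⟩ := Choice.exists_genus_sub_one k hdim
      exact H _ L hL (by rw [hLd, hg]) le_rfl
    intro n
    induction n using Nat.strong_induction_on with
    | _ n ih =>
    intro L hL hLd hn
    rcases subsingleton_or_nontrivial (Coh.HH X (CohB1.tensorMod E L) 0) with h | h
    · exact ⟨L, hL, hLd, h⟩
    have hLd' : Degree.dg k L = (g : ℤ) - 1 := by
      rw [Degree.dg_eq_deg k (TensorMod.LocFree.of_isInvertible hL)]; exact hLd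
    have hF := TensorMod.LocFree.rank_tensorMod hE (TensorMod.LocFree.of_isInvertible hL)
    have hFd := (Twist.gr_dg_twist k hL hEc).2
    rw [eE, hd0, hLd'] at hFd
    obtain ⟨N, hN, hNd, hlt⟩ := RankTwoVanish.exists_step k hdim hF
      (by rw [hFd, hg]; push_cast; ring) (fun M i _ hM => by
        have hL' := TensorMod.Invertible.isInvertible_dual hL
        have hses : (ShortComplex.mk i (cokernel.π i) (cokernel.condition i)).ShortExact :=
          { exact := ShortComplex.exact_cokernel i }
        have := (Twist.shortExact hL' hses).mono_f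
        let i' : CohB1.tensorMod M (TensorMod.Dual.dual L) ⟶ E :=
          tmap i (𝟙 _) ≫ (LineQuot.cancel (TensorMod.Invertible.tensorDualIso hL)).hom
        have : Mono i' := mono_comp _ _
        obtain ⟨hMc, -, eM, -⟩ := SlopeLine.line (k := k) hM
        obtain ⟨eG, hGd⟩ := Twist.gr_dg_twist k hL' hMc
        have hb := hss _ i' inferInstance (Twist.isCoh hL' hMc)
        rw [eG, eM, eE, hd0, hGd, eM, H0Crit.dg_dual hL, hLd'] at hb
        push_cast at hb
        rw [hg]
        linarith) h
    have hLN := TensorMod.Invertible.isInvertible_tensorMod hL hN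
    rw [Curves.Euler.hdim_eq_of_iso (assoc E L N) 0] at hlt
    refine ih (Curves.Euler.hdim k X (CohB1.tensorMod E (CohB1.tensorMod L N)) 0) (by omega) _ hLN
      ?_ le_rfl
    obtain ⟨hLc, -, eL, -⟩ := SlopeLine.line (k := k) hL
    rw [← Degree.dg_eq_deg k (TensorMod.LocFree.of_isInvertible hLN),
      (Twist.gr_dg_twist k hN hLc).2, hNd, hLd']
    simp


end Groth.Agent.S16141
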