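import Groth.Statements.S16145
import Groth.Agent.Lib.ExtRetract89.Basic
import Groth.Agent.Lib.BiReg90.Quadric
import Groth.Agent.Lib.GrassGen.ExtPowFree
import Groth.Agent.Lib.FundLocal.ExtPowExists
import Groth.Agent.Lib.Bott.FreePow

set_option autoImplicit false
universe u
open CategoryTheory CategoryTheory.Limits AlgebraicGeometry
open Variety

namespace Groth.Agent.S16145

open Groth.Agent.Lib Groth.Agent.Lib.QuadricKer W4c3multigrregular
open Groth.Agent.Lib.TensorMod.Basic (tmap comm assoc tensorIso leftUnit rightUnit tensorBy)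

theorem gg_tensor {X : Scheme.{u}} [CompactSpace X] (P : X.Modules) {E : X.Modules}
    (hE : FlatMod.IsFinLocFree E) (hP : Curv2.IsGloballyGenerated P) (hgE : Curv2.IsGloballyGenerated E) :
    Curv2.IsGloballyGenerated (CohB1.tensorMod P E) := by
  obtain ⟨m, p, hp⟩ := H34.GlobGen.exists_free_epi hE hgE
  let T : X.Modules ⥤ X.Modules := (TensorMod.Basic.tensorFunctor X).obj P
  haveI : PreservesColimitsOfSize.{0, 0} T := preservesSmallestColimits_of_preservesColimits T
  haveI : PreservesColimitsOfShape (Discrete (Fin m)) T := inferInstance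
  let e₁ : T.obj (FlatMod.freeMod X m) ≅ ∐ fun _ : Fin m => P :=
    PreservesCoproduct.iso T _ ≪≫ Sigma.mapIso fun _ => rightUnit P
  have hq := @epi_comp _ _ _ _ _ e₁.inv inferInstance (T.map p) inferInstance
  exact @H34.GlobGen.gg_of_epi X _ _ (e₁.inv ≫ T.map p) hq (H34.GlobGen.gg_sigma _ fun _ => hP)

theorem isUnit_natCast {k : Type u} [Field k] [CharZero k] {X : Scheme.{u}}
    (f : X ⟶ Spec (CommRingCat.of k)) (U : X.Opens) (n : ℕ) :
    IsUnit ((n + 1 : ℕ) : Γ(X, U)) := by
  have h := (isUnit_iff_ne_zero.2 (Nat.cast_ne_zero.2 n.succ_ne_zero : ((n + 1 : ℕ) : k) ≠ 0)).map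
    ((Scheme.ΓSpecIso (CommRingCat.of k)).inv ≫ f.appLE ⊤ U le_top).hom
  simpa using h


/-- Let k be an algebraically closed field of characteristic zero and G a finite locally free O-module
on P¹ ×_k P¹ which is (p, q)-regular in the bigraded sense (H^{u₁+u₂}(P¹ × P¹, G(p - u₁, q - u₂)) =
0 whenever u₁ + u₂ > 0) and whose twist G(p, q) is globally generated. Then for every natural number
j, every j-th exterior power L of G (an O-module with L(U) ≅ ⋀^j G(U) over the affine opens U,
compatibly with restriction) is (j·p, j·q)-regular. (As for the first assertion, the published lemma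
has no global-generation hypothesis and takes it from the bigraded form of Mumford's regularity
criterion, quoted without proof in the source; it is carried here. The source states this assertion
over the complex numbers.) -/
theorem result (k : Type u) [Field k] [IsAlgClosed k] [CharZero k]
    (G : (W4c3multigrregular.biProj 1 1 k).Modules) (hG : FlatMod.IsFinLocFree G) (p q : ℤ)
    (hreg : W4c3multigrregular.IsBiReg 1 1 k G p q)
    (hgg : Curv2.IsGloballyGenerated (W4c3multigrregular.twistBi 1 1 k G p q))
    (j : ℕ) (L : (W4c3multigrregular.biProj 1 1 k).Modules) (hL : ExtPow.IsExtPow j G L) :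
    W4c3multigrregular.IsBiReg 1 1 k L (j * p) (j * q) := by
  haveI : IsProper (biProj 1 1 k ↘ Spec (CommRingCat.of k)) := by
    haveI : IsProper (CohB1.ProjSpace.toSpec 1 k) := ProjSpace.Basic.isProper_toSpec 1 k
    exact inferInstanceAs (IsProper (biProj.toSpec 1 1 k))
  haveI : IsNoetherian (biProj 1 1 k) := Curves.GlobalSections.isNoetherian_of_proper k _
  haveI : G.IsQuasicoherent := Modules.AffineSections.isQCoh_of_isFinLocFree hG
  suffices H : IsBiReg 1 1 k L (j * p) (j * q) ∧
      Curv2.IsGloballyGenerated (twistBi 1 1 k L (j * p) (j * q)) from H.1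
  induction j generalizing L with
  | zero =>
    obtain ⟨e⟩ := Bott.FreePow.nonempty_iso_zero hL
    let et : ∀ a b : ℤ, twistBi 1 1 k L a b ≅ Box.T k a b := fun a b =>
      tensorIso e.symm (Iso.refl _) ≪≫ leftUnit _
    simp only [Nat.cast_zero, zero_mul]
    refine ⟨fun u₁ u₂ hu => ?_, ?_⟩
    · refine BiReg90.Main.of_iso k (et _ _).symm (Box.subsingleton_T k fun a b hab => ?_)
      unfold Line.Van
      omega
    · exact H34.GlobGen.gg_of_epi ((et 0 0).trans (Box.T00 k)).inv (H34.GlobGen.gg_structureModule _)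
  | succ n IH =>
    obtain ⟨A, hA⟩ := FundLocal.ExtPowExists.exists_isExtPow (E := G) n
    obtain ⟨hAreg, hAgg⟩ := IH A hA
    have hAf : FlatMod.IsFinLocFree A := GrassGen.ExtPowFree.isFinLocFree hG hA
    haveI : A.IsQuasicoherent := Modules.AffineSections.isQCoh_of_isFinLocFree hAf
    obtain ⟨s, r, hsr⟩ := ExtRetract89.Basic.exists_retract hA hL
      fun U => isUnit_natCast (biProj.toSpec 1 1 k) U.1 n
    have hGA := BiReg90.Quadric.isBiReg_tensor k hG hAf hreg hAreg hgg hAgg
    have hmap : ∀ a b : ℤ, (tensorBy (lineBundle 1 1 k a b)).map s ≫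
        (tensorBy (lineBundle 1 1 k a b)).map r = 𝟙 _ := fun a b => by
      rw [← Functor.map_comp, hsr, CategoryTheory.Functor.map_id]
    rw [show ((n + 1 : ℕ) : ℤ) * p = p + n * p by push_cast; ring,
      show ((n + 1 : ℕ) : ℤ) * q = q + n * q by push_cast; ring]
    refine ⟨fun u₁ u₂ hu => ?_, ?_⟩
    · have hS := hGA u₁ u₂ hu
      refine @Function.Injective.subsingleton _ _
        (Curves.LES.mapK k ((tensorBy (lineBundle 1 1 k (p + n * p - u₁) (q + n * q - u₂))).map s) (u₁ + u₂)) ?_ hS
      refine Function.LeftInverse.injective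
        (g := Curves.LES.mapK k ((tensorBy (lineBundle 1 1 k (p + n * p - u₁) (q + n * q - u₂))).map r) (u₁ + u₂))
        fun x => ?_
      rw [← LinearMap.comp_apply, ← Curves.LES.mapK_comp, hmap, Curves.LES.mapK_id]
      rfl
    · have hB : Curv2.IsGloballyGenerated (twistBi 1 1 k (CohB1.tensorMod G A) (p + n * p) (q + n * q)) := by
        have h0 := gg_tensor _ (BiReg90.Quadric.locFree_twist k hAf _ _)
          (show Curv2.IsGloballyGenerated (twistBi 1 1 k G (0 + p) (0 + q)) by rwa [zero_add, zero_add]) hAgg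
        have h1 := H34.GlobGen.gg_of_epi (BiReg90.Quadric.bigIso k G A 0 0 p q (n * p) (n * q)).hom h0
        rwa [zero_add, zero_add] at h1
      haveI hE : Epi ((tensorBy (lineBundle 1 1 k (p + n * p) (q + n * q))).map r) :=
        (SplitEpi.mk _ (hmap _ _)).epi
      exact @H34.GlobGen.gg_of_epi _ _ _ ((tensorBy (lineBundle 1 1 k (p + n * p) (q + n * q))).map r) hE hB

end Groth.Agent.S16145
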