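import Groth.Statements.S1615


set_option autoImplicit false
set_option backward.isDefEq.respectTransparency false
universe u
open CategoryTheory CategoryTheory.Limits AlgebraicGeometry
open Constr

namespace Groth.Agent.S1615

/-- For a graded ring A, quasi-compactness of Proj A is equivalent to the existence of finitely many
homogeneous elements of positive degree generating an ideal whose radical contains the irrelevant
ideal A_+. -/
theorem result {R A : Type u} [CommRing R] [CommRing A] [Algebra R A] (𝒜 : ℕ → Submodule R A) [GradedAlgebra 𝒜] :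
    CompactSpace ↥(Proj 𝒜) ↔ ∃ s : Finset A, (∀ f ∈ s, ∃ d : ℕ, 0 < d ∧ f ∈ 𝒜 d) ∧
      (HomogeneousIdeal.irrelevant 𝒜).toIdeal ≤ (Ideal.span (s : Set A)).radical := by
  classical
  constructor
  · intro h
    have hcov : ∀ x : ↥(Proj 𝒜), ∃ p : {p : A // ∃ d : ℕ, 0 < d ∧ p ∈ 𝒜 d}, x ∈ Proj.basicOpen 𝒜 p.1 := by
      intro x
      by_contra hx
      push Not at hx
      refine ProjectiveSpectrum.not_irrelevant_le x ?_
      show (HomogeneousIdeal.irrelevant 𝒜).toIdeal ≤ x.asHomogeneousIdeal.toIdeal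
      rw [HomogeneousIdeal.irrelevant_eq_span,
        Ideal.span_le]
      intro a ha
      simp only [Set.mem_iUnion] at ha
      obtain ⟨d, hd, had⟩ := ha
      have := hx ⟨a, d, hd, had⟩
      rw [Proj.mem_basicOpen, not_not] at this
      exact this
    obtain ⟨t, ht⟩ := isCompact_univ.elim_finite_subcover
      (fun p : {p : A // ∃ d : ℕ, 0 < d ∧ p ∈ 𝒜 d} => (Proj.basicOpen 𝒜 p.1 : Set ↥(Proj 𝒜)))
      (fun p => (Proj.basicOpen 𝒜 p.1).isOpen) (fun x _ => Set.mem_iUnion.mpr (hcov x))
    refine ⟨t.image Subtype.val, fun f hf => ?_, ?_⟩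
    · obtain ⟨p, -, rfl⟩ := Finset.mem_image.mp hf
      exact p.2
    · have hI : (Ideal.span ((t.image Subtype.val : Finset A) : Set A)).IsHomogeneous 𝒜 :=
        Ideal.homogeneous_span 𝒜 _ fun x hx => by
          obtain ⟨p, -, rfl⟩ := Finset.mem_image.mp (Finset.mem_coe.mp hx)
          obtain ⟨d, -, hd⟩ := p.2
          exact ⟨d, hd⟩
      rw [hI.radical_eq]
      refine le_sInf fun J hJ => ?_
      obtain ⟨hJh, hJI, hJp⟩ := hJ
      by_contra hJirr
      let x : ↥(Proj 𝒜) := (⟨⟨J, hJh⟩, hJp, hJirr⟩ : ProjectiveSpectrum 𝒜)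
      have hxm := ht (Set.mem_univ x)
      simp only [Set.mem_iUnion, exists_prop, SetLike.mem_coe] at hxm
      obtain ⟨p, hp, hxp⟩ := hxm
      exact (Proj.mem_basicOpen 𝒜 _ _).mp hxp
        (hJI (Ideal.subset_span (Finset.mem_coe.mpr (Finset.mem_image_of_mem _ hp))))
  · rintro ⟨s, hs, hrad⟩
    have hu : (Set.univ : Set ↥(Proj 𝒜)) =
        ⋃ f ∈ (↑s : Set A), (Proj.basicOpen 𝒜 f : Set ↥(Proj 𝒜)) := by
      refine (Set.eq_univ_of_forall fun x => ?_).symm
      by_contra hx
      simp only [Set.mem_iUnion, exists_prop, SetLike.mem_coe, not_exists, not_and,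
        Proj.mem_basicOpen, not_not] at hx
      refine ProjectiveSpectrum.not_irrelevant_le x ?_
      show (HomogeneousIdeal.irrelevant 𝒜).toIdeal ≤ x.asHomogeneousIdeal.toIdeal
      refine hrad.trans ((x.isPrime.radical_le_iff).mpr ?_)
      exact Ideal.span_le.mpr fun f hf => hx f hf
    refine ⟨?_⟩
    rw [hu]
    refine s.finite_toSet.isCompact_biUnion fun f hf => ?_
    obtain ⟨d, hd, hfd⟩ := hs f hf
    exact (Proj.isAffineOpen_basicOpen 𝒜 f hfd hd).isCompact

end Groth.Agent.S1615
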