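import Groth.Statements.S16152
import Mathlib.Data.Finsupp.Weight
import Mathlib.LinearAlgebra.Pi
import Mathlib.Tactic.Ring
import Mathlib.Tactic.LinearCombination
import Mathlib.Algebra.CharP.Defs

set_option autoImplicit false
universe u
open WGauss

namespace Groth.Agent.S16152

open MvPolynomial

theorem exists_le_degree {ι : Type} [Fintype ι] [DecidableEq ι] (C : ι →₀ ℕ) :
    ∀ m, m ≤ C.degree → ∃ A, A ≤ C ∧ A.degree = m
  | 0, _ => ⟨0, fun i => Nat.zero_le _, map_zero _⟩
  | m + 1, h => by
    obtain ⟨A, hA, hd⟩ := exists_le_degree C m (by omega)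
    obtain ⟨i, hi⟩ : ∃ i, A i < C i := by
      by_contra! hcon
      have : A = C := le_antisymm hA hcon
      subst this
      omega
    refine ⟨A + Finsupp.single i 1, fun j => ?_, by rw [map_add, Finsupp.degree_single, hd]⟩
    by_cases hj : j = i
    · subst hj; simp; omega
    · simp [Ne.symm hj, hA j]

section

variable {k : Type u} [Field k] {n : ℕ}

/-- The tuple with coefficient vector `v` at the monomial `C`. -/
noncomputable def comp (C : Fin (n + 1) →₀ ℕ) :
    (Fin (n + 1) → k) →ₗ[k] (Fin (n + 1) → MvPolynomial (Fin (n + 1)) k) :=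
  LinearMap.pi fun i => monomial (C - Finsupp.single i 1) ∘ₗ LinearMap.proj i

theorem gauss_monomial (a b : ℕ) (A B : Fin (n + 1) →₀ ℕ) (i : Fin (n + 1)) :
    (b : k) • (monomial B 1 * pderiv i (monomial A (1 : k))) -
        (a : k) • (monomial A 1 * pderiv i (monomial B (1 : k))) =
      monomial (A + B - Finsupp.single i 1) ((b : k) * (A i : k) - (a : k) * (B i : k)) := by
  have h : ∀ P Q : Fin (n + 1) →₀ ℕ, monomial Q 1 * pderiv i (monomial P (1 : k)) =
      monomial (P + Q - Finsupp.single i 1) (P i : k) := by
    intro P Q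
    rw [pderiv_monomial, monomial_mul, one_mul, one_mul]
    by_cases hP : P i = 0
    · simp [hP]
    · refine congrArg (fun t => monomial t (P i : k)) (Finsupp.ext fun j => ?_)
      by_cases hj : j = i
      · subst hj; simp; omega
      · simp [Ne.symm hj]; omega
  rw [h, h, add_comm B A, smul_monomial, smul_monomial, ← map_sub, smul_eq_mul, smul_eq_mul]

end

open MvPolynomial in
/-- Over a field k of characteristic zero, for e, a, b positive integers with a < b, the weighted
Gaussian map of the line bundle O(e) on projective n-space is surjective. Concretely, identifying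
global sections of O(m) with homogeneous polynomials of degree m in X_0, ..., X_n and global
sections of the twisted cotangent sheaf Omega^1(t) with the (n+1)-tuples of homogeneous polynomials
of degree t - 1 killed by the Euler map (f_i) to sum_i X_i f_i, every such tuple with t = (a+b)e is
a k-linear combination of the tuples (b tau (d sigma / d X_i) - a sigma (d tau / d X_i))_i with
sigma homogeneous of degree ae and tau homogeneous of degree be. (The source works over the complex
numbers; the statement is one of linear algebra and is given here over any field of characteristic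
zero.) -/
theorem result
    (k : Type u) [Field k] [CharZero k] (n e a b : ℕ) (he : 0 < e) (ha : 0 < a) (hab : a < b)
    (f : Fin (n + 1) → MvPolynomial (Fin (n + 1)) k)
    (hf : ∀ i, (f i).IsHomogeneous ((a + b) * e - 1))
    (hEuler : ∑ i, X i * f i = 0) :
    f ∈ Submodule.span k
      {g : Fin (n + 1) → MvPolynomial (Fin (n + 1)) k |
        ∃ σ τ : MvPolynomial (Fin (n + 1)) k, σ.IsHomogeneous (a * e) ∧ τ.IsHomogeneous (b * e) ∧
          g = fun i => (b : k) • (τ * pderiv i σ) - (a : k) • (σ * pderiv i τ)} := by
  classical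
  set S := Submodule.span k
      {g : Fin (n + 1) → MvPolynomial (Fin (n + 1)) k |
        ∃ σ τ : MvPolynomial (Fin (n + 1)) k, σ.IsHomogeneous (a * e) ∧ τ.IsHomogeneous (b * e) ∧
          g = fun i => (b : k) • (τ * pderiv i σ) - (a : k) • (σ * pderiv i τ)} with hS
  have hgen : ∀ A B : Fin (n + 1) →₀ ℕ, A.degree = a * e → B.degree = b * e →
      comp (A + B) (fun i => (b : k) * (A i : k) - (a : k) * (B i : k)) ∈ S := by
    intro A B hA hB
    refine Submodule.subset_span ⟨monomial A 1, monomial B 1, isHomogeneous_monomial _ hA,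
      isHomogeneous_monomial _ hB, funext fun i => ?_⟩
    rw [gauss_monomial]
    rfl
  have hab0 : (a : k) + (b : k) ≠ 0 := by
    rw [← Nat.cast_add, Nat.cast_ne_zero]
    omega
  have hD : 2 ≤ (a + b) * e := by nlinarith
  have hpair : ∀ C : Fin (n + 1) →₀ ℕ, C.degree = (a + b) * e → ∀ i j, i ≠ j → 0 < C i → 0 < C j →
      comp C (Pi.single i 1 - Pi.single j 1) ∈ S := by
    intro C hC i j hij hi hj
    have e0 : C - Finsupp.single i 1 - Finsupp.single j 1 + Finsupp.single i 1 + Finsupp.single j 1 = C := by
      refine Finsupp.ext fun l => ?_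
      by_cases hli : l = i
      · subst hli; simp [hij]; omega
      · by_cases hlj : l = j
        · subst hlj; simp [Ne.symm hli]; omega
        · simp [Ne.symm hli, Ne.symm hlj]
    have hd : (C - Finsupp.single i 1 - Finsupp.single j 1).degree + 2 = (a + b) * e := by
      have := congrArg Finsupp.degree e0
      rw [map_add, map_add, Finsupp.degree_single, Finsupp.degree_single, hC] at this
      omega
    have hae : 1 ≤ a * e := Nat.one_le_iff_ne_zero.2 (by positivity)
    have hbe : 1 ≤ b * e := Nat.one_le_iff_ne_zero.2 (Nat.mul_ne_zero (by omega) (by omega))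
    obtain ⟨A0, hA0, hA0d⟩ := exists_le_degree (C - Finsupp.single i 1 - Finsupp.single j 1) (a * e - 1)
      (by have := hd; rw [add_mul] at this; omega)
    set A1 : Fin (n + 1) →₀ ℕ := A0 + Finsupp.single i 1 with hA1
    set A2 : Fin (n + 1) →₀ ℕ := A0 + Finsupp.single j 1 with hA2
    have hval : ∀ l, A1 l ≤ C l ∧ A2 l ≤ C l := fun l => by
      have h := hA0 l
      simp only [hA1, hA2, Finsupp.tsub_apply, Finsupp.add_apply] at h ⊢
      by_cases hli : l = i
      · subst hli; simp [hij] at h ⊢; omega
      · by_cases hlj : l = j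
        · subst hlj; simp [Ne.symm hli] at h ⊢; omega
        · simp [Ne.symm hli, Ne.symm hlj] at h ⊢; omega
    have hBd : ∀ A : Fin (n + 1) →₀ ℕ, A ≤ C → A.degree = a * e → (C - A).degree = b * e ∧ A + (C - A) = C := by
      intro A hle hA
      have heq : A + (C - A) = C := add_tsub_cancel_of_le hle
      have := congrArg Finsupp.degree heq
      rw [map_add, hA, hC, add_mul] at this
      exact ⟨by omega, heq⟩
    have hA1d : A1.degree = a * e := by rw [hA1, map_add, Finsupp.degree_single, hA0d]; omega
    have hA2d : A2.degree = a * e := by rw [hA2, map_add, Finsupp.degree_single, hA0d]; omega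
    obtain ⟨hB1, hC1⟩ := hBd A1 (fun l => (hval l).1) hA1d
    obtain ⟨hB2, hC2⟩ := hBd A2 (fun l => (hval l).2) hA2d
    have h1 := hgen A1 _ hA1d hB1
    have h2 := hgen A2 _ hA2d hB2
    rw [hC1] at h1
    rw [hC2] at h2
    have := Submodule.smul_mem S ((a : k) + b)⁻¹ (Submodule.sub_mem S h1 h2)
    rw [← map_sub, ← map_smul] at this
    convert this using 2
    funext l
    simp only [Pi.sub_apply, Pi.smul_apply, smul_eq_mul, Finsupp.tsub_apply]
    rw [Nat.cast_sub (hval l).1, Nat.cast_sub (hval l).2, hA1, hA2]
    simp only [Finsupp.add_apply, Nat.cast_add]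
    rw [eq_inv_mul_iff_mul_eq₀ hab0]
    simp only [Finsupp.single_apply, Pi.single_apply, @eq_comm _ l i, @eq_comm _ l j]
    split_ifs <;> push_cast <;> ring
  let v : (Fin (n + 1) →₀ ℕ) → Fin (n + 1) → k :=
    fun C i => if C i = 0 then 0 else coeff (C - Finsupp.single i 1) (f i)
  let T : Finset (Fin (n + 1) →₀ ℕ) :=
    Finset.univ.biUnion fun i => (f i).support.image (fun β => β + Finsupp.single i 1)
  have hdecomp : f = ∑ C ∈ T, comp C (v C) := by
    funext i
    rw [Finset.sum_apply]
    refine MvPolynomial.ext _ _ fun β => ?_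
    show _ = coeff β (∑ C ∈ T, monomial (C - Finsupp.single i 1) (v C i))
    rw [coeff_sum, Finset.sum_eq_single (β + Finsupp.single i 1)]
    · rw [coeff_monomial, if_pos (by simp)]
      simp [v]
    · intro C _ hne
      rw [coeff_monomial]
      by_cases hCi : C i = 0
      · simp [v, hCi]
      · rw [if_neg]
        intro he
        refine hne (Finsupp.ext fun l => ?_)
        have := DFunLike.congr_fun he l
        by_cases hl : l = i
        · subst hl; simp at this ⊢; omega
        · simp [Ne.symm hl] at this ⊢; omega
    · intro hnot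
      have : β ∉ (f i).support := fun h => hnot (Finset.mem_biUnion.2
        ⟨i, Finset.mem_univ _, Finset.mem_image.2 ⟨β, h, rfl⟩⟩)
      rw [coeff_monomial, if_pos (by simp)]
      simpa [v] using notMem_support_iff.1 this
  rw [hdecomp]
  refine Submodule.sum_mem _ fun C hCT => ?_
  obtain ⟨i0, -, hC⟩ := Finset.mem_biUnion.1 hCT
  obtain ⟨β, hβ, rfl⟩ := Finset.mem_image.1 hC
  set C := β + Finsupp.single i0 1 with hCdef
  have hCd : C.degree = (a + b) * e := by
    rw [hCdef, map_add, Finsupp.degree_single]
    have h1 := hf i0 (mem_support_iff.1 hβ)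
    rw [Finsupp.weight_apply, Finsupp.sum] at h1
    simp only [Pi.one_apply, smul_eq_mul, mul_one] at h1
    rw [Finsupp.degree_apply, h1]
    omega
  have hi0 : 0 < C i0 := by simp [hCdef]
  have hsum : ∑ i, v C i = 0 := by
    have := congrArg (coeff C) hEuler
    rw [coeff_sum, coeff_zero] at this
    refine Eq.trans (Finset.sum_congr rfl fun i _ => ?_) this
    rw [coeff_X_mul']
    by_cases h : C i = 0 <;> simp [v, h]
  have hv : v C = ∑ i, v C i • (Pi.single i 1 - Pi.single i0 1 : Fin (n + 1) → k) := by
    simp only [smul_sub, Finset.sum_sub_distrib, ← Finset.sum_smul, hsum, zero_smul, sub_zero]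
    funext l
    simp [Finset.sum_apply, Pi.single_apply]
  rw [hv, map_sum]
  refine Submodule.sum_mem _ fun i _ => ?_
  rw [map_smul]
  by_cases h : v C i = 0
  · rw [h, zero_smul]
    exact Submodule.zero_mem _
  refine Submodule.smul_mem _ _ ?_
  by_cases hii : i = i0
  · subst hii; simp
  · exact hpair C hCd i i0 hii (Nat.pos_of_ne_zero fun h0 => h (by simp [v, h0])) hi0

end Groth.Agent.S16152
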