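import Groth.Statements.S16153
import Mathlib

set_option autoImplicit false
universe u
open SpinRat

namespace Groth.Agent.S16153

noncomputable section
open MvPolynomial

variable {k : Type u} [Field k]

def mon (i j : Fin 4) : Fin 4 →₀ ℕ :=
  Finsupp.equivFunOnFinite.symm ![(i : ℕ), 3 - i, (j : ℕ), 3 - j]

theorem mon_inj {i j i' j' : Fin 4} (h : mon i j = mon i' j') : i = i' ∧ j = j' := by
  have h0 := DFunLike.congr_fun h 0
  have h2 := DFunLike.congr_fun h 2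
  simp [mon] at h0 h2
  exact ⟨Fin.ext h0, Fin.ext h2⟩

def Fm : (Fin 4 → Fin 4 → k) →ₗ[k] MvPolynomial (Fin 4) k where
  toFun a := ∑ i, ∑ j, monomial (mon i j) (a i j)
  map_add' a b := by simp [Finset.sum_add_distrib]
  map_smul' r a := by simp [Finset.smul_sum, smul_monomial]

theorem coeff_Fm (a : Fin 4 → Fin 4 → k) (i j : Fin 4) : coeff (mon i j) (Fm a) = a i j := by
  simp only [Fm, LinearMap.coe_mk, AddHom.coe_mk, coeff_sum, coeff_monomial]
  rw [Finset.sum_eq_single i, Finset.sum_eq_single j]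
  · simp
  · intro j' _ hj
    rw [if_neg (fun h => hj (mon_inj h).2)]
  · simp
  · intro i' _ hi
    exact Finset.sum_eq_zero fun j' _ => if_neg (fun h => hi (mon_inj h).1)
  · simp

theorem monomial_mon (i j : Fin 4) (c : k) :
    monomial (mon i j) c = C c * (X 0 ^ (i : ℕ) * X 1 ^ (3 - (i : ℕ)) * X 2 ^ (j : ℕ) * X 3 ^ (3 - (j : ℕ))) := by
  rw [monomial_eq]
  rw [Finsupp.prod_fintype _ _ (by simp)]
  simp [Fin.prod_univ_four, mon]

theorem Fm_expand (a : Fin 4 → Fin 4 → k) :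
    Fm a = ∑ i : Fin 4, ∑ j : Fin 4,
      C (a i j) * (X 0 ^ (i : ℕ) * X 1 ^ (3 - (i : ℕ)) * X 2 ^ (j : ℕ) * X 3 ^ (3 - (j : ℕ))) := by
  simp [Fm, monomial_mon]

theorem weight_eq (d : Fin 4 →₀ ℕ) (w : Fin 4 → ℕ) :
    Finsupp.weight w d = d 0 * w 0 + d 1 * w 1 + d 2 * w 2 + d 3 * w 3 := by
  rw [Finsupp.weight_apply, Finsupp.sum_fintype _ _ (by simp)]
  simp [Fin.sum_univ_four]

theorem eq_Fm (f : MvPolynomial (Fin 4) k)
    (h1 : f.IsWeightedHomogeneous (![1, 1, 0, 0] : Fin 4 → ℕ) 3)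
    (h2 : f.IsWeightedHomogeneous (![0, 0, 1, 1] : Fin 4 → ℕ) 3) :
    f = Fm (fun i j => coeff (mon i j) f) := by
  ext d
  by_cases hd : ∃ i j, d = mon i j
  · obtain ⟨i, j, rfl⟩ := hd
    rw [coeff_Fm]
  · have hz : coeff d f = 0 := by
      by_contra h
      have e1 := h1 h
      have e2 := h2 h
      simp [weight_eq] at e1 e2
      refine hd ⟨⟨d 0, by omega⟩, ⟨d 2, by omega⟩, ?_⟩
      ext t
      fin_cases t <;> simp [mon] <;> omega
    rw [hz]
    simp only [Fm, LinearMap.coe_mk, AddHom.coe_mk, coeff_sum, coeff_monomial]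
    refine (Finset.sum_eq_zero fun i _ => Finset.sum_eq_zero fun j _ => if_neg ?_).symm
    exact fun h => hd ⟨i, j, h.symm⟩

theorem Fm_hom1 (a : Fin 4 → Fin 4 → k) :
    (Fm a).IsWeightedHomogeneous (![1, 1, 0, 0] : Fin 4 → ℕ) 3 := by
  refine IsWeightedHomogeneous.sum _ _ _ fun i _ => IsWeightedHomogeneous.sum _ _ _ fun j _ => ?_
  refine isWeightedHomogeneous_monomial _ _ _ ?_
  simp [weight_eq, mon]
  omega

theorem Fm_hom2 (a : Fin 4 → Fin 4 → k) :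
    (Fm a).IsWeightedHomogeneous (![0, 0, 1, 1] : Fin 4 → ℕ) 3 := by
  refine IsWeightedHomogeneous.sum _ _ _ fun i _ => IsWeightedHomogeneous.sum _ _ _ fun j _ => ?_
  refine isWeightedHomogeneous_monomial _ _ _ ?_
  simp [weight_eq, mon]
  omega

theorem rename_Fm (a : Fin 4 → Fin 4 → k) :
    rename (![2, 3, 0, 1] : Fin 4 → Fin 4) (Fm a) = Fm (fun i j => a j i) := by
  rw [Fm_expand, Fm_expand, Finset.sum_comm]
  simp only [map_sum, map_mul, map_pow, rename_C, rename_X]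
  refine Finset.sum_congr rfl fun i _ => Finset.sum_congr rfl fun j _ => ?_
  simp [-mul_eq_mul_left_iff]
  ring

theorem constraints (a : Fin 4 → Fin 4 → k)
    (hd : (X 0 * X 1 * (X 0 - X 1)) ^ 2 ∣ rename (![0, 1, 0, 1] : Fin 4 → Fin 2) (Fm a)) :
    (a 0 0 = 0) ∧
    (a 0 1 + a 1 0 = 0) ∧
    (a 3 3 = 0) ∧
    (a 2 3 + a 3 2 = 0) ∧
    (a 0 0 + a 0 1 + a 0 2 + a 0 3 + a 1 0 + a 1 1 + a 1 2 + a 1 3 + a 2 0 + a 2 1 + a 2 2 + a 2 3 + a 3 0 + a 3 1 + a 3 2 + a 3 3 = 0) ∧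
    (a 0 1 + 2 * a 0 2 + 3 * a 0 3 + a 1 0 + 2 * a 1 1 + 3 * a 1 2 + 4 * a 1 3 + 2 * a 2 0 + 3 * a 2 1 + 4 * a 2 2 + 5 * a 2 3 + 3 * a 3 0 + 4 * a 3 1 + 5 * a 3 2 + 6 * a 3 3 = 0) := by
  obtain ⟨g, hg⟩ := hd
  have p1 : aeval (![Polynomial.X, 1, Polynomial.X, 1] : Fin 4 → Polynomial k) (Fm a) =
      (Polynomial.X * (Polynomial.X - 1)) ^ 2 * aeval (![Polynomial.X, 1] : Fin 2 → Polynomial k) g := by
    have := congrArg (aeval (![Polynomial.X, 1] : Fin 2 → Polynomial k)) hg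
    rw [aeval_rename] at this
    have e : (![Polynomial.X, 1] : Fin 2 → Polynomial k) ∘ (![0, 1, 0, 1] : Fin 4 → Fin 2) =
        ![Polynomial.X, 1, Polynomial.X, 1] := by funext t; fin_cases t <;> simp
    rw [e] at this
    simpa using this
  have p2 : aeval (![1, Polynomial.X, 1, Polynomial.X] : Fin 4 → Polynomial k) (Fm a) =
      (Polynomial.X * (1 - Polynomial.X)) ^ 2 * aeval (![1, Polynomial.X] : Fin 2 → Polynomial k) g := by
    have := congrArg (aeval (![1, Polynomial.X] : Fin 2 → Polynomial k)) hg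
    rw [aeval_rename] at this
    have e : (![1, Polynomial.X] : Fin 2 → Polynomial k) ∘ (![0, 1, 0, 1] : Fin 4 → Fin 2) =
        ![1, Polynomial.X, 1, Polynomial.X] := by funext t; fin_cases t <;> simp
    rw [e] at this
    simpa using this
  rw [Fm_expand] at p1 p2
  simp [Fin.sum_univ_four] at p1 p2
  have a0 := congrArg (Polynomial.eval 0) p1
  have a1 := congrArg (fun p => Polynomial.eval 0 (Polynomial.derivative p)) p1
  have b0 := congrArg (Polynomial.eval 0) p2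
  have b1 := congrArg (fun p => Polynomial.eval 0 (Polynomial.derivative p)) p2
  have c0 := congrArg (Polynomial.eval 1) p1
  have c1 := congrArg (fun p => Polynomial.eval 1 (Polynomial.derivative p)) p1
  simp [Polynomial.derivative_mul, Polynomial.derivative_pow] at a0 a1 b0 b1 c0 c1
  refine ⟨?_, ?_, ?_, ?_, ?_, ?_⟩
  · linear_combination a0
  · linear_combination a1
  · linear_combination b0
  · linear_combination b1
  · linear_combination c0
  · linear_combination c1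

def V0 : Fin 4 → Fin 4 → k :=
  ![![0, 0, 0, 0], ![0, 1, -1, 0], ![0, -1, 1, 0], ![0, 0, 0, 0]]

def V1 : Fin 4 → Fin 4 → k :=
  ![![0, 0, -2, 3], ![0, 4, -3, -2], ![-2, -3, 4, 0], ![3, -2, 0, 0]]

def V2 : Fin 4 → Fin 4 → k :=
  ![![0, 0, 0, 0], ![0, 0, 0, -2], ![0, 0, 4, 0], ![0, -2, 0, 0]]

def V3 : Fin 4 → Fin 4 → k :=
  ![![0, 0, -2, 0], ![0, 4, 0, 0], ![-2, 0, 0, 0], ![0, 0, 0, 0]]

def V4 : Fin 4 → Fin 4 → k :=
  ![![0, -4, 12, -9], ![4, 0, -17, 12], ![-12, 17, 0, -4], ![9, -12, 4, 0]]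

def V5 : Fin 4 → Fin 4 → k :=
  ![![0, 0, 0, 0], ![0, 0, -4, 6], ![0, 4, 0, -4], ![0, -6, 4, 0]]

def V6 : Fin 4 → Fin 4 → k :=
  ![![0, -4, 6, 0], ![4, 0, -4, 0], ![-6, 4, 0, 0], ![0, 0, 0, 0]]

def V7 : Fin 4 → Fin 4 → k :=
  ![![0, 0, 0, 0], ![0, 0, 0, 0], ![0, 0, 0, -4], ![0, 0, 4, 0]]

def V8 : Fin 4 → Fin 4 → k :=
  ![![0, -4, 0, 0], ![4, 0, 0, 0], ![0, 0, 0, 0], ![0, 0, 0, 0]]

def V9 : Fin 4 → Fin 4 → k :=
  ![![0, 0, 0, 0], ![0, 0, -4, 0], ![0, 4, 0, 0], ![0, 0, 0, 0]]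

theorem sym_span [CharZero k] (a : Fin 4 → Fin 4 → k)
    (hd : (X 0 * X 1 * (X 0 - X 1)) ^ 2 ∣ rename (![0, 1, 0, 1] : Fin 4 → Fin 2) (Fm a))
    (hs : ∀ i j, a j i = a i j) :
    ∃ r0 r1 r2 r3 : k, a = r0 • V0 + r1 • V1 + r2 • V2 + r3 • V3 := by
  obtain ⟨hc0, hc1, hc6, hc5, he0, he1⟩ := constraints a hd
  have hs01 := hs 0 1
  have hs02 := hs 0 2
  have hs03 := hs 0 3
  have hs12 := hs 1 2
  have hs13 := hs 1 3
  have hs23 := hs 2 3
  refine ⟨((2:k) * a 0 2 + (1:k) * a 1 1), (((1:k)/3) * a 0 3), (((-1:k)/3) * a 0 3 + ((-1:k)/2) * a 1 3), (((-1:k)/2) * a 0 2 + ((-1:k)/3) * a 0 3), ?_⟩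
  funext i j
  fin_cases i <;> fin_cases j <;> simp [V0, V1, V2, V3]
  · linear_combination (1:k) * hc0
  · linear_combination ((1:k)/2) * hc1 + ((-1:k)/2) * hs01
  · ring
  · ring
  · linear_combination ((1:k)/2) * hc1 + ((1:k)/2) * hs01
  · ring
  · linear_combination (-2:k) * hc0 + ((-3:k)/2) * hc1 + (1:k) * hc6 + ((1:k)/2) * hc5 + (2:k) * he0 + ((-1:k)/2) * he1 + (-1:k) * hs02 + ((-1:k)/2) * hs03 + ((-1:k)/2) * hs12
  · ring
  · linear_combination (1:k) * hs02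
  · linear_combination (-2:k) * hc0 + ((-3:k)/2) * hc1 + (1:k) * hc6 + ((1:k)/2) * hc5 + (2:k) * he0 + ((-1:k)/2) * he1 + (-1:k) * hs02 + ((-1:k)/2) * hs03 + ((1:k)/2) * hs12
  · linear_combination (3:k) * hc0 + (2:k) * hc1 + (-3:k) * hc6 + (-2:k) * hc5 + (-3:k) * he0 + (1:k) * he1 + (1:k) * hs02 + (-1:k) * hs13
  · linear_combination ((1:k)/2) * hc5 + ((-1:k)/2) * hs23
  · linear_combination (1:k) * hs03
  · linear_combination (1:k) * hs13
  · linear_combination ((1:k)/2) * hc5 + ((1:k)/2) * hs23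
  · linear_combination (1:k) * hc6

theorem anti_span [CharZero k] (a : Fin 4 → Fin 4 → k)
    (hd : (X 0 * X 1 * (X 0 - X 1)) ^ 2 ∣ rename (![0, 1, 0, 1] : Fin 4 → Fin 2) (Fm a))
    (hs : ∀ i j, a j i = -a i j) :
    ∃ r0 r1 r2 r3 r4 r5 : k, a = r0 • V4 + r1 • V5 + r2 • V6 + r3 • V7 + r4 • V8 + r5 • V9 := by
  obtain ⟨hc0, hc1, hc6, hc5, he0, he1⟩ := constraints a hd
  have hs00 := hs 0 0
  have hs01 := hs 0 1
  have hs02 := hs 0 2
  have hs03 := hs 0 3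
  have hs11 := hs 1 1
  have hs12 := hs 1 2
  have hs13 := hs 1 3
  have hs22 := hs 2 2
  have hs23 := hs 2 3
  have hs33 := hs 3 3
  refine ⟨(((-1:k)/9) * a 0 3), (((2:k)/9) * a 0 3 + ((1:k)/6) * a 1 3), (((1:k)/6) * a 0 2 + ((2:k)/9) * a 0 3), (((-1:k)/9) * a 0 3 + ((-1:k)/6) * a 1 3 + ((-1:k)/4) * a 2 3), (((-1:k)/4) * a 0 1 + ((-1:k)/6) * a 0 2 + ((-1:k)/9) * a 0 3), (((-1:k)/6) * a 0 2 + ((1:k)/36) * a 0 3 + ((-1:k)/4) * a 1 2 + ((-1:k)/6) * a 1 3), ?_⟩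
  funext i j
  fin_cases i <;> fin_cases j <;> simp [V4, V5, V6, V7, V8, V9]
  · linear_combination (1:k) * hc0
  · ring
  · ring
  · ring
  · linear_combination (1:k) * hc1
  · linear_combination ((1:k)/2) * hs11
  · ring
  · ring
  · linear_combination (1:k) * hs02
  · linear_combination (-4:k) * hc0 + (-3:k) * hc1 + (2:k) * hc6 + (1:k) * hc5 + (4:k) * he0 + (-1:k) * he1 + (-2:k) * hs02 + (-1:k) * hs03 + (-1:k) * hs11
  · linear_combination (3:k) * hc0 + (2:k) * hc1 + (-3:k) * hc6 + (-2:k) * hc5 + (-3:k) * he0 + (1:k) * he1 + (1:k) * hs02 + ((1:k)/2) * hs11 + (-1:k) * hs13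
  · ring
  · linear_combination (1:k) * hs03
  · linear_combination (1:k) * hs13
  · linear_combination (1:k) * hc5
  · linear_combination (1:k) * hc6

theorem indep [CharZero k] : LinearIndependent k (fun n : Fin 10 => Fm ((![V0, V1, V2, V3, V4, V5, V6, V7, V8, V9] : Fin 10 → Fin 4 → Fin 4 → k) n)) := by
  rw [Fintype.linearIndependent_iff]
  intro g hg
  have e : ∀ i j : Fin 4, g 0 * V0 i j + g 1 * V1 i j + g 2 * V2 i j + g 3 * V3 i j + g 4 * V4 i j + g 5 * V5 i j + g 6 * V6 i j + g 7 * V7 i j + g 8 * V8 i j + g 9 * V9 i j = 0 := by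
    intro i j
    have := congrArg (coeff (mon i j)) hg
    simpa [coeff_sum, coeff_Fm, Fin.sum_univ_succ, add_assoc] using this
  have e00 := e 0 0
  have e01 := e 0 1
  have e02 := e 0 2
  have e03 := e 0 3
  have e10 := e 1 0
  have e11 := e 1 1
  have e12 := e 1 2
  have e13 := e 1 3
  have e20 := e 2 0
  have e21 := e 2 1
  have e22 := e 2 2
  have e23 := e 2 3
  have e30 := e 3 0
  have e31 := e 3 1
  have e32 := e 3 2
  have e33 := e 3 3
  simp [V0, V1, V2, V3, V4, V5, V6, V7, V8, V9] at e01 e02 e03 e10 e11 e12 e13 e20 e21 e22 e23 e30 e31 e32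
  intro n
  fin_cases n <;> simp
  · linear_combination (1:k) * e02 + (1:k) * e11 + (1:k) * e20
  · linear_combination ((-1:k)/3) * e02 + ((-1:k)/3) * e11 + ((-1:k)/6) * e12 + ((-1:k)/3) * e20 + ((-1:k)/6) * e21
  · linear_combination ((1:k)/12) * e02 + ((1:k)/12) * e11 + ((1:k)/6) * e12 + ((1:k)/12) * e20 + ((1:k)/6) * e21 + ((1:k)/4) * e22
  · linear_combination ((1:k)/12) * e02 + ((1:k)/3) * e11 + ((1:k)/6) * e12 + ((1:k)/12) * e20 + ((1:k)/6) * e21
  · linear_combination ((-1:k)/9) * e02 + ((-1:k)/9) * e03 + ((-1:k)/9) * e11 + ((-1:k)/18) * e12 + ((-1:k)/9) * e20 + ((-1:k)/18) * e21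
  · linear_combination ((5:k)/36) * e02 + ((2:k)/9) * e03 + ((5:k)/36) * e11 + ((1:k)/9) * e12 + ((1:k)/6) * e13 + ((5:k)/36) * e20 + ((1:k)/9) * e21 + ((1:k)/12) * e22
  · linear_combination ((11:k)/36) * e02 + ((2:k)/9) * e03 + ((2:k)/9) * e11 + ((1:k)/9) * e12 + ((5:k)/36) * e20 + ((1:k)/9) * e21
  · linear_combination ((-1:k)/36) * e02 + ((-1:k)/9) * e03 + ((-1:k)/36) * e11 + ((-1:k)/18) * e12 + ((-1:k)/6) * e13 + ((-1:k)/36) * e20 + ((-1:k)/18) * e21 + ((-1:k)/12) * e22 + ((-1:k)/4) * e23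
  · linear_combination ((-1:k)/4) * e01 + ((-7:k)/36) * e02 + ((-1:k)/9) * e03 + ((-1:k)/9) * e11 + ((-1:k)/18) * e12 + ((-1:k)/36) * e20 + ((-1:k)/18) * e21
  · linear_combination ((1:k)/36) * e02 + ((1:k)/36) * e03 + ((1:k)/9) * e11 + ((-1:k)/9) * e12 + ((-1:k)/6) * e13 + ((7:k)/36) * e20 + ((5:k)/36) * e21 + ((-1:k)/12) * e22

open MvPolynomial in
/-- In the bigraded polynomial ring k[x0, x1, y0, y1] of the quadric surface (variables X 0, X 1, X 2, X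
3 in this order), over a field k of characteristic zero, let iota exchange x_i with y_i, let l = x0
y1 - x1 y0 be the diagonal, h1 = x0 (y1 - y0) + y0 (x1 - x0), h2 = x1 (y0 - y1) + y1 (x0 - x1), h3 =
x0 y1 + x1 y0, h = h1 + h2 + h3, h13 = h1 - h3, h23 = h2 - h3, and let c = x0 x1 (x0 - x1) y0 y1 (y0
- y1) be the product of the six rulings through the three diagonal points (1:0)x(1:0), (0:1)x(0:1),
(1:1)x(1:1). Let I be the space of forms of bidegree (3,3) whose restriction to the diagonal is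
divisible by (x0 x1 (x0 - x1))^2, that is, the bidegree-(3,3) forms through the length-six subscheme
of the diagonal doubled at those three points. Then the iota-invariant forms in I are exactly the
span of c, l^2 h, l^2 h13, l^2 h23; the iota-anti-invariant forms in I are exactly the span of l
h^2, l h h13, l h h23, l h13^2, l h23^2, l h13 h23; and these ten forms are linearly independent.
(The source works over the complex numbers and writes the two eigenspaces as direct sums of the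
displayed pieces; the six-line form c is read as the product of the two cubic factors.) -/
theorem result
    (k : Type u) [Field k] [CharZero k]
    (l h1 h2 h3 h h13 h23 c : MvPolynomial (Fin 4) k)
    (hl : l = X 0 * X 3 - X 1 * X 2)
    (hh1 : h1 = X 0 * (X 3 - X 2) + X 2 * (X 1 - X 0))
    (hh2 : h2 = X 1 * (X 2 - X 3) + X 3 * (X 0 - X 1))
    (hh3 : h3 = X 0 * X 3 + X 1 * X 2)
    (hh : h = h1 + h2 + h3) (hh13 : h13 = h1 - h3) (hh23 : h23 = h2 - h3)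
    (hc : c = X 0 * X 1 * (X 0 - X 1) * (X 2 * X 3 * (X 2 - X 3)))
    (I : Submodule k (MvPolynomial (Fin 4) k))
    (hI : ∀ f, f ∈ I ↔
      (f.IsWeightedHomogeneous (![1, 1, 0, 0] : Fin 4 → ℕ) 3 ∧
       f.IsWeightedHomogeneous (![0, 0, 1, 1] : Fin 4 → ℕ) 3 ∧
       (X 0 * X 1 * (X 0 - X 1)) ^ 2 ∣ rename (![0, 1, 0, 1] : Fin 4 → Fin 2) f)) :
    (∀ f, (f ∈ I ∧ rename (![2, 3, 0, 1] : Fin 4 → Fin 4) f = f) ↔
        f ∈ Submodule.span k ({c, l ^ 2 * h, l ^ 2 * h13, l ^ 2 * h23} : Set (MvPolynomial (Fin 4) k))) ∧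
    (∀ f, (f ∈ I ∧ rename (![2, 3, 0, 1] : Fin 4 → Fin 4) f = -f) ↔
        f ∈ Submodule.span k ({l * h ^ 2, l * h * h13, l * h * h23, l * h13 ^ 2, l * h23 ^ 2, l * h13 * h23} :
          Set (MvPolynomial (Fin 4) k))) ∧
    LinearIndependent k
      ![c, l ^ 2 * h, l ^ 2 * h13, l ^ 2 * h23, l * h ^ 2, l * h * h13, l * h * h23, l * h13 ^ 2, l * h23 ^ 2,
        l * h13 * h23] := by
  classical
  have eF0 : c = Fm (V0 : Fin 4 → Fin 4 → k) := by
    subst hl hh1 hh2 hh3 hh hh13 hh23 hc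
    simp [Fm_expand, Fin.sum_univ_four, V0, map_ofNat]
    ring
  have eF1 : l ^ 2 * h = Fm (V1 : Fin 4 → Fin 4 → k) := by
    subst hl hh1 hh2 hh3 hh hh13 hh23 hc
    simp [Fm_expand, Fin.sum_univ_four, V1, map_ofNat]
    ring
  have eF2 : l ^ 2 * h13 = Fm (V2 : Fin 4 → Fin 4 → k) := by
    subst hl hh1 hh2 hh3 hh hh13 hh23 hc
    simp [Fm_expand, Fin.sum_univ_four, V2, map_ofNat]
    ring
  have eF3 : l ^ 2 * h23 = Fm (V3 : Fin 4 → Fin 4 → k) := by
    subst hl hh1 hh2 hh3 hh hh13 hh23 hc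
    simp [Fm_expand, Fin.sum_univ_four, V3, map_ofNat]
    ring
  have eF4 : l * h ^ 2 = Fm (V4 : Fin 4 → Fin 4 → k) := by
    subst hl hh1 hh2 hh3 hh hh13 hh23 hc
    simp [Fm_expand, Fin.sum_univ_four, V4, map_ofNat]
    ring
  have eF5 : l * h * h13 = Fm (V5 : Fin 4 → Fin 4 → k) := by
    subst hl hh1 hh2 hh3 hh hh13 hh23 hc
    simp [Fm_expand, Fin.sum_univ_four, V5, map_ofNat]
    ring
  have eF6 : l * h * h23 = Fm (V6 : Fin 4 → Fin 4 → k) := by
    subst hl hh1 hh2 hh3 hh hh13 hh23 hc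
    simp [Fm_expand, Fin.sum_univ_four, V6, map_ofNat]
    ring
  have eF7 : l * h13 ^ 2 = Fm (V7 : Fin 4 → Fin 4 → k) := by
    subst hl hh1 hh2 hh3 hh hh13 hh23 hc
    simp [Fm_expand, Fin.sum_univ_four, V7, map_ofNat]
    ring
  have eF8 : l * h23 ^ 2 = Fm (V8 : Fin 4 → Fin 4 → k) := by
    subst hl hh1 hh2 hh3 hh hh13 hh23 hc
    simp [Fm_expand, Fin.sum_univ_four, V8, map_ofNat]
    ring
  have eF9 : l * h13 * h23 = Fm (V9 : Fin 4 → Fin 4 → k) := by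
    subst hl hh1 hh2 hh3 hh hh13 hh23 hc
    simp [Fm_expand, Fin.sum_univ_four, V9, map_ofNat]
    ring
  have hdiv : ∀ n : Fin 10, Fm ((![V0, V1, V2, V3, V4, V5, V6, V7, V8, V9] : Fin 10 → Fin 4 → Fin 4 → k) n) ∈ I := by
    have key : ∀ a : Fin 4 → Fin 4 → k,
        (X 0 * X 1 * (X 0 - X 1)) ^ 2 ∣ rename (![0, 1, 0, 1] : Fin 4 → Fin 2) (Fm a) → Fm a ∈ I :=
      fun a h => (hI _).2 ⟨Fm_hom1 a, Fm_hom2 a, h⟩
    have hl0 : rename (![0, 1, 0, 1] : Fin 4 → Fin 2) l = 0 := by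
      subst hl; simp [mul_comm]
    have hc0 : rename (![0, 1, 0, 1] : Fin 4 → Fin 2) c = (X 0 * X 1 * (X 0 - X 1)) ^ 2 := by
      subst hc; simp; ring
    intro n
    fin_cases n <;> refine key _ ?_
    · show _ ∣ rename _ (Fm V0); rw [← eF0]; simp [hl0, hc0]
    · show _ ∣ rename _ (Fm V1); rw [← eF1]; simp [hl0, hc0]
    · show _ ∣ rename _ (Fm V2); rw [← eF2]; simp [hl0, hc0]
    · show _ ∣ rename _ (Fm V3); rw [← eF3]; simp [hl0, hc0]
    · show _ ∣ rename _ (Fm V4); rw [← eF4]; simp [hl0, hc0]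
    · show _ ∣ rename _ (Fm V5); rw [← eF5]; simp [hl0, hc0]
    · show _ ∣ rename _ (Fm V6); rw [← eF6]; simp [hl0, hc0]
    · show _ ∣ rename _ (Fm V7); rw [← eF7]; simp [hl0, hc0]
    · show _ ∣ rename _ (Fm V8); rw [← eF8]; simp [hl0, hc0]
    · show _ ∣ rename _ (Fm V9); rw [← eF9]; simp [hl0, hc0]
  refine ⟨fun f => ⟨?_, ?_⟩, fun f => ⟨?_, ?_⟩, ?_⟩
  · rintro ⟨hf, hsym⟩
    obtain ⟨w1, w2, hd⟩ := (hI f).1 hf
    obtain ⟨a, rfl⟩ : ∃ a, f = Fm a := ⟨_, eq_Fm f w1 w2⟩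
    rw [rename_Fm] at hsym
    have hs : ∀ i j, a j i = a i j := fun i j => by
      simpa [coeff_Fm] using congrArg (coeff (mon i j)) hsym
    obtain ⟨r0, r1, r2, r3, ha⟩ := sym_span a hd hs
    rw [ha, map_add, map_add, map_add, map_smul, map_smul, map_smul, map_smul, ← eF0, ← eF1, ← eF2, ← eF3]
    refine add_mem (add_mem (add_mem ?_ ?_) ?_) ?_ <;>
      exact Submodule.smul_mem _ _ (Submodule.subset_span (by simp))
  · intro hf
    have : f ∈ I ⊓ LinearMap.ker ((rename (![2, 3, 0, 1] : Fin 4 → Fin 4)).toLinearMap - LinearMap.id) := by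
      refine (Submodule.span_le.2 ?_) hf
      rintro x (rfl | rfl | rfl | rfl) <;> refine ⟨?_, ?_⟩
      · rw [eF0]; exact hdiv 0
      · subst hl hh1 hh2 hh3 hh hh13 hh23 hc; simp; ring
      · rw [eF1]; exact hdiv 1
      · subst hl hh1 hh2 hh3 hh hh13 hh23 hc; simp; ring
      · rw [eF2]; exact hdiv 2
      · subst hl hh1 hh2 hh3 hh hh13 hh23 hc; simp; ring
      · rw [eF3]; exact hdiv 3
      · subst hl hh1 hh2 hh3 hh hh13 hh23 hc; simp; ring
    exact ⟨this.1, by simpa [sub_eq_zero] using this.2⟩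
  · rintro ⟨hf, hsym⟩
    obtain ⟨w1, w2, hd⟩ := (hI f).1 hf
    obtain ⟨a, rfl⟩ : ∃ a, f = Fm a := ⟨_, eq_Fm f w1 w2⟩
    rw [rename_Fm, ← map_neg] at hsym
    have hs : ∀ i j, a j i = -a i j := fun i j => by
      simpa [coeff_Fm] using congrArg (coeff (mon i j)) hsym
    obtain ⟨r0, r1, r2, r3, r4, r5, ha⟩ := anti_span a hd hs
    rw [ha, map_add, map_add, map_add, map_add, map_add, map_smul, map_smul, map_smul, map_smul, map_smul,
      map_smul, ← eF4, ← eF5, ← eF6, ← eF7, ← eF8, ← eF9]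
    refine add_mem (add_mem (add_mem (add_mem (add_mem ?_ ?_) ?_) ?_) ?_) ?_ <;>
      exact Submodule.smul_mem _ _ (Submodule.subset_span (by simp))
  · intro hf
    have : f ∈ I ⊓ LinearMap.ker ((rename (![2, 3, 0, 1] : Fin 4 → Fin 4)).toLinearMap + LinearMap.id) := by
      refine (Submodule.span_le.2 ?_) hf
      rintro x (rfl | rfl | rfl | rfl | rfl | rfl) <;> refine ⟨?_, ?_⟩
      · rw [eF4]; exact hdiv 4
      · subst hl hh1 hh2 hh3 hh hh13 hh23 hc; simp; ring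
      · rw [eF5]; exact hdiv 5
      · subst hl hh1 hh2 hh3 hh hh13 hh23 hc; simp; ring
      · rw [eF6]; exact hdiv 6
      · subst hl hh1 hh2 hh3 hh hh13 hh23 hc; simp; ring
      · rw [eF7]; exact hdiv 7
      · subst hl hh1 hh2 hh3 hh hh13 hh23 hc; simp; ring
      · rw [eF8]; exact hdiv 8
      · subst hl hh1 hh2 hh3 hh hh13 hh23 hc; simp; ring
      · rw [eF9]; exact hdiv 9
      · subst hl hh1 hh2 hh3 hh hh13 hh23 hc; simp; ring
    exact ⟨this.1, by simpa [add_eq_zero_iff_eq_neg] using this.2⟩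
  · rw [eF0, eF1, eF2, eF3, eF4, eF5, eF6, eF7, eF8, eF9]
    have := indep (k := k)
    convert this using 1
    funext n
    fin_cases n <;> rfl

end

end Groth.Agent.S16153
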