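import Groth.Statements.S16154
import Groth.Agent.Lib.ProjCI.TopTwist
import Groth.Agent.Lib.ProjCI.Ident
import Groth.Agent.Lib.ProjSpace.SmoothDimLE
import Groth.Agent.Lib.ProjKoszul.Regularity
import Groth.Agent.Lib.Exchange.Thick.GG
import Groth.Agent.Lib.Snapper.Chi
-- import your own Groth.Agent.* helpers here

set_option autoImplicit false
universe u
open CategoryTheory CategoryTheory.Limits AlgebraicGeometry
open WGauss

open Groth.Agent.Lib Groth.Agent.Lib.Curves.LES Groth.Agent.Lib.TensorMod.Basic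

namespace Groth.Agent.S16154

/-- `∐ O(e) ↠ O(e + 1)`. -/
theorem exists_epi_step (n : ℕ) (k : Type u) [Field k] (e : ℤ) :
    ∃ (c : ℕ) (p : ProjCoh.Coherent.sumTS n k c e ⟶ Twist.twistProjSpace n k (e + 1)), Epi p := by
  let O := Coh.structureModule (CohB1.ProjSpace n k)
  have hO : Coh.IsCoh O := CohBasics.Closure.isCoh_of_iso (ProjCoh.Coherent.twZero (n := n) (R := k)) (ProjCoh.Coherent.isCoh_tw 0)
  have hreg : ProjKoszul.Regularity.Reg O 0 := fun i hi => by
    haveI : Subsingleton (Coh.HH (CohB1.ProjSpace n k) (ProjCoh.Sections.TS n k (0 - (i : ℤ))) i) := by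
      rcases le_or_gt i n with h | h
      · exact ProjCoh.Twist.subsingleton_HH_of_neg_le n k (by omega) (by omega)
      · exact ProjCoh.Twist.subsingleton_HH_of_ne n k _ (by omega) (by omega)
    exact (isoK k (leftUnit (Twist.twistProjSpace n k (0 - (i : ℤ))) ≪≫ ProjCoh.Coherent.twIso (n := n) (R := k) _) i).injective.subsingleton
  have hg := ProjKoszul.Regularity.isGloballyGenerated_of_le hO hreg (d := 1) (by omega)
  let e1 : CohB1.tensorMod O (Twist.twistProjSpace n k 1) ≅ Twist.twistProjSpace n k 1 := leftUnit _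
  obtain ⟨c, p, hp⟩ := ProjCoh.Gen.exists_epi_freeMod
    (CohBasics.Closure.isCoh_of_iso e1.symm (ProjCoh.Coherent.isCoh_tw 1))
    (fun x => Groth.Agent.H34.GlobGen.gl_eq_top_of_gg hg x)
  haveI := hp
  haveI : Epi ((tensorBy (Twist.twistProjSpace n k e)).map p) := Functor.map_epi _ p
  obtain ⟨i⟩ := ProjCoh.Coherent.nonempty_freeMod_tensor (n := n) (R := k) c e
  exact ⟨c, i.inv ≫ (tensorBy (Twist.twistProjSpace n k e)).map p ≫
    (tensorIso e1 (Iso.refl _) ≪≫ ProjCoh.Coherent.twTensor 1 e ≪≫ eqToIso (congrArg (Twist.twistProjSpace n k) (add_comm 1 e))).hom,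
    @epi_comp _ _ _ _ _ _ inferInstance _ (@epi_comp _ _ _ _ _ _ ‹_› _ (@IsIso.epi_of_iso _ _ _ _ _ (Iso.isIso_hom _)))⟩

/-- On a closed subscheme of dimension `≤ 1`, vanishing of `H¹(O(e))` propagates upwards. -/
theorem step (n : ℕ) (k : Type u) [Field k] {X : Scheme.{u}} [X.Over (Spec (CommRingCat.of k))]
    [IsNoetherian X] (ι : X ⟶ CohB1.ProjSpace n k) (hd : topologicalKrullDim X ≤ 1) (e : ℤ)
    (h : Subsingleton (Coh.HH X ((Scheme.Modules.pullback ι).obj (Twist.twistProjSpace n k e)) 1)) :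
    Subsingleton (Coh.HH X ((Scheme.Modules.pullback ι).obj (Twist.twistProjSpace n k (e + 1))) 1) := by
  obtain ⟨c, p, hp⟩ := exists_epi_step n k e
  haveI := hp
  let F := Scheme.Modules.pullback ι
  haveI : Epi (F.map p) := Functor.map_epi _ p
  let S := ShortComplex.mk (kernel.ι (F.map p)) (F.map p) (kernel.condition _)
  have hS : S.ShortExact := { exact := ShortComplex.exact_of_f_is_kernel _ (kernelIsKernel _), epi_g := ‹_› }
  have h2 : Subsingleton (Coh.HH X S.X₁ 2) := Snapper.Chi.subsingleton_HH_of_lt hd _ (by omega)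
  have hX2 : Subsingleton (Coh.HH X S.X₂ 1) := by
    let i : S.X₂ ≅ ∐ fun _ : Fin c => F.obj (Twist.twistProjSpace n k e) :=
      PreservesCoproduct.iso F (fun _ : Fin c => ProjCoh.Sections.TS n k e) ≪≫
        Sigma.mapIso fun _ => F.mapIso (ProjCoh.Coherent.twIso (n := n) (R := k) e).symm
    obtain ⟨f, hf⟩ := ProjCoh.Coherent.sigma_surj k (F.obj (Twist.twistProjSpace n k e)) c 1
    haveI := hf.subsingleton
    exact (isoK k i 1).injective.subsingleton
  refine subsingleton_of_forall_eq 0 fun x => ?_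
  obtain ⟨y, rfl⟩ := ((exactK₃ k hS 1 2 rfl) x).1 (@Subsingleton.elim _ h2 _ _)
  rw [@Subsingleton.elim _ hX2 y 0, map_zero]

/-- Let k be a field and X in projective n-space over k the common zero scheme of m forms G_j of degrees
d_1 >= d_2 >= ... >= d_m >= 2 (m >= 1), smooth over k of relative dimension kk >= 1 with kk + m = n,
so that X is a smooth complete intersection of dimension kk whose twisted conormal bundle N_X^*(t)
is the direct sum of the O_X(t - d_j). Then, for an integer t, H^1(X, O_X(t - d_j)) = 0 for every j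
(that is, H^1(X, N_X^*(t)) = 0) if and only if either kk >= 2, or kk = 1 and t > 2 d_1 + d_2 + ... +
d_m - n - 1. Here O_X(c) is the pullback of O(c) from projective space along the inclusion of X.
(The source works over the complex numbers with X smooth projective; the statement is given over any
field.) -/
theorem result
    (k : Type u) [Field k] (n kk m : ℕ) (hkk : 1 ≤ kk) (hm : 1 ≤ m) (hn : kk + m = n)
    (d : Fin m → ℕ) (hd2 : ∀ j, 2 ≤ d j) (hanti : Antitone d)
    (G : ∀ j : Fin m, LefPen.Form n k (d j))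
    [SmoothOfRelativeDimension kk ((LefPen.ciIdeal G).subschemeι ≫ CohB1.ProjSpace.toSpec n k)]
    (t : ℤ) :
    (∀ j : Fin m, Subsingleton (Coh.HH (LefPen.ciIdeal G).subscheme
        ((Scheme.Modules.pullback (LefPen.ciIdeal G).subschemeι).obj
          (Twist.twistProjSpace n k (t - (d j : ℤ)))) 1)) ↔
      (2 ≤ kk ∨ (kk = 1 ∧ ((d ⟨0, hm⟩ : ℤ) + ∑ j : Fin m, (d j : ℤ)) - (n : ℤ) - 1 < t)) := by
  classical
  subst hn
  let ι := (LefPen.ciIdeal G).subschemeι
  let X := (LefPen.ciIdeal G).subscheme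
  have hd : topologicalKrullDim X ≤ ((kk + m - m : ℕ) : WithBot ℕ∞) := by
    rw [Nat.add_sub_cancel]
    exact ProjSpace.SmoothDimLE.topologicalKrullDim_le k (ι ≫ CohB1.ProjSpace.toSpec (kk + m) k) kk
  have ha : ∀ j, 1 ≤ d j := fun j => (hd2 j).trans' one_le_two
  have hreg := ProjCI.Cone.reg_of_dim (G := G) ha (by omega) hd
  haveI : IsLocallyNoetherian X := LocallyOfFiniteType.isLocallyNoetherian ι
  haveI : CompactSpace X := QuasiCompact.compactSpace_of_compactSpace ι
  haveI : IsNoetherian X := ⟨⟩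
  letI : X.Over (Spec (CommRingCat.of k)) := ⟨ι ≫ CohB1.ProjSpace.toSpec (kk + m) k⟩
  let O : ℤ → X.Modules := fun c => (Scheme.Modules.pullback ι).obj (Twist.twistProjSpace (kk + m) k c)
  have hiff : ∀ c, Subsingleton (Coh.HH X (O c) 1) ↔ Subsingleton (Coh.HH (CohB1.ProjSpace (kk + m) k)
      (ProjCI.Tilde.T (ProjCI.Cone.full G) 0 c) 1) := fun c => by
    haveI : (O c).IsQuasicoherent := (Cyc.FP.Stalk.isCoh_pullback ι (ProjCoh.Coherent.isCoh_tw c)).1
    obtain ⟨e, -⟩ := ProjCI.Ident.exists_iso hreg c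
    exact (ZarCoh.Morph.affineEquiv ι (O c) 1).symm.toEquiv.subsingleton_congr.trans
      (isoK k e 1).toEquiv.subsingleton_congr
  constructor
  · intro h
    rcases Nat.lt_or_ge kk 2 with hk | hk
    swap
    · exact Or.inl hk
    obtain rfl : kk = 1 := by omega
    refine Or.inr ⟨rfl, ?_⟩
    by_contra hlt
    have hup : ∀ q : ℕ, Subsingleton (Coh.HH X (O (t - d ⟨0, hm⟩ + q)) 1) := by
      intro q
      induction q with
      | zero => rw [Nat.cast_zero, add_zero]; exact h ⟨0, hm⟩
      | succ q ih =>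
        rw [Nat.cast_succ, ← add_assoc]
        exact step (1 + m) k ι (hd.trans (by simp)) _ ih
    obtain ⟨q, hq⟩ := Int.eq_ofNat_of_zero_le (a := (∑ j, (d j : ℤ)) - ((1 + m : ℕ) + 1 : ℤ) - (t - d ⟨0, hm⟩)) (by omega)
    have h1 := (hiff _).1 (hup q)
    rw [← hq, add_sub_cancel] at h1
    haveI := ProjCI.TopTwist.nontrivial_full_top hreg ha (by omega)
    rw [show (1 + m) - m = 1 by omega] at this
    exact not_subsingleton _ h1
  · intro h j
    refine (hiff _).2 ?_
    rcases Nat.lt_or_ge kk 2 with hk | hk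
    · obtain ⟨rfl, ht⟩ := h.resolve_left (by omega)
      have hj : d j ≤ d ⟨0, hm⟩ := hanti (Nat.zero_le _)
      have := ProjCI.TopTwist.subsingleton_full_top hreg ha (by omega) (t - d j) (by omega)
      rwa [show (1 + m) - m = 1 by omega] at this
    · exact ProjCI.Cohom.subsingleton_full hreg _ 1 one_pos (by omega)

end Groth.Agent.S16154
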