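import Groth.Statements.S16156
import Mathlib.Tactic.Linarith
import Mathlib.Algebra.Order.Ring.Int
import Mathlib.Tactic.Ring
import Mathlib.Tactic.Positivity
import Mathlib.Tactic.Push
-- import your own Groth.Agent.* helpers here

set_option autoImplicit false
universe u
open MukaiVec

namespace Groth.Agent.S16156

/-- Let N be an abelian group with a symmetric integer-valued bilinear form and H an element with H·H =
2n for some n > 0 such that every x with x·H = 0 satisfies x·x ≤ 0 (the Hodge index inequality). Fix
integers r ≥ 2, d > 0 and χ < 0 (a Mukai vector v = (r, dH, χ)) and an isotropic Mukai vector u =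
(p, η, q), p ≥ 0, η ∈ N, η·η = 2pq, whose pairing ⟨v, u⟩ = d(H·η) − rq − χp has absolute value 1 or
2. Exclude the case d = 1, χ = −1, H·η = 1, η·η = 0, and when r = 2 also the case p = 0, H·η = 0.
Then the pairings of u∨ = (p, −η, q) with w₀ = (0, rH, −2nd) and with w₁ = (2nd, −χH, 0) are both
non-negative or both negative: 2ndp − r(H·η) ≥ 0 holds if and only if χ(H·η) − 2ndq ≥ 0 holds. -/
theorem result
    (N : Type u) [AddCommGroup N] (B : LinearMap.BilinForm ℤ N) (hB : ∀ x y : N, B x y = B y x)
    (H : N) (n : ℤ) (hn : 0 < n) (hH : B H H = 2 * n) (hodge : ∀ x : N, B x H = 0 → B x x ≤ 0)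
    (r d χ p q : ℤ) (η : N) (hr : 2 ≤ r) (hd : 0 < d) (hχ : χ < 0) (hp : 0 ≤ p)
    (hiso : B η η = 2 * p * q)
    (hvu : 1 ≤ |d * B H η - r * q - χ * p| ∧ |d * B H η - r * q - χ * p| ≤ 2)
    (hexc : ¬ (d = 1 ∧ χ = -1 ∧ B H η = 1 ∧ B η η = 0))
    (hr2 : r = 2 → ¬ (p = 0 ∧ B H η = 0)) :
    (0 ≤ 2 * n * d * p - r * B H η ↔ 0 ≤ χ * B H η - 2 * n * d * q) := by
  have key : ∀ h : ℤ, h = B H η → (4 * (n * (p * q)) ≤ h ^ 2) := by
    intro h hh
    have hx := hodge ((2 * n) • η - h • H) (by
      simp only [map_sub, map_smul, LinearMap.sub_apply, LinearMap.smul_apply, smul_eq_mul, hH, hB η H, ← hh]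
      ring)
    simp only [map_sub, map_smul, LinearMap.sub_apply, LinearMap.smul_apply, smul_eq_mul, hH, hiso, hB η H, ← hh] at hx
    by_contra hlt
    push Not at hlt
    nlinarith
  obtain ⟨h, hh⟩ : ∃ h, h = B H η := ⟨_, rfl⟩
  have hk := key h hh
  rw [← hh] at hvu hexc hr2 ⊢
  obtain ⟨hm1, hm2⟩ := hvu
  obtain ⟨hlo, hhi⟩ := abs_le.1 hm2
  have hm0 : d * h - r * q - χ * p ≠ 0 := fun hz => by rw [hz, abs_zero] at hm1; omega
  have hD : 0 < 2 * n * d := by positivity
  rcases lt_trichotomy h 0 with hneg | hzero | hpos
  · -- negative degree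
    have hA : 0 ≤ 2 * n * d * p - r * h := by nlinarith
    simp only [hA, true_iff]
    rcases le_or_gt q 0 with hq | hq
    · nlinarith
    · by_contra hB'
      push Not at hB'
      have hdh : d * h ≤ -1 := by nlinarith
      rcases eq_or_lt_of_le hp with hp0 | hp0
      · subst hp0
        nlinarith
      · have h4 : 2 * p * (-χ) < d * (-h) := by
          by_contra hc
          push Not at hc
          have h5 : 2 * n * d * q * (-h) ≤ (-χ) * (4 * (n * (p * q))) := by
            calc 2 * n * d * q * (-h) = 2 * n * q * (d * (-h)) := by ring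
              _ ≤ 2 * n * q * (2 * p * (-χ)) := mul_le_mul_of_nonneg_left hc (by positivity)
              _ = _ := by ring
          have h6 : (-χ) * (4 * (n * (p * q))) ≤ (-χ) * h ^ 2 := mul_le_mul_of_nonneg_left hk (by omega)
          have h7 : (χ * h) * (-h) < 2 * n * d * q * (-h) := mul_lt_mul_of_pos_right (by linarith) (by omega)
          nlinarith
        nlinarith
  · -- degree zero
    subst hzero
    rcases eq_or_lt_of_le hp with hp0 | hp0
    · subst hp0
      exfalso
      simp only [mul_zero, zero_sub, sub_zero] at hlo hhi hm0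
      have hq : q ≠ 0 := fun hq => hm0 (by simp [hq])
      have : r = 2 := by
        rcases lt_or_gt_of_ne hq with hq | hq <;> nlinarith
      exact hr2 this ⟨rfl, rfl⟩
    · have hq : q ≤ 0 := by
        by_contra hq
        have : 0 < 4 * (n * (p * q)) := by push Not at hq; positivity
        nlinarith
      constructor <;> intro <;> nlinarith
  · -- positive degree
    have hA : ¬ (0 ≤ 2 * n * d * p - r * h) ∧ ¬ (0 ≤ χ * h - 2 * n * d * q) := by
      rcases lt_trichotomy q 0 with hq | hq | hq
      · exfalso; nlinarith
      · subst hq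
        rcases eq_or_lt_of_le hp with hp0 | hp0
        · subst hp0; exact ⟨by nlinarith, by nlinarith⟩
        · exfalso
          have e1 : 1 ≤ d * h := by nlinarith
          have e2 : 1 ≤ (-χ) * p := by nlinarith
          have hdh : d * h = 1 := by linarith
          have hxp : (-χ) * p = 1 := by linarith
          refine hexc ⟨?_, ?_, ?_, by simpa using hiso⟩
          · nlinarith
          · nlinarith
          · nlinarith
      · refine ⟨fun hA => ?_, by nlinarith⟩
        rcases eq_or_lt_of_le hp with hp0 | hp0
        · subst hp0; nlinarith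
        · have h1 : 2 * r * q ≤ d * h := by
            by_contra hc
            push Not at hc
            have h5 : 2 * n * d * p * h < r * (4 * (n * (p * q))) := by
              calc 2 * n * d * p * h = 2 * n * p * (d * h) := by ring
                _ < 2 * n * p * (2 * r * q) := mul_lt_mul_of_pos_left hc (by positivity)
                _ = _ := by ring
            have h6 : r * (4 * (n * (p * q))) ≤ r * h ^ 2 := mul_le_mul_of_nonneg_left hk (by omega)
            have h7 : r * h * h ≤ 2 * n * d * p * h := mul_le_mul_of_nonneg_right (by linarith) hpos.le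
            nlinarith
          nlinarith
    exact iff_of_false hA.1 hA.2

end Groth.Agent.S16156
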