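import Groth.Statements.S16157
import Groth.Agent.H21.FMTrans.Sections
import Groth.Agent.Lib.ExchangeFP29.LocusD
import Groth.Agent.Lib.ExchangeFP29.FieldPoint
import Groth.Agent.Lib.IntTheory.BaseChange
import Groth.Agent.Lib.ZarCoh.FP
import Groth.Agent.Lib.TensorMod.FPConv
-- import your own Groth.Agent.* helpers here

set_option autoImplicit false
universe u
open CategoryTheory CategoryTheory.Limits MonoidalCategory CartesianMonoidalCategory MonObj GrpObj AlgebraicGeometry
attribute [local instance] HasDerivedCategory.standard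
open AbVar

namespace Groth.Agent.S16157

noncomputable section

open Groth.Agent.Lib Groth.Agent.Lib.DerivedOX Groth.Agent.H3

attribute [local instance] Groth.Agent.Lib.DerivedOX.LeftExists.hasLpull Groth.Agent.Lib.DerivedOX.LeftExists.hasLTensorMod
  Groth.Agent.Lib.DerivedOX.Exists.hasRpush

noncomputable local instance lawInst (Y : Scheme.{u}) : PicGrp.Law Y :=
  Groth.Agent.Lib.TensorMod.Invertible.law Y

/-- Derived pullback of a locally free module placed in one degree. -/
theorem lpull_shift {X Y : Scheme.{u}} (f : X ⟶ Y) [DCoh.HasLpull f] {G : Y.Modules}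
    (hG : FlatMod.IsFinLocFree G) (i : ℤ) :
    Nonempty ((DCoh.Lpull f).obj ((DCoh.inD Y G)⟦i⟧) ≅ (DCoh.inD X ((Scheme.Modules.pullback f).obj G))⟦i⟧) := by
  have hc := PullTranspose.isIso_counitCx f (GammaAcyclic.isKFlat_single (TensorMod.FPConv.isFlat_of_isFinLocFree hG) 0)
  exact ⟨((DCoh.Lpull f).commShiftIso i).app _ ≪≫ (shiftFunctor _ i).mapIso
    ((DCoh.Lpull f).mapIso ((DerivedCategory.singleFunctorIsoCompQ Y.Modules 0).app G) ≪≫
      @asIso _ _ _ _ _ hc ≪≫
      DerivedCategory.Q.mapIso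
        ((HomologicalComplex.singleMapHomologicalComplex (Scheme.Modules.pullback f) (ComplexShape.up ℤ) 0).app G) ≪≫
      ((DerivedCategory.singleFunctorIsoCompQ X.Modules 0).app _).symm)⟩

theorem key (k : Type u) [Field k]
    (A At : Over (Spec (CommRingCat.of k))) [GrpObj A] [IsProper A.hom] [Smooth A.hom] [GeometricallyConnected A.hom]
    [GrpObj At] [IsProper At.hom] [Smooth At.hom] [GeometricallyConnected At.hom]
    (φ : ∀ T : Over (Spec (CommRingCat.of k)), PicF.Cl (PicF.XT A.hom T) → (T ⟶ At))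
    (hφ : AbDual.IsDualAV Scheme.fppfPrecoverage A At φ)
    (P : (pullback A.hom At.hom).Modules) (hP : PicF.IsInvertible P)
    (hPξ : AbDual.IsPoincareCl A At φ (PicF.cl P))
    [DCoh.HasLpull (pullback.fst A.hom At.hom)] [DCoh.HasLTensorMod P] [DCoh.HasRpush (pullback.snd A.hom At.hom)]
    (F : A.left.Modules) (hF : Coh.IsCoh F) (i n : ℕ)
    (hvan : ∀ j : ℤ, j ≠ (i : ℤ) →
      IsZero (DCoh.HD ((DCoh.Lpull (pullback.fst A.hom At.hom) ⋙ DCoh.LTensorMod P ⋙
        DCoh.Rpush (pullback.snd A.hom At.hom)).obj (DCoh.inD A.left F)) j))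
    (hfree : FlatMod.IsFinLocFreeOfRank n
      (DCoh.HD ((DCoh.Lpull (pullback.fst A.hom At.hom) ⋙ DCoh.LTensorMod P ⋙
        DCoh.Rpush (pullback.snd A.hom At.hom)).obj (DCoh.inD A.left F)) (i : ℤ))) :
    @Curv2.euler k _ A.left ⟨A.hom⟩ F = (-1 : ℤ) ^ i * (n : ℤ) := by
  haveI : GeometricallyIntegral A.hom := H2.Rigid.GeomIrred.geometricallyIntegral_of_smooth A.hom
  haveI : GeometricallyIntegral At.hom := H2.Rigid.GeomIrred.geometricallyIntegral_of_smooth At.hom
  haveI : IsLocallyNoetherian A.left := LocallyOfFiniteType.isLocallyNoetherian A.hom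
  haveI : F.IsQuasicoherent := hF.1
  let x : 𝟙_ (Over (Spec (CommRingCat.of k))) ⟶ At := η[At]
  let v := CartesianMonoidalCategory.lift (𝟙 A) (toUnit A ≫ x)
  let M := (Scheme.Modules.pullback v.left).obj P
  have hM : PicF.IsInvertible M := PicLoc.isInvertible_pullback _ hP
  let a : PicLoc.PicSet (A ⊗ At).left := PicGrp.cls P hP
  have ha : AbDual.IsPoincareCl A At φ a.1 := hPξ
  have hv : PicCalc.ph v a = 1 := by
    have hx : toUnit A ≫ x = (1 : A ⟶ At) := (Hom.one_def).symm
    show PicCalc.ph (lift (𝟙 A) (toUnit A ≫ x)) a = 1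
    rw [hx]
    exact H4.PicZero.poincare_one_right hφ ha (𝟙 A)
  obtain ⟨eM⟩ : Nonempty (M ≅ Coh.structureModule A.left) :=
    (PicCalc.iso_iff (PicCalc.cl_pullback v (L := P) (a := a) rfl)
      (b := (1 : PicLoc.PicSet A.left)) PicGrp.one_val.symm).2 hv
  haveI : DCoh.HasLTensorMod ((Scheme.Modules.pullback
      (CartesianMonoidalCategory.lift (𝟙 A) (toUnit A ≫ x)).left).obj P) := inferInstance
  have hFq : DCoh.IsQCohD (DCoh.inD A.left F) := fun j => by
    by_cases hj : j = 0
    · subst hj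
      exact (WayOut.Scheme.qc A.left).prop_of_iso
        ((DerivedCategory.singleFunctorCompHomologyFunctorIso A.left.Modules 0).app F).symm hF.1
    · rcases lt_or_gt_of_ne hj with h | h
      · exact RpushQCoh.qc_of_isZero (DerivedCategory.isZero_of_isGE (DCoh.inD A.left F) 0 j h)
      · exact RpushQCoh.qc_of_isZero (DerivedCategory.isZero_of_isLE (DCoh.inD A.left F) 0 j h)
  obtain ⟨eF⟩ := H21.FMTrans.fibre_iso P hP x
  let Φ := (DCoh.Lpull (pullback.fst A.hom At.hom) ⋙ DCoh.LTensorMod P ⋙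
        DCoh.Rpush (pullback.snd A.hom At.hom)).obj (DCoh.inD A.left F)
  obtain ⟨eΦ⟩ := ExchangeFP29.LocusD.nonempty_iso_shift Φ (i : ℤ) hvan
  obtain ⟨eX⟩ := lpull_shift x.left (fun y => by
    obtain ⟨U, hU, e⟩ := hfree y; exact ⟨U, n, hU, e⟩) (-(i : ℤ))
  let e : (DCoh.Rpush A.hom).obj (DCoh.inD A.left F) ≅
      (DCoh.inD _ ((Scheme.Modules.pullback x.left).obj (DCoh.HD Φ (i : ℤ))))⟦-(i : ℤ)⟧ :=
    (DCoh.Rpush A.hom).mapIso ((H21.FMTrans.ltensorIso M hM ≪≫ H21.FMTrans.tdUnit hM eM).app _).symm ≪≫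
      eF.app ⟨DCoh.inD A.left F, hFq⟩ ≪≫ (DCoh.Lpull x.left).mapIso eΦ ≪≫ eX
  have hfl : FlatMod.IsFlatOver A.hom F := by
    letI : A.left.Over (Spec (CommRingCat.of k)) := ⟨A.hom⟩
    exact IntTheory.BaseChange.isFlatOver (k := k) (X := A.left) F
  let s₀ : ↥(Spec (CommRingCat.of k)) := IsLocalRing.closedPoint k
  have hC := (ExchangeFP29.LocusD.exists_locFree_iff A.hom F (ZarCoh.FP.isFP_of_isCoh F hF) hfl (i : ℤ) n).1
    ⟨_, TensorMod.LocFree.rank_pullback x.left hfree, ⟨e⟩⟩ s₀
  letI : A.left.Over (Spec (CommRingCat.of k)) := ⟨A.hom⟩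
  have hr : ∀ p : ℕ, Module.finrank k (Coh.HH A.left F p) =
      CohIII.fiberRank A.hom F p s₀ := fun p => by
    refine (Curves.LES.isoK k ((Scheme.Modules.pullbackId A.left).app F) p).finrank_eq.symm.trans ?_
    exact ExchangeFP29.FieldPoint.finrank_HH_eq A.hom F (ZarCoh.FP.isFP_of_isCoh F hF) hfl A.hom
      (𝟙 _) (𝟙 _) (IsPullback.of_horiz_isIso ⟨(Category.id_comp _).trans (Category.comp_id _).symm⟩) p
  show ∑ᶠ j : ℕ, (-1 : ℤ) ^ j * (Module.finrank k (Coh.HH A.left F j) : ℤ) = _
  rw [finsum_eq_single _ i fun j hj => ?_]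
  · have h2 := hC.2
    rw [ExchangeFP29.LocusD.degRank, if_pos (Int.natCast_nonneg i), Int.toNat_natCast] at h2
    rw [hr, h2]
  · rw [hr, hC.1 j (by exact_mod_cast hj)]
    simp

end

/-- Let k be an algebraically closed field, A an abelian variety over k (a proper smooth k-group scheme
with geometrically connected fibres), (A^t, φ) a given dual abelian variety of A for the fppf
topology with A^t itself an abelian variety, P an invertible module on A ×_k A^t whose class is a
Poincaré class, and Φ_P = Rpr_{2,*}(Lpr_1^*(−) ⊗^L P) the Fourier–Mukai functor D(O_A) → D(O_{A^t})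
(the derived functors are assumed to exist). Let F be a coherent O_A-module satisfying the index
condition with index i: the cohomology sheaves of Φ_P(F) vanish in every degree other than i, and
the one in degree i (the transform of F) is finite locally free of rank n. Then the Euler
characteristic χ(A, F) = Σ_j (−1)^j dim_k H^j(A, F) equals (−1)^i · n. (The rank here is that of the
transform of F, which is what the last step of the published proof computes; reading it as the rank
of F itself is wrong already for an invertible sheaf of degree two on an elliptic curve, whose Euler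
characteristic is 2.) -/
theorem result (k : Type u) [Field k] [IsAlgClosed k]
    (A At : Over (Spec (CommRingCat.of k))) [GrpObj A] [IsProper A.hom] [Smooth A.hom] [GeometricallyConnected A.hom]
    [GrpObj At] [IsProper At.hom] [Smooth At.hom] [GeometricallyConnected At.hom]
    (φ : ∀ T : Over (Spec (CommRingCat.of k)), PicF.Cl (PicF.XT A.hom T) → (T ⟶ At))
    (hφ : AbDual.IsDualAV Scheme.fppfPrecoverage A At φ)
    (P : (pullback A.hom At.hom).Modules) (hP : PicF.IsInvertible P)
    (hPξ : AbDual.IsPoincareCl A At φ (PicF.cl P))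
    [DCoh.HasLpull (pullback.fst A.hom At.hom)] [DCoh.HasLTensorMod P] [DCoh.HasRpush (pullback.snd A.hom At.hom)]
    (F : A.left.Modules) (hF : Coh.IsCoh F) (i n : ℕ)
    (hvan : ∀ j : ℤ, j ≠ (i : ℤ) →
      IsZero (DCoh.HD ((DCoh.Lpull (pullback.fst A.hom At.hom) ⋙ DCoh.LTensorMod P ⋙
        DCoh.Rpush (pullback.snd A.hom At.hom)).obj (DCoh.inD A.left F)) j))
    (hfree : FlatMod.IsFinLocFreeOfRank n
      (DCoh.HD ((DCoh.Lpull (pullback.fst A.hom At.hom) ⋙ DCoh.LTensorMod P ⋙
        DCoh.Rpush (pullback.snd A.hom At.hom)).obj (DCoh.inD A.left F)) (i : ℤ))) :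
    @Curv2.euler k _ A.left ⟨A.hom⟩ F = (-1 : ℤ) ^ i * (n : ℤ) := by
  exact key k A At φ hφ P hP hPξ F hF i n hvan hfree

end Groth.Agent.S16157
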