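import Groth.Statements.S16158
import Mathlib

set_option autoImplicit false
universe u v w
open MadRed

namespace Groth.Agent.S16158

/-- Let R be a commutative Noetherian ring and M a finitely generated R-module. Then there is a natural
number n such that in every decomposition of M as an internal direct sum of a family of submodules,
at most n of the summands are nonzero (the nonzero summands are indexed by a finite set of size at
most n). -/
theorem result (R : Type u) [CommRing R] [IsNoetherianRing R]
    (M : Type v) [AddCommGroup M] [Module R M] [Module.Finite R M] :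
    ∃ n : ℕ, ∀ (ι : Type w) [DecidableEq ι] (N : ι → Submodule R M), DirectSum.IsInternal N →
      ∃ s : Finset ι, s.card ≤ n ∧ ∀ i, N i ≠ ⊥ → i ∈ s := by
  classical
  have hfin := associatedPrimes.finite R M
  let T : Ideal R → Submodule R M := fun p => Submodule.torsionBySet R M p
  refine ⟨∑ p ∈ hfin.toFinset, Module.finrank (R ⧸ p) (Submodule.torsionBySet R M p), fun ι _ N hN => ?_⟩
  suffices H : ∀ s : Finset ι, (∀ i ∈ s, N i ≠ ⊥) →
      s.card ≤ ∑ p ∈ hfin.toFinset, Module.finrank (R ⧸ p) (Submodule.torsionBySet R M p) by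
    have hJ : {i | N i ≠ ⊥}.Finite := by
      by_contra hinf
      obtain ⟨t, ht1, ht2⟩ := Set.Infinite.exists_subset_card_eq hinf
        (∑ p ∈ hfin.toFinset, Module.finrank (R ⧸ p) (Submodule.torsionBySet R M p) + 1)
      have := H t (fun i hi => ht1 hi)
      omega
    exact ⟨hJ.toFinset, H _ (fun i hi => hJ.mem_toFinset.mp hi), fun i hi => hJ.mem_toFinset.mpr hi⟩
  intro s hs
  have hsel : ∀ i ∈ s, ∃ p : Ideal R, IsAssociatedPrime p M ∧ ∃ x ∈ N i, p = Submodule.colon ⊥ {x} := by
    intro i hi
    obtain ⟨y, hy, hy0⟩ := Submodule.exists_mem_ne_zero_of_ne_bot (hs i hi)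
    obtain ⟨p, hp, -⟩ := exists_le_isAssociatedPrime_of_isNoetherianRing R (⟨y, hy⟩ : N i) (by simpa using hy0)
    refine ⟨p, hp.map_of_injective (f := (N i).subtype) Subtype.coe_injective, ?_⟩
    obtain ⟨-, x, hx⟩ := isAssociatedPrime_iff.mp hp
    refine ⟨x.1, x.2, ?_⟩
    ext r
    rw [hx, Submodule.mem_colon_singleton, Submodule.mem_colon_singleton, Submodule.mem_bot, Submodule.mem_bot,
      Subtype.ext_iff]
    rfl
  choose! pr hpr x hxN hx using hsel
  rw [Finset.card_eq_sum_card_fiberwise (f := pr) (t := hfin.toFinset)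
    (fun i hi => hfin.mem_toFinset.mpr (hpr i hi))]
  refine Finset.sum_le_sum fun p hp => ?_
  haveI : p.IsPrime := (hfin.mem_toFinset.mp hp).1
  haveI : Nontrivial (R ⧸ p) := Ideal.Quotient.nontrivial_iff.mpr this.ne_top
  haveI : Module.Finite R (Submodule.torsionBySet R M p) := inferInstance
  haveI : Module.Finite (R ⧸ p) (Submodule.torsionBySet R M p) := Module.Finite.of_restrictScalars_finite R _ _
  let t := s.filter (fun i => pr i = p)
  have hmem : ∀ i : t, x i.1 ∈ Submodule.torsionBySet R M p := by
    intro i
    obtain ⟨hi, hip⟩ := Finset.mem_filter.mp i.2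
    rw [Submodule.mem_torsionBySet_iff]
    rintro ⟨r, hr⟩
    have hr' : r ∈ pr i.1 := by rw [hip]; exact hr
    rw [hx i.1 hi, Submodule.mem_colon_singleton, Submodule.mem_bot] at hr'
    exact hr'
  have hli : LinearIndependent (R ⧸ p) (fun i : t => (⟨x i.1, hmem i⟩ : Submodule.torsionBySet R M p)) := by
    rw [Fintype.linearIndependent_iff]
    intro c hc j
    choose r hr using fun i : t => Ideal.Quotient.mk_surjective (c i)
    have h1 : ∑ i : t, r i • x i.1 = 0 := by
      have := congrArg (fun z : Submodule.torsionBySet R M p => (z : M)) hc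
      simp only [Submodule.coe_sum, Submodule.coe_zero, ← hr] at this
      exact this
    have hind := hN.submodule_iSupIndep.comp (Subtype.coe_injective : Function.Injective (fun i : t => (i : ι)))
    have h2 : r j • x j.1 = 0 :=
      (iSupIndep_iff_finset_sum_eq_zero_imp_eq_zero _).mp hind Finset.univ (fun i : t => r i • x i.1)
        (fun i _ => Submodule.smul_mem _ _ (hxN i.1 (Finset.mem_filter.mp i.2).1)) h1 j (Finset.mem_univ j)
    rw [← hr j, Ideal.Quotient.eq_zero_iff_mem, ← (Finset.mem_filter.mp j.2).2, hx j.1 (Finset.mem_filter.mp j.2).1,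
      Submodule.mem_colon_singleton, Submodule.mem_bot]
    exact h2
  simpa [t] using hli.fintype_card_le_finrank

end Groth.Agent.S16158
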