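import Groth.Statements.S16159
import Mathlib

set_option autoImplicit false
universe u v w x
open MadRed

namespace Groth.Agent.S16159

lemma components_mem {k V : Type*} [Field k] [AddCommGroup V] [Module k V] (F : Module.End k V)
    (U : Submodule k V) (hU : ∀ w ∈ U, F w ∈ U) (s : Finset k) :
    ∀ v : k → V, (∀ μ ∈ s, F (v μ) = μ • v μ) → ∑ μ ∈ s, v μ ∈ U → ∀ μ ∈ s, v μ ∈ U := by
  classical
  induction s using Finset.induction_on with
  | empty => simp
  | insert a s ha ih =>
    intro v hv hsum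
    rw [Finset.sum_insert ha] at hsum
    have h1 : ∑ μ ∈ s, (μ - a) • v μ ∈ U := by
      have h := U.sub_mem (hU _ hsum) (U.smul_mem a hsum)
      rw [map_add, map_sum, hv a (Finset.mem_insert_self a s), smul_add, add_sub_add_left_eq_sub, Finset.smul_sum,
        ← Finset.sum_sub_distrib] at h
      rw [Finset.sum_congr rfl fun μ hμ => ?_]
      · exact h
      · rw [hv μ (Finset.mem_insert_of_mem hμ), sub_smul]
    have h2 := ih (fun μ => (μ - a) • v μ) (fun μ hμ => by
      simp only [map_smul, hv μ (Finset.mem_insert_of_mem hμ), smul_comm μ (μ - a) (v μ)]) h1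
    have h3 : ∀ μ ∈ s, v μ ∈ U := fun μ hμ => by
      have hne : μ - a ≠ 0 := sub_ne_zero.mpr fun h => ha (h ▸ hμ)
      have := U.smul_mem (μ - a)⁻¹ (h2 μ hμ)
      rwa [inv_smul_smul₀ hne] at this
    intro μ hμ
    rcases Finset.mem_insert.mp hμ with rfl | hμ
    · exact (Submodule.add_mem_iff_left U (Submodule.sum_mem _ h3)).mp hsum
    · exact h3 μ hμ

/-- Let k be a field, R a commutative Noetherian k-algebra and V an R-module, viewed also as a k-vector
space through k → R. Let (f_i) be a family of pairwise commuting R-linear endomorphisms of V such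
that each f_i, as a k-linear map, is diagonalizable over k (its eigenspaces span V), and such that
every vector of V lies in a finitely generated R-submodule stable under every f_i. Then the family
is simultaneously diagonalizable over k: the common eigenspaces ⨅_i Eig(f_i, χ(i)), over all
assignments χ of eigenvalues in k, span V. The source states this for the endomorphisms given by an
abelian group acting R-linearly; the row takes any commuting family, which is what the argument
uses, and neither k algebraically closed nor of characteristic zero is needed. -/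
theorem result
    (k : Type u) [Field k] (R : Type v) [CommRing R] [Algebra k R] [IsNoetherianRing R]
    (V : Type w) [AddCommGroup V] [Module R V] [Module k V] [IsScalarTower k R V]
    (ι : Type x) (f : ι → Module.End R V)
    (hcomm : ∀ i j, Commute (f i) (f j))
    (hdiag : ∀ i, ⨆ μ : k, Module.End.eigenspace ((f i).restrictScalars k) μ = ⊤)
    (hfin : ∀ v : V, ∃ W : Submodule R V, v ∈ W ∧ W.FG ∧ ∀ i, ∀ w ∈ W, f i w ∈ W) :
    ⨆ χ : ι → k, ⨅ i, Module.End.eigenspace ((f i).restrictScalars k) (χ i) = ⊤ := by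
  classical
  let F : ι → Module.End k V := fun i => (f i).restrictScalars k
  let S : Submodule k V := ⨆ χ : ι → k, ⨅ i, Module.End.eigenspace (F i) (χ i)
  let E : ι → k → Submodule R V := fun i μ => LinearMap.ker (f i - algebraMap k R μ • 1)
  have hE : ∀ i μ v, v ∈ E i μ ↔ f i v = μ • v := fun i μ v => by
    simp [E, sub_eq_zero]
  have hEk : ∀ i μ v, v ∈ E i μ ↔ v ∈ Module.End.eigenspace (F i) μ := fun i μ v => by
    rw [hE, Module.End.mem_eigenspace_iff]; rfl
  let St : Submodule R V → Prop := fun U => ∀ i, ∀ w ∈ U, f i w ∈ U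
  have hdec : ∀ (U : Submodule R V), St U → ∀ i, ∀ u ∈ U, ∃ (s : Finset k) (v : k → V),
      (∀ ν ∈ s, v ν ∈ U ∧ v ν ∈ E i ν) ∧ u = ∑ ν ∈ s, v ν := by
    intro U hU i u hu
    obtain ⟨c, hc1, hc2⟩ := (Submodule.mem_iSup_iff_exists_finsupp _ u).mp
      (show u ∈ ⨆ μ : k, Module.End.eigenspace (F i) μ by
        simp only [F, hdiag i, Submodule.mem_top])
    refine ⟨c.support, c, fun ν hν => ⟨?_, (hEk _ _ _).mpr (hc1 ν)⟩, hc2.symm⟩
    exact components_mem (F i) (U.restrictScalars k) (hU i) c.support c (fun μ _ => Module.End.mem_eigenspace_iff.mp (hc1 μ))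
      (by change ∑ μ ∈ c.support, c μ ∈ U; rw [show ∑ μ ∈ c.support, c μ = u from hc2]; exact hu) ν hν
  refine eq_top_iff.mpr fun v _ => ?_
  obtain ⟨W, hvW, hWfg, hWst⟩ := hfin v
  suffices hW : W.restrictScalars k ≤ S from hW hvW
  by_contra hcon
  haveI : IsNoetherian R W := isNoetherian_of_fg_of_noetherian W hWfg
  let P : Submodule R V → Prop := fun C => St C ∧ ∃ U, U ≤ W ∧ St U ∧ Disjoint C U ∧ ¬ U.restrictScalars k ≤ S
  obtain ⟨C', hC', hmax⟩ := set_has_maximal_iff_noetherian.mpr ‹IsNoetherian R W› {C' | P (C'.map W.subtype)}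
    ⟨⊥, by
      change P _
      rw [Submodule.map_bot]
      exact ⟨fun i w hw => by rw [Submodule.mem_bot] at hw ⊢; simp [hw], W, le_rfl, hWst, disjoint_bot_left, hcon⟩⟩
  obtain ⟨hCst, U, hUW, hUst, hCU, hUS⟩ := hC'
  set C := C'.map W.subtype with hC
  by_cases hall : ∀ i, ∃ μ, U ≤ E i μ
  · choose χ hχ using hall
    apply hUS
    intro u hu
    refine Submodule.mem_iSup_of_mem χ ?_
    rw [Submodule.mem_iInf]
    exact fun i => (hEk _ _ _).mp (hχ i hu)
  push Not at hall
  obtain ⟨i, hi⟩ := hall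
  obtain ⟨μ, hμ⟩ : ∃ μ, ¬ (U ⊓ E i μ).restrictScalars k ≤ S := by
    by_contra h
    push Not at h
    apply hUS
    intro u hu
    obtain ⟨s, w, hw, rfl⟩ := hdec U hUst i u hu
    exact Submodule.sum_mem _ fun ν hν => h ν (Submodule.mem_inf.mpr (hw ν hν))
  let U' : Submodule R V := ⨆ (ν : k) (_ : ν ≠ μ), U ⊓ E i ν
  have hU'U : U' ≤ U := iSup₂_le fun ν _ => inf_le_left
  have hEst : ∀ ν, St (E i ν) := by
    intro ν j w hw
    rw [hE] at hw ⊢
    have e : f i (f j w) = f j (f i w) := LinearMap.congr_fun (hcomm i j).eq w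
    rw [e, hw, ← algebraMap_smul R ν w, map_smul, algebraMap_smul]
  have hst'' : ∀ ν, St (U ⊓ E i ν) := fun ν j w hw => ⟨hUst j w hw.1, hEst ν j w hw.2⟩
  have hU'st : St U' := by
    intro j
    refine fun w hw => ?_
    have : U' ≤ U'.comap (f j) := iSup₂_le fun ν hν x hx =>
      Submodule.mem_iSup_of_mem ν (Submodule.mem_iSup_of_mem hν (hst'' ν j x hx))
    exact this hw
  have hdisj : Disjoint U' (U ⊓ E i μ) := by
    rw [Submodule.disjoint_def]
    intro x hx hx'
    have hxk : x ∈ ⨆ (ν : k) (_ : ν ≠ μ), Module.End.eigenspace (F i) ν := by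
      obtain ⟨c, hc1, rfl⟩ := (Submodule.mem_iSup_iff_exists_finsupp _ x).mp hx
      refine Submodule.sum_mem _ fun ν _ => ?_
      by_cases hν : ν = μ
      · have h0 := hc1 ν
        rw [iSup_neg (not_not.mpr hν), Submodule.mem_bot] at h0
        rw [h0]
        exact zero_mem _
      · have h0 := hc1 ν
        rw [iSup_pos hν] at h0
        exact Submodule.mem_iSup_of_mem ν (Submodule.mem_iSup_of_mem hν ((hEk _ _ _).mp h0.2))
    exact Submodule.disjoint_def.mp ((Module.End.eigenspaces_iSupIndep (F i)) μ) x ((hEk _ _ _).mp hx'.2) hxk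
  have hnew : P (C ⊔ U') := by
    refine ⟨fun j w hw => ?_, U ⊓ E i μ, inf_le_left.trans hUW, hst'' μ, ?_, hμ⟩
    · obtain ⟨a, ha, b, hb, rfl⟩ := Submodule.mem_sup.mp hw
      rw [map_add]
      exact Submodule.add_mem_sup (hCst j a ha) (hU'st j b hb)
    · exact hdisj.disjoint_sup_left_of_disjoint_sup_right (hCU.mono_right (sup_le hU'U inf_le_left))
  have hCW : C ≤ W := Submodule.map_subtype_le _ _
  have hle : C' ≤ (C ⊔ U').comap W.subtype := fun x hx =>
    Submodule.mem_sup_left (Submodule.mem_map_of_mem hx)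
  have hback : ((C ⊔ U').comap W.subtype).map W.subtype = C ⊔ U' := by
    rw [Submodule.map_comap_subtype, inf_eq_right.mpr (sup_le hCW (hU'U.trans hUW))]
  refine hmax ((C ⊔ U').comap W.subtype) (by change P _; rw [hback]; exact hnew) (lt_of_le_of_ne hle fun heq => ?_)
  have h1 : C = C ⊔ U' := by rw [← hback, ← heq, hC]
  have h2 : U' = ⊥ := disjoint_self.mp (hCU.mono (le_of_le_of_eq le_sup_right h1.symm) hU'U)
  refine hi μ fun u hu => ?_
  obtain ⟨s, w, hw, rfl⟩ := hdec U hUst i u hu
  refine Submodule.sum_mem _ fun ν hν => ?_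
  by_cases hνμ : ν = μ
  · exact hνμ ▸ (hw ν hν).2
  · have : w ν ∈ U' := Submodule.mem_iSup_of_mem ν (Submodule.mem_iSup_of_mem hνμ (Submodule.mem_inf.mpr (hw ν hν)))
    rw [h2, Submodule.mem_bot] at this
    rw [this]
    exact zero_mem _

end Groth.Agent.S16159
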