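import Groth.Statements.S16160
import Mathlib
import Groth.Agent.S16159
import Groth.Agent.Lib.Comod.Basic

set_option autoImplicit false
universe u v w
open scoped TensorProduct
open MadRed

namespace Groth.Agent.S16160

variable {k : Type u} [Field k] {A : Type v} [CommRing A] [HopfAlgebra k A] {R : Type w} [CommRing R] [Algebra k R]

lemma ptAct_tmul (g : A →ₐ[k] R) (r : R) (a : A) :
    MadRed.ptAct k A R g (r ⊗ₜ[k] a) = r • MadRed.translAux k A R g a := by
  rw [MadRed.ptAct, Algebra.TensorProduct.lift_tmul, Algebra.TensorProduct.includeLeft_apply, Algebra.smul_def]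
  rfl

lemma translAux_repr (g : A →ₐ[k] R) (a : A) {ι : Type v} (q : Coalgebra.Repr k a ι) :
    MadRed.translAux k A R g a = ∑ i ∈ q.index, g (q.right i) ⊗ₜ[k] q.left i := by
  rw [MadRed.translAux, AlgHom.comp_apply, AlgHom.comp_apply, Bialgebra.comulAlgHom_apply, ← q.eq]
  simp

lemma ptAct_translAux (g h : A →ₐ[k] R) (a : A) :
    MadRed.ptAct k A R g (MadRed.translAux k A R h a) =
      MadRed.translAux k A R (WithConv.toConv g * WithConv.toConv h).ofConv a := by
  classical
  let q := Coalgebra.Repr.arbitrary k a
  let L : A ⊗[k] (A ⊗[k] A) →ₗ[k] R ⊗[k] A :=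
    (TensorProduct.comm k A R).toLinearMap ∘ₗ
      TensorProduct.map LinearMap.id (LinearMap.mul' k R ∘ₗ TensorProduct.map g.toLinearMap h.toLinearMap)
  have key := congrArg L (Coalgebra.sum_tmul_tmul_eq q
    (fun i => Coalgebra.Repr.arbitrary k (q.left i)) (fun i => Coalgebra.Repr.arbitrary k (q.right i)))
  simp only [map_sum, L, LinearMap.comp_apply, TensorProduct.map_tmul, LinearEquiv.coe_coe, TensorProduct.comm_tmul,
    LinearMap.id_apply, LinearMap.mul'_apply, AlgHom.toLinearMap_apply] at key
  rw [translAux_repr h a q, map_sum, translAux_repr _ a q]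
  simp only [ptAct_tmul, translAux_repr g _ (Coalgebra.Repr.arbitrary k (q.left _))]
  simp only [Finset.smul_sum, TensorProduct.smul_tmul', smul_eq_mul]
  simp_rw [mul_comm (h (q.right _))]
  rw [key]
  refine Finset.sum_congr rfl fun i _ => ?_
  rw [AlgHom.convMul_apply, ← (Coalgebra.Repr.arbitrary k (q.right i)).eq, ← TensorProduct.sum_tmul]
  simp

/-- Let k be a field, G = Spec A an affine k-group with A a commutative Hopf algebra over k, and R a
commutative Noetherian k-algebra, so that R ⊗ A is the coordinate ring of the base change G_R and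
the k-algebra maps A → R are its R-valued points. Let H be a set of R-valued points which pairwise
commute for the convolution product of G(R) (the case of an abelian subgroup of G(R)). If every g in
H is diagonalizable over k on R ⊗ A, meaning that the eigenspaces of right translation by g, for
eigenvalues in k, span R ⊗ A, then H is simultaneously diagonalizable over k on R ⊗ A: the common
eigenspaces of the right translations by all g in H span R ⊗ A. The standing assumptions of the
source at this point (k algebraically closed of characteristic zero, G reductive) are not used. -/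
theorem result (k : Type u) [Field k]
    (A : Type v) [CommRing A] [HopfAlgebra k A] (R : Type w) [CommRing R] [Algebra k R]
    [IsNoetherianRing R] (H : Set (A →ₐ[k] R))
    (hcomm : ∀ g ∈ H, ∀ h ∈ H,
      WithConv.toConv g * WithConv.toConv h = WithConv.toConv h * WithConv.toConv g)
    (hdiag : ∀ g ∈ H, ⨆ μ : k,
      Module.End.eigenspace (((MadRed.ptAct k A R g).toLinearMap).restrictScalars k) μ = ⊤) :
    ⨆ χ : H → k, ⨅ g : H,
      Module.End.eigenspace (((MadRed.ptAct k A R g.1).toLinearMap).restrictScalars k) (χ g) = ⊤ := by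
  classical
  have hdiag' : ∀ g : H, ⨆ μ : k, Module.End.eigenspace (((MadRed.ptAct k A R g.1).toLinearMap).restrictScalars k) μ = ⊤ :=
    fun g => hdiag g.1 g.2
  refine Groth.Agent.S16159.result k R (R ⊗[k] A) H (fun g : H => (MadRed.ptAct k A R g.1).toLinearMap)
    (fun g h => ?_) hdiag' fun v => ?_
  · have e : WithConv.toConv g.1 * WithConv.toConv h.1 = WithConv.toConv h.1 * WithConv.toConv g.1 :=
      hcomm g.1 g.2 h.1 h.2
    refine TensorProduct.AlgebraTensorModule.ext fun r a => ?_
    change MadRed.ptAct k A R g.1 (MadRed.ptAct k A R h.1 (r ⊗ₜ a)) = MadRed.ptAct k A R h.1 (MadRed.ptAct k A R g.1 (r ⊗ₜ a))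
    rw [ptAct_tmul, ptAct_tmul, map_smul, map_smul, ptAct_translAux, ptAct_translAux, e]
  · induction v using TensorProduct.induction_on with
    | zero => exact ⟨⊥, zero_mem _, Submodule.fg_bot, fun g w hw => by rw [Submodule.mem_bot] at hw ⊢; rw [hw, map_zero]⟩
    | add x y hx hy =>
      obtain ⟨W₁, h1, f1, s1⟩ := hx
      obtain ⟨W₂, h2, f2, s2⟩ := hy
      refine ⟨W₁ ⊔ W₂, Submodule.add_mem_sup h1 h2, f1.sup f2, fun g w hw => ?_⟩
      obtain ⟨p, hp, q, hq, rfl⟩ := Submodule.mem_sup.mp hw
      rw [map_add]
      exact Submodule.add_mem_sup (s1 g p hp) (s2 g q hq)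
    | tmul r a =>
      obtain ⟨s, hs⟩ := Lib.Comod.Basic.cyclic_fg (k := k) (A := A) A a
      set C := Lib.Comod.Basic.cyclic (k := k) (A := A) A a with hC
      let U : Submodule R (R ⊗[k] A) := Submodule.span R ((fun c : A => (1 : R) ⊗ₜ[k] c) '' (s : Set A))
      have hU : ∀ c ∈ C, (1 : R) ⊗ₜ[k] c ∈ U := by
        intro c hc
        have : C ≤ (U.restrictScalars k).comap (TensorProduct.mk k R A 1) := by
          rw [← hs, Submodule.span_le]
          exact fun x hx => Submodule.subset_span ⟨x, hx, rfl⟩
        exact this hc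
      have hTU : ∀ (g : A →ₐ[k] R), ∀ c ∈ C, MadRed.translAux k A R g c ∈ U := by
        intro g c hc
        obtain ⟨y, hy⟩ := Lib.Comod.Basic.isSubcomod_cyclic (k := k) (A := A) a c hc
        have e : MadRed.translAux k A R g c = Algebra.TensorProduct.map g (AlgHom.id k A)
            (Algebra.TensorProduct.comm k A A (C.subtype.rTensor A y)) := by
          rw [hy]; rfl
        rw [e]
        clear hy e
        induction y using TensorProduct.induction_on with
        | zero => simp
        | tmul c' b =>
          have e2 : g b ⊗ₜ[k] (c' : A) = g b • ((1 : R) ⊗ₜ[k] (c' : A)) := by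
            rw [TensorProduct.smul_tmul', smul_eq_mul, mul_one]
          simp only [LinearMap.rTensor_tmul, Submodule.subtype_apply, Algebra.TensorProduct.comm_tmul,
            Algebra.TensorProduct.map_tmul, AlgHom.id_apply, e2]
          exact Submodule.smul_mem _ _ (hU _ c'.2)
        | add y z hy hz => simp only [map_add]; exact add_mem hy hz
      refine ⟨U, ?_, Submodule.fg_span ((s.finite_toSet).image _), fun g w hw => ?_⟩
      · have e2 : r ⊗ₜ[k] a = r • ((1 : R) ⊗ₜ[k] a) := by rw [TensorProduct.smul_tmul', smul_eq_mul, mul_one]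
        rw [e2]
        exact Submodule.smul_mem _ _ (hU a (Lib.Comod.Basic.self_mem_cyclic A a))
      · have : U ≤ U.comap (MadRed.ptAct k A R g.1).toLinearMap := by
          rw [Submodule.span_le]
          rintro _ ⟨c, hc, rfl⟩
          change MadRed.ptAct k A R g.1 ((1 : R) ⊗ₜ[k] c) ∈ U
          rw [ptAct_tmul, one_smul]
          exact hTU g.1 c (hs ▸ Submodule.subset_span hc)
        exact this hw

end Groth.Agent.S16160
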