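import Groth.Statements.S16161
import Mathlib

set_option autoImplicit false
universe u v
open MadRed

namespace Groth.Agent.S16161

/-- Let k be an algebraically closed field of characteristic zero and R a reduced finitely generated
commutative k-algebra whose spectrum is connected (R has no idempotents besides 0 and 1); let W =
R^n be a free R-module of finite rank and g an R-linear endomorphism of W of finite order, g^m = 1
with m > 0 (an element of finite order of GL(W)(R)). Then the action of g on W is diagonalizable
over k: viewing g as a k-linear map, its eigenspaces for eigenvalues in k span W. The source also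
assumes that g is diagonalizable over k on every fibre W ⊗ k(x), x a point of Spec R; for g of
finite order this holds automatically (k is algebraically closed of characteristic zero), as the
source itself notes, so that hypothesis is omitted. -/
theorem result
    (k : Type u) [Field k] [IsAlgClosed k] [CharZero k]
    (R : Type v) [CommRing R] [Algebra k R] [IsReduced R] [Algebra.FiniteType k R]
    (hconn : ∀ e : R, IsIdempotentElem e → e = 0 ∨ e = 1)
    (n : ℕ) (g : Module.End R (Fin n → R)) (m : ℕ) (hm : 0 < m) (hg : g ^ m = 1) :
    ⨆ μ : k, Module.End.eigenspace (g.restrictScalars k) μ = ⊤ := by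
  classical
  have : NeZero (m : k) := ⟨Nat.cast_ne_zero.mpr hm.ne'⟩
  have : NeZero m := ⟨hm.ne'⟩
  obtain ⟨ζ, hζ⟩ := HasEnoughRootsOfUnity.exists_primitiveRoot k m
  let G : Module.End k (Fin n → R) := g.restrictScalars k
  have hG : G ^ m = 1 := by
    refine LinearMap.ext fun w => ?_
    have : (G ^ m) w = (g ^ m) w := by
      rw [Module.End.pow_apply, Module.End.pow_apply]; rfl
    rw [this, hg]; rfl
  have key : ∀ s : Finset k, LinearMap.ker (Polynomial.aeval G (∏ μ ∈ s, (Polynomial.X - Polynomial.C μ))) ≤
      ⨆ μ : k, Module.End.eigenspace G μ := by
    intro s
    induction s using Finset.induction_on with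
    | empty => simp [Module.End.one_eq_id]
    | insert a s ha ih =>
      rw [Finset.prod_insert ha, ← Polynomial.sup_ker_aeval_eq_ker_aeval_mul_of_coprime]
      · refine sup_le (le_trans ?_ (le_iSup _ a)) ih
        intro w hw
        rw [Module.End.mem_eigenspace_iff]
        simp [sub_eq_zero] at hw
        exact hw
      · refine IsCoprime.prod_right fun b hb => Polynomial.isCoprime_X_sub_C_of_isUnit_sub ?_
        exact isUnit_iff_ne_zero.mpr (sub_ne_zero.mpr fun h => ha (h ▸ hb))
  refine eq_top_iff.mpr (le_trans ?_ (key (Polynomial.nthRootsFinset m 1)))
  rw [← Polynomial.X_pow_sub_one_eq_prod hm hζ]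
  intro w _
  simp [hG]

end Groth.Agent.S16161
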