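import Groth.Statements.S16164
import Mathlib.Data.Matrix.ColumnRowPartitioned
import Mathlib.Tactic.Linarith

set_option autoImplicit false
open Neron

namespace Groth.Agent.S16164
open Matrix in
theorem side {ι κ₁ κ₂ : Type} [Fintype ι] [Fintype κ₁] [Fintype κ₂]
    (P : Matrix κ₁ ι ℤ) (Q : Matrix κ₂ ι ℤ) (hP : Function.Surjective P.mulVec)
    (Ψ₁ : Matrix κ₁ κ₁ ℤ) (Ψ₂ : Matrix κ₂ κ₂ ℤ) (hΨ₁ : Ψ₁.IsSymm)
    (hΨ₁pos : ∀ y : κ₁ → ℤ, y ≠ 0 → 0 < y ⬝ᵥ Ψ₁.mulVec y)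
    (hΨ₂pos : ∀ y : κ₂ → ℤ, y ≠ 0 → 0 < y ⬝ᵥ Ψ₂.mulVec y)
    (hdec : ∀ y : κ₁ → ℤ, ∃ x, ∀ x',
      (y - P *ᵥ x) ⬝ᵥ Ψ₁ *ᵥ (P *ᵥ x') + (-(Q *ᵥ x)) ⬝ᵥ Ψ₂ *ᵥ (Q *ᵥ x') = 0) :
    ∀ y : κ₁ → ℤ, ∃ x, P *ᵥ x = y ∧ Q *ᵥ x = 0 := by
  suffices h : ∀ (k : ℕ) (y : κ₁ → ℤ), y ⬝ᵥ Ψ₁ *ᵥ y ≤ k → ∃ x, P *ᵥ x = y ∧ Q *ᵥ x = 0 from
    fun y ↦ h (y ⬝ᵥ Ψ₁ *ᵥ y).toNat y (Int.self_le_toNat _)
  have hnn₁ : ∀ v, 0 ≤ v ⬝ᵥ Ψ₁ *ᵥ v := fun v ↦ by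
    rcases eq_or_ne v 0 with rfl | h
    · simp
    · exact (hΨ₁pos v h).le
  have hnn₂ : ∀ v, 0 ≤ v ⬝ᵥ Ψ₂ *ᵥ v := fun v ↦ by
    rcases eq_or_ne v 0 with rfl | h
    · simp
    · exact (hΨ₂pos v h).le
  have hsym : ∀ v w, v ⬝ᵥ Ψ₁ *ᵥ w = w ⬝ᵥ Ψ₁ *ᵥ v := fun v w ↦ by
    rw [dotProduct_mulVec, ← mulVec_transpose, hΨ₁.eq, dotProduct_comm]
  intro k
  induction k using Nat.strong_induction_on with
  | _ k ih =>
    intro y hy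
    rcases eq_or_ne y 0 with rfl | hy0
    · exact ⟨0, by simp, by simp⟩
    obtain ⟨x, hx⟩ := hdec y
    set l := P *ᵥ x
    set z := y - l with hz
    have hxx := hx x
    rw [neg_dotProduct] at hxx
    have hyy : y ⬝ᵥ Ψ₁ *ᵥ y = l ⬝ᵥ Ψ₁ *ᵥ l + z ⬝ᵥ Ψ₁ *ᵥ z + 2 * (z ⬝ᵥ Ψ₁ *ᵥ l) := by
      have e : y = l + z := by simp [hz]
      rw [e, mulVec_add, dotProduct_add, add_dotProduct, add_dotProduct, hsym l z]
      ring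
    by_cases hq : Q *ᵥ x = 0
    · by_cases hz0 : z = 0
      · exact ⟨x, (sub_eq_zero.mp (hz ▸ hz0)).symm, hq⟩
      by_cases hl0 : l = 0
      · obtain ⟨x', hx'⟩ := hP y
        have := hx x'
        rw [hq, neg_zero, zero_dotProduct, add_zero, show z = y by simp [hz, hl0], show P *ᵥ x' = y from hx'] at this
        exact absurd this (hΨ₁pos y hy0).ne'
      have h1 := hΨ₁pos z hz0
      have h2 := hΨ₁pos l hl0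
      rw [hq, zero_dotProduct, neg_zero, add_zero] at hxx
      have hlk : (l ⬝ᵥ Ψ₁ *ᵥ l) < k := by linarith
      have hzk : (z ⬝ᵥ Ψ₁ *ᵥ z) < k := by linarith
      obtain ⟨a, ha, ha'⟩ := ih (l ⬝ᵥ Ψ₁ *ᵥ l).toNat (by omega) l (Int.self_le_toNat _)
      obtain ⟨b, hb, hb'⟩ := ih (z ⬝ᵥ Ψ₁ *ᵥ z).toNat (by omega) z (Int.self_le_toNat _)
      exact ⟨a + b, by rw [mulVec_add, ha, hb]; simp [hz], by rw [mulVec_add, ha', hb', add_zero]⟩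
    · have h1 := hΨ₂pos _ hq
      have h2 := hnn₁ z
      have h3 := hnn₁ l
      have hlk : (l ⬝ᵥ Ψ₁ *ᵥ l) < k := by linarith
      have hzk : (z ⬝ᵥ Ψ₁ *ᵥ z) < k := by linarith
      obtain ⟨a, ha, ha'⟩ := ih (l ⬝ᵥ Ψ₁ *ᵥ l).toNat (by omega) l (Int.self_le_toNat _)
      obtain ⟨b, hb, hb'⟩ := ih (z ⬝ᵥ Ψ₁ *ᵥ z).toNat (by omega) z (Int.self_le_toNat _)
      exact ⟨a + b, by rw [mulVec_add, ha, hb]; simp [hz], by rw [mulVec_add, ha', hb', add_zero]⟩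


/-- Let X, Y₁, Y₂ be finitely generated free abelian groups with chosen bases, so that homomorphisms are
integer matrices acting on column vectors and each group is identified with its dual; let P : X → Y₁
and Q : X → Y₂ be surjective with A = (P over Q) : X → Y₁ ⊕ Y₂ injective, and let Ψ₁, Ψ₂ be
symmetric positive-definite integer matrices on Y₁ and Y₂, Ψ their block-diagonal sum. If the image
of Aᵀ Ψ : Y₁ ⊕ Y₂ → X coincides with the image of Aᵀ Ψ A : X → X (the reverse inclusion always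
holds), then A is bijective. (In the source X, Y₁, Y₂ are character groups of maximal tori, P and Q
specialization maps, Ψ₁ and Ψ₂ monodromy pairings, and the hypothesis expresses that two groups of
components coincide.) -/
theorem result
    {ι κ₁ κ₂ : Type} [Fintype ι] [Fintype κ₁] [Fintype κ₂]
    (P : Matrix κ₁ ι ℤ) (Q : Matrix κ₂ ι ℤ)
    (hP : Function.Surjective P.mulVec) (hQ : Function.Surjective Q.mulVec)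
    (hA : Function.Injective (Matrix.fromRows P Q).mulVec)
    (Ψ₁ : Matrix κ₁ κ₁ ℤ) (Ψ₂ : Matrix κ₂ κ₂ ℤ) (hΨ₁ : Ψ₁.IsSymm) (hΨ₂ : Ψ₂.IsSymm)
    (hΨ₁pos : ∀ y : κ₁ → ℤ, y ≠ 0 → 0 < y ⬝ᵥ Ψ₁.mulVec y)
    (hΨ₂pos : ∀ y : κ₂ → ℤ, y ≠ 0 → 0 < y ⬝ᵥ Ψ₂.mulVec y)
    (himage : LinearMap.range ((Matrix.fromRows P Q).transpose * Matrix.fromBlocks Ψ₁ 0 0 Ψ₂).mulVecLin =
      LinearMap.range ((Matrix.fromRows P Q).transpose * Matrix.fromBlocks Ψ₁ 0 0 Ψ₂ * Matrix.fromRows P Q).mulVecLin) :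
    Function.Bijective (Matrix.fromRows P Q).mulVec := by
  classical
  refine ⟨hA, fun v ↦ ?_⟩
  obtain ⟨y₁, y₂, rfl⟩ : ∃ y₁ y₂, Sum.elim y₁ y₂ = v :=
    ⟨v ∘ Sum.inl, v ∘ Sum.inr, Sum.elim_comp_inl_inr v⟩
  have hdec : ∀ (y₁ : κ₁ → ℤ) (y₂ : κ₂ → ℤ), ∃ x, ∀ x',
      (y₁ - P.mulVec x) ⬝ᵥ Ψ₁.mulVec (P.mulVec x') + (y₂ - Q.mulVec x) ⬝ᵥ Ψ₂.mulVec (Q.mulVec x') = 0 := by
    intro y₁ y₂
    obtain ⟨x, hx⟩ : ((Matrix.fromRows P Q).transpose * Matrix.fromBlocks Ψ₁ 0 0 Ψ₂).mulVecLin (Sum.elim y₁ y₂) ∈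
        LinearMap.range ((Matrix.fromRows P Q).transpose * Matrix.fromBlocks Ψ₁ 0 0 Ψ₂ * Matrix.fromRows P Q).mulVecLin :=
      himage ▸ LinearMap.mem_range_self _ _
    refine ⟨x, fun x' ↦ ?_⟩
    simp only [Matrix.mulVecLin_apply, ← Matrix.mulVec_mulVec, Matrix.fromRows_mulVec,
      Matrix.fromBlocks_mulVec, Sum.elim_comp_inl, Sum.elim_comp_inr, Matrix.zero_mulVec, add_zero,
      zero_add] at hx
    have h := congrArg (fun w ↦ w ⬝ᵥ x') hx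
    simp only [Matrix.mulVec_transpose, ← Matrix.dotProduct_mulVec, Matrix.fromRows_mulVec,
      sumElim_dotProduct_sumElim] at h
    have e₁ : ∀ v w, Ψ₁.mulVec v ⬝ᵥ w = v ⬝ᵥ Ψ₁.mulVec w := fun v w ↦ by
      rw [Matrix.dotProduct_mulVec v, ← Matrix.mulVec_transpose, hΨ₁.eq]
    have e₂ : ∀ v w, Ψ₂.mulVec v ⬝ᵥ w = v ⬝ᵥ Ψ₂.mulVec w := fun v w ↦ by
      rw [Matrix.dotProduct_mulVec v, ← Matrix.mulVec_transpose, hΨ₂.eq]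
    rw [e₁, e₂, e₁, e₂] at h
    rw [sub_dotProduct, sub_dotProduct]
    linarith
  obtain ⟨a, ha, ha'⟩ := side P Q hP Ψ₁ Ψ₂ hΨ₁ hΨ₁pos hΨ₂pos (fun y ↦ by
    simpa using hdec y 0) y₁
  obtain ⟨b, hb, hb'⟩ := side Q P hQ Ψ₂ Ψ₁ hΨ₂ hΨ₂pos hΨ₁pos (fun y ↦ by
    obtain ⟨x, hx⟩ := hdec 0 y
    exact ⟨x, fun x' ↦ by rw [add_comm]; simpa using hx x'⟩) y₂
  refine ⟨a + b, ?_⟩
  rw [Matrix.fromRows_mulVec, Matrix.mulVec_add, Matrix.mulVec_add, ha, ha', hb, hb', add_zero, zero_add]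

end Groth.Agent.S16164
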