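import Groth.Statements.S16170
import Mathlib.Tactic.Linarith
import Mathlib.Tactic.Push
-- import your own Groth.Agent.* helpers here

set_option autoImplicit false
open Neron

namespace Groth.Agent.S16170

/-- Let M and N be symmetric positive-semidefinite integer matrices on the same finite index set whose
sum M + N is positive definite, and let χ₁, χ₂ be integer matrices with χ₁ + χ₂ = 1 and M χ₂ = N χ₁.
Then χ₁ and χ₂ are idempotent. (In the intended application M = Pᵀ Ψ₁ P and N = Qᵀ Ψ₂ Q for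
surjective integer matrices P, Q and positive-definite Ψ₁, Ψ₂.) -/
theorem result
    {ι : Type} [Fintype ι] [DecidableEq ι]
    (M N χ₁ χ₂ : Matrix ι ι ℤ) (hM : M.IsSymm) (hN : N.IsSymm)
    (hMpos : ∀ v : ι → ℤ, 0 ≤ v ⬝ᵥ M.mulVec v) (hNpos : ∀ v : ι → ℤ, 0 ≤ v ⬝ᵥ N.mulVec v)
    (hpos : ∀ v : ι → ℤ, v ≠ 0 → 0 < v ⬝ᵥ (M + N).mulVec v)
    (hsum : χ₁ + χ₂ = 1) (hrel : M * χ₂ = N * χ₁) :
    χ₁ * χ₁ = χ₁ ∧ χ₂ * χ₂ = χ₂ := by
  have hposdef : ∀ v : ι → ℤ, (M + N).mulVec v = 0 → v = 0 := by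
    intro v hv
    by_contra hne
    have := hpos v hne
    simp [hv] at this
  have hS : (M + N) * χ₁ = M := by
    rw [add_mul, ← hrel, ← mul_add, hsum, mul_one]
  have hT : (M + N) * χ₂ = N := by
    rw [add_mul, hrel, ← mul_add, hsum, mul_one]
  have hw : (M + N) * (χ₁ * χ₂) = M * χ₂ := by rw [← mul_assoc, hS]
  suffices hz : χ₁ * χ₂ = 0 by
    have hcancel : χ₂ * χ₁ = 0 := by
      ext i j
      have e : (M + N) * (χ₂ * χ₁) = 0 := by rw [← mul_assoc, hT, ← hrel, ← hw, hz, mul_zero]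
      have := congrFun (hposdef ((χ₂ * χ₁).mulVec (Pi.single j 1))
        (by rw [Matrix.mulVec_mulVec, e, Matrix.zero_mulVec])) i
      simpa using this
    constructor
    · calc χ₁ * χ₁ = χ₁ * (χ₁ + χ₂) := by rw [mul_add, hz, add_zero]
        _ = χ₁ := by rw [hsum, mul_one]
    · calc χ₂ * χ₂ = (χ₁ + χ₂) * χ₂ := by rw [add_mul, hz, zero_add]
        _ = χ₂ := by rw [hsum, one_mul]
  have hker : ∀ v, (χ₁ * χ₂).mulVec v = 0 := by
    by_contra hne
    push Not at hne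
    obtain ⟨v₀, hv₀⟩ := hne
    -- the quadratic forms
    have symM : ∀ a b : ι → ℤ, a ⬝ᵥ M.mulVec b = b ⬝ᵥ M.mulVec a := by
      intro a b
      rw [Matrix.dotProduct_mulVec, ← Matrix.mulVec_transpose, hM.eq, dotProduct_comm]
    have symN : ∀ a b : ι → ℤ, a ⬝ᵥ N.mulVec b = b ⬝ᵥ N.mulVec a := by
      intro a b
      rw [Matrix.dotProduct_mulVec, ← Matrix.mulVec_transpose, hN.eq, dotProduct_comm]
    have rel : ∀ x, M.mulVec (χ₂.mulVec x) = N.mulVec (χ₁.mulVec x) := fun x => by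
      rw [Matrix.mulVec_mulVec, Matrix.mulVec_mulVec, hrel]
    have split : ∀ x, x = χ₁.mulVec x + χ₂.mulVec x := fun x => by
      rw [← Matrix.add_mulVec, hsum, Matrix.one_mulVec]
    have hB : ∀ x y : ι → ℤ, x ⬝ᵥ M.mulVec (χ₂.mulVec y) =
        χ₁.mulVec x ⬝ᵥ N.mulVec (χ₁.mulVec y) + χ₂.mulVec x ⬝ᵥ M.mulVec (χ₂.mulVec y) := by
      intro x y
      nth_rw 1 [split x]
      rw [add_dotProduct]
      congr 1
      rw [rel y]
    have hBpos : ∀ x, 0 ≤ x ⬝ᵥ M.mulVec (χ₂.mulVec x) := fun x => by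
      rw [hB]; exact add_nonneg (hNpos _) (hMpos _)
    have hBsymm : ∀ x y, x ⬝ᵥ M.mulVec (χ₂.mulVec y) = y ⬝ᵥ M.mulVec (χ₂.mulVec x) := fun x y => by
      rw [hB x y, hB y x, symN (χ₁.mulVec x), symM (χ₂.mulVec x) (χ₂.mulVec y)]
    have hbound : ∀ x, 3 * (x ⬝ᵥ M.mulVec (χ₂.mulVec x)) ≤ x ⬝ᵥ (M + N).mulVec x := by
      intro x
      have e : x ⬝ᵥ (M + N).mulVec x = (χ₁.mulVec x + χ₂.mulVec x) ⬝ᵥ
          (M + N).mulVec (χ₁.mulVec x + χ₂.mulVec x) := by rw [← split]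
      simp only [Matrix.add_mulVec, Matrix.mulVec_add, dotProduct_add, add_dotProduct] at e
      have := hMpos (χ₁.mulVec x)
      have := hNpos (χ₂.mulVec x)
      have := hB x x
      have c1 : χ₁.mulVec x ⬝ᵥ M.mulVec (χ₂.mulVec x) = χ₁.mulVec x ⬝ᵥ N.mulVec (χ₁.mulVec x) := by
        rw [rel]
      have c2 : χ₂.mulVec x ⬝ᵥ N.mulVec (χ₁.mulVec x) = χ₂.mulVec x ⬝ᵥ M.mulVec (χ₂.mulVec x) := by
        rw [rel]
      have c3 := symM (χ₂.mulVec x) (χ₁.mulVec x)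
      have c4 := symN (χ₁.mulVec x) (χ₂.mulVec x)
      rw [Matrix.add_mulVec, dotProduct_add]
      linarith
    have hwB : ∀ x y, x ⬝ᵥ (M + N).mulVec ((χ₁ * χ₂).mulVec y) = x ⬝ᵥ M.mulVec (χ₂.mulVec y) := by
      intro x y
      rw [Matrix.mulVec_mulVec, hw, ← Matrix.mulVec_mulVec]
    let q : (ι → ℤ) → ℕ := fun x => (x ⬝ᵥ (M + N).mulVec x).toNat
    obtain ⟨v, hv, hmin⟩ := exists_minimalFor_of_wellFoundedLT
      (fun x => (χ₁ * χ₂).mulVec x ≠ 0) q ⟨v₀, hv₀⟩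
    have hp := hpos _ hv
    have hpv : 0 < v ⬝ᵥ (M + N).mulVec v := hpos v (fun h => hv (by rw [h, Matrix.mulVec_zero]))
    generalize hy : (χ₁ * χ₂).mulVec v = y at hv hp
    have hyy : y ⬝ᵥ M.mulVec (χ₂.mulVec v) = y ⬝ᵥ (M + N).mulVec y := by rw [← hy, hwB]
    have hlt : 9 * (y ⬝ᵥ (M + N).mulVec y) ≤ v ⬝ᵥ (M + N).mulVec v := by
      have h0 := hBpos (v - (3 : ℤ) • y)
      simp only [Matrix.mulVec_sub, Matrix.mulVec_smul, dotProduct_sub, sub_dotProduct,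
        dotProduct_smul, smul_dotProduct, smul_eq_mul] at h0
      rw [hBsymm v y, hyy] at h0
      have := hbound y
      have := hbound v
      linarith
    by_cases hy2 : (χ₁ * χ₂).mulVec y = 0
    · have e1 : v ⬝ᵥ (M + N).mulVec ((χ₁ * χ₂).mulVec y) = y ⬝ᵥ (M + N).mulVec y := by
        rw [hwB, hBsymm, hyy]
      rw [hy2, Matrix.mulVec_zero, dotProduct_zero] at e1
      linarith
    · have := hmin hy2
      simp only [q] at this
      omega
  ext i j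
  have := congrFun (hker (Pi.single j 1)) i
  simpa using this

end Groth.Agent.S16170
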