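import Groth.Statements.S16185
import Groth.Agent.Lib.Goren.Flat

set_option autoImplicit false
universe u
open CategoryTheory CategoryTheory.Limits AlgebraicGeometry
open Dual3

namespace Groth.Agent.S16185

/-- Let A be an Artinian local ring with maximal ideal m and let f : P → Spec A be a flat morphism of
schemes whose closed fibre X = P ×_{Spec A} Spec (A/m) is a Gorenstein scheme (locally Noetherian,
all local rings Gorenstein). Then f is a Gorenstein morphism: flat at every point with Gorenstein
local rings on its fibres. (The source takes A to be a local Artinian algebra over a field k with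
residue field k and X a k-scheme deformed flatly over A; the k-algebra structure plays no role, so
the residue field of A is used directly.) -/
theorem result
    {A : Type u} [CommRing A] [IsArtinianRing A] [IsLocalRing A]
    {P X : Scheme.{u}} (f : P ⟶ Spec (CommRingCat.of A)) [Flat f]
    (i : X ⟶ P) (q : X ⟶ Spec (CommRingCat.of (IsLocalRing.ResidueField A)))
    (hsq : IsPullback i q f (Spec.map (CommRingCat.ofHom (IsLocalRing.residue A))))
    (hX : Dual3.IsGorenstein X) : Dual3.IsGorensteinMor f := by
  intro x
  refine ⟨Flat.stalkMap f x, ?_⟩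
  have hI : ∀ y : ↥(Spec (CommRingCat.of A)), y.asIdeal = IsLocalRing.maximalIdeal A := fun y =>
    IsLocalRing.eq_maximalIdeal (Ideal.IsPrime.isMaximal' (R := A) y.2)
  set y := f x with hy
  have : y.asIdeal.IsMaximal := (hI y).symm ▸ IsLocalRing.maximalIdeal.isMaximal A
  let e1 : IsLocalRing.ResidueField A ≃+* y.asIdeal.ResidueField :=
    (Ideal.quotEquivOfEq (hI y).symm).trans
      (RingEquiv.ofBijective _ (Ideal.bijective_algebraMap_quotient_residueField y.asIdeal))
  have he1 : (CommRingCat.ofHom (IsLocalRing.residue A)) ≫ e1.toCommRingCatIso.hom =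
      CommRingCat.ofHom (algebraMap A y.asIdeal.ResidueField) := by
    ext a
    rfl
  let φ : CommRingCat.of (IsLocalRing.ResidueField A) ≅
      (Spec (CommRingCat.of A)).residueField y :=
    e1.toCommRingCatIso ≪≫ (Scheme.Spec.residueFieldIso (CommRingCat.of A) y).symm
  let e2 : Spec ((Spec (CommRingCat.of A)).residueField y) ≅
      Spec (CommRingCat.of (IsLocalRing.ResidueField A)) := Scheme.Spec.mapIso φ.op
  have he2 : e2.hom ≫ Spec.map (CommRingCat.ofHom (IsLocalRing.residue A)) =
      (Spec (CommRingCat.of A)).fromSpecResidueField y := by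
    refine Eq.trans ?_ (Scheme.Spec.map_residueFieldIso_inv_eq_fromSpecResidueField (CommRingCat.of A) y)
    show Spec.map φ.hom ≫ _ = _
    rw [← Spec.map_comp, ← Spec.map_comp]
    congr 1
  have hsq' : IsPullback (pullback.fst f ((Spec (CommRingCat.of A)).fromSpecResidueField y))
      (pullback.snd _ _ ≫ e2.hom) f (Spec.map (CommRingCat.ofHom (IsLocalRing.residue A))) :=
    (IsPullback.of_hasPullback f _).of_iso (Iso.refl _) (Iso.refl _) e2 (Iso.refl _)
      (by simp) (by simp) (by simp) (by simp [he2])
  let E : f.fiber y ≅ X := hsq'.isoIsPullback _ _ hsq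
  have := hX.2 (E.hom (f.asFiber x))
  exact Groth.Agent.Lib.Goren.Flat.isGorensteinLocalRing_ringEquiv (asIso (E.hom.stalkMap (f.asFiber x))).commRingCatIsoToRingEquiv

end Groth.Agent.S16185
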