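import Groth.Statements.S16186
import Groth.Agent.H34.Stein.FlatModel
import Groth.Agent.Lib.Lim.SmoothEtale
import Groth.Agent.Lib.ProjSpace.Basic
import Groth.Agent.Lib.Dim.Local
import Groth.Agent.Lib.Flat55.NormalizationPI
import Groth.Agent.Lib.Normalization.Relative
import Groth.Agent.Lib.Cohen.NagataFiniteType
import Groth.Agent.H25.NagataStalk
import Mathlib.RingTheory.PowerSeries.Inverse
import Mathlib.AlgebraicGeometry.Morphisms.LocalFlatDescent
import Mathlib.CategoryTheory.MorphismProperty.Descent

set_option autoImplicit false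
set_option linter.style.haveILetI false
universe u
open CategoryTheory CategoryTheory.Limits AlgebraicGeometry
open Deform

namespace Groth.Agent.S16186


open Groth.Agent.Lib Groth.Agent.H2.Rigid

/-- In a Noetherian domain a prime maximal among those avoiding `f` has codimension one in `m ∋ f`. -/
theorem exists_prime_height_one {B : Type u} [CommRing B] [IsDomain B] [IsNoetherianRing B]
    (m : Ideal B) [m.IsPrime] {f : B} (hf : f ∈ m) (hf0 : f ≠ 0) :
    ∃ (p : Ideal B) (_ : p.IsPrime), p ≤ m ∧ f ∉ p ∧ (m.map (Ideal.Quotient.mk p)).height ≤ 1 := by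
  classical
  obtain ⟨p, ⟨hp, hpm, hfp⟩, hmax⟩ := (inferInstance : IsNoetherian B B).wf.has_min
    {p : Ideal B | p.IsPrime ∧ p ≤ m ∧ f ∉ p} ⟨⊥, Ideal.isPrime_bot, bot_le, by simpa using hf0⟩
  refine ⟨p, hp, hpm, hfp, ?_⟩
  haveI := hp
  let π := Ideal.Quotient.mk p
  haveI : (m.map π).IsPrime := Ideal.map_isPrime_of_surjective Ideal.Quotient.mk_surjective
    (Ideal.mk_ker.le.trans hpm)
  have hfb : π f ∈ m.map π := Ideal.mem_map_of_mem _ hf
  by_cases hmin : m.map π ∈ (Ideal.span {π f}).minimalPrimes
  · exact Ideal.height_le_one_of_isPrincipal_of_mem_minimalPrimes _ _ hmin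
  exfalso
  have hfin : (Ideal.span {π f}).minimalPrimes.Finite := Ideal.finite_minimalPrimes_of_isNoetherianRing _ _
  have hnot : ¬ ((m.map π : Ideal _) : Set (B ⧸ p)) ⊆ ⋃ q ∈ (Ideal.span {π f}).minimalPrimes, (q : Set (B ⧸ p)) := by
    intro hsub
    obtain ⟨q, hq, hle⟩ := (Ideal.subset_union_prime_finite hfin ⊤ ⊤
      (fun i hi _ _ => hi.1.1)).1 hsub
    exact hmin (le_antisymm hle (hq.2 ⟨inferInstance, (Ideal.span_singleton_le_iff_mem _).2 hfb⟩ hle) ▸ hq)
  obtain ⟨y, hy, hy'⟩ := Set.not_subset.1 hnot
  obtain ⟨q, hq, hqm⟩ := Ideal.exists_minimalPrimes_le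
    (J := m.map π) ((Ideal.span_singleton_le_iff_mem _).2 hy : Ideal.span {y} ≤ _)
  haveI := hq.1.1
  have hy0 : y ≠ 0 := fun h0 => by
    obtain ⟨q₁, hq₁, -⟩ := Ideal.exists_minimalPrimes_le
      (J := m.map π) ((Ideal.span_singleton_le_iff_mem _).2 hfb : Ideal.span {π f} ≤ _)
    exact hy' (Set.mem_biUnion hq₁ (h0 ▸ Ideal.zero_mem q₁))
  have hyq : y ∈ q := hq.1.2 (Ideal.mem_span_singleton_self y)
  have hfq : π f ∉ q := fun hfq => by
    obtain ⟨q₁, hq₁, hq₁q⟩ := Ideal.exists_minimalPrimes_le
      (J := q) ((Ideal.span_singleton_le_iff_mem _).2 hfq : Ideal.span {π f} ≤ _)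
    haveI := hq₁.1.1
    refine hy' (Set.mem_biUnion hq₁ ?_)
    by_contra hy₁
    have hlt : q₁ < q := lt_of_le_of_ne hq₁q fun e => hy₁ (e.symm ▸ hyq)
    have h1 : q.height ≤ 1 := Ideal.height_le_one_of_isPrincipal_of_mem_minimalPrimes _ _ hq
    haveI : q.FiniteHeight := inferInstance
    have h2 := Ideal.height_strict_mono_of_isPrime hlt
    have h3 : q₁.height = 0 := Order.lt_one_iff.1 (h2.trans_le h1)
    have h4 : q₁ = ⊥ := by
      have := Ideal.height_eq_zero_iff.1 h3
      rwa [IsDomain.minimalPrimes_eq_singleton_bot, Set.mem_singleton_iff] at this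
    have : π f = 0 := by
      have := hq₁.1.2 (Ideal.mem_span_singleton_self (π f))
      rwa [h4, Ideal.mem_bot] at this
    exact hfp (Ideal.Quotient.eq_zero_iff_mem.1 this)
  refine hmax (q.comap π) ⟨inferInstance, ?_, fun h => hfq h⟩ ?_
  · intro x hx
    have hx' : x ∈ (m.map π).comap π := hqm hx
    rw [Ideal.comap_map_of_surjective _ Ideal.Quotient.mk_surjective] at hx'
    exact (sup_le le_rfl ((Ideal.mk_ker (I := p)).le.trans hpm)) hx'
  · refine lt_of_le_of_ne (fun x hx => ?_) fun e => hy0 ?_
    · show π x ∈ q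
      rw [Ideal.Quotient.eq_zero_iff_mem.2 hx]; exact q.zero_mem
    · obtain ⟨x, rfl⟩ := Ideal.Quotient.mk_surjective y
      exact Ideal.Quotient.eq_zero_iff_mem.2 (e ▸ hyq)

/-- A smooth affine curve through a rational point, avoiding a hypersurface generically. -/
theorem exists_curve (k : Type u) [Field k] [IsAlgClosed k] (B : Type u) [CommRing B] [IsDomain B]
    [Algebra k B] [Algebra.FiniteType k B] (b : B →ₐ[k] k) (f : B) (hf : b f = 0) (hf0 : f ≠ 0) :
    ∃ (N : Type u) (_ : CommRing N) (_ : IsDomain N) (_ : Algebra k N) (_ : Algebra.Smooth k N)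
      (φ : B →ₐ[k] N) (c : N →ₐ[k] k), ringKrullDim N = 1 ∧ φ f ≠ 0 ∧ c.comp φ = b := by
  classical
  haveI : IsNoetherianRing B := Algebra.FiniteType.isNoetherianRing k B
  let m : Ideal B := RingHom.ker b
  haveI : m.IsMaximal := RingHom.ker_isMaximal_of_surjective b fun x => ⟨algebraMap k B x, b.commutes x⟩
  obtain ⟨p, hp, hpm, hfp, hht⟩ := exists_prime_height_one m (show f ∈ m from hf) hf0
  let A := B ⧸ p
  haveI : Algebra.FiniteType k A := .of_surjective (Ideal.Quotient.mkₐ k p) Ideal.Quotient.mk_surjective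
  haveI : IsNoetherianRing A := Algebra.FiniteType.isNoetherianRing k A
  haveI hmA : (m.map (Ideal.Quotient.mk p)).IsMaximal :=
    Ideal.map_eq_top_or_isMaximal_of_surjective _ Ideal.Quotient.mk_surjective ‹_› |>.resolve_left
      fun htop => (inferInstance : m.IsMaximal).ne_top (by
        have := congrArg (Ideal.comap (Ideal.Quotient.mk p)) htop
        rwa [Ideal.comap_map_of_surjective _ Ideal.Quotient.mk_surjective, Ideal.comap_top,
          ← RingHom.ker_eq_comap_bot, sup_eq_left.2 ((Ideal.mk_ker (I := p)).le.trans hpm)] at this)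
  have hdim : ∀ q : Ideal A, q.IsMaximal → q.height ≤ 1 := fun q hq => by
    haveI := hq
    rw [Dim.Local.height_maximal k q, ← Dim.Local.height_maximal k (m.map (Ideal.Quotient.mk p))]
    exact hht
  haveI : Ring.DimensionLEOne A := ⟨fun {q} hq0 hq => by
    obtain ⟨M, hM, hqM⟩ := Ideal.exists_le_maximal q hq.ne_top
    by_contra hne
    haveI := hq
    haveI := hM
    have hlt : q < M := lt_of_le_of_ne hqM fun e => hne (e ▸ hM)
    haveI : M.FiniteHeight := inferInstance
    have h3 : q.height = 0 :=
      Order.lt_one_iff.1 ((Ideal.height_strict_mono_of_isPrime hlt).trans_le (hdim M hM))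
    have := Ideal.height_eq_zero_iff.1 h3
    rw [IsDomain.minimalPrimes_eq_singleton_bot, Set.mem_singleton_iff] at this
    exact hq0 this⟩
  let κ := FractionRing A
  haveI : Algebra.EssFiniteType A κ := Algebra.EssFiniteType.of_isLocalization κ (nonZeroDivisors A)
  let N := integralClosure A κ
  haveI : Module.Finite A N := Normalization.Relative.finite_integralClosure_field
    (Cohen.NagataFiniteType.isNagata_of_finiteType (S := A) (H25.NagataStalk.isNagata_field k))
  haveI : IsIntegralClosure N A κ := integralClosure.isIntegralClosure A κ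
  haveI : IsNoetherianRing N := IsNoetherianRing.of_finite A N
  haveI : IsFractionRing N κ := integralClosure.isFractionRing_of_finite_extension κ κ
  haveI : IsIntegrallyClosed N := integralClosure.isIntegrallyClosedOfFiniteExtension κ
  haveI : Algebra.IsIntegral A N := IsIntegralClosure.isIntegral_algebra A κ
  haveI : Ring.DimensionLEOne N := Ring.DimensionLEOne.of_isIntegral (R := A) N
  haveI : IsDedekindDomain N := { }
  haveI : Algebra.FiniteType k N := Algebra.FiniteType.trans (S := A) inferInstance inferInstance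
  haveI : Algebra.Smooth k N := Flat55.NormalizationPI.smooth_of_dedekind k
  obtain ⟨M, hM, hMm⟩ := Ideal.exists_ideal_over_prime_of_isIntegral_of_isDomain (S := N)
    (m.map (Ideal.Quotient.mk p)) (by
      rw [(RingHom.injective_iff_ker_eq_bot (algebraMap A N)).1 (fun x y h =>
        IsFractionRing.injective A κ (congrArg Subtype.val h))]
      exact bot_le)
  haveI : M.IsPrime := hM
  haveI : M.IsMaximal := Ideal.isMaximal_of_isIntegral_of_isMaximal_comap M (hMm.symm ▸ hmA)
  haveI : Algebra.FiniteType k (N ⧸ M) := .of_surjective (Ideal.Quotient.mkₐ k M) Ideal.Quotient.mk_surjective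
  let _ := Ideal.Quotient.field M
  haveI : Module.Finite k (N ⧸ M) := finite_of_finite_type_of_isJacobsonRing k _
  let e := (AlgEquiv.ofBijective (Algebra.ofId k (N ⧸ M))
    IsAlgClosed.algebraMap_bijective_of_isIntegral).symm
  let c : N →ₐ[k] k := e.toAlgHom.comp (Ideal.Quotient.mkₐ k M)
  let φ : B →ₐ[k] N := (IsScalarTower.toAlgHom k A N).comp (Ideal.Quotient.mkₐ k p)
  have hφ : φ f ≠ 0 := fun h => hfp (Ideal.Quotient.eq_zero_iff_mem.1
    (IsFractionRing.injective A κ ((congrArg Subtype.val h).trans (map_zero (algebraMap A κ)).symm)))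
  have hcomp : c.comp φ = b := by
    have key : ∀ x ∈ m, (c.comp φ) x = 0 := fun x hx => by
      have : φ x ∈ M := by
        have h1 : Ideal.Quotient.mk p x ∈ M.comap (algebraMap A N) := hMm.symm ▸ Ideal.mem_map_of_mem _ hx
        exact h1
      show e (Ideal.Quotient.mk M (φ x)) = 0
      rw [Ideal.Quotient.eq_zero_iff_mem.2 this, map_zero]
    refine AlgHom.ext fun x => ?_
    have := key (x - algebraMap k B (b x)) (by simp [m, RingHom.mem_ker])
    rw [map_sub, AlgHom.commutes, sub_eq_zero] at this
    exact this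
  refine ⟨N, inferInstance, inferInstance, inferInstance, inferInstance, φ, c, ?_, hφ, hcomp⟩
  refine le_antisymm ?_ ?_
  · haveI : Ring.KrullDimLE 1 N :=
      Ring.KrullDimLE.mk₁' fun I hI0 hI => Ring.DimensionLEOne.maximalOfPrime hI0 hI
    exact_mod_cast (Ring.krullDimLE_iff.1 ‹Ring.KrullDimLE 1 N›)
  · have hfM : φ f ∈ M := by
      have h1 : Ideal.Quotient.mk p f ∈ M.comap (algebraMap A N) :=
        hMm.symm ▸ Ideal.mem_map_of_mem _ (show f ∈ m from hf)
      exact h1
    have h1 : M.height ≠ 0 := fun h => by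
      have := Ideal.height_eq_zero_iff.1 h
      rw [IsDomain.minimalPrimes_eq_singleton_bot, Set.mem_singleton_iff] at this
      rw [this] at hfM
      exact hφ hfM
    have h2 : (1 : ℕ∞) ≤ M.height := Order.one_le_iff_ne_zero.2 h1
    exact le_trans (by exact_mod_cast h2) (Ideal.height_le_ringKrullDim_of_ne_top (inferInstance : M.IsMaximal).ne_top)

open PowerSeries in
/-- The fraction field of `k⟦t⟧` is `k⟦t⟧[1/t]`. -/
theorem exists_num (k : Type u) [Field k] (x : FractionRing (PowerSeries k)) :
    ∃ (a : PowerSeries k) (n : ℕ), x * algebraMap _ _ (X : PowerSeries k) ^ n = algebraMap _ _ a := by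
  obtain ⟨a, b, hb, rfl⟩ := IsFractionRing.div_surjective (A := PowerSeries k) x
  have hb0 : b ≠ 0 := nonZeroDivisors.ne_zero hb
  obtain ⟨n, u, hu⟩ := IsDiscreteValuationRing.eq_unit_mul_pow_irreducible hb0 PowerSeries.X_irreducible
  refine ⟨a * (u⁻¹ : _ˣ), n, ?_⟩
  have h0 : algebraMap (PowerSeries k) (FractionRing (PowerSeries k)) b ≠ 0 := by simpa using hb0
  rw [div_mul_eq_mul_div, div_eq_iff h0, ← map_pow, ← map_mul, ← map_mul]
  congr 1
  rw [hu, mul_assoc, ← mul_assoc (↑u⁻¹ : PowerSeries k), ← Units.val_mul, inv_mul_cancel, Units.val_one, one_mul]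

theorem smooth_of_isIso {A B : Scheme.{u}} (e : A ⟶ B) [IsIso e] : Smooth e := inferInstance

theorem mem_of_adjoin_int {B : Type u} [CommRing B] (S : Subring B) {s : Set B} (h : ∀ z ∈ s, z ∈ S)
    (a : B) (ha : a ∈ Algebra.adjoin ℤ s) : a ∈ S := by
  induction ha using Algebra.adjoin_induction with
  | mem z hz => exact h z hz
  | algebraMap r => exact intCast_mem S r
  | add x y _ _ hx hy => exact add_mem hx hy
  | mul x y _ _ hx hy => exact mul_mem hx hy

theorem exists_stageMap {R K : CommRingCat.{u}} [DecidableEq K] (am : R ⟶ K) (s : Finset R) :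
    ∃ ψ : (SubDiagram.ringDiagram R).obj s ⟶ (SubDiagram.ringDiagram K).obj (s.image am),
      ψ ≫ (SubDiagram.ringCocone K).ι.app (s.image am) = (SubDiagram.ringCocone R).ι.app s ≫ am := by
  have hmem : ∀ a : ↥(Algebra.adjoin ℤ (s : Set R)), am.hom a.1 ∈ Algebra.adjoin ℤ ((s.image am : Finset K) : Set K) :=
    fun a => mem_of_adjoin_int ((Algebra.adjoin ℤ ((s.image am : Finset K) : Set K)).toSubring.comap am.hom)
      (fun z hz => Algebra.subset_adjoin (Finset.mem_coe.2 (Finset.mem_image_of_mem _ hz))) a.1 a.2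
  refine ⟨CommRingCat.ofHom ((am.hom.comp (Algebra.adjoin ℤ (s : Set R)).val.toRingHom).codRestrict
    (Algebra.adjoin ℤ ((s.image am : Finset K) : Set K)).toSubring hmem), ?_⟩
  rfl

set_option maxHeartbeats 1000000 in
/-- A flat projective family over `k⟦t⟧` with smooth generic fibre has a model over a finitely generated
`k`-subalgebra, smooth where `t` is invertible. -/
theorem exists_model (k : Type u) [Field k] {P : Scheme.{u}}
    (p : P ⟶ Spec (CommRingCat.of (PowerSeries k))) [Flat p] [IsProper p] [LocallyOfFinitePresentation p]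
    (hgen : Smooth (pullback.snd p
      (Spec.map (CommRingCat.ofHom (algebraMap (PowerSeries k) (FractionRing (PowerSeries k))))))) :
    ∃ (B : Subalgebra k (PowerSeries k)) (hX : PowerSeries.X ∈ B) (Y : Scheme.{u})
      (π : Y ⟶ Spec (CommRingCat.of B)) (qY : P ⟶ Y),
      Algebra.FiniteType k B ∧ Flat π ∧ IsProper π ∧
      IsPullback qY p π (Spec.map (CommRingCat.ofHom B.val.toRingHom)) ∧
      Smooth (pullback.snd π (Spec.map (CommRingCat.ofHom
        (algebraMap B (Localization.Away (⟨PowerSeries.X, hX⟩ : B)))))) := by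
  classical
  let R := CommRingCat.of (PowerSeries k)
  let K := CommRingCat.of (FractionRing (PowerSeries k))
  haveI : IsAffine (SubDiagram.cone R).pt := inferInstanceAs (IsAffine (Spec R))
  obtain ⟨s₀, X₀, f₀, q, hq, hf₀p, hf₀f, hf₀l⟩ := @H34.Stein.exists_flat_model_of_limit _ _ _ _
    (SubDiagram.diagram R) (SubDiagram.cone R) (SubDiagram.isLimitCone R) _ _
    P p ‹IsProper p› ‹Flat p› ‹LocallyOfFinitePresentation p›
  let am : R ⟶ K := CommRingCat.ofHom (algebraMap (PowerSeries k) (FractionRing (PowerSeries k)))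
  let s : Finset R := s₀.unop
  let s' : Finset K := s.image am
  obtain ⟨ψ, hψ⟩ := exists_stageMap am s
  let D := SubDiagram.diagram K
  let c := SubDiagram.cone K
  let i₀ : (Finset K)ᵒᵖ := Opposite.op s'
  let j : D.obj i₀ ⟶ (SubDiagram.diagram R).obj s₀ := Spec.map ψ
  let X₁ := pullback f₀ j
  let f₁ : X₁ ⟶ D.obj i₀ := pullback.snd f₀ j
  let g : c.pt ⟶ (SubDiagram.cone R).pt :=
    Spec.map (CommRingCat.ofHom (algebraMap (PowerSeries k) (FractionRing (PowerSeries k))))
  have hgj : c.π.app i₀ ≫ j = g ≫ (SubDiagram.cone R).π.app s₀ := by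
    exact ((Spec.map_comp _ _).symm.trans (congrArg Spec.map hψ)).trans (Spec.map_comp _ _)
  have hK : IsPullback (pullback.fst p g ≫ q) (pullback.snd p g) f₀ (c.π.app i₀ ≫ j) := by
    rw [hgj]; exact (IsPullback.of_hasPullback p g).paste_horiz hq
  have hK' : IsPullback (pullback.lift (pullback.fst p g ≫ q) (pullback.snd p g ≫ c.π.app i₀)
      (by rw [hK.w, Category.assoc]) : pullback p g ⟶ X₁) (pullback.snd p g) f₁ (c.π.app i₀) := by
    refine IsPullback.of_right ?_ (pullback.lift_snd _ _ _) (IsPullback.of_hasPullback f₀ j)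
    rw [pullback.lift_fst]; exact hK
  haveI : CompactSpace (D.obj i₀) := inferInstance
  haveI : CompactSpace X₁ := QuasiCompact.compactSpace_of_compactSpace f₁
  haveI : QuasiSeparatedSpace X₁ := quasiSeparatedSpace_of_quasiSeparated f₁
  obtain ⟨i, φ, hi⟩ := Lib.Lim.SmoothEtale.smooth_descends D c (SubDiagram.isLimitCone K)
    (fun _ _ h => SubDiagram.isAffineHom_map K h) i₀ inferInstance inferInstance f₁ inferInstance inferInstance
    (inferInstanceAs (LocallyOfFinitePresentation (pullback.snd f₀ j))) _ _ hK' hgen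
  let t : Finset K := i.unop
  choose num den hnum using exists_num k
  let gens : Finset (PowerSeries k) := (s : Finset (PowerSeries k)) ∪ {PowerSeries.X} ∪ t.image num
  let B := Algebra.adjoin k (gens : Set (PowerSeries k))
  have hX : PowerSeries.X ∈ B := Algebra.subset_adjoin (by simp [gens])
  have hA : ∀ a : ↥((SubDiagram.ringDiagram R).obj s), ((SubDiagram.ringCocone R).ι.app s a : PowerSeries k) ∈ B :=
    fun a => mem_of_adjoin_int (B := R) B.toSubring (s := (s : Set R))
      (fun z hz => Algebra.subset_adjoin (Finset.mem_union_left _ (Finset.mem_union_left _ hz))) a.1 a.2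
  let ι₀ : ↥((SubDiagram.ringDiagram R).obj s) →+* B :=
    ((SubDiagram.ringCocone R).ι.app s).hom.codRestrict B.toSubring hA
  let jι : Spec (CommRingCat.of B) ⟶ (SubDiagram.diagram R).obj s₀ := Spec.map (CommRingCat.ofHom ι₀)
  let Y : Scheme.{u} := pullback f₀ jι
  let π : Y ⟶ Spec (CommRingCat.of B) := pullback.snd _ _
  have hfac : (Spec.map (CommRingCat.ofHom B.val.toRingHom) : Spec R ⟶ _) ≫ jι =
      (SubDiagram.cone R).π.app s₀ := (Spec.map_comp _ _).symm
  refine ⟨B, hX, Y, π, pullback.lift q (p ≫ Spec.map (CommRingCat.ofHom B.val.toRingHom))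
    (hq.w.trans ((congrArg (p ≫ ·) hfac.symm).trans (Category.assoc _ _ _).symm)), ?_, (inferInstance : Flat (pullback.snd f₀ jι)),
    (inferInstance : IsProper (pullback.snd f₀ jι)), ?_, ?_⟩
  · exact (Subalgebra.fg_iff_finiteType _).1 ⟨gens, rfl⟩
  · refine IsPullback.of_right ?_ (pullback.lift_snd _ _ _) (IsPullback.of_hasPullback _ _)
    rw [pullback.lift_fst, hfac]; exact hq
  let Xb : B := ⟨PowerSeries.X, hX⟩
  let L := Localization.Away Xb
  let eB : B →+* FractionRing (PowerSeries k) := (algebraMap _ _).comp B.val.toRingHom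
  have hu : IsUnit (eB Xb) := by
    refine Ne.isUnit ?_
    show algebraMap (PowerSeries k) (FractionRing (PowerSeries k)) PowerSeries.X ≠ 0
    simpa using PowerSeries.X_prime.ne_zero
  let eL : L →+* FractionRing (PowerSeries k) := IsLocalization.Away.lift Xb hu
  have heL : ∀ z, eL (algebraMap B L z) = eB z := IsLocalization.Away.lift_eq Xb hu
  have heLinj : Function.Injective eL := by
    refine (injective_iff_map_eq_zero _).2 fun z hz => ?_
    obtain ⟨⟨a, m⟩, ham⟩ := IsLocalization.surj (Submonoid.powers Xb) z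
    have : eB a = 0 := by rw [← heL, ← ham, map_mul, hz, zero_mul]
    have ha : a = 0 := Subtype.ext (IsFractionRing.injective _ _ (this.trans (map_zero _).symm))
    rw [ha, map_zero] at ham
    exact (IsUnit.mul_left_eq_zero (IsLocalization.map_units L m)).1 ham
  let At := (SubDiagram.ringDiagram K).obj t
  have hrange : ∀ x : ↥At, ∃ z, eL z = ((SubDiagram.ringCocone K).ι.app t x : FractionRing (PowerSeries k)) := by
    intro x
    refine mem_of_adjoin_int (B := K) eL.range (s := (t : Set K)) (fun z hz => ?_) x.1 x.2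
    have hz' : num z ∈ B := Algebra.subset_adjoin (by
      simp only [gens, Finset.coe_union, Set.mem_union, Finset.coe_image]
      exact Or.inr ⟨z, hz, rfl⟩)
    refine ⟨algebraMap B L ⟨num z, hz'⟩ * IsLocalization.Away.invSelf Xb ^ den z, ?_⟩
    have h1 : eL (IsLocalization.Away.invSelf Xb) * eB Xb = 1 := by
      rw [← heL, ← map_mul, mul_comm, IsLocalization.Away.mul_invSelf, map_one]
    rw [map_mul, map_pow, heL, show eB ⟨num z, hz'⟩ = z * eB Xb ^ den z from (hnum z).symm, mul_assoc,
      ← mul_pow, mul_comm (eB Xb), h1, one_pow, mul_one]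
  choose lf hlf using hrange
  let χ : At →+* L :=
    { toFun := lf
      map_one' := heLinj ((hlf 1).trans ((map_one ((SubDiagram.ringCocone K).ι.app t).hom).trans (map_one eL).symm))
      map_zero' := heLinj ((hlf 0).trans ((map_zero ((SubDiagram.ringCocone K).ι.app t).hom).trans (map_zero eL).symm))
      map_add' := fun a b => heLinj (by rw [map_add, hlf, hlf, hlf]; exact map_add ((SubDiagram.ringCocone K).ι.app t).hom a b)
      map_mul' := fun a b => heLinj (by rw [map_mul, hlf, hlf, hlf]; exact map_mul ((SubDiagram.ringCocone K).ι.app t).hom a b) }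
  let w : Spec (CommRingCat.of L) ⟶ D.obj i := Spec.map (CommRingCat.ofHom χ)
  let wB := Spec.map (CommRingCat.ofHom (algebraMap B L))
  have hwj : (w ≫ D.map φ) ≫ j = wB ≫ jι := by
    refine (congrArg (· ≫ _) (Spec.map_comp _ _).symm).trans ((Spec.map_comp _ _).symm.trans ?_)
    refine Eq.trans (congrArg Spec.map ?_) (Spec.map_comp _ _)
    refine CommRingCat.hom_ext (RingHom.ext fun a => heLinj ?_)
    refine (hlf _).trans ?_
    refine Eq.trans ?_ (heL _).symm
    exact ConcreteCategory.congr_hom hψ a
  have hL : IsPullback (pullback.fst π wB ≫ pullback.fst _ _) (pullback.snd π wB) f₀ ((w ≫ D.map φ) ≫ j) := by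
    rw [hwj]
    exact (IsPullback.of_hasPullback π wB).paste_horiz (IsPullback.of_hasPullback _ _)
  have hL' : IsPullback (pullback.lift (pullback.fst π wB ≫ pullback.fst _ _)
      (pullback.snd π wB ≫ w ≫ D.map φ) (hL.w.trans (Category.assoc _ _ _).symm) : pullback π wB ⟶ X₁)
      (pullback.snd π wB) f₁ (w ≫ D.map φ) := by
    refine IsPullback.of_right ?_ (pullback.lift_snd _ _ _) (IsPullback.of_hasPullback f₀ j)
    rw [pullback.lift_fst]; exact hL
  exact Lib.Lim.Descend.prop_of_factor (P := @Smooth) hi w rfl hL'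


/-- Let k be an algebraically closed field and let p : P → Spec k[[t]] be flat and projective, i.e. P is
a closed subscheme of a projective space over k[[t]] compatibly with p; let X be its closed fibre
over k and suppose the generic fibre P ⊗ Frac k[[t]] is smooth. Then X is geometrically smoothable:
there exist an affine integral curve C, smooth of dimension one over k, a k-rational point c of C
and a flat proper morphism Y → C whose fibre over c is isomorphic to X over k and whose fibre over
the generic point of C is smooth. (The source's statement is the equivalence, for X reduced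
projective and equidimensional over an algebraically closed field of characteristic zero with H^2(X,
O_X) = 0 or with X Gorenstein and its dualizing sheaf or the dual of it ample, between the existence
of a formal smoothing and of a geometric smoothing; its proof first turns a formal smoothing into a
smoothing over Spec k[[t]] and then runs the argument stated here, which uses neither characteristic
zero nor the hypotheses on X.) -/
theorem result
    (k : Type u) [Field k] [IsAlgClosed k]
    (X : Scheme.{u}) (pX : X ⟶ Spec (CommRingCat.of k))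
    (P : Scheme.{u}) (p : P ⟶ Spec (CommRingCat.of (PowerSeries k))) [Flat p]
    (hproj : ∃ (d : ℕ) (ι : P ⟶ CohB1.ProjSpace d (PowerSeries k)), IsClosedImmersion ι ∧
      ι ≫ CohB1.ProjSpace.toSpec d (PowerSeries k) = p)
    (i : X ⟶ P)
    (hX : IsPullback i pX p (Spec.map (CommRingCat.ofHom (PowerSeries.constantCoeff (R := k)))))
    (hgen : Smooth (pullback.snd p
      (Spec.map (CommRingCat.ofHom (algebraMap (PowerSeries k) (FractionRing (PowerSeries k)))))))
    : ∃ (C : Scheme.{u}) (qC : C ⟶ Spec (CommRingCat.of k)) (c : Spec (CommRingCat.of k) ⟶ C)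
      (_ : c ≫ qC = 𝟙 (Spec (CommRingCat.of k))) (_ : IsIntegral C) (_ : IsAffine C) (_ : Smooth qC)
      (_ : topologicalKrullDim C = 1)
      (Y : Scheme.{u}) (π : Y ⟶ C) (_ : Flat π) (_ : IsProper π) (j : X ⟶ Y)
      (η : C) (_ : closure ({η} : Set C) = Set.univ),
      IsPullback j pX π c ∧ Smooth (π.fiberToSpecResidueField η) := by
  obtain ⟨d, ι, hι, hιp⟩ := hproj
  haveI := hι
  haveI : IsProper p := by rw [← hιp]; infer_instance
  haveI : IsLocallyNoetherian (Spec (CommRingCat.of (PowerSeries k))) := by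
    haveI : IsNoetherianRing ↥(CommRingCat.of (PowerSeries k)) := inferInstanceAs (IsNoetherianRing (PowerSeries k))
    infer_instance
  obtain ⟨B, hXB, Y, π, qY, hBfg, hπf, hπp, hqY, hsm⟩ := exists_model k p hgen
  haveI := hBfg
  let b : B →ₐ[k] k :=
    { toRingHom := (PowerSeries.constantCoeff (R := k)).comp B.val.toRingHom
      commutes' := fun r => by simp }
  let f : B := ⟨PowerSeries.X, hXB⟩
  obtain ⟨N, _, _, _, _, φ, c₀, hdim, hφf, hcφ⟩ := exists_curve k B b f
    (by simp [b, f]) (fun h => PowerSeries.X_prime.ne_zero (congrArg Subtype.val h))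
  let C := Spec (CommRingCat.of N)
  let η : C := ⟨⊥, Ideal.isPrime_bot⟩
  haveI : IsDomain ↥(CommRingCat.of N) := ‹IsDomain N›
  let qC : C ⟶ Spec (CommRingCat.of k) := Spec.map (CommRingCat.ofHom (algebraMap k N))
  let c : Spec (CommRingCat.of k) ⟶ C := Spec.map (CommRingCat.ofHom c₀.toRingHom)
  let m : C ⟶ Spec (CommRingCat.of B) := Spec.map (CommRingCat.ofHom φ.toRingHom)
  have hcm : c ≫ m = Spec.map (CommRingCat.ofHom (PowerSeries.constantCoeff (R := k))) ≫
      Spec.map (CommRingCat.ofHom B.val.toRingHom) := by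
    rw [← Spec.map_comp, ← Spec.map_comp]
    congr 1
    exact CommRingCat.hom_ext (congrArg AlgHom.toRingHom hcφ)
  haveI : Smooth qC := by
    show Smooth (Spec.map _)
    rw [HasRingHomProperty.Spec_iff (P := @Smooth)]
    exact RingHom.smooth_algebraMap.mpr ‹Algebra.Smooth k N›
  have hX' : IsPullback (i ≫ qY) pX π (c ≫ m) := by rw [hcm]; exact hX.paste_horiz hqY
  refine ⟨C, qC, c, ?_, inferInstance, inferInstance, inferInstance, ?_, pullback π m, pullback.snd π m,
    inferInstance, inferInstance, pullback.lift (i ≫ qY) (pX ≫ c) (by rw [hX'.w, Category.assoc]),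
    η, ?_, ?_, ?_⟩
  · rw [← Spec.map_comp, ← Spec.map_id]
    congr 1
    exact CommRingCat.hom_ext (RingHom.ext fun r => c₀.commutes r)
  · exact (PrimeSpectrum.topologicalKrullDim_eq_ringKrullDim N).trans hdim
  · refine Set.eq_univ_of_forall fun z => ?_
    rw [← specializes_iff_mem_closure]
    exact (PrimeSpectrum.le_iff_specializes η z).1 (show (⊥ : Ideal N) ≤ z.asIdeal from bot_le)
  · refine IsPullback.of_right ?_ (pullback.lift_snd _ _ _) (IsPullback.of_hasPullback π m)
    rw [pullback.lift_fst]; exact hX'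
  · let wB := Spec.map (CommRingCat.ofHom (algebraMap B (Localization.Away f)))
    let κη := FractionRing N
    let eta : Spec (CommRingCat.of κη) ⟶ C := Spec.map (CommRingCat.ofHom (algebraMap N κη))
    have hu : IsUnit (((algebraMap N κη).comp φ.toRingHom) f) :=
      Ne.isUnit (by simpa using hφf)
    let v : Spec (CommRingCat.of κη) ⟶ Spec (CommRingCat.of (Localization.Away f)) :=
      Spec.map (CommRingCat.ofHom (IsLocalization.Away.lift f hu))
    have hv : v ≫ wB = eta ≫ m := by
      rw [← Spec.map_comp, ← Spec.map_comp]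
      congr 1
      exact CommRingCat.hom_ext (IsLocalization.Away.lift_comp f hu)
    have hgη : Smooth (pullback.snd (pullback.snd π m) eta) := by
      have h1 : IsPullback (pullback.fst (pullback.snd π m) eta ≫ pullback.fst π m)
          (pullback.snd (pullback.snd π m) eta) π (eta ≫ m) :=
        (IsPullback.of_hasPullback _ _).paste_horiz (IsPullback.of_hasPullback π m)
      exact Lib.Lim.Descend.prop_of_factor (P := @Smooth) hsm v hv h1
    obtain ⟨⟨y, ψ⟩, hy⟩ := (Scheme.SpecToEquivOfField κη C).symm.surjective eta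
    simp only [Scheme.SpecToEquivOfField, Equiv.coe_fn_symm_mk] at hy
    obtain rfl : y = η := by
      let z : Spec (CommRingCat.of κη) := IsLocalRing.closedPoint κη
      have h1 : eta z = y := by
        rw [← hy]
        exact Scheme.fromSpecResidueField_apply y _
      rw [← h1]
      refine PrimeSpectrum.ext ?_
      show (IsLocalRing.maximalIdeal κη).comap (algebraMap N κη) = ⊥
      rw [IsLocalRing.maximalIdeal_eq_bot, ← RingHom.ker_eq_comap_bot,
        (RingHom.injective_iff_ker_eq_bot _).1 (IsFractionRing.injective N κη)]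
    have h1 : Smooth (pullback.snd ((pullback.snd π m).fiberToSpecResidueField η) (Spec.map ψ)) := by
      rw [← hy] at hgη
      rw [show pullback.snd ((pullback.snd π m).fiberToSpecResidueField η) (Spec.map ψ) = _ from
        (pullbackLeftPullbackSndIso_hom_snd (pullback.snd π m) (C.fromSpecResidueField η) (Spec.map ψ)).symm]
      exact MorphismProperty.comp_mem @Smooth.{u} _ _ (@smooth_of_isIso _ _ _ (Iso.isIso_hom _)) hgη
    exact CategoryTheory.MorphismProperty.of_pullback_snd_of_descendsAlong (P := @Smooth)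
      (Q := @Surjective ⊓ @Flat ⊓ @QuasiCompact) ⟨⟨inferInstance, inferInstance⟩, inferInstance⟩ h1


end Groth.Agent.S16186
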