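import Groth.Statements.S16187
import Groth.Agent.Lib.Fit62.Basic

set_option autoImplicit false
universe u
open CategoryTheory
open Fitt
open Groth.Agent.Lib
open TensorProduct

namespace Groth.Agent.S16187

/-- Let k be an algebraically closed field and let B be a reduced k-algebra presented as k[T_1, …,
T_r]/(a_1, …, a_c) with a_1, …, a_c a regular sequence in the polynomial ring, so that Spec B is a
reduced complete intersection of dimension d = r - c. Then the d-th Fitting ideal of Ω_{B/k} equals
the 0-th Fitting ideal of the B-module T^1 = Ext^1_B(Ω_{B/k}, B). (The source states the equality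
Fitt_d of the formal sheaf of differentials = Fitt_0 of T^1 for a flat morphism 𝔛 → Spf k[[t]] of
locally Noetherian formal schemes that is a local complete intersection of relative dimension d and
has reduced closed fibre, and obtains it on affine charts from a two-term free resolution of the
differentials given by the conormal sequence; stated here is that chart computation on the closed
fibre, for a global complete intersection in affine r-space.) -/
theorem result
    (k : Type u) [Field k] [IsAlgClosed k] (r c : ℕ)
    (B : Type u) [CommRing B] [Algebra k B] [IsReduced B]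
    (φ : MvPolynomial (Fin r) k →ₐ[k] B) (hφ : Function.Surjective φ)
    (a : Fin c → MvPolynomial (Fin r) k)
    (ha : RingTheory.Sequence.IsRegular (MvPolynomial (Fin r) k) (List.ofFn a))
    (hker : RingHom.ker φ.toRingHom = Ideal.span (Set.range a)) :
    Fitt.ideal B (KaehlerDifferential k B) (r - c) =
      Fitt.ideal B (Abelian.Ext.{u} (ModuleCat.of B (KaehlerDifferential k B)) (ModuleCat.of B B) 1) 0 := by
  classical
  letI : Algebra (MvPolynomial (Fin r) k) B := φ.toRingHom.toAlgebra
  haveI : IsScalarTower k (MvPolynomial (Fin r) k) B := IsScalarTower.of_algebraMap_eq fun x => (φ.commutes x).symm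
  haveI : Algebra.FiniteType k B := Algebra.FiniteType.of_surjective φ hφ
  have hsurj : Function.Surjective (algebraMap (MvPolynomial (Fin r) k) B) := hφ
  have hJ : RingHom.ker (algebraMap (MvPolynomial (Fin r) k) B) = Ideal.span (Set.range a) := hker
  haveI : Nontrivial B := by
    by_contra hnt
    have hsub : Subsingleton B := not_nontrivial_iff_subsingleton.mp hnt
    refine ha.top_ne_smul ?_
    rw [show Ideal.ofList (List.ofFn a) = Ideal.span (Set.range a) by simp [Ideal.ofList, List.mem_ofFn, Set.range],
      ← hker]
    rw [show RingHom.ker φ.toRingHom = ⊤ from eq_top_iff.mpr fun x _ => (Subsingleton.elim _ _ : φ.toRingHom x = 0)]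
    simp
  have hR : GrCI62.Reg a := (GrCI62.isWeaklyRegular_iff a).mp ha.toIsWeaklyRegular
  obtain ⟨eI⟩ := Det62.exists_cotangent_equiv hR _ _ rfl hJ
  let eq : (MvPolynomial (Fin r) k ⧸ Ideal.span (Set.range a)) ≃ₗ[MvPolynomial (Fin r) k] B :=
    (Submodule.quotEquivOfEq _ _ (hJ.symm.trans (by ext x; simp [RingHom.mem_ker]))).trans
      ((Algebra.linearMap (MvPolynomial (Fin r) k) B).quotKerEquivOfSurjective hsurj)
  let eB := eI.trans (LinearEquiv.piCongrRight fun _ => eq)
  let kk := KaehlerDifferential.kerCotangentToTensor k (MvPolynomial (Fin r) k) B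
  let bn := (KaehlerDifferential.mvPolynomialBasis k (Fin r)).baseChange B
  let J₀ := LinearMap.extendScalarsOfSurjective hsurj (kk.comp eB.symm.toLinearMap)
  let J := bn.equivFun.toLinearMap.comp J₀
  let π := (KaehlerDifferential.mapBaseChange k (MvPolynomial (Fin r) k) B).comp bn.equivFun.symm.toLinearMap
  refine Fit62.fitt_eq_fitt_ext J π ?_ ?_ ?_
  · exact (KaehlerDifferential.mapBaseChange_surjective k (MvPolynomial (Fin r) k) B hsurj).comp bn.equivFun.symm.surjective
  · rw [injective_iff_map_eq_zero]
    intro v hv
    have hkv : kk (eB.symm v) = 0 := bn.equivFun.map_eq_zero_iff.mp hv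
    funext i
    have hmem : v i ∈ sInf (minimalPrimes B) := by
      refine Submodule.mem_sInf.mpr fun q hq => ?_
      obtain ⟨s, hs, hsx⟩ := Fit62.exists_smul_eq_zero_of_mem_ker hsurj _ hkv q hq
      rw [← map_smul, LinearEquiv.map_eq_zero_iff] at hsx
      have h2 := congrFun hsx i
      rw [Pi.smul_apply, Algebra.smul_def] at h2
      exact ((Ideal.minimalPrimes_isPrime hq).mem_or_mem (h2 ▸ q.zero_mem)).resolve_left hs
    rw [minimalPrimes, Ideal.sInf_minimalPrimes, show (⊥ : Ideal B).radical = nilradical B from rfl, nilradical_eq_zero] at hmem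
    exact hmem
  · intro y
    rw [show π y = KaehlerDifferential.mapBaseChange k (MvPolynomial (Fin r) k) B (bn.equivFun.symm y) from rfl,
      KaehlerDifferential.exact_kerCotangentToTensor_mapBaseChange k (MvPolynomial (Fin r) k) B hsurj]
    constructor
    · rintro ⟨x, hx⟩
      refine ⟨eB x, ?_⟩
      show bn.equivFun (kk (eB.symm (eB x))) = y
      rw [eB.symm_apply_apply, hx, LinearEquiv.apply_symm_apply]
    · rintro ⟨x, rfl⟩
      exact ⟨eB.symm x, (LinearEquiv.symm_apply_apply bn.equivFun _).symm⟩

end Groth.Agent.S16187
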