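import Groth.Statements.S16188
import Groth.Agent.H75.RedSub

set_option autoImplicit false
universe u
open CategoryTheory AlgebraicGeometry TopologicalSpace
open SchMor

namespace Groth.Agent.S16188

/-- Let f : X → Y be a morphism of schemes with X reduced and irreducible. Then f factors through an
irreducible component of Y carrying its reduced closed-subscheme structure: there are an irreducible
component Z of Y and a morphism g from X to the closed subscheme of Y cut out by the vanishing ideal
sheaf of Z with g followed by the inclusion equal to f; that closed subscheme is integral. -/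
theorem result
    {X Y : Scheme.{u}} (f : X ⟶ Y) [IsReduced X] [IrreducibleSpace X] :
    ∃ (Z : Closeds Y) (_ : (Z : Set Y) ∈ irreducibleComponents Y)
      (_ : IsIntegral (Scheme.IdealSheafData.vanishingIdeal Z).subscheme)
      (g : X ⟶ (Scheme.IdealSheafData.vanishingIdeal Z).subscheme),
      g ≫ (Scheme.IdealSheafData.vanishingIdeal Z).subschemeι = f := by
  obtain ⟨T, hT, hsub⟩ := exists_mem_irreducibleComponents_subset_of_isIrreducible (Set.range f) (by
    rw [← Set.image_univ]
    exact (IrreducibleSpace.isIrreducible_univ X).image _ f.continuous.continuousOn)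
  let Z : Closeds Y := ⟨T, isClosed_of_mem_irreducibleComponents T hT⟩
  let I := Scheme.IdealSheafData.vanishingIdeal Z
  haveI : IsReduced I.subscheme := Groth.Agent.H75.RedSub.isReduced_vanishingIdeal _
  have hr : Set.range I.subschemeι = T := by
    rw [Scheme.IdealSheafData.range_subschemeι, Scheme.IdealSheafData.coe_support_vanishingIdeal]
    rfl
  haveI : IrreducibleSpace I.subscheme := by
    have h2 : IsIrreducible (Set.range I.subschemeι) := hr.symm ▸ hT.1
    let e := I.subschemeι.isClosedEmbedding.isEmbedding.toHomeomorph
    haveI : IrreducibleSpace (Set.range I.subschemeι) := Subtype.irreducibleSpace h2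
    exact e.irreducibleSpace_iff.mpr inferInstance
  obtain ⟨g, hg⟩ := Groth.Agent.H75.RedKer.exists_lift f I.subschemeι (hr.symm ▸ hsub)
  exact ⟨Z, hT, isIntegral_of_irreducibleSpace_of_isReduced _, g, hg⟩

end Groth.Agent.S16188
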