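import Groth.Statements.S16190
import Groth.Agent.Lib.SmoothCurve.Stalk
import Mathlib.RingTheory.PowerSeries.Trunc
import Mathlib.RingTheory.PowerSeries.Inverse

set_option autoImplicit false
universe u
open CategoryTheory CategoryTheory.Limits AlgebraicGeometry
open Deform

namespace Groth.Agent.S16190

open AlgebraicGeometry CategoryTheory

/-- Taylor expansion at a rational point of a one-dimensional regular local ring. -/
theorem exists_expansion {k O : Type u} [Field k] [CommRing O] [IsDomain O] [IsDiscreteValuationRing O]
    (r : O →+* k) (c : k →+* O) (hrc : ∀ a, r (c a) = a) :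
    ∃ G : O →+* PowerSeries k, Function.Injective G ∧
      ∀ a, PowerSeries.constantCoeff (G a) = r a := by
  classical
  obtain ⟨π, hπ⟩ := IsDiscreteValuationRing.exists_irreducible O
  have hker : RingHom.ker r = Ideal.span {π} := by
    rw [← Irreducible.maximalIdeal_eq hπ]
    exact IsLocalRing.eq_maximalIdeal
      (RingHom.ker_isMaximal_of_surjective r fun a => ⟨c a, hrc a⟩)
  have hstep : ∀ a : O, ∃ b, a = c (r a) + π * b := fun a => by
    have : a - c (r a) ∈ RingHom.ker r := by simp [RingHom.mem_ker, hrc]
    rw [hker, Ideal.mem_span_singleton] at this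
    obtain ⟨b, hb⟩ := this
    exact ⟨b, by rw [← hb]; ring⟩
  choose δ hδ using hstep
  have hπn : ∀ n, π ^ n ≠ 0 := fun n => pow_ne_zero n hπ.ne_zero
  let ev : ℕ → PowerSeries k → O := fun n F => Polynomial.eval₂ c π (F.trunc n)
  have hev : ∀ n F, ev n F = ∑ i ∈ Finset.range n, c (F.coeff i) * π ^ i := fun n F =>
    PowerSeries.eval₂_trunc_eq_sum_range π c n F
  let E : O → PowerSeries k := fun a => PowerSeries.mk fun n => r (δ^[n] a)
  have hE : ∀ a n, a - ev n (E a) = π ^ n * δ^[n] a := fun a n => by
    induction n with
    | zero => simp [hev]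
    | succ n ih =>
      rw [hev, Finset.sum_range_succ, ← hev, Function.iterate_succ_apply', ← sub_sub, ih,
        PowerSeries.coeff_mk]
      linear_combination (π ^ n) * hδ (δ^[n] a)
  have uniq : ∀ a F, (∀ n, π ^ n ∣ a - ev n F) → F = E a := fun a F hF => by
    ext n
    induction n using Nat.strong_induction_on with
    | _ n ih =>
      have h1 : π ^ (n + 1) ∣ ev (n + 1) F - ev (n + 1) (E a) := by
        have := dvd_sub (Dvd.intro _ (hE a (n + 1)).symm) (hF (n + 1))
        simpa using this
      rw [hev, hev, Finset.sum_range_succ, Finset.sum_range_succ,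
        Finset.sum_congr rfl (fun i hi => by rw [ih i (Finset.mem_range.1 hi)]),
        add_sub_add_left_eq_sub, ← sub_mul, ← map_sub, pow_succ', mul_dvd_mul_iff_right (hπn n),
        ← Ideal.mem_span_singleton, ← hker, RingHom.mem_ker, hrc, sub_eq_zero] at h1
      exact h1
  have evadd : ∀ n F F', ev n (F + F') = ev n F + ev n F' := fun n F F' => by
    simp [ev, map_add, Polynomial.eval₂_add]
  have evmul : ∀ n F F', π ^ n ∣ ev n F * ev n F' - ev n (F * F') := fun n F F' => by
    have hP : ∀ P : Polynomial k, π ^ n ∣ P.eval₂ c π - ev n (P : PowerSeries k) := fun P => by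
      have hd : Polynomial.X ^ n ∣ P - PowerSeries.trunc n (P : PowerSeries k) := by
        rw [Polynomial.X_pow_dvd_iff]
        intro d hd
        simp [PowerSeries.coeff_trunc, hd]
      simpa [ev, Polynomial.eval₂_sub, Polynomial.eval₂_X_pow] using
        map_dvd (Polynomial.eval₂RingHom c π) hd
    have := hP (PowerSeries.trunc n F * PowerSeries.trunc n F')
    simpa [ev, Polynomial.eval₂_mul, Polynomial.coe_mul, PowerSeries.trunc_trunc_mul_trunc] using this
  have e1 : E 1 = 1 := (uniq 1 1 fun n => by
    rcases n with _ | n
    · simp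
    · simp [ev]).symm
  have e0 : E 0 = 0 := (uniq 0 0 fun n => by simp [ev]).symm
  let G : O →+* PowerSeries k :=
    { toFun := E
      map_one' := e1
      map_zero' := e0
      map_add' := fun a b => (uniq _ _ fun n => by
        rw [evadd, show a + b - (ev n (E a) + ev n (E b)) = (a - ev n (E a)) + (b - ev n (E b)) by ring,
          hE, hE]
        exact dvd_add (dvd_mul_right _ _) (dvd_mul_right _ _)).symm
      map_mul' := fun a b => (uniq _ _ fun n => by
        rw [show a * b - ev n (E a * E b) = (a - ev n (E a)) * b + ev n (E a) * (b - ev n (E b)) +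
          (ev n (E a) * ev n (E b) - ev n (E a * E b)) by ring, hE, hE]
        exact dvd_add (dvd_add (dvd_mul_of_dvd_left (dvd_mul_right _ _) _)
          (dvd_mul_of_dvd_right (dvd_mul_right _ _) _)) (evmul _ _ _)).symm }
  refine ⟨G, (injective_iff_map_eq_zero G).2 fun a ha => ?_, fun a => ?_⟩
  · by_contra hne
    obtain ⟨n, u, hu⟩ := IsDiscreteValuationRing.eq_unit_mul_pow_irreducible hne hπ
    have h := hE a (n + 1)
    rw [show E a = 0 from ha, hu] at h
    simp only [ev, map_zero, Polynomial.eval₂_zero, sub_zero] at h
    have h2 : (u : O) = π * δ^[n + 1] a := by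
      refine mul_right_cancel₀ (hπn n) ?_
      rw [h, hu, pow_succ]; ring
    exact hπ.not_isUnit (isUnit_of_dvd_unit ⟨_, h2⟩ u.isUnit)
  · show PowerSeries.constantCoeff (E a) = r a
    simp [E, ← PowerSeries.coeff_zero_eq_constantCoeff_apply]

end Groth.Agent.S16190

namespace Groth.Agent.S16190

/-- Let k be an algebraically closed field and let X have a geometric smoothing, i.e. there are an
integral k-scheme C smooth of dimension one over k, a k-rational point c of C and a flat proper
morphism π : Y → C whose fibre over c is X (as a k-scheme) and whose fibre over the generic point of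
C is smooth. Then X has a smoothing over Spec k[[t]]: a flat proper morphism P → Spec k[[t]] with
closed fibre X over k and smooth generic fibre P ⊗ Frac k[[t]]. (The published lemma concludes that
X, assumed projective and equidimensional, is formally smoothable; its proof builds exactly this
family over the completed local ring of C at c, identified with k[[t]], and then appeals to a
criterion equating smoothings over a discrete valuation ring with formal smoothings, which is not
restated; the hypotheses on X are not used in the step stated.) -/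
theorem result
    (k : Type u) [Field k] [IsAlgClosed k]
    (X : Scheme.{u}) (pX : X ⟶ Spec (CommRingCat.of k))
    (C : Scheme.{u}) (qC : C ⟶ Spec (CommRingCat.of k)) (c : Spec (CommRingCat.of k) ⟶ C)
    (hc : c ≫ qC = 𝟙 (Spec (CommRingCat.of k))) [IsIntegral C] [Smooth qC]
    (hC : topologicalKrullDim C = 1)
    (Y : Scheme.{u}) (π : Y ⟶ C) [Flat π] [IsProper π] (j : X ⟶ Y) (hsq : IsPullback j pX π c)
    (hgen : Smooth (π.fiberToSpecResidueField (genericPoint C))) :
    ∃ (P : Scheme.{u}) (p : P ⟶ Spec (CommRingCat.of (PowerSeries k))) (_ : Flat p) (_ : IsProper p)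
      (i : X ⟶ P),
      IsPullback i pX p (Spec.map (CommRingCat.ofHom (PowerSeries.constantCoeff (R := k)))) ∧
      Smooth (pullback.snd p
        (Spec.map (CommRingCat.ofHom (algebraMap (PowerSeries k) (FractionRing (PowerSeries k)))))) := by
  set x : C := c (IsLocalRing.closedPoint k) with hxdef
  haveI : IsImmersion (c ≫ qC) := by rw [hc]; infer_instance
  haveI : IsImmersion c := IsImmersion.of_comp c qC
  haveI : JacobsonSpace C := LocallyOfFiniteType.jacobsonSpace qC
  haveI : Subsingleton (Spec (CommRingCat.of k)) := inferInstanceAs (Subsingleton (PrimeSpectrum k))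
  have hx : IsClosed ({x} : Set C) := by
    refine isClosed_singleton_of_isLocallyClosed_singleton ?_
    have : ({x} : Set C) = Set.range c := by
      ext z
      exact ⟨fun h => ⟨_, h.symm⟩, fun ⟨s, hs⟩ => hs ▸ congrArg c (Subsingleton.elim s _)⟩
    rw [this]
    exact c.isLocallyClosed_range
  have hx' : x ≠ genericPoint C := fun h => by
    have h1 : ({x} : Set C) = Set.univ := by rw [← genericPoint_closure, ← h, hx.closure_eq]
    haveI : Subsingleton C := ⟨fun a b => by
      rw [(h1.ge (Set.mem_univ a) : a = x), (h1.ge (Set.mem_univ b) : b = x)]⟩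
    haveI : Nonempty C := ⟨x⟩
    have hle := topologicalKrullDim_zero_of_discreteTopology C
    rw [hC] at hle
    exact absurd hle (by simp)
  haveI : IsDiscreteValuationRing (C.presheaf.stalk x) :=
    Lib.SmoothCurve.Stalk.isDiscreteValuationRing_stalk qC hC.le hx hx'
  let r := Scheme.stalkClosedPointTo c
  have hr : Spec.map r ≫ C.fromSpecStalk x = c := Scheme.Spec_stalkClosedPointTo_fromSpecStalk c
  obtain ⟨c₀, hc₀⟩ := Spec.map_surjective (C.fromSpecStalk x ≫ qC)
  have hrc : c₀ ≫ r = 𝟙 _ := by
    apply Spec.map_injective
    rw [Spec.map_comp, hc₀, Spec.map_id, ← Category.assoc, hr, hc]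
  obtain ⟨G, hGinj, hG⟩ := exists_expansion r.hom c₀.hom (fun a => ConcreteCategory.congr_hom hrc a)
  let m : Spec (CommRingCat.of (PowerSeries k)) ⟶ C := Spec.map (CommRingCat.ofHom G) ≫ C.fromSpecStalk x
  have hm : Spec.map (CommRingCat.ofHom (PowerSeries.constantCoeff (R := k))) ≫ m = c := by
    rw [← hr, ← Category.assoc, ← Spec.map_comp]
    congr 2
    exact CommRingCat.hom_ext (RingHom.ext hG)
  refine ⟨Limits.pullback π m, Limits.pullback.snd π m, inferInstance, inferInstance,
    Limits.pullback.lift j (pX ≫ Spec.map (CommRingCat.ofHom (PowerSeries.constantCoeff (R := k))))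
      (by rw [Category.assoc, hm, hsq.w]), ?_, ?_⟩
  · refine IsPullback.of_right ?_ (Limits.pullback.lift_snd _ _ _) (IsPullback.of_hasPullback π m)
    rw [Limits.pullback.lift_fst, hm]
    exact hsq
  · let e : Spec (CommRingCat.of (FractionRing (PowerSeries k))) ⟶ Spec (CommRingCat.of (PowerSeries k)) :=
      Spec.map (CommRingCat.ofHom (algebraMap (PowerSeries k) (FractionRing (PowerSeries k))))
    have hgpt : (e ≫ m) (IsLocalRing.closedPoint (FractionRing (PowerSeries k))) = genericPoint C := by
      have hinj : Function.Injective ((algebraMap (PowerSeries k) (FractionRing (PowerSeries k))).comp G) :=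
        (IsFractionRing.injective (PowerSeries k) (FractionRing (PowerSeries k))).comp hGinj
      obtain ⟨s, hs⟩ : genericPoint C ∈ Set.range (C.fromSpecStalk x) := by
        rw [Scheme.range_fromSpecStalk]
        exact genericPoint_specializes x
      let t : Spec (C.presheaf.stalk x) := Spec.map (CommRingCat.ofHom G) (e (IsLocalRing.closedPoint (FractionRing (PowerSeries k))))
      have ht : t ⤳ s := (PrimeSpectrum.le_iff_specializes t s).1 fun a ha => by
        have : ((algebraMap (PowerSeries k) (FractionRing (PowerSeries k))).comp G) a = 0 := by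
          by_contra h0
          exact (IsLocalRing.mem_maximalIdeal _).1 ha (Ne.isUnit h0)
        rw [(map_eq_zero_iff _ hinj).1 this]
        exact Ideal.zero_mem _
      have h2 := ht.map (C.fromSpecStalk x).continuous
      rw [hs] at h2
      exact (h2.antisymm (genericPoint_specializes _)).eq
    obtain ⟨⟨y, φ⟩, hy⟩ := (Scheme.SpecToEquivOfField (FractionRing (PowerSeries k)) C).symm.surjective (e ≫ m)
    simp only [Scheme.SpecToEquivOfField, Equiv.coe_fn_symm_mk] at hy
    obtain rfl : y = genericPoint C := by
      rw [← hgpt, ← hy]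
      exact (Scheme.fromSpecResidueField_apply y _).symm
    haveI : Smooth (Limits.pullback.snd π (C.fromSpecResidueField (genericPoint C))) := hgen
    have h1 : ∀ m', Spec.map φ ≫ C.fromSpecResidueField (genericPoint C) = m' →
        Smooth (Limits.pullback.snd π m') := by
      rintro _ rfl
      rw [← (Iso.inv_comp_eq _).2
        (Limits.pullbackLeftPullbackSndIso_hom_snd π (C.fromSpecResidueField (genericPoint C)) (Spec.map φ)).symm]
      infer_instance
    haveI := h1 _ hy
    show Smooth (Limits.pullback.snd (Limits.pullback.snd π m) e)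
    rw [← Limits.pullbackLeftPullbackSndIso_hom_snd π m e]
    infer_instance

end Groth.Agent.S16190
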