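import Groth.Statements.S16194
import Mathlib.RingTheory.Jacobson.Ideal

set_option autoImplicit false
universe u
open DivAlg

namespace Groth.Agent.S16194

/-- In an associative unital ring R, not necessarily commutative, every element r of the Jacobson
radical (the set of elements lying in every maximal left ideal) is quasiregular, i.e. 1 - r is a
two-sided unit. -/
theorem result {R : Type u} [Ring R] (r : R)
    (hr : r ∈ Ring.jacobson R) : IsUnit (1 - r) := by
  have key : ∀ x ∈ Ring.jacobson R, ∃ s, s * (x + 1) = 1 := by
    intro x hx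
    rw [← Ideal.jacobson_bot] at hx
    obtain ⟨s, hs⟩ := Ideal.exists_mul_add_sub_mem_of_mem_jacobson x hx
    exact ⟨s, by rwa [Ideal.mem_bot, sub_eq_zero] at hs⟩
  obtain ⟨s, hs⟩ := key (-r) (neg_mem hr)
  -- `s` is itself of the form `x + 1` with `x` in the radical, hence has a left inverse
  obtain ⟨t, ht⟩ := key (s - 1) (by
    have h1 : s - 1 = s * r := by
      have : s * (-r + 1) = 1 := hs
      rw [mul_add, mul_neg, mul_one] at this
      rw [← this]; abel
    rw [h1]; exact Ideal.mul_mem_left _ s hr)
  rw [sub_add_cancel] at ht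
  have hts : t = -r + 1 := by
    calc t = t * (s * (-r + 1)) := by rw [hs, mul_one]
      _ = -r + 1 := by rw [← mul_assoc, ht, one_mul]
  exact ⟨⟨1 - r, s, by rw [show (1 - r) = t by rw [hts]; abel, ht],
    by rw [show (1 - r) = -r + 1 by abel, hs]⟩, rfl⟩

end Groth.Agent.S16194
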