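import Groth.Statements.S16195
import Mathlib.Algebra.Module.LinearMap.End
-- import your own Groth.Agent.* helpers here

set_option autoImplicit false
universe u v w
open DivAlg

namespace Groth.Agent.S16195

/-- Let R be a ring (associative, unital, not necessarily commutative) and M, N left R-modules. For an
R-module P write BiEnd_R(P) for the ring of endomorphisms of P that are linear over the ring
End_R(P), which acts on P through evaluation. Then every T in BiEnd_R(M × N) preserves the two
summands and is induced by a pair (T₁, T₂) with T₁ in BiEnd_R(M) and T₂ in BiEnd_R(N). -/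
theorem result {R : Type u} [Ring R] (M : Type v) (N : Type w)
    [AddCommGroup M] [Module R M] [AddCommGroup N] [Module R N]
    (T : Module.End (Module.End R (M × N)) (M × N)) :
    ∃ (T₁ : Module.End (Module.End R M) M) (T₂ : Module.End (Module.End R N) N),
      ∀ (m : M) (n : N), T (m, n) = (T₁ m, T₂ n) := by
  let p : Module.End R (M × N) := LinearMap.inl R M N ∘ₗ LinearMap.fst R M N
  let q : Module.End R (M × N) := LinearMap.inr R M N ∘ₗ LinearMap.snd R M N
  have hT : ∀ (f : Module.End R (M × N)) (x : M × N), T (f x) = f (T x) := fun f x => T.map_smul f x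
  let T₁ : Module.End (Module.End R M) M :=
    { toFun := fun m => (T (m, 0)).1
      map_add' := fun a b => by rw [show ((a + b, 0) : M × N) = (a, 0) + (b, 0) by simp, map_add]; rfl
      map_smul' := fun f m => by
        have h := hT (LinearMap.inl R M N ∘ₗ f ∘ₗ LinearMap.fst R M N) (m, 0)
        show (T (f m, 0)).1 = f ((T (m, 0)).1)
        exact congrArg Prod.fst h }
  let T₂ : Module.End (Module.End R N) N :=
    { toFun := fun n => (T (0, n)).2
      map_add' := fun a b => by rw [show ((0, a + b) : M × N) = (0, a) + (0, b) by simp, map_add]; rfl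
      map_smul' := fun f n => by
        have h := hT (LinearMap.inr R M N ∘ₗ f ∘ₗ LinearMap.snd R M N) (0, n)
        show (T (0, f n)).2 = f ((T (0, n)).2)
        exact congrArg Prod.snd h }
  refine ⟨T₁, T₂, fun m n => Prod.ext ?_ ?_⟩
  · show (T (m, n)).1 = (T (m, 0)).1
    exact (congrArg Prod.fst (hT p (m, n))).symm
  · show (T (m, n)).2 = (T (0, n)).2
    exact (congrArg Prod.snd (hT q (m, n))).symm

end Groth.Agent.S16195
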