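import Groth.Statements.S16196
import Mathlib.Algebra.Module.LinearMap.End
import Mathlib.LinearAlgebra.Pi
import Mathlib.Algebra.Module.BigOperators
-- import your own Groth.Agent.* helpers here

set_option autoImplicit false
universe u v
open DivAlg

namespace Groth.Agent.S16196

/-- Let R be a ring (associative, unital, not necessarily commutative) and M a left R-module which is a
generator, in the form: for some n there is an R-linear surjection from M^n onto R. Then the natural
ring homomorphism from R to the double endomorphism ring BiEnd_R(M) = End_{End_R(M)}(M)
(endomorphisms of M commuting with every R-linear endomorphism), r ↦ multiplication by r, is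
bijective. (The printed form takes R an algebra over a commutative ring k, embeds R in E = End_k(M)
and asserts R = C_E(C_E(R)); the double centralizer there is BiEnd_R(M).) -/
theorem result {R : Type u} [Ring R] (M : Type v)
    [AddCommGroup M] [Module R M]
    (hgen : ∃ (n : ℕ) (f : (Fin n → M) →ₗ[R] R), Function.Surjective f) :
    Function.Bijective (Module.toModuleEnd (Module.End R M) (S := R) M) := by
  classical
  obtain ⟨n, f, hf⟩ := hgen
  obtain ⟨x, hx⟩ := hf 1
  refine ⟨fun r s h => ?_, fun T => ?_⟩
  · have hm : ∀ m : M, r • m = s • m := fun m => LinearMap.congr_fun h m
    have : f (r • x) = f (s • x) := congrArg f (funext fun i => hm (x i))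
    simpa [map_smul, hx] using this
  · refine ⟨f fun i => T (x i), LinearMap.ext fun m => ?_⟩
    show (f fun i => T (x i)) • m = T m
    let g : Fin n → Module.End R M := fun i => LinearMap.toSpanSingleton R M m ∘ₗ f ∘ₗ LinearMap.single R (fun _ : Fin n => M) i
    have hsum : ∀ y : Fin n → M, ∑ i, g i (y i) = f y • m := fun y => by
      simp only [g, LinearMap.comp_apply, LinearMap.toSpanSingleton_apply, ← Finset.sum_smul, ← map_sum]
      congr 2
      funext j
      simp
    have h := congrArg T (hsum x)
    rw [map_sum, hx, one_smul] at h
    rw [← h, ← hsum]
    exact Finset.sum_congr rfl fun i _ => (T.map_smul (g i) (x i)).symm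

end Groth.Agent.S16196
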