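import Groth.Statements.S16197
import Mathlib.LinearAlgebra.Finsupp.Pi
import Mathlib.LinearAlgebra.Prod
import Mathlib.Tactic.Abel
import Mathlib.Algebra.Module.BigOperators
-- import your own Groth.Agent.* helpers here

set_option autoImplicit false
universe u v w
open DivAlg

namespace Groth.Agent.S16197

/-- Let R be a ring (associative, unital, not necessarily commutative) and M a left R-module which is a
generator, used here only through the existence of an R-linear surjection from a direct sum of
copies of M, indexed by an arbitrary type, onto R. Then some finite power M^n decomposes as R × Q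
for a submodule Q of M^n. (The published statement is an equivalence; this row states only the
implication from the existence of such a surjection to the splitting.) -/
theorem result {R : Type u} [Ring R] (M : Type v)
    [AddCommGroup M] [Module R M]
    (hgen : ∃ (ι : Type w) (f : (ι →₀ M) →ₗ[R] R), Function.Surjective f) :
    ∃ (n : ℕ) (Q : Submodule R (Fin n → M)), Nonempty ((Fin n → M) ≃ₗ[R] (R × Q)) := by
  classical
  obtain ⟨ι, f, hf⟩ := hgen
  obtain ⟨x, hx⟩ := hf 1
  let n := x.support.card
  let e := x.support.equivFin
  let g : (Fin n → M) →ₗ[R] R := ∑ i, f ∘ₗ Finsupp.lsingle ((e.symm i : x.support) : ι) ∘ₗ LinearMap.proj i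
  let y : Fin n → M := fun i => x (e.symm i)
  have hy : g y = 1 := by
    simp only [g, y, LinearMap.sum_apply, LinearMap.comp_apply, LinearMap.proj_apply, Finsupp.lsingle_apply]
    rw [← map_sum, Fintype.sum_equiv e.symm (fun i => Finsupp.single ((e.symm i : x.support) : ι) (x (e.symm i))) (fun s => Finsupp.single (s : ι) (x s)) (fun _ => rfl),
      Finset.sum_coe_sort x.support fun s => Finsupp.single s (x s)]
    exact (congrArg f x.sum_single).trans hx
  refine ⟨n, LinearMap.ker g,
    ⟨{ toFun := fun v => (g v, ⟨v - g v • y, by simp [hy]⟩)
       map_add' := fun a b => Prod.ext (map_add g a b) (Subtype.ext (by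
         show a + b - g (a + b) • y = (a - g a • y) + (b - g b • y)
         rw [map_add, add_smul]; abel))
       map_smul' := fun c a => Prod.ext (map_smul g c a) (Subtype.ext (by
         show c • a - g (c • a) • y = c • (a - g a • y)
         rw [map_smul, smul_sub, smul_eq_mul, mul_smul]))
       invFun := fun w => w.1 • y + w.2
       left_inv := fun v => by simp
       right_inv := fun w => by
         have hw : g (w.2 : Fin n → M) = 0 := w.2.2
         refine Prod.ext ?_ (Subtype.ext ?_) <;> simp [hy, hw] }⟩⟩

end Groth.Agent.S16197
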