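import Groth.Statements.S16201
import Groth.Agent.Lib.VarDim.Irreducible
-- import your own Groth.Agent.* helpers here

set_option autoImplicit false
open CategoryTheory AlgebraicGeometry
open Variety

namespace Groth.Agent.S16201

open Groth.Agent.Lib.VarDim.Basic Groth.Agent.Lib.VarDim.Fibre Groth.Agent.Lib.VarDim.Semicont Groth.Agent.Lib.VarDim.Irreducible in
/-- Let f : Y → Z be a morphism of schemes of finite type over ℂ, with Z irreducible. Suppose that the
general fibre of f is irreducible, in the sense that there is a nonempty open subset V of Z such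
that the fibre of f over every closed point of V is an irreducible topological space, and that each
irreducible component of Y has dense image in Z. Then Y is irreducible. (The published statement is
for a morphism of projective varieties; only finiteness of type over the field is used, and the row
is stated in that generality.) -/
theorem result
    (Y Z : Scheme.{0}) (g : Z ⟶ Spec (CommRingCat.of ℂ)) (f : Y ⟶ Z)
    [LocallyOfFiniteType g] [QuasiCompact g] [LocallyOfFiniteType f] [QuasiCompact f]
    [IrreducibleSpace Z]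
    (hgen : ∃ V : Z.Opens, (V : Set Z).Nonempty ∧
      ∀ z ∈ V, IsClosed ({z} : Set Z) → IsIrreducible (f.base ⁻¹' {z}))
    (hdom : ∀ W ∈ irreducibleComponents Y, Dense (f.base '' W)) :
    IrreducibleSpace Y := by
  set qY := f ≫ g
  haveI : CompactSpace ↥Z := QuasiCompact.compactSpace_of_compactSpace g
  haveI : CompactSpace ↥Y := QuasiCompact.compactSpace_of_compactSpace qY
  haveI : IsLocallyNoetherian Y := LocallyOfFiniteType.isLocallyNoetherian qY
  haveI : IsLocallyNoetherian Z := LocallyOfFiniteType.isLocallyNoetherian g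
  haveI : AlgebraicGeometry.IsNoetherian Y := ⟨⟩
  haveI : JacobsonSpace ↥Z := LocallyOfFiniteType.jacobsonSpace g
  obtain ⟨V, ⟨v, hv⟩, hV⟩ := hgen
  have hη : ∀ a : ↥Z, genericPoint ↥Z ⤳ a := genericPoint_specializes
  have hgp : ∀ W ∈ irreducibleComponents ↥Y,
      ∃ w, IsGenericPoint w W ∧ (∀ w', w' ⤳ w → w' = w) ∧ f w = genericPoint ↥Z := by
    intro W hW
    have hWc := isClosed_of_mem_irreducibleComponents W hW
    have hg := hW.1.isGenericPoint_genericPoint hWc
    refine ⟨_, hg, fun w' hw' => ?_, ?_⟩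
    · have : w' ∈ W := hW.2 isIrreducible_singleton.closure
        (fun a ha => specializes_iff_mem_closure.1 (hw'.trans (hg.specializes ha)))
        (subset_closure rfl)
      exact (hw'.antisymm (hg.specializes this)).eq
    · have h := (hdom W hW).closure_eq
      rw [← (hg.image f.continuous).def] at h
      have h' : f hW.1.genericPoint ⤳ genericPoint ↥Z :=
        specializes_iff_mem_closure.2 (by rw [h]; trivial)
      exact (h'.antisymm (hη _)).eq
  have huniq : ∀ W₁ ∈ irreducibleComponents ↥Y, ∀ W₂ ∈ irreducibleComponents ↥Y, W₁ = W₂ := by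
    intro W₁ hW₁ W₂ hW₂
    obtain ⟨z₁, hz₁, hz₁m, e₁⟩ := hgp W₁ hW₁
    obtain ⟨z₂, hz₂, hz₂m, e₂⟩ := hgp W₂ hW₂
    obtain ⟨U₁, hU₁, hzU₁, hU₁s⟩ := exists_open_subset_closure hz₁m
    obtain ⟨U₂, hU₂, hzU₂, hU₂s⟩ := exists_open_subset_closure hz₂m
    haveI : LocallyOfFinitePresentation f := inferInstance
    have hcon : ∀ U : Set ↥Y, IsOpen U → Topology.IsConstructible (f '' U) := fun U hU =>
      f.isConstructible_image ((TopologicalSpace.NoetherianSpace.isCompact U).isConstructible hU)
    have hA := (mem_nhds_of_isConstructible hη (hcon U₁ hU₁)).1 ⟨z₁, hzU₁, e₁⟩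
    have hB := (mem_nhds_of_isConstructible hη (hcon U₂ hU₂)).1 ⟨z₂, hzU₂, e₂⟩
    have hC := V.2.mem_nhds ((hη v).mem_open V.2 hv)
    obtain ⟨O, hOs, hO, hηO⟩ := mem_nhds_iff.1 (Filter.inter_mem (Filter.inter_mem hA hB) hC)
    obtain ⟨y, hyO, hyc⟩ := nonempty_inter_closedPoints (Z := O) ⟨_, hηO⟩ hO.isLocallyClosed
    obtain ⟨⟨⟨x₁, hx₁U, hx₁⟩, x₂, hx₂U, hx₂⟩, hyV⟩ := hOs hyO
    obtain ⟨x, -, hx₁', hx₂'⟩ := (hV y hyV hyc).isPreirreducible U₁ U₂ hU₁ hU₂
      ⟨x₁, hx₁, hx₁U⟩ ⟨x₂, hx₂, hx₂U⟩
    have h12 : z₁ ∈ U₂ := (hU₁s x hx₁').mem_open hU₂ hx₂'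
    have := hz₁m z₂ (hU₂s z₁ h12)
    rw [← hz₁.def, ← hz₂.def, this]
  obtain ⟨x₀, -⟩ := (hV (Classical.choose
    (nonempty_inter_closedPoints (Z := (V : Set ↥Z)) ⟨v, hv⟩ V.2.isLocallyClosed))
    (Classical.choose_spec (nonempty_inter_closedPoints (Z := (V : Set ↥Z)) ⟨v, hv⟩
      V.2.isLocallyClosed)).1
    (Classical.choose_spec (nonempty_inter_closedPoints (Z := (V : Set ↥Z)) ⟨v, hv⟩
      V.2.isLocallyClosed)).2).nonempty
  have : (Set.univ : Set ↥Y) = irreducibleComponent x₀ := by
    refine (Set.eq_univ_of_forall fun x => ?_).symm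
    rw [huniq _ (irreducibleComponent_mem_irreducibleComponents x₀) _
      (irreducibleComponent_mem_irreducibleComponents x)]
    exact mem_irreducibleComponent
  rw [irreducibleSpace_def, Set.top_eq_univ, this]
  exact isIrreducible_irreducibleComponent

end Groth.Agent.S16201
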