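import Groth.Statements.S16203
import Groth.Agent.Lib.Cyc.FieldDim
import Groth.Agent.Lib.QFCurve.Basic
import Groth.Agent.Lib.ProjSpace.Basic
import Mathlib.AlgebraicGeometry.Morphisms.UniversallyOpen

set_option autoImplicit false
open CategoryTheory CategoryTheory.Limits AlgebraicGeometry
open Variety

namespace Groth.Agent.S16203

open Groth.Agent.Lib Groth.Agent.Lib.Cyc TopologicalSpace

/-- Let f : Y → Z be a flat dominant morphism of integral projective schemes over ℂ, let B be an
irreducible closed curve in Z (an irreducible closed subset of dimension 1), p a closed point of B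
and q a closed point of Y lying over p. Then there is an irreducible closed curve B' in Y passing
through q which is a finite cover of B: an irreducible closed subset B' of Y containing q whose
image is B and which meets every fibre of f in a finite set. -/
theorem result
    (Y Z : Scheme.{0}) (g : Z ⟶ Spec (CommRingCat.of ℂ)) (f : Y ⟶ Z) [IsIntegral Y] [IsIntegral Z]
    (hZ : (∃ (m : ℕ) (ι : Z ⟶ CohB1.ProjSpace m ℂ), IsClosedImmersion ι ∧ ι ≫ CohB1.ProjSpace.toSpec m ℂ = g))
    (hY : (∃ (n : ℕ) (ι' : Y ⟶ CohB1.ProjSpace n ℂ), IsClosedImmersion ι' ∧ ι' ≫ CohB1.ProjSpace.toSpec n ℂ = f ≫ g))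
    [Flat f] (hdomi : DenseRange f.base)
    (B : Set Z) (hBc : IsClosed B) (hBi : IsIrreducible B) (hBd : topologicalKrullDim ↥B = 1)
    (p : Z) (hp : p ∈ B) (hpc : IsClosed ({p} : Set Z))
    (q : Y) (hqc : IsClosed ({q} : Set Y)) (hq : f.base q = p) :
    ∃ B' : Set Y, IsClosed B' ∧ IsIrreducible B' ∧ q ∈ B' ∧ f.base '' B' = B ∧
      ∀ z : Z, (B' ∩ f.base ⁻¹' {z}).Finite := by
  obtain ⟨m, ιZ, _, hιZ⟩ := hZ
  obtain ⟨n, ιY, _, hιY⟩ := hY
  haveI : IsProper (CohB1.ProjSpace.toSpec m ℂ) := ProjSpace.Basic.isProper_toSpec m ℂ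
  haveI : IsProper (CohB1.ProjSpace.toSpec n ℂ) := ProjSpace.Basic.isProper_toSpec n ℂ
  haveI : IsProper g := hιZ ▸ inferInstance
  haveI : IsProper (f ≫ g) := hιY ▸ inferInstance
  haveI : IsProper f := IsProper.of_comp f g
  haveI : IsLocallyNoetherian Y := LocallyOfFiniteType.isLocallyNoetherian (f ≫ g)
  haveI : CompactSpace Y := QuasiCompact.compactSpace_of_compactSpace (f ≫ g)
  haveI : IsNoetherian Y := ⟨⟩
  let δY := FieldDim.fdelta (K := ℂ) (f ≫ g)
  let δZ := FieldDim.fdelta (K := ℂ) g
  have hδY : Cyc.IsDimFun Y δY := FieldDim.isDimFun_fdelta (K := ℂ) (f ≫ g)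
  have hδZ : Cyc.IsDimFun Z δZ := FieldDim.isDimFun_fdelta (K := ℂ) g
  -- points of dimension zero are closed
  have hclZ : ∀ s : Z, δZ s = 0 → IsClosed ({s} : Set Z) := fun s hs => by
    refine isClosed_of_closure_subset fun v hv => ?_
    by_contra hne
    have h1 := (hδZ s v (specializes_iff_mem_closure.mpr hv) (Ne.symm hne)).1
    have h2 := FieldDim.fdelta_nonneg (K := ℂ) g v
    simp only [δZ] at h1 hs
    omega
  have hclY : ∀ s : Y, δY s = 0 → IsClosed ({s} : Set Y) := fun s hs => by
    refine isClosed_of_closure_subset fun v hv => ?_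
    by_contra hne
    have h1 := (hδY s v (specializes_iff_mem_closure.mpr hv) (Ne.symm hne)).1
    have h2 := FieldDim.fdelta_nonneg (K := ℂ) (f ≫ g) v
    simp only [δY] at h1 hs
    omega
  obtain ⟨η, hη⟩ := QuasiSober.sober hBi hBc
  have hδη : δZ η = 1 := by
    have h := FieldDim.topologicalKrullDim_closure (K := ℂ) g η
    rw [hη.def, hBd] at h
    have h' : (1 : ℕ) = (FieldDim.fdelta (K := ℂ) g η).toNat := by exact_mod_cast h
    have := FieldDim.fdelta_nonneg (K := ℂ) g η
    simp only [δZ]
    omega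
  have hηp : η ⤳ p := hη.specializes hp
  have hηne : η ≠ p := fun h => by
    have := FieldDim.fdelta_of_isClosed (K := ℂ) g p hpc
    simp only [δZ, h] at hδη
    omega
  have hB : ∀ s ∈ B, s ≠ η → IsClosed ({s} : Set Z) := fun s hs hne => by
    have h1 := (hδZ η s (hη.specializes hs) hne.symm).1
    have h2 := FieldDim.fdelta_nonneg (K := ℂ) g s
    refine hclZ s ?_
    simp only [δZ] at h1 hδη ⊢
    omega
  -- lift the generic point of `B`
  obtain ⟨y, hyq, hy⟩ := Flat.generalizingMap f (show η ⤳ f q by rw [show f q = p from hq]; exact hηp)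
  -- a point just above `q` outside the fibre
  set I := RingHom.ker (Cyc.specMap q y hyq) with hI
  haveI : I.IsPrime := RingHom.ker_isPrime _
  haveI : IsLocalRing (Y.presheaf.stalk q ⧸ I) :=
    IsLocalRing.of_surjective' (Ideal.Quotient.mk _) Ideal.Quotient.mk_surjective
  haveI : IsLocalHom (Ideal.Quotient.mk I) := IsLocalHom.of_surjective _ Ideal.Quotient.mk_surjective
  let j : PrimeSpectrum (Y.presheaf.stalk q ⧸ I) → Y := fun P =>
    Y.fromSpecStalk q (PrimeSpectrum.comap (Ideal.Quotient.mk I) P)
  have hjc : Continuous j := (Y.fromSpecStalk q).continuous.comp (PrimeSpectrum.continuous_comap _)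
  let W : Set (PrimeSpectrum (Y.presheaf.stalk q ⧸ I)) := j ⁻¹' (f ⁻¹' ({p} : Set Z))ᶜ
  have hjq : j (IsLocalRing.closedPoint _) = q := by
    show Y.fromSpecStalk q _ = q
    rw [show PrimeSpectrum.comap (Ideal.Quotient.mk I) (IsLocalRing.closedPoint _) =
      IsLocalRing.closedPoint (Y.presheaf.stalk q) from IsLocalRing.comap_closedPoint _]
    exact Scheme.fromSpecStalk_closedPoint
  have hjy : j ⟨⊥, Ideal.isPrime_bot⟩ = y := by
    show Y.fromSpecStalk q _ = y
    rw [show PrimeSpectrum.comap (Ideal.Quotient.mk I) ⟨⊥, Ideal.isPrime_bot⟩ =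
      DimFun.genPrime q y hyq from PrimeSpectrum.ext (Ideal.mk_ker (I := I))]
    exact DimFun.fromSpecStalk_genPrime q y hyq
  obtain ⟨P, hPW, hP⟩ := QFCurve.exists_mem_open_forall_lt_isMaximal W
    ((hpc.preimage f.continuous).isOpen_compl.preimage hjc)
    ⟨⟨⊥, Ideal.isPrime_bot⟩, by
      show f (j _) ∉ ({p} : Set Z)
      rw [hjy]
      exact fun h => hηne (hy.symm.trans h)⟩
    (by
      show ¬ f (j _) ∉ ({p} : Set Z)
      rw [hjq, not_not]
      exact hq)
  set z := j P with hz
  have hzq : z ⤳ q := DimFun.fromSpecStalk_specializes_self q _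
  have hyz : y ⤳ z := by
    conv_lhs => rw [← hjy]
    exact Specializes.map ((PrimeSpectrum.le_iff_specializes _ _).mp (show (⊥ : Ideal _) ≤ P.asIdeal from bot_le)) hjc
  have hzp : f z ≠ p := hPW
  have hzB : f z ∈ B := by
    have := hy ▸ hyz.map f.continuous
    exact this.mem_closed hBc hη.mem
  have hfz : f z = η := by
    by_contra hne
    have hc := hB _ hzB hne
    exact hzp (((hzq.map f.continuous).mem_closed hc rfl).symm.trans hq)
  have hzqne : z ≠ q := fun h => hzp (h ▸ hq)
  have hδz : δY z = 1 := by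
    have himm : ∀ v, z ⤳ v → v ⤳ q → v = z ∨ v = q := by
      intro v hzv hvq
      obtain ⟨Q, rfl⟩ : v ∈ Set.range (Y.fromSpecStalk q) := by
        rw [Scheme.range_fromSpecStalk]; exact hvq
      have hle : PrimeSpectrum.comap (Ideal.Quotient.mk I) P ≤ Q :=
        (DimFun.fromSpecStalk_specializes_iff q _ _).mp hzv
      have hIQ : RingHom.ker (Ideal.Quotient.mk I) ≤ Q.asIdeal := by
        rw [Ideal.mk_ker]
        exact (show I ≤ P.asIdeal.comap (Ideal.Quotient.mk I) from fun a ha => by
          rw [Ideal.mem_comap, Ideal.Quotient.eq_zero_iff_mem.mpr ha]; exact P.asIdeal.zero_mem).trans hle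
      let Q' : PrimeSpectrum (Y.presheaf.stalk q ⧸ I) :=
        ⟨Q.asIdeal.map (Ideal.Quotient.mk I), Ideal.map_isPrime_of_surjective Ideal.Quotient.mk_surjective hIQ⟩
      have hQ' : PrimeSpectrum.comap (Ideal.Quotient.mk I) Q' = Q := PrimeSpectrum.ext (by
        show (Q.asIdeal.map (Ideal.Quotient.mk I)).comap _ = Q.asIdeal
        rw [Ideal.comap_map_of_surjective' _ Ideal.Quotient.mk_surjective, sup_eq_left.mpr hIQ])
      have hPQ : P.asIdeal ≤ Q'.asIdeal := by
        rw [← Ideal.map_comap_of_surjective _ Ideal.Quotient.mk_surjective P.asIdeal]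
        exact Ideal.map_mono hle
      rcases hPQ.eq_or_lt with h | h
      · left
        rw [← hQ', ← show P = Q' from PrimeSpectrum.ext h]
      · right
        rw [← hQ', hP Q' h]
        exact hjq
    have h1 := (hδY z q hzq hzqne).2 himm
    have h2 := FieldDim.fdelta_of_isClosed (K := ℂ) (f ≫ g) q hqc
    simp only [δY] at h1 ⊢
    omega
  have hlow : ∀ v ∈ closure ({z} : Set Y), v ≠ z → IsClosed ({v} : Set Y) := fun v hv hne => by
    have h1 := (hδY z v (specializes_iff_mem_closure.mpr hv) hne.symm).1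
    have h2 := FieldDim.fdelta_nonneg (K := ℂ) (f ≫ g) v
    refine hclY v ?_
    simp only [δY] at h1 hδz ⊢
    omega
  refine ⟨closure {z}, isClosed_closure, isIrreducible_singleton.closure,
    specializes_iff_mem_closure.mp hzq, ?_, fun s => ?_⟩
  · refine Set.Subset.antisymm ?_ ?_
    · rw [← hη.def, ← hfz]
      refine (image_closure_subset_closure_image f.continuous).trans ?_
      rw [Set.image_singleton]
    · rw [← hη.def]
      refine closure_minimal ?_ (f.isClosedMap _ isClosed_closure)
      rintro _ rfl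
      exact ⟨z, subset_closure rfl, hfz⟩
  · by_cases hs : s = η
    · refine Set.Finite.subset (Set.finite_singleton z) fun v hv => ?_
      by_contra hne
      have hc : IsClosed ({f v} : Set Z) := by
        rw [← Set.image_singleton]; exact f.isClosedMap _ (hlow v hv.1 hne)
      rw [show f v = η from hv.2.trans hs] at hc
      have h0 := FieldDim.fdelta_of_isClosed (K := ℂ) g η hc
      simp only [δZ] at hδη
      omega
    · by_cases hsB : s ∈ B
      · have hcl : IsClosed (closure ({z} : Set Y) ∩ f ⁻¹' {s}) :=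
          isClosed_closure.inter ((hB s hsB hs).preimage f.continuous)
        obtain ⟨T, hTfin, hTc, hTirr, hTeq⟩ :=
          NoetherianSpace.exists_finite_set_isClosed_irreducible hcl
        show (closure ({z} : Set Y) ∩ f ⁻¹' {s}).Finite
        rw [hTeq]
        refine hTfin.sUnion fun t ht => ?_
        obtain ⟨w, hw⟩ := QuasiSober.sober (hTirr t ht) (hTc t ht)
        have hwmem : w ∈ closure ({z} : Set Y) ∩ f ⁻¹' {s} := by rw [hTeq]; exact ⟨t, ht, hw.mem⟩
        have hwz : w ≠ z := fun h => hs ((h ▸ hwmem.2 : f z = s) ▸ hfz)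
        rw [← hw.def, (hlow w hwmem.1 hwz).closure_eq]
        exact Set.finite_singleton w
      · refine Set.Finite.subset Set.finite_empty fun v hv => hsB ?_
        rw [← show f v = s from hv.2]
        have := (specializes_iff_mem_closure.mpr hv.1).map f.continuous
        rw [hfz] at this
        exact this.mem_closed hBc hη.mem

end Groth.Agent.S16203
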