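import Groth.Statements.S16209
import Groth.Agent.Lib.TreeVan29.Main

set_option autoImplicit false
universe u
open CategoryTheory CategoryTheory.Limits AlgebraicGeometry
attribute [local instance] HasDerivedCategory.standard
open Curves

namespace Groth.Agent.S16209

section helpers
open AlgebraicGeometry CategoryTheory CategoryTheory.Limits
open Groth.Agent.Lib Groth.Agent.Lib.Curves Groth.Agent.Lib.Curves.SubUnion

theorem deg_eq_D (k : Type u) [Field k] (X : Scheme.{u}) [X.Over (Spec (CommRingCat.of k))]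
    [IsProper (X ↘ (Spec (CommRingCat.of k)))] [IsReduced X] {L : X.Modules} (hL : PicF.IsInvertible L)
    (η : X) (E : Set X) (hE : IsClosed E) (he : E = closure {η}) :
    @Curv2.deg k _ (Scheme.IdealSheafData.vanishingIdeal ⟨E, hE⟩).subscheme
      ⟨(Scheme.IdealSheafData.vanishingIdeal ⟨E, hE⟩).subschemeι ≫ (X ↘ (Spec (CommRingCat.of k)))⟩
      ((Scheme.Modules.pullback (Scheme.IdealSheafData.vanishingIdeal ⟨E, hE⟩).subschemeι).obj L) 1 =
    TFOne.EDeg.D k L 1 (OS ({η} : Finset X)) := by
  rw [← Groth.Agent.Lib.TreeVan29.uT_singleton] at he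
  subst he
  exact (TFOne.EDeg.D_OT (isClosed_uT _) (TensorMod.LocFree.of_isInvertible hL)).symm

end helpers

/-- Let k be an algebraically closed field and X a proper reduced connected scheme of dimension 1 over k
with at-worst-nodal singularities and H^1(X, O_X) = 0 (so X is a tree of smooth rational curves).
For an irreducible component E of X write k_E for the number of points of E lying on the other
components and deg_E for the degree of the restriction to E with its reduced structure. Let L be an
invertible module and E_0 an irreducible component with deg_{E_0}(L) ≤ k_{E_0} − 1 and deg_E(L) ≤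
k_E − 2 for every other irreducible component E. Then H^0(X, L) = 0. -/
theorem result (k : Type u) [Field k] [IsAlgClosed k] (X : Scheme.{u}) [X.Over (Spec (CommRingCat.of k))]
    [IsProper (X ↘ (Spec (CommRingCat.of k)))] [IsReduced X] [ConnectedSpace X]
    (hdim : topologicalKrullDim X = 1) (hX : Curv2.AtWorstNodal k X)
    (hg : Subsingleton (Coh.HH X (Coh.structureModule X) 1)) (L : X.Modules) (hL : PicF.IsInvertible L)
    (E₀ : Set X) (hE₀ : E₀ ∈ irreducibleComponents (X : Type u))
    (h₀ : @Curv2.deg k _ (Scheme.IdealSheafData.vanishingIdeal ⟨E₀, isClosed_of_mem_irreducibleComponents E₀ hE₀⟩).subscheme ⟨(Scheme.IdealSheafData.vanishingIdeal ⟨E₀, isClosed_of_mem_irreducibleComponents E₀ hE₀⟩).subschemeι ≫ (X ↘ (Spec (CommRingCat.of k)))⟩ ((Scheme.Modules.pullback (Scheme.IdealSheafData.vanishingIdeal ⟨E₀, isClosed_of_mem_irreducibleComponents E₀ hE₀⟩).subschemeι).obj L) 1 ≤ ((E₀ ∩ closure E₀ᶜ).ncard : ℤ) - 1)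
    (hE : ∀ (E : Set X) (hE : E ∈ irreducibleComponents (X : Type u)), E ≠ E₀ →
      @Curv2.deg k _ (Scheme.IdealSheafData.vanishingIdeal ⟨E, isClosed_of_mem_irreducibleComponents E hE⟩).subscheme ⟨(Scheme.IdealSheafData.vanishingIdeal ⟨E, isClosed_of_mem_irreducibleComponents E hE⟩).subschemeι ≫ (X ↘ (Spec (CommRingCat.of k)))⟩ ((Scheme.Modules.pullback (Scheme.IdealSheafData.vanishingIdeal ⟨E, isClosed_of_mem_irreducibleComponents E hE⟩).subschemeι).obj L) 1 ≤ ((E ∩ closure Eᶜ).ncard : ℤ) - 2) :
    Subsingleton (Coh.HH X L 0) := by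
  have hd : topologicalKrullDim X ≤ 1 := hdim.le
  obtain ⟨η₀, hη₀⟩ := QuasiSober.sober hE₀.1 (isClosed_of_mem_irreducibleComponents E₀ hE₀)
  refine Groth.Agent.Lib.TreeVan29.subsingleton_h0 k hd hg hL η₀ ?_ fun η hη hne => ?_
  · rw [deg_eq_D k X hL η₀ E₀ _ hη₀.def.symm] at h₀
    unfold Groth.Agent.Lib.TreeVan29.kE
    rw [hη₀.def]
    exact h₀
  · have h1 := hE (closure {η}) hη fun e => hne
      ((specializes_iff_closure_subset.2 (e.trans hη₀.def.symm).ge).antisymm
        (specializes_iff_closure_subset.2 (e.trans hη₀.def.symm).le)).eq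
    rw [deg_eq_D k X hL η (closure {η}) _ rfl] at h1
    exact h1

end Groth.Agent.S16209
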