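import Groth.Statements.S16211
import Mathlib.RingTheory.Smooth.Basic

set_option autoImplicit false
universe u v
open InvTh

namespace Groth.Agent.S16211

/-- Let R be a commutative ring, O a formally smooth R-algebra and G a finite group whose order is
invertible in R, acting on O by R-algebra automorphisms. Then the largest quotient algebra of O on
which G acts trivially, namely the quotient of O by the ideal generated by all g • f - f (the
coordinate ring of the subscheme of G-fixed points of Spec O), is again formally smooth over R:
invariant homomorphisms lift along square-zero extensions. The published statement is about a scheme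
X smooth and of finite presentation over the base and concludes that its fixed-point scheme is
smooth; this row, the affine step of its proof, assumes only that O is formally smooth over R and
concludes only formal smoothness. -/
theorem result (R : Type u) [CommRing R]
    (O : Type u) [CommRing O] [Algebra R O] [Algebra.FormallySmooth R O]
    (G : Type v) [Group G] [Finite G] [MulSemiringAction G O] [SMulCommClass G R O]
    (hG : IsUnit (Nat.card G : R)) :
    Algebra.FormallySmooth R (O ⧸ Ideal.span {x : O | ∃ (g : G) (f : O), x = g • f - f}) := by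
  classical
  cases nonempty_fintype G
  set J := Ideal.span {x : O | ∃ (g : G) (f : O), x = g • f - f} with hJ
  rw [Algebra.FormallySmooth.iff_comp_surjective]
  intro C _ _ I hI ψ
  obtain ⟨f, hf⟩ := Algebra.FormallySmooth.comp_surjective R O I hI (ψ.comp (Ideal.Quotient.mkₐ R J))
  obtain ⟨u, hu⟩ := hG.exists_left_inv
  let fg : G → O →ₐ[R] C := fun g => f.comp (MulSemiringAction.toAlgHom R O g)
  have hfg : ∀ g x, fg g x - f x ∈ I := fun g x => by
    rw [← Ideal.Quotient.eq]
    have h1 : ∀ y, Ideal.Quotient.mk I (f y) = ψ (Ideal.Quotient.mk J y) := fun y => DFunLike.congr_fun hf y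
    show Ideal.Quotient.mk I (f (g • x)) = _
    rw [h1, h1]
    exact congrArg ψ (Ideal.Quotient.eq.mpr (Ideal.subset_span ⟨g, x, rfl⟩))
  have hcard : (u • (Nat.card G : C)) = 1 := by
    rw [← map_natCast (algebraMap R C), Algebra.smul_def, ← map_mul, hu, map_one]
  let F : O →ₗ[R] C := u • ∑ g : G, (fg g).toLinearMap
  have hF : ∀ x, F x = u • ∑ g : G, fg g x := fun x => by simp [F, LinearMap.sum_apply]
  have hdiff : ∀ x, F x = f x + u • ∑ g : G, (fg g x - f x) := fun x => by
    rw [hF, Finset.sum_sub_distrib, Finset.sum_const, Finset.card_univ, ← Nat.card_eq_fintype_card, nsmul_eq_mul,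
      smul_sub, ← smul_mul_assoc, hcard, one_mul]; ring
  have hone : F 1 = 1 := by
    rw [hF]; simp only [map_one, Finset.sum_const, Finset.card_univ, ← Nat.card_eq_fintype_card, nsmul_one]; exact hcard
  have hI0 : ∀ a ∈ I, ∀ b ∈ I, a * b = 0 := fun a ha b hb => by
    have : a * b ∈ I ^ 2 := by rw [pow_two]; exact Ideal.mul_mem_mul ha hb
    simpa [hI] using this
  have hmemI : ∀ x, u • ∑ g : G, (fg g x - f x) ∈ I := fun x => by
    rw [Algebra.smul_def]; exact I.mul_mem_left _ (I.sum_mem fun g _ => hfg g x)
  have hmul : ∀ x y, F (x * y) = F x * F y := fun x y => by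
    rw [hdiff, hdiff x, hdiff y]
    have hlin : ∑ g : G, (fg g (x * y) - f (x * y)) =
        f x * ∑ g : G, (fg g y - f y) + (∑ g : G, (fg g x - f x)) * f y := by
      rw [Finset.mul_sum, Finset.sum_mul, ← Finset.sum_add_distrib]
      refine Finset.sum_congr rfl fun g _ => ?_
      rw [map_mul, map_mul]
      linear_combination hI0 _ (hfg g x) _ (hfg g y)
    rw [hlin, smul_add, map_mul, ← mul_smul_comm, ← smul_mul_assoc]
    linear_combination - hI0 _ (hmemI x) _ (hmemI y)
  let Φ : O →ₐ[R] C := AlgHom.ofLinearMap F hone hmul
  have hinv : J ≤ RingHom.ker Φ := Ideal.span_le.mpr (by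
    rintro _ ⟨g, x, rfl⟩
    show Φ (g • x - x) = 0
    rw [map_sub, sub_eq_zero]
    show F (g • x) = F x
    rw [hF, hF]
    congr 1
    exact Fintype.sum_bijective (fun h => h * g) (Group.mulRight_bijective g) _ _ fun h => by simp [fg, mul_smul])
  refine ⟨Ideal.Quotient.liftₐ J Φ hinv, Ideal.Quotient.algHom_ext R (AlgHom.ext fun x => ?_)⟩
  show Ideal.Quotient.mk I (F x) = ψ (Ideal.Quotient.mk J x)
  rw [hdiff, map_add, Ideal.Quotient.eq_zero_iff_mem.mpr (hmemI x), add_zero]
  exact DFunLike.congr_fun hf x

end Groth.Agent.S16211
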