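import Groth.Statements.S16212

import Groth.Agent.S13206
import Mathlib.AlgebraicGeometry.Morphisms.Smooth
import Mathlib.AlgebraicGeometry.Morphisms.ClosedImmersion

set_option autoImplicit false
universe u v
open CategoryTheory AlgebraicGeometry
open AlgGrp

open CategoryTheory CategoryTheory.Limits AlgebraicGeometry

namespace Groth.Agent.S16212

section

open Algebra in
/-- The quotient of a smooth algebra by the ideal of coinvariants of a finite group of invertible order. -/
theorem smooth_quot_fixed {R A : Type u} [CommRing R] [CommRing A] [Algebra R A] [Algebra.Smooth R A]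
    {Γ : Type*} [Group Γ] [Finite Γ] (σ : Γ → A →ₐ[R] A) (hmul : ∀ g h, σ (g * h) = (σ h).comp (σ g))
    (hn : IsUnit ((Nat.card Γ : ℕ) : R)) :
    Algebra.Smooth R (A ⧸ Ideal.span (Set.range fun x : Γ × A => σ x.1 x.2 - x.2)) := by
  classical
  haveI := Fintype.ofFinite Γ
  set J := Ideal.span (Set.range fun x : Γ × A => σ x.1 x.2 - x.2) with hJ
  have hfg : J.FG := by
    obtain ⟨s, hs⟩ := (inferInstance : Algebra.FiniteType R A).out
    refine ⟨Finset.univ.biUnion fun g => s.image fun a => σ g a - a, le_antisymm ?_ ?_⟩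
    · refine Ideal.span_le.2 fun y hy => ?_
      simp only [Finset.coe_biUnion, Finset.coe_image, Set.mem_iUnion, Set.mem_image] at hy
      obtain ⟨g, -, a, -, rfl⟩ := hy
      exact Ideal.subset_span ⟨(g, a), rfl⟩
    · refine Ideal.span_le.2 ?_
      rintro _ ⟨⟨g, a⟩, rfl⟩
      set J' := Ideal.span (↑(Finset.univ.biUnion fun g => s.image fun a => σ g a - a) : Set A)
      have : (⊤ : Subalgebra R A) ≤
          AlgHom.equalizer ((Ideal.Quotient.mkₐ R J').comp (σ g)) (Ideal.Quotient.mkₐ R J') := by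
        rw [← hs]
        refine Algebra.adjoin_le fun b hb => ?_
        change Ideal.Quotient.mk J' (σ g b) = Ideal.Quotient.mk J' b
        rw [Ideal.Quotient.eq]
        exact Ideal.subset_span (by simpa using ⟨g, b, hb, rfl⟩)
      exact Ideal.Quotient.eq.1 (this (Algebra.mem_top (x := a)))
  haveI := Algebra.FinitePresentation.quotient (R := R) hfg
  haveI : Algebra.FormallySmooth R (A ⧸ J) := by
    rw [Algebra.FormallySmooth.iff_comp_surjective]
    intro B _ _ I hI f
    obtain ⟨s, hs⟩ := Algebra.FormallySmooth.comp_surjective R A I hI (f.comp (Ideal.Quotient.mkₐ R J))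
    have hmod : ∀ g a, s (σ g a) - s a ∈ I := by
      intro g a
      rw [← Ideal.Quotient.eq]
      have h1 : ∀ b, Ideal.Quotient.mk I (s b) = f (Ideal.Quotient.mk J b) := fun b =>
        congr($hs b)
      rw [h1, h1, Ideal.Quotient.eq.2 (Ideal.subset_span ⟨(g, a), rfl⟩ : σ g a - a ∈ J)]
    have hII : ∀ x y, x ∈ I → y ∈ I → x * y = 0 := fun x y hx hy => by
      rw [← Ideal.mem_bot, ← hI, pow_two]; exact Ideal.mul_mem_mul hx hy
    obtain ⟨c, hc⟩ := hn.exists_left_inv
    set c' : B := algebraMap R B c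
    have hcn : c' * (Fintype.card Γ : B) = 1 := by
      rw [← map_natCast (algebraMap R B), ← map_mul, ← Nat.card_eq_fintype_card, hc, map_one]
    let L : A → B := fun a => c' * ∑ g, s (σ g a)
    have hmulL : ∀ x y, L (x * y) = L x * L y := by
      intro x y
      have key : (Fintype.card Γ : B) * (∑ g, s (σ g x) * s (σ g y)) =
          (∑ g, s (σ g x)) * ∑ h, s (σ h y) := by
        rw [← sub_eq_zero]
        have e : (Fintype.card Γ : B) * (∑ g, s (σ g x) * s (σ g y)) -
            (∑ g, s (σ g x)) * (∑ h, s (σ h y)) =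
              ∑ g, ∑ h, s (σ g x) * (s (σ g y) - s (σ h y)) := by
          rw [Finset.sum_mul_sum, Finset.mul_sum, ← Finset.sum_sub_distrib]
          refine Finset.sum_congr rfl fun g _ => ?_
          simp only [mul_sub, Finset.sum_sub_distrib, Finset.sum_const, Finset.card_univ, nsmul_eq_mul]
        rw [e]
        calc ∑ g, ∑ h, s (σ g x) * (s (σ g y) - s (σ h y))
            = ∑ g, ∑ h, s x * (s (σ g y) - s (σ h y)) := by
              refine Finset.sum_congr rfl fun g _ => Finset.sum_congr rfl fun h _ => ?_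
              rw [← sub_eq_zero, ← sub_mul]
              refine hII _ _ (hmod g x) ?_
              have := I.sub_mem (hmod g y) (hmod h y)
              rwa [sub_sub_sub_cancel_right] at this
          _ = 0 := by
              simp only [mul_sub, Finset.sum_sub_distrib, Finset.sum_const, Finset.card_univ]
              rw [← Finset.smul_sum, sub_self]
      simp only [L, map_mul]
      calc c' * ∑ g, s (σ g x) * s (σ g y)
          = c' * c' * ((Fintype.card Γ : B) * ∑ g, s (σ g x) * s (σ g y)) := by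
            rw [mul_assoc c' c', ← mul_assoc c' (Fintype.card Γ : B), hcn, one_mul]
        _ = _ := by rw [key]; ring
    let φ : A →ₐ[R] B :=
      { toFun := L
        map_one' := by simp [L, hcn]
        map_mul' := hmulL
        map_zero' := by simp [L]
        map_add' := fun x y => by simp [L, Finset.sum_add_distrib, mul_add]
        commutes' := fun r => by
          simp only [L, AlgHom.commutes, Finset.sum_const, Finset.card_univ, nsmul_eq_mul]
          rw [← mul_assoc, hcn, one_mul] }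
    have hφ : ∀ h a, φ (σ h a) = φ a := fun h a => by
      change c' * ∑ g, s (σ g (σ h a)) = c' * ∑ g, s (σ g a)
      congr 1
      exact Fintype.sum_equiv (Equiv.mulLeft h) _ _ fun g => by
        simp [hmul]
    refine ⟨Ideal.Quotient.liftₐ J φ fun a ha => ?_, ?_⟩
    · induction ha using Submodule.span_induction with
      | mem x hx => obtain ⟨⟨g, a⟩, rfl⟩ := hx; rw [map_sub, hφ, sub_self]
      | zero => exact map_zero _
      | add x y _ _ hx hy => rw [map_add, hx, hy, add_zero]
      | smul r x _ hx => rw [smul_eq_mul, map_mul, hx, mul_zero]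
    · refine Ideal.Quotient.algHom_ext _ (AlgHom.ext fun a => ?_)
      change Ideal.Quotient.mk I (c' * ∑ g, s (σ g a)) = f (Ideal.Quotient.mk J a)
      have h1 : Ideal.Quotient.mk I (s a) = f (Ideal.Quotient.mk J a) := congr($hs a)
      have h2 : ∀ g, Ideal.Quotient.mk I (s (σ g a)) = Ideal.Quotient.mk I (s a) := fun g =>
        Ideal.Quotient.eq.2 (hmod g a)
      rw [map_mul, map_sum, Finset.sum_congr rfl fun g _ => h2 g, Finset.sum_const, Finset.card_univ,
        nsmul_eq_mul, ← mul_assoc, ← map_natCast (Ideal.Quotient.mk I), ← map_mul, hcn, map_one, one_mul, h1]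
  exact ⟨inferInstance, inferInstance⟩

end

/-- Let S be a scheme, X an S-scheme that is smooth, separated and of finite presentation over S, and G
a finite group whose order is invertible on S (a unit among the global functions of S) acting on X
by S-automorphisms. Then the scheme of G-fixed points of X, namely any S-scheme Z with an S-morphism
ι to X that is itself fixed by every element of G (ι followed by the automorphism of each g equals
ι) and such that an S-morphism T → X is fixed by every element of G exactly when it factors through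
ι, and then uniquely, is a closed subscheme of X (ι is a closed immersion) which is smooth and of
finite presentation over S (smooth, quasi-compact and quasi-separated). The published statement
assumes X only smooth and of finite presentation over S; this row also assumes X separated over S. -/
theorem result (S : Scheme.{u})
    (X : Over S) [Smooth X.hom] [QuasiCompact X.hom] [IsSeparated X.hom]
    (G : Type v) [Group G] [Finite G] (ρ : G →* Aut X)
    (hG : IsUnit (Nat.card G : Γ(S, ⊤)))
    (Z : Over S) (ι : Z ⟶ X) (hι : ∀ g : G, ι ≫ (ρ g).hom = ι)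
    (hZ : ∀ (T : Over S) (t : T ⟶ X), (∀ g : G, t ≫ (ρ g).hom = t) ↔ ∃! t' : T ⟶ Z, t' ≫ ι = t) :
    IsClosedImmersion ι.left ∧ Smooth Z.hom ∧ QuasiCompact Z.hom ∧ QuasiSeparated Z.hom := by
  -- the finite group of automorphisms of the underlying scheme
  let ρl : G →* Aut X.left := ((Over.forget S).mapAut X).comp ρ
  let G' : Type u := ρl.range
  haveI : Finite G' := Finite.of_surjective ρl.rangeRestrict ρl.rangeRestrict_surjective
  have hρp : ∀ γ : ρl.range, (γ.1).hom ≫ X.hom = X.hom := by
    rintro ⟨_, g, rfl⟩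
    exact Over.w (ρ g).hom
  obtain ⟨Z₀, i₀, hi₀, hfix₀, huniv₀⟩ := Groth.Agent.S13206.result X.hom ρl.range ρl.range.subtype hρp
  have hcl : IsClosedImmersion ι.left := by
    let Z' : Over S := Over.mk (i₀ ≫ X.hom)
    let i' : Z' ⟶ X := Over.homMk i₀ rfl
    obtain ⟨a, ha, -⟩ := (hZ Z' i').1 fun g => Over.OverMorphism.ext (hfix₀ ⟨ρl g, g, rfl⟩)
    obtain ⟨b, hb, -⟩ := huniv₀ Z.left ι.left (by
      rintro ⟨_, g, rfl⟩
      exact congrArg CommaMorphism.left (hι g))
    let b' : Z ⟶ Z' := Over.homMk b (by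
      change b ≫ i₀ ≫ X.hom = _
      rw [← Category.assoc, hb, Over.w])
    have hba : b' ≫ a = 𝟙 Z := by
      obtain ⟨c, -, hc⟩ := (hZ Z ι).1 hι
      rw [hc (b' ≫ a) (by change (b' ≫ a) ≫ ι = ι; rw [Category.assoc, ha]; exact Over.OverMorphism.ext hb),
        hc (𝟙 Z) (Category.id_comp _)]
    have hab : a.left ≫ b = 𝟙 Z₀ := by
      obtain ⟨c, -, hc⟩ := huniv₀ Z₀ i₀ hfix₀
      rw [hc (a.left ≫ b) (by change (a.left ≫ b) ≫ i₀ = i₀; rw [Category.assoc, hb, ← Over.comp_left, ha]; rfl),
        hc (𝟙 _) (Category.id_comp _)]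
    haveI : IsIso b := ⟨a.left, congrArg CommaMorphism.left hba, hab⟩
    rw [← hb]
    infer_instance
  haveI := hcl
  haveI : IsSeparated Z.hom := by rw [← Over.w ι]; infer_instance
  haveI : QuasiCompact Z.hom := by rw [← Over.w ι]; infer_instance
  refine ⟨hcl, ?_, inferInstance, inferInstance⟩
  rw [HasRingHomProperty.iff_exists_appLE (P := @Smooth)
    (RingHom.Smooth.stableUnderComposition.stableUnderCompositionWithLocalizationAway
      RingHom.Smooth.holdsForLocalizationAway).1]
  intro z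
  obtain ⟨U, hU, hxU, -⟩ := exists_isAffineOpen_mem_and_subset (x := X.hom (ι.left z)) (U := (⊤ : S.Opens)) trivial
  obtain ⟨W, hW, hxW, hWU⟩ := exists_isAffineOpen_mem_and_subset (x := ι.left z) (U := X.hom ⁻¹ᵁ U) hxU
  -- the stable affine neighbourhood
  have hVex : ∃ V : X.left.Opens, IsAffineOpen V ∧
      ∀ y, y ∈ V ↔ X.hom y ∈ U ∧ ∀ g, (ρ g).hom.left y ∈ W := by
    let Y : X.left.Opens := X.hom ⁻¹ᵁ U
    haveI : IsAffine (U : Scheme.{u}) := hU
    haveI : IsSeparated (terminal.from (Y : Scheme.{u})) := by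
      rw [← terminal.comp_from (X.hom ∣_ U)]
      infer_instance
    haveI : Nonempty G := ⟨1⟩
    have haff : ∀ g : G, IsAffineOpen (Y.ι ⁻¹ᵁ ((ρ g).hom.left ⁻¹ᵁ W)) := fun g => by
      haveI : IsIso (ρ g).hom.left := ((Over.forget S).mapIso (ρ g)).isIso_hom
      refine (hW.preimage_of_isIso (ρ g).hom.left).preimage_of_isOpenImmersion Y.ι ?_
      rw [Scheme.Opens.opensRange_ι]
      intro y hy
      change X.hom y ∈ U
      rw [← Over.w (ρ g).hom, Scheme.Hom.comp_apply]
      exact hWU hy
    let O : G → (Y : Scheme.{u}).Opens := fun g => Y.ι ⁻¹ᵁ ((ρ g).hom.left ⁻¹ᵁ W)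
    have hinf : ((⨅ g, O g : (Y : Scheme.{u}).Opens) : Set Y) = ⋂ g, (O g : Set Y) :=
      le_antisymm (Set.subset_iInter fun g => iInf_le O g)
        ((le_iInf (fun g => Set.iInter_subset (fun g => (O g : Set Y)) g) :
          (⟨_, isOpen_iInter_of_finite fun g => (O g).2⟩ : (Y : Scheme.{u}).Opens) ≤ ⨅ g, O g))
    refine ⟨Y.ι ''ᵁ (⨅ g, Y.ι ⁻¹ᵁ ((ρ g).hom.left ⁻¹ᵁ W)),
      (IsAffineOpen.iInf haff).image_of_isOpenImmersion Y.ι, fun y => ⟨?_, ?_⟩⟩
    · rintro ⟨w, hw, rfl⟩
      have hw' : w ∈ ((⨅ g, Y.ι ⁻¹ᵁ ((ρ g).hom.left ⁻¹ᵁ W) : (Y : Scheme.{u}).Opens) : Set Y) := hw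
      exact ⟨w.2, Set.mem_iInter.1 (hinf.le hw')⟩
    · rintro ⟨hy, hyW⟩
      refine ⟨⟨y, hy⟩, ?_, rfl⟩
      change (⟨y, hy⟩ : Y) ∈ ((⨅ g, Y.ι ⁻¹ᵁ ((ρ g).hom.left ⁻¹ᵁ W) : (Y : Scheme.{u}).Opens) : Set Y)
      exact hinf.ge (Set.mem_iInter.2 hyW)
  obtain ⟨V, hV, hmemV⟩ := hVex
  have hst : ∀ h, V ≤ (ρ h).hom.left ⁻¹ᵁ V := by
    intro h y hy
    obtain ⟨hy1, hy2⟩ := (hmemV y).1 hy
    refine (hmemV _).2 ⟨?_, fun g => ?_⟩
    · rwa [← Scheme.Hom.comp_apply, Over.w]
    · rw [← Scheme.Hom.comp_apply, ← Over.comp_left]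
      have : (ρ h).hom ≫ (ρ g).hom = (ρ (g * h)).hom := by rw [map_mul]; rfl
      rw [this]
      exact hy2 _
  have hVU : V ≤ X.hom ⁻¹ᵁ U := fun y hy => ((hmemV y).1 hy).1
  have hxV : ι.left z ∈ V := (hmemV _).2 ⟨hxU, fun g => by
    rw [← Scheme.Hom.comp_apply, ← Over.comp_left, hι]; exact hxW⟩
  let V0 : Z.left.Opens := ι.left ⁻¹ᵁ V
  have hV0 : IsAffineOpen V0 := hV.preimage ι.left
  have e0 : V0 ≤ Z.hom ⁻¹ᵁ U := fun y hy => by
    change Z.hom y ∈ U
    rw [← Over.w ι, Scheme.Hom.comp_apply]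
    exact hVU hy
  refine ⟨⟨U, hU⟩, ⟨V0, hV0⟩, hxV, e0, ?_⟩
  letI : Algebra Γ(S, U) Γ(X.left, V) := (X.hom.appLE U V hVU).hom.toAlgebra
  haveI : Algebra.Smooth Γ(S, U) Γ(X.left, V) :=
    HasRingHomProperty.appLE @Smooth X.hom ‹_› ⟨U, hU⟩ ⟨V, hV⟩ hVU
  let σ : G → Γ(X.left, V) →ₐ[Γ(S, U)] Γ(X.left, V) := fun g =>
    { ((ρ g).hom.left.appLE V V (hst g)).hom with
      commutes' := fun r => by
        change ((X.hom.appLE U V hVU) ≫ (ρ g).hom.left.appLE V V (hst g)) r = _
        rw [Scheme.Hom.appLE_comp_appLE]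
        simp only [Over.w]
        rfl }
  have hmul : ∀ g h, σ (g * h) = (σ h).comp (σ g) := fun g h => AlgHom.ext fun a => by
    change (ρ (g * h)).hom.left.appLE V V (hst _) a =
      ((ρ g).hom.left.appLE V V (hst g) ≫ (ρ h).hom.left.appLE V V (hst h)) a
    rw [Scheme.Hom.appLE_comp_appLE]
    have : (ρ (g * h)).hom.left = (ρ h).hom.left ≫ (ρ g).hom.left := by rw [map_mul]; rfl
    simp only [this]
  set J := Ideal.span (Set.range fun x : G × Γ(X.left, V) => σ x.1 x.2 - x.2) with hJ
  haveI := smooth_quot_fixed σ hmul (by simpa using hG.map (S.presheaf.map (homOfLE (le_top : U ≤ ⊤)).op).hom)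
  let θ := ι.left.appLE V V0 le_rfl
  have hθsurj : Function.Surjective θ.hom := by
    rw [show θ = ι.left.app V from (Scheme.Hom.app_eq_appLE ι.left).symm]
    exact ι.left.app_surjective V hV
  have hker : RingHom.ker θ.hom = J := by
    refine le_antisymm ?_ (Ideal.span_le.2 ?_)
    · let mk : Γ(X.left, V) ⟶ CommRingCat.of (Γ(X.left, V) ⧸ J) := CommRingCat.ofHom (Ideal.Quotient.mk J)
      let t₀ : Spec (CommRingCat.of (Γ(X.left, V) ⧸ J)) ⟶ X.left := Spec.map mk ≫ hV.fromSpec
      let T : Over S := Over.mk (t₀ ≫ X.hom)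
      let t : T ⟶ X := Over.homMk t₀ rfl
      obtain ⟨t', ht', -⟩ := (hZ T t).1 fun g => Over.OverMorphism.ext (by
        change (Spec.map mk ≫ hV.fromSpec) ≫ (ρ g).hom.left = Spec.map mk ≫ hV.fromSpec
        rw [Category.assoc, ← IsAffineOpen.SpecMap_appLE_fromSpec _ hV hV (hst g), ← Category.assoc,
          ← Spec.map_comp]
        congr 2
        ext a
        exact Ideal.Quotient.eq.2 (Ideal.subset_span ⟨(g, a), rfl⟩))
      have ht'l : t'.left ≫ ι.left = t₀ := congrArg CommaMorphism.left ht'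
      have hr : Set.range t'.left ⊆ Set.range hV0.fromSpec := by
        rw [hV0.range_fromSpec]
        rintro _ ⟨w, rfl⟩
        change ι.left (t'.left w) ∈ V
        rw [← Scheme.Hom.comp_apply, ht'l]
        exact hV.range_fromSpec.le ⟨_, rfl⟩
      let ψ := Spec.preimage (IsOpenImmersion.lift hV0.fromSpec t'.left hr)
      have e : θ ≫ ψ = mk := by
        apply Spec.map_injective
        rw [← cancel_mono hV.fromSpec, Spec.map_comp, Category.assoc,
          IsAffineOpen.SpecMap_appLE_fromSpec _ hV hV0, ← Category.assoc]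
        simp only [ψ, Spec.map_preimage, IsOpenImmersion.lift_fac]
        exact ht'l
      intro a ha
      rw [← Ideal.Quotient.eq_zero_iff_mem]
      change mk a = 0
      rw [← e, CommRingCat.comp_apply, (RingHom.mem_ker).1 ha, map_zero]
    · rintro _ ⟨⟨g, a⟩, rfl⟩
      rw [SetLike.mem_coe, RingHom.mem_ker, map_sub, sub_eq_zero]
      change ((ρ g).hom.left.appLE V V (hst g) ≫ θ) a = θ a
      simp only [θ, Scheme.Hom.appLE_comp_appLE, ← Over.comp_left, hι]
  letI : Algebra Γ(S, U) Γ(Z.left, V0) := (Z.hom.appLE U V0 e0).hom.toAlgebra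
  let θa : Γ(X.left, V) →ₐ[Γ(S, U)] Γ(Z.left, V0) :=
    { θ.hom with
      commutes' := fun r => by
        change ((X.hom.appLE U V hVU) ≫ θ) r = Z.hom.appLE U V0 e0 r
        simp only [θ, Scheme.Hom.appLE_comp_appLE, Over.w] }
  exact Algebra.Smooth.of_equiv ((Ideal.quotientEquivAlgOfEq Γ(S, U) hker.symm).trans
    (Ideal.quotientKerAlgEquivOfSurjective (f := θa) hθsurj))

end Groth.Agent.S16212
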