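import Groth.Statements.S16213
import Groth.Agent.Lib.AlgStack.Bootstrap

set_option autoImplicit false
open CategoryTheory AlgebraicGeometry
universe u
open AlgSt

namespace Groth.Agent.S16213

/-- Let S be a scheme, let 𝒳 and 𝒴 be stacks in groupoids over (Sch/S) for the fppf topology with 𝒴 an
algebraic stack, and let f : 𝒳 ⟶ 𝒴 be a functor over (Sch/S). Suppose there are an algebraic space Z
over S and a functor z : Z ⟶ 𝒴 over (Sch/S) which is representable by algebraic spaces, smooth and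
surjective, such that the 2-fibre product Z ×_𝒴 𝒳 is an algebraic stack. Then 𝒳 is an algebraic
stack over S. -/
theorem result {S : Scheme.{u}} {𝒳 𝒴 : AlgSt.Cat S}
    (h𝒳 : Stk.IsStack (QuotSh.J Scheme.fppfPrecoverage S) 𝒳)
    (h𝒴 : AlgSt.IsAlgStack Scheme.fppfPrecoverage 𝒴) (f : 𝒳 ⥤ᵇ 𝒴)
    (Z : AlgSp.Space S) (z : AlgSt.ofSp Z.obj ⥤ᵇ 𝒴)
    (hsm : AlgSt.RepByAlgSpWith (AlgSp.LocP @Smooth) z)
    (hsurj : AlgSt.RepByAlgSpWith AlgSp.IsSurjectiveMor z)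
    (hfp : AlgSt.IsAlgStack Scheme.fppfPrecoverage (FibCat.fp z f)) :
    AlgSt.IsAlgStack Scheme.fppfPrecoverage 𝒳 := by
  obtain ⟨U, x, h1, h2⟩ := hfp.atlas
  refine Groth.Agent.Lib.AlgStack.Bootstrap.isAlgStack_of_stack_atlas h𝒳 ⟨U, BasedFunctor.comp x (FibCat.fpSnd z f),
    Groth.Agent.Lib.AlgStack.IsAlgFp.comp_locP Lib.SourceDescent.Scheme.smooth (Groth.Agent.Lib.AlgStack.Yoneda.isFibGrpd_overCat U) hfp.isStack.1 h1
      (Groth.Agent.Lib.AlgStack.RepOver.repByAlgSpWith_fpSnd f hsm),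
    Groth.Agent.Lib.AlgStack.IsAlgFp.comp_surjective (Groth.Agent.Lib.AlgStack.Yoneda.isFibGrpd_overCat U) hfp.isStack.1 h2
      (Groth.Agent.Lib.AlgStack.RepOver.repByAlgSpWith_fpSnd f hsurj)⟩

end Groth.Agent.S16213
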