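import Groth.Statements.S16214
import Groth.Agent.Lib.ArtinAtlas.StackAtlas
import Groth.Agent.H14.FppfDesc.Scheme

set_option autoImplicit false
universe u
open CategoryTheory AlgebraicGeometry
open AlgSt

namespace Groth.Agent.S16214

/-- Let k be an algebraically closed field and Δ a finite diagonalizable group scheme over k, written Δ
= D(M) = Spec k[M] for a finite abelian group M. Then the classifying stack BΔ (whose objects over a
k-scheme T are the fppf-locally trivial Δ_T-torsors) is smooth over k, in the chart form: there are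
schemes U, V over k, a smooth surjective chart (Sch/U) ⟶ BΔ, a smooth chart (Sch/V) of Spec k and a
smooth U ⟶ V making the chart square commute up to isomorphism. (Δ itself need not be smooth, e.g.
μ_p in characteristic p.) The published statement allows any diagonalizable Δ; this row takes Δ
finite, i.e. M finite, the case its proof treats. -/
theorem result (k : Type u) [Field k] [IsAlgClosed k]
    (M : Type) [AddCommGroup M] [Finite M] :
    AlgSt.LocQ (AlgSp.LocP @Smooth)
      (FibCat.toSelf (AlgSt.BG Scheme.fppfPrecoverage (Red.diag k M))) := by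
  have : LocallyOfFinitePresentation (Red.diag k M).hom := by
    change LocallyOfFinitePresentation (Spec.map (CommRingCat.ofHom (algebraMap k (MonoidAlgebra k (Multiplicative M)))))
    haveI := Module.Finite.of_basis (MonoidAlgebra.basis (Multiplicative M) k)
    exact (HasRingHomProperty.Spec_iff (P := @LocallyOfFinitePresentation)).2
      (RingHom.finitePresentation_algebraMap.2 (Algebra.FinitePresentation.of_finiteType.1 inferInstance))
  have : Flat (Red.diag k M).hom := by
    change Flat (Spec.map (CommRingCat.ofHom (algebraMap k (MonoidAlgebra k (Multiplicative M)))))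
    exact (HasRingHomProperty.Spec_iff (P := @Flat)).2 (RingHom.flat_algebraMap_iff.2 inferInstance)
  have : IsAffineHom (Red.diag k M).hom := by
    change IsAffineHom (Spec.map (CommRingCat.ofHom (algebraMap k (MonoidAlgebra k (Multiplicative M)))))
    infer_instance
  obtain ⟨A, x, h1, -, h3, h4, h5, hx₁, hx₂⟩ := Lib.ArtinAtlas.exists_atlas
    (G := Red.diag k M) (AlgSt.trivAction (Red.diag k M)) ‹_› ‹_› ‹_›
  let T : Over (Spec (CommRingCat.of k)) := Over.mk (𝟙 _)
  have hsm : Smooth A.base.hom := by
    refine Groth.Agent.H14.FppfDesc.Scheme.smooth_of_comp A.π.left A.base.hom ?_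
    rw [Over.w A.π, ← Over.w A.φ]
    have : IsIso (MonoidalCategoryStruct.tensorUnit (Over (Spec (CommRingCat.of k)))).hom :=
      inferInstanceAs (IsIso (𝟙 _))
    infer_instance
  have hP : AlgSt.RepByAlgSpWith (AlgSp.LocP @Smooth) (BasedFunctor.id (FibCat.overCat T)) :=
    (Lib.AlgStack.Rep.repByAlgSpWith_iff_of_isEquivOver (f := BasedFunctor.id (FibCat.overCat T))
      (f' := AlgSt.ofSpMap ((AlgSp.yon _).map (𝟙 T))) (Lib.AlgStack.Rep.isEquivOver_toOverCat T)
      (Lib.AlgStack.Rep.isEquivOver_toOverCat T) (eqToIso (by simp [AlgSt.ofSpMap]; rfl))).2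
      (Lib.AlgStack.Descend.repByAlgSpWith_ofSpMap (fun _ _ _ _ hX₁ hY₁ _ hY₂ _ _ _ _ sq ha =>
        Lib.AlgSpMor.LocP.locP_of_isPullback Lib.SourceDescent.Scheme.smooth hX₁ hY₁ hY₂ sq ha)
        (AlgSp.IsAlgSpace.yon_obj T) (AlgSp.IsAlgSpace.yon_obj T)
        (Lib.AlgSpMor.LocP.locP_of_repWith Lib.SourceDescent.Scheme.smooth
          ((AlgSp.repWith_yon_map_iff _ _).2 (inferInstanceAs (Smooth (𝟙 _))))))
  have hy : AlgSt.RepByAlgSpWith (AlgSp.LocP @Smooth) (FibCat.toSelf (FibCat.overCat T)) :=
    (Lib.AlgStack.Rep.repByAlgSpWith_iff_of_isEquivOver (f' := BasedFunctor.id (FibCat.overCat T))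
      (f := FibCat.toSelf (FibCat.overCat T)) Lib.AlgStack.BasedBasic.isEquivOver_id
      (Lib.AlgStack.IsAlgFp.isEquivOver_toSelf_overCat Over.mkIdTerminal) (Iso.refl _)).2 hP
  refine ⟨A.base, T, x, FibCat.toSelf (FibCat.overCat T), Over.homMk A.base.hom,
    eqToIso (Lib.AlgStack.Diag.toSelf_unique _ _), hx₁, hx₂, hy, ?_⟩
  exact Lib.AlgSpMor.LocP.locP_of_repWith Lib.SourceDescent.Scheme.smooth ((AlgSp.repWith_yon_map_iff _ _).2 hsm)

end Groth.Agent.S16214
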