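import Groth.Statements.S16215
import Groth.Agent.Lib.PtDefo16.SmoothLift
-- import your own Groth.Agent.* helpers here

set_option autoImplicit false
universe u
open CategoryTheory CategoryTheory.Limits AlgebraicGeometry
open PtDefo

namespace Groth.Agent.S16215

open Groth.Agent

/-- Let k be an algebraically closed field of characteristic neither 2 nor 3, C a smooth proper integral
curve of genus one over k and P a rational point of C. For every local Artinian k-algebra A with
residue field k the forgetful map, from isomorphism classes of deformations of the pointed curve (C,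
P) over A (deformations of C over A with a section through P) to isomorphism classes of deformations
of C over A, is surjective. (The characteristic assumption is the standing one of the source's
section and plays no role.) -/
theorem result
    {k : Type u} [Field k] [IsAlgClosed k] (h2 : (2 : k) ≠ 0) (h3 : (3 : k) ≠ 0)
    (X : Scheme.{u}) [X.Over (Spec (CommRingCat.of k))]
    (hX : Curve.IsSmoothProperCurve k X (X ↘ Spec (CommRingCat.of k))) (hg : Curv2.genus k X = 1)
    (P : Spec (CommRingCat.of k) ⟶ X) (hP : P ≫ (X ↘ Spec (CommRingCat.of k)) = 𝟙 _)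
    (A : ArtFun.Art k k) :
    Function.Surjective ((PtDefo.forgetPts (Λ := k) X (X ↘ Spec (CommRingCat.of k)) (fun _ : PUnit.{u + 1} => P)).app A) := by
  intro c
  induction c using Quotient.inductionOn with | h ξ => ?_
  haveI : Smooth (X ↘ Spec (CommRingCat.of k)) := hX.2.1
  have hker : RingHom.ker A.res.toRingHom = IsLocalRing.maximalIdeal A :=
    Ideal.ext fun a => (ArtFun.Art.mem_maximalIdeal_iff A a).symm
  obtain ⟨n, hn⟩ := IsArtinianRing.isNilpotent_jacobson_bot (R := A)
  rw [IsLocalRing.jacobson_eq_maximalIdeal ⊥ bot_ne_top] at hn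
  have hnil : IsNilpotent (RingHom.ker A.res.toRingHom) := ⟨n, by rw [hker]; exact hn⟩
  have hpow : RingHom.ker A.res.toRingHom ^ (2 ^ n) = ⊥ := by
    refine eq_bot_iff.2 ((Ideal.pow_le_pow_right (Nat.lt_two_pow_self).le).trans ?_)
    rw [hker, hn, Ideal.zero_eq_bot]
  haveI : Smooth ξ.f := Lib.PtDefo16.smooth_of_pow_eq_bot n _ A.res_surjective hpow ξ.flat ξ.isPullback
  obtain ⟨s, hs, hs'⟩ := Lib.PtDefo16.exists_section A.res.toRingHom A.res_surjective hnil ξ.f (P ≫ ξ.i)
    (by rw [Category.assoc, ξ.isPullback.w, reassoc_of% hP])
  exact ⟨PtDefo.DefSch.cl { toDefSch := ξ, sect := fun _ => s, sect_f := fun _ => hs, pt_sect := fun _ => hs'.symm }, rfl⟩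

end Groth.Agent.S16215
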