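import Groth.Statements.S16216
import Groth.Agent.H34.Elliptic.OverField
import Groth.Agent.H34.AbelMono
import Groth.Agent.Lib.PtDefo16.SmoothLift
import Groth.Agent.H30.SysLemmas
import Groth.Agent.S2500
import Groth.Agent.H2.Rigid.GeomIrred
-- import your own Groth.Agent.* helpers here

set_option autoImplicit false
universe u
open CategoryTheory CategoryTheory.Limits AlgebraicGeometry
open PtDefo

namespace Groth.Agent.S16216

open Groth.Agent Groth.Agent.Lib H34.Elliptic MonoidalCategory CartesianMonoidalCategory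
open scoped CategoryTheory.MonObj

noncomputable section

variable {k : Type u} [Field k] {A : ArtFun.Art k k}

theorem isNilpotent_ker (A : ArtFun.Art k k) : ∃ n : ℕ,
    RingHom.ker A.res.toRingHom ^ (2 ^ n) = ⊥ := by
  have hker : RingHom.ker A.res.toRingHom = IsLocalRing.maximalIdeal A :=
    Ideal.ext fun a => (ArtFun.Art.mem_maximalIdeal_iff A a).symm
  obtain ⟨n, hn⟩ := IsArtinianRing.isNilpotent_jacobson_bot (R := A)
  rw [IsLocalRing.jacobson_eq_maximalIdeal ⊥ bot_ne_top] at hn
  refine ⟨n, eq_bot_iff.2 ((Ideal.pow_le_pow_right (Nat.lt_two_pow_self).le).trans ?_)⟩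
  rw [hker, hn, Ideal.zero_eq_bot]

theorem exists_lift_point {K : Type u} [Field K]
    (y : Spec (CommRingCat.of K) ⟶ ArtFun.Art.spec A) :
    ∃ y₀ : Spec (CommRingCat.of K) ⟶ ArtFun.Art.specPt k, y₀ ≫ ArtFun.Art.specRes A = y := by
  obtain ⟨φ, rfl⟩ := Spec.map_surjective y
  obtain ⟨n, hn⟩ := isNilpotent_ker A
  have hle : RingHom.ker A.res.toRingHom ≤ RingHom.ker φ.hom := fun a ha => by
    have h0 : a ^ (2 ^ n) = 0 := by
      have := Ideal.pow_mem_pow ha (2 ^ n)
      rwa [hn, Ideal.mem_bot] at this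
    have h1 : φ.hom a ^ (2 ^ n) = 0 := by rw [← map_pow, h0, map_zero]
    exact RingHom.mem_ker.2 (eq_zero_of_pow_eq_zero h1)
  refine ⟨Spec.map (CommRingCat.ofHom
    (A.res.toRingHom.liftOfSurjective A.res_surjective ⟨φ.hom, hle⟩)), ?_⟩
  rw [← Spec.map_comp, ← CommRingCat.ofHom_comp]
  congr 1
  exact CommRingCat.hom_ext (RingHom.liftOfSurjective_comp _ _ _)

variable {X : Scheme.{u}} {x : X ⟶ ArtFun.Art.specPt k}

theorem fam [IsAlgClosed k] (hX : Curve.IsSmoothProperCurve k X x)
    (hg : letI : X.Over (Spec (CommRingCat.of k)) := ⟨x⟩; Curv2.genus k X = 1)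
    (ξ : ArtFun.DefSch X x A) : Point.Fam ξ.f := by
  obtain ⟨hp, hsm, hint, hd⟩ := hX
  haveI := hp; haveI := hsm; haveI := hint
  haveI := S2500.result x
  haveI := H2.Rigid.GeomIrred.geometricallyConnected x
  have h₀ : Point.Fam x := OverField.fam x hd hg
  obtain ⟨n, hn⟩ := isNilpotent_ker A
  haveI : Smooth ξ.f := PtDefo16.smooth_of_pow_eq_bot n _ A.res_surjective hn ξ.flat ξ.isPullback
  haveI : IsClosedImmersion (ArtFun.Art.specRes A) :=
    IsClosedImmersion.spec_of_surjective _ A.res_surjective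
  have hsub : Subsingleton (PrimeSpectrum A) := inferInstance
  haveI : Surjective (ArtFun.Art.specRes A) := ⟨fun z =>
    ⟨IsLocalRing.closedPoint k, Subsingleton.elim (α := PrimeSpectrum A) _ _⟩⟩
  haveI : IsNoetherianRing (CommRingCat.of (A : Type u)) := inferInstanceAs (IsNoetherianRing A)
  haveI : IsLocallyNoetherian (ArtFun.Art.spec A) := inferInstance
  haveI : IsProper ξ.f := H30.SysLemmas.isProper_of_thickening ξ.isPullback
  refine ⟨‹_›, ‹_›, ⟨fun K _ y Q p q hQ => ?_⟩, fun s => ?_, fun s => ?_⟩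
  · obtain ⟨y₀, rfl⟩ := exists_lift_point y
    haveI : ConnectedSpace ↥(pullback x y₀) :=
      GeometricallyConnected.geometrically_connectedSpace (f := x) y₀ _ _ (.of_hasPullback x y₀)
    have h1 := (IsPullback.of_hasPullback x y₀).flip.paste_vert ξ.isPullback.flip
    exact (Scheme.homeoOfIso (hQ.isoIsPullback _ _ h1.flip)).symm.connectedSpace_iff.1 inferInstance
  · obtain ⟨t, rfl⟩ := (ArtFun.Art.specRes A).surjective s
    exact (H34.AbelMono.dim_fiber_baseChange ξ.f ξ.isPullback t).symm.trans (h₀.dim t)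
  · obtain ⟨t, rfl⟩ := (ArtFun.Art.specRes A).surjective s
    have hO := TensorMod.LocFree.of_rank (TensorMod.LocFree.of_isInvertible
      (PicLoc.isInvertible_structureModule ξ.total))
    haveI : (Coh.structureModule ξ.total).IsQuasicoherent :=
      TensorMod.QCohInv.isQCoh_of_isInvertible (PicLoc.isInvertible_structureModule _)
    refine (ExchangeFP29.FieldPoint.fiberRank_baseChange ξ.f (Coh.structureModule ξ.total)
      (TensorMod.FPConv.isFP_of_isFinLocFree hO)
      (_root_.ZarCoh.Exchange.NearFibre.isFlatOver_of_isFinLocFree ξ.f hO) _ ξ.i x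
      ξ.isPullback 1 t).symm.trans ?_
    exact (H34.PicDegree.fiberRank_congr _ (PicLoc.pullbackStructureIso ξ.i) _ _).trans (h₀.genus t)

/-- Two sections through one point are exchanged by a translation. -/
theorem exists_translation (ξ : ArtFun.DefSch X x A) (h : Point.Fam ξ.f)
    (P : ArtFun.Art.specPt k ⟶ X) (s t : ArtFun.Art.spec A ⟶ ξ.total) (hs : s ≫ ξ.f = 𝟙 _)
    (ht : t ≫ ξ.f = 𝟙 _) (hs' : P ≫ ξ.i = ArtFun.Art.specRes A ≫ s)
    (ht' : P ≫ ξ.i = ArtFun.Art.specRes A ≫ t) :
    ∃ e : ArtFun.DefSch.Iso ξ ξ, s ≫ e.iso.hom = t := by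
  letI := Group.grpObj h s hs
  let E : Over (ArtFun.Art.spec A) := Over.mk ξ.f
  let s' : 𝟙_ (Over (ArtFun.Art.spec A)) ⟶ E := Over.homMk s hs
  let t' : 𝟙_ (Over (ArtFun.Art.spec A)) ⟶ E := Over.homMk t ht
  have hone : η[E] = s' := Over.OverMorphism.ext (Group.grpObj_one h s hs)
  have h1 : (1 : 𝟙_ (Over (ArtFun.Art.spec A)) ⟶ E) = s' := by
    rw [Hom.one_def, toUnit_unit, Category.id_comp, hone]
  let c : E ⟶ E := toUnit E ≫ t'
  let τ : E ⟶ E := 𝟙 E * c
  let τ' : E ⟶ E := 𝟙 E * c⁻¹
  have hc : ∀ g : E ⟶ E, g ≫ c = c := fun g => by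
    rw [← Category.assoc, comp_toUnit]
  let τi : E ≅ E := ⟨τ, τ', by
    rw [MonObj.comp_mul, Category.comp_id, GrpObj.comp_inv, hc, mul_inv_cancel_right], by
    rw [MonObj.comp_mul, Category.comp_id, hc, inv_mul_cancel_right]⟩
  have hsτ : s' ≫ τ = t' := by
    rw [MonObj.comp_mul, Category.comp_id, ← h1, one_mul, ← Category.assoc, comp_toUnit,
      toUnit_unit, Category.id_comp]
  let i' : Over.mk (x ≫ ArtFun.Art.specRes A) ⟶ E := Over.homMk ξ.i ξ.isPullback.w
  have hiτ : i' ≫ τ = i' := by
    have hP : toUnit (Over.mk (x ≫ ArtFun.Art.specRes A)) ≫ t' =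
        toUnit (Over.mk (x ≫ ArtFun.Art.specRes A)) ≫ s' := by
      refine Over.OverMorphism.ext ?_
      show (x ≫ ArtFun.Art.specRes A) ≫ t = (x ≫ ArtFun.Art.specRes A) ≫ s
      rw [Category.assoc, Category.assoc, ← hs', ← ht']
    rw [MonObj.comp_mul, Category.comp_id, ← Category.assoc, comp_toUnit, hP, ← h1, MonObj.comp_one,
      mul_one]
  exact ⟨⟨(Over.forget _).mapIso τi, Over.w τ, congrArg (·.left) hiτ⟩, congrArg (·.left) hsτ⟩

end

/-- Let k be an algebraically closed field of characteristic neither 2 nor 3, C a smooth proper integral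
curve of genus one over k and P a rational point of C. For every local Artinian k-algebra A with
residue field k the forgetful map, from isomorphism classes of deformations of the pointed curve (C,
P) over A (deformations of C over A with a section through P) to isomorphism classes of deformations
of C over A, is injective: two sections through P of one deformation of C over A are exchanged by an
automorphism of that deformation inducing the identity on C. Genus one is essential here; for genus
at least two it fails. (The characteristic assumption is the standing one of the source's section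
and plays no role.) -/
theorem result
    {k : Type u} [Field k] [IsAlgClosed k] (h2 : (2 : k) ≠ 0) (h3 : (3 : k) ≠ 0)
    (X : Scheme.{u}) [X.Over (Spec (CommRingCat.of k))]
    (hX : Curve.IsSmoothProperCurve k X (X ↘ Spec (CommRingCat.of k))) (hg : Curv2.genus k X = 1)
    (P : Spec (CommRingCat.of k) ⟶ X) (hP : P ≫ (X ↘ Spec (CommRingCat.of k)) = 𝟙 _)
    (A : ArtFun.Art k k) :
    Function.Injective ((PtDefo.forgetPts (Λ := k) X (X ↘ Spec (CommRingCat.of k)) (fun _ : PUnit.{u + 1} => P)).app A) := by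
  intro a b hab
  induction a using Quotient.inductionOn with | h ξ => ?_
  induction b using Quotient.inductionOn with | h ξ' => ?_
  obtain ⟨e⟩ := Quotient.exact hab
  let j : PUnit.{u + 1} := PUnit.unit
  obtain ⟨τ, hτ⟩ := exists_translation ξ'.toDefSch (fam hX hg ξ'.toDefSch) P (ξ.sect j ≫ e.iso.hom)
    (ξ'.sect j) (by rw [Category.assoc, e.hom_f, ξ.sect_f]) (ξ'.sect_f j)
    (by
      rw [← Category.assoc, ← ξ.pt_sect j, Category.assoc, e.i_hom]) (ξ'.pt_sect j)
  refine Quotient.sound ⟨⟨e.trans τ, fun l => ?_⟩⟩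
  obtain rfl : l = j := Subsingleton.elim _ _
  show ξ.sect j ≫ (e.iso ≪≫ τ.iso).hom = ξ'.sect j
  rw [Iso.trans_hom, ← Category.assoc, hτ]

end Groth.Agent.S16216
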