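import Groth.Statements.S16218
import Groth.Agent.H58Mg0.Ext
import Groth.Agent.Lib.EssDimM0.Curve
import Groth.Agent.S11473
-- import your own Groth.Agent.* helpers here

set_option autoImplicit false
universe u
open CategoryTheory CategoryTheory.Limits AlgebraicGeometry
open Curves

set_option linter.style.haveILetI false
set_option backward.isDefEq.respectTransparency false
open Groth.Agent.Lib Groth.Agent.Lib.EssDimM0

namespace Groth.Agent.S16218

/-- Curves of genus `g` are stable under base change. -/
theorem isCurveOfGenus_bc {g : ℕ} {C T T' : Scheme.{u}} (p : C ⟶ T) (hp : ModFun.IsCurveOfGenus g p)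
    (h : T' ⟶ T) : ModFun.IsCurveOfGenus g (pullback.snd p h) := by
  refine ⟨MorphismProperty.pullback_snd (P := @Smooth) _ _ hp.1,
    MorphismProperty.pullback_snd (P := @IsProper) _ _ hp.2.1,
    MorphismProperty.pullback_snd (P := @GeometricallyIrreducible) _ _ hp.2.2.1, fun Ω _ _ t X i q hsq => ?_⟩
  exact hp.2.2.2 Ω (t ≫ h) X (i ≫ pullback.fst p h) q (hsq.paste_horiz (IsPullback.of_hasPullback p h))

/-- The projective line. -/
noncomputable def line (k : Type u) [Field k] : Over (Spec (CommRingCat.of k)) :=
  Over.mk (CohB1.ProjSpace.toSpec 1 k)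

/-- A family of genus zero curves over an Artinian local algebra is the constant family. -/
theorem trivial_over_artinian {k : Type u} [Field k] [IsAlgClosed k] (A : Type u) [CommRing A]
    [IsArtinianRing A] [IsLocalRing A] (φ : k →+* A) (hfin : φ.FiniteType)
    (C : Over (Spec (CommRingCat.of A))) (hC : ModFun.IsCurveOfGenus 0 C.hom) :
    Nonempty (C ≅ (Over.pullback (Spec.map (CommRingCat.ofHom φ))).obj (line k)) := by
  letI : Algebra k A := φ.toAlgebra
  haveI : Algebra.FiniteType k A := hfin
  let K := IsLocalRing.ResidueField A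
  haveI : Algebra.FiniteType k K :=
    Algebra.FiniteType.of_surjective (IsScalarTower.toAlgHom k A K) IsLocalRing.residue_surjective
  haveI : Module.Finite k K := finite_of_finite_type_of_isJacobsonRing k K
  haveI : IsAlgClosed K :=
    IsAlgClosed.of_ringEquiv k K (RingEquiv.ofBijective (algebraMap k K)
      (IsAlgClosed.algebraMap_bijective_of_isIntegral (k := k) (K := K)))
  let r := Spec.map (CommRingCat.ofHom (IsLocalRing.residue A))
  letI : (pullback C.hom r).Over (Spec (CommRingCat.of K)) := ⟨pullback.snd C.hom r⟩
  obtain ⟨hint, hd, hg⟩ := Curve.integral_dim_genus K (C := pullback C.hom r) 0 (isCurveOfGenus_bc C.hom hC r)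
  haveI : Smooth C.hom := hC.1
  haveI : IsProper C.hom := hC.2.1
  obtain ⟨e, he⟩ := Groth.Agent.S11473.result A C.hom hint hd hg
  let sq := ProjSpace.BaseChange.isPullback_projMap 1 φ
  refine ⟨Over.isoMk (e ≪≫ sq.isoPullback) ?_⟩
  show (e.hom ≫ sq.isoPullback.hom) ≫ pullback.snd _ _ = C.hom
  rw [Category.assoc, sq.isoPullback_hom_snd, he]

/-- Let k be an algebraically closed field. For the moduli problem of curves of genus 0 over k-schemes
(smooth proper geometrically irreducible morphisms whose geometric fibres are one-dimensional of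
genus 0, up to isomorphism over the base), the point M = Spec k with the morphism φ sending each
family over T to the structure morphism of T satisfies: (b) every morphism ψ from the problem to a
functor of points h_N, both taken on test schemes of finite type over k, factors as φ followed by a
unique k-morphism Spec k → N; and (a) φ is bijective on geometric points: over every algebraically
closed field Ω over k there is a family of genus-0 curves over Spec Ω and any two are isomorphic. In
particular Spec k is a coarse moduli scheme for curves of genus 0 in this sense (universal property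
for test schemes of finite type over k), and the family over Spec k in (a) is a tautological family.
(The published statement asserts the universal property (b) for all k-schemes as test schemes and
for families projective over the base; its proof treats test schemes of finite type over k,
indicating the general case only in outline, so (b) is stated for finite-type test schemes here, and
properness replaces projectivity, which changes nothing in the argument. Since Spec k is terminal
among k-schemes, φ is unique and is quantified existentially.) -/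
theorem result
    {k : Type u} [Field k] [IsAlgClosed k] :
    ∃ φ : (ModFun.Mg (Spec (CommRingCat.of k)) 0).Hom ⊤ (Over.mk (𝟙 (Spec (CommRingCat.of k)))),
      ModFun.IsBestApprox
          (fun T : Over (Spec (CommRingCat.of k)) => LocallyOfFiniteType T.hom ∧ QuasiCompact T.hom)
          (ModFun.Mg (Spec (CommRingCat.of k)) 0) (Over.mk (𝟙 (Spec (CommRingCat.of k)))) (φ.ofLE le_top) ∧
        ModFun.GeomBij (ModFun.Mg (Spec (CommRingCat.of k)) 0) (Over.mk (𝟙 (Spec (CommRingCat.of k)))) φ := by
  let pt : Over (Spec (CommRingCat.of k)) := Over.mk (𝟙 (Spec (CommRingCat.of k)))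
  have hterm : ∀ {T : Over (Spec (CommRingCat.of k))} (a b : T ⟶ pt), a = b := fun a b => by
    apply Over.OverMorphism.ext
    have ha := Over.w a
    have hb := Over.w b
    simp only [pt, Over.mk_hom, Category.comp_id] at ha hb
    exact ha.trans hb.symm
  let φ : (ModFun.Mg (Spec (CommRingCat.of k)) 0).Hom ⊤ pt :=
    { app := fun T _ _ _ => Over.homMk T.hom (Category.comp_id _)
      natural := fun _ _ _ _ _ _ => hterm _ _
      resp := fun _ _ _ _ _ _ => hterm _ _ }
  let φ' := φ.ofLE (P' := fun T : Over (Spec (CommRingCat.of k)) => LocallyOfFiniteType T.hom ∧ QuasiCompact T.hom) le_top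
  refine ⟨φ, ?_, ?_⟩
  · intro N ψ
    have hptP : LocallyOfFiniteType pt.hom ∧ QuasiCompact pt.hom :=
      ⟨inferInstanceAs (LocallyOfFiniteType (𝟙 _)), inferInstanceAs (QuasiCompact (𝟙 _))⟩
    have hL0 : (ModFun.Mg (Spec (CommRingCat.of k)) 0).ok pt (line k) :=
      ⟨trivial, Curve.isCurveOfGenus_line k⟩
    let f₀ : pt ⟶ N := ψ.app pt (line k) hptP hL0
    refine ⟨f₀, fun T x hT hx => ?_, fun f hf => ?_⟩
    · haveI : LocallyOfFiniteType T.hom := hT.1
      haveI : IsLocallyNoetherian T.left := LocallyOfFiniteType.isLocallyNoetherian T.hom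
      haveI : JacobsonSpace T.left := LocallyOfFiniteType.jacobsonSpace T.hom
      apply Over.OverMorphism.ext
      refine H58Mg0.Ext.hom_ext_of_thick N.hom _ _ (by rw [Over.w, Over.w]) fun U hU m hm n => ?_
      let A := Γ(T.left, U) ⧸ m ^ (n + 1)
      let j : Spec (CommRingCat.of A) ⟶ T.left :=
        Spec.map (CommRingCat.ofHom (Ideal.Quotient.mk (m ^ (n + 1)))) ≫ hU.fromSpec
      haveI : IsClosedImmersion (Spec.map (CommRingCat.ofHom (Ideal.Quotient.mk (m ^ (n + 1))))) :=
        IsClosedImmersion.spec_of_surjective _ Ideal.Quotient.mk_surjective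
      haveI : LocallyOfFiniteType j := inferInstanceAs (LocallyOfFiniteType (_ ≫ _))
      let T' : Over (Spec (CommRingCat.of k)) := Over.mk (j ≫ T.hom)
      let g : T' ⟶ T := Over.homMk j rfl
      have hT' : LocallyOfFiniteType T'.hom ∧ QuasiCompact T'.hom :=
        ⟨inferInstanceAs (LocallyOfFiniteType (j ≫ T.hom)), inferInstanceAs (QuasiCompact (j ≫ T.hom))⟩
      let φA : k →+* A := (Spec.preimage (j ≫ T.hom)).hom
      have hφA : Spec.map (CommRingCat.ofHom φA) = j ≫ T.hom := Spec.map_preimage _
      have hfin : φA.FiniteType := by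
        have : LocallyOfFiniteType (Spec.map (CommRingCat.ofHom φA)) := by rw [hφA]; exact hT'.1
        exact (HasRingHomProperty.Spec_iff (P := @LocallyOfFiniteType)).1 this
      haveI : IsNoetherianRing Γ(T.left, U) := IsLocallyNoetherian.component_noetherian ⟨U, hU⟩
      haveI : Nontrivial A := Ideal.Quotient.nontrivial_iff.2 fun h =>
        hm.ne_top (top_le_iff.1 (h ▸ Ideal.pow_le_self (Nat.succ_ne_zero n)))
      haveI : IsLocalRing A := IsLocalRing.of_unique_max_ideal
        ⟨m.map (Ideal.Quotient.mk (m ^ (n + 1))),
          Ideal.IsMaximal.map_of_surjective_of_ker_le Ideal.Quotient.mk_surjective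
            (by rw [Ideal.mk_ker]; exact Ideal.pow_le_self (Nat.succ_ne_zero n)),
          fun M hM => by
            have hc : (M.comap (Ideal.Quotient.mk (m ^ (n + 1)))).IsMaximal :=
              Ideal.comap_isMaximal_of_surjective _ Ideal.Quotient.mk_surjective
            have hle : m ≤ M.comap (Ideal.Quotient.mk (m ^ (n + 1))) := by
              refine hc.isPrime.le_of_pow_le (n := n + 1) fun z hz => ?_
              show Ideal.Quotient.mk _ z ∈ M
              rw [Ideal.Quotient.eq_zero_iff_mem.2 hz]
              exact M.zero_mem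
            exact ((congrArg (Ideal.map (Ideal.Quotient.mk (m ^ (n + 1)))) (hm.eq_of_le hc.ne_top hle)).trans
              (Ideal.map_comap_of_surjective _ Ideal.Quotient.mk_surjective M)).symm⟩
      haveI : IsArtinianRing A := by
        refine (isArtinianRing_iff_isNilpotent_maximalIdeal A).2 ⟨n + 1, ?_⟩
        rw [← IsLocalRing.eq_maximalIdeal (Ideal.IsMaximal.map_of_surjective_of_ker_le
          (m := m) (f := Ideal.Quotient.mk (m ^ (n + 1))) Ideal.Quotient.mk_surjective
            (by rw [Ideal.mk_ker]; exact Ideal.pow_le_self (Nat.succ_ne_zero n))), ← Ideal.map_pow]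
        exact Ideal.map_quotient_self _
      let π : T' ⟶ pt := Over.homMk T'.hom (Category.comp_id _)
      have hx' : (ModFun.Mg (Spec (CommRingCat.of k)) 0).ok T'
          ((ModFun.Mg (Spec (CommRingCat.of k)) 0).pull g x) := ⟨trivial, isCurveOfGenus_bc _ hx.2 j⟩
      have hx0 : (ModFun.Mg (Spec (CommRingCat.of k)) 0).ok T'
          ((ModFun.Mg (Spec (CommRingCat.of k)) 0).pull π (line k)) :=
        ⟨trivial, isCurveOfGenus_bc _ hL0.2 π.left⟩
      obtain ⟨e⟩ := trivial_over_artinian A φA hfin _ hx'.2
      have hr : (ModFun.Mg (Spec (CommRingCat.of k)) 0).r T'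
          ((ModFun.Mg (Spec (CommRingCat.of k)) 0).pull g x)
          ((ModFun.Mg (Spec (CommRingCat.of k)) 0).pull π (line k)) := by
        refine ⟨e ≪≫ eqToIso ?_⟩
        rw [hφA]
        rfl
      have h1 := ψ.natural g x hT hT' hx hx'
      have h2 := ψ.natural π (line k) hptP hT' hL0 hx0
      have h3 : g ≫ ψ.app T x hT hx = g ≫ (φ'.app T x hT hx ≫ f₀) := by
        rw [← h1, ψ.resp _ _ hT' hx' hx0 hr, h2, ← Category.assoc]
        exact congrArg (· ≫ f₀) (hterm _ _)
      exact congrArg CommaMorphism.left h3
    · have h1 := hf pt (line k) hptP hL0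
      rw [show φ'.app pt (line k) hptP hL0 = 𝟙 pt from hterm _ _, Category.id_comp] at h1
      exact h1.symm
  · intro Ω _ _ t hP
    refine ⟨fun g => ⟨line Ω, ⟨trivial, Curve.isCurveOfGenus_line Ω⟩, hterm _ _⟩, fun x y hx hy _ => ?_⟩
    have key : ∀ (C : Over (Spec (CommRingCat.of Ω))), ModFun.IsCurveOfGenus 0 C.hom → Nonempty (C ≅ line Ω) := by
      intro C hC
      letI : C.left.Over (Spec (CommRingCat.of Ω)) := ⟨C.hom⟩
      obtain ⟨hint, -, -⟩ := Curve.integral_dim_genus Ω (C := C.left) 0 hC
      haveI := hint
      haveI : IsProper C.hom := hC.2.1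
      haveI : JacobsonSpace C.left := LocallyOfFiniteType.jacobsonSpace C.hom
      obtain ⟨z, -, hz⟩ := nonempty_inter_closedPoints (Z := (Set.univ : Set C.left)) Set.univ_nonempty
        isClosed_univ.isLocallyClosed
      obtain ⟨e, he⟩ := Curve.exists_iso_line Ω C.hom hC (pointOfClosedPoint C.hom z hz)
        (pointOfClosedPoint_comp C.hom z hz)
      exact ⟨Over.isoMk e he⟩
    obtain ⟨e1⟩ := key x hx.2
    obtain ⟨e2⟩ := key y hy.2
    exact ⟨e1 ≪≫ e2.symm⟩

end Groth.Agent.S16218
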