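import Groth.Statements.S16219
import Groth.Agent.H69.DominantLimit
import Mathlib.Algebra.Category.Ring.FilteredColimits
import Mathlib.CategoryTheory.Limits.Types.Filtered
-- import your own Groth.Agent.* helpers here

set_option autoImplicit false
universe u
open Lim

namespace Groth.Agent.S16219

set_option backward.isDefEq.respectTransparency false

open AlgebraicGeometry CategoryTheory in
/-- Let A be a commutative ring, X a scheme of finite type over Spec A (quasi-compact and locally of
finite type), C an A-algebra that is an integral domain and the union of a directed family of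
A-subalgebras C_i, and g : Spec C → X an A-morphism. Then for some index i there is an A-morphism
Spec C_i → X whose composite with the morphism Spec C → Spec C_i induced by the inclusion is g. The
published statement asserts that the map from the colimit of the sets of A-morphisms Spec C_i → X to
the set of A-morphisms Spec C → X is bijective; this row states only that it is surjective
(injectivity holds for every filtered colimit of A-algebras). -/
theorem result
    {ι : Type u} (A C : Type u) [CommRing A] [CommRing C] [Algebra A C] [IsDomain C]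
    (S : ι → Subalgebra A C) (hdir : Directed (· ≤ ·) S) (hcov : ∀ c : C, ∃ i, c ∈ S i)
    (X : Scheme.{u}) (f : X ⟶ Spec (CommRingCat.of A))
    [LocallyOfFiniteType f] [QuasiCompact f]
    (g : Spec (CommRingCat.of C) ⟶ X)
    (hg : g ≫ f = Spec.map (CommRingCat.ofHom (algebraMap A C))) :
    ∃ (i : ι) (g' : Spec (CommRingCat.of (S i)) ⟶ X),
      g' ≫ f = Spec.map (CommRingCat.ofHom (algebraMap A (S i))) ∧
      Spec.map (CommRingCat.ofHom (S i).val.toRingHom) ≫ g' = g := by
  let : Preorder ι := Preorder.lift S
  have : Nonempty ι := (hcov 0).nonempty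
  have : IsDirected ι (fun a b => a ≤ b) := ⟨fun a b => by
    obtain ⟨k, hk⟩ := hdir a b
    exact ⟨k, hk⟩⟩
  have : IsFiltered ι := isFiltered_of_directed_le_nonempty ι
  let R : ι ⥤ CommRingCat.{u} :=
    { obj := fun i => CommRingCat.of (S i)
      map := fun {i j} h => CommRingCat.ofHom (Subalgebra.inclusion (leOfHom h : i ≤ j)).toRingHom }
  let cR : Limits.Cocone R :=
    { pt := CommRingCat.of C
      ι := { app := fun i => CommRingCat.ofHom (S i).val.toRingHom
             naturality := fun _ _ _ => by ext x; rfl } }
  have hR : Limits.IsColimit cR := by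
    haveI : Limits.PreservesColimit R (forget CommRingCat.{u}) := inferInstance
    haveI : Limits.ReflectsColimit R (forget CommRingCat.{u}) :=
      Limits.reflectsColimit_of_reflectsIsomorphisms _ _
    apply Limits.isColimitOfReflects (forget CommRingCat.{u})
    refine Limits.Types.FilteredColimit.isColimitOf' _ _ (fun x => ?_) (fun i x y h => ?_)
    · obtain ⟨i, hi⟩ := hcov x
      exact ⟨i, ⟨x, hi⟩, rfl⟩
    · exact ⟨i, 𝟙 i, by rw [Subtype.ext (h : (x : S i).1 = y.1)]⟩
  let D : ιᵒᵖ ⥤ Scheme.{u} := R.op ⋙ Scheme.Spec
  let c : Limits.Cone D := Scheme.Spec.mapCone cR.op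
  have hc : Limits.IsLimit c := Limits.isLimitOfPreserves Scheme.Spec hR.op
  let t : D ⟶ (Functor.const ιᵒᵖ).obj (Spec (CommRingCat.of A)) :=
    { app := fun i => Spec.map (CommRingCat.ofHom (algebraMap A (S i.unop)))
      naturality := fun i j h => by
        refine Eq.trans ?_ (Category.comp_id _).symm
        exact (Spec.map_comp _ _).symm.trans (congrArg Spec.map (by ext x; rfl)) }
  have : ∀ {i j : ιᵒᵖ} (h : i ⟶ j), IsAffineHom (D.map h) := fun h =>
    inferInstanceAs (IsAffineHom (Spec.map _))
  have : ∀ i, CompactSpace (D.obj i) := fun i => inferInstanceAs (CompactSpace (Spec _))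
  have : ∀ i, QuasiSeparatedSpace (D.obj i) := fun i => inferInstanceAs (QuasiSeparatedSpace (Spec _))
  have : ∀ i, IsSchemeTheoreticallyDominant (c.π.app i) := fun i => by
    refine ⟨?_⟩
    show (Spec.map (cR.ι.app i.unop)).ker = ⊥
    rw [Scheme.ker_of_isAffine]
    suffices h : RingHom.ker (Spec.map (cR.ι.app i.unop)).appTop.hom = ⊥ by rw [h]; ext; simp
    rw [← RingHom.injective_iff_ker_eq_bot]
    intro x y h
    apply (Scheme.ΓSpecIso (R.obj i.unop)).commRingCatIsoToRingEquiv.injective
    have e := Scheme.ΓSpecIso_naturality (cR.ι.app i.unop)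
    exact Subtype.ext (((ConcreteCategory.congr_hom e x).symm.trans
      ((congrArg (Scheme.ΓSpecIso cR.pt).hom h).trans (ConcreteCategory.congr_hom e y))))
  obtain ⟨i, g', h1, h2⟩ := H69.DominantLimit.exists_comp_eq D t f c hc g (by
    ext i
    refine Eq.trans ?_ hg.symm
    exact (Spec.map_comp _ _).symm.trans (congrArg Spec.map (by ext x; rfl)))
  exact ⟨i.unop, g', h2, h1⟩

end Groth.Agent.S16219
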