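import Groth.Statements.S16224
import Groth.Agent.Lib.WittDesc.Descent

set_option autoImplicit false
open CategoryTheory Opposite
universe u
open CAlg

namespace Groth.Agent.S16224

/-- Let p be a prime, n a natural number, and R → R' a faithfully flat homomorphism of commutative rings
in which p is nilpotent; write W_n for truncated Witt vectors of length n. A descent datum of
W_n(R')-modules relative to R → R' is a W_n(R')-module M' with, for every ring T and every pair of
maps R' ⇉ T agreeing on R, an isomorphism between the two base changes of M' to W_n(T), natural in T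
and satisfying the cocycle condition (equivalently an isomorphism over W_n(R' ⊗_R R') with the
cocycle condition over W_n(R' ⊗_R R' ⊗_R R')); base change W_n(R') ⊗_{W_n(R)} M of a W_n(R)-module M
carries the canonical such datum. Then every descent datum whose underlying W_n(R')-module is
finitely generated and projective is isomorphic to the canonical datum of W_n(R') ⊗ M for some
finitely generated projective W_n(R)-module M. (Here W_n(R) → W_n(R') is in general not flat, so
this is not a case of faithfully flat descent.) -/
theorem result (p : ℕ) [Fact p.Prime] (n : ℕ)
    (R R' : Type u) [CommRing R] [CommRing R'] [Algebra R R'] [Module.FaithfullyFlat R R']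
    (hp : IsNilpotent (p : R))
    (D : (W4c3truncdispsmooth.wittModPF.{u} p n).DescentData (fun _ : PUnit.{u + 1} => (CommRingCat.ofHom (algebraMap R R')).op))
    [Module.Finite (TruncatedWittVector p n R') (W4c3truncdispsmooth.descObj D)]
    [Module.Projective (TruncatedWittVector p n R') (W4c3truncdispsmooth.descObj D)] :
    ∃ M : ModuleCat.{u} (TruncatedWittVector p n R),
      Module.Finite (TruncatedWittVector p n R) M ∧ Module.Projective (TruncatedWittVector p n R) M ∧
        Nonempty (((W4c3truncdispsmooth.wittModPF.{u} p n).toDescentData (fun _ : PUnit.{u + 1} => (CommRingCat.ofHom (algebraMap R R')).op)).obj M ≅ D) := by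
  have hF : Module.Finite ((Groth.Agent.Lib.WittDesc.Pseudo.WT.{u} p n).obj (CommRingCat.of R'))
      (Groth.Agent.Lib.WittDesc.Translate.dobj D) :=
    ‹Module.Finite (TruncatedWittVector p n R') (W4c3truncdispsmooth.descObj D)›
  have hP : Module.Projective ((Groth.Agent.Lib.WittDesc.Pseudo.WT.{u} p n).obj (CommRingCat.of R'))
      (Groth.Agent.Lib.WittDesc.Translate.dobj D) :=
    ‹Module.Projective (TruncatedWittVector p n R') (W4c3truncdispsmooth.descObj D)›
  obtain ⟨M, h1, h2, h3⟩ :=
    @Groth.Agent.Lib.WittDesc.Descent.effective p _ n R R' _ _ _ hp _ D hF hP
  exact ⟨M, h1, h2, h3⟩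

end Groth.Agent.S16224
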