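import Groth.Statements.S16225
import Mathlib.RingTheory.TensorProduct.IncludeLeftSubRight
import Mathlib.RingTheory.Flat.Basic
import Mathlib.RingTheory.Flat.FaithfullyFlat.Algebra

set_option autoImplicit false
open scoped TensorProduct
universe u v
open CAlg

namespace Groth.Agent.S16225

/-- Let p be a prime, n a natural number and R → R' a faithfully flat homomorphism of commutative rings
in which p is nilpotent. Regard W_n(R') and W_n(R' ⊗_R R') as W_n(R)-algebras through the
componentwise maps induced by R → R' and R → R' ⊗_R R', and let ψ₁, ψ₂ : W_n(R') → W_n(R' ⊗_R R') be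
the componentwise maps induced by the two inclusions of R' (these are W_n(R)-algebra maps). Then for
every flat W_n(R)-module M the sequence 0 → M → M ⊗_{W_n(R)} W_n(R') ⇉ M ⊗_{W_n(R)} W_n(R' ⊗_R R')
is exact: m ↦ m ⊗ 1 is injective and its image is the equalizer of id ⊗ ψ₁ and id ⊗ ψ₂. (This is the
beginning, in degrees 0 and 1, of a complex continued by the higher tensor powers of R', which the
published proof asserts to be exact throughout; W_n(R) → W_n(R') is not flat in general, so this is
not faithfully flat descent.) -/
theorem result (p : ℕ) [Fact p.Prime] (n : ℕ)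
    (R R' : Type u) [CommRing R] [CommRing R'] [Algebra R R'] [Module.FaithfullyFlat R R']
    (hp : IsNilpotent (p : R))
    [Algebra (TruncatedWittVector p n R) (TruncatedWittVector p n R')]
    (h₁ : algebraMap (TruncatedWittVector p n R) (TruncatedWittVector p n R') = WittGrp.truncMap p n (algebraMap R R'))
    [Algebra (TruncatedWittVector p n R) (TruncatedWittVector p n (TensorProduct R R' R'))]
    (h₂ : algebraMap (TruncatedWittVector p n R) (TruncatedWittVector p n (TensorProduct R R' R')) =
      WittGrp.truncMap p n (algebraMap R (TensorProduct R R' R')))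
    (ψ₁ ψ₂ : TruncatedWittVector p n R' →ₐ[TruncatedWittVector p n R] TruncatedWittVector p n (TensorProduct R R' R'))
    (hψ₁ : (ψ₁ : TruncatedWittVector p n R' →+* TruncatedWittVector p n (TensorProduct R R' R')) =
      WittGrp.truncMap p n (Algebra.TensorProduct.includeLeftRingHom : R' →+* TensorProduct R R' R'))
    (hψ₂ : (ψ₂ : TruncatedWittVector p n R' →+* TruncatedWittVector p n (TensorProduct R R' R')) =
      WittGrp.truncMap p n ((Algebra.TensorProduct.includeRight : R' →ₐ[R] TensorProduct R R' R') : R' →+* TensorProduct R R' R'))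
    (M : Type v) [AddCommGroup M] [Module (TruncatedWittVector p n R) M] [Module.Flat (TruncatedWittVector p n R) M] :
    Function.Injective (fun m : M => m ⊗ₜ[TruncatedWittVector p n R] (1 : TruncatedWittVector p n R')) ∧
      ∀ x : M ⊗[TruncatedWittVector p n R] TruncatedWittVector p n R',
        LinearMap.lTensor M ψ₁.toLinearMap x = LinearMap.lTensor M ψ₂.toLinearMap x →
          x ∈ Set.range (fun m : M => m ⊗ₜ[TruncatedWittVector p n R] (1 : TruncatedWittVector p n R')) := by
  classical
  have hinjR : Function.Injective (algebraMap R R') := FaithfulSMul.algebraMap_injective R R'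
  have hinj : Function.Injective (Algebra.linearMap (TruncatedWittVector p n R) (TruncatedWittVector p n R')) := by
    intro x y hxy
    change algebraMap _ (TruncatedWittVector p n R') x = algebraMap _ _ y at hxy
    rw [h₁] at hxy
    refine TruncatedWittVector.ext fun i => hinjR ?_
    simpa using congrArg (fun z => z.coeff i) hxy
  have hψ₁' : ∀ z i, (ψ₁ z).coeff i = (z.coeff i) ⊗ₜ[R] (1 : R') := fun z i => by
    rw [show ψ₁ z = WittGrp.truncMap p n (Algebra.TensorProduct.includeLeftRingHom : R' →+* TensorProduct R R' R') z from RingHom.congr_fun hψ₁ z,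
      WittGrp.coeff_truncMap]
    rfl
  have hψ₂' : ∀ z i, (ψ₂ z).coeff i = (1 : R') ⊗ₜ[R] (z.coeff i) := fun z i => by
    rw [show ψ₂ z = WittGrp.truncMap p n ((Algebra.TensorProduct.includeRight : R' →ₐ[R] TensorProduct R R' R') : R' →+* TensorProduct R R' R') z from RingHom.congr_fun hψ₂ z,
      WittGrp.coeff_truncMap]
    rfl
  have hex : Function.Exact (Algebra.linearMap (TruncatedWittVector p n R) (TruncatedWittVector p n R'))
      (ψ₁.toLinearMap - ψ₂.toLinearMap) := by
    intro z
    rw [LinearMap.sub_apply, sub_eq_zero]
    constructor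
    · intro hz
      have hc : ∀ i, ∃ r : R, algebraMap R R' r = z.coeff i := fun i => by
        have he := congrArg (fun w => w.coeff i) hz
        simp only [AlgHom.toLinearMap_apply, hψ₁', hψ₂'] at he
        refine Set.mem_range.mp ?_
        exact Algebra.IsEffective.eqLocus_includeLeft_includeRight (Algebra.IsEffective.of_faithfullyFlat R R') ▸ he
      choose r hr using hc
      refine ⟨TruncatedWittVector.mk p r, ?_⟩
      show algebraMap _ (TruncatedWittVector p n R') _ = z
      rw [h₁]
      exact TruncatedWittVector.ext fun i => by rw [WittGrp.coeff_truncMap, TruncatedWittVector.coeff_mk, hr]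
    · rintro ⟨w, rfl⟩
      show ψ₁ (algebraMap _ _ w) = ψ₂ (algebraMap _ _ w)
      rw [AlgHom.commutes, AlgHom.commutes]
  refine ⟨fun a b hab => ?_, fun x hx => ?_⟩
  · have h := Module.Flat.lTensor_preserves_injective_linearMap (M := M) _ hinj
      (a₁ := a ⊗ₜ (1 : TruncatedWittVector p n R)) (a₂ := b ⊗ₜ (1 : TruncatedWittVector p n R))
      (by simpa only [LinearMap.lTensor_tmul, Algebra.linearMap_apply, map_one] using hab)
    simpa using congrArg (TensorProduct.rid (TruncatedWittVector p n R) M) h
  · obtain ⟨w, hw⟩ := (Module.Flat.lTensor_exact M hex x).mp (by rw [LinearMap.lTensor_sub, LinearMap.sub_apply, hx, sub_self])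
    refine ⟨TensorProduct.rid _ M w, ?_⟩
    show (TensorProduct.rid (TruncatedWittVector p n R) M w) ⊗ₜ[TruncatedWittVector p n R] (1 : TruncatedWittVector p n R') = x
    rw [← hw]
    conv_rhs => rw [← (TensorProduct.rid (TruncatedWittVector p n R) M).symm_apply_apply w, TensorProduct.rid_symm_apply,
      LinearMap.lTensor_tmul, Algebra.linearMap_apply, map_one]

end Groth.Agent.S16225
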