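import Groth.Statements.S16226

import Groth.Agent.Lib.GrpSch.Basic
import Groth.Agent.S14541

set_option autoImplicit false
universe u
open CategoryTheory MonoidalCategory CartesianMonoidalCategory MonObj AlgebraicGeometry
open PrincBund

open CategoryTheory CategoryTheory.Limits MonoidalCategory CartesianMonoidalCategory MonObj AlgebraicGeometry

namespace Groth.Agent.S16226

open Groth.Agent.Lib.GrpSch Groth.Agent.S14541

/-- Let i : G → H be a homomorphism of group schemes over a base scheme S which is a closed immersion, F
an H-torsor over S for the etale topology with action aF, and π : F → Q a morphism of S-schemes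
exhibiting Q as the quotient F/G, in the sense that the square formed by the restricted action G ×_S
F → F, the projection G ×_S F → F and π twice is cartesian and π acquires sections etale-locally on
Q. Then for every section σ of Q over S there are a G-torsor E over S for the etale topology and an
i-equivariant morphism φ : E → F over S such that the square (φ, E → S; π, σ) is cartesian; that is,
σ comes from a reduction of the structure group of F to G. (Stated over an arbitrary base scheme and
for arbitrary group schemes; the quotient F/G is taken as data through its torsor property rather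
than constructed.) -/
theorem result
    {S : Scheme.{u}} {G H F Q : Over S} [GrpObj G] [GrpObj H]
    (i : G ⟶ H) [IsMonHom i] [IsClosedImmersion i.left]
    (aF : AlgGrp.Action H F) (hF : NonAbH1.IsTorsorFor Scheme.etalePrecoverage aF)
    (π : F ⟶ Q)
    (hsq : IsPullback (aF.restrict i).act (snd G F) π π)
    (hloc : NonAbH1.IsLocallyTrivialFor Scheme.etalePrecoverage (Over.mk π.left : Over Q.left))
    (σ : 𝟙_ (Over S) ⟶ Q) :
    ∃ (E : Over S) (aE : AlgGrp.Action G E) (φ : E ⟶ F),
      NonAbH1.IsTorsorFor Scheme.etalePrecoverage aE ∧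
      AlgGrp.Action.IsEquivariant aE (aF.restrict i) φ ∧
      IsPullback φ (toUnit E) π σ := by
  have hl : ∀ {V : Over S} (h : V ⟶ G) (x : V ⟶ F),
      lift h x ≫ (aF.restrict i).act = lift (h ≫ i) x ≫ aF.act := fun h x ↦ by
    change lift h x ≫ (i ▷ F) ≫ aF.act = _
    rw [lift_whiskerRight_assoc]
  have hπ : ∀ {V : Over S} (h : V ⟶ G) (x : V ⟶ F), (lift h x ≫ (aF.restrict i).act) ≫ π = x ≫ π := by
    intro V h x
    rw [Category.assoc, hsq.w, lift_snd_assoc]
  have sq := IsPullback.of_hasPullback π σ
  let E := pullback π σ
  let φ : E ⟶ F := pullback.fst π σ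
  have hsnd : pullback.snd π σ = toUnit E := toUnit_unique _ _
  rw [hsnd] at sq
  have hw : ((G ◁ φ) ≫ (aF.restrict i).act) ≫ π = toUnit (G ⊗ E) ≫ σ := by
    have := hπ (fst G E) (snd G E ≫ φ)
    rw [show G ◁ φ = lift (fst G E) (snd G E ≫ φ) from by
      apply CartesianMonoidalCategory.hom_ext <;> simp, this, Category.assoc, sq.w, ← Category.assoc,
      toUnit_unique (_ ≫ toUnit E) (toUnit (G ⊗ E))]
  let act : G ⊗ E ⟶ E := sq.lift _ _ hw
  have hact : act ≫ φ = (G ◁ φ) ≫ (aF.restrict i).act := sq.lift_fst _ _ _
  have hext : ∀ {V : Over S} {e e' : V ⟶ E}, e ≫ φ = e' ≫ φ → e = e' :=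
    fun h ↦ sq.hom_ext h (toUnit_unique _ _)
  let aE : AlgGrp.Action G E := actionMk act
    (fun V x ↦ hext (by rw [Category.assoc, hact, lift_whiskerLeft_assoc, act_one]))
    (fun V g h x ↦ hext (by
      simp only [Category.assoc, hact, lift_whiskerLeft_assoc]
      rw [act_mul]))
  refine ⟨E, aE, φ, ⟨?_, ?_⟩, hact, sq⟩
  · -- the shear map is an isomorphism
    change IsIso (lift act (snd G E))
    have hd : ((fst E E ≫ φ) ≫ π) = (snd E E ≫ φ) ≫ π := by
      rw [Category.assoc, sq.w, Category.assoc, sq.w, ← Category.assoc, ← Category.assoc]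
      congr 1
      exact toUnit_unique _ _
    let z := hsq.lift (fst E E ≫ φ) (snd E E ≫ φ) hd
    refine ⟨lift (z ≫ fst G F) (snd E E), ?_, ?_⟩
    · have : lift act (snd G E) ≫ z = G ◁ φ := hsq.hom_ext
        (by rw [Category.assoc, IsPullback.lift_fst, lift_fst_assoc, hact])
        (by rw [Category.assoc, IsPullback.lift_snd, lift_snd_assoc, whiskerLeft_snd])
      apply CartesianMonoidalCategory.hom_ext
      · rw [Category.assoc, lift_fst, ← Category.assoc, this, whiskerLeft_fst, Category.id_comp]
      · rw [Category.assoc, lift_snd, lift_snd, Category.id_comp]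
    · have hz : lift (z ≫ fst G F) (snd E E ≫ φ) = z := by
        apply CartesianMonoidalCategory.hom_ext
        · simp
        · rw [lift_snd, IsPullback.lift_snd]
      apply CartesianMonoidalCategory.hom_ext
      · rw [Category.assoc, lift_fst, Category.id_comp]
        refine hext ?_
        rw [Category.assoc, hact, lift_whiskerLeft_assoc, hz, IsPullback.lift_fst]
      · rw [Category.assoc, lift_snd, lift_snd, Category.id_comp]
  · obtain ⟨R, hR, hs⟩ := hloc
    obtain ⟨κ, T, g, rfl⟩ := R.exists_eq_ofArrows
    refine ⟨Presieve.ofArrows (fun j ↦ pullback σ.left (g j)) (fun j ↦ pullback.fst σ.left (g j)),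
      Precoverage.mem_coverings_of_isPullback (J := Scheme.precoverage @Etale) g hR σ.left _ _ (fun j ↦ IsPullback.of_hasPullback σ.left (g j)), ?_⟩
    rintro _ _ ⟨j⟩
    obtain ⟨t, ht⟩ := hs (g j) (Presieve.ofArrows.mk j)
    change t ≫ π.left = g j at ht
    let W : Over S := Over.mk (pullback.fst σ.left (g j))
    let x : W ⟶ F := Over.homMk (pullback.snd σ.left (g j) ≫ t) (by
      rw [← Over.w π, Category.assoc, ← Category.assoc t, ht, ← Category.assoc, ← pullback.condition,
        Category.assoc, Over.w σ]
      exact Category.comp_id _)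
    have hx : x ≫ π = toUnit W ≫ σ := Over.OverMorphism.ext (by
      change (pullback.snd σ.left (g j) ≫ t) ≫ π.left = _
      rw [Category.assoc, ht, ← pullback.condition, Over.comp_left]
      rfl)
    exact ⟨(sq.lift x _ hx).left, Over.w (sq.lift x _ hx)⟩

end Groth.Agent.S16226
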