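import Groth.Statements.S16227

import Groth.Agent.S14541

set_option autoImplicit false
universe u
open CategoryTheory MonoidalCategory CartesianMonoidalCategory MonObj AlgebraicGeometry
open PrincBund

open CategoryTheory CategoryTheory.Limits MonoidalCategory CartesianMonoidalCategory MonObj AlgebraicGeometry

namespace Groth.Agent.S16227

open Groth.Agent.Lib.GrpSch Groth.Agent.S14541

variable {S : Scheme.{u}} {G H F Q E : Over S} [GrpObj G] [GrpObj H]

theorem restrict_lift (i : G ⟶ H) [IsMonHom i] (aF : AlgGrp.Action H F) {V : Over S} (g : V ⟶ G) (x : V ⟶ F) :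
    lift g x ≫ (aF.restrict i).act = lift (g ≫ i) x ≫ aF.act := by
  change lift g x ≫ (i ▷ F) ≫ aF.act = _
  rw [lift_whiskerRight_assoc]

/-- Let i : G → H be a homomorphism of group schemes over a base scheme S which is a closed immersion, F
an H-torsor over S for the etale topology with action aF, and π : F → Q a morphism of S-schemes
exhibiting Q as the quotient F/G, in the sense that the square formed by the restricted action G ×_S
F → F, the projection G ×_S F → F and π twice is cartesian and π acquires sections etale-locally on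
Q. Then a reduction of the structure group of F to G, namely a G-torsor E over S for the etale
topology together with an i-equivariant morphism φ : E → F over S, determines a unique section σ of
Q over S such that the composite E → S → Q equals φ followed by π, and for this σ the square (φ, E →
S; π, σ) is cartesian, so that E is recovered as the pullback of F along σ. (Stated over an
arbitrary base scheme and for arbitrary group schemes; the quotient F/G is taken as data through its
torsor property rather than constructed.) -/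
theorem result
    {S : Scheme.{u}} {G H F Q : Over S} [GrpObj G] [GrpObj H]
    (i : G ⟶ H) [IsMonHom i] [IsClosedImmersion i.left]
    (aF : AlgGrp.Action H F) (hF : NonAbH1.IsTorsorFor Scheme.etalePrecoverage aF)
    (π : F ⟶ Q)
    (hsq : IsPullback (aF.restrict i).act (snd G F) π π)
    (hloc : NonAbH1.IsLocallyTrivialFor Scheme.etalePrecoverage (Over.mk π.left : Over Q.left))
    {E : Over S} (aE : AlgGrp.Action G E) (hE : NonAbH1.IsTorsorFor Scheme.etalePrecoverage aE)
    (φ : E ⟶ F) (hφ : AlgGrp.Action.IsEquivariant aE (aF.restrict i) φ) :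
    (∃! σ : 𝟙_ (Over S) ⟶ Q, toUnit E ≫ σ = φ ≫ π) ∧
      ∀ σ : 𝟙_ (Over S) ⟶ Q, toUnit E ≫ σ = φ ≫ π → IsPullback φ (toUnit E) π σ := by
  obtain ⟨ha, R, hR, hs⟩ := hE
  have hR' := Groth.Agent.Lib.TorsorSch.Descent.etalePrecoverage_le_fpqcPrecoverage _ hR
  obtain ⟨κ, T, g, rfl⟩ := R.exists_eq_ofArrows
  have hs' : ∀ j, ∃ s : Over.mk (g j) ⟶ E, True := fun j ↦
    let ⟨s, hsw⟩ := hs (g j) (Presieve.ofArrows.mk j)
    ⟨Over.homMk s hsw, trivial⟩
  choose s _ using hs'
  have hπ : ∀ {V : Over S} (h : V ⟶ G) (x : V ⟶ F), (lift h x ≫ (aF.restrict i).act) ≫ π = x ≫ π := by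
    intro V h x
    rw [Category.assoc, hsq.w, lift_snd_assoc]
  have hφ' : ∀ {V : Over S} (h : V ⟶ G) (e : V ⟶ E),
      (lift h e ≫ aE.act) ≫ φ = lift h (e ≫ φ) ≫ (aF.restrict i).act := by
    intro V h e
    rw [Category.assoc, show aE.act ≫ φ = (G ◁ φ) ≫ (aF.restrict i).act from hφ, lift_whiskerLeft_assoc]
  have hinv : ∀ {V : Over S} (e e' : V ⟶ E), (e ≫ φ) ≫ π = (e' ≫ φ) ≫ π := by
    intro V e e'
    obtain ⟨h, rfl⟩ := exists_act ha e e'
    rw [hφ', hπ]
  obtain ⟨σ, hσ, -⟩ := exists_glue (Y := 𝟙_ (Over S)) T g hR'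
    (fun j ↦ ((snd _ _ ≫ s j) ≫ φ) ≫ π) fun j l U x x' _ ↦ by
      have := hinv (x ≫ snd _ _ ≫ s j) (x' ≫ snd _ _ ≫ s l)
      simpa only [Category.assoc] using this
  have hσE : toUnit E ≫ σ = φ ≫ π := by
    refine eq_of_cover T g hR' fun j ↦ ?_
    have h1 : fst E (Over.mk (g j)) ≫ toUnit E = (toUnit E ▷ Over.mk (g j)) ≫ fst _ _ :=
      (whiskerRight_fst _ _).symm
    rw [reassoc_of% h1, hσ j]
    have := hinv (snd E (Over.mk (g j)) ≫ s j) (fst E (Over.mk (g j)))
    simp only [Category.assoc] at this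
    simp only [Category.assoc, whiskerRight_snd_assoc]
    exact this
  have huniq : ∀ σ' : 𝟙_ (Over S) ⟶ Q, toUnit E ≫ σ' = φ ≫ π → σ' = σ := by
    intro σ' h
    refine eq_of_cover T g hR' fun j ↦ ?_
    have h1 : fst (𝟙_ (Over S)) (Over.mk (g j)) = (snd _ _ ≫ s j) ≫ toUnit E := toUnit_unique _ _
    simp only [h1, Category.assoc, h, hσE]
  refine ⟨⟨σ, hσE, huniq⟩, fun σ' h ↦ ?_⟩
  obtain rfl := huniq σ' h
  have inj : ∀ {V : Over S} (e e' : V ⟶ E), e ≫ φ = e' ≫ φ → e = e' := by
    intro V e e' he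
    obtain ⟨h, rfl⟩ := exists_act ha e e'
    have e1 : lift h (e ≫ φ) ≫ (aF.restrict i).act = lift (1 : V ⟶ G) (e ≫ φ) ≫ (aF.restrict i).act := by
      rw [← hφ', ← he, Groth.Agent.Lib.GrpSch.act_one]
    have : lift h (e ≫ φ) = lift (1 : V ⟶ G) (e ≫ φ) :=
      hsq.hom_ext e1 (by rw [lift_snd, lift_snd])
    have h1 : h = 1 := by simpa using congr($this ≫ fst G F)
    rw [h1, Groth.Agent.Lib.GrpSch.act_one]
  have ex : ∀ {V : Over S} (x : V ⟶ F), x ≫ π = toUnit V ≫ σ' → ∃ e : V ⟶ E, e ≫ φ = x := by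
    intro V x hx
    have hloc : ∀ j, ∃ e : V ⊗ Over.mk (g j) ⟶ E, e ≫ φ = fst _ _ ≫ x := by
      intro j
      let e₀ := snd V (Over.mk (g j)) ≫ s j
      have h2 : (fst V (Over.mk (g j)) ≫ x) ≫ π = (e₀ ≫ φ) ≫ π := by
        rw [Category.assoc, hx, Category.assoc, ← hσE, ← Category.assoc, ← Category.assoc]
        congr 1
        exact toUnit_unique _ _
      refine ⟨lift (hsq.lift (fst V (Over.mk (g j)) ≫ x) (e₀ ≫ φ) h2 ≫ fst G F) e₀ ≫ aE.act, ?_⟩
      have h3 : lift (hsq.lift (fst V (Over.mk (g j)) ≫ x) (e₀ ≫ φ) h2 ≫ fst G F) (e₀ ≫ φ) =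
          hsq.lift (fst V (Over.mk (g j)) ≫ x) (e₀ ≫ φ) h2 := by
        apply CartesianMonoidalCategory.hom_ext
        · simp
        · rw [lift_snd, IsPullback.lift_snd]
      rw [hφ', h3, IsPullback.lift_fst]
    choose e he using hloc
    obtain ⟨Ψ, hΨ, -⟩ := exists_glue T g hR' e fun j l U a b hab ↦ inj _ _ (by
      rw [Category.assoc, Category.assoc, he, he, ← Category.assoc, ← Category.assoc, hab])
    refine ⟨Ψ, eq_of_cover T g hR' fun j ↦ ?_⟩
    rw [← Category.assoc, hΨ, he]
  exact IsPullback.of_isLimit' ⟨hσE.symm⟩ (PullbackCone.IsLimit.mk _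
    (fun c ↦ (ex c.fst (c.condition.trans (by rw [toUnit_unique c.snd (toUnit c.pt)]))).choose)
    (fun c ↦ (ex c.fst (c.condition.trans (by rw [toUnit_unique c.snd (toUnit c.pt)]))).choose_spec)
    (fun c ↦ toUnit_unique _ _)
    (fun c m hm _ ↦ inj _ _ (hm.trans
      (ex c.fst (c.condition.trans (by rw [toUnit_unique c.snd (toUnit c.pt)]))).choose_spec.symm)))

end Groth.Agent.S16227
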