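import Groth.Statements.S1623
import Groth.Agent.S0010
import Groth.Agent.Lib.BlowUpExists.Proper
import Mathlib.Algebra.Module.SpanRank

set_option autoImplicit false
universe u
open CategoryTheory CategoryTheory.Limits AlgebraicGeometry
open Resolve

namespace Groth.Agent.S1623

open Groth.Agent.Lib.BlowUpExists TopologicalSpace Opposite in
/-- A blow-up of an affine scheme in an ideal with `t` generators is covered by `t` affine opens. -/
theorem exists_affine_cover {Y X : Scheme.{u}} {I : Y.IdealSheafData} {b : X ⟶ Y}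
    (hb : BlowUp.IsBlowUp b I) (hY : IsAffineOpen (⊤ : Y.Opens)) {t : ℕ}
    (g : Fin t → Γ(Y, ⊤)) (hg : Ideal.span (Set.range g) = I.ideal ⟨⊤, hY⟩) :
    ∃ U : Fin t → X.Opens, (∀ i, IsAffineOpen (U i)) ∧ ⨆ i, U i = ⊤ := by
  obtain ⟨h, hh, -⟩ := hb.2 (bl I) (blProj I) (localData I).Q_proj
  obtain ⟨k, hk⟩ := (localData I).exists_hom b hb.1
  have e₁ : k ≫ h = 𝟙 X := (hb.2 X b hb.1).unique (by rw [Category.assoc, hh, hk]) (by simp)
  have e₂ : h ≫ k = 𝟙 (bl I) := (localData I).hom_ext (blProj I) (localData I).Q_proj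
    (by rw [Category.assoc, hk, hh]) (by simp)
  haveI : IsIso k := ⟨h, e₁, e₂⟩
  let ix : Fin t → Idx I := fun i => ⟨⟨⊤, hY⟩, g i, hg ▸ Ideal.subset_span ⟨i, rfl⟩⟩
  haveI : ∀ i, IsOpenImmersion (incl (ix i)) := fun i =>
    (localData I).glueData.ι_isOpenImmersion (ix i)
  haveI : ∀ i, IsAffine (chart (ix i)) := fun i => by unfold chart; infer_instance
  refine ⟨fun i => k ⁻¹ᵁ (incl (ix i)).opensRange,
    fun i => (isAffineOpen_opensRange (incl (ix i))).preimage_of_isIso k,
    eq_top_iff.mpr fun x _ => ?_⟩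
  obtain ⟨a, ha, hx⟩ := exists_mem_range_incl (k x) (U := ⟨⊤, hY⟩) trivial hg
  obtain ⟨i, rfl⟩ := ha
  exact Opens.mem_iSup.mpr ⟨i, hx⟩

/-- Let A be a regular local ring of dimension two and b : X → Spec A a blowing up in the maximal ideal.
For every quasi-coherent O_X-module F and every p ≥ 2, H^p(X, F) = 0. -/
theorem result (A : Type u) [CommRing A] [IsRegularLocalRing A] (hA : ringKrullDim A = 2)
    (X : Scheme.{u}) (b : X ⟶ Spec (CommRingCat.of A)) (hb : BlowUp.IsBlowUp b (Curv2.idealSheaf A (IsLocalRing.maximalIdeal A)))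
    (F : X.Modules) (hF : Coh.IsQCoh F) (p : ℕ) (hp : 2 ≤ p) : Subsingleton (Coh.HH X F p) := by
  obtain ⟨s, hs, hspan⟩ := Submodule.FG.exists_span_finset_card_eq_spanFinrank
    (IsNoetherian.noetherian (IsLocalRing.maximalIdeal A))
  have hs2 : s.card = 2 := by
    have h := IsRegularLocalRing.spanFinrank_maximalIdeal (R := A)
    rw [hA, ← hs] at h
    exact_mod_cast h
  let Y : Scheme.{u} := Spec (CommRingCat.of A)
  have hY : IsAffineOpen (⊤ : Y.Opens) := isAffineOpen_top Y
  let ψ : A →+* Γ(Y, ⊤) := ((Scheme.ΓSpecIso (CommRingCat.of A)).inv ≫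
    Y.presheaf.map (homOfLE (le_top : (⊤ : Y.Opens) ≤ ⊤)).op).hom
  let e : Fin s.card ≃ s := s.equivFin.symm
  have hg : Ideal.span (Set.range fun i => ψ (e i).1) =
      (Curv2.idealSheaf A (IsLocalRing.maximalIdeal A)).ideal ⟨⊤, hY⟩ := by
    have hr : (Set.range fun i => ψ (e i).1) = ψ '' (s : Set A) := by
      ext x
      constructor
      · rintro ⟨i, rfl⟩; exact ⟨_, (e i).2, rfl⟩
      · rintro ⟨a, ha, rfl⟩; exact ⟨e.symm ⟨a, ha⟩, by simp⟩
    rw [hr, ← Ideal.map_span, show Ideal.span (s : Set A) = IsLocalRing.maximalIdeal A from hspan,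
      Curv2.idealSheaf, Scheme.IdealSheafData.ofIdealTop_ideal, Ideal.map_map]
    rfl
  obtain ⟨U, hU, hcov⟩ := exists_affine_cover hb hY (fun i => ψ (e i).1) hg
  have hI : ∀ V, ((Curv2.idealSheaf A (IsLocalRing.maximalIdeal A)).ideal V).FG := fun V => by
    haveI := IsLocallyNoetherian.component_noetherian (X := Y) V
    exact IsNoetherian.noetherian _
  haveI : IsProper b := Groth.Agent.Lib.BlowUpExists.isProper_of_isBlowUp hb hI
  haveI : X.IsSeparated := ⟨by rw [← terminal.comp_from b]; infer_instance⟩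
  exact Groth.Agent.S0010.result X s.card U hU hcov (fun V W hV hW => hV.inf hW) F p
    (by omega)

end Groth.Agent.S1623
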