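import Groth.Statements.S16231
import Groth.Agent.H61.Morse
import Groth.Agent.H61.PSTranslate

set_option autoImplicit false
universe u
open VanCyc MvPowerSeries Groth.Agent.H61.PSFilt

namespace Groth.Agent.S16231

private lemma lin_mul {A : Type u} [CommRing A] {n : ℕ} (a b : MvPowerSeries (Fin n) A) (i : Fin n) :
    coeff (Finsupp.single i 1) (a * b) =
      constantCoeff a * coeff (Finsupp.single i 1) b + coeff (Finsupp.single i 1) a * constantCoeff b := by
  classical
  rw [coeff_mul, Finsupp.antidiagonal_single]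
  simp [Finset.Nat.sum_antidiagonal_succ, Finset.sum_map]

/-- fixed points of contractions on tuples in an adically complete ring -/
private lemma exists_fixed_adic {A : Type u} [CommRing A] (I : Ideal A) [IsAdicComplete I A]
    {ι : Type*} (Φ : (ι → A) → ι → A) (hmaps : ∀ u, (∀ i, u i ∈ I) → ∀ i, Φ u i ∈ I)
    (hcon : ∀ k u v, (∀ i, u i ∈ I) → (∀ i, v i ∈ I) → (∀ i, u i - v i ∈ I ^ (k + 1)) →
      ∀ i, Φ u i - Φ v i ∈ I ^ (k + 2)) :
    ∃ u, (∀ i, u i ∈ I) ∧ Φ u = u := by
  let s : ℕ → ι → A := fun k => Φ^[k] 0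
  have hs : ∀ k i, s k i ∈ I := by
    intro k
    induction k with
    | zero => intro i; exact zero_mem _
    | succ k ih => simp only [s, Function.iterate_succ_apply']; exact hmaps _ ih
  have hstep : ∀ k i, s (k + 1) i - s k i ∈ I ^ (k + 1) := by
    intro k
    induction k with
    | zero => intro i; simpa [s] using hs 1 i
    | succ k ih =>
      intro i
      have := hcon k _ _ (hs (k + 1)) (hs k) ih i
      simpa only [s, Function.iterate_succ_apply'] using this
  have hmono : ∀ k l i, s (k + l) i - s k i ∈ I ^ k := by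
    intro k l i
    induction l with
    | zero => simp
    | succ l ih =>
      convert Ideal.add_mem _ (Ideal.pow_le_pow_right (show k ≤ k + l + 1 by omega) (hstep (k + l) i)) ih
        using 1
      rw [← add_assoc]; ring
  have : ∀ i, ∃ L, ∀ k, s k i - L ∈ I ^ k := fun i => by
    obtain ⟨L, hL⟩ := IsPrecomplete.prec (inferInstance : IsPrecomplete I A) (f := fun k => s k i)
      (fun {a b} hab => by
        obtain ⟨l, rfl⟩ := Nat.exists_eq_add_of_le hab
        rw [SModEq.sub_mem, smul_eq_mul, Ideal.mul_top, ← neg_sub]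
        exact neg_mem (hmono a l i))
    refine ⟨L, fun k => ?_⟩
    have := hL k
    rwa [SModEq.sub_mem, smul_eq_mul, Ideal.mul_top] at this
  choose u hu using this
  have hu1 : ∀ i, u i ∈ I := fun i => by
    have h := hu i 1
    rw [pow_one] at h
    simpa using I.sub_mem (hs 1 i) h
  refine ⟨u, hu1, funext fun i => sub_eq_zero.mp (IsHausdorff.haus (inferInstance : IsHausdorff I A) _ fun k => ?_)⟩
  rw [SModEq.zero, smul_eq_mul, Ideal.mul_top]
  have h1 : Φ u i - s (k + 2) i ∈ I ^ (k + 2) := by
    have := hcon k u (s (k + 1)) hu1 (hs _) (fun j => by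
      rw [← neg_sub]; exact neg_mem (hu j (k + 1))) i
    simpa only [s, Function.iterate_succ_apply'] using this
  refine Ideal.pow_le_pow_right (show k ≤ k + 2 by omega) ?_
  convert Ideal.add_mem _ h1 (hu i (k + 2)) using 1
  ring

private lemma single_add_single_inj {n : ℕ} {a b i j : Fin n} (hab : a ≤ b) (hij : i ≤ j)
    (h : Finsupp.single a 1 + Finsupp.single b 1 = (Finsupp.single i 1 + Finsupp.single j 1 : Fin n →₀ ℕ)) :
    a = i ∧ b = j := by
  classical
  have h1 := congrArg Finsupp.toMultiset h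
  simp only [Finsupp.toMultiset_add, Finsupp.toMultiset_single, one_smul, Multiset.singleton_add] at h1
  rcases Multiset.cons_eq_cons.mp h1 with ⟨h2, h3⟩ | ⟨hne, cs, h2, h3⟩
  · exact ⟨h2, by simpa using h3⟩
  · have hbi : b = i := by
      have : i ∈ ({b} : Multiset (Fin n)) := by rw [h2]; exact Multiset.mem_cons_self i cs
      simpa using (Multiset.mem_singleton.mp this).symm
    have hja : j = a := by
      have : a ∈ ({j} : Multiset (Fin n)) := by rw [h3]; exact Multiset.mem_cons_self a cs
      simpa using (Multiset.mem_singleton.mp this).symm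
    subst hbi hja
    exact absurd (le_antisymm hab hij) hne

private lemma coeff_quadPoly {A : Type u} [CommRing A] {n : ℕ} (q : Fin n → Fin n → A) {i j : Fin n}
    (hij : i ≤ j) :
    MvPolynomial.coeff (Finsupp.single i 1 + Finsupp.single j 1) (quadPoly q) = q i j := by
  classical
  have hm : ∀ a b : Fin n, MvPolynomial.C (q a b) * MvPolynomial.X a * MvPolynomial.X b =
      MvPolynomial.monomial (Finsupp.single a 1 + Finsupp.single b 1) (q a b) := fun a b => by
    rw [MvPolynomial.C_mul_X_eq_monomial, MvPolynomial.X, MvPolynomial.monomial_mul, mul_one]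
  simp only [quadPoly, hm, MvPolynomial.coeff_sum, apply_ite (MvPolynomial.coeff _),
    MvPolynomial.coeff_monomial, MvPolynomial.coeff_zero]
  rw [Finset.sum_eq_single i, Finset.sum_eq_single j, if_pos hij, if_pos rfl]
  · intro b _ hb
    split_ifs with h1 h2
    · exact absurd (single_add_single_inj h1 hij h2).2 hb
    all_goals rfl
  · simp
  · intro a _ ha
    refine Finset.sum_eq_zero fun b _ => ?_
    split_ifs with h1 h2
    · exact absurd (single_add_single_inj h1 hij h2).1 ha
    all_goals rfl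
  · simp

private lemma coeff_quadPoly_low {A : Type u} [CommRing A] {n : ℕ} (q : Fin n → Fin n → A)
    (e : Fin n →₀ ℕ) (he : e.degree < 2) : MvPolynomial.coeff e (quadPoly q) = 0 := by
  classical
  simp only [quadPoly, MvPolynomial.coeff_sum]
  refine Finset.sum_eq_zero fun a _ => Finset.sum_eq_zero fun b _ => ?_
  split_ifs
  · rw [MvPolynomial.C_mul_X_eq_monomial, MvPolynomial.X, MvPolynomial.monomial_mul,
      MvPolynomial.coeff_monomial, if_neg]
    intro h
    rw [← h] at he
    simp [map_add, Finsupp.degree_single] at he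
  · rfl

/-- Let A be a local ring with maximal ideal m that is separated and complete for the m-adic topology (A
is not assumed Noetherian), n a natural number, q an n × n coefficient table over A whose quadratic
form Q(x) = Σ_{i≤j} q_ij x_i x_j is non-degenerate (unit Gram determinant of the polar bilinear
form), a and ℓ_1, …, ℓ_n elements of m, and F a formal power series in x_1, …, x_n over A whose
coefficients in total degree at most 2 agree with those of a + Σ ℓ_i x_i + Q(x). Then there are an
element a' of m and a non-degenerate coefficient table q' such that A[[x]]/(F) and A[[x]]/(Q'(x) +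
a') are isomorphic as A-algebras, Q' the quadratic form of q'. -/
theorem result
    (A : Type u) [CommRing A] [IsLocalRing A]
    [IsAdicComplete (IsLocalRing.maximalIdeal A) A] (n : ℕ)
    (q : Fin n → Fin n → A) (hq : VanCyc.QuadNondeg q)
    (a : A) (ha : a ∈ IsLocalRing.maximalIdeal A)
    (ℓ : Fin n → A) (hℓ : ∀ i, ℓ i ∈ IsLocalRing.maximalIdeal A)
    (F : MvPowerSeries (Fin n) A)
    (hF : ∀ e : Fin n →₀ ℕ, e.degree ≤ 2 →
      MvPowerSeries.coeff e F = MvPowerSeries.coeff e ((VanCyc.quadPoly q + ∑ i, MvPolynomial.C (ℓ i) * MvPolynomial.X i + MvPolynomial.C a : MvPolynomial (Fin n) A) : MvPowerSeries (Fin n) A)) :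
    ∃ (a' : A) (q' : Fin n → Fin n → A), a' ∈ IsLocalRing.maximalIdeal A ∧ VanCyc.QuadNondeg q' ∧
      Nonempty ((MvPowerSeries (Fin n) A ⧸ Ideal.span {F}) ≃ₐ[A]
        (MvPowerSeries (Fin n) A ⧸ Ideal.span {((VanCyc.quadPoly q' + MvPolynomial.C a' : MvPolynomial (Fin n) A) : MvPowerSeries (Fin n) A)})) := by
  classical
  set 𝔪 := IsLocalRing.maximalIdeal A with h𝔪
  obtain ⟨T, hT⟩ := Groth.Agent.H61.PSTranslate.exists_translation 𝔪 (Fin n)
  set L : MvPowerSeries (Fin n) A := ((quadPoly q + ∑ i, MvPolynomial.C (ℓ i) * MvPolynomial.X i +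
    MvPolynomial.C a : MvPolynomial (Fin n) A) : MvPowerSeries (Fin n) A) with hL
  have hR : F - L ∈ XI (Fin n) A ^ (1 + 2) :=
    mem_iff.mpr fun e he => by rw [map_sub, hF e (by omega), sub_self]
  obtain ⟨S, hS, hS1⟩ := Groth.Agent.H61.Morse.exists_matrix (k := 1) _ hR
  have hSd : ∀ i j, ∃ W : Fin n → MvPowerSeries (Fin n) A, S i j = ∑ l, X l * W l := fun i j => by
    obtain ⟨W, hW, -⟩ := exists_decomp (S i j)
      (mem_iff_constantCoeff.mp (by simpa using hS1 i j))
    exact ⟨W, hW⟩
  choose W hW using hSd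
  let lin : Fin n → MvPowerSeries (Fin n) A → A := fun l g => coeff (Finsupp.single l 1) g
  let G : (Fin n → A) → Fin n → A := fun c l => lin l (T c (F - L))
  let Pr : ℕ → ℕ → A → A → Prop := fun k r x y => x ∈ 𝔪 ^ r ∧ y ∈ 𝔪 ^ r ∧ x - y ∈ 𝔪 ^ (r + k)
  have hPmul : ∀ {k r t x y z w}, Pr k r x y → Pr k t z w → Pr k (r + t) (x * z) (y * w) := by
    rintro k r t x y z w ⟨hx, hy, hxy⟩ ⟨hz, hw, hzw⟩
    refine ⟨by rw [pow_add]; exact Ideal.mul_mem_mul hx hz, by rw [pow_add]; exact Ideal.mul_mem_mul hy hw, ?_⟩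
    have h1 : (x - y) * z ∈ 𝔪 ^ (r + t + k) := by
      rw [show r + t + k = r + k + t by omega, pow_add]; exact Ideal.mul_mem_mul hxy hz
    have h2 : y * (z - w) ∈ 𝔪 ^ (r + t + k) := by
      rw [show r + t + k = r + (t + k) by omega, pow_add]; exact Ideal.mul_mem_mul hy hzw
    convert Ideal.add_mem _ h1 h2 using 1; ring
  have hPadd : ∀ {k r x y z w}, Pr k r x y → Pr k r z w → Pr k r (x + z) (y + w) := by
    rintro k r x y z w ⟨hx, hy, hxy⟩ ⟨hz, hw, hzw⟩
    refine ⟨Ideal.add_mem _ hx hz, Ideal.add_mem _ hy hw, ?_⟩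
    convert Ideal.add_mem _ hxy hzw using 1; ring
  have hPsum : ∀ {k r} (f g : Fin n → A), (∀ i, Pr k r (f i) (g i)) → Pr k r (∑ i, f i) (∑ i, g i) :=
    fun f g h => ⟨Ideal.sum_mem _ fun i _ => (h i).1, Ideal.sum_mem _ fun i _ => (h i).2.1,
      by rw [← Finset.sum_sub_distrib]; exact Ideal.sum_mem _ fun i _ => (h i).2.2⟩
  have hG : ∀ k c c', (∀ i, c i ∈ 𝔪) → (∀ i, c' i ∈ 𝔪) → (∀ i, c i - c' i ∈ 𝔪 ^ (k + 1)) →
      ∀ l, Pr k 2 (G c l) (G c' l) := by
    intro k c c' hc hc' hcc l
    obtain ⟨⟨e, he, heX⟩, -, hcong⟩ := hT c hc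
    obtain ⟨⟨e', he', heX'⟩, -, -⟩ := hT c' hc'
    have hP0 : ∀ g d, Pr k 0 (coeff d (T c g)) (coeff d (T c' g)) := fun g d => by
      refine ⟨by simp, by simp, ?_⟩
      rw [zero_add]
      exact Ideal.pow_le_pow_right k.le_succ (hcong c' hc' (k + 1) hcc g d)
    have hc1 : ∀ i, Pr k 1 (c i) (c' i) := fun i =>
      ⟨by rw [pow_one]; exact hc i, by rw [pow_one]; exact hc' i, by rw [add_comm]; exact hcc i⟩
    have hdiag : ∀ r : A, Pr k 0 r r := fun r => ⟨by simp, by simp, by simp⟩
    rw [← he, ← he'] at hP0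
    have hv0 : ∀ i, Pr k 1 (constantCoeff (e (X i))) (constantCoeff (e' (X i))) := fun i => by
      rw [show e (X i) = X i + C (c i) by rw [he]; exact heX i,
        show e' (X i) = X i + C (c' i) by rw [he']; exact heX' i]
      simpa using hc1 i
    have hv1 : ∀ i l, Pr k 0 (lin l (e (X i))) (lin l (e' (X i))) := fun i l => hP0 _ _
    have hS0 : ∀ i j, Pr k 1 (constantCoeff (e (S i j))) (constantCoeff (e' (S i j))) := fun i j => by
      simp only [hW i j, map_sum, map_mul]
      refine hPsum _ _ fun m => ?_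
      refine hPmul (t := 0) (hv0 m) ?_
      simpa only [← coeff_zero_eq_constantCoeff_apply] using hP0 (W i j m) 0
    have hy0 : ∀ i j, Pr k 2 (constantCoeff (e (S i j) * e (X j))) (constantCoeff (e' (S i j) * e' (X j))) :=
      fun i j => by rw [map_mul, map_mul]; exact hPmul (hS0 i j) (hv0 j)
    have hy1 : ∀ i j, Pr k 1 (lin l (e (S i j) * e (X j))) (lin l (e' (S i j) * e' (X j))) := fun i j => by
      simp only [lin, lin_mul]
      exact hPadd (hPmul (t := 0) (hS0 i j) (hv1 j l)) (hPmul (r := 0) (hP0 _ _) (hv0 j))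
    have hexp : ∀ (f : MvPowerSeries (Fin n) A ≃ₐ[A] MvPowerSeries (Fin n) A), f (F - L) =
        ∑ i, f (X i) * ∑ j, f (S i j) * f (X j) := fun f => by
      rw [hS]; simp [dotProduct, Matrix.mulVec, map_sum]
    simp only [G, ← he, ← he']
    rw [hexp, hexp]
    simp only [lin, map_sum, lin_mul]
    refine hPsum _ _ fun i => hPadd (hPmul (r := 1) (t := 1) (hv0 i) (hPsum _ _ fun j => ?_))
      (hPmul (r := 0) (t := 2) (hv1 i l) (hPsum _ _ fun j => hy0 i j))
    simpa only [lin, lin_mul] using hy1 i j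
  set M := polarMatrix q with hM
  let Ψ : (Fin n → A) → Fin n → A := fun c => -(M⁻¹.mulVec (ℓ + G c))
  have hG1 : ∀ c, (∀ i, c i ∈ 𝔪) → ∀ l, G c l ∈ 𝔪 := fun c hc l =>
    Ideal.pow_le_self two_ne_zero (hG 0 c c hc hc (by simp) l).1
  obtain ⟨c, hc, hfix⟩ := exists_fixed_adic 𝔪 Ψ
    (fun u hu i => neg_mem (show ∑ j, M⁻¹ i j * (ℓ j + G u j) ∈ 𝔪 from Ideal.sum_mem _ fun j _ =>
      Ideal.mul_mem_left _ _ (Ideal.add_mem _ (hℓ j) (hG1 u hu j))))
    (fun k u v hu hv huv i => by
      have : Ψ u i - Ψ v i = -∑ j, M⁻¹ i j * (G u j - G v j) := by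
        simp only [Ψ, Pi.neg_apply, Matrix.mulVec, dotProduct, Pi.add_apply, mul_sub,
          Finset.sum_sub_distrib, mul_add, Finset.sum_add_distrib]
        ring
      rw [this]
      refine neg_mem (Ideal.sum_mem _ fun j _ => Ideal.mul_mem_left _ _ ?_)
      rw [show k + 2 = 2 + k by omega]
      exact (hG k u v hu hv huv j).2.2)
  obtain ⟨⟨e, he, heX⟩, -, hcong⟩ := hT c hc
  set F1 := T c F with hF1
  -- the linear part of `F1` vanishes
  have hlin : ∀ l, lin l F1 = 0 := by
    intro l
    have hMc : M.mulVec c = -(ℓ + G c) := by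
      conv_lhs => rw [← hfix]
      simp only [Ψ, Matrix.mulVec_neg, Matrix.mulVec_mulVec]
      rw [Matrix.mul_nonsing_inv M hq, Matrix.one_mulVec]
    have hsplit : F1 = e L + e (F - L) := by rw [← map_add, add_sub_cancel, he]
    have hGl : lin l (e (F - L)) = G c l := by simp only [G, he]
    have hLow : lin l (e L) = ℓ l + M.mulVec c l := by
      have hLe : e L = ∑ i, ∑ j, (if i ≤ j then C (q i j) * (X i + C (c i)) * (X j + C (c j)) else 0) +
          ∑ i, C (ℓ i) * (X i + C (c i)) + C a := by
        rw [hL, ← MvPolynomial.coeToMvPowerSeries.ringHom_apply, quadPoly]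
        simp only [map_add, map_sum, map_mul, apply_ite MvPolynomial.coeToMvPowerSeries.ringHom,
          map_zero, MvPolynomial.coeToMvPowerSeries.ringHom_apply, MvPolynomial.coe_C, MvPolynomial.coe_X,
          apply_ite e, show ∀ r, e (C r) = C r from e.commutes,
          show ∀ i, e (X i) = X i + C (c i) from fun i => by rw [he]; exact heX i]
      rw [hLe]
      simp only [lin, map_add, map_sum, apply_ite (coeff (Finsupp.single l 1)), lin_mul, map_zero,
        map_mul, constantCoeff_C, constantCoeff_X, zero_add, coeff_index_single_X, coeff_C]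
      simp only [Finsupp.single_eq_zero, one_ne_zero, if_false, zero_mul, add_zero, mul_ite, mul_one,
        mul_zero, ite_mul, Finset.sum_ite_eq, Finset.sum_ite_eq', Finset.mem_univ, if_true]
      rw [add_comm]
      congr 1
      simp only [Matrix.mulVec, dotProduct, hM, polarMatrix]
      have hsplit2 : ∀ i j : Fin n, (if i ≤ j then
          (if l = j then q i j * c i else 0) + (if l = i then q i j * c j else 0) else 0) =
          (if l = j then (if i ≤ j then q i j * c i else 0) else 0) +
          (if l = i then (if i ≤ j then q i j * c j else 0) else 0) := fun i j => by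
        split_ifs <;> simp
      simp only [hsplit2, Finset.sum_add_distrib, Finset.sum_ite_eq, Finset.mem_univ, if_true]
      rw [Finset.sum_comm (f := fun i j => if l = i then (if i ≤ j then q i j * c j else 0) else 0)]
      simp only [Finset.sum_ite_eq, Finset.mem_univ, if_true]
      rw [← Finset.sum_add_distrib]
      refine Finset.sum_congr rfl fun i _ => ?_
      rcases lt_trichotomy i l with h | rfl | h
      · simp [h.le, h.not_ge, h.ne', h.not_gt]
      · simp only [le_refl, if_true]; ring
      · simp [h.le, h.not_ge, h.ne, h]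
    simp only [lin, hsplit, map_add] at hLow hGl ⊢
    rw [hLow, hGl, hMc, Pi.neg_apply, Pi.add_apply]
    ring
  let a' := constantCoeff F1
  let q' := quadPart F1
  have hcF : ∀ d, coeff d F1 - coeff d F ∈ 𝔪 := fun d => by
    have h0 := (hT 0 (fun i => zero_mem _)).2.1 (fun i => rfl) F
    have := hcong 0 (fun i => zero_mem _) 1 (fun i => by simpa using hc i) F d
    rwa [h0, pow_one] at this
  have hconst : constantCoeff F = a := by
    rw [← coeff_zero_eq_constantCoeff_apply, hF 0 (by simp), MvPolynomial.coeff_coe]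
    simp [coeff_quadPoly_low q 0 (by simp), MvPolynomial.coeff_X', MvPolynomial.coeff_sum]
  have ha' : a' ∈ 𝔪 := by
    have := Ideal.add_mem _ (hcF 0) ha
    simpa [a', hconst] using this
  have hqF : ∀ i j, i ≤ j → coeff (Finsupp.single i 1 + Finsupp.single j 1) F = q i j := fun i j hij => by
    have hd : (Finsupp.single i 1 + Finsupp.single j 1 : Fin n →₀ ℕ).degree = 2 := by simp [map_add]
    have hne : (Finsupp.single i 1 + Finsupp.single j 1 : Fin n →₀ ℕ) ≠ 0 := fun h => by
      rw [h] at hd; simp at hd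
    have hne1 : ∀ l, Finsupp.single l 1 ≠ (Finsupp.single i 1 + Finsupp.single j 1 : Fin n →₀ ℕ) :=
      fun l h => by rw [← h] at hd; simp at hd
    rw [hF _ hd.le, MvPolynomial.coeff_coe]
    simp [coeff_quadPoly q hij, MvPolynomial.coeff_sum, MvPolynomial.coeff_C_mul, MvPolynomial.coeff_X',
      hne1, MvPolynomial.coeff_C, Ne.symm hne]
  have hq'le : ∀ i j, i ≤ j → q' i j = coeff (Finsupp.single i 1 + Finsupp.single j 1) F1 := fun i j hij => by
    rcases hij.eq_or_lt with rfl | h
    · simp [q', quadPart, ← Finsupp.single_add]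
    · simp [q', quadPart, h, h.ne]
  have hqq : ∀ i j, i ≤ j → q' i j - q i j ∈ 𝔪 := fun i j hij => by
    rw [hq'le i j hij, ← hqF i j hij]; exact hcF _
  have hq' : QuadNondeg q' := by
    have hmap : (polarMatrix q').map (IsLocalRing.residue A) = (polarMatrix q).map (IsLocalRing.residue A) := by
      ext i j
      simp only [Matrix.map_apply, polarMatrix]
      rcases lt_trichotomy i j with h | rfl | h
      · simp only [h.ne, h, if_true, if_false]
        exact Ideal.Quotient.eq.mpr (hqq i j h.le)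
      · have := Ideal.Quotient.eq.mpr (hqq i i le_rfl)
        simp only [↓reduceIte, map_mul]
        exact congrArg _ this
      · simp only [h.ne', h.not_gt, if_false]
        exact Ideal.Quotient.eq.mpr (hqq j i h.le)
    refine isUnit_of_map_unit (IsLocalRing.residue A) _ ?_
    rw [RingHom.map_det, RingHom.mapMatrix_apply, hmap, ← RingHom.mapMatrix_apply, ← RingHom.map_det]
    exact hq.map _
  have hF1' : F1 - ((quadPoly q' + MvPolynomial.C a' : MvPolynomial (Fin n) A) : MvPowerSeries (Fin n) A) ∈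
      XI (Fin n) A ^ (2 + 1) := by
    rw [mem_iff]
    intro d hd
    rw [map_sub, MvPolynomial.coeff_coe, MvPolynomial.coeff_add, sub_eq_zero]
    by_cases h0 : d = 0
    · subst h0
      simp [coeff_quadPoly_low q' 0 (by simp), a']
    rw [MvPolynomial.coeff_C, if_neg (Ne.symm h0), add_zero]
    obtain ⟨i, hi⟩ : ∃ i, d i ≠ 0 := by
      by_contra hne; push Not at hne; exact h0 (Finsupp.ext hne)
    have hle : Finsupp.single i 1 ≤ d := by rw [Finsupp.single_le_iff]; omega
    obtain ⟨d', rfl⟩ : ∃ d', d = Finsupp.single i 1 + d' := ⟨d - Finsupp.single i 1, (add_tsub_cancel_of_le hle).symm⟩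
    by_cases h1 : d' = 0
    · subst h1
      rw [add_zero, coeff_quadPoly_low q' _ (by simp)]
      exact hlin i
    obtain ⟨j, hj⟩ : ∃ j, d' j ≠ 0 := by
      by_contra hne; push Not at hne; exact h1 (Finsupp.ext hne)
    have hle' : Finsupp.single j 1 ≤ d' := by rw [Finsupp.single_le_iff]; omega
    obtain ⟨d'', rfl⟩ : ∃ d'', d' = Finsupp.single j 1 + d'' := ⟨d' - Finsupp.single j 1, (add_tsub_cancel_of_le hle').symm⟩
    have h2 : d'' = 0 := (Finsupp.degree_eq_zero_iff _).mp (by
      simp only [map_add, Finsupp.degree_single] at hd; omega)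
    subst h2
    rw [add_zero]
    rcases le_total i j with h | h
    · rw [coeff_quadPoly q' h, hq'le i j h]
    · rw [add_comm, coeff_quadPoly q' h, hq'le j i h]
  obtain ⟨h, hh, heq⟩ := Groth.Agent.H61.Morse.morse 2 le_rfl q' hq' a' F1 hF1'
  have hs : HasSubst (fun i => X i + h i) := hasSubst fun i =>
    Ideal.add_mem _ (Ideal.subset_span ⟨i, rfl⟩) (Ideal.pow_le_self two_ne_zero (hh i))
  let e2 : MvPowerSeries (Fin n) A ≃ₐ[A] MvPowerSeries (Fin n) A :=
    AlgEquiv.ofBijective (substAlgHom hs) (by rw [coe_substAlgHom]; exact subst_bijective hh)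
  refine ⟨a', q', ha', hq', ⟨Ideal.quotientEquivAlg _ _ (e.trans e2) ?_⟩⟩
  rw [Ideal.map_span, Set.image_singleton, ← heq]
  congr 2
  show subst _ F1 = substAlgHom hs (e F)
  rw [coe_substAlgHom, he]

end Groth.Agent.S16231
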