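import Groth.Statements.S16232
import Groth.Agent.H61.TameInertia
import Mathlib.FieldTheory.Minpoly.IsConjRoot

set_option autoImplicit false
universe u v
open VanCyc

namespace Groth.Agent.S16232

open Polynomial IsLocalRing

variable {R : Type u} [CommRing R] [IsDomain R] [IsDiscreteValuationRing R] [HenselianLocalRing R]
    [IsSepClosed (IsLocalRing.ResidueField R)]
    {K : Type u} [Field K] [Algebra R K] [IsFractionRing R K]
    {Ω : Type u} [Field Ω] [Algebra K Ω] [IsSepClosure K Ω]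

lemma fixed_of_pow_eq_one {n : ℕ} (hn : IsUnit (n : ResidueField R)) {ζ : Ω} (hζ : ζ ^ n = 1)
    (σ : Ω ≃ₐ[K] Ω) : σ ζ = ζ := by
  obtain ⟨a, rfl, -⟩ := H61.TameInertia.mem_range_of_pow_eq_one
    (f := (algebraMap K Ω).comp (algebraMap R K))
    ((algebraMap K Ω).injective.comp (IsFractionRing.injective R K)) hn hζ
  exact σ.commutes _

/-- An element fixing an `ℓ ^ (a + 1)`-th root of a uniformizer is a product of two such powers. -/
lemma exists_pow_mul_pow {l : ℕ} [Fact l.Prime] (hlu : IsUnit (l : ResidueField R)) (a : ℕ)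
    {ϖ : R} (hϖ : Irreducible ϖ) {π : Ω} (hπ : π ^ l ^ (a + 1) = algebraMap K Ω (algebraMap R K ϖ))
    (σ : Ω ≃ₐ[K] Ω) (hσ : σ π = π) :
    ∃ g h : Ω ≃ₐ[K] Ω, g ^ l ^ (a + 1) * h ^ l ^ (a + 1) = σ := by
  haveI : IsGalois K Ω := inferInstance
  let L : Ω → FiniteGaloisIntermediateField K Ω := fun x =>
    FiniteGaloisIntermediateField.adjoin K ({π, x} : Set Ω)
  let Z : FiniteGaloisIntermediateField K Ω → Set ((Ω ≃ₐ[K] Ω) × (Ω ≃ₐ[K] Ω)) := fun F =>
    (fun p => σ⁻¹ * (p.1 ^ l ^ (a + 1) * p.2 ^ l ^ (a + 1))) ⁻¹'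
      (F.toIntermediateField.fixingSubgroup : Set (Ω ≃ₐ[K] Ω))
  have hcl : ∀ F, IsClosed (Z F) := fun F =>
    (IntermediateField.fixingSubgroup_isClosed F.toIntermediateField).preimage (by fun_prop)
  have hne : ∀ F : FiniteGaloisIntermediateField K Ω, π ∈ F.toIntermediateField → (Z F).Nonempty := by
    intro F hπF
    letI : Algebra R F := ((algebraMap K F).comp (algebraMap R K)).toAlgebra
    haveI : IsScalarTower R K F := IsScalarTower.of_algebraMap_eq fun _ => rfl
    obtain ⟨g, h, hgh⟩ := H61.TameInertia.exists_pow_mul_pow_eq R K F hlu a hϖ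
      (π := (⟨π, hπF⟩ : F)) (Subtype.ext (by simp only [SubmonoidClass.coe_pow]; exact hπ))
      (AlgEquiv.restrictNormalHom F σ) (Subtype.ext (by
        rw [AlgEquiv.restrictNormalHom_apply]
        exact hσ))
    obtain ⟨g', rfl⟩ := AlgEquiv.restrictNormalHom_surjective Ω g
    obtain ⟨h', rfl⟩ := AlgEquiv.restrictNormalHom_surjective Ω h
    refine ⟨(g', h'), ?_⟩
    show σ⁻¹ * (g' ^ l ^ (a + 1) * h' ^ l ^ (a + 1)) ∈ F.toIntermediateField.fixingSubgroup
    rw [← IntermediateField.restrictNormalHom_ker, MonoidHom.mem_ker, map_mul, map_mul, map_pow,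
      map_pow, hgh, map_inv, inv_mul_cancel]
  obtain ⟨p, hp⟩ : (⋂ x, Z (L x)).Nonempty := by
    refine CompactSpace.iInter_nonempty (fun x => hcl _) fun s => ?_
    let F := FiniteGaloisIntermediateField.adjoin K (insert π (s : Set Ω))
    obtain ⟨p, hp⟩ := hne F (FiniteGaloisIntermediateField.subset_adjoin K _ (Set.mem_insert _ _))
    refine ⟨p, Set.mem_iInter₂.2 fun x hx => ?_⟩
    have hle : (L x).toIntermediateField ≤ F.toIntermediateField := by
      rw [FiniteGaloisIntermediateField.adjoin_val, IntermediateField.normalClosure_le_iff_of_normal,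
        IntermediateField.adjoin_le_iff]
      rintro y (rfl | rfl)
      · exact FiniteGaloisIntermediateField.subset_adjoin K _ (Set.mem_insert _ _)
      · exact FiniteGaloisIntermediateField.subset_adjoin K _ (Set.mem_insert_of_mem _ hx)
    exact IntermediateField.fixingSubgroup_le hle hp
  refine ⟨p.1, p.2, AlgEquiv.ext fun x => ?_⟩
  have hx : σ.symm ((p.1 ^ l ^ (a + 1) * p.2 ^ l ^ (a + 1)) x) = x :=
    Set.mem_iInter.1 hp x
      ⟨x, FiniteGaloisIntermediateField.subset_adjoin K _ (Set.mem_insert_of_mem _ rfl)⟩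
  exact (σ.symm_apply_eq.1 hx)

end Groth.Agent.S16232

namespace Groth.Agent.S16232

/-- Let R be a strictly Henselian discrete valuation ring (Henselian, with separably closed residue
field), K its fraction field, Ω a separable closure of K and G the group of K-algebra automorphisms
of Ω; let r ≥ 1 be an integer invertible in the residue field of R, ϖ a uniformizer of R and ρ an
r-th root of ϖ in Ω, so that the fundamental character χ : G → μ_r(Ω) is σ ↦ σ(ρ)/ρ. Then every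
homomorphism φ of the abstract group G into an abelian group M with rM = 0 factors uniquely through
χ: there is exactly one homomorphism u : μ_r(Ω) → M with φ(σ) = u(χ(σ)) for every σ in G.
(Homomorphisms are written as maps respecting the group laws; χ(σ) is the root of unity ζ with ζρ =
σ(ρ).) -/
theorem result
    (R : Type u) [CommRing R] [IsDomain R] [IsDiscreteValuationRing R] [HenselianLocalRing R]
    [IsSepClosed (IsLocalRing.ResidueField R)]
    (K : Type u) [Field K] [Algebra R K] [IsFractionRing R K]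
    (Ω : Type u) [Field Ω] [Algebra K Ω] [IsSepClosure K Ω]
    (r : ℕ) [NeZero r] (hr : IsUnit (r : IsLocalRing.ResidueField R))
    (ϖ : R) (hϖ : Irreducible ϖ) (ρ : Ω) (hρ : ρ ^ r = algebraMap K Ω (algebraMap R K ϖ))
    (M : Type v) [AddCommGroup M] (hM : ∀ x : M, r • x = 0)
    (φ : (Ω ≃ₐ[K] Ω) → M) (hφ : ∀ σ τ : Ω ≃ₐ[K] Ω, φ (σ * τ) = φ σ + φ τ) :
    ∃! u : ↥(rootsOfUnity r Ω) → M, (∀ ζ ξ : ↥(rootsOfUnity r Ω), u (ζ * ξ) = u ζ + u ξ) ∧
      ∀ (σ : Ω ≃ₐ[K] Ω) (ζ : ↥(rootsOfUnity r Ω)), ((ζ : Ωˣ) : Ω) * ρ = σ ρ → φ σ = u ζ := by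
  have hr0 : r ≠ 0 := NeZero.ne r
  have hρ0 : ρ ≠ 0 := by
    intro h
    rw [h, zero_pow hr0] at hρ
    exact hϖ.ne_zero (IsFractionRing.injective R K
      (((algebraMap K Ω).injective (hρ.symm.trans (map_zero _).symm)).trans (map_zero _).symm))
  have hφ1 : φ 1 = 0 := by
    have := hφ 1 1
    rwa [mul_one, left_eq_add] at this
  have hφpow : ∀ (g : Ω ≃ₐ[K] Ω) (n : ℕ), φ (g ^ n) = n • φ g := by
    intro g n
    induction n with
    | zero => rw [pow_zero, zero_smul, hφ1]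
    | succ n ih => rw [pow_succ, hφ, ih, succ_nsmul]
  -- the kernel
  have hker : ∀ σ : Ω ≃ₐ[K] Ω, σ ρ = ρ → φ σ = 0 := by
    intro σ hσ
    rw [← AddMonoid.addOrderOf_eq_one_iff]
    by_contra hne
    obtain ⟨l, hl, hdvd⟩ := Nat.exists_prime_and_dvd hne
    haveI : Fact l.Prime := ⟨hl⟩
    have hlr : l ∣ r := hdvd.trans (addOrderOf_dvd_of_nsmul_eq_zero (hM _))
    obtain ⟨e, c, hc, hec⟩ := Nat.exists_eq_pow_mul_and_not_dvd hr0 l hl.ne_one
    obtain ⟨a, rfl⟩ : ∃ a, e = a + 1 := Nat.exists_eq_succ_of_ne_zero (fun h => hc (by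
      rw [h, pow_zero, one_mul] at hec
      exact hec ▸ hlr))
    have hlu : IsUnit (l : IsLocalRing.ResidueField R) := by
      obtain ⟨d, hd⟩ := hlr
      rw [hd, Nat.cast_mul] at hr
      exact isUnit_of_mul_isUnit_left hr
    obtain ⟨g, h, hgh⟩ := exists_pow_mul_pow hlu a hϖ (π := ρ ^ c)
      (by rw [← pow_mul, mul_comm, ← hec, hρ]) σ (by rw [map_pow, hσ])
    have h0 : c • φ σ = 0 := by
      rw [← hgh, hφ, hφpow, hφpow, ← nsmul_add, ← mul_nsmul, ← hec, hM]
    exact hc (hdvd.trans (addOrderOf_dvd_of_nsmul_eq_zero h0))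
  have heq : ∀ σ τ : Ω ≃ₐ[K] Ω, σ ρ = τ ρ → φ σ = φ τ := by
    intro σ τ h
    have h1 : φ (τ⁻¹ * σ) = 0 := hker _ (by
      show τ.symm (σ ρ) = ρ
      rw [h, AlgEquiv.symm_apply_apply])
    rw [← mul_inv_cancel_left τ σ, hφ, h1, add_zero]
  -- surjectivity of the fundamental character
  have hsurj : ∀ ζ : ↥(rootsOfUnity r Ω), ∃ σ : Ω ≃ₐ[K] Ω, σ ρ = ((ζ : Ωˣ) : Ω) * ρ := by
    intro ζ
    haveI : IsGalois K Ω := inferInstance
    have hirr := H61.TameInertia.irreducible_X_pow_sub_C R K hϖ hr0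
    have hζ : ((ζ : Ωˣ) : Ω) ^ r = 1 := by
      rw [← Units.val_pow_eq_pow_val, (mem_rootsOfUnity r _).1 ζ.2, Units.val_one]
    have hmin : ∀ y : Ω, y ^ r = algebraMap K Ω (algebraMap R K ϖ) →
        minpoly K y = Polynomial.X ^ r - Polynomial.C (algebraMap R K ϖ) := fun y hy =>
      (minpoly.eq_of_irreducible_of_monic hirr (by simp [hy])
        (Polynomial.monic_X_pow_sub_C _ hr0)).symm
    have hconj : IsConjRoot K ρ (((ζ : Ωˣ) : Ω) * ρ) := by
      show minpoly K _ = minpoly K _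
      rw [hmin ρ hρ, hmin _ (by rw [mul_pow, hζ, one_mul, hρ])]
    exact hconj.symm.exists_algEquiv.imp fun σ hσ => hσ
  choose s hs using hsurj
  refine ⟨fun ζ => φ (s ζ), ⟨fun ζ ξ => ?_, fun σ ζ h => heq _ _ (h.symm.trans (hs ζ).symm)⟩, ?_⟩
  · show φ (s (ζ * ξ)) = φ (s ζ) + φ (s ξ)
    rw [← hφ]
    refine heq _ _ ?_
    have hξ : ((ξ : Ωˣ) : Ω) ^ r = 1 := by
      rw [← Units.val_pow_eq_pow_val, (mem_rootsOfUnity r _).1 ξ.2, Units.val_one]
    rw [hs, AlgEquiv.mul_apply, hs ξ, map_mul, fixed_of_pow_eq_one hr hξ, hs ζ, Subgroup.coe_mul,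
      Units.val_mul]
    ring
  · rintro u ⟨-, hu⟩
    funext ζ
    exact (hu (s ζ) ζ (hs ζ).symm).symm

end Groth.Agent.S16232
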