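import Groth.Statements.S16234
import Mathlib

set_option autoImplicit false
universe u v
open CAlg

namespace Groth.Agent.S16234

/-- For a finitely generated module M over a Noetherian commutative ring A, every prime ideal in the
support of M is a maximal ideal if and only if M has finite length. -/
theorem result (A : Type u) [CommRing A] [IsNoetherianRing A]
    (M : Type v) [AddCommGroup M] [Module A M] [Module.Finite A M] :
    (∀ p ∈ Module.support A M, p.asIdeal.IsMaximal) ↔ IsFiniteLength A M := by
  constructor
  · intro h
    haveI hr : IsArtinianRing (A ⧸ Module.annihilator A M) := by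
      rw [isArtinianRing_iff_isNoetherianRing_krullDimLE_zero]
      refine ⟨inferInstance, Ring.krullDimLE_zero_iff.2 fun P hP => ?_⟩
      have hmem : (⟨P.comap (Ideal.Quotient.mk _), inferInstance⟩ : PrimeSpectrum A) ∈ Module.support A M := by
        rw [Module.mem_support_iff_of_finite]
        intro a ha
        change Ideal.Quotient.mk _ a ∈ P
        rw [Ideal.Quotient.eq_zero_iff_mem.2 ha]; exact P.zero_mem
      have hm := h _ hmem
      have := Ideal.map_eq_top_or_isMaximal_of_surjective (Ideal.Quotient.mk (Module.annihilator A M)) Ideal.Quotient.mk_surjective hm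
      rw [Ideal.map_comap_of_surjective _ Ideal.Quotient.mk_surjective] at this
      exact this.resolve_left hP.ne_top
    rw [isFiniteLength_iff_isNoetherian_isArtinian]
    refine ⟨inferInstance, ?_⟩
    let : Module (A ⧸ Module.annihilator A M) M :=
      (Module.isTorsionBySet_annihilator A M).module
    haveI : IsScalarTower A (A ⧸ Module.annihilator A M) M :=
      (Module.isTorsionBySet_annihilator A M).isScalarTower
    haveI : Module.Finite (A ⧸ Module.annihilator A M) M := Module.Finite.of_restrictScalars_finite A _ _
    haveI : IsArtinian (A ⧸ Module.annihilator A M) M := inferInstance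
    exact isArtinian_of_surjective_algebraMap (R := A ⧸ Module.annihilator A M) (S := A) (M := M) Ideal.Quotient.mk_surjective
  · intro h p hp
    haveI : IsArtinian A M := (isFiniteLength_iff_isNoetherian_isArtinian.1 h).2
    obtain ⟨n, s, hs⟩ := Module.Finite.exists_fin (R := A) (M := M)
    let φ : A →ₗ[A] (Fin n → M) := LinearMap.pi fun i => LinearMap.toSpanSingleton A M (s i)
    have hφ : LinearMap.ker φ = Module.annihilator A M := by
      ext a
      rw [Module.mem_annihilator, LinearMap.mem_ker]
      constructor
      · intro h m
        have hm : m ∈ Submodule.span A (Set.range s) := hs ▸ Submodule.mem_top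
        induction hm using Submodule.span_induction with
        | mem x hx => obtain ⟨i, rfl⟩ := hx; simpa [φ] using congrFun h i
        | zero => simp
        | add x y _ _ hx hy => simp [hx, hy]
        | smul c x _ hx => rw [smul_comm, hx, smul_zero]
      · intro h; funext i; simp [φ, h]
    haveI : IsArtinian A (A ⧸ Module.annihilator A M) :=
      hφ ▸ isArtinian_of_linearEquiv φ.quotKerEquivRange.symm
    haveI : IsArtinianRing (A ⧸ Module.annihilator A M) :=
      isArtinian_of_tower A ‹_›
    rw [Module.mem_support_iff_of_finite] at hp
    haveI : (p.asIdeal.map (Ideal.Quotient.mk (Module.annihilator A M))).IsPrime :=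
      Ideal.map_isPrime_of_surjective Ideal.Quotient.mk_surjective (by rwa [Ideal.mk_ker])
    haveI := IsArtinianRing.isMaximal_of_isPrime (p.asIdeal.map (Ideal.Quotient.mk (Module.annihilator A M)))
    have := Ideal.comap_isMaximal_of_surjective (f := Ideal.Quotient.mk (Module.annihilator A M))
      Ideal.Quotient.mk_surjective (K := p.asIdeal.map (Ideal.Quotient.mk (Module.annihilator A M)))
    rwa [Ideal.comap_map_of_surjective _ Ideal.Quotient.mk_surjective, ← RingHom.ker_eq_comap_bot,
      Ideal.mk_ker, sup_eq_left.2 hp] at this

end Groth.Agent.S16234
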