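import Groth.Statements.S16235
import Mathlib.RingTheory.Regular.Flat
import Mathlib.RingTheory.KrullDimension.Regular


set_option autoImplicit false
universe u
open CAlg

namespace Groth.Agent.S16235

/-- Let A be a Noetherian commutative ring and x_1, …, x_r a regular sequence on A (each x_i a
non-zero-divisor on A/(x_1, …, x_{i-1})) generating an ideal I ≠ A. Then the height of I, the
infimum of the heights of the minimal primes over I, equals r. -/
theorem result (A : Type u) [CommRing A] [IsNoetherianRing A]
    (r : ℕ) (x : Fin r → A) (hx : RingTheory.Sequence.IsWeaklyRegular A (List.ofFn x))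
    (hI : Ideal.span (Set.range x) ≠ ⊤) :
    (Ideal.span (Set.range x)).height = r := by
  classical
  set I := Ideal.span (Set.range x) with hIdef
  have hof : Ideal.ofList (List.ofFn x) = I := by
    rw [hIdef, Ideal.ofList]
    congr 1
    ext a
    exact List.mem_ofFn.trans Iff.rfl
  have key : ∀ p : Ideal A, (hp : p.IsPrime) → I ≤ p →
      ringKrullDim (Localization.AtPrime p ⧸ I.map (algebraMap A (Localization.AtPrime p))) + r =
        ((p.height : ℕ∞) : WithBot ℕ∞) := by
    intro p hp hle
    have hreg := hx.isRegular_of_isLocalization_of_mem (Localization.AtPrime p) p (rs := List.ofFn x)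
      (fun a ha => hle (hof ▸ Ideal.subset_span ha))
    have h := ringKrullDim_add_length_eq_ringKrullDim_of_isRegular _ hreg
    rw [← Ideal.map_ofList, List.length_map, List.length_ofFn, hof,
      IsLocalization.AtPrime.ringKrullDim_eq_height p (Localization.AtPrime p)] at h
    exact h
  refine le_antisymm ?_ ?_
  · refine (Ideal.height_le_spanFinrank I hI).trans ?_
    refine le_trans (Nat.cast_le.mpr (Submodule.spanFinrank_span_le_ncard_of_finite (Set.finite_range x))) ?_
    refine Nat.cast_le.mpr ?_
    rw [← Set.image_univ]
    refine (Set.ncard_image_le Set.finite_univ).trans ?_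
    simp
  · rw [Ideal.height_eq_inf_minimalPrimes]
    refine le_iInf₂ fun p hp => ?_
    have := hp.1.1
    have h := key p hp.1.1 hp.1.2
    have : Nontrivial (Localization.AtPrime p ⧸ I.map (algebraMap A (Localization.AtPrime p))) := by
      refine Ideal.Quotient.nontrivial_iff.mpr fun htop => ?_
      have h2 : I.map (algebraMap A (Localization.AtPrime p)) ≤ IsLocalRing.maximalIdeal _ := by
        refine (Ideal.map_mono hp.1.2).trans ?_
        rw [Localization.AtPrime.map_eq_maximalIdeal]
      exact (IsLocalRing.maximalIdeal.isMaximal _).ne_top (top_le_iff.mp (htop ▸ h2))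
    have h0 : ((r : ℕ) : WithBot ℕ∞) ≤ ((p.height : ℕ∞) : WithBot ℕ∞) :=
      h ▸ le_add_of_nonneg_left ringKrullDim_nonneg_of_nontrivial
    exact WithBot.coe_le_coe.mp h0

end Groth.Agent.S16235
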