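import Groth.Statements.S16236
import Groth.Agent.Lib.Cyc.Dev.SchemeEquiv

set_option autoImplicit false
universe u
open CategoryTheory CategoryTheory.Limits AlgebraicGeometry
attribute [local instance] HasDerivedCategory.standard
open SGA6

namespace Groth.Agent.S16236

/-- Let X be a Noetherian scheme and i : X' ⟶ X a closed immersion which is surjective on points (a
closed subscheme with the same underlying space, such as X_red ⊂ X). Direct image along i is exact
and preserves coherence (instance hypotheses and hypothesis hi); the induced homomorphism K₀(Coh X')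
⟶ K₀(Coh X) between the Grothendieck groups of coherent modules is bijective. (The published
statement is the case X' = X_red; this row takes any closed immersion that is surjective on points.) -/
theorem result {X X' : Scheme.{u}} [IsNoetherian X]
    (i : X' ⟶ X) [IsClosedImmersion i] [Surjective i]
    [(Scheme.Modules.pushforward i).Additive] [PreservesFiniteLimits (Scheme.Modules.pushforward i)]
    [PreservesFiniteColimits (Scheme.Modules.pushforward i)]
    (hi : ∀ M : X'.Modules, Coh.IsCoh M → Coh.IsCoh ((Scheme.Modules.pushforward i).obj M)) :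
    Function.Bijective (SGA6.mapSub (Scheme.Modules.pushforward i) (fun M : (X').Modules => Coh.IsCoh M)
      (fun M : (X).Modules => Coh.IsCoh M) hi) := by
  obtain ⟨φ, hφ⟩ := Groth.Agent.Lib.Cyc.Dev.SchemeEquiv.exists_equiv i
  have hP : (fun G : X.Modules => Coh.IsCoh G ∧ ∀ x : X, Nontrivial (G.presheaf.stalk x) → x ∈ Set.range ⇑i) =
      (fun M : X.Modules => Coh.IsCoh M) :=
    funext fun G => propext ⟨fun h => h.1, fun h => ⟨h, fun x _ => i.surjective x⟩⟩
  obtain ⟨g, hg, hgcl⟩ : ∃ g : KZero.K0sub (fun G : X.Modules => Coh.IsCoh G ∧ ∀ x : X, Nontrivial (G.presheaf.stalk x) → x ∈ Set.range ⇑i) →+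
      KZero.K0sub (fun M : X.Modules => Coh.IsCoh M), Function.Bijective g ∧ ∀ G, g (KZero.clSub _ G) = KZero.clSub _ G := by
    generalize (fun G : X.Modules => Coh.IsCoh G ∧ ∀ x : X, Nontrivial (G.presheaf.stalk x) → x ∈ Set.range ⇑i) = P at hP
    subst hP
    exact ⟨AddMonoidHom.id _, Function.bijective_id, fun _ => rfl⟩
  suffices h : SGA6.mapSub (Scheme.Modules.pushforward i) (fun M : (X').Modules => Coh.IsCoh M)
      (fun M : (X).Modules => Coh.IsCoh M) hi = g.comp φ.toAddMonoidHom by
    rw [h]
    exact hg.comp φ.bijective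
  refine Groth.Agent.Lib.KRes.KSub.hom_ext fun M hM => ?_
  rw [Groth.Agent.Lib.KRes.KSub.mapSub_cl _ hi hM, AddMonoidHom.comp_apply]
  show _ = g (φ _)
  rw [hφ M hM, hgcl]

end Groth.Agent.S16236
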