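import Groth.Statements.S16237
import Groth.Agent.Lib.Devissage.Localization
import Groth.Agent.Lib.Devissage.LineTorsion
import Groth.Agent.Lib.Cyc.Dev.SchemeEquiv
import Groth.Agent.H75.RedSub

set_option autoImplicit false
set_option linter.style.haveILetI false
universe u
open CategoryTheory CategoryTheory.Limits AlgebraicGeometry
attribute [local instance] HasDerivedCategory.standard
open SGA6

namespace Groth.Agent.S16237

open Groth.Agent.Lib CurveBundle.EndAlg in
/-- Direct image from a reduced closed subscheme kills functions vanishing on it. -/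
theorem scal_push_eq_zero {A Z : Scheme.{u}} [AlgebraicGeometry.IsReduced Z] (i : Z ⟶ A) (t : Γ(A, ⊤))
    (h : ∀ z : Z, i z ∉ A.basicOpen t) (M : Z.Modules) :
    scal ((Scheme.Modules.pushforward i).obj M) t = 0 := by
  have h0 : i.appTop t = 0 := by
    refine (basicOpen_eq_bot_iff _).mp (eq_bot_iff.mpr ?_)
    rw [← Scheme.preimage_basicOpen_top]
    exact fun z hz => h z hz
  refine Scheme.Modules.hom_ext _ _ fun U => ?_
  ext m
  rw [scal_app]
  show i.app U (A.presheaf.map (homOfLE (le_top (a := U))).op t) • (show Γ(M, i ⁻¹ᵁ U) from m) = 0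
  rw [← ConcreteCategory.comp_apply, Scheme.Hom.naturality, ConcreteCategory.comp_apply,
    show i.app ⊤ t = 0 from h0, map_zero, zero_smul]

/-- Let X be a Noetherian scheme, 𝔸¹_X the affine line over X with coordinate t, and j : U ⟶ 𝔸¹_X an
open immersion whose image is the open subset D(t) where t is invertible (so U is X × Spec ℤ[t,
t⁻¹]). Restriction along j is exact and preserves coherence (instance hypothesis and hypothesis hj);
the induced homomorphism K₀(Coh 𝔸¹_X) ⟶ K₀(Coh U) between Grothendieck groups of coherent modules is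
bijective. -/
theorem result (X : Scheme.{u}) [IsNoetherian X] {U : Scheme.{u}}
    (j : U ⟶ 𝔸(ULift.{u} (Fin 1); X)) [IsOpenImmersion j]
    (hU : Set.range j = ((𝔸(ULift.{u} (Fin 1); X)).basicOpen (AffineSpace.coord X (ULift.up (0 : Fin 1))) : Set (𝔸(ULift.{u} (Fin 1); X))))
    [PreservesFiniteLimits (Scheme.Modules.restrictFunctor j)]
    (hj : ∀ M : (𝔸(ULift.{u} (Fin 1); X)).Modules, Coh.IsCoh M → Coh.IsCoh ((Scheme.Modules.restrictFunctor j).obj M)) :
    Function.Bijective (SGA6.mapSub (Scheme.Modules.restrictFunctor j) (fun M : (𝔸(ULift.{u} (Fin 1); X)).Modules => Coh.IsCoh M)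
      (fun M : (U).Modules => Coh.IsCoh M) hj) := by
  haveI : IsNoetherian 𝔸(ULift.{u} (Fin 1); X) :=
    { toIsLocallyNoetherian := LocallyOfFiniteType.isLocallyNoetherian (𝔸(ULift.{u} (Fin 1); X) ↘ X)
      toCompactSpace := QuasiCompact.compactSpace_of_compactSpace (𝔸(ULift.{u} (Fin 1); X) ↘ X) }
  let Z : TopologicalSpace.Closeds 𝔸(ULift.{u} (Fin 1); X) :=
    ⟨((𝔸(ULift.{u} (Fin 1); X)).basicOpen (AffineSpace.coord X (ULift.up (0 : Fin 1))) : Set _)ᶜ,
      (Scheme.basicOpen _ _).isOpen.isClosed_compl⟩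
  let i := (Scheme.IdealSheafData.vanishingIdeal Z).subschemeι
  have hir : Set.range i = (Z : Set _) := by
    rw [Scheme.IdealSheafData.range_subschemeι, Scheme.IdealSheafData.coe_support_vanishingIdeal]
  have hUi : Set.range j = (Set.range i)ᶜ := by
    rw [hir, hU]
    exact (compl_compl _).symm
  haveI : PreservesFiniteColimits (Scheme.Modules.pushforward i) :=
    PreservesColimitsOfSize.preservesFiniteColimits _
  haveI : PreservesFiniteLimits (Scheme.Modules.pushforward i) :=
    haveI := (Scheme.Modules.pullbackPushforwardAdjunction i).isRightAdjoint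
    haveI : PreservesLimitsOfSize.{0, 0} (Scheme.Modules.pushforward i) := inferInstance
    PreservesLimitsOfSize.preservesFiniteLimits _
  haveI : PreservesFiniteColimits (Scheme.Modules.restrictFunctor j) :=
    Groth.Agent.Lib.Devissage.Localization.preservesFiniteColimits_restrict j
  haveI : (Scheme.Modules.restrictFunctor j).Additive := inferInstance
  obtain ⟨hs, hk⟩ := Groth.Agent.Lib.Devissage.Localization.exact_sequence i j hUi
    (fun M hM => Groth.Agent.Lib.Cyc.Dev.SchemeEquiv.isCoh_push i hM) hj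
  refine ⟨(AddMonoidHom.ker_eq_bot_iff _).mp ?_, hs⟩
  rw [hk, Groth.Agent.Lib.Devissage.Localization.img, AddMonoidHom.range_eq_bot_iff]
  refine Groth.Agent.Lib.KRes.KSub.hom_ext fun M hM => ?_
  rw [Groth.Agent.Lib.KRes.KSub.mapSub_cl _ _ hM, AddMonoidHom.zero_apply]
  exact Groth.Agent.Lib.Devissage.LineTorsion.clSub_eq_zero _
    (Groth.Agent.Lib.Cyc.Dev.SchemeEquiv.isCoh_push i hM)
    (scal_push_eq_zero i _ (fun z hz => by
      have : i z ∈ (Z : Set _) := hir ▸ ⟨z, rfl⟩
      exact this hz) M)

end Groth.Agent.S16237
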