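import Groth.Statements.S16239
import Groth.Agent.Lib.CurveBundle.K0Curve
import Groth.Agent.Lib.KVec.Model

set_option autoImplicit false
set_option linter.style.haveILetI false
universe u
open CategoryTheory CategoryTheory.Limits AlgebraicGeometry
attribute [local instance] HasDerivedCategory.standard
open SGA6

namespace Groth.Agent.S16239

/-- Let X be a smooth proper integral curve (dimension one) over an algebraically closed field k, and
write K for the Grothendieck group of finite locally free O_X-modules. Then every element of K can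
be written as (n − 1)·[O_X] + [L] with n an integer and L an invertible O_X-module, and in such an
expression n and the isomorphism class of L are unique. (This is the bijection ℤ × Pic(X) → K
underlying the ring isomorphism K ≅ ℤ ⊕ Pic(X), α ↦ (rank α, det α), of the source, which identifies
K with K₀ of coherent modules via the Cartan isomorphism. The published statement takes X
projective; a proper curve over a field is projective, so this row takes X proper.) -/
theorem result (k : Type u) [Field k] [IsAlgClosed k]
    (X : Scheme.{u}) [X.Over (Spec (CommRingCat.of k))] [IsIntegral X]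
    [IsProper (X ↘ Spec (CommRingCat.of k))] [Smooth (X ↘ Spec (CommRingCat.of k))]
    (hdim : topologicalKrullDim ↥X = 1) :
    (∀ a : SGA6.Kvb X, ∃ (n : ℤ) (L : X.Modules), PicF.IsInvertible L ∧
        a = (n - 1) • KZero.clSub (fun M : X.Modules => FlatMod.IsFinLocFree M) (Coh.structureModule X) +
          KZero.clSub (fun M : X.Modules => FlatMod.IsFinLocFree M) L) ∧
      (∀ (n m : ℤ) (L L' : X.Modules), PicF.IsInvertible L → PicF.IsInvertible L' →
        (n - 1) • KZero.clSub (fun M : X.Modules => FlatMod.IsFinLocFree M) (Coh.structureModule X) +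
            KZero.clSub (fun M : X.Modules => FlatMod.IsFinLocFree M) L =
          (m - 1) • KZero.clSub (fun M : X.Modules => FlatMod.IsFinLocFree M) (Coh.structureModule X) +
            KZero.clSub (fun M : X.Modules => FlatMod.IsFinLocFree M) L' →
        n = m ∧ Nonempty (L ≅ L')) := by
  haveI := Agent.Lib.CurveBundle.Ctx.ofIntegral k hdim
  refine ⟨fun a => ?_, fun n m L L' hL hL' h => Agent.Lib.CurveBundle.K0Curve.unique (k := k) hdim n m hL hL' h⟩
  set o := Agent.Lib.CurveBundle.K0Curve.cv (Coh.structureModule X)
  let cv := fun M : X.Modules => Agent.Lib.CurveBundle.K0Curve.cv M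
  have hOi := PicLoc.isInvertible_structureModule X
  obtain ⟨x, rfl⟩ := QuotientAddGroup.mk_surjective a
  have hof : ∀ y : Subtype (fun M : X.Modules => FlatMod.IsFinLocFree M),
      ∃ (n : ℤ) (L : X.Modules), PicF.IsInvertible L ∧
        (QuotientAddGroup.mk (FreeAbelianGroup.of y) : SGA6.Kvb X) = (n - 1) • o + cv L := fun y => by
    have hc := Agent.Lib.CurveBundle.Coherent.isCoh y.2
    have hr := Agent.Lib.CurveBundle.Degree.rank_gr k hc (Agent.Lib.CurveBundle.Coherent.isTorsionFree y.2)
    obtain ⟨L, hL, h⟩ := Agent.Lib.CurveBundle.K0Curve.exists_line_rep (k := k) hdim _ y.1 hr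
    exact ⟨_, L, hL, (dif_pos y.2).symm.trans h⟩
  induction x using FreeAbelianGroup.induction_on with
  | zero => exact ⟨0, Coh.structureModule X, hOi, show (0 : SGA6.Kvb X) = ((0 : ℤ) - 1) • o + o by module⟩
  | of y => exact hof y
  | neg y hy =>
    obtain ⟨n, L, hL, h⟩ := hof y
    have hD := Agent.Lib.TensorMod.Invertible.isInvertible_dual hL
    refine ⟨-n, _, hD, ?_⟩
    have h2 := Agent.Lib.CurveBundle.K0Curve.cl_add (k := k) hdim hL hD
    have h3 : cv (CohB1.tensorMod L (Agent.Lib.TensorMod.Dual.dual L)) = o :=
      Agent.Lib.ExtFilt.Lambda.cl_congr (Agent.Lib.TensorMod.Invertible.tensorDualIso hL)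
        (Agent.Lib.TensorMod.LocFree.of_rank (Agent.Lib.TensorMod.LocFree.of_isInvertible
          (Agent.Lib.TensorMod.Invertible.isInvertible_tensorMod hL hD)))
    change cv L + cv _ = o + cv _ at h2
    rw [h3] at h2
    refine (congrArg Neg.neg h).trans ?_
    change -((n - 1) • o + cv L) = (-n - 1) • o + cv (Agent.Lib.TensorMod.Dual.dual L)
    rw [eq_sub_of_add_eq' h2]
    module
  | add y z hy hz =>
    obtain ⟨n, L, hL, h⟩ := hy
    obtain ⟨m, M, hM, h'⟩ := hz
    refine ⟨n + m, _, Agent.Lib.TensorMod.Invertible.isInvertible_tensorMod hL hM, ?_⟩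
    have h2 := Agent.Lib.CurveBundle.K0Curve.cl_add (k := k) hdim hL hM
    change cv L + cv M = o + cv _ at h2
    refine (congrArg₂ (· + ·) h h').trans ?_
    change ((n - 1) • o + cv L) + ((m - 1) • o + cv M) = (n + m - 1) • o + cv (CohB1.tensorMod L M)
    rw [eq_sub_of_add_eq' h2.symm]
    module

end Groth.Agent.S16239
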