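import Groth.Statements.S16240
import Groth.Agent.Lib.RefHull.LocFree
import Groth.Agent.Lib.Regular.Serre
import Groth.Agent.Lib.Cyc.TorPD
import Groth.Agent.Lib.Perfect.Coherent
import Groth.Agent.Lib.CohBasics.Closure
import Groth.Agent.Lib.Modules.StalkModule
import Groth.Agent.Lib.Modules.Stalk

set_option autoImplicit false
universe u
open CategoryTheory CategoryTheory.Limits AlgebraicGeometry
open Coh

namespace Groth.Agent.S16240

open Groth.Agent.Lib Groth.Agent.Lib.Regular Groth.Agent.Lib.Modules


/-- Let X be a Noetherian scheme all of whose local rings are regular, of (topological Krull) dimension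
at most m, and let S be an exact sequence of O_X-modules G ⟶ E_m ⟶ ⋯ ⟶ E_1 ⟶ F with m + 2 terms (G
in position 0, F in position m + 1), injective at the first map and surjective at the last, in which
F is coherent and E_1, …, E_m are finite locally free. Then G is finite locally free. (The source
asks for p + 1 vector bundles with p ≥ dim X − 1, i.e. at least dim X of them, and finite dimension;
here m bounds the dimension.) -/
theorem result (X : Scheme.{u}) [IsNoetherian X]
    (hreg : ∀ x : X, IsRegularLocalRing (X.presheaf.stalk x)) (m : ℕ)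
    (hdim : topologicalKrullDim ↥X ≤ (m : WithBot ℕ∞))
    (S : ComposableArrows X.Modules (m + 1)) (hS : S.Exact)
    (hmono : Mono (S.map' 0 1 (Nat.zero_le 1) (Nat.le_add_left 1 m)))
    (hepi : Epi (S.map' m (m + 1) (Nat.le_succ m) (le_refl (m + 1))))
    (hE : ∀ i : Fin m, FlatMod.IsFinLocFree (S.obj ⟨i.1 + 1, Nat.succ_lt_succ (Nat.lt_succ_of_lt i.2)⟩))
    (hF : Coh.IsCoh (S.obj (Fin.last (m + 1)))) :
    FlatMod.IsFinLocFree (S.obj 0) := by
  haveI : Mono (S.map' 0 1 (Nat.zero_le 1) (Nat.le_add_left 1 m)) := hmono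
  haveI : Epi (S.map' m (m + 1) (Nat.le_succ m) (le_refl (m + 1))) := hepi
  have hcoh : ∀ (i : ℕ) (h : i + 1 < m + 1 + 1), Coh.IsCoh (S.obj ⟨i + 1, h⟩) := by
    intro i h
    by_cases hi : i < m
    · exact Perfect.Coherent.isCoh_of_isFinLocFree (hE ⟨i, hi⟩)
    · obtain rfl : i = m := by omega
      exact hF
  have hG : Coh.IsCoh (S.obj 0) := by
    rcases Nat.eq_zero_or_pos m with rfl | hm
    · haveI : IsIso (S.map' 0 1 (Nat.zero_le 1) (Nat.le_add_left 1 0)) := isIso_of_mono_of_epi _
      exact CohBasics.Closure.isCoh_of_iso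
        (asIso (S.map' 0 1 (Nat.zero_le 1) (Nat.le_add_left 1 0))).symm hF
    · let sc := hS.sc 0 (by omega)
      have hsc : (S.sc hS.toIsComplex 0 (by omega)).Exact := hS.exact 0 (by omega)
      haveI : Mono (S.sc hS.toIsComplex 0 (by omega)).f := hmono
      exact CohBasics.Closure.isCoh_of_iso
        (hsc.fIsKernel.conePointUniqueUpToIso (kernelIsKernel _)).symm
        (CohBasics.Closure.isCoh_kernel _ (hcoh 0 (by omega)) (hcoh 1 (by omega)).1)
  refine RefHull.LocFree.isFinLocFree hG fun x => ?_
  haveI := hreg x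
  let R := X.presheaf.stalk x
  have hsf : (IsLocalRing.maximalIdeal R).spanFinrank ≤ m := by
    have h1 := IsRegularLocalRing.spanFinrank_maximalIdeal (R := R)
    have h2 := (Cyc.TorPD.ringKrullDim_stalk_le x).trans hdim
    rw [← h1] at h2
    exact_mod_cast h2
  have key : ∀ (j k : ℕ), k + j = m → ∀ (hk : k + 1 ≤ m + 1),
      PD.PDle R (LinearMap.range (StalkModule.stalkMapₗ (S.map' k (k + 1) (Nat.le_succ k) hk) x)) k := by
    intro j
    induction j with
    | zero =>
      intro k hkm hk
      obtain rfl : m = k := hkm.symm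
      haveI : Module.Finite R ((S.obj ⟨m + 1, by omega⟩).presheaf.stalk x) :=
        RefHull.LocFree.finite_stalk hF x
      have hsurj := (StalkModule.epi_iff_stalkMapₗ_surjective _).mp hepi x
      exact PD.pdle_of_equiv
        ((LinearEquiv.ofEq _ _ (LinearMap.range_eq_top.mpr hsurj)).trans Submodule.topEquiv).symm
        (PD.pdle_mono (Serre.pdle_all (R := R) _) hsf)
    | succ j ih =>
      intro k hkm hk
      have h' := ih (k + 1) (by omega) (by omega)
      haveI : Module.Free R ((S.obj ⟨k + 1, by omega⟩).presheaf.stalk x) :=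
        RefHull.LocFree.free_stalk (hE ⟨k, by omega⟩) x
      let f := (StalkModule.stalkMapₗ (S.map' (k + 1) (k + 1 + 1) (Nat.le_succ _) (by omega)) x).rangeRestrict
      have hker := (PD.pdle_succ_iff (f := f) (LinearMap.surjective_rangeRestrict _) k).mp h'
      have hex : LinearMap.range (StalkModule.stalkMapₗ (S.map' k (k + 1) (Nat.le_succ k) hk) x) =
          LinearMap.ker f := by
        rw [LinearMap.ker_rangeRestrict]
        have hsc : (S.sc hS.toIsComplex k (by omega)).Exact := hS.exact k (by omega)
        have := ShortComplex.ab_exact_iff_range_eq_ker.mp ((Stalk.exact_iff_stalk _).mp hsc x)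
        exact SetLike.ext fun v => SetLike.ext_iff.mp this v
      exact PD.pdle_of_equiv (LinearEquiv.ofEq _ _ hex.symm) hker
  have h0 := key m 0 (by omega) (by omega)
  have hinj := (StalkModule.mono_iff_stalkMapₗ_injective _).mp hmono x
  have hproj : PD.PDle R ((S.obj 0).presheaf.stalk x) 0 :=
    PD.pdle_of_equiv (LinearEquiv.ofInjective _ hinj).symm h0
  haveI := PD.pdle_zero_iff.mp hproj
  haveI := RefHull.LocFree.finite_stalk hG x
  exact Module.free_of_flat_of_isLocalRing

end Groth.Agent.S16240
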