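import Groth.Statements.S16243
import Groth.Agent.H20.NodeTor
import Mathlib.Algebra.MvPolynomial.Division

set_option autoImplicit false
universe u
open CategoryTheory
open CAlg

namespace Groth.Agent.S16243

open MvPolynomial in
theorem facts (k : Type u) [Field k] :
    (∀ a, a * Ideal.Quotient.mk (Ideal.span {(X 0 * X 1 : MvPolynomial (Fin 2) k)}) (X 0) = 0 ↔
      Ideal.Quotient.mk (Ideal.span {(X 0 * X 1 : MvPolynomial (Fin 2) k)}) (X 1) ∣ a) ∧
    (∀ a, a * Ideal.Quotient.mk (Ideal.span {(X 0 * X 1 : MvPolynomial (Fin 2) k)}) (X 1) = 0 ↔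
      Ideal.Quotient.mk (Ideal.span {(X 0 * X 1 : MvPolynomial (Fin 2) k)}) (X 0) ∣ a) ∧
    (∀ a b, a * Ideal.Quotient.mk (Ideal.span {(X 0 * X 1 : MvPolynomial (Fin 2) k)}) (X 1) =
        b * Ideal.Quotient.mk (Ideal.span {(X 0 * X 1 : MvPolynomial (Fin 2) k)}) (X 0) →
      a * Ideal.Quotient.mk (Ideal.span {(X 0 * X 1 : MvPolynomial (Fin 2) k)}) (X 1) = 0) ∧
    (Ideal.span {Ideal.Quotient.mk (Ideal.span {(X 0 * X 1 : MvPolynomial (Fin 2) k)}) (X 0),
      Ideal.Quotient.mk (Ideal.span {(X 0 * X 1 : MvPolynomial (Fin 2) k)}) (X 1)}).IsMaximal := by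
  classical
  set I := Ideal.span {(X 0 * X 1 : MvPolynomial (Fin 2) k)}
  have h0 : Prime (X 0 : MvPolynomial (Fin 2) k) := (MvPolynomial.X_prime)
  have h1 : Prime (X 1 : MvPolynomial (Fin 2) k) := (MvPolynomial.X_prime)
  have key : ∀ (i j : Fin 2) (p : MvPolynomial (Fin 2) k), i ≠ j → X i ∣ p * X j → X i ∣ p := fun i j p hij h =>
    (((MvPolynomial.X_prime)).dvd_or_dvd h).resolve_right fun h' => by
      have := congrArg (MvPolynomial.aeval (fun v => if v = i then (0 : k) else 1)) h'.choose_spec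
      simp [Ne.symm hij] at this
  have hI : ∀ p, Ideal.Quotient.mk I p = 0 ↔ X 0 * X 1 ∣ p := fun p => by
    rw [Ideal.Quotient.eq_zero_iff_mem, Ideal.mem_span_singleton]
  have hann : ∀ (i j : Fin 2), i ≠ j → X i * X j = (X 0 * X 1 : MvPolynomial (Fin 2) k) → ∀ a,
      a * Ideal.Quotient.mk I (X i) = 0 ↔ Ideal.Quotient.mk I (X j) ∣ a := by
    intro i j hij hprod a
    obtain ⟨p, rfl⟩ := Ideal.Quotient.mk_surjective a
    rw [← map_mul, hI, ← hprod]
    refine ⟨fun h => ?_, fun ⟨c, hc⟩ => ?_⟩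
    · have : X j ∣ p := by
        obtain ⟨c, hc⟩ := h
        exact key j i p hij.symm ⟨X i * c, by rw [hc]; ring⟩
      obtain ⟨c, rfl⟩ := this
      exact ⟨Ideal.Quotient.mk I c, map_mul _ _ _⟩
    · obtain ⟨c, rfl⟩ := Ideal.Quotient.mk_surjective c
      rw [← map_mul, ← sub_eq_zero, ← map_sub, hI, ← hprod] at hc
      obtain ⟨d, hd⟩ := hc
      exact ⟨X i * d + c, by rw [show p = X i * X j * d + X j * c by rw [← hd]; ring]; ring⟩
  refine ⟨hann 0 1 (by decide) rfl, hann 1 0 (by decide) (mul_comm _ _), fun a b h => ?_, ?_⟩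
  · obtain ⟨p, rfl⟩ := Ideal.Quotient.mk_surjective a
    obtain ⟨q, rfl⟩ := Ideal.Quotient.mk_surjective b
    rw [← map_mul, ← map_mul, ← sub_eq_zero, ← map_sub, hI] at h
    obtain ⟨d, hd⟩ := h
    obtain ⟨c, rfl⟩ : X 0 ∣ p := key 0 1 p (by decide) ⟨q + X 1 * d, by
      rw [show p * X 1 = (p * X 1 - q * X 0) + q * X 0 by ring, hd]; ring⟩
    rw [← map_mul, hI]
    exact ⟨c, by ring⟩
  · let e : MvPolynomial (Fin 2) k ⧸ I →+* k := Ideal.Quotient.lift I (MvPolynomial.aeval (fun _ => (0 : k))).toRingHom (fun p hp => by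
      obtain ⟨d, rfl⟩ := Ideal.mem_span_singleton'.1 hp
      simp)
    have hker : RingHom.ker e = Ideal.span {Ideal.Quotient.mk I (X 0), Ideal.Quotient.mk I (X 1)} := by
      refine le_antisymm (fun z hz => ?_) (Ideal.span_le.2 ?_)
      · obtain ⟨p, rfl⟩ := Ideal.Quotient.mk_surjective z
        have hp : p ∈ RingHom.ker (MvPolynomial.aeval (R := k) (fun _ : Fin 2 => (0 : k))).toRingHom := hz
        have h2 : p ∈ Ideal.span {(X 0 : MvPolynomial (Fin 2) k), X 1} := by
          suffices ∀ q : MvPolynomial (Fin 2) k, q - C (MvPolynomial.aeval (fun _ => (0 : k)) q) ∈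
              Ideal.span {(X 0 : MvPolynomial (Fin 2) k), X 1} by
            have := this p
            rwa [show MvPolynomial.aeval (fun _ => (0 : k)) p = 0 from hp, map_zero, sub_zero] at this
          intro q
          induction q using MvPolynomial.induction_on with
          | C a => simp
          | add u v hu hv => simpa [add_sub_add_comm] using add_mem hu hv
          | mul_X u i hu =>
            simp only [map_mul, MvPolynomial.aeval_X, mul_zero, map_zero, sub_zero]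
            refine Ideal.mul_mem_left _ _ (Ideal.subset_span ?_)
            fin_cases i <;> simp
        have h3 := Ideal.mem_map_of_mem (Ideal.Quotient.mk I) h2
        rwa [Ideal.map_span, Set.image_pair] at h3
      · rintro z (rfl | rfl) <;> simp [e]
    rw [← hker]
    exact RingHom.ker_isMaximal_of_surjective e fun c => ⟨Ideal.Quotient.mk I (C c), by simp [e]⟩

/-- Let k be a field, A = k[x, y]/(xy) (x = X_0, y = X_1) and κ = A/(x, y) the residue field at the
origin, viewed as an A-module. Then for every i ≥ 1 the A-module Tor_i^A(κ, κ) has length 2 (it is a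
two-dimensional κ-vector space; Tor_0 is κ), and κ admits no finite projective resolution over A:
for no n is its projective dimension less than n. -/
theorem result (k : Type u) [Field k] :
    (∀ i : ℕ, 1 ≤ i →
      Module.length (MvPolynomial (Fin 2) k ⧸ Ideal.span {(MvPolynomial.X 0 * MvPolynomial.X 1 : MvPolynomial (Fin 2) k)}) ((((Tor (ModuleCat.{u} (MvPolynomial (Fin 2) k ⧸ Ideal.span {(MvPolynomial.X 0 * MvPolynomial.X 1 : MvPolynomial (Fin 2) k)})) i).obj (ModuleCat.of (MvPolynomial (Fin 2) k ⧸ Ideal.span {(MvPolynomial.X 0 * MvPolynomial.X 1 : MvPolynomial (Fin 2) k)}) ((MvPolynomial (Fin 2) k ⧸ Ideal.span {(MvPolynomial.X 0 * MvPolynomial.X 1 : MvPolynomial (Fin 2) k)}) ⧸ Ideal.span {Ideal.Quotient.mk (Ideal.span {(MvPolynomial.X 0 * MvPolynomial.X 1 : MvPolynomial (Fin 2) k)}) (MvPolynomial.X 0), Ideal.Quotient.mk (Ideal.span {(MvPolynomial.X 0 * MvPolynomial.X 1 : MvPolynomial (Fin 2) k)}) (MvPolynomial.X 1)}))).obj (ModuleCat.of (MvPolynomial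 (Fin 2) k ⧸ Ideal.span {(MvPolynomial.X 0 * MvPolynomial.X 1 : MvPolynomial (Fin 2) k)}) ((MvPolynomial (Fin 2) k ⧸ Ideal.span {(MvPolynomial.X 0 * MvPolynomial.X 1 : MvPolynomial (Fin 2) k)}) ⧸ Ideal.span {Ideal.Quotient.mk (Ideal.span {(MvPolynomial.X 0 * MvPolynomial.X 1 : MvPolynomial (Fin 2) k)}) (MvPolynomial.X 0), Ideal.Quotient.mk (Ideal.span {(MvPolynomial.X 0 * MvPolynomial.X 1 : MvPolynomial (Fin 2) k)}) (MvPolynomial.X 1)}))) : Type u) = 2) ∧
    ∀ n : ℕ, ¬ HasProjectiveDimensionLT (ModuleCat.of (MvPolynomial (Fin 2) k ⧸ Ideal.span {(MvPolynomial.X 0 * MvPolynomial.X 1 : MvPolynomial (Fin 2) k)}) ((MvPolynomial (Fin 2) k ⧸ Ideal.span {(MvPolynomial.X 0 * MvPolynomial.X 1 : MvPolynomial (Fin 2) k)}) ⧸ Ideal.span {Ideal.Quotient.mk (Ideal.span {(MvPolynomial.X 0 * MvPolynomial.X 1 : MvPolynomial (Fin 2) k)}) (MvPolynomial.X 0), Ideal.Quotient.mk (Ideal.span {(MvPolynomial.X 0 * MvPolynomial.X 1 : MvPolynomial (Fin 2) k)}) (MvPolynomial.X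 1)})) n := by
  obtain ⟨hx, hy, hxy, hmax⟩ := facts k
  refine ⟨fun i hi => ?_, fun n => Groth.Agent.H20.NodeTor.not_projDim _ _ hx hy hxy hmax n⟩
  obtain ⟨n, rfl⟩ := Nat.exists_eq_add_of_le' hi
  exact Groth.Agent.H20.NodeTor.length_tor _ _ hx hy hxy hmax n

end Groth.Agent.S16243
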