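import Groth.Statements.S16244
import Mathlib.RingTheory.RootsOfUnity.AlgebraicallyClosed
import Mathlib.AlgebraicGeometry.EllipticCurve.NormalForms
import Mathlib.GroupTheory.SpecificGroups.Cyclic
import Mathlib.Tactic.FieldSimp
import Mathlib.Tactic.LinearCombination

set_option autoImplicit false
universe u
open Curves

namespace Groth.Agent.S16244

/-- Let k be an algebraically closed field in which 2 and 3 are nonzero, and W a short Weierstrass
equation y² = x³ + a₄x + a₆ over k with nonzero discriminant. The admissible changes of variables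
(u, r, s, t) that fix W form a cyclic group, of order 6 when a₄ = 0, of order 4 when a₆ = 0, and of
order 2 when a₄ and a₆ are both nonzero. (The published statement says the automorphism group of the
elliptic curve is cyclic of order 2, 4 or 6; the automorphisms are rendered here as the changes of
variables preserving the equation, and the case distinction is the one the computation gives.) -/
theorem result
    (k : Type u) [Field k] [IsAlgClosed k] (h2 : (2 : k) ≠ 0) (h3 : (3 : k) ≠ 0)
    (W : WeierstrassCurve k) [W.IsShortNF] (hΔ : W.Δ ≠ 0) :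
    IsCyclic ↥(MulAction.stabilizer (WeierstrassCurve.VariableChange k) W) ∧
      (W.a₄ = 0 → Nat.card ↥(MulAction.stabilizer (WeierstrassCurve.VariableChange k) W) = 6) ∧
      (W.a₆ = 0 → Nat.card ↥(MulAction.stabilizer (WeierstrassCurve.VariableChange k) W) = 4) ∧
      (W.a₄ ≠ 0 → W.a₆ ≠ 0 → Nat.card ↥(MulAction.stabilizer (WeierstrassCurve.VariableChange k) W) = 2) := by
  classical
  have h0 : ¬ (W.a₄ = 0 ∧ W.a₆ = 0) := fun h => hΔ (by rw [W.Δ_of_isShortNF, h.1, h.2]; ring)
  set N : ℕ := if W.a₄ = 0 then 6 else if W.a₆ = 0 then 4 else 2 with hN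
  have hNk : NeZero (N : k) := ⟨by
    rw [hN]
    split_ifs
    · rw [show ((6 : ℕ) : k) = 2 * 3 by norm_num]; exact mul_ne_zero h2 h3
    · rw [show ((4 : ℕ) : k) = 2 * 2 by norm_num]; exact mul_ne_zero h2 h2
    · rw [show ((2 : ℕ) : k) = 2 by norm_num]; exact h2⟩
  have hmem : ∀ C : WeierstrassCurve.VariableChange k, C • W = W ↔
      C.r = 0 ∧ C.s = 0 ∧ C.t = 0 ∧ C.u ^ N = 1 := by
    intro C
    have key : ∀ {n : ℕ} {a : k}, a ≠ 0 → ((C.u⁻¹ : kˣ) : k) ^ n * a = a → C.u ^ n = 1 := by
      intro n a ha h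
      have h' : (C.u⁻¹ : kˣ) ^ n = 1 := Units.ext (by simpa using (mul_eq_right₀ ha).mp h)
      simpa using h'
    have key' : ∀ {n : ℕ}, C.u ^ n = 1 → ((C.u⁻¹ : kˣ) : k) ^ n = 1 := by
      intro n h
      rw [← Units.val_pow_eq_pow_val, inv_pow, h, inv_one, Units.val_one]
    constructor
    · intro h
      have e1 := congr_arg WeierstrassCurve.a₁ h
      have e2 := congr_arg WeierstrassCurve.a₂ h
      have e3 := congr_arg WeierstrassCurve.a₃ h
      have e4 := congr_arg WeierstrassCurve.a₄ h
      have e6 := congr_arg WeierstrassCurve.a₆ h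
      simp only [WeierstrassCurve.variableChange_a₁, WeierstrassCurve.variableChange_a₂,
        WeierstrassCurve.variableChange_a₃, WeierstrassCurve.variableChange_a₄,
        WeierstrassCurve.variableChange_a₆, W.a₁_of_isShortNF, W.a₂_of_isShortNF,
        W.a₃_of_isShortNF, zero_add, mul_zero, sub_zero, add_zero, zero_mul] at e1 e2 e3 e4 e6
      have hs : C.s = 0 := by simpa [h2] using e1
      rw [hs] at e2
      have hr : C.r = 0 := by simpa [h3] using e2
      have ht : C.t = 0 := by simpa [h2] using e3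
      simp only [hs, hr, ht, mul_zero, add_zero, sub_zero, zero_mul, ne_eq, OfNat.ofNat_ne_zero, not_false_eq_true,
        zero_pow] at e4 e6
      refine ⟨hr, hs, ht, ?_⟩
      rw [hN]
      split_ifs with h4 h6
      · exact key (fun h6' => h0 ⟨h4, h6'⟩) e6
      · exact key h4 e4
      · have a := key h4 e4
        have b := key h6 e6
        calc C.u ^ 2 = C.u ^ 2 * C.u ^ 4 := by rw [a, mul_one]
          _ = C.u ^ 6 := by rw [← pow_add]
          _ = 1 := b
    · rintro ⟨hr, hs, ht, hu⟩
      have e4 : ((C.u⁻¹ : kˣ) : k) ^ 4 * W.a₄ = W.a₄ := by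
        rw [hN] at hu
        split_ifs at hu with h4 h6
        · rw [h4, mul_zero]
        · rw [key' hu, one_mul]
        · rw [key' (show C.u ^ 4 = 1 by rw [show (4 : ℕ) = 2 * 2 by norm_num, pow_mul, hu, one_pow]), one_mul]
      have e6 : ((C.u⁻¹ : kˣ) : k) ^ 6 * W.a₆ = W.a₆ := by
        rw [hN] at hu
        split_ifs at hu with h4 h6
        · rw [key' hu, one_mul]
        · rw [h6, mul_zero]
        · rw [key' (show C.u ^ 6 = 1 by rw [show (6 : ℕ) = 2 * 3 by norm_num, pow_mul, hu, one_pow]), one_mul]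
      rw [WeierstrassCurve.variableChange_def]
      rw [Units.val_inv_eq_inv_val, inv_pow] at e4 e6
      ext <;> simp [hr, hs, ht, W.a₁_of_isShortNF, W.a₂_of_isShortNF, W.a₃_of_isShortNF, e4, e6]
  let φ : ↥(MulAction.stabilizer (WeierstrassCurve.VariableChange k) W) ≃* rootsOfUnity N k :=
    { toFun := fun C => ⟨C.1.u, ((hmem C.1).mp C.2).2.2.2⟩
      invFun := fun z => ⟨⟨z.1, 0, 0, 0⟩, (hmem _).mpr ⟨rfl, rfl, rfl, z.2⟩⟩
      left_inv := fun C => by
        obtain ⟨hr, hs, ht, -⟩ := (hmem C.1).mp C.2
        apply Subtype.ext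
        apply WeierstrassCurve.VariableChange.ext <;> simp [hr, hs, ht]
      right_inv := fun z => rfl
      map_mul' := fun C C' => Subtype.ext rfl }
  have hcard : Nat.card ↥(MulAction.stabilizer (WeierstrassCurve.VariableChange k) W) = N := by
    rw [Nat.card_congr φ.toEquiv, HasEnoughRootsOfUnity.natCard_rootsOfUnity]
  refine ⟨isCyclic_of_surjective φ.symm φ.symm.surjective, fun h => ?_, fun h => ?_, fun h h' => ?_⟩
  · rw [hcard, hN, if_pos h]
  · rw [hcard, hN, if_neg (fun h4 => h0 ⟨h4, h⟩), if_pos h]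
  · rw [hcard, hN, if_neg h, if_neg h']

end Groth.Agent.S16244
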