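import Groth.Statements.S16245
import Mathlib.AlgebraicGeometry.Morphisms.Finite
import Mathlib.AlgebraicGeometry.Morphisms.Flat
import Mathlib.RingTheory.Flat.EquationalCriterion
import Mathlib.RingTheory.Finiteness.ModuleFinitePresentation
import Groth.Agent.Lib.FreeRes.Affine

set_option autoImplicit false
universe u
open CategoryTheory CategoryTheory.Limits AlgebraicGeometry
open SDiv

namespace Groth.Agent.S16245

open CategoryTheory.Limits Groth.Agent.Lib

/-- The vanishing locus along a finite locally free morphism to an affine scheme. -/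
theorem exists_represents_finite {Z S : Scheme.{u}} [IsAffine S] (q : Z ⟶ S) [IsFinite q] [Flat q]
    [LocallyOfFinitePresentation q] (K : Z.IdealSheafData) : ∃ I, FreeRes.Represents q K I := by
  have : IsAffine Z := isAffine_of_isAffineHom q
  have h1 : q.appTop.hom.Finite := q.finite_appTop
  have h2 : q.appTop.hom.Flat :=
    HasRingHomProperty.iff_of_isAffine (P := @Flat) (f := q) |>.mp inferInstance
  have h3 : q.appTop.hom.FinitePresentation :=
    HasRingHomProperty.iff_of_isAffine (P := @LocallyOfFinitePresentation) (f := q) |>.mp inferInstance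
  obtain ⟨I, hI, -⟩ := FreeRes.exists_represents_affine q (by
    let := q.appTop.hom.toAlgebra
    have : Module.Finite Γ(S, ⊤) Γ(Z, ⊤) := h1
    have : Algebra.FinitePresentation Γ(S, ⊤) Γ(Z, ⊤) := h3
    have : Module.Flat Γ(S, ⊤) Γ(Z, ⊤) := h2
    have := Module.FinitePresentation.of_finite_of_finitePresentation Γ(S, ⊤) Γ(Z, ⊤)
    exact Module.Flat.projective_of_finitePresentation) K
  exact ⟨I, hI⟩

/-- Let f : X → S be a morphism of schemes, D ⊆ X an effective Cartier divisor with ideal sheaf 𝓘, and
D' ⊆ X a closed subscheme with ideal sheaf 𝓘' such that D' → S is finite, flat and locally of finite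
presentation (finite locally free). Then there is a closed subscheme Z ⊆ S such that a morphism g :
T → S factors through Z exactly when, on X ×_S T, the inverse image ideal of 𝓘 is contained in the
inverse image ideal of 𝓘', that is, the pull-back of D' is a closed subscheme of the pull-back of D.
This universal property determines Z, and compatibility of Z with base change follows from it. (In
the source X is a family of elliptic curves and D, D' are relative effective Cartier divisors, D'
then being finite locally free over S; the argument uses only the hypotheses stated here.) -/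
theorem result
    {X S : Scheme.{u}} (f : X ⟶ S) (𝓘 𝓘' : X.IdealSheafData) (hD : BlowUp.IsEffCartierIdeal 𝓘)
    [IsFinite (𝓘'.subschemeι ≫ f)] [Flat (𝓘'.subschemeι ≫ f)]
    [LocallyOfFinitePresentation (𝓘'.subschemeι ≫ f)] :
    ∃ 𝓩 : S.IdealSheafData, ∀ (T : Scheme.{u}) (g : T ⟶ S),
      (∃ t : T ⟶ 𝓩.subscheme, t ≫ 𝓩.subschemeι = g) ↔
        𝓘.comap (pullback.fst f g) ≤ 𝓘'.comap (pullback.fst f g) := by
  let π := 𝓘'.subschemeι ≫ f
  let K := 𝓘.comap 𝓘'.subschemeι
  have hloc : ∀ i : S.affineCover.I₀, ∃ J, FreeRes.Represents (pullback.snd π (S.affineCover.f i))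
      (K.comap (pullback.fst π (S.affineCover.f i))) J := fun i =>
    exists_represents_finite (pullback.snd π (S.affineCover.f i)) _
  obtain ⟨I, hI⟩ := FreeRes.exists_represents_of_openCover (f := π) (K := K) S.affineCover hloc
  refine ⟨I, fun T g => ?_⟩
  have hlift : (∃ t : T ⟶ I.subscheme, t ≫ I.subschemeι = g) ↔ I.comap g = ⊥ := by
    rw [← le_bot_iff, ← Scheme.IdealSheafData.le_map_iff_comap_le, Scheme.IdealSheafData.map_bot]
    exact ⟨fun ⟨t, ht⟩ => ht ▸ (Scheme.IdealSheafData.ker_subschemeι I).symm.le.trans (Scheme.Hom.le_ker_comp _ _),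
      fun h => ⟨IsClosedImmersion.lift I.subschemeι g (by rwa [Scheme.IdealSheafData.ker_subschemeι]),
        IsClosedImmersion.lift_fac _ _ _⟩⟩
  let p := pullback.fst f g
  let J := 𝓘'.comap p
  let a := (𝓘'.comapIso p).hom ≫ pullback.snd p 𝓘'.subschemeι
  have sq : IsPullback a (J.subschemeι ≫ pullback.snd f g) π g := by
    have h0 : IsPullback a J.subschemeι 𝓘'.subschemeι p := by
      refine (IsPullback.of_hasPullback p 𝓘'.subschemeι).flip.of_iso (𝓘'.comapIso p).symm (Iso.refl _)
        (Iso.refl _) (Iso.refl _) ?_ ?_ (by simp) (by simp)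
      · simp only [a, Iso.symm_hom, Iso.refl_hom, Category.comp_id, Iso.inv_hom_id_assoc]
      · simp [J, p]
    exact h0.paste_vert (IsPullback.of_hasPullback f g)
  have key : 𝓘.comap p ≤ J ↔ (𝓘.comap p).comap J.subschemeι = ⊥ := by
    conv_rhs => rw [← le_bot_iff, ← Scheme.IdealSheafData.le_map_iff_comap_le, Scheme.IdealSheafData.map_bot,
      Scheme.IdealSheafData.ker_subschemeι]
  have e : a ≫ 𝓘'.subschemeι = J.subschemeι ≫ p := by
    simp only [a, Category.assoc, ← pullback.condition]
    simp [J]
  rw [hlift, hI a _ g sq, key, ← Scheme.IdealSheafData.comap_comp, ← Scheme.IdealSheafData.comap_comp, e]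

end Groth.Agent.S16245
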