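import Groth.Statements.S16247
import Groth.Agent.H34.AbelMono
import Groth.Agent.Lib.RelDiv.Cartier
import Groth.Agent.Lib.GrpSch.FiniteRestr
-- import your own Groth.Agent.* helpers here

set_option autoImplicit false
universe u
open CategoryTheory CategoryTheory.Limits AlgebraicGeometry MonObj
open AgPol

namespace Groth.Agent.S16247

open Groth.Agent

open MonoidalCategory CartesianMonoidalCategory in
theorem exists_closed {S : Scheme.{u}} (E : Over S) [GrpObj E] (D : Scheme.{u}) (i : D ⟶ E.left)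
    [IsClosedImmersion i] [IsFinite (i ≫ E.hom)] [Flat (i ≫ E.hom)] [LocallyOfFinitePresentation (i ≫ E.hom)] :
    ∃ 𝓩 : S.IdealSheafData, ∀ (T : Scheme.{u}) (g : T ⟶ S),
      (∃ t : T ⟶ 𝓩.subscheme, t ≫ 𝓩.subschemeι = g) ↔
        ∀ (T' : Scheme.{u}) (a : T' ⟶ T), ∃ H : Subgroup (Over.mk (a ≫ g) ⟶ E),
          (H : Set (Over.mk (a ≫ g) ⟶ E)) = {x | ∃ d : T' ⟶ D, d ≫ i = x.left} := by
  let Do : Over S := Over.mk (i ≫ E.hom)
  let io : Do ⟶ E := Over.homMk i rfl
  haveI : IsFinite Do.hom := ‹IsFinite (i ≫ E.hom)›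
  haveI : Flat Do.hom := ‹Flat (i ≫ E.hom)›
  haveI : LocallyOfFinitePresentation Do.hom := ‹LocallyOfFinitePresentation (i ≫ E.hom)›
  haveI : IsFinite (Do ⊗ Do).hom := inferInstanceAs (IsFinite (pullback.fst Do.hom Do.hom ≫ Do.hom))
  haveI : Flat (Do ⊗ Do).hom := inferInstanceAs (Flat (pullback.fst Do.hom Do.hom ≫ Do.hom))
  haveI : LocallyOfFinitePresentation (Do ⊗ Do).hom :=
    inferInstanceAs (LocallyOfFinitePresentation (pullback.fst Do.hom Do.hom ≫ Do.hom))
  let u : Do ⊗ Do ⟶ E := (fst Do Do ≫ io) * (snd Do Do ≫ io)⁻¹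
  let η₀ : S ⟶ E.left := η[E].left
  obtain ⟨Z₂, j₂, hj₂, -, hZ₂⟩ := Lib.GrpSch.FiniteRestr.exists_closed_restr (Do ⊗ Do).hom (pullback.snd i u.left)
  let j : pullback (pullback.snd i η₀) j₂ ⟶ S := pullback.snd _ _ ≫ j₂
  haveI : IsClosedImmersion j := inferInstance
  have one_left : ∀ (W : Over S), (1 : W ⟶ E).left = W.hom ≫ η₀ := fun W => by
    rw [Hom.one_def, Over.comp_left, Over.toUnit_left]
  refine ⟨j.ker, fun T g => ?_⟩
  have hj : (∃ t : T ⟶ j.ker.subscheme, t ≫ j.ker.subschemeι = g) ↔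
      (∃ w, w ≫ pullback.snd i η₀ = g) ∧ (∃ w, w ≫ j₂ = g) := by
    constructor
    · rintro ⟨t, ht⟩
      let v := IsClosedImmersion.lift j j.ker.subschemeι (by rw [Scheme.IdealSheafData.ker_subschemeι])
      have hv : v ≫ j = j.ker.subschemeι := IsClosedImmersion.lift_fac _ _ _
      exact ⟨⟨t ≫ v ≫ pullback.fst _ _, by rw [Category.assoc, Category.assoc, pullback.condition]; exact (congrArg (t ≫ ·) hv).trans ht⟩,
        ⟨t ≫ v ≫ pullback.snd _ _, by rw [Category.assoc, Category.assoc]; exact (congrArg (t ≫ ·) hv).trans ht⟩⟩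
    · rintro ⟨⟨w₁, h₁⟩, ⟨w₂, h₂⟩⟩
      let v := IsClosedImmersion.lift j.ker.subschemeι j (by rw [Scheme.IdealSheafData.ker_subschemeι])
      exact ⟨pullback.lift w₁ w₂ (h₁.trans h₂.symm) ≫ v, by
        rw [Category.assoc, IsClosedImmersion.lift_fac, pullback.lift_snd_assoc, h₂]⟩
  rw [hj, hZ₂]
  constructor
  · rintro ⟨⟨w, hw⟩, h⟩ T' a
    refine ⟨Subgroup.ofDiv {x : Over.mk (a ≫ g) ⟶ E | ∃ d : T' ⟶ D, d ≫ i = x.left} ⟨1, a ≫ w ≫ pullback.fst _ _, ?_⟩ ?_, rfl⟩
    · rw [one_left, Category.assoc, Category.assoc, pullback.condition]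
      show a ≫ w ≫ pullback.snd i η₀ ≫ η₀ = (a ≫ g) ≫ η₀
      rw [reassoc_of% hw, Category.assoc]
    · rintro x ⟨d, hd⟩ y ⟨e, he⟩
      let xo : Over.mk (a ≫ g) ⟶ Do := Over.homMk d (by
        show d ≫ i ≫ E.hom = _; rw [reassoc_of% hd]; exact Over.w x)
      let yo : Over.mk (a ≫ g) ⟶ Do := Over.homMk e (by
        show e ≫ i ≫ E.hom = _; rw [reassoc_of% he]; exact Over.w y)
      obtain ⟨p', hp'⟩ := h T' (lift xo yo).left a (Over.w (lift xo yo))
      have hu : lift xo yo ≫ u = x * y⁻¹ := by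
        rw [MonObj.comp_mul, GrpObj.comp_inv, lift_fst_assoc, lift_snd_assoc]
        congr 1
        · exact Over.OverMorphism.ext hd
        · exact congrArg _ (Over.OverMorphism.ext he)
      refine ⟨p' ≫ pullback.fst _ _, ?_⟩
      rw [Category.assoc, pullback.condition, reassoc_of% hp', ← hu]
      rfl
  · intro h
    constructor
    · obtain ⟨H, hH⟩ := h T (𝟙 T)
      obtain ⟨d, hd⟩ : (1 : Over.mk (𝟙 T ≫ g) ⟶ E) ∈ {x : Over.mk (𝟙 T ≫ g) ⟶ E | ∃ d : T ⟶ D, d ≫ i = x.left} :=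
        hH ▸ H.one_mem
      refine ⟨pullback.lift d g ?_, pullback.lift_snd _ _ _⟩
      rw [hd, one_left]
      simp
    · intro W p q hpq
      let po : Over.mk (q ≫ g) ⟶ Do ⊗ Do := Over.homMk p hpq
      obtain ⟨H, hH⟩ := h W q
      have hx : po ≫ fst Do Do ≫ io ∈ H :=
        (Set.ext_iff.1 hH _).2 ⟨(po ≫ fst Do Do).left, rfl⟩
      have hy : po ≫ snd Do Do ≫ io ∈ H :=
        (Set.ext_iff.1 hH _).2 ⟨(po ≫ snd Do Do).left, rfl⟩
      obtain ⟨d, hd⟩ : (po ≫ fst Do Do ≫ io) * (po ≫ snd Do Do ≫ io)⁻¹ ∈ {x : Over.mk (q ≫ g) ⟶ E | ∃ d : W ⟶ D, d ≫ i = x.left} :=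
        hH ▸ H.mul_mem hx (H.inv_mem hy)
      refine ⟨pullback.lift d p ?_, pullback.lift_snd _ _ _⟩
      rw [hd, ← GrpObj.comp_inv, ← MonObj.comp_mul]
      rfl

/-- Let E be an S-group scheme which is smooth and proper over S with geometrically connected fibres of
dimension one (a family of elliptic curves over S with its group law), and let D ⊆ E be an effective
Cartier divisor with ideal sheaf 𝓓 such that D is flat over S (a relative effective Cartier divisor
on E/S). Then there is a closed subscheme Z ⊆ S such that a morphism g : T → S factors through Z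
exactly when the pulled-back closed subscheme D_T ⊆ E_T is a subgroup scheme of E_T over T, that is,
when for every scheme T' over T the T'-valued points of E (over S) that factor through D form a
subgroup of the group of all T'-valued points. This universal property determines Z, and
compatibility of Z with base change follows from it. -/
theorem result
    {S : Scheme.{u}} (E : Over S) [GrpObj E] (hE : AgPol.IsAbSch E 1)
    (𝓓 : E.left.IdealSheafData) (hD : BlowUp.IsEffCartierIdeal 𝓓) [Flat (𝓓.subschemeι ≫ E.hom)] :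
    ∃ 𝓩 : S.IdealSheafData, ∀ (T : Scheme.{u}) (g : T ⟶ S),
      (∃ t : T ⟶ 𝓩.subscheme, t ≫ 𝓩.subschemeι = g) ↔
        ∀ (T' : Scheme.{u}) (a : T' ⟶ T), ∃ H : Subgroup (Over.mk (a ≫ g) ⟶ E),
          (H : Set (Over.mk (a ≫ g) ⟶ E)) =
            {x | ∃ d : T' ⟶ 𝓓.subscheme, d ≫ 𝓓.subschemeι = x.left} := by
  haveI := hE.smooth
  haveI := hE.proper
  haveI := hE.geomConnected
  haveI : SmoothOfRelativeDimension 1 E.hom := H34.AbelMono.smooth_relDim_one E.hom hE.fibreDim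
  haveI := Lib.RelDiv.Cartier.lfp_of_isEffCartier E.hom hD
  haveI := Lib.RelDiv.Cartier.locallyQuasiFinite_of_isEffCartier E.hom hD
  haveI : IsFinite (𝓓.subschemeι ≫ E.hom) := (IsFinite.iff_isProper_and_locallyQuasiFinite _).2 ⟨inferInstance, inferInstance⟩
  exact exists_closed E 𝓓.subscheme 𝓓.subschemeι

end Groth.Agent.S16247
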