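import Groth.Statements.S16251
import Groth.Agent.H88.EtMod.PBCQuotient

set_option autoImplicit false
open CategoryTheory CategoryTheory.Limits AlgebraicGeometry Opposite
universe u
open EtPBC

namespace Groth.Agent.S16251

/-- Let ℓ be a prime, X a locally Noetherian scheme and F = (F_n) an ℓ-adic projective system of abelian
sheaves on the small étale site of X, indexed from 0 (so ℓ^(n+1) F_n = 0 and, for n ≤ m, the
transition map F_m ⟶ F_n is a quotient map modulo ℓ^(n+1)). If the first member F_0 is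
constructible, then every member F_n is constructible. (The converse is trivial. The published
statement indexes the system from 1, with ℓ^n killing the n-th member; the statement here indexes it
from 0.) -/
theorem result (ℓ : ℕ) [Fact ℓ.Prime]
    (X : Scheme.{u}) [IsLocallyNoetherian X]
    (F : ARSys.PS (EtCoh.Ab X)) (hF : ARSys.IsAdic (Ideal.span {(ℓ : ℤ)}) F)
    (h0 : EtPBC.IsConstructible (F.obj (op 0))) (n : ℕ) :
    EtPBC.IsConstructible (F.obj (op n)) := by
  open Groth.Agent.H88.EtMod in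
  obtain ⟨hk, hq⟩ := hF
  have epi : ∀ (a b : ℕ) (h : a ≤ b), Epi (ARSys.tr F h) := fun a b h => by
    refine ⟨fun {Z} f g hfg => ?_⟩
    obtain ⟨ψ, -, huniq⟩ := (hq a b h).2 Z (ARSys.tr F h ≫ f) (fun r hr => by
      have h0 := (hq a b h).1 r hr
      calc r • (ARSys.tr F h ≫ f) = ARSys.tr F h ≫ (r • 𝟙 (F.obj (op a))) ≫ f := by
            rw [Linear.smul_comp, Category.id_comp, Linear.comp_smul]
        _ = 0 := by rw [h0, zero_comp, comp_zero])
    exact (huniq f rfl).trans (huniq g hfg.symm).symm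
  induction n with
  | zero => exact h0
  | succ n ih =>
    let p := ARSys.tr F (Nat.le_succ n)
    let p₀ := ARSys.tr F (Nat.zero_le (n + 1))
    have hmem : ∀ k : ℕ, ((ℓ : ℤ)) ^ k ∈ (Ideal.span {(ℓ : ℤ)}) ^ k := fun k =>
      Ideal.pow_mem_pow (Ideal.mem_span_singleton_self _) k
    have hkilled : ∀ {Z : EtCoh.Ab X} (φ : F.obj (op (n + 1)) ⟶ Z) (k : ℕ),
        ((ℓ : ℤ) ^ k) • φ = 0 → ARSys.HomKilledBy ((Ideal.span {(ℓ : ℤ)}) ^ k) φ := by
      intro Z φ k h r hr
      rw [Ideal.span_singleton_pow, Ideal.mem_span_singleton] at hr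
      obtain ⟨c, rfl⟩ := hr
      rw [mul_comm, mul_smul, h, smul_zero]
    let m : F.obj (op (n + 1)) ⟶ F.obj (op (n + 1)) := ((ℓ : ℤ) ^ (n + 1)) • 𝟙 _
    have hm1 : ((ℓ : ℤ) ^ 1) • m = 0 := by
      rw [← mul_smul, ← pow_add, show 1 + (n + 1) = (n + 1) + 1 by omega]
      exact hk (n + 1) _ (hmem _)
    obtain ⟨g, hg, -⟩ := (hq 0 (n + 1) (Nat.zero_le _)).2 _ m (hkilled m 1 hm1)
    haveI : Epi p₀ := epi _ _ _
    haveI : Epi p := epi _ _ _
    have hmp : m ≫ p = 0 := by
      have h1 := (hq n (n + 1) (Nat.le_succ n)).1 _ (hmem (n + 1))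
      calc m ≫ p = p ≫ (((ℓ : ℤ) ^ (n + 1)) • 𝟙 (F.obj (op n))) := by
            rw [Linear.smul_comp, Category.id_comp, Linear.comp_smul, Category.comp_id]
        _ = 0 := by rw [h1, comp_zero]
    have hgp : g ≫ p = 0 := by
      rw [← cancel_epi p₀, ← Category.assoc, hg, hmp, comp_zero]
    have hexact : (ShortComplex.mk g p hgp).Exact := by
      apply ShortComplex.exact_of_g_is_cokernel
      have key : ∀ {Z : EtCoh.Ab X} (φ : F.obj (op (n + 1)) ⟶ Z), g ≫ φ = 0 →
          ∃ ψ, p ≫ ψ = φ := by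
        intro Z φ hφ
        obtain ⟨ψ, hψ, -⟩ := (hq n (n + 1) (Nat.le_succ n)).2 Z φ (hkilled φ (n + 1) (by
          calc ((ℓ : ℤ) ^ (n + 1)) • φ = m ≫ φ := by rw [Linear.smul_comp, Category.id_comp]
            _ = (p₀ ≫ g) ≫ φ := by rw [hg]
            _ = 0 := by rw [Category.assoc, hφ, comp_zero]))
        exact ⟨ψ, hψ⟩
      refine CokernelCofork.IsColimit.ofπ _ _ (fun φ hφ => (key φ hφ).choose)
        (fun φ hφ => (key φ hφ).choose_spec) (fun φ hφ b hb => ?_)
      exact (cancel_epi p).1 (hb.trans (key φ hφ).choose_spec.symm)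
    haveI : Epi (kernel.lift p g hgp) :=
      (ShortComplex.exact_iff_epi_kernel_lift _).1 hexact
    have hS : (ShortComplex.mk (kernel.ι p) p (kernel.condition p)).ShortExact :=
      ⟨ShortComplex.exact_of_f_is_kernel _ (kernelIsKernel p)⟩
    exact PBCOps.isConstructible_ext hS
      (PBCQuotient.isConstructible_of_epi (kernel.lift p g hgp) h0) ih

end Groth.Agent.S16251
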