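import Groth.Statements.S16253
import Groth.Agent.Lib.FittSheaf.LocalImm
import Groth.Agent.Lib.FittSheaf.Gen
import Groth.Agent.Lib.ProjSpace.Basic
import Mathlib.RingTheory.Smooth.StandardSmoothCotangent
import Mathlib.AlgebraicGeometry.Morphisms.Etale

open Groth.Agent Groth.Agent.Lib
open scoped KaehlerDifferential

set_option autoImplicit false
universe u
open CategoryTheory CategoryTheory.Limits AlgebraicGeometry TopologicalSpace
open SDiv

namespace Groth.Agent.S16253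

theorem fitt_transfer {X Y : Scheme.{u}} (f : X ⟶ Y) [LocallyOfFiniteType f] [QuasiSeparated f]
    {V : Y.Opens} {U₀ : X.Opens} (hV : IsAffineOpen V) (hU₀ : IsAffineOpen U₀) (e : U₀ ≤ f ⁻¹ᵁ V)
    (p : ℕ) {x : X} (hx : x ∈ U₀) :
    letI := (f.appLE V U₀ e).hom.toAlgebra
    (x ∉ (Fitt.sheafIdeal (Omega.sheaf f) p).support ↔
      ¬ Fitt.ideal Γ(X, U₀) Ω[Γ(X, U₀)⁄Γ(Y, V)] p ≤ (hU₀.primeIdealOf ⟨x, hx⟩).asIdeal) := by
  letI := (f.appLE V U₀ e).hom.toAlgebra
  haveI := (FittSheaf.qcoh_ft_omega f).1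
  haveI := (FittSheaf.qcoh_ft_omega f).2
  haveI : Module.Finite Γ(X, U₀) Γ(Omega.sheaf f, U₀) := CohBasics.Affine.finite_sections hU₀
  haveI := Kaehler.ToSect.isIso_toSect f hU₀ hV e
  let E : Ω[Γ(X, U₀)⁄Γ(Y, V)] ≃ₗ[Γ(X, U₀)] Γ(Omega.sheaf f, U₀) :=
    (asIso (OmAff.toSect f V U₀ e)).toLinearEquiv
  haveI : Module.Finite Γ(X, U₀) Ω[Γ(X, U₀)⁄Γ(Y, V)] := Module.Finite.equiv E.symm
  rw [FittSheaf.not_mem_support_iff, FittSheaf.fitt_stalk (Omega.sheaf f) hU₀ hx,
    ← H25.Fitting.ideal_congr E p]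
  letI := X.presheaf.algebra_section_stalk ⟨x, hx⟩
  haveI := hU₀.isLocalization_stalk ⟨x, hx⟩
  set P := (hU₀.primeIdealOf ⟨x, hx⟩).asIdeal
  constructor
  · intro h hle
    refine (IsLocalRing.maximalIdeal.isMaximal (X.presheaf.stalk x)).ne_top (top_le_iff.1 ?_)
    rw [← h, ← IsLocalization.AtPrime.map_eq_maximalIdeal P (X.presheaf.stalk x)]
    exact Ideal.map_mono hle
  · intro h
    obtain ⟨a, ha, haP⟩ := SetLike.not_le_iff_exists.1 h
    exact Ideal.eq_top_of_isUnit_mem _ (Ideal.mem_map_of_mem _ ha)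
      ((IsLocalization.AtPrime.isUnit_to_map_iff (X.presheaf.stalk x) P a).2 haP)

theorem fitt_of_closedImmersion {X Y : Scheme.{u}} (f : X ⟶ Y) [LocallyOfFinitePresentation f]
    [QuasiSeparated f] (p : ℕ) (x : ↥X) (U : X.Opens) (U' : Scheme.{u}) (i : (U : Scheme.{u}) ⟶ U')
    (g : U' ⟶ Y) (hxU : x ∈ U) [IsClosedImmersion i] [SmoothOfRelativeDimension p g]
    (hfac : i ≫ g = U.ι ≫ f) : x ∉ (Fitt.sheafIdeal (Omega.sheaf f) p).support := by
  obtain ⟨V, hV, W, hW, hyW, e, hsm⟩ :=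
    SmoothOfRelativeDimension.exists_isStandardSmoothOfRelativeDimension (n := p) (f := g) (i ⟨x, hxU⟩)
  let U₀' : (U : Scheme.{u}).Opens := i ⁻¹ᵁ W
  let U₀ : X.Opens := U.ι ''ᵁ U₀'
  have hU₀' : IsAffineOpen U₀' := hW.preimage i
  have hU₀ : IsAffineOpen U₀ := hU₀'.image_of_isOpenImmersion U.ι
  have hxU₀ : x ∈ U₀ := ⟨⟨x, hxU⟩, hyW, rfl⟩
  have e₀ : U₀ ≤ f ⁻¹ᵁ V := by
    rintro _ ⟨z, hz, rfl⟩
    show (U.ι ≫ f) z ∈ V
    rw [← hfac]
    exact e hz
  let ψ : Γ(U', W) →+* Γ(X, U₀) := (i.app W).hom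
  have hψ : Function.Surjective ψ := i.app_surjective W hW
  have hcomp : ψ.comp (g.appLE V W e).hom = (f.appLE V U₀ e₀).hom := by
    have e' : U₀' ≤ (U.ι ≫ f) ⁻¹ᵁ V := hfac ▸ fun z hz => e hz
    have h1 : g.appLE V W e ≫ i.appLE W U₀' le_rfl = (U.ι ≫ f).appLE V U₀' e' := by
      rw [Scheme.Hom.appLE_comp_appLE]
      simp only [hfac]
    have h2 : f.appLE V U₀ e₀ ≫ U.ι.appLE U₀ U₀' (U.ι.preimage_image_eq U₀').ge =
        (U.ι ≫ f).appLE V U₀' e' := Scheme.Hom.appLE_comp_appLE _ _ _ _ _ _ _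
    have h3 : U.ι.appLE U₀ U₀' (U.ι.preimage_image_eq U₀').ge = 𝟙 Γ(X, U₀) := by
      rw [Scheme.Opens.ι_appLE, Subsingleton.elim (homOfLE _) (𝟙 U₀), op_id, X.presheaf.map_id]
    have h4 : i.appLE W U₀' le_rfl = i.app W := (i.app_eq_appLE).symm
    rw [h3] at h2
    rw [h4] at h1
    exact congrArg CommRingCat.Hom.hom (h1.trans (h2.symm.trans (Category.comp_id _)))
  rw [fitt_transfer f hV hU₀ e₀ p hxU₀]
  letI := (g.appLE V W e).hom.toAlgebra
  letI := ψ.toAlgebra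
  letI := (f.appLE V U₀ e₀).hom.toAlgebra
  haveI : IsScalarTower Γ(Y, V) Γ(U', W) Γ(X, U₀) := .of_algebraMap_eq' hcomp.symm
  haveI : Algebra.IsStandardSmoothOfRelativeDimension p Γ(Y, V) Γ(U', W) := hsm
  haveI := Algebra.IsStandardSmoothOfRelativeDimension.isStandardSmooth p (R := Γ(Y, V)) (S := Γ(U', W))
  haveI : Nontrivial Γ(U', W) :=
    (U'.presheaf.germ W (i ⟨x, hxU⟩) hyW).hom.domain_nontrivial
  have hr := Algebra.IsStandardSmoothOfRelativeDimension.rank_kaehlerDifferential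
    (R := Γ(Y, V)) (S := Γ(U', W)) p
  haveI : Module.Finite Γ(U', W) Ω[Γ(U', W)⁄Γ(Y, V)] := Module.finite_of_rank_eq_nat hr
  let bas := Module.finBasisOfFinrankEq Γ(U', W) Ω[Γ(U', W)⁄Γ(Y, V)] (Module.finrank_eq_of_rank_eq hr)
  let π := KaehlerDifferential.map Γ(Y, V) Γ(Y, V) Γ(U', W) Γ(X, U₀)
  have hπ : Function.Surjective π := KaehlerDifferential.map_surjective_of_surjective _ _ _ _ hψ
  have hspan : Submodule.span Γ(X, U₀) (Set.range fun k => π (bas k)) = ⊤ := by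
    rw [eq_top_iff]
    intro z _
    obtain ⟨z, rfl⟩ := hπ z
    have h : π z ∈ (Submodule.span Γ(U', W) (Set.range bas)).map π :=
      Submodule.mem_map_of_mem (bas.span_eq.ge trivial)
    rw [Submodule.map_span, ← Set.range_comp] at h
    exact Submodule.span_le_restrictScalars Γ(U', W) Γ(X, U₀) _ h
  intro hle
  exact (hU₀.primeIdealOf ⟨x, hxU₀⟩).isPrime.ne_top
    (top_le_iff.1 ((H25.Fitting.ideal_eq_top _ hspan le_rfl).ge.trans hle))

theorem closedImmersion_of_fitt {X Y : Scheme.{u}} (f : X ⟶ Y) [LocallyOfFinitePresentation f]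
    [QuasiSeparated f] (p : ℕ) (x : ↥X) (h : x ∉ (Fitt.sheafIdeal (Omega.sheaf f) p).support) :
    ∃ (U : X.Opens) (U' : Scheme.{u}) (i : (U : Scheme.{u}) ⟶ U') (g : U' ⟶ Y),
        x ∈ U ∧ IsClosedImmersion i ∧ SmoothOfRelativeDimension p g ∧ i ≫ g = U.ι ≫ f := by
  obtain ⟨V, hV, hxV, -⟩ := exists_isAffineOpen_mem_and_subset (show f x ∈ (⊤ : Y.Opens) from trivial)
  obtain ⟨U₀, hU₀, hx₀, e₀⟩ := exists_isAffineOpen_mem_and_subset (show x ∈ f ⁻¹ᵁ V from hxV)
  rw [fitt_transfer f hV hU₀ e₀ p hx₀] at h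
  letI := (f.appLE V U₀ e₀).hom.toAlgebra
  haveI : Algebra.FinitePresentation Γ(Y, V) Γ(X, U₀) := f.finitePresentation_appLE hV hU₀ e₀
  obtain ⟨b, hb⟩ := FittSheaf.exists_isUnramifiedAt_mvPolynomial
    (hU₀.primeIdealOf ⟨x, hx₀⟩).asIdeal h
  let R' := MvPolynomial (Fin p) Γ(Y, V)
  letI : Algebra R' Γ(X, U₀) := (MvPolynomial.aeval (R := Γ(Y, V)) b).toAlgebra
  haveI : IsScalarTower Γ(Y, V) R' Γ(X, U₀) :=
    .of_algebraMap_eq' (MvPolynomial.aeval b).comp_algebraMap.symm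
  haveI : Algebra.FiniteType R' Γ(X, U₀) :=
    Algebra.FiniteType.of_restrictScalars_finiteType Γ(Y, V) R' Γ(X, U₀)
  haveI : Algebra.IsUnramifiedAt R' (hU₀.primeIdealOf ⟨x, hx₀⟩).asIdeal := hb
  obtain ⟨f₀, hf₀, P, φ, hφ⟩ :=
    Algebra.IsUnramifiedAt.exists_hasStandardEtaleSurjectionOn (R := R')
      (hU₀.primeIdealOf ⟨x, hx₀⟩).asIdeal
  let U := X.basicOpen f₀
  have hU : IsAffineOpen U := hU₀.basicOpen f₀
  have hle : U ≤ U₀ := X.basicOpen_le f₀
  have hxU : x ∈ U := by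
    letI := X.presheaf.algebra_section_stalk ⟨x, hx₀⟩
    haveI := hU₀.isLocalization_stalk ⟨x, hx₀⟩
    rw [X.mem_basicOpen f₀ x hx₀]
    exact (IsLocalization.AtPrime.isUnit_to_map_iff (X.presheaf.stalk x)
      (hU₀.primeIdealOf ⟨x, hx₀⟩).asIdeal f₀).2 hf₀
  letI := (X.presheaf.map (homOfLE hle).op).hom.toAlgebra
  haveI : IsLocalization.Away f₀ Γ(X, U) := hU₀.isLocalization_basicOpen f₀
  let ε : Localization.Away f₀ ≃ₐ[Γ(X, U₀)] Γ(X, U) :=
    IsLocalization.algEquiv (Submonoid.powers f₀) _ _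
  let φ' : CommRingCat.of P.Ring ⟶ Γ(X, U) := CommRingCat.ofHom (ε.toRingHom.comp φ.toRingHom)
  let c : CommRingCat.of Γ(Y, V) ⟶ CommRingCat.of R' := CommRingCat.ofHom (MvPolynomial.C)
  let et : CommRingCat.of R' ⟶ CommRingCat.of P.Ring := CommRingCat.ofHom (algebraMap R' P.Ring)
  let eU : U ≤ f ⁻¹ᵁ V := hle.trans e₀
  have hcomp : c ≫ et ≫ φ' = f.appLE V U eU := by
    rw [← Scheme.Hom.appLE_map f e₀ (homOfLE hle).op]
    ext a
    show ε (φ (algebraMap R' P.Ring (MvPolynomial.C a))) =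
      algebraMap Γ(X, U₀) Γ(X, U) (algebraMap Γ(Y, V) Γ(X, U₀) a)
    rw [AlgHom.commutes, IsScalarTower.algebraMap_apply R' Γ(X, U₀) (Localization.Away f₀),
      AlgEquiv.commutes, RingHom.algebraMap_toAlgebra (MvPolynomial.aeval (R := Γ(Y, V)) b).toRingHom]
    exact congrArg _ (MvPolynomial.aeval_C b a)
  refine ⟨U, Spec (CommRingCat.of P.Ring), hU.isoSpec.hom ≫ Spec.map φ',
    Spec.map et ≫ Spec.map c ≫ hV.fromSpec, hxU, ?_, ?_, ?_⟩
  · haveI : IsClosedImmersion (Spec.map φ') :=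
      IsClosedImmersion.spec_of_surjective φ' (ε.surjective.comp hφ)
    infer_instance
  · haveI : SmoothOfRelativeDimension p (Spec.map c) := by
      rw [HasRingHomProperty.Spec_iff (P := @SmoothOfRelativeDimension p)]
      refine RingHom.locally_of RingHom.isStandardSmoothOfRelativeDimension_respectsIso _ ?_
      show (MvPolynomial.C).IsStandardSmoothOfRelativeDimension p
      rw [← MvPolynomial.algebraMap_eq]
      exact (RingHom.isStandardSmoothOfRelativeDimension_algebraMap _).mpr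
        (ProjSpace.Basic.isStandardSmoothOfRelativeDimension_mvPolynomial _ p)
    haveI : Etale (Spec.map et) := by
      rw [HasRingHomProperty.Spec_iff (P := @Etale)]
      exact RingHom.etale_algebraMap.mpr inferInstance
    have hg : SmoothOfRelativeDimension (0 + (p + 0)) (Spec.map et ≫ Spec.map c ≫ hV.fromSpec) :=
      inferInstance
    simpa using hg
  · rw [Category.assoc, ← Spec.map_comp_assoc, ← Spec.map_comp_assoc, hcomp,
      hV.SpecMap_appLE_fromSpec f hU eU, ← Category.assoc, hU.isoSpec_hom_fromSpec]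

/-- Let f : X ⟶ Y be locally of finite presentation and quasi-separated and p ≥ 0, and let J^p(X/Y) ⊆ X
be the closed subset cut out by the p-th Fitting ideal of the module of differentials Ω_{X/Y} (the
p-th Jacobian locus). Then a point x of X lies outside J^p(X/Y) if and only if x has an open
neighbourhood U admitting a closed immersion over Y into a Y-scheme U' which is smooth of relative
dimension p over Y. (The published statement takes f of finite presentation and asks U' smooth over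
Y with fibre dimension p at x; after shrinking U' this is smoothness of relative dimension p.
Quasi-separatedness of f is assumed because the module Ω_{X/Y} used here is defined for such f.) -/
theorem result
    {X Y : Scheme.{u}} (f : X ⟶ Y) [LocallyOfFinitePresentation f] [QuasiSeparated f] (p : ℕ) (x : ↥X) :
    x ∉ (Fitt.sheafIdeal (Omega.sheaf f) p).support ↔
      ∃ (U : X.Opens) (U' : Scheme.{u}) (i : (U : Scheme.{u}) ⟶ U') (g : U' ⟶ Y),
        x ∈ U ∧ IsClosedImmersion i ∧ SmoothOfRelativeDimension p g ∧ i ≫ g = U.ι ≫ f := by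
  constructor
  · exact closedImmersion_of_fitt f p x
  · rintro ⟨U, U', i, g, hx, hi, hg, hfac⟩
    exact fitt_of_closedImmersion f p x U U' i g hx hfac

end Groth.Agent.S16253
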