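import Groth.Statements.S16254
import Mathlib.LinearAlgebra.Matrix.Determinant.Basic
import Mathlib.LinearAlgebra.Projection
import Mathlib.Algebra.MvPolynomial.Eval
import Mathlib.LinearAlgebra.LinearIndependent.Basic
import Mathlib.Algebra.Module.Projective
import Mathlib.LinearAlgebra.Matrix.Adjugate
import Mathlib.LinearAlgebra.Matrix.SchurComplement
import Mathlib.RingTheory.Ideal.Quotient.Operations

set_option autoImplicit false
universe u
open scoped BigOperators
open LefPen

namespace Groth.Agent.S16254

/-- Let A be a commutative ring and m_1, …, m_s ∈ A^(N+1) linearly independent vectors whose span M has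
projective (that is, locally free) quotient A^(N+1)/M. Write a_0, …, a_N for the coordinate
functions, so that restricting linear forms to M and expressing them in the basis dual to the m_i
gives the A-algebra map A[a_0, …, a_N] ⟶ A[y_1, …, y_s], a_j ↦ Σ_i (m_i)_j y_i (the map
Sym((A^(N+1))^∨) ⟶ Sym(M^∨)). Its kernel is the ideal generated by the (s+1) × (s+1) minors of the
(s+1) × (N+1) matrix whose first s rows are the coordinate rows of m_1, …, m_s and whose last row is
(a_0, …, a_N). The minors are indexed here by all maps c from Fin (s+1) to Fin (N+1) choosing the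
columns (non-injective choices give zero). -/
theorem result
    (A : Type u) [CommRing A] (N s : ℕ) (m : Fin s → (Fin (N + 1) → A))
    (hli : LinearIndependent A m)
    (hproj : Module.Projective A ((Fin (N + 1) → A) ⧸ Submodule.span A (Set.range m))) :
    RingHom.ker (MvPolynomial.aeval (R := A) (S₁ := MvPolynomial (Fin s) A)
        (fun j : Fin (N + 1) => ∑ i : Fin s, MvPolynomial.C (m i j) * MvPolynomial.X i)) =
      Ideal.span (Set.range fun c : Fin (s + 1) → Fin (N + 1) =>
        (Matrix.of fun (i : Fin (s + 1)) (j : Fin (s + 1)) =>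
          (Fin.snoc (α := fun _ => MvPolynomial (Fin (N + 1)) A)
            (fun i' : Fin s => MvPolynomial.C (m i' (c j))) (MvPolynomial.X (c j)) i)).det) := by
  classical
  -- a retraction onto the span of the `m i`
  obtain ⟨σ, hσ⟩ := Module.projective_lifting_property (Submodule.span A (Set.range m)).mkQ
    LinearMap.id (Submodule.mkQ_surjective _)
  let P0 : (Fin (N + 1) → A) →ₗ[A] Submodule.span A (Set.range m) :=
      (LinearMap.id - σ ∘ₗ (Submodule.span A (Set.range m)).mkQ).codRestrict _ fun x => by
        refine (Submodule.Quotient.mk_eq_zero _).1 ?_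
        show (Submodule.span A (Set.range m)).mkQ _ = 0
        simp only [LinearMap.sub_apply, LinearMap.id_apply, LinearMap.comp_apply, map_sub]
        rw [sub_eq_zero]
        exact (LinearMap.congr_fun hσ _).symm
  let pr : (Fin (N + 1) → A) →ₗ[A] (Fin s → A) :=
    (Finsupp.linearEquivFunOnFinite A A (Fin s)).toLinearMap ∘ₗ hli.repr ∘ₗ P0
  have hpr : ∀ i j, pr (m i) j = if i = j then (1 : A) else 0 := fun i j => by
    have h0 : (Submodule.span A (Set.range m)).mkQ (m i) = 0 := by
      rw [Submodule.mkQ_apply, Submodule.Quotient.mk_eq_zero]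
      exact Submodule.subset_span ⟨i, rfl⟩
    have h1 : hli.repr ⟨m i, Submodule.subset_span ⟨i, rfl⟩⟩ = Finsupp.single i 1 :=
      hli.repr_eq_single i _ rfl
    simp only [pr, LinearMap.comp_apply, LinearEquiv.coe_coe]
    rw [show P0 (m i) = ⟨m i, Submodule.subset_span ⟨i, rfl⟩⟩ from Subtype.ext (by
        simp only [P0, LinearMap.codRestrict_apply, LinearMap.sub_apply, LinearMap.id_apply,
          LinearMap.comp_apply, h0, map_zero, sub_zero]), h1]
    simp [Finsupp.single_apply]
  let π : Fin s → Fin (N + 1) → A := fun l t => pr (Pi.single t 1) l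
  have hπ : ∀ i l, ∑ t, π l t * m i t = if i = l then 1 else 0 := fun i l => by
    rw [← hpr i l]
    conv_rhs => rw [pi_eq_sum_univ' (m i)]
    simp only [map_sum, map_smul, Finset.sum_apply, Pi.smul_apply, smul_eq_mul, π]
    exact Finset.sum_congr rfl fun t _ => mul_comm _ _
  set φ := MvPolynomial.aeval (R := A) (S₁ := MvPolynomial (Fin s) A)
    (fun j : Fin (N + 1) => ∑ i : Fin s, MvPolynomial.C (m i j) * MvPolynomial.X i) with hφ
  set I := Ideal.span (Set.range fun c : Fin (s + 1) → Fin (N + 1) =>
        (Matrix.of fun (i : Fin (s + 1)) (j : Fin (s + 1)) =>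
          (Fin.snoc (α := fun _ => MvPolynomial (Fin (N + 1)) A)
            (fun i' : Fin s => MvPolynomial.C (m i' (c j))) (MvPolynomial.X (c j)) i)).det) with hI
  let y : Fin s → MvPolynomial (Fin (N + 1)) A := fun l =>
    ∑ t, MvPolynomial.C (π l t) * MvPolynomial.X t
  refine le_antisymm (fun f hf => ?_) (Ideal.span_le.2 ?_)
  · -- modulo the minors every coordinate is the image of the retraction
    have hmem : ∀ j, MvPolynomial.X j - ∑ i, MvPolynomial.C (m i j) * y i ∈ I := by
      intro j
      let col : Fin (N + 1) → Fin (s + 1) → MvPolynomial (Fin (N + 1)) A := fun t =>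
        Fin.snoc (fun i' => MvPolynomial.C (m i' t)) (MvPolynomial.X t)
      let D := (Matrix.detRowAlternating (R := MvPolynomial (Fin (N + 1)) A)
        (n := Fin (s + 1))).toMultilinearMap
      let w : Fin (s + 1) → Fin (N + 1) → MvPolynomial (Fin (N + 1)) A :=
        Fin.snoc (fun l t => MvPolynomial.C (π l t)) (fun t => if t = j then 1 else 0)
      have hD : D (fun i => ∑ t, w i t • col t) ∈ I := by
        rw [MultilinearMap.map_sum]
        refine Submodule.sum_mem _ fun c _ => ?_
        rw [MultilinearMap.map_smul_univ, smul_eq_mul]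
        refine Ideal.mul_mem_left _ _ (Ideal.subset_span ⟨c, ?_⟩)
        show Matrix.det _ = Matrix.det (fun i => col (c i))
        rw [← Matrix.det_transpose]
        rfl
      have hrow : (fun i => ∑ t, w i t • col t) = Fin.snoc
          (fun l => Fin.snoc (fun i' => if i' = l then 1 else 0) (y l)) (col j) := by
        funext i
        refine Fin.lastCases ?_ (fun l => ?_) i
        · simp [w]
        · simp only [w, Fin.snoc_castSucc]
          funext q
          refine Fin.lastCases ?_ (fun i' => ?_) q
          · simp [col, y]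
          · simp only [col, Finset.sum_apply, Pi.smul_apply, Fin.snoc_castSucc, smul_eq_mul,
              ← map_mul, ← map_sum, hπ, apply_ite (MvPolynomial.C : A →+* MvPolynomial (Fin (N + 1)) A),
              map_one, map_zero]
      -- clear the last row
      have hdet : D (Fin.snoc (fun l => Fin.snoc (fun i' => if i' = l then 1 else 0) (y l)) (col j))
          = MvPolynomial.X j - ∑ i, MvPolynomial.C (m i j) * y i := by
        let M : Matrix (Fin s ⊕ Fin 1) (Fin s ⊕ Fin 1) (MvPolynomial (Fin (N + 1)) A) :=
          Matrix.fromBlocks 1 (Matrix.of fun l _ => y l) (Matrix.of fun _ i' => MvPolynomial.C (m i' j))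
            (Matrix.of fun _ _ => MvPolynomial.X j)
        have hM : M.det = MvPolynomial.X j - ∑ i, MvPolynomial.C (m i j) * y i := by
          rw [Matrix.det_fromBlocks_one₁₁, Matrix.det_fin_one]
          simp [Matrix.mul_apply]
        rw [← hM, ← Matrix.det_submatrix_equiv_self finSumFinEquiv.symm M]
        show Matrix.det _ = _
        congr 1
        funext a b
        have e1 : ∀ u : Fin s, finSumFinEquiv.symm u.castSucc = Sum.inl u := fun u =>
          finSumFinEquiv_symm_apply_castAdd u
        have e2 : finSumFinEquiv.symm (Fin.last s) = Sum.inr (0 : Fin 1) := by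
          rw [show Fin.last s = Fin.natAdd s (0 : Fin 1) from Fin.ext (by simp),
            finSumFinEquiv_symm_apply_natAdd]
        refine Fin.lastCases ?_ (fun l => ?_) a <;> refine Fin.lastCases ?_ (fun i' => ?_) b
        all_goals simp [M, col, Matrix.submatrix_apply, Matrix.one_apply, e1, e2, eq_comm]
      rw [← hdet, ← hrow]
      exact hD
    have hq : (Ideal.Quotient.mkₐ A I) = ((Ideal.Quotient.mkₐ A I).comp
        (MvPolynomial.aeval y)).comp φ := by
      refine MvPolynomial.algHom_ext fun j => ?_
      simp only [AlgHom.comp_apply, hφ, MvPolynomial.aeval_X, map_sum, map_mul, MvPolynomial.aeval_C,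
        Ideal.Quotient.mkₐ_eq_mk]
      rw [Ideal.Quotient.mk_eq_mk_iff_sub_mem _ _ |>.2 (hmem j)]
      simp
    rw [← Ideal.Quotient.eq_zero_iff_mem, ← Ideal.Quotient.mkₐ_eq_mk A, hq, AlgHom.comp_apply,
      RingHom.mem_ker.1 hf, map_zero]
  · rintro _ ⟨c, rfl⟩
    rw [SetLike.mem_coe, RingHom.mem_ker, AlgHom.map_det]
    set M := φ.mapMatrix (Matrix.of fun (i : Fin (s + 1)) (j : Fin (s + 1)) =>
      (Fin.snoc (α := fun _ => MvPolynomial (Fin (N + 1)) A)
        (fun i' : Fin s => MvPolynomial.C (m i' (c j))) (MvPolynomial.X (c j)) i)) with hMdef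
    have hv : Matrix.vecMul (Fin.snoc MvPolynomial.X (-1)) M = 0 := by
      funext b
      simp [Matrix.vecMul, dotProduct, Fin.sum_univ_castSucc, hMdef, hφ, mul_comm]
    have h0 := congrArg (fun u => Matrix.vecMul u M.adjugate) hv
    simp only [Matrix.vecMul_vecMul, Matrix.mul_adjugate, Matrix.vecMul_smul, Matrix.vecMul_one,
      Matrix.zero_vecMul] at h0
    simpa using congrFun h0 (Fin.last s)

end Groth.Agent.S16254
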