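import Groth.Statements.S16256
import Groth.Agent.Lib.LciJac.Alg
import Groth.Agent.Lib.Synt92.KRLoc
import Groth.Agent.Lib.FittSheaf.LocalImm
import Groth.Agent.Lib.FittSheaf.Gen
import Groth.Agent.Lib.JacCrit.SmoothNhd
import Mathlib.AlgebraicGeometry.Morphisms.Smooth
import Mathlib.AlgebraicGeometry.Morphisms.ClosedImmersion

open Groth.Agent Groth.Agent.Lib
open scoped KaehlerDifferential
-- import your own Groth.Agent.* helpers here

set_option autoImplicit false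
universe u
open CategoryTheory CategoryTheory.Limits AlgebraicGeometry TopologicalSpace
open SDiv

namespace Groth.Agent.S16256

variable {Z X : Scheme.{u}}

theorem closed_of_le (i : Z ⟶ X) {U V : X.Opens} (h : V ≤ U) (hcl : IsClosedImmersion (i ∣_ U)) :
    IsClosedImmersion (i ∣_ V) := by
  have h1 : IsClosedImmersion (i ∣_ U ∣_ (U.ι ⁻¹ᵁ V)) := IsZariskiLocalAtTarget.restrict hcl _
  have h2 := (MorphismProperty.arrow_mk_iso_iff @IsClosedImmersion (morphismRestrictRestrict i U (U.ι ⁻¹ᵁ V))).1 h1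
  have e : U.ι ''ᵁ (U.ι ⁻¹ᵁ V) = V := (U.ι.image_preimage_eq_opensRange_inf V).trans (by
    rw [Scheme.Opens.opensRange_ι, inf_eq_right.2 h])
  exact (MorphismProperty.arrow_mk_iso_iff @IsClosedImmersion (morphismRestrictEq i e)).1 h2

theorem isAffine_preimage (i : Z ⟶ X) {U : X.Opens} (hU : IsAffineOpen U)
    (hcl : IsClosedImmersion (i ∣_ U)) : IsAffineOpen (i ⁻¹ᵁ U) ∧ Function.Surjective (i.app U).hom := by
  haveI : IsAffine U.toScheme := hU
  have h1 : IsAffine (i ⁻¹ᵁ U).toScheme ∧ Function.Surjective ((i ∣_ U).appTop).hom :=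
    (@HasAffineProperty.iff_of_isAffine _ _ IsClosedImmersion.hasAffineProperty _ _ (i ∣_ U) _).1 hcl
  refine ⟨h1.1, ?_⟩
  have h2 := h1.2
  rw [morphismRestrict_appTop] at h2
  erw [CommRingCat.hom_comp, RingHom.coe_comp] at h2
  have h3 : Function.Surjective (i.app (U.ι ''ᵁ ⊤)).hom := by
    refine (Function.Surjective.of_comp_iff' ?_ _).1 h2
    exact ConcreteCategory.bijective_of_isIso
      (Z.presheaf.map (eqToHom (image_morphismRestrict_preimage i U ⊤)).op)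
  rwa [U.ι_image_top] at h3

theorem ker_app_basicOpen (i : Z ⟶ X) {U : X.Opens} (hU : IsAffineOpen U)
    (hcl : IsClosedImmersion (i ∣_ U)) (g : Γ(X, U)) :
    RingHom.ker (i.app (X.basicOpen g)).hom =
      (RingHom.ker (i.app U).hom).map (X.presheaf.map (homOfLE (X.basicOpen_le g)).op).hom := by
  obtain ⟨hW, -⟩ := isAffine_preimage i hU hcl
  haveI := hU.isLocalization_basicOpen g
  have hpre : i ⁻¹ᵁ X.basicOpen g = Z.basicOpen ((i.app U).hom g) := Scheme.preimage_basicOpen i g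
  letI : Algebra Γ(Z, i ⁻¹ᵁ U) Γ(Z, i ⁻¹ᵁ X.basicOpen g) :=
    (Z.presheaf.map (homOfLE (i.preimage_mono (X.basicOpen_le g))).op).hom.toAlgebra
  haveI : IsLocalization ((Submonoid.powers g).map (i.app U).hom) Γ(Z, i ⁻¹ᵁ X.basicOpen g) := by
    rw [Submonoid.map_powers]
    exact hW.isLocalization_of_eq_basicOpen _ (homOfLE (i.preimage_mono (X.basicOpen_le g))) hpre
  have hmap : (i.app (X.basicOpen g)).hom = IsLocalization.map (M := Submonoid.powers g)
      (S := Γ(X, X.basicOpen g)) (T := (Submonoid.powers g).map (i.app U).hom)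
      Γ(Z, i ⁻¹ᵁ X.basicOpen g) (i.app U).hom (Submonoid.le_comap_map _) :=
    IsLocalization.ringHom_ext (Submonoid.powers g) (RingHom.ext fun r => by
      rw [RingHom.comp_apply, RingHom.comp_apply, IsLocalization.map_eq]
      exact congrArg (fun φ : Γ(X, U) ⟶ Γ(Z, i ⁻¹ᵁ X.basicOpen g) => φ.hom r)
        (i.naturality (homOfLE (X.basicOpen_le g)).op))
  rw [hmap]
  exact IsLocalization.ker_map (S := Γ(X, X.basicOpen g)) Γ(Z, i ⁻¹ᵁ X.basicOpen g) (i.app U).hom rfl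

theorem fitt_transfer {X Y : Scheme.{u}} (f : X ⟶ Y) [LocallyOfFiniteType f] [QuasiSeparated f]
    {V : Y.Opens} {U₀ : X.Opens} (hV : IsAffineOpen V) (hU₀ : IsAffineOpen U₀) (e : U₀ ≤ f ⁻¹ᵁ V)
    (p : ℕ) {x : X} (hx : x ∈ U₀) :
    letI := (f.appLE V U₀ e).hom.toAlgebra
    (x ∉ (Fitt.sheafIdeal (Omega.sheaf f) p).support ↔
      ¬ Fitt.ideal Γ(X, U₀) Ω[Γ(X, U₀)⁄Γ(Y, V)] p ≤ (hU₀.primeIdealOf ⟨x, hx⟩).asIdeal) := by
  letI := (f.appLE V U₀ e).hom.toAlgebra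
  haveI := (FittSheaf.qcoh_ft_omega f).1
  haveI := (FittSheaf.qcoh_ft_omega f).2
  haveI : Module.Finite Γ(X, U₀) Γ(Omega.sheaf f, U₀) := CohBasics.Affine.finite_sections hU₀
  haveI := Kaehler.ToSect.isIso_toSect f hU₀ hV e
  let E : Ω[Γ(X, U₀)⁄Γ(Y, V)] ≃ₗ[Γ(X, U₀)] Γ(Omega.sheaf f, U₀) :=
    (asIso (OmAff.toSect f V U₀ e)).toLinearEquiv
  haveI : Module.Finite Γ(X, U₀) Ω[Γ(X, U₀)⁄Γ(Y, V)] := Module.Finite.equiv E.symm
  rw [FittSheaf.not_mem_support_iff, FittSheaf.fitt_stalk (Omega.sheaf f) hU₀ hx,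
    ← H25.Fitting.ideal_congr E p]
  letI := X.presheaf.algebra_section_stalk ⟨x, hx⟩
  haveI := hU₀.isLocalization_stalk ⟨x, hx⟩
  set P := (hU₀.primeIdealOf ⟨x, hx⟩).asIdeal
  constructor
  · intro h hle
    refine (IsLocalRing.maximalIdeal.isMaximal (X.presheaf.stalk x)).ne_top (top_le_iff.1 ?_)
    rw [← h, ← IsLocalization.AtPrime.map_eq_maximalIdeal P (X.presheaf.stalk x)]
    exact Ideal.map_mono hle
  · intro h
    obtain ⟨a, ha, haP⟩ := SetLike.not_le_iff_exists.1 h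
    exact Ideal.eq_top_of_isUnit_mem _ (Ideal.mem_map_of_mem _ ha)
      ((IsLocalization.AtPrime.isUnit_to_map_iff (X.presheaf.stalk x) P a).2 haP)

theorem key {Y X : Scheme.{u}} (f : Y ⟶ X) [LocallyOfFinitePresentation f] [QuasiSeparated f] (m c : ℕ)
    (U : Y.Opens) (Q : Scheme.{u}) (i : (U : Scheme.{u}) ⟶ Q) (π : Q ⟶ X) [SmoothOfRelativeDimension (m + c) π]
    (hfac : i ≫ π = U.ι ≫ f) (y : U) (U₁ : Q.affineOpens) (hy : i y ∈ U₁.1)
    (hcl : IsClosedImmersion (i ∣_ U₁.1)) (rs : List Γ(Q, U₁.1)) (hlen : rs.length = c)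
    (hrs : LCI.IsKoszulRegularSeq Γ(Q, U₁.1) rs) (hker : RingHom.ker (i.app U₁.1).hom = Ideal.ofList rs) :
    y.1 ∈ f.smoothLocus ↔ y.1 ∉ (Fitt.sheafIdeal (Omega.sheaf f) m).support := by
  obtain ⟨V, hV, W₀, hW₀, hyW₀, e, hsm⟩ :=
    SmoothOfRelativeDimension.exists_isStandardSmoothOfRelativeDimension (n := m + c) (f := π) (i y)
  obtain ⟨a, b, hab, hya⟩ := exists_basicOpen_le_affine_inter U₁.2 hW₀ (i y) ⟨hy, hyW₀⟩
  let W : Q.Opens := Q.basicOpen a
  have hW : IsAffineOpen W := U₁.2.basicOpen a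
  have hWW₀ : W ≤ W₀ := hab.trans_le (Q.basicOpen_le b)
  have eW : W ≤ π ⁻¹ᵁ V := hWW₀.trans e
  have hsmW : (π.appLE V W eW).hom.IsStandardSmoothOfRelativeDimension (m + c) := by
    haveI := hW₀.isLocalization_of_eq_basicOpen b (homOfLE hWW₀) hab
    letI := (Q.presheaf.map (homOfLE hWW₀).op).hom.toAlgebra
    have h0 : (Q.presheaf.map (homOfLE hWW₀).op).hom.IsStandardSmoothOfRelativeDimension 0 :=
      RingHom.isStandardSmoothOfRelativeDimension_holdsForLocalizationAway Γ(Q, W) b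
    rw [← Scheme.Hom.appLE_map π e (homOfLE hWW₀).op]
    have := h0.comp hsm
    rwa [zero_add] at this
  have hgen : Synt92.KRLoc.Gen c (RingHom.ker (i.app W).hom) := by
    rw [ker_app_basicOpen i U₁.2 hcl a]
    haveI := U₁.2.isLocalization_basicOpen a
    subst hlen
    refine Synt92.KRLoc.gen_map _ ?_ (Synt92.KRLoc.gen_of_list hrs hker)
    exact RingHom.flat_algebraMap_iff.2 (IsLocalization.flat Γ(Q, W) (Submonoid.powers a))
  obtain ⟨haff, hψs⟩ := isAffine_preimage i hW (closed_of_le i (Q.basicOpen_le a) hcl)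
  let U₀ : Y.Opens := U.ι ''ᵁ (i ⁻¹ᵁ W)
  have hU₀ : IsAffineOpen U₀ := haff.image_of_isOpenImmersion U.ι
  have hyU₀ : y.1 ∈ U₀ := ⟨y, hya, rfl⟩
  have e₀ : U₀ ≤ f ⁻¹ᵁ V := by
    rintro _ ⟨z, hz, rfl⟩
    show (U.ι ≫ f) z ∈ V
    rw [← hfac]
    exact eW hz
  let ψ : Γ(Q, W) →+* Γ(Y, U₀) := (i.app W).hom
  have hψ : Function.Surjective ψ := hψs
  have hcomp : ψ.comp (π.appLE V W eW).hom = (f.appLE V U₀ e₀).hom := by
    have e' : i ⁻¹ᵁ W ≤ (U.ι ≫ f) ⁻¹ᵁ V := hfac ▸ fun z hz => eW hz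
    have h1 : π.appLE V W eW ≫ i.appLE W (i ⁻¹ᵁ W) le_rfl = (U.ι ≫ f).appLE V (i ⁻¹ᵁ W) e' := by
      rw [Scheme.Hom.appLE_comp_appLE]
      simp only [hfac]
    have h2 : f.appLE V U₀ e₀ ≫ U.ι.appLE U₀ (i ⁻¹ᵁ W) (U.ι.preimage_image_eq _).ge =
        (U.ι ≫ f).appLE V (i ⁻¹ᵁ W) e' := Scheme.Hom.appLE_comp_appLE _ _ _ _ _ _ _
    have h3 : U.ι.appLE U₀ (i ⁻¹ᵁ W) (U.ι.preimage_image_eq _).ge = 𝟙 Γ(Y, U₀) := by
      rw [Scheme.Opens.ι_appLE]
      exact (congrArg Y.presheaf.map (Subsingleton.elim _ _)).trans (Y.presheaf.map_id (Opposite.op U₀))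
    have h4 : i.appLE W (i ⁻¹ᵁ W) le_rfl = i.app W := (i.app_eq_appLE).symm
    rw [h3] at h2
    rw [h4] at h1
    exact congrArg CommRingCat.Hom.hom (h1.trans (h2.symm.trans (Category.comp_id _)))
  rw [fitt_transfer f hV hU₀ e₀ m hyU₀, Scheme.Hom.mem_smoothLocus,
    formallySmooth_stalkMap_iff V hV U₀ hU₀ e₀ hyU₀]
  letI := (π.appLE V W eW).hom.toAlgebra
  letI := ψ.toAlgebra
  letI := (f.appLE V U₀ e₀).hom.toAlgebra
  haveI : IsScalarTower Γ(X, V) Γ(Q, W) Γ(Y, U₀) := .of_algebraMap_eq' hcomp.symm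
  haveI : Algebra.IsStandardSmoothOfRelativeDimension (m + c) Γ(X, V) Γ(Q, W) := hsmW
  haveI : Algebra.FinitePresentation Γ(X, V) Γ(Y, U₀) := f.finitePresentation_appLE hV hU₀ e₀
  exact LciJac.isSmoothAt_iff_fitt (A := Γ(Q, W)) rfl hψ hgen (hU₀.primeIdealOf ⟨y.1, hyU₀⟩).asIdeal


/-- Let f : Y ⟶ X be locally of finite presentation and quasi-separated, m ≥ 0, and y a point of Y near
which f is a local complete intersection of virtual dimension m, in the factorisation sense: some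
open neighbourhood U of y admits a Koszul-regular immersion i of constant codimension c into a
scheme P smooth of relative dimension m + c over X, compatibly with f. Then f is smooth on some open
neighbourhood of y if and only if y does not lie in the m-th Jacobian locus of Y over X, the closed
subset cut out by the m-th Fitting ideal of Ω_{Y/X}. (Quasi-separatedness of f is assumed because
the module Ω_{Y/X} used here is defined for such f.) -/
theorem result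
    {Y X : Scheme.{u}} (f : Y ⟶ X) [LocallyOfFinitePresentation f] [QuasiSeparated f] (m : ℕ) (y : ↥Y)
    (hlci : ∃ (U : Y.Opens) (P : Scheme.{u}) (i : (U : Scheme.{u}) ⟶ P) (π : P ⟶ X) (c : ℕ),
      y ∈ U ∧ RegImm.IsRegularImmersionOfCodim RegImm.Kind.koszul c i ∧
        SmoothOfRelativeDimension (m + c) π ∧ i ≫ π = U.ι ≫ f) :
    (∃ V : Y.Opens, y ∈ V ∧ Smooth (V.ι ≫ f)) ↔ y ∉ (Fitt.sheafIdeal (Omega.sheaf f) m).support := by
  obtain ⟨U, Q, i, π, c, hyU, hi, hπ, hfac⟩ := hlci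
  obtain ⟨U₁, hy₁, hcl, rs, hlen, hrs, hker⟩ := hi.2 ⟨y, hyU⟩
  rw [JacCrit.SmoothNhd.exists_smooth_nhd_iff]
  exact key f m c U Q i π hfac ⟨y, hyU⟩ U₁ hy₁ hcl rs hlen hrs hker

end Groth.Agent.S16256
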