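import Groth.Statements.S16257
import Groth.Agent.H88.EtMod.CurveExcision

set_option autoImplicit false
universe u
open CategoryTheory CategoryTheory.Limits AlgebraicGeometry Opposite
open FinFr

namespace Groth.Agent.S16257

/-- Let k be a field, K an algebraic closure of k, X₀ a smooth, separated, geometrically irreducible
k-curve of finite type, j : X₀ ⟶ P₀ an open immersion into a proper k-scheme (a compactification,
through which compactly supported cohomology is computed as H^*(P₀ ⊗_k K, j_!(-))), i : U₀ ⟶ X₀ the
inclusion of a non-empty open subscheme, and F an abelian étale sheaf on X₀ killed by an integer ν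
invertible in k. Then the canonical map H^2_c(U₀ ⊗_k K, F|U) ⟶ H^2_c(X₀ ⊗_k K, F), namely the map
induced on H^2(P₀ ⊗_k K, -) by j_! of the counit i_! i^{-1} F ⟶ F, is bijective. (The published
statement is for an arbitrary constructible ℓ-adic sheaf with Q̄_ℓ-coefficients; the statement here
is the finite-coefficient form of its excision argument, over any base field.) -/
theorem result
    (k K : Type u) [Field k] [Field K] [Algebra k K] [IsAlgClosed K] [Algebra.IsAlgebraic k K]
    {X₀ P₀ U₀ : Scheme.{u}} (a : X₀ ⟶ Spec (CommRingCat.of k))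
    [SmoothOfRelativeDimension 1 a] [IsSeparated a] [QuasiCompact a] [GeometricallyIrreducible a]
    (j : X₀ ⟶ P₀) [IsOpenImmersion j] [EtShriek.JCont j] (b : P₀ ⟶ Spec (CommRingCat.of k)) [IsProper b]
    (hj : j ≫ b = a) (i : U₀ ⟶ X₀) [IsOpenImmersion i] [EtShriek.JCont i] [Nonempty ↥U₀]
    (ν : ℕ) (hν : (ν : k) ≠ 0) (F : EtCoh.Ab X₀) (hF : EtCoh.KilledBy ν F) :
    Function.Bijective (Sheaf.H.map ((EtCoh.pull (FinFr.extπ K b)).map
      ((EtShriek.extZero j).map ((EtShriek.extZeroAdj i).counit.app F))) 2) := by
  obtain ⟨hK, hC⟩ := Groth.Agent.H88.EtMod.CurveExcision.notMem a j b hj i (K := K) F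
  exact Groth.Agent.H88.EtMod.CurveExcision.bijective_H_map b _ hK hC

end Groth.Agent.S16257
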