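import Groth.Statements.S16258
import Groth.Agent.H88.EtMod.LCAb
import Groth.Agent.Lib.EtJ.OpenZero
import Groth.Agent.Lib.EtJ.Supp
import Groth.Prelude.Def_FinFr
import Mathlib.AlgebraicGeometry.Geometrically.Irreducible
-- import your own Groth.Agent.* helpers here

set_option autoImplicit false
universe u
open CategoryTheory CategoryTheory.Limits AlgebraicGeometry Opposite
open FinFr

namespace Groth.Agent.S16258

open Groth.Agent.Lib.EtSite Groth.Agent.Lib.EtSite.Basic Groth.Agent.Lib.EtJ

/-- The unique map to the terminal object. -/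
noncomputable def toTop {X : Scheme.{u}} (U : X.Etale) : U ⟶ EtCoh.top X :=
  MorphismProperty.Over.homMk U.hom (Category.comp_id _)

theorem left_eq {X : Scheme.{u}} {U : X.Etale} (g : U ⟶ EtCoh.top X) : g.left = U.hom :=
  (Category.comp_id _).symm.trans (MorphismProperty.Over.w g)

noncomputable def isTop (X : Scheme.{u}) : IsTerminal (EtCoh.top X) :=
  IsTerminal.ofUniqueHom toTop fun U g => MorphismProperty.Over.Hom.ext (left_eq g)

/-- The points outside of which a global section vanishes. -/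
def nz {X : Scheme.{u}} (F : EtCoh.Ab X) (t : EtCoh.sect F (EtCoh.top X)) : Set X :=
  {x | ∀ (W : X.Etale) (g : W ⟶ EtCoh.top X), (∃ w, W.hom.base w = x) → F.obj.map g.op t ≠ 0}

theorem isClosed_nz {X : Scheme.{u}} (F : EtCoh.Ab X) (t : EtCoh.sect F (EtCoh.top X)) :
    IsClosed (nz F t) := by
  rw [← isOpen_compl_iff, isOpen_iff_forall_mem_open]
  intro x hx
  simp only [nz, Set.mem_compl_iff, Set.mem_ofPred_eq, not_forall, not_not] at hx
  obtain ⟨W, g, hw, h0⟩ := hx
  haveI : Etale W.hom := W.prop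
  refine ⟨Set.range W.hom.base, ?_, W.hom.isOpenMap.isOpen_range, hw⟩
  rintro _ ⟨w, rfl⟩ h
  exact h W g ⟨w, rfl⟩ h0

theorem eq_zero_of_nz {X : Scheme.{u}} (F : EtCoh.Ab X) (t : EtCoh.sect F (EtCoh.top X))
    (h : nz F t = ∅) : t = 0 := by
  refine Groth.Agent.Lib.EtSite.Stalk.sections_ext F t 0 fun x => ?_
  have hx : x ∉ nz F t := h ▸ Set.notMem_empty x
  change ¬ (∀ (W : X.Etale) (g : W ⟶ EtCoh.top X), (∃ w, W.hom.base w = x) → F.obj.map g.op t ≠ 0) at hx
  simp only [not_forall, not_not] at hx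
  obtain ⟨W, g, ⟨w, hw⟩, h0⟩ := hx
  exact ⟨W, g, h0.trans (map_zero _).symm, w, by rw [left_eq]; exact hw⟩

theorem notMem_nz {X : Scheme.{u}} (F : EtCoh.Ab X) (t : EtCoh.sect F (EtCoh.top X)) (x : X)
    (h : IsZero ((EtCoh.stalk (geomPoint X x)).obj F)) : x ∉ nz F t := by
  intro hx
  obtain ⟨p, hp⟩ := exists_fiber (geomPoint X x) (EtCoh.top X) x (geomPoint_apply _ _).symm
  obtain ⟨W, g, q, hq, h0⟩ :=
    (Supp.germ_eq_zero_iff F _ p t).1 ((Supp.stalk_isZero_iff F).1 h _ p t)
  exact hx W g ⟨fiberPt q, (hom_fiberPt q).trans (geomPoint_apply _ _)⟩ h0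

open Groth.Agent.H88.EtMod in
theorem isOpen_nz {X : Scheme.{u}} (F : EtCoh.Ab X) (hF : EtCoh.IsFiniteLocallyConstant F)
    (t : EtCoh.sect F (EtCoh.top X)) : IsOpen (nz F t) := by
  obtain ⟨F', ⟨e⟩⟩ := AbBridge.exists_lift F
  have hch := (AbBridge.isFiniteLocallyConstant_iff F').1 (AbBridge.isFiniteLC_of_iso e.symm hF)
  let t' : F'.obj.obj (op (EtCoh.top X)) := e.inv.hom.app (op _) t
  have key : ∀ {W : X.Etale} (g : W ⟶ EtCoh.top X), F.obj.map g.op t = 0 ↔ F'.obj.map g.op t' = 0 := by
    intro W g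
    let a := ((sheafToPresheaf _ _).mapIso e.symm).app (op W) |>.addCommGroupIsoToAddEquiv
    have h1 : a (F.obj.map g.op t) = F'.obj.map g.op t' :=
      NatTrans.naturality_apply e.inv.hom g.op t
    rw [← h1]
    exact ⟨fun h => by rw [h]; exact map_zero a, fun h => a.injective (h.trans (map_zero a).symm)⟩
  rw [isOpen_iff_forall_mem_open]
  intro x hx
  obtain ⟨V, ⟨v, hv⟩, M, _, _, _, φ, hφ⟩ := hch x
  obtain ⟨p, hp⟩ := exists_fiber (geomPoint X x) V v (hv.trans (geomPoint_apply _ _).symm)
  obtain ⟨m, hm⟩ := (hφ _ _ p).2 (LCChart.germ F' V _ p (F'.obj.map (toTop V).op t'))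
  obtain ⟨W, g, q, hq, hW⟩ := ((Scheme.pointSmallEtale _).toPresheafFiber_eq_iff' V p _ _).1 hm
  have hgw : F'.obj.map g.op (φ m) = F'.obj.map (g ≫ toTop V).op t' := by
    rw [op_comp, Functor.map_comp]
    exact hW
  haveI : Etale W.hom := W.prop
  have hxW : W.hom.base (fiberPt q) = x := (hom_fiberPt q).trans (geomPoint_apply _ _)
  refine ⟨Set.range W.hom.base, ?_, W.hom.isOpenMap.isOpen_range, _, hxW⟩
  rintro y ⟨w, rfl⟩ Z h ⟨z, hz⟩ h0
  obtain ⟨pw, -⟩ := exists_fiber (geomPoint X (W.hom.base w)) W w (geomPoint_apply _ _).symm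
  obtain ⟨pz, -⟩ := exists_fiber (geomPoint X (W.hom.base w)) Z z (hz.trans (geomPoint_apply _ _).symm)
  let ξ := geomPoint X (W.hom.base w)
  have htop : ∀ a b : (Scheme.pointSmallEtale ξ).fiber.obj (EtCoh.top X), a = b := fun a b =>
    Over.OverMorphism.ext ((Category.comp_id _).symm.trans
      ((fiberHom_comp a).trans ((fiberHom_comp b).symm.trans (Category.comp_id _))))
  have e2 : (Scheme.pointSmallEtale ξ).fiber.map (g ≫ toTop V) pw =
      (Scheme.pointSmallEtale ξ).fiber.map h pz := htop _ _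
  have e1 : LCChart.germ F' V ξ ((Scheme.pointSmallEtale ξ).fiber.map g pw) (φ m) = 0 := by
    rw [← LCChart.germ_map, hgw, LCChart.germ_map,
      e2, ← LCChart.germ_map, (key h).1 h0, map_zero]
  have hm0 : m = 0 := (hφ _ ξ ((Scheme.pointSmallEtale ξ).fiber.map g pw)).1
    (show LCChart.germ F' V ξ _ (φ m) = LCChart.germ F' V ξ _ (φ 0) by rw [e1, map_zero, map_zero])
  exact hx W (g ≫ toTop V) ⟨_, hxW⟩ ((key _).2 (by rw [← hgw, hm0, map_zero, map_zero]))

/-- Let k be a field, K an algebraic closure of k, X₀ a smooth, separated, geometrically irreducible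
k-curve of finite type which is NOT proper over k, j : X₀ ⟶ P₀ an open immersion into a proper
k-scheme, and F a finite locally constant abelian étale sheaf on X₀. Then the compactly supported
cohomology in degree 0, H^0_c(X₀ ⊗_k K, F) = H^0(P₀ ⊗_k K, j_! F), is zero. (The published statement
is for a smooth ℓ-adic sheaf with Q̄_ℓ-coefficients, together with H^0_c = H^0 for proper curves;
the statement here is the finite locally constant case of the non-proper half.) -/
theorem result
    (k K : Type u) [Field k] [Field K] [Algebra k K] [IsAlgClosed K] [Algebra.IsAlgebraic k K]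
    {X₀ P₀ : Scheme.{u}} (a : X₀ ⟶ Spec (CommRingCat.of k))
    [SmoothOfRelativeDimension 1 a] [IsSeparated a] [QuasiCompact a] [GeometricallyIrreducible a]
    (ha : ¬ IsProper a)
    (j : X₀ ⟶ P₀) [IsOpenImmersion j] [EtShriek.JCont j] (b : P₀ ⟶ Spec (CommRingCat.of k)) [IsProper b]
    (hj : j ≫ b = a) (F : EtCoh.Ab X₀) (hF : EtCoh.IsFiniteLocallyConstant F) :
    Subsingleton (EtCoh.H (FinFr.ext K b) ((EtCoh.pull (FinFr.extπ K b)).obj ((EtShriek.extZero j).obj F)) 0) := by
  let π := FinFr.extπ K b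
  let c := FinFr.specι k K
  let j' : FinFr.ext K a ⟶ FinFr.ext K b := pullback.lift (pullback.fst a c ≫ j) (pullback.snd a c)
    (by rw [Category.assoc, hj]; exact pullback.condition)
  have hsq : IsPullback j' (pullback.fst a c) π j := by
    have hA : IsPullback (pullback.fst a c) (pullback.snd a c) (j ≫ b) c := by
      simpa only [hj] using IsPullback.of_hasPullback a c
    have := IsPullback.of_right (h₁₁ := j') (v₁₁ := pullback.fst a c) (h₁₂ := pullback.snd b c)
      (v₁₂ := π) (h₂₂ := b) (h₂₁ := j) (v₁₃ := c) ?_ (pullback.lift_fst _ _ _)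
      (IsPullback.of_hasPullback b c).flip
    · exact this
    · rw [show j' ≫ pullback.snd b c = pullback.snd a c from pullback.lift_snd _ _ _]
      exact hA.flip
  haveI : IsOpenImmersion j' := MorphismProperty.of_isPullback hsq.flip ‹IsOpenImmersion j›
  let A := (EtCoh.pull π).obj ((EtShriek.extZero j).obj F)
  let eB : (EtShriek.restrAlong j').obj A ≅ (EtCoh.pull (pullback.fst a c)).obj F :=
    haveI := OpenZero.isIso_unit j F
    (Groth.Agent.Lib.EtJ.Basic.pullIsoRestr j').symm.app A ≪≫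
      ((EtCore.pullComp j' π).symm ≪≫ EtCore.pullCongr hsq.w ≪≫
        EtCore.pullComp (pullback.fst a c) j).app ((EtShriek.extZero j).obj F) ≪≫
      (EtCoh.pull (pullback.fst a c)).mapIso
        ((Groth.Agent.Lib.EtJ.Basic.pullIsoRestr j).app _ ≪≫ (asIso ((EtShriek.extZeroAdj j).unit.app F)).symm)
  have hB := Groth.Agent.H88.EtMod.AbBridge.isFiniteLC_of_iso eB.symm
    (Groth.Agent.H88.EtMod.LCAb.isFiniteLC_pull (pullback.fst a c) hF)
  suffices hz : ∀ t : EtCoh.sect A (EtCoh.top _), t = 0 by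
    haveI : Subsingleton (EtCoh.sect A (EtCoh.top _)) := ⟨fun t t' => (hz t).trans (hz t').symm⟩
    exact (Sheaf.H.equiv₀ A (isTop _)).toEquiv.subsingleton
  intro t
  refine eq_zero_of_nz A t (Set.eq_empty_iff_forall_notMem.2 fun x₀ hx₀ => ?_)
  have hrange : ∀ x ∈ nz A t, x ∈ Set.range j'.base := by
    intro x hx
    by_contra hn
    refine notMem_nz A t x ((OpenZero.isZero_stalk j (geomPoint _ x ≫ π) ?_ F).of_iso
      ((Groth.Agent.Lib.EtSite.Pull.stalkPull π (geomPoint _ x)).app ((EtShriek.extZero j).obj F))) hx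
    rintro ⟨y, hy⟩
    rw [Scheme.Hom.comp_apply, geomPoint_apply] at hy
    obtain ⟨z, hz, -⟩ := Scheme.exists_preimage_of_isPullback hsq x y hy.symm
    exact hn ⟨z, hz⟩
  let tB : EtCoh.sect ((EtShriek.restrAlong j').obj A) (EtCoh.top _) :=
    A.obj.map (toTop ((EtShriek.compEtale j').obj (EtCoh.top _))).op t
  have hN : j'.base ⁻¹' nz A t = nz ((EtShriek.restrAlong j').obj A) tB := by
    ext x
    constructor
    · intro hx W g ⟨w, hw⟩ h0
      refine hx ((EtShriek.compEtale j').obj W) ((EtShriek.compEtale j').map g ≫ toTop _) ⟨w, ?_⟩ ?_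
      · change (W.hom ≫ j').base w = j'.base x
        rw [Scheme.Hom.comp_apply, hw]
      · rw [op_comp, Functor.map_comp]
        exact h0
    · intro hx W g ⟨w, hw⟩ h0
      obtain ⟨z, hz₁, hz₂⟩ := Scheme.Pullback.exists_preimage_pullback (f := W.hom) (g := j') w x hw
      let W' : (FinFr.ext K a).Etale := (EtCoh.bc j').obj W
      let g' : (EtShriek.compEtale j').obj W' ⟶ W :=
        MorphismProperty.Over.homMk (pullback.fst W.hom j') pullback.condition
      refine hx W' (toTop W') ⟨z, hz₂⟩ ?_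
      change A.obj.map ((EtShriek.compEtale j').map (toTop W')).op
        (A.obj.map (toTop _).op t) = 0
      have : (EtShriek.compEtale j').map (toTop W') ≫ toTop _ = g' ≫ g := (isTop _).hom_ext _ _
      rw [← ConcreteCategory.comp_apply, ← Functor.map_comp, ← op_comp, this, op_comp,
        Functor.map_comp, ConcreteCategory.comp_apply, h0, map_zero]
  haveI : GeometricallyIrreducible (pullback.snd a c) := MorphismProperty.pullback_snd _ _ inferInstance
  haveI : IrreducibleSpace ↥(FinFr.ext K a) := GeometricallyIrreducible.irreducibleSpace (pullback.snd a c)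
    (fun s _ => isOpen_discrete (α := PrimeSpectrum K) _)
  have hclop : IsClopen (j'.base ⁻¹' nz A t) :=
    ⟨(isClosed_nz A t).preimage j'.continuous, hN ▸ isOpen_nz _ hB tB⟩
  have huniv : j'.base ⁻¹' nz A t = Set.univ := by
    obtain ⟨y, hy⟩ := hrange x₀ hx₀
    exact hclop.eq_univ ⟨y, by rw [Set.mem_preimage, hy]; exact hx₀⟩
  have hNr : nz A t = Set.range j'.base := Set.Subset.antisymm hrange
    (Set.range_subset_iff.2 fun y => (Set.eq_univ_iff_forall.1 huniv y : _))
  haveI : Algebra.IsIntegral k K := Algebra.IsAlgebraic.isIntegral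
  haveI : IsIntegralHom c := IsIntegralHom.SpecMap_iff.2 (algebraMap_isIntegral_iff.2 inferInstance)
  haveI : IsIntegralHom π := MorphismProperty.pullback_fst _ _ inferInstance
  haveI : Surjective c := ⟨Function.surjective_to_subsingleton (β := PrimeSpectrum k) _⟩
  haveI : Surjective (pullback.fst a c) := MorphismProperty.pullback_fst _ _ inferInstance
  have hcl : IsClosed (Set.range j.base) := by
    have h2 : π.base '' Set.range j'.base = Set.range j.base := by
      rw [← Set.range_comp, ← TopCat.coe_comp, ← Scheme.Hom.comp_base, hsq.w, Scheme.Hom.comp_base,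
        TopCat.coe_comp, Set.range_comp, (pullback.fst a c).surjective.range_eq, Set.image_univ]
    rw [← h2]
    exact π.isClosedMap _ (hNr ▸ isClosed_nz A t)
  haveI : IsClosedImmersion j := IsClosedImmersion.of_isPreimmersion j hcl
  exact ha (hj ▸ inferInstance)

end Groth.Agent.S16258
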