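import Groth.Statements.S9676
import Groth.Agent.H69.NormDvr
import Groth.Agent.H69.NormLoc
import Groth.Agent.S9675
import Mathlib.AlgebraicGeometry.Morphisms.QuasiSeparated
-- import your own Groth.Agent.* helpers here

set_option autoImplicit false
universe u
open CategoryTheory CategoryTheory.Limits AlgebraicGeometry
open Mor

namespace Groth.Agent.S9676
set_option backward.isDefEq.respectTransparency false
set_option linter.style.haveILetI false

/-- Let f : Y ⟶ X be of finite type with Y reduced and every affine open of X having Nagata coordinate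
ring, and let X' be the normalization of X in Y. If x' is a point of X' whose local ring has
dimension 1 and over which the fibre of Y ⟶ X' is empty, then the local ring of X' at x' is a
discrete valuation ring. (Such an f is automatically quasi-separated; the binder is carried only to
form the relative normalization.) -/
theorem result {X Y : Scheme.{u}} (f : Y ⟶ X)
    [LocallyOfFiniteType f] [QuasiCompact f] [QuasiSeparated f] [IsReduced Y]
    (hX : ∀ U : X.affineOpens, CAlg.IsNagata Γ(X, U))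
    (x' : ↥f.normalization) (hdim : ringKrullDim (f.normalization.presheaf.stalk x') = 1)
    (hx' : x' ∉ Set.range f.toNormalization.base) :
    ∃ _ : IsDomain (f.normalization.presheaf.stalk x'),
      IsDiscreteValuationRing (f.normalization.presheaf.stalk x') := by
  haveI : IsFinite f.fromNormalization := Groth.Agent.S9675.result f hX
  haveI : IsLocallyNoetherian X := ⟨fun U => (hX U).1⟩
  haveI : IsLocallyNoetherian f.normalization := LocallyOfFiniteType.isLocallyNoetherian f.fromNormalization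
  obtain ⟨U, hU, hxU, -⟩ := exists_isAffineOpen_mem_and_subset
    (x := f.fromNormalization x') (U := (⊤ : X.Opens)) trivial
  let V : f.normalization.Opens := f.fromNormalization ⁻¹ᵁ U
  have hV : IsAffineOpen V := hU.preimage _
  have hVW : f ⁻¹ᵁ U ≤ f.toNormalization ⁻¹ᵁ V := by
    simp [V, ← Scheme.Hom.comp_preimage]
  letI algC : Algebra Γ(X, U) Γ(Y, f ⁻¹ᵁ U) := (f.app U).hom.toAlgebra
  let ψ := (f.toNormalization.appLE V (f ⁻¹ᵁ U) hVW).hom
  letI : Algebra Γ(f.normalization, V) Γ(Y, f ⁻¹ᵁ U) := ψ.toAlgebra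
  let e := f.normalizationObjIso hU
  have hψ : ∀ a, ψ a = (e.hom a : integralClosure Γ(X, U) Γ(Y, f ⁻¹ᵁ U)).1 := fun a =>
    (congrArg (fun φ : Γ(f.normalization, V) ⟶ Γ(Y, f ⁻¹ᵁ U) => φ a)
      (f.normalizationObjIso_hom_val hU)).symm
  have hψinj : Function.Injective ψ := fun a b h => by
    rw [hψ, hψ] at h
    exact (CategoryTheory.ConcreteCategory.bijective_of_isIso e.hom).1 (Subtype.ext h)
  have hψic : ∀ y, IsIntegral Γ(f.normalization, V) y → y ∈ Set.range ψ := by
    intro y hy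
    have hy' : IsIntegral (integralClosure Γ(X, U) Γ(Y, f ⁻¹ᵁ U)) y := by
      obtain ⟨p, hp, hpy⟩ := hy
      refine ⟨p.map e.hom.hom, hp.map _, ?_⟩
      rw [Polynomial.eval₂_map, ← hpy]
      exact congrArg (fun g => p.eval₂ g y) (RingHom.ext fun a => (hψ a).symm)
    obtain ⟨a, ha⟩ := (CategoryTheory.ConcreteCategory.bijective_of_isIso e.hom).2
      ⟨y, isIntegral_trans (R := Γ(X, U)) (A := integralClosure Γ(X, U) Γ(Y, f ⁻¹ᵁ U)) y hy'⟩
    exact ⟨a, by rw [hψ, ha]⟩
  let pV := hV.primeIdealOf ⟨x', hxU⟩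
  let R := f.normalization.presheaf.stalk x'
  letI : Algebra Γ(f.normalization, V) R :=
    TopCat.Presheaf.algebra_section_stalk f.normalization.presheaf ⟨x', hxU⟩
  haveI : IsLocalization.AtPrime R pV.asIdeal := hV.isLocalization_stalk ⟨x', hxU⟩
  let M := pV.asIdeal.primeCompl
  let B := Localization (Algebra.algebraMapSubmonoid Γ(Y, f ⁻¹ᵁ U) M)
  have hM : M ≤ (Algebra.algebraMapSubmonoid Γ(Y, f ⁻¹ᵁ U) M).comap ψ := M.le_comap_map
  letI : Algebra R B := (IsLocalization.map (S := R) B ψ hM).toAlgebra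
  haveI : IsScalarTower Γ(f.normalization, V) R B := IsScalarTower.of_algebraMap_eq fun a => by
    rw [RingHom.algebraMap_toAlgebra (IsLocalization.map (S := R) B ψ hM), IsLocalization.map_eq]
    rfl
  haveI : IsLocalization M R := inferInstanceAs (IsLocalization.AtPrime R pV.asIdeal)
  haveI : IsNoetherianRing R := inferInstance
  haveI : _root_.IsReduced R := inferInstance
  refine H69.NormDvr.isDVR_of (B := B) (H69.NormLoc.algebraMap_injective (G := Γ(Y, f ⁻¹ᵁ U)) M hψinj)
    (H69.NormLoc.mem_range_of_isIntegral (G := Γ(Y, f ⁻¹ᵁ U)) M hψic) hdim fun t ht => ?_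
  obtain ⟨⟨a, s⟩, hts⟩ := IsLocalization.surj M t
  suffices ha : IsUnit (algebraMap Γ(f.normalization, V) B a) by
    rw [IsScalarTower.algebraMap_apply _ R B, ← hts, map_mul] at ha
    exact (IsUnit.mul_iff.1 ha).1
  -- primes over nonzero divisors do not meet the fibre
  have key : ∀ W : Y.affineOpens, (hW : W.1 ≤ f ⁻¹ᵁ U) →
      ∃ s : Γ(f.normalization, V), s ∈ M ∧
        Y.basicOpen (Y.presheaf.map (homOfLE hW).op (ψ s)) ≤
          Y.basicOpen (Y.presheaf.map (homOfLE hW).op (ψ a)) := by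
    intro W hW
    by_contra! hn
    let θ := (f.toNormalization.appLE V W (hW.trans hVW))
    have hθ : ∀ c, Y.presheaf.map (homOfLE hW).op (ψ c) = θ c := fun c =>
      congrArg (fun φ : Γ(f.normalization, V) ⟶ Γ(Y, W) => φ c) (f.toNormalization.appLE_map hVW (homOfLE hW).op)
    have hdisj : Disjoint ((Ideal.span {θ a} : Ideal Γ(Y, W)) : Set Γ(Y, W)) (M.map θ.hom : Set Γ(Y, W)) := by
      refine Set.disjoint_left.2 fun z hz hz' => ?_
      obtain ⟨c, hc, rfl⟩ := hz'
      obtain ⟨d, hd⟩ := Ideal.mem_span_singleton'.1 hz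
      refine hn c hc ?_
      rw [hθ, hθ, ← show d * θ a = θ c from hd, Scheme.basicOpen_mul]
      exact inf_le_right
    obtain ⟨q, hq, hle, hqd⟩ := Ideal.exists_le_prime_disjoint _ _ hdisj
    let q' : PrimeSpectrum Γ(f.normalization, V) := PrimeSpectrum.comap θ.hom ⟨q, hq⟩
    have hq'p : q'.asIdeal ≤ pV.asIdeal := fun c hc => by
      by_contra h
      exact Set.disjoint_left.1 hqd (show θ c ∈ q from hc) ⟨c, h, rfl⟩
    have haq : a ∈ q'.asIdeal := hle (Ideal.subset_span rfl)
    have hqp : q'.asIdeal = pV.asIdeal := by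
      by_contra hne
      have hd' : Disjoint (M : Set Γ(f.normalization, V)) q'.asIdeal :=
        Set.disjoint_left.2 fun c hc hc' => hc (hq'p hc')
      refine ht (q'.asIdeal.map (algebraMap Γ(f.normalization, V) R))
        (IsLocalization.isPrime_of_isPrime_disjoint M R _ q'.2 hd') ?_ ?_
      · intro h
        refine hne ?_
        rw [← IsLocalization.under_map_of_isPrime_disjoint M R q'.2 hd', h]
        exact IsLocalization.AtPrime.comap_maximalIdeal R pV.asIdeal
      · have h1 : t * algebraMap Γ(f.normalization, V) R s ∈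
            q'.asIdeal.map (algebraMap Γ(f.normalization, V) R) := hts ▸ Ideal.mem_map_of_mem _ haq
        rw [Ideal.mul_unit_mem_iff_mem _ (IsLocalization.map_units R s)] at h1
        exact h1
    apply hx'
    refine ⟨W.2.fromSpec ⟨q, hq⟩, ?_⟩
    rw [← Scheme.Hom.comp_apply, ← IsAffineOpen.SpecMap_appLE_fromSpec f.toNormalization hV W.2
      (hW.trans hVW), Scheme.Hom.comp_apply]
    exact (congrArg hV.fromSpec (PrimeSpectrum.ext hqp :
      (q' : PrimeSpectrum Γ(f.normalization, V)) = pV)).trans (hV.fromSpec_primeIdealOf ⟨x', hxU⟩)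
  have hc : IsCompact ((f ⁻¹ᵁ U : Y.Opens) : Set Y) := f.isCompact_preimage hU.isCompact
  obtain ⟨Ws, hWs, hcov⟩ := isCompact_iff_finite_and_eq_biUnion_affineOpens.1 hc
  have hsub : ∀ W ∈ Ws, (W : Y.Opens) ≤ f ⁻¹ᵁ U := fun W hW => hcov ▸ le_iSup₂_of_le W hW le_rfl
  choose c hcM hcb using fun W : Ws => key W.1 (hsub W.1 W.2)
  haveI : Finite Ws := hWs.to_subtype
  haveI := Fintype.ofFinite Ws
  let S := ∏ W, c W
  have hS : S ∈ M := M.prod_mem fun W _ => hcM W
  have hle : Y.basicOpen (ψ S) ≤ Y.basicOpen (ψ a) := by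
    intro y hy
    have hyU : y ∈ f ⁻¹ᵁ U := Y.basicOpen_le _ hy
    obtain ⟨W, hW, hyW⟩ : ∃ W ∈ Ws, y ∈ (W : Y.Opens) := by
      rw [hcov] at hyU
      simpa using hyU
    have hyc : y ∈ Y.basicOpen (ψ (c ⟨W, hW⟩)) := by
      obtain ⟨d, hd⟩ : c ⟨W, hW⟩ ∣ S := Finset.dvd_prod_of_mem _ (Finset.mem_univ _)
      rw [hd, map_mul, Scheme.basicOpen_mul] at hy
      exact hy.1
    have := hcb ⟨W, hW⟩ (x := y) (by rw [Scheme.basicOpen_res]; exact ⟨hyW, hyc⟩)
    rw [Scheme.basicOpen_res] at this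
    exact this.2
  haveI := isLocalization_basicOpen_of_qcqs hc
    (f.isQuasiSeparated_preimage hU.isQuasiSeparated) (ψ S)
  have hu : IsUnit (algebraMap Γ(Y, f ⁻¹ᵁ U) Γ(Y, Y.basicOpen (ψ S)) (ψ a)) := by
    have h1 : IsUnit (Y.presheaf.map (homOfLE (Y.basicOpen_le (ψ a))).op (ψ a)) :=
      RingedSpace.isUnit_res_basicOpen Y.toRingedSpace (ψ a)
    have h2 := h1.map (Y.presheaf.map (homOfLE hle).op).hom
    have e : Y.presheaf.map (homOfLE (Y.basicOpen_le (ψ a))).op ≫ Y.presheaf.map (homOfLE hle).op =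
        Y.presheaf.map (homOfLE (Y.basicOpen_le (ψ S))).op := (Functor.map_comp _ _ _).symm
    exact (congrArg IsUnit (congrArg
      (fun φ : Γ(Y, f ⁻¹ᵁ U) ⟶ Γ(Y, Y.basicOpen (ψ S)) => φ (ψ a)) e)).mp h2
  let σ : Γ(Y, Y.basicOpen (ψ S)) →+* B := IsLocalization.Away.lift (ψ S)
    (g := algebraMap Γ(Y, f ⁻¹ᵁ U) B) (IsLocalization.map_units B (⟨ψ S, Submonoid.mem_map.2 ⟨S, hS, rfl⟩⟩ :
      Algebra.algebraMapSubmonoid Γ(Y, f ⁻¹ᵁ U) M))
  have := hu.map σ
  rw [show σ (algebraMap _ _ (ψ a)) = algebraMap Γ(Y, f ⁻¹ᵁ U) B (ψ a) from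
    IsLocalization.Away.lift_eq _ _ _] at this
  rw [IsScalarTower.algebraMap_apply Γ(f.normalization, V) Γ(Y, f ⁻¹ᵁ U) B]
  exact this

end Groth.Agent.S9676
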