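import Groth.Statements.S1626
import Groth.Agent.H97.CurveProj
import Groth.Agent.H97.DimOneSetup
import Groth.Agent.S9675
import Groth.Agent.S9676
import Mathlib.AlgebraicGeometry.ZariskisMainTheorem
import Groth.Agent.H25.NagataStalk

set_option autoImplicit false
set_option linter.style.haveILetI false
universe u
open CategoryTheory CategoryTheory.Limits AlgebraicGeometry
open Variety

namespace Groth.Agent.S1626

open Groth.Agent Groth.Agent.H97 Groth.Agent.H97.AffineImages Groth.Agent.Lib.PointDim.Basic

/-- A noetherian scheme of finite type with an open dense curve and closed complement points. -/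
theorem dim_le_one {k : Type u} [Field k] {X Y : Scheme.{u}} [IsNoetherian Y]
    (fX : X ⟶ Spec (CommRingCat.of k)) [LocallyOfFiniteType fX]
    (fY : Y ⟶ Spec (CommRingCat.of k)) [LocallyOfFiniteType fY]
    (j : X ⟶ Y) [IsOpenImmersion j] (hjk : j ≫ fY = fX) (hd : Dense (Set.range j.base))
    (hdim : topologicalKrullDim X ≤ 1) : topologicalKrullDim Y ≤ 1 := by
  rw [Lib.SchTopo.Basic.topologicalKrullDim_eq_krullDim_scheme]
  refine iSup_le fun l => ?_
  by_contra hl
  have h2 : 2 ≤ l.length := by
    by_contra h
    exact hl (by exact_mod_cast (by omega : l.length ≤ 1))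
  let a := l ⟨2, by omega⟩
  let b := l ⟨1, by omega⟩
  let c := l ⟨0, by omega⟩
  have hab : b < a := l.strictMono (Fin.mk_lt_mk.2 (by omega))
  have hbc : c < b := l.strictMono (Fin.mk_lt_mk.2 (by omega))
  obtain ⟨η, hη, hηa⟩ := exists_gen_specializes a
  obtain ⟨x, hx⟩ := CurveProj.gen_mem_of_dense j.isOpenEmbedding.isOpen_range hd hη
  have h1 : η ⤳ b := hηa.trans hab.le
  have n1 : η ≠ b := fun e => hab.not_ge (show b ⤳ a from e ▸ hηa)
  have := CurveProj.two_le_dim h1 n1 hbc.le (fun e => hbc.ne e.symm) (closure {η}) (subset_closure rfl)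
    h1.mem_closure (h1.trans hbc.le).mem_closure
  rw [topologicalKrullDim_closure_singleton fY η, natTdeg, ← hx, ← tdeg_openImmersion j fY fX hjk x,
    ← natTdeg, ← topologicalKrullDim_closure_singleton fX x] at this
  exact absurd (this.trans ((Topology.IsInducing.subtypeVal.topologicalKrullDim_le).trans hdim)) (by norm_num)

/-- Let X be reduced, separated and of finite type over k with dim X ≤ 1. Then there are a closed
subscheme Y of some P^d_k and a dense, scheme-theoretically dense open immersion j : X → Y over k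
whose complement is a finite set of closed points at each of which the local ring of Y is a discrete
valuation ring. -/
theorem result (k : Type u) [Field k] (X : Scheme.{u}) [X.Over (Spec (CommRingCat.of k))] [IsReduced X] [IsSeparated (X ↘ (Spec (CommRingCat.of k)))] [LocallyOfFiniteType (X ↘ (Spec (CommRingCat.of k)))] [QuasiCompact (X ↘ (Spec (CommRingCat.of k)))] (hdim : topologicalKrullDim X ≤ 1) :
    ∃ (d : ℕ) (Y : Scheme.{u}) (c : Y ⟶ CohB1.ProjSpace d k) (j : X ⟶ Y), IsClosedImmersion c ∧ IsOpenImmersion j ∧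
      j ≫ c ≫ CohB1.ProjSpace.toSpec d k = X ↘ (Spec (CommRingCat.of k)) ∧ Dense (Set.range j.base) ∧ IsSchemeTheoreticallyDominant j ∧
      (Set.range j.base)ᶜ.Finite ∧ ∀ y ∈ (Set.range j.base)ᶜ, IsClosed ({y} : Set Y) ∧
        ∃ _ : IsDomain (Y.presheaf.stalk y), IsDiscreteValuationRing (Y.presheaf.stalk y) := by
  obtain ⟨d, Y, c, j, hc, hj, hjk, hdense, hstd, hfin, hcl⟩ := CurveProj.exists_completion k X hdim
  haveI := Groth.Agent.Lib.ProjSpace.Basic.isProper_toSpec d k
  let sY : Y ⟶ Spec (CommRingCat.of k) := c ≫ CohB1.ProjSpace.toSpec d k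
  haveI : IsProper sY := inferInstanceAs (IsProper (c ≫ CohB1.ProjSpace.toSpec d k))
  haveI : IsLocallyNoetherian Y := LocallyOfFiniteType.isLocallyNoetherian sY
  haveI : CompactSpace Y := QuasiCompact.compactSpace_of_compactSpace sY
  haveI : IsNoetherian Y := {}
  haveI : CompactSpace X := QuasiCompact.compactSpace_of_compactSpace (X ↘ (Spec (CommRingCat.of k)))
  haveI : QuasiCompact j := inferInstance
  have hN : ∀ U : Y.affineOpens, CAlg.IsNagata Γ(Y, U) := by
    intro U
    have h := LocallyOfFiniteType.finiteType_appLE sY (isAffineOpen_top (Spec (CommRingCat.of k))) U.2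
      (le_top : U.1 ≤ sY ⁻¹ᵁ ⊤)
    let ψ : k →+* Γ(Y, U.1) := (sY.appLE ⊤ U.1 le_top).hom.comp (Scheme.ΓSpecIso (CommRingCat.of k)).inv.hom
    letI := ψ.toAlgebra
    haveI : Algebra.FiniteType k Γ(Y, U.1) := by
      refine RingHom.finiteType_algebraMap.1 ?_
      exact RingHom.FiniteType.comp h (RingHom.FiniteType.of_surjective _
        (Scheme.ΓSpecIso (CommRingCat.of k)).commRingCatIsoToRingEquiv.symm.surjective)
    exact Lib.Cohen.NagataFiniteType.isNagata_of_finiteType (H25.NagataStalk.isNagata_field k)
  haveI : IsFinite j.fromNormalization := Groth.Agent.S9675.result j hN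
  let π := j.fromNormalization
  let j' := j.toNormalization
  let fY' : j.normalization ⟶ Spec (CommRingCat.of k) := π ≫ sY
  haveI : IsProper fY' := inferInstanceAs (IsProper (j.fromNormalization ≫ sY))
  haveI : IsLocallyNoetherian j.normalization := LocallyOfFiniteType.isLocallyNoetherian fY'
  haveI : CompactSpace j.normalization := QuasiCompact.compactSpace_of_compactSpace fY'
  haveI : IsNoetherian j.normalization := {}
  haveI : LocallyQuasiFinite j := inferInstance
  haveI : IsSeparated j := inferInstance
  haveI : IsOpenImmersion j' := inferInstanceAs (IsOpenImmersion j.toNormalization)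
  have hd' : Dense (Set.range j'.base) := j.toNormalization.denseRange
  have hj'k : j' ≫ fY' = X ↘ (Spec (CommRingCat.of k)) := by
    rw [← hjk, ← Category.assoc]
    exact congrArg (· ≫ sY) j.toNormalization_fromNormalization
  have hdim' : topologicalKrullDim j.normalization ≤ 1 := dim_le_one _ fY' j' hj'k hd' hdim
  have hopen : IsOpen (Set.range j'.base) := j'.isOpenEmbedding.isOpen_range
  have hng : ∀ y ∈ (Set.range j'.base)ᶜ, ¬ IsGen y := fun y hy hg =>
    hy (CurveProj.gen_mem_of_dense hopen hd' hg)
  haveI : IsSeparated fY' := inferInstance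
  obtain ⟨n, i, hi, hik⟩ := @CurveProj.exists_immersion k _ j.normalization ⟨fY'⟩
    (inferInstanceAs (IsSeparated fY')) (inferInstanceAs (LocallyOfFiniteType fY'))
    (inferInstanceAs (QuasiCompact fY')) hdim'
  haveI := Groth.Agent.Lib.ProjSpace.Basic.isProper_toSpec n k
  haveI : IsProper (i ≫ CohB1.ProjSpace.toSpec n k) := by rw [hik]; exact inferInstanceAs (IsProper fY')
  haveI : IsProper i := IsProper.of_comp i (CohB1.ProjSpace.toSpec n k)
  haveI : IsPreimmersion i := inferInstance
  refine ⟨n, j.normalization, i, j', IsClosedImmersion.of_isPreimmersion _ i.isClosedMap.isClosed_range,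
    inferInstance, (congrArg (j' ≫ ·) hik).trans hj'k, hd', ?_, ?_, fun y hy =>
      ⟨DimOneSetup.isClosed_singleton_of_not_gen hdim' (hng y hy), ?_⟩⟩
  · exact ⟨j.ker_toNormalization⟩
  · exact DimOneSetup.finite_of_no_gen hdim' hopen.isClosed_compl hng
  · refine Groth.Agent.S9676.result j hN y (le_antisymm (DimOneSetup.ringKrullDim_stalk_le_one hdim' y) ?_) hy
    obtain ⟨η, hη, hηy⟩ := exists_gen_specializes y
    rw [ringKrullDim_stalk_eq_coheight]
    have hlt : y < η := lt_of_le_not_ge hηy fun h => hng y hy (((show y ⤳ η from h).antisymm hηy).eq ▸ hη)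
    exact_mod_cast Order.one_le_iff_pos.2 (Order.coheight_pos.2 (not_isMax_of_lt hlt))

end Groth.Agent.S1626
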