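import Groth.Statements.S16262
import Groth.Agent.Lib.Wronsk.Mobius

set_option autoImplicit false
open W4c3wronskmg

namespace Groth.Agent.S16262

open Groth.Agent.Lib.Wronsk

open Polynomial in
/-- Let `k` be a field of characteristic zero and `a, b, i` positive integers with `i < a + b`. On the
projective line with `A = 0`, `B = ∞`, `P = -1`, the system `V_{a,b} = H⁰(ω((1+a)A)) ⊕ H⁰(ω((1+b)B))
⊆ H⁰(O(a+b))` is the space of polynomials of degree at most `a+b` with vanishing coefficient of
`X^a`, and `V = V_{a,b}(-iP)` (divided by `(X+1)^i`) is the space of `G` of degree at most `a+b-i`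
such that the coefficient of `X^a` in `(X+1)^i G` vanishes; it is a linear system of dimension and
degree `a+b-i`. Then no point of the projective line other than `A` and `B` is a special
ramification point of `V` (a point of weight at least two); for such a system a point `q` of the
affine line is special exactly when two independent members are divisible by `(X-q)^(a+b-i-1)`, so
the statement is that this fails for every `q ≠ 0`. (The published statement does not except `A` and
`B`, but `A` has weight `max(b-i, 0)` in `V`, which is `2` for `a = 1, b = 3, i = 1`: there `X^3`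
and `X^2` both lie in `V`. It is stated over the complex numbers.) -/
theorem result
    (k : Type*) [Field k] [CharZero k] (a b i : ℕ) (ha : 0 < a) (hb : 0 < b) (hi : 0 < i) (hiab : i < a + b)
    (V : Submodule k (Polynomial k))
    (hV : V = Polynomial.degreeLE k ↑(a + b - i) ⊓
      LinearMap.ker ((Polynomial.lcoeff k a).comp (LinearMap.mulLeft k (((X : Polynomial k) + 1) ^ i))))
    (q : k) (hq : q ≠ 0) :
    Module.finrank k ↥(V ⊓ (Ideal.span {(X - C q) ^ (a + b - i - 1)}).restrictScalars k) ≤ 1 := by
  classical
  by_contra hlt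
  rw [not_le] at hlt
  obtain ⟨N, hN⟩ : ∃ N, a + b - i = N + 1 := ⟨a + b - i - 1, by omega⟩
  rw [show a + b - i - 1 = N by omega] at hlt
  set g : k[X] := (X - C q) ^ N with hg
  have hgm : g.Monic := (monic_X_sub_C q).pow _
  have hgd : g.natDegree = N := by simp [hg]
  set W := V ⊓ (Ideal.span {g}).restrictScalars k
  let W0 : Submodule k k[X] := Submodule.span k {g, g * X}
  have hsub : W ≤ W0 := by
    rintro e ⟨heV, heg⟩
    obtain ⟨s, rfl⟩ := Ideal.mem_span_singleton.1 heg
    rw [hV] at heV
    have hdeg := mem_degreeLE.1 heV.1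
    rw [← natDegree_le_iff_degree_le] at hdeg
    rcases eq_or_ne s 0 with rfl | hs0
    · simp
    rw [hgm.natDegree_mul' hs0, hgd] at hdeg
    obtain ⟨u, v, rfl⟩ := exists_eq_X_add_C_of_natDegree_le_one (show s.natDegree ≤ 1 by omega)
    refine Submodule.mem_span_pair.2 ⟨v, u, ?_⟩
    rw [smul_eq_C_mul, smul_eq_C_mul]
    ring
  have : Module.Finite k W0 := Module.Finite.span_of_finite k (by simp)
  have h2 : Module.finrank k W0 ≤ 2 :=
    (finrank_span_le_card ({g, g * X} : Set k[X])).trans (by
      rw [Set.toFinset_insert, Set.toFinset_singleton]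
      exact Finset.card_le_two)
  have hW : W = W0 := Submodule.eq_of_le_of_finrank_le hsub (by omega)
  have hgV : g ∈ V := (hW.symm ▸ Submodule.subset_span (by simp) : g ∈ W).1
  have hgXV : g * X ∈ V := (hW.symm ▸ Submodule.subset_span (by simp) : g * X ∈ W).1
  rw [hV] at hgV hgXV
  have c1 : (((X : k[X]) + 1) ^ i * g).coeff a = 0 := hgV.2
  have c2 : (((X : k[X]) + 1) ^ i * (g * X)).coeff a = 0 := hgXV.2
  obtain ⟨a', rfl⟩ : ∃ a', a = a' + 1 := ⟨a - 1, by omega⟩
  rw [← mul_assoc, coeff_mul_X] at c2
  refine not_adjacent_zero' (k := k) i N a' (by omega) 1 1 1 (-q) one_ne_zero one_ne_zero one_ne_zero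
    (neg_ne_zero.2 hq) ?_
  simp only [hg, map_one, one_mul, map_neg, ← sub_eq_add_neg] at c1 c2 ⊢
  exact ⟨c2, c1⟩

end Groth.Agent.S16262
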