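import Groth.Statements.S16263
import Groth.Agent.Lib.Wronsk.Mobius

set_option autoImplicit false
open W4c3wronskmg

namespace Groth.Agent.S16263

open Groth.Agent.Lib.Wronsk

open Polynomial in
/-- Let `k` be a field of characteristic zero and `a` a positive integer. On the projective line with `A
= 0`, `B = -1`, `C = ∞`, the `(a+1)`-dimensional system `V = H⁰(ω((1+a)C)) ⊕ H⁰(ω(A+B)) ⊆
H⁰(ω((1+a)C + A + B)) ≅ H⁰(O(a+1))` is, in the affine coordinate, the space of polynomials `c + X
(X+1) F` with `c` a constant and `deg F ≤ a - 1`. Then `V` has no special ramification point (no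
point of weight at least two): since the members have degree at most `a + 1`, this says that for
every point `p` of the affine line at most a one-dimensional subspace of `V` is divisible by
`(X-p)^a`, and at `C` that at most a one-dimensional subspace has degree at most one (degree less
than two). (The published statement carries two further positive integers `i, j` with `i + j = a -
1`, used only in its second assertion, and is over the complex numbers.) -/
theorem result
    (k : Type*) [Field k] [CharZero k] (a : ℕ) (ha : 0 < a)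
    (V : Submodule k (Polynomial k))
    (hV : V = Submodule.span k {(1 : Polynomial k)} ⊔
      ((Ideal.span {(X : Polynomial k) * (X + 1)}).restrictScalars k ⊓ Polynomial.degreeLE k ↑(a + 1))) :
    (∀ p : k, Module.finrank k ↥(V ⊓ (Ideal.span {(X - C p) ^ a}).restrictScalars k) ≤ 1) ∧
      Module.finrank k ↥(V ⊓ Polynomial.degreeLT k 2) ≤ 1 := by
  classical
  have key : ∀ h ∈ V, h.eval 0 = h.eval (-1) ∧ h.natDegree ≤ a + 1 := by
    intro h hh
    rw [hV] at hh
    obtain ⟨h1, hh1, h2, ⟨hh2, hd⟩, rfl⟩ := Submodule.mem_sup.1 hh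
    obtain ⟨c, rfl⟩ := Submodule.mem_span_singleton.1 hh1
    rw [SetLike.mem_coe, mem_degreeLE, ← natDegree_le_iff_degree_le] at hd
    refine ⟨?_, natDegree_add_le_of_degree_le ((natDegree_smul_le _ _).trans (by simp)) hd⟩
    obtain ⟨F, rfl⟩ := Ideal.mem_span_singleton.1 hh2
    simp
  have main : ∀ (W W0 : Submodule k k[X]) (e1 e2 : k[X]), W ≤ V → W ≤ W0 → W0 = Submodule.span k {e1, e2} →
      ¬ (e1.eval 0 = e1.eval (-1) ∧ e2.eval 0 = e2.eval (-1)) → Module.finrank k W ≤ 1 := by
    intro W W0 e1 e2 hWV hW hW0 hne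
    subst hW0
    by_contra hlt
    rw [not_le] at hlt
    have : Module.Finite k (Submodule.span k ({e1, e2} : Set k[X])) := Module.Finite.span_of_finite k (by simp)
    have h2 : Module.finrank k (Submodule.span k ({e1, e2} : Set k[X])) ≤ 2 :=
      (finrank_span_le_card _).trans (by
        rw [Set.toFinset_insert, Set.toFinset_singleton]
        exact Finset.card_le_two)
    have hWe := Submodule.eq_of_le_of_finrank_le hW (by omega)
    exact hne ⟨(key e1 (hWV (hWe.symm ▸ Submodule.subset_span (by simp)))).1,
      (key e2 (hWV (hWe.symm ▸ Submodule.subset_span (by simp)))).1⟩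
  refine ⟨fun p => main _ _ ((X - C p) ^ a) ((X - C p) ^ a * X) inf_le_left ?_ rfl ?_,
    main _ _ 1 X inf_le_left ?_ rfl ?_⟩
  · rintro e ⟨heV, heg⟩
    obtain ⟨s, rfl⟩ := Ideal.mem_span_singleton.1 heg
    rcases eq_or_ne s 0 with rfl | hs0
    · simp
    have hdeg := (key _ heV).2
    rw [((monic_X_sub_C p).pow a).natDegree_mul' hs0, natDegree_pow, natDegree_X_sub_C, mul_one] at hdeg
    obtain ⟨u, v, rfl⟩ := exists_eq_X_add_C_of_natDegree_le_one (show s.natDegree ≤ 1 by omega)
    refine Submodule.mem_span_pair.2 ⟨v, u, ?_⟩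
    rw [smul_eq_C_mul, smul_eq_C_mul]
    ring
  · rintro ⟨h1, h2⟩
    simp only [eval_mul, eval_pow, Polynomial.eval_sub, eval_X, eval_C, mul_zero, mul_neg, mul_one] at h1 h2
    have hp : -1 - p = 0 := by
      have h : (-1 - p) ^ a = 0 := neg_eq_zero.1 h2.symm
      exact eq_zero_of_pow_eq_zero h
    rw [hp, zero_pow ha.ne', show (0 : k) - p = 1 by linear_combination hp, one_pow] at h1
    exact one_ne_zero h1
  · rintro e ⟨-, he⟩
    rcases eq_or_ne e 0 with rfl | he0
    · simp
    rw [SetLike.mem_coe, mem_degreeLT, ← natDegree_lt_iff_degree_lt he0] at he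
    obtain ⟨u, v, rfl⟩ := exists_eq_X_add_C_of_natDegree_le_one (show e.natDegree ≤ 1 by omega)
    refine Submodule.mem_span_pair.2 ⟨v, u, ?_⟩
    rw [smul_eq_C_mul, smul_eq_C_mul, mul_one]
    ring
  · rintro ⟨-, h⟩
    simp at h

end Groth.Agent.S16263
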