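import Groth.Statements.S16264
import Groth.Agent.Lib.Wronsk.Mobius

set_option autoImplicit false
open W4c3wronskmg

namespace Groth.Agent.S16264

open Groth.Agent.Lib.Wronsk

open Polynomial in
/-- Let `k` be a field of characteristic zero and `a, i, j` positive integers with `i + j = a - 1`. With
`A = 0`, `B = -1`, `C = ∞` on the projective line and `V` the `(a+1)`-dimensional system of
polynomials `c + X (X+1) F`, `deg F ≤ a - 1` (that is, `H⁰(ω((1+a)C)) ⊕ H⁰(ω(A+B)) ⊆ H⁰(O(a+1))`),
the pairs of points `(P, Q) = (p, q)` of the affine line with `dim V(-iP-jQ) ≥ 3`, i.e. with at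
least a three-dimensional subspace of `V` divisible by `(X-p)^i (X-q)^j`, are exactly `(A, B)` and
`(B, A)`. (Here `P, Q` range over the points other than `C`; when one of them is `C` the dimension
is at most two for degree reasons. The published statement is over the complex numbers.) -/
theorem result
    (k : Type*) [Field k] [CharZero k] (a i j : ℕ) (hi : 0 < i) (hj : 0 < j) (hij : i + j + 1 = a)
    (V : Submodule k (Polynomial k))
    (hV : V = Submodule.span k {(1 : Polynomial k)} ⊔
      ((Ideal.span {(X : Polynomial k) * (X + 1)}).restrictScalars k ⊓ Polynomial.degreeLE k ↑(a + 1)))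
    (p q : k) :
    3 ≤ Module.finrank k ↥(V ⊓ (Ideal.span {(X - C p) ^ i * (X - C q) ^ j}).restrictScalars k) ↔
      (p = 0 ∧ q = -1) ∨ (p = -1 ∧ q = 0) := by
  set g : k[X] := (X - C p) ^ i * (X - C q) ^ j with hg
  have hgm : g.Monic := ((monic_X_sub_C p).pow _).mul ((monic_X_sub_C q).pow _)
  have hgd : g.natDegree = i + j := by
    rw [hg, natDegree_mul (pow_ne_zero _ (X_sub_C_ne_zero p)) (pow_ne_zero _ (X_sub_C_ne_zero q))]
    simp
  set e : Fin 3 → k[X] := fun n => g * X ^ (n : ℕ) with he
  have hli : LinearIndependent k e := by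
    refine Fintype.linearIndependent_iff.2 fun c hc n => ?_
    have h0 : g * ∑ m : Fin 3, C (c m) * X ^ (m : ℕ) = 0 := by
      rw [Finset.mul_sum, ← hc]
      exact Finset.sum_congr rfl fun m _ => by simp only [he, smul_eq_C_mul]; ring
    have h1 := congrArg (fun P : k[X] => P.coeff n) ((mul_eq_zero.1 h0).resolve_left hgm.ne_zero)
    simpa [finsetSum_coeff, Fin.val_inj, Finset.sum_ite_eq] using h1
  have hmem : ∀ h : k[X], h ∈ V ↔ h.natDegree ≤ a + 1 ∧ h.eval 0 = h.eval (-1) := by
    intro h
    rw [hV]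
    constructor
    · intro hh
      obtain ⟨h1, hh1, h2, ⟨hh2, hd⟩, rfl⟩ := Submodule.mem_sup.1 hh
      obtain ⟨c, rfl⟩ := Submodule.mem_span_singleton.1 hh1
      rw [SetLike.mem_coe, mem_degreeLE, ← natDegree_le_iff_degree_le] at hd
      refine ⟨natDegree_add_le_of_degree_le ((natDegree_smul_le _ _).trans (by simp)) hd, ?_⟩
      obtain ⟨F, rfl⟩ := Ideal.mem_span_singleton.1 hh2
      simp
    · rintro ⟨hd, hev⟩
      rw [show h = (h.eval 0) • (1 : k[X]) + (h - C (h.eval 0)) by rw [smul_eq_C_mul]; ring]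
      refine Submodule.add_mem_sup (Submodule.mem_span_singleton.2 ⟨_, rfl⟩) ⟨?_, ?_⟩
      · refine Ideal.mem_span_singleton.2 ?_
        refine IsCoprime.mul_dvd ?_ ?_ ?_
        · exact ⟨-1, 1, by ring⟩
        · rw [show (X : k[X]) = X - C 0 by simp, dvd_iff_isRoot]
          simp
        · rw [show (X : k[X]) + 1 = X - C (-1) by simp, dvd_iff_isRoot]
          simp [hev]
      · rw [SetLike.mem_coe, mem_degreeLE, ← natDegree_le_iff_degree_le]
        exact (natDegree_sub_le _ _).trans (by simp [hd])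
  set W := V ⊓ (Ideal.span {g}).restrictScalars k
  have hW : W ≤ Submodule.span k (Set.range e) := by
    rintro f ⟨hfV, hfg⟩
    obtain ⟨s, rfl⟩ := Ideal.mem_span_singleton.1 hfg
    rcases eq_or_ne s 0 with rfl | hs0
    · simp
    have hd := ((hmem _).1 hfV).1
    rw [hgm.natDegree_mul' hs0, hgd] at hd
    refine (Submodule.mem_span_range_iff_exists_fun k).2 ⟨fun n => s.coeff n, ?_⟩
    conv_rhs => rw [s.as_sum_range_C_mul_X_pow' (n := 3) (by omega), ← Fin.sum_univ_eq_sum_range, Finset.mul_sum]
    exact Finset.sum_congr rfl fun m _ => by simp only [he, smul_eq_C_mul]; ring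
  have hfr := finrank_span_eq_card hli
  rw [Fintype.card_fin] at hfr
  have : Module.Finite k (Submodule.span k (Set.range e)) := Module.Finite.span_of_finite k (Set.finite_range e)
  have hiff : 3 ≤ Module.finrank k W ↔ ∀ n, e n ∈ V := by
    constructor
    · intro h n
      have heq := Submodule.eq_of_le_of_finrank_le hW (by omega)
      exact (heq.symm ▸ Submodule.subset_span ⟨n, rfl⟩ : e n ∈ W).1
    · intro h
      have heq : Submodule.span k (Set.range e) = W := le_antisymm
        (Submodule.span_le.2 (by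
          rintro _ ⟨n, rfl⟩
          exact ⟨h n, Ideal.mem_span_singleton.2 (dvd_mul_right _ _)⟩)) hW
      rw [← heq, hfr]
  rw [hiff]
  constructor
  · intro h
    have h0 := ((hmem _).1 (h 0)).2
    have h1 := ((hmem _).1 (h 1)).2
    simp only [he, eval_mul, eval_pow, eval_X, Fin.val_zero, Fin.val_one, pow_zero, pow_one, mul_one, mul_zero,
      mul_neg, eq_comm (a := (0 : k)), neg_eq_zero] at h0 h1
    have h00 : g.eval 0 = 0 := h0.trans h1
    simp only [hg, eval_mul, eval_pow, Polynomial.eval_sub, eval_X, eval_C, mul_eq_zero, pow_eq_zero_iff hi.ne',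
      pow_eq_zero_iff hj.ne', sub_eq_zero] at h00 h1
    rcases h00 with hp | hq <;> rcases h1 with hp' | hq'
    · exact absurd (hp.trans hp'.symm) (by norm_num)
    · exact Or.inl ⟨hp.symm, hq'.symm⟩
    · exact Or.inr ⟨hp'.symm, hq.symm⟩
    · exact absurd (hq.trans hq'.symm) (by norm_num)
  · intro h n
    refine (hmem _).2 ⟨?_, ?_⟩
    · rw [show e n = g * X ^ (n : ℕ) from rfl, hgm.natDegree_mul' (pow_ne_zero _ X_ne_zero), hgd, natDegree_X_pow]
      have := n.2
      omega
    · rcases h with ⟨rfl, rfl⟩ | ⟨rfl, rfl⟩ <;> simp [he, hg, zero_pow hi.ne', zero_pow hj.ne']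

end Groth.Agent.S16264
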