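import Groth.Statements.S16265
import Groth.Agent.Lib.FunFld.SmallGenus
-- import your own Groth.Agent.* helpers here

set_option autoImplicit false
open FunFld

namespace Groth.Agent.S16265
open Groth.Agent.Lib.FunFld Groth.Agent.Lib.FunFld.SmallGenus Groth.Agent.Lib.FunFld.Degree

/-- Let `K/k` be a function field of one variable over an algebraically closed field `k` of
characteristic zero (the function field of a smooth projective curve), `D` a divisor and `V ⊆ L(D)`
a linear system of dimension `r + 1`; write `V(-mP-nQ) = V ∩ L(D - mP - nQ)` for the members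
vanishing to the indicated orders. Assume `V` has no special ramification point, i.e. no place of
weight at least two: for every place `R`, `dim V(-rR) ≤ 1` and `V(-(r+2)R) = 0`. Let `P ≠ Q` be
places and `a, b ≥ 1` with `a + b = r + 1` (so that `V(-aP)` and `V(-bQ)` have dimensions `b` and
`a`). Then the following are equivalent: (1) the system `V(-aP)` has weight at least two at `Q`,
that is `dim V(-aP-(b-1)Q) ≥ 2` or `dim V(-aP-(b+1)Q) ≥ 1`, and the system `V(-bQ)` has weight at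
least two at `P`, that is `dim V(-(a-1)P-bQ) ≥ 2` or `dim V(-(a+1)P-bQ) ≥ 1`; (2) one of (a) `dim
V(-(a+1)P-(b+1)Q) ≥ 1`, (b) `dim V(-(a-1)P-(b-1)Q) ≥ 3`, (c) `dim V(-aP-(b+1)Q) ≥ 1` and `dim
V(-(a-1)P-bQ) ≥ 2`, (d) `dim V(-(a+1)P-bQ) ≥ 1` and `dim V(-aP-(b-1)Q) ≥ 2`. (The published
statement is for a smooth curve over the complex numbers.) -/
theorem result
    (k K : Type*) [Field k] [IsAlgClosed k] [CharZero k] [Field K] [Algebra k K]
    (hK : FunFld.IsFunctionField k K) (D : FunFld.Divisor k K)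
    (V : Submodule k K) (hVD : V ≤ FunFld.L D) (r : ℕ) (hr : Module.finrank k ↥V = r + 1)
    (hns : ∀ R : FunFld.Place k K,
      Module.finrank k ↥(V ⊓ FunFld.L (D - Finsupp.single R (r : ℤ))) ≤ 1 ∧
        V ⊓ FunFld.L (D - Finsupp.single R ((r : ℤ) + 2)) = ⊥)
    (P Q : FunFld.Place k K) (hPQ : P ≠ Q) (a b : ℕ) (ha : 1 ≤ a) (hb : 1 ≤ b) (hab : a + b = r + 1) :
    ((2 ≤ Module.finrank k ↥(V ⊓ FunFld.L (D - Finsupp.single P (a : ℤ) - Finsupp.single Q ((b : ℤ) - 1 : ℤ))) ∨
        1 ≤ Module.finrank k ↥(V ⊓ FunFld.L (D - Finsupp.single P (a : ℤ) - Finsupp.single Q ((b : ℤ) + 1 : ℤ)))) ∧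
      (2 ≤ Module.finrank k ↥(V ⊓ FunFld.L (D - Finsupp.single P ((a : ℤ) - 1 : ℤ) - Finsupp.single Q (b : ℤ))) ∨
        1 ≤ Module.finrank k ↥(V ⊓ FunFld.L (D - Finsupp.single P ((a : ℤ) + 1 : ℤ) - Finsupp.single Q (b : ℤ))))) ↔
    (1 ≤ Module.finrank k ↥(V ⊓ FunFld.L (D - Finsupp.single P ((a : ℤ) + 1 : ℤ) - Finsupp.single Q ((b : ℤ) + 1 : ℤ))) ∨
      3 ≤ Module.finrank k ↥(V ⊓ FunFld.L (D - Finsupp.single P ((a : ℤ) - 1 : ℤ) - Finsupp.single Q ((b : ℤ) - 1 : ℤ))) ∨
      (1 ≤ Module.finrank k ↥(V ⊓ FunFld.L (D - Finsupp.single P (a : ℤ) - Finsupp.single Q ((b : ℤ) + 1 : ℤ))) ∧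
        2 ≤ Module.finrank k ↥(V ⊓ FunFld.L (D - Finsupp.single P ((a : ℤ) - 1 : ℤ) - Finsupp.single Q (b : ℤ)))) ∨
      (1 ≤ Module.finrank k ↥(V ⊓ FunFld.L (D - Finsupp.single P ((a : ℤ) + 1 : ℤ) - Finsupp.single Q (b : ℤ))) ∧
        2 ≤ Module.finrank k ↥(V ⊓ FunFld.L (D - Finsupp.single P (a : ℤ) - Finsupp.single Q ((b : ℤ) - 1 : ℤ))))) := by
  classical
  set E : FunFld.Divisor k K := D - Finsupp.single P (a : ℤ) - Finsupp.single Q (b : ℤ) with hE
  have e1 : D - Finsupp.single P (a : ℤ) - Finsupp.single Q ((b : ℤ) - 1) = E + Finsupp.single Q 1 := by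
    rw [hE, Finsupp.single_sub]; abel
  have e2 : D - Finsupp.single P (a : ℤ) - Finsupp.single Q ((b : ℤ) + 1) = E - Finsupp.single Q 1 := by
    rw [hE, Finsupp.single_add]; abel
  have e3 : D - Finsupp.single P ((a : ℤ) - 1) - Finsupp.single Q (b : ℤ) = E + Finsupp.single P 1 := by
    rw [hE, Finsupp.single_sub]; abel
  have e4 : D - Finsupp.single P ((a : ℤ) + 1) - Finsupp.single Q (b : ℤ) = E - Finsupp.single P 1 := by
    rw [hE, Finsupp.single_add]; abel
  have e5 : D - Finsupp.single P ((a : ℤ) + 1) - Finsupp.single Q ((b : ℤ) + 1) =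
      E - Finsupp.single P 1 - Finsupp.single Q 1 := by
    rw [hE, Finsupp.single_add, Finsupp.single_add]; abel
  have e6 : D - Finsupp.single P ((a : ℤ) - 1) - Finsupp.single Q ((b : ℤ) - 1) =
      E + Finsupp.single P 1 + Finsupp.single Q 1 := by
    rw [hE, Finsupp.single_sub, Finsupp.single_sub]; abel
  rw [e1, e2, e3, e4, e5, e6]
  have h1 := finrank_add_finrank_le hK V E hPQ
  have h2 := finrank_add_finrank_le hK V (E + Finsupp.single P 1 + Finsupp.single Q 1) hPQ
  rw [show E + Finsupp.single P 1 + Finsupp.single Q 1 - Finsupp.single P 1 = E + Finsupp.single Q 1 by abel,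
    show E + Finsupp.single P 1 + Finsupp.single Q 1 - Finsupp.single Q 1 = E + Finsupp.single P 1 by abel,
    show E + Finsupp.single Q 1 - Finsupp.single Q 1 = E by abel] at h2
  have h3 := finrank_step' hK V E Q
  have h4 := LinSer.Basic.finrank_inf_step hK V (E + Finsupp.single Q 1) P
  rw [show E + Finsupp.single Q 1 + Finsupp.single P 1 = E + Finsupp.single P 1 + Finsupp.single Q 1 by abel] at h4
  have h5 := LinSer.Basic.finrank_inf_step hK V (E + Finsupp.single P 1) Q
  have h6 := finrank_mono' hK V (E := E) (E' := E + Finsupp.single P 1)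
    (le_add_of_nonneg_right (Finsupp.single_nonneg.mpr zero_le_one))
  have h7 := finrank_mono' hK V (E := E - Finsupp.single P 1 - Finsupp.single Q 1)
    (E' := E - Finsupp.single P 1) (sub_le_self _ (Finsupp.single_nonneg.mpr zero_le_one))
  have h8 := finrank_mono' hK V (E := E - Finsupp.single P 1 - Finsupp.single Q 1)
    (E' := E - Finsupp.single Q 1)
    (by rw [sub_right_comm]; exact sub_le_self _ (Finsupp.single_nonneg.mpr zero_le_one))
  omega

end Groth.Agent.S16265
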