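import Groth.Statements.S16266
import Groth.Agent.Lib.FunFld.SmallGenus
-- import your own Groth.Agent.* helpers here

set_option autoImplicit false
open FunFld

namespace Groth.Agent.S16266
open Groth.Agent.Lib.FunFld Groth.Agent.Lib.FunFld.SmallGenus Groth.Agent.Lib.FunFld.Degree

/-- Let `K/k` be a function field of one variable over an algebraically closed field `k` of
characteristic zero, `D` a divisor, `V ⊆ L(D)` a linear system of dimension `r + 1` with `r ≥ 1`,
and `P` a place with `V' = V(-P) = V ∩ L(D - P) ≠ V`, an `r`-dimensional system in `L(D - P)`.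
Assume that neither `V` nor `V'` has a special ramification point (a place of weight at least two):
for every place `R`, `dim V ∩ L(D - rR) ≤ 1`, `V ∩ L(D - (r+2)R) = 0`, `dim V' ∩ L(D - P - (r-1)R) ≤
1` and `V' ∩ L(D - P - (r+1)R) = 0`. Then no place `Q ≠ P` is a ramification point of both `V` and
`V'`: for no such `Q` are both `V ∩ L(D - (r+1)Q)` and `V' ∩ L(D - P - rQ)` nonzero. (The published
statement is for a smooth curve over the complex numbers.) -/
theorem result
    (k K : Type*) [Field k] [IsAlgClosed k] [CharZero k] [Field K] [Algebra k K]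
    (hK : FunFld.IsFunctionField k K) (D : FunFld.Divisor k K)
    (V : Submodule k K) (hVD : V ≤ FunFld.L D) (r : ℕ) (hr : Module.finrank k ↥V = r + 1) (hr1 : 1 ≤ r)
    (P : FunFld.Place k K) (hP : V ⊓ FunFld.L (D - Finsupp.single P 1) ≠ V)
    (hns : ∀ R : FunFld.Place k K,
      Module.finrank k ↥(V ⊓ FunFld.L (D - Finsupp.single R (r : ℤ))) ≤ 1 ∧
        V ⊓ FunFld.L (D - Finsupp.single R ((r : ℤ) + 2)) = ⊥)
    (hns' : ∀ R : FunFld.Place k K,
      Module.finrank k ↥(V ⊓ FunFld.L (D - Finsupp.single P 1 - Finsupp.single R ((r : ℤ) - 1))) ≤ 1 ∧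
        V ⊓ FunFld.L (D - Finsupp.single P 1 - Finsupp.single R ((r : ℤ) + 1)) = ⊥)
    (Q : FunFld.Place k K) (hQP : Q ≠ P) :
    ¬ (V ⊓ FunFld.L (D - Finsupp.single Q ((r : ℤ) + 1)) ≠ ⊥ ∧
       V ⊓ FunFld.L (D - Finsupp.single P 1 - Finsupp.single Q (r : ℤ)) ≠ ⊥) := by
  classical
  rintro ⟨h1, h2⟩
  obtain ⟨f, hf, hf0⟩ := Submodule.exists_mem_ne_zero_of_ne_bot h1
  obtain ⟨g, hg, hg0⟩ := Submodule.exists_mem_ne_zero_of_ne_bot h2
  have := finiteDimensional_L hK (D - Finsupp.single Q (r : ℤ))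
  have : FiniteDimensional k ↥(V ⊓ FunFld.L (D - Finsupp.single Q (r : ℤ))) :=
    Submodule.finiteDimensional_of_le inf_le_right
  have hfm : f ∈ V ⊓ FunFld.L (D - Finsupp.single Q (r : ℤ)) :=
    ⟨hf.1, L_mono (by rw [Finsupp.single_add, ← sub_sub]
                      exact sub_le_self _ (Finsupp.single_nonneg.mpr zero_le_one)) hf.2⟩
  have hgm : g ∈ V ⊓ FunFld.L (D - Finsupp.single Q (r : ℤ)) :=
    ⟨hg.1, L_mono (by rw [sub_right_comm]
                      exact sub_le_self _ (Finsupp.single_nonneg.mpr zero_le_one)) hg.2⟩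
  obtain ⟨⟨v, hv⟩, hspan⟩ := finrank_le_one_iff.mp (hns Q).1
  obtain ⟨c, hc⟩ := hspan ⟨f, hfm⟩
  obtain ⟨d, hd⟩ := hspan ⟨g, hgm⟩
  have hc' : c • v = f := congrArg Subtype.val hc
  have hd' : d • v = g := congrArg Subtype.val hd
  have hd0 : d ≠ 0 := fun h0 => hg0 (by rw [← hd', h0, zero_smul])
  have hfg : f = (c / d) • g := by
    rw [← hd', smul_smul, div_mul_cancel₀ _ hd0, hc']
  have hfP : f ∈ FunFld.L (D - Finsupp.single P 1 - Finsupp.single Q (r : ℤ)) :=
    hfg ▸ Submodule.smul_mem _ _ hg.2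
  have : f ∈ V ⊓ FunFld.L (D - Finsupp.single P 1 - Finsupp.single Q ((r : ℤ) + 1)) := by
    refine ⟨hf.1, fun R => ?_⟩
    rcases eq_or_ne R Q with rfl | hR
    · simpa [Finsupp.single_eq_of_ne hQP] using hf.2 R
    · simpa [Finsupp.single_eq_of_ne hR] using hfP R
  rw [(hns' Q).2] at this
  exact hf0 ((Submodule.mem_bot _).mp this)

end Groth.Agent.S16266
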