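import Groth.Statements.S16268

set_option autoImplicit false
set_option linter.style.haveILetI false
universe u w
open CategoryTheory CategoryTheory.Limits AlgebraicGeometry Opposite
open EtCore

namespace Groth.Agent.S16268

/-- Let X be a scheme, Y an etale X-scheme with Y -> X surjective, and G a finite group acting on Y by
X-automorphisms such that the morphisms (id, g) : Y -> Y x_X Y exhibit Y x_X Y as the coproduct of
copies of Y indexed by G (Y -> X is a Galois covering with group G). Let P be a presheaf of sets on
the small etale site of X which takes this coproduct to a product: s |-> (g |-> (id, g)^* s) is a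
bijection from P(Y x_X Y) onto the G-indexed families in P(Y). Then P satisfies the sheaf condition
for the covering consisting of the single morphism Y -> X if and only if the restriction P(X) ->
P(Y) is injective and its image is the set of G-invariant elements of P(Y). -/
theorem result (X : Scheme.{u})
    (Y : X.Etale) (hY : Function.Surjective Y.hom.base)
    {G : Type u} [Group G] [Finite G] (σ : G →* Aut Y)
    (hgal : Nonempty (IsColimit (Cofan.mk (Y ⨯ Y) (fun g : G => prod.lift (𝟙 Y) (σ g).hom))))
    (P : X.Etaleᵒᵖ ⥤ Type w)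
    (hP : Function.Bijective (fun s : P.obj (op (Y ⨯ Y)) => fun g : G => P.map (prod.lift (𝟙 Y) (σ g).hom).op s)) :
    Presieve.IsSheafFor P (Presieve.singleton ((EtCore.topIsTerminal X).from Y)) ↔
      (Function.Injective (P.map ((EtCore.topIsTerminal X).from Y).op) ∧
        Set.range (P.map ((EtCore.topIsTerminal X).from Y).op) = {s | ∀ g : G, P.map (σ g).hom.op s = s}) := by
  set f := (EtCore.topIsTerminal X).from Y
  obtain ⟨hc⟩ := hgal
  rw [Presieve.isSheafFor_singleton]
  have hcompat : ∀ s : P.obj (op Y), (∀ g : G, P.map (σ g).hom.op s = s) ↔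
      ∀ {Z : X.Etale} (p₁ p₂ : Z ⟶ Y), p₁ ≫ f = p₂ ≫ f → P.map p₁.op s = P.map p₂.op s := by
    intro s
    constructor
    · intro hs Z p₁ p₂ _
      have hfs : P.map (prod.fst : Y ⨯ Y ⟶ Y).op s = P.map (prod.snd : Y ⨯ Y ⟶ Y).op s := by
        refine hP.1 (funext fun g => ?_)
        simp only [← Functor.map_comp_apply, ← op_comp, prod.lift_fst, prod.lift_snd]
        rw [op_id, Functor.map_id_apply, hs g]
      have := congrArg (P.map (prod.lift p₁ p₂).op) hfs
      simpa only [← Functor.map_comp_apply, ← op_comp, prod.lift_fst, prod.lift_snd] using this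
    · intro hs g
      have := hs (σ g).hom (𝟙 Y) ((EtCore.topIsTerminal X).hom_ext _ _)
      rwa [op_id, Functor.map_id_apply] at this
  constructor
  · intro h
    have hinv : ∀ (y : P.obj (op (EtCoh.top X))) (g : G), P.map (σ g).hom.op (P.map f.op y) = P.map f.op y := by
      intro y g
      rw [← Functor.map_comp_apply, ← op_comp]
      rw [show (σ g).hom ≫ f = f from (EtCore.topIsTerminal X).hom_ext _ _]
    refine ⟨fun y y' e => ?_, Set.ext fun s => ⟨?_, fun hs => ?_⟩⟩
    · exact (h _ ((hcompat _).1 (hinv y'))).unique e rfl
    · rintro ⟨y, rfl⟩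
      exact hinv y
    · exact (h s ((hcompat s).1 hs)).exists
  · rintro ⟨hinj, hrange⟩ s hs
    have hmem : s ∈ Set.range (P.map f.op) := hrange ▸ (hcompat s).2 hs
    obtain ⟨y, hy⟩ := hmem
    exact ⟨y, hy, fun y' hy' => hinj (hy'.trans hy.symm)⟩

end Groth.Agent.S16268
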