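import Groth.Statements.S16269
import Groth.Agent.Lib.EtSite.Basic
import Groth.Agent.Lib.EtJ.Supp
-- import your own Groth.Agent.* helpers here

set_option autoImplicit false
universe u w
open CategoryTheory CategoryTheory.Limits AlgebraicGeometry Opposite
open EtCore

namespace Groth.Agent.S16269

/-- The legs of a coproduct of etale schemes are jointly surjective. -/
theorem exists_preimage_of_isColimit {X : Scheme.{u}} {ι : Type u} {Y : ι → X.Etale} {P : X.Etale}
    (e : ∀ i, Y i ⟶ P) (h : IsColimit (Cofan.mk P e)) (y : P.left) :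
    ∃ (i : ι) (v : (Y i).left), (e i).left.base v = y := by
  let O : P.left.Opens := ⟨⋃ i, Set.range (e i).left.base,
    isOpen_iUnion fun i => (Groth.Agent.Lib.EtJ.Supp.isOpenMap_left (e i)).isOpen_range⟩
  have : Etale P.hom := P.prop
  let o : (O : Scheme.{u}) ⟶ P.left := Scheme.Opens.ι O
  have ho : IsOpenImmersion o := (inferInstance : IsOpenImmersion (Scheme.Opens.ι O))
  let V : X.Etale := MorphismProperty.Over.mk ⊤ (o ≫ P.hom) (show Etale _ from inferInstance)
  let incl : V ⟶ P := MorphismProperty.Over.homMk o rfl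
  have hr : ∀ i, Set.range (e i).left.base ⊆ Set.range o.base := fun i =>
    (Scheme.Opens.range_ι O).symm ▸ Set.subset_iUnion (fun i => Set.range (e i).left.base) i
  let l : ∀ i, Y i ⟶ V := fun i => MorphismProperty.Over.homMk
    (@IsOpenImmersion.lift _ _ _ o (e i).left ho (hr i))
    ((Category.assoc _ _ _).symm.trans ((congrArg (· ≫ P.hom)
      (@IsOpenImmersion.lift_fac _ _ _ o _ ho _)).trans (Over.w (e i).hom)))
  have hid : h.desc (Cofan.mk V l) ≫ incl = 𝟙 P := h.hom_ext fun ⟨i⟩ =>
    (Category.assoc _ _ _).symm.trans ((congrArg (· ≫ incl) (h.fac (Cofan.mk V l) ⟨i⟩)).trans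
      ((MorphismProperty.Over.Hom.ext (@IsOpenImmersion.lift_fac _ _ _ o _ ho _)).trans (Category.comp_id _).symm))
  let z := (h.desc (Cofan.mk V l)).left.base y
  have hy : o.base z = y := congrArg (fun m => m.left.base y) hid
  have hz : y ∈ O := hy ▸ z.2
  obtain ⟨i, hi⟩ := Set.mem_iUnion.1 hz
  exact ⟨i, hi⟩

/-- Let X be a scheme, Y an etale X-scheme with Y -> X surjective, and G a finite group acting on Y by
X-automorphisms such that the morphisms (id, g) : Y -> Y x_X Y exhibit Y x_X Y as the coproduct of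
copies of Y indexed by G (a Galois covering with group G). For an abelian sheaf F on the small etale
site of X, the restriction map F(X) -> F(Y) is injective and its image is the set of sections of F
over Y fixed by every element of G. -/
theorem result (X : Scheme.{u})
    (Y : X.Etale) (hY : Function.Surjective Y.hom.base)
    {G : Type u} [Group G] [Finite G] (σ : G →* Aut Y)
    (hgal : Nonempty (IsColimit (Cofan.mk (Y ⨯ Y) (fun g : G => prod.lift (𝟙 Y) (σ g).hom))))
    (F : EtCoh.Ab X) :
    Function.Injective (F.obj.map ((EtCore.topIsTerminal X).from Y).op) ∧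
      Set.range (F.obj.map ((EtCore.topIsTerminal X).from Y).op) =
        {s : EtCoh.sect F Y | ∀ g : G, F.obj.map (σ g).hom.op s = s} := by
  obtain ⟨hcol⟩ := hgal
  let π : Y ⟶ EtCoh.top X := (EtCore.topIsTerminal X).from Y
  have hπ : Sieve.ofArrows (fun _ : PUnit.{1} => Y) (fun _ => π) ∈ X.smallEtaleTopology (EtCoh.top X) :=
    Groth.Agent.Lib.EtSite.Basic.ofArrows_mem _ _ fun y => by
      obtain ⟨v, hv⟩ := hY y
      refine ⟨⟨⟩, v, ?_⟩
      have hw : π.left ≫ (EtCoh.top X).hom = Y.hom := Over.w π.hom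
      have : π.left = Y.hom := (Category.comp_id _).symm.trans hw
      rw [this]
      exact hv
  have hsep : ∀ {U : X.Etale} {R : Sieve U}, R ∈ X.smallEtaleTopology U → ∀ s t : EtCoh.sect F U,
      (∀ (Z : X.Etale) (g : Z ⟶ U), R g → F.obj.map g.op s = F.obj.map g.op t) → s = t :=
    fun hR s t h => (((isSheaf_iff_isSheaf_of_type X.smallEtaleTopology _).1
      ((Presheaf.isSheaf_iff_isSheaf_forget X.smallEtaleTopology F.obj (forget _)).1 F.property))
        _ hR).isSeparatedFor.ext h
  -- the translates jointly cover `Y ⨯ Y`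
  let e : ∀ _ : G, Y ⟶ Y ⨯ Y := fun g => prod.lift (𝟙 Y) (σ g).hom
  have hP : Sieve.ofArrows (fun _ : G => Y) e ∈ X.smallEtaleTopology (Y ⨯ Y) := by
    exact Groth.Agent.Lib.EtSite.Basic.ofArrows_mem _ _ (exists_preimage_of_isColimit e hcol)
  refine ⟨fun s t h => hsep hπ s t fun Z a ha => ?_, Set.ext fun s => ⟨?_, fun hs => ?_⟩⟩
  · obtain ⟨-, r, rfl⟩ := (Sieve.mem_ofArrows_iff _ _ _).1 ha
    rw [op_comp, Functor.map_comp]
    exact congrArg (F.obj.map r.op) h
  · rintro ⟨t, rfl⟩ g
    change (F.obj.map π.op ≫ F.obj.map (σ g).hom.op) t = F.obj.map π.op t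
    rw [← Functor.map_comp, ← op_comp, (EtCore.topIsTerminal X).hom_ext ((σ g).hom ≫ π) π]
  · have hS : Presieve.IsSheafFor (F.obj ⋙ forget _) (Presieve.ofArrows (fun _ : PUnit.{1} => Y) fun _ => π) :=
      (Presieve.isSheafFor_iff_generate _).2 (((isSheaf_iff_isSheaf_of_type X.smallEtaleTopology _).1
        ((Presheaf.isSheaf_iff_isSheaf_forget X.smallEtaleTopology F.obj (forget _)).1 F.property)) _ hπ)
    rw [Presieve.isSheafFor_arrows_iff] at hS
    obtain ⟨t, ht, -⟩ := hS (fun _ => s) fun _ _ Z a b _ => by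
      refine hsep (X.smallEtaleTopology.pullback_stable (prod.lift a b) hP) _ _ fun Z' q hq => ?_
      obtain ⟨g, r, hr⟩ := (Sieve.mem_ofArrows_iff _ _ _).1 hq
      have h₁ : q ≫ a = r :=
        (q ≫= (prod.lift_fst a b).symm).trans ((Category.assoc _ _ _).symm.trans
          ((congrArg (· ≫ prod.fst) hr).trans ((Category.assoc _ _ _).trans
            ((r ≫= prod.lift_fst _ _).trans (Category.comp_id r)))))
      have h₂ : q ≫ b = r ≫ (σ g).hom :=
        (q ≫= (prod.lift_snd a b).symm).trans ((Category.assoc _ _ _).symm.trans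
          ((congrArg (· ≫ prod.snd) hr).trans ((Category.assoc _ _ _).trans
            (r ≫= prod.lift_snd _ _))))
      change (F.obj.map a.op ≫ F.obj.map q.op) s = (F.obj.map b.op ≫ F.obj.map q.op) s
      rw [← Functor.map_comp, ← op_comp, ← Functor.map_comp, ← op_comp, h₁, h₂, op_comp,
        Functor.map_comp]
      exact (congrArg (F.obj.map r.op) (hs g)).symm
    exact ⟨t, ht ⟨⟩⟩

end Groth.Agent.S16269
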