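import Groth.Statements.S16277
import Groth.Agent.S16275
import Groth.Agent.Lib.ProjSpace.SmoothDimEq

set_option autoImplicit false
universe u
open CategoryTheory CategoryTheory.Limits AlgebraicGeometry
open HodgeNum

namespace Groth.Agent.S16277

/-- Let k be an algebraically closed field of characteristic p > 0, X a smooth projective k-variety of
dimension n + 1 (an integral k-scheme, smooth of relative dimension n + 1 over k, with a closed
immersion into some P^N_k over k) and L an ample invertible O_X-module. Then for d large enough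
every smooth divisor Y in the linear system of L^{⊗d} satisfies h^{p,q}(Y) = h^{p,q}(X) for p + q ≤
n - 1: there is d₀ such that for all d ≥ d₀, every M with M ⊗ L^{⊗d} ≅ O_X, every closed subscheme Y
of X which is smooth of relative dimension n over k and whose ideal sheaf is isomorphic to M, all p,
q with p + q ≤ n - 1, every p-th exterior power F of Ω_{Y/k} and every p-th exterior power E of
Ω_{X/k}, the k-vector spaces H^q(Y, F) and H^q(X, E) have the same dimension. (The published
statement assumes L very ample; its argument only uses that L is ample, which is what is assumed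
here.) -/
theorem result (k : Type u) [Field k] [IsAlgClosed k]
    (pc : ℕ) [Fact pc.Prime] [CharP k pc] (n N : ℕ)
    (X : Scheme.{u}) [X.Over (Spec (CommRingCat.of k))] [IsIntegral X]
    [SmoothOfRelativeDimension (n + 1) (X ↘ Spec (CommRingCat.of k))]
    (ι : X ⟶ CohB1.ProjSpace N k) [IsClosedImmersion ι] (hι : ι ≫ CohB1.ProjSpace.toSpec N k = X ↘ Spec (CommRingCat.of k))
    (L : X.Modules) (hL : CohB1.IsAmple L) :
    ∃ d₀ : ℕ, ∀ d : ℕ, d₀ ≤ d → ∀ M : X.Modules, ClSub.IsInverseOf M (CohB1.tensorPow L d) →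
      ∀ (I : X.IdealSheafData) [I.subscheme.Over (Spec (CommRingCat.of k))],
        I.subscheme ↘ Spec (CommRingCat.of k) = I.subschemeι ≫ X ↘ Spec (CommRingCat.of k) → Nonempty (ClSub.idealMod I ≅ M) →
        SmoothOfRelativeDimension n (I.subscheme ↘ Spec (CommRingCat.of k)) →
        ∀ p q : ℕ, p + q + 1 ≤ n →
          ∀ F : I.subscheme.Modules, ExtPow.IsExtPow p (Omega.sheaf (I.subscheme ↘ Spec (CommRingCat.of k))) F →
          ∀ E : X.Modules, ExtPow.IsExtPow p (Omega.sheaf (X ↘ Spec (CommRingCat.of k))) E →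
            Module.finrank k (Coh.HH I.subscheme F q) = Module.finrank k (Coh.HH X E q) := by
  haveI : IsProper (X ↘ Spec (CommRingCat.of k)) := by
    rw [← hι]
    haveI := Lib.ProjSpace.Basic.isProper_toSpec N k
    infer_instance
  haveI : Smooth (X ↘ Spec (CommRingCat.of k)) := SmoothOfRelativeDimension.smooth (n + 1) _
  haveI := H78.Existence.AmpleVanish.isNoetherian_of_proper k (X := X)
  have hΩ : FlatMod.IsFinLocFree (Omega.sheaf (X ↘ Spec (CommRingCat.of k))) :=
    Lib.Kaehler.LocFree.isFinLocFree_of_smooth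
      (Lib.Kaehler.DOmega.isUniversal_dOmega (X ↘ Spec (CommRingCat.of k)))
  obtain ⟨W⟩ := H95.WedgeLine.exists_fam hΩ
  obtain ⟨Linv, hLinv⟩ : ∃ M : X.Modules, ClSub.IsInverseOf L M :=
    ⟨_, ⟨Lib.TensorMod.Invertible.tensorDualIso hL.1⟩⟩
  obtain ⟨eL⟩ := id hLinv
  haveI : IrreducibleSpace X := irreducibleSpace_of_isIntegral X
  choose f hf using fun b : ℕ => Lib.DepthTwist.Basic.exists_vanish k hL hLinv
    (Lib.Perfect.Coherent.isCoh_of_isFinLocFree (W.free b)) n fun x hx => by
      haveI : IsLocallyNoetherian X := LocallyOfFiniteType.isLocallyNoetherian (X ↘ Spec (CommRingCat.of k))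
      haveI := Lib.Cyc.SmoothReg.isRegularLocalRing_stalk (X ↘ Spec (CommRingCat.of k)) x
      have h1 := Lib.ProjSpace.SmoothDimEq.ringKrullDim_stalk_closed k (X ↘ Spec (CommRingCat.of k)) (n + 1) hx
      rw [Lib.ExtShStalk.Vanish.ringKrullDim_eq_depth] at h1
      have hd : ((n + 1 : ℕ) : ℕ∞) ≤ LocCoh.depth (X.presheaf.stalk x) (X.presheaf.stalk x) :=
        WithBot.coe_le_coe.1 ((WithBot.coe_natCast _).le.trans h1.ge)
      haveI : Module.Finite (X.presheaf.stalk x) ((W.L b).presheaf.stalk x) :=
        Lib.RefHull.LocFree.finite_stalk (Lib.Perfect.Coherent.isCoh_of_isFinLocFree (W.free b)) _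
      haveI := Lib.RefHull.LocFree.free_stalk (W.free b) x
      exact lt_of_lt_of_le (by exact_mod_cast n.lt_succ_self) (le_of_le_of_eq
        (Lib.ExtShStalk.Vanish.depth_le_depth_pi _ hd) (Lib.Depth.Basic.depth_congr
          (Module.finBasis (X.presheaf.stalk x) ((W.L b).presheaf.stalk x)).equivFun).symm)
  refine ⟨(Finset.range (n + 1)).sup f + 1, fun d hd M hM I _ hover hI hs p q hpq F hF E hE => ?_⟩
  haveI := hs
  refine S16275.result k pc n N X ι hι L hL.1 ((Finset.range (n + 1)).sup f + 1) (by omega)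
    (fun e he M' hM' b a hab E' hE' => ?_) d hd M hM I hI hover p q hpq F hF E hE
  obtain ⟨eW⟩ := Lib.ExtFilt.Lambda.nonempty_iso_of_isExtPow hE' (H95.WedgeLine.fam_isExtPow W b)
  obtain ⟨eM'⟩ := hM'
  haveI := hf b e (le_trans (Finset.le_sup (f := f) (Finset.mem_range.2 (show b < n + 1 by omega)))
    (le_trans (Nat.le_succ _) he)) a (by omega)
  exact (Lib.Curves.LES.isoK k (Lib.TensorMod.Basic.tensorIso eW (Lib.TensorMod.Invertible.cancelRight
    (Lib.TensorMod.Invertible.isInvertible_tensorPow hL.1 e)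
    (eM' ≪≫ (Lib.TensorMod.Basic.comm (CohB1.tensorPow Linv e) (CohB1.tensorPow L e) ≪≫
      (Lib.Ample.Pow.powTensor L Linv e).symm ≪≫ Lib.Ample.Pow.powIso eL e ≪≫
      Lib.Ample.Pow.powUnit X e).symm))) a).toEquiv.subsingleton

end Groth.Agent.S16277
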