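import Groth.Statements.S1628
import Groth.Agent.H2.Rigid.SmoothDense
import Groth.Agent.H2.Rigid.Smooth

set_option autoImplicit false
universe u
open CategoryTheory CategoryTheory.Limits AlgebraicGeometry
open Variety

namespace Groth.Agent.S1628

/-- If X is smooth over a field k then X is geometrically reduced over k and geometrically regular at
every point. -/
theorem result (k : Type u) [Field k] (X : Scheme.{u}) [X.Over (Spec (CommRingCat.of k))] [Smooth (X ↘ (Spec (CommRingCat.of k)))] :
    GeometricallyReduced (X ↘ (Spec (CommRingCat.of k))) ∧ ∀ x : X, Curv2.IsGeomRegularAt k X x := by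
  refine ⟨Groth.Agent.H2.Rigid.geometricallyReduced_of_smooth _, fun x K _ _ _ y _ => ?_⟩
  let p₂ := pullback.snd (X ↘ (Spec (CommRingCat.of k)))
    (Spec.map (CommRingCat.ofHom (algebraMap k K)))
  exact Groth.Agent.Lib.JacCrit.OverField.isRegularLocalRing_stalk p₂ y
    (by rw [p₂.smoothLocus_eq_top]; trivial)


end Groth.Agent.S1628
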