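import Groth.Statements.S16280
import Groth.Agent.Lib.ExtShRelCoh
import Groth.Agent.Lib.ProjSpace.BaseChange
-- import your own Groth.Agent.* helpers here

set_option autoImplicit false
universe u
open CategoryTheory CategoryTheory.Limits AlgebraicGeometry
open Coherent

namespace Groth.Agent.S16280

/-- Let Y be a Noetherian scheme, f : X → Y a morphism admitting a factorisation through a closed
immersion e : X → P^n_Y followed by the projection (a projective morphism), and F, G coherent
O_X-modules. Then for every p ≥ 0 the relative Ext sheaf Ext^p_f(F, G) — the value at G of the p-th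
right derived functor of the left exact functor G ↦ f_* Hom_{O_X}(F, G) from O_X-modules to
O_Y-modules — is a coherent O_Y-module. (The internal Hom functor of F, injective resolutions of
O_X-modules and additivity of the composite functor are the stated instance hypotheses, all true.) -/
theorem result (X Y : Scheme.{u}) [IsNoetherian Y] (f : X ⟶ Y)
    (n : ℕ) (e : X ⟶ CohB1.ProjSpaceOver n Y) [IsClosedImmersion e] (he : e ≫ CohB1.ProjSpaceOver.toBase n Y = f)
    (F G : X.Modules) (hF : Coh.IsCoh F) (hG : Coh.IsCoh G)
    [ModSite.HasSheafHom (O := X.sheaf) F] [HasInjectiveResolutions (ModSite.Mod X.sheaf)]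
    [(ModSite.sheafHom (O := X.sheaf) F ⋙ Scheme.Modules.pushforward f).Additive] (p : ℕ) :
    Coh.IsCoh (((ModSite.sheafHom (O := X.sheaf) F ⋙ Scheme.Modules.pushforward f).rightDerived p).obj G) := by
  subst he
  haveI : IsProper (CohB1.ProjSpaceOver.toBase n Y) := Groth.Agent.Lib.ProjSpace.BaseChange.isProper_toBase n Y
  haveI : IsProper (e ≫ CohB1.ProjSpaceOver.toBase n Y) := inferInstance
  haveI : HasInjectiveResolutions X.Modules := ‹HasInjectiveResolutions (ModSite.Mod X.sheaf)›
  haveI : (Groth.Agent.Lib.ExtShStalk.Hom.R F ⋙ Scheme.Modules.pushforward (e ≫ CohB1.ProjSpaceOver.toBase n Y)).Additive :=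
    ‹(ModSite.sheafHom (O := X.sheaf) F ⋙ Scheme.Modules.pushforward (e ≫ CohB1.ProjSpaceOver.toBase n Y)).Additive›
  exact Groth.Agent.Lib.ExtShRelCoh.isCoh (e ≫ CohB1.ProjSpaceOver.toBase n Y) hF hG p


end Groth.Agent.S16280
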