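import Groth.Statements.S16283
import Groth.Agent.Lib.ModSS29.TAPush
import Groth.Agent.Lib.SpecSeq.Composite
-- import your own Groth.Agent.* helpers here

set_option autoImplicit false
universe u
open CategoryTheory CategoryTheory.Limits AlgebraicGeometry ZeroObject
open Coherent

namespace Groth.Agent.S16283
open Groth.Agent.Lib

/-- Let f : X → Y and g : Y → Z be morphisms of schemes, h = g ∘ f, and F, G O_X-modules. For a morphism
u out of X write Ext^b_u(F, -) for the b-th right derived functor of the left exact functor G ↦ u_*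
Hom_{O_X}(F, G) from O_X-modules. Then there is an E₂ spectral sequence of O_Z-modules with E₂^{a,b}
≅ R^a g_*(Ext^b_f(F, G)) for a, b ≥ 0 (and 0 otherwise), bounded, abutting with finite filtrations
to Ext^n_h(F, G) (n ≥ 0; 0 for n < 0). (Stated for schemes, the published statement being for ringed
spaces. Existence only: the E₂ identifications and the abutment are some isomorphisms. The internal
Hom functor of F, injective resolutions on X and Y and additivity of the composite functors are the
stated instance hypotheses, all true.) -/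
theorem result (X Y Z : Scheme.{u}) (f : X ⟶ Y) (g : Y ⟶ Z)
    (F G : X.Modules)
    [ModSite.HasSheafHom (O := X.sheaf) F] [HasInjectiveResolutions (ModSite.Mod X.sheaf)] [HasInjectiveResolutions Y.Modules]
    [(ModSite.sheafHom (O := X.sheaf) F ⋙ Scheme.Modules.pushforward f).Additive]
    [(ModSite.sheafHom (O := X.sheaf) F ⋙ Scheme.Modules.pushforward (f ≫ g)).Additive] :
    ∃ (E : E₂CohomologicalSpectralSequence Z.Modules)
      (a : SpSeq.Abutment E (fun n : ℤ =>
        if 0 ≤ n then ((ModSite.sheafHom (O := X.sheaf) F ⋙ Scheme.Modules.pushforward (f ≫ g)).rightDerived n.toNat).obj G else (0 : Z.Modules))),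
      (∀ n : ℤ, a.IsFinite n) ∧ SpSeq.IsBounded E ∧
      ∀ p q : ℤ, Nonempty ((E.page 2 le_rfl).X (p, q) ≅
        (if 0 ≤ p ∧ 0 ≤ q then (Coh.Rpush g p.toNat).obj (((ModSite.sheafHom (O := X.sheaf) F ⋙ Scheme.Modules.pushforward f).rightDerived q.toNat).obj G)
          else (0 : Z.Modules))) := by
  haveI : IsGrothendieckAbelian.{u} Y.Modules :=
    (inferInstance : IsGrothendieckAbelian.{u} (ModSite.Mod Y.sheaf))
  haveI : (Scheme.Modules.pushforward g).IsRightAdjoint :=
    (Scheme.Modules.pullbackPushforwardAdjunction g).isRightAdjoint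
  haveI : PreservesFiniteLimits (Scheme.Modules.pushforward g) := inferInstance
  let G' : X.Modules ⥤ Y.Modules := ModSite.sheafHom (O := X.sheaf) F ⋙ Scheme.Modules.pushforward f
  haveI : G'.Additive := ‹(ModSite.sheafHom (O := X.sheaf) F ⋙ Scheme.Modules.pushforward f).Additive›
  haveI : (Scheme.Modules.pushforward g).Additive := inferInstance
  have hadd : (G' ⋙ Scheme.Modules.pushforward g).Additive := Functor.instAdditiveComp ..
  let e : G' ⋙ Scheme.Modules.pushforward g ≅
      ModSite.sheafHom (O := X.sheaf) F ⋙ Scheme.Modules.pushforward (f ≫ g) :=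
    Functor.associator _ _ _ ≪≫ Functor.isoWhiskerLeft _ (Scheme.Modules.pushforwardComp f g)
  refine SpecSeq.Composite.exists_spectralSequence G' (Scheme.Modules.pushforward g)
    (fun I hI p => ?_) G _ (fun n => ?_) (fun n hn => ?_) _ (fun p q => ?_) (fun p q h => ?_)
  · exact ModSS29.TAPush.isZero_push (ModSite.RMor.ofScheme g) _
      (ModSS29.TAPush.ta_push (ModSite.RMor.ofScheme f) _
        (@FreeMod.TotAcyclic.isTotallyAcyclic_sheafHom _ _ _ X.sheaf F I _ hI)) p
  · rw [if_pos (Int.natCast_nonneg n)]
    exact ⟨@SpecSeq.Composite.rightDerivedCongr _ _ _ _ _ _ _ _ _ hadd ‹(ModSite.sheafHom (O := X.sheaf) F ⋙ Scheme.Modules.pushforward (f ≫ g)).Additive› e n G⟩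
  · rw [if_neg (not_le.2 hn)]
    exact isZero_zero _
  · rw [if_pos ⟨Int.natCast_nonneg p, Int.natCast_nonneg q⟩]
    exact ⟨Iso.refl _⟩
  · rw [if_neg h]
    exact isZero_zero _

end Groth.Agent.S16283
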