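import Groth.Statements.S16293
import Groth.Agent.H56.CurveDual.AmpleVanish
import Groth.Agent.H20.TopRep.DRepr
import Groth.Agent.Lib.FibreVanish36.Affine
import Groth.Agent.Lib.FibreVanish36.Coherent
import Groth.Agent.Lib.ProjCoh.SerreDual
import Groth.Agent.Lib.ExtHH.SheafHom
import Groth.Agent.Lib.FundLocal.InvHom
import Groth.Agent.Lib.Curves.IdealTwist
import Groth.Agent.Lib.Curves.H0Components
import Groth.Agent.Lib.SurfInt.Push
import Groth.Agent.Lib.Curves.Degree
import Groth.Agent.Lib.Curves.UniformPoints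
import Groth.Agent.H97.CurveEuler
import Groth.Agent.H25.Node.AtWorst
import Groth.Agent.Lib.QCoh.Tilde
import Groth.Agent.Lib.TensorMod.TensorInv
import Groth.Agent.S16291

set_option autoImplicit false
set_option linter.style.haveILetI false
universe u
open CategoryTheory CategoryTheory.Limits AlgebraicGeometry
attribute [local instance] HasDerivedCategory.standard
open Curves

namespace Groth.Agent.S16293

open Groth.Agent Groth.Agent.Lib Groth.Agent.Lib.TensorMod.Basic

section Aux

variable {k : Type u} [Field k] {X : Scheme.{u}} [X.Over (Spec (CommRingCat.of k))]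
  [IsProper (X ↘ Spec (CommRingCat.of k))] (hd : topologicalKrullDim X ≤ 1)

include hd in
theorem deg_tensor {L M : X.Modules} (hL : PicF.IsInvertible L) (hM : PicF.IsInvertible M) :
    Curv2.deg k X (CohB1.tensorMod L M) 1 = Curv2.deg k X L 1 + Curv2.deg k X M 1 := by
  have := H97.CurveEuler.deg_tensor (k := k) hd (TensorMod.LocFree.of_isInvertible hL)
    (TensorMod.LocFree.of_isInvertible hM)
  simp only [Nat.cast_one, one_mul, mul_one] at this
  rw [this]
  ring

include hd in
theorem deg_tensorPow {L : X.Modules} (hL : PicF.IsInvertible L) :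
    ∀ n : ℕ, Curv2.deg k X (CohB1.tensorPow L n) 1 = n * Curv2.deg k X L 1
  | 0 => by
    rw [Nat.cast_zero, zero_mul]
    exact Curves.Degree.deg_structureModule (k := k)
  | n + 1 => by
    have := deg_tensor (k := k) hd (TensorMod.Invertible.isInvertible_tensorPow hL n) hL
    rw [deg_tensorPow hL n] at this
    refine this.trans ?_
    push_cast
    ring

omit [IsProper (X ↘ Spec (CommRingCat.of k))] in
/-- A representing pair identifies maps to `ω` with the dual of `H¹`. -/
theorem nonempty_dualEquiv [HasExt.{u} X.Modules] {ω : X.Modules} (t : Coh.HH X ω 1 →ₗ[k] k)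
    (hdual : ∀ F : X.Modules, Coh.IsCoh F → ∀ ψ : Coh.HH X F 1 →ₗ[k] k,
      ∃! φ : F ⟶ ω, ∀ x, ψ x = t (Curves.LES.mapK k φ 1 x))
    (M : X.Modules) (hM : Coh.IsCoh M) :
    Nonempty (CategoryTheory.Abelian.Ext.{u} M ω 0 ≃ₗ[k] Module.Dual k (Coh.HH X M 1)) := by
  let l : (M ⟶ ω) →ₗ[k] Module.Dual k (Coh.HH X M 1) :=
    { toFun := fun φ => t.comp (Curves.LES.mapK k φ 1)
      map_add' := fun φ ψ => LinearMap.ext fun x =>
        (congrArg t (ProjCoh.Coherent.mapK_add k φ ψ 1 x)).trans (map_add _ _ _)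
      map_smul' := fun r φ => LinearMap.ext fun x =>
        (congrArg t (ProjCoh.SerreDual.mapK_smul k r φ 1 x)).trans (map_smul _ _ _) }
  have hl : Function.Bijective l := by
    refine ⟨fun φ ψ e => ?_, fun ψ => ?_⟩
    · obtain ⟨χ, -, hu⟩ := hdual M hM (l φ)
      exact (hu φ fun x => rfl).trans (hu ψ fun x => LinearMap.congr_fun e x).symm
    · obtain ⟨φ, hφ, -⟩ := hdual M hM ψ
      exact ⟨φ, LinearMap.ext fun x => (hφ x).symm⟩
  exact ⟨(CategoryTheory.Abelian.Ext.linearEquiv₀ (R := k)).trans (LinearEquiv.ofBijective l hl)⟩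

include hd in
/-- `χ(ω) = -χ(O)`. -/
theorem euler_dualizing [IsAlgClosed k] [DCoh.HasRpush (X ↘ Spec (CommRingCat.of k))]
    (h : DCoh.RpushPreservesQCoh (X ↘ Spec (CommRingCat.of k)))
    [DCoh.HasShriek (X ↘ Spec (CommRingCat.of k)) h]
    (OY : DCoh.DQCoh (Spec (CommRingCat.of k)))
    (eO : OY.obj ≅ DCoh.inD (Spec (CommRingCat.of k)) (Coh.structureModule (Spec (CommRingCat.of k))))
    (hω : PicF.IsInvertible (DCoh.dualizingMod (X ↘ Spec (CommRingCat.of k)) h OY 1))
    (h0 : Module.finrank k (Coh.HH X (Coh.structureModule X) 0) = 1) :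
    Curv2.euler k X (DCoh.dualizingMod (X ↘ Spec (CommRingCat.of k)) h OY 1) =
      -Curv2.euler k X (Coh.structureModule X) := by
  let p := X ↘ Spec (CommRingCat.of k)
  let ω := DCoh.dualizingMod p h OY 1
  haveI : CompactSpace X := QuasiCompact.compactSpace_of_compactSpace p
  haveI : QuasiSeparatedSpace X := quasiSeparatedSpace_of_quasiSeparated p
  letI : HasExt.{u} X.Modules := hasExt_of_enoughInjectives _
  haveI : PreservesFiniteLimits (tilde.functor (CommRingCat.of k)) :=
    QCoh.Tilde.tildeFunctor_preservesFiniteLimits ..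
  let ω0 : Dual.D (CommRingCat.of k) := Dual.inD k k
  haveI : DerivedCategory.IsGE ω0 0 := inferInstanceAs (DerivedCategory.IsGE
    ((DerivedCategory.singleFunctor (ModuleCat.{u} k) 0).obj (ModuleCat.of k k)) 0)
  have hv : ∀ M : X.Modules, M.IsQuasicoherent → ∀ q : ℕ, 1 ≤ q →
      Subsingleton (Coh.HH X M (q + 1)) := fun M hM q hq =>
    FibreVanish36.Affine.subsingleton_HH FibreVanish36.Coherent.cohVanish p 1
      (fun y => ((p.fiberι y).isEmbedding.isInducing.topologicalKrullDim_le).trans (by exact_mod_cast hd))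
      M q hq
  obtain ⟨τ, hτs, hτ⟩ := H20.TopRep.DRepr.exists_trace (k := k) h (DCoh.shriekAdj p h) ω0 OY
    (H20.TopRep.DSpec.e1 (CommRingCat.of k) ≪≫ eO.symm) 1 hv
  let e2 : Dual.HD (CommRingCat.of k) ω0 0 ≃ₗ[k] k :=
    ((DerivedCategory.singleFunctorCompHomologyFunctorIso (ModuleCat.{u} k) 0).app
      (ModuleCat.of k k)).toLinearEquiv
  let τl : Coh.HH X ω 1 →ₗ[k] Dual.HD (CommRingCat.of k) ω0 0 :=
    { toFun := τ, map_add' := map_add τ, map_smul' := hτs }
  let t : Coh.HH X ω 1 →ₗ[k] k := e2.toLinearMap.comp τl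
  have hdual : ∀ F : X.Modules, Coh.IsCoh F → ∀ ψ : Coh.HH X F 1 →ₗ[k] k,
      ∃! φ : F ⟶ ω, ∀ x, ψ x = t (Curves.LES.mapK k φ 1 x) := fun F hF ψ => by
    obtain ⟨φ, hφ, huniq⟩ := hτ F hF.1 (e2.symm.toLinearMap.comp ψ).toAddMonoidHom
      (fun r z => map_smul (e2.symm.toLinearMap.comp ψ) r z)
    refine ⟨φ, fun x => ?_, fun φ' hφ' => huniq φ' fun x => ?_⟩
    · exact ((e2.apply_symm_apply (ψ x)).symm.trans (congrArg e2 (hφ x)))
    · change e2.symm (ψ x) = _
      rw [hφ' x]
      exact e2.symm_apply_apply _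
  have hO : Coh.IsCoh (Coh.structureModule X) := Curves.Degree.isCoh_structureModule
  obtain ⟨θO⟩ := nonempty_dualEquiv t hdual (Coh.structureModule X) hO
  obtain ⟨θω⟩ := nonempty_dualEquiv t hdual ω (Curves.Degree.isCoh_of_isInvertible hω)
  have h1 := ((ExtHH.Basic.extUnitEquiv k ω 0).symm ≪≫ₗ θO).finrank_eq
  rw [Subspace.dual_finrank_eq] at h1
  obtain ⟨ω', -, ⟨e⟩⟩ := TensorMod.Invertible.exists_inverse hω
  haveI := FundLocal.InvHom.hasSheafHom e
  have h2 := (θω.symm ≪≫ₗ
    ExtHH.SheafHom.extLinearEquiv k (TensorMod.LocFree.of_rank (TensorMod.LocFree.of_isInvertible hω)) ω 0 ≪≫ₗ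
    Curves.LES.isoK k (FundLocal.InvHom.homIso' e ω ≪≫ e) 0).finrank_eq
  rw [Subspace.dual_finrank_eq, h0] at h2
  rw [Curves.Euler.euler_eq (Curves.Degree.isGood (k := k) hd hω).vanish,
    Curves.Euler.euler_eq (Curves.Degree.isGood_structureModule (k := k) hd).vanish]
  simp only [Curves.Euler.hdim]
  rw [h1, h2, h0]
  ring

include hd in
/-- `deg I_D = -#D`. -/
theorem deg_idealMod [IsAlgClosed k] (D : Set X) (hfin : D.Finite) (hcl : IsClosed D)
    (hI : PicF.IsInvertible
      (ClSub.idealMod (Scheme.IdealSheafData.vanishingIdeal (⟨D, hcl⟩ : TopologicalSpace.Closeds X)))) :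
    Curv2.deg k X
      (ClSub.idealMod (Scheme.IdealSheafData.vanishingIdeal (⟨D, hcl⟩ : TopologicalSpace.Closeds X))) 1 =
      -(Nat.card D : ℤ) := by
  haveI := Curves.GlobalSections.isNoetherian_of_proper k X
  haveI : JacobsonSpace X := LocallyOfFiniteType.jacobsonSpace (X ↘ Spec (CommRingCat.of k))
  set I := Scheme.IdealSheafData.vanishingIdeal (⟨D, hcl⟩ : TopologicalSpace.Closeds X) with hIdef
  have hs : (I.support : Set X).Finite := by
    rw [hIdef, Scheme.IdealSheafData.coe_support_vanishingIdeal]; exact hfin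
  have hT : ∀ x ∈ hfin.toFinset, IsClosed ({x} : Set X) := fun x hx =>
    H56.CurveDual.AmpleVanish.isClosed_of_mem_finite hcl hfin (hfin.mem_toFinset.1 hx)
  have hq := Curves.UniformPoints.hdim_quot_IT k hd hfin.toFinset hT
  have hIT : Curves.UniformPoints.IT hfin.toFinset hT = I := by
    rw [hIdef]
    exact congrArg Scheme.IdealSheafData.vanishingIdeal (TopologicalSpace.Closeds.ext hfin.coe_toFinset)
  rw [hIT] at hq
  have hgq := Curves.Finiteness.isGood_of_isCoh (k := k) hd (Curves.IdealTwist.isCoh_quot I)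
  have hadd := Curves.Euler.euler_add (k := k) (ClSub.Quot.idealSeq_shortExact I)
    (Curves.Degree.isGood (k := k) hd hI) (Curves.Degree.isGood_structureModule (k := k) hd) hgq
  have he : Curv2.euler k X (_root_.ClSub.quotMod I) = (hfin.toFinset.card : ℤ) := by
    haveI := SurfInt.Push.subsingleton_HH_quotMod k I hs Nat.one_pos
    rw [Curves.Euler.euler_eq hgq.vanish, hq]
    simp [Curves.Euler.hdim, Module.finrank_zero_of_subsingleton]
  rw [Curves.Degree.deg_eq, Nat.card_eq_card_finite_toFinset hfin, ← he]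
  change Curv2.euler k X (Coh.structureModule X) =
    Curv2.euler k X (_root_.ClSub.idealMod I) + Curv2.euler k X (_root_.ClSub.quotMod I) at hadd
  linarith [hadd]

end Aux

/-- Let k be an algebraically closed field and (X, D) a stable n-pointed curve over k, taken in the
form: X is proper and connected over k, of dimension 1, with at-worst-nodal singularities; D ⊆ X is
a finite closed set of n points each having an open neighbourhood smooth over k; ω_X is the
dualizing module of X (degree -1 cohomology sheaf of f^! O for the structure morphism f, for any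
choice of the data Rf_* on D_QCoh with its right adjoint); L_D is an invertible module with L_D ⊗
I_D ≅ O_X for the ideal sheaf I_D of D with its reduced structure; and ω_X(D) := ω_X ⊗ L_D is ample.
Let g = dim_k H^1(X, O_X). Then for every l ≥ 2, dim_k H^0(X, ω_X(D)^{⊗l}) = l(2g - 2 + n) + 1 - g;
in particular for l = 3 it is 5g - 5 + 3n. -/
theorem result (k : Type u) [Field k] [IsAlgClosed k] (X : Scheme.{u}) [X.Over (Spec (CommRingCat.of k))]
    [IsProper (X ↘ (Spec (CommRingCat.of k)))] [ConnectedSpace X] (hdim : topologicalKrullDim X = 1) (hX : Curv2.AtWorstNodal k X)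
    [DCoh.HasRpush (X ↘ (Spec (CommRingCat.of k)))] (h : DCoh.RpushPreservesQCoh (X ↘ (Spec (CommRingCat.of k)))) [DCoh.HasShriek (X ↘ (Spec (CommRingCat.of k))) h]
    (OY : DCoh.DQCoh (Spec (CommRingCat.of k))) (hOY : Nonempty (OY.obj ≅ DCoh.inD (Spec (CommRingCat.of k)) (Coh.structureModule (Spec (CommRingCat.of k)))))
    (D : Set X) (hDfin : D.Finite) (hDcl : IsClosed D) (hDsm : ∀ x ∈ D, ∃ U : X.Opens, x ∈ U ∧ Smooth (U.ι ≫ (X ↘ (Spec (CommRingCat.of k)))))
    (LD : X.Modules) (hLD : PicF.IsInvertible LD)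
    (hinv : ClSub.IsInverseOf LD (ClSub.idealMod (Scheme.IdealSheafData.vanishingIdeal (⟨D, hDcl⟩ : TopologicalSpace.Closeds X))))
    (hst : CohB1.IsAmple (CohB1.tensorMod (DCoh.dualizingMod (X ↘ (Spec (CommRingCat.of k))) h OY 1) LD))
    (l : ℕ) (hl : 2 ≤ l) :
    (Module.finrank k (Coh.HH X (CohB1.tensorPow (CohB1.tensorMod (DCoh.dualizingMod (X ↘ (Spec (CommRingCat.of k))) h OY 1) LD) l) 0) : ℤ) =
      (l : ℤ) * (2 * (Curv2.genus k X : ℤ) - 2 + (Nat.card D : ℤ)) + 1 - (Curv2.genus k X : ℤ) := by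
  let p := X ↘ (Spec (CommRingCat.of k))
  let ω := DCoh.dualizingMod p h OY 1
  have hd : topologicalKrullDim X ≤ 1 := hdim.le
  haveI := Curves.GlobalSections.isNoetherian_of_proper k X
  haveI : AlgebraicGeometry.IsReduced X := H25.Node.AtWorst.isReduced k X hX
  haveI := (Curves.Degree.isGood_structureModule (k := k) hd).fin₀
  have h0 : Module.finrank k (Coh.HH X (Coh.structureModule X) 0) = 1 := by
    rw [Curves.H0Components.finrank_h0_eq_card k, Nat.card_eq_one_iff_unique]
    exact ⟨inferInstance, inferInstance⟩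
  set I := Scheme.IdealSheafData.vanishingIdeal (⟨D, hDcl⟩ : TopologicalSpace.Closeds X) with hIdef
  obtain ⟨eI⟩ := hinv
  have hI : PicF.IsInvertible (ClSub.idealMod I) :=
    TensorMod.TensorInv.isInvertible_of_tensor_iso (comm _ LD ≪≫ eI)
  have hM : PicF.IsInvertible (CohB1.tensorMod ω LD) := hst.1
  have hω : PicF.IsInvertible ω := by
    obtain ⟨M', -, ⟨eM⟩⟩ := TensorMod.Invertible.exists_inverse hM
    exact TensorMod.TensorInv.isInvertible_of_tensor_iso ((assoc ω LD M').symm ≪≫ eM)
  obtain ⟨eO⟩ := hOY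
  have hdω := euler_dualizing (k := k) hd h OY eO hω h0
  have hdM := deg_tensor (k := k) hd hω hLD
  have hdL := deg_tensor (k := k) hd hLD hI
  rw [Curves.Euler.deg_eq_of_iso eI 1, Curves.Degree.deg_structureModule,
    deg_idealMod (k := k) hd D hDfin hDcl hI] at hdL
  have hLDdeg : Curv2.deg k X LD 1 = (Nat.card D : ℤ) := by linarith
  rw [hLDdeg, Curves.Degree.deg_eq ω, hdω, Curves.Degree.euler_structureModule hd h0] at hdM
  have hP := TensorMod.Invertible.isInvertible_tensorPow hM l
  haveI := Groth.Agent.S16291.result k X hdim hX h OY ⟨eO⟩ D hDfin hDcl hDsm LD hLD ⟨eI⟩ hst l hl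
  have hrr := Curves.Degree.riemann_roch (k := k) hd h0 hP
  rw [deg_tensorPow (k := k) hd hM l, hdM] at hrr
  simp only [Curves.Euler.hdim, Module.finrank_zero_of_subsingleton, Nat.cast_zero, sub_zero] at hrr
  rw [hrr]
  ring

end Groth.Agent.S16293
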