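import Groth.Statements.S16297
import Groth.Agent.Lib.Curves.NefDescent

set_option autoImplicit false
universe u
open CategoryTheory CategoryTheory.Limits AlgebraicGeometry
open Curves

namespace Groth.Agent.S16297

/-- Let k be a field and X a proper scheme over k of dimension one (not assumed reduced or irreducible)
with H^1(X, O_X) = 0, and let L be an ample invertible O_X-module. Then L is very ample: for some n
there is a closed immersion i : X → P^n_k over k with i^*O(1) isomorphic to L (existence of an
isomorphism only). -/
theorem result (k : Type u) [Field k] (X : Scheme.{u}) [X.Over (Spec (CommRingCat.of k))]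
    [IsProper (X ↘ (Spec (CommRingCat.of k)))] (hdim : topologicalKrullDim X = 1)
    (h1 : Subsingleton (Coh.HH X (Coh.structureModule X) 1))
    (L : X.Modules) (hA : CohB1.IsAmple L) :
    ∃ (n : ℕ) (i : X ⟶ CohB1.ProjSpace n k), IsClosedImmersion i ∧
      i ≫ CohB1.ProjSpace.toSpec n k = X ↘ (Spec (CommRingCat.of k)) ∧
      Nonempty ((Scheme.Modules.pullback i).obj (Twist.twistProjSpace n k 1) ≅ L) :=  by
  have hL := (Groth.Agent.Lib.Ample.Pow.isAmple_iff.1 hA).1
  exact Groth.Agent.Lib.Curves.GGEmbed.exists_closedImmersion (k := k) hdim.le hA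
    (Groth.Agent.Lib.Curves.NefDescent.main (k := k) hdim.le hL h1
      (Groth.Agent.Lib.Curves.NefDescent.isNef_of_isAmple (k := k) hA)).2 h1

end Groth.Agent.S16297
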