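import Groth.Statements.S16298
import Groth.Agent.Lib.Curves.Birational
import Groth.Agent.Lib.Normalization.InFieldVariety
import Groth.Agent.Lib.Normalization.Birational
import Groth.Agent.Lib.Normalization.FiniteField

set_option autoImplicit false
universe u
open CategoryTheory CategoryTheory.Limits AlgebraicGeometry
open Curves

namespace Groth.Agent.S16298

open Groth.Agent.Lib

/-- Let k be a field and X a genus-zero curve over k, that is, an integral scheme proper over k of
dimension one with H^1(X, O_X) = 0. Then the normalization Y of X again satisfies H^1(Y, O_Y) = 0,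
so Y is again a genus-zero curve. (The two instance binders on the morphism from the generic point
always hold; they are only needed to form the normalization.) -/
theorem result (k : Type u) [Field k] (X : Scheme.{u}) [X.Over (Spec (CommRingCat.of k))]
    [IsIntegral X] [IsProper (X ↘ (Spec (CommRingCat.of k)))] (hdim : topologicalKrullDim X = 1)
    (h1 : Subsingleton (Coh.HH X (Coh.structureModule X) 1))
    [QuasiCompact (X.fromSpecStalk (genericPoint X))] [QuasiSeparated (X.fromSpecStalk (genericPoint X))] :
    Subsingleton (Coh.HH (Curv2.normalization X) (Coh.structureModule (Curv2.normalization X)) 1) :=  by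
  let f := X ↘ Spec (CommRingCat.of k)
  let ν := Curv2.normalizationι X
  haveI : IsFinite ν := Normalization.InFieldVariety.isFinite_normalizationι k X
  letI : (Curv2.normalization X).Over (Spec (CommRingCat.of k)) := ⟨ν ≫ f⟩
  haveI : IsProper ((Curv2.normalization X) ↘ Spec (CommRingCat.of k)) := inferInstanceAs (IsProper (ν ≫ f))
  obtain ⟨U, hU, -, hiso⟩ := Normalization.Birational.exists_iso X fun U hne hU => by
    let ρ : k →+* Γ(X, U) := (f.appLE ⊤ U (by simp)).hom.comp
      (Scheme.ΓSpecIso (CommRingCat.of k)).inv.hom
    let : Algebra k Γ(X, U) := ρ.toAlgebra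
    haveI : Algebra.FiniteType k Γ(X, U) :=
      RingHom.FiniteType.comp (f.finiteType_appLE (isAffineOpen_top _) hU (by simp))
        (RingHom.FiniteType.of_surjective _ (ConcreteCategory.bijective_of_isIso
          (Scheme.ΓSpecIso (CommRingCat.of k)).inv).2)
    haveI := hne
    haveI := functionField_isFractionRing_of_isAffineOpen X U hU
    exact Normalization.FiniteField.finite_integralClosure k Γ(X, U) X.functionField X.functionField
  haveI := hiso
  obtain ⟨hs, -, -⟩ := Curves.Birational.h1_facts (k := k) (X' := Curv2.normalization X) ν rfl U hdim.le hU
  haveI := TensorMod.QCohInv.isQCoh_structureModule (Curv2.normalization X)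
  haveI := hs.subsingleton
  exact (ZarCoh.Linear.affineLinearEquiv (A := k) ν rfl (Coh.structureModule (Curv2.normalization X)) 1).toEquiv.subsingleton_congr.mp inferInstance

end Groth.Agent.S16298
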