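import Groth.Statements.S1630
import Groth.Agent.Lib.GeomConn.GaloisComponents

set_option autoImplicit false
universe u
open CategoryTheory CategoryTheory.Limits AlgebraicGeometry
open Variety

namespace Groth.Agent.S1630

/-- Let X be a scheme over k. If X has a cover by a nonempty family of open subschemes, each
geometrically irreducible over k and any two of which meet, then X is geometrically irreducible over
k. -/
theorem result (k : Type u) [Field k] (X : Scheme.{u}) [X.Over (Spec (CommRingCat.of k))]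
    (ι : Type u) (U : ι → X.Opens) (hne : Nonempty ι) (hcov : (⨆ i, U i) = ⊤)
    (hmeet : ∀ i j, ((U i : Set X) ∩ (U j : Set X)).Nonempty)
    (hU : ∀ i, GeometricallyIrreducible ((U i).ι ≫ (X ↘ (Spec (CommRingCat.of k))))) : GeometricallyIrreducible (X ↘ (Spec (CommRingCat.of k))) := by
  rw [Groth.Agent.Lib.GeomConn.Geometric.geometricallyIrreducible_iff_forall]
  intro K _ _
  let π := Curv2.bcFst k X K
  have hirr : ∀ i, IsIrreducible (π ⁻¹' (U i : Set X)) := by
    intro i
    haveI : IrreducibleSpace (pullback ((U i).ι ≫ (X ↘ Spec (CommRingCat.of k)))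
        (Spec.map (CommRingCat.ofHom (algebraMap k K))) : Scheme.{u}) :=
      pullback_of_geometrically (hU i).geometrically_irreducibleSpace K _
    let ψ : pullback ((U i).ι ≫ (X ↘ Spec (CommRingCat.of k)))
        (Spec.map (CommRingCat.ofHom (algebraMap k K))) ⟶ Curv2.bc k X K :=
      pullback.map _ _ _ _ (U i).ι (𝟙 _) (𝟙 _) (by simp) (by simp)
    have hr : Set.range ψ = π ⁻¹' (U i : Set X) := by
      rw [Scheme.Pullback.range_map]
      simp [π]
    rw [← hr, ← Set.image_univ]
    exact (IrreducibleSpace.isIrreducible_univ _).image ψ ψ.continuous.continuousOn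
  haveI : Nonempty (Curv2.bc k X K) := ⟨(hirr hne.some).nonempty.some⟩
  have hcovp : ∀ x : Curv2.bc k X K, ∃ i, π x ∈ U i := fun x => by
    have : π x ∈ (⨆ i, U i) := by rw [hcov]; trivial
    exact TopologicalSpace.Opens.mem_iSup.mp this
  haveI : PreirreducibleSpace (Curv2.bc k X K) := by
    refine ⟨fun O P hO hP => ?_⟩
    rintro ⟨a, -, ha⟩ ⟨b, -, hb⟩
    obtain ⟨i, hi⟩ := hcovp a
    obtain ⟨j, hj⟩ := hcovp b
    obtain ⟨x, hxi, hxj⟩ := hmeet i j
    obtain ⟨c, rfl⟩ := (Groth.Agent.Lib.GeomConn.Galois.surjective_bcFst k X K).surj x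
    obtain ⟨d, hdi, hdO, hdj⟩ := (hirr i).2 O (π ⁻¹' (U j : Set X)) hO
      ((U j).isOpen.preimage π.continuous) ⟨a, hi, ha⟩ ⟨c, hxi, hxj⟩
    obtain ⟨e, -, heO, heP⟩ := (hirr j).2 O P hO hP ⟨d, hdj, hdO⟩ ⟨b, hj, hb⟩
    exact ⟨e, trivial, heO, heP⟩
  exact ⟨inferInstance⟩

end Groth.Agent.S1630
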