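import Groth.Statements.S16304
import Groth.Agent.Lib.Ample.CounitGen
import Groth.Agent.Lib.FEt.NormalCover
import Groth.Agent.Lib.ProperFin.Generator
import Groth.Agent.Lib.ClSub.Sections
import Groth.Agent.Lib.Ideal.Comap
import Mathlib.AlgebraicGeometry.Morphisms.Proper

set_option autoImplicit false
universe u
open CategoryTheory CategoryTheory.Limits AlgebraicGeometry
open Resolve

namespace Groth.Agent.S16304

set_option linter.style.haveILetI false

open Groth.Agent.Lib

theorem isIntegral_app {X Y : Scheme.{u}} (f : Y ⟶ X) [UniversallyClosed f] {U : X.Opens}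
    (hU : IsAffineOpen U) : (f.app U).hom.IsIntegral := by
  haveI : IsAffine (U : Scheme.{u}) := hU
  have h := isIntegral_appTop_of_universallyClosed (f ∣_ U)
  rw [Scheme.Hom.appTop, morphismRestrict_app] at h
  let e := Y.presheaf.map (eqToHom (image_morphismRestrict_preimage f U ⊤)).op
  haveI : IsIso e := inferInstance
  have h' : (f.app (U.ι ''ᵁ ⊤)).hom.IsIntegral := by
    have := RingHom.isIntegral_respectsIso.1 _ (asIso e).symm.commRingCatIsoToRingEquiv h
    have h2 : f.app (U.ι ''ᵁ ⊤) = (f.app _ ≫ e) ≫ inv e :=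
      (Category.comp_id _).symm.trans ((congrArg (f.app (U.ι ''ᵁ ⊤) ≫ ·) (IsIso.hom_inv_id e).symm).trans
        (Category.assoc _ _ _).symm)
    rw [h2]
    exact this
  have heq : U.ι ''ᵁ ⊤ = U := Scheme.Opens.ι_image_top U
  rw [heq] at h'
  exact h'

/-- A function on the preimage of an affine open of a normal scheme comes from below if the morphism is
universally closed and an isomorphism over a nonempty open. -/
theorem exists_app_eq {X Y : Scheme.{u}} [IsIntegral X] [IsIntegral Y] (hX : Pi1.IsNormalScheme X)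
    (f : Y ⟶ X) [UniversallyClosed f] {W U : X.Opens} (hiso : IsIso (f ∣_ W))
    (hU : IsAffineOpen U) (hne : genericPoint X ∈ U ⊓ W) (s : Γ(Y, f ⁻¹ᵁ U)) :
    ∃ t : Γ(X, U), f.app U t = s := by
  haveI : Nonempty U := ⟨⟨_, hne.1⟩⟩
  haveI : Nonempty (U ⊓ W : X.Opens).toScheme := ⟨⟨_, hne⟩⟩
  haveI := FEt.NormalCover.isIntegrallyClosed_sections hX (U := U)
  haveI := functionField_isFractionRing_of_isAffineOpen X U hU
  have hle : U ⊓ W ≤ U := inf_le_left
  haveI := ProperFin.Generator.isIso_app f hiso (inf_le_right : U ⊓ W ≤ W)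
  have hbij : Function.Bijective (f.app (U ⊓ W)) := ConcreteCategory.bijective_of_isIso _
  let ρ := (X.presheaf.map (homOfLE hle).op).hom
  let ρ' := (Y.presheaf.map ((TopologicalSpace.Opens.map f.base).map (homOfLE hle)).op).hom
  have hnat : ρ'.comp (f.app U).hom = (f.app (U ⊓ W)).hom.comp ρ :=
    congrArg CommRingCat.Hom.hom (f.naturality (homOfLE hle).op).symm
  obtain ⟨t', ht'⟩ := hbij.2 (ρ' s)
  obtain ⟨p, hpm, hp⟩ := isIntegral_app f hU s
  have h1 : Polynomial.eval₂ ρ t' p = 0 := by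
    apply hbij.1
    have h2 := congrArg ρ' hp
    rw [Polynomial.hom_eval₂, map_zero, hnat, ← ht'] at h2
    rw [map_zero]
    exact (Polynomial.hom_eval₂ p ρ (f.app (U ⊓ W)).hom t').trans h2
  let τ := (X.germToFunctionField (U ⊓ W)).hom
  have hτ : algebraMap Γ(X, U) X.functionField = τ.comp ρ :=
    RingHom.ext fun x => (X.presheaf.germ_res_apply _ _ _ x).symm
  have h3 : _root_.IsIntegral Γ(X, U) (τ t') := ⟨p, hpm, by
    have h4 := congrArg τ h1
    rw [Polynomial.hom_eval₂, map_zero, ← hτ] at h4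
    exact h4⟩
  obtain ⟨t, ht⟩ := IsIntegrallyClosed.isIntegral_iff.mp h3
  refine ⟨t, ?_⟩
  rw [hτ] at ht
  have ht2 : ρ t = t' := X.germToFunctionField_injective (U ⊓ W) ht
  obtain ⟨y', hy'⟩ := (f ∣_ W).homeomorph.surjective ⟨genericPoint X, hne.2⟩
  have hy : f ((f ⁻¹ᵁ W).ι y') = genericPoint X := by
    rw [← Scheme.Hom.comp_apply, ← morphismRestrict_ι]
    exact congrArg W.ι hy'
  haveI : Nonempty (Scheme.Opens.toScheme ((TopologicalSpace.Opens.map f.base).obj (U ⊓ W))) :=
    ⟨⟨(f ⁻¹ᵁ W).ι y', show f ((f ⁻¹ᵁ W).ι y') ∈ U ⊓ W by rw [hy]; exact hne⟩⟩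
  refine map_injective_of_isIntegral Y ((TopologicalSpace.Opens.map f.base).map (homOfLE hle)) ?_
  show ρ'.comp (f.app U).hom t = ρ' s
  rw [hnat, RingHom.comp_apply, ht2]
  exact ht'

/-- Let k be a field and X a normal surface over k (an integral normal scheme, separated and of finite
type over k, of dimension two) whose only non-regular point is the closed point P, and f : Y → X a
resolution: a proper morphism from an integral scheme Y of dimension two with all local rings
regular, restricting to an isomorphism over the complement of P. Let V be an effective Cartier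
divisor on Y, given by a quasi-coherent ideal sheaf O_Y(-V) that is an invertible module, such that
P lies in f(Supp V) and O_Y(-V) is f-free, that is, the counit f^* f_* O_Y(-V) → O_Y(-V) is an
epimorphism. Then O_Y(-V) is contained in m_P O_Y, the inverse image ideal sheaf of the ideal of the
reduced point P. -/
theorem result (k : Type u) [Field k] (X : Scheme.{u}) [X.Over (Spec (CommRingCat.of k))]
    [IsIntegral X] [IsSeparated (X ↘ (Spec (CommRingCat.of k)))] [LocallyOfFiniteType (X ↘ (Spec (CommRingCat.of k)))]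
    [CompactSpace X] (hdim : topologicalKrullDim X = 2) (hnorm : Pi1.IsNormalScheme X)
    (P : X) (hPc : IsClosed ({P} : Set X)) (hP : ¬ IsRegularLocalRing (X.presheaf.stalk P))
    (hreg : ∀ x : X, x ≠ P → IsRegularLocalRing (X.presheaf.stalk x))
    (Y : Scheme.{u}) (f : Y ⟶ X) [IsIntegral Y] (hdimY : topologicalKrullDim Y = 2)
    (hregY : ∀ y : Y, IsRegularLocalRing (Y.presheaf.stalk y)) [IsProper f]
    (hiso : IsIso (f ∣_ ⟨({P} : Set X)ᶜ, hPc.isOpen_compl⟩))
    (V : Y.IdealSheafData) (hV : PicF.IsInvertible (ClSub.idealMod V)) (hPV : P ∈ f.base '' (V.support : Set Y))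
    (hfree : Epi ((Scheme.Modules.pullbackPushforwardAdjunction f).counit.app (ClSub.idealMod V))) :
    V ≤ (Scheme.IdealSheafData.vanishingIdeal ⟨{P}, hPc⟩).comap f := by
  have hPne : P ≠ genericPoint X := fun e => hP (by
    subst e
    letI : Field (X.presheaf.stalk (genericPoint X)) := inferInstanceAs (Field X.functionField)
    infer_instance)
  set I := Scheme.IdealSheafData.vanishingIdeal ⟨{P}, hPc⟩ with hI
  suffices key : ∀ y : Y, ∃ W : Y.affineOpens, y ∈ W.1 ∧ V.ideal W ≤ (I.comap f).ideal W by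
    choose W hyW hW using key
    have h1 : V ⊔ I.comap f = I.comap f :=
      Scheme.IdealSheafData.ext_of_iSup_eq_top W
        (eq_top_iff.mpr fun y _ => TopologicalSpace.Opens.mem_iSup.mpr ⟨y, hyW y⟩)
        (fun y => sup_eq_right.mpr (hW y))
    exact h1 ▸ le_sup_left
  intro y
  by_cases hy : f y = P
  swap
  · obtain ⟨U, W, hyU, hyW, hUP, -, hWU⟩ := Lib.Ideal.Comap.exists_affine_le_preimage f y
      (show y ∈ (⊤ : Y.Opens) from trivial)
      (show f y ∈ (⟨({P} : Set X)ᶜ, hPc.isOpen_compl⟩ : X.Opens) from hy)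
    refine ⟨W, hyW, ?_⟩
    rw [Lib.Ideal.Comap.ideal_comap f I U W hWU]
    have h1 : I.ideal U = ⊤ := by
      show PrimeSpectrum.vanishingIdeal (U.2.fromSpec ⁻¹' {P}) = ⊤
      have h0 : U.2.fromSpec ⁻¹' {P} = ∅ := Set.eq_empty_iff_forall_notMem.mpr fun z hz =>
        hUP (show U.2.fromSpec z ∈ U.1 from U.2.range_fromSpec.le (Set.mem_range_self z)) hz
      exact (congrArg PrimeSpectrum.vanishingIdeal h0).trans PrimeSpectrum.vanishingIdeal_empty
    rw [h1, Ideal.map_top]
    exact le_top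
  obtain ⟨W₀, B, hB, m, hPW, hyB, hgen⟩ := Ample.CounitGen.exists_gen_section f hV hfree y
  rw [hy] at hPW
  obtain ⟨U, W, hyU, hyW, hUW, hWB, hWU⟩ := Lib.Ideal.Comap.exists_affine_le_preimage f y hyB
    (show f y ∈ W₀ from hy.symm ▸ hPW)
  refine ⟨W, hyW, fun x hx => ?_⟩
  obtain ⟨n, rfl⟩ := (ClSub.Sections.mem_range_idealModι_app_affine_iff V W x).mpr hx
  obtain ⟨a, ha⟩ := Ample.GenLocus.exists_coord (hgen.res hWB) n
  set s := (_root_.ClSub.idealModι V).app (f ⁻¹ᵁ U.1) (TensorMod.Dual.rs _ (f.preimage_mono hUW) m)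
    with hs
  obtain ⟨t, ht⟩ := exists_app_eq hnorm f (W := ⟨({P} : Set X)ᶜ, hPc.isOpen_compl⟩) hiso U.2
    ⟨((genericPoint_spec X).mem_open_set_iff U.1.2).mpr ⟨P, trivial, hy ▸ hyU⟩, fun e => hPne e.symm⟩
    (s : Γ(Y, f ⁻¹ᵁ U.1))
  have htI : t ∈ I.ideal U := by
    show t ∈ PrimeSpectrum.vanishingIdeal (U.2.fromSpec ⁻¹' {P})
    rw [PrimeSpectrum.mem_vanishingIdeal]
    intro z hz
    by_contra hzt
    have hPt : P ∈ X.basicOpen t := by
      have h1 : z ∈ U.2.fromSpec ⁻¹ᵁ X.basicOpen t := by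
        rw [U.2.fromSpec_preimage_basicOpen]; exact hzt
      exact (Set.mem_singleton_iff.mp hz) ▸ h1
    obtain ⟨v, hv, hvP⟩ := hPV
    have hvU : v ∈ f ⁻¹ᵁ U.1 := show f v ∈ U.1 from hvP ▸ hy ▸ hyU
    have hvs : v ∈ Y.basicOpen (f.app U.1 t) := by
      rw [← Scheme.preimage_basicOpen]; exact show f v ∈ X.basicOpen t from hvP ▸ hPt
    rw [ht] at hvs
    replace hvs := (Scheme.mem_basicOpen Y (s : Γ(Y, f ⁻¹ᵁ U.1)) v hvU).mp hvs
    rw [← Scheme.IdealSheafData.range_subschemeι] at hv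
    obtain ⟨d, rfl⟩ := hv
    have h0 : V.subschemeι.app (f ⁻¹ᵁ U.1) (s : Γ(Y, f ⁻¹ᵁ U.1)) = 0 :=
      (ClSub.Sections.mem_range_idealModι_app_iff V (f ⁻¹ᵁ U.1) _).mp ⟨_, rfl⟩
    have h1 := hvs.map (V.subschemeι.stalkMap d).hom
    erw [Scheme.Hom.germ_stalkMap_apply, h0, map_zero] at h1
    exact not_isUnit_zero h1
  have hxs : (_root_.ClSub.idealModι V).app W.1 n =
      a * (f.appLE U.1 W.1 hWU t : Γ(Y, W.1)) := by
    have h2 : (f.appLE U.1 W.1 hWU t : Γ(Y, W.1)) =
        Y.presheaf.map (homOfLE hWU).op (f.app U.1 t) := rfl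
    rw [h2, ht, ha, Scheme.Modules.Hom.app_smul]
    refine congrArg (a * ·) ?_
    rw [hs]
    rw [show TensorMod.Dual.rs (_root_.ClSub.idealMod V) hWB (TensorMod.Dual.rs _ hB m) =
        TensorMod.Dual.rs (_root_.ClSub.idealMod V) hWU
          (TensorMod.Dual.rs _ (f.preimage_mono hUW) m) from by
      rw [TensorMod.Dual.rs_rs, TensorMod.Dual.rs_rs]]
    exact PresheafOfModules.naturality_apply (_root_.ClSub.idealModι V).val (homOfLE hWU).op
      (TensorMod.Dual.rs _ (f.preimage_mono hUW) m)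
  rw [hxs, Lib.Ideal.Comap.ideal_comap f I U W hWU]
  exact Ideal.mul_mem_left _ _ (Ideal.mem_map_of_mem _ htI)

end Groth.Agent.S16304
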