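import Groth.Statements.S16305
import Groth.Agent.H78.TwistTwo
import Groth.Agent.Lib.Curves.GlobalSections
import Groth.Agent.Lib.TopDim.Basic
import Groth.Agent.Lib.DepthTwist.Embed

set_option autoImplicit false
universe u
open CategoryTheory CategoryTheory.Limits AlgebraicGeometry
open ProjSp

namespace Groth.Agent.S16305

theorem finite_discrete {P : Scheme.{u}} [IsNoetherian P] (Z : P.IdealSheafData)
    (hZ : topologicalKrullDim (Z.support : Set P) ≤ 0) :
    Finite Z.subscheme ∧ DiscreteTopology Z.subscheme := by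
  let i := Z.subschemeι
  have : TopologicalSpace.NoetherianSpace Z.subscheme :=
    i.isClosedEmbedding.isInducing.noetherianSpace
  refine Groth.Agent.Lib.TopDim.Basic.finite_discrete_of_dim_le_zero ?_
  rw [IsHomeomorph.topologicalKrullDim_eq _ (i.isClosedEmbedding.isEmbedding.toHomeomorph.isHomeomorph),
    Z.range_subschemeι]
  exact hZ

theorem transfer (k : Type u) [Field k] {P : Scheme.{u}} [P.Over (Spec (CommRingCat.of k))]
    {A₁ M₁ A₂ M₂ : P.Modules} (φ₁ : A₁ ⟶ M₁) (φ₂ : A₂ ⟶ M₂)
    (H : ∀ v : Γ(M₁, ⊤), (∀ t, ∃ (s : Γ(A₁, ⊤)) (c : k), t = φ₁.app ⊤ s +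
      (show Γ(P, ⊤) from Coh.toGlobal (P ↘ Spec (CommRingCat.of k)) c) • v) →
      ∀ t : Γ(M₂, ⊤), ∃ s : Γ(A₂, ⊤), φ₂.app ⊤ s = t) :
    (∃ v : Coh.HH P M₁ 0, ∀ t : Coh.HH P M₁ 0, ∃ (s : Coh.HH P A₁ 0) (c : k),
      t = @id (Coh.HH P M₁ 0) (Sheaf.H.map ((SheafOfModules.toSheaf P.ringCatSheaf).map φ₁) 0 s) + c • v) →
    Function.Surjective (fun s : Coh.HH P A₂ 0 =>
      @id (Coh.HH P M₂ 0) (Sheaf.H.map ((SheafOfModules.toSheaf P.ringCatSheaf).map φ₂) 0 s)) := by
  rintro ⟨v, hv⟩
  let E := fun (M : P.Modules) => Groth.Agent.Lib.Curves.GlobalSections.h0Equiv M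
  have hnat : ∀ (M M' : P.Modules) (φ : M ⟶ M') (z : Coh.HH P M 0),
      E M' (Sheaf.H.map ((SheafOfModules.toSheaf P.ringCatSheaf).map φ) 0 z) = φ.app ⊤ (E M z) := fun M M' φ z =>
    (Sheaf.H.equiv₀_naturality (isTerminalTop (α := TopologicalSpace.Opens P))
      ((SheafOfModules.toSheaf P.ringCatSheaf).map φ) z).symm
  have key := H (E M₁ v) fun t => by
    obtain ⟨s, c, hs⟩ := hv ((E M₁).symm t)
    refine ⟨E _ s, c, ?_⟩
    have h := congrArg (E M₁) hs
    refine (((E M₁).apply_symm_apply t).symm.trans (h.trans ((E M₁).map_add _ _))).trans ?_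
    refine congrArg₂ (· + ·) (hnat _ _ _ s) ?_
    exact Groth.Agent.Lib.Curves.GlobalSections.h0Equiv_smul M₁ (Coh.toGlobal (P ↘ Spec (CommRingCat.of k)) c) v
  intro t
  obtain ⟨s, hs⟩ := key (E M₂ t)
  refine ⟨(E _).symm s, (E M₂).injective ((hnat _ _ _ _).trans ?_)⟩
  exact (congrArg _ ((E _).apply_symm_apply s)).trans hs

set_option maxHeartbeats 1600000 in
/-- Let k be a field and Z a zero-dimensional closed subscheme of projective N-space P^N_k, with closed
immersion i : Z → P^N_k. For an integer n write ρ_n : H^0(P^N_k, O(n)) → H^0(P^N_k, i_* i^* O(n)) =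
H^0(Z, O(n)|_Z) for the map induced on global sections by the unit O(n) → i_* i^* O(n) (restriction
of sections to Z). If the image of ρ_1 has codimension at most one in H^0(Z, O(1)|_Z), in the sense
that for some v every element is of the form ρ_1(s) + c v with c in k, then ρ_2 is surjective. -/
theorem result (k : Type u) [Field k] (N : ℕ)
    (Z : (CohB1.ProjSpace N k).IdealSheafData)
    (hZ : topologicalKrullDim (Z.support : Set (CohB1.ProjSpace N k)) ≤ 0) :
    letI : (CohB1.ProjSpace N k).Over (Spec (CommRingCat.of k)) := ⟨CohB1.ProjSpace.toSpec N k⟩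
    (∃ v : (Coh.HH (CohB1.ProjSpace N k) ((Scheme.Modules.pushforward Z.subschemeι).obj
        ((Scheme.Modules.pullback Z.subschemeι).obj (Twist.twistProjSpace N k 1))) 0),
      ∀ t : (Coh.HH (CohB1.ProjSpace N k) ((Scheme.Modules.pushforward Z.subschemeι).obj
        ((Scheme.Modules.pullback Z.subschemeι).obj (Twist.twistProjSpace N k 1))) 0),
        ∃ (s : Coh.HH (CohB1.ProjSpace N k) (Twist.twistProjSpace N k 1) 0) (c : k),
        t = @id (Coh.HH (CohB1.ProjSpace N k) ((Scheme.Modules.pushforward Z.subschemeι).obj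
        ((Scheme.Modules.pullback Z.subschemeι).obj (Twist.twistProjSpace N k 1))) 0)
          (Sheaf.H.map ((SheafOfModules.toSheaf (CohB1.ProjSpace N k).ringCatSheaf).map
            ((Scheme.Modules.pullbackPushforwardAdjunction Z.subschemeι).unit.app (Twist.twistProjSpace N k 1))) 0 s) + c • v) →
    Function.Surjective (fun s : Coh.HH (CohB1.ProjSpace N k) (Twist.twistProjSpace N k 2) 0 =>
      @id (Coh.HH (CohB1.ProjSpace N k) ((Scheme.Modules.pushforward Z.subschemeι).obj
        ((Scheme.Modules.pullback Z.subschemeι).obj (Twist.twistProjSpace N k 2))) 0)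
          (Sheaf.H.map ((SheafOfModules.toSheaf (CohB1.ProjSpace N k).ringCatSheaf).map
            ((Scheme.Modules.pullbackPushforwardAdjunction Z.subschemeι).unit.app (Twist.twistProjSpace N k 2))) 0 s)) := by
  intro hv
  have hN := Groth.Agent.Lib.DepthTwist.Embed.isNoetherian_proj N k
  obtain ⟨hfin, hdisc⟩ := finite_discrete Z hZ
  have : IsClosedImmersion (X := Z.subscheme) (Y := Proj (CohB1.polyGrading N k)) Z.subschemeι :=
    inferInstanceAs (IsClosedImmersion Z.subschemeι)
  exact transfer k ((Scheme.Modules.pullbackPushforwardAdjunction Z.subschemeι).unit.app (Twist.twistProjSpace N k 1))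
    ((Scheme.Modules.pullbackPushforwardAdjunction Z.subschemeι).unit.app (Twist.twistProjSpace N k 2))
    (fun v hv t => by
      refine Groth.Agent.H78.TwistTwo.surjective_two (k := k) (N := N) Z.subschemeι v (fun t => ?_) t
      obtain ⟨s, c, h⟩ := hv t
      exact ⟨s, c, h⟩) hv

end Groth.Agent.S16305
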