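import Groth.Statements.S16307
import Groth.Agent.Lib.Curves.GenusOneGen
import Groth.Agent.H97.CurvePositivity
import Groth.Agent.Lib.GrpSch.SepPoints

set_option autoImplicit false
universe u
open CategoryTheory CategoryTheory.Limits AlgebraicGeometry
open Curves

namespace Groth.Agent.S16307

open Groth.Agent.Lib

/-- In the case of a separably closed base field and a curve that is not geometrically integral (the
case proved in the text), let k be a separably closed field and X a Gorenstein genus-one curve over
k: an integral scheme, proper over k, of dimension one, all of whose local rings are Gorenstein,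
with dim_k H^1(X, O_X) = 1 (so H^0(X, O_X) = k). Assume that X is not geometrically integral over k.
Let L be an invertible O_X-module of degree at least 3 over k. Then the section ring ⊕_{m ≥ 0}
H^0(X, L^{⊗ m}) is generated in degree one: for every m, the global sections of L^{⊗ m} ⊗ L = L^{⊗
(m+1)} are spanned over H^0(X, O_X) by the sections a ⊗ b with a a global section of L^{⊗ m} and b a
global section of L; and L is very ample: for some n there is a closed immersion i : X → P^n_k over
k with i^*O(1) isomorphic to L (existence of an isomorphism only). (The published statement is for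
an arbitrary base field and any Gorenstein genus-one curve; the text reduces to a separably closed
field, cites the literature for the geometrically integral case, and proves the remaining case,
which is the one stated here.) -/
theorem result (k : Type u) [Field k] (X : Scheme.{u}) [X.Over (Spec (CommRingCat.of k))] [IsSepClosed k]
    [IsIntegral X] [IsProper (X ↘ (Spec (CommRingCat.of k)))] (hdim : topologicalKrullDim X = 1)
    (hgor : ∀ x : X, LocCoh.IsGorensteinLocalRing (X.presheaf.stalk x)) (hg : Curv2.genus k X = 1)
    (hngi : ¬ GeometricallyIntegral (X ↘ (Spec (CommRingCat.of k))))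
    (L : X.Modules) (hL : PicF.IsInvertible L) (hdeg : 3 ≤ Curv2.deg k X L 1) :
    (∀ m : ℕ, Submodule.span (X.ringCatSheaf.obj.obj (Opposite.op ⊤))
        (Set.range (fun p : (CohB1.tensorPow L m).val.obj (Opposite.op ⊤) × L.val.obj (Opposite.op ⊤) =>
          SecTwist.tmul (CohB1.tensorPow L m) L ⊤ p.1 p.2)) = ⊤) ∧
    ∃ (n : ℕ) (i : X ⟶ CohB1.ProjSpace n k), IsClosedImmersion i ∧
      i ≫ CohB1.ProjSpace.toSpec n k = X ↘ (Spec (CommRingCat.of k)) ∧
      Nonempty ((Scheme.Modules.pullback i).obj (Twist.twistProjSpace n k 1) ≅ L) :=  by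
  haveI : Infinite k := GrpSch.infinite_of_isSepClosed k
  obtain ⟨N, t, hspan, hcov⟩ := Curves.GGEmbed.exists_sections (k := k) hdim.le hL
  have hcv := hcov (Curves.GenusOne.isGloballyGenerated hdim hg hL (by omega))
  have hgen : ∀ n : ℕ, 1 ≤ n → AddSubgroup.closure {z : Γ(CohB1.tensorPow L (n + 1), ⊤) |
      ∃ (w : Γ(CohB1.tensorPow L n, ⊤)) (s : Γ(L, ⊤)),
        z = SecTwist.tmul (CohB1.tensorPow L n) L ⊤ w s} = ⊤ := by
    intro n hn
    rcases Nat.lt_or_ge n 2 with h | h
    · obtain rfl : n = 1 := by omega
      exact Curves.GenusOneGen.closure_two hL hdim hg hdeg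
    · obtain ⟨j, rfl⟩ : ∃ j, n = j + 1 + 1 := ⟨n - 2, by omega⟩
      refine Curves.GGEmbed.closure_eq_top (k := k) hdim.le hcv (j + 1) ?_
      refine Curves.GenusOne.subsingleton_h1 hdim hg (TensorMod.Invertible.isInvertible_tensorPow hL (j + 1)) ?_
      rw [SurfInt.CurvePos.deg_tensorPow (k := k) hdim.le hL]
      push_cast
      nlinarith
  refine ⟨fun m => eq_top_iff.2 fun z _ => ?_, N, Curves.NormalGen.exists_closedImmersion _
    (Groth.Agent.H97.CurvePositivity.isAmple_of_deg_pos (k := k) hdim hL (by omega)) t hcv hspan hgen⟩
  cases m with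
  | zero =>
    let e := TensorMod.Basic.leftUnit L
    refine Submodule.subset_span ⟨((TensorMod.Gen.one X ⊤), e.hom.app ⊤ z), ?_⟩
    apply (TensorMod.LocIso.bijective_app_of_isIso (inferInstance : IsIso (e.hom.app ⊤))).1
    change TensorMod.Free.pairM e.hom (show Γ(X, ⊤) from 1) (e.hom.app ⊤ z) = _
    rw [Curves.NormalGen.pairM_leftUnit, one_smul]
  | succ m =>
    refine AddSubgroup.closure_induction (fun x hx => ?_) (zero_mem _) (fun a b _ _ => add_mem)
      (fun a _ => neg_mem) ((hgen (m + 1) (by omega)).ge (AddSubgroup.mem_top z))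
    obtain ⟨w, s, rfl⟩ := hx
    exact Submodule.subset_span ⟨(w, s), rfl⟩

end Groth.Agent.S16307
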