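import Groth.Statements.S16308
import Groth.Agent.Lib.Curves.GGEmbed

set_option autoImplicit false
universe u
open CategoryTheory CategoryTheory.Limits AlgebraicGeometry
open Curves

namespace Groth.Agent.S16308

/-- Let k be a field and X a proper scheme over k of dimension one (a one-dimensional projective scheme)
with H^0(X, O_X) = k. Let A be a globally generated ample invertible O_X-module and m ≥ 0 an integer
with H^1(X, A^{⊗ m}) = 0. Then for every n ≥ m + 1 the global sections of A^{⊗ n} ⊗ A = A^{⊗ (n+1)}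
are spanned over H^0(X, O_X) = k by the sections a ⊗ b with a a global section of A^{⊗ n} and b a
global section of A; consequently the section ring ⊕_{n ≥ 0} H^0(X, A^{⊗ n}) is generated as a
k-algebra by its homogeneous pieces of degrees 1, …, m + 1. -/
theorem result (k : Type u) [Field k] (X : Scheme.{u}) [X.Over (Spec (CommRingCat.of k))]
    [IsProper (X ↘ (Spec (CommRingCat.of k)))] (hdim : topologicalKrullDim X = 1)
    (h0 : Module.finrank k (Coh.HH X (Coh.structureModule X) 0) = 1)
    (A : X.Modules) (hA : CohB1.IsAmple A) (hgg : Curv2.IsGloballyGenerated A)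
    (m : ℕ) (hm : Subsingleton (Coh.HH X (CohB1.tensorPow A m) 1))
    (n : ℕ) (hn : m + 1 ≤ n) :
    Submodule.span (X.ringCatSheaf.obj.obj (Opposite.op ⊤))
        (Set.range (fun p : (CohB1.tensorPow A n).val.obj (Opposite.op ⊤) × A.val.obj (Opposite.op ⊤) =>
          SecTwist.tmul (CohB1.tensorPow A n) A ⊤ p.1 p.2)) = ⊤ :=  by
  have hL := (Groth.Agent.Lib.Ample.Pow.isAmple_iff.1 hA).1
  obtain ⟨N, t, -, hcov⟩ := Groth.Agent.Lib.Curves.GGEmbed.exists_sections (k := k) hdim.le hL
  obtain ⟨j, rfl⟩ : ∃ j, n = j + 1 := ⟨n - 1, by omega⟩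
  have h := Groth.Agent.Lib.Curves.GGEmbed.closure_eq_top (k := k) hdim.le (hcov hgg) j
    (Groth.Agent.Lib.Curves.GGEmbed.subsingleton_pow (k := k) hdim.le (hcov hgg) hm j (by omega))
  refine eq_top_iff.2 fun z _ => ?_
  have hz := h.ge (AddSubgroup.mem_top z)
  refine AddSubgroup.closure_induction (fun x hx => ?_) (zero_mem _) (fun a b _ _ => add_mem)
    (fun a _ => neg_mem) hz
  obtain ⟨w, s, rfl⟩ := hx
  exact Submodule.subset_span ⟨(w, s), rfl⟩

end Groth.Agent.S16308
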