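import Groth.Statements.S16309
import Groth.Agent.Lib.Curves.NefDescent

set_option autoImplicit false
universe u
open CategoryTheory CategoryTheory.Limits AlgebraicGeometry
open Curves

namespace Groth.Agent.S16309

open Groth.Agent.Lib in
lemma tmul_one_leftUnit {X : Scheme.{u}} (L : X.Modules)
    (z : Γ(CohB1.tensorMod (Coh.structureModule X) L, ⊤)) :
    SecTwist.tmul (Coh.structureModule X) L ⊤ (TensorMod.Gen.one X ⊤)
      ((TensorMod.Basic.leftUnit L).hom.app ⊤ z) = z := by
  let e := TensorMod.Basic.leftUnit L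
  have hleft : ∀ w : Γ(CohB1.tensorMod (Coh.structureModule X) L, ⊤), e.inv.app ⊤ (e.hom.app ⊤ w) = w := fun w => by
    rw [← ConcreteCategory.comp_apply, ← Scheme.Modules.Hom.comp_app, e.hom_inv_id]
    rfl
  refine (hleft _).symm.trans ((congrArg (e.inv.app ⊤) ?_).trans (hleft z))
  have h1 := TensorMod.Free.pairM_comp (𝟙 (CohB1.tensorMod (Coh.structureModule X) L)) e.hom
    (TensorMod.Gen.one X ⊤) (e.hom.app ⊤ z)
  rw [Category.id_comp] at h1
  exact h1.symm.trans ((Curves.NormalGen.pairM_leftUnit L _ _).trans (one_smul Γ(X, ⊤) _))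


/-- Let k be a field and X a proper scheme over k of dimension one (not assumed reduced or irreducible)
with H^1(X, O_X) = 0 and H^0(X, O_X) = k, and let L be an ample invertible O_X-module. Then the
section ring ⊕_{n ≥ 0} H^0(X, L^{⊗ n}) is generated by H^0(X, L) as a k-algebra: for every n, the
global sections of L^{⊗ n} ⊗ L = L^{⊗ (n+1)} are spanned over H^0(X, O_X) = k by the sections a ⊗ b
with a a global section of L^{⊗ n} and b a global section of L. -/
theorem result (k : Type u) [Field k] (X : Scheme.{u}) [X.Over (Spec (CommRingCat.of k))]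
    [IsProper (X ↘ (Spec (CommRingCat.of k)))] (hdim : topologicalKrullDim X = 1)
    (h1 : Subsingleton (Coh.HH X (Coh.structureModule X) 1))
    (h0 : Module.finrank k (Coh.HH X (Coh.structureModule X) 0) = 1)
    (L : X.Modules) (hA : CohB1.IsAmple L) (n : ℕ) :
    Submodule.span (X.ringCatSheaf.obj.obj (Opposite.op ⊤))
        (Set.range (fun p : (CohB1.tensorPow L n).val.obj (Opposite.op ⊤) × L.val.obj (Opposite.op ⊤) =>
          SecTwist.tmul (CohB1.tensorPow L n) L ⊤ p.1 p.2)) = ⊤ :=  by
  have hL := (Groth.Agent.Lib.Ample.Pow.isAmple_iff.1 hA).1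
  have hgg := (Groth.Agent.Lib.Curves.NefDescent.main (k := k) hdim.le hL h1
      (Groth.Agent.Lib.Curves.NefDescent.isNef_of_isAmple (k := k) hA)).2
  refine eq_top_iff.2 fun z _ => ?_
  rcases n with _ | j
  · refine Submodule.subset_span ⟨(Groth.Agent.Lib.TensorMod.Gen.one X ⊤,
      (Groth.Agent.Lib.TensorMod.Basic.leftUnit L).hom.app ⊤ z), ?_⟩
    exact tmul_one_leftUnit L z
  obtain ⟨N, t, -, hcov⟩ := Groth.Agent.Lib.Curves.GGEmbed.exists_sections (k := k) hdim.le hL
  have h := Groth.Agent.Lib.Curves.GGEmbed.closure_eq_top (k := k) hdim.le (hcov hgg) j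
    (Groth.Agent.Lib.Curves.GGEmbed.subsingleton_pow (k := k) hdim.le (hcov hgg) (m := 0) h1 j j.zero_le)
  have hz := h.ge (AddSubgroup.mem_top z)
  refine AddSubgroup.closure_induction (fun x hx => ?_) (zero_mem _) (fun a b _ _ => add_mem)
    (fun a _ => neg_mem) hz
  obtain ⟨w, s, rfl⟩ := hx
  exact Submodule.subset_span ⟨(w, s), rfl⟩

end Groth.Agent.S16309
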