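import Groth.Statements.S1631
import Groth.Agent.H25.Node.Algebraic

set_option autoImplicit false
universe u
open Curves

namespace Groth.Agent.S1631

/-- For a Noetherian local k-algebra (A, m, κ), these two conditions are equivalent: (i) κ is separable
over k, A is reduced, m/m^2 has dimension two, and there are x, y spanning m modulo m^2 and a, b, c
∈ A whose residues form a nondegenerate quadratic form with a x^2 + b xy + c y^2 ∈ m^3; (ii) κ is
separable over k and the m-adic completion of A is isomorphic, compatibly with the maps from k, to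
κ[[u, v]]/(a' u^2 + b' uv + c' v^2) for a nondegenerate quadratic form over κ. -/
theorem result (k : Type u) [Field k] (A : Type u) [CommRing A] [IsLocalRing A] [IsNoetherianRing A]
    [Algebra k A] :
    (Algebra.IsSeparable k (IsLocalRing.ResidueField A) ∧ IsReduced A ∧
      Module.finrank (IsLocalRing.ResidueField A) (IsLocalRing.CotangentSpace A) = 2 ∧
      ∃ x y a b c : A, x ∈ IsLocalRing.maximalIdeal A ∧ y ∈ IsLocalRing.maximalIdeal A ∧
        Ideal.span {x, y} ⊔ IsLocalRing.maximalIdeal A ^ 2 = IsLocalRing.maximalIdeal A ∧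
        IsLocalRing.residue A (4 * a * c - b ^ 2) ≠ 0 ∧
        a * x ^ 2 + b * x * y + c * y ^ 2 ∈ IsLocalRing.maximalIdeal A ^ 3) ↔
    (Algebra.IsSeparable k (IsLocalRing.ResidueField A) ∧
      ∃ a b c : IsLocalRing.ResidueField A, 4 * a * c - b ^ 2 ≠ 0 ∧
        ∃ e : AdicCompletion (IsLocalRing.maximalIdeal A) A ≃+*
            (MvPowerSeries (Fin 2) (IsLocalRing.ResidueField A) ⧸ Ideal.span
              {(MvPowerSeries.C a * MvPowerSeries.X 0 ^ 2 + MvPowerSeries.C b * MvPowerSeries.X 0 * MvPowerSeries.X 1 +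
                MvPowerSeries.C c * MvPowerSeries.X 1 ^ 2 : MvPowerSeries (Fin 2) (IsLocalRing.ResidueField A))}),
          ∀ t : k, e (algebraMap A _ (algebraMap k A t)) =
            Ideal.Quotient.mk _ (MvPowerSeries.C (algebraMap A (IsLocalRing.ResidueField A) (algebraMap k A t)))) := by
  refine ⟨fun ⟨hsep, hred, hrk, x, y, a, b, c, hx, hy, hspan, hd, hq⟩ => ?_,
    fun ⟨hsep, a, b, c, hd, e, _⟩ => ?_⟩
  · haveI := hsep
    haveI := hred
    haveI : Algebra.FormallyEtale k (IsLocalRing.ResidueField A) :=
      Algebra.FormallyEtale.of_isSeparable k _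
    have hxy : Ideal.span {x, y} = IsLocalRing.maximalIdeal A := by
      refine le_antisymm ((Ideal.span_le).2 (Set.insert_subset hx (Set.singleton_subset_iff.2 hy))) ?_
      refine Submodule.le_of_le_smul_of_le_jacobson_bot (IsNoetherian.noetherian _)
        (IsLocalRing.jacobson_eq_maximalIdeal ⊥ bot_ne_top).ge ?_
      rw [smul_eq_mul, ← pow_two]
      exact hspan.ge
    exact ⟨hsep, Groth.Agent.H25.Node.Coefficient.exists_quadratic k
      (Groth.Agent.H25.Node.Algebraic.isNodal k A hrk hxy (v := ![a, b, c])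
        (by simpa [Groth.Agent.H25.Node.quad, mul_assoc] using hq)
        (by simpa [Groth.Agent.H25.Node.disc] using (IsLocalRing.residue_ne_zero_iff_isUnit _).1 hd))⟩
  · haveI := hsep
    haveI : Algebra.FormallyEtale k (IsLocalRing.ResidueField A) :=
      Algebra.FormallyEtale.of_isSeparable k _
    have h := Groth.Agent.H25.Node.Quadratic.isNodal_of_equiv A (IsLocalRing.ResidueField A) ![a, b, c]
      (by simpa [Groth.Agent.H25.Node.disc] using hd) _
      (by rw [Groth.Agent.H25.Node.Quadratic.form_eq]) e
    obtain ⟨x, y, hxy, v, hv, hu⟩ := h.exists_rel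
    refine ⟨hsep, (Groth.Agent.H25.Node.Algebraic.isReduced k A h).1,
      Groth.Agent.H25.Node.finrank_cotangentSpace_eq (by simpa using h.length 1),
      x, y, v 0, v 1, v 2, Groth.Agent.H25.Node.mem_left hxy, Groth.Agent.H25.Node.mem_right hxy,
      by rw [hxy, sup_eq_left]; exact Ideal.pow_le_self two_ne_zero, ?_, ?_⟩
    · exact (IsLocalRing.residue_ne_zero_iff_isUnit _).2 hu
    · simpa [Groth.Agent.H25.Node.quad, mul_assoc] using hv

end Groth.Agent.S1631
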