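import Groth.Statements.S16311
import Groth.Agent.Lib.CvgConst

set_option autoImplicit false
universe u
open W4c3irrattreebun

namespace Groth.Agent.S16311

/-- For a field extension K/k with field of constants k' (the relative algebraic closure of k in K), the
separable covering gonality of K over k equals that of K over k'. (The published statement takes K
to be an algebraic function field over k; this row allows any field extension K/k.) -/
theorem result (k K : Type u) [Field k] [Field K] [Algebra k K] :
    W4c3irrattreebun.scvg k K = W4c3irrattreebun.scvg (algebraicClosure k K) K := by
  unfold W4c3irrattreebun.scvg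
  exact Groth.Agent.Lib.CvgConst.eq_of (fun D => Algebra.IsSeparable K D.KC)
    (fun D h => let ⟨D', h'⟩ := Groth.Agent.Lib.CvgConst.down D; ⟨D', h' h⟩)
    (fun D h => let ⟨e', he, D', h'⟩ := Groth.Agent.Lib.CvgConst.up D; ⟨e', he, D', h' h⟩)

end Groth.Agent.S16311
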