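import Groth.Statements.S16312
import Mathlib.Algebra.Module.ZLattice.Basic
import Mathlib.Topology.MetricSpace.Bounded

set_option autoImplicit false
universe u
open W4c3irrattreebun

namespace Groth.Agent.S16312

/-- Let N be a closed cone in real n-space, f a function continuous on N, positive at the nonzero points
of N and homogeneous of degree one under scaling by nonnegative reals, and Λ a discrete additive
subgroup. Then for every real c the set of points H of Λ lying in N with f(H) ≤ c is finite. (The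
published statement takes Λ to be a lattice; this row allows any discrete additive subgroup.) -/
theorem result (n : ℕ)
    (N : Set (EuclideanSpace ℝ (Fin n))) (hN : IsClosed N)
    (hcone : ∀ x ∈ N, ∀ r : ℝ, 0 ≤ r → r • x ∈ N)
    (f : EuclideanSpace ℝ (Fin n) → ℝ) (hf : ContinuousOn f N)
    (hpos : ∀ x ∈ N, x ≠ 0 → 0 < f x)
    (hhom : ∀ x ∈ N, ∀ r : ℝ, 0 ≤ r → f (r • x) = r * f x)
    (Λ : Submodule ℤ (EuclideanSpace ℝ (Fin n))) [DiscreteTopology Λ] (c : ℝ) :
    ({x : EuclideanSpace ℝ (Fin n) | x ∈ N ∧ f x ≤ c} ∩ (Λ : Set (EuclideanSpace ℝ (Fin n)))).Finite := by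
  have hsph : IsCompact (Metric.sphere (0 : EuclideanSpace ℝ (Fin n)) 1 ∩ N) :=
    (isCompact_sphere _ _).inter_right hN
  obtain ⟨m, hm, hmle⟩ : ∃ m > 0, ∀ u ∈ Metric.sphere (0 : EuclideanSpace ℝ (Fin n)) 1 ∩ N, m ≤ f u := by
    rcases (Metric.sphere (0 : EuclideanSpace ℝ (Fin n)) 1 ∩ N).eq_empty_or_nonempty with h | h
    · exact ⟨1, one_pos, fun u hu => absurd hu (h ▸ Set.notMem_empty u)⟩
    obtain ⟨u, hu, hmin⟩ := hsph.exists_isMinOn h (hf.mono Set.inter_subset_right)
    refine ⟨f u, hpos u hu.2 ?_, fun v hv => hmin hv⟩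
    intro h0; simpa [h0] using mem_sphere_zero_iff_norm.1 hu.1
  have hb : Bornology.IsBounded {x : EuclideanSpace ℝ (Fin n) | x ∈ N ∧ f x ≤ c} := by
    refine Metric.isBounded_closedBall (x := 0) (r := |c| / m) |>.subset fun x ⟨hx, hxc⟩ => ?_
    rw [mem_closedBall_zero_iff]
    rcases eq_or_ne x 0 with rfl | h0
    · simp only [norm_zero]; positivity
    have hu : ‖x‖⁻¹ • x ∈ Metric.sphere (0 : EuclideanSpace ℝ (Fin n)) 1 ∩ N :=
      ⟨mem_sphere_zero_iff_norm.2 (norm_smul_inv_norm h0), hcone x hx _ (by positivity)⟩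
    have h1 := hmle _ hu
    rw [hhom x hx _ (by positivity)] at h1
    have hx0 : 0 < ‖x‖ := norm_pos_iff.2 h0
    rw [inv_mul_eq_div, le_div_iff₀ hx0] at h1
    rw [le_div_iff₀ hm, mul_comm]
    exact h1.trans (hxc.trans (le_abs_self c))
  have hcl : IsClosed (Λ : Set (EuclideanSpace ℝ (Fin n))) :=
    @AddSubgroup.isClosed_of_discrete _ _ _ _ _ Λ.toAddSubgroup (inferInstanceAs (DiscreteTopology Λ))
  exact Metric.finite_isBounded_inter_isClosed ‹DiscreteTopology Λ›.isDiscrete hb hcl |>.subset le_rfl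

end Groth.Agent.S16312
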