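import Groth.Statements.S16313
import Groth.Agent.H15.CvgAlg.UpGen
import Groth.Agent.H15.CvgAlg.DownGen

set_option autoImplicit false
universe u
open scoped TensorProduct
open W4c3irrattreebun

namespace Groth.Agent.S16313

/-- Let K/k be a finitely generated field extension whose field of constants is k (k is algebraically
closed in K), let L/k be any field extension, and let K' be a field which is the fraction field of K
⊗_k L, the L-algebra structure of K' being the one through the tensor product. Then the covering
gonality of K' over L equals the covering gonality of K over k. (The extension of K to L is taken to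
be the fraction field of the tensor product; when the tensor product has nonzero nilpotents there is
no such field and nothing is asserted.) -/
theorem result (k K L K' : Type u) [Field k] [Field K] [Field L]
    [Field K'] [Algebra k K] [Algebra k L]
    (hfg : (⊤ : IntermediateField k K).FG) (hconst : algebraicClosure k K = ⊥)
    [Algebra (K ⊗[k] L) K'] [IsFractionRing (K ⊗[k] L) K'] [Algebra L K']
    (hL : ∀ x : L, algebraMap L K' x = algebraMap (K ⊗[k] L) K' ((1 : K) ⊗ₜ[k] x)) :
    W4c3irrattreebun.cvg L K' = W4c3irrattreebun.cvg k K := by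
  letI : Algebra K K' := ((algebraMap (K ⊗[k] L) K').comp Algebra.TensorProduct.includeLeftRingHom).toAlgebra
  letI : Algebra k K' := ((algebraMap K K').comp (algebraMap k K)).toAlgebra
  haveI : IsScalarTower k K K' := IsScalarTower.of_algebraMap_eq fun _ => rfl
  haveI : IsScalarTower k L K' := IsScalarTower.of_algebraMap_eq fun c => by
    rw [hL]
    show algebraMap (K ⊗[k] L) K' (algebraMap k K c ⊗ₜ[k] 1) = _
    exact congrArg _ (Algebra.TensorProduct.tmul_one_eq_one_tmul c)
  set N := IntermediateField.adjoin K (Set.range (algebraMap L K')) with hN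
  have himg : ∀ z : K ⊗[k] L, algebraMap (K ⊗[k] L) K' z ∈ N := by
    intro z
    induction z using TensorProduct.induction_on with
    | zero => rw [map_zero]; exact zero_mem _
    | add a b ha hb => rw [map_add]; exact add_mem ha hb
    | tmul a l =>
      rw [show a ⊗ₜ[k] l = (a ⊗ₜ[k] (1 : L)) * ((1 : K) ⊗ₜ[k] l) by
        rw [Algebra.TensorProduct.tmul_mul_tmul, mul_one, one_mul], map_mul, ← hL]
      exact mul_mem (N.algebraMap_mem a) (IntermediateField.subset_adjoin _ _ ⟨l, rfl⟩)
  have hgen : N = ⊤ := by
    refine IntermediateField.ext fun x => ⟨fun _ => IntermediateField.mem_top, fun _ => ?_⟩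
    obtain ⟨a, b, -, rfl⟩ := IsFractionRing.div_surjective (A := K ⊗[k] L) x
    exact div_mem (himg a) (himg b)
  have hinj : Function.Injective (Groth.Agent.H15.CvgAlg.Gonality.μ (k := k) (K := K) (L := L) (K' := K')) := by
    have : ∀ w, Groth.Agent.H15.CvgAlg.Gonality.μ (k := k) (K := K) (L := L) (K' := K') w =
        algebraMap (K ⊗[k] L) K' w := by
      intro w
      induction w using TensorProduct.induction_on with
      | zero => simp
      | add a b ha hb => rw [map_add, map_add, ha, hb]
      | tmul a l =>
        show algebraMap K K' a * algebraMap L K' l = _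
        rw [hL]
        show algebraMap (K ⊗[k] L) K' (a ⊗ₜ[k] (1 : L)) * _ = _
        rw [← map_mul, Algebra.TensorProduct.tmul_mul_tmul, mul_one, one_mul]
    intro a b h
    rw [this, this] at h
    exact IsFractionRing.injective (K ⊗[k] L) K' h
  unfold W4c3irrattreebun.cvg
  have key : ∀ S T : Set ℕ, (∀ e ∈ S, ∃ e' ≤ e, e' ∈ T) → (∀ e ∈ T, ∃ e' ≤ e, e' ∈ S) → sInf T = sInf S := by
    intro S T h1 h2
    rcases S.eq_empty_or_nonempty with h | h
    · rcases T.eq_empty_or_nonempty with h' | ⟨e, he⟩
      · rw [h, h']
      · obtain ⟨e', -, he'⟩ := h2 e he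
        exact absurd he' (h ▸ Set.notMem_empty e')
    · obtain ⟨e₁, he₁, hT⟩ := h1 _ (Nat.sInf_mem h)
      obtain ⟨e₂, he₂, hS⟩ := h2 _ (Nat.sInf_mem ⟨e₁, hT⟩)
      exact le_antisymm ((Nat.sInf_le hT).trans he₁) ((Nat.sInf_le hS).trans he₂)
  exact key {e : ℕ | Nonempty (CovDiag.{u} k K e)} {e : ℕ | Nonempty (CovDiag.{u} L K' e)}
    (fun e ⟨D⟩ => Groth.Agent.H15.CvgAlg.UpGen.up hinj hgen hfg D)
    (fun e ⟨D⟩ => Groth.Agent.H15.CvgAlg.DownGen.down hinj hgen hfg D)

end Groth.Agent.S16313
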