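import Groth.Statements.S16314
import Groth.Agent.H15.CvgAlg.Basic

set_option autoImplicit false
universe u
open scoped TensorProduct
open W4c3irrattreebun

namespace Groth.Agent.S16314

/-- Let K/k be a finitely generated field extension whose field of constants is k, let L/k be an
algebraic separable extension, and let K' be a field which is the fraction field of K ⊗_k L, the
L-algebra structure of K' being the one through the tensor product. Then the separable covering
gonality of K' over L equals that of K over k. (The published statement allows any separable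
extension L/k, algebraic or not; this row assumes L/k algebraic and separable.) -/
theorem result (k K L K' : Type u) [Field k] [Field K] [Field L]
    [Field K'] [Algebra k K] [Algebra k L] [Algebra.IsSeparable k L]
    (hfg : (⊤ : IntermediateField k K).FG) (hconst : algebraicClosure k K = ⊥)
    [Algebra (K ⊗[k] L) K'] [IsFractionRing (K ⊗[k] L) K'] [Algebra L K']
    (hL : ∀ x : L, algebraMap L K' x = algebraMap (K ⊗[k] L) K' ((1 : K) ⊗ₜ[k] x)) :
    W4c3irrattreebun.scvg L K' = W4c3irrattreebun.scvg k K := by
  have : Algebra.IsAlgebraic k L := Algebra.IsSeparable.isAlgebraic k L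
  letI : Algebra K K' := ((algebraMap (K ⊗[k] L) K').comp Algebra.TensorProduct.includeLeftRingHom).toAlgebra
  letI : Algebra k K' := ((algebraMap K K').comp (algebraMap k K)).toAlgebra
  haveI : IsScalarTower k K K' := IsScalarTower.of_algebraMap_eq fun _ => rfl
  haveI : IsScalarTower k L K' := IsScalarTower.of_algebraMap_eq fun c => by
    rw [hL]
    show algebraMap (K ⊗[k] L) K' (algebraMap k K c ⊗ₜ[k] 1) = _
    exact congrArg _ (Algebra.TensorProduct.tmul_one_eq_one_tmul c)
  set N := IntermediateField.adjoin K (Set.range (algebraMap L K')) with hN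
  have himg : ∀ z : K ⊗[k] L, algebraMap (K ⊗[k] L) K' z ∈ N := by
    intro z
    induction z using TensorProduct.induction_on with
    | zero => rw [map_zero]; exact zero_mem _
    | add a b ha hb => rw [map_add]; exact add_mem ha hb
    | tmul a l =>
      rw [show a ⊗ₜ[k] l = (a ⊗ₜ[k] (1 : L)) * ((1 : K) ⊗ₜ[k] l) by
        rw [Algebra.TensorProduct.tmul_mul_tmul, mul_one, one_mul], map_mul, ← hL]
      exact mul_mem (N.algebraMap_mem a) (IntermediateField.subset_adjoin _ _ ⟨l, rfl⟩)
  have hgen : N = ⊤ := by
    refine IntermediateField.ext fun x => ⟨fun _ => IntermediateField.mem_top, fun _ => ?_⟩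
    obtain ⟨a, b, -, rfl⟩ := IsFractionRing.div_surjective (A := K ⊗[k] L) x
    exact div_mem (himg a) (himg b)
  have hsep : Algebra.IsSeparable K K' := by
    have : Algebra.IsSeparable K N := by
      rw [IntermediateField.isSeparable_adjoin_iff_isSeparable]
      rintro _ ⟨l, rfl⟩
      exact ((Algebra.IsSeparable.isSeparable k l).map (IsScalarTower.toAlgHom k L K')
        (algebraMap L K').injective).tower_top K
    exact AlgEquiv.Algebra.isSeparable ((IntermediateField.equivOfEq hgen).trans IntermediateField.topEquiv)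
  have halg : Algebra.IsAlgebraic K K' := Algebra.IsSeparable.isAlgebraic K K'
  unfold W4c3irrattreebun.scvg
  have hup : ∀ e, (∃ D : CovDiag.{u} k K e, Algebra.IsSeparable K D.KC) →
      ∃ e' ≤ e, ∃ D : CovDiag.{u} L K' e', Algebra.IsSeparable K' D.KC := by
    rintro e ⟨D, hD⟩
    obtain ⟨e', he', D', hD'⟩ := Groth.Agent.H15.CvgAlg.Basic.up hgen D
    exact ⟨e', he', D', hD' hD⟩
  have hdown : ∀ e, (∃ D : CovDiag.{u} L K' e, Algebra.IsSeparable K' D.KC) →
      ∃ D : CovDiag.{u} k K e, Algebra.IsSeparable K D.KC := by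
    rintro e ⟨D, hD⟩
    obtain ⟨D', hD'⟩ := Groth.Agent.H15.CvgAlg.Basic.down halg hfg D
    exact ⟨D', hD' hD hsep⟩
  have key : ∀ S T : Set ℕ, (∀ e ∈ S, ∃ e' ≤ e, e' ∈ T) → (∀ e ∈ T, e ∈ S) → sInf T = sInf S := by
    intro S T h1 h2
    rcases S.eq_empty_or_nonempty with h | h
    · rw [h, Set.subset_eq_empty h2 h]
    · obtain ⟨e', he', hT⟩ := h1 _ (Nat.sInf_mem h)
      exact le_antisymm ((Nat.sInf_le hT).trans he') (Nat.sInf_le (h2 _ (Nat.sInf_mem ⟨e', hT⟩)))
  exact key {e : ℕ | ∃ D : CovDiag.{u} k K e, Algebra.IsSeparable K D.KC}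
    {e : ℕ | ∃ D : CovDiag.{u} L K' e, Algebra.IsSeparable K' D.KC} hup hdown

end Groth.Agent.S16314
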