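import Groth.Statements.S16315
import Groth.Agent.Lib.CurveFF.ProjNormal
import Groth.Agent.Lib.CurveFF.CanonicalEmb
import Groth.Agent.Lib.CurveFF.Hyp
-- import your own Groth.Agent.* helpers here

set_option autoImplicit false
open CategoryTheory CategoryTheory.Limits AlgebraicGeometry
universe u
open Curves

namespace Groth.Agent.S16315
open Groth.Agent.Lib
open scoped TensorProduct
attribute [local instance] Curv2.stalkAlgebra

/-- Let k be an algebraically closed field of characteristic zero and X a smooth proper integral curve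
over k (integral, proper and smooth over k, of dimension one) of genus g ≥ 3 which is
non-hyperelliptic (every invertible module of degree 2 has at most a one-dimensional space of global
sections), and let K be a module isomorphic to the sheaf of differentials of X over k. Then the
canonical ring ⊕_m H^0(X, K^{⊗ m}) is generated in degree one: for every m ≥ 0 the multiplication
map H^0(X, K^{⊗ m}) ⊗ H^0(X, K) → H^0(X, K^{⊗ (m+1)}) is surjective (written as the map from the
global sections of the sectionwise tensor product presheaf to the global sections of its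
sheafification). (The published statement phrases this as the canonical ring being the homogeneous
coordinate ring of the canonically embedded curve; its further assertion on the vanishing of the
first cohomology of the twisted ideal sheaves is not restated.) -/
theorem result
    (k : Type u) [Field k] [IsAlgClosed k] [CharZero k]
    (X : Scheme.{u}) [X.Over (Spec (CommRingCat.of k))] [IsIntegral X]
    [IsProper (X ↘ Spec (CommRingCat.of k))] [Smooth (X ↘ Spec (CommRingCat.of k))]
    (hdim : topologicalKrullDim X = 1) (hg : 3 ≤ Curv2.genus k X)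
    (hnh : ∀ M : X.Modules, PicF.IsInvertible M → Curv2.deg k X M 1 = 2 →
      Module.finrank k (Coh.HH X M 0) ≤ 1)
    (K : X.Modules) (eK : K ≅ Omega.sheaf (X ↘ Spec (CommRingCat.of k))) (m : ℕ) :
    Function.Surjective
      ((toSheafify (Opens.grothendieckTopology X)
        (CohB1.tensorPre (CohB1.tensorPow K m) K).presheaf).app (Opposite.op ⊤)) := by
  classical
  have h := CurveFF.curveHyp_of_smooth k hdim
  have h0 := Curves.GlobalSections.finrank_h0_structure k X
  have hK := CurveFF.isFunctionField (k := k) h h0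
  have hgg := CurveFF.genus_eq (k := k) h h0
  have hno : ¬ ∃ (M : X.Modules) (s : Fin 2 → LinSer.Sect X M), LinSer.IsLinSer k X M 2 1 s := by
    rintro ⟨M, s, hM⟩
    have := hnh M hM.1 hM.2.1
    have h2 : 2 ≤ Module.finrank k (Coh.HH X M 0) := by
      letI := Curves.GlobalSections.secModule k M
      obtain ⟨R⟩ := CurveFF.LineDiv.nonempty_rep hM.1
      obtain ⟨eR⟩ := R.nonempty_h0_equiv (k := k) h hK
      let e' := (Curves.GlobalSections.h0Linear k M).symm.trans eR
      haveI := FunFld.Degree.finiteDimensional_L hK (R.div (k := k) h hK)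
      haveI : Module.Finite k (M.val.obj (Opposite.op ⊤) : Type u) := Module.Finite.equiv e'.symm
      have hli : LinearIndependent k s :=
        Fintype.linearIndependent_iff.2 fun c hc i => congrFun (hM.2.2 c hc) i
      have := hli.fintype_card_le_finrank
      rwa [Fintype.card_fin, ← (Curves.GlobalSections.h0Linear k M).finrank_eq] at this
    omega
  obtain ⟨n, i, hi, hik, ⟨τ⟩⟩ := CurveFF.CanonicalEmb.exists_embedding h (by omega) hno
  obtain ⟨W₀, hW₀⟩ := CurveFF.OmegaRep.exists_rep (k := k) h hK
  have hKinv : PicF.IsInvertible K := TensorMod.Invertible.isInvertible_of_iso eK.symm W₀.inv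
  have hfin : Module.finrank k (Coh.HH X K 0) = Curv2.genus k X := by
    rw [show Module.finrank k (Coh.HH X K 0) = _ from Curves.Euler.hdim_eq_of_iso (k := k) eK 0]
    change Module.finrank k (Coh.HH X (Omega.sheaf (X ↘ Spec (CommRingCat.of k))) 0) = _
    rw [W₀.finrank_h0 h hK, FunFld.Weil.ell_canonical hK hW₀, hgg]
  let ψ : (Scheme.Modules.pullback (𝟙 X ≫ i)).obj (Twist.twistProjSpace n k 1) ⟶ K :=
    (Scheme.Modules.pullbackCongr (Category.id_comp i)).hom.app _ ≫ τ.hom ≫ eK.inv
  obtain ⟨R, hR0, hgen⟩ := CurveFF.BirationalBound.exists_rep h hK hKinv (𝟙 X) i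
    (by rw [Category.id_comp, hik]) ⟨⊤, ⟨genericPoint X, trivial⟩, inferInstance⟩ ψ (by omega)
  set W := R.div (k := k) h hK with hWdef
  have hWc : _root_.FunFld.IsCanonical k X.functionField W := by
    rw [FunFld.Weil.isCanonical_iff hK]
    refine ⟨?_, ?_⟩
    · rw [hWdef, ← R.finrank_h0 h hK, hfin, hgg]
    · rw [hWdef, ← R.deg_eq h hK, Curves.Euler.deg_eq_of_iso (k := k) eK, W₀.deg_eq h hK,
        FunFld.Weil.deg_canonical hK hW₀]
  have hpow : ∀ j : ℕ, ∃ S : CurveFF.LineDiv.Rep (CohB1.tensorPow K j),
      S.div (k := k) h hK = (j : ℤ) • W := by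
    intro j
    induction j with
    | zero =>
      obtain ⟨S₀, hS₀⟩ := CurveFF.ProjNormal.exists_effective_rep h hK
        (PicLoc.isInvertible_structureModule X) (L := Coh.structureModule X) (by omega)
      have hd : (S₀.div (k := k) h hK).deg = 0 := by
        rw [← S₀.deg_eq h hK]; exact Curves.Degree.deg_structureModule
      refine ⟨S₀, ?_⟩
      rw [Nat.cast_zero, zero_smul]
      ext P
      by_contra hP
      have h1 := hS₀ P
      rw [Finsupp.coe_zero, Pi.zero_apply] at h1
      rw [Finsupp.coe_zero, Pi.zero_apply] at hP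
      have hpos : 0 < S₀.div (k := k) h hK P := lt_of_le_of_ne h1 (Ne.symm hP)
      have h2 : Finsupp.single P (1 : ℤ) ≤ S₀.div (k := k) h hK := fun Q => by
        have hQ := hS₀ Q
        rw [Finsupp.coe_zero, Pi.zero_apply] at hQ
        rcases eq_or_ne Q P with rfl | hne
        · rw [Finsupp.single_eq_same]; exact hpos
        · rw [Finsupp.single_eq_of_ne hne]; omega
      have h3 := FunFld.Degree.deg_mono h2
      rw [hd, FunFld.Degree.deg_single, FunFld.Rational.deg_eq_one hK P] at h3
      omega
    | succ j ih =>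
      obtain ⟨S, hS⟩ := ih
      exact ⟨S.mul R, (CurveFF.LineDiv.Rep.div_mul h hK S R).trans (by
        rw [hS, Nat.cast_succ, add_smul, one_smul])⟩
  obtain ⟨S, hS⟩ := hpow m
  intro z
  have hz : CurveFF.CanonRatio.secCoord (S.mul R) z ∈
      _root_.FunFld.L ((m : ℤ) • W) * _root_.FunFld.L W := by
    rw [CurveFF.ProjNormal.canonical_mul hK hWc hR0 hgen (by omega) m]
    have := CurveFF.CanonicalEmb.coord_germ_mem h (S.mul R) hK z
    rw [CurveFF.LineDiv.Rep.div_mul, hS] at this
    rwa [Nat.cast_succ, add_smul, one_smul]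
  suffices hsuff : ∀ f ∈ _root_.FunFld.L ((m : ℤ) • W) * _root_.FunFld.L W,
      ∃ w, CurveFF.CanonRatio.secCoord (S.mul R) ((SecTwist.toTensor (CohB1.tensorPow K m) K).app (Opposite.op ⊤) w) = f by
    obtain ⟨w, hw⟩ := hsuff _ hz
    exact ⟨w, CurveFF.CanonRatio.secCoord_injective (S.mul R) hw⟩
  intro f hf
  induction hf using Submodule.mul_induction_on' with
  | mem_mul_mem a ha b hb =>
    rw [← hS] at ha
    obtain ⟨s, rfl⟩ := CurveFF.ProjNormal.exists_section h hK S ha
    obtain ⟨t, rfl⟩ := CurveFF.ProjNormal.exists_section h hK R hb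
    exact ⟨s ⊗ₜ t, CurveFF.ProjNormal.coord_tmul S R s t⟩
  | add x _ y _ hx hy =>
    obtain ⟨w, rfl⟩ := hx
    obtain ⟨w', rfl⟩ := hy
    exact ⟨w + w', (congrArg _ (map_add _ w w')).trans (CurveFF.CanonRatio.secCoord_add _ _ _)⟩

end Groth.Agent.S16315
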