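import Groth.Statements.S16318
import Groth.Agent.Lib.CurveFF.CliffordGenusNine
import Groth.Agent.Lib.CurveFF.H1Div
-- import your own Groth.Agent.* helpers here

set_option autoImplicit false
open CategoryTheory CategoryTheory.Limits AlgebraicGeometry
universe u
open Curves

namespace Groth.Agent.S16318
open Groth.Agent.Lib
attribute [local instance] Curv2.stalkAlgebra

/-- Let k be an algebraically closed field of characteristic zero and X a smooth proper integral curve
over k (integral, proper and smooth over k, of dimension one) of genus 9 whose Clifford index is 3: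
some invertible module M with h^0(M) ≥ 2 and h^1(M) ≥ 2 has deg M − 2(h^0(M) − 1) = 3, and every
invertible module M with h^0(M) ≥ 2 and h^1(M) ≥ 2 has deg M − 2(h^0(M) − 1) ≥ 3 (degrees are χ(M) −
χ(O_X); in particular X is not hyperelliptic). Then X is pentagonal: it carries a g^1_5, an
invertible module of degree 5 together with two k-linearly independent global sections. -/
theorem result
    (k : Type u) [Field k] [IsAlgClosed k] [CharZero k]
    (X : Scheme.{u}) [X.Over (Spec (CommRingCat.of k))] [IsIntegral X]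
    [IsProper (X ↘ Spec (CommRingCat.of k))] [Smooth (X ↘ Spec (CommRingCat.of k))]
    (hdim : topologicalKrullDim X = 1) (hg : Curv2.genus k X = 9)
    (hex : ∃ M : X.Modules, PicF.IsInvertible M ∧ 2 ≤ Module.finrank k (Coh.HH X M 0) ∧
      2 ≤ Module.finrank k (Coh.HH X M 1) ∧ Curv2.deg k X M 1 = 2 * (Module.finrank k (Coh.HH X M 0) : ℤ) + 1)
    (hmin : ∀ M : X.Modules, PicF.IsInvertible M → 2 ≤ Module.finrank k (Coh.HH X M 0) →
      2 ≤ Module.finrank k (Coh.HH X M 1) → 2 * (Module.finrank k (Coh.HH X M 0) : ℤ) + 1 ≤ Curv2.deg k X M 1) :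
    ∃ (L : X.Modules) (s : Fin (1 + 1) → LinSer.Sect X L), LinSer.IsLinSer k X L 5 1 s := by
  have h := CurveFF.curveHyp_of_smooth (k := k) hdim
  have h0 := Curves.GlobalSections.finrank_h0_structure k X
  have hK := CurveFF.isFunctionField (k := k) h h0
  rw [CurveFF.genus_eq h h0] at hg
  obtain ⟨W, hW⟩ := FunFld.Weil.exists_isCanonical hK
  obtain ⟨M, hM, hM0, hM1, hMd⟩ := hex
  obtain ⟨R⟩ := CurveFF.LineDiv.nonempty_rep hM
  rw [R.finrank_h0 h hK] at hM0 hMd
  rw [CurveFF.H1Div.finrank_h1 h hK hW R] at hM1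
  rw [R.deg_eq h hK] at hMd
  obtain ⟨E, hEd, hEl⟩ := CurveFF.CliffordGenusNine.pentagonal hK hW hg ⟨_, hM0, hM1, hMd⟩
  exact CurveFF.DivisorEmb.exists_linSer h hK E (d := 5) (r := 1) hEd hEl

end Groth.Agent.S16318
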