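import Groth.Statements.S16319
import Groth.Agent.Lib.CurveFF.CliffordThreeCurve
-- import your own Groth.Agent.* helpers here

set_option autoImplicit false
open CategoryTheory CategoryTheory.Limits AlgebraicGeometry
universe u
open Curves

namespace Groth.Agent.S16319
open Groth.Agent.Lib
attribute [local instance] Curv2.stalkAlgebra

/-- Let k be an algebraically closed field of characteristic zero and X a smooth proper integral curve
over k (integral, proper and smooth over k, of dimension one) of genus 9 whose Clifford index is 3: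
some invertible module M with h^0(M) ≥ 2 and h^1(M) ≥ 2 has deg M − 2(h^0(M) − 1) = 3, and every
invertible module M with h^0(M) ≥ 2 and h^1(M) ≥ 2 has deg M − 2(h^0(M) − 1) ≥ 3 (degrees are χ(M) −
χ(O_X); in particular X is not hyperelliptic); let H be an invertible module of degree 7 with h^0(H)
= 3 (a g^2_7) and D a globally generated invertible module of degree 5 with h^0(D) = 2 (a
base-point-free complete g^1_5). Then every module N with D ⊗ N ≅ H has h^0(N) = 1: the difference
of the two series is the class of an effective divisor of degree 2 with a one-dimensional space of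
sections, so the pencil is cut out by the lines through a double point of the plane model of degree
7. -/
theorem result
    (k : Type u) [Field k] [IsAlgClosed k] [CharZero k]
    (X : Scheme.{u}) [X.Over (Spec (CommRingCat.of k))] [IsIntegral X]
    [IsProper (X ↘ Spec (CommRingCat.of k))] [Smooth (X ↘ Spec (CommRingCat.of k))]
    (hdim : topologicalKrullDim X = 1) (hg : Curv2.genus k X = 9)
    (hex : ∃ M : X.Modules, PicF.IsInvertible M ∧ 2 ≤ Module.finrank k (Coh.HH X M 0) ∧
      2 ≤ Module.finrank k (Coh.HH X M 1) ∧ Curv2.deg k X M 1 = 2 * (Module.finrank k (Coh.HH X M 0) : ℤ) + 1)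
    (hmin : ∀ M : X.Modules, PicF.IsInvertible M → 2 ≤ Module.finrank k (Coh.HH X M 0) →
      2 ≤ Module.finrank k (Coh.HH X M 1) → 2 * (Module.finrank k (Coh.HH X M 0) : ℤ) + 1 ≤ Curv2.deg k X M 1)
    (H : X.Modules) (hH : PicF.IsInvertible H) (hdH : Curv2.deg k X H 1 = 7)
    (h0H : Module.finrank k (Coh.HH X H 0) = 3)
    (D : X.Modules) (hD : PicF.IsInvertible D) (hgD : Curv2.IsGloballyGenerated D)
    (hdD : Curv2.deg k X D 1 = 5) (h0D : Module.finrank k (Coh.HH X D 0) = 2)
    (N : X.Modules) (e : CohB1.tensorMod D N ≅ H) :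
    Module.finrank k (Coh.HH X N 0) = 1 := by
  have h := CurveFF.curveHyp_of_smooth (k := k) hdim
  have h0 := Curves.GlobalSections.finrank_h0_structure k X
  have hK := CurveFF.isFunctionField (k := k) h h0
  rw [CurveFF.genus_eq h h0] at hg
  obtain ⟨W, hW⟩ := FunFld.Weil.exists_isCanonical hK
  have hm := CurveFF.CliffordThreeCurve.hmin_field h hK hW hmin
  obtain ⟨A⟩ := CurveFF.LineDiv.nonempty_rep hH
  obtain ⟨B⟩ := CurveFF.LineDiv.nonempty_rep hD
  obtain ⟨N', S, hS, -⟩ := CurveFF.LineDiv.exists_line h hK (A.div h hK - B.div h hK)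
  have eN : Nonempty (N ≅ N') := by
    obtain ⟨e'⟩ := CurveFF.LineDiv.nonempty_iso h (S.mul B) A (f := 1) one_ne_zero fun x => by
      have hx := DFunLike.congr_fun (show (S.mul B).div h hK = A.div h hK by
        rw [CurveFF.LineDiv.Rep.div_mul, hS, sub_add_cancel]) (CurveFF.placeOf k h x)
      simp only [CurveFF.LineDiv.Rep.div_placeOf] at hx
      rw [map_one, one_mul, hx]
    exact ⟨TensorMod.Invertible.cancelRight hD
      (TensorMod.Basic.comm N D ≪≫ e ≪≫ e'.symm)⟩
  obtain ⟨eN⟩ := eN
  refine (Curves.Euler.hdim_eq_of_iso (k := k) eN 0).trans ?_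
  show Module.finrank k _ = 1
  rw [S.finrank_h0 h hK, hS]
  exact CurveFF.CliffordThree.ell_sub_eq_one hK hW hg hm (by rw [← A.deg_eq h hK, hdH])
    (by rw [← A.finrank_h0 h hK, h0H]) (by rw [← B.deg_eq h hK, hdD]) (by rw [← B.finrank_h0 h hK, h0D])

end Groth.Agent.S16319
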