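import Groth.Statements.S16324
import Groth.Agent.Lib.Graded.HilbertDefect
import Groth.Agent.Lib.Graded.PolyDepth
import Groth.Agent.Lib.Graded.CMVanish

set_option autoImplicit false
universe u
open GrSyz

namespace Groth.Agent.S16324

open Groth.Agent.Lib.Graded Groth.Agent.Lib.Graded.StarInj

/-- Let k be an algebraically closed field of characteristic zero, S = k[x_0, …, x_n] graded by degree,
𝔪 = (x_0, …, x_n), and M a finitely generated ℤ-graded S-module which is Cohen–Macaulay: the Krull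
dimension of its support equals its 𝔪-depth. Let F be a minimal graded free resolution of M of
length exactly ℓ (F_ℓ ≠ 0, F_i = 0 for i > ℓ; so ℓ = pd M) and let ρ be its regularity: every basis
vector of F_i has degree at most ρ + i, with equality for some i and some basis vector (so ρ = reg
M). Let P be the Hilbert polynomial of M, i.e. a polynomial over ℚ with dim_k M_d = P(d) for all
sufficiently large d. Then dim_k M_d ≠ P(d) for d = ρ + ℓ − n − 1: the bound d ≥ reg M + pd M − n
beyond which the Hilbert function agrees with the Hilbert polynomial is sharp for Cohen–Macaulay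
modules. (Part (1) of the published statement, the agreement for d ≥ reg M + pd M − n, follows from
the agreement for d at least the largest generator degree minus n and is not restated.) -/
theorem result (k : Type u) [Field k] [IsAlgClosed k] [CharZero k] (n : ℕ)
    (M : Type u) [AddCommGroup M] [Module k M] [Module (MvPolynomial (Fin (n + 1)) k) M]
    [IsScalarTower k (MvPolynomial (Fin (n + 1)) k) M] [Module.Finite (MvPolynomial (Fin (n + 1)) k) M]
    (ℳ : ℤ → Submodule k M) [DirectSum.Decomposition ℳ] [SetLike.GradedSMul (GrSyz.stdGr k (Fin (n + 1))) ℳ]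
    (hCM : Module.supportDim (MvPolynomial (Fin (n + 1)) k) M = ((LocCoh.idealDepth (GrSyz.irrel (GrSyz.stdGr k (Fin (n + 1)))).toIdeal M : ℕ∞) : WithBot ℕ∞))
    (F : GrSyz.FreeRes (GrSyz.stdGr k (Fin (n + 1))) ℳ) (hF : F.IsMinimal (GrSyz.irrel (GrSyz.stdGr k (Fin (n + 1)))).toIdeal)
    (ℓ : ℕ) (hℓ : F.HasLengthLE ℓ) (hℓ' : F.rk ℓ ≠ 0)
    (ρ : ℤ) (hρ : F.IsGenLE ρ) (hρ' : ∃ (i : ℕ) (b : Fin (F.rk i)), F.deg i b = ρ + i)
    (P : Polynomial ℚ) (hP : ∃ d₁ : ℤ, ∀ d : ℤ, d₁ ≤ d → ((Module.finrank k ↥(ℳ d) : ℤ) : ℚ) = P.eval (d : ℚ)) :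
    ((Module.finrank k ↥(ℳ (ρ + ℓ - n - 1)) : ℤ) : ℚ) ≠ P.eval ((ρ + ℓ - n - 1 : ℤ) : ℚ) := by
  obtain ⟨d₁, hP⟩ := hP
  have h := HilbertDefect.defect F hℓ hP hρ
  intro heq
  rw [heq, sub_self, eq_comm, mul_eq_zero, neg_eq_zero, mul_eq_zero] at h
  have hc : (Finset.univ.filter fun b : Fin (F.rk ℓ) => F.deg ℓ b = ρ + ℓ).card = 0 := by
    rcases h with (h | h) | h
    · exact absurd h (pow_ne_zero _ (by norm_num))
    · exact absurd h (HilbertDefect.binom_neg n)
    · exact_mod_cast h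
  rw [Finset.card_eq_zero, Finset.filter_eq_empty_iff] at hc
  have hlt : ∀ b : Fin (F.rk ℓ), F.deg ℓ b < ρ + ℓ := fun b => lt_of_le_of_ne (hρ ℓ b) (hc (Finset.mem_univ b))
  have hAB := PolyDepth.length_add_idealDepth F hF hℓ hℓ'
  obtain ⟨δ, hδ⟩ := ENat.ne_top_iff_exists.1 (fun h => by
    rw [h, add_top] at hAB; exact ENat.coe_ne_top _ hAB.symm :
      LocCoh.idealDepth (GrSyz.irrel (GrSyz.stdGr k (Fin (n + 1)))).toIdeal M ≠ ⊤)
  rw [← hδ, ← Nat.cast_add, Nat.cast_inj] at hAB
  rw [← hδ] at hCM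
  have hfree : ∀ (j : ℕ) (g : ℤ), ρ - 1 < g + δ → Van.V (GrSyz.irrel (GrSyz.stdGr k (Fin (n + 1))))
      (FreeMod.freeMod (GrSyz.stdGr k (Fin (n + 1))) (F.deg j)) (δ + j) g := by
    intro j g hg
    refine FreeMod.V_free _ fun b => ?_
    rcases lt_trichotomy j ℓ with hj | rfl | hj
    · refine CMVanish.V_of_lt_idealDepth _ ?_
      rw [PolyDepth.idealDepth_irrel, Nat.cast_lt]
      omega
    · exact Poly.V_ring _ _ (by have := hlt b; omega)
    · exact Poly.V_of_card_lt _ _ (by simp only [Nat.card_eq_fintype_card, Fintype.card_fin]; omega)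
  have hsyz : ∀ (m j : ℕ) (g : ℤ), n + 1 < δ + j + 1 + m → ρ - 1 < g + δ →
      Van.V (GrSyz.irrel (GrSyz.stdGr k (Fin (n + 1)))) (FreeMod.syz F j) (δ + j + 1) g := by
    intro m
    induction m with
    | zero => intro j g hj _; exact Poly.V_of_card_lt _ _ (by simp only [Nat.card_eq_fintype_card, Fintype.card_fin]; omega)
    | succ m ih => exact fun j g hj hg => Van.V_right (FreeMod.ses_step F j) (hfree (j + 1) g hg) (ih (j + 1) g (by omega) hg)
  have hVR : Reg.VR (toMod (GrSyz.stdGr k (Fin (n + 1))) ℳ) (ρ - 1) := by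
    intro i g hg
    rcases lt_trichotomy i δ with hi | rfl | hi
    · refine CMVanish.V_of_lt_idealDepth _ ?_
      rw [← hδ, Nat.cast_lt]
      exact hi
    · exact Van.V_right (FreeMod.ses_zero F) (hfree 0 g (by omega)) (hsyz (n + 2) 0 g (by omega) (by omega))
    · refine CMVanish.V_of_supportDim_lt _ ?_
      rw [hCM]
      exact_mod_cast hi
  obtain ⟨i, b, hb⟩ := hρ'
  have := (Reg.isGenLE_iff F hF).2 hVR i b
  omega

end Groth.Agent.S16324
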