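import Groth.Statements.S16328
import Groth.Agent.Lib.CxGrpd.Split

set_option autoImplicit false
universe v
open CategoryTheory
open W4c3biextchow

namespace Groth.Agent.S16328

/-- Let f : A' ⟶ A and p : A ⟶ A'' be chain maps of ℕ-indexed chain complexes of free abelian groups
forming a short exact sequence in every degree (f injective, p surjective, image of f equal to the
kernel of p), and assume f is a quasi-isomorphism. Then there is a chain map h : A'' ⟶ A such that
in every degree q the map (a'', a') ↦ h(a'') + f(a') is a bijection from A''_q × A'_q onto A_q, so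
that A is the direct sum of the subcomplexes f(A') and h(A''). (The source allows complexes indexed
by all integers; stated here for complexes in non-negative degrees.) -/
theorem result
    (A' A A'' : ChainComplex (ModuleCat.{v} ℤ) ℕ) (f : A' ⟶ A) (p : A ⟶ A'')
    [∀ q, Module.Free ℤ (A'.X q)] [∀ q, Module.Free ℤ (A.X q)] [∀ q, Module.Free ℤ (A''.X q)]
    (hf : ∀ q, Function.Injective (f.f q).hom) (hp : ∀ q, Function.Surjective (p.f q).hom)
    (hfp : ∀ q, Function.Exact (f.f q).hom (p.f q).hom) [QuasiIso f] :
    ∃ h : A'' ⟶ A, ∀ q : ℕ,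
      Function.Bijective (fun x : A''.X q × A'.X q => (h.f q).hom x.1 + (f.f q).hom x.2) := by
  have w : f ≫ p = 0 := by
    ext q x
    exact (hfp q).apply_apply_eq_zero x
  have hS := Groth.Agent.Lib.CxGrpd.Split.shortExact_of A' A f p w hf hp hfp
  have : QuasiIso (ShortComplex.mk f p w).f := ‹QuasiIso f›
  have : ∀ i, Projective ((ShortComplex.mk f p w).X₃.X i) := fun i => by
    have := (inferInstance : ∀ q, Module.Free ℤ (A''.X q)) i
    exact @ModuleCat.projective_of_categoryTheory_projective _ _ (A''.X i) Module.Projective.of_free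
  obtain ⟨h, hh⟩ := Groth.Agent.Lib.CxGrpd.Split.exists_section hS
  have hpq : ∀ q z, (p.f q).hom ((h.f q).hom z) = z := fun q z =>
    congrArg (fun φ : A'' ⟶ A'' => (φ.f q).hom z) hh
  refine ⟨h, fun q => ⟨fun x y e => ?_, fun a => ?_⟩⟩
  · have e1 := congrArg (p.f q).hom e
    simp only [map_add, hpq, (hfp q).apply_apply_eq_zero, add_zero] at e1
    simp only [e1, add_right_inj] at e
    exact Prod.ext e1 (hf q e)
  · obtain ⟨b, hb⟩ := (hfp q (a - h.f q (p.f q a))).1 (by simp [map_sub, hpq])
    exact ⟨(p.f q a, b), by show _ + _ = a; rw [hb]; exact add_sub_cancel _ _⟩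

end Groth.Agent.S16328
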