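import Groth.Statements.S1633
import Groth.Agent.Lib.Flat55.AnalyticFiniteNormalization
import Groth.Agent.Lib.AlgSpFpqc.DescendSp
import Groth.Agent.Lib.Flat55.CurveNormalizationBC

set_option autoImplicit false
universe u
open CategoryTheory CategoryTheory.Limits AlgebraicGeometry
open Resolve

namespace Groth.Agent.S1633

/-- Let (A, m) be a Noetherian local ring whose m-adic completion is reduced, and X an integral scheme
locally of finite type over Spec A such that some open neighbourhood of the generic point of X is
étale over Spec A. Then the normalization morphism of X is finite. -/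
theorem result (A : Type u) [CommRing A] [IsLocalRing A] [IsNoetherianRing A]
    [IsReduced (AdicCompletion (IsLocalRing.maximalIdeal A) A)]
    (X : Scheme.{u}) [IsIntegral X] (f : X ⟶ Spec (CommRingCat.of A)) [LocallyOfFiniteType f]
    (U : X.Opens) (hU : genericPoint X ∈ U) [Etale (U.ι ≫ f)]
    [QuasiCompact (X.fromSpecStalk (genericPoint X))] [QuasiSeparated (X.fromSpecStalk (genericPoint X))] :
    IsFinite (Curv2.normalizationι X) := by
  refine Groth.Agent.Lib.Flat55.AnalyticFiniteNormalization.isFinite_normalizationι f fun V _ hV => ?_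
  have hηV : genericPoint X ∈ V :=
    ((genericPoint_spec X).mem_open_set_iff V.isOpen).mpr (by simpa using ‹Nonempty V›)
  obtain ⟨c, hc, hηc⟩ := hV.exists_basicOpen_le ⟨_, hU⟩ hηV
  have hc0 : c ≠ 0 := by
    rintro rfl
    rw [Scheme.basicOpen_zero] at hηc
    exact hηc
  refine Groth.Agent.Lib.Flat55.AnalyticFiniteNormalization.isReduced_tensor f V hV c hc0 fun y hy => ?_
  let g := Groth.Agent.Lib.Flat55.AnalyticFiniteNormalization.cplMap A
  let j : Limits.pullback (U.ι ≫ f) g ⟶ Limits.pullback f g := Groth.Agent.Lib.Flat55.CurveNormalizationBC.bcMap f g U.ι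
  have sq := Groth.Agent.Lib.Flat55.CurveNormalizationBC.isPullback_bcMap f g U.ι
  have : IsOpenImmersion j := MorphismProperty.of_isPullback sq (inferInstance : IsOpenImmersion U.ι)
  have : Etale (Limits.pullback.snd (U.ι ≫ f) g) := MorphismProperty.pullback_snd _ _ ‹_›
  have : AlgebraicGeometry.IsReduced (Spec (CommRingCat.of (Curv2.cpl A))) := inferInstance
  have : AlgebraicGeometry.IsReduced (Limits.pullback (U.ι ≫ f) g) :=
    Groth.Agent.Lib.AlgSpFpqc.DescendSp.isReduced_of_smooth (Limits.pullback.snd (U.ι ≫ f) g)
  obtain ⟨z, -, hz⟩ := Scheme.exists_preimage_of_isPullback sq ⟨_, hc hy⟩ y rfl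
  subst hz
  exact isReduced_of_injective _ (asIso (j.stalkMap z)).commRingCatIsoToRingEquiv.injective

end Groth.Agent.S1633
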