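import Groth.Statements.S16333
import Groth.Agent.H61.C1Norm
import Groth.Agent.Lib.CiField.Transcendental

set_option autoImplicit false
universe u
open GalCoh

namespace Groth.Agent.S16333

/-- Let k be an algebraically closed field, K an extension field of k which is finitely generated of
transcendence degree 1 (the function field of an irreducible curve over k), and L a finite Galois
extension of K. Then (1) the norm map from L to K is surjective, and (2) a nonzero element of L has
norm 1 if and only if it lies in the subgroup of units generated by the elements w / g(w), w a unit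
of L and g an automorphism of L over K. (The published statement is for the function fields of an
irreducible curve and of a component of its preimage under a finite abelian étale cover of the
ambient variety; this row takes any finite Galois extension of a function field of transcendence
degree 1 over an algebraically closed field.) -/
theorem result
    (k : Type u) [Field k] [IsAlgClosed k] (K L : Type u) [Field K] [Field L]
    [Algebra k K] [Algebra K L] [FiniteDimensional K L] [IsGalois K L]
    (hfg : (⊤ : IntermediateField k K).FG) (htr : Algebra.trdeg k K = 1) :
    Function.Surjective (Algebra.norm K : L → K) ∧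
      ∀ u : Lˣ, Algebra.norm K (u : L) = 1 ↔
        u ∈ Subgroup.closure {v : Lˣ | ∃ (w : Lˣ) (g : L ≃ₐ[K] L), (v : L) = (w : L) / g (w : L)} := by
  classical
  obtain ⟨s, hs⟩ := exists_isTranscendenceBasis k K
  have hcard : Cardinal.mk s = 1 := by rw [hs.cardinalMk_eq_trdeg, htr]
  have : Finite s := Cardinal.lt_aleph0_iff_finite.mp (by rw [hcard]; exact Cardinal.one_lt_aleph0)
  have hn : Nat.card s = 1 := by simp [Nat.card, hcard]
  let e : Fin 1 ≃ s := ((Finite.equivFin s).trans (finCongr hn)).symm
  have hbasis : IsTranscendenceBasis k ((Subtype.val : s → K) ∘ e) := hs.comp_equiv e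
  have h0 : Curves.IsCi k 0 := Groth.Agent.Lib.CiField.Basic.isCi_zero k
  have hK : Curves.IsCr K 1 := Groth.Agent.Lib.CiField.Basic.isCr_of_isCi
    (Groth.Agent.Lib.CiField.Transcendental.isCi_add (m := 0) 1 _ hbasis h0)
  exact ⟨Groth.Agent.H61.C1Norm.norm_surjective hK L, fun u =>
    ⟨fun hu => Groth.Agent.H61.C1Norm.mem_aug_of_norm_eq_one hK u hu,
      fun hu => Groth.Agent.H61.C1Norm.norm_aug hu⟩⟩

end Groth.Agent.S16333
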