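import Groth.Statements.S16341
import Groth.Agent.H84.CohAmple.Dim
import Groth.Agent.Lib.Curves.NormGenus
import Groth.Agent.Lib.TFNodal.Push
import Groth.Agent.Lib.RefHull.Reflexive
import Groth.Agent.Lib.RefHull.LocFree
import Groth.Agent.Lib.TFOne.Euler
import Groth.Agent.Lib.AffineCompl.Dim
import Groth.Agent.S13532
import Groth.Agent.Lib.Cyc.FP.Stalk
import Groth.Agent.Lib.CohDelta.IdealMul.FinPush

set_option autoImplicit false
set_option linter.style.haveILetI false
universe u
open CategoryTheory CategoryTheory.Limits AlgebraicGeometry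
open Curves

namespace Groth.Agent.S16341

open Groth.Agent.Lib Groth.Agent.H25 TopologicalSpace Opposite
open Groth.Agent.Lib.Modules.StalkModule (stalkMapₗ stalkMapₗ_comp stalkMapₗ_germ)
open Groth.Agent.Lib.DerivedOX.PullbackStalk (pushStalkMap)
open scoped TensorProduct

/-- A point whose local ring has dimension at most zero is a generic point. -/
theorem eq_of_specializes {X : Scheme.{u}} {x : X} (h : ringKrullDim (X.presheaf.stalk x) ≤ 0)
    (w : X) (hw : w ⤳ x) : w = x := by
  haveI : Ring.KrullDimLE 0 (X.presheaf.stalk x) := Ring.krullDimLE_iff.2 (by simpa using h)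
  have h1 : w ∈ Set.range (X.fromSpecStalk x) := by
    rw [Scheme.range_fromSpecStalk]; exact hw
  obtain ⟨q, rfl⟩ := h1
  conv_rhs => rw [← Scheme.fromSpecStalk_closedPoint (x := x)]
  exact congrArg _ (PrimeSpectrum.ext (IsLocalRing.eq_maximalIdeal q.2.isMaximal'))

/-- Integrally closed Noetherian local domains of dimension at most one are principal. -/
theorem isPrincipalIdealRing_of_normal (R : Type u) [CommRing R] [IsDomain R] [IsNoetherianRing R]
    [IsLocalRing R] [IsIntegrallyClosed R] (h : ringKrullDim R ≤ 1) : IsPrincipalIdealRing R := by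
  haveI : Ring.KrullDimLE 1 R := Ring.krullDimLE_iff.2 (by simpa using h)
  exact ((tfae_of_isNoetherianRing_of_isLocalRing_of_isDomain (R := R)).out 3 0 rfl rfl).mp
    ⟨inferInstance, fun P hP hP' => IsLocalRing.eq_maximalIdeal
      (Ring.krullDimLE_one_iff_of_noZeroDivisors.mp inferInstance P hP hP')⟩

/-- A composite is surjective on stalks. -/
theorem surjective_comp {X : Scheme.{u}} {A B D : X.Modules} (u : A ⟶ B) (v : B ⟶ D) [Epi v] (x : X)
    (h : Function.Surjective (stalkMapₗ u x)) : Function.Surjective (stalkMapₗ (u ≫ v) x) := by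
  rw [stalkMapₗ_comp]
  exact ((Modules.StalkModule.epi_iff_stalkMapₗ_surjective v).1 inferInstance x).comp h

/-- A vanishing composite vanishes on stalks. -/
theorem comp_apply_zero {X : Scheme.{u}} {K A B D : X.Modules} (a : K ⟶ A) (u : A ⟶ B) (v : B ⟶ D)
    (h : a ≫ u ≫ v = 0) (x : X) (t : K.presheaf.stalk x) :
    stalkMapₗ v x (stalkMapₗ u x (stalkMapₗ a x t)) = 0 := by
  rw [← LinearMap.comp_apply, ← stalkMapₗ_comp, ← LinearMap.comp_apply, ← stalkMapₗ_comp, h,
    Modules.StalkModule.stalkMapₗ_zero, LinearMap.zero_apply]

/-- Stalks of direct images commute with maps. -/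
theorem pushStalkMap_natural {X Y : Scheme.{u}} (π : Y ⟶ X) {M N : Y.Modules} (q : M ⟶ N) (y : Y)
    (t : ((Scheme.Modules.pushforward π).obj M).presheaf.stalk (π y)) :
    pushStalkMap π y N (stalkMapₗ ((Scheme.Modules.pushforward π).map q) (π y) t) =
      stalkMapₗ q y (pushStalkMap π y M t) := by
  obtain ⟨V, hV, s, rfl⟩ := TopCat.Presheaf.exists_germ_eq _ t
  refine (congrArg _ (stalkMapₗ_germ _ hV s)).trans ?_
  refine (DerivedOX.PullbackStalk.pushStalkMap_germ π y N hV _).trans ?_
  refine Eq.trans ?_ (congrArg _ (DerivedOX.PullbackStalk.pushStalkMap_germ π y M hV s)).symm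
  exact (stalkMapₗ_germ q _ _).symm

/-- The unit is surjective where `(π_* O)_x` is generated by `1`. -/
theorem unit_surjective {X Y : Scheme.{u}} (π : Y ⟶ X) [IsAffineHom π] (F : X.Modules)
    [F.IsQuasicoherent] {x : X}
    (hone : ∀ w : ((Coh.push π).obj (Coh.structureModule Y)).presheaf.stalk x,
      ∃ c : X.presheaf.stalk x, c • TFNodal.PushPull.one π x = w) :
    Function.Surjective (stalkMapₗ (TFNodal.PushPull.unit π F) x) := by
  obtain ⟨e, he⟩ := TFNodal.PushPull.exists_stalk_equiv π F x
  intro z
  suffices h : ∀ t, ∃ v, TFNodal.PushPull.one π x ⊗ₜ v = t by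
    obtain ⟨v, hv⟩ := h (e z)
    exact ⟨v, e.injective ((he v).trans hv)⟩
  intro t
  induction t using TensorProduct.induction_on with
  | zero => exact ⟨0, TensorProduct.tmul_zero _ _⟩
  | tmul w v =>
    obtain ⟨c, rfl⟩ := hone w
    exact ⟨c • v, (TensorProduct.smul_tmul _ _ _).symm⟩
  | add a b ha hb =>
    obtain ⟨v, rfl⟩ := ha
    obtain ⟨w, rfl⟩ := hb
    exact ⟨v + w, TensorProduct.tmul_add _ _ _⟩

/-- The unit is injective where `r ↦ r • 1` is bijective. -/
theorem unit_injective {X Y : Scheme.{u}} (π : Y ⟶ X) [IsAffineHom π] (F : X.Modules)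
    [F.IsQuasicoherent] {x : X}
    (hone : Function.Bijective fun c : X.presheaf.stalk x => c • TFNodal.PushPull.one π x) :
    Function.Injective (stalkMapₗ (TFNodal.PushPull.unit π F) x) := by
  obtain ⟨e, he⟩ := TFNodal.PushPull.exists_stalk_equiv π F x
  let φ := LinearEquiv.ofBijective (LinearMap.toSpanSingleton (X.presheaf.stalk x)
    (((Coh.push π).obj (Coh.structureModule Y)).presheaf.stalk x) (TFNodal.PushPull.one π x)) hone
  intro v w hvw
  have h1 := (he v).symm.trans ((congrArg e hvw).trans (he w))
  have h2 := congrArg (fun t => TensorProduct.lid (X.presheaf.stalk x) (F.presheaf.stalk x)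
    (TensorProduct.map φ.symm.toLinearMap LinearMap.id t)) h1
  have h3 : φ.symm (TFNodal.PushPull.one π x) = 1 :=
    (LinearEquiv.symm_apply_eq φ).2 (by
      change TFNodal.PushPull.one π x = (1 : X.presheaf.stalk x) • TFNodal.PushPull.one π x
      rw [one_smul])
  simpa only [TensorProduct.map_tmul, TensorProduct.lid_tmul, LinearEquiv.coe_coe, LinearMap.id_apply, LinearMap.id_coe, id_eq, h3,
    one_smul] using h2

set_option maxHeartbeats 1000000 in
/-- Let C be a proper scheme over an algebraically closed field k, all of whose irreducible components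
have dimension one and whose singularities are at worst nodal. Let π : C' → C be a finite morphism
from a normal scheme which is an isomorphism over a dense open subset of C whose preimage is dense
in C' (so C' is the normalisation of C). Then for every coherent O_C-module F which is pure of
dimension one there are a coherent, finite locally free O_{C'}-module F' and a monomorphism f : F →
π_*F' whose cokernel has support inside the node set of C. (The published statement is for a stable
curve of genus at least two and phrases the middle term as a direct sum over the irreducible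
components; the argument uses only that the curve is nodal and produces the push-forward from the
normalisation.) -/
theorem result (k : Type u) [Field k] [IsAlgClosed k]
    (C : Scheme.{u}) [C.Over (Spec (CommRingCat.of k))] [IsProper (C ↘ (Spec (CommRingCat.of k)))]
    (hdim : ∀ Z ∈ irreducibleComponents (C : Type u), topologicalKrullDim Z = 1) (hC : Curv2.AtWorstNodal k C)
    (C' : Scheme.{u}) (π : C' ⟶ C) [IsFinite π] (hC' : Pi1.IsNormalScheme C')
    (U : C.Opens) (hU : Dense (U : Set C)) (hU' : Dense ((π ⁻¹ᵁ U : C'.Opens) : Set C')) (hπU : IsIso (π ∣_ U))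
    (F : C.Modules) (hF : Coh.IsCoh F) (hpure : ShStab.IsPure C F 1) :
    ∃ (F' : C'.Modules) (f : F ⟶ (Scheme.Modules.pushforward π).obj F'),
      Coh.IsCoh F' ∧ FlatMod.IsFinLocFree F' ∧ Mono f ∧
        CohB1.support (cokernel f) ⊆ {x : C | Curv2.IsNode k C x} := by
  classical
  haveI : IsReduced C := Node.AtWorst.isReduced k C hC
  haveI : IsNoetherian C := Curves.GlobalSections.isNoetherian_of_proper k C
  haveI : IsLocallyNoetherian C' := LocallyOfFiniteType.isLocallyNoetherian π
  haveI := hπU
  haveI := hF.1
  have hd : topologicalKrullDim C ≤ (1 : ℕ) := by simpa using TFOne.Euler.dim_le hdim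
  have hd1 : topologicalKrullDim C ≤ 1 := TFOne.Euler.dim_le hdim
  have hd' : topologicalKrullDim C' ≤ 1 := by
    rw [Flat55.DimSums.dim_eq_of_isFinite π]
    exact (Topology.IsInducing.subtypeVal.topologicalKrullDim_le).trans hd1
  haveI : Mono (ClSub.unitToPush π) := Curves.NormStalk.mono_unit π hU
  have hone : ∀ x : C, ¬ Curv2.IsNode k C x →
      Function.Bijective fun c : C.presheaf.stalk x => c • TFNodal.PushPull.one π x := by
    intro x hx
    have hδ := Curves.NormGenus.deltaInv_smooth k C
      ((Node.AtWorst.smooth_or_node k C hd1 hC x).resolve_right hx)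
    obtain ⟨e⟩ := Curves.NormStalk.exists_coker_equiv π hU hC' hU' x
    have hs : Subsingleton ((cokernel (ClSub.unitToPush π)).presheaf.stalk x) :=
      Module.length_eq_zero_iff.1 (e.length_eq.trans hδ)
    obtain ⟨c⟩ := Normalization.CokerStalk.exists_cokernel_stalk_equiv (ClSub.unitToPush π) x
    haveI := c.symm.injective.subsingleton
    have hinj := (Modules.StalkModule.mono_iff_stalkMapₗ_injective (ClSub.unitToPush π)).1 inferInstance x
    let g := (Coh.structureModule C).presheaf.germ ⊤ x trivial (Curves.NormStalk.oneTop C)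
    have hg : ∀ v : (Coh.structureModule C).presheaf.stalk x, ∃ a : C.presheaf.stalk x, a • g = v :=
      fun v => Normalization.CokerStalk.exists_smul_germ_one C (U := ⊤) (x := x) trivial v
    refine ⟨fun a b hab => ?_, fun w => ?_⟩
    · have h1 : stalkMapₗ (ClSub.unitToPush π) x (a • g) = stalkMapₗ (ClSub.unitToPush π) x (b • g) := by
        rw [map_smul, map_smul]; exact hab
      have h2 := congrArg (RefHull.Reflexive.oEquiv x) (hinj h1)
      rw [map_smul, map_smul] at h2
      obtain ⟨c, hc⟩ := hg ((RefHull.Reflexive.oEquiv x).symm 1)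
      have h3 : c * RefHull.Reflexive.oEquiv x g = 1 := by
        have := congrArg (RefHull.Reflexive.oEquiv x) hc
        rwa [map_smul, LinearEquiv.apply_symm_apply, smul_eq_mul] at this
      exact (IsUnit.of_mul_eq_one_right c h3).mul_right_cancel h2
    · obtain ⟨v, hv⟩ := (Submodule.Quotient.mk_eq_zero _).mp
        (Subsingleton.elim (Submodule.Quotient.mk (p := LinearMap.range (stalkMapₗ (ClSub.unitToPush π) x)) w) 0)
      obtain ⟨a, rfl⟩ := hg v
      exact ⟨a, by rw [← hv, map_smul]⟩
  let N := (Scheme.Modules.pullback π).obj F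
  have hN : Coh.IsCoh N := Cyc.FP.Stalk.isCoh_pullback π hF
  haveI := hN.1
  have hNdd := RefHull.Reflexive.isCoh_ddual hN
  let F' := Abelian.image (RefHull.bidualMap N)
  let q : N ⟶ F' := Abelian.factorThruImage (RefHull.bidualMap N)
  have hF' : Coh.IsCoh F' := CohBasics.Closure.isCoh_image _ hN.1 hNdd
  haveI := hF'.1
  have hlf : FlatMod.IsFinLocFree F' := by
    refine RefHull.LocFree.isFinLocFree hF' fun y => ?_
    haveI := (hC' y).1
    haveI := (hC' y).2
    haveI := isPrincipalIdealRing_of_normal (C'.presheaf.stalk y)
      ((Cyc.TorPD.ringKrullDim_stalk_le y).trans hd')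
    haveI := RefHull.LocFree.finite_stalk hF' y
    haveI : Module.IsTorsionFree (C'.presheaf.stalk y) ((RefHull.ddual N).presheaf.stalk y) :=
      (RefHull.Reflexive.dualStalkEquiv (RefHull.Reflexive.isCoh_dual hN) y).injective.moduleIsTorsionFree _
        fun c v => map_smul _ c v
    haveI : Module.IsTorsionFree (C'.presheaf.stalk y) (F'.presheaf.stalk y) :=
      ((Modules.StalkModule.mono_iff_stalkMapₗ_injective (Abelian.image.ι (RefHull.bidualMap N))).1
        inferInstance y).moduleIsTorsionFree _ fun c v => map_smul _ c v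
    exact Module.free_of_finite_type_torsion_free'
  haveI : Epi ((Scheme.Modules.pushforward π).map q) := QCoh.Sections.epi_pushforward_map π q
  let f : F ⟶ (Scheme.Modules.pushforward π).obj F' :=
    TFNodal.PushPull.unit π F ≫ (Scheme.Modules.pushforward π).map q
  refine ⟨F', f, hF', hlf, ?_, ?_⟩
  · have hpF' : Coh.IsCoh ((Scheme.Modules.pushforward π).obj F') :=
      CohDelta.IdealMul.FinPush.isCoh_push π hF'
    have hK : Coh.IsCoh (kernel f) := CohBasics.Closure.isCoh_kernel f hF hpF'.1
    by_contra hnm
    have hz : ¬ IsZero (kernel f) := fun hz => hnm (Preadditive.mono_of_kernel_zero (hz.eq_of_src _ _))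
    have hdimK := hpure (kernel f) (kernel.ι f) inferInstance hK hz
    haveI := hK.2
    have hle : (1 : ℕ) + 1 ≤ 1 := by
      refine H84.CohAmple.Dim.dim_add_le hd (Modules.Support.isClosed_support (kernel f)) (c := 1)
        (fun x hx => ?_) (n := 1) hdimK.ge
      by_contra hlt
      have h0 : ringKrullDim (C.presheaf.stalk x) ≤ 0 := by
        have h' : ringKrullDim (C.presheaf.stalk x) < ((0 : ℕ) : WithBot ℕ∞) + 1 := by
          simpa using not_le.1 hlt
        simpa using not_lt.1 (fun h'' => (not_le.2 h') (ENat.WithBot.add_one_le_iff.2 h''))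
      have hgen := eq_of_specializes h0
      have hxU : x ∈ U := AlgSpDecent.GenDense.gen_mem_of_dense U.2 hU hgen
      have hxn : ¬ Curv2.IsNode k C x := fun hn => by
        have h1 := Curves.NormGenus.deltaInv_node k C hn
        haveI : Ring.KrullDimLE 0 (C.presheaf.stalk x) := Ring.krullDimLE_iff.2 (by simpa using h0)
        letI := (Ring.KrullDimLE.isField_of_isReduced (R := C.presheaf.stalk x)).toField
        rw [Curves.NormGenus.deltaInv_eq_zero] at h1
        exact zero_ne_one h1
      apply hx
      refine subsingleton_of_forall_eq 0 fun v => ?_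
      refine (Modules.StalkModule.mono_iff_stalkMapₗ_injective (kernel.ι f)).1 inferInstance x ?_
      rw [map_zero]
      refine unit_injective π F (hone x hxn) ?_
      rw [map_zero]
      refine TFNodal.Push.eq_zero_of_pushStalkMap π N _ fun y hy => ?_
      subst hy
      have hqy : Function.Injective (stalkMapₗ q y) := by
        haveI := (hC' y).1
        haveI := (hC' y).2
        haveI : IsField (C'.presheaf.stalk y) → Module.Free (C'.presheaf.stalk y) (N.presheaf.stalk y) :=
          fun hf => by letI := hf.toField; exact Module.Free.of_divisionRing _ _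
        have hfld : IsField (C'.presheaf.stalk y) := by
          haveI : Ring.KrullDimLE 0 (C.presheaf.stalk (π y)) := Ring.krullDimLE_iff.2 (by simpa using h0)
          exact MulEquiv.isField (Ring.KrullDimLE.isField_of_isReduced (R := C.presheaf.stalk (π y)))
            (RingEquiv.ofBijective _ (TFNodal.Push.bijective_stalkMap π hxU)).symm.toMulEquiv
        haveI := this hfld
        haveI := RefHull.Reflexive.finite_stalk hN y
        have hb := ((RefHull.Reflexive.bijective_stalkMap_bidual_iff hN y).2
          (inferInstanceAs (Module.IsReflexive (C'.presheaf.stalk y) (N.presheaf.stalk y)))).1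
        intro a b hab
        refine hb ?_
        have h2 := congrArg (stalkMapₗ (Abelian.image.ι (RefHull.bidualMap N)) y) hab
        rw [← LinearMap.comp_apply, ← LinearMap.comp_apply, ← stalkMapₗ_comp, Abelian.image.fac] at h2
        exact h2
      refine hqy ?_
      rw [map_zero]
      refine (pushStalkMap_natural π q y _).symm.trans ?_
      refine Eq.trans (congrArg (pushStalkMap π y F') ?_) (map_zero _)
      exact comp_apply_zero (kernel.ι f) (TFNodal.PushPull.unit π F)
        ((Scheme.Modules.pushforward π).map q) (kernel.condition f) (π y) v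
    omega
  · intro x hx
    by_contra hn
    refine hx ?_
    obtain ⟨c⟩ := Normalization.CokerStalk.exists_cokernel_stalk_equiv f x
    have hsurj : Function.Surjective (stalkMapₗ f x) :=
      surjective_comp (TFNodal.PushPull.unit π F) ((Scheme.Modules.pushforward π).map q) x
        (unit_surjective π F (hone x hn).2)
    haveI := Submodule.Quotient.subsingleton_iff.2 (LinearMap.range_eq_top.2 hsurj)
    exact c.toEquiv.subsingleton

end Groth.Agent.S16341
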