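import Groth.Statements.S16343
import Mathlib

set_option autoImplicit false
open KatoHom

namespace Groth.Agent.S16343

lemma hbez {G : Type*} [AddCommGroup G] (u v : ℕ) (h : Nat.Coprime u v) (x : G) :
    ((Nat.gcdA u v) * u : ℤ) • x + ((Nat.gcdB u v) * v : ℤ) • x = x := by
  rw [← add_smul]
  have := Nat.gcd_eq_gcd_ab u v
  rw [h, Nat.cast_one] at this
  rw [show Nat.gcdA u v * (u : ℤ) + Nat.gcdB u v * v = 1 by linarith, one_smul]

/-- Let P be a set of primes and π : A → T a surjection of abelian groups whose kernel is ℓ-divisible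
for every ℓ ∈ P, with T a torsion group; let T(P) be the subgroup of elements of T killed by a
positive integer all of whose prime factors lie in P, and T' the subgroup of elements killed by a
positive integer none of whose prime factors lies in P. Then the preimage π⁻¹(T') is ℓ-divisible for
every ℓ ∈ P, and π has a section s over T(P) for which (d, t) ↦ d + s(t) is a bijection from π⁻¹(T')
× T(P) onto A, so that A is the direct sum of π⁻¹(T') and a copy of T(P). (The decomposition is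
expressed through a section of π over T(P).) -/
theorem result
    {A T : Type*} [AddCommGroup A] [AddCommGroup T] (P : Set ℕ) (hP : ∀ p ∈ P, p.Prime)
    (π : A →+ T) (hπ : Function.Surjective π) (hT : ∀ t : T, ∃ n : ℕ, 0 < n ∧ n • t = 0)
    (hD : ∀ ℓ ∈ P, ∀ x ∈ π.ker, ∃ y ∈ π.ker, ℓ • y = x)
    (TP T' : AddSubgroup T)
    (hTP : ∀ t, t ∈ TP ↔ ∃ n : ℕ, 0 < n ∧ (∀ p : ℕ, p.Prime → p ∣ n → p ∈ P) ∧ n • t = 0)
    (hT' : ∀ t, t ∈ T' ↔ ∃ n : ℕ, 0 < n ∧ (∀ p : ℕ, p.Prime → p ∣ n → p ∉ P) ∧ n • t = 0) :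
    (∀ ℓ ∈ P, ∀ x ∈ T'.comap π, ∃ y ∈ T'.comap π, ℓ • y = x) ∧
    ∃ s : TP →+ A, (∀ t : TP, π (s t) = (t : T)) ∧
      Function.Bijective (fun q : (T'.comap π) × TP => (q.1 : A) + s q.2) := by
  classical
  have hcop : ∀ u v : ℕ, 0 < u → (∀ p : ℕ, p.Prime → p ∣ u → p ∈ P) → (∀ p : ℕ, p.Prime → p ∣ v → p ∉ P) →
      Nat.Coprime u v := fun u v _ hu hv =>
    Nat.coprime_of_dvd fun p hp h1 h2 => hv p hp h2 (hu p hp h1)
  have hDn : ∀ n : ℕ, 0 < n → (∀ p : ℕ, p.Prime → p ∣ n → p ∈ P) → ∀ x ∈ π.ker, ∃ y ∈ π.ker, n • y = x := by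
    intro n
    induction n using Nat.recOnMul with
    | zero => intro h; exact absurd h (lt_irrefl 0)
    | one => intro _ _ x hx; exact ⟨x, hx, one_smul ℕ x⟩
    | prime p hp => intro _ h; exact hD p (h p hp dvd_rfl)
    | mul a b iha ihb =>
      intro hab h x hx
      obtain ⟨ha, hb⟩ := Nat.mul_ne_zero_iff.mp hab.ne'
      obtain ⟨y, hy, hxy⟩ := iha (Nat.pos_of_ne_zero ha) (fun p hp hd => h p hp (hd.mul_right b)) x hx
      obtain ⟨z, hz, hyz⟩ := ihb (Nat.pos_of_ne_zero hb) (fun p hp hd => h p hp (hd.mul_left a)) y hy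
      exact ⟨z, hz, by rw [mul_nsmul', hyz, hxy]⟩
  have hsplit : ∀ n : ℕ, 0 < n → ∃ u v : ℕ, n = u * v ∧ 0 < u ∧ 0 < v ∧
      (∀ p : ℕ, p.Prime → p ∣ u → p ∈ P) ∧ (∀ p : ℕ, p.Prime → p ∣ v → p ∉ P) := by
    intro n
    induction n using Nat.recOnMul with
    | zero => intro h; exact absurd h (lt_irrefl 0)
    | one => intro _; exact ⟨1, 1, rfl, one_pos, one_pos, fun p hp hd => absurd (Nat.dvd_one.mp hd) hp.ne_one,
        fun p hp hd => absurd (Nat.dvd_one.mp hd) hp.ne_one⟩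
    | prime p hp =>
      intro _
      by_cases hpP : p ∈ P
      · exact ⟨p, 1, (mul_one p).symm, hp.pos, one_pos, fun q hq hd => (Nat.prime_dvd_prime_iff_eq hq hp).mp hd ▸ hpP,
          fun q hq hd => absurd (Nat.dvd_one.mp hd) hq.ne_one⟩
      · exact ⟨1, p, (one_mul p).symm, one_pos, hp.pos, fun q hq hd => absurd (Nat.dvd_one.mp hd) hq.ne_one,
          fun q hq hd => (Nat.prime_dvd_prime_iff_eq hq hp).mp hd ▸ hpP⟩
    | mul a b iha ihb =>
      intro hab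
      obtain ⟨ha, hb⟩ := Nat.mul_ne_zero_iff.mp hab.ne'
      obtain ⟨u, v, rfl, h1, h2, h3, h4⟩ := iha (Nat.pos_of_ne_zero ha)
      obtain ⟨u', v', rfl, h1', h2', h3', h4'⟩ := ihb (Nat.pos_of_ne_zero hb)
      exact ⟨u * u', v * v', by ring, Nat.mul_pos h1 h1', Nat.mul_pos h2 h2',
        fun p hp hd => (hp.dvd_mul.mp hd).elim (h3 p hp) (h3' p hp),
        fun p hp hd => (hp.dvd_mul.mp hd).elim (h4 p hp) (h4' p hp)⟩
  refine ⟨fun ℓ hℓ x hx => ?_, ?_⟩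
  · obtain ⟨n, hn, hnP, hnx⟩ := (hT' _).mp hx
    have hc : Nat.Coprime ℓ n := hcop ℓ n (hP ℓ hℓ).pos
      (fun p hp hd => (Nat.prime_dvd_prime_iff_eq hp (hP ℓ hℓ)).mp hd ▸ hℓ) hnP
    obtain ⟨y₀, hy₀⟩ := hπ ((Nat.gcdA ℓ n : ℤ) • π x)
    have hz : x - ℓ • y₀ ∈ π.ker := by
      rw [AddMonoidHom.mem_ker, map_sub, map_nsmul, hy₀]
      conv_lhs => arg 1; rw [← hbez ℓ n hc (π x)]
      rw [mul_smul (Nat.gcdB ℓ n) (n : ℤ), natCast_zsmul, hnx, smul_zero, add_zero, mul_comm, mul_smul,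
        natCast_zsmul, sub_self]
    obtain ⟨z, hz1, hz2⟩ := hD ℓ hℓ _ hz
    refine ⟨y₀ + z, ?_, by rw [smul_add, hz2, add_sub_cancel]⟩
    rw [AddMonoidHom.mem_ker] at hz1
    show π (y₀ + z) ∈ T'
    rw [map_add, hz1, add_zero, hy₀]
    exact T'.zsmul_mem hx _
  let AP : AddSubgroup A :=
    { carrier := {a | ∃ n : ℕ, 0 < n ∧ (∀ p : ℕ, p.Prime → p ∣ n → p ∈ P) ∧ n • a = 0}
      zero_mem' := ⟨1, one_pos, fun p hp hd => absurd (Nat.dvd_one.mp hd) hp.ne_one, smul_zero 1⟩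
      add_mem' := by
        rintro a b ⟨n, hn, hnP, hna⟩ ⟨m, hm, hmP, hmb⟩
        refine ⟨n * m, Nat.mul_pos hn hm, fun p hp hd => (hp.dvd_mul.mp hd).elim (hnP p hp) (hmP p hp), ?_⟩
        rw [smul_add, mul_nsmul' b n m, hmb, smul_zero, mul_nsmul a n m, hna, smul_zero, add_zero]
      neg_mem' := by
        rintro a ⟨n, hn, hnP, hna⟩
        exact ⟨n, hn, hnP, by rw [smul_neg, hna, neg_zero]⟩ }
  let K : AddSubgroup A := AP ⊓ π.ker
  have hKdiv : ∀ {n : ℤ}, n ≠ 0 → Function.Surjective (fun a : K => n • a) := by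
    suffices h : ∀ n : ℕ, 0 < n → ∀ a : A, a ∈ K → ∃ b ∈ K, n • b = a by
      intro n hn a
      obtain ⟨b, hb, hba⟩ := h n.natAbs (Int.natAbs_pos.mpr hn) a.1 a.2
      rcases Int.natAbs_eq n with he | he
      · exact ⟨⟨b, hb⟩, Subtype.ext (show n • b = a.1 by rw [he, natCast_zsmul, hba])⟩
      · exact ⟨⟨-b, K.neg_mem hb⟩, Subtype.ext (show n • (-b) = a.1 by rw [he, neg_smul_neg, natCast_zsmul, hba])⟩
    intro n hn a ha
    obtain ⟨u, v, rfl, hu, hv, huP, hvP⟩ := hsplit n hn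
    obtain ⟨⟨m, hm, hmP, hma⟩, haker⟩ := ha
    have hc := hcop m v hm hmP hvP
    have hb0 : (Nat.gcdB m v : ℤ) • a ∈ K := K.zsmul_mem ⟨⟨m, hm, hmP, hma⟩, haker⟩ _
    obtain ⟨b, hb1, hb2⟩ := hDn u hu huP _ hb0.2
    obtain ⟨m', hm', hmP', hma'⟩ := hb0.1
    refine ⟨b, ⟨⟨m' * u, Nat.mul_pos hm' hu, fun p hp hd => (hp.dvd_mul.mp hd).elim (hmP' p hp) (huP p hp), ?_⟩, hb1⟩, ?_⟩
    · rw [mul_nsmul', hb2, hma']
    · rw [mul_comm u v, mul_nsmul' b v u, hb2, ← natCast_zsmul, ← mul_smul, mul_comm]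
      conv_rhs => rw [← hbez m v hc a]
      rw [mul_smul (Nat.gcdA m v) (m : ℤ), natCast_zsmul, hma, smul_zero, zero_add]
  letI : DivisibleBy K ℤ := divisibleByOfSMulRightSurj K ℤ hKdiv
  obtain ⟨r, hr⟩ := (Module.Baer.of_divisible K).extension_property_addMonoidHom
    (AddSubgroup.inclusion (inf_le_left : K ≤ AP)) (AddSubgroup.inclusion_injective _) (AddMonoidHom.id K)
  have hlift : ∀ t : TP, ∃ a : AP, π a.1 = t.1 := by
    intro t
    obtain ⟨n, hn, hnP, hnt⟩ := (hTP _).mp t.2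
    obtain ⟨a, ha⟩ := hπ t.1
    obtain ⟨d, hd1, hd2⟩ := hDn n hn hnP (n • a) (by rw [AddMonoidHom.mem_ker, map_nsmul, ha, hnt])
    refine ⟨⟨a - d, n, hn, hnP, by rw [smul_sub, hd2, sub_self]⟩, ?_⟩
    show π (a - d) = _
    rw [map_sub, AddMonoidHom.mem_ker.mp hd1, sub_zero, ha]
  choose L hL using hlift
  let φ : AP →+ A := AP.subtype - K.subtype.comp r
  have hwd : ∀ a b : AP, π a.1 = π b.1 → φ a = φ b := by
    intro a b h
    rw [← sub_eq_zero, ← map_sub]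
    have hk : (a - b : AP).1 ∈ K := ⟨(a - b).2, by simp [h]⟩
    have h1 : r (a - b) = ⟨_, hk⟩ := DFunLike.congr_fun hr (⟨(a - b : AP).1, hk⟩ : K)
    show (a - b : AP).1 - (r (a - b)).1 = 0
    rw [h1, sub_self]
  have hπφ : ∀ a : AP, π (φ a) = π a.1 := by
    intro a
    show π (a.1 - (r a).1) = _
    rw [map_sub, AddMonoidHom.mem_ker.mp (r a).2.2, sub_zero]
  let s : TP →+ A := AddMonoidHom.mk' (fun t => φ (L t)) fun t t' => by
    rw [← map_add]
    exact hwd _ _ (by simp [hL])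
  have hs : ∀ t : TP, π (s t) = t.1 := fun t => by
    show π (φ (L t)) = _
    rw [hπφ, hL]
  refine ⟨s, hs, ?_, ?_⟩
  · rintro ⟨d, t⟩ ⟨d', t'⟩ h
    have hd : π (d.1 : A) - π (d'.1 : A) = (t'.1 : T) - t.1 := by
      have h' := congrArg π h
      simp only [map_add, hs] at h'
      rw [sub_eq_sub_iff_add_eq_add, h', add_comm]
    obtain ⟨n, hn, hnP, hn0⟩ := (hT' _).mp (T'.sub_mem d.2 d'.2)
    obtain ⟨m, hm, hmP, hm0⟩ := (hTP _).mp (TP.sub_mem t'.2 t.2)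
    have h0 : (t'.1 : T) - t.1 = 0 := by
      rw [← hbez m n (hcop m n hm hmP hnP) ((t'.1 : T) - t.1)]
      nth_rewrite 2 [← hd]
      rw [mul_smul, mul_smul, natCast_zsmul, natCast_zsmul, hm0, hn0, smul_zero, smul_zero, add_zero]
    have ht : t = t' := Subtype.ext (sub_eq_zero.mp h0).symm
    subst ht
    simp only [add_left_inj] at h
    exact Prod.ext (Subtype.ext h) rfl
  · intro a
    obtain ⟨n, hn, hna⟩ := hT (π a)
    obtain ⟨u, v, rfl, hu, hv, huP, hvP⟩ := hsplit n hn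
    have hc := hcop u v hu huP hvP
    have ht : (Nat.gcdB u v * v : ℤ) • π a ∈ TP := (hTP _).mpr ⟨u, hu, huP, by
      rw [← natCast_zsmul, ← mul_smul, show (u : ℤ) * (Nat.gcdB u v * v) = Nat.gcdB u v * ((u * v : ℕ) : ℤ) by
        push_cast; ring, mul_smul, natCast_zsmul, hna, smul_zero]⟩
    refine ⟨(⟨a - s ⟨_, ht⟩, ?_⟩, ⟨_, ht⟩), by simp⟩
    show π (a - s ⟨_, ht⟩) ∈ T'
    rw [map_sub, hs, (hT' _)]
    refine ⟨v, hv, hvP, ?_⟩
    have e : π a - (Nat.gcdB u v * v : ℤ) • π a = (Nat.gcdA u v * u : ℤ) • π a :=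
      sub_eq_iff_eq_add.mpr (hbez u v hc _).symm
    rw [e, ← natCast_zsmul, ← mul_smul, show (v : ℤ) * (Nat.gcdA u v * u) = Nat.gcdA u v * ((u * v : ℕ) : ℤ) by
      push_cast; ring, mul_smul, natCast_zsmul, hna, smul_zero]

end Groth.Agent.S16343
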