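import Groth.Statements.S16344
import Mathlib.Topology.Compactness.Compact
import Mathlib.Topology.Constructions
import Mathlib.Order.Directed

set_option autoImplicit false
universe u v
open IdeleMod

namespace Groth.Agent.S16344
theorem exists_compatible {ι : Type*} [Preorder ι] [IsDirected ι (· ≤ ·)] (G : ι → Type*)
    [∀ i, TopologicalSpace (G i)] [∀ i, CompactSpace (G i)] [∀ i, T2Space (G i)]
    (f : ∀ ⦃i j : ι⦄, i ≤ j → G j → G i) (hf : ∀ i j (h : i ≤ j), Continuous (f h))
    (hcomp : ∀ i j k (hij : i ≤ j) (hjk : j ≤ k) (x : G k), f hij (f hjk x) = f (hij.trans hjk) x)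
    (C : ∀ i, Set (G i)) (hC : ∀ i, IsClosed (C i)) (hne : ∀ i, (C i).Nonempty)
    (hmap : ∀ i j (h : i ≤ j), ∀ x ∈ C j, f h x ∈ C i) :
    ∃ x : ∀ i, G i, (∀ i j (h : i ≤ j), f h (x j) = x i) ∧ ∀ i, x i ∈ C i := by
  classical
  rcases isEmpty_or_nonempty ι with hι | hι
  · exact ⟨fun i ↦ isEmptyElim i, fun i ↦ isEmptyElim i, fun i ↦ isEmptyElim i⟩
  let t : {p : ι × ι // p.1 ≤ p.2} → Set (∀ i, G i) := fun p ↦ {x | f p.2 (x p.1.2) = x p.1.1}
  have ht : ∀ p, IsClosed (t p) := fun p ↦
    isClosed_eq ((hf _ _ p.2).comp (continuous_apply _)) (continuous_apply _)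
  have hK : IsCompact (Set.univ.pi C) := isCompact_univ_pi fun i ↦ (hC i).isCompact
  obtain ⟨x, hxC, hx⟩ := hK.inter_iInter_nonempty t ht fun u ↦ by
    obtain ⟨k, hk⟩ := (u.image fun p ↦ p.1.2).exists_le
    obtain ⟨c, hc⟩ := hne k
    choose d hd using hne
    refine ⟨fun i ↦ if h : i ≤ k then f h c else d i, fun i _ ↦ ?_, Set.mem_iInter₂.mpr fun p hp ↦ ?_⟩
    · dsimp only
      split_ifs with h
      exacts [hmap i k h c hc, hd i]
    · have h2 : p.1.2 ≤ k := hk _ (Finset.mem_image_of_mem _ hp)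
      show f p.2 _ = _
      simp only
      rw [dif_pos h2, dif_pos (p.2.trans h2), hcomp]
  exact ⟨x, fun i j h ↦ Set.mem_iInter.mp hx ⟨(i, j), h⟩, fun i ↦ hxC i trivial⟩


/-- Let (G_i) be an inverse system, indexed by a directed preorder, of compact Hausdorff topological
abelian groups with continuous surjective transition maps, let G be its limit (the group of
compatible families) and let m be a natural number. Then the canonical map G/mG → lim G_i/mG_i is
bijective: a compatible family that lies in mG_i at every index is m times a compatible family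
(injectivity), and every family that is compatible modulo m agrees modulo m, index by index, with a
compatible family (surjectivity). -/
theorem result
    {ι : Type u} [Preorder ι] [IsDirected ι (· ≤ ·)]
    (G : ι → Type v) [∀ i, AddCommGroup (G i)] [∀ i, TopologicalSpace (G i)]
    [∀ i, IsTopologicalAddGroup (G i)] [∀ i, CompactSpace (G i)] [∀ i, T2Space (G i)]
    (f : ∀ ⦃i j : ι⦄, i ≤ j → (G j →+ G i)) (hf : ∀ i j (h : i ≤ j), Continuous (f h))
    (hid : ∀ i (x : G i), f (le_refl i) x = x)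
    (hcomp : ∀ i j k (hij : i ≤ j) (hjk : j ≤ k) (x : G k), f hij (f hjk x) = f (hij.trans hjk) x)
    (hsurj : ∀ i j (h : i ≤ j), Function.Surjective (f h)) (m : ℕ) :
    (∀ x : ∀ i, G i, (∀ i j (h : i ≤ j), f h (x j) = x i) → (∀ i, ∃ y : G i, m • y = x i) →
        ∃ z : ∀ i, G i, (∀ i j (h : i ≤ j), f h (z j) = z i) ∧ ∀ i, m • z i = x i) ∧
    (∀ y : ∀ i, G i, (∀ i j (h : i ≤ j), ∃ w : G i, f h (y j) - y i = m • w) →
        ∃ x : ∀ i, G i, (∀ i j (h : i ≤ j), f h (x j) = x i) ∧ ∀ i, ∃ w : G i, x i - y i = m • w) := by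
  refine ⟨fun x hx hdiv ↦ ?_, fun y hy ↦ ?_⟩
  · obtain ⟨z, hz, hzC⟩ := exists_compatible G (fun i j h ↦ f h) hf hcomp
      (fun i ↦ {z | m • z = x i}) (fun i ↦ isClosed_eq (continuous_nsmul m) continuous_const) hdiv
      (fun i j h z hz ↦ by
        show m • f h z = x i
        rw [← map_nsmul, show m • z = x j from hz, hx i j h])
    exact ⟨z, hz, hzC⟩
  · obtain ⟨x, hx, hxC⟩ := exists_compatible G (fun i j h ↦ f h) hf hcomp
      (fun i ↦ Set.range fun w ↦ m • w + y i)
      (fun i ↦ (isCompact_range ((continuous_nsmul m).add continuous_const)).isClosed)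
      (fun i ↦ ⟨_, 0, rfl⟩) (fun i j h z hz ↦ by
        obtain ⟨w, rfl⟩ := hz
        obtain ⟨v, hv⟩ := hy i j h
        refine ⟨f h w + v, ?_⟩
        simp only
        rw [map_add, map_nsmul, smul_add, ← hv]
        abel)
    refine ⟨x, hx, fun i ↦ ?_⟩
    obtain ⟨w, hw⟩ := hxC i
    exact ⟨w, sub_eq_iff_eq_add.mpr hw.symm⟩

end Groth.Agent.S16344
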