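import Groth.Statements.S16345
import Groth.Agent.Lib.AffineCompl53.Irred
import Groth.Agent.Lib.RG.GeomComp
import Groth.Agent.Lib.JacCrit.OverField
import Groth.Agent.Lib.Kaehler.SmoothChart
import Groth.Agent.Lib.RelDimFormula.Basic

set_option autoImplicit false
universe u
open KatoHom

namespace Groth.Agent.S16345

section
open AlgebraicGeometry CategoryTheory

/-- The range of a closed immersion. -/
noncomputable def homeoRange {D X : Scheme.{u}} (i : D ⟶ X) [IsClosedImmersion i] :
    ↥D ≃ₜ ↥(Set.range i) :=
  i.isClosedEmbedding.isEmbedding.toHomeomorph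

/-- An irreducible scheme smooth of relative dimension `d` over a field has dimension `d`. -/
theorem dim_ge {L : Type u} [Field L] {X : Scheme.{u}} (f : X ⟶ Spec (CommRingCat.of L)) (d : ℕ)
    (hd : 1 < d) [SmoothOfRelativeDimension d f] [IrreducibleSpace X] [LocallyOfFiniteType f] :
    (2 : WithBot ℕ∞) ≤ topologicalKrullDim X := by
  haveI : Smooth f := SmoothOfRelativeDimension.smooth d f
  let x : X := genericPoint X
  obtain ⟨V, hV, U, hU, hxU, e, hs⟩ :=
    SmoothOfRelativeDimension.exists_isStandardSmoothOfRelativeDimension (n := d) (f := f) x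
  have h := Groth.Agent.Lib.RelDimFormula.Basic.localDim_eq_add f d U
    (fun u hu => Groth.Agent.Lib.Kaehler.SmoothChart.fibreDimAt_of_chart hV hU e hs hu) hxU
  have h0 : topologicalKrullDim ↥(Spec (CommRingCat.of L)) = 0 :=
    (PrimeSpectrum.topologicalKrullDim_eq_ringKrullDim L).trans (ringKrullDim_eq_zero_of_field L)
  rw [Groth.Agent.Lib.JacCrit.OverField.localDim_eq_of_irreducible f x,
    Groth.Agent.Lib.JacCrit.OverField.localDim_eq_of_irreducible (𝟙 _) (f x), h0, zero_add] at h
  rw [h]
  exact_mod_cast hd

end

open AlgebraicGeometry CategoryTheory in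
/-- Let X be a connected scheme, proper and smooth of relative dimension d ≥ 2 over a field L, and let D
⊆ X be a closed subscheme, smooth of relative dimension d − 1 over L (a smooth divisor), whose
complement in X is an affine open subset. Then D is connected (in particular non-empty). -/
theorem result
    {L : Type u} [Field L] {X D : Scheme.{u}} (f : X ⟶ Spec (CommRingCat.of L)) (i : D ⟶ X)
    [IsProper f] (d : ℕ) (hd : 1 < d) [SmoothOfRelativeDimension d f]
    [IsClosedImmersion i] [SmoothOfRelativeDimension (d - 1) (i ≫ f)]
    [ConnectedSpace X] (U : X.Opens) (hU : IsAffineOpen U)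
    (hDU : Set.range i.base = (U : Set X)ᶜ) : ConnectedSpace D := by
  haveI : Smooth f := SmoothOfRelativeDimension.smooth d f
  haveI := Groth.Agent.Lib.RG.GeomComp.isIntegral_of_smooth_connected f
  rcases (U : Set X).eq_empty_or_nonempty with h | h
  · have hr : Set.range i = Set.univ := by rw [hDU, h, Set.compl_empty]
    haveI : ConnectedSpace ↥(Set.range i) :=
      _root_.isConnected_iff_connectedSpace.mp (hr ▸ isConnected_univ)
    exact (homeoRange i).symm.surjective.connectedSpace (homeoRange i).symm.continuous
  · have hc := Groth.Agent.Lib.AffineCompl53.Core.isConnected_compl L f (dim_ge f d hd) U hU h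
    rw [← hDU] at hc
    haveI := _root_.isConnected_iff_connectedSpace.mp hc
    exact (homeoRange i).symm.surjective.connectedSpace (homeoRange i).symm.continuous

end Groth.Agent.S16345
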