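import Groth.Statements.S16346
import Mathlib


set_option autoImplicit false
universe u v
open KatoHom

namespace Groth.Agent.S16346

/-- Let P be a set of primes and I_P the set of positive integers all of whose prime factors lie in P.
Let A be an abelian group, (B_n)_{n ∈ I_P} an inverse system of abelian groups with transition maps
B_n → B_m for m ∣ n, and φ_n : A → B_n homomorphisms vanishing on nA and compatible with the
transition maps, so that they induce φ̂ : Â → B̂ on the limits Â = lim A/nA and B̂ = lim B_n (limits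
taken as compatible families). Suppose some N ∈ I_P kills the torsion subgroup of B̂ and kills the
kernel of φ̂ (the latter meaning: a compatible family of residues (a_n) with φ_n(a_n) = 0 for all n
has N a_n ∈ nA for all n). Then the subgroup ⋂_{n ∈ I_P} nA is ℓ-divisible for every ℓ ∈ P, and it
contains every subgroup of A that is ℓ-divisible for all ℓ ∈ P; that is, it is the largest
P-divisible subgroup of A. -/
theorem result
    {A : Type u} [AddCommGroup A] (P : Set ℕ) (hP : ∀ p ∈ P, p.Prime)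
    (IP : Set ℕ) (hIP : ∀ n, n ∈ IP ↔ 0 < n ∧ ∀ p : ℕ, p.Prime → p ∣ n → p ∈ P)
    (B : IP → Type v) [∀ n, AddCommGroup (B n)]
    (g : ∀ ⦃m n : IP⦄, (m : ℕ) ∣ (n : ℕ) → (B n →+ B m))
    (hgid : ∀ (n : IP) (b : B n), g (dvd_refl (n : ℕ)) b = b)
    (hgcomp : ∀ (k m n : IP) (hkm : (k : ℕ) ∣ (m : ℕ)) (hmn : (m : ℕ) ∣ (n : ℕ)) (b : B n),
      g hkm (g hmn b) = g (hkm.trans hmn) b)
    (φ : ∀ n : IP, A →+ B n) (hφ : ∀ (n : IP) (a : A), φ n ((n : ℕ) • a) = 0)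
    (hφg : ∀ (m n : IP) (h : (m : ℕ) ∣ (n : ℕ)) (a : A), g h (φ n a) = φ m a)
    (N : ℕ) (hN : N ∈ IP)
    (htor : ∀ b : ∀ n : IP, B n, (∀ (m n : IP) (h : (m : ℕ) ∣ (n : ℕ)), g h (b n) = b m) →
      (∃ k : ℕ, 0 < k ∧ ∀ n, k • b n = 0) → ∀ n, N • b n = 0)
    (hker : ∀ a : IP → A, (∀ m n : IP, (m : ℕ) ∣ (n : ℕ) → ∃ c : A, a n - a m = (m : ℕ) • c) →
      (∀ n, φ n (a n) = 0) → ∀ n : IP, ∃ c : A, N • a n = (n : ℕ) • c) :
    (∀ ℓ ∈ P, ∀ x : A, (∀ n ∈ IP, ∃ y : A, x = n • y) →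
        ∃ y : A, (∀ n ∈ IP, ∃ z : A, y = n • z) ∧ ℓ • y = x) ∧
    (∀ H : AddSubgroup A, (∀ ℓ ∈ P, ∀ x ∈ H, ∃ y ∈ H, ℓ • y = x) →
        ∀ x ∈ H, ∀ n ∈ IP, ∃ y : A, x = n • y) := by
  have hmul : ∀ a b : ℕ, a ∈ IP → b ∈ IP → a * b ∈ IP := by
    intro a b ha hb
    rw [hIP] at ha hb ⊢
    exact ⟨Nat.mul_pos ha.1 hb.1, fun p hp hd => (hp.dvd_mul.mp hd).elim (ha.2 p hp) (hb.2 p hp)⟩
  have hprime : ∀ ℓ ∈ P, ℓ ∈ IP := fun ℓ hℓ => (hIP ℓ).mpr ⟨(hP ℓ hℓ).pos, fun p hp hd => by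
    rwa [(Nat.prime_dvd_prime_iff_eq hp (hP ℓ hℓ)).mp hd]⟩
  refine ⟨fun ℓ hℓ x hx => ?_, fun H hH => ?_⟩
  · have hN2 := hmul N N hN hN
    obtain ⟨u, hu⟩ := hx _ (hmul ℓ (N * N) (hprime ℓ hℓ) hN2)
    refine ⟨(N * N) • u, fun n hn => ?_, ?_⟩
    · obtain ⟨w, hw⟩ := hx _ (hmul _ n (hmul ℓ (N * N) (hprime ℓ hℓ) hN2) hn)
      have hd : (ℓ * (N * N)) • (u - n • w) = 0 := by
        rw [smul_sub, ← mul_smul, ← hu, ← hw, sub_self]
      have h1 := htor (fun m => φ m (u - n • w)) (fun m m' h => hφg m m' h _)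
        ⟨ℓ * (N * N), ((hIP _).mp (hmul ℓ (N * N) (hprime ℓ hℓ) hN2)).1, fun m => by rw [← map_nsmul, hd, map_zero]⟩
      obtain ⟨c, hc⟩ := hker (fun _ => N • (u - n • w)) (fun m _ _ => ⟨0, by simp⟩)
        (fun m => by rw [map_nsmul]; exact h1 m) ⟨n, hn⟩
      refine ⟨c + (N * N) • w, ?_⟩
      change N • (N • (u - n • w)) = n • c at hc
      rw [smul_add, ← hc, ← mul_smul N N, smul_sub, smul_comm (N * N) n w, sub_add_cancel]
    · rw [← mul_smul, ← hu]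
  · intro x hx n hn
    suffices h : ∃ y ∈ H, x = n • y by obtain ⟨y, -, h⟩ := h; exact ⟨y, h⟩
    induction n using Nat.strong_induction_on generalizing x with
    | _ n ih =>
      rcases eq_or_ne n 1 with rfl | hn1
      · exact ⟨x, hx, (one_smul ℕ x).symm⟩
      have hq := Nat.minFac_prime hn1
      obtain ⟨y, hy, hxy⟩ := hH _ (((hIP n).mp hn).2 _ hq n.minFac_dvd) x hx
      obtain ⟨m, hm⟩ := n.minFac_dvd
      have hn0 := ((hIP n).mp hn).1
      have hm0 : 0 < m := Nat.pos_of_ne_zero (by rintro rfl; simp at hm; omega)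
      have hmn : m < n := by rw [hm]; exact lt_mul_of_one_lt_left hm0 hq.one_lt
      obtain ⟨z, hz, hyz⟩ := ih m hmn y hy ((hIP m).mpr ⟨hm0, fun p hp hd =>
        ((hIP n).mp hn).2 p hp (hd.trans ⟨n.minFac, by rw [mul_comm]; exact hm⟩)⟩)
      exact ⟨z, hz, by rw [hm, mul_smul, ← hyz, hxy]⟩

end Groth.Agent.S16346
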