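import Groth.Statements.S16350
import Groth.Agent.Lib.LefPen45.CubicLine


set_option autoImplicit false
universe u
open Cubic

namespace Groth.Agent.S16350

open Groth.Agent.Lib.LefPen45

/-- Let k be a field of characteristic zero with algebraic closure K and S = V(F) ⊂ P^3 the cubic
surface of a homogeneous cubic F ∈ k[x_0, …, x_3] which is geometrically irreducible and not a cone
(no nonzero vector v has Σ_i v_i ∂F/∂x_i = 0). Then S admits a linear Pfaffian representation over
some intermediate field k ⊆ E ⊆ K of degree [E : k] ≤ 3. A linear Pfaffian representation over E is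
a 6 × 6 alternating matrix M of linear forms in E[x_0, …, x_3] whose Pfaffian is a nonzero constant
multiple of F; since the determinant of an alternating matrix is the square of its Pfaffian and the
polynomial ring is factorial with no nonconstant units, this is the same as det M = c · F^2 for a
nonzero constant c, which is how it is written here. (The published statement adds that E may be
taken inside the reals when k is a subfield of the reals; that clause is not part of this row.) -/
theorem result (k : Type u) [Field k] [CharZero k]
    (F : MvPolynomial (Fin 4) k) (hF : F.IsHomogeneous 3)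
    (hirr : Irreducible (MvPolynomial.map (algebraMap k (AlgebraicClosure k)) F))
    (hcone : ¬ ∃ v : Fin 4 → k, v ≠ 0 ∧ ∑ i : Fin 4, v i • MvPolynomial.pderiv i F = 0) :
    ∃ E : IntermediateField k (AlgebraicClosure k), FiniteDimensional k ↥E ∧ Module.finrank k ↥E ≤ 3 ∧
      ∃ M : Matrix (Fin 6) (Fin 6) (MvPolynomial (Fin 4) ↥E), (∀ i j, (M i j).IsHomogeneous 1) ∧ M.transpose = -M ∧ (∀ i, M i i = 0) ∧
        ∃ c : ↥E, c ≠ 0 ∧ M.det = MvPolynomial.C c * (MvPolynomial.map (algebraMap k ↥E) F) ^ 2 := by
  have hG := CubicPoints.good (K := AlgebraicClosure k) hF hirr hcone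
  obtain ⟨u, v, hv, hgood⟩ := CubicLine.exists_line hG
  let p : Polynomial k := FiniteLines.ln v u F
  have hdeg := FiniteLines.natDegree_ln_le v u hF
  have hp3 : p.coeff 3 ≠ 0 := by rw [hdeg.2]; exact hv
  have hpd : p.natDegree = 3 := le_antisymm hdeg.1 (Polynomial.le_natDegree_of_ne_zero hp3)
  obtain ⟨r, hr⟩ := IsAlgClosed.exists_root (p.map (algebraMap k (AlgebraicClosure k))) (by
    rw [Polynomial.degree_map, Polynomial.degree_eq_natDegree (fun e : p = 0 => hp3 (by simp [e])), hpd]
    decide)
  rw [Polynomial.IsRoot, Polynomial.eval_map, ← Polynomial.aeval_def] at hr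
  have hint : IsIntegral k r := IsAlgebraic.isIntegral ⟨p, fun e => hp3 (by simp [e]), hr⟩
  refine ⟨IntermediateField.adjoin k {r}, IntermediateField.adjoin.finiteDimensional hint, ?_, ?_⟩
  · rw [IntermediateField.adjoin.finrank hint, ← hpd]
    exact Polynomial.natDegree_le_of_dvd (minpoly.dvd k r hr) fun e => hp3 (by simp [e])
  set E := IntermediateField.adjoin k ({r} : Set (AlgebraicClosure k))
  refine CubicLine.rep_of_root hF hG hgood (r := (⟨r, IntermediateField.mem_adjoin_simple_self k r⟩ : E)) ?_
  refine (algebraMap (↥E) (AlgebraicClosure k)).injective ?_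
  rw [map_zero, ← hr, CubicLine.eval_map_line]
  rfl


end Groth.Agent.S16350
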