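import Groth.Statements.S16351


set_option autoImplicit false
universe u
open Cubic

namespace Groth.Agent.S16351

/-- All but one lift of the last vector give four independent vectors. -/
theorem subsingleton_bad {K : Type u} [Field K] (t : Fin 4 → K → K) (u : Fin 4 → Fin 3 → K)
    (ht : ∀ i : Fin 3, ∀ x y, t i.castSucc x = t i.castSucc y) (hlast : ∀ x, t (Fin.last 3) x = x)
    (hu : LinearIndependent K (fun i : Fin 3 => u i.castSucc)) :
    {x : K | ¬ LinearIndependent K (fun i => (Fin.cons (t i x) (u i) : Fin 4 → K))}.Subsingleton := by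
  intro x hx y hy
  simp only [Set.mem_setOf_eq, Fintype.linearIndependent_iff, not_forall] at hx hy
  have key : ∀ z, (∃ a : Fin 4 → K, ∃ (_ : ∑ i, a i • (Fin.cons (t i z) (u i) : Fin 4 → K) = 0),
      ∃ i, ¬a i = 0) → ∃ a : Fin 4 → K, a (Fin.last 3) = 1 ∧
        ∑ i, a i • u i = 0 ∧ ∑ i, a i * t i z = 0 := by
    rintro z ⟨a, ha, i, hi⟩
    have h1 : ∑ i, a i • u i = 0 := by
      funext l
      have := congrFun ha l.succ
      simpa [Finset.sum_apply] using this
    have h2 : ∑ i, a i * t i z = 0 := by
      have := congrFun ha 0
      simpa [Finset.sum_apply] using this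
    have hl : a (Fin.last 3) ≠ 0 := by
      intro h0
      rw [Fin.sum_univ_castSucc, h0, zero_smul, add_zero] at h1
      have := Fintype.linearIndependent_iff.1 hu _ h1
      exact hi (Fin.lastCases h0 this i)
    refine ⟨fun i => (a (Fin.last 3))⁻¹ * a i, inv_mul_cancel₀ hl, ?_, ?_⟩
    · simp only [mul_smul, ← Finset.smul_sum, h1, smul_zero]
    · simp only [mul_assoc, ← Finset.mul_sum, h2, mul_zero]
  obtain ⟨a, a1, a2, a3⟩ := key x hx
  obtain ⟨c, c1, c2, c3⟩ := key y hy
  rw [Fin.sum_univ_castSucc, a1, one_smul] at a2
  rw [Fin.sum_univ_castSucc, c1, one_smul] at c2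
  have heq := Fintype.linearIndependent_iff.1 hu (fun i => a i.castSucc - c i.castSucc) (by
    simp only [sub_smul, Finset.sum_sub_distrib]
    rw [eq_neg_of_add_eq_zero_left a2, eq_neg_of_add_eq_zero_left c2, sub_self])
  rw [Fin.sum_univ_castSucc, a1, hlast, one_mul] at a3
  rw [Fin.sum_univ_castSucc, c1, hlast, one_mul] at c3
  rw [Finset.sum_congr rfl fun i _ => show a i.castSucc * t i.castSucc x =
    c i.castSucc * t i.castSucc y by rw [sub_eq_zero.1 (heq i), ht i x y]] at a3
  linear_combination a3 - c3

/-- Let K be a field of characteristic zero and S = V(F) ⊂ P^3_K a cone over a plane cubic curve C,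
normalised so that the vertex is [1 : 0 : 0 : 0], i.e. F is a homogeneous cubic in K[x_0, …, x_3]
not involving x_0 and C = V(F) in the plane P^2 of the coordinates x_1, x_2, x_3. If C has five
K-rational points no three of which are collinear, then S has five K-rational points in general
position (no four coplanar: any four representing vectors linearly independent). -/
theorem result (K : Type u) [Field K] [CharZero K]
    (G : MvPolynomial (Fin 3) K) (hG : G.IsHomogeneous 3) (F : MvPolynomial (Fin 4) K)
    (hF : F = MvPolynomial.rename Fin.succ G)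
    (b : Fin 5 → (Fin 3 → K)) (hb : ∀ j : Fin 5, MvPolynomial.eval (b j) G = 0)
    (h3 : ∀ i j l : Fin 5, i ≠ j → j ≠ l → i ≠ l → LinearIndependent K ![b i, b j, b l]) :
    ∃ p : Fin 5 → (Fin 4 → K), (∀ j : Fin 5, MvPolynomial.eval (p j) F = 0) ∧
      ∀ j : Fin 5, LinearIndependent K (fun i : Fin 4 => p (j.succAbove i)) := by
  subst hF
  have : Infinite K := Infinite.of_injective (fun n : ℕ => (n : K)) Nat.cast_injective
  let t : Fin 5 → K → K := fun j x => if j = 4 then x else if j = 0 then 1 else 0
  let bad : Fin 4 → Set K := fun j =>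
    {x | ¬ LinearIndependent K (fun i => (Fin.cons (t (j.castSucc.succAbove i) x)
      (b (j.castSucc.succAbove i)) : Fin 4 → K))}
  have hbad : ∀ j : Fin 4, (bad j).Finite := fun j => by
    refine (subsingleton_bad (fun i x => t (j.castSucc.succAbove i) x)
      (fun i => b (j.castSucc.succAbove i)) ?_ ?_ ?_).finite
    · intro i x y
      have : j.castSucc.succAbove i.castSucc ≠ 4 := by revert i j; decide
      simp only [t, if_neg this]
    · intro x
      have : j.castSucc.succAbove (Fin.last 3) = 4 := by revert j; decide
      simp only [t, if_pos this]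
    · have h := h3 (j.castSucc.succAbove 0) (j.castSucc.succAbove 1) (j.castSucc.succAbove 2)
        (by simp) (by simp) (by simp)
      convert h using 1
      funext i
      fin_cases i <;> rfl
  obtain ⟨x, hx⟩ := ((Set.finite_iUnion hbad).infinite_compl).nonempty
  simp only [Set.mem_compl_iff, Set.mem_iUnion, not_exists] at hx
  refine ⟨fun j => Fin.cons (t j x) (b j), fun j => ?_, fun j => ?_⟩
  · rw [MvPolynomial.eval_rename]
    exact hb j
  · induction j using Fin.lastCases with
    | cast j => exact not_not.1 (hx j)
    | last =>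
      rw [Fintype.linearIndependent_iff]
      intro a ha
      have e1 : (4 : Fin 5).succAbove (1 : Fin 4) = 1 := by decide
      have e2 : (4 : Fin 5).succAbove (2 : Fin 4) = 2 := by decide
      have e3 : (4 : Fin 5).succAbove (3 : Fin 4) = 3 := by decide
      have e0 : (4 : Fin 5).succAbove (0 : Fin 4) = 0 := by decide
      have h0 : a 0 = 0 := by
        have := congrFun ha 0
        simpa [Fin.sum_univ_four, t, e0, e1, e2, e3, Fin.reduceLast] using this
      have h1 : ∑ i : Fin 3, a i.succ • b i.succ.castSucc = 0 := by
        funext l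
        have := congrFun ha l.succ
        simpa [Fin.sum_univ_four, Fin.sum_univ_three, e0, e1, e2, e3, Fin.reduceLast, h0] using this
      have := Fintype.linearIndependent_iff.1 (show LinearIndependent K
          (fun i : Fin 3 => b i.succ.castSucc) by
        convert h3 1 2 3 (by decide) (by decide) (by decide) using 1
        funext i
        fin_cases i <;> rfl) _ h1
      exact fun i => Fin.cases h0 this i

end Groth.Agent.S16351
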