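import Groth.Statements.S16352
import Groth.Agent.Lib.LefPen45.Polar
import Mathlib.LinearAlgebra.Projection
import Mathlib.LinearAlgebra.Basis.VectorSpace
import Mathlib.LinearAlgebra.FiniteDimensional.Lemmas
import Mathlib.RingTheory.Ideal.Quotient.Operations
import Mathlib.RingTheory.MvPolynomial.EulerIdentity

set_option autoImplicit false
universe u
open Cubic

namespace Groth.Agent.S16352

open Lib.LefPen45.Polar

/-- Let K be an algebraically closed field of characteristic zero and S = V(F) ⊂ P^3_K a cubic surface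
which is irreducible and not a cone (no nonzero vector v has Σ_i v_i ∂F/∂x_i = 0). Let a be a smooth
point of S which is not a T-point: with ℓ = Σ_i ∂F/∂x_i(a) · x_i the (nonzero) linear form of the
tangent plane T_a S, F is not congruent modulo ℓ to a product of three linear forms (i.e. T_a S ∩ S
is not set-theoretically a union of lines). Let P = Σ_i a_i ∂F/∂x_i be the first polar of a. Then
V(P) ∩ T_a S is a union of at most two lines through a, and every line through a lying on S lies in
V(P) ∩ T_a S; lines are 2-dimensional subspaces of K^4 and T_a S is the 3-dimensional subspace where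
ℓ vanishes. -/
theorem result (K : Type u) [Field K] [IsAlgClosed K] [CharZero K]
    (F : MvPolynomial (Fin 4) K) (hF : F.IsHomogeneous 3) (hirr : Irreducible F)
    (hcone : ¬ ∃ v : Fin 4 → K, v ≠ 0 ∧ ∑ i : Fin 4, v i • MvPolynomial.pderiv i F = 0)
    (a : Fin 4 → K) (ha : a ≠ 0) (hFa : MvPolynomial.eval a F = 0)
    (hsm : ∃ i : Fin 4, MvPolynomial.eval a (MvPolynomial.pderiv i F) ≠ 0)
    (ℓ : MvPolynomial (Fin 4) K)
    (hℓ : ℓ = ∑ i : Fin 4, MvPolynomial.C (MvPolynomial.eval a (MvPolynomial.pderiv i F)) * MvPolynomial.X i)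
    (hT : ¬ ∃ L₁ L₂ L₃ : MvPolynomial (Fin 4) K, L₁.IsHomogeneous 1 ∧ L₂.IsHomogeneous 1 ∧ L₃.IsHomogeneous 1 ∧
      F - L₁ * L₂ * L₃ ∈ Ideal.span {ℓ})
    (P : MvPolynomial (Fin 4) K) (hP : P = ∑ i : Fin 4, a i • MvPolynomial.pderiv i F)
    (H : Submodule K (Fin 4 → K)) (hH : ∀ x : Fin 4 → K, x ∈ H ↔ MvPolynomial.eval x ℓ = 0) :
    (∃ U₁ U₂ : Submodule K (Fin 4 → K), Module.finrank K ↥U₁ = 2 ∧ Module.finrank K ↥U₂ = 2 ∧ a ∈ U₁ ∧ a ∈ U₂ ∧
        U₁ ≤ H ∧ U₂ ≤ H ∧ {x : Fin 4 → K | x ∈ H ∧ MvPolynomial.eval x P = 0} = (U₁ : Set (Fin 4 → K)) ∪ (U₂ : Set (Fin 4 → K))) ∧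
      ∀ U : Submodule K (Fin 4 → K), a ∈ U → Module.finrank K ↥U = 2 → (∀ u ∈ U, MvPolynomial.eval u F = 0) →
        U ≤ H ∧ ∀ u ∈ U, MvPolynomial.eval u P = 0 := by
  classical
  let L : (Fin 4 → K) → K := fun x => ∑ i, MvPolynomial.eval a (MvPolynomial.pderiv i F) * x i
  have hLev : ∀ x, MvPolynomial.eval x ℓ = L x := fun x => by simp [hℓ, L]
  have hLeq : ∀ x, (∑ i, x i * MvPolynomial.eval a (MvPolynomial.pderiv i F)) = L x := fun x =>
    Finset.sum_congr rfl fun i _ => mul_comm _ _
  have hPev : ∀ x, MvPolynomial.eval x P = ∑ i, a i * MvPolynomial.eval x (MvPolynomial.pderiv i F) :=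
    fun x => by simp [hP]
  -- expansion along lines through `a`
  have hexp : ∀ x s, MvPolynomial.eval (fun i => a i * s + x i) F =
      L x * s ^ 2 + MvPolynomial.eval x P * s + MvPolynomial.eval x F := fun x s => by
    rw [cubic_line F hF a x s, hFa, hLeq, hPev]; ring
  have haH : a ∈ H := by
    rw [hH, hLev]
    have := congrArg (MvPolynomial.eval a) hF.sum_X_mul_pderiv
    simp [hFa] at this
    rw [← hLeq]; exact this
  have hshift : ∀ x ∈ H, ∀ t, MvPolynomial.eval (fun i => a i * t + x i) P = MvPolynomial.eval x P := by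
    intro x hx t
    have hxL : L x = 0 := by rw [← hLev]; exact (hH x).1 hx
    have hxt : L (fun i => a i * t + x i) = 0 := by
      have : (fun i => a i * t + x i) = t • a + x := by funext i; simp [mul_comm]
      rw [← hLev]
      exact (hH _).1 (this ▸ H.add_mem (H.smul_mem _ haH) hx)
    have h1 := hexp (fun i => a i * t + x i) 1
    have h2 := hexp x (1 + t)
    rw [hxt, hexp x t, hxL] at h1
    rw [hxL] at h2
    rw [show (fun i => a i * 1 + (a i * t + x i)) = fun i => a i * (1 + t) + x i by funext i; ring] at h1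
    linear_combination h2 - h1
  refine ⟨?_, ?_⟩
  · -- coordinates on the tangent plane
    obtain ⟨i₀, hi₀⟩ := hsm
    let Lm : (Fin 4 → K) →ₗ[K] K :=
      { toFun := L
        map_add' := fun x y => by simp [L, mul_add, Finset.sum_add_distrib]
        map_smul' := fun c x => by simp [L, Finset.mul_sum, mul_left_comm] }
    have hker : H = LinearMap.ker Lm := Submodule.ext fun x => by
      rw [hH, hLev, LinearMap.mem_ker]; rfl
    have hLi : Lm (Pi.single i₀ 1) ≠ 0 := by simpa [Lm, L, Pi.single_apply] using hi₀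
    have hH3 : Module.finrank K H = 3 := by
      have h := LinearMap.finrank_range_add_finrank_ker Lm
      rw [LinearMap.range_eq_top.2 (LinearMap.surjective fun e => hLi (by rw [e]; rfl)),
        finrank_top, Module.finrank_self, ← hker, Module.finrank_fin_fun] at h
      omega
    obtain ⟨W, hW⟩ := Submodule.exists_isCompl (Submodule.span K {(⟨a, haH⟩ : H)})
    have ha' : (⟨a, haH⟩ : H) ≠ 0 := fun h => ha (congrArg Subtype.val h)
    have hW2 : Module.finrank K W = 2 := by
      have := Submodule.finrank_add_eq_of_isCompl hW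
      rw [finrank_span_singleton ha', hH3] at this
      omega
    have : Module.Free K W := Module.Free.of_divisionRing K W
    let bW := Module.finBasisOfFinrankEq K W hW2
    let e : Fin 2 → Fin 4 → K := fun j => ((bW j : H) : Fin 4 → K)
    have heH : ∀ j, e j ∈ H := fun j => (bW j : H).2
    -- projection to the plane and coordinates
    let pr : (Fin 4 → K) →ₗ[K] H := (LinearMap.id - ((Lm (Pi.single i₀ 1))⁻¹ • Lm).smulRight
      (Pi.single i₀ (1 : K))).codRestrict H fun x => by
        rw [hker, LinearMap.mem_ker]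
        simp only [LinearMap.sub_apply, LinearMap.id_apply, LinearMap.smulRight_apply, LinearMap.smul_apply,
          map_sub, map_smul, smul_eq_mul]
        field_simp
        ring
    have hpr : ∀ x ∈ H, (pr x : Fin 4 → K) = x := fun x hx => by
      rw [hker, LinearMap.mem_ker] at hx
      simp [pr, hx]
    let co : H →ₗ[K] K := (LinearEquiv.toSpanNonzeroSingleton K H _ ha').symm.toLinearMap ∘ₗ
      Submodule.projectionOnto _ _ hW
    let cw : Fin 2 → (H →ₗ[K] K) := fun j => bW.coord j ∘ₗ Submodule.projectionOnto _ _ hW.symm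
    have hdec : ∀ h : H, (h : Fin 4 → K) = co h • a + (cw 0 h • e 0 + cw 1 h • e 1) := by
      intro h
      have h1 := Submodule.projection_add_projection_eq_self hW h
      rw [← Submodule.coe_projectionOnto_apply, ← Submodule.coe_projectionOnto_apply] at h1
      have h2 : ((Submodule.projectionOnto _ _ hW h : Submodule.span K {(⟨a, haH⟩ : H)}) : H) =
          co h • (⟨a, haH⟩ : H) := by
        conv_lhs => rw [← (LinearEquiv.toSpanNonzeroSingleton K H _ ha').apply_symm_apply
          (Submodule.projectionOnto _ _ hW h)]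
        rfl
      have h3 : ((Submodule.projectionOnto _ _ hW.symm h : W) : H) =
          cw 0 h • (bW 0 : H) + cw 1 h • (bW 1 : H) := by
        conv_lhs => rw [← bW.sum_repr (Submodule.projectionOnto _ _ hW.symm h)]
        rw [Fin.sum_univ_two]
        rfl
      rw [h2, h3] at h1
      simpa [e] using (congrArg Subtype.val h1).symm
    -- restrictions of `P` and `F` to the complement
    let g : Fin 4 → MvPolynomial (Fin 2) K := fun i =>
      MvPolynomial.C (e 0 i) * MvPolynomial.X 0 + MvPolynomial.C (e 1 i) * MvPolynomial.X 1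
    have hg : ∀ i, (g i).IsHomogeneous 1 := fun i =>
      (MvPolynomial.isHomogeneous_C_mul_X _ _).add (MvPolynomial.isHomogeneous_C_mul_X _ _)
    have hgev : ∀ v : Fin 2 → K, (fun i => MvPolynomial.eval v (g i)) = v 0 • e 0 + v 1 • e 1 := fun v => by
      funext i; simp [g, mul_comm]
    have hPh : P.IsHomogeneous 2 := by
      rw [hP]
      refine MvPolynomial.IsHomogeneous.sum _ _ _ fun i _ => ?_
      rw [MvPolynomial.smul_eq_C_mul]
      exact hF.pderiv.C_mul _
    obtain ⟨α, β, γ, δ, hq⟩ := quad_factor (aeval_linear_isHomogeneous hg hPh)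
    have hPH : ∀ h : H, MvPolynomial.eval (h : Fin 4 → K) P =
        (α * cw 0 h + β * cw 1 h) * (γ * cw 0 h + δ * cw 1 h) := by
      intro h
      have hm : cw 0 h • e 0 + cw 1 h • e 1 ∈ H := H.add_mem (H.smul_mem _ (heH 0)) (H.smul_mem _ (heH 1))
      have e2 : (h : Fin 4 → K) = fun i => a i * co h + (cw 0 h • e 0 + cw 1 h • e 1) i := by
        conv_lhs => rw [hdec h]
        funext i; simp [mul_comm]
      rw [e2, hshift _ hm]
      have := congrArg (MvPolynomial.eval ![cw 0 h, cw 1 h]) hq
      rw [eval_aeval, hgev] at this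
      simpa using this
    have hne : (α ≠ 0 ∨ β ≠ 0) ∧ (γ ≠ 0 ∨ δ ≠ 0) := by
      by_contra hcon
      have hq0 : ∀ h : H, MvPolynomial.eval (h : Fin 4 → K) P = 0 := fun h => by
        rw [hPH h]
        simp only [not_and_or, not_or, not_not] at hcon
        rcases hcon with ⟨h1, h2⟩ | ⟨h1, h2⟩ <;> simp [h1, h2]
      obtain ⟨q₂, hq₂, l, hl, hc⟩ := H68.BinForms.exists_quadratic_factor
        ((MvPolynomial.mem_homogeneousSubmodule _ _).2 (aeval_linear_isHomogeneous hg hF))
      obtain ⟨A, B, C', D, hq₂'⟩ := quad_factor ((MvPolynomial.mem_homogeneousSubmodule _ _).1 hq₂)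
      -- the coordinate forms on the ambient space
      let η : Fin 2 → MvPolynomial (Fin 4) K := fun j =>
        ∑ t, MvPolynomial.C (cw j (pr (Pi.single t 1))) * MvPolynomial.X t
      have hη : ∀ j, (η j).IsHomogeneous 1 := fun j =>
        MvPolynomial.IsHomogeneous.sum _ _ _ fun t _ => MvPolynomial.isHomogeneous_C_mul_X _ t
      have hηev : ∀ j (x : Fin 4 → K), MvPolynomial.eval x (η j) = cw j (pr x) := fun j x => by
        conv_rhs => rw [pi_eq_sum_univ' x]
        simp [η, map_sum, mul_comm]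
      let lc : MvPolynomial (Fin 2) K →ₐ[K] MvPolynomial (Fin 4) K := MvPolynomial.aeval η
      let π : Fin 4 → MvPolynomial (Fin 4) K := fun i =>
        MvPolynomial.X i - MvPolynomial.C ((Lm (Pi.single i₀ 1))⁻¹ * (if i = i₀ then 1 else 0)) * ℓ
      have hπ : ∀ G : MvPolynomial (Fin 4) K, G - MvPolynomial.aeval π G ∈ Ideal.span {ℓ} := by
        intro G
        rw [← Ideal.Quotient.mk_eq_mk_iff_sub_mem]
        have : (Ideal.Quotient.mkₐ K (Ideal.span {ℓ})) =
            (Ideal.Quotient.mkₐ K (Ideal.span {ℓ})).comp (MvPolynomial.aeval π) :=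
          MvPolynomial.algHom_ext fun i => by
            simp only [AlgHom.comp_apply, MvPolynomial.aeval_X, π, map_sub, map_mul, Ideal.Quotient.mkₐ_eq_mk,
              Ideal.Quotient.eq_zero_iff_mem.2 (Ideal.mem_span_singleton_self ℓ), mul_zero, sub_zero]
        exact DFunLike.congr_fun this G
      refine hT ⟨lc l, lc (MvPolynomial.C A * MvPolynomial.X 0 + MvPolynomial.C B * MvPolynomial.X 1),
        lc (MvPolynomial.C C' * MvPolynomial.X 0 + MvPolynomial.C D * MvPolynomial.X 1),
        aeval_linear_isHomogeneous hη ((MvPolynomial.mem_homogeneousSubmodule _ _).1 hl),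
        aeval_linear_isHomogeneous hη ((MvPolynomial.isHomogeneous_C_mul_X _ _).add (MvPolynomial.isHomogeneous_C_mul_X _ _)),
        aeval_linear_isHomogeneous hη ((MvPolynomial.isHomogeneous_C_mul_X _ _).add (MvPolynomial.isHomogeneous_C_mul_X _ _)),
        ?_⟩
      rw [← map_mul, ← map_mul, mul_assoc, ← hq₂', ← hc]
      convert hπ F using 2
      refine MvPolynomial.funext fun x => ?_
      simp only [lc, eval_aeval, hgev, hηev]
      have hπev : (fun i => MvPolynomial.eval x (π i)) = (pr x : Fin 4 → K) := funext fun i => by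
        simp [π, pr, hLev, Lm, Pi.single_apply]
      have hm : cw 0 (pr x) • e 0 + cw 1 (pr x) • e 1 ∈ H :=
        H.add_mem (H.smul_mem _ (heH 0)) (H.smul_mem _ (heH 1))
      have e2 : (pr x : Fin 4 → K) = fun i => a i * co (pr x) + (cw 0 (pr x) • e 0 + cw 1 (pr x) • e 1) i := by
        conv_lhs => rw [hdec (pr x)]
        funext i; simp [mul_comm]
      rw [hπev, e2, hexp, show L _ = 0 from (hLev _).symm.trans ((hH _).1 hm),
        show MvPolynomial.eval _ P = 0 from hq0 ⟨_, hm⟩]
      ring
    -- the two lines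
    have hline : ∀ u v : K, u ≠ 0 ∨ v ≠ 0 → ∃ U : Submodule K (Fin 4 → K), Module.finrank K U = 2 ∧ a ∈ U ∧
        U ≤ H ∧ ∀ h : H, (h : Fin 4 → K) ∈ U ↔ u * cw 0 h + v * cw 1 h = 0 := by
      intro u v huv
      let φ : H →ₗ[K] K := u • cw 0 + v • cw 1
      have hca : ∀ j, cw j ⟨a, haH⟩ = 0 := fun j => by
        simp [cw, Submodule.projectionOnto_apply_right hW.symm
          ⟨(⟨a, haH⟩ : H), Submodule.mem_span_singleton_self _⟩]
      have hcb : ∀ i j, cw i (bW j : H) = if j = i then 1 else 0 := fun i j => by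
        simp [cw, Submodule.projectionOnto_apply_left hW.symm (bW j), Finsupp.single_apply]
      have hφ0 : φ ≠ 0 := fun h0 => by
        have e0 := LinearMap.congr_fun h0 (bW 0 : H)
        have e1 := LinearMap.congr_fun h0 (bW 1 : H)
        simp [φ, hcb] at e0 e1
        exact huv.elim (fun h => h e0) (fun h => h e1)
      refine ⟨(LinearMap.ker φ).map H.subtype, ?_, ⟨⟨a, haH⟩, by simp [φ, hca], rfl⟩,
        Submodule.map_subtype_le _ _, fun h => ?_⟩
      · rw [Submodule.finrank_map_subtype_eq]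
        have := LinearMap.finrank_range_add_finrank_ker φ
        rw [LinearMap.range_eq_top.2 (LinearMap.surjective hφ0), finrank_top, Module.finrank_self, hH3] at this
        omega
      · constructor
        · rintro ⟨h', hh', he⟩
          rw [← Subtype.ext he]
          simpa [φ] using hh'
        · intro hh
          exact ⟨h, by simpa [φ] using hh, rfl⟩
    obtain ⟨U₁, hU₁, ha₁, hU₁H, hm₁⟩ := hline α β hne.1
    obtain ⟨U₂, hU₂, ha₂, hU₂H, hm₂⟩ := hline γ δ hne.2
    refine ⟨U₁, U₂, hU₁, hU₂, ha₁, ha₂, hU₁H, hU₂H, ?_⟩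
    ext x
    constructor
    · rintro ⟨hxH, hx⟩
      rw [hPH ⟨x, hxH⟩] at hx
      exact (mul_eq_zero.1 hx).imp (hm₁ ⟨x, hxH⟩).2 (hm₂ ⟨x, hxH⟩).2
    · rintro (hx | hx)
      · exact ⟨hU₁H hx, by rw [hPH ⟨x, hU₁H hx⟩, (hm₁ ⟨x, hU₁H hx⟩).1 hx, zero_mul]⟩
      · exact ⟨hU₂H hx, by rw [hPH ⟨x, hU₂H hx⟩, (hm₂ ⟨x, hU₂H hx⟩).1 hx, mul_zero]⟩
  · -- lines on the surface
    intro U haU _ hU
    have key : ∀ u ∈ U, L u = 0 ∧ MvPolynomial.eval u P = 0 := by
      intro u hu
      have hs : ∀ s : K, MvPolynomial.eval (fun i => a i * s + u i) F = 0 := fun s => by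
        have : (fun i => a i * s + u i) = s • a + u := by funext i; simp [mul_comm]
        rw [this]; exact hU _ (U.add_mem (U.smul_mem _ haU) hu)
      have h1 := (hexp u 1).symm.trans (hs 1)
      have h2 := (hexp u (-1)).symm.trans (hs (-1))
      rw [hU u hu] at h1 h2
      exact ⟨by linear_combination (h1 + h2) / 2, by linear_combination (h1 - h2) / 2⟩
    exact ⟨fun u hu => (hH u).2 ((hLev u).trans (key u hu).1), fun u hu => (key u hu).2⟩

end Groth.Agent.S16352
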