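import Groth.Statements.S16353
import Mathlib.Data.Nat.Factorial.Basic
import Mathlib.RingTheory.MvPolynomial.Homogeneous


set_option autoImplicit false
universe u
open DegLoci

namespace Groth.Agent.S16353

/-- Product of descending factorials. -/
def descP {m : ℕ} (β α : Fin m →₀ ℕ) : ℕ := ∏ i, (β i).descFactorial (α i)

theorem coeff_contract {k : Type u} [Field k] {m : ℕ} (D G : MvPolynomial (Fin m) k) (γ : Fin m →₀ ℕ) :
    MvPolynomial.coeff γ (W4c3degenlocivb.contract D G) =
      ∑ α ∈ D.support, MvPolynomial.coeff α D * (MvPolynomial.coeff (γ + α) G * (descP (γ + α) α : k)) := by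
  classical
  rw [W4c3degenlocivb.contract, MvPolynomial.coeff_sum]
  refine Finset.sum_congr rfl fun α _ => ?_
  rw [MvPolynomial.coeff_sum, Finset.sum_eq_single (γ + α)]
  · rw [if_pos le_add_self, add_tsub_cancel_right, MvPolynomial.coeff_monomial, if_pos rfl, mul_assoc]
    congr 3
    refine Finset.prod_subset (Finset.subset_univ _) fun i _ hi => ?_
    have h0 : (γ + α) i = 0 := Finsupp.notMem_support_iff.mp hi
    have h1 : α i = 0 := by rw [Finsupp.add_apply] at h0; omega
    rw [h0, h1, Nat.descFactorial_zero]
  · intro β _ hne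
    split_ifs with hle
    · rw [MvPolynomial.coeff_monomial, if_neg]
      intro he
      exact hne (by rw [← he, tsub_add_cancel_of_le hle])
    · exact MvPolynomial.coeff_zero _
  · intro hn
    rw [MvPolynomial.notMem_support_iff.mp hn]
    simp

theorem coeff_contract_monomial {k : Type u} [Field k] {m : ℕ} (F : MvPolynomial (Fin m) k) (α γ : Fin m →₀ ℕ) :
    MvPolynomial.coeff γ (W4c3degenlocivb.contract (MvPolynomial.monomial α 1) F) =
      MvPolynomial.coeff (γ + α) F * (descP (γ + α) α : k) := by
  classical
  rw [coeff_contract, MvPolynomial.support_monomial, if_neg one_ne_zero, Finset.sum_singleton,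
    MvPolynomial.coeff_monomial, if_pos rfl, one_mul]

/-- Let k be a field of characteristic zero, R = k[y_0, …, y_{m−1}] acting on S = k[∂_0, …, ∂_{m−1}] by
apolarity (y_i acts as the derivative with respect to ∂_i), F ∈ S homogeneous of degree e and d ≤ e.
Then the degree-d part of the apolar ideal of F is the orthogonal complement of the partial
derivatives of F of order e − d: a homogeneous D ∈ R_d satisfies D(F) = 0 if and only if D(y^α(F)) =
0 for every multi-index α with |α| = e − d (each D(y^α(F)) being a constant, the value of the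
apolarity pairing of D with y^α(F)). -/
theorem result (k : Type u) [Field k] [CharZero k] (m : ℕ)
    (F : MvPolynomial (Fin m) k) (e : ℕ) (hF : F.IsHomogeneous e) (d : ℕ) (hd : d ≤ e)
    (D : MvPolynomial (Fin m) k) (hD : D.IsHomogeneous d) :
    W4c3degenlocivb.contract D F = 0 ↔
      ∀ α : Fin m →₀ ℕ, α.degree = e - d → W4c3degenlocivb.contract D (W4c3degenlocivb.contract (MvPolynomial.monomial α 1) F) = 0 := by
  classical
  have hdeg : ∀ (δ : Fin m →₀ ℕ), MvPolynomial.coeff δ D ≠ 0 → δ.degree = d := fun δ h => by
    have := hD h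
    rwa [Finsupp.degree_eq_weight_one]
  have hdegF : ∀ (δ : Fin m →₀ ℕ), δ.degree ≠ e → MvPolynomial.coeff δ F = 0 := fun δ h => by
    by_contra hne
    refine h ?_
    have := hF hne
    rwa [Finsupp.degree_eq_weight_one]
  have key : ∀ α : Fin m →₀ ℕ,
      MvPolynomial.coeff 0 (W4c3degenlocivb.contract D (W4c3degenlocivb.contract (MvPolynomial.monomial α 1) F)) =
        MvPolynomial.coeff α (W4c3degenlocivb.contract D F) * ((∏ i, (α i).factorial : ℕ) : k) := by
    intro α
    rw [coeff_contract, coeff_contract, Finset.sum_mul]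
    refine Finset.sum_congr rfl fun δ _ => ?_
    rw [coeff_contract_monomial, zero_add, add_comm δ α]
    simp only [mul_assoc, ← Nat.cast_mul]
    congr 3
    simp only [descP, ← Finset.prod_mul_distrib]
    refine Finset.prod_congr rfl fun i _ => ?_
    have h1 := Nat.factorial_mul_descFactorial (show α i ≤ α i + δ i by omega)
    have h2 := Nat.factorial_mul_descFactorial (show δ i ≤ α i + δ i by omega)
    simp only [Nat.add_sub_cancel_left, Nat.add_sub_cancel] at h1 h2
    simp only [Finsupp.add_apply, Nat.descFactorial_self]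
    rw [mul_comm, h1, mul_comm, h2]
  have hz : ∀ (α γ : Fin m →₀ ℕ) (δ : Fin m →₀ ℕ), MvPolynomial.coeff δ D ≠ 0 → γ.degree + α.degree + d ≠ e →
      MvPolynomial.coeff (γ + δ + α) F = 0 := fun α γ δ hδ hne => hdegF _ (by
    rw [map_add, map_add, hdeg δ hδ]; omega)
  constructor
  · intro h α hα
    refine MvPolynomial.ext _ _ fun γ => ?_
    rcases eq_or_ne γ 0 with rfl | hγ
    · rw [key, h]; simp
    · rw [coeff_contract, MvPolynomial.coeff_zero]
      refine Finset.sum_eq_zero fun δ hδ => ?_
      have : γ.degree ≠ 0 := fun h0 => hγ (Finsupp.degree_eq_zero_iff γ |>.mp h0)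
      rw [coeff_contract_monomial, hz α γ δ (MvPolynomial.mem_support_iff.mp hδ) (by omega)]
      simp
  · intro h
    refine MvPolynomial.ext _ _ fun α => ?_
    rw [MvPolynomial.coeff_zero]
    rcases eq_or_ne α.degree (e - d) with hα | hα
    · have h0 := key α
      rw [h α hα, MvPolynomial.coeff_zero] at h0
      refine (mul_eq_zero.mp h0.symm).resolve_right (Nat.cast_ne_zero.mpr ?_)
      exact Finset.prod_ne_zero_iff.mpr fun i _ => Nat.factorial_ne_zero _
    · rw [coeff_contract]
      refine Finset.sum_eq_zero fun δ hδ => ?_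
      rw [hdegF (α + δ) (by rw [map_add, hdeg δ (MvPolynomial.mem_support_iff.mp hδ)]; omega)]
      simp


end Groth.Agent.S16353
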