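import Groth.Statements.S16355
import Mathlib.LinearAlgebra.Matrix.NonsingularInverse
import Mathlib.RingTheory.MvPolynomial.Homogeneous

set_option autoImplicit false
universe u
open DegLoci

namespace Groth.Agent.S16355


section Aux

open MvPolynomial W4c3degenlocivb

/-- Pfaffians commute with ring maps. -/
private theorem pf_map {R S : Type*} [CommRing R] [CommRing S] (φ : R →+* S) :
    ∀ (n : ℕ) (T : Matrix (Fin n) (Fin n) R), φ (pf n T) = pf n (T.map φ)
  | 0, _ => by simp [pf]
  | 1, _ => by simp [pf]
  | n + 2, T => by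
    simp only [pf, map_sum, map_mul, map_pow, map_neg, map_one, pf_map φ n, Matrix.map_apply,
      Matrix.submatrix_map]

/-- The Pfaffian of a matrix of linear forms of size `2m` has degree `m`. -/
private theorem pf_isHomogeneous {R : Type*} [CommRing R] {σ : Type*} :
    ∀ (m : ℕ) (T : Matrix (Fin (2 * m)) (Fin (2 * m)) (MvPolynomial σ R)),
      (∀ a b, (T a b).IsHomogeneous 1) → (pf (2 * m) T).IsHomogeneous m
  | 0, _, _ => by simpa [pf] using isHomogeneous_one σ R
  | m + 1, T, hT => by
    show (pf (2 * m + 2) T).IsHomogeneous (m + 1)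
    simp only [pf]
    refine IsHomogeneous.sum _ _ _ fun j _ => ?_
    have h := (((isHomogeneous_one σ R).neg.pow ((j : ℕ) + 1)).mul
      (hT (Fin.last (2 * m + 1)) j.castSucc)).mul (pf_isHomogeneous m _ fun a b => hT
        ((Fin.castSucc ∘ j.succAbove) a) ((Fin.castSucc ∘ j.succAbove) b))
    rwa [zero_mul, zero_add, add_comm 1 m] at h

/-- The tridiagonal alternating matrix. -/
private def tri {R : Type*} [CommRing R] (n : ℕ) (f : ℕ → R) : Matrix (Fin n) (Fin n) R :=
  Matrix.of fun a b => if (a : ℕ) + 1 = b then f a else if (b : ℕ) + 1 = a then -f b else 0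

private theorem pf_tri {R : Type*} [CommRing R] (f : ℕ → R) :
    ∀ m, pf (2 * m) (tri (2 * m) f) = ∏ t ∈ Finset.range m, f (2 * t)
  | 0 => by simp [pf]
  | m + 1 => by
    show pf (2 * m + 2) _ = _
    simp only [pf]
    rw [Finset.sum_eq_single (Fin.last (2 * m))]
    · have e : (tri (2 * m + 2) f).submatrix (Fin.castSucc ∘ (Fin.last (2 * m)).succAbove)
          (Fin.castSucc ∘ (Fin.last (2 * m)).succAbove) = tri (2 * m) f := by
        funext a b
        simp [tri, Fin.succAbove_last]
      rw [show (tri (2 * (m + 1)) f) = tri (2 * m + 2) f from rfl, e, pf_tri f m, Finset.prod_range_succ]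
      have h1 : ¬ (2 * m + 1 + 1 = 2 * m) := by omega
      simp [tri, h1, pow_succ, pow_mul]
      ring
    · intro j _ hj
      have hj' : (j : ℕ) < 2 * m := by
        have := j.isLt
        have : (j : ℕ) ≠ 2 * m := fun h => hj (Fin.ext h)
        omega
      have h1 : ¬ (2 * m + 1 + 1 = (j : ℕ)) := by omega
      have h2 : ¬ ((j : ℕ) + 1 = 2 * m + 1) := by omega
      simp [tri, h1, h2]
      intro
      omega
    · simp

/-- The exponent `(l, r - l)`. -/
private noncomputable def ex (r : ℕ) (l : Fin (r + 1)) : Fin 2 →₀ ℕ :=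
  Finsupp.single 0 (l : ℕ) + Finsupp.single 1 (r - l)

private theorem ex_injective (r : ℕ) : Function.Injective (ex r) := fun a b h => by
  have := congrArg (fun m => m 0) h
  simp [ex] at this
  exact Fin.ext this

private theorem eq_sum_ex {k : Type*} [CommRing k] {r : ℕ} {F : MvPolynomial (Fin 2) k}
    (hF : F.IsHomogeneous r) : F = ∑ l, coeff (ex r l) F • monomial (ex r l) 1 := by
  classical
  ext m
  rw [coeff_sum]
  simp only [coeff_smul, coeff_monomial, smul_eq_mul, mul_ite, mul_one, mul_zero]
  by_cases hm : ∃ l, ex r l = m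
  · obtain ⟨l, rfl⟩ := hm
    rw [Finset.sum_eq_single l] <;> simp +contextual [(ex_injective r).eq_iff]
  · push Not at hm
    rw [Finset.sum_eq_zero fun l _ => by simp [hm l]]
    by_contra hne
    have hdeg : m 0 + m 1 = r := by
      have := hF hne
      rw [Finsupp.weight_apply, Finsupp.sum_fintype _ _ (by simp)] at this
      simpa [Fin.sum_univ_two] using this
    refine hm ⟨m 0, by omega⟩ (Finsupp.ext fun i => ?_)
    fin_cases i <;> simp [ex]
    omega

end Aux

/-- Let k be an algebraically closed field of characteristic zero and n = 2r + 1 ≥ 3 odd. For a general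
n × n alternating matrix N of linear forms in k[y_0, y_1], the n principal sub-Pfaffians of size n −
1 (delete row i and column i, take the Pfaffian) span the whole space k[y_0, y_1]_r of binary forms
of degree r. Here such matrices are parametrised by antisymmetric coefficient arrays c (entry (i, j)
of N is Σ_l c_{i j l} y_l with c_{j i l} = −c_{i j l}), and 'general' means: outside the zero set of
some polynomial Φ in the coefficients which does not vanish at every antisymmetric array. -/
theorem result (k : Type u) [Field k] [IsAlgClosed k] [CharZero k]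
    (r : ℕ) (hr : 1 ≤ r) :
    ∃ Φ : MvPolynomial (Fin (2 * r + 1) × Fin (2 * r + 1) × Fin 2) k,
      (∃ c : Fin (2 * r + 1) → Fin (2 * r + 1) → Fin 2 → k, (∀ i j l, c j i l = -c i j l) ∧
        MvPolynomial.eval (fun p => c p.1 p.2.1 p.2.2) Φ ≠ 0) ∧
      ∀ c : Fin (2 * r + 1) → Fin (2 * r + 1) → Fin 2 → k, (∀ i j l, c j i l = -c i j l) →
        MvPolynomial.eval (fun p => c p.1 p.2.1 p.2.2) Φ ≠ 0 →
        Submodule.span k (Set.range fun i : Fin (2 * r + 1) =>
            W4c3degenlocivb.pf (2 * r) ((Matrix.of fun a b => ∑ l : Fin 2, MvPolynomial.C (c a b l) * MvPolynomial.X l).submatrix i.succAbove i.succAbove)) =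
          MvPolynomial.homogeneousSubmodule (Fin 2) k r := by
  classical
  let V := Fin (2 * r + 1) × Fin (2 * r + 1) × Fin 2
  let ev : Fin (r + 1) → Fin (2 * r + 1) := fun j => ⟨2 * (j : ℕ), by omega⟩
  -- the generic coefficient matrix
  let Ng : Matrix (Fin (2 * r + 1)) (Fin (2 * r + 1)) (MvPolynomial (Fin 2) (MvPolynomial V k)) :=
    Matrix.of fun a b => ∑ l : Fin 2, MvPolynomial.C (MvPolynomial.X (a, b, l)) * MvPolynomial.X l
  let Q : Matrix (Fin (r + 1)) (Fin (r + 1)) (MvPolynomial V k) := Matrix.of fun j l =>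
    MvPolynomial.coeff (ex r l)
      (W4c3degenlocivb.pf (2 * r) (Ng.submatrix (ev j).succAbove (ev j).succAbove))
  let sub : (Fin (2 * r + 1) → Fin (2 * r + 1) → Fin 2 → k) → Fin (2 * r + 1) → MvPolynomial (Fin 2) k :=
    fun c i => W4c3degenlocivb.pf (2 * r) ((Matrix.of fun a b => ∑ l : Fin 2,
      MvPolynomial.C (c a b l) * MvPolynomial.X l).submatrix i.succAbove i.succAbove)
  have hQ : ∀ c, Q.map (MvPolynomial.eval fun p : V => c p.1 p.2.1 p.2.2) =
      Matrix.of fun j l => MvPolynomial.coeff (ex r l) (sub c (ev j)) := by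
    intro c
    funext j l
    simp only [Q, sub, Matrix.map_apply, Matrix.of_apply, ← MvPolynomial.coeff_map, pf_map]
    congr 1
    congr 1
    funext a b
    simp [Ng]
  refine ⟨Q.det, ?_, fun c hc hne => ?_⟩
  · let f : ℕ → MvPolynomial (Fin 2) k := fun a => if Even a then MvPolynomial.X 0 else MvPolynomial.X 1
    let c : Fin (2 * r + 1) → Fin (2 * r + 1) → Fin 2 → k := fun a b l =>
      if (a : ℕ) + 1 = b then (if (Even (a : ℕ) ↔ l = 0) then 1 else 0)
      else if (b : ℕ) + 1 = a then -(if (Even (b : ℕ) ↔ l = 0) then 1 else 0) else 0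
    refine ⟨c, fun i j l => ?_, ?_⟩
    · by_cases h1 : (i : ℕ) + 1 = j
      · have h2 : ¬ (j : ℕ) + 1 = i := by omega
        simp [c, h1, h2]
      · by_cases h2 : (j : ℕ) + 1 = i <;> simp [c, h1, h2]
    · rw [RingHom.map_det, RingHom.mapMatrix_apply, hQ]
      suffices hone : ∀ j, sub c (ev j) = MvPolynomial.monomial (ex r j) 1 by
        have : (Matrix.of fun j l => MvPolynomial.coeff (ex r l) (sub c (ev j))) =
            (1 : Matrix (Fin (r + 1)) (Fin (r + 1)) k) := by
          funext j l
          simp [hone, MvPolynomial.coeff_monomial, Matrix.one_apply, (ex_injective r).eq_iff]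
        rw [this, Matrix.det_one]
        exact one_ne_zero
      intro j
      let f' : ℕ → MvPolynomial (Fin 2) k := fun a =>
        if a + 1 < 2 * (j : ℕ) then f a else if a + 1 = 2 * (j : ℕ) then 0 else f (a + 1)
      have hN : (Matrix.of fun a b => ∑ l : Fin 2, MvPolynomial.C (c a b l) * MvPolynomial.X l) =
          tri (2 * r + 1) f := by
        funext a b
        by_cases h1 : (a : ℕ) + 1 = b
        · by_cases he : Even (a : ℕ) <;> simp [c, tri, f, h1, he, Fin.sum_univ_two]
        · by_cases h2 : (b : ℕ) + 1 = a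
          · by_cases he : Even (b : ℕ) <;> simp [c, tri, f, h1, h2, he, Fin.sum_univ_two]
          · simp [c, tri, h1, h2]
      have hval : ∀ a : Fin (2 * r), (((ev j).succAbove a : Fin (2 * r + 1)) : ℕ) =
          if (a : ℕ) < 2 * (j : ℕ) then (a : ℕ) else (a : ℕ) + 1 := by
        intro a
        simp only [Fin.succAbove, ev, Fin.lt_def, Fin.val_castSucc]
        split_ifs <;> simp
      have hsub : (tri (2 * r + 1) f).submatrix (ev j).succAbove (ev j).succAbove = tri (2 * r) f' := by
        funext a b
        simp only [tri, Matrix.submatrix_apply, Matrix.of_apply, hval, f']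
        split_ifs <;> first | rfl | (exfalso; omega) | (simp) | (congr 1; omega)
      have e0 : ∀ t ∈ Finset.range (j : ℕ), f' (2 * t) = (MvPolynomial.X 0 : MvPolynomial (Fin 2) k) :=
        fun t ht => by
          have := Finset.mem_range.1 ht
          simp [f', f, show 2 * t + 1 < 2 * (j : ℕ) by omega]
      have e1 : ∀ t ∈ Finset.Ico (j : ℕ) r, f' (2 * t) = (MvPolynomial.X 1 : MvPolynomial (Fin 2) k) :=
        fun t ht => by
          have := (Finset.mem_Ico.1 ht).1
          simp [f', f, show ¬ 2 * t + 1 < 2 * (j : ℕ) by omega, show ¬ 2 * t + 1 = 2 * (j : ℕ) by omega]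
      simp only [sub]
      rw [hN, hsub, pf_tri, ← Finset.prod_range_mul_prod_Ico _ (show (j : ℕ) ≤ r by omega),
        Finset.prod_congr rfl e0, Finset.prod_congr rfl e1]
      · rw [Finset.prod_const, Finset.prod_const, Finset.card_range, Nat.card_Ico,
          MvPolynomial.X_pow_eq_monomial, MvPolynomial.X_pow_eq_monomial, MvPolynomial.monomial_mul, one_mul]
        rfl
  · have hlin : ∀ i, (sub c i).IsHomogeneous r := fun i => pf_isHomogeneous r _ fun a b => by
      simp only [Matrix.submatrix_apply, Matrix.of_apply]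
      exact MvPolynomial.IsHomogeneous.sum _ _ _ fun l _ => MvPolynomial.isHomogeneous_C_mul_X _ l
    refine le_antisymm (Submodule.span_le.2 ?_) fun F hF => ?_
    · rintro _ ⟨i, rfl⟩
      exact (MvPolynomial.mem_homogeneousSubmodule _ _).2 (hlin i)
    rw [RingHom.map_det, RingHom.mapMatrix_apply, hQ] at hne
    set A := Matrix.of fun j l => MvPolynomial.coeff (ex r l) (sub c (ev j)) with hA
    have hinv : A⁻¹ * A = 1 := Matrix.nonsing_inv_mul A (Ne.isUnit hne)
    rw [eq_sum_ex ((MvPolynomial.mem_homogeneousSubmodule _ _).1 hF)]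
    refine Submodule.sum_mem _ fun l _ => Submodule.smul_mem _ _ ?_
    have : MvPolynomial.monomial (ex r l) (1 : k) = ∑ j, A⁻¹ l j • sub c (ev j) := by
      have e : ∀ j, sub c (ev j) = ∑ l', A j l' • MvPolynomial.monomial (ex r l') (1 : k) := fun j => by
        simp only [hA, Matrix.of_apply]
        exact eq_sum_ex (hlin _)
      rw [Finset.sum_congr rfl fun j _ => by rw [e j, Finset.smul_sum], Finset.sum_comm,
        Finset.sum_eq_single l]
      · simp only [smul_smul, ← Finset.sum_smul, ← Matrix.mul_apply, hinv, Matrix.one_apply_eq, one_smul]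
      · intro l' _ hl'
        simp only [smul_smul, ← Finset.sum_smul, ← Matrix.mul_apply, hinv,
          Matrix.one_apply_ne hl'.symm, zero_smul]
      · simp
    rw [this]
    exact Submodule.sum_mem _ fun j _ => Submodule.smul_mem _ _ (Submodule.subset_span ⟨ev j, rfl⟩)

end Groth.Agent.S16355
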