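import Groth.Statements.S16356
import Mathlib.NumberTheory.Multiplicity
import Mathlib.RingTheory.WittVector.DiscreteValuationRing
import Mathlib.RingTheory.WittVector.Domain
-- import your own Groth.Agent.* helpers here

set_option autoImplicit false
universe u
open OrdAV

namespace Groth.Agent.S16356

/-- For an odd prime p and a perfect field k of characteristic p, a root of unity in the ring of Witt
vectors W(k) whose residue in k is 1 is itself 1: if x ^ n = 1 with n ≥ 1 and the zeroth Witt
component of x is 1, then x = 1. (For p = 2 this fails: -1 in W(F_2).) -/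
theorem result (p : ℕ) [Fact p.Prime] (hp : p ≠ 2)
    (k : Type u) [Field k] [CharP k p] [PerfectRing k p]
    (x : WittVector p k) (n : ℕ) (hn : 0 < n) (hx : x ^ n = 1) (h0 : x.coeff 0 = 1) : x = 1 := by
  have hpP : p.Prime := Fact.out
  have hinj : ∀ y : WittVector p k, IsUnit y ↔ y.coeff 0 ≠ 0 := fun y =>
    ⟨fun h => by
      have := h.map (WittVector.constantCoeff : WittVector p k →+* k)
      exact this.ne_zero, fun h => WittVector.isUnit_of_coeff_zero_ne_zero y h⟩
  have hc : ∀ y : WittVector p k, (WittVector.constantCoeff : WittVector p k →+* k) y = y.coeff 0 := fun _ => rfl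
  have hcp : (WittVector.constantCoeff : WittVector p k →+* k) (p : WittVector p k) = 0 := by
    rw [map_natCast, CharP.cast_eq_zero]
  have hp0 : (p : WittVector p k) ≠ 0 := WittVector.p_nonzero p k
  -- roots of unity of order prime to `p`
  have hcop : ∀ (y : WittVector p k) (m : ℕ), ¬ p ∣ m → y ^ m = 1 → y.coeff 0 = 1 → y = 1 := by
    intro y m hm hy hy0
    have hg : IsUnit (∑ i ∈ Finset.range m, y ^ i) := by
      rw [hinj, ← hc, map_sum]
      simp only [map_pow, hc y, hy0, one_pow, Finset.sum_const, Finset.card_range, nsmul_eq_mul, mul_one]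
      rwa [Ne, CharP.cast_eq_zero_iff k p]
    have h := geom_sum_mul y m
    rw [hy, sub_self, hg.mul_right_eq_zero, sub_eq_zero] at h
    exact h
  -- roots of unity of order `p`
  have hord : ∀ y : WittVector p k, y ^ p = 1 → y.coeff 0 = 1 → y = 1 := by
    intro y hy hy0
    have hy1 : (y - 1).coeff 0 = 0 := by rw [← hc, map_sub, map_one, hc, hy0, sub_self]
    obtain ⟨z, hz⟩ : (p : WittVector p k) ∣ y - 1 := by
      rcases eq_or_ne (y - 1) 0 with h | h
      · rw [h]; exact dvd_zero _
      obtain ⟨m, b, hb⟩ := WittVector.exists_eq_pow_p_mul' (y - 1) h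
      rcases m with _ | m
      · rw [pow_zero, one_mul] at hb
        exact absurd hy1 ((hinj _).1 (hb ▸ b.isUnit))
      · exact ⟨(p : WittVector p k) ^ m * b, by rw [hb, pow_succ']; ring⟩
    have h := geom_sum_mul y p
    rw [hy, sub_self] at h
    obtain ⟨c, hc'⟩ := odd_sq_dvd_geom_sum₂_sub (a := (1 : WittVector p k)) (b := z) (p := p) (hpP.odd_of_ne_two hp)
    have hy2 : (1 : WittVector p k) + p * z = y := by rw [← hz]; ring
    simp only [hy2, one_pow, mul_one] at hc'
    have hsum : ∑ i ∈ Finset.range p, y ^ i = (p : WittVector p k) * (1 + p * c) := by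
      linear_combination hc'
    have hu : IsUnit (1 + (p : WittVector p k) * c) := by
      rw [hinj, ← hc, map_add, map_one, map_mul, hcp, zero_mul, add_zero]
      exact one_ne_zero
    rw [hsum, mul_eq_zero] at h
    rcases h with h | h
    · exact absurd h (mul_ne_zero hp0 hu.ne_zero)
    · rwa [sub_eq_zero] at h
  -- descent
  have hmain : ∀ (a : ℕ) (y : WittVector p k), y ^ (p ^ a) = 1 → y.coeff 0 = 1 → y = 1 := by
    intro a
    induction a with
    | zero => intro y hy _; simpa using hy
    | succ a ih =>
      intro y hy hy0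
      refine hord y (ih (y ^ p) (by rw [← pow_mul, ← pow_succ']; exact hy) ?_) hy0
      rw [← hc, map_pow, hc, hy0, one_pow]
  obtain ⟨a, m, hm, rfl⟩ := Nat.exists_eq_pow_mul_and_not_dvd hn.ne' p hpP.ne_one
  refine hmain a x (hcop (x ^ (p ^ a)) m hm (by rw [← pow_mul]; exact hx) ?_) h0
  rw [← hc, map_pow, hc, h0, one_pow]

end Groth.Agent.S16356
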