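import Groth.Statements.S16357
import Mathlib.FieldTheory.Perfect
import Mathlib.FieldTheory.Separable
import Mathlib.RingTheory.Polynomial.UniqueFactorization
import Mathlib.RingTheory.PrincipalIdealDomain
import Mathlib.RingTheory.Radical.Basic
-- import your own Groth.Agent.* helpers here

set_option autoImplicit false
universe u
open OrdAV

namespace Groth.Agent.S16357

/-- Over a field L of characteristic zero, a monic polynomial h whose square has rational coefficients
has rational coefficients itself. -/
theorem result (L : Type u) [Field L] [CharZero L]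
    (h : Polynomial L) (hm : h.Monic) (f : Polynomial ℚ)
    (hf : h ^ 2 = Polynomial.map (algebraMap ℚ L) f) :
    ∃ g : Polynomial ℚ, Polynomial.map (algebraMap ℚ L) g = h := by
  induction hN : f.natDegree using Nat.strong_induction_on generalizing h f with
  | _ N ih =>
    have hfm : f.Monic := by
      have h1 := hm.pow 2
      rw [hf] at h1
      exact Polynomial.monic_of_injective (algebraMap ℚ L).injective h1
    by_cases h0 : h.natDegree = 0
    · exact ⟨1, by rw [Polynomial.map_one, hm.natDegree_eq_zero.1 h0]⟩
    have hdeg : f.natDegree = 2 * h.natDegree := by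
      have h1 := congrArg Polynomial.natDegree hf
      rw [Polynomial.natDegree_map, Polynomial.natDegree_pow] at h1
      omega
    obtain ⟨q, hqm, hq, hqf⟩ := Polynomial.exists_monic_irreducible_factor f
      (Polynomial.not_isUnit_of_natDegree_pos f (by omega))
    have hsf : Squarefree (q.map (algebraMap ℚ L)) := (hq.separable.map).squarefree
    have hqh : q.map (algebraMap ℚ L) ∣ h :=
      hsf.isRadical 2 h (hf ▸ Polynomial.map_dvd (algebraMap ℚ L) hqf)
    obtain ⟨h', rfl⟩ := hqh
    have hm' : h'.Monic := (hqm.map _).of_mul_monic_left hm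
    obtain ⟨f₁, rfl⟩ := hqf
    have hq0 : q.map (algebraMap ℚ L) ≠ 0 := (hqm.map _).ne_zero
    have hf₁ : q.map (algebraMap ℚ L) * h' ^ 2 = f₁.map (algebraMap ℚ L) := by
      apply mul_left_cancel₀ hq0
      rw [Polynomial.map_mul] at hf
      rw [← hf]; ring
    obtain ⟨f₂, rfl⟩ : q ∣ f₁ :=
      (Polynomial.map_dvd_map (algebraMap ℚ L) (algebraMap ℚ L).injective hqm).1 ⟨h' ^ 2, hf₁.symm⟩
    have hf₂ : h' ^ 2 = f₂.map (algebraMap ℚ L) := by
      apply mul_left_cancel₀ hq0
      rw [Polynomial.map_mul] at hf₁
      exact hf₁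
    have hlt : f₂.natDegree < N := by
      have hq1 := hq.natDegree_pos
      have hf2 : f₂ ≠ 0 := fun h0 => by simp [h0, hm'.ne_zero] at hf₂
      rw [← hN, Polynomial.natDegree_mul hqm.ne_zero (mul_ne_zero hqm.ne_zero hf2),
        Polynomial.natDegree_mul hqm.ne_zero hf2]
      omega
    obtain ⟨g, hg⟩ := ih _ hlt h' hm' f₂ hf₂ rfl
    exact ⟨q * g, by rw [Polynomial.map_mul, hg]⟩

end Groth.Agent.S16357
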