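import Groth.Statements.S16358
import Mathlib.RingTheory.WittVector.Domain
import Mathlib.LinearAlgebra.TensorProduct.Quotient
-- import your own Groth.Agent.* helpers here

set_option autoImplicit false
universe u v w
open OrdAV

namespace Groth.Agent.S16358

/-- Let k be a perfect field of characteristic p > 0 and W = W(k); let M be a finitely generated free
W-module on which a finite group G acts W-linearly, with invariant submodule M^G. Then the map
(W/pW) ⊗ M^G → (W/pW) ⊗ M induced by the inclusion is injective. Since M^G is free, this implies
rank_W M^G ≤ dim_k (M/pM)^G; the published statement is that inequality, and this row states the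
stronger injectivity. -/
theorem result (p : ℕ) [Fact p.Prime]
    (k : Type u) [Field k] [CharP k p] [PerfectRing k p]
    (M : Type v) [AddCommGroup M] [Module (WittVector p k) M]
    [Module.Free (WittVector p k) M] [Module.Finite (WittVector p k) M]
    (G : Type w) [Group G] [Finite G] (ρ : Representation (WittVector p k) G M) :
    Function.Injective
      (LinearMap.lTensor (WittVector p k ⧸ Ideal.span {(p : WittVector p k)}) ρ.invariants.subtype) := by
  set W := WittVector p k
  set I := Ideal.span {(p : W)}
  rw [← LinearMap.ker_eq_bot, LinearMap.ker_eq_bot']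
  intro z hz
  obtain ⟨m, rfl⟩ : ∃ m : ρ.invariants, (Ideal.Quotient.mk I 1) ⊗ₜ[W] m = z :=
    TensorProduct.mk_surjective W ρ.invariants (W ⧸ I) Ideal.Quotient.mk_surjective z
  have h1 := congrArg (TensorProduct.quotTensorEquivQuotSMul M I) hz
  rw [LinearMap.lTensor_tmul, TensorProduct.quotTensorEquivQuotSMul_mk_tmul, one_smul, map_zero,
    Submodule.Quotient.mk_eq_zero, Submodule.ideal_span_singleton_smul] at h1
  obtain ⟨m', -, hm'⟩ := (Submodule.mem_smul_pointwise_iff_exists _ _ _).1 h1
  have hp : (p : W) ≠ 0 := WittVector.p_nonzero p k
  have hinv : m' ∈ ρ.invariants := fun g => smul_right_injective M hp (by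
    show (p : W) • ρ g m' = (p : W) • m'
    rw [← map_smul, hm']
    exact m.2 g)
  have hm : m = (p : W) • (⟨m', hinv⟩ : ρ.invariants) := Subtype.ext hm'.symm
  rw [hm, TensorProduct.tmul_smul, TensorProduct.smul_tmul', show (p : W) • Ideal.Quotient.mk I 1 = 0 from
    Ideal.Quotient.eq_zero_iff_mem.2 (by show (p : W) * 1 ∈ I; rw [mul_one]; exact Ideal.mem_span_singleton_self _),
    TensorProduct.zero_tmul]

end Groth.Agent.S16358
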