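import Groth.Statements.S16360
import Groth.Agent.H48.PerfDVR

set_option autoImplicit false
universe u
open Hensel

namespace Groth.Agent.S16360

section
open Groth.Agent.H48.PerfDVR

variable {R Ω : Type u} [CommRing R] [IsDomain R] [IsDiscreteValuationRing R] [Field Ω]
  [Algebra R Ω] [FaithfulSMul R Ω] {ϖ : R} {p : ℕ} {T : Subalgebra R Ω}

theorem dichT (hT : GoodUnion ϖ p T) (w : T) : algebraMap R T ϖ ∣ w ∨ IsUnit w := by
  obtain ⟨S, hS, hsub, hST⟩ := hT {(w : Ω)} (by simp)
  have hw : (w : Ω) ∈ S := by simpa using hsub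
  have h := hS.dich ⟨w, hw⟩
  refine h.imp (fun h => ?_) (fun h => ?_)
  · have := map_dvd (Subalgebra.inclusion hST) h
    rwa [AlgHom.commutes] at this
  · exact h.map (Subalgebra.inclusion hST)

theorem integralT (hT : GoodUnion ϖ p T) : Algebra.IsIntegral R T := ⟨fun w => by
  obtain ⟨S, hS, hsub, hST⟩ := hT {(w : Ω)} (by simp)
  have hw : (w : Ω) ∈ S := by simpa using hsub
  have := hS.finite
  exact (IsIntegral.of_finite R (⟨w, hw⟩ : S)).map (Subalgebra.inclusion hST)⟩

theorem notUnitT (hϖ : IsLocalRing.maximalIdeal R = Ideal.span {ϖ}) (hT : GoodUnion ϖ p T) :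
    ¬ IsUnit (algebraMap R T ϖ) := fun h => by
  have := integralT hT
  have hinj : Function.Injective (algebraMap R T) := fun a b hab =>
    FaithfulSMul.algebraMap_injective R Ω (congrArg Subtype.val hab)
  have hl : IsLocalHom (algebraMap R T) :=
    RingHom.IsIntegral.isLocalHom (f := algebraMap R T) this.1 hinj
  have hm : ϖ ∈ IsLocalRing.maximalIdeal R := hϖ ▸ Ideal.mem_span_singleton_self ϖ
  exact hm (hl.map_nonunit _ h)

theorem localT (hϖ : IsLocalRing.maximalIdeal R = Ideal.span {ϖ}) (hT : GoodUnion ϖ p T) :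
    IsLocalRing T :=
  IsLocalRing.of_nonunits_add fun a b ha hb hab => by
    have h1 := (dichT hT a).resolve_right ha
    have h2 := (dichT hT b).resolve_right hb
    exact notUnitT hϖ hT (isUnit_of_dvd_unit (dvd_add h1 h2) hab)

theorem maxT (hϖ : IsLocalRing.maximalIdeal R = Ideal.span {ϖ}) (hT : GoodUnion ϖ p T)
    [IsLocalRing T] (w : T) : w ∈ IsLocalRing.maximalIdeal T ↔ algebraMap R T ϖ ∣ w :=
  ⟨fun h => (dichT hT w).resolve_right h, fun h hu => notUnitT hϖ hT (isUnit_of_dvd_unit h hu)⟩

theorem dvrT (hϖ : IsLocalRing.maximalIdeal R = Ideal.span {ϖ}) (hT : GoodUnion ϖ p T) :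
    IsDiscreteValuationRing T := by
  have hϖ0 : algebraMap R T ϖ ≠ 0 := fun h => by
    have h0 : ϖ = 0 := FaithfulSMul.algebraMap_injective R Ω
      ((congrArg Subtype.val h).trans (map_zero _).symm)
    exact IsDiscreteValuationRing.not_a_field R (by rw [hϖ, h0, Ideal.span_singleton_zero])
  refine IsDiscreteValuationRing.ofHasUnitMulPowIrreducibleFactorization
    ⟨algebraMap R T ϖ, ⟨notUnitT hϖ hT, fun a b hab => ?_⟩, fun {x} hx => ?_⟩
  · by_contra! hne
    obtain ⟨a', rfl⟩ := (dichT hT a).resolve_right hne.1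
    obtain ⟨b', rfl⟩ := (dichT hT b).resolve_right hne.2
    refine notUnitT hϖ hT (isUnit_of_dvd_one ⟨a' * b', ?_⟩)
    apply mul_left_cancel₀ hϖ0
    rw [mul_one]
    exact hab.trans (by ring)
  · obtain ⟨S, hS, hsub, hST⟩ := hT {(x : Ω)} (by simp)
    have hxS : (x : Ω) ∈ S := by simpa using hsub
    have := hS.finite
    have : IsNoetherianRing S := IsNoetherianRing.of_finite R S
    have hfm : FiniteMultiplicity (algebraMap R S ϖ) (⟨x, hxS⟩ : S) := by
      refine FiniteMultiplicity.of_not_isUnit hS.notUnit fun h => hx ?_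
      exact Subtype.ext (by simpa using congrArg Subtype.val h)
    obtain ⟨n, ⟨c, hc⟩, hn⟩ : ∃ n, (algebraMap R S ϖ) ^ n ∣ (⟨x, hxS⟩ : S) ∧
        ¬ (algebraMap R S ϖ) ^ (n + 1) ∣ (⟨x, hxS⟩ : S) :=
      ⟨_, pow_multiplicity_dvd _ _, hfm.not_pow_dvd_of_multiplicity_lt (Nat.lt_succ_self _)⟩
    have hcu : IsUnit c := (hS.dich c).resolve_left fun h => hn (by
      rw [hc, pow_succ]; exact mul_dvd_mul_left _ h)
    refine ⟨n, (hcu.map (Subalgebra.inclusion hST)).unit, ?_⟩
    have := congrArg (Subalgebra.inclusion hST) hc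
    rw [map_mul, map_pow, AlgHom.commutes] at this
    exact this.symm

theorem insepT (hT : GoodUnion ϖ p T) (w : T) :
    ∃ (m : ℕ) (z : R), algebraMap R T ϖ ∣ algebraMap R T z - w ^ (p ^ m) := by
  obtain ⟨S, hS, hsub, hST⟩ := hT {(w : Ω)} (by simp)
  have hw : (w : Ω) ∈ S := by simpa using hsub
  obtain ⟨m, z, hz⟩ := hS.insep ⟨w, hw⟩
  refine ⟨m, z, ?_⟩
  have := map_dvd (Subalgebra.inclusion hST) hz
  rwa [AlgHom.commutes, map_sub, AlgHom.commutes, map_pow] at this

theorem freeT (hT : GoodUnion ϖ p T) (s : Finset T) :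
    ∃ S : Subalgebra R T, (↑s : Set T) ⊆ ↑S ∧ Module.Finite R S ∧ Module.Free R S ∧
      ∃ m : ℕ, Module.finrank R S = p ^ m := by
  classical
  obtain ⟨S, hS, hsub, hST⟩ := hT (s.image Subtype.val) (fun w hw => by
    obtain ⟨v, -, rfl⟩ := Finset.mem_image.1 (Finset.mem_coe.1 hw); exact v.2)
  let f : S →ₐ[R] T := Subalgebra.inclusion hST
  let e : S ≃ₐ[R] f.range := AlgEquiv.ofInjective f (Subalgebra.inclusion_injective hST)
  have := hS.finite
  have : Module.Free R S := Module.free_of_finite_type_torsion_free'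
  refine ⟨f.range, fun w hw => ⟨⟨w, hsub (Finset.mem_coe.2 (Finset.mem_image_of_mem _ hw))⟩,
    Subtype.ext rfl⟩, Module.Finite.equiv e.toLinearEquiv, Module.Free.of_equiv e.toLinearEquiv, ?_⟩
  rw [← e.toLinearEquiv.finrank_eq]
  exact hS.rank

end

/-- Let R be a discrete valuation ring that is Henselian and excellent, write k for its residue field
and p for the characteristic exponent of k. There is a Henselian discrete valuation ring R' and an
injective ring map R → R' such that the maximal ideal of R generates that of R' (so a uniformizer of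
R is a uniformizer of R'), R' is the directed union of R-subalgebras that are finite free R-modules
of rank a power of p, and the residue field k' of R' is a perfect closure of k: every element of k'
is a p-th power in k', and some p-power-th power of it lies in the image of k. (The published
statement also asserts that R' is excellent; that is not asserted here.) -/
theorem result (R : Type u) [CommRing R] [IsDomain R]
    [IsDiscreteValuationRing R] [HenselianLocalRing R] (hR : EGA4.IsExcellent R) :
    ∃ (R' : Type u) (_ : CommRing R') (_ : IsDomain R') (_ : IsDiscreteValuationRing R')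
      (_ : HenselianLocalRing R') (_ : Algebra R R'),
      Function.Injective (algebraMap R R') ∧
      Ideal.map (algebraMap R R') (IsLocalRing.maximalIdeal R) = IsLocalRing.maximalIdeal R' ∧
      (∀ s : Finset R', ∃ S : Subalgebra R R', (↑s : Set R') ⊆ ↑S ∧ Module.Finite R S ∧ Module.Free R S ∧
        ∃ m : ℕ, Module.finrank R S = ringExpChar (IsLocalRing.ResidueField R) ^ m) ∧
      (∀ y : R', ∃ z : R', z ^ ringExpChar (IsLocalRing.ResidueField R) - y ∈ IsLocalRing.maximalIdeal R') ∧
      (∀ y : R', ∃ (m : ℕ) (z : R),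
        algebraMap R R' z - y ^ (ringExpChar (IsLocalRing.ResidueField R) ^ m) ∈ IsLocalRing.maximalIdeal R') := by
  by_cases hc : ringChar (IsLocalRing.ResidueField R) = 0
  · have hp : ringExpChar (IsLocalRing.ResidueField R) = 1 := by simp [ringExpChar, hc]
    rw [hp]
    refine ⟨R, inferInstance, inferInstance, inferInstance, inferInstance, Algebra.id R,
      fun a b h => h, Ideal.map_id _, fun s => ⟨⊤, by simp, ?_, ?_, 0, ?_⟩, fun y => ⟨y, by simp⟩,
      fun y => ⟨0, y, by simp⟩⟩
    · exact Module.Finite.equiv (Subalgebra.topEquiv (R := R) (A := R)).symm.toLinearEquiv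
    · exact Module.Free.of_equiv (Subalgebra.topEquiv (R := R) (A := R)).symm.toLinearEquiv
    · rw [(Subalgebra.topEquiv (R := R) (A := R)).toLinearEquiv.finrank_eq, Module.finrank_self,
        pow_zero]
  · have hp : ringExpChar (IsLocalRing.ResidueField R) = ringChar (IsLocalRing.ResidueField R) := by
      simp only [ringExpChar]
      exact max_eq_left (Nat.one_le_iff_ne_zero.2 hc)
    rw [hp]
    set p := ringChar (IsLocalRing.ResidueField R) with hpdef
    have : Fact p.Prime := ⟨(CharP.char_is_prime_or_zero (IsLocalRing.ResidueField R) p).resolve_right hc⟩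
    obtain ⟨ϖ, hϖirr⟩ := IsDiscreteValuationRing.exists_irreducible R
    have hϖ : IsLocalRing.maximalIdeal R = Ideal.span {ϖ} := hϖirr.maximalIdeal_eq
    have hpϖ : ϖ ∣ (p : R) := by
      rw [← Ideal.mem_span_singleton, ← hϖ, ← IsLocalRing.residue_eq_zero_iff, map_natCast]
      exact CharP.cast_eq_zero _ p
    let Ω := AlgebraicClosure (FractionRing R)
    have : FaithfulSMul R Ω := FaithfulSMul.trans R (FractionRing R) Ω
    obtain ⟨T, hT, hperf⟩ :=
      Groth.Agent.H48.PerfDVR.exists_goodUnion_perfect (Ω := Ω) (p := p) hϖ hpϖ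
    have := localT hϖ hT
    have := integralT hT
    have := dvrT hϖ hT
    have hmax : Ideal.map (algebraMap R T) (IsLocalRing.maximalIdeal R) =
        IsLocalRing.maximalIdeal T := by
      ext w
      rw [hϖ, Ideal.map_span, Set.image_singleton, Ideal.mem_span_singleton, maxT hϖ hT]
    refine ⟨T, inferInstance, inferInstance, inferInstance,
      Groth.Agent.Lib.Henselian.LocalRing.henselianLocalRing_of_isIntegral R T, inferInstance,
      fun a b hab => FaithfulSMul.algebraMap_injective R Ω (congrArg Subtype.val hab), hmax,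
      freeT hT, fun y => ?_, fun y => ?_⟩
    · obtain ⟨z, hz⟩ := hperf y
      exact ⟨z, (maxT hϖ hT _).2 hz⟩
    · obtain ⟨m, z, hz⟩ := insepT hT y
      exact ⟨m, z, (maxT hϖ hT _).2 hz⟩

end Groth.Agent.S16360
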