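import Groth.Statements.S16362
import Mathlib

set_option autoImplicit false
universe u
open MovLem

namespace Groth.Agent.S16362

/-- Let A be a commutative ring, p a prime ideal of A, and ζ, u elements of A with u not in p. Then the
quotient of the classes of ζ and u in the fraction field of the domain A ⧸ p is integral over A ⧸ p
if and only if there exist a natural number N and elements a_1, …, a_N of A such that ζ^N + a_1
ζ^(N-1) u + ⋯ + a_N u^N lies in p; equivalently, some binary form of degree N with coefficients in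
A, monic in the first variable, evaluated at (ζ, u), lies in p. -/
theorem result
    {A : Type u} [CommRing A] (p : Ideal A) [p.IsPrime] (ζ u : A) (hu : u ∉ p) :
    IsIntegral (A ⧸ p)
        (algebraMap (A ⧸ p) (FractionRing (A ⧸ p)) (Ideal.Quotient.mk p ζ) /
          algebraMap (A ⧸ p) (FractionRing (A ⧸ p)) (Ideal.Quotient.mk p u)) ↔
      ∃ (N : ℕ) (a : ℕ → A),
        ζ ^ N + ∑ i ∈ Finset.Icc 1 N, a i * ζ ^ (N - i) * u ^ i ∈ p := by
  let φ : A →+* (FractionRing (A ⧸ p)) := (algebraMap (A ⧸ p) (FractionRing (A ⧸ p))).comp (Ideal.Quotient.mk p)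
  have hφ : ∀ a : A, φ a = 0 ↔ a ∈ p := fun a => by
    simp [φ, Ideal.Quotient.eq_zero_iff_mem]
  have hu0 : φ u ≠ 0 := fun h => hu ((hφ u).mp h)
  change IsIntegral (A ⧸ p) (φ ζ / φ u) ↔ _
  constructor
  · rintro ⟨q, hq, hq0⟩
    set N := q.natDegree
    choose c hc using fun i => Ideal.Quotient.mk_surjective (q.coeff (N - i))
    refine ⟨N, c, (hφ _).mp ?_⟩
    rw [Polynomial.eval₂_eq_sum_range, Finset.sum_range_succ, hq.coeff_natDegree, map_one, one_mul] at hq0
    have key : φ (ζ ^ N + ∑ i ∈ Finset.Icc 1 N, c i * ζ ^ (N - i) * u ^ i) =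
        φ u ^ N * ((∑ i ∈ Finset.range N, algebraMap (A ⧸ p) (FractionRing (A ⧸ p)) (q.coeff i) * (φ ζ / φ u) ^ i) + (φ ζ / φ u) ^ N) := by
      rw [mul_add, ← mul_pow, mul_div_cancel₀ _ hu0, map_add, map_pow, add_comm, map_sum, Finset.mul_sum]
      congr 1
      refine Finset.sum_nbij' (fun i => N - i) (fun j => N - j) ?_ ?_ ?_ ?_ ?_
      · intro i hi; simp only [Finset.mem_coe, Finset.mem_Icc, Finset.mem_range] at hi ⊢; omega
      · intro i hi; simp only [Finset.mem_coe, Finset.mem_Icc, Finset.mem_range] at hi ⊢; omega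
      · intro i hi; simp only [Finset.mem_coe, Finset.mem_Icc] at hi; show N - (N - i) = i; omega
      · intro i hi; simp only [Finset.mem_coe, Finset.mem_range] at hi; show N - (N - i) = i; omega
      · intro i hi
        simp only [Finset.mem_Icc] at hi
        rw [map_mul, map_mul, map_pow, map_pow, show φ (c i) = algebraMap (A ⧸ p) (FractionRing (A ⧸ p)) (q.coeff (N - i)) by rw [← hc i]; rfl,
          div_pow]
        conv_rhs => rw [show φ u ^ N = φ u ^ i * φ u ^ (N - i) by rw [← pow_add]; congr 1; omega]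
        field_simp
    rw [key, hq0, mul_zero]
  · rintro ⟨N, a, h⟩
    refine ⟨Polynomial.X ^ N + ∑ i ∈ Finset.Icc 1 N, Polynomial.C (Ideal.Quotient.mk p (a i)) * Polynomial.X ^ (N - i), ?_, ?_⟩
    · refine Polynomial.monic_X_pow_add (lt_of_le_of_lt (Polynomial.degree_sum_le _ _) ?_)
      rw [Finset.sup_lt_iff (WithBot.bot_lt_coe _)]
      intro i hi
      simp only [Finset.mem_Icc] at hi
      exact (Polynomial.degree_C_mul_X_pow_le _ _).trans_lt (by exact_mod_cast (show N - i < N by omega))
    · have h0 := (hφ _).mpr h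
      rw [map_add, map_pow, map_sum] at h0
      rw [Polynomial.eval₂_add, Polynomial.eval₂_X_pow, Polynomial.eval₂_finsetSum]
      refine mul_left_cancel₀ (pow_ne_zero N hu0) ?_
      rw [mul_zero, mul_add, ← mul_pow, mul_div_cancel₀ _ hu0, Finset.mul_sum]
      refine Eq.trans ?_ h0
      congr 1
      refine Finset.sum_congr rfl fun i hi => ?_
      simp only [Finset.mem_Icc] at hi
      rw [Polynomial.eval₂_mul, Polynomial.eval₂_C, Polynomial.eval₂_X_pow, map_mul, map_mul, map_pow, map_pow, div_pow,
        show algebraMap (A ⧸ p) (FractionRing (A ⧸ p)) (Ideal.Quotient.mk p (a i)) = φ (a i) from rfl,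
        show φ u ^ N = φ u ^ i * φ u ^ (N - i) by rw [← pow_add]; congr 1; omega]
      field_simp

end Groth.Agent.S16362
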