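import Groth.Statements.S16363
import Groth.Agent.Lib.MaxFibre.Field
import Mathlib.AlgebraicGeometry.AlgClosed.Basic
import Mathlib.AlgebraicGeometry.Noetherian
import Mathlib.FieldTheory.IsAlgClosed.AlgebraicClosure

set_option autoImplicit false
universe u
open CategoryTheory Limits
open MovLem

namespace Groth.Agent.S16363

section
open AlgebraicGeometry CategoryTheory Limits TopologicalSpace

/-- A generic point of a noetherian scheme lies in every dense open. -/
theorem mem_dense_open_of_generic {X : Scheme.{u}} [IsNoetherian X] (V : X.Opens)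
    (hV : Dense (V : Set X)) (c : X) (hc : closure {c} ∈ irreducibleComponents X) : c ∈ V := by
  let others : Set X := ⋃ Z ∈ irreducibleComponents X \ {closure {c}}, Z
  have hcl : IsClosed others :=
    NoetherianSpace.finite_irreducibleComponents.sdiff.isClosed_biUnion fun Z hZ =>
      isClosed_of_mem_irreducibleComponents _ hZ.1
  have hc' : c ∈ othersᶜ := by
    intro hmem
    obtain ⟨Z, hZ, hcZ⟩ := Set.mem_iUnion₂.mp hmem
    have hsub : closure {c} ⊆ Z :=
      closure_minimal (Set.singleton_subset_iff.mpr hcZ) (isClosed_of_mem_irreducibleComponents _ hZ.1)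
    exact hZ.2 ((hc.2 hZ.1.1 hsub).antisymm hsub)
  obtain ⟨v, hvo, hvV⟩ := hV.inter_open_nonempty othersᶜ hcl.isOpen_compl ⟨c, hc'⟩
  have hv : v ∈ closure {c} := by
    by_contra hv
    refine hvo (Set.mem_iUnion₂.mpr ⟨irreducibleComponent v,
      ⟨irreducibleComponent_mem_irreducibleComponents v, ?_⟩, mem_irreducibleComponent⟩)
    intro h
    exact hv ((Set.mem_singleton_iff.mp h) ▸ mem_irreducibleComponent)
  exact (specializes_iff_mem_closure.mpr hv).mem_open V.2 hvV

/-- Images of nowhere dense closed subsets under integral maps of noetherian schemes. -/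
theorem dense_compl_image {X Y : Scheme.{u}} [IsNoetherian X] [IsNoetherian Y] (f : X ⟶ Y)
    [IsIntegralHom f] (V : X.Opens) (hV : Dense (V : Set X)) :
    Dense ((f '' (V : Set X)ᶜ)ᶜ) := by
  rw [← interior_eq_empty_iff_dense_compl]
  by_contra hne
  obtain ⟨w, hw⟩ := Set.nonempty_iff_ne_empty.mpr hne
  obtain ⟨η, hη⟩ := QuasiSober.sober (isIrreducible_irreducibleComponent (x := w))
    (isClosed_irreducibleComponent)
  have hηw : η ⤳ w := hη.specializes mem_irreducibleComponent
  obtain ⟨c, hcV, hc⟩ := interior_subset (hηw.mem_open isOpen_interior hw)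
  obtain ⟨c', hc'⟩ := QuasiSober.sober (isIrreducible_irreducibleComponent (x := c))
    (isClosed_irreducibleComponent)
  have hc'c : c' ⤳ c := hc'.specializes mem_irreducibleComponent
  have hfη : f c' ⤳ η := hc ▸ hc'c.map f.continuous
  have hηmem : f c' ∈ irreducibleComponent w := by
    have hmax := irreducibleComponent_mem_irreducibleComponents w
    have hsub : irreducibleComponent w ⊆ closure {f c'} := by
      rw [← hη]
      exact hfη.closure_subset
    exact hmax.2 isIrreducible_singleton.closure hsub (subset_closure rfl)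
  have heq : f c' = η := (hfη.antisymm (hη.specializes hηmem)).eq
  have : c' = c := Groth.Agent.Lib.MaxFibre.eq_of_specializes f hc'c (heq.trans hc.symm)
  subst this
  exact hcV (mem_dense_open_of_generic V hV c' (by
    rw [show closure {c'} = irreducibleComponent c' from hc']
    exact irreducibleComponent_mem_irreducibleComponents _))

/-- A point over a dense open of closed points. -/
theorem main {k K : Type u} [Field k] [Field K] [Algebra k K]
    (X : Scheme.{u}) (f : X ⟶ Spec (CommRingCat.of k)) [LocallyOfFiniteType f] [QuasiCompact f]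
    (U' : (pullback f (Spec.map (CommRingCat.ofHom (algebraMap k K)))).Opens)
    (hU' : Dense (U' : Set ↥(pullback f (Spec.map (CommRingCat.ofHom (algebraMap k K)))))) :
    ∃ U : X.Opens, Dense (U : Set X) ∧ ∀ x ∈ U, IsClosed ({x} : Set X) →
      ∀ z, pullback.fst f (Spec.map (CommRingCat.ofHom (algebraMap k K))) z = x → z ∈ U' := by
  let kb := AlgebraicClosure k
  let L := AlgebraicClosure K
  let ε : kb →ₐ[k] L := IsAlgClosed.lift
  let sK := Spec.map (CommRingCat.ofHom (algebraMap k K))
  let sb := Spec.map (CommRingCat.ofHom (algebraMap k kb))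
  let sL := Spec.map (CommRingCat.ofHom ε.toRingHom)
  let tL := Spec.map (CommRingCat.ofHom (algebraMap K L))
  have hcomm : tL ≫ sK = sL ≫ sb := by
    simp only [tL, sK, sL, sb, ← Spec.map_comp, ← CommRingCat.ofHom_comp]
    congr 2
    rw [← IsScalarTower.algebraMap_eq]
    exact (RingHom.ext ε.commutes).symm
  let X0 := pullback f sb
  let f0 : X0 ⟶ Spec (CommRingCat.of kb) := pullback.snd f sb
  let π : X0 ⟶ X := pullback.fst f sb
  let XL := pullback f0 sL
  let q : XL ⟶ X0 := pullback.fst f0 sL
  let r : XL ⟶ pullback f sK := pullback.lift (q ≫ π) (pullback.snd f0 sL ≫ tL) (by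
    rw [Category.assoc, pullback.condition, Category.assoc, hcomm]
    exact pullback.condition_assoc sb)
  have hr1 : r ≫ pullback.fst f sK = q ≫ π := pullback.lift_fst _ _ _
  have hsq : IsPullback r (pullback.snd f0 sL) (pullback.snd f sK) tL := by
    refine IsPullback.of_right ?_ (pullback.lift_snd _ _ _) (IsPullback.of_hasPullback f sK)
    rw [hr1, hcomm]
    exact (IsPullback.of_hasPullback f0 sL).paste_horiz (IsPullback.of_hasPullback f sb)
  haveI : IsNoetherian X := by
    haveI : IsLocallyNoetherian X := LocallyOfFiniteType.isLocallyNoetherian f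
    haveI : CompactSpace X := QuasiCompact.compactSpace_of_compactSpace f
    exact {}
  haveI : IsNoetherian X0 := by
    haveI : IsLocallyNoetherian X0 := LocallyOfFiniteType.isLocallyNoetherian f0
    haveI : CompactSpace X0 := QuasiCompact.compactSpace_of_compactSpace f0
    exact {}
  haveI : IsIntegralHom sb := Groth.Agent.Lib.MaxFibre.isIntegralHom_of_algebraic k kb
  haveI : Surjective sb := ⟨fun _ => ⟨IsLocalRing.closedPoint kb, Subsingleton.elim _ _⟩⟩
  haveI : UniversallyOpen sL := inferInstance
  haveI : UniversallyOpen tL := inferInstance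
  haveI : UniversallyOpen r := MorphismProperty.of_isPullback (P := @UniversallyOpen) hsq.flip
    inferInstance
  haveI : Surjective tL := ⟨fun _ => ⟨IsLocalRing.closedPoint L, Subsingleton.elim _ _⟩⟩
  haveI : Surjective r := MorphismProperty.of_isPullback (P := @Surjective) hsq.flip inferInstance
  haveI : Surjective sL := ⟨fun _ => ⟨IsLocalRing.closedPoint L, Subsingleton.elim _ _⟩⟩
  haveI : UniversallyOpen q := inferInstance
  haveI : Surjective q := inferInstance
  have hdense : Dense (r ⁻¹ᵁ U' : Set XL) := hU'.preimage r.isOpenMap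
  let V : X0.Opens := ⟨q '' (r ⁻¹ᵁ U' : Set XL), q.isOpenMap _ (r ⁻¹ᵁ U').2⟩
  have hV : Dense (V : Set X0) := q.surjective.denseRange.dense_image q.continuous hdense
  refine ⟨⟨(π '' (V : Set X0)ᶜ)ᶜ, (π.isClosedMap _ V.2.isClosed_compl).isOpen_compl⟩,
    dense_compl_image π V hV, fun x hx hxc z hz => ?_⟩
  obtain ⟨w, rfl⟩ := r.surjective z
  have hπ : π (q w) = x := by
    rw [← hz, ← Scheme.Hom.comp_apply, ← Scheme.Hom.comp_apply, hr1]
  have hwV : q w ∈ V := by
    by_contra hnot
    exact hx ⟨q w, hnot, hπ⟩
  have hclosed : IsClosed ({q w} : Set X0) := by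
    rw [← closure_subset_iff_isClosed]
    intro y hy
    have hs : q w ⤳ y := specializes_iff_mem_closure.mpr hy
    have hy' : π y = x := by
      have h1 : π (q w) ⤳ π y := hs.map π.continuous
      rw [hπ] at h1
      have := h1.mem_closed hxc rfl
      exact this
    exact (Groth.Agent.Lib.MaxFibre.eq_of_specializes π hs (hπ.trans hy'.symm)).symm
  obtain ⟨w', hw', he⟩ := hwV
  let p := pointOfClosedPoint f0 (q w) hclosed
  have hp : p ≫ f0 = 𝟙 _ := pointOfClosedPoint_comp _ _ _
  let σ : Spec (CommRingCat.of L) ⟶ XL :=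
    pullback.lift (sL ≫ p) (𝟙 _) (by rw [Category.assoc, hp, Category.comp_id, Category.id_comp])
  have hrange : ∀ v : XL, q v = q w → v ∈ Set.range σ := by
    intro v hv
    have hsq2 : IsPullback σ sL q p := by
      refine (IsPullback.of_bot ?_ (pullback.lift_fst _ _ _).symm (IsPullback.of_hasPullback f0 sL)).flip
      rw [pullback.lift_snd, hp]
      exact IsPullback.of_vert_isIso ⟨by rw [Category.id_comp, Category.comp_id]⟩
    have : Set.range σ = q ⁻¹' Set.range p := by
      have h := Scheme.Pullback.range_fst q p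
      rw [← hsq2.isoPullback_hom_fst]
      rw [Scheme.Hom.comp_base, TopCat.coe_comp, Set.range_comp]
      rw [Set.range_eq_univ.mpr hsq2.isoPullback.hom.surjective, Set.image_univ]
      exact h
    rw [this]
    exact ⟨IsLocalRing.closedPoint kb, (pointOfClosedPoint_apply _ _ _ _).trans hv.symm⟩
  obtain ⟨a, ha⟩ := hrange w rfl
  obtain ⟨b, hb⟩ := hrange w' he
  have hab : w = w' := by rw [← ha, ← hb, Subsingleton.elim a b]
  rw [hab]
  exact hw'

end


open AlgebraicGeometry in
/-- Let k be a field, X a k-scheme of finite type, K an extension field of k and U' ⊆ X_K = X ×_k Spec K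
a dense open subset. There exists a dense open U ⊆ X with the following property: for every
algebraic closure k̄ of k, every field Ω that is simultaneously a k̄-algebra and a K-algebra
compatibly with k, and every k-morphism x : Spec k̄ → X whose image point lies in U, every
K-morphism y : Spec Ω → X_K whose composite with the projection X_K → X is the composite Spec Ω →
Spec k̄ → X has image point in U'. (In words: the k̄-points of U, viewed as Ω-points of X_K, lie in
U'.) -/
theorem result
    {k K : Type u} [Field k] [Field K] [Algebra k K]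
    (X : Scheme.{u}) (f : X ⟶ Spec (CommRingCat.of k)) [LocallyOfFiniteType f] [QuasiCompact f]
    (U' : (pullback f (Spec.map (CommRingCat.ofHom (algebraMap k K)))).Opens)
    (hU' : Dense (U' : Set ↥(pullback f (Spec.map (CommRingCat.ofHom (algebraMap k K)))))) :
    ∃ U : X.Opens, Dense (U : Set ↥X) ∧
      ∀ (kb Ω : Type u) [Field kb] [Algebra k kb] [IsAlgClosure k kb]
        [Field Ω] [Algebra k Ω] [Algebra kb Ω] [Algebra K Ω] [IsScalarTower k kb Ω] [IsScalarTower k K Ω]
        (x : Spec (CommRingCat.of kb) ⟶ X),
        x ≫ f = Spec.map (CommRingCat.ofHom (algebraMap k kb)) →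
        (∀ t : ↥(Spec (CommRingCat.of kb)), x.base t ∈ U) →
        ∀ (y : Spec (CommRingCat.of Ω) ⟶ pullback f (Spec.map (CommRingCat.ofHom (algebraMap k K)))),
          y ≫ pullback.fst f (Spec.map (CommRingCat.ofHom (algebraMap k K))) =
              Spec.map (CommRingCat.ofHom (algebraMap kb Ω)) ≫ x →
          y ≫ pullback.snd f (Spec.map (CommRingCat.ofHom (algebraMap k K))) =
              Spec.map (CommRingCat.ofHom (algebraMap K Ω)) →
          ∀ t : ↥(Spec (CommRingCat.of Ω)), y.base t ∈ U' := by
  obtain ⟨U, hU, hmain⟩ := main X f U' hU'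
  refine ⟨U, hU, ?_⟩
  intro kb Ω _ _ _ _ _ _ _ _ _ x hx hxU y hy1 hy2 t
  let t0 : ↥(Spec (CommRingCat.of kb)) := IsLocalRing.closedPoint kb
  haveI : IsAlgClosed kb := IsAlgClosure.isAlgClosed k
  haveI : Algebra.IsAlgebraic k kb := IsAlgClosure.isAlgebraic
  have hclosed : IsClosed ({x t0} : Set X) := by
    let sb := Spec.map (CommRingCat.ofHom (algebraMap k kb))
    let p : Spec (CommRingCat.of kb) ⟶ pullback f sb := pullback.lift x (𝟙 _) (by rw [hx, Category.id_comp])
    haveI : IsIntegralHom sb := Groth.Agent.Lib.MaxFibre.isIntegralHom_of_algebraic k kb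
    haveI := isClosedImmersion_of_comp_eq_id (pullback.snd f sb) p (pullback.lift_snd _ _ _)
    have h1 := (pullback.fst f sb).isClosedMap _ p.isClosedEmbedding.isClosed_range
    convert h1 using 1
    rw [← Set.range_comp, ← TopCat.coe_comp, ← Scheme.Hom.comp_base, pullback.lift_fst]
    ext v
    constructor
    · rintro rfl; exact ⟨t0, rfl⟩
    · rintro ⟨w, rfl⟩; exact congrArg x (Subsingleton.elim w t0)
  refine hmain (x t0) (hxU t0) hclosed _ ?_
  rw [← Scheme.Hom.comp_apply, hy1, Scheme.Hom.comp_apply]
  exact congrArg x (Subsingleton.elim _ t0)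

end Groth.Agent.S16363
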