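import Groth.Statements.S16365
import Groth.Agent.H19.MovU.GmMap
import Groth.Agent.Lib.Cyc.FieldDim


set_option autoImplicit false
universe u
open CategoryTheory Limits
open MovLem

namespace Groth.Agent.S16365

open CategoryTheory AlgebraicGeometry TopologicalSpace


open AlgebraicGeometry in
/-- Let k be an infinite field, X a scheme of finite type over k, U an open subscheme of X which is
smooth over k, and x a point of X. Assume that if x lies in U then x is not an isolated point of X.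
Then there exist an open neighbourhood V of x in X and a k-morphism v from V to the multiplicative
group Spec k[T, T⁻¹] whose restriction to V ∩ U is a smooth morphism. (The published statement has
no hypothesis on x; when x is an isolated point of X lying in U the conclusion fails, since a
zero-dimensional scheme admits no smooth morphism to a curve, and in every other case an isolated
point can be discarded, so that case is excluded here.) -/
theorem result
    {k : Type u} [Field k] [Infinite k]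
    (X : Scheme.{u}) (f : X ⟶ Spec (CommRingCat.of k)) [LocallyOfFiniteType f] [QuasiCompact f]
    (U : X.Opens) [Smooth (U.ι ≫ f)] (x : ↥X) (hx : x ∈ U → ¬ IsOpen ({x} : Set ↥X)) :
    ∃ (V : X.Opens) (v : (↑V : Scheme.{u}) ⟶ Spec (CommRingCat.of (LaurentPolynomial k))),
      x ∈ V ∧
      v ≫ Spec.map (CommRingCat.ofHom (algebraMap k (LaurentPolynomial k))) = V.ι ≫ f ∧
      Smooth (X.homOfLE (inf_le_left : V ⊓ U ≤ V) ≫ v) := by
  obtain ⟨W, hW, hxW, -⟩ := exists_isAffineOpen_mem_and_subset (X := X) (x := x) (U := ⊤) trivial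
  let sh := Groth.Agent.Lib.Cyc.FieldDim.structHom f W
  letI : Algebra k Γ(X, W) := sh.toAlgebra
  haveI : Algebra.FiniteType k Γ(X, W) := Groth.Agent.Lib.Cyc.FieldDim.structHom_finiteType f hW
  haveI : IsNoetherianRing Γ(X, W) := Algebra.FiniteType.isNoetherianRing k _
  have hmem : ∀ (y : X) (hy : y ∈ W) (a : Γ(X, W)), a ∉ (hW.primeIdealOf ⟨y, hy⟩).asIdeal ↔ y ∈ X.basicOpen a := fun y hy a => by
    rw [Groth.Agent.Lib.Cyc.FieldDim.mem_primeIdealOf_iff hW hy, Scheme.evaluation_eq_zero_iff_notMem_basicOpen, not_not]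
  -- finitely many basic opens cover `U ∩ W`
  obtain ⟨G, hG⟩ := ((IsNoetherian.noetherian (Ideal.span {a : Γ(X, W) | X.basicOpen a ≤ U})))
  have hcov : ∀ y, y ∈ W → y ∈ U → ∃ a ∈ G, y ∈ X.basicOpen (a : Γ(X, W)) := by
    intro y hyW hyU
    obtain ⟨a, ha, hya⟩ := hW.exists_basicOpen_le (V := U) ⟨y, hyU⟩ hyW
    by_contra hcon
    push Not at hcon
    have hle : Ideal.span (G : Set Γ(X, W)) ≤ (hW.primeIdealOf ⟨y, hyW⟩).asIdeal :=
      Ideal.span_le.2 fun b hb => by
        by_contra hb'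
        exact hcon b hb ((hmem y hyW b).1 hb')
    have h1 : a ∈ Ideal.span {a : Γ(X, W) | X.basicOpen a ≤ U} := Ideal.subset_span ha
    rw [← hG] at h1
    exact (hmem y hyW a).2 hya (hle h1)
  have hGU : ∀ a ∈ G, X.basicOpen (a : Γ(X, W)) ≤ U := by
    intro a ha y hy
    have hyW : y ∈ W := X.basicOpen_le a hy
    have h1 : a ∈ Ideal.span {a : Γ(X, W) | X.basicOpen a ≤ U} := by
      rw [← hG]; exact Ideal.subset_span ha
    by_contra hyU
    refine (hmem y hyW a).2 hy ((Ideal.span_le.2 fun b hb => ?_) h1)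
    by_contra hb'
    exact hyU (hb ((hmem y hyW b).1 hb'))
  obtain ⟨n, h, hh⟩ : ∃ (n : ℕ) (h : Fin n → Γ(X, W)), Set.range h = (G : Set Γ(X, W)) :=
    ⟨G.card, fun i => (G.equivFin.symm i).1, Set.ext fun a =>
      ⟨fun ⟨i, hi⟩ => hi ▸ (G.equivFin.symm i).2, fun ha => ⟨G.equivFin ⟨a, ha⟩, by simp⟩⟩⟩
  have hsm : ∀ j, Algebra.Smooth k (Localization.Away (h j)) := by
    intro j
    have hle : X.basicOpen (h j) ≤ U := hGU _ (by rw [← Finset.mem_coe, ← hh]; exact ⟨j, rfl⟩)
    haveI : Smooth ((X.basicOpen (h j)).ι ≫ f) := by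
      rw [← X.homOfLE_ι hle, Category.assoc]
      infer_instance
    haveI : IsAffine (X.basicOpen (h j)).toScheme := hW.basicOpen (h j)
    have h1 := (HasRingHomProperty.iff_of_isAffine (P := @Smooth)).1 ‹Smooth ((X.basicOpen (h j)).ι ≫ f)›
    letI : Algebra k Γ(X, X.basicOpen (h j)) := ((algebraMap Γ(X, W) Γ(X, X.basicOpen (h j))).comp sh).toAlgebra
    haveI : IsScalarTower k Γ(X, W) Γ(X, X.basicOpen (h j)) := IsScalarTower.of_algebraMap_eq' rfl
    have hT : (algebraMap k Γ(X, X.basicOpen (h j)) = ((Scheme.ΓSpecIso (CommRingCat.of k)).inv ≫ ((X.basicOpen (h j)).ι ≫ f).appTop ≫ (X.basicOpen (h j)).topIso.hom).hom) := by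
      rw [IsScalarTower.algebraMap_eq k Γ(X, W) Γ(X, X.basicOpen (h j))]
      show ((Scheme.ΓSpecIso (CommRingCat.of k)).inv ≫ f.appLE ⊤ W _ ≫ X.presheaf.map (homOfLE (X.basicOpen_le (h j))).op).hom = _
      congr 2
      simp [Scheme.Hom.appLE, ← Functor.map_comp]
      congr 2
      exact (congrArg X.presheaf.map (Subsingleton.elim _ _)).trans (X.presheaf.map_comp _ _)
    haveI := hW.isLocalization_basicOpen (h j)
    have h2 : (algebraMap k Γ(X, X.basicOpen (h j))).Smooth := by
      rw [hT]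
      simp only [CommRingCat.hom_comp]
      exact RingHom.Smooth.respectsIso.2 _ (Scheme.ΓSpecIso (CommRingCat.of k)).symm.commRingCatIsoToRingEquiv
        (RingHom.Smooth.respectsIso.1 _ (X.basicOpen (h j)).topIso.commRingCatIsoToRingEquiv h1)
    haveI := RingHom.smooth_algebraMap.1 h2
    exact Algebra.Smooth.of_equiv ((IsLocalization.algEquiv (Submonoid.powers (h j)) Γ(X, X.basicOpen (h j)) (Localization.Away (h j))).restrictScalars k)
  obtain ⟨e, g, hep, ⟨g', hg'⟩, hq⟩ := Groth.Agent.H19.MovU.GmMap.exists_param h hsm (hW.primeIdealOf ⟨x, hxW⟩)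
    (fun j hj hopen => hx (hGU _ (by rw [← Finset.mem_coe, ← hh]; exact ⟨j, rfl⟩) ((hmem x hxW _).1 hj))
      (by
        have h1 := hW.fromSpec.isOpenEmbedding.isOpenMap _ hopen
        have e0 : hW.fromSpec (hW.primeIdealOf ⟨x, hxW⟩) = x := hW.fromSpec_primeIdealOf _
        convert h1 using 1
        exact (e0 ▸ Set.image_singleton (f := hW.fromSpec) (a := hW.primeIdealOf ⟨x, hxW⟩)).symm))
  let V : X.Opens := X.basicOpen e
  have hVW : V ≤ W := X.basicOpen_le e
  let gV : Γ(X, V) := X.presheaf.map (homOfLE hVW).op g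
  have hgV : IsUnit gV := by
    have h1 : IsUnit (X.presheaf.map (homOfLE hVW).op e) := RingedSpace.isUnit_res_basicOpen X.toRingedSpace e
    rw [hg', map_mul] at h1
    exact isUnit_of_mul_isUnit_left h1
  let ψ : Polynomial k →+* Γ(X, V) := (X.presheaf.map (homOfLE hVW).op).hom.comp (Polynomial.aeval (R := k) g).toRingHom
  have hψ : IsUnit (ψ Polynomial.X) := by
    show IsUnit (X.presheaf.map (homOfLE hVW).op (Polynomial.aeval (R := k) g Polynomial.X))
    rw [Polynomial.aeval_X]; exact hgV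
  let φ : LaurentPolynomial k →+* Γ(X, V) := IsLocalization.Away.lift (Polynomial.X : Polynomial k) (g := ψ) hψ
  have hφ : φ.comp (algebraMap (Polynomial k) (LaurentPolynomial k)) = ψ :=
    IsLocalization.Away.lift_comp _ hψ
  refine ⟨V, V.toSpecΓ ≫ Spec.map (CommRingCat.ofHom φ), (hmem x hxW e).1 hep, ?_, ?_⟩
  · have e1 : CommRingCat.ofHom (algebraMap k (LaurentPolynomial k)) ≫ CommRingCat.ofHom φ =
        (Scheme.ΓSpecIso (CommRingCat.of k)).inv ≫ f.appLE ⊤ W (by simp) ≫ X.presheaf.map (homOfLE hVW).op := by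
      refine CommRingCat.hom_ext (RingHom.ext fun c => ?_)
      show φ (algebraMap k (LaurentPolynomial k) c) = _
      rw [show algebraMap k (LaurentPolynomial k) c = algebraMap (Polynomial k) (LaurentPolynomial k) (Polynomial.C c) by simp [LaurentPolynomial.algebraMap_apply]]
      refine (RingHom.congr_fun hφ _).trans ?_
      show X.presheaf.map (homOfLE hVW).op (Polynomial.aeval (R := k) g (Polynomial.C c)) = _
      rw [Polynomial.aeval_C]
      rfl
    rw [Category.assoc, ← Spec.map_comp, e1, Spec.map_comp, Spec.map_comp, Category.assoc,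
      Scheme.Opens.toSpecΓ_SpecMap_presheaf_map_assoc, ← Category.assoc W.toSpecΓ,
      Scheme.Opens.toSpecΓ_SpecMap_appLE, Scheme.Opens.toSpecΓ_top, Category.assoc, Category.assoc,
      AlgebraicGeometry.toSpecΓ_SpecMap_ΓSpecIso_inv]
    simp
  · let i := X.homOfLE (inf_le_left : V ⊓ U ≤ V)
    have key : ∀ y : ↥(V ⊓ U), ∃ O : X.Opens, y.1 ∈ O ∧ ∃ hO : O ≤ V ⊓ U,
        Smooth (X.homOfLE hO ≫ i ≫ V.toSpecΓ ≫ Spec.map (CommRingCat.ofHom φ)) := by
      intro y
      have hyW : y.1 ∈ W := hVW y.2.1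
      obtain ⟨a, haG, hya⟩ := hcov y.1 hyW y.2.2
      obtain ⟨j, rfl⟩ : a ∈ Set.range h := hh.symm ▸ haG
      obtain ⟨m, hm, ⟨g₁, hg₁⟩, hs⟩ := hq (hW.primeIdealOf ⟨y.1, hyW⟩) j ((hmem _ hyW e).2 y.2.1) ((hmem _ hyW _).2 hya)
      let O := X.basicOpen (m * h j)
      have hOV : O ≤ V := by
        show X.basicOpen (m * h j) ≤ X.basicOpen e
        rw [Scheme.basicOpen_mul, hg₁, Scheme.basicOpen_mul]
        exact inf_le_left.trans inf_le_right
      have hOU : O ≤ U := by
        show X.basicOpen (m * h j) ≤ U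
        rw [Scheme.basicOpen_mul]
        exact inf_le_right.trans (hGU _ haG)
      have hOm : O ≤ X.basicOpen m := by
        show X.basicOpen (m * h j) ≤ X.basicOpen m
        rw [Scheme.basicOpen_mul]; exact inf_le_left
      have hmV : X.basicOpen m ≤ V := by
        show X.basicOpen m ≤ X.basicOpen e
        rw [hg₁, Scheme.basicOpen_mul]
        exact inf_le_right
      refine ⟨O, ?_, le_inf hOV hOU, ?_⟩
      · show y.1 ∈ X.basicOpen (m * h j)
        rw [Scheme.basicOpen_mul]; exact ⟨(hmem _ hyW _).1 hm, hya⟩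
      have hbig : Smooth (X.homOfLE hmV ≫ V.toSpecΓ ≫ Spec.map (CommRingCat.ofHom φ)) := by
        rw [← Scheme.Opens.toSpecΓ_SpecMap_presheaf_map_assoc, ← Spec.map_comp]
        have hA := hW.basicOpen m
        haveI : IsIso (X.basicOpen m).toSpecΓ := by rw [← hA.isoSpec_hom]; infer_instance
        rw [MorphismProperty.cancel_left_of_respectsIso (P := @Smooth), HasRingHomProperty.Spec_iff (P := @Smooth)]
        refine Groth.Agent.H19.MovU.GmMap.smooth_laurent _ ?_
        haveI := hW.isLocalization_basicOpen m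
        let eL := IsLocalization.algEquiv (Submonoid.powers m) (Localization.Away m) Γ(X, X.basicOpen m)
        have h3 := RingHom.Smooth.respectsIso.1 _ eL.toRingEquiv hs
        refine (congrArg RingHom.Smooth (RingHom.ext fun c => ?_)).mpr h3
        refine Eq.trans ?_ (eL.commutes _).symm
        show X.presheaf.map (homOfLE hmV).op (φ (algebraMap (Polynomial k) (LaurentPolynomial k) c)) = _
        rw [show φ (algebraMap (Polynomial k) (LaurentPolynomial k) c) = ψ c from RingHom.congr_fun hφ c]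
        show (X.presheaf.map (homOfLE hVW).op ≫ X.presheaf.map (homOfLE hmV).op) (Polynomial.aeval (R := k) g c) = _
        rw [← X.presheaf.map_comp]
        rfl
      rw [show X.homOfLE (le_inf hOV hOU) ≫ i ≫ V.toSpecΓ ≫ Spec.map (CommRingCat.ofHom φ) =
        X.homOfLE hOm ≫ (X.homOfLE hmV ≫ V.toSpecΓ ≫ Spec.map (CommRingCat.ofHom φ)) by
          simp only [i, Scheme.homOfLE_homOfLE_assoc]]
      infer_instance
    choose O hyO hO hOs using key
    rw [IsZariskiLocalAtSource.iff_of_iSup_eq_top (P := @Smooth) (fun y => (V ⊓ U).ι ⁻¹ᵁ O y)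
      (top_le_iff.1 fun z _ => Opens.mem_iSup.2 ⟨⟨z.1, z.2⟩, hyO _⟩)]
    intro y
    haveI := hOs y
    have heq : ((V ⊓ U).ι ⁻¹ᵁ O y).ι ≫ i ≫ V.toSpecΓ ≫ Spec.map (CommRingCat.ofHom φ) =
        ((V ⊓ U).ι.isoImage ((V ⊓ U).ι ⁻¹ᵁ O y)).hom ≫ X.homOfLE (show (V ⊓ U).ι ''ᵁ ((V ⊓ U).ι ⁻¹ᵁ O y) ≤ O y by
          rintro _ ⟨z, hz, rfl⟩; exact hz) ≫ X.homOfLE (hO y) ≫ i ≫ V.toSpecΓ ≫ Spec.map (CommRingCat.ofHom φ) := by
      simp only [← Category.assoc]
      congr 3
      rw [← cancel_mono (V ⊓ U).ι]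
      simp
    show Smooth _
    rw [heq]
    infer_instance


end Groth.Agent.S16365
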