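import Groth.Statements.S16366
import Groth.Agent.H19.MovU.Alg
import Groth.Agent.Lib.Smoothing.Linearize
import Groth.Agent.Lib.Cyc.FieldDim


set_option autoImplicit false
universe u
open CategoryTheory Limits Opposite
open MovLem

namespace Groth.Agent.S16366

open CategoryTheory AlgebraicGeometry TensorProduct

theorem exists_good (k : Type u) [Field k] [Infinite k] (A : Type u) [CommRing A] [Algebra k A] [Algebra.FiniteType k A]
    (u : A) [Algebra.Smooth k (Localization.Away u)] {ι : Type} [Finite ι] (p : PrimeSpectrum A) (hp : u ∈ p.asIdeal)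
    (q : ι → PrimeSpectrum A) (hq : ∀ i, u ∉ (q i).asIdeal) (hle : ∀ i, q i ≤ p) :
    ∃ e : A, e ∉ p.asIdeal ∧ ∀ i, ∃ g : A, g ∉ (q i).asIdeal ∧ (∃ g₁, g = g₁ * e) ∧
      ((algebraMap A (Localization.Away g)).comp (Polynomial.aeval (R := k) (e * u)).toRingHom).Smooth := by
  classical
  haveI : Algebra.FinitePresentation k A := Algebra.FinitePresentation.of_finiteType.mp inferInstance
  haveI : ∀ i, Algebra.IsSmoothAt k (q i).asIdeal := fun i =>
    Groth.Agent.Lib.Smoothing.Linearize.isSmoothAt_of_smooth_away (h := u) _ (hq i)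
  haveI : ∀ i, Algebra.EssFiniteType k (Localization.AtPrime (q i).asIdeal) := fun i =>
    haveI : Algebra.EssFiniteType A (Localization.AtPrime (q i).asIdeal) :=
      Algebra.EssFiniteType.of_isLocalization _ (q i).asIdeal.primeCompl
    Algebra.EssFiniteType.comp k A _
  let L : ∀ i, A →ₗ[k] (IsLocalRing.ResidueField (Localization.AtPrime (q i).asIdeal) ⊗[Localization.AtPrime (q i).asIdeal]
      Ω[Localization.AtPrime (q i).asIdeal⁄k]) := fun i =>
    ((TensorProduct.mk (Localization.AtPrime (q i).asIdeal) (IsLocalRing.ResidueField (Localization.AtPrime (q i).asIdeal))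
      Ω[Localization.AtPrime (q i).asIdeal⁄k] 1).restrictScalars k) ∘ₗ
      (KaehlerDifferential.D k (Localization.AtPrime (q i).asIdeal)).toLinearMap ∘ₗ
      (IsScalarTower.toAlgHom k A (Localization.AtPrime (q i).asIdeal)).toLinearMap ∘ₗ LinearMap.mulRight k u
  let M : Option ι → Submodule k A := fun o => o.elim (p.asIdeal.restrictScalars k) fun i => LinearMap.ker (L i)
  have hM : ∀ o, M o ≠ ⊤ := by
    intro o ho
    rcases o with _ | i
    · exact p.isPrime.ne_top (Submodule.restrictScalars_eq_top_iff k A A |>.1 ho)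
    · have hz : ∀ a : A, L i a = 0 := fun a => LinearMap.mem_ker.1 (show a ∈ M (some i) from ho ▸ trivial)
      let S := Localization.AtPrime (q i).asIdeal
      let P : Derivation k S (IsLocalRing.ResidueField S ⊗[S] Ω[S⁄k]) :=
        (TensorProduct.mk S (IsLocalRing.ResidueField S) Ω[S⁄k] 1).compDer (KaehlerDifferential.D k S)
      have hA : ∀ a : A, P (algebraMap A S a) = 0 := by
        intro a
        have h1 : P (algebraMap A S u) = 0 := by simpa [L, P] using hz 1
        have h2 : P (algebraMap A S a * algebraMap A S u) = 0 := by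
          rw [← map_mul]; exact hz a
        rw [Derivation.leibniz, h1, smul_zero, zero_add] at h2
        have hu : IsUnit (algebraMap A S u) := IsLocalization.map_units S (⟨u, hq i⟩ : (q i).asIdeal.primeCompl)
        exact hu.smul_eq_zero.1 h2
      have hS : ∀ x : S, P x = 0 := fun x => by
        obtain ⟨⟨a, t⟩, h⟩ := IsLocalization.surj (q i).asIdeal.primeCompl x
        have h2 := congrArg P h
        rw [Derivation.leibniz, hA a, hA t, smul_zero, zero_add] at h2
        exact (IsLocalization.map_units S t).smul_eq_zero.1 h2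
      haveI := Groth.Agent.H19.MovU.Alg.finite_residueField k S hS
      let ψ : A →ₐ[k] IsLocalRing.ResidueField S :=
        (IsScalarTower.toAlgHom k S (IsLocalRing.ResidueField S)).comp (IsScalarTower.toAlgHom k A S)
      haveI : Algebra.IsIntegral k ψ.range := Algebra.IsIntegral.of_injective ψ.range.val Subtype.val_injective
      have hF : IsField ψ.range := isField_of_isIntegral_of_isField' (Field.toIsField k)
      have hmax : (RingHom.ker ψ.rangeRestrict.toRingHom).IsMaximal := by
        letI := hF.toField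
        exact RingHom.ker_isMaximal_of_surjective _ ψ.rangeRestrict_surjective
      have hker : (q i).asIdeal = RingHom.ker ψ.rangeRestrict.toRingHom := by
        ext a
        rw [RingHom.mem_ker, ← IsLocalization.AtPrime.to_map_mem_maximal_iff S (q i).asIdeal, ← IsLocalRing.residue_eq_zero_iff]
        exact ⟨fun h => Subtype.ext h, fun h => congrArg Subtype.val h⟩
      rw [← hker] at hmax
      exact hq i (hmax.eq_of_le p.isPrime.ne_top (hle i) ▸ hp)
  obtain ⟨e, he⟩ := Submodule.exists_forall_notMem_of_forall_ne_top M hM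
  refine ⟨e, he none, fun i => ?_⟩
  algebraize [((Polynomial.aeval (R := k) (e * u)) : Polynomial k →ₐ[k] A).toRingHom]
  haveI : IsScalarTower k (Polynomial k) A := IsScalarTower.of_algebraMap_eq fun c => ((Polynomial.aeval (R := k) (e * u)).commutes c).symm
  haveI : IsScalarTower k (Polynomial k) (Localization.AtPrime (q i).asIdeal) := IsScalarTower.of_algebraMap_eq fun c => by
    rw [IsScalarTower.algebraMap_apply (Polynomial k) A (Localization.AtPrime (q i).asIdeal), ← IsScalarTower.algebraMap_apply k (Polynomial k) A,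
      ← IsScalarTower.algebraMap_apply]
  haveI : Algebra.FiniteType (Polynomial k) A := Algebra.FiniteType.of_restrictScalars_finiteType k _ _
  haveI : Algebra.FinitePresentation (Polynomial k) A := Algebra.FinitePresentation.of_finiteType.mp inferInstance
  haveI : Algebra.IsSmoothAt (Polynomial k) (q i).asIdeal := by
    refine Groth.Agent.H19.MovU.Alg.formallySmooth_polynomial k (Localization.AtPrime (q i).asIdeal) ?_
    rw [IsScalarTower.algebraMap_apply (Polynomial k) A (Localization.AtPrime (q i).asIdeal),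
      show algebraMap (Polynomial k) A Polynomial.X = e * u from Polynomial.aeval_X _]
    exact fun h => he (some i) (LinearMap.mem_ker.2 h)
  obtain ⟨g₁, hg₁, hs₁⟩ := Algebra.IsSmoothAt.exists_notMem_smooth (R := Polynomial k) (q i).asIdeal
  let g := g₁ * e
  have he' : e ∉ (q i).asIdeal := fun h => he none (hle i h)
  have hs : Algebra.Smooth (Polynomial k) (Localization.Away g) :=
    Algebra.basicOpen_subset_smoothLocus_iff_smooth.1
      (fun y hy => Algebra.basicOpen_subset_smoothLocus_iff_smooth.2 hs₁ (PrimeSpectrum.basicOpen_mul_le_left g₁ e hy))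
  refine ⟨g, fun h => ((q i).isPrime.mem_or_mem h).elim hg₁ he', ⟨g₁, rfl⟩, ?_⟩
  rw [show (algebraMap A (Localization.Away g)).comp (Polynomial.aeval (R := k) (e * u)).toRingHom =
    algebraMap (Polynomial k) (Localization.Away g) from (IsScalarTower.algebraMap_eq (Polynomial k) A (Localization.Away g)).symm]
  exact RingHom.smooth_algebraMap.2 hs



open AlgebraicGeometry in
/-- Let k be an infinite field, X a scheme of finite type over k and u a global function on X such that
the open subscheme X_u where u is invertible is smooth over k. Let x be a point of X at which u is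
not invertible, and let x'_1, …, x'_n be finitely many points of X_u, each of which specializes to
x. Then there exist an open neighbourhood X' of x, a unit e among the functions on X', and the
k-morphism g : X' → A^1_k = Spec k[T] whose pulled-back coordinate T is e·u restricted to X', such
that g is smooth on some open neighbourhood of each x'_i. (Equivalently: after shrinking X around x,
the equation u of the principal divisor D = (u) is replaced by another equation e·u of the same
divisor that is smooth at the chosen points. The published statement takes D an effective Cartier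
divisor, i.e. u a non-zero-divisor; that is not assumed here, and the argument does not need it.) -/
theorem result
    {k : Type u} [Field k] [Infinite k]
    (X : Scheme.{u}) (f : X ⟶ Spec (CommRingCat.of k)) [LocallyOfFiniteType f] [QuasiCompact f]
    (u : Γ(X, ⊤)) [Smooth ((X.basicOpen u).ι ≫ f)]
    (x : ↥X) (hx : x ∉ X.basicOpen u)
    {ι : Type} [Finite ι] (x' : ι → ↥X) (hx' : ∀ i, x' i ∈ X.basicOpen u) (hgen : ∀ i, x' i ⤳ x) :
    ∃ (X' : X.Opens) (e : Γ(X, X')) (g : (↑X' : Scheme.{u}) ⟶ Spec (CommRingCat.of (Polynomial k))),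
      x ∈ X' ∧ IsUnit e ∧
      g ≫ Spec.map (CommRingCat.ofHom (Polynomial.C : k →+* Polynomial k)) = X'.ι ≫ f ∧
      X'.topIso.hom (g.appTop ((Scheme.ΓSpecIso (CommRingCat.of (Polynomial k))).inv Polynomial.X)) =
        e * X.presheaf.map (homOfLE le_top).op u ∧
      ∀ i, ∃ (W : X.Opens) (hW : W ≤ X'), x' i ∈ W ∧ Smooth (X.homOfLE hW ≫ g) := by
  obtain ⟨U, hU, hxU, -⟩ := exists_isAffineOpen_mem_and_subset (X := X) (x := x) (U := ⊤) trivial
  have hiU : ∀ i, x' i ∈ U := fun i => (hgen i).mem_open U.2 hxU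
  let sh := Groth.Agent.Lib.Cyc.FieldDim.structHom f U
  letI : Algebra k Γ(X, U) := sh.toAlgebra
  haveI : Algebra.FiniteType k Γ(X, U) := Groth.Agent.Lib.Cyc.FieldDim.structHom_finiteType f hU
  let u₀ : Γ(X, U) := X.presheaf.map (homOfLE le_top).op u
  have hbu : X.basicOpen u₀ = U ⊓ X.basicOpen u := X.basicOpen_res u _
  -- smoothness of the localization
  have hsm : Algebra.Smooth k (Localization.Away u₀) := by
    have hle : X.basicOpen u₀ ≤ X.basicOpen u := hbu.le.trans inf_le_right
    have hW := hU.basicOpen u₀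
    haveI : Smooth ((X.basicOpen u₀).ι ≫ f) := by
      rw [← X.homOfLE_ι hle, Category.assoc]
      infer_instance
    haveI : IsAffine (X.basicOpen u₀).toScheme := hW
    have h1 := (HasRingHomProperty.iff_of_isAffine (P := @Smooth)).1 ‹Smooth ((X.basicOpen u₀).ι ≫ f)›
    letI : Algebra k Γ(X, X.basicOpen u₀) := ((algebraMap Γ(X, U) Γ(X, X.basicOpen u₀)).comp sh).toAlgebra
    haveI : IsScalarTower k Γ(X, U) Γ(X, X.basicOpen u₀) := IsScalarTower.of_algebraMap_eq' rfl
    have hT : (algebraMap k Γ(X, X.basicOpen u₀) = ((Scheme.ΓSpecIso (CommRingCat.of k)).inv ≫ ((X.basicOpen u₀).ι ≫ f).appTop ≫ (X.basicOpen u₀).topIso.hom).hom) := by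
      rw [IsScalarTower.algebraMap_eq k Γ(X, U) Γ(X, X.basicOpen u₀)]
      show ((Scheme.ΓSpecIso (CommRingCat.of k)).inv ≫ f.appLE ⊤ U _ ≫ X.presheaf.map (homOfLE (X.basicOpen_le u₀)).op).hom = _
      congr 2
      simp [Scheme.Hom.appLE, ← Functor.map_comp]
      congr 2
      exact (congrArg X.presheaf.map (Subsingleton.elim _ _)).trans (X.presheaf.map_comp _ _)
    haveI := hU.isLocalization_basicOpen u₀
    have h2 : (algebraMap k Γ(X, X.basicOpen u₀)).Smooth := by
      rw [hT]
      simp only [CommRingCat.hom_comp]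
      exact RingHom.Smooth.respectsIso.2 _ (Scheme.ΓSpecIso (CommRingCat.of k)).symm.commRingCatIsoToRingEquiv
        (RingHom.Smooth.respectsIso.1 _ (X.basicOpen u₀).topIso.commRingCatIsoToRingEquiv h1)
    haveI := RingHom.smooth_algebraMap.1 h2
    exact Algebra.Smooth.of_equiv ((IsLocalization.algEquiv (Submonoid.powers u₀) Γ(X, X.basicOpen u₀) (Localization.Away u₀)).restrictScalars k)
  have hmem : ∀ (y : X) (hy : y ∈ U) (a : Γ(X, U)), a ∉ (hU.primeIdealOf ⟨y, hy⟩).asIdeal ↔ y ∈ X.basicOpen a := fun y hy a => by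
    rw [Groth.Agent.Lib.Cyc.FieldDim.mem_primeIdealOf_iff hU hy, Scheme.evaluation_eq_zero_iff_notMem_basicOpen, not_not]
  obtain ⟨e, hep, he⟩ := exists_good k Γ(X, U) u₀ (hU.primeIdealOf ⟨x, hxU⟩)
    (not_not.1 fun h => hx (hbu.le ((hmem x hxU _).1 h)).2)
    (fun i => hU.primeIdealOf ⟨x' i, hiU i⟩) (fun i => (hmem _ _ _).2 (hbu.ge ⟨hiU i, hx' i⟩))
    (fun i => (Groth.Agent.Lib.Cyc.FieldDim.primeIdealOf_le_iff hU hxU (hiU i)).2 (hgen i))
  let φ : CommRingCat.of (Polynomial k) ⟶ Γ(X, U) := CommRingCat.ofHom (Polynomial.aeval (R := k) (e * u₀)).toRingHom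
  let X' := X.basicOpen e
  have hX' : X' ≤ U := X.basicOpen_le e
  let g₀ : (U : Scheme.{u}) ⟶ Spec (CommRingCat.of (Polynomial k)) := U.toSpecΓ ≫ Spec.map φ
  have hg₀ : g₀ ≫ Spec.map (CommRingCat.ofHom (Polynomial.C : k →+* Polynomial k)) = U.ι ≫ f := by
    have e1 : CommRingCat.ofHom (Polynomial.C : k →+* Polynomial k) ≫ φ = (Scheme.ΓSpecIso (CommRingCat.of k)).inv ≫ f.appLE ⊤ U (by simp) := by
      refine CommRingCat.hom_ext (RingHom.ext fun c => ?_)
      exact Polynomial.aeval_C _ c
    rw [Category.assoc, ← Spec.map_comp, e1, Spec.map_comp, ← Category.assoc,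
      Scheme.Opens.toSpecΓ_SpecMap_appLE, Scheme.Opens.toSpecΓ_top, Category.assoc, Category.assoc,
      AlgebraicGeometry.toSpecΓ_SpecMap_ΓSpecIso_inv]
    simp
  refine ⟨X', X.presheaf.map (homOfLE hX').op e, X'.toSpecΓ ≫ Spec.map (φ ≫ X.presheaf.map (homOfLE hX').op),
    (hmem x hxU e).1 hep, ?_, ?_, ?_, fun i => ?_⟩
  · exact RingedSpace.isUnit_res_basicOpen X.toRingedSpace e
  · rw [Spec.map_comp, Scheme.Opens.toSpecΓ_SpecMap_presheaf_map_assoc, Category.assoc]
    show X.homOfLE hX' ≫ g₀ ≫ _ = _
    rw [hg₀, X.homOfLE_ι_assoc]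
  · have e2 : (X'.toSpecΓ ≫ Spec.map (φ ≫ X.presheaf.map (homOfLE hX').op)).appTop ≫ X'.topIso.hom =
        (Scheme.ΓSpecIso (CommRingCat.of (Polynomial k))).hom ≫ φ ≫ X.presheaf.map (homOfLE hX').op := by
      rw [Scheme.Hom.comp_appTop, Scheme.Opens.toSpecΓ_appTop, Category.assoc, Category.assoc, Iso.inv_hom_id,
        Category.comp_id, Scheme.ΓSpecIso_naturality]
    have e3 := congrArg (fun m => CommRingCat.Hom.hom m ((Scheme.ΓSpecIso (CommRingCat.of (Polynomial k))).inv Polynomial.X)) e2
    refine e3.trans ?_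
    simp only [CommRingCat.comp_apply, Iso.inv_hom_id_apply]
    show X.presheaf.map (homOfLE hX').op (Polynomial.aeval (R := k) (e * u₀) Polynomial.X) = _
    rw [Polynomial.aeval_X, map_mul]
    congr 1
    rw [← CommRingCat.comp_apply, ← X.presheaf.map_comp]
    rfl
  · obtain ⟨g, hg, ⟨g₁, rfl⟩, hs⟩ := he i
    have hW : X.basicOpen (g₁ * e) ≤ X' := by rw [Scheme.basicOpen_mul]; exact inf_le_right
    refine ⟨_, hW, (hmem _ (hiU i) _).1 hg, ?_⟩
    rw [← Scheme.Opens.toSpecΓ_SpecMap_presheaf_map_assoc, ← Spec.map_comp, Category.assoc, ← Functor.map_comp]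
    have hA := hU.basicOpen (g₁ * e)
    haveI : IsIso (X.basicOpen (g₁ * e)).toSpecΓ := by rw [← hA.isoSpec_hom]; infer_instance
    rw [MorphismProperty.cancel_left_of_respectsIso (P := @Smooth), HasRingHomProperty.Spec_iff (P := @Smooth)]
    haveI := hU.isLocalization_basicOpen (g₁ * e)
    let eL := IsLocalization.algEquiv (Submonoid.powers (g₁ * e)) (Localization.Away (g₁ * e)) Γ(X, X.basicOpen (g₁ * e))
    have h3 := RingHom.Smooth.respectsIso.1 _ eL.toRingEquiv hs
    refine (congrArg RingHom.Smooth (RingHom.ext fun c => ?_)).mpr h3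
    exact (eL.commutes _).symm

end Groth.Agent.S16366
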