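import Groth.Statements.S16367
import Mathlib
-- import your own Groth.Agent.* helpers here

set_option autoImplicit false
universe u
open MovLem

namespace Groth.Agent.S16367

theorem prod_add_sub_mem {R : Type*} [CommRing R] {ι : Type*} (I : Ideal R) (t : Finset ι) (a b : ι → R) (m : ι → ℕ)
    (h : ∀ i ∈ t, b i ∈ I) : ∏ i ∈ t, (a i + b i) ^ m i - ∏ i ∈ t, a i ^ m i ∈ I := by
  rw [← Ideal.Quotient.eq, map_prod, map_prod]
  refine Finset.prod_congr rfl fun i hi => ?_
  rw [map_pow, map_pow, map_add, Ideal.Quotient.eq_zero_iff_mem.mpr (h i hi), add_zero]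


/-- The chart computation of its proof: let k be a commutative ring, P = k[x_1, …, x_d, w_1, …, w_n] a
polynomial ring in two groups of variables, u a polynomial in the x-variables alone, v a vector in
k^d, J a set of indices among the w-variables with ζ = ∏_{j ∈ J} w_j, and N ≤ s natural numbers. Let
(f_λ) be a finite family of elements of P, each of total degree at most N in the x-variables, and
assume that ζ^N + c_1 ζ^(N-1) u + ⋯ + c_N u^N lies in the ideal generated by the f_λ for some c_1,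
…, c_N ∈ P. For each λ let φ_λ ∈ P[τ] be the polynomial τ^N · f_λ(x + u^s v/τ, w), written out
monomial by monomial: a monomial a·x^m·w^m' of x-degree e = |m| contributes a · τ^(N-e) · ∏_i (τ x_i
+ u^s v_i)^(m_i) · w^m'. Then there are c'_1, …, c'_N ∈ P[τ] with (τζ)^N + c'_1 (τζ)^(N-1) u + ⋯ +
c'_N u^N in the ideal of P[τ] generated by the φ_λ. (This identity is what shows that translating a
cycle by t·u^s·v preserves the modulus condition on the chart whose coordinates are the z_i and the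
1/z_j, with τ = 1/t; integrality of ζ/u, resp. τζ/u, is expressed by such monic binary forms.) -/
theorem result
    {k : Type u} [CommRing k] (d n : ℕ) (u : MvPolynomial (Fin d) k) (v : Fin d → k)
    (J : Finset (Fin n)) (N s : ℕ) (hs : N ≤ s)
    {Λ : Type u} [Fintype Λ] (f : Λ → MvPolynomial (Fin d ⊕ Fin n) k)
    (hdeg : ∀ l, ∀ m ∈ (f l).support, ∑ i : Fin d, m (Sum.inl i) ≤ N)
    (c : ℕ → MvPolynomial (Fin d ⊕ Fin n) k)
    (hE : (∏ j ∈ J, MvPolynomial.X (Sum.inr j)) ^ N +
        ∑ i ∈ Finset.Icc 1 N, c i * (∏ j ∈ J, MvPolynomial.X (Sum.inr j)) ^ (N - i) *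
          MvPolynomial.rename Sum.inl u ^ i ∈ Ideal.span (Set.range f)) :
    ∃ c' : ℕ → Polynomial (MvPolynomial (Fin d ⊕ Fin n) k),
      (Polynomial.X * Polynomial.C (∏ j ∈ J, MvPolynomial.X (Sum.inr j))) ^ N +
        ∑ i ∈ Finset.Icc 1 N, c' i *
          (Polynomial.X * Polynomial.C (∏ j ∈ J, MvPolynomial.X (Sum.inr j))) ^ (N - i) *
            Polynomial.C (MvPolynomial.rename Sum.inl u) ^ i ∈
      Ideal.span (Set.range fun l : Λ =>
        ∑ m ∈ (f l).support,
          Polynomial.C (MvPolynomial.C (MvPolynomial.coeff m (f l))) *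
            Polynomial.X ^ (N - ∑ i : Fin d, m (Sum.inl i)) *
            (∏ i : Fin d, (Polynomial.X * Polynomial.C (MvPolynomial.X (Sum.inl i)) +
                Polynomial.C (MvPolynomial.rename Sum.inl u ^ s * MvPolynomial.C (v i))) ^ m (Sum.inl i)) *
            ∏ j : Fin n, Polynomial.C (MvPolynomial.X (Sum.inr j)) ^ m (Sum.inr j)) := by
  classical
  obtain ⟨g, hg⟩ := (Ideal.mem_span_range_iff_exists_fun).mp hE
  set ζ : MvPolynomial (Fin d ⊕ Fin n) k := ∏ j ∈ J, MvPolynomial.X (Sum.inr j) with hζ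
  set U : MvPolynomial (Fin d ⊕ Fin n) k := MvPolynomial.rename Sum.inl u with hU
  set φ : Λ → Polynomial (MvPolynomial (Fin d ⊕ Fin n) k) := fun l => ∑ m ∈ (f l).support,
          Polynomial.C (MvPolynomial.C (MvPolynomial.coeff m (f l))) *
            Polynomial.X ^ (N - ∑ i : Fin d, m (Sum.inl i)) *
            (∏ i : Fin d, (Polynomial.X * Polynomial.C (MvPolynomial.X (Sum.inl i)) +
                Polynomial.C (U ^ s * MvPolynomial.C (v i))) ^ m (Sum.inl i)) *
            ∏ j : Fin n, Polynomial.C (MvPolynomial.X (Sum.inr j)) ^ m (Sum.inr j) with hφ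
  have hf : ∀ l, f l = ∑ m ∈ (f l).support, MvPolynomial.C (MvPolynomial.coeff m (f l)) *
      ((∏ i : Fin d, MvPolynomial.X (Sum.inl i) ^ m (Sum.inl i)) * ∏ j : Fin n, MvPolynomial.X (Sum.inr j) ^ m (Sum.inr j)) := by
    intro l
    conv_lhs => rw [MvPolynomial.as_sum (f l)]
    refine Finset.sum_congr rfl fun m _ => ?_
    rw [MvPolynomial.monomial_eq, Finsupp.prod_fintype _ _ (fun i => pow_zero _), Fintype.prod_sum_type]
  have key : ∀ l, φ l - Polynomial.X ^ N * Polynomial.C (f l) ∈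
      Ideal.span {(Polynomial.C (U ^ s) : Polynomial (MvPolynomial (Fin d ⊕ Fin n) k))} := by
    intro l
    conv => arg 2; rw [hf l, map_sum, Finset.mul_sum]
    simp only [hφ]
    rw [← Finset.sum_sub_distrib]
    refine Ideal.sum_mem _ fun m hm => ?_
    have h2 := prod_add_sub_mem (Ideal.span {(Polynomial.C (U ^ s) : Polynomial (MvPolynomial (Fin d ⊕ Fin n) k))})
      (Finset.univ : Finset (Fin d)) (fun i => Polynomial.X * Polynomial.C (MvPolynomial.X (Sum.inl i)))
      (fun i => Polynomial.C (U ^ s * MvPolynomial.C (v i))) (fun i => m (Sum.inl i))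
      (fun i _ => by rw [Polynomial.C_mul]; exact Ideal.mul_mem_right _ _ (Ideal.mem_span_singleton_self _))
    convert Ideal.mul_mem_left _ (Polynomial.C (MvPolynomial.C (MvPolynomial.coeff m (f l))) *
      Polynomial.X ^ (N - ∑ i : Fin d, m (Sum.inl i)) * ∏ j : Fin n, Polynomial.C (MvPolynomial.X (Sum.inr j)) ^ m (Sum.inr j)) h2 using 1
    rw [show (Polynomial.X : Polynomial (MvPolynomial (Fin d ⊕ Fin n) k)) ^ N =
        Polynomial.X ^ (N - ∑ i : Fin d, m (Sum.inl i)) * Polynomial.X ^ (∑ i : Fin d, m (Sum.inl i)) by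
      rw [← pow_add, Nat.sub_add_cancel (hdeg l m hm)]]
    simp only [map_mul, map_prod, map_pow, mul_pow, Finset.prod_mul_distrib, Finset.prod_pow_eq_pow_sum]
    ring
  obtain ⟨Q, hQ⟩ := Ideal.mem_span_singleton'.mp (Ideal.sum_mem (Ideal.span {(Polynomial.C (U ^ s) : Polynomial (MvPolynomial (Fin d ⊕ Fin n) k))})
    (fun l (_ : l ∈ Finset.univ) => Ideal.mul_mem_left _ (Polynomial.C (g l)) (key l)))
  have hsum : ∑ l, Polynomial.C (g l) * φ l = Polynomial.X ^ N * Polynomial.C (ζ ^ N + ∑ i ∈ Finset.Icc 1 N, c i * ζ ^ (N - i) * U ^ i) +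
      Q * Polynomial.C (U ^ s) := by
    rw [hQ, ← hg, map_sum, Finset.mul_sum, ← Finset.sum_add_distrib]
    refine Finset.sum_congr rfl fun l _ => ?_
    rw [map_mul]
    ring
  have hmain : Polynomial.X ^ N * Polynomial.C (ζ ^ N + ∑ i ∈ Finset.Icc 1 N, c i * ζ ^ (N - i) * U ^ i) =
      (Polynomial.X * Polynomial.C ζ) ^ N + ∑ i ∈ Finset.Icc 1 N, (Polynomial.C (c i) * Polynomial.X ^ i) *
        (Polynomial.X * Polynomial.C ζ) ^ (N - i) * Polynomial.C U ^ i := by
    rw [map_add, mul_add, map_sum, Finset.mul_sum, map_pow, mul_pow]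
    refine congrArg₂ (· + ·) rfl (Finset.sum_congr rfl fun i hi => ?_)
    rw [map_mul, map_mul, map_pow, map_pow, mul_pow,
      show (Polynomial.X : Polynomial (MvPolynomial (Fin d ⊕ Fin n) k)) ^ N = Polynomial.X ^ i * Polynomial.X ^ (N - i) by
        rw [← pow_add, Nat.add_sub_cancel' (Finset.mem_Icc.mp hi).2]]
    ring
  rcases Nat.eq_zero_or_pos N with hN0 | hN0
  · subst hN0
    refine ⟨fun _ => 0, ?_⟩
    rw [Finset.Icc_eq_empty (by omega), Finset.sum_empty, add_zero, pow_zero]
    simp only [Finset.Icc_eq_empty (show ¬ (1 ≤ 0) by omega), Finset.sum_empty, add_zero, pow_zero] at hg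
    rw [show (1 : Polynomial (MvPolynomial (Fin d ⊕ Fin n) k)) = ∑ l, Polynomial.C (g l) * φ l by
      rw [← map_one Polynomial.C, ← hg, map_sum]
      refine Finset.sum_congr rfl fun l _ => ?_
      rw [map_mul]
      congr 1
      conv_lhs => rw [hf l, map_sum]
      simp only [hφ]
      refine Finset.sum_congr rfl fun m hm => ?_
      have h0 : ∀ i, m (Sum.inl i) = 0 := fun i => Nat.le_zero.mp ((Finset.single_le_sum (fun j _ => Nat.zero_le (m (Sum.inl j))) (Finset.mem_univ i)).trans (hdeg l m hm))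
      simp [h0, map_prod]]
    exact Ideal.sum_mem _ fun l _ => Ideal.mul_mem_left _ _ (Ideal.subset_span ⟨l, rfl⟩)
  refine ⟨fun i => Polynomial.C (c i) * Polynomial.X ^ i + if i = N then Q * Polynomial.C (U ^ (s - N)) else 0, ?_⟩
  have : ∑ l, Polynomial.C (g l) * φ l ∈ Ideal.span (Set.range φ) :=
    Ideal.sum_mem _ fun l _ => Ideal.mul_mem_left _ _ (Ideal.subset_span ⟨l, rfl⟩)
  convert this using 1
  rw [hsum, hmain]
  simp only [add_mul, Finset.sum_add_distrib, ite_mul, zero_mul, Finset.sum_ite_eq', Finset.mem_Icc]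
  rw [if_pos ⟨hN0, le_refl N⟩, Nat.sub_self, pow_zero, mul_one, add_assoc, mul_assoc Q, ← map_pow Polynomial.C U N, ← map_mul,
    ← pow_add, Nat.sub_add_cancel hs]

end Groth.Agent.S16367
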