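import Groth.Statements.S16368
import Mathlib.RingTheory.Nakayama
import Mathlib.LinearAlgebra.FreeModule.Basic
import Mathlib.RingTheory.Finiteness.Defs
import Mathlib.LinearAlgebra.StdBasis
import Mathlib.RingTheory.LocalRing.MaximalIdeal.Basic
import Mathlib.LinearAlgebra.Pi
import Mathlib.Algebra.CharP.Lemmas
import Mathlib.RingTheory.Finiteness.Basic
-- import your own Groth.Agent.* helpers here

set_option autoImplicit false
universe u v
open TensorProduct
open FrobAlg

namespace Groth.Agent.S16368

/-- Let R be a local ring of prime characteristic p and M a finitely presented R-module. Write R' for R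
regarded as an R-algebra through its Frobenius a ↦ a^p, so that R' ⊗_R M is the pull-back of M along
the absolute Frobenius of Spec R, an R'-module. If this pull-back is isomorphic to M — there is a
bijective map e : R' ⊗_R M → M, additive and semilinear for the identification R' = R — then M is
free. -/
theorem result
    (p : ℕ) [Fact p.Prime] (R : Type u) [CommRing R] [IsLocalRing R] [CharP R p]
    (M : Type v) [AddCommGroup M] [Module R M] [Module.FinitePresentation R M]
    (e : (FrobAlg.Twist p R ⊗[R] M) →ₛₗ[((FrobAlg.toTwist p R).symm : FrobAlg.Twist p R →+* R)] M)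
    (he : Function.Bijective e) :
    Module.Free R M := by
  classical
  have hp := (Fact.out : p.Prime)
  -- minimal number of generators
  have hex : ∃ n : ℕ, ∃ π : (Fin n → R) →ₗ[R] M, Function.Surjective π := Module.Finite.exists_fin' R M
  obtain ⟨n, ⟨π, hπ⟩, hnmin⟩ : ∃ n, (∃ π : (Fin n → R) →ₗ[R] M, Function.Surjective π) ∧
      ∀ k < n, ¬ ∃ π : (Fin k → R) →ₗ[R] M, Function.Surjective π :=
    ⟨Nat.find hex, Nat.find_spec hex, fun k => Nat.find_min hex⟩
  have hmin : ∀ v : Fin n → R, π v = 0 → ∀ i, v i ∈ IsLocalRing.maximalIdeal R := by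
    intro v hv i
    by_contra h
    rw [IsLocalRing.mem_maximalIdeal, mem_nonunits_iff, not_not] at h
    have hn0 : 0 < n := i.pos
    obtain ⟨n', hn'⟩ : ∃ n', n = n' + 1 := ⟨n - 1, by omega⟩
    let e₁ : Fin (n' + 1) ≃ Fin n := finCongr hn'.symm
    let i' := e₁.symm i
    let ι : (Fin n' → R) →ₗ[R] (Fin n → R) :=
      Fintype.linearCombination R fun j => Pi.single (e₁ (i'.succAbove j)) 1
    refine hnmin n' (show n' < n by omega) ⟨π ∘ₗ ι, ?_⟩
    rw [← LinearMap.range_eq_top, ← top_le_iff]
    intro m _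
    obtain ⟨w, rfl⟩ := hπ m
    obtain ⟨u, hu⟩ := h
    let w' : Fin n → R := w - (w i * (↑u⁻¹ : R)) • v
    have hw' : w' i = 0 := by simp [w', ← hu, mul_assoc]
    refine ⟨fun j => w' (e₁ (i'.succAbove j)), ?_⟩
    have hι : ι (fun j => w' (e₁ (i'.succAbove j))) = w' := by
      conv_rhs => rw [pi_eq_sum_univ' w']
      rw [Fintype.linearCombination_apply, ← e₁.sum_comp, Fin.sum_univ_succAbove _ i']
      simp only [i', Equiv.apply_symm_apply, hw', zero_smul, zero_add]
    rw [LinearMap.comp_apply, hι]
    simp [w', hv]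
  set K := LinearMap.ker π
  have hKfg : K.FG := Module.FinitePresentation.fg_ker π hπ
  obtain ⟨S, hS⟩ := hKfg
  let I : Ideal R := Ideal.span (Set.range fun x : {x // x ∈ S} × Fin n => x.1.1 x.2)
  have hKI : K ≤ Submodule.pi Set.univ (fun _ : Fin n => I) := by
    rw [← hS, Submodule.span_le]
    intro v hv i _
    exact Ideal.subset_span ⟨(⟨v, hv⟩, i), rfl⟩
  -- the pull-back along Frobenius
  let Kσ : Submodule R (Fin n → R) := Submodule.span R ((fun v i => v i ^ p) '' (K : Set (Fin n → R)))
  let σ : (Fin n → R) →+ (Fin n → R) :=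
    { toFun := fun v i => v i ^ p
      map_zero' := funext fun i => zero_pow hp.ne_zero
      map_add' := fun v w => funext fun i => add_pow_char _ _ p }
  let σ' : M →+ (Fin n → R) ⧸ Kσ :=
    { toFun := fun m => Kσ.mkQ (σ (Function.surjInv hπ m))
      map_zero' := (Submodule.Quotient.mk_eq_zero _).2 (Submodule.subset_span ⟨_, Function.surjInv_eq hπ 0, rfl⟩)
      map_add' := fun x y => by
        rw [← map_add, ← map_add σ, Submodule.mkQ_apply, Submodule.mkQ_apply, Submodule.Quotient.eq, ← map_sub]
        refine Submodule.subset_span ⟨_, ?_, rfl⟩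
        simp [K, Function.surjInv_eq hπ] }
  have hσ' : ∀ v, σ' (π v) = Kσ.mkQ (σ v) := fun v => by
    show Kσ.mkQ (σ (Function.surjInv hπ (π v))) = _
    rw [Submodule.mkQ_apply, Submodule.mkQ_apply, Submodule.Quotient.eq, ← map_sub]
    refine Submodule.subset_span ⟨_, ?_, rfl⟩
    simp [K, Function.surjInv_eq hπ]
  let T : FrobAlg.Twist p R ⊗[R] M →+ (Fin n → R) ⧸ Kσ := TensorProduct.liftAddHom
    { toFun := fun a =>
        { toFun := fun m => (FrobAlg.toTwist p R).symm a • σ' m
          map_zero' := by simp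
          map_add' := by simp }
      map_zero' := by ext; simp
      map_add' := fun a b => by ext; simp [add_smul] }
    (fun r a m => by
      obtain ⟨v, rfl⟩ := hπ m
      show (FrobAlg.toTwist p R).symm (r • a) • σ' (π v) = (FrobAlg.toTwist p R).symm a • σ' (r • π v)
      rw [← map_smul π, hσ', hσ', Algebra.smul_def, map_mul, FrobAlg.algebraMap_twist, RingEquiv.symm_apply_apply,
        show σ (r • v) = r ^ p • σ v from funext fun i => mul_pow _ _ _, map_smul, smul_smul, mul_comm])
  let G : (Fin n → R) →ₗ[R] M := Fintype.linearCombination R fun i => e (1 ⊗ₜ π (Pi.single i 1))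
  have hG : ∀ v : Fin n → R, G v = e (∑ i, FrobAlg.toTwist p R (v i) ⊗ₜ π (Pi.single i 1)) := fun v => by
    rw [Fintype.linearCombination_apply, map_sum]
    refine Finset.sum_congr rfl fun i _ => ?_
    have h1 := e.map_smulₛₗ (FrobAlg.toTwist p R (v i)) ((1 : FrobAlg.Twist p R) ⊗ₜ π (Pi.single i 1))
    rw [TensorProduct.smul_tmul', smul_eq_mul, mul_one] at h1
    rw [h1]
    exact congrArg (fun c => c • e ((1 : FrobAlg.Twist p R) ⊗ₜ π (Pi.single i 1))) ((FrobAlg.toTwist p R).symm_apply_apply (v i)).symm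
  have hGker : ∀ v, G v = 0 → v ∈ Kσ := fun v hv => by
    rw [hG, ← map_zero e] at hv
    have h1 := congr_arg T (he.1 hv)
    rw [map_sum, map_zero] at h1
    rw [← Submodule.Quotient.mk_eq_zero Kσ, ← h1, ← Submodule.mkQ_apply]
    conv_lhs => rw [pi_eq_sum_univ' v, map_sum]
    refine Finset.sum_congr rfl fun i _ => ?_
    show _ = (FrobAlg.toTwist p R).symm (FrobAlg.toTwist p R (v i)) • σ' (π (Pi.single i 1))
    rw [RingEquiv.symm_apply_apply, hσ', map_smul,
      show σ (Pi.single i 1) = Pi.single i 1 from funext fun j => by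
        by_cases h : j = i
        · subst h; simp [σ]
        · simp [σ, h, hp.ne_zero]]
  have hGsurj : Function.Surjective G := fun m => by
    obtain ⟨t, rfl⟩ := he.2 m
    induction t using TensorProduct.induction_on with
    | zero => exact ⟨0, by simp⟩
    | tmul a m =>
      obtain ⟨v, rfl⟩ := hπ m
      refine ⟨fun i => (FrobAlg.toTwist p R).symm a * v i ^ p, ?_⟩
      rw [hG]
      congr 1
      conv_rhs => rw [pi_eq_sum_univ' v, map_sum, TensorProduct.tmul_sum]
      refine Finset.sum_congr rfl fun i _ => ?_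
      rw [map_smul, TensorProduct.tmul_smul, TensorProduct.smul_tmul', Algebra.smul_def, map_mul, RingEquiv.apply_symm_apply,
        FrobAlg.algebraMap_twist, mul_comm]
    | add x y hx hy =>
      obtain ⟨u, hu⟩ := hx
      obtain ⟨v, hv⟩ := hy
      exact ⟨u + v, by rw [map_add, map_add, hu, hv]⟩
  let L : (Fin n → R) →ₗ[R] (Fin n → R) :=
    Fintype.linearCombination R fun i => Function.surjInv hπ (G (Pi.single i 1))
  have hL : ∀ v, π (L v) = G v := fun v => by
    conv_rhs => rw [pi_eq_sum_univ' v]
    simp only [L, Fintype.linearCombination_apply, map_sum, map_smul, Function.surjInv_eq hπ]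
  have hLsurj : LinearMap.range L = ⊤ := by
    refine top_le_iff.1 (Submodule.le_of_le_smul_of_le_jacobson_bot (I := IsLocalRing.maximalIdeal R)
      (N' := (⊤ : Submodule R (Fin n → R))) Module.Finite.fg_top (IsLocalRing.maximalIdeal_le_jacobson _) ?_)
    intro v _
    obtain ⟨w, hw⟩ := hGsurj (π v)
    refine Submodule.mem_sup.2 ⟨L w, LinearMap.mem_range_self _ _, v - L w, ?_, add_sub_cancel _ _⟩
    have h1 : π (v - L w) = 0 := by rw [map_sub, hL, hw, sub_self]
    rw [pi_eq_sum_univ' (v - L w)]
    exact Submodule.sum_mem _ fun i _ => Submodule.smul_mem_smul (hmin _ h1 i) trivial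
  have hI : I ≤ IsLocalRing.maximalIdeal R • I := by
    rw [Ideal.span_le]
    rintro _ ⟨⟨⟨v, hv⟩, i⟩, rfl⟩
    obtain ⟨w, rfl⟩ : v ∈ LinearMap.range L := hLsurj ▸ trivial
    have hw : w ∈ Kσ := hGker w (by
      rw [← hL]
      exact (show L w ∈ K by rw [← hS]; exact Submodule.subset_span hv))
    have hle : Kσ ≤ Submodule.pi Set.univ (fun _ : Fin n => IsLocalRing.maximalIdeal R • I) := by
      rw [Submodule.span_le]
      rintro _ ⟨u, hu, rfl⟩ j _
      show u j ^ p ∈ _
      rw [← Nat.sub_add_cancel hp.two_le, pow_succ, pow_succ, mul_assoc, smul_eq_mul]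
      exact Ideal.mul_mem_left _ _ (Ideal.mul_mem_mul (hmin u hu j) (hKI hu j trivial))
    show L w i ∈ IsLocalRing.maximalIdeal R • I
    simp only [L, Fintype.linearCombination_apply, Finset.sum_apply, Pi.smul_apply, smul_eq_mul]
    exact Submodule.sum_mem _ fun j _ => Ideal.mul_mem_right _ _ (hle hw j trivial)
  have hI0 : I = ⊥ := Submodule.eq_bot_of_le_smul_of_le_jacobson_bot (IsLocalRing.maximalIdeal R) I
    (Submodule.fg_span (Set.finite_range _)) hI (IsLocalRing.maximalIdeal_le_jacobson _)
  have hinj : Function.Injective π := LinearMap.ker_eq_bot.1 (eq_bot_iff.2 fun v hv => funext fun i => by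
    have := hKI hv i trivial
    rwa [hI0] at this)
  exact Module.Free.of_equiv (LinearEquiv.ofBijective π ⟨hinj, hπ⟩)

end Groth.Agent.S16368
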