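import Groth.Statements.S1637
import Groth.Agent.H25.Morse.SchemeLocal

set_option autoImplicit false
set_option linter.style.haveILetI false
universe u
open CategoryTheory CategoryTheory.Limits AlgebraicGeometry
open Curves

namespace Groth.Agent.S1637

/-- Let f : X → S be at-worst-nodal of relative dimension one and x a point of X which is a node of its
fibre. Then there are étale morphisms U → X and V → S, a morphism U → V compatible with f, a
morphism V → Spec ℤ[a], and an étale morphism U → W over V where W → V is the base change of Spec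
ℤ[u, v, a]/(uv - a) → Spec ℤ[a] along V → Spec ℤ[a], such that x is in the image of U. -/
theorem result {X S : Scheme.{u}} (f : X ⟶ S) (hf : Curv2.IsNodalFamily f)
    (x : X) (hx : @Curv2.IsNode (S.residueField (f.base x)) _ (f.fiber (f.base x)) ⟨f.fiberToSpecResidueField (f.base x)⟩ (f.asFiber x)) :
    ∃ (U V W : Scheme.{u}) (gU : U ⟶ X) (gV : V ⟶ S) (p : U ⟶ V) (e : U ⟶ W) (q : W ⟶ V)
      (h : V ⟶ Spec (CommRingCat.of (MvPolynomial (Fin 1) (ULift.{u} ℤ)))) (r : W ⟶ Spec (CommRingCat.of (MvPolynomial (Fin 3) (ULift.{u} ℤ) ⧸ Ideal.span {(MvPolynomial.X 0 * MvPolynomial.X 1 - MvPolynomial.X 2 : MvPolynomial (Fin 3) (ULift.{u} ℤ))}))),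
      Etale gU ∧ Etale gV ∧ Etale e ∧ gU ≫ f = p ≫ gV ∧ e ≫ q = p ∧
      IsPullback r q (Spec.map (CommRingCat.ofHom ((Ideal.Quotient.mk _).comp (MvPolynomial.aeval (fun _ : Fin 1 => (MvPolynomial.X 2 : MvPolynomial (Fin 3) (ULift.{u} ℤ)))).toRingHom))) h ∧
      x ∈ Set.range gU.base := by
  obtain ⟨hfl, hfp, -⟩ := hf
  haveI := hfl
  haveI := hfp
  obtain ⟨V₀, hV₀, hxV, -⟩ := exists_isAffineOpen_mem_and_subset (X := S) (x := f x) (U := ⊤) trivial
  obtain ⟨U₀, hU₀, hxU, e₀⟩ := exists_isAffineOpen_mem_and_subset (X := X) (x := x) (U := f ⁻¹ᵁ V₀) hxV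
  obtain ⟨C, _, _, hC, h, T, _, g, ε, Q, hQ, hg, hε, hQg, hr⟩ :=
    H25.Morse.SchemeLocal.exists_etaleLocal f x hx hV₀ hU₀ e₀ hxU
  let I : Ideal (MvPolynomial (Fin 2) C) :=
    Ideal.span {MvPolynomial.X 0 * MvPolynomial.X 1 - MvPolynomial.C h}
  let inr : C →+* MvPolynomial (Fin 2) C ⧸ I := (Ideal.Quotient.mk I).comp MvPolynomial.C
  have hgC : (algebraMap Γ(S, V₀) C).Etale := RingHom.etale_algebraMap.2 hC
  haveI : Etale (Spec.map (CommRingCat.ofHom g)) := (HasRingHomProperty.Spec_iff (P := @Etale)).2 hg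
  haveI : Etale (Spec.map (CommRingCat.ofHom ε)) := (HasRingHomProperty.Spec_iff (P := @Etale)).2 hε
  haveI : Etale (Spec.map (CommRingCat.ofHom (algebraMap Γ(S, V₀) C))) :=
    (HasRingHomProperty.Spec_iff (P := @Etale)).2 hgC
  have hpo := H25.Morse.SchemeLocal.isPushout_node h
  refine ⟨Spec (CommRingCat.of T), Spec (CommRingCat.of C), Spec (CommRingCat.of (MvPolynomial (Fin 2) C ⧸ I)),
    Spec.map (CommRingCat.ofHom g) ≫ hU₀.fromSpec,
    Spec.map (CommRingCat.ofHom (algebraMap Γ(S, V₀) C)) ≫ hV₀.fromSpec,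
    Spec.map (CommRingCat.ofHom (ε.comp inr)), Spec.map (CommRingCat.ofHom ε),
    Spec.map (CommRingCat.ofHom inr), _, _, inferInstance, inferInstance, inferInstance, ?_, ?_,
    isPullback_SpecMap_of_isPushout _ _ _ _ hpo, ?_⟩
  · rw [Category.assoc, ← IsAffineOpen.SpecMap_appLE_fromSpec f hV₀ hU₀ e₀, ← Category.assoc, ← Category.assoc,
      ← Spec.map_comp, ← Spec.map_comp]
    congr 2
    exact CommRingCat.hom_ext (RingHom.ext hr)
  · rw [← Spec.map_comp]
    rfl
  · refine ⟨(⟨Q, hQ⟩ : PrimeSpectrum T), ?_⟩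
    show hU₀.fromSpec (Spec.map (CommRingCat.ofHom g) (⟨Q, hQ⟩ : PrimeSpectrum T)) = x
    have : Spec.map (CommRingCat.ofHom g) (⟨Q, hQ⟩ : PrimeSpectrum T) = hU₀.primeIdealOf ⟨x, hxU⟩ :=
      PrimeSpectrum.ext hQg
    rw [this, hU₀.fromSpec_primeIdealOf]

end Groth.Agent.S1637
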