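import Groth.Statements.S16370
import Mathlib.CategoryTheory.Sites.LocallyInjective
import Mathlib.Algebra.Homology.DerivedCategory.Ext.ExactSequences
import Mathlib.Algebra.CharP.Lemmas

set_option autoImplicit false
universe u
open CategoryTheory AlgebraicGeometry Opposite
open FrobSch

namespace Groth.Agent.S16370

/-- (ii) ⇒ (iii): let X be a reduced scheme of prime characteristic p, φ the p-th power map on the sheaf
of additive groups underlying O_X (a monomorphism, X being reduced) and B its cokernel in abelian
sheaves. If H^i(X, B) = 0 for all i ≥ 0, then the endomorphism of H^i(X, O_X) induced by φ — the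
Hasse–Witt operation — is bijective for all i. (The source has X normal and proper over a perfect
field; only reducedness enters this implication.) -/
theorem result
    (p : ℕ) [Fact p.Prime] (X : Scheme.{u}) [IsReduced X] (hp : (p : Γ(X, ⊤)) = 0)
    (φ : Coh.toAb (Coh.structureModule X) ⟶ Coh.toAb (Coh.structureModule X))
    (hφ : ∀ (U : X.Opens) (t : Γ(X, U)), φ.hom.app (op U) t = t ^ p)
    (hB : ∀ i : ℕ, Subsingleton (Sheaf.H (Limits.cokernel φ) i))
    (i : ℕ) : Function.Bijective (Sheaf.H.map φ i) := by
  have hinj : ∀ (V : X.Opens) (s t : Γ(X, V)), s ^ p = t ^ p → s = t := by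
    intro V s t h1
    have hpU : (p : Γ(X, V)) = 0 := by
      rw [← map_natCast (X.presheaf.map (homOfLE (le_top : V ≤ ⊤)).op).hom, hp, map_zero]
    obtain ⟨r, hr⟩ := exists_add_pow_prime_eq (Fact.out : p.Prime) t (s - t)
    rw [add_sub_cancel, h1, hpU, zero_mul, zero_mul, zero_mul, add_zero] at hr
    exact sub_eq_zero.mp (IsReduced.eq_zero _ ⟨p, by linear_combination -hr⟩)
  haveI : Mono φ := Sheaf.mono_of_injective φ (fun U s t hst =>
    hinj U.unop s t ((hφ U.unop s).symm.trans (hst.trans (hφ U.unop t))))
  let S : ShortComplex _ := ShortComplex.mk φ (Limits.cokernel.π φ) (Limits.cokernel.condition φ)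
  have hS : S.ShortExact := { exact := ShortComplex.exact_of_g_is_cokernel S (Limits.cokernelIsCokernel φ) }
  refine ⟨(injective_iff_map_eq_zero _).mpr fun x hx => ?_, fun y => ?_⟩
  · rw [Sheaf.H.map_apply] at hx
    cases i with
    | zero => exact Abelian.Ext.postcomp_mk₀_injective_of_mono _ φ (by simpa using hx)
    | succ n =>
      obtain ⟨z, rfl⟩ := Abelian.Ext.covariant_sequence_exact₁ _ hS x hx (n₀ := n) rfl
      rw [show z = 0 from (hB n).elim _ _, Abelian.Ext.zero_comp]
  · obtain ⟨x, hx⟩ := Abelian.Ext.covariant_sequence_exact₂ _ hS y ((hB i).elim _ _)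
    exact ⟨x, hx⟩

end Groth.Agent.S16370
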