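import Groth.Statements.S16371
import Mathlib.Algebra.CharP.Lemmas
-- import your own Groth.Agent.* helpers here

set_option autoImplicit false
universe u v w
open FrobAlg

namespace Groth.Agent.S16371

/-- Let p be a prime, A a commutative ring and B, C commutative A-algebras with p² = 0 in B. If two
A-algebra maps g₁, g₂ : C → B agree modulo p, then they agree on every element of C which is
congruent modulo p to an element of the A-subalgebra generated by the p-th powers. (The source
states this for liftings over a flat ℤ/p²-thickening of two smooth schemes and the subsheaf of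
functions whose reduction lies in the image of the relative Frobenius; the smoothness and lifting
hypotheses are not needed for the identity.) -/
theorem result
    (p : ℕ) [Fact p.Prime] (A : Type u) [CommRing A] (B : Type v) [CommRing B] [Algebra A B]
    (C : Type w) [CommRing C] [Algebra A C] (hp : (p : B) ^ 2 = 0)
    (g₁ g₂ : C →ₐ[A] B) (hg : ∀ x : C, g₁ x - g₂ x ∈ Ideal.span ({(p : B)} : Set B))
    (x y : C) (hy : y ∈ Algebra.adjoin A (Set.range fun c : C => c ^ p))
    (hxy : x - y ∈ Ideal.span ({(p : C)} : Set C)) :
    g₁ x = g₂ x := by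
  have hp' : (p : B) * p = 0 := by rw [← sq, hp]
  have hz : ∀ z : C, g₁ ((p : C) * z) = g₂ ((p : C) * z) := fun z => by
    obtain ⟨t, ht⟩ := Ideal.mem_span_singleton'.1 (hg z)
    rw [map_mul, map_mul, map_natCast, map_natCast, ← sub_eq_zero, ← mul_sub, ← ht, mul_left_comm, hp', mul_zero]
  have hy' : g₁ y = g₂ y := by
    clear hxy
    induction hy using Algebra.adjoin_induction with
    | mem z hz' =>
      obtain ⟨c, rfl⟩ := hz'
      obtain ⟨t, ht⟩ := Ideal.mem_span_singleton'.1 (hg c)
      simp only [map_pow]
      obtain ⟨r, hr⟩ := (Commute.all (g₁ c - g₂ c) (g₂ c)).exists_add_pow_prime_eq (Fact.out : p.Prime)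
      have h0 : (g₁ c - g₂ c) ^ p = 0 := by
        rw [← ht, mul_pow, pow_eq_zero_of_le (Fact.out : p.Prime).two_le hp, mul_zero]
      rw [sub_add_cancel, h0, zero_add, ← ht,
        show (p : B) * (t * p) * g₂ c * r = ((p : B) * p) * (t * g₂ c * r) by ring, hp', zero_mul,
        add_zero] at hr
      exact hr
    | algebraMap a => simp
    | add z z' _ _ h h' => simp [map_add, h, h']
    | mul z z' _ _ h h' => simp [map_mul, h, h']
  obtain ⟨t, ht⟩ := Ideal.mem_span_singleton'.1 hxy
  rw [eq_add_of_sub_eq ht.symm, map_add, map_add, mul_comm, hz, hy']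

end Groth.Agent.S16371
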