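import Groth.Statements.S16373
import Groth.Agent.S16372
import Mathlib.RingTheory.WittVector.Identities
-- import your own Groth.Agent.* helpers here

set_option autoImplicit false
universe u
open FrobAlg

namespace Groth.Agent.S16373

/-- Let p be a prime, m ≥ 1, R a commutative ring with p = 0 in R and σ : W_m(R) → R a quasi-F-splitting
of level m (additive, σ(1) = 1, σ(F(x)·y) = x₀·σ(y) with F the componentwise p-th power). Let I ⊆
W_{m+1}(R) be the ideal generated by the shifts V(x) of the x with σ(x) = 0, and Q = W_{m+1}(R)/I.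
Then Q is a flat lifting of R modulo p²: an element of Q lies in pQ exactly when the first Witt
component of a representative vanishes (so Q/pQ is R through the first component), and an element of
Q is killed by p exactly when it lies in pQ. (Stated for a ring; the source has a scheme over the
prime field. For m = 1 this is the lifting attached to a Frobenius splitting.) -/
theorem result
    (p : ℕ) [Fact p.Prime] (m : ℕ) (hm : 0 < m) (R : Type u) [CommRing R] (hp : (p : R) = 0)
    (σ : TruncatedWittVector p m R →+ R) (h1 : σ 1 = 1)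
    (hF : ∀ x y : TruncatedWittVector p m R, σ (WittGrp.frob p m hp x * y) = x.coeff ⟨0, hm⟩ * σ y)
    (I : Ideal (TruncatedWittVector p (m + 1) R))
    (hI : I = Ideal.span (WittGrp.shift p (Nat.le_succ m) '' {x : TruncatedWittVector p m R | σ x = 0})) :
    (∀ w : TruncatedWittVector p (m + 1) R,
        Ideal.Quotient.mk I w ∈ Ideal.span ({(p : TruncatedWittVector p (m + 1) R ⧸ I)} : Set _) ↔
          w.coeff 0 = 0) ∧
    (∀ q : TruncatedWittVector p (m + 1) R ⧸ I,
        (p : TruncatedWittVector p (m + 1) R ⧸ I) * q = 0 ↔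
          q ∈ Ideal.span ({(p : TruncatedWittVector p (m + 1) R ⧸ I)} : Set _)) := by
  rcases subsingleton_or_nontrivial R with hR | hR
  · haveI : Subsingleton (TruncatedWittVector p (m + 1) R) := ⟨fun a b => TruncatedWittVector.ext fun i => Subsingleton.elim _ _⟩
    haveI : Subsingleton (TruncatedWittVector p (m + 1) R ⧸ I) := (Ideal.Quotient.mk_surjective (I := I)).subsingleton
    exact ⟨fun w => ⟨fun _ => Subsingleton.elim _ _, fun _ => by rw [Subsingleton.elim (Ideal.Quotient.mk I w) 0]; exact zero_mem _⟩,
      fun q => ⟨fun _ => by rw [Subsingleton.elim q 0]; exact zero_mem _, fun _ => Subsingleton.elim _ _⟩⟩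
  haveI : CharP R p := (CharP.charP_iff_prime_eq_zero Fact.out).2 hp
  have hsub : m.succ - m = 1 := by omega
  let V := WittGrp.shift (R := R) p (Nat.le_succ m)
  have hV0 : ∀ x, (V x).coeff 0 = 0 := fun x => by
    rw [WittGrp.coeff_shift, dif_neg (by simp)]
  have hVinj : ∀ x, V x = 0 → x = 0 := fun x h => TruncatedWittVector.ext fun i => by
    have h1 : (V x).coeff i.succ = 0 := by rw [h, TruncatedWittVector.coeff_zero]
    rw [WittGrp.coeff_shift, dif_pos (by simp)] at h1
    rw [TruncatedWittVector.coeff_zero]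
    refine Eq.trans ?_ h1
    congr 1
    ext
    simp
  have hVsurj : ∀ w : TruncatedWittVector p (m + 1) R, w.coeff 0 = 0 → ∃ x, V x = w := fun w hw => by
    refine ⟨TruncatedWittVector.mk p fun i => w.coeff i.succ, TruncatedWittVector.ext fun i => ?_⟩
    rw [WittGrp.coeff_shift]
    split_ifs with h
    · rw [TruncatedWittVector.coeff_mk]
      congr 1
      ext
      simp only [Fin.val_succ]
      omega
    · rw [show i = 0 from Fin.ext (by rw [Fin.val_zero]; omega), hw]
  have hc0 : ∀ a b : TruncatedWittVector p (m + 1) R, (a - b).coeff 0 = a.coeff 0 - b.coeff 0 := fun a b => by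
    obtain ⟨A, rfl⟩ := WittVector.truncate_surjective p (m + 1) R a
    obtain ⟨B, rfl⟩ := WittVector.truncate_surjective p (m + 1) R b
    rw [← map_sub, WittVector.coeff_truncate, WittVector.coeff_truncate, WittVector.coeff_truncate]
    exact map_sub (WittVector.constantCoeff (p := p) (R := R)) A B
  have hmemI : ∀ z, z ∈ I ↔ ∃ x, σ x = 0 ∧ V x = z := fun z => by
    rw [hI]
    refine ⟨fun h => ?_, fun ⟨x, hx, e⟩ => Ideal.subset_span ⟨x, hx, e⟩⟩
    induction h using Submodule.span_induction with
    | mem z hz => exact hz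
    | zero => exact ⟨0, map_zero σ, map_zero V⟩
    | add a b _ _ ha hb =>
      obtain ⟨x, hx, rfl⟩ := ha
      obtain ⟨y, hy, rfl⟩ := hb
      exact ⟨x + y, by rw [map_add, hx, hy, add_zero], map_add V x y⟩
    | smul c a _ ha =>
      obtain ⟨x, hx, rfl⟩ := ha
      obtain ⟨x', h', e⟩ := Groth.Agent.S16372.result p m hm R hp σ h1 hF c x hx
      exact ⟨x', h', e.symm⟩
  have hpV : ∀ w : TruncatedWittVector p (m + 1) R, (p : TruncatedWittVector p (m + 1) R) * w =
      V (WittGrp.frob p m hp (TruncatedWittVector.truncate (Nat.le_succ m) w)) := fun w => by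
    obtain ⟨W, rfl⟩ := WittVector.truncate_surjective p (m + 1) R w
    rw [TruncatedWittVector.truncate_wittVector_truncate, WittGrp.frob_truncate, WittGrp.shift_truncate, hsub,
      Function.iterate_one, WittVector.verschiebung_frobenius, map_mul, map_natCast, mul_comm]
  have hσF : ∀ z : TruncatedWittVector p m R, σ (WittGrp.frob p m hp z) = z.coeff ⟨0, hm⟩ := fun z => by
    have := hF z 1
    rwa [mul_one, h1, mul_one] at this
  have htr0 : ∀ w : TruncatedWittVector p (m + 1) R,
      (TruncatedWittVector.truncate (Nat.le_succ m) w).coeff ⟨0, hm⟩ = w.coeff 0 := fun w => by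
    rw [TruncatedWittVector.coeff_truncate]; rfl
  have hone : ∀ w : TruncatedWittVector p (m + 1) R,
      Ideal.Quotient.mk I w ∈ Ideal.span ({(p : TruncatedWittVector p (m + 1) R ⧸ I)} : Set _) ↔ w.coeff 0 = 0 := by
    intro w
    rw [Ideal.mem_span_singleton']
    constructor
    · rintro ⟨q, hq⟩
      obtain ⟨y, rfl⟩ := Ideal.Quotient.mk_surjective q
      rw [← map_natCast (Ideal.Quotient.mk I), ← map_mul, Ideal.Quotient.eq, hmemI] at hq
      obtain ⟨x, -, hx⟩ := hq
      have h2 := congr_arg (fun t : TruncatedWittVector p (m + 1) R => t.coeff 0) hx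
      simp only [hV0, hc0] at h2
      rw [mul_comm, hpV, hV0, zero_sub] at h2
      exact neg_eq_zero.1 h2.symm
    · intro hw
      obtain ⟨x, rfl⟩ := hVsurj w hw
      let y : TruncatedWittVector p (m + 1) R := TruncatedWittVector.mk p fun _ => σ x
      refine ⟨Ideal.Quotient.mk I y, ?_⟩
      rw [← map_natCast (Ideal.Quotient.mk I), ← map_mul, Ideal.Quotient.eq, hmemI, mul_comm, hpV]
      refine ⟨WittGrp.frob p m hp (TruncatedWittVector.truncate (Nat.le_succ m) y) - x, ?_, map_sub V _ _⟩
      rw [map_sub, hσF, htr0, TruncatedWittVector.coeff_mk, sub_self]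
  refine ⟨hone, fun q => ?_⟩
  obtain ⟨w, rfl⟩ := Ideal.Quotient.mk_surjective q
  rw [hone, ← map_natCast (Ideal.Quotient.mk I), ← map_mul, Ideal.Quotient.eq_zero_iff_mem, hmemI, hpV]
  constructor
  · rintro ⟨x, hx, he⟩
    have := hVinj _ (show V (x - WittGrp.frob p m hp (TruncatedWittVector.truncate (Nat.le_succ m) w)) = 0 by rw [map_sub, he, sub_self])
    rw [sub_eq_zero.1 this, hσF, htr0] at hx
    exact hx
  · intro hw
    exact ⟨_, by rw [hσF, htr0, hw], rfl⟩

end Groth.Agent.S16373
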