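import Groth.Statements.S16374
-- import your own Groth.Agent.* helpers here

set_option autoImplicit false
universe u v w
open FrobAlg

namespace Groth.Agent.S16374

/-- Let p be a prime, A a commutative ring, B and C commutative A-algebras with p² = 0 in B, and g : C →
B an A-algebra map such that every g(c) is congruent modulo p to an element of the A-subalgebra of B
generated by the p-th powers (g lifts a relative Frobenius). Then d(g(x)) = 0 in the module of
Kähler differentials of B over A for every x ∈ C that is congruent modulo p to an element of the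
A-subalgebra of C generated by the p-th powers. (The source works with a lifting of the relative
Frobenius of a smooth scheme over a ℤ/p²-thickening and the subsheaf of functions whose reduction
comes from the Frobenius twist; smoothness is not needed for this vanishing.) -/
theorem result
    (p : ℕ) [Fact p.Prime] (A : Type u) [CommRing A] (B : Type v) [CommRing B] [Algebra A B]
    (C : Type w) [CommRing C] [Algebra A C] (hp : (p : B) ^ 2 = 0)
    (g : C →ₐ[A] B)
    (hg : ∀ c : C, ∃ u ∈ Algebra.adjoin A (Set.range fun b : B => b ^ p),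
      g c - u ∈ Ideal.span ({(p : B)} : Set B))
    (x y : C) (hy : y ∈ Algebra.adjoin A (Set.range fun c : C => c ^ p))
    (hxy : x - y ∈ Ideal.span ({(p : C)} : Set C)) :
    KaehlerDifferential.D A B (g x) = 0 := by
  set D := KaehlerDifferential.D A B
  have hpp : ∀ m : Ω[B⁄A], (p : B) • (p : B) • m = 0 := fun m => by rw [smul_smul, ← sq, hp, zero_smul]
  have hu : ∀ u ∈ Algebra.adjoin A (Set.range fun b : B => b ^ p), ∃ m, D u = (p : B) • m := by
    intro u hu
    induction hu using Algebra.adjoin_induction with
    | mem z hz' =>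
      obtain ⟨c, rfl⟩ := hz'
      exact ⟨c ^ (p - 1) • D c, by rw [Derivation.leibniz_pow, ← Nat.cast_smul_eq_nsmul B]⟩
    | algebraMap a => exact ⟨0, by simp⟩
    | add z z' _ _ h h' =>
      obtain ⟨m, h⟩ := h
      obtain ⟨m', h'⟩ := h'
      exact ⟨m + m', by rw [map_add, h, h', smul_add]⟩
    | mul z z' _ _ h h' =>
      obtain ⟨m, h⟩ := h
      obtain ⟨m', h'⟩ := h'
      exact ⟨z • m' + z' • m, by rw [Derivation.leibniz, h, h', smul_add, smul_comm z, smul_comm z']⟩
  have hDp : D (p : B) = 0 := by rw [← map_natCast (algebraMap A B), Derivation.map_algebraMap]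
  have hc : ∀ c, ∃ m, D (g c) = (p : B) • m := fun c => by
    obtain ⟨u, hu', hcu⟩ := hg c
    obtain ⟨t, ht⟩ := Ideal.mem_span_singleton'.1 hcu
    obtain ⟨m, hm⟩ := hu u hu'
    refine ⟨m + D t, ?_⟩
    rw [eq_add_of_sub_eq ht.symm, map_add, Derivation.leibniz, hDp, hm, smul_zero, zero_add, smul_add, add_comm]
  have hy' : D (g y) = 0 := by
    clear hxy
    induction hy using Algebra.adjoin_induction with
    | mem z hz' =>
      obtain ⟨c, rfl⟩ := hz'
      obtain ⟨m, hm⟩ := hc c
      show D (g (c ^ p)) = 0
      rw [map_pow, Derivation.leibniz_pow, hm, ← Nat.cast_smul_eq_nsmul B, smul_comm (g c ^ (p - 1)), hpp]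
    | algebraMap a => simp
    | add z z' _ _ h h' => rw [map_add, map_add, h, h', add_zero]
    | mul z z' _ _ h h' => rw [map_mul, Derivation.leibniz, h, h', smul_zero, smul_zero, add_zero]
  obtain ⟨t, ht⟩ := Ideal.mem_span_singleton'.1 hxy
  obtain ⟨m, hm⟩ := hc t
  rw [eq_add_of_sub_eq ht.symm, map_add, map_mul, map_natCast, map_add, Derivation.leibniz, hDp, hm, hy',
    smul_zero, zero_add, add_zero, hpp]

end Groth.Agent.S16374
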