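import Groth.Statements.S1638
import Groth.Agent.Lib.CSA.Simple
import Mathlib.RingTheory.Flat.Basic

set_option autoImplicit false
universe u
open Brauer
open scoped TensorProduct

namespace Groth.Agent.S1638

/-- Let A and A' be algebras over a field k with subalgebras B ⊆ A and B' ⊆ A' having centralizers C and
C'. Then the centralizer of the image of B ⊗ B' in A ⊗_k A' is the image of C ⊗_k C'. -/
theorem result (k : Type u) [Field k] (A A' : Type u) [Ring A] [Ring A'] [Algebra k A] [Algebra k A']
    (B : Subalgebra k A) (B' : Subalgebra k A') :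
    Subalgebra.centralizer k ((Algebra.TensorProduct.map B.val B'.val).range : Set (TensorProduct k A A')) =
      (Algebra.TensorProduct.map (Subalgebra.centralizer k (B : Set A)).val (Subalgebra.centralizer k (B' : Set A')).val).range := by
  refine le_antisymm (fun x hx => ?_) ?_
  · rw [Subalgebra.mem_centralizer_iff] at hx
    classical
    set C := Subalgebra.centralizer k (B : Set A)
    set C' := Subalgebra.centralizer k (B' : Set A')
    let b' := Module.Free.chooseBasis k A'
    obtain ⟨s, -, hs⟩ := Groth.Agent.Lib.CSA.Simple.exists_finset_sum b' x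
    have hC : ∀ i, Groth.Agent.Lib.CSA.Simple.coeff b' i x ∈ C := fun i => by
      rw [Subalgebra.mem_centralizer_iff]
      intro y hy
      have h := hx (y ⊗ₜ 1) ⟨(⟨y, hy⟩ : B) ⊗ₜ 1, by simp⟩
      rw [← Groth.Agent.Lib.CSA.Simple.coeff_left_mul, h,
        Groth.Agent.Lib.CSA.Simple.coeff_right_mul]
    let z : C ⊗[k] A' := ∑ i ∈ s, (⟨_, hC i⟩ : C) ⊗ₜ b' i
    have hz : Algebra.TensorProduct.map C.val (AlgHom.id k A') z = x := by
      conv_rhs => rw [hs]
      simp [z]
    let c := Module.Free.chooseBasis k A
    let bC := Module.Free.chooseBasis k C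
    -- expand along a basis of `C`
    let z' : A' ⊗[k] C := Algebra.TensorProduct.comm k C A' z
    obtain ⟨t, -, ht⟩ := Groth.Agent.Lib.CSA.Simple.exists_finset_sum bC z'
    have hinj : Function.Injective (Algebra.TensorProduct.map C.val (AlgHom.id k A')) :=
      Module.Flat.rTensor_preserves_injective_linearMap C.val.toLinearMap Subtype.val_injective
    have hC' : ∀ i, Groth.Agent.Lib.CSA.Simple.coeff bC i z' ∈ C' := fun i => by
      rw [Subalgebra.mem_centralizer_iff]
      intro y hy
      have h := hx (1 ⊗ₜ y) ⟨1 ⊗ₜ (⟨y, hy⟩ : B'), by simp⟩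
      have h' : ((1 : C) ⊗ₜ y) * z = z * ((1 : C) ⊗ₜ y) := hinj (by simpa [hz] using h)
      have h'' := congrArg (Algebra.TensorProduct.comm k C A') h'
      rw [map_mul, map_mul, Algebra.TensorProduct.comm_tmul] at h''
      rw [← Groth.Agent.Lib.CSA.Simple.coeff_left_mul, h'',
        Groth.Agent.Lib.CSA.Simple.coeff_right_mul]
    refine ⟨∑ i ∈ t, bC i ⊗ₜ (⟨_, hC' i⟩ : C'), ?_⟩
    rw [← hz, show z = (Algebra.TensorProduct.comm k C A').symm z' by simp [z']]
    conv_rhs => rw [ht]
    simp
  · rintro _ ⟨x, rfl⟩
    rw [Subalgebra.mem_centralizer_iff]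
    rintro _ ⟨y, rfl⟩
    induction y using TensorProduct.induction_on with
    | zero => simp
    | add a b ha hb => simp only [map_add, add_mul, mul_add] at *; rw [ha, hb]
    | tmul a a' =>
      induction x using TensorProduct.induction_on with
      | zero => simp
      | add u v hu hv => simp only [map_add, add_mul, mul_add] at *; rw [hu, hv]
      | tmul u u' =>
        simp [Algebra.TensorProduct.tmul_mul_tmul,
          Subalgebra.mem_centralizer_iff k |>.mp u.2 _ a.2,
          Subalgebra.mem_centralizer_iff k |>.mp u'.2 _ a'.2]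

end Groth.Agent.S1638
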