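import Groth.Statements.S16382
import Groth.Agent.Lib.SuppLoci77.Chart
import Groth.Agent.Lib.DerivedOX.FMDiag
import Groth.Agent.Lib.DerivedOX.RestrictRpush
import Groth.Agent.Lib.Perfect.QCohD
import Groth.Agent.Lib.FibreDeg.Basic
import Groth.Agent.Lib.DvrCrit.Curve


set_option autoImplicit false
universe u
open CategoryTheory CategoryTheory.Limits AlgebraicGeometry
attribute [local instance] HasDerivedCategory.standard
open FMK

namespace Groth.Agent.S16382

open Groth.Agent.Lib Groth.Agent.Lib.SuppLoci77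

lemma main (k : Type u) [Field k]
    (X Y : Scheme.{u}) (a : X ⟶ Spec (CommRingCat.of k)) (b : Y ⟶ Spec (CommRingCat.of k))
    [IsProper a] [LocallyOfFiniteType b]
    (P : CochainComplex (pullback a b).Modules ℤ) (hP : DCoh.IsPerfect (DCoh.toD (pullback a b) P))
    [DCoh.HasLpull (pullback.fst a b)] [DCoh.HasLTensorCx P] [DCoh.HasRpush (pullback.snd a b)]
    [∀ y : ↥Y, DCoh.HasLpull (pullback.fst (pullback.snd a b) (Y.fromSpecResidueField y))]
    [∀ y : ↥Y, DCoh.HasRΓ (pullback (pullback.snd a b) (Y.fromSpecResidueField y))]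
    (F : CochainComplex X.Modules ℤ) (hF : DCoh.IsPerfect (DCoh.toD X F)) (k' : ℕ) :
    (∀ (i : ℕ) (y : ↥Y), y ∈ CohB1.support (DCoh.HD ((FMK.phi a b P).obj (DCoh.toD X F)) (i : ℤ)) →
      ((i - k' : ℕ) : WithBot ℕ∞) ≤ ringKrullDim ↑(Y.presheaf.stalk y)) ↔
    (∀ (i : ℕ) (y : ↥Y), ¬ IsZero ((DerivedCategory.homologyFunctor AddCommGrpCat.{u} (i : ℤ)).obj
        ((DCoh.RΓ (pullback (pullback.snd a b) (Y.fromSpecResidueField y))).obj ((DCoh.Lpull (pullback.fst (pullback.snd a b) (Y.fromSpecResidueField y))).obj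
          ((DCoh.LTensorCx P).obj ((DCoh.Lpull (pullback.fst a b)).obj (DCoh.toD X F)))))) →
      ((i - k' : ℕ) : WithBot ℕ∞) ≤ ringKrullDim ↑(Y.presheaf.stalk y)) := by
  haveI : IsLocallyNoetherian (Spec (CommRingCat.of k)) := inferInstance
  haveI : IsLocallyNoetherian Y := LocallyOfFiniteType.isLocallyNoetherian b
  haveI : Flat a := FibreDeg.Basic.flat_of_field a
  haveI : LocallyOfFinitePresentation a := DvrCrit.lfp_of_lft a
  have hM : DCoh.IsPerfect ((FMK.phi a b P).obj (DCoh.toD X F)) :=
    DerivedOX.FMDiag.isPerfect_phi a b P hP _ hF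
  let E := (DCoh.LTensorCx P).obj ((DCoh.Lpull (pullback.fst a b)).obj (DCoh.toD X F))
  have hE : DCoh.IsPerfect E :=
    Groth.Agent.S13558.isPerfect_tensor P hP (Groth.Agent.S0921.result _ _ hF)
  have hEq : DCoh.IsQCohD E := Perfect.QCohD.isQCohD_of_isPerfect hE
  let M := (FMK.phi a b P).obj (DCoh.toD X F)
  have key : ∀ y : Y, ∃ B : ℤ, (∀ l, B < l → y ∉ CohB1.support (DCoh.HD M l)) ∧
      ∀ i : ℤ, 0 ≤ i → (∀ l, i < l → y ∉ CohB1.support (DCoh.HD M l)) →
        (IsZero ((DerivedCategory.homologyFunctor AddCommGrpCat.{u} i).obj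
          ((DCoh.RΓ (pullback (pullback.snd a b) (Y.fromSpecResidueField y))).obj
            ((DCoh.Lpull (pullback.fst (pullback.snd a b) (Y.fromSpecResidueField y))).obj E))) ↔
          y ∉ CohB1.support (DCoh.HD M i)) := by
    intro y
    let q := pullback.snd a b
    let g := Y.fromSpecResidueField y
    haveI := DerivedOX.LeftExists.hasLpull g
    haveI := DerivedOX.LeftExists.hasLpull q
    haveI := DerivedOX.LeftExists.hasLpull (pullback.snd q g)
    haveI := DerivedOX.Exists.hasRpush g
    haveI := DerivedOX.Exists.hasRpush (pullback.fst q g)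
    haveI := DerivedOX.Exists.hasRpush (pullback.snd q g)
    haveI := DerivedOX.Exists.hasRΓ (Spec (Y.residueField y))
    haveI : Subsingleton ↥(Spec (Y.residueField y)) :=
      inferInstanceAs (Subsingleton (PrimeSpectrum (IsLocalRing.ResidueField (Y.presheaf.stalk y))))
    obtain ⟨B, hB, hd⟩ := Chart.fibre_detects hM y
    refine ⟨B, hB, fun i hi hv => ?_⟩
    haveI : IsIso ((DerivedOX.BCSquare.bcD q g (pullback.snd q g) (pullback.fst q g)
        pullback.condition).app E) :=
      DerivedOX.FMTools.isIso_bcD q g _ _ (Or.inr inferInstance) (IsPullback.of_hasPullback q g) E hEq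
    let bc := asIso ((DerivedOX.BCSquare.bcD q g (pullback.snd q g) (pullback.fst q g)
        pullback.condition).app E)
    let e : (DCoh.RΓ (Spec (Y.residueField y))).obj ((DCoh.Lpull g).obj M) ≅
        (DCoh.RΓ (pullback q g)).obj ((DCoh.Lpull (pullback.fst q g)).obj E) :=
      (DCoh.RΓ (Spec (Y.residueField y))).mapIso bc ≪≫
        (DerivedOX.RestrictRpush.RΓ_Rpush_iso (pullback.snd q g)).app _
    let x : ↥(Spec (Y.residueField y)) := IsLocalRing.closedPoint (Y.residueField y)
    rw [← hd i hi hv, Point.subsingleton_sections_iff x, ← Point.isZero_homology_RΓ_iff x]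
    exact ((DerivedCategory.homologyFunctor AddCommGrpCat.{u} i).mapIso e).isZero_iff.symm
  constructor
  · intro h i y hne
    obtain ⟨B, hB, hk⟩ := key y
    obtain ⟨j, hij, hj⟩ : ∃ j : ℕ, i ≤ j ∧ y ∈ CohB1.support (DCoh.HD M (j : ℤ)) := by
      by_contra hcon
      push_neg at hcon
      refine hne ((hk i (by omega) fun l hl => ?_).2 (hcon i le_rfl))
      obtain ⟨j, rfl⟩ : ∃ j : ℕ, l = j := ⟨l.toNat, by omega⟩
      exact hcon j (by omega)
    exact le_trans (by exact_mod_cast (show i - k' ≤ j - k' by omega)) (h j y hj)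
  · intro h i y hy
    obtain ⟨B, hB, hk⟩ := key y
    classical
    have hP' : ∀ j : ℕ, y ∈ CohB1.support (DCoh.HD M (j : ℤ)) → j ≤ B.toNat := fun j hj => by
      by_contra hlt
      exact hB j (by omega) hj
    let t := Nat.findGreatest (fun j : ℕ => y ∈ CohB1.support (DCoh.HD M (j : ℤ))) B.toNat
    have ht : y ∈ CohB1.support (DCoh.HD M (t : ℤ)) :=
      Nat.findGreatest_spec (P := fun j : ℕ => y ∈ CohB1.support (DCoh.HD M (j : ℤ))) (hP' i hy) hy
    have hit : i ≤ t := Nat.le_findGreatest (hP' i hy) hy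
    refine le_trans (by exact_mod_cast (show i - k' ≤ t - k' by omega)) (h t y fun hz => ?_)
    refine (hk t (by omega) fun l hl hl' => ?_).1 hz ht
    obtain ⟨j, rfl⟩ : ∃ j : ℕ, l = j := ⟨l.toNat, by omega⟩
    have := Nat.le_findGreatest (P := fun j : ℕ => y ∈ CohB1.support (DCoh.HD M (j : ℤ))) (hP' j hl') hl'
    omega

/-- Let k be an algebraically closed field, X a proper scheme over k and Y a scheme locally of finite
type over k (structure morphisms a and b), P a cochain complex of modules on X ×_k Y defining a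
perfect object and F a cochain complex of O_X-modules defining a perfect object. Write Φ_P(F) =
Rpr_{Y,*}(Lpr_X^*F ⊗^L P), R^iΦ_P(F) = H^i(Φ_P(F)), and for a point y of Y with residue field κ(y)
let X_y = (X ×_k Y) ×_Y Spec κ(y) with first projection j_y : X_y → X ×_k Y, P restricted to the
fibre being Lj_y^*; the i-th cohomological support locus of F is V^i = {y ∈ Y : H^i(X_y,
Lj_y^*(Lpr_X^*F ⊗^L P)) ≠ 0} (hypercohomology on X_y); the derived functors involved are assumed to
exist. Let k' ≥ 0. Then the following are equivalent: (1') for every i ≥ 0 the support of R^iΦ_P(F)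
has codimension ≥ i − k' (the local ring of Y at each of its points has Krull dimension ≥ i − k');
(2) for every i ≥ 0 the locus V^i has codimension ≥ i − k' in the same pointwise sense. (The
published statement has the GV_{k'} condition in (1), which also asks R^iΦ_P(F) = 0 for i < 0; that
extra clause is not implied by (2) for complexes — over X = Y = Spec k with P = k and F = k[1]
condition (2) holds while R^{−1} ≠ 0 — and the published proof only treats the codimension clauses,
which are equivalent as stated here; for F and P sheaves the extra clause is automatic.) -/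
theorem result (k : Type u) [Field k] [IsAlgClosed k]
    (X Y : Scheme.{u}) (a : X ⟶ Spec (CommRingCat.of k)) (b : Y ⟶ Spec (CommRingCat.of k)) [IsProper a] [LocallyOfFiniteType b]
    (P : CochainComplex (pullback a b).Modules ℤ) (hP : DCoh.IsPerfect (DCoh.toD (pullback a b) P))
    [DCoh.HasLpull (pullback.fst a b)] [DCoh.HasLTensorCx P] [DCoh.HasRpush (pullback.snd a b)]
    [∀ y : ↥Y, DCoh.HasLpull (pullback.fst (pullback.snd a b) (Y.fromSpecResidueField y))]
    [∀ y : ↥Y, DCoh.HasRΓ (pullback (pullback.snd a b) (Y.fromSpecResidueField y))]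
    (F : CochainComplex X.Modules ℤ) (hF : DCoh.IsPerfect (DCoh.toD X F)) (k' : ℕ) :
    (∀ (i : ℕ) (y : ↥Y), y ∈ CohB1.support (DCoh.HD ((FMK.phi a b P).obj (DCoh.toD X F)) (i : ℤ)) →
      ((i - k' : ℕ) : WithBot ℕ∞) ≤ ringKrullDim ↑(Y.presheaf.stalk y)) ↔
    (∀ (i : ℕ) (y : ↥Y), ¬ IsZero ((DerivedCategory.homologyFunctor AddCommGrpCat.{u} (i : ℤ)).obj
        ((DCoh.RΓ (pullback (pullback.snd a b) (Y.fromSpecResidueField y))).obj ((DCoh.Lpull (pullback.fst (pullback.snd a b) (Y.fromSpecResidueField y))).obj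
          ((DCoh.LTensorCx P).obj ((DCoh.Lpull (pullback.fst a b)).obj (DCoh.toD X F)))))) →
      ((i - k' : ℕ) : WithBot ℕ∞) ≤ ringKrullDim ↑(Y.presheaf.stalk y)) := by
  exact main k X Y a b P hP F hF k'

end Groth.Agent.S16382
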