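import Groth.Statements.S16383
import Groth.Agent.S16382
import Groth.Agent.S0341
import Groth.Agent.Lib.SuppLoci77.Vanish
import Groth.Agent.Lib.Perfect.Triangle


set_option autoImplicit false
universe u
open CategoryTheory CategoryTheory.Limits AlgebraicGeometry
attribute [local instance] HasDerivedCategory.standard
open FMK

namespace Groth.Agent.S16383

open Groth.Agent.Lib Groth.Agent.Lib.SuppLoci77

lemma isZero_iff_fibre {k : Type u} [Field k] {X Y : Scheme.{u}}
    (a : X ⟶ Spec (CommRingCat.of k)) (b : Y ⟶ Spec (CommRingCat.of k)) [IsProper a]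
    [DCoh.HasRpush (pullback.snd a b)] [Flat a]
    (E : DCoh.D (pullback a b)) (hEq : DCoh.IsQCohD E) (y : Y) (i : ℤ)
    [DCoh.HasLpull (pullback.fst (pullback.snd a b) (Y.fromSpecResidueField y))]
    [DCoh.HasRΓ (pullback (pullback.snd a b) (Y.fromSpecResidueField y))]
    [DCoh.HasLpull (Y.fromSpecResidueField y)] :
    IsZero ((DerivedCategory.homologyFunctor AddCommGrpCat.{u} i).obj
      ((DCoh.RΓ (pullback (pullback.snd a b) (Y.fromSpecResidueField y))).obj
        ((DCoh.Lpull (pullback.fst (pullback.snd a b) (Y.fromSpecResidueField y))).obj E))) ↔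
    Subsingleton Γ(DCoh.HD ((DCoh.Lpull (Y.fromSpecResidueField y)).obj
      ((DCoh.Rpush (pullback.snd a b)).obj E)) i, ⊤) := by
  let M := (DCoh.Rpush (pullback.snd a b)).obj E
  let q := pullback.snd a b
  let g := Y.fromSpecResidueField y
  haveI := DerivedOX.LeftExists.hasLpull q
  haveI := DerivedOX.LeftExists.hasLpull (pullback.snd q g)
  haveI := DerivedOX.Exists.hasRpush g
  haveI := DerivedOX.Exists.hasRpush (pullback.fst q g)
  haveI := DerivedOX.Exists.hasRpush (pullback.snd q g)
  haveI := DerivedOX.Exists.hasRΓ (Spec (Y.residueField y))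
  haveI : Subsingleton ↥(Spec (Y.residueField y)) :=
      inferInstanceAs (Subsingleton (PrimeSpectrum (IsLocalRing.ResidueField (Y.presheaf.stalk y))))
  haveI : IsIso ((DerivedOX.BCSquare.bcD q g (pullback.snd q g) (pullback.fst q g)
        pullback.condition).app E) :=
      DerivedOX.FMTools.isIso_bcD q g _ _ (Or.inr inferInstance) (IsPullback.of_hasPullback q g) E hEq
  let bc := asIso ((DerivedOX.BCSquare.bcD q g (pullback.snd q g) (pullback.fst q g)
        pullback.condition).app E)
  let e : (DCoh.RΓ (Spec (Y.residueField y))).obj ((DCoh.Lpull g).obj M) ≅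
        (DCoh.RΓ (pullback q g)).obj ((DCoh.Lpull (pullback.fst q g)).obj E) :=
      (DCoh.RΓ (Spec (Y.residueField y))).mapIso bc ≪≫
        (DerivedOX.RestrictRpush.RΓ_Rpush_iso (pullback.snd q g)).app _
  let x : ↥(Spec (Y.residueField y)) := IsLocalRing.closedPoint (Y.residueField y)
  rw [Point.subsingleton_sections_iff x, ← Point.isZero_homology_RΓ_iff x]
  exact ((DerivedCategory.homologyFunctor AddCommGrpCat.{u} i).mapIso e).isZero_iff.symm

lemma isPerfect_single {Z : Scheme.{u}} {M : Z.Modules} (hM : FlatMod.IsFinLocFree M) :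
    DCoh.IsPerfect (DCoh.toD Z ((HomologicalComplex.single Z.Modules (ComplexShape.up ℤ) 0).obj M)) := by
  let S := (HomologicalComplex.single Z.Modules (ComplexShape.up ℤ) 0).obj M
  have hS : DCoh.IsStrictlyPerfect S := by
    refine ⟨⟨0, 0, fun i hi => HomologicalComplex.isZero_single_obj_X _ 0 M i (by omega)⟩, fun i => ?_⟩
    by_cases h : i = 0
    · subst h
      exact TensorMod.LocFree.of_iso (HomologicalComplex.singleObjXSelf (ComplexShape.up ℤ) 0 M).symm hM
    · intro x
      exact ⟨⊤, 0, trivial, ⟨IsZero.iso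
        ((Scheme.Modules.restrictFunctor _).map_isZero (HomologicalComplex.isZero_single_obj_X _ 0 M i h))
        ((IsZero.iff_id_eq_zero _).2 (Sigma.hom_ext _ _ fun a => a.elim0))⟩⟩
  exact (Perfect.Triangle.isPerfect_iff _).2 fun x =>
    ⟨_, (⊤ : Z.Opens).ι, inferInstance, ⟨x, trivial⟩, (Perfect.Basic.rC (⊤ : Z.Opens).ι).obj S, rfl,
      Perfect.Basic.isStrictlyPerfect_map _ hS, ⟨Perfect.Basic.RDQ _ S⟩⟩

lemma main (k : Type u) [Field k]
    (X Y : Scheme.{u}) (a : X ⟶ Spec (CommRingCat.of k)) (b : Y ⟶ Spec (CommRingCat.of k)) [IsProper a] [IsProper b]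
    (hYgor : ∀ y : ↥Y, LocCoh.IsGorensteinLocalRing ↑(Y.presheaf.stalk y))
    (P₀ : (pullback a b).Modules) (hP₀ : FlatMod.IsFinLocFree P₀)
    [DCoh.HasLpull (pullback.fst a b)]
    [DCoh.HasLTensorCx ((HomologicalComplex.single (pullback a b).Modules (ComplexShape.up ℤ) 0).obj P₀)]
    [DCoh.HasRpush (pullback.snd a b)]
    [∀ y : ↥Y, DCoh.HasLpull (pullback.fst (pullback.snd a b) (Y.fromSpecResidueField y))]
    [∀ y : ↥Y, DCoh.HasRΓ (pullback (pullback.snd a b) (Y.fromSpecResidueField y))]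
    (F : X.Modules) (hF : DCoh.IsPerfect (DCoh.inD X F)) (k' : ℕ)
    (hGV : ∀ (i : ℕ) (y : ↥Y), y ∈ CohB1.support (DCoh.HD ((FMK.phi a b
        ((HomologicalComplex.single (pullback a b).Modules (ComplexShape.up ℤ) 0).obj P₀)).obj (DCoh.inD X F)) (i : ℤ)) →
      ((i - k' : ℕ) : WithBot ℕ∞) ≤ ringKrullDim ↑(Y.presheaf.stalk y))
    (i : ℕ) (hi : k' ≤ i) (y : ↥Y)
    (hy : ¬ IsZero ((DerivedCategory.homologyFunctor AddCommGrpCat.{u} ((i : ℤ) + 1)).obj
        ((DCoh.RΓ (pullback (pullback.snd a b) (Y.fromSpecResidueField y))).obj ((DCoh.Lpull (pullback.fst (pullback.snd a b) (Y.fromSpecResidueField y))).obj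
          ((DCoh.LTensorCx ((HomologicalComplex.single (pullback a b).Modules (ComplexShape.up ℤ) 0).obj P₀)).obj
            ((DCoh.Lpull (pullback.fst a b)).obj (DCoh.inD X F))))))) :
    ¬ IsZero ((DerivedCategory.homologyFunctor AddCommGrpCat.{u} (i : ℤ)).obj
        ((DCoh.RΓ (pullback (pullback.snd a b) (Y.fromSpecResidueField y))).obj ((DCoh.Lpull (pullback.fst (pullback.snd a b) (Y.fromSpecResidueField y))).obj
          ((DCoh.LTensorCx ((HomologicalComplex.single (pullback a b).Modules (ComplexShape.up ℤ) 0).obj P₀)).obj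
            ((DCoh.Lpull (pullback.fst a b)).obj (DCoh.inD X F)))))) := by
  haveI : IsLocallyNoetherian (Spec (CommRingCat.of k)) := inferInstance
  haveI : IsLocallyNoetherian Y := LocallyOfFiniteType.isLocallyNoetherian b
  haveI : Flat a := FibreDeg.Basic.flat_of_field a
  haveI : LocallyOfFinitePresentation a := DvrCrit.lfp_of_lft a
  haveI := DerivedOX.LeftExists.hasLpull (Y.fromSpecResidueField y)
  have hP := isPerfect_single hP₀
  let P := (HomologicalComplex.single (pullback a b).Modules (ComplexShape.up ℤ) 0).obj P₀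
  have hM : DCoh.IsPerfect ((FMK.phi a b P).obj (DCoh.inD X F)) :=
    DerivedOX.FMDiag.isPerfect_phi a b P hP _ hF
  have hEq : DCoh.IsQCohD ((DCoh.LTensorCx P).obj ((DCoh.Lpull (pullback.fst a b)).obj (DCoh.inD X F))) :=
    Perfect.QCohD.isQCohD_of_isPerfect
      (Groth.Agent.S13558.isPerfect_tensor P hP (Groth.Agent.S0921.result _ _ hF))
  intro h0
  refine hy ((isZero_iff_fibre a b _ hEq y _).2 ?_)
  exact Vanish.fibre_succ (fun z => haveI := hYgor z; Groth.Agent.S0341.result _) hM k' i hi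
    (fun l z hz => hGV l z hz) y ((isZero_iff_fibre a b _ hEq y _).1 h0)

/-- Let k be an algebraically closed field, X a proper scheme over k all of whose local rings are
Cohen–Macaulay, equidimensional of dimension d, and Y a proper scheme over k all of whose local
rings are Gorenstein (structure morphisms a and b). Let P be a finite locally free module on X ×_k
Y, viewed as a kernel in degree 0, and F a coherent O_X-module which is perfect as an object of
D(O_X). Write Φ_P(F) = Rpr_{Y,*}(Lpr_X^*F ⊗^L P), R^iΦ_P(F) = H^i(Φ_P(F)), and for a point y of Y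
let X_y = (X ×_k Y) ×_Y Spec κ(y) with first projection j_y, and V^i = {y ∈ Y : H^i(X_y,
Lj_y^*(Lpr_X^*F ⊗^L P)) ≠ 0} the i-th cohomological support locus (hypercohomology on X_y; the
derived functors involved are assumed to exist). Let k' ≥ 0 and suppose F is a GV_{k'}-sheaf with
respect to P: for every i ≥ 0 the support of R^iΦ_P(F) has codimension ≥ i − k' (the local ring of Y
at each of its points has Krull dimension ≥ i − k'). Then V^{i+1} ⊆ V^i for every i ≥ k', so that
V^d ⊆ ⋯ ⊆ V^{k'+1} ⊆ V^{k'}. -/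
theorem result (k : Type u) [Field k] [IsAlgClosed k]
    (X Y : Scheme.{u}) (a : X ⟶ Spec (CommRingCat.of k)) (b : Y ⟶ Spec (CommRingCat.of k)) [IsProper a] [IsProper b]
    (hXcm : ∀ x : ↥X, LocCoh.IsCohenMacaulayLocalRing ↑(X.presheaf.stalk x))
    (hYgor : ∀ y : ↥Y, LocCoh.IsGorensteinLocalRing ↑(Y.presheaf.stalk y))
    (d : ℕ) (hd : topologicalKrullDim ↥X = (d : WithBot ℕ∞))
    (hXeq : ∀ Z ∈ irreducibleComponents ↥X, topologicalKrullDim ↥Z = (d : WithBot ℕ∞))
    (P₀ : (pullback a b).Modules) (hP₀ : FlatMod.IsFinLocFree P₀)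
    [DCoh.HasLpull (pullback.fst a b)]
    [DCoh.HasLTensorCx ((HomologicalComplex.single (pullback a b).Modules (ComplexShape.up ℤ) 0).obj P₀)]
    [DCoh.HasRpush (pullback.snd a b)]
    [∀ y : ↥Y, DCoh.HasLpull (pullback.fst (pullback.snd a b) (Y.fromSpecResidueField y))]
    [∀ y : ↥Y, DCoh.HasRΓ (pullback (pullback.snd a b) (Y.fromSpecResidueField y))]
    (F : X.Modules) (hFc : Coh.IsCoh F) (hF : DCoh.IsPerfect (DCoh.inD X F)) (k' : ℕ)
    (hGV : ∀ (i : ℕ) (y : ↥Y), y ∈ CohB1.support (DCoh.HD ((FMK.phi a b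
        ((HomologicalComplex.single (pullback a b).Modules (ComplexShape.up ℤ) 0).obj P₀)).obj (DCoh.inD X F)) (i : ℤ)) →
      ((i - k' : ℕ) : WithBot ℕ∞) ≤ ringKrullDim ↑(Y.presheaf.stalk y))
    (i : ℕ) (hi : k' ≤ i) (y : ↥Y)
    (hy : ¬ IsZero ((DerivedCategory.homologyFunctor AddCommGrpCat.{u} ((i : ℤ) + 1)).obj
        ((DCoh.RΓ (pullback (pullback.snd a b) (Y.fromSpecResidueField y))).obj ((DCoh.Lpull (pullback.fst (pullback.snd a b) (Y.fromSpecResidueField y))).obj
          ((DCoh.LTensorCx ((HomologicalComplex.single (pullback a b).Modules (ComplexShape.up ℤ) 0).obj P₀)).obj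
            ((DCoh.Lpull (pullback.fst a b)).obj (DCoh.inD X F))))))) :
    ¬ IsZero ((DerivedCategory.homologyFunctor AddCommGrpCat.{u} (i : ℤ)).obj
        ((DCoh.RΓ (pullback (pullback.snd a b) (Y.fromSpecResidueField y))).obj ((DCoh.Lpull (pullback.fst (pullback.snd a b) (Y.fromSpecResidueField y))).obj
          ((DCoh.LTensorCx ((HomologicalComplex.single (pullback a b).Modules (ComplexShape.up ℤ) 0).obj P₀)).obj
            ((DCoh.Lpull (pullback.fst a b)).obj (DCoh.inD X F)))))) := by
  exact main k X Y a b hYgor P₀ hP₀ F hF k' hGV i hi y hy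

end Groth.Agent.S16383
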