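import Groth.Statements.S16387
import Groth.Agent.H4.AVPoints
import Groth.Agent.H4.TateBasic
import Mathlib.LinearAlgebra.FreeModule.PID
-- import your own Groth.Agent.* helpers here

set_option autoImplicit false
universe u
open CategoryTheory MonoidalCategory CartesianMonoidalCategory MonObj GrpObj AlgebraicGeometry
open AbVar

namespace Groth.Agent.S16387

/-- Let k be a finite field with algebraic closure Ω, l a prime number invertible in k, and A, B abelian
varieties over k (proper, geometrically integral commutative group schemes over k). If the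
homomorphism i : A → B is injective (a closed immersion), then the induced ℤ_l-linear map between
the l-adic Tate modules of Ω-points T_l(i) : T_l A → T_l B is injective with torsion-free, hence
free, cokernel: the quotient of T_l B by the image of T_l A is a free ℤ_l-module. -/
theorem result (k Ω : Type u) [Field k] [Finite k]
    [Field Ω] [Algebra k Ω] [IsAlgClosure k Ω] (l : ℕ) [Fact l.Prime] (hl : (l : k) ≠ 0)
    (A B : Over (Spec (CommRingCat.of k))) [GrpObj A] [IsCommMonObj A] [IsProper A.hom] [GeometricallyIntegral A.hom]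
    [GrpObj B] [IsCommMonObj B] [IsProper B.hom] [GeometricallyIntegral B.hom]
    (i : A ⟶ B) [IsMonHom i] [IsClosedImmersion i.left] :
    Function.Injective (AbDual.tateMapₗ (l := l) (T := SGA7.pt Ω) i) ∧
      Module.Free ℤ_[l] (AbDual.TateMod B l (SGA7.pt Ω) ⧸
        LinearMap.range (AbDual.tateMapₗ (l := l) (T := SGA7.pt Ω) i)) := by
  haveI : IsAlgClosed Ω := IsAlgClosure.isAlgClosed k
  haveI : Mono i := by
    haveI : Mono i.left := inferInstance
    exact Over.mono_of_mono_left i
  haveI := Groth.Agent.H4.AVPoints.finite_torsPts (A := B)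
    (Spec.map (CommRingCat.ofHom (algebraMap k Ω))) hl
  haveI : Finite (AbDual.torsPts B l (SGA7.pt Ω : Over (Spec (CommRingCat.of k)))) :=
    Groth.Agent.H4.AVPoints.finite_torsPts (A := B) _ hl
  constructor
  · intro v w h
    refine AbDual.TateMod.ext fun j => ?_
    have h' := congrArg (fun z : AbDual.TateMod B l (SGA7.pt Ω) =>
      ((z : ℕ → Additive (SGA7.pt Ω ⟶ B)) j).toMul) h
    exact Additive.toMul.injective ((cancel_mono i).1 h')
  · set R := LinearMap.range (AbDual.tateMapₗ (l := l) (T := SGA7.pt Ω) i) with hR
    haveI := Groth.Agent.H4.TateBasic.moduleFinite (A := B) (T := SGA7.pt Ω) (l := l)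
    have hl0 : ∀ v : AbDual.TateMod B l (SGA7.pt Ω), (l : ℤ_[l]) • v ∈ R → v ∈ R := by
      rintro v ⟨w, hw⟩
      have hwj : ∀ j, ((w : ℕ → Additive (SGA7.pt Ω ⟶ A)) (j + 1)).toMul ≫ i =
          ((v : ℕ → Additive (SGA7.pt Ω ⟶ B)) j).toMul := fun j => by
        have h' := congrArg (fun z : AbDual.TateMod B l (SGA7.pt Ω) =>
          ((z : ℕ → Additive (SGA7.pt Ω ⟶ B)) (j + 1))) hw
        have h'' := h'.trans ((Groth.Agent.H4.TateBasic.natCast_smul_apply l v (j + 1)).trans
          (AbDual.TateMod.compat v j))
        exact congrArg Additive.toMul h''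
      refine ⟨⟨fun j => (w : ℕ → Additive (SGA7.pt Ω ⟶ A)) (j + 1), fun j => ?_,
        fun j => AbDual.TateMod.compat w (j + 1)⟩, ?_⟩
      · apply Additive.toMul.injective
        rw [← cancel_mono i]
        show (_ ^ l ^ j) ≫ i = 1 ≫ i
        rw [MonObj.pow_comp, hwj, MonObj.one_comp]
        exact congrArg Additive.toMul (AbDual.TateMod.torsion v j)
      · exact AbDual.TateMod.ext fun j => congrArg Additive.ofMul (hwj j)
    haveI : Module.IsTorsionFree ℤ_[l] (AbDual.TateMod B l (SGA7.pt Ω) ⧸ R) := by
      refine Module.IsTorsionFree.of_smul_eq_zero fun a q h => ?_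
      obtain ⟨v, rfl⟩ := Submodule.mkQ_surjective R q
      by_cases ha : a = 0
      · exact Or.inl ha
      right
      rw [← map_smul, Submodule.mkQ_apply, Submodule.Quotient.mk_eq_zero] at h
      rw [Submodule.mkQ_apply, Submodule.Quotient.mk_eq_zero]
      rw [PadicInt.unitCoeff_spec ha, mul_smul, Submodule.smul_mem_iff_of_isUnit _ (Units.isUnit _)] at h
      generalize a.valuation = m at h
      induction m with
      | zero => simpa using h
      | succ m ih =>
        rw [pow_succ', mul_smul] at h
        exact ih (hl0 _ h)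
    exact Module.free_of_finite_type_torsion_free'

end Groth.Agent.S16387
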