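import Groth.Statements.S16388
import Groth.Agent.H63.TateCor.Span

set_option autoImplicit false
universe u
open CategoryTheory MonoidalCategory CartesianMonoidalCategory MonObj GrpObj AlgebraicGeometry
open AbVar

namespace Groth.Agent.S16388

/-- For a single prime l different from the characteristic; let k be a finite field with algebraic
closure Ω, l a prime number invertible in k, and A, B abelian varieties over k (proper,
geometrically integral commutative group schemes over k). For each k-automorphism τ of Ω let ρ_A(τ),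
ρ_B(τ) be the ℤ_l-linear endomorphisms of the l-adic Tate modules of Ω-points T_l A, T_l B which act
on every component by the Galois action of τ (this pins them). Then T_l A and T_l B are isomorphic
as Galois modules — there is a ℤ_l-linear isomorphism e with e ∘ ρ_A(τ) = ρ_B(τ) ∘ e for all τ — if
and only if there is an isogeny A → B of degree prime to l, expressed here as: homomorphisms f : A →
B and g : B → A and an integer N ≥ 1 not divisible by l such that g ∘ f is multiplication by N on A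
and f ∘ g is multiplication by N on B. -/
theorem result (k Ω : Type u)
    [Field k] [Finite k] [Field Ω] [Algebra k Ω] [IsAlgClosure k Ω] (l : ℕ) [Fact l.Prime] (hl : (l : k) ≠ 0)
    (A B : Over (Spec (CommRingCat.of k))) [GrpObj A] [IsCommMonObj A] [IsProper A.hom] [GeometricallyIntegral A.hom]
    [GrpObj B] [IsCommMonObj B] [IsProper B.hom] [GeometricallyIntegral B.hom]
    (ρA : (Ω ≃ₐ[k] Ω) → Module.End ℤ_[l] (AbDual.TateMod A l (SGA7.pt Ω)))
    (hρA : ∀ (τ : Ω ≃ₐ[k] Ω) (z : AbDual.TateMod A l (SGA7.pt Ω)) (m : ℕ),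
      (AbDual.TateMod.component A l (SGA7.pt Ω) m (ρA τ z)).toMul =
        SGA7.galAct τ (AbDual.TateMod.component A l (SGA7.pt Ω) m z).toMul)
    (ρB : (Ω ≃ₐ[k] Ω) → Module.End ℤ_[l] (AbDual.TateMod B l (SGA7.pt Ω)))
    (hρB : ∀ (τ : Ω ≃ₐ[k] Ω) (z : AbDual.TateMod B l (SGA7.pt Ω)) (m : ℕ),
      (AbDual.TateMod.component B l (SGA7.pt Ω) m (ρB τ z)).toMul =
        SGA7.galAct τ (AbDual.TateMod.component B l (SGA7.pt Ω) m z).toMul) :
    (∃ e : AbDual.TateMod A l (SGA7.pt Ω) ≃ₗ[ℤ_[l]] AbDual.TateMod B l (SGA7.pt Ω),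
        ∀ τ : Ω ≃ₐ[k] Ω, e.toLinearMap ∘ₗ ρA τ = ρB τ ∘ₗ e.toLinearMap) ↔
      ∃ (f : A ⟶ B) (_ : IsMonHom f) (g : B ⟶ A) (_ : IsMonHom g) (N : ℕ), 0 < N ∧ ¬ l ∣ N ∧
        f ≫ g = (𝟙 A) ^ N ∧ g ≫ f = (𝟙 B) ^ N := by
  constructor
  · rintro ⟨e, he⟩
    refine H63.TateCor.exists_isogeny_coprime hl (H63.TateCor.tateSpan hl A B) (H63.TateCor.tateSpan hl B A) e
      (fun z z' hz m => ?_) (fun z z' hz m => ?_)
    · have e' : z' = ρA (H63.Tate.FrobGal.frobΩ k Ω) z :=
        AbDual.TateMod.ext fun i => congrArg Additive.ofMul ((hz i).trans (hρA _ _ _).symm)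
      rw [e', show e.toLinearMap (ρA _ z) = ρB _ (e z) from LinearMap.congr_fun (he _) z]
      exact hρB _ _ _
    · have e' : z' = ρB (H63.Tate.FrobGal.frobΩ k Ω) z :=
        AbDual.TateMod.ext fun i => congrArg Additive.ofMul ((hz i).trans (hρB _ _ _).symm)
      have h : e.symm (ρB (H63.Tate.FrobGal.frobΩ k Ω) z) = ρA (H63.Tate.FrobGal.frobΩ k Ω) (e.symm z) := by
        refine e.injective ?_
        have := LinearMap.congr_fun (he (H63.Tate.FrobGal.frobΩ k Ω)) (e.symm z)
        simp only [LinearMap.comp_apply, LinearEquiv.coe_coe, LinearEquiv.apply_symm_apply] at this ⊢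
        exact this.symm
      rw [e', show e.symm.toLinearMap (ρB (H63.Tate.FrobGal.frobΩ k Ω) z) = _ from h]
      exact hρA _ _ _
  · rintro ⟨f, hf, g, hg, N, hN, hlN, hfg, hgf⟩
    haveI := hf; haveI := hg
    have hu : IsUnit (N : ℤ_[l]) := PadicInt.isUnit_iff.2 (PadicInt.norm_natCast_eq_one_iff.2 ((Nat.Prime.coprime_iff_not_dvd Fact.out).2 hlN))
    obtain ⟨c, hc⟩ := hu
    refine ⟨LinearEquiv.ofLinear (AbDual.tateMapₗ (l := l) (T := SGA7.pt Ω) f)
      ((↑c⁻¹ : ℤ_[l]) • AbDual.tateMapₗ (l := l) (T := SGA7.pt Ω) g) ?_ ?_, fun τ => ?_⟩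
    · rw [LinearMap.comp_smul, H63.TateCor.tateMap_comp_eq_nsmul g f hgf, ← hc, smul_smul, Units.inv_mul, one_smul]
    · rw [LinearMap.smul_comp, H63.TateCor.tateMap_comp_eq_nsmul f g hfg, ← hc, smul_smul, Units.inv_mul, one_smul]
    · refine LinearMap.ext fun z => AbDual.TateMod.ext fun m => congrArg Additive.ofMul ?_
      show (AbDual.TateMod.component A l (SGA7.pt Ω) m (ρA τ z)).toMul ≫ f =
        (AbDual.TateMod.component B l (SGA7.pt Ω) m (ρB τ (AbDual.tateMapₗ f z))).toMul
      rw [hρA, hρB]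
      exact Category.assoc _ _ _

end Groth.Agent.S16388
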