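import Groth.Statements.S16390
import Mathlib.NumberTheory.Padics.Hensel
import Mathlib.Tactic.LinearCombination
import Mathlib.Algebra.Polynomial.SpecificDegree
import Mathlib.Analysis.Complex.Basic
-- import your own Groth.Agent.* helpers here

set_option autoImplicit false
open AbVar

namespace Groth.Agent.S16390

/-- Let p be a prime number, r > 2 and q = p^r. The polynomial x² − p x + q is irreducible over ℚ, each
of its complex roots has absolute value √q (so its roots are Weil q-numbers), and it has two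
distinct roots in ℚ_p, of p-adic valuations 1 and r − 1. The published lemma also computes the index
of the endomorphism algebra of the simple abelian variety attached to a root; this row does not
state that part. -/
theorem result (p r : ℕ) [Fact p.Prime] (hr : 2 < r) :
    Irreducible (Polynomial.X ^ 2 - Polynomial.C (p : ℚ) * Polynomial.X + Polynomial.C ((p : ℚ) ^ r)) ∧
      (∀ π : ℂ, π ^ 2 - (p : ℂ) * π + (p : ℂ) ^ r = 0 → ‖π‖ = Real.sqrt ((p : ℝ) ^ r)) ∧
      ∃ a b : ℚ_[p], a ≠ b ∧ a ^ 2 - (p : ℚ_[p]) * a + (p : ℚ_[p]) ^ r = 0 ∧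
        b ^ 2 - (p : ℚ_[p]) * b + (p : ℚ_[p]) ^ r = 0 ∧ a.valuation = 1 ∧ b.valuation = (r : ℤ) - 1 := by
  obtain ⟨m, rfl⟩ : ∃ m, r = m + 3 := ⟨r - 3, by omega⟩
  have hp : 2 ≤ p := (Fact.out : p.Prime).two_le
  have hdisc : (p : ℚ) ^ 2 < 4 * (p : ℚ) ^ (m + 3) := by
    have h2 : (1 : ℚ) ≤ p := by exact_mod_cast (by omega : 1 ≤ p)
    calc (p : ℚ) ^ 2 ≤ (p : ℚ) ^ (m + 3) := pow_le_pow_right₀ h2 (by omega)
      _ < 4 * (p : ℚ) ^ (m + 3) := by
        have : (0 : ℚ) < (p : ℚ) ^ (m + 3) := by positivity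
        linarith
  refine ⟨?_, ?_, ?_⟩
  · have hd : (Polynomial.X ^ 2 - Polynomial.C (p : ℚ) * Polynomial.X +
        Polynomial.C ((p : ℚ) ^ (m + 3))).natDegree = 2 := by
      compute_degree!
    apply Polynomial.irreducible_of_degree_le_three_of_not_isRoot (by rw [hd]; simp)
    intro x hx
    simp only [Polynomial.IsRoot.def, Polynomial.eval_add, Polynomial.eval_sub, Polynomial.eval_pow,
      Polynomial.eval_mul, Polynomial.eval_X, Polynomial.eval_C] at hx
    nlinarith [sq_nonneg (2 * x - p)]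
  · intro π hπ
    have hd' : (p : ℝ) ^ 2 < 4 * (p : ℝ) ^ (m + 3) := by exact_mod_cast hdisc
    have hre := congrArg Complex.re hπ
    have him := congrArg Complex.im hπ
    have e : ((p : ℂ) ^ (m + 3)) = (((p : ℝ) ^ (m + 3) : ℝ) : ℂ) := by push_cast; rfl
    have er : ((p : ℂ) ^ (m + 3)).re = (p : ℝ) ^ (m + 3) := by rw [e, Complex.ofReal_re]
    have ei : ((p : ℂ) ^ (m + 3)).im = 0 := by rw [e, Complex.ofReal_im]
    simp [sq] at hre him
    rw [er] at hre; rw [ei] at him
    have hne : π.im ≠ 0 := by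
      intro h
      rw [h] at hre
      nlinarith [sq_nonneg (2 * π.re - p)]
    have h2 : 2 * π.re = p := by
      apply mul_left_cancel₀ hne
      linarith
    rw [Complex.norm_def]
    congr 1
    rw [Complex.normSq_apply]
    nlinarith
  · let F : Polynomial ℤ_[p] := Polynomial.X ^ 2 - Polynomial.X + Polynomial.C ((p : ℤ_[p]) ^ (m + 1))
    have hd1 : F.derivative.aeval (1 : ℤ_[p]) = 1 := by
      simp [F, Polynomial.derivative_X_pow, Polynomial.derivative_pow]; norm_num
    have hn : ‖F.aeval (1 : ℤ_[p])‖ < ‖F.derivative.aeval (1 : ℤ_[p])‖ ^ 2 := by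
      rw [hd1, norm_one, one_pow]
      have hF1 : F.aeval (1 : ℤ_[p]) = (p : ℤ_[p]) ^ (m + 1) := by simp [F]
      rw [hF1, norm_pow, PadicInt.norm_p]
      have h1p : (1 : ℝ) < p := by exact_mod_cast (by omega : 1 < p)
      exact pow_lt_one₀ (by positivity) (inv_lt_one_of_one_lt₀ h1p) (by simp)
    obtain ⟨z, hz, hz1, -, -⟩ := hensels_lemma hn
    rw [hd1, norm_one] at hz1
    have hzu : ‖z‖ = 1 := by
      have : z = 1 + (z - 1) := by ring
      rw [this, PadicInt.norm_add_eq_max_of_ne (by rw [norm_one]; exact hz1.ne'), norm_one,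
        max_eq_left hz1.le]
    have hzq : (z : ℚ_[p]) ^ 2 - z + (p : ℚ_[p]) ^ (m + 1) = 0 := by
      have := congrArg (fun t : ℤ_[p] => (t : ℚ_[p])) hz
      simpa [F] using this
    have hp0 : (p : ℚ_[p]) ≠ 0 := by exact_mod_cast (by omega : p ≠ 0)
    have hz0 : (z : ℚ_[p]) ≠ 0 := by
      intro h
      rw [PadicInt.norm_def, h, norm_zero] at hzu
      exact zero_ne_one hzu
    have hvz : (z : ℚ_[p]).valuation = 0 := by
      rw [PadicInt.valuation_coe]
      have := PadicInt.norm_eq_zpow_neg_valuation (x := z) (by simpa using hz0)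
      rw [hzu] at this
      have h' : ((p : ℝ)) ^ (0 : ℤ) = (p : ℝ) ^ (-z.valuation : ℤ) := by simpa using this
      have := zpow_right_injective₀ (by positivity) (by exact_mod_cast (by omega : p ≠ 1)) h'
      simpa using this
    have hb : (p : ℚ_[p]) * (1 - z) = (p : ℚ_[p]) ^ (m + 2) / z := by
      rw [eq_div_iff hz0]
      linear_combination (-(p : ℚ_[p])) * hzq
    have hva : ((p : ℚ_[p]) * z).valuation = 1 := by
      rw [Padic.valuation_mul hp0 hz0, Padic.valuation_p, hvz, add_zero]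
    have hvb : ((p : ℚ_[p]) * (1 - z)).valuation = ((m + 3 : ℕ) : ℤ) - 1 := by
      rw [hb, div_eq_mul_inv, Padic.valuation_mul (pow_ne_zero _ hp0) (inv_ne_zero hz0),
        Padic.valuation_pow, Padic.valuation_p, Padic.valuation_inv, hvz]
      push_cast; ring
    refine ⟨(p : ℚ_[p]) * z, (p : ℚ_[p]) * (1 - z), ?_, ?_, ?_, hva, hvb⟩
    · intro h
      rw [h] at hva
      rw [hva] at hvb
      push_cast at hvb
      omega
    · linear_combination ((p : ℚ_[p]) ^ 2) * hzq
    · linear_combination ((p : ℚ_[p]) ^ 2) * hzq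

end Groth.Agent.S16390
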