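import Groth.Statements.S16394
import Groth.Agent.H4.IdealAcc
import Groth.Agent.Lib.GrpSch.Basic
-- import your own Groth.Agent.* helpers here

set_option autoImplicit false
universe u
open CategoryTheory MonoidalCategory CartesianMonoidalCategory MonObj GrpObj AlgebraicGeometry
open AbVar

namespace Groth.Agent.S16394

open CategoryTheory.Limits

/-- (b₁) ⇒ (c₁): let k be a finite field and X, A abelian varieties over k (proper, geometrically
integral commutative group schemes over k). Suppose the common kernel of all homomorphisms X → A is
trivial: every T-valued point of X over k that is sent to the unit by every homomorphism X → A is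
the unit point (this is condition (b₁) for the trivial subgroup). Then there are finitely many
homomorphisms ψ_1, …, ψ_n : X → A which are jointly monomorphic on T-valued points — two T-valued
points of X with the same image under every ψ_i are equal — so that (ψ_i) is an injective
homomorphism X → A^n. The published statement restricts X and A to abelian varieties whose Frobenius
is killed by a fixed polynomial; this row has no such restriction. -/
theorem result
    (k : Type u) [Field k] [Finite k] (X A : Over (Spec (CommRingCat.of k))) [GrpObj X] [IsCommMonObj X] [IsProper X.hom] [GeometricallyIntegral X.hom]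
    [GrpObj A] [IsCommMonObj A] [IsProper A.hom] [GeometricallyIntegral A.hom]
    (hsep : ∀ (T : Over (Spec (CommRingCat.of k))) (x : T ⟶ X), (∀ f : EndAV.Hom X A, x ≫ f.toHom = 1) → x = 1) :
    ∃ (n : ℕ) (ψ : Fin n → EndAV.Hom X A), ∀ (T : Over (Spec (CommRingCat.of k))) (x y : T ⟶ X),
      (∀ i, x ≫ (ψ i).toHom = y ≫ (ψ i).toHom) → x = y := by
  classical
  haveI : IsClosedImmersion η[A].left := Groth.Agent.Lib.GrpSch.isClosedImmersion_η A
  haveI : CompactSpace X.left := QuasiCompact.compactSpace_of_compactSpace X.hom
  haveI : IsLocallyNoetherian X.left := LocallyOfFiniteType.isLocallyNoetherian X.hom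
  have hone : ∀ (T : Over (Spec (CommRingCat.of k))), (1 : T ⟶ A).left = T.hom ≫ η[A].left := by
    intro T
    rw [← MonObj.comp_one (toUnit T), ← MonObj.one_eq_one]
    simp
  let kι : ∀ f : EndAV.Hom X A, pullback f.toHom.left η[A].left ⟶ X.left :=
    fun f => pullback.fst f.toHom.left η[A].left
  have hiff : ∀ (f : EndAV.Hom X A) (T : Over (Spec (CommRingCat.of k))) (x : T ⟶ X),
      x ≫ f.toHom = 1 ↔ (kι f).ker ≤ x.left.ker := by
    intro f T x
    constructor
    · intro h
      have h' : x.left ≫ f.toHom.left = T.hom ≫ η[A].left := by
        rw [← hone, ← h]; rfl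
      have hl : pullback.lift x.left T.hom h' ≫ kι f = x.left := pullback.lift_fst _ _ _
      rw [← hl]
      exact Scheme.Hom.le_ker_comp _ _
    · intro h
      haveI : IsClosedImmersion (kι f) := inferInstanceAs (IsClosedImmersion (pullback.fst _ _))
      have hl := IsClosedImmersion.lift_fac (kι f) x.left h
      set t := IsClosedImmersion.lift (kι f) x.left h
      ext1
      rw [hone, Over.comp_left, ← hl, Category.assoc]
      show t ≫ pullback.fst _ _ ≫ f.toHom.left = _
      rw [pullback.condition, ← Category.assoc]
      congr 1
      have hT : t ≫ pullback.snd f.toHom.left η[A].left =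
          (t ≫ pullback.snd f.toHom.left η[A].left) ≫ η[A].left ≫ A.hom := by
        rw [Over.w η[A]]; exact (Category.comp_id _).symm
      rw [hT, Category.assoc, ← pullback.condition_assoc, Over.w f.toHom, ← Category.assoc]
      show (t ≫ kι f) ≫ X.hom = T.hom
      rw [hl, Over.w x]
  obtain ⟨s, hs⟩ := Groth.Agent.H4.IdealAcc.exists_finset_sup fun f : EndAV.Hom X A => (kι f).ker
  set I := s.sup fun f : EndAV.Hom X A => (kι f).ker
  have hI : (Over.homMk I.subschemeι rfl : Over.mk (I.subschemeι ≫ X.hom) ⟶ X) = 1 :=
    hsep _ _ fun f => (hiff f _ _).2 (by simpa using hs f)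
  refine ⟨s.card, fun i => (s.equivFin.symm i : EndAV.Hom X A), fun T x y hxy => ?_⟩
  rw [← div_eq_one]
  have hle : I ≤ (x / y).left.ker := Finset.sup_le fun f hf => (hiff f T (x / y)).1 (by
    have := hxy (s.equivFin ⟨f, hf⟩)
    simp only [Equiv.symm_apply_apply] at this
    rw [GrpObj.div_comp, this, div_self'])
  have hl := IsClosedImmersion.lift_fac I.subschemeι (x / y).left
    (by rw [Scheme.IdealSheafData.ker_subschemeι]; exact hle)
  set t := IsClosedImmersion.lift I.subschemeι (x / y).left
    (by rw [Scheme.IdealSheafData.ker_subschemeι]; exact hle) with ht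
  have hfac : x / y = (Over.homMk t (by
      show t ≫ I.subschemeι ≫ X.hom = T.hom
      rw [← Category.assoc, hl, Over.w (x / y)]) : T ⟶ Over.mk (I.subschemeι ≫ X.hom)) ≫
      Over.homMk I.subschemeι rfl := by
    ext1; exact hl.symm
  rw [hfac, hI, MonObj.comp_one]

end Groth.Agent.S16394
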