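import Groth.Statements.S16396


set_option autoImplicit false
universe u
open CAlg

namespace Groth.Agent.S16396

open Polynomial in
/-- For a commutative ℚ-algebra A, a ℚ-subalgebra B of the polynomial algebra A[X] that contains X and
is closed under d/dX consists exactly of the polynomials each of whose coefficients is the value at
0 of some element of B; in other words B = ev(B)[X], with ev the evaluation at 0. -/
theorem result
    (A : Type u) [CommRing A] [Algebra ℚ A] (B : Subalgebra ℚ A[X])
    (hX : (X : A[X]) ∈ B) (hD : ∀ P ∈ B, Polynomial.derivative P ∈ B) (P : A[X]) :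
    P ∈ B ↔ ∀ i : ℕ, ∃ Q ∈ B, Polynomial.eval 0 Q = P.coeff i := by
  have key : ∀ n : ℕ, ∀ Q ∈ B, Q.natDegree ≤ n → ∀ i, Polynomial.C (Q.coeff i) ∈ B := by
    intro n
    induction n with
    | zero =>
      intro Q hQ hd i
      rcases Nat.eq_zero_or_pos i with rfl | hi
      · rwa [← Polynomial.eq_C_of_natDegree_eq_zero (Nat.le_zero.mp hd)]
      · rw [Polynomial.coeff_eq_zero_of_natDegree_lt (by omega), Polynomial.C_0]
        exact B.zero_mem
    | succ n ih =>
      intro Q hQ hd
      have hs : ∀ i, Polynomial.C (Q.coeff (i + 1)) ∈ B := by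
        intro i
        have h1 := ih _ (hD Q hQ) ((Polynomial.natDegree_derivative_le Q).trans (by omega)) i
        rw [Polynomial.coeff_derivative] at h1
        have h2 := B.smul_mem h1 ((i + 1 : ℚ)⁻¹)
        rw [Polynomial.smul_C, Algebra.smul_def,
          show (Q.coeff (i + 1) * ((i : A) + 1)) = algebraMap ℚ A (i + 1) * Q.coeff (i + 1) by
            simp [mul_comm], ← mul_assoc, ← map_mul,
          inv_mul_cancel₀ (by positivity), map_one, one_mul] at h2
        exact h2
      intro i
      cases i with
      | succ i => exact hs i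
      | zero =>
        have hsum := Polynomial.as_sum_range' Q (n + 2) (by omega)
        rw [Finset.sum_range_succ'] at hsum
        have h0 : Polynomial.C (Q.coeff 0) =
            Q - ∑ j ∈ Finset.range (n + 1), Polynomial.monomial (j + 1) (Q.coeff (j + 1)) := by
          rw [eq_sub_iff_add_eq, add_comm, ← Polynomial.monomial_zero_left]
          exact hsum.symm
        rw [h0]
        refine B.sub_mem hQ (sum_mem fun j _ => ?_)
        rw [← Polynomial.C_mul_X_pow_eq_monomial]
        exact B.mul_mem (hs j) (pow_mem hX _)
  constructor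
  · intro hP i
    exact ⟨_, key _ P hP le_rfl i, by simp⟩
  · intro h
    rw [P.as_sum_range_C_mul_X_pow]
    refine sum_mem fun i _ => B.mul_mem ?_ (pow_mem hX _)
    obtain ⟨Q, hQ, he⟩ := h i
    rw [← he, ← Polynomial.coeff_zero_eq_eval_zero]
    exact key _ Q hQ le_rfl 0

end Groth.Agent.S16396
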