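import Groth.Statements.S16398
import Mathlib
import Groth.Agent.H68.TautRel

set_option autoImplicit false
open W4c3tautjacobian

namespace Groth.Agent.S16398

/-- In the formal relation ring of genus g ≥ 1, an element of the relation ideal which is bihomogeneous
of bidegree (0, n) with 3n ≤ 2g vanishes; that is, the relations impose nothing on the
first-degree-0 part in second degree at most 2g/3. -/
theorem result
    (g : ℕ) (hg : 1 ≤ g) (n : ℕ) (hn : 3 * n ≤ 2 * g) (P : W4c3tautjacobian.RelRing g)
    (hP : P ∈ W4c3tautjacobian.relIdeal g)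
    (hhom : MvPolynomial.IsWeightedHomogeneous (W4c3tautjacobian.wt g) P ((0, n) : ℕ × ℕ)) :
    P = 0 := by
  classical
  suffices key : ∀ Q ∈ W4c3tautjacobian.relIdeal g, ∀ e : W4c3tautjacobian.Var g →₀ ℕ,
      (Finsupp.weight (W4c3tautjacobian.wt g) e).1 = 0 → (Finsupp.weight (W4c3tautjacobian.wt g) e).2 ≤ n →
      MvPolynomial.coeff e Q = 0 by
    refine MvPolynomial.ext _ _ fun e => ?_
    rw [MvPolynomial.coeff_zero]
    by_contra he
    exact he (key P hP e (by rw [hhom he]) (by rw [hhom he]))
  have gen_zero : ∀ (d : W4c3tautjacobian.Var g →₀ ℕ) (m : ℕ), 2 * g < (Finsupp.weight (W4c3tautjacobian.wt g) d).1 →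
      (Finsupp.weight (W4c3tautjacobian.wt g) d).1 = 2 * m → (Finsupp.weight (W4c3tautjacobian.wt g) d).2 ≤ n →
      (W4c3tautjacobian.F g)^[m] (MvPolynomial.monomial d 1) = 0 := by
    intro d m hlt heq hle
    let v : W4c3tautjacobian.Var g := some ⟨(2, 0), H68.TautRel.valid_two hg⟩
    obtain ⟨d', hd', hv⟩ : ∃ d', Finsupp.single v (d v) + d' = d ∧ d' v = 0 :=
      ⟨d.erase v, Finsupp.single_add_erase v d, Finsupp.erase_same⟩
    have hw : Finsupp.weight (W4c3tautjacobian.wt g) d =
        ((2 * d v, 0) : ℕ × ℕ) + Finsupp.weight (W4c3tautjacobian.wt g) d' := by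
      conv_lhs => rw [← hd']
      rw [map_add, Finsupp.weight_single]
      simp [v, W4c3tautjacobian.wt, mul_comm]
    have hbound : (Finsupp.weight (W4c3tautjacobian.wt g) d').1 ≤ 3 * (Finsupp.weight (W4c3tautjacobian.wt g) d').2 := by
      clear hd' hw
      induction d' using Finsupp.induction with
      | zero => simp
      | single_add a b f haf hb ih =>
        have hfv : f v = 0 := by simp only [Finsupp.add_apply, Nat.add_eq_zero_iff] at hv; exact hv.2
        have hav : a ≠ v := by
          rintro rfl
          simp only [Finsupp.add_apply, Finsupp.single_eq_same, Nat.add_eq_zero_iff] at hv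
          exact hb hv.1
        have h1 := ih hfv
        have ha : (W4c3tautjacobian.wt g a).1 ≤ 3 * (W4c3tautjacobian.wt g a).2 := by
          rcases a with _ | ⟨⟨i, j⟩, hi, hj, ⟨c, hc⟩, hne⟩
          · simp [W4c3tautjacobian.wt]
          · simp only [W4c3tautjacobian.wt]
            rcases Nat.eq_zero_or_pos j with rfl | hj0
            · simp only [zero_add] at hi
              dsimp only at hc
              have : i ≠ 2 := by rintro rfl; exact hav rfl
              have : i ≠ 0 := by rintro rfl; exact hne rfl
              omega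
            · dsimp only at hi; omega
        simp only [map_add, Finsupp.weight_single, Prod.fst_add, Prod.snd_add, Prod.smul_fst, Prod.smul_snd, smul_eq_mul]
        nlinarith
    rw [hw, Prod.fst_add] at heq hlt
    rw [hw, Prod.snd_add, zero_add] at hle
    dsimp only at heq hlt
    have hs : (Finsupp.weight (W4c3tautjacobian.wt g) d').1 = 2 * (m - d v) := by omega
    have hmono : MvPolynomial.monomial d (1 : ℚ) = (W4c3tautjacobian.E g)^[d v] (MvPolynomial.monomial d' 1) := by
      have hE : ∀ e : ℕ, (W4c3tautjacobian.E g)^[e] (MvPolynomial.monomial d' 1) =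
          MvPolynomial.monomial (Finsupp.single v e + d') (1 : ℚ) := by
        intro e
        induction e with
        | zero => simp
        | succ e ih =>
          rw [Function.iterate_succ_apply', ih, W4c3tautjacobian.E, H68.TautRel.xv_two hg, MvPolynomial.X,
            MvPolynomial.monomial_mul, one_mul, ← add_assoc, ← Finsupp.single_add, add_comm 1 e]
      rw [hE, hd']
    have hhom' : H68.TautRel.Hom (MvPolynomial.monomial d' (1 : ℚ)) (2 * (((m - d v : ℕ)) : ℤ), ((Finsupp.weight (W4c3tautjacobian.wt g) d').2 : ℤ)) := by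
      have := H68.TautRel.hom_of_wt (MvPolynomial.isWeightedHomogeneous_monomial (W4c3tautjacobian.wt g) d' (1 : ℚ) rfl)
      convert this using 1
      rw [hs]; push_cast; rfl
    rw [hmono, show m = (m - d v) + d v by omega, show (m - d v + d v) - d v = m - d v by omega] at *
    exact H68.TautRel.F_pow_E_pow_eq_zero hg (m - d v) _ hhom' (d v) (by omega) (by omega)
  intro Q hQ
  induction hQ using Submodule.span_induction with
  | mem x hx =>
    obtain ⟨d, m, hlt, rfl⟩ := hx
    intro e he he2
    by_contra hne
    have h1 := H68.TautRel.hom_iterate (H68.TautRel.hom_of_wt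
      (MvPolynomial.isWeightedHomogeneous_monomial (W4c3tautjacobian.wt g) d (1 : ℚ) rfl)) m hne
    rw [H68.TautRel.weight_wz, Prod.mk.injEq] at h1
    exact hne (by rw [gen_zero d m hlt (by omega) (by omega), MvPolynomial.coeff_zero])
  | zero => intros; exact MvPolynomial.coeff_zero _
  | add x y _ _ hx hy => intro e he he2; rw [MvPolynomial.coeff_add, hx e he he2, hy e he he2, add_zero]
  | smul c x _ hx =>
    intro e he he2
    rw [smul_eq_mul, MvPolynomial.coeff_mul]
    refine Finset.sum_eq_zero fun de hde => ?_
    rw [Finset.HasAntidiagonal.mem_antidiagonal] at hde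
    rw [← hde, map_add] at he he2
    rw [Prod.fst_add] at he
    rw [Prod.snd_add] at he2
    rw [hx de.2 (by omega) (by omega), mul_zero]

end Groth.Agent.S16398
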