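import Groth.Statements.S16399
import Mathlib
import Groth.Agent.H68.TautRelPos

set_option autoImplicit false
open W4c3tautjacobian

namespace Groth.Agent.S16399

/-- In the formal relation ring of genus g ≥ 1, every symbol x 0 (2i) is congruent modulo the relation
ideal to a polynomial in y and the symbols x 0 (2j) with 1 ≤ j and 3j ≤ g; so these low symbols
together with y generate the first-degree-0 part modulo the relations. -/
theorem result
    (g : ℕ) (hg : 1 ≤ g) (i : ℕ) :
    ∃ q ∈ Algebra.adjoin ℚ (W4c3tautjacobian.lowGens g),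
      W4c3tautjacobian.xv g 0 (2 * (i : ℤ)) - q ∈ W4c3tautjacobian.relIdeal g := by
  classical
  let π := Ideal.Quotient.mkₐ ℚ (W4c3tautjacobian.relIdeal g)
  let S : Subalgebra ℚ (W4c3tautjacobian.RelRing g) := ((Algebra.adjoin ℚ (W4c3tautjacobian.lowGens g)).map π).comap π
  suffices h : W4c3tautjacobian.xv g 0 (2 * (i : ℤ)) ∈ S by
    obtain ⟨q, hq, he⟩ := h
    exact ⟨q, hq, Ideal.Quotient.eq.mp he.symm⟩
  have hsub : ∀ x ∈ Algebra.adjoin ℚ (W4c3tautjacobian.lowGens g), x ∈ S := fun x hx => ⟨x, hx, rfl⟩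
  have hI : ∀ x ∈ W4c3tautjacobian.relIdeal g, x ∈ S := fun x hx =>
    ⟨0, Subalgebra.zero_mem _, by rw [map_zero]; exact (Ideal.Quotient.eq_zero_iff_mem.mpr hx).symm⟩
  induction i using Nat.strong_induction_on with
  | _ i ih =>
    rcases Nat.eq_zero_or_pos i with rfl | hi
    · simp only [Nat.cast_zero, mul_zero]
      rw [show W4c3tautjacobian.xv g 0 0 = (g : W4c3tautjacobian.RelRing g) by simp [W4c3tautjacobian.xv]]
      exact natCast_mem S g
    by_cases h3 : 3 * i ≤ g
    · exact hsub _ (Algebra.subset_adjoin (Or.inr ⟨i, hi, h3, rfl⟩))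
    by_cases hig : i + 1 ≤ g
    swap
    · have : W4c3tautjacobian.xv g 0 (2 * (i : ℤ)) = 0 := by
        unfold W4c3tautjacobian.xv
        rw [if_neg (fun h => by omega), dif_neg]
        rintro ⟨-, -, hv⟩
        have := hv.2.1
        dsimp only at this
        omega
      rw [this]
      exact S.zero_mem
    have hv : W4c3tautjacobian.Valid g (0, 2 * i) :=
      H68.TautRelPos.valid_of 0 (2 * i) (by omega) (by omega) (by omega) (by omega)
    have hv31 : W4c3tautjacobian.Valid g (3, 1) :=
      H68.TautRelPos.valid_of 3 1 (by omega) (by omega) (by omega) (by omega)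
    rw [show (2 * (i : ℤ)) = (((0, 2 * i) : ℕ × ℕ).2 : ℤ) by push_cast; rfl,
      show (0 : ℤ) = (((0, 2 * i) : ℕ × ℕ).1 : ℤ) from rfl, H68.TautRel.xv_valid (0, 2 * i) hv]
    set G := (W4c3tautjacobian.F g)^[3 * i] (MvPolynomial.monomial (Finsupp.single (some ⟨(3, 1), hv31⟩) (2 * i)) (1 : ℚ)) with hG
    have hwt : Finsupp.weight (W4c3tautjacobian.wt g) (Finsupp.single (some ⟨(3, 1), hv31⟩) (2 * i)) = ((6 * i, 2 * i) : ℕ × ℕ) := by
      rw [Finsupp.weight_single]
      simp [W4c3tautjacobian.wt, Prod.ext_iff]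
      omega
    have hGI : G ∈ W4c3tautjacobian.relIdeal g := Ideal.subset_span ⟨_, 3 * i, by rw [hwt]; dsimp only; omega, rfl⟩
    have hGh := H68.TautRel.hom_iterate (H68.TautRel.hom_of_wt
      (MvPolynomial.isWeightedHomogeneous_monomial (W4c3tautjacobian.wt g) _ (1 : ℚ) hwt)) (3 * i)
    set e₀ : W4c3tautjacobian.Var g →₀ ℕ := Finsupp.single (some ⟨(0, 2 * i), hv⟩) 1 with he₀
    have hmain : MvPolynomial.coeff e₀ G ≠ 0 := H68.TautRelPos.coeff_ne_zero i hi hig
    have hother : ∀ e ∈ G.support, e ≠ e₀ → MvPolynomial.monomial e (MvPolynomial.coeff e G) ∈ S := by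
      intro e he hne
      have hw := hGh (MvPolynomial.mem_support_iff.mp he)
      rw [H68.TautRel.weight_wz, Prod.mk.injEq] at hw
      rw [MvPolynomial.monomial_eq]
      refine S.mul_mem (S.algebraMap_mem _) (prod_mem fun v hv' => ?_)
      refine pow_mem ?_ _
      have hpos : e v ≠ 0 := Finsupp.mem_support_iff.mp hv'
      have hsplit : e = Finsupp.single v 1 + (e - Finsupp.single v 1) :=
        (add_tsub_cancel_of_le (by simpa using Nat.one_le_iff_ne_zero.mpr hpos)).symm
      have hwv : Finsupp.weight (W4c3tautjacobian.wt g) e =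
          W4c3tautjacobian.wt g v + Finsupp.weight (W4c3tautjacobian.wt g) (e - Finsupp.single v 1) := by
        conv_lhs => rw [hsplit]
        rw [map_add, Finsupp.weight_single, one_smul]
      have h1 : (W4c3tautjacobian.wt g v).1 = 0 := by
        have := congrArg Prod.fst hwv; rw [Prod.fst_add] at this; omega
      have h2 : (W4c3tautjacobian.wt g v).2 ≤ 2 * i := by
        have := congrArg Prod.snd hwv; rw [Prod.snd_add] at this; omega
      rcases v with _ | ⟨⟨a, b⟩, hab⟩
      · exact hsub _ (Algebra.subset_adjoin (Or.inl rfl))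
      simp only [W4c3tautjacobian.wt] at h1 h2
      subst h1
      obtain ⟨c, hc⟩ := hab.2.2.1
      dsimp only at hc
      obtain rfl : b = 2 * c := by omega
      have hci : c < i := by
        by_contra hci
        obtain rfl : c = i := by omega
        apply hne
        have h0 : Finsupp.weight (W4c3tautjacobian.wt g) (e - Finsupp.single (some ⟨(0, 2 * c), hab⟩) 1) = (0 : ℕ × ℕ) := by
          rw [hwv, Prod.fst_add, Prod.snd_add] at hw
          simp only [W4c3tautjacobian.wt] at hw
          refine Prod.ext ?_ ?_ <;> simp only [Prod.fst_zero, Prod.snd_zero] <;> omega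
        have hzero : e - Finsupp.single (some ⟨(0, 2 * c), hab⟩) 1 = 0 := by
          refine Finsupp.ext fun w => ?_
          by_contra hw0
          rw [Finsupp.zero_apply] at hw0
          generalize hf : e - Finsupp.single (some ⟨(0, 2 * c), hab⟩) 1 = f at h0 hw0
          have hfs : f = Finsupp.single w 1 + (f - Finsupp.single w 1) :=
            (add_tsub_cancel_of_le (by simpa using Nat.one_le_iff_ne_zero.mpr hw0)).symm
          rw [hfs, map_add, Finsupp.weight_single, one_smul, Prod.ext_iff, Prod.fst_add, Prod.snd_add] at h0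
          rcases w with _ | ⟨⟨a, b⟩, hw'⟩
          · simp [W4c3tautjacobian.wt] at h0
          · simp only [W4c3tautjacobian.wt, Prod.fst_zero, Prod.snd_zero, Nat.add_eq_zero_iff] at h0
            exact hw'.2.2.2 (Prod.ext h0.1.1 h0.2.1)
        rw [hsplit, hzero, add_zero]
      have := ih c hci
      rwa [show (2 * (c : ℤ)) = (((0, 2 * c) : ℕ × ℕ).2 : ℤ) by push_cast; rfl,
        show (0 : ℤ) = (((0, 2 * c) : ℕ × ℕ).1 : ℤ) from rfl, H68.TautRel.xv_valid (0, 2 * c) hab] at this
    have hsum : G = MvPolynomial.monomial e₀ (MvPolynomial.coeff e₀ G) +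
        ∑ e ∈ G.support.erase e₀, MvPolynomial.monomial e (MvPolynomial.coeff e G) := by
      exact G.as_sum.trans (Finset.add_sum_erase _ (fun e => MvPolynomial.monomial e (MvPolynomial.coeff e G)) (MvPolynomial.mem_support_iff.mpr hmain)).symm
    have hmono : MvPolynomial.monomial e₀ (MvPolynomial.coeff e₀ G) ∈ S := by
      rw [eq_sub_of_add_eq hsum.symm]
      exact S.sub_mem (hI G hGI) (sum_mem fun e he => hother e (Finset.mem_of_mem_erase he) (Finset.ne_of_mem_erase he))
    have hsc := S.smul_mem hmono (MvPolynomial.coeff e₀ G)⁻¹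
    rwa [MvPolynomial.smul_monomial, smul_eq_mul, inv_mul_cancel₀ hmain] at hsc

end Groth.Agent.S16399
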