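import Groth.Statements.S16400
import Mathlib.LinearAlgebra.Matrix.Rank
import Mathlib.LinearAlgebra.Dimension.Constructions
import Mathlib.LinearAlgebra.FiniteDimensional.Basic

set_option autoImplicit false
universe u v
open CAlgX

namespace Groth.Agent.S16400

/-- Let K be a field, N a finite index set and A a square matrix over K indexed by N whose linear map on
column vectors has kernel equal to its range (so A composed with A is zero and the three-term
sequence it defines is exact in the middle). Then there are subsets N₁₂, N₂₁, N₃₁ of N such that the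
block of A with rows in N₃₁ and columns in N₂₁, and the block of A with rows outside N₂₁ and columns
in N₁₂, both act bijectively on column vectors. (In the original setting K is the prime field and
middle exactness is supplied by the Cartier isomorphism; here exactness is the hypothesis and K is
any field.) -/
theorem result
    {K : Type u} [Field K] {N : Type v} [Fintype N] [DecidableEq N]
    (A : Matrix N N K)
    (hA : LinearMap.ker A.mulVecLin = LinearMap.range A.mulVecLin) :
    ∃ N₁₂ N₂₁ N₃₁ : Finset N,
      Function.Bijective (A.submatrix (Subtype.val : ↥N₃₁ → N) (Subtype.val : ↥N₂₁ → N)).mulVecLin ∧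
      Function.Bijective
        (A.submatrix (Subtype.val : {x : N // x ∉ N₂₁} → N) (Subtype.val : ↥N₁₂ → N)).mulVecLin := by
  classical
  -- a square invertible block inside an injective family of columns
  have rows : ∀ C : Finset N, Function.Injective (A.submatrix id (Subtype.val : ↥C → N)).mulVecLin →
      ∃ R : Finset N, Function.Bijective (A.submatrix (Subtype.val : ↥R → N) (Subtype.val : ↥C → N)).mulVecLin := by
    intro C hC
    set M := A.submatrix id (Subtype.val : ↥C → N)
    have hspan : Submodule.span K (Set.range M.row) = ⊤ := by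
      have h1 : M.rank = Fintype.card C := by
        rw [Matrix.rank, LinearMap.finrank_range_of_inj hC, Module.finrank_fintype_fun_eq_card]
      apply Submodule.eq_top_of_finrank_eq
      rw [← Matrix.rank_eq_finrank_span_row, h1, Module.finrank_fintype_fun_eq_card]
    obtain ⟨b, hbsub, hbspan, hblin⟩ := exists_linearIndependent K (Set.range M.row)
    choose sec hsec using fun v : b => hbsub v.2
    haveI : Finite b := Set.Finite.to_subtype ((Set.finite_range _).subset hbsub)
    haveI : Fintype b := Fintype.ofFinite b
    refine ⟨Finset.univ.image sec, ?_⟩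
    set R := Finset.univ.image sec
    have hinj : Function.Injective (A.submatrix (Subtype.val : ↥R → N) (Subtype.val : ↥C → N)).mulVecLin := by
      rw [injective_iff_map_eq_zero]
      intro x hx
      have hall : ∀ v ∈ Submodule.span K b, dotProduct v x = 0 := by
        intro v hv
        induction hv using Submodule.span_induction with
        | mem v hv =>
          have := congrFun hx ⟨sec ⟨v, hv⟩, Finset.mem_image_of_mem _ (Finset.mem_univ _)⟩
          rw [← show M.row (sec ⟨v, hv⟩) = v from hsec ⟨v, hv⟩]
          exact this
        | zero => simp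
        | add u w _ _ hu hw => rw [add_dotProduct, hu, hw, add_zero]
        | smul c u _ hu => rw [smul_dotProduct, hu, smul_zero]
      funext i
      simpa using hall (Pi.single i 1) (by rw [hbspan, hspan]; trivial)
    refine ⟨hinj, ?_⟩
    have hcardR : Fintype.card R = Fintype.card C := by
      have h2 := finrank_span_set_eq_card hblin
      rw [hbspan, hspan, finrank_top, Module.finrank_fintype_fun_eq_card, Set.toFinset_card] at h2
      rw [h2, Fintype.card_coe, Finset.card_image_of_injective _ (fun u v h => Subtype.ext (by rw [← hsec u, ← hsec v, h])), Finset.card_univ]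
    exact ((LinearMap.injective_iff_surjective_of_finrank_eq_finrank (by rw [Module.finrank_fintype_fun_eq_card, Module.finrank_fintype_fun_eq_card, hcardR])).1 hinj)
  -- columns forming a basis of the range
  obtain ⟨b, hbsub, hbspan, hblin⟩ := exists_linearIndependent K (Set.range A.col)
  choose sec hsec using fun v : b => hbsub v.2
  haveI : Finite b := Set.Finite.to_subtype ((Set.finite_range _).subset hbsub)
  haveI : Fintype b := Fintype.ofFinite b
  let C₁ : Finset N := Finset.univ.image sec
  have hseccol : ∀ j : C₁, A.col j.1 ∈ b := by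
    rintro ⟨j, hj⟩
    obtain ⟨v, -, rfl⟩ := Finset.mem_image.1 hj
    show A.col (sec v) ∈ b
    rw [hsec v]; exact v.2
  have hC₁ : Function.Injective (A.submatrix id (Subtype.val : ↥C₁ → N)).mulVecLin := by
    rw [Matrix.coe_mulVecLin, Matrix.mulVec_injective_iff]
    refine hblin.comp (fun j : C₁ => (⟨A.col j.1, hseccol j⟩ : b)) fun i j h => ?_
    obtain ⟨u, -, hu⟩ := Finset.mem_image.1 i.2
    obtain ⟨w, -, hw⟩ := Finset.mem_image.1 j.2
    have h' : A.col i.1 = A.col j.1 := congrArg Subtype.val h
    rw [← hu, ← hw, hsec, hsec] at h'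
    exact Subtype.ext (by rw [← hu, ← hw, Subtype.ext h'])
  obtain ⟨R₀, hR₀⟩ := rows C₁ hC₁
  have hC₂ : Function.Injective (A.submatrix id (Subtype.val : ↥R₀ᶜ → N)).mulVecLin := by
    rw [injective_iff_map_eq_zero]
    intro x hx
    let y : N → K := fun i => if h : i ∈ R₀ᶜ then x ⟨i, h⟩ else 0
    have hy : A.mulVecLin y = 0 := by
      funext i
      have := congrFun hx i
      simp only [Matrix.mulVecLin_apply, Matrix.mulVec, dotProduct, Matrix.submatrix_apply, id_eq, Pi.zero_apply] at this ⊢
      rw [← this, ← Finset.sum_subset (Finset.subset_univ R₀ᶜ) (fun j _ hj => by simp only [y, dif_neg hj, mul_zero]), ← Finset.sum_coe_sort R₀ᶜ]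
      exact Finset.sum_congr rfl fun j _ => by simp only [y, dif_pos j.2]
    have hy' : y ∈ LinearMap.range A.mulVecLin := hA ▸ hy
    rw [Matrix.range_mulVecLin, ← hbspan] at hy'
    have hy'' : y ∈ Submodule.span K (Set.range fun j : C₁ => A.col j.1) := by
      refine Submodule.span_mono (fun v hv => Set.mem_range.2 ⟨(⟨sec ⟨v, hv⟩, Finset.mem_image_of_mem _ (Finset.mem_univ _)⟩ : ↥C₁), hsec ⟨v, hv⟩⟩) hy'
    obtain ⟨w, hw⟩ := (Submodule.mem_span_range_iff_exists_fun K).1 hy''
    have hw0 : (A.submatrix (Subtype.val : ↥R₀ → N) (Subtype.val : ↥C₁ → N)).mulVecLin w = 0 := by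
      funext i
      have := congrFun hw i.1
      simp only [Finset.sum_apply, Pi.smul_apply, smul_eq_mul, Matrix.col_apply] at this
      simp only [Matrix.mulVecLin_apply, Matrix.mulVec, dotProduct, Matrix.submatrix_apply, Pi.zero_apply]
      rw [show (0 : K) = y i.1 by simp [y, i.2], ← this]
      exact Finset.sum_congr rfl fun j _ => mul_comm _ _
    have hw00 : w = 0 := hR₀.1 (hw0.trans (map_zero _).symm)
    funext i
    have := congrFun hw i.1
    rw [hw00] at this
    simp only [y] at this
    rw [dif_pos i.2] at this
    simpa using this.symm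
  obtain ⟨R₁, hR₁⟩ := rows R₀ᶜ hC₂
  refine ⟨C₁, R₀ᶜ, R₁, hR₁, ?_⟩
  let e : {x : N // x ∉ R₀ᶜ} ≃ R₀ := Equiv.subtypeEquivRight (fun x => by simp)
  have h2 : (A.submatrix (Subtype.val : {x : N // x ∉ R₀ᶜ} → N) (Subtype.val : ↥C₁ → N)).mulVecLin =
      (LinearEquiv.funCongrLeft K K e).toLinearMap.comp (A.submatrix (Subtype.val : ↥R₀ → N) (Subtype.val : ↥C₁ → N)).mulVecLin := by
    refine LinearMap.ext fun x => funext fun i => ?_
    rfl
  rw [h2]
  exact (LinearEquiv.funCongrLeft K K e).bijective.comp hR₀

end Groth.Agent.S16400
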