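import Groth.Statements.S16401
import Mathlib.LinearAlgebra.Matrix.Adjugate

set_option autoImplicit false
universe u v
open CAlgX

namespace Groth.Agent.S16401

theorem fwd {R : Type u} [CommRing R] {ι : Type v} [AddCommGroup ι] (E : ι → AddSubgroup R)
    (hmul : ∀ a b : ι, ∀ x ∈ E a, ∀ y ∈ E b, x * y ∈ E (a + b)) {r : ℕ} (wβ wγ : Fin r → ι)
    (ϑ : Matrix (Fin r) (Fin r) R) (hϑ : ∀ i j, ϑ i j ∈ E (wγ i - wβ j)) (u : Fin r → R)
    (hu : ∀ j, u j ∈ E (wβ j)) (i : Fin r) : ϑ.mulVec u i ∈ E (wγ i) := by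
  change ∑ j, ϑ i j * u j ∈ E (wγ i)
  refine AddSubgroup.sum_mem (E (wγ i)) fun j _ => ?_
  have := hmul _ _ _ (hϑ i j) _ (hu j)
  rwa [sub_add_cancel] at this

theorem det_mem {R : Type u} [CommRing R] {ι : Type v} [AddCommGroup ι] (E : ι → AddSubgroup R)
    (h0 : E 0 = ⊤) (hmul : ∀ a b : ι, ∀ x ∈ E a, ∀ y ∈ E b, x * y ∈ E (a + b)) {r : ℕ}
    (wβ wγ : Fin r → ι) (B : Matrix (Fin r) (Fin r) R) (hB : ∀ i j, B i j ∈ E (wγ i - wβ j)) :
    B.det ∈ E (∑ i, wγ i - ∑ j, wβ j) := by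
  classical
  rw [Matrix.det_apply]
  refine AddSubgroup.sum_mem (E (∑ i, wγ i - ∑ j, wβ j)) fun σ _ => ?_
  rw [Units.smul_def]
  refine AddSubgroup.zsmul_mem _ ?_ _
  have key : ∀ s : Finset (Fin r), ∏ k ∈ s, B (σ k) k ∈ E (∑ k ∈ s, (wγ (σ k) - wβ k)) := by
    intro s
    induction s using Finset.induction with
    | empty => simp [h0]
    | @insert a s ha ih =>
      rw [Finset.prod_insert ha, Finset.sum_insert ha]
      exact hmul _ _ _ (hB _ _) _ ih
  have := key Finset.univ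
  rwa [Finset.sum_sub_distrib, Equiv.sum_comp σ wγ] at this


/-- Let R be a commutative ring and (E_a), a ∈ ι, a family of additive subgroups of R indexed by an
additive commutative group ι, with E_0 = R and E_a · E_b ⊆ E_{a+b}. Let β, γ : Fin r → ι be weight
vectors with Σ_j β_j = Σ_i γ_i, and let ϑ be an r × r matrix over R with ϑ_{ij} ∈ E_{γ_i − β_j} for
all i, j and with unit determinant. Then a column vector u satisfies u_j ∈ E_{β_j} for every j if
and only if (ϑ u)_i ∈ E_{γ_i} for every i; since ϑ is invertible this says that ϑ maps the box Π_j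
E_{β_j} bijectively onto the box Π_i E_{γ_i}. -/
theorem result
    {R : Type u} [CommRing R] {ι : Type v} [AddCommGroup ι]
    (E : ι → AddSubgroup R) (h0 : E 0 = ⊤)
    (hmul : ∀ a b : ι, ∀ x ∈ E a, ∀ y ∈ E b, x * y ∈ E (a + b))
    {r : ℕ} (wβ wγ : Fin r → ι) (hsum : ∑ j, wβ j = ∑ i, wγ i)
    (ϑ : Matrix (Fin r) (Fin r) R) (hϑ : ∀ i j, ϑ i j ∈ E (wγ i - wβ j))
    (hdet : IsUnit ϑ.det) (u : Fin r → R) :
    (∀ j, u j ∈ E (wβ j)) ↔ ∀ i, ϑ.mulVec u i ∈ E (wγ i) := by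
  classical
  refine ⟨fun hu i => fwd E hmul wβ wγ ϑ hϑ u hu i, fun hv => ?_⟩
  obtain ⟨d, hd⟩ := hdet
  have hu : u = (↑d⁻¹ : R) • ϑ.adjugate.mulVec (ϑ.mulVec u) := by
    rw [Matrix.mulVec_mulVec, Matrix.adjugate_mul, Matrix.smul_mulVec, Matrix.one_mulVec,
      smul_smul, ← hd, d.inv_mul, one_smul]
  have hadj : ∀ j i, ϑ.adjugate j i ∈ E (wβ j - wγ i) := by
    intro j i
    rw [Matrix.adjugate_apply]
    have := det_mem E h0 hmul wβ (Function.update wγ i (wβ j)) (ϑ.updateRow i (Pi.single j 1))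
      (fun a b => by
        by_cases ha : a = i
        · subst ha
          rw [Matrix.updateRow_self, Function.update_self]
          by_cases hb : b = j
          · subst hb; simp [h0]
          · simp [hb]
        · rw [Matrix.updateRow_ne ha, Function.update_of_ne ha]
          exact hϑ a b)
    rwa [Finset.sum_update_of_mem (Finset.mem_univ i), hsum,
      ← Finset.add_sum_erase _ _ (Finset.mem_univ i), Finset.sdiff_singleton_eq_erase,
      add_sub_add_right_eq_sub] at this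
  intro j
  rw [hu, Pi.smul_apply, smul_eq_mul]
  have h2 := hmul 0 (wβ j) (↑d⁻¹ : R) (h0 ▸ AddSubgroup.mem_top _) _
    (fwd E hmul wγ wβ ϑ.adjugate hadj _ hv j)
  rwa [zero_add] at h2

end Groth.Agent.S16401
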