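import Groth.Statements.S16402
import Groth.Agent.Lib.SymBasis.Stair

set_option autoImplicit false
open SymBasis

namespace Groth.Agent.S16402

/-- For n ≥ 2, the polynomial ring ℤ[t_1, …, t_n] is a free module of rank n! over ℤ[c_1, …, c_n] acting
through c_i ↦ e_i(t), the i-th elementary symmetric polynomial in the t_j, and the monomials
t_1^{d_1} ⋯ t_n^{d_n} with 0 ≤ d_i ≤ n − i form a basis: every polynomial is in exactly one way a
sum Σ_d f(p_d) · t^d with p_d ∈ ℤ[c_1, …, c_n], f the substitution c_i ↦ e_i(t). The published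
statement is phrased for the Chow ring of the classifying stack of the diagonal torus as a module
over that of the classifying stack of GL_n, identified with ℤ[t_1, …, t_n] ⊇ ℤ[c_1, …, c_n] in this
way. -/
theorem result (n : ℕ) (hn : 2 ≤ n) :
    Function.Bijective (fun p : (Π i : Fin n, Fin (n - (i : ℕ))) → MvPolynomial (Fin n) ℤ =>
      ∑ d : (Π i : Fin n, Fin (n - (i : ℕ))),
        (MvPolynomial.aeval (fun i : Fin n => MvPolynomial.esymm (Fin n) ℤ ((i : ℕ) + 1))) (p d) *
          ∏ i : Fin n, MvPolynomial.X i ^ ((d i : ℕ))) := by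
  classical
  obtain ⟨B, hB⟩ := Groth.Agent.Lib.SymBasis.stair_basis_esymm (R := MvPolynomial (Fin n) ℤ) n MvPolynomial.X
  let I : Ideal (MvPolynomial (Fin n) (MvPolynomial (Fin n) ℤ)) := Ideal.span (Set.range fun i : Fin n =>
    MvPolynomial.esymm (Fin n) (MvPolynomial (Fin n) ℤ) ((i : ℕ) + 1) - MvPolynomial.C (MvPolynomial.X i))
  let f : (MvPolynomial (Fin n) ℤ) →ₐ[ℤ] MvPolynomial (Fin n) ℤ :=
    MvPolynomial.aeval fun i : Fin n => MvPolynomial.esymm (Fin n) ℤ ((i : ℕ) + 1)
  let π : MvPolynomial (Fin n) (MvPolynomial (Fin n) ℤ) →+* MvPolynomial (Fin n) ℤ :=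
    MvPolynomial.eval₂Hom f.toRingHom MvPolynomial.X
  have hes : ∀ m, π (MvPolynomial.esymm (Fin n) (MvPolynomial (Fin n) ℤ) m) = MvPolynomial.esymm (Fin n) ℤ m := fun m => by
    simp [π, MvPolynomial.esymm]
  have hπ : I ≤ RingHom.ker π := by
    rw [Ideal.span_le, Set.range_subset_iff]
    intro i
    rw [SetLike.mem_coe, RingHom.mem_ker, map_sub, hes, sub_eq_zero]
    simp [π, f, MvPolynomial.aeval_X]
  let Pr := Ideal.Quotient.lift I π fun x hx => hπ hx
  let q : MvPolynomial (Fin n) (MvPolynomial (Fin n) ℤ) →+* (MvPolynomial (Fin n) (MvPolynomial (Fin n) ℤ) ⧸ I) := Ideal.Quotient.mk I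
  let ι : MvPolynomial (Fin n) ℤ →+* (MvPolynomial (Fin n) (MvPolynomial (Fin n) ℤ) ⧸ I) :=
    MvPolynomial.eval₂Hom ((q.comp MvPolynomial.C).comp MvPolynomial.C) fun i => q (MvPolynomial.X i)
  have hι : ∀ m, ι (MvPolynomial.esymm (Fin n) ℤ m) = q (MvPolynomial.esymm (Fin n) (MvPolynomial (Fin n) ℤ) m) := fun m => by
    simp [ι, MvPolynomial.esymm, map_sum, map_prod]
  have hιπ : ι.comp π = q := by
    refine MvPolynomial.ringHom_ext (fun t => ?_) fun i => ?_
    · have : (ι.comp f.toRingHom) = q.comp MvPolynomial.C := by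
        refine MvPolynomial.ringHom_ext (fun x => ?_) fun i => ?_
        · simp [f, ι, MvPolynomial.aeval_C, MvPolynomial.algebraMap_eq]
        · show ι (f (MvPolynomial.X i)) = q (MvPolynomial.C (MvPolynomial.X i))
          rw [show f (MvPolynomial.X i) = MvPolynomial.esymm (Fin n) ℤ ((i : ℕ) + 1) from
            MvPolynomial.aeval_X _ i, hι]
          exact Ideal.Quotient.eq.mpr (Ideal.subset_span ⟨i, rfl⟩)
      simpa [π] using RingHom.congr_fun this t
    · simp [π, ι]
  have hbij : Function.Bijective Pr := by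
    refine ⟨fun x y h => ?_, fun y => ?_⟩
    · obtain ⟨x, rfl⟩ := Ideal.Quotient.mk_surjective x
      obtain ⟨y, rfl⟩ := Ideal.Quotient.mk_surjective y
      have h' : π x = π y := h
      exact (RingHom.congr_fun hιπ x).symm.trans ((congrArg ι h').trans (RingHom.congr_fun hιπ y))
    · have h3 : π.comp (MvPolynomial.map MvPolynomial.C) = RingHom.id (MvPolynomial (Fin n) ℤ) :=
        MvPolynomial.ringHom_ext (fun x => by simp [π, f, MvPolynomial.aeval_C, MvPolynomial.algebraMap_eq]) fun i => by simp [π]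
      exact ⟨q (MvPolynomial.map MvPolynomial.C y), RingHom.congr_fun h3 y⟩
  have hPB : ∀ d, Pr (B d) = ∏ i, MvPolynomial.X i ^ (d i : ℕ) := by
    intro d
    rw [hB]
    show π (∏ i, MvPolynomial.X i ^ (d i : ℕ)) = _
    simp [π]
  have heq : (fun p : (Π i : Fin n, Fin (n - (i : ℕ))) → MvPolynomial (Fin n) ℤ => ∑ j, f (p j) * ∏ i, MvPolynomial.X i ^ (j i : ℕ)) =
      Pr ∘ B.equivFun.symm := by
    funext p
    simp only [Function.comp_apply, Module.Basis.equivFun_symm_apply, map_sum]
    refine Finset.sum_congr rfl fun j _ => ?_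
    rw [← hPB j]
    conv_rhs => rw [show p j • B j = q (MvPolynomial.C (p j)) * B j from (Algebra.smul_def (p j) (B j)).trans rfl, map_mul]
    congr 1
    show f (p j) = π (MvPolynomial.C (p j))
    simp [π]
  show Function.Bijective (fun p : (Π i : Fin n, Fin (n - (i : ℕ))) → MvPolynomial (Fin n) ℤ => ∑ j, f (p j) * ∏ i, MvPolynomial.X i ^ (j i : ℕ))
  rw [heq]
  exact hbij.comp B.equivFun.symm.bijective

end Groth.Agent.S16402
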