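import Groth.Statements.S16405
import Mathlib

set_option autoImplicit false
universe u v
open InvQ

namespace Groth.Agent.S16405

/-- In weight form. Let b : L → ℤ^r be an injective homomorphism of abelian groups (the case in view: L
the character group of a maximal torus T of a semisimple group over ℂ and b the map dual to the
surjection of the rank-r split torus T' onto T that sends the i-th coordinate cocharacter to the
primitive generator of the i-th ray of the Weyl chamber; only the injectivity of b is used, and ℂ is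
replaced by any commutative ring k). Grade the monoid algebra k[L × ℕ^r] (the coordinate ring of T ×
𝔸^r) by ℤ^r, the monomial (w, n) having weight b(w) + n (the weights of the T'-action u·(t, v) =
(b^∨(u) t, u v)), and grade k[ℕ^r] by ℤ^r/b(L), the monomial n having weight the class of n (the
weights of the action on 𝔸^r of the diagonalizable kernel Z of T' → T, a finite group in the case in
view). For a diagonalizable group acting on an affine scheme the ring of invariants is the
weight-zero part, so the two weight-zero parts are the coordinate rings of the quotients (T ×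
𝔸^r)//T' and 𝔸^r//Z. The statement: the algebra map k[L × ℕ^r] → k[ℕ^r] induced by the projection L
× ℕ^r → ℕ^r (restriction to the slice 1 × 𝔸^r) maps the weight-zero part of k[L × ℕ^r] bijectively
onto the weight-zero part of k[ℕ^r]; hence it induces an isomorphism of k-algebras between them. -/
theorem result
    (k : Type u) [CommRing k] (r : ℕ) (L : Type v) [AddCommGroup L]
    (b : L →+ (Fin r → ℤ)) (hb : Function.Injective b) :
    Set.BijOn
      (AddMonoidAlgebra.mapDomainAlgHom k k (AddMonoidHom.snd L (Fin r → ℕ)))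
      (AddMonoidAlgebra.gradeBy k
        (b.comp (AddMonoidHom.fst L (Fin r → ℕ)) +
          (AddMonoidHom.compLeft (Nat.castAddMonoidHom ℤ) (Fin r)).comp (AddMonoidHom.snd L (Fin r → ℕ))) 0 :
        Set (AddMonoidAlgebra k (L × (Fin r → ℕ))))
      (AddMonoidAlgebra.gradeBy k
        ((QuotientAddGroup.mk' b.range).comp (AddMonoidHom.compLeft (Nat.castAddMonoidHom ℤ) (Fin r))) 0 :
        Set (AddMonoidAlgebra k (Fin r → ℕ))) := by
  classical
  set wt := b.comp (AddMonoidHom.fst L (Fin r → ℕ)) +
          (AddMonoidHom.compLeft (Nat.castAddMonoidHom ℤ) (Fin r)).comp (AddMonoidHom.snd L (Fin r → ℕ)) with hwt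
  set cl := (QuotientAddGroup.mk' b.range).comp (AddMonoidHom.compLeft (Nat.castAddMonoidHom ℤ) (Fin r)) with hcl
  set ca : (Fin r → ℕ) →+ (Fin r → ℤ) := AddMonoidHom.compLeft (Nat.castAddMonoidHom ℤ) (Fin r) with hca
  have w0 : ∀ x : L × (Fin r → ℕ), wt x = 0 → b x.1 = - ca x.2 := fun x hx => by
    rw [eq_neg_iff_add_eq_zero]; exact hx
  have inj : Set.InjOn (Prod.snd : L × (Fin r → ℕ) → (Fin r → ℕ)) {x | wt x = 0} := fun x hx y hy he => by
    refine Prod.ext (hb ?_) he
    rw [w0 x hx, w0 y hy, he]
  refine ⟨fun f hf => ?_, fun f hf g hg he => ?_, fun g hg => ?_⟩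
  · rw [SetLike.mem_coe, AddMonoidAlgebra.mem_gradeBy_iff] at hf ⊢
    intro x hx
    obtain ⟨y, hy, rfl⟩ := Finset.mem_image.1 (Finsupp.mapDomain_support hx)
    show (QuotientAddGroup.mk' b.range) (ca y.2) = 0
    rw [QuotientAddGroup.mk'_apply, QuotientAddGroup.eq_zero_iff]
    exact ⟨-y.1, by rw [map_neg, w0 y (hf hy), neg_neg]⟩
  · rw [SetLike.mem_coe, AddMonoidAlgebra.mem_gradeBy_iff] at hf hg
    have := Finsupp.mapDomain_injOn _ inj (x₁ := (AddMonoidAlgebra.coeffEquiv f)) (x₂ := (AddMonoidAlgebra.coeffEquiv g)) hf hg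
    refine AddMonoidAlgebra.coeffEquiv.injective (this ?_)
    exact congrArg AddMonoidAlgebra.coeffEquiv he
  · rw [SetLike.mem_coe, AddMonoidAlgebra.mem_gradeBy_iff] at hg
    rw [← AddMonoidAlgebra.sum_single g]
    refine Finset.sum_induction _ (fun z => z ∈ (AddMonoidAlgebra.mapDomainAlgHom k k (AddMonoidHom.snd L (Fin r → ℕ))) '' _) ?_ ?_ ?_
    · rintro _ _ ⟨u, hu, rfl⟩ ⟨v, hv, rfl⟩; exact ⟨u + v, add_mem hu hv, map_add _ u v⟩
    · exact ⟨0, zero_mem _, map_zero _⟩
    · intro x hx
      have h0 : cl x = 0 := hg hx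
      obtain ⟨w, hw⟩ := (QuotientAddGroup.eq_zero_iff (ca x)).1 h0
      refine ⟨AddMonoidAlgebra.single (-w, x) (g.coeff x), ?_, ?_⟩
      · have hw0 : wt (-w, x) = 0 := by show b (-w) + ca x = 0; rw [map_neg, hw, neg_add_cancel]
        rw [SetLike.mem_coe, ← hw0]
        exact AddMonoidAlgebra.single_mem_gradeBy _ _ _
      · simp [AddMonoidAlgebra.mapDomainAlgHom]

end Groth.Agent.S16405
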