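import Groth.Statements.S16414
import Mathlib.Algebra.Order.Ring.Rat
import Mathlib.Tactic.Linarith

set_option autoImplicit false
open Dieud

namespace Groth.Agent.S16414

/-- Let μ be a rational number with 0 < μ ≤ 1 and i an integer, and put f(i,j) = max(−i−j, −j, 0) for
integers j. Then min over all integers j of f(i,j) + jμ exists and equals max(−iμ, 0). -/
theorem result (μ : ℚ) (hμ0 : 0 < μ) (hμ1 : μ ≤ 1) (i : ℤ) :
    IsLeast (Set.range fun j : ℤ => ((max (max (-i - j) (-j)) 0 : ℤ) : ℚ) + (j : ℚ) * μ)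
      (max (-(i : ℚ) * μ) 0) := by
  refine ⟨⟨max (-i) 0, ?_⟩, ?_⟩
  · have h : max (max (-i - max (-i) 0) (-max (-i) 0)) 0 = (0 : ℤ) := by omega
    simp only [h]
    push_cast
    rw [zero_add, max_mul_of_nonneg _ _ hμ0.le, zero_mul]
  · rintro _ ⟨j, rfl⟩
    simp only
    set f : ℤ := max (max (-i - j) (-j)) 0
    have hf0 : (0 : ℚ) ≤ f := by exact_mod_cast (by omega : (0 : ℤ) ≤ f)
    have hfK : ((max (-i) 0 : ℤ) : ℚ) ≤ f + j := by exact_mod_cast (by omega : max (-i) 0 ≤ f + j)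
    push_cast at hfK
    rw [show max (-(i : ℚ) * μ) 0 = max (-(i : ℚ)) 0 * μ by rw [max_mul_of_nonneg _ _ hμ0.le, zero_mul]]
    nlinarith [mul_le_mul_of_nonneg_right hfK hμ0.le, mul_nonneg hf0 (sub_nonneg.mpr hμ1)]

end Groth.Agent.S16414
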