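import Groth.Statements.S16415
import Mathlib.Algebra.Order.Ring.Rat
import Mathlib.Tactic.Linarith
import Mathlib.Algebra.Order.Floor.Ring

set_option autoImplicit false
open Dieud

namespace Groth.Agent.S16415

/-- Let μ be a rational number with 0 < μ ≤ 1, N a natural number and i an integer. The minimum of m +
jμ over all pairs of integers (m, j) with m ≥ max(−i−j, −j, 0) and 2m + i + 2j ≥ N exists and equals
μ · max(⌈(N−i)/2⌉, −i, 0). (The published statement prints the value as max(⌈(N−i)/2⌉, −iμ, 0),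
without the factor μ on the first term; the printed argument computes μ · max(⌈(N−i)/2⌉, −i, 0),
attained at m = 0, and for N = 2, i = 0, μ = 1/2 the pair (m, j) = (0, 1) gives 1/2 < 1, so the
value with the factor μ is stated here.) -/
theorem result (μ : ℚ) (hμ0 : 0 < μ) (hμ1 : μ ≤ 1)
    (N : ℕ) (i : ℤ) :
    IsLeast {x : ℚ | ∃ m j : ℤ, max (max (-i - j) (-j)) 0 ≤ m ∧ (N : ℤ) ≤ 2 * m + i + 2 * j ∧
        x = (m : ℚ) + (j : ℚ) * μ}
      (((max (max ⌈((N : ℚ) - i) / 2⌉ (-i)) 0 : ℤ) : ℚ) * μ) := by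
  set K : ℤ := max (max ⌈((N : ℚ) - i) / 2⌉ (-i)) 0 with hK
  have hc : ∀ z : ℤ, ⌈((N : ℚ) - i) / 2⌉ ≤ z ↔ (N : ℤ) - i ≤ 2 * z := by
    intro z
    rw [Int.ceil_le, div_le_iff₀ (by norm_num)]
    constructor
    · intro h; exact_mod_cast (by push_cast; linarith : (((N : ℤ) - i : ℤ) : ℚ) ≤ ((2 * z : ℤ) : ℚ)) 
    · intro h
      have : (((N : ℤ) - i : ℤ) : ℚ) ≤ ((2 * z : ℤ) : ℚ) := by exact_mod_cast h
      push_cast at this; linarith
  refine ⟨⟨0, K, by omega, ?_, by simp⟩, ?_⟩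
  · have := (hc K).mp (by omega); omega
  · rintro _ ⟨m, j, h1, h2, rfl⟩
    have hKle : K ≤ m + j := by
      have := (hc (m + j)).mpr (by omega)
      omega
    have hm : (0 : ℚ) ≤ m := by exact_mod_cast (by omega : (0 : ℤ) ≤ m)
    have hKq : (K : ℚ) ≤ m + j := by exact_mod_cast hKle
    nlinarith [mul_le_mul_of_nonneg_right hKq hμ0.le, mul_nonneg hm (sub_nonneg.mpr hμ1)]

end Groth.Agent.S16415
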