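import Groth.Statements.S16417
import Mathlib.RingTheory.WittVector.DiscreteValuationRing
import Mathlib.RingTheory.WittVector.Domain
import Mathlib.RingTheory.DiscreteValuationRing.Basic
import Mathlib.LinearAlgebra.FreeModule.PID
import Mathlib.LinearAlgebra.Dimension.StrongRankCondition
import Mathlib.RingTheory.Length
-- import your own Groth.Agent.* helpers here

set_option autoImplicit false
set_option linter.style.haveILetI false
universe u v w
open Dieud

namespace Groth.Agent.S16417

theorem mem_span_range_iff {R : Type*} [CommRing R] {M : Type*} [AddCommGroup M] [Module R M]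
    (V : M →+ M) (σ : R → R) (hV : ∀ a m, V (σ a • m) = a • V m) (x : M) :
    x ∈ Submodule.span R (Set.range V) ↔ ∃ m, V m = x := by
  refine ⟨fun hx => ?_, fun ⟨m, hm⟩ => hm ▸ Submodule.subset_span ⟨m, rfl⟩⟩
  induction hx using Submodule.span_induction with
  | mem x hx => exact hx
  | zero => exact ⟨0, map_zero V⟩
  | add x y _ _ hx hy =>
    obtain ⟨m, rfl⟩ := hx
    obtain ⟨n, rfl⟩ := hy
    exact ⟨m + n, map_add V m n⟩
  | smul a x _ hx =>
    obtain ⟨m, rfl⟩ := hx
    exact ⟨σ a • m, hV a m⟩

/-- For a prime p and a perfect field k of characteristic p, write W = W(k) for the ring of Witt vectors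
and σ for its Frobenius; let M and N be free W-modules of finite rank, each with additive maps F
(σ-semilinear) and V (with V(σ(a)m) = aV(m)) satisfying FV = VF = p, and H = Hom_W(M, N); write VM ⊆
M and VN ⊆ N for the images of V. (a) A W-linear h : M → N maps VM into VN if and only if h(V m) =
V(h'(m)) for all m for some W-linear h' : M → N (so the maps with this property form H ∩ V·H). (b)
The natural map from H to the W-linear maps VM → N/VN has image exactly the maps vanishing on pM =
V(FM): every such map is induced by some h ∈ H. (c) The W-length of H/(H ∩ V·H) is r₂ s₁, where r₂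
is the length of N/VN and s₁ = rank M − length(M/VM) is the length of VM/pM. (The published
statement is for the Cartier modules of two p-divisible formal groups over k, every slope of the
first below every slope of the second, and phrases (b), (c) as an isomorphism of H/(H ∩ VH) with
Hom_k(VM/pM, N/VN); only the structure listed is used, so connectedness and the slope condition are
not assumed.) -/
theorem result
    (p : ℕ) [Fact p.Prime] (k : Type u) [Field k] [CharP k p] [PerfectRing k p]
    (M : Type v) [AddCommGroup M] [Module (WittVector p k) M]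
    [Module.Free (WittVector p k) M] [Module.Finite (WittVector p k) M]
    (N : Type w) [AddCommGroup N] [Module (WittVector p k) N]
    [Module.Free (WittVector p k) N] [Module.Finite (WittVector p k) N]
    (FM VM : M →+ M) (FN VN : N →+ N)
    (hFM : ∀ (a : WittVector p k) (m : M), FM (a • m) = WittVector.frobenius a • FM m)
    (hVM : ∀ (a : WittVector p k) (m : M), VM (WittVector.frobenius a • m) = a • VM m)
    (hFVM : ∀ m : M, FM (VM m) = (p : WittVector p k) • m)
    (hVFM : ∀ m : M, VM (FM m) = (p : WittVector p k) • m)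
    (hFN : ∀ (a : WittVector p k) (n : N), FN (a • n) = WittVector.frobenius a • FN n)
    (hVN : ∀ (a : WittVector p k) (n : N), VN (WittVector.frobenius a • n) = a • VN n)
    (hFVN : ∀ n : N, FN (VN n) = (p : WittVector p k) • n)
    (hVFN : ∀ n : N, VN (FN n) = (p : WittVector p k) • n)
    (r₂ s₁ : ℕ)
    (hr₂ : Module.length (WittVector p k) (N ⧸ Submodule.span (WittVector p k) (Set.range VN)) = r₂)
    (hs₁ : (Module.finrank (WittVector p k) M : ℕ∞) =
      Module.length (WittVector p k) (M ⧸ Submodule.span (WittVector p k) (Set.range VM)) + s₁) :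
    (∀ h : M →ₗ[WittVector p k] N,
      (∀ m : M, h (VM m) ∈ Submodule.span (WittVector p k) (Set.range VN)) ↔
        ∃ h' : M →ₗ[WittVector p k] N, ∀ m : M, h (VM m) = VN (h' m)) ∧
    (∀ g : Submodule.span (WittVector p k) (Set.range VM) →ₗ[WittVector p k]
        N ⧸ Submodule.span (WittVector p k) (Set.range VN),
      (∀ m : M, g ⟨VM (FM m), Submodule.subset_span ⟨FM m, rfl⟩⟩ = 0) →
      ∃ h : M →ₗ[WittVector p k] N, ∀ x : Submodule.span (WittVector p k) (Set.range VM),
        (Submodule.span (WittVector p k) (Set.range VN)).mkQ (h x) = g x) ∧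
    Module.length (WittVector p k) ((M →ₗ[WittVector p k] N) ⧸
      ⨅ m : M, (Submodule.span (WittVector p k) (Set.range VN)).comap
        (LinearMap.applyₗ (VM m) : (M →ₗ[WittVector p k] N) →ₗ[WittVector p k] N)) = (r₂ * s₁ : ℕ) := by
  classical
  set W := WittVector p k
  set S := Submodule.span W (Set.range VM)
  set RN := Submodule.span W (Set.range VN)
  have hirr : Irreducible (p : W) := WittVector.irreducible p
  have hp0 : (p : W) ≠ 0 := hirr.ne_zero
  have hmax : IsLocalRing.maximalIdeal W = Ideal.span {(p : W)} := hirr.maximalIdeal_eq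
  have hdvd : ∀ a : W, ¬ IsUnit a → (p : W) ∣ a := fun a ha =>
    Ideal.mem_span_singleton.1 (hmax ▸ (IsLocalRing.mem_maximalIdeal a).2 ha)
  have hσ : Function.Bijective (WittVector.frobenius : W →+* W) := WittVector.frobenius_bijective p k
  have hVNinj : Function.Injective VN := fun x y hxy => by
    have h := congrArg FN hxy
    rw [hFVN, hFVN] at h
    exact smul_right_injective N hp0 h
  have hRN : ∀ n : N, (p : W) • n ∈ RN := fun n => hVFN n ▸ Submodule.subset_span ⟨FN n, rfl⟩
  have hS : ∀ m : M, (p : W) • m ∈ S := fun m => hVFM m ▸ Submodule.subset_span ⟨FM m, rfl⟩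
  -- a basis of `M` adapted to the image of `V`
  have hrank : Module.finrank W S = Module.finrank W M := by
    refine le_antisymm (Submodule.finrank_le S) ?_
    refine LinearMap.finrank_le_finrank_of_injective
      (f := LinearMap.codRestrict S (LinearMap.lsmul W M (p : W)) hS) (fun x y hxy => ?_)
    exact smul_right_injective M hp0 (congrArg Subtype.val hxy)
  obtain ⟨e, a, f, hf⟩ := Submodule.exists_smith_normal_form_of_rank_eq
    (Module.Free.chooseBasis W M) hrank
  have hfr : Module.finrank W M = Fintype.card (Module.Free.ChooseBasisIndex W M) :=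
    Module.finrank_eq_card_chooseBasisIndex W M
  have hrepr : ∀ (x : S) i, e.repr (x : M) i = a i * f.repr x i := by
    intro x i
    conv_lhs => rw [← f.sum_repr x]
    simp only [Submodule.coe_sum, Submodule.coe_smul, hf, smul_smul, map_sum, map_smul,
      Finsupp.finsetSum_apply, Finsupp.smul_apply, e.repr_self, Finsupp.single_apply, smul_eq_mul]
    simp [mul_comm]
  have hap : ∀ i, a i ∣ (p : W) := fun i => by
    refine Dvd.intro (f.repr ⟨_, hS (e i)⟩ i) ?_
    rw [← hrepr ⟨_, hS (e i)⟩ i]
    simp
  have hmemS : ∀ x : M, x ∈ S ↔ ∀ i, ¬ IsUnit (a i) → (p : W) ∣ e.repr x i := by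
    refine fun x => ⟨fun hx i hi => ?_, fun h => ?_⟩
    · rw [hrepr ⟨x, hx⟩ i]
      exact Dvd.dvd.mul_right (hdvd _ hi) _
    · rw [← e.sum_repr x]
      refine Submodule.sum_mem _ fun i _ => ?_
      obtain ⟨c, hc⟩ : a i ∣ e.repr x i := by
        by_cases hi : IsUnit (a i)
        · exact hi.dvd
        · exact (hap i).trans (h i hi)
      rw [hc, mul_comm, ← smul_smul, ← hf i]
      exact S.smul_mem _ (f i).2
  have hunit : ∀ i, IsUnit (a i) → e i ∈ S := fun i hi => by
    refine (hmemS _).2 fun j hj => ?_
    rw [e.repr_self, Finsupp.single_apply, if_neg (fun h => hj (by subst h; exact hi))]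
    exact dvd_zero _
  refine ⟨fun h => ⟨fun hh => ?_, fun ⟨h', hh'⟩ m => hh' m ▸ Submodule.subset_span ⟨h' m, rfl⟩⟩,
    fun g hg => ?_, ?_⟩
  · -- (a)
    choose u hu using fun m => (mem_span_range_iff VN _ hVN _).1 (hh m)
    refine ⟨{ toFun := u, map_add' := fun x y => hVNinj ?_, map_smul' := fun c x => hVNinj ?_ },
      fun m => (hu m).symm⟩
    · rw [map_add VN, hu, hu, hu, map_add, map_add]
    · obtain ⟨b, rfl⟩ := hσ.2 c
      rw [RingHom.id_apply, hVN, hu, hu, hVM, map_smul]
  · -- (b)
    choose lift hlift using fun x : N ⧸ RN => RN.mkQ_surjective x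
    let h : M →ₗ[W] N := e.constr W fun i => if hi : IsUnit (a i) then lift (g ⟨e i, hunit i hi⟩) else 0
    refine ⟨h, fun x => ?_⟩
    have key : RN.mkQ ∘ₗ h ∘ₗ S.subtype = g := by
      refine f.ext fun i => ?_
      simp only [LinearMap.comp_apply, Submodule.subtype_apply, hf, map_smul, h, Module.Basis.constr_basis]
      by_cases hi : IsUnit (a i)
      · rw [dif_pos hi, hlift, ← map_smul]
        exact congrArg g (Subtype.ext (hf i).symm)
      · rw [dif_neg hi, map_zero, smul_zero]
        obtain ⟨c, hc⟩ := hdvd _ hi
        rw [← hg (c • e i)]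
        exact congrArg g (Subtype.ext (((hVFM (c • e i)).trans (smul_smul (p : W) c (e i))).trans ((congrArg (· • e i) hc.symm).trans (hf i).symm)))
    exact DFunLike.congr_fun key x
  · -- (c)
    let U := {i // IsUnit (a i)}
    let U' := {i // ¬ IsUnit (a i)}
    let π : M →ₗ[W] (U' → W ⧸ IsLocalRing.maximalIdeal W) :=
      LinearMap.pi fun i => (IsLocalRing.maximalIdeal W).mkQ ∘ₗ e.coord i.1
    have hπk : LinearMap.ker π = S := by
      ext x
      rw [LinearMap.mem_ker, hmemS, funext_iff]
      simp [π, U', hmax, Ideal.mem_span_singleton, Ideal.Quotient.eq_zero_iff_mem]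
    have hπs : Function.Surjective π := by
      intro y
      choose z hz using fun i : U' => Submodule.mkQ_surjective _ (y i)
      refine ⟨e.equivFun.symm fun i => if hi : IsUnit (a i) then 0 else z ⟨i, hi⟩, funext fun i => ?_⟩
      show (IsLocalRing.maximalIdeal W).mkQ (e.coord i.1 _) = y i
      rw [e.coord_apply, ← e.equivFun_apply, LinearEquiv.apply_symm_apply, dif_neg i.2, hz]
    haveI : IsSimpleModule W (W ⧸ IsLocalRing.maximalIdeal W) :=
      isSimpleModule_iff_isCoatom.2 (IsLocalRing.maximalIdeal.isMaximal W).out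
    have hlenM : Module.length W (M ⧸ S) = (Fintype.card U' : ℕ∞) := by
      rw [← hπk, (π.quotKerEquivOfSurjective hπs).length_eq, Module.length_pi]
      simp
    have hcard : s₁ = Fintype.card U := by
      rw [hlenM, hfr] at hs₁
      have h1 : Fintype.card (Module.Free.ChooseBasisIndex W M) = Fintype.card U' + s₁ := by exact_mod_cast hs₁
      have h2 := Fintype.card_subtype_compl (fun i => IsUnit (a i))
      have h3 := Fintype.card_subtype_le (fun i => IsUnit (a i))
      simp only [U, U'] at *
      omega
    let Ψ : (M →ₗ[W] N) →ₗ[W] (U → N ⧸ RN) :=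
      LinearMap.pi fun i => RN.mkQ ∘ₗ LinearMap.applyₗ (e i.1)
    have hΨs : Function.Surjective Ψ := by
      intro y
      choose z hz using fun i : U => RN.mkQ_surjective (y i)
      refine ⟨e.constr W fun i => if hi : IsUnit (a i) then z ⟨i, hi⟩ else 0, funext fun i => ?_⟩
      show RN.mkQ (e.constr W _ (e i.1)) = y i
      rw [e.constr_basis, dif_pos i.2, hz]
    have hΨk : LinearMap.ker Ψ = ⨅ m : M, RN.comap
        (LinearMap.applyₗ (VM m) : (M →ₗ[W] N) →ₗ[W] N) := by
      ext h
      simp only [LinearMap.mem_ker, Submodule.mem_iInf, Submodule.mem_comap]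
      refine ⟨fun h0 m => ?_, fun h0 => funext fun i => ?_⟩
      · have hm : VM m ∈ S := Submodule.subset_span ⟨m, rfl⟩
        show h (VM m) ∈ RN
        rw [← e.sum_repr (VM m), map_sum]
        refine Submodule.sum_mem _ fun i _ => ?_
        rw [map_smul]
        by_cases hi : IsUnit (a i)
        · exact RN.smul_mem _ ((Submodule.Quotient.mk_eq_zero _).1 (congrFun h0 ⟨i, hi⟩))
        · obtain ⟨c, hc⟩ := (hmemS _).1 hm i hi
          rw [hc, ← smul_smul]
          exact hRN _
      · refine (Submodule.Quotient.mk_eq_zero _).2 ?_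
        obtain ⟨m, hm⟩ := (mem_span_range_iff VM _ hVM _).1 (hunit i.1 i.2)
        have := h0 m
        rw [hm] at this
        exact this
    rw [show Module.length W ((M →ₗ[W] N) ⧸ ⨅ m : M, RN.comap
        (LinearMap.applyₗ (VM m) : (M →ₗ[W] N) →ₗ[W] N)) = Module.length W (U → N ⧸ RN) from
      ((Submodule.quotEquivOfEq _ _ hΨk.symm).trans (Ψ.quotKerEquivOfSurjective hΨs)).length_eq,
      Module.length_pi]
    simp only [Finset.sum_const, Finset.card_univ, finsum_eq_sum_of_fintype, ENat.card_eq_coe_fintype_card]
    erw [hr₂]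
    simp [hcard, mul_comm]

end Groth.Agent.S16417
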