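import Groth.Statements.S16418
import Mathlib

set_option autoImplicit false
universe u v
open Dieud

namespace Groth.Agent.S16418

/-- Step of the proof: for a prime p and a perfect field k of characteristic p, write W = W(k) and σ for
its Frobenius; let M be a W-module with additive maps F (σ-semilinear) and V (with V(σ(a)m) = aV(m))
such that FV = VF = p, V is injective, ⋂_n V^n M = 0 and M/VM is finitely generated over W. Put M₁ =
{x ∈ M : for every n there is m with V^m x ∈ F^n M} and M₂ = {x ∈ M : F^n x = 0 for some n}. Then M₂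
is killed by a single power of F, and F is injective on M₁. (The published text makes these
assertions inside a proof, for the V-reduced Cartier module of a connected smooth formal group of
finite dimension over k; only the listed structure is used, and V-adic completeness is not needed.) -/
theorem result
    (p : ℕ) [Fact p.Prime] (k : Type u) [Field k] [CharP k p] [PerfectRing k p]
    (M : Type v) [AddCommGroup M] [Module (WittVector p k) M]
    (F V : M →+ M)
    (hF : ∀ (a : WittVector p k) (m : M), F (a • m) = WittVector.frobenius a • F m)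
    (hV : ∀ (a : WittVector p k) (m : M), V (WittVector.frobenius a • m) = a • V m)
    (hFV : ∀ m : M, F (V m) = (p : WittVector p k) • m)
    (hVF : ∀ m : M, V (F m) = (p : WittVector p k) • m)
    (hVinj : Function.Injective V)
    (hsep : ∀ x : M, (∀ n : ℕ, ∃ y : M, x = (⇑V)^[n] y) → x = 0)
    (hfin : Module.Finite (WittVector p k) (M ⧸ Submodule.span (WittVector p k) (Set.range V))) :
    (∃ c : ℕ, ∀ x : M, (∃ n : ℕ, (⇑F)^[n] x = 0) → (⇑F)^[c] x = 0) ∧
    (∀ x : M, (∀ n : ℕ, ∃ (m : ℕ) (y : M), (⇑V)^[m] x = (⇑F)^[n] y) → F x = 0 → x = 0) := by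
  classical
  have hFVc : ∀ m, F (V m) = V (F m) := fun m => by rw [hFV, hVF]
  have hFnV : ∀ (n : ℕ) m, (⇑F)^[n] (V m) = V ((⇑F)^[n] m) := by
    intro n m
    induction n with
    | zero => rfl
    | succ n ih => rw [Function.iterate_succ_apply', ih, hFVc, Function.iterate_succ_apply']
  have hFnVm : ∀ (n j : ℕ) m, (⇑F)^[n] ((⇑V)^[j] m) = (⇑V)^[j] ((⇑F)^[n] m) := by
    intro n j m
    induction j with
    | zero => rfl
    | succ j ih => rw [Function.iterate_succ_apply', hFnV, ih, Function.iterate_succ_apply']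
  have hFn0 : ∀ n : ℕ, (⇑F)^[n] (0 : M) = 0 := fun n => Function.iterate_fixed (map_zero F) n
  let K : ℕ →o Submodule (WittVector p k) M :=
    ⟨fun n =>
      { carrier := {x | (⇑F)^[n] x = 0}
        zero_mem' := hFn0 n
        add_mem' := by
          intro a b ha hb
          simp only [Set.mem_setOf_eq] at ha hb ⊢
          rw [iterate_map_add, ha, hb, add_zero]
        smul_mem' := by
          intro a x hx
          simp only [Set.mem_setOf_eq] at hx ⊢
          induction n generalizing a x with
          | zero => simp only [Function.iterate_zero, id_eq] at hx ⊢; rw [hx, smul_zero]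
          | succ n ih => rw [Function.iterate_succ_apply] at hx ⊢; rw [hF]; exact ih _ hx },
     fun a b hab x hx => by
      change (⇑F)^[a] x = 0 at hx
      change (⇑F)^[b] x = 0
      rw [← Nat.sub_add_cancel hab, Function.iterate_add_apply, hx, hFn0]⟩
  let N := Submodule.span (WittVector p k) (Set.range V)
  have hmemN : ∀ x, x ∈ N → ∃ m, V m = x := by
    intro x hx
    induction hx using Submodule.span_induction with
    | mem x hx => exact hx
    | zero => exact ⟨0, map_zero V⟩
    | add x y _ _ hx hy =>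
      obtain ⟨a, rfl⟩ := hx
      obtain ⟨b, rfl⟩ := hy
      exact ⟨a + b, map_add V a b⟩
    | smul c x _ hx =>
      obtain ⟨a, rfl⟩ := hx
      exact ⟨WittVector.frobenius c • a, hV c a⟩
  haveI := hfin
  haveI : IsNoetherian (WittVector p k) (M ⧸ N) := inferInstance
  obtain ⟨c, hc⟩ := monotone_stabilizes_iff_noetherian.mpr this
    ⟨fun n => (K n).map N.mkQ, fun a b hab => Submodule.map_mono (K.mono hab)⟩
  have hstep : ∀ (n : ℕ) (x : M), c ≤ n → (⇑F)^[n] x = 0 → ∃ y m, (⇑F)^[c] y = 0 ∧ x = y + V m ∧ (⇑F)^[n] m = 0 := by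
    intro n x hcn hx
    have h1 : N.mkQ x ∈ (K n).map N.mkQ := Submodule.mem_map_of_mem hx
    have h2 : (K c).map N.mkQ = (K n).map N.mkQ := hc n hcn
    rw [← h2] at h1
    obtain ⟨y, hy, hxy⟩ := h1
    obtain ⟨m, hm⟩ := hmemN (x - y) ((Submodule.Quotient.eq N).mp hxy.symm)
    refine ⟨y, m, hy, by rw [hm]; abel, hVinj ?_⟩
    rw [map_zero, ← hFnV, hm, iterate_map_sub, hx, (K.mono hcn) hy, sub_zero]
  have hc' : ∀ x : M, (∃ n : ℕ, (⇑F)^[n] x = 0) → (⇑F)^[c] x = 0 := by
    rintro x ⟨n, hn⟩
    have hn' : (⇑F)^[max c n] x = 0 := K.mono (le_max_right c n) hn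
    apply hsep
    intro j
    suffices h : ∀ j : ℕ, ∀ x, (⇑F)^[max c n] x = 0 → ∃ m, (⇑F)^[c] x = (⇑V)^[j] ((⇑F)^[c] m) ∧ (⇑F)^[max c n] m = 0 by
      obtain ⟨m, hm, -⟩ := h j x hn'
      exact ⟨_, hm⟩
    intro j
    induction j with
    | zero => exact fun x hx => ⟨x, rfl, hx⟩
    | succ j ih =>
      intro x hx
      obtain ⟨y, m, hy, rfl, hm⟩ := hstep _ x (le_max_left c n) hx
      obtain ⟨m', hm', hm''⟩ := ih m hm
      refine ⟨m', ?_, hm''⟩
      rw [iterate_map_add, hy, zero_add, hFnV, hm', Function.iterate_succ_apply']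
  refine ⟨⟨c, hc'⟩, fun x hx hFx => ?_⟩
  obtain ⟨m, y, hy⟩ := hx c
  have h1 : (⇑F)^[c + 1] y = 0 := by
    rw [Function.iterate_succ_apply', ← hy, ← Function.iterate_one (⇑F), hFnVm, Function.iterate_one, hFx]
    exact Function.iterate_fixed (map_zero V) m
  have h2 := hc' y ⟨c + 1, h1⟩
  rw [h2] at hy
  exact Function.Injective.iterate hVinj m (hy.trans (Function.iterate_fixed (map_zero V) m).symm)

end Groth.Agent.S16418
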