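import Groth.Statements.S1642
import Groth.Agent.Lib.ProjKoszul.Surj

set_option autoImplicit false
universe u
open CategoryTheory CategoryTheory.Limits AlgebraicGeometry
open Variety

namespace Groth.Agent.S1642

/-- A coherent module on P^n_k which is m-regular in the sense of Castelnuovo–Mumford is also (m +
1)-regular. -/
theorem result (k : Type u) [Field k] (n : ℕ) (F : (CohB1.ProjSpace n k).Modules) (hF : Coh.IsCoh F) (m : ℤ)
    (h : Curv2.IsMRegular k n F m) : Curv2.IsMRegular k n F (m + 1) := by
  have hreg : Lib.ProjKoszul.Regularity.Reg F m := fun i hi => by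
    by_cases hin : i ≤ n
    · exact h i hi hin
    · have := (Lib.ProjCoh.Coherent.isCoh_tensorMod hF
        (Lib.ProjCoh.Coherent.isCoh_tw (n := n) (R := k) (m - i))).1
      exact Lib.ProjCoh.Twist.subsingleton_HH_of_lt _ (by omega)
  exact fun i hi _ => Lib.ProjKoszul.Regularity.reg_succ hreg i hi

end Groth.Agent.S1642
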