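import Groth.Statements.S16421

import Groth.Agent.S16000

set_option autoImplicit false
universe u
open FrobAlg

namespace Groth.Agent.S16421

/-- Let p be a prime and R a commutative ring of characteristic p with a p-basis (x_i), meaning that the
monomials ∏ x_i^(e i) with every exponent e i < p form a basis of R as a module over itself through
the Frobenius, i.e. the map sending a finitely supported family of coefficients c to ∑_e (c e)^p · ∏
x_i^(e i) is a bijection onto R. Then the canonical ring map from R to its perfect closure is
faithfully flat. -/
theorem result (p : ℕ) [Fact p.Prime]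
    (R : Type u) [CommRing R] [CharP R p] (ι : Type u) (x : ι → R)
    (hx : Function.Bijective
      (fun c : {e : ι →₀ ℕ // ∀ i, e i < p} →₀ R =>
        c.sum (fun e r => r ^ p * e.1.prod (fun i n => x i ^ n)))) :
    (PerfectClosure.of R p).FaithfullyFlat := by
  letI : Algebra R (PerfectClosure R p) := (PerfectClosure.of R p).toAlgebra
  let v : {e : ι →₀ ℕ // ∀ i, e i < p} → FrobAlg.Twist p R := fun e =>
    FrobAlg.toTwist p R (e.1.prod (fun i n => x i ^ n))
  have hb : Function.Bijective (Finsupp.linearCombination R v) := by
    have : ⇑(Finsupp.linearCombination R v) = (FrobAlg.toTwist p R) ∘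
        (fun c : {e : ι →₀ ℕ // ∀ i, e i < p} →₀ R =>
          c.sum (fun e r => r ^ p * e.1.prod (fun i n => x i ^ n))) := by
      funext c
      rw [Finsupp.linearCombination_apply, Function.comp_apply, map_finsuppSum]
      refine Finsupp.sum_congr fun e _ => ?_
      rw [Algebra.smul_def, FrobAlg.algebraMap_twist, map_mul]
    rw [this]
    exact (FrobAlg.toTwist p R).bijective.comp hx
  have : Module.Projective R (FrobAlg.Twist p R) :=
    Module.Projective.of_equiv' (LinearEquiv.ofBijective _ hb)
  have h := Groth.Agent.S16000.faithfullyFlat_perfectClosure p R
  exact (RingHom.faithfullyFlat_algebraMap_iff (R := R) (S := PerfectClosure R p)).2 h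

end Groth.Agent.S16421
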