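import Groth.Statements.S16422



set_option autoImplicit false
universe u
open GrMod

namespace Groth.Agent.S16422

theorem decompose_smul {S : Type u} [CommRing S] {𝒜 : ℤ → AddSubgroup S} [GradedRing 𝒜]
    {M : Type u} [AddCommGroup M] [Module S M] {ℳ : ℤ → AddSubgroup M} [DirectSum.Decomposition ℳ]
    [SetLike.GradedSMul 𝒜 ℳ] {d : ℤ} {x : M} (hx : x ∈ ℳ d) (a : S) (e : ℤ) :
    (DirectSum.decompose ℳ (a • x) e : M) = (DirectSum.decompose 𝒜 a (e - d) : S) • x := by
  classical
  induction a using DirectSum.Decomposition.inductionOn 𝒜 with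
  | zero => simp
  | homogeneous b =>
    rename_i i
    have hb : (b : S) • x ∈ ℳ (i + d) := SetLike.GradedSMul.smul_mem b.2 hx
    rcases eq_or_ne (i + d) e with rfl | hne
    · rw [DirectSum.decompose_of_mem_same ℳ hb, add_sub_cancel_right,
        DirectSum.decompose_of_mem_same 𝒜 b.2]
    · rw [DirectSum.decompose_of_mem_ne ℳ hb hne,
        DirectSum.decompose_of_mem_ne 𝒜 b.2 (fun h => hne (by omega)), zero_smul]
  | add a b ha hb =>
    simp only [add_smul, DirectSum.decompose_add, DirectSum.add_apply, AddMemClass.coe_add, ha, hb]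

/-- Let S be a commutative ring graded by ℤ with pieces 𝒜 n, and V a decreasing sequence of homogeneous
ideals for which S is graded-complete, i.e. for each degree n the map from 𝒜 n to the inverse limit
of the quotients 𝒜 n / (𝒜 n ∩ V m) is bijective (stated as: a degree-n element in every V m
vanishes, and every sequence in 𝒜 n whose consecutive differences lie in the V m has a limit in 𝒜
n). Then every graded S-module M which is finitely generated and projective as an S-module is
graded-complete in the same sense for the submodules V m · M: for each n the map from ℳ n to the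
inverse limit of ℳ n / (ℳ n ∩ V m · M) is bijective. -/
theorem result
    (S : Type u) [CommRing S] (𝒜 : ℤ → AddSubgroup S) [GradedRing 𝒜]
    (V : ℕ → HomogeneousIdeal 𝒜) (hV : ∀ m, (V (m + 1)).toIdeal ≤ (V m).toIdeal)
    (hsep : ∀ (n : ℤ) (s : S), s ∈ 𝒜 n → (∀ m, s ∈ (V m).toIdeal) → s = 0)
    (hcpl : ∀ (n : ℤ) (f : ℕ → S), (∀ m, f m ∈ 𝒜 n) →
      (∀ m, f (m + 1) - f m ∈ (V m).toIdeal) → ∃ s ∈ 𝒜 n, ∀ m, s - f m ∈ (V m).toIdeal)
    (M : Type u) [AddCommGroup M] [Module S M] (ℳ : ℤ → AddSubgroup M)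
    [DirectSum.Decomposition ℳ] [SetLike.GradedSMul 𝒜 ℳ]
    [Module.Finite S M] [Module.Projective S M] :
    (∀ (n : ℤ) (x : M), x ∈ ℳ n → (∀ m, x ∈ (V m).toIdeal • (⊤ : Submodule S M)) → x = 0) ∧
    (∀ (n : ℤ) (g : ℕ → M), (∀ m, g m ∈ ℳ n) →
      (∀ m, g (m + 1) - g m ∈ (V m).toIdeal • (⊤ : Submodule S M)) →
      ∃ x ∈ ℳ n, ∀ m, x - g m ∈ (V m).toIdeal • (⊤ : Submodule S M)) := by
  classical
  obtain ⟨r, ξ, hξ⟩ := Module.Finite.exists_fin (R := S) (M := M)
  -- homogeneous generators
  let J := Σ i : Fin r, {d // d ∈ (DirectSum.decompose ℳ (ξ i)).support}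
  let x : J → M := fun j => (DirectSum.decompose ℳ (ξ j.1) j.2.1 : M)
  let d : J → ℤ := fun j => j.2.1
  have hx : ∀ j, x j ∈ ℳ (d j) := fun j => (DirectSum.decompose ℳ (ξ j.1) j.2.1).2
  let π : (J → S) →ₗ[S] M := Fintype.linearCombination S x
  have hπ : Function.Surjective π := by
    rw [← LinearMap.range_eq_top, Fintype.range_linearCombination, eq_top_iff, ← hξ, Submodule.span_le]
    rintro _ ⟨i, rfl⟩
    rw [SetLike.mem_coe, ← DirectSum.sum_support_decompose ℳ (ξ i)]
    exact Submodule.sum_mem _ fun e he => Submodule.subset_span ⟨⟨i, ⟨e, he⟩⟩, rfl⟩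
  obtain ⟨σ, hσ⟩ := Module.projective_lifting_property π LinearMap.id hπ
  let c : ℤ → M → J → S := fun n m j => (DirectSum.decompose 𝒜 (σ m j) (n - d j) : S)
  have hc : ∀ n m j, c n m j ∈ 𝒜 (n - d j) := fun n m j => (DirectSum.decompose 𝒜 (σ m j) (n - d j)).2
  have hrec : ∀ (n : ℤ) (m : M), m ∈ ℳ n → ∑ j, c n m j • x j = m := by
    intro n m hm
    have key : ∀ (e : ℤ) (a : S) (j : J),
        (DirectSum.decompose ℳ (a • x j) e : M) = (DirectSum.decompose 𝒜 a (e - d j) : S) • x j :=
      fun e a j => Groth.Agent.S16422.decompose_smul (hx j) a e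
    have h1 : π (σ m) = m := LinearMap.congr_fun hσ m
    calc ∑ j, c n m j • x j = ∑ j, (DirectSum.decompose ℳ (σ m j • x j) n : M) :=
          Finset.sum_congr rfl fun j _ => (key n _ j).symm
      _ = (DirectSum.decompose ℳ (∑ j, σ m j • x j) n : M) := by
          rw [DirectSum.decompose_sum, DFinsupp.finset_sum_apply, AddSubmonoidClass.coe_finset_sum]
      _ = m := by
          rw [show ∑ j, σ m j • x j = m from h1, DirectSum.decompose_of_mem_same ℳ hm]
  have hcV : ∀ (n : ℤ) (m : M) (k : ℕ), m ∈ (V k).toIdeal • (⊤ : Submodule S M) →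
      ∀ j, c n m j ∈ (V k).toIdeal := by
    intro n m k hm j
    refine (V k).isHomogeneous (n - d j) ?_
    induction hm using Submodule.smul_induction_on' with
    | smul a ha y _ => rw [map_smul, Pi.smul_apply, smul_eq_mul]; exact Ideal.mul_mem_right _ _ ha
    | add y _ z _ hy hz => rw [map_add, Pi.add_apply]; exact add_mem hy hz
  have hcsub : ∀ (n : ℤ) (m m' : M) (j : J), c n (m - m') j = c n m j - c n m' j := by
    intro n m m' j
    simp only [c, map_sub, Pi.sub_apply, DirectSum.decompose_sub, DirectSum.sub_apply,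
      AddSubgroupClass.coe_sub]
  refine ⟨fun n m hm hmem => ?_, fun n g hg hdiff => ?_⟩
  · rw [← hrec n m hm]
    refine Finset.sum_eq_zero fun j _ => ?_
    rw [hsep _ _ (hc n m j) fun k => hcV n m k (hmem k) j, zero_smul]
  · choose t ht htm using fun j => hcpl (n - d j) (fun k => c n (g k) j) (fun k => hc n _ j)
      fun k => by
        show c n (g (k + 1)) j - c n (g k) j ∈ _
        rw [← hcsub]
        exact hcV n _ k (hdiff k) j
    refine ⟨∑ j, t j • x j, sum_mem fun j _ => ?_, fun k => ?_⟩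
    · have := SetLike.GradedSMul.smul_mem (ht j) (hx j)
      rwa [vadd_eq_add, sub_add_cancel] at this
    · rw [← hrec n (g k) (hg k), ← Finset.sum_sub_distrib]
      refine Submodule.sum_mem _ fun j _ => ?_
      rw [← sub_smul]
      exact Submodule.smul_mem_smul (htm j k) trivial

end Groth.Agent.S16422
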