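import Groth.Statements.S1643
import Groth.Agent.Lib.UnifReg.Apps

set_option autoImplicit false
universe u
open CategoryTheory CategoryTheory.Limits AlgebraicGeometry
open Variety

namespace Groth.Agent.S1643

/-- Fix n ≥ 0, r ≥ 1 and a rational polynomial P. There is an integer m, depending only on n, r and P,
such that for every field k and every epimorphism from the free module of rank r on P^n_k onto a
coherent module F whose Euler characteristics χ(F(t)) are given by P for all integers t, the kernel
is m-regular. -/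
theorem result (n r : ℕ) (hr : 1 ≤ r) (P : Polynomial ℚ) :
    ∃ m : ℤ, ∀ (k : Type u) [Field k] (F : (CohB1.ProjSpace n k).Modules) (φ : FlatMod.freeMod (CohB1.ProjSpace n k) r ⟶ F), Coh.IsCoh F → Epi φ →
      (∀ t : ℤ, (Curv2.euler k (CohB1.ProjSpace n k) (CohB1.tensorMod F (Twist.twistProjSpace n k t)) : ℚ) = P.eval (t : ℚ)) →
      Curv2.IsMRegular k n (kernel φ) m := by
  obtain ⟨m, hm⟩ := Groth.Agent.Lib.UnifReg.Apps.exists_reg_kernel n r P
  refine ⟨m, fun k _ F φ hF hφ hP i hi _ => hm k F φ hF hφ (fun t => ?_) i hi⟩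
  haveI := Groth.Agent.Lib.UnifReg.Step.isNoetherian_proj n k
  have h := hP (t : ℤ)
  rw [Groth.Agent.Lib.Snapper.Chi.euler_eq_eulerCharLE
    (Groth.Agent.Lib.ProjSpace.Dim.topologicalKrullDim_projSpace_of_field n k).le] at h
  exact_mod_cast h

end Groth.Agent.S1643
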