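import Groth.Statements.S16430
import Mathlib.RingTheory.Etale.StandardEtale
import Mathlib.FieldTheory.PrimitiveElement
import Groth.Agent.Lib.Henselian.Basic

set_option autoImplicit false
universe u
open Hensel

namespace Groth.Agent.S16430

/-- For a Noetherian local ring A with residue field k and a finite separable field extension l of k,
there is a local ring E, finite and etale over A with local structure map, whose residue field is
k-isomorphic to l. -/
theorem result (A : Type u)
    [CommRing A] [IsLocalRing A] [IsNoetherianRing A] (l : Type u) [Field l]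
    [Algebra (IsLocalRing.ResidueField A) l] [FiniteDimensional (IsLocalRing.ResidueField A) l]
    [Algebra.IsSeparable (IsLocalRing.ResidueField A) l] :
    ∃ (E : Type u) (_ : CommRing E) (_ : IsLocalRing E) (_ : Algebra A E)
      (_ : IsLocalHom (algebraMap A E)),
      Module.Finite A E ∧ Algebra.Etale A E ∧
        Nonempty (IsLocalRing.ResidueField E ≃ₐ[IsLocalRing.ResidueField A] l) := by
  classical
  obtain ⟨θ, hθ⟩ := Field.exists_primitive_element (IsLocalRing.ResidueField A) l
  have hint : IsIntegral (IsLocalRing.ResidueField A) θ := .of_finite _ θ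
  have hadj : Algebra.adjoin (IsLocalRing.ResidueField A) {θ} = ⊤ := by
    rw [← IntermediateField.adjoin_simple_toSubalgebra_of_isAlgebraic hint.isAlgebraic, hθ,
      IntermediateField.top_toSubalgebra]
  obtain ⟨f, hfmap, -, hf⟩ := Polynomial.lifts_and_degree_eq_and_monic
    (Polynomial.map_surjective _ IsLocalRing.residue_surjective (minpoly (IsLocalRing.ResidueField A) θ) :
      minpoly (IsLocalRing.ResidueField A) θ ∈ Polynomial.lifts (IsLocalRing.residue A)) (minpoly.monic hint)
  let : Algebra A l := ((algebraMap (IsLocalRing.ResidueField A) l).comp (IsLocalRing.residue A)).toAlgebra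
  have : IsScalarTower A (IsLocalRing.ResidueField A) l := IsScalarTower.of_algebraMap_eq fun _ => rfl
  have haev : ∀ q : Polynomial A,
      Polynomial.aeval θ q = Polynomial.aeval θ (q.map (IsLocalRing.residue A)) :=
    fun q => (Polynomial.aeval_map_algebraMap (IsLocalRing.ResidueField A) θ q).symm
  let φ : AdjoinRoot f →ₐ[A] l := AdjoinRoot.liftAlgHom f (Algebra.ofId A l) θ (by
    show Polynomial.aeval θ f = 0
    rw [haev, hfmap, minpoly.aeval])
  have hφ : ∀ q, φ (AdjoinRoot.mk f q) = Polynomial.aeval θ q := fun q => rfl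
  have hsurj : Function.Surjective φ := by
    intro c
    have hc : c ∈ Algebra.adjoin (IsLocalRing.ResidueField A) {θ} := hadj ▸ Algebra.mem_top
    rw [Algebra.adjoin_singleton_eq_range_aeval] at hc
    obtain ⟨p, rfl⟩ := hc
    obtain ⟨q, rfl⟩ := Polynomial.map_surjective _ IsLocalRing.residue_surjective p
    exact ⟨AdjoinRoot.mk f q, by rw [hφ, haev]; rfl⟩
  set J := (IsLocalRing.maximalIdeal A).map (algebraMap A (AdjoinRoot f))
  have hker : RingHom.ker φ.toRingHom = J := by
    refine le_antisymm (fun x hx => ?_) (Ideal.map_le_iff_le_comap.mpr fun a ha => ?_)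
    · obtain ⟨q, rfl⟩ := AdjoinRoot.mk_surjective x
      obtain ⟨p, hp⟩ := minpoly.dvd (IsLocalRing.ResidueField A) θ (show Polynomial.aeval θ _ = 0 by
        rw [← haev, ← hφ]; exact hx)
      obtain ⟨p', rfl⟩ := Polynomial.map_surjective _ IsLocalRing.residue_surjective p
      rw [← hfmap, ← Polynomial.map_mul, ← sub_eq_zero, ← Polynomial.map_sub, ← Polynomial.coe_mapRingHom, ← RingHom.mem_ker
        (f := Polynomial.mapRingHom (IsLocalRing.residue A)), Polynomial.ker_mapRingHom,
        IsLocalRing.ker_residue] at hp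
      have := Ideal.mem_map_of_mem (AdjoinRoot.mk f) hp
      rwa [Ideal.map_map, map_sub, map_mul, AdjoinRoot.mk_self, zero_mul, sub_zero] at this
    · show φ (algebraMap A _ a) = 0
      rw [AlgHom.commutes]
      show algebraMap _ l (IsLocalRing.residue A a) = 0
      rw [(IsLocalRing.residue_eq_zero_iff a).mpr ha, map_zero]
  have hfin : Module.Finite A (AdjoinRoot f) := hf.finite_adjoinRoot
  have hjac : J ≤ (⊥ : Ideal (AdjoinRoot f)).jacobson :=
    Groth.Agent.Lib.Henselian.Basic.map_le_jacobson_of_isIntegral (IsLocalRing.maximalIdeal_le_jacobson ⊥)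
  have hJmax : J.IsMaximal := hker ▸ RingHom.ker_isMaximal_of_surjective φ.toRingHom hsurj
  have hloc : IsLocalRing (AdjoinRoot f) := IsLocalRing.of_unique_max_ideal ⟨J, hJmax, fun M hM =>
    (hJmax.eq_of_le hM.ne_top (hjac.trans (sInf_le ⟨bot_le, hM⟩))).symm⟩
  have hJ : IsLocalRing.maximalIdeal (AdjoinRoot f) = J := (IsLocalRing.eq_maximalIdeal hJmax).symm
  have hlh : IsLocalHom (algebraMap A (AdjoinRoot f)) :=
    ((IsLocalRing.local_hom_TFAE (algebraMap A (AdjoinRoot f))).out 0 2 rfl rfl).mpr (by rw [hJ])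
  have hunit : IsUnit (AdjoinRoot.mk f f.derivative) := by
    rw [← IsLocalRing.notMem_maximalIdeal, hJ, ← hker, RingHom.mem_ker]
    show φ _ ≠ 0
    rw [hφ, haev, ← Polynomial.derivative_map, hfmap]
    exact (Algebra.IsSeparable.isSeparable (IsLocalRing.ResidueField A) θ).aeval_derivative_ne_zero
      (minpoly.aeval _ _)
  obtain ⟨u, hu⟩ := hunit.exists_right_inv
  obtain ⟨q, rfl⟩ := AdjoinRoot.mk_surjective u
  rw [← map_mul, ← map_one (AdjoinRoot.mk f), AdjoinRoot.mk_eq_mk] at hu
  obtain ⟨c, hc⟩ := hu
  let P : StandardEtalePair A := ⟨f, hf, 1, q, -c, 1, by linear_combination hc⟩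
  have : IsLocalization.Away (AdjoinRoot.mk P.f P.g) (AdjoinRoot P.f) :=
    IsLocalization.away_of_isUnit_of_bijective (AdjoinRoot P.f) (by simp [P]) Function.bijective_id
  have het : Algebra.Etale A (AdjoinRoot f) := Algebra.Etale.of_equiv (P.equivAwayAdjoinRoot.trans
    ((IsLocalization.algEquiv (Submonoid.powers (AdjoinRoot.mk P.f P.g)) _ (AdjoinRoot P.f)).restrictScalars A))
  let ψ : IsLocalRing.ResidueField (AdjoinRoot f) →+* l :=
    Ideal.Quotient.lift _ φ.toRingHom fun x hx => by
      rw [hJ, ← hker] at hx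
      exact hx
  have hψ : ∀ x, ψ (IsLocalRing.residue _ x) = φ x := fun x => rfl
  refine ⟨AdjoinRoot f, inferInstance, hloc, inferInstance, hlh, hfin, het, ⟨?_⟩⟩
  refine AlgEquiv.ofBijective
    ({ ψ with commutes' := fun k => ?_ } : IsLocalRing.ResidueField (AdjoinRoot f) →ₐ[IsLocalRing.ResidueField A] l)
    ⟨ψ.injective, fun c => ⟨IsLocalRing.residue _ (hsurj c).choose, (hsurj c).choose_spec⟩⟩
  obtain ⟨a, rfl⟩ := IsLocalRing.residue_surjective k
  show ψ (IsLocalRing.residue _ (algebraMap A _ a)) = _
  rw [hψ, AlgHom.commutes]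
  rfl

end Groth.Agent.S16430
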