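import Groth.Statements.S16431
import Groth.Agent.Lib.Unram.BranchHenselian
import Groth.Agent.Lib.Unram.OneBranch
import Groth.Agent.Lib.Unram.CompletionBranch
import Groth.Agent.Lib.Henselian.Permanence
import Mathlib.RingTheory.Flat.EquationalCriterion
-- import your own Groth.Agent.* helpers here

set_option autoImplicit false
universe u
open Hensel

namespace Groth.Agent.S16431

open IsLocalRing Groth.Agent.Lib Groth.Agent.Lib.Unram

/-- The normalisation of a reduced ring is its integral closure in the total ring of fractions. -/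
theorem exists_normRed (A : Type u) [CommRing A] [IsReduced A] :
    ∃ g : CAlg2.normRed A ≃+* integralClosure A (FractionRing A),
      ∀ a, g (algebraMap (CAlg2.red A) _ (Ideal.Quotient.mk (nilradical A) a)) = algebraMap A _ a := by
  have h0 : nilradical A = ⊥ := nilradical_eq_zero A
  let e : CAlg2.red A ≃+* A := (Ideal.quotEquivOfEq h0).trans (RingEquiv.quotientBot A)
  let E : FractionRing (CAlg2.red A) ≃+* FractionRing A := IsFractionRing.ringEquivOfRingEquiv e
  have hE : ∀ r, E (algebraMap (CAlg2.red A) _ r) = algebraMap A (FractionRing A) (e r) := fun r =>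
    IsFractionRing.ringEquivOfRingEquiv_algebraMap e r
  have hfwd : ∀ x : FractionRing (CAlg2.red A), IsIntegral (CAlg2.red A) x → IsIntegral A (E x) := by
    rintro x ⟨p, hp, hpx⟩
    refine ⟨p.map e.toRingHom, hp.map _, ?_⟩
    rw [Polynomial.eval₂_map]
    have he : (algebraMap A (FractionRing A)).comp e.toRingHom =
        E.toRingHom.comp (algebraMap (CAlg2.red A) _) := RingHom.ext fun r => (hE r).symm
    rw [he]
    refine (Polynomial.hom_eval₂ p _ E.toRingHom x).symm.trans ?_
    rw [hpx, map_zero]
  have hbwd : ∀ y : FractionRing A, IsIntegral A y → IsIntegral (CAlg2.red A) (E.symm y) := by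
    rintro y ⟨p, hp, hpy⟩
    refine ⟨p.map e.symm.toRingHom, hp.map _, ?_⟩
    rw [Polynomial.eval₂_map]
    have he : (algebraMap (CAlg2.red A) (FractionRing (CAlg2.red A))).comp e.symm.toRingHom =
        E.symm.toRingHom.comp (algebraMap A _) := RingHom.ext fun r => by
      refine E.injective ?_
      show E (algebraMap (CAlg2.red A) _ (e.symm r)) = E (E.symm (algebraMap A (FractionRing A) r))
      rw [hE, e.apply_symm_apply, E.apply_symm_apply]
    rw [he]
    refine (Polynomial.hom_eval₂ p _ E.symm.toRingHom y).symm.trans ?_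
    rw [hpy, map_zero]
  let g : CAlg2.normRed A →+* integralClosure A (FractionRing A) :=
    (E.toRingHom.comp (algebraMap (CAlg2.normRed A) _)).codRestrict _ fun x => hfwd _ x.2
  refine ⟨RingEquiv.ofBijective g ⟨fun x y hxy => Subtype.ext (E.injective (congrArg Subtype.val hxy)),
    fun y => ⟨⟨E.symm y, hbwd _ y.2⟩, Subtype.ext (E.apply_symm_apply y.1)⟩⟩,
    fun a => Subtype.ext ((hE _).trans rfl)⟩

/-- The residue condition on the normalisation is that every maximal ideal has one embedding. -/
theorem cond_iff (A : Type u) [CommRing A] [IsLocalRing A] [IsReduced A] :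
    (∀ (M : Ideal (integralClosure A (FractionRing A))) [M.IsMaximal],
      ∀ x : (integralClosure A (FractionRing A)) ⧸ M, ∃ n : ℕ,
        x ^ (ringExpChar ((integralClosure A (FractionRing A)) ⧸ M)) ^ n ∈
          ((Ideal.Quotient.mk M).comp (algebraMap A (integralClosure A (FractionRing A)))).range) ↔
      ∀ m : MaximalSpectrum (CAlg2.normRed A), Subsingleton (Brnch.Emb A m) := by
  obtain ⟨g, hg⟩ := exists_normRed A
  have key : ∀ (M : Ideal (integralClosure A (FractionRing A))) (m : Ideal (CAlg2.normRed A))
      (hm : M = m.map g.toRingHom) [M.IsMaximal] [hmm : m.IsMaximal],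
      (∀ x : (integralClosure A (FractionRing A)) ⧸ M, ∃ n : ℕ,
        x ^ (ringExpChar ((integralClosure A (FractionRing A)) ⧸ M)) ^ n ∈
          ((Ideal.Quotient.mk M).comp (algebraMap A (integralClosure A (FractionRing A)))).range) ↔
        Subsingleton (Brnch.Emb A ⟨m, hmm⟩) := by
    intro M m hm _ hmm
    rw [(OneBranch.nonempty_emb_and_subsingleton_iff A ⟨m, hmm⟩).2]
    letI := Ideal.Quotient.field m
    letI := Ideal.Quotient.field M
    let ε : CAlg2.normRed A ⧸ m ≃+* (integralClosure A (FractionRing A)) ⧸ M :=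
      Ideal.quotientEquiv m M g hm
    have he : ringExpChar ((integralClosure A (FractionRing A)) ⧸ M) = ringExpChar (CAlg2.normRed A ⧸ m) := by
      have := expChar_of_injective_ringHom (f := ε.toRingHom) ε.injective (ringExpChar (CAlg2.normRed A ⧸ m))
      exact ringExpChar.eq _ _
    have hA : ∀ a : A, ε (Brnch.toResidue A ⟨m, hmm⟩ a) =
        (Ideal.Quotient.mk M).comp (algebraMap A (integralClosure A (FractionRing A))) a := fun a => by
      show Ideal.quotientEquiv m M g hm (Ideal.Quotient.mk m
        (algebraMap (CAlg2.red A) _ (Ideal.Quotient.mk (nilradical A) a))) = _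
      rw [Ideal.quotientEquiv_mk, hg]
      rfl
    constructor
    · intro h x
      obtain ⟨n, a, ha⟩ := h (ε x)
      refine ⟨n, a, ε.injective ?_⟩
      rw [hA, ha, map_pow, he]
    · intro h x
      obtain ⟨n, a, ha⟩ := h (ε.symm x)
      refine ⟨n, a, ?_⟩
      rw [← hA, ha, map_pow, ε.apply_symm_apply, he]
  constructor
  · intro h m
    haveI := m.isMaximal
    haveI : (m.asIdeal.map g.toRingHom).IsMaximal := Ideal.map_isMaximal_of_equiv g
    exact (key _ m.asIdeal rfl).1 (h _)
  · intro h M hM
    haveI : (M.comap g.toRingHom).IsMaximal :=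
      Ideal.comap_isMaximal_of_surjective g.toRingHom g.surjective
    exact (key M (M.comap g.toRingHom)
      (Ideal.map_comap_of_surjective g.toRingHom g.surjective M).symm).2 (h _)

/-- Equal finite counts of branches mean one embedding for each maximal ideal. -/
theorem card_eq_iff {ι : Type u} (E : ι → Type u) [Finite ι] (hne : ∀ i, Nonempty (E i))
    (hfin : ENat.card (Σ i, E i) ≠ ⊤) :
    ENat.card (Σ i, E i) = ENat.card ι ↔ ∀ i, Subsingleton (E i) := by
  constructor
  · intro h i
    haveI : Finite (Σ i, E i) := ENat.card_lt_top.1 (lt_top_iff_ne_top.2 hfin)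
    rw [ENat.card_eq_coe_natCard, ENat.card_eq_coe_natCard, Nat.cast_inj] at h
    have hsurj : Function.Surjective (Sigma.fst : (Σ i, E i) → ι) := fun i => ⟨⟨i, (hne i).some⟩, rfl⟩
    have hb := hsurj.bijective_of_nat_card_le h.le
    exact ⟨fun a b => eq_of_heq (Sigma.mk.inj_iff.1 (hb.1 (a₁ := ⟨i, a⟩) (a₂ := ⟨i, b⟩) rfl)).2⟩
  · intro h
    exact ENat.card_congr (Equiv.ofBijective Sigma.fst
      ⟨fun ⟨i, a⟩ ⟨j, b⟩ hij => by
        obtain rfl : i = j := hij
        rw [(h i).elim a b], fun i => ⟨⟨i, (hne i).some⟩, rfl⟩⟩)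

/-- A minimal prime of a flat extension with one prime over a minimal prime is generated by it. -/
theorem eq_map_of_unique {R S : Type u} [CommRing R] [IsReduced R] [IsNoetherianRing R] [CommRing S]
    [Algebra R S] [Module.Flat R S] [IsReduced S] {q : Ideal R} (hq : q ∈ minimalPrimes R) {Q : Ideal S}
    (hQ : Q ∈ minimalPrimes S) (hQq : Q.comap (algebraMap R S) = q)
    (huniq : ∀ Q' ∈ minimalPrimes S, Q'.comap (algebraMap R S) = q → Q' = Q) :
    Q = q.map (algebraMap R S) := by
  classical
  refine le_antisymm (fun x hx => ?_) (Ideal.map_le_iff_le_comap.2 hQq.ge)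
  have hqp := hq.1.1
  obtain ⟨s, hs, hsQ⟩ := (OneBranch.exists_separating R
    (minimalPrimes.finite_of_isNoetherianRing R) hq).2
  have hzero : algebraMap R S s * x = 0 := by
    have hn : algebraMap R S s * x ∈ nilradical S := by
      rw [OneBranch.mem_nilradical_iff_forall]
      intro Q' hQ'
      have hc := BranchHenselian.comap_minimalPrime_mem R S hQ'
      by_cases h : Q'.comap (algebraMap R S) = q
      · rw [huniq Q' hQ' h]
        exact Q.mul_mem_left _ hx
      · exact Q'.mul_mem_right _ (hsQ _ hc h)
    rwa [nilradical_eq_zero] at hn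
  have hsum : ∑ _i : Fin 1, (fun _ => s) _i • (fun _ => x) _i = 0 := by
    simpa [Algebra.smul_def] using hzero
  obtain ⟨k, a, y, hy, ha⟩ := Module.Flat.isTrivialRelation_of_sum_smul_eq_zero hsum
  rw [show x = ∑ j, a 0 j • y j from hy 0]
  refine Ideal.sum_mem _ fun j _ => ?_
  rw [Algebra.smul_def]
  refine Ideal.mul_mem_right _ _ (Ideal.mem_map_of_mem _ ?_)
  have h0 : s * a 0 j = 0 := by simpa using ha j
  exact (hqp.mem_or_mem (h0.symm ▸ q.zero_mem)).resolve_left hs


/-- Let A be an excellent reduced local ring with residue field k, let A' be the integral closure of A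
in its total ring of fractions, let A^h be a henselization and A^hs a strict henselization of A, and
let A^h → A^hs be the A-algebra map between them (it is the unique one). Then the residue field of
A' at every maximal ideal is purely inseparable over k — every element has some p^n-th power in the
image of A, p the characteristic exponent — if and only if every minimal prime ideal of A^hs is
generated by its contraction to A^h. -/
theorem result
    (A Ah Ash : Type u) [CommRing A] [IsLocalRing A] [IsReduced A] (hA : EGA4.IsExcellent A)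
    [CommRing Ah] [IsLocalRing Ah] [Algebra A Ah] [IsLocalHom (algebraMap A Ah)]
    [Hensel.IsHenselization A Ah]
    [CommRing Ash] [IsLocalRing Ash] [Algebra A Ash] [IsLocalHom (algebraMap A Ash)]
    [Hensel.IsStrictHenselization A Ash] [Algebra Ah Ash] [IsScalarTower A Ah Ash] :
    (∀ (M : Ideal (integralClosure A (FractionRing A))) [M.IsMaximal], ∀ x : (integralClosure A (FractionRing A)) ⧸ M, ∃ n : ℕ,
        x ^ (ringExpChar ((integralClosure A (FractionRing A)) ⧸ M)) ^ n ∈
          ((Ideal.Quotient.mk M).comp (algebraMap A (integralClosure A (FractionRing A)))).range) ↔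
      (∀ Q ∈ minimalPrimes Ash, Q = Ideal.map (algebraMap Ah Ash) (Q.comap (algebraMap Ah Ash))) := by
  classical
  haveI : IsNoetherianRing A := hA.1
  haveI hSh := (inferInstance : Hensel.IsStrictHenselization A Ash).henselian
  haveI := Henselian.Permanence.isNoetherianRing A Ah
  haveI := Henselian.Permanence.strict_isNoetherianRing A Ash
  haveI : IsReduced Ah := (Henselian.Permanence.isReduced_iff A Ah).1 inferInstance
  haveI : IsReduced Ash := (Henselian.Permanence.strict_isReduced_iff A Ash).1 inferInstance
  have hflat : Module.Flat Ah Ash := CompletionBranch.flat_of_indEtale A A Ah Ash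
    (IndEtale.Basic.of_algEquiv Henselian.IndEtale.isIndEtale_lim
      (Henselian.Henselization.equivOfIsHenselization A Ah))
    (IndEtale.Basic.of_algEquiv Henselian.IndEtale.isIndEtale_lim
      (Henselian.StrictHenselization.equivOfIsStrictHenselization A Ash))
  haveI := hflat
  haveI : IsLocalHom (algebraMap Ah Ash) := by
    refine ((IsLocalRing.local_hom_TFAE (algebraMap Ah Ash)).out 0 2 rfl rfl).2 ?_
    rw [← Henselian.Henselization.map_maximalIdeal A Ah, Ideal.map_map, ← IsScalarTower.algebraMap_eq,
      Henselian.StrictHenselization.map_maximalIdeal A Ash]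
  haveI : Module.FaithfullyFlat Ah Ash := Module.FaithfullyFlat.of_flat_of_isLocalHom
  haveI := (minimalPrimes.finite_of_isNoetherianRing Ah).to_subtype
  haveI := (minimalPrimes.finite_of_isNoetherianRing Ash).to_subtype
  have hnb := BranchHenselian.card_minimalPrimes_henselization A Ah
  have hng := BranchHenselian.card_minimalPrimes_strictHenselization A Ash
  have hminA := minimalPrimes.finite_of_isNoetherianRing A
  unfold Brnch.numBranches at hnb
  unfold Brnch.numGeomBranches at hng
  rw [if_pos hminA] at hnb hng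
  haveI : Finite (MaximalSpectrum (CAlg2.normRed A)) := by
    rw [← ENat.card_lt_top, ← hnb, ENat.card_lt_top]
    infer_instance
  have hsg : ENat.card (Σ m, Brnch.Emb A m) ≠ ⊤ := by
    rw [← hng, ← lt_top_iff_ne_top, ENat.card_lt_top]
    infer_instance
  rw [cond_iff A, ← card_eq_iff _ (fun m => (OneBranch.nonempty_emb_and_subsingleton_iff A m).1) hsg,
    ← hng, ← hnb]
  let φ : minimalPrimes Ash → minimalPrimes Ah := fun Q =>
    ⟨Q.1.comap (algebraMap Ah Ash), BranchHenselian.comap_minimalPrime_mem Ah Ash Q.2⟩
  have hφ : Function.Surjective φ := by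
    rintro ⟨q, hq⟩
    haveI := hq.1.1
    obtain ⟨P, hP⟩ := PrimeSpectrum.comap_surjective_of_faithfullyFlat (B := Ash) ⟨q, hq.1.1⟩
    haveI := P.isPrime
    obtain ⟨Q, hQ, hQP⟩ := Ideal.exists_minimalPrimes_le (I := (⊥ : Ideal Ash)) (J := P.asIdeal) bot_le
    haveI := hQ.1.1
    refine ⟨⟨Q, hQ⟩, Subtype.ext ?_⟩
    show Q.comap (algebraMap Ah Ash) = q
    have hle : Q.comap (algebraMap Ah Ash) ≤ q :=
      (Ideal.comap_mono hQP).trans (congrArg PrimeSpectrum.asIdeal hP).le
    exact le_antisymm hle (hq.2 ⟨Ideal.IsPrime.comap _, bot_le⟩ hle)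
  constructor
  · intro h Q hQ
    rw [ENat.card_eq_coe_natCard, ENat.card_eq_coe_natCard, Nat.cast_inj] at h
    have hb := hφ.bijective_of_nat_card_le h.le
    exact eq_map_of_unique (BranchHenselian.comap_minimalPrime_mem Ah Ash hQ) hQ rfl fun Q' hQ' he =>
      congrArg Subtype.val (hb.1 (a₁ := ⟨Q', hQ'⟩) (a₂ := ⟨Q, hQ⟩) (Subtype.ext he))
  · intro h
    exact ENat.card_congr (Equiv.ofBijective φ ⟨fun Q Q' he => Subtype.ext (by
      rw [h Q.1 Q.2, h Q'.1 Q'.2, show Q.1.comap _ = Q'.1.comap _ from congrArg Subtype.val he]), hφ⟩)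

end Groth.Agent.S16431
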