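import Groth.Statements.S16432
import Groth.Agent.H24.EssEtale.Normal
import Groth.Agent.S2748

set_option autoImplicit false
universe u
open EGA4loc

namespace Groth.Agent.S16432

/-- Let A be an excellent normal local domain and S a strict henselization of A; let D be an
A-subalgebra of S which is a local ring dominated by S (the inclusion is a local homomorphism), an
integrally closed domain, and whose fraction field is generated as a field over the image of A by
finitely many elements of D. Then D is an essentially etale local A-algebra: A-isomorphic to the
localization of an etale A-algebra at a prime ideal over the maximal ideal of A. -/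
theorem result
    (A S : Type u) [CommRing A] [IsLocalRing A] [IsDomain A] [IsIntegrallyClosed A]
    (hA : EGA4.IsExcellent A) [CommRing S] [IsLocalRing S] [Algebra A S] [IsLocalHom (algebraMap A S)]
    [Hensel.IsStrictHenselization A S] (D : Subalgebra A S) [IsLocalRing D]
    [IsLocalHom (algebraMap D S)] [IsDomain D] [IsIntegrallyClosed D]
    (hfg : ∃ s : Finset D, Subfield.closure (Set.range (algebraMap A (FractionRing D)) ∪
        (algebraMap D (FractionRing D)) '' (s : Set D)) = ⊤) :
    EGA4loc.IsEssentiallyEtale A D := by
  haveI : IsNoetherianRing A := hA.1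
  obtain ⟨hSd, -⟩ := (S2748.result A S).mpr ⟨inferInstance, inferInstance⟩
  haveI := hSd
  obtain ⟨s, hs⟩ := hfg
  classical
  obtain ⟨E, _, hsE, -, hE, hff⟩ := H24.EssEtale.exists_stage (A := A) (s.image fun d : D => (d : S))
  haveI := hff
  have hadj : ∀ y ∈ Algebra.adjoin A (s : Set D), (y : S) ∈ E := by
    intro y hy
    induction hy using Algebra.adjoin_induction with
    | mem z hz => exact hsE (Finset.mem_coe.mpr (Finset.mem_image_of_mem _ hz))
    | algebraMap r => exact E.algebraMap_mem r
    | add y z _ _ hy hz => exact add_mem hy hz
    | mul y z _ _ hy hz => exact mul_mem hy hz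
  have hle : D ≤ E := fun x hx => by
    obtain ⟨p, hp, q, hq, hq0, h⟩ :=
      H24.EssEtale.Normal.exists_mul_eq_of_closure_eq_top D s hs ⟨x, hx⟩
    exact H24.EssEtale.Normal.mem_of_mul_eq (hadj p hp) (hadj q hq)
      (fun hq' => hq0 (Subtype.ext hq')) (congrArg Subtype.val h)
  exact H24.EssEtale.Normal.of_le_of_isIntegrallyClosed D hle hE

end Groth.Agent.S16432
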