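import Groth.Statements.S16433
import Groth.Agent.H24.EssEtale.Normal
import Groth.Agent.S2748

set_option autoImplicit false
universe u
open EGA4loc

namespace Groth.Agent.S16433

/-- Let A be an excellent normal local domain and S a strict henselization of A; let D be an
A-subalgebra of S which is a local ring dominated by S (the inclusion is a local homomorphism) and
an integrally closed domain. Then D is a directed union of local etale extensions of A: every finite
subset of D is contained in an A-subalgebra D' of S with D' contained in D, D' a local ring whose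
inclusion into S is local, and D' an essentially etale local A-algebra (a localization of an etale
A-algebra at a prime over the maximal ideal). -/
theorem result
    (A S : Type u) [CommRing A] [IsLocalRing A] [IsDomain A] [IsIntegrallyClosed A]
    (hA : EGA4.IsExcellent A) [CommRing S] [IsLocalRing S] [Algebra A S] [IsLocalHom (algebraMap A S)]
    [Hensel.IsStrictHenselization A S] (D : Subalgebra A S) [IsLocalRing D]
    [IsLocalHom (algebraMap D S)] [IsDomain D] [IsIntegrallyClosed D]
    (s : Finset S) (hs : (s : Set S) ⊆ (D : Set S)) :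
    ∃ D' : Subalgebra A S, D' ≤ D ∧ (s : Set S) ⊆ (D' : Set S) ∧
      ∃ _ : IsLocalRing D', IsLocalHom (algebraMap D' S) ∧ EGA4loc.IsEssentiallyEtale A D' := by
  haveI : IsNoetherianRing A := hA.1
  obtain ⟨hSd, -⟩ := (S2748.result A S).mpr ⟨inferInstance, inferInstance⟩
  haveI := hSd
  classical
  obtain ⟨E, _, hsE, -, hE, hff⟩ := H24.EssEtale.exists_stage (A := A) s
  haveI := hff
  -- fractions of `A[s]` lying in `D`
  let R := Algebra.adjoin A (s : Set S)
  let D' : Subalgebra A S :=
    { carrier := {x | x ∈ D ∧ ∃ p ∈ R, ∃ q ∈ R, q ≠ 0 ∧ x * q = p}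
      mul_mem' := by
        rintro x y ⟨hx, p, hp, q, hq, hq0, h⟩ ⟨hy, p', hp', q', hq', hq0', h'⟩
        refine ⟨mul_mem hx hy, p * p', mul_mem hp hp', q * q', mul_mem hq hq',
          mul_ne_zero hq0 hq0', ?_⟩
        rw [← h, ← h']; ring
      add_mem' := by
        rintro x y ⟨hx, p, hp, q, hq, hq0, h⟩ ⟨hy, p', hp', q', hq', hq0', h'⟩
        refine ⟨add_mem hx hy, p * q' + p' * q, add_mem (mul_mem hp hq') (mul_mem hp' hq), q * q',
          mul_mem hq hq', mul_ne_zero hq0 hq0', ?_⟩
        rw [← h, ← h']; ring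
      algebraMap_mem' := fun a => ⟨D.algebraMap_mem a, algebraMap A S a, R.algebraMap_mem a, 1,
        one_mem _, one_ne_zero, mul_one _⟩ }
  have hD'D : D' ≤ D := fun x hx => hx.1
  have hRD : R ≤ D := Algebra.adjoin_le hs
  have hRE : R ≤ E := Algebra.adjoin_le hsE
  have hle : D' ≤ E := fun x ⟨_, p, hp, q, hq, hq0, h⟩ =>
    H24.EssEtale.Normal.mem_of_mul_eq (hRE hp) (hRE hq) hq0 h
  letI : Algebra D' D := (Subalgebra.inclusion hD'D).toRingHom.toAlgebra
  have hinj : Function.Injective (algebraMap D' D) := Subalgebra.inclusion_injective hD'D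
  haveI : IsLocalHom (algebraMap D' S) := ⟨fun x hx => by
    obtain ⟨hxD, p, hp, q, hq, hq0, h⟩ := x.2
    have hu : IsUnit (⟨(x : S), hxD⟩ : D) := IsLocalHom.map_nonunit (f := algebraMap D S) _ hx
    obtain ⟨v, hv⟩ := hu.exists_right_inv
    have hv' : (x : S) * (v : S) = 1 := congrArg Subtype.val hv
    have hx0 : (x : S) ≠ 0 := fun h0 => one_ne_zero (by rw [← hv', h0, zero_mul])
    have hp0 : p ≠ 0 := h ▸ mul_ne_zero hx0 hq0
    refine isUnit_iff_exists_inv.mpr ⟨⟨v, v.2, q, hq, p, hp, hp0, ?_⟩, Subtype.ext hv'⟩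
    rw [← h, ← mul_assoc, mul_comm (v : S), hv', one_mul]⟩
  haveI : IsLocalRing D' := RingHom.domain_isLocalRing (algebraMap D' S)
  haveI : IsIntegrallyClosed D' := by
    refine (isIntegrallyClosed_iff (FractionRing D')).mpr fun {z} hz => ?_
    obtain ⟨a, b, hb, rfl⟩ := IsFractionRing.div_surjective D' z
    have hb0 : b ≠ 0 := nonZeroDivisors.ne_zero hb
    let f : FractionRing D' →+* FractionRing D := IsFractionRing.map hinj
    have hf : ∀ d, f (algebraMap D' _ d) = algebraMap D _ (algebraMap D' D d) := fun d =>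
      IsLocalization.map_eq _ d
    obtain ⟨p, hp, hpz⟩ := hz
    have hint : IsIntegral D (f (algebraMap D' _ a / algebraMap D' _ b)) := by
      refine ⟨p.map (algebraMap D' D), hp.map _, ?_⟩
      rw [Polynomial.eval₂_map, show (algebraMap D (FractionRing D)).comp (algebraMap D' D) =
        f.comp (algebraMap D' (FractionRing D')) from RingHom.ext fun d => (hf d).symm,
        ← Polynomial.hom_eval₂, hpz, map_zero]
    obtain ⟨d, hd⟩ := IsIntegrallyClosed.isIntegral_iff.mp hint
    have hbne : algebraMap D (FractionRing D) (algebraMap D' D b) ≠ 0 := by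
      rw [map_ne_zero_iff _ (IsFractionRing.injective D _), map_ne_zero_iff _ hinj]
      exact hb0
    rw [map_div₀, hf, hf, eq_div_iff hbne, ← map_mul] at hd
    have hd' : (d : S) * (b : S) = (a : S) :=
      congrArg Subtype.val (IsFractionRing.injective D _ hd)
    obtain ⟨-, pa, hpa, qa, hqa, hqa0, ha⟩ := a.2
    obtain ⟨-, pb, hpb, qb, hqb, hqb0, hb'⟩ := b.2
    have hbS : (b : S) ≠ 0 := fun h0 => hb0 (Subtype.ext h0)
    have hpb0 : pb ≠ 0 := hb' ▸ mul_ne_zero hbS hqb0
    refine ⟨⟨d, d.2, pa * qb, mul_mem hpa hqb, pb * qa, mul_mem hpb hqa,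
      mul_ne_zero hpb0 hqa0, ?_⟩, ?_⟩
    · rw [← ha, ← hb', ← hd']; ring
    · rw [eq_div_iff ((map_ne_zero_iff _ (IsFractionRing.injective D' _)).mpr hb0), ← map_mul]
      exact congrArg _ (Subtype.ext hd')
  exact ⟨D', hD'D, fun x hx => ⟨hs hx, x, Algebra.subset_adjoin hx, 1, one_mem _, one_ne_zero,
    mul_one _⟩, inferInstance, inferInstance,
    H24.EssEtale.Normal.of_le_of_isIntegrallyClosed D' hle hE⟩

end Groth.Agent.S16433
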