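import Groth.Statements.S16434
import Groth.Agent.H24.EssEtale.Galois
import Groth.Agent.H24.EssEtale.Normal
import Mathlib.FieldTheory.IsSepClosed
import Mathlib.FieldTheory.Normal.Closure
import Mathlib.FieldTheory.Galois.Basic
import Mathlib.FieldTheory.PrimitiveElement

set_option autoImplicit false
universe u
open EGA4loc

namespace Groth.Agent.S16434

open scoped IntermediateField in
open IsLocalRing in
theorem finrank_le {A E K M : Type u} [CommRing A] [CommRing E] [Field K] [Field M] [Algebra A E]
    [Algebra E M] [IsFractionRing E M] [Algebra A K] [Algebra K M] [Algebra A M]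
    [IsScalarTower A K M] [IsScalarTower A E M] (η : E) (hgen : Algebra.adjoin A {η} = ⊤)
    (f : Polynomial A) (hf : f.Monic) (hη : Polynomial.aeval η f = 0) :
    FiniteDimensional K M ∧ Module.finrank K M ≤ f.natDegree := by
  have hroot : Polynomial.aeval (algebraMap E M η) (f.map (algebraMap A K)) = 0 := by
    rw [Polynomial.aeval_map_algebraMap, Polynomial.aeval_algebraMap_apply, hη, map_zero]
  have hint : IsIntegral K (algebraMap E M η) :=
    ⟨_, hf.map _, hroot⟩
  have htop : K⟮algebraMap E M η⟯ = ⊤ := by
    rw [eq_top_iff]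
    intro z _
    obtain ⟨p, q, -, rfl⟩ := IsFractionRing.div_surjective E z
    have hmem : ∀ x : E, algebraMap E M x ∈ K⟮algebraMap E M η⟯ := fun x => by
      have hx : x ∈ Algebra.adjoin A {η} := hgen ▸ Algebra.mem_top
      induction hx using Algebra.adjoin_induction with
      | mem w hw =>
        rw [Set.mem_singleton_iff.mp hw]; exact IntermediateField.mem_adjoin_simple_self _ _
      | algebraMap r =>
        rw [← IsScalarTower.algebraMap_apply, IsScalarTower.algebraMap_apply A K M]
        exact IntermediateField.algebraMap_mem _ _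
      | add u v _ _ hu hv => rw [map_add]; exact add_mem hu hv
      | mul u v _ _ hu hv => rw [map_mul]; exact mul_mem hu hv
    exact div_mem (hmem p) (hmem q)
  haveI := IntermediateField.adjoin.finiteDimensional hint
  have hfin : FiniteDimensional K (⊤ : IntermediateField K M) := htop ▸ this
  refine ⟨Module.Finite.equiv IntermediateField.topEquiv.toLinearEquiv, ?_⟩
  calc Module.finrank K M = Module.finrank K K⟮algebraMap E M η⟯ := by
        rw [htop, IntermediateField.finrank_top']
    _ = (minpoly K (algebraMap E M η)).natDegree := IntermediateField.adjoin.finrank hint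
    _ ≤ (f.map (algebraMap A K)).natDegree :=
        Polynomial.natDegree_le_of_dvd (minpoly.dvd _ _ hroot) (hf.map _).ne_zero
    _ ≤ f.natDegree := Polynomial.natDegree_map_le


/-- Let A be an excellent henselian local domain such that a strict henselization S of A is again a
domain, let K be the fraction field of S, and let L be the subfield of K generated over the image of
A by a finite subset t of K (so L is an intermediate field between the fraction fields of A and of
S, finitely generated over the former). Then the intersection of L with S is (the underlying set of)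
an A-subalgebra D of S which is a local ring with local inclusion into S and which is an essentially
etale local A-algebra: A-isomorphic to the localization of an etale A-algebra at a prime over the
maximal ideal. -/
theorem result
    (A S : Type u) [CommRing A] [HenselianLocalRing A] [IsDomain A] (hA : EGA4.IsExcellent A)
    [CommRing S] [IsLocalRing S] [Algebra A S] [IsLocalHom (algebraMap A S)]
    [Hensel.IsStrictHenselization A S] [IsDomain S] (t : Finset (FractionRing S)) :
    ∃ D : Subalgebra A S, (D : Set S) = (algebraMap S (FractionRing S)) ⁻¹'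
        (Subfield.closure (Set.range (algebraMap A (FractionRing S)) ∪ (t : Set (FractionRing S))) :
          Set (FractionRing S)) ∧
      ∃ _ : IsLocalRing D, IsLocalHom (algebraMap D S) ∧ EGA4loc.IsEssentiallyEtale A D := by
  classical
  open IsLocalRing in
  open scoped IntermediateField in
  haveI := (Hensel.IsStrictHenselization.isSepClosure (R := A) (S := S)).separable
  haveI := Hensel.IsStrictHenselization.isSepClosure (R := A) (S := S)
  haveI : IsGalois (ResidueField A) (ResidueField S) :=
    IsSepClosure.isGalois
  haveI := Lib.Henselian.StrictHenselization.faithfullyFlat A S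
  haveI : FaithfulSMul A S := inferInstance
  let k := ResidueField A
  let Ω := FractionRing S
  let K := FractionRing A
  have hfr : ∀ z : Ω, ∃ p q : S, q ≠ 0 ∧ z = algebraMap S Ω p / algebraMap S Ω q := fun z => by
    obtain ⟨p, q, hq, h⟩ := IsFractionRing.div_surjective S z
    exact ⟨p, q, nonZeroDivisors.ne_zero hq, h.symm⟩
  choose p q hq hpq using hfr
  obtain ⟨F, _, hsF, hFloc, hF, hFff⟩ :=
    H24.EssEtale.exists_stage (A := A) (t.image p ∪ t.image q)
  haveI := hFloc
  haveI := H24.EssEtale.isLocalHom hF
  obtain ⟨_, _⟩ := Lib.Henselian.EssEtale.formallyEtale hF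
  -- a Galois residue extension
  let ρF : ResidueField F →ₐ[k] ResidueField S :=
    IsScalarTower.toAlgHom k (ResidueField F) (ResidueField S)
  haveI : Module.Finite k (ResidueField F) := inferInstance
  let N := IntermediateField.normalClosure k ρF.fieldRange (ResidueField S)
  haveI : FiniteDimensional k ρF.fieldRange :=
    Module.Finite.equiv (AlgEquiv.ofInjectiveField ρF).toLinearEquiv
  haveI : FiniteDimensional k N := inferInstance
  obtain ⟨θN, hθN⟩ := Field.exists_primitive_element k N
  have hθ : k⟮(θN : ResidueField S)⟯ = N := by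
    have := congrArg (IntermediateField.map N.val) hθN
    rw [IntermediateField.adjoin_map, Set.image_singleton, ← AlgHom.fieldRange_eq_map,
      IntermediateField.fieldRange_val] at this
    exact this
  haveI hnor : Normal k k⟮(θN : ResidueField S)⟯ := by rw [hθ]; infer_instance
  obtain ⟨η, _, hη, hEloc, hE, hEff, hEfin, f, hfmon, hfdeg, hfη⟩ :=
    H24.EssEtale.Galois.exists_adjoin (A := A) (θN : ResidueField S)
  haveI := hEloc; haveI := hEff; haveI := hEfin
  have hFE : F ≤ Algebra.adjoin A ({η} : Set S) := H24.EssEtale.Galois.le_adjoin hF fun x hx => by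
    rw [hη, hθ]
    exact IntermediateField.le_normalClosure _ ⟨residue F ⟨x, hx⟩, rfl⟩
  obtain ⟨E, hEdef⟩ : ∃ E, E = Algebra.adjoin A ({η} : Set S) := ⟨_, rfl⟩
  subst hEdef
  let E := Algebra.adjoin A ({η} : Set S)
  haveI : IsLocalHom (algebraMap A E) := H24.EssEtale.isLocalHom hE
  haveI : HenselianLocalRing E := Lib.Henselian.LocalRing.henselianLocalRing_of_isIntegral A E
  let ρ : ResidueField E →ₐ[k] ResidueField S :=
    IsScalarTower.toAlgHom k (ResidueField E) (ResidueField S)
  have hρres : ∀ x : E, ρ (residue E x) = residue S x := fun x => rfl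
  have hρ : ρ.fieldRange = k⟮(θN : ResidueField S)⟯ := by
    refine le_antisymm (fun z hz => ?_) (IntermediateField.adjoin_simple_le_iff.mpr ?_)
    · obtain ⟨w, rfl⟩ := hz
      obtain ⟨w, rfl⟩ := residue_surjective w
      rw [← hη]
      exact H24.EssEtale.Galois.residue_mem w.2
    · exact ⟨residue E ⟨η, Algebra.subset_adjoin rfl⟩, (hρres _).trans hη⟩
  haveI : Normal k ρ.fieldRange := by rw [hρ]; exact hnor
  haveI : Normal k (ResidueField E) :=
    Normal.of_algEquiv (F := k) (E := ρ.fieldRange) (AlgEquiv.ofInjectiveField ρ).symm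
  haveI : Algebra.IsSeparable k (ResidueField E) := Algebra.IsSeparable.of_algHom _ _ ρ
  haveI : IsGalois k (ResidueField E) := ⟨⟩
  haveI : FiniteDimensional k (ResidueField E) :=
    haveI := (Lib.Henselian.EssEtale.formallyEtale hE).2
    haveI := (Lib.Henselian.EssEtale.formallyEtale hE).1
    inferInstance
  have hdeg : Module.finrank k (ResidueField E) = f.natDegree := by
    rw [hfdeg, ← IntermediateField.adjoin.finrank (Algebra.IsIntegral.isIntegral _), ← hρ]
    exact (AlgEquiv.ofInjectiveField ρ).toLinearEquiv.finrank_eq
  -- the generic fibre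
  let M := FractionRing E
  haveI : FaithfulSMul A E := (faithfulSMul_iff_algebraMap_injective A E).mpr fun a b h =>
    FaithfulSMul.algebraMap_injective A S (congrArg Subtype.val h)
  haveI : FaithfulSMul A M := (faithfulSMul_iff_algebraMap_injective A M).mpr (by
    rw [IsScalarTower.algebraMap_eq A E M]
    exact (IsFractionRing.injective E M).comp (FaithfulSMul.algebraMap_injective A E))
  haveI : FaithfulSMul A Ω := (faithfulSMul_iff_algebraMap_injective A Ω).mpr (by
    rw [IsScalarTower.algebraMap_eq A S Ω]
    exact (IsFractionRing.injective S Ω).comp (FaithfulSMul.algebraMap_injective A S))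
  letI : Algebra K M := FractionRing.liftAlgebra A M
  letI : Algebra K Ω := FractionRing.liftAlgebra A Ω
  let ηE : E := ⟨η, Algebra.subset_adjoin rfl⟩
  obtain ⟨hMfin, hMdeg⟩ := finrank_le (A := A) (E := E) (K := K) (M := M) ηE (by
      refine Subalgebra.map_injective (f := E.val) Subtype.val_injective ?_
      rw [AlgHom.map_adjoin, Set.image_singleton, Algebra.map_top, Subalgebra.range_val]
      rfl) f hfmon
    (Subtype.val_injective ((Polynomial.aeval_algHom_apply E.val ηE f).symm.trans hfη))
  haveI := hMfin
  have hgi : Function.Injective ((IsScalarTower.toAlgHom A S Ω).comp E.val) :=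
    (IsFractionRing.injective S Ω).comp Subtype.val_injective
  let ιA : M →ₐ[A] Ω := IsFractionRing.liftAlgHom hgi
  have hι : ∀ x : E, ιA (algebraMap E M x) = algebraMap S Ω x := fun x =>
    IsFractionRing.lift_algebraMap hgi x
  let ι : M →ₐ[K] Ω :=
    { ιA.toRingHom with
      commutes' := fun z => RingHom.congr_fun (IsLocalization.ringHom_ext (nonZeroDivisors A)
        (j := ιA.toRingHom.comp (algebraMap K M)) (k := algebraMap K Ω) (RingHom.ext fun a => by
          simp only [RingHom.comp_apply, ← IsScalarTower.algebraMap_apply]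
          exact ιA.commutes a)) z }
  -- the intermediate field
  have htM : ∀ z ∈ t, ∃ w : M, ι w = z := fun z hz => by
    have hpE : p z ∈ E := hFE (hsF (Finset.mem_coe.mpr
      (Finset.mem_union_left _ (Finset.mem_image_of_mem p hz))))
    have hqE : q z ∈ E := hFE (hsF (Finset.mem_coe.mpr
      (Finset.mem_union_right _ (Finset.mem_image_of_mem q hz))))
    refine ⟨algebraMap E M ⟨_, hpE⟩ / algebraMap E M ⟨_, hqE⟩, ?_⟩
    show ιA.toRingHom _ = z
    rw [map_div₀]
    show ιA _ / ιA _ = z
    rw [hι, hι]
    exact (hpq z).symm
  choose! w hw using htM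
  let L : IntermediateField K M := IntermediateField.adjoin K ((t.image w : Finset M) : Set M)
  haveI : IsDomain E := inferInstance
  obtain ⟨θ', hθ'⟩ := H24.EssEtale.Galois.exists_residue_generator (K := K) (M := M) hE
    (hMdeg.trans hdeg.ge) L
  obtain ⟨η', _, hη', hDloc, hD, hDff, hDfin, -⟩ :=
    H24.EssEtale.Galois.exists_adjoin (A := A) (ρ θ')
  haveI := hDloc; haveI := hDff; haveI := hDfin
  have hmap : k⟮ρ θ'⟯ = (k⟮θ'⟯).map ρ := by
    rw [IntermediateField.adjoin_map, Set.image_singleton]
  have hDres : ∀ x ∈ Algebra.adjoin A ({η'} : Set S), ∃ u ∈ k⟮θ'⟯, ρ u = residue S x := fun x hx => by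
    have h := H24.EssEtale.Galois.residue_mem (A := A) hx
    rw [hη', hmap] at h
    exact h
  have hDE : Algebra.adjoin A ({η'} : Set S) ≤ E :=
    H24.EssEtale.Galois.le_adjoin hD fun x hx => by
      obtain ⟨u, -, hu⟩ := hDres x hx
      rw [hη, ← hρ, ← hu]
      exact ⟨u, rfl⟩
  let ηD : E := ⟨η', hDE (Algebra.subset_adjoin rfl)⟩
  have hL : L = K⟮algebraMap E M ηD⟯ :=
    hθ' _ hD (Subalgebra.inclusion hDE) ⟨η', Algebra.subset_adjoin rfl⟩ (fun x => by
      obtain ⟨u, hu, hu'⟩ := hDres _ x.2
      have : u = residue E (Subalgebra.inclusion hDE x) :=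
        ρ.toRingHom.injective (hu'.trans (hρres (Subalgebra.inclusion hDE x)).symm)
      exact this ▸ hu)
      (ρ.injective ((hρres ηD).trans hη'))
  -- comparison
  have hLΩ : (L.map ι) = IntermediateField.adjoin K (t : Set Ω) := by
    rw [IntermediateField.adjoin_map, Finset.coe_image, Set.image_image]
    exact congrArg (IntermediateField.adjoin K) ((Set.image_congr fun v hv => hw v hv).trans
      (Set.image_id' _))
  have hcl : ((Subfield.closure (Set.range (algebraMap A Ω) ∪ (t : Set Ω))) : Set Ω) =
      (IntermediateField.adjoin K ({algebraMap S Ω η'} : Set Ω) : Set Ω) := by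
    have e1 : IntermediateField.adjoin K ({algebraMap S Ω η'} : Set Ω) =
        IntermediateField.adjoin K (t : Set Ω) := by
      rw [← hLΩ, hL, IntermediateField.adjoin_map, Set.image_singleton]
      exact congrArg (fun z => K⟮z⟯) (hι ηD).symm
    rw [e1]
    refine Set.Subset.antisymm ?_ ?_
    · exact SetLike.coe_subset_coe.mpr (Subfield.closure_le.mpr (Set.union_subset
        (by rintro _ ⟨a, rfl⟩; rw [IsScalarTower.algebraMap_apply A K Ω]
            exact IntermediateField.algebraMap_mem _ _)
        (IntermediateField.subset_adjoin K (t : Set Ω))) :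
        _ ≤ (IntermediateField.adjoin K (t : Set Ω)).toSubfield)
    · refine SetLike.coe_subset_coe.mpr (IntermediateField.adjoin_le_iff.mpr
        (fun z hz => Subfield.subset_closure (Or.inr hz)) : _ ≤
          Subfield.toIntermediateField (Subfield.closure (Set.range (algebraMap A Ω) ∪ (t : Set Ω)))
            fun c => ?_)
      obtain ⟨a, b, -, rfl⟩ := IsFractionRing.div_surjective A c
      rw [map_div₀, ← IsScalarTower.algebraMap_apply, ← IsScalarTower.algebraMap_apply]
      exact div_mem (Subfield.subset_closure (Or.inl ⟨a, rfl⟩))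
        (Subfield.subset_closure (Or.inl ⟨b, rfl⟩))
  refine ⟨Algebra.adjoin A ({η'} : Set S), ?_, inferInstance, hDloc, hD⟩
  rw [hcl]
  ext x
  refine ⟨fun hx => ?_, fun hx => ?_⟩
  · show algebraMap S Ω x ∈ IntermediateField.adjoin K ({algebraMap S Ω η'} : Set Ω)
    change x ∈ Algebra.adjoin A ({η'} : Set S) at hx
    induction hx using Algebra.adjoin_induction with
    | mem z hz => rw [Set.mem_singleton_iff.mp hz]; exact IntermediateField.mem_adjoin_simple_self _ _
    | algebraMap r =>
      rw [← IsScalarTower.algebraMap_apply, IsScalarTower.algebraMap_apply A K Ω]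
      exact IntermediateField.algebraMap_mem _ _
    | add u v _ _ hu hv => rw [map_add]; exact add_mem hu hv
    | mul u v _ _ hu hv => rw [map_mul]; exact mul_mem hu hv
  · have halg : IsAlgebraic K (algebraMap S Ω η') := by
      have h1 : IsIntegral A η' :=
        (Algebra.IsIntegral.isIntegral (R := A)
          (⟨η', Algebra.subset_adjoin rfl⟩ : Algebra.adjoin A ({η'} : Set S))).map
            (Algebra.adjoin A ({η'} : Set S)).val
      exact ((h1.map (IsScalarTower.toAlgHom A S Ω)).tower_top).isAlgebraic
    have hx' : algebraMap S Ω x ∈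
        (IntermediateField.adjoin K ({algebraMap S Ω η'} : Set Ω)).toSubalgebra := hx
    rw [IntermediateField.adjoin_simple_toSubalgebra_of_isAlgebraic halg] at hx'
    have key : ∀ z ∈ Algebra.adjoin K ({algebraMap S Ω η'} : Set Ω), ∃ a : A, a ≠ 0 ∧
        ∃ d ∈ Algebra.adjoin A ({η'} : Set S), algebraMap A Ω a * z = algebraMap S Ω d := by
      intro z hz
      induction hz using Algebra.adjoin_induction with
      | mem z hz =>
        exact ⟨1, one_ne_zero, η', Algebra.subset_adjoin rfl, by
          rw [map_one, one_mul, Set.mem_singleton_iff.mp hz]⟩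
      | algebraMap c =>
        obtain ⟨a, b, hb, rfl⟩ := IsFractionRing.div_surjective A c
        refine ⟨b, nonZeroDivisors.ne_zero hb, algebraMap A S a, Subalgebra.algebraMap_mem _ a, ?_⟩
        rw [map_div₀, ← IsScalarTower.algebraMap_apply, ← IsScalarTower.algebraMap_apply,
          ← IsScalarTower.algebraMap_apply, mul_div_cancel₀]
        exact (map_ne_zero_iff _ (FaithfulSMul.algebraMap_injective A Ω)).mpr
          (nonZeroDivisors.ne_zero hb)
      | add u v _ _ hu hv =>
        obtain ⟨a, ha, d, hd, hu⟩ := hu
        obtain ⟨b, hb, e, he, hv⟩ := hv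
        refine ⟨a * b, mul_ne_zero ha hb, algebraMap A S b * d + algebraMap A S a * e,
          add_mem (mul_mem (Subalgebra.algebraMap_mem _ _) hd)
            (mul_mem (Subalgebra.algebraMap_mem _ _) he), ?_⟩
        rw [map_add, map_mul, map_mul, map_mul, ← hu, ← hv, ← IsScalarTower.algebraMap_apply,
          ← IsScalarTower.algebraMap_apply]
        ring
      | mul u v _ _ hu hv =>
        obtain ⟨a, ha, d, hd, hu⟩ := hu
        obtain ⟨b, hb, e, he, hv⟩ := hv
        refine ⟨a * b, mul_ne_zero ha hb, d * e, mul_mem hd he, ?_⟩
        rw [map_mul, map_mul, ← hu, ← hv]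
        ring
    obtain ⟨a, ha, d, hd, hxd⟩ := key _ hx'
    refine H24.EssEtale.Normal.mem_of_mul_eq (q := algebraMap A S a) hd
      (Subalgebra.algebraMap_mem _ _)
      ((map_ne_zero_iff _ (FaithfulSMul.algebraMap_injective A S)).mpr ha)
      (IsFractionRing.injective S Ω ?_)
    rw [map_mul, ← IsScalarTower.algebraMap_apply, mul_comm]
    exact hxd

end Groth.Agent.S16434
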