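import Groth.Statements.S16436
import Groth.Agent.Lib.Unram.StrictNoetherian

set_option autoImplicit false
universe u
open Hensel

namespace Groth.Agent.S16436

/-- Let A be an excellent henselian reduced local ring, S a strict henselization of A and D an
A-subalgebra of S which is finitely generated as an A-module. Write D' for the integral closure of D
in its total ring of fractions. Then D is etale over A and every minimal prime ideal of S is
generated by its contraction to D, if and only if, for every maximal ideal M of D' with residue
field l, writing k_0 for the subfield of l generated by the image of D (the image itself, a copy of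
the residue field of D), k_0 is separably closed in l: every element of l separable over k_0 lies in
k_0. -/
theorem result
    (A S : Type u) [CommRing A] [HenselianLocalRing A] [IsReduced A] (hA : EGA4.IsExcellent A)
    [CommRing S] [IsLocalRing S] [Algebra A S] [IsLocalHom (algebraMap A S)]
    [Hensel.IsStrictHenselization A S] (D : Subalgebra A S) [Module.Finite A D] :
    (Algebra.Etale A D ∧
        ∀ Q ∈ minimalPrimes S, Q = Ideal.map (algebraMap D S) (Q.comap (algebraMap D S))) ↔
      ∀ (M : Ideal (integralClosure D (FractionRing D))) [M.IsMaximal],
        separableClosure (Subfield.closure (Set.range ((algebraMap (integralClosure D (FractionRing D)) M.ResidueField).comp (algebraMap D (integralClosure D (FractionRing D)))))) M.ResidueField = ⊥ := by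
  haveI : IsNoetherianRing A := hA.1
  constructor
  · rintro ⟨hE, hext⟩ M hM
    refine @Groth.Agent.Lib.Unram.StrictNoetherian.bot_of_le_unr A S _ _ _ _ _ _ _ _ _ D ?_ hext M _
    haveI := hE
    haveI := Groth.Agent.Lib.Unram.StrictStage.isLocalRing_sub D
    haveI := Groth.Agent.Lib.Unram.StrictStage.isLocalHom_sub D
    haveI : IsLocalHom (algebraMap A D) :=
      ⟨fun a ha => IsUnit.of_map (algebraMap A S) a (ha.map (algebraMap D S))⟩
    haveI := Groth.Agent.Lib.Henselian.StrictHenselization.flat A S
    have hess : EGA4loc.IsEssentiallyEtale A D := Groth.Agent.H24.EssEtale.of_flat (A := A) (B := D)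
    haveI : Module.Flat D S := Groth.Agent.H24.EssEtale.flat_of_algHom (A := A) D.val
    have hD : Groth.Agent.Lib.Unram.StrictStage.IsStage D :=
      ⟨inferInstance, inferInstance, inferInstance, hess, Module.FaithfullyFlat.of_flat_of_isLocalHom⟩
    exact fun x hx => ⟨D, hD, le_rfl, hx⟩
  · intro h
    obtain ⟨hD, hext⟩ := Groth.Agent.Lib.Unram.StrictNoetherian.eq_unr_of_bot D h
    haveI := Groth.Agent.Lib.Unram.StrictStage.finite_resField (D := D)
    obtain ⟨F, hF, hFres⟩ := Groth.Agent.Lib.Unram.StrictStage.exists_isStage (A := A)
      (Groth.Agent.Lib.Unram.StrictStage.resField D)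
    have hFD : F = D := le_antisymm (hF.le fun x hx =>
        Groth.Agent.Lib.Unram.StrictStage.mem_resField.mp (hFres ▸ (⟨x, hx, rfl⟩ :
          IsLocalRing.residue S x ∈ Groth.Agent.Lib.Unram.StrictStage.resField F)))
      (hD.le.trans (Groth.Agent.Lib.Unram.StrictStage.unr_le hFres.ge))
    subst hFD
    refine ⟨?_, hext⟩
    haveI := hF.isLocalRing
    haveI := Groth.Agent.H24.EssEtale.isLocalHom hF.essEtale
    obtain ⟨h1, h2⟩ := Groth.Agent.Lib.Henselian.EssEtale.formallyEtale hF.essEtale
    haveI := h1
    haveI : Algebra.FinitePresentation A F := Algebra.FinitePresentation.of_finiteType.mp inferInstance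
    exact ⟨inferInstance, inferInstance⟩

end Groth.Agent.S16436
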