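import Groth.Statements.S16437
import Groth.Agent.H46.BranchEmb

set_option autoImplicit false
universe u
open Hensel

namespace Groth.Agent.S16437

open IsLocalRing in
/-- Let A be an excellent henselian local domain with residue field k, whose integral closure A' in its
fraction field is a local ring (as it is, A being henselian) with local inclusion A → A' and residue
field k'; let k^s be the separable closure of k in k', S a strict henselization of A, and E a local
ring which is an essentially etale local A-algebra with local structure map, together with an
A-algebra map E → S. Then every minimal prime ideal of S is generated by its contraction to E if and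
only if the number of k-algebra maps from k^s to the residue field of E equals the degree [k^s : k];
equivalently, the minimal polynomial of a primitive element of k^s over k splits into linear factors
over the residue field of E. -/
theorem result
    (A S E : Type u) [CommRing A] [HenselianLocalRing A] [IsDomain A] (hA : EGA4.IsExcellent A)
    [IsLocalRing (integralClosure A (FractionRing A))] [IsLocalHom (algebraMap A (integralClosure A (FractionRing A)))]
    [CommRing S] [IsLocalRing S] [Algebra A S] [IsLocalHom (algebraMap A S)]
    [Hensel.IsStrictHenselization A S]
    [CommRing E] [IsLocalRing E] [Algebra A E] [IsLocalHom (algebraMap A E)]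
    (hE : EGA4loc.IsEssentiallyEtale A E) [Algebra E S] [IsScalarTower A E S] :
    (∀ Q ∈ minimalPrimes S, Q = Ideal.map (algebraMap E S) (Q.comap (algebraMap E S))) ↔
      Nat.card (separableClosure (ResidueField A) (ResidueField (integralClosure A (FractionRing A))) →ₐ[ResidueField A]
          ResidueField E) =
        Module.finrank (ResidueField A)
          (separableClosure (ResidueField A) (ResidueField (integralClosure A (FractionRing A)))) := by
  classical
  haveI : IsNoetherianRing A := hA.1
  haveI : IsLocalHom (algebraMap E S) :=
    Groth.Agent.Lib.Henselian.EssEtale.isLocalHom_algHom hE (IsScalarTower.toAlgHom A E S)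
  haveI hsc := Hensel.IsStrictHenselization.isSepClosure (R := A) (S := S)
  haveI := hsc.sep_closed
  haveI := hsc.separable
  haveI := Groth.Agent.H46.BranchEmb.finite_separableClosure (A := A) S
  let K := separableClosure (ResidueField A) (ResidueField (integralClosure A (FractionRing A)))
  let ρ := IsScalarTower.toAlgHom (ResidueField A) (ResidueField E) (ResidueField S)
  let D : Subalgebra A S := (IsScalarTower.toAlgHom A E S).range
  let π : E →+* D := (IsScalarTower.toAlgHom A E S).rangeRestrict.toRingHom
  have hπ : Function.Surjective π := (IsScalarTower.toAlgHom A E S).rangeRestrict_surjective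
  have hres : ∀ z, z ∈ Groth.Agent.Lib.Unram.StrictStage.resField D ↔ z ∈ ρ.fieldRange := by
    intro z
    rw [Groth.Agent.Lib.Unram.StrictStage.mem_resField]
    constructor
    · rintro ⟨_, ⟨e, rfl⟩, rfl⟩
      exact ⟨residue E e, rfl⟩
    · rintro ⟨c, rfl⟩
      obtain ⟨e, rfl⟩ := residue_surjective c
      exact ⟨algebraMap E S e, ⟨e, rfl⟩, rfl⟩
  have hcard : Nat.card (K →ₐ[ResidueField A] ResidueField S) = Module.finrank (ResidueField A) K :=
    AlgHom.natCard_of_splits _ _ _ fun x =>
      IsSepClosed.splits_codomain _ (Algebra.IsSeparable.isSeparable _ x)
  have hfin : Finite (K →ₐ[ResidueField A] ResidueField S) :=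
    Nat.finite_of_card_ne_zero (hcard ▸ Module.finrank_pos.ne')
  let post : (K →ₐ[ResidueField A] ResidueField E) → (K →ₐ[ResidueField A] ResidueField S) := ρ.comp
  have hpost : Function.Injective post := fun f g h =>
    AlgHom.ext fun x => ρ.toRingHom.injective (AlgHom.congr_fun h x)
  constructor
  · intro h
    have hsurj : Function.Surjective post := fun σ => by
      have hσ := Groth.Agent.H46.BranchEmb.forall_of_extended E hE h σ
      let σ' : K →ₐ[ResidueField A] ρ.fieldRange := σ.codRestrict ρ.fieldRange.toSubalgebra hσ
      refine ⟨(AlgEquiv.ofInjectiveField ρ).symm.toAlgHom.comp σ', AlgHom.ext fun x => ?_⟩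
      exact congrArg Subtype.val ((AlgEquiv.ofInjectiveField ρ).apply_symm_apply (σ' x))
    exact (Nat.card_congr (Equiv.ofBijective post ⟨hpost, hsurj⟩)).trans hcard
  · intro hN Q hQ
    have hsurj : Function.Surjective post :=
      (hpost.bijective_of_nat_card_le (hcard.trans hN.symm).le).2
    have h1 := Groth.Agent.H46.BranchEmb.extended_of_forall (A := A) D (fun σ x => by
      obtain ⟨f, rfl⟩ := hsurj σ
      exact (hres _).mpr ⟨f x, rfl⟩) hQ
    conv_lhs => rw [h1]
    rw [show algebraMap E S = (algebraMap D S).comp π from rfl, ← Ideal.map_map, ← Ideal.comap_comap,
      Ideal.map_comap_of_surjective _ hπ]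

end Groth.Agent.S16437
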