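import Groth.Statements.S16443
import Groth.Agent.H24.EssEtale.Normalization

set_option autoImplicit false
universe u
open EGA4loc

namespace Groth.Agent.S16443

/-- Let A be a reduced local ring with finitely many minimal prime ideals, E a local ring which is an
essentially etale local A-algebra with local structure map, K_E the total ring of fractions of E,
and L an A-subalgebra of K_E containing an inverse of the image of every non-zero-divisor of A (so L
is an intermediate ring between the total rings of fractions of A and of E). Then the preimage D of
L in E is (the underlying set of) an A-subalgebra of E which is a local ring with local inclusion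
into E — its maximal ideal lies under that of E — and L is the total ring of fractions of D in the
sense that every element of L is the image of an element of D times the inverse of the image of a
non-zero-divisor of A. -/
theorem result
    (A E : Type u) [CommRing A] [IsLocalRing A] [IsReduced A] (hmin : (minimalPrimes A).Finite)
    [CommRing E] [IsLocalRing E] [Algebra A E] [IsLocalHom (algebraMap A E)]
    (hE : EGA4loc.IsEssentiallyEtale A E) (L : Subalgebra A (FractionRing E))
    (hL : ∀ s ∈ nonZeroDivisors A, ∃ y ∈ L, algebraMap A (FractionRing E) s * y = 1) :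
    ∃ D : Subalgebra A E, (D : Set E) = (algebraMap E (FractionRing E)) ⁻¹' (L : Set (FractionRing E)) ∧
      ∃ _ : IsLocalRing D, IsLocalHom (algebraMap D E) ∧
        ∀ l ∈ L, ∃ d ∈ D, ∃ s ∈ nonZeroDivisors A, ∃ y ∈ L,
          algebraMap A (FractionRing E) s * y = 1 ∧ l = algebraMap E (FractionRing E) d * y := by
  haveI := H24.EssEtale.Fractions.isArtinianRing_fractionRing A hmin
  haveI := H24.EssEtale.Fractions.isLocalization_fractionRing A E hE
  let M := FractionRing E
  let D : Subalgebra A E := L.comap (IsScalarTower.toAlgHom A E M)
  have hloc : IsLocalHom (algebraMap D E) := ⟨fun d hd => by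
    obtain ⟨v, hv⟩ := (show IsUnit (d : E) from hd).exists_right_inv
    have hu : IsUnit (⟨algebraMap E M d, d.2⟩ : L) :=
      H24.EssEtale.Normalization.exists_inv_mem hE L hL
        ((show IsUnit (d : E) from hd).map (algebraMap E M))
    obtain ⟨w, hw⟩ := hu.exists_right_inv
    have hw' : algebraMap E M (d : E) * (w : M) = 1 := congrArg Subtype.val hw
    have hvL : algebraMap E M v ∈ L := by
      have h : algebraMap E M v = (w : M) := left_inv_eq_right_inv
        (by rw [mul_comm, ← map_mul, hv, map_one]) hw'
      rw [h]; exact w.2
    exact isUnit_iff_exists_inv.mpr ⟨⟨v, hvL⟩, Subtype.ext hv⟩⟩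
  refine ⟨D, rfl, RingHom.domain_isLocalRing (algebraMap D E), hloc, fun l hl => ?_⟩
  obtain ⟨⟨e, s, hs⟩, he⟩ := IsLocalization.surj (Algebra.algebraMapSubmonoid E (nonZeroDivisors A)) l
  obtain ⟨a, ha, rfl⟩ := hs
  obtain ⟨y, hy, hay⟩ := hL a ha
  have he' : l * algebraMap A M a = algebraMap E M e := by
    rw [IsScalarTower.algebraMap_apply A E M]; exact he
  refine ⟨e, ?_, a, ha, y, hy, hay, ?_⟩
  · show algebraMap E M e ∈ L
    rw [← he']
    exact mul_mem hl (L.algebraMap_mem a)
  · linear_combination y * he' - l * hay

end Groth.Agent.S16443
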