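import Groth.Statements.S16444
import Groth.Agent.Lib.Henselian.EssEtale
import Groth.Agent.Lib.Henselian.FiniteEtale
import Groth.Agent.Lib.Henselian.QFLocalization
import Mathlib.RingTheory.Unramified.LocalRing
import Mathlib.RingTheory.Etale.Field
import Mathlib.RingTheory.AdicCompletion.Basic

set_option autoImplicit false
universe u
open scoped TensorProduct
open Hensel

namespace Groth.Agent.S16444

open Groth.Agent.Lib.Henselian IsLocalRing TensorProduct

open IsLocalRing in
/-- Let A be a complete Noetherian local ring and R → A a local homomorphism from a henselian Noetherian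
local ring R inducing a bijection on residue fields. Then every local ring E which is an essentially
etale local A-algebra with local structure map is A-isomorphic to A ⊗_R S for some local ring S
which is a finite etale R-algebra (its residue field is then that of E). (The published statement
takes R to be a coefficient ring of A, that is a field or an image of a complete p-ring with the
same residue field; its proof uses only that R is henselian with the same residue field as A, which
is the hypothesis made here.) -/
theorem result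
    (R A E : Type u) [CommRing R] [HenselianLocalRing R] [IsNoetherianRing R]
    [CommRing A] [IsLocalRing A] [IsNoetherianRing A] [IsAdicComplete (maximalIdeal A) A]
    [Algebra R A] [IsLocalHom (algebraMap R A)]
    (hres : Function.Bijective (ResidueField.map (algebraMap R A)))
    [CommRing E] [IsLocalRing E] [Algebra A E] [IsLocalHom (algebraMap A E)]
    (hE : EGA4loc.IsEssentiallyEtale A E) :
    ∃ (S : Type u) (_ : CommRing S) (_ : IsLocalRing S) (_ : Algebra R S),
      Module.Finite R S ∧ Algebra.Etale R S ∧ Nonempty (E ≃ₐ[A] A ⊗[R] S) := by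
  classical
  have := IsAdicComplete.henselianRing A (maximalIdeal A)
  have : HenselianLocalRing A := LocalRing.henselianLocalRing_of_henselianRing
  have hfe := (EssEtale.formallyEtale hE).1
  have hef := (EssEtale.formallyEtale hE).2
  -- `E` is finite
  have : Module.Finite A E := by
    obtain ⟨C, _, _, q, _, hC, hq, ⟨e⟩⟩ := id hE
    have := hC
    have : q.LiesOver (maximalIdeal A) := ⟨hq.symm⟩
    have := QFLocalization.finite_localization (A := A) q
    exact Module.Finite.equiv e.symm.toLinearEquiv
  have : HenselianLocalRing E := LocalRing.henselianLocalRing_of_isIntegral A E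
  -- the residue extension over `R`
  let k := R ⧸ maximalIdeal R
  let : Field k := Ideal.Quotient.field _
  let er : k ≃+* ResidueField A := RingEquiv.ofBijective _ hres
  let : Algebra k (ResidueField E) :=
    ((algebraMap (ResidueField A) (ResidueField E)).comp er.toRingHom).toAlgebra
  have : Module.Finite k (ResidueField E) :=
    Module.Finite.of_equiv_equiv (A₁ := ResidueField A) (B₁ := ResidueField E) er.symm (RingEquiv.refl _) (by
      ext x; simp [RingHom.algebraMap_toAlgebra])
  have hsep : Algebra.IsSeparable (ResidueField A) (ResidueField E) := inferInstance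
  have : Algebra.IsSeparable k (ResidueField E) :=
    Algebra.IsSeparable.of_equiv_equiv (A₁ := ResidueField A) (B₁ := ResidueField E) er.symm (RingEquiv.refl _) (by
      ext x; simp [RingHom.algebraMap_toAlgebra])
  have : Algebra.FinitePresentation k (ResidueField E) := Algebra.FinitePresentation.of_finiteType.mp inferInstance
  have : Algebra.Etale k (ResidueField E) := { formallyEtale := Algebra.FormallyEtale.of_isSeparable _ _ }
  let : Algebra R E := ((algebraMap A E).comp (algebraMap R A)).toAlgebra
  have : IsScalarTower R A E := IsScalarTower.of_algebraMap_eq' rfl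
  have : HenselianRing R (maximalIdeal R) := LocalRing.henselianLocalRing_iff_henselianRing.mp inferInstance
  obtain ⟨S, _, _, hSfin, hSet, ⟨σ⟩⟩ := FiniteEtale.exists_finite_etale_lift (maximalIdeal R) (ResidueField E)
  -- `S → κ_E`
  let ρ : S →+* ResidueField E :=
    σ.toRingEquiv.toRingHom.comp (Algebra.TensorProduct.includeRight : S →ₐ[R] k ⊗[R] S).toRingHom
  have hρR : ∀ r, ρ (algebraMap R S r) = residue E (algebraMap A E (algebraMap R A r)) := fun r => by
    show σ ((Algebra.TensorProduct.includeRight : S →ₐ[R] k ⊗[R] S) (algebraMap R S r)) = _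
    rw [AlgHom.commutes, IsScalarTower.algebraMap_apply R k (k ⊗[R] S), AlgEquiv.commutes]
    rfl
  have hρsurj : Function.Surjective ρ := fun y => by
    obtain ⟨x, rfl⟩ := σ.surjective y
    induction x using TensorProduct.induction_on with
    | zero => exact ⟨0, by simp⟩
    | tmul c s =>
      obtain ⟨r, rfl⟩ := Ideal.Quotient.mk_surjective c
      refine ⟨r • s, congrArg σ ?_⟩
      show (1 : k) ⊗ₜ[R] (r • s) = _
      rw [← TensorProduct.smul_tmul, Algebra.smul_def, mul_one]
      rfl
    | add x y hx hy =>
      obtain ⟨a, ha⟩ := hx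
      obtain ⟨b, hb⟩ := hy
      exact ⟨a + b, by rw [map_add, ha, hb, map_add]⟩
  have hker : RingHom.ker ρ = (maximalIdeal R).map (algebraMap R S) := by
    refine le_antisymm (fun s hs => ?_) (Ideal.map_le_iff_le_comap.mpr fun r hr => ?_)
    · have h1 : (1 : k) ⊗ₜ[R] s = 0 := σ.injective (hs.trans (map_zero _).symm)
      refine Ideal.Quotient.eq_zero_iff_mem.mp
        ((Algebra.TensorProduct.quotIdealMapEquivQuotTensor S (maximalIdeal R)).injective ?_)
      rw [map_zero]
      exact h1
    · rw [Ideal.mem_comap, RingHom.mem_ker, hρR, residue_eq_zero_iff]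
      exact map_nonunit (algebraMap A E) _ (map_nonunit (algebraMap R A) r hr)
  have hSloc : IsLocalRing S := by
    have hM : (RingHom.ker ρ).IsMaximal := RingHom.ker_isMaximal_of_surjective ρ hρsurj
    refine IsLocalRing.of_unique_max_ideal ⟨_, hM, fun P hP => (hM.eq_of_le hP.ne_top ?_).symm⟩
    rw [hker]
    exact Ideal.map_le_iff_le_comap.mpr
      (eq_maximalIdeal (Ideal.isMaximal_comap_of_isIntegral_of_isMaximal (R := R) P)).ge
  -- `T = A ⊗ S`
  let ρ' : S →ₐ[R] ResidueField E := ⟨ρ, fun r => (hρR r).trans (by
    rw [IsScalarTower.algebraMap_apply R A (ResidueField E), IsScalarTower.algebraMap_apply A E (ResidueField E)]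
    rfl)⟩
  let φ : A ⊗[R] S →ₐ[A] ResidueField E := Algebra.TensorProduct.lift (Algebra.ofId A _) ρ' fun _ _ => .all _ _
  have hφsurj : Function.Surjective φ := fun y => by
    obtain ⟨s, rfl⟩ := hρsurj y
    exact ⟨(1 : A) ⊗ₜ s, by simp [φ, ρ']⟩
  let mT := (maximalIdeal A).map (algebraMap A (A ⊗[R] S))
  have key : ∀ x : A ⊗[R] S, ∃ s : S, x - (1 : A) ⊗ₜ s ∈ mT := by
    intro x
    induction x using TensorProduct.induction_on with
    | zero => exact ⟨0, by simp⟩
    | tmul a s =>
      obtain ⟨r', hr⟩ := hres.2 (residue A a)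
      obtain ⟨r, rfl⟩ := residue_surjective r'
      rw [ResidueField.map_residue] at hr
      refine ⟨r • s, ?_⟩
      have e : a ⊗ₜ[R] s - (1 : A) ⊗ₜ[R] (r • s) =
          algebraMap A (A ⊗[R] S) (a - algebraMap R A r) * ((1 : A) ⊗ₜ[R] s) := by
        rw [← TensorProduct.smul_tmul, ← Algebra.algebraMap_eq_smul_one, Algebra.TensorProduct.algebraMap_apply,
          Algebra.TensorProduct.tmul_mul_tmul, ← TensorProduct.sub_tmul]
        simp
      rw [e]
      exact Ideal.mul_mem_right _ _ (Ideal.mem_map_of_mem _ (Ideal.Quotient.eq.mp hr.symm))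
    | add x y hx hy =>
      obtain ⟨s, hs⟩ := hx
      obtain ⟨t, ht⟩ := hy
      exact ⟨s + t, by rw [TensorProduct.tmul_add, add_sub_add_comm]; exact add_mem hs ht⟩
  have hmker : mT ≤ RingHom.ker φ := Ideal.map_le_iff_le_comap.mpr fun a ha => by
    rw [Ideal.mem_comap, RingHom.mem_ker, AlgHom.commutes, IsScalarTower.algebraMap_apply A E (ResidueField E)]
    exact (residue_eq_zero_iff _).mpr (map_nonunit (algebraMap A E) a ha)
  have hkerm : RingHom.ker φ ≤ mT := fun x hx => by
    obtain ⟨s, hs⟩ := key x
    have h1 : s ∈ RingHom.ker ρ := by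
      have h2 : φ (x - (1 : A) ⊗ₜ s) = 0 := hmker hs
      rw [map_sub, RingHom.mem_ker.mp hx, zero_sub, neg_eq_zero] at h2
      simpa [φ, ρ'] using h2
    rw [hker] at h1
    have h3 : (1 : A) ⊗ₜ[R] s ∈ mT := by
      have : ((maximalIdeal R).map (algebraMap R S)).map
          (Algebra.TensorProduct.includeRight : S →ₐ[R] A ⊗[R] S).toRingHom ≤ mT := by
        rw [Ideal.map_map, Ideal.map_le_iff_le_comap]
        intro r hr
        rw [Ideal.mem_comap, RingHom.comp_apply]
        show (Algebra.TensorProduct.includeRight : S →ₐ[R] A ⊗[R] S) (algebraMap R S r) ∈ mT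
        rw [AlgHom.commutes, IsScalarTower.algebraMap_apply R A (A ⊗[R] S)]
        exact Ideal.mem_map_of_mem _ (map_nonunit (algebraMap R A) r hr)
      exact this (Ideal.mem_map_of_mem _ h1)
    simpa using add_mem hs h3
  have hM : (RingHom.ker φ).IsMaximal := RingHom.ker_isMaximal_of_surjective φ.toRingHom hφsurj
  have hTloc : IsLocalRing (A ⊗[R] S) :=
    IsLocalRing.of_unique_max_ideal ⟨_, hM, fun P hP => (hM.eq_of_le hP.ne_top (hkerm.trans
      (Ideal.map_le_iff_le_comap.mpr
        (eq_maximalIdeal (Ideal.isMaximal_comap_of_isIntegral_of_isMaximal (R := A) P)).ge))).symm⟩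
  have hTm : RingHom.ker φ = maximalIdeal (A ⊗[R] S) := eq_maximalIdeal hM
  have : IsLocalHom (algebraMap A (A ⊗[R] S)) := ((local_hom_TFAE _).out 0 4 rfl rfl).mpr
    (eq_maximalIdeal (Ideal.isMaximal_comap_of_isIntegral_of_isMaximal (R := A) (maximalIdeal (A ⊗[R] S))))
  have : HenselianLocalRing (A ⊗[R] S) := LocalRing.henselianLocalRing_of_isIntegral A _
  have hT : EGA4loc.IsEssentiallyEtale A (A ⊗[R] S) := by
    refine ⟨A ⊗[R] S, inferInstance, inferInstance, maximalIdeal _, inferInstance, inferInstance,
      ((local_hom_TFAE (algebraMap A (A ⊗[R] S))).out 0 4 rfl rfl).mp inferInstance, ⟨?_⟩⟩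
    exact (IsLocalization.atUnits (A ⊗[R] S) (maximalIdeal (A ⊗[R] S)).primeCompl
      (fun y hy => not_not.mp hy)).restrictScalars A
  let α₀ : ResidueField (A ⊗[R] S) →+* ResidueField E :=
    Ideal.Quotient.lift (maximalIdeal _) φ.toRingHom fun x hx => hTm.ge hx
  have hα₀ : Function.Bijective α₀ :=
    ⟨RingHom.injective _, fun y => (hφsurj y).elim fun x hx => ⟨residue _ x, hx⟩⟩
  let α := RingEquiv.ofBijective α₀ hα₀
  have hα : ∀ a, α (residue _ (algebraMap A (A ⊗[R] S) a)) = residue E (algebraMap A E a) := fun a =>
    (φ.commutes a).trans (IsScalarTower.algebraMap_apply A E (ResidueField E) a)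
  obtain ⟨g, ⟨hgl, hg, hgres⟩, -⟩ := EssEtale.existsUnique_lift hE (A ⊗[R] S) (algebraMap A _) α.symm.toRingHom
    (RingHom.ext fun x => by
      obtain ⟨a, rfl⟩ := residue_surjective x
      rw [RingHom.comp_apply, ResidueField.map_residue, ResidueField.map_residue, RingEquiv.toRingHom_eq_coe,
        RingHom.coe_coe, RingEquiv.symm_apply_eq, hα])
  obtain ⟨f, ⟨hfl, hf, hfres⟩, -⟩ := EssEtale.existsUnique_lift hT E (algebraMap A E) α.toRingHom
    (RingHom.ext fun x => by
      obtain ⟨a, rfl⟩ := residue_surjective x
      rw [RingHom.comp_apply, ResidueField.map_residue, ResidueField.map_residue]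
      exact hα a)
  let ga : E →ₐ[A] A ⊗[R] S := ⟨g, RingHom.congr_fun hg⟩
  let fa : A ⊗[R] S →ₐ[A] E := ⟨f, RingHom.congr_fun hf⟩
  have h1 : fa.comp ga = AlgHom.id A E := EssEtale.algHom_ext hE fun x => by
    show residue E (f (g x)) = residue E x
    rw [hfres, hgres]
    exact α.apply_symm_apply _
  have h2 : ga.comp fa = AlgHom.id A _ := EssEtale.algHom_ext hT fun x => by
    show residue _ (g (f x)) = residue _ x
    rw [hgres, hfres]
    exact α.symm_apply_apply _
  exact ⟨S, inferInstance, hSloc, inferInstance, hSfin, hSet, ⟨AlgEquiv.ofAlgHom ga fa h2 h1⟩⟩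

end Groth.Agent.S16444
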