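import Groth.Statements.S16446
import Groth.Agent.Lib.Unram.StrictFractions

set_option autoImplicit false
universe u
open Hensel

namespace Groth.Agent.S16446

/-- Let A be an excellent henselian reduced local ring, S a strict henselization of A and Q a minimal
prime ideal of S with contraction q to A; let K be the fraction field of S/Q and L the subfield of K
generated over the image of A by a finite subset t of K. Then there is an A-subalgebra E of S, a
local ring and an essentially etale local A-algebra, such that (i) every minimal prime ideal of S
over the ideal qS is generated by its contraction to E, and (ii) every element of S/Q whose image in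
K lies in L is the class of an element of E — so that the intersection of L with S/Q equals its
intersection with the image of E. -/
theorem result
    (A S : Type u) [CommRing A] [HenselianLocalRing A] [IsReduced A] (hA : EGA4.IsExcellent A)
    [CommRing S] [IsLocalRing S] [Algebra A S] [IsLocalHom (algebraMap A S)]
    [Hensel.IsStrictHenselization A S] (Q : Ideal S) (hQ : Q ∈ minimalPrimes S) [Q.IsPrime]
    (t : Finset (FractionRing (S ⧸ Q))) :
    ∃ E : Subalgebra A S, ∃ _ : IsLocalRing E, EGA4loc.IsEssentiallyEtale A E ∧
      (∀ Q' ∈ ((Q.comap (algebraMap A S)).map (algebraMap A S)).minimalPrimes,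
        Q' = Ideal.map (algebraMap E S) (Q'.comap (algebraMap E S))) ∧
      ∀ x : S, algebraMap (S ⧸ Q) (FractionRing (S ⧸ Q)) (Ideal.Quotient.mk Q x) ∈
          Subfield.closure (Set.range (algebraMap A (FractionRing (S ⧸ Q))) ∪
            (t : Set (FractionRing (S ⧸ Q)))) →
        ∃ e ∈ E, Ideal.Quotient.mk Q e = Ideal.Quotient.mk Q x := by
  haveI : IsNoetherianRing A := hA.1
  haveI : IsNoetherianRing S :=
    (Groth.Agent.Lib.Henselian.Permanence.strict_isNoetherianRing_iff A S).mp inferInstance
  obtain ⟨P, hQE, hI, hP⟩ := Groth.Agent.Lib.Unram.StrictFractions.exists_stage_gen A Q t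
    ((Q.comap (algebraMap A S)).map (algebraMap A S)).minimalPrimes
    (Ideal.finite_minimalPrimes_of_isNoetherianRing S _)
  refine ⟨P.E, P.isLocalRing, P.essEtale, hI, fun x hx => ?_⟩
  obtain ⟨y, hy⟩ := Groth.Agent.Lib.Unram.StrictFractions.exists_stage_eq_of_mem Q hQE hP (x := x) hx
  exact ⟨y, y.2, (IsFractionRing.injective (S ⧸ Q) (FractionRing (S ⧸ Q)) hy).symm⟩

end Groth.Agent.S16446
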