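import Groth.Statements.S16447
import Groth.Agent.H24.EssEtale.Normalization
import Groth.Agent.H24.EssEtale.SemilocalClosure

set_option autoImplicit false
universe u
open EGA4loc

namespace Groth.Agent.S16447

theorem isMaximal_of_comap_eq {A B : Type u} [CommRing A] [IsLocalRing A] [CommRing B]
    [Algebra A B] [Algebra.IsIntegral A B] (I : Ideal B) [I.IsPrime]
    (h : I.comap (algebraMap A B) = IsLocalRing.maximalIdeal A) : I.IsMaximal :=
  Ideal.isMaximal_of_isIntegral_of_isMaximal_comap (R := A) I
    (h.symm ▸ IsLocalRing.maximalIdeal.isMaximal A)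


/-- Let A be a Noetherian reduced local ring, E a local ring which is an essentially etale local
A-algebra with local structure map, K_E the total ring of fractions of E, E' the integral closure of
E in K_E (viewed as an A-subalgebra of K_E), and L an A-subalgebra of K_E containing an inverse of
the image of every non-zero-divisor of A. Let C be the A-subalgebra L ⊓ E' of K_E. Then C is
integrally closed in L, C has only finitely many maximal ideals, the maximal ideals of C are exactly
the contractions of the maximal ideals of E', and every element of L is an element of C times the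
inverse of the image of a non-zero-divisor of A. (The published statement assumes only that A is
reduced; its proof uses that the integral closure of E in K_E has finitely many maximal ideals,
which holds when A is Noetherian and can fail otherwise, so A is taken Noetherian here.) -/
theorem result
    (A E : Type u) [CommRing A] [IsLocalRing A] [IsReduced A] [IsNoetherianRing A]
    [CommRing E] [IsLocalRing E] [Algebra A E] [IsLocalHom (algebraMap A E)]
    (hE : EGA4loc.IsEssentiallyEtale A E) (L : Subalgebra A (FractionRing E))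
    (hL : ∀ s ∈ nonZeroDivisors A, ∃ y ∈ L, algebraMap A (FractionRing E) s * y = 1)
    (C : Subalgebra A (FractionRing E))
    (hC : C = L ⊓ (integralClosure E (FractionRing E)).restrictScalars A) :
    (∀ x ∈ L, IsIntegral C x → x ∈ C) ∧
      {N : Ideal C | N.IsMaximal}.Finite ∧
      (∀ N : Ideal C, N.IsMaximal ↔ ∃ M : Ideal ((integralClosure E (FractionRing E)).restrictScalars A),
          M.IsMaximal ∧ N = M.comap (Subalgebra.inclusion (hC.trans_le inf_le_right))) ∧
      ∀ l ∈ L, ∃ c ∈ C, ∃ s ∈ nonZeroDivisors A, ∃ y ∈ L,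
        algebraMap A (FractionRing E) s * y = 1 ∧ l = c * y := by
  classical
  haveI := H24.EssEtale.Fractions.isArtinianRing_fractionRing A
    (minimalPrimes.finite_of_isNoetherianRing A)
  haveI := H24.EssEtale.Normalization.isReduced_fractionRing hE
  haveI : IsArtinianRing (FractionRing E) :=
    letI := H24.EssEtale.Normalization.algebraFrac hE
    haveI := H24.EssEtale.Normalization.finite_fractionRing hE
    isArtinian_of_tower (FractionRing A) inferInstance
  haveI : IsNoetherianRing E :=
    haveI := (Lib.Henselian.EssEtale.formallyEtale hE).2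
    Algebra.EssFiniteType.isNoetherianRing A E
  have hfinE : {N : Ideal (integralClosure E (FractionRing E)) | N.IsMaximal}.Finite :=
    H24.EssEtale.SemilocalClosure.finite_maximal_integralClosure
  obtain ⟨-, -, -, -, hint, -⟩ := H24.EssEtale.Normalization.intermediate hE L hL
  subst hC
  let C := L ⊓ (integralClosure E (FractionRing E)).restrictScalars A
  let incl : C →+* integralClosure E (FractionRing E) :=
    { toFun := fun x => ⟨x.1, x.2.2⟩
      map_one' := rfl
      map_mul' := fun _ _ => rfl
      map_zero' := rfl
      map_add' := fun _ _ => rfl }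
  have hloc : ∀ x : C, IsUnit (incl x) → IsUnit x := fun x hx => by
    obtain ⟨v, hv⟩ := hx.exists_right_inv
    have hv' : (x : FractionRing E) * (v : FractionRing E) = 1 := congrArg Subtype.val hv
    have hxL : IsUnit (⟨(x : FractionRing E), x.2.1⟩ : L) :=
      H24.EssEtale.Normalization.exists_inv_mem hE L hL (isUnit_iff_exists_inv.mpr ⟨_, hv'⟩)
    obtain ⟨w, hw⟩ := hxL.exists_right_inv
    have hw' : (x : FractionRing E) * (w : FractionRing E) = 1 := congrArg Subtype.val hw
    have heq : (v : FractionRing E) = (w : FractionRing E) :=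
      left_inv_eq_right_inv (by rw [mul_comm]; exact hv') hw'
    exact isUnit_iff_exists_inv.mpr ⟨⟨v, heq ▸ w.2, v.2⟩, Subtype.ext hv'⟩
  have hfrac : ∀ x : C, ∃ s : C, IsIntegral A (s : FractionRing E) ∧
      IsIntegral A ((x * s : C) : FractionRing E) ∧ IsUnit s := fun x => by
    obtain ⟨s, hs, hxs, hsQ⟩ := H24.EssEtale.Normalization.exists_mul_isIntegral hE L hL
      hfinE.toFinset (fun Q hQ => Ideal.IsMaximal.isPrime (hfinE.mem_toFinset.mp hQ))
      ⟨x, x.2.1⟩ x.2.2
    have hsE : IsIntegral E (s : FractionRing E) :=
      IsIntegral.tower_top (R := A) (A := E) (hs.map L.val)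
    refine ⟨⟨s, s.2, hsE⟩, hs.map L.val, hxs.map L.val, hloc _ ?_⟩
    by_contra hu
    obtain ⟨Q, hQ, hsQ'⟩ := exists_max_ideal_of_mem_nonunits hu
    exact hsQ ⟨_, hsE⟩ rfl Q (hfinE.mem_toFinset.mpr hQ) hsQ'
  -- contractions of maximal ideals are maximal
  let C₀ := integralClosure A (FractionRing E)
  have hmax : ∀ Q : Ideal (integralClosure E (FractionRing E)), Q.IsMaximal → (Q.comap incl).IsMaximal := by
    intro Q hQ
    obtain ⟨N, hN, hle⟩ := Ideal.exists_le_maximal (Q.comap incl) (Ideal.IsPrime.ne_top inferInstance)
    refine (le_antisymm hle fun x hx => ?_) ▸ hN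
    obtain ⟨s, hs, hxs, hsu⟩ := hfrac x
    -- work inside the integral closure of `A`
    let B : Subalgebra A C := integralClosure A C
    have hB : ∀ y : C, IsIntegral A (y : FractionRing E) → y ∈ B := fun y hy =>
      (isIntegral_algHom_iff C.val Subtype.val_injective).mp hy
    haveI : Algebra.IsIntegral A B := integralClosure.AlgebraIsIntegral
    haveI : Algebra.IsIntegral E (integralClosure E (FractionRing E)) :=
      integralClosure.AlgebraIsIntegral
    have hQA : ((Q.comap incl).comap B.val).comap (algebraMap A B) =
        IsLocalRing.maximalIdeal A := by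
      have h : Ideal.comap (algebraMap E (integralClosure E (FractionRing E))) Q =
          IsLocalRing.maximalIdeal E :=
        IsLocalRing.eq_maximalIdeal (Ideal.isMaximal_comap_of_isIntegral_of_isMaximal (R := E) Q)
      refine le_antisymm (IsLocalRing.le_maximalIdeal (Ideal.IsPrime.ne_top inferInstance))
        fun a ha => ?_
      have : algebraMap A E a ∈ IsLocalRing.maximalIdeal E := by
        rw [IsLocalRing.mem_maximalIdeal, mem_nonunits_iff] at ha ⊢
        exact fun hu => ha (IsLocalHom.map_nonunit a hu)
      rw [← h] at this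
      exact this
    have hB0 : ((Q.comap incl).comap B.val).IsMaximal := isMaximal_of_comap_eq (A := A) (B := B) _ hQA
    have heq : (Q.comap incl).comap B.val = N.comap B.val :=
      hB0.eq_of_le (Ideal.IsPrime.ne_top (Ideal.IsPrime.comap _)) (Ideal.comap_mono hle)
    have hxsN : (⟨x * s, hB _ hxs⟩ : B) ∈ N.comap B.val := Ideal.mul_mem_right _ _ hx
    rw [← heq] at hxsN
    exact (Ideal.IsPrime.mem_or_mem inferInstance (show x * s ∈ Q.comap incl from hxsN)).resolve_right
      fun h => (Ideal.IsPrime.ne_top (inferInstance : (Q.comap incl).IsPrime))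
        (Ideal.eq_top_of_isUnit_mem _ h hsu)
  have hex : ∀ N : Ideal C, N.IsMaximal → ∃ Q : Ideal (integralClosure E (FractionRing E)), Q.IsMaximal ∧ N = Q.comap incl := by
    intro N hN
    have hsub : (N : Set C) ⊆ ⋃ Q ∈ (hfinE.toFinset : Set (Ideal (integralClosure E (FractionRing E)))),
        ((Q.comap incl : Ideal C) : Set C) := fun x hx => by
      have hu : ¬ IsUnit (incl x) := fun hu =>
        hN.ne_top (Ideal.eq_top_of_isUnit_mem _ hx (hloc x hu))
      obtain ⟨Q, hQ, hxQ⟩ := exists_max_ideal_of_mem_nonunits hu
      exact Set.mem_biUnion (hfinE.mem_toFinset.mpr hQ) hxQ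
    obtain ⟨Q, hQ, hle⟩ := (Ideal.subset_union_prime (s := hfinE.toFinset)
      (f := fun Q : Ideal (integralClosure E (FractionRing E)) => Q.comap incl) ⊥ ⊥ (fun Q hQ _ _ => by
        haveI : Q.IsMaximal := hfinE.mem_toFinset.mp hQ
        exact Ideal.IsPrime.comap _)).mp hsub
    have hQm : Q.IsMaximal := hfinE.mem_toFinset.mp hQ
    exact ⟨Q, hQm, hN.eq_of_le (hmax Q hQm).ne_top hle⟩
  refine ⟨fun x hx hxint => ⟨hx, ?_⟩, ?_, fun N => ⟨hex N, fun ⟨Q, hQ, h⟩ => h ▸ hmax Q hQ⟩, ?_⟩
  · show IsIntegral E x
    obtain ⟨p, hp, hpx⟩ := hxint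
    haveI : Algebra.IsIntegral E (integralClosure E (FractionRing E)) :=
      integralClosure.AlgebraIsIntegral
    refine isIntegral_trans (A := integralClosure E (FractionRing E)) x
      ⟨p.map incl, hp.map _, ?_⟩
    rw [Polynomial.eval₂_map]
    exact hpx
  · exact (hfinE.image fun Q : Ideal (integralClosure E (FractionRing E)) => Q.comap incl).subset fun N hN => by
      obtain ⟨Q, hQ, rfl⟩ := hex N hN
      exact Set.mem_image_of_mem _ hQ
  · intro l hl
    obtain ⟨a, ha, hal⟩ := hint ⟨l, hl⟩
    obtain ⟨y, hy, hay⟩ := hL a ha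
    refine ⟨algebraMap A (FractionRing E) a * l,
      ⟨mul_mem (L.algebraMap_mem a) hl, IsIntegral.tower_top (R := A) (A := E) (hal.map L.val)⟩,
      a, ha, y, hy, hay, ?_⟩
    linear_combination (-l) * hay

end Groth.Agent.S16447
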