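import Groth.Statements.S16449
import Groth.Agent.H24.EssEtale.Normalization
import Groth.Agent.S2654

set_option autoImplicit false
universe u
open EGA4loc

namespace Groth.Agent.S16449

/-- Let A be an excellent reduced local ring, E a local ring which is an essentially etale local
A-algebra with local structure map, and D an A-subalgebra of E which is a local ring dominated by E
(local inclusion). Inside the total ring of fractions K_E of E, let D' be the normalization of D —
the elements of K_E integral over D which are carried into D by the image of some non-zero-divisor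
of A (these are the elements of the total ring of fractions of D) — and let E' be the integral
closure of E. Suppose that D' has finitely many maximal ideals and that the inclusion D' → E' is a
semilocal morphism: maximal ideals of E' contract to maximal ideals of D', and every maximal ideal
of D' arises this way. Then D is essentially of finite type over A. -/
theorem result
    (A E : Type u) [CommRing A] [IsLocalRing A] [IsReduced A] (hA : EGA4.IsExcellent A)
    [CommRing E] [IsLocalRing E] [Algebra A E] [IsLocalHom (algebraMap A E)]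
    (hE : EGA4loc.IsEssentiallyEtale A E)
    (D : Subalgebra A E) [IsLocalRing D] [IsLocalHom (algebraMap D E)]
    (D' : Subalgebra A (FractionRing E))
    (hD' : ∀ x : (FractionRing E), x ∈ D' ↔ (IsIntegral D x ∧
      ∃ a ∈ nonZeroDivisors A, ∃ d ∈ D, algebraMap A (FractionRing E) a * x = algebraMap E (FractionRing E) d))
    (hle : D' ≤ ((integralClosure E (FractionRing E)).restrictScalars A))
    (hfin : {N : Ideal D' | N.IsMaximal}.Finite)
    (hmax : ∀ M : Ideal ((integralClosure E (FractionRing E)).restrictScalars A), M.IsMaximal → (M.comap (Subalgebra.inclusion hle)).IsMaximal)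
    (hsurj : ∀ N : Ideal D', N.IsMaximal →
      ∃ M : Ideal ((integralClosure E (FractionRing E)).restrictScalars A), M.IsMaximal ∧ M.comap (Subalgebra.inclusion hle) = N) :
    Algebra.EssFiniteType A D := by
  classical
  haveI : IsNoetherianRing A := hA.1
  have hNag : CAlg.IsNagata A := S2654.result A ⟨hA.1, hA.2.2.1, hA.2.2.2⟩
  haveI := H24.EssEtale.Fractions.isArtinianRing_fractionRing A
    (minimalPrimes.finite_of_isNoetherianRing A)
  let M := FractionRing E
  -- the fractions of `D`
  let L : Subalgebra A M :=
    { carrier := {x | ∃ a ∈ nonZeroDivisors A, ∃ d ∈ D, algebraMap A M a * x = algebraMap E M d}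
      mul_mem' := by
        rintro x y ⟨a, ha, d, hd, h⟩ ⟨b, hb, e, he, h'⟩
        refine ⟨a * b, mul_mem ha hb, d * e, mul_mem hd he, ?_⟩
        rw [map_mul, map_mul, ← h, ← h']; ring
      add_mem' := by
        rintro x y ⟨a, ha, d, hd, h⟩ ⟨b, hb, e, he, h'⟩
        refine ⟨a * b, mul_mem ha hb, algebraMap A E b * d + algebraMap A E a * e,
          add_mem (mul_mem (D.algebraMap_mem b) hd) (mul_mem (D.algebraMap_mem a) he), ?_⟩
        rw [map_mul, map_add, map_mul, map_mul, ← h, ← h', ← IsScalarTower.algebraMap_apply,
          ← IsScalarTower.algebraMap_apply]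
        ring
      algebraMap_mem' := fun r => ⟨1, one_mem _, algebraMap A E r, D.algebraMap_mem r, by
        rw [map_one, one_mul, ← IsScalarTower.algebraMap_apply]⟩ }
  have hL : ∀ s ∈ nonZeroDivisors A, ∃ y ∈ L, algebraMap A M s * y = 1 := fun s hs => by
    obtain ⟨y, hy⟩ := (H24.EssEtale.Normalization.isUnit_algebraMap hE hs).exists_right_inv
    exact ⟨y, ⟨s, hs, 1, one_mem _, hy.trans (map_one _).symm⟩, hy⟩
  haveI := (H24.EssEtale.Normalization.intermediate hE L hL).2.2.2.1 hNag
  obtain ⟨G, hG⟩ := Module.Finite.fg_top (R := A) (M := integralClosure A L)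
  have hmem : ∀ l : L, IsIntegral A l → (l : M) ∈ D' := fun l hl =>
    (hD' _).mpr ⟨IsIntegral.tower_top (A := D) (hl.map L.val), l.2⟩
  let i₀ : integralClosure A L →ₐ[A] D' :=
    (L.val.comp (integralClosure A L).val).codRestrict D' fun x => hmem _ x.2
  choose! Q hQ hQN using hsurj
  haveI : Algebra.EssFiniteType A D' := by
    rw [Algebra.essFiniteType_iff]
    refine ⟨G.image i₀, fun x => ?_⟩
    have hadj : ∀ s : integralClosure A L,
        i₀ s ∈ Algebra.adjoin A ((G.image i₀ : Finset D') : Set D') := fun s => by
      rw [Finset.coe_image, ← AlgHom.map_adjoin]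
      exact ⟨s, Algebra.span_le_adjoin A _ (hG ▸ Submodule.mem_top), rfl⟩
    obtain ⟨s, hs, hxs, hsQ⟩ := H24.EssEtale.Normalization.exists_mul_isIntegral hE L hL
      (hfin.toFinset.image Q) (fun P hP => by
        obtain ⟨N, hN, rfl⟩ := Finset.mem_image.mp hP
        haveI := hQ N (hfin.mem_toFinset.mp hN)
        exact Ideal.IsMaximal.isPrime this)
      ⟨x, ((hD' _).mp x.2).2⟩ (hle x.2)
    refine ⟨i₀ ⟨s, hs⟩, hadj _, ?_, ?_⟩
    · by_contra hu
      obtain ⟨N, hN, hsN⟩ := exists_max_ideal_of_mem_nonunits hu
      rw [← hQN N hN] at hsN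
      exact hsQ (Subalgebra.inclusion hle (i₀ ⟨s, hs⟩)) rfl _
        (Finset.mem_image_of_mem _ (hfin.mem_toFinset.mpr hN)) hsN
    · have h : x * i₀ ⟨s, hs⟩ = i₀ ⟨_, hxs⟩ := Subtype.ext rfl
      rw [h]; exact hadj _
  let iD : D →ₐ[A] D' := ((IsScalarTower.toAlgHom A E M).comp D.val).codRestrict D' fun d =>
    (hD' _).mpr ⟨isIntegral_algebraMap (R := D) (A := M) (x := d), 1, one_mem _, d, d.2, by
      rw [map_one, one_mul]; rfl⟩
  letI : Algebra D D' := iD.toRingHom.toAlgebra
  haveI : IsScalarTower A D D' := IsScalarTower.of_algebraMap_eq fun a => (iD.commutes a).symm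
  haveI : IsScalarTower D D' M := IsScalarTower.of_algebraMap_eq fun d => rfl
  haveI : Algebra.IsIntegral D D' := ⟨fun x =>
    (isIntegral_algebraMap_iff (B := M) Subtype.val_injective).mp ((hD' _).mp x.2).1⟩
  exact H24.EssEtale.NormalSemi.essFiniteType_of_integral (D' := D') (fun d d' h =>
    Subtype.ext (IsFractionRing.injective E M (congrArg Subtype.val h))) hfin

end Groth.Agent.S16449
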