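import Groth.Statements.S1645
import Groth.Agent.H97.PoleFn
import Groth.Agent.H97.GlueLine
import Groth.Agent.H34.GlobGen
import Groth.Agent.Lib.TensorMod.GenLocal
import Groth.Agent.Lib.Ample.GenLocus
import Groth.Agent.Lib.Modules.TensorGen

set_option autoImplicit false
universe u
open CategoryTheory CategoryTheory.Limits AlgebraicGeometry
open Variety

namespace Groth.Agent.S1645

open Groth.Agent.H97 Groth.Agent.H97.PoleFn Groth.Agent.H97.AffineImages Groth.Agent.H97.DimOneSetup
open Groth.Agent.H97.IntegralFinite Groth.Agent.Lib.SemiLocalDimOne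
open Groth.Agent.Lib.TensorMod Groth.Agent.Lib.TensorMod.Dual Groth.Agent.Lib.TensorMod.Gen
open Groth.Agent.H97.GlueLine TopologicalSpace

theorem nice_loc' {X : Scheme.{u}} [IsIntegral X] (x : X) (hN : IsNoetherianRing (X.presheaf.stalk x))
    (hx : ringKrullDim (X.presheaf.stalk x) = 1) : Glue.Nice (loc x) := by
  haveI := hN
  let e : X.presheaf.stalk x ≃+* loc x := (locIso x).commRingCatIsoToRingEquiv
  refine ⟨isNoetherianRing_of_ringEquiv _ e, IsFractionRing.of_field _ _ fun z => ?_,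
    (ringKrullDim_eq_of_ringEquiv e).symm.trans hx, ?_⟩
  · obtain ⟨a, b, _, rfl⟩ := IsFractionRing.div_surjective (A := X.presheaf.stalk x) z
    exact ⟨e a, e b, rfl⟩
  · have : IsLocalRing (loc x) := e.isLocalRing
    exact inferInstanceAs (Finite (MaximalSpectrum (loc x)))

theorem exists_pole_integral {Y : Scheme.{u}} [IsIntegral Y] [Y.IsSeparated]
    {W : Y.Opens} [Nonempty W] (hW : IsAffineOpen W) (S : Finset Y) (hS : ∀ z ∈ S, z ∉ W)
    (hN : ∀ z ∈ S, IsNoetherianRing (Y.presheaf.stalk z)) (hd : ∀ z ∈ S, ringKrullDim (Y.presheaf.stalk z) ≤ 1) :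
    ∃ r : Γ(Y, W), Y.germToFunctionField W r ≠ 0 ∧
      ∀ z ∈ S, Glue.Nice (loc z) ∧ Glue.InJac (loc z) (Y.germToFunctionField W r)⁻¹ := by
  classical
  let A : Subring Y.functionField := (Y.germToFunctionField W).hom.range
  have hη : genericPoint Y ∈ W :=
    ((genericPoint_spec Y).mem_open_set_iff W.isOpen).2 (by
      obtain ⟨w⟩ := ‹Nonempty W›; exact ⟨w.1, trivial, w.2⟩)
  have hd1 : ∀ z ∈ S, ringKrullDim (Y.presheaf.stalk z) = 1 := fun z hz => by
    refine le_antisymm (hd z hz) ?_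
    obtain ⟨p, hp⟩ : genericPoint Y ∈ Set.range (Y.fromSpecStalk z) := by
      rw [Scheme.range_fromSpecStalk]; exact (genericPoint_spec Y).specializes trivial
    let p' : PrimeSpectrum (Y.presheaf.stalk z) := p
    have hlt : p' < IsLocalRing.closedPoint (Y.presheaf.stalk z) := by
      refine lt_of_le_of_ne (IsLocalRing.le_maximalIdeal p'.2.ne_top) fun h => hS z hz ?_
      have : genericPoint Y = z := by
        rw [← hp, show p = IsLocalRing.closedPoint _ from h, Scheme.fromSpecStalk_closedPoint]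
      rwa [this] at hη
    exact Order.one_le_krullDim_iff.2 ⟨_, _, hlt⟩
  have hgen : ∀ z ∈ S, A ⊔ loc z = ⊤ := by
    intro z hz
    by_contra hne
    let R : Subring Y.functionField := A ⊔ loc z
    have hnf : ¬ IsField R := by
      intro hF
      refine hne (top_unique fun q _ => ?_)
      obtain ⟨a, b, hb, rfl⟩ := IsFractionRing.div_surjective (A := Y.presheaf.stalk z) q
      have hbS : algebraMap _ Y.functionField b ∈ R := (le_sup_right : loc z ≤ R) ⟨b, rfl⟩
      have hb0 : (⟨_, hbS⟩ : R) ≠ 0 := fun h => nonZeroDivisors.ne_zero hb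
        (IsFractionRing.injective (Y.presheaf.stalk z) Y.functionField
          ((congrArg Subtype.val h).trans (map_zero _).symm))
      obtain ⟨c, hc⟩ := hF.mul_inv_cancel hb0
      rw [div_eq_mul_inv]
      refine mul_mem ((le_sup_right : loc z ≤ R) ⟨a, rfl⟩) ?_
      rw [← eq_inv_of_mul_eq_one_right (congrArg Subtype.val hc : _ * (c : Y.functionField) = 1)]
      exact c.2
    obtain ⟨Q, hQ⟩ := Ideal.exists_maximal R
    have := hQ.isPrime
    have hQ0 : Q ≠ ⊥ := Ring.ne_bot_of_isMaximal_of_not_isField hQ hnf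
    -- the centre of `Q` on `W`
    let ψ : Γ(Y, W) →+* R := (Y.germToFunctionField W).hom.codRestrict R
      fun a => (le_sup_left : A ≤ R) ⟨a, rfl⟩
    let w : Y := hW.fromSpec ⟨Q.comap ψ, Ideal.IsPrime.comap ψ⟩
    have hwW : w ∈ W := by
      rw [← SetLike.mem_coe, ← hW.range_fromSpec]; exact ⟨_, rfl⟩
    let _ := TopCat.Presheaf.algebra_section_stalk Y.presheaf (⟨w, hwW⟩ : W)
    have hloc := hW.isLocalization_stalk ⟨w, hwW⟩
    have hprime : (hW.primeIdealOf ⟨w, hwW⟩).asIdeal = Q.comap ψ := by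
      have : hW.primeIdealOf ⟨w, hwW⟩ = ⟨Q.comap ψ, Ideal.IsPrime.comap ψ⟩ :=
        hW.fromSpec.isOpenEmbedding.injective (hW.fromSpec_primeIdealOf ⟨w, hwW⟩)
      exact congrArg PrimeSpectrum.asIdeal this
    have hu : ∀ s : (hW.primeIdealOf ⟨w, hwW⟩).asIdeal.primeCompl,
        IsUnit (((algebraMap R (Localization.AtPrime Q)).comp ψ) s) := fun s =>
      (IsLocalization.AtPrime.isUnit_to_map_iff _ Q _).2 fun h => s.2 (hprime.ge (show (s : Γ(Y, W)) ∈ Q.comap ψ from h))
    let h : Y.presheaf.stalk w →+* Localization.AtPrime Q := IsLocalization.lift hu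
    have hh : ∀ r, h (algebraMap Γ(Y, W) (Y.presheaf.stalk w) r) = algebraMap R _ (ψ r) :=
      fun r => IsLocalization.lift_eq hu r
    have : IsLocalHom h := ⟨fun a ha => by
      obtain ⟨⟨r, s⟩, hrs⟩ := IsLocalization.surj (hW.primeIdealOf ⟨w, hwW⟩).asIdeal.primeCompl a
      have h1 : IsUnit (h (algebraMap Γ(Y, W) (Y.presheaf.stalk w) r)) := by
        rw [← hrs, map_mul]
        exact ha.mul ((IsLocalization.map_units _ s).map h)
      rw [hh, IsLocalization.AtPrime.isUnit_to_map_iff _ Q] at h1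
      have h2 : IsUnit (algebraMap Γ(Y, W) (Y.presheaf.stalk w) r) :=
        IsLocalization.map_units _ (⟨r, fun h' => h1 (hprime.le h')⟩ :
          (hW.primeIdealOf ⟨w, hwW⟩).asIdeal.primeCompl)
      rw [← hrs] at h2
      exact (IsUnit.mul_iff.1 h2).1⟩
    have hcomp : (IsLocalization.lift (M := Q.primeCompl) (S := Localization.AtPrime Q)
        (g := R.subtype) (by simp [Ideal.primeCompl, not_imp_not])).comp h =
        algebraMap (Y.presheaf.stalk w) Y.functionField := by
      refine IsLocalization.ringHom_ext (hW.primeIdealOf ⟨w, hwW⟩).asIdeal.primeCompl (RingHom.ext fun r => ?_)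
      rw [RingHom.comp_apply, RingHom.comp_apply, hh, IsLocalization.lift_eq]
      exact (Y.algebraMap_germ_eq_germToFunctionField hwW r).symm
    have hle : LocalSubring.range (algebraMap (Y.presheaf.stalk w) Y.functionField) ≤
        LocalSubring.ofPrime R Q := Groth.Agent.Lib.SchLoc.range_le_range_of_comp _ _ h hcomp
    have := Groth.Agent.Lib.SchLoc.eq_of_range_le
      (IntegralFinite.le_ofPrime_of_dim_one (hd1 z hz) R le_sup_right Q hQ0) hle
    refine hS z hz ?_
    rw [this]; exact hwW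
  obtain ⟨n, ⟨e⟩⟩ := Finite.exists_equiv_fin {z // z ∈ S}
  obtain ⟨x, ⟨r, rfl⟩, hx0, hx⟩ := Glue.exists_inv_injac A (fun i : Fin n => loc (e.symm i).1)
    (fun i => nice_loc' _ (hN _ (e.symm i).2) (hd1 _ (e.symm i).2)) (fun i => hgen _ (e.symm i).2)
  refine ⟨r, hx0, fun z hz => ⟨nice_loc' _ (hN z hz) (hd1 z hz), ?_⟩⟩
  have := hx (e ⟨z, hz⟩)
  simp only [Equiv.symm_apply_apply] at this
  exact this

/-- Let X be integral and separated and U a nonempty affine open outside of which there are only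
finitely many points, each with a one-dimensional Noetherian local ring. Then there are a globally
generated invertible module L and a global section s with U equal to the locus where s generates L. -/
theorem result (X : Scheme.{u}) [IsIntegral X] [X.IsSeparated]
    (U : X.Opens) (hU : IsAffineOpen U) (hne : (U : Set X).Nonempty) (hfin : ((U : Set X)ᶜ).Finite)
    (hloc : ∀ x : X, x ∉ U → IsNoetherianRing (X.presheaf.stalk x) ∧ ringKrullDim (X.presheaf.stalk x) = 1) :
    ∃ (L : X.Modules) (s : Coh.structureModule X ⟶ L), PicF.IsInvertible L ∧ Curv2.IsGloballyGenerated L ∧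
      CohB1.genLocus L s = U := by
  classical
  haveI : Nonempty U := ⟨⟨hne.choose, hne.choose_spec⟩⟩
  obtain ⟨h, hh0, hh⟩ := exists_pole_integral hU hfin.toFinset (fun z hz => hfin.mem_toFinset.1 hz)
    (fun z hz => (hloc z (hfin.mem_toFinset.1 hz)).1) fun z hz => (hloc z (hfin.mem_toFinset.1 hz)).2.le
  -- the inverse of the pole function is regular near the missing points
  have hone : ∀ z : X, z ∉ U → ∃ (W : X.Opens) (_ : z ∈ W) (g : Γ(X, W)),
      z ∉ X.basicOpen g ∧ rf (inf_le_left : W ⊓ U ≤ W) g * rf (inf_le_right : W ⊓ U ≤ U) h = 1 := by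
    intro z hz
    obtain ⟨hnice, hjac⟩ := hh z (hfin.mem_toFinset.2 hz)
    obtain ⟨hmem, hj⟩ := hjac
    obtain ⟨a, ha⟩ := hmem
    obtain ⟨W, hzW, g, rfl⟩ := X.presheaf.exists_germ_eq a
    haveI : Nonempty W := ⟨⟨z, hzW⟩⟩
    rw [X.algebraMap_germ_eq_germToFunctionField hzW] at ha
    refine ⟨W, hzW, g, fun hb => ?_, ?_⟩
    · rw [X.mem_basicOpen g z hzW] at hb
      let e : X.presheaf.stalk z ≃+* loc z := (locIso z).commRingCatIsoToRingEquiv
      have h1 : IsUnit (e (X.presheaf.germ W z hzW g)) := hb.map e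
      have h2 : e (X.presheaf.germ W z hzW g) ∈ Ideal.jacobson (⊥ : Ideal (loc z)) := by
        convert hj using 1
        exact Subtype.ext ((X.algebraMap_germ_eq_germToFunctionField hzW g).trans ha)
      haveI : IsLocalRing (loc z) := e.isLocalRing
      rw [IsLocalRing.jacobson_eq_maximalIdeal ⊥ bot_ne_top] at h2
      exact h2 h1
    · haveI : Nonempty ((W ⊓ U : X.Opens) : Scheme.{u}) := ⟨⟨genericPoint X,
        ((genericPoint_spec X).mem_open_set_iff W.isOpen).2 ⟨z, trivial, hzW⟩,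
        ((genericPoint_spec X).mem_open_set_iff U.isOpen).2 ⟨_, trivial, hne.choose_spec⟩⟩⟩
      refine X.germToFunctionField_injective _ ?_
      rw [map_mul, map_one, rf, rf]
      have e1 : ∀ (V : X.Opens) [Nonempty V] (hV : W ⊓ U ≤ V) (q : Γ(X, V)),
          X.germToFunctionField (W ⊓ U) (X.presheaf.map (homOfLE hV).op q) = X.germToFunctionField V q :=
        fun V _ hV q => X.presheaf.germ_res_apply _ _ _ _
      rw [e1 W, e1 U, ha, inv_mul_cancel₀ hh0]
  choose W hzW g hgz hgh using hone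
  let S := {z : X // z ∉ U}
  haveI : Finite S := hfin.to_subtype
  let V : X.Opens := ⨆ z : S, W z.1 z.2
  have hSV : ∀ z : X, z ∉ U → z ∈ V := fun z hz => Opens.mem_iSup.2 ⟨⟨z, hz⟩, hzW z hz⟩
  obtain ⟨a, ha, -⟩ := TopCat.Sheaf.existsUnique_gluing' X.sheaf (fun z : S => W z.1 z.2) V
    (fun z => homOfLE (le_iSup (fun z : S => W z.1 z.2) z)) le_rfl (fun z => g z.1 z.2) fun z z' => by
      show X.presheaf.map (homOfLE (inf_le_left : W z.1 z.2 ⊓ W z'.1 z'.2 ≤ W z.1 z.2)).op (g z.1 z.2) =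
        X.presheaf.map (homOfLE (inf_le_right : W z.1 z.2 ⊓ W z'.1 z'.2 ≤ W z'.1 z'.2)).op (g z'.1 z'.2)
      haveI : Nonempty ((W z.1 z.2 ⊓ W z'.1 z'.2 : X.Opens) : Scheme.{u}) := ⟨⟨genericPoint X,
        ((genericPoint_spec X).mem_open_set_iff (W _ _).isOpen).2 ⟨_, trivial, hzW z.1 z.2⟩,
        ((genericPoint_spec X).mem_open_set_iff (W _ _).isOpen).2 ⟨_, trivial, hzW z'.1 z'.2⟩⟩⟩
      refine X.germToFunctionField_injective _ ?_
      haveI : ∀ z : S, Nonempty (W z.1 z.2) := fun z => ⟨⟨_, hzW z.1 z.2⟩⟩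
      have e1 : ∀ z : S, X.germToFunctionField (W z.1 z.2) (g z.1 z.2) = (X.germToFunctionField U h)⁻¹ := by
        intro z
        haveI : Nonempty ((W z.1 z.2 ⊓ U : X.Opens) : Scheme.{u}) := ⟨⟨genericPoint X,
          ((genericPoint_spec X).mem_open_set_iff (W _ _).isOpen).2 ⟨_, trivial, hzW z.1 z.2⟩,
          ((genericPoint_spec X).mem_open_set_iff U.isOpen).2 ⟨_, trivial, hne.choose_spec⟩⟩⟩
        have := congrArg (X.germToFunctionField (W z.1 z.2 ⊓ U)) (hgh z.1 z.2)
        rw [map_mul, map_one, rf, rf] at this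
        refine eq_inv_of_mul_eq_one_left ?_
        rw [← X.presheaf.germ_res_apply (homOfLE (inf_le_left : W z.1 z.2 ⊓ U ≤ W z.1 z.2)) _ _ _,
          ← X.presheaf.germ_res_apply (homOfLE (inf_le_right : W z.1 z.2 ⊓ U ≤ U)) _ _ h]
        exact this
      exact (X.presheaf.germ_res_apply _ _ _ _).trans ((e1 z).trans ((e1 z').symm.trans
        (X.presheaf.germ_res_apply _ _ _ _).symm))
  obtain ⟨a, ha⟩ : ∃ b : Γ(X, V), ∀ z : S, rf (le_iSup (fun z : S => W z.1 z.2) z) b = g z.1 z.2 :=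
    ⟨a, ha⟩
  have hah : rf (inf_le_left : V ⊓ U ≤ V) a * rf (inf_le_right : V ⊓ U ≤ U) h = 1 := by
    refine TopCat.Sheaf.eq_of_locally_eq' X.sheaf (fun z : S => W z.1 z.2 ⊓ U) (V ⊓ U)
      (fun z => homOfLE (inf_le_inf_right U (le_iSup (fun z : S => W z.1 z.2) z)))
      (le_of_eq (iSup_inf_eq (fun z : S => W z.1 z.2) U)) _ _ fun z => ?_
    show rf (inf_le_inf_right U (le_iSup (fun z : S => W z.1 z.2) z)) _ =
      rf (inf_le_inf_right U (le_iSup (fun z : S => W z.1 z.2) z)) _
    rw [show ∀ p q : Γ(X, V ⊓ U), rf (inf_le_inf_right U (le_iSup (fun z : S => W z.1 z.2) z)) (p * q) =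
        rf (inf_le_inf_right U (le_iSup (fun z : S => W z.1 z.2) z)) p * rf (inf_le_inf_right U (le_iSup (fun z : S => W z.1 z.2) z)) q from
      fun p q => map_mul _ p q,
      show rf (inf_le_inf_right U (le_iSup (fun z : S => W z.1 z.2) z)) (1 : Γ(X, V ⊓ U)) = 1 from map_one _]
    rw [rf_rf, rf_rf, ← hgh z.1 z.2]
    congr 1
    exact (rf_rf _ _ _).symm.trans (congrArg (rf inf_le_left) (ha z))
  have hab : X.basicOpen a ≤ U := fun y hy => by_contra fun hyU => hgz y hyU (by
    have h1 : rf (le_iSup (fun z : S => W z.1 z.2) ⟨y, hyU⟩) a = g y hyU := ha ⟨y, hyU⟩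
    rw [← h1]
    exact (X.basicOpen_res a _).ge ⟨hzW y hyU, hy⟩)
  let cov : ULift.{u} Bool → X.Opens := fun i => bif i.down then U else V
  have hsup : iSup cov = ⊤ := top_unique fun x _ => by
    by_cases hx : x ∈ U
    · exact Opens.mem_iSup.2 ⟨⟨true⟩, hx⟩
    · exact Opens.mem_iSup.2 ⟨⟨false⟩, hSV x hx⟩
  have hdisj : ∀ i j, i ≠ j → cov i ⊓ cov j ≤ U := by
    rintro ⟨_ | _⟩ ⟨_ | _⟩ hne
    exacts [absurd rfl hne, inf_le_right, inf_le_left, absurd rfl hne]
  let r : ∀ i, Γ(X, cov i ⊓ U) := fun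
    | ⟨true⟩ => 1
    | ⟨false⟩ => rf (inf_le_right : V ⊓ U ≤ U) h
  have hr : ∀ i, IsUnit (r i) := by
    rintro ⟨_ | _⟩
    exacts [IsUnit.of_mul_eq_one_right _ hah, isUnit_one]
  obtain ⟨c, hc⟩ := exists_cocycle (M := Coh.structureModule X) hdisj
    (fun i => r i • one X (cov i ⊓ U))
    fun i => GenLocal.isGen_smul (Groth.Agent.Lib.Ample.GenLocus.isGen_one _) (hr i)
  have mk : ∀ (q : ∀ i, Γ(X, cov i)) (σ : Γ(X, U)),
      (∀ i, rf inf_le_left (q i) * r i = rf (inf_le_right : cov i ⊓ U ≤ U) σ) →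
      ∃ s : Coh.structureModule X ⟶ glue c, ∀ i, CohB1.genLocus (glue c) s ⊓ cov i = X.basicOpen (q i) := by
    intro q σ hq
    obtain ⟨s, hs⟩ := HomGlue.exists_hom_of_gen (L := Coh.structureModule X) (M := glue c) hsup
      (fun i => one X (cov i)) (fun i => Groth.Agent.Lib.Ample.GenLocus.isGen_one _)
      (fun i => q i • gen c i) fun i j T hi hj b hb => by
        have hb' : b = 1 := by
          have : (X.presheaf.map (homOfLE hi).op 1 : Γ(X, T)) = b * X.presheaf.map (homOfLE hj).op 1 := hb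
          rwa [map_one, map_one, mul_one, eq_comm] at this
        subst hb'
        rw [one_smul]
        by_cases hij : i = j
        · subst hij; rfl
        have hTU : T ≤ U := (le_inf hi hj).trans (hdisj i j hij)
        rw [rs_smul, rs_smul, rs_gen c i j hi hj, smul_smul]
        congr 1
        have h2 := hc i j T hi hj hTU
        have e1 : ∀ k (hk : T ≤ cov k), rs (Coh.structureModule X) (le_inf hk hTU) (r k • one X (cov k ⊓ U)) =
            (rf (le_inf hk hTU) (r k) : Γ(X, T)) := fun k hk => by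
          show X.presheaf.map (homOfLE (le_inf hk hTU)).op (r k * 1) = _
          rw [mul_one]
        rw [e1 j hj, e1 i hi] at h2
        replace h2 : rf (le_inf hj hTU) (r j) = c.tr i j hi hj * rf (le_inf hi hTU) (r i) := h2
        have e2 : ∀ k (hk : T ≤ cov k), rf hk (q k) * rf (le_inf hk hTU) (r k) = rf hTU σ := fun k hk => by
          have := congrArg (rf (le_inf hk hTU)) (hq k)
          rw [rf, map_mul] at this
          rw [rf_rf] at this
          rw [show rf hk (q k) = rf (le_inf hk hTU) (rf inf_le_left (q k)) from (rf_rf _ _ _).symm]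
          exact this
        refine ((hr i).map (X.presheaf.map (homOfLE (le_inf hi hTU)).op).hom).mul_left_injective ?_
        show rf hi (q i) * rf (le_inf hi hTU) (r i) =
          rf hj (q j) * c.tr i j hi hj * rf (le_inf hi hTU) (r i)
        rw [e2 i hi, mul_assoc, ← h2, e2 j hj]
    exact ⟨s, fun i => Groth.Agent.Lib.Ample.GenLocus.genLocus_inf_eq (isGen_gen c i) s (hs i)⟩
  obtain ⟨s₀, hs₀⟩ := mk (fun | ⟨true⟩ => 1 | ⟨false⟩ => a) 1 (by
    rintro ⟨_ | _⟩
    · exact hah.trans (map_one _).symm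
    · exact mul_one _)
  obtain ⟨s₁, hs₁⟩ := mk (fun | ⟨true⟩ => h | ⟨false⟩ => 1) h (by
    rintro ⟨_ | _⟩
    · exact (congrArg (· * _) (map_one _)).trans (one_mul _)
    · exact mul_one _)
  refine ⟨glue c, s₀, isInvertible_glue c hsup, H34.GlobGen.gg_of_gl_eq_top fun x => ?_, ?_⟩
  · have key : ∀ σ : Coh.structureModule X ⟶ glue c, x ∈ CohB1.genLocus (glue c) σ →
        H34.GlobGen.Gl (glue c) x = ⊤ := by
      intro σ hσ
      obtain ⟨U', hxU', hU'⟩ := (Lib.Ample.GenLocus.mem_genLocus_iff σ).1 hσ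
      refine eq_top_iff.2 fun v _ => ?_
      obtain ⟨r, rfl⟩ := (Lib.Modules.TensorGen.bijective_germ_smul hU' hxU').2 v
      refine Submodule.smul_mem _ r (Submodule.subset_span ⟨Lib.Ample.GenLocus.sv σ ⊤, ?_⟩)
      rw [← Lib.Ample.GenLocus.rs_sv σ (le_top : U' ≤ ⊤)]
      exact (TopCat.Presheaf.germ_res_apply _ _ _ _ _).symm
    by_cases hx : x ∈ U
    · have := hs₀ ⟨true⟩
      rw [show X.basicOpen (1 : Γ(X, U)) = U from X.basicOpen_of_isUnit isUnit_one] at this
      exact key s₀ (this.ge hx).1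
    · have := hs₁ ⟨false⟩
      rw [show X.basicOpen (1 : Γ(X, V)) = V from X.basicOpen_of_isUnit isUnit_one] at this
      exact key s₁ (this.ge (hSV x hx)).1
  · refine le_antisymm (fun y hy => by_contra fun hyU => hyU (hab ((hs₀ ⟨false⟩).le ⟨hy, hSV y hyU⟩))) ?_
    have := hs₀ ⟨true⟩
    rw [show X.basicOpen (1 : Γ(X, U)) = U from X.basicOpen_of_isUnit isUnit_one] at this
    exact fun y hy => (this.ge hy).1

end Groth.Agent.S1645
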