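import Groth.Statements.S16451
import Groth.Agent.H24.EssEtale.ResidualNecessity
import Groth.Agent.H24.EssEtale.ResidualSufficiency
import Groth.Agent.H24.EssEtale.IndEtale
import Groth.Agent.S2654

set_option autoImplicit false
universe u
open scoped TensorProduct
open EGA4loc

namespace Groth.Agent.S16451

open IsLocalRing

/-- The map of a henselization into a local algebra is local. -/
theorem isLocalHom_henselization (D Dh S : Type u) [CommRing D] [IsLocalRing D] [CommRing Dh]
    [IsLocalRing Dh] [Algebra D Dh] [IsLocalHom (algebraMap D Dh)] [Hensel.IsHenselization D Dh]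
    [CommRing S] [IsLocalRing S] [Algebra D S] [IsLocalHom (algebraMap D S)] [Algebra Dh S]
    [IsScalarTower D Dh S] : IsLocalHom (algebraMap Dh S) := by
  refine ((local_hom_TFAE (algebraMap Dh S)).out 0 2).mpr ?_
  rw [← Lib.Henselian.Henselization.map_maximalIdeal D Dh, Ideal.map_map,
    ← IsScalarTower.algebraMap_eq]
  exact map_maximalIdeal_le _

/-- An algebra exhausted by rings over which `S` is flat, injectively, has the same properties. -/
theorem flat_of_exhausted {C S : Type u} [CommRing C] [CommRing S] [Algebra C S] {ι : Type u}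
    {L : ι → Type u} [∀ i, CommRing (L i)] (φ : ∀ i, L i →+* C)
    (hex : ∀ t : Finset C, ∃ i, ∀ x ∈ t, x ∈ Set.range (φ i))
    (hflat : ∀ i, ((algebraMap C S).comp (φ i)).Flat)
    (hinj : ∀ i, Function.Injective ((algebraMap C S).comp (φ i))) :
    Module.Flat C S ∧ Function.Injective (algebraMap C S) := by
  classical
  constructor
  · refine Module.Flat.iff_forall_isTrivialRelation.mpr fun {l f x} hfx => ?_
    obtain ⟨k, hk⟩ := hex (Finset.univ.image f)
    choose z hz using fun j => hk (f j) (Finset.mem_image_of_mem _ (Finset.mem_univ j))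
    letI := ((algebraMap C S).comp (φ k)).toAlgebra
    haveI : Module.Flat (L k) S := hflat k
    have hzx : ∑ j, z j • x j = 0 := by
      refine Eq.trans (Finset.sum_congr rfl fun j _ => ?_) hfx
      rw [Algebra.smul_def, Algebra.smul_def, RingHom.algebraMap_toAlgebra, RingHom.comp_apply, hz]
    obtain ⟨m, a, w, hxw, ha⟩ := (Module.Flat.iff_forall_isTrivialRelation (R := L k) (M := S)).mp inferInstance hzx
    refine ⟨m, fun j c => φ k (a j c), w, fun j => ?_, fun c => ?_⟩
    · rw [hxw j]
      refine Finset.sum_congr rfl fun c _ => ?_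
      rw [Algebra.smul_def, Algebra.smul_def, RingHom.algebraMap_toAlgebra, RingHom.comp_apply]
    · simp only [← hz, ← map_mul, ← map_sum, ha c, map_zero]
  · rw [injective_iff_map_eq_zero]
    intro x hx
    obtain ⟨k, hk⟩ := hex {x}
    obtain ⟨y, rfl⟩ := hk x (Finset.mem_singleton_self x)
    rw [show y = 0 from hinj k (by rw [map_zero, RingHom.comp_apply]; exact hx), map_zero]

/-- A stage of the henselization of `D` maps flatly and injectively to a flat local `D`-algebra. -/
theorem stage {D S : Type u} [CommRing D] [IsLocalRing D] [CommRing S] [IsLocalRing S] [Algebra D S]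
    [Module.Flat D S] (θ : Lib.Henselian.Henselization.Henselization D →ₐ[D] S)
    [IsLocalHom θ.toRingHom] (i : Lib.Henselian.Pointed.Pt D (ResidueField D)) :
    (θ.comp (Lib.Henselian.Pointed.Lim.of i)).toRingHom.Flat ∧
      Function.Injective (θ.comp (Lib.Henselian.Pointed.Lim.of i)) := by
  haveI : Algebra.EssFiniteType i.Alg i.Loc :=
    Algebra.EssFiniteType.of_isLocalization i.Loc i.units
  haveI : Algebra.EssFiniteType D i.Loc := Algebra.EssFiniteType.comp D i.Alg i.Loc
  have hflat := H24.EssEtale.flat_of_algHom (θ.comp (Lib.Henselian.Pointed.Lim.of i))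
  refine ⟨hflat, ?_⟩
  letI := (θ.comp (Lib.Henselian.Pointed.Lim.of i)).toRingHom.toAlgebra
  haveI : Module.Flat i.Loc S := hflat
  haveI : IsLocalHom (algebraMap i.Loc S) := ⟨fun y hy => by
    have h2 : IsUnit (Lib.Henselian.Pointed.Lim.of i y) :=
      IsLocalHom.map_nonunit (f := θ.toRingHom) _ hy
    have h3 := h2.map (Lib.Henselian.Pointed.Lim.α D (ResidueField D))
    rw [Lib.Henselian.Pointed.Lim.α_of] at h3
    exact IsUnit.of_map (i.α : i.Loc →+* ResidueField D) y h3⟩
  haveI : IsLocalRing i.Loc := RingHom.domain_isLocalRing (i.α : i.Loc →+* ResidueField D)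
  haveI : Module.FaithfullyFlat i.Loc S := Module.FaithfullyFlat.of_flat_of_isLocalHom
  exact FaithfulSMul.algebraMap_injective i.Loc S

/-- If `S` is flat over a local ring `D`, it is flat over the henselization of `D`. -/
theorem flat_henselization (D Dh S : Type u) [CommRing D] [IsLocalRing D] [CommRing Dh]
    [IsLocalRing Dh] [Algebra D Dh] [IsLocalHom (algebraMap D Dh)] [Hensel.IsHenselization D Dh]
    [CommRing S] [IsLocalRing S] [Algebra D S] [IsLocalHom (algebraMap D S)] [Algebra Dh S]
    [IsScalarTower D Dh S] [Module.Flat D S] :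
    Module.Flat Dh S ∧ Function.Injective (algebraMap Dh S) := by
  classical
  haveI := isLocalHom_henselization D Dh S
  obtain ⟨e, -⟩ : ∃ e : Lib.Henselian.Henselization.Henselization D ≃ₐ[D] Dh, True :=
    ⟨Lib.Henselian.Henselization.equivOfIsHenselization D Dh, trivial⟩
  obtain ⟨θ, hθ⟩ : ∃ θ : Lib.Henselian.Henselization.Henselization D →ₐ[D] S,
      ∀ x, θ x = algebraMap Dh S (e x) :=
    ⟨(IsScalarTower.toAlgHom D Dh S).comp e.toAlgHom, fun _ => rfl⟩
  haveI : IsLocalHom θ.toRingHom := ⟨fun x hx => by
    have h : IsUnit (algebraMap Dh S (e x)) := hθ x ▸ hx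
    exact (MulEquiv.isUnit_map e).mp (IsLocalHom.map_nonunit _ h)⟩
  refine flat_of_exhausted
    (fun i : Lib.Henselian.Pointed.Pt D (ResidueField D) =>
      (e.toAlgHom.comp (Lib.Henselian.Pointed.Lim.of i)).toRingHom) (fun t => ?_) (fun i => ?_)
    fun i => ?_
  · choose i y hy using fun x : Dh => Lib.Henselian.Pointed.Lim.exists_of (e.symm x)
    obtain ⟨k, hk⟩ := Finset.exists_le (t.image i)
    refine ⟨k, fun x hx => ⟨Lib.Henselian.Pointed.Pt.trans (hk _ (Finset.mem_image_of_mem i hx))
      (y x), ?_⟩⟩
    show e (Lib.Henselian.Pointed.Lim.of k _) = x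
    rw [Lib.Henselian.Pointed.Lim.of_trans, hy, AlgEquiv.apply_symm_apply]
  · convert (stage θ i).1 using 1
    exact RingHom.ext fun y => (hθ _).symm
  · intro a b hab
    exact (stage θ i).2 ((hθ _).trans (hab.trans (hθ _).symm))

/-- The image of a henselization, as a subalgebra. -/
theorem exists_range (A : Type u) {D Dh S : Type u} [CommRing A] [CommRing D] [CommRing Dh]
    [CommRing S] [Algebra A D] [Algebra A S] [Algebra D Dh] [Algebra D S] [IsScalarTower A D S]
    [Algebra Dh S] [IsScalarTower D Dh S] :
    ∃ H : Subalgebra A S, ∀ x, x ∈ H ↔ x ∈ Set.range (algebraMap Dh S) :=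
  ⟨{ (algebraMap Dh S).range with
      algebraMap_mem' := fun a => ⟨algebraMap D Dh (algebraMap A D a), by
        rw [← IsScalarTower.algebraMap_apply, ← IsScalarTower.algebraMap_apply]⟩ },
    fun _ => Iff.rfl⟩


open IsLocalRing in
/-- Let A be an excellent reduced local ring with maximal ideal m and residue field k, S a strict
henselization of A with total ring of fractions K, and D an A-subalgebra of S which is a local ring
dominated by S (local inclusion); let D^h be a henselization of D and θ : D^h → S the D-algebra map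
to S (the unique one, S being henselian). Inside K, let A' and D' be the normalizations of A and of
D — the elements of K integral over A (resp. over D) and carried into A (resp. into D) by the image
of some non-zero-divisor of A — so A' ⊆ D', and let ι : D → D' be the inclusion. Then θ is injective
and its image is a directed union of A-subalgebras of S which are local rings and essentially etale
local A-algebras (that is, D^h is a direct limit of local etale extensions of A) if and only if D'
has finitely many maximal ideals and the canonical map A' ⊗_A D → D'/Rad(D') is surjective with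
kernel the ideal generated by Rad(A') ⊗ D and A' ⊗ m_D (the residual field products satisfy (A'/Rad
A') ⊗_k (D/m_D) ≅ D'/Rad(D')). -/
theorem result
    (A S : Type u) [CommRing A] [IsLocalRing A] [IsReduced A] (hA : EGA4.IsExcellent A)
    [CommRing S] [IsLocalRing S] [Algebra A S] [IsLocalHom (algebraMap A S)]
    [Hensel.IsStrictHenselization A S] (D : Subalgebra A S) [IsLocalRing D]
    [IsLocalHom (algebraMap D S)]
    (Dh : Type u) [CommRing Dh] [IsLocalRing Dh] [Algebra D Dh] [IsLocalHom (algebraMap D Dh)]
    [Hensel.IsHenselization D Dh] [Algebra Dh S] [IsScalarTower D Dh S]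
    (A' D' : Subalgebra A (FractionRing S))
    (hA' : ∀ x : (FractionRing S), x ∈ A' ↔ (IsIntegral A x ∧
      ∃ a ∈ nonZeroDivisors A, ∃ b : A, algebraMap A (FractionRing S) a * x = algebraMap A (FractionRing S) b))
    (hD' : ∀ x : (FractionRing S), x ∈ D' ↔ (IsIntegral D x ∧
      ∃ a ∈ nonZeroDivisors A, ∃ d ∈ D, algebraMap A (FractionRing S) a * x = algebraMap S (FractionRing S) d))
    (hle : A' ≤ D') (ι : D →ₐ[A] D') (hι : ∀ d : D, (ι d : (FractionRing S)) = algebraMap S (FractionRing S) d) :
    (Function.Injective (algebraMap Dh S) ∧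
        ∀ s : Finset S, (s : Set S) ⊆ Set.range (algebraMap Dh S) →
          ∃ E : Subalgebra A S, (s : Set S) ⊆ (E : Set S) ∧ (E : Set S) ⊆ Set.range (algebraMap Dh S) ∧
            ∃ _ : IsLocalRing E, EGA4loc.IsEssentiallyEtale A E) ↔
      ({N : Ideal D' | N.IsMaximal}.Finite ∧
        Function.Surjective ((Ideal.Quotient.mkₐ A (Ideal.jacobson (⊥ : Ideal D'))).comp
          (Algebra.TensorProduct.productMap (Subalgebra.inclusion hle) ι)) ∧
        RingHom.ker ((Ideal.Quotient.mkₐ A (Ideal.jacobson (⊥ : Ideal D'))).comp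
          (Algebra.TensorProduct.productMap (Subalgebra.inclusion hle) ι)) =
          (Ideal.jacobson (⊥ : Ideal A')).map
              (Algebra.TensorProduct.includeLeft : A' →ₐ[A] A' ⊗[A] D) ⊔
            (maximalIdeal D).map
              (Algebra.TensorProduct.includeRight : D →ₐ[A] A' ⊗[A] D)) := by
  classical
  have hNag : CAlg.IsNagata A := S2654.result A ⟨hA.1, hA.2.2.1, hA.2.2.2⟩
  haveI := hA.1
  haveI hθloc : IsLocalHom (algebraMap Dh S) := isLocalHom_henselization D Dh S
  obtain ⟨H, hH⟩ := exists_range A (D := D) (Dh := Dh) (S := S)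
  let f : Dh →+* H := (algebraMap Dh S).codRestrict H.toSubring fun x => (hH _).mpr ⟨x, rfl⟩
  have hfsurj : Function.Surjective f := fun h => by
    obtain ⟨x, hx⟩ := (hH h).mp h.2
    exact ⟨x, Subtype.ext hx⟩
  haveI : Nontrivial H := ⟨⟨0, 1, fun h => zero_ne_one (congrArg Subtype.val h)⟩⟩
  haveI : IsLocalRing H := IsLocalRing.of_surjective' f hfsurj
  constructor
  · rintro ⟨hinj, hind⟩
    let e : Dh ≃+* H := RingEquiv.ofBijective f
      ⟨fun a b hab => hinj (congrArg Subtype.val hab), hfsurj⟩
    letI : Algebra D H := ((e : Dh →+* H).comp (algebraMap D Dh)).toAlgebra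
    haveI : Module.Flat D H :=
      haveI := Lib.Henselian.Henselization.flat D Dh
      Module.Flat.of_linearEquiv (AlgEquiv.ofRingEquiv (f := e) fun _ => rfl).symm.toLinearEquiv
    refine H24.EssEtale.Residual.conditions (H := H) hD' ι hι hNag hA' hle
      (fun d => (IsScalarTower.algebraMap_apply D Dh S d).symm) ?_ (fun h => ?_) fun s hs => ?_
    · rw [RingHom.algebraMap_toAlgebra, ← Ideal.map_map,
        Lib.Henselian.Henselization.map_maximalIdeal D Dh]
      exact IsLocalRing.map_maximalIdeal_of_surjective _ e.surjective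
    · obtain ⟨d, hd⟩ := Lib.Henselian.Henselization.exists_sub_mem D Dh (e.symm h)
      refine ⟨d, ?_⟩
      have h' := map_nonunit (e : Dh →+* H) _ hd
      rw [map_sub] at h'
      exact (congrArg (fun w => w - _ ∈ maximalIdeal H) (e.apply_symm_apply h)).mp h'
    · obtain ⟨E, hsE, hEH, hE⟩ := hind s fun x hx => (hH x).mp (hs hx)
      exact ⟨E, hsE, fun x hx => (hH x).mpr (hEH hx), hE⟩
  · rintro ⟨-, hsurj, -⟩
    haveI := H24.EssEtale.Fractions.isArtinianRing_fractionRing A
      (minimalPrimes.finite_of_isNoetherianRing A)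
    haveI : Module.Flat D S := H24.EssEtale.Residual.flat_of_residual_surjective A' D'
      (fun x hx => ((hA' x).mp hx).2) hD' hle ι hι fun x => by
        obtain ⟨z, hz⟩ := hsurj (Ideal.Quotient.mk _ x)
        exact ⟨z, Ideal.Quotient.eq.mp hz.symm⟩
    obtain ⟨hflat, hinj⟩ := flat_henselization D Dh S
    refine ⟨hinj, fun s hs => ?_⟩
    let e : Dh ≃+* H := RingEquiv.ofBijective f
      ⟨fun a b hab => hinj (congrArg Subtype.val hab), hfsurj⟩
    haveI : HenselianLocalRing H := by
      haveI := Hensel.IsHenselization.henselian (R := D) (S := Dh)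
      letI : Algebra Dh H := f.toAlgebra
      haveI : Algebra.IsIntegral Dh H := ⟨fun h => by
        obtain ⟨y, rfl⟩ := hfsurj h
        exact isIntegral_algebraMap⟩
      exact Lib.Henselian.LocalRing.henselianLocalRing_of_isIntegral Dh H
    haveI : IsLocalHom (algebraMap H S) := ⟨fun h hh => by
      obtain ⟨y, rfl⟩ := hfsurj h
      exact (IsLocalHom.map_nonunit (f := algebraMap Dh S) y hh).map f⟩
    haveI : Module.Flat H S := by
      have h : algebraMap H S = (algebraMap Dh S).comp (e.symm : H →+* Dh) := RingHom.ext fun h => by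
        show (h : S) = algebraMap Dh S (e.symm h)
        exact (congrArg Subtype.val (e.apply_symm_apply h)).symm
      rw [← RingHom.flat_algebraMap_iff, h]
      exact (RingHom.Flat.of_bijective e.symm.bijective).comp (RingHom.flat_algebraMap_iff.mpr hflat)
    obtain ⟨E, hsE, hEH, hE⟩ := H24.EssEtale.IndEtale.exists_stage_le H s
      fun x hx => (hH x).mpr (hs hx)
    exact ⟨E, hsE, fun x hx => (hH x).mp (hEH hx), hE⟩

end Groth.Agent.S16451
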