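import Groth.Statements.S16452
import Mathlib.RingTheory.Etale.Basic
import Mathlib.RingTheory.Smooth.Basic
import Mathlib.RingTheory.Unramified.Basic

set_option autoImplicit false
universe u
open CAlg

namespace Groth.Agent.S16452

theorem key {R S : Type u} [CommRing R] [CommRing S] [Algebra R S] [Algebra.FormallyEtale R S]
    (J : Ideal S) (hJ : Function.Surjective (algebraMap R (S ⧸ J))) (n : ℕ) :
    (∀ x : R, algebraMap R S x ∈ J ^ n → x ∈ (J.comap (algebraMap R S)) ^ n) ∧
    (∀ y ∈ J ^ n, ∃ x ∈ (J.comap (algebraMap R S)) ^ n, algebraMap R S x - y ∈ J ^ (n + 1)) := by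
  let I := J.comap (algebraMap R S)
  have hIJ : ∀ m, (I ^ m).map (algebraMap R S) ≤ J ^ m := fun m => by
    rw [Ideal.map_pow]; exact Ideal.pow_right_mono Ideal.map_comap_le m
  let g : (R ⧸ I) →ₐ[R] S ⧸ J :=
    { Ideal.quotientMap J (algebraMap R S) le_rfl with
      commutes' := fun r => Ideal.quotientMap_mk (I := J) (f := algebraMap R S) (x := r) }
  have hg : Function.Bijective g := by
    refine ⟨Ideal.quotientMap_injective' (H := le_rfl) le_rfl, fun z => ?_⟩
    obtain ⟨r, hr⟩ := hJ z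
    exact ⟨Ideal.Quotient.mk I r, (g.commutes r).trans hr⟩
  let τ : S →ₐ[R] R ⧸ I :=
    (AlgEquiv.ofBijective g hg).symm.toAlgHom.comp (Ideal.Quotient.mkₐ R J)
  have hlift : ∀ m, ∃ σ : S →ₐ[R] R ⧸ I ^ (m + 1),
      ∀ s, Ideal.quotientMap I (RingHom.id R) (Ideal.pow_le_self m.succ_ne_zero) (σ s) = τ s := by
    intro m
    let π : (R ⧸ I ^ (m + 1)) →ₐ[R] R ⧸ I :=
      { Ideal.quotientMap I (RingHom.id R) (Ideal.pow_le_self m.succ_ne_zero) with
        commutes' := fun r => Ideal.quotientMap_mk (I := I) (f := RingHom.id R) (x := r) }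
    have hπ : Function.Surjective π := fun z => by
      obtain ⟨r, rfl⟩ := Ideal.Quotient.mk_surjective z
      exact ⟨algebraMap R _ r, π.commutes r⟩
    have hker : IsNilpotent (RingHom.ker (π : (R ⧸ I ^ (m + 1)) →+* R ⧸ I)) := by
      refine ⟨m + 1, ?_⟩
      rw [show RingHom.ker (π : (R ⧸ I ^ (m + 1)) →+* R ⧸ I) = I.map (Ideal.Quotient.mk _) from ?_,
        ← Ideal.map_pow, Ideal.map_quotient_self, Ideal.zero_eq_bot]
      ext z
      obtain ⟨r, rfl⟩ := Ideal.Quotient.mk_surjective z
      rw [RingHom.mem_ker, Ideal.mem_map_iff_of_surjective _ Ideal.Quotient.mk_surjective]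
      change Ideal.Quotient.mk I r = 0 ↔ _
      rw [Ideal.Quotient.eq_zero_iff_mem]
      exact ⟨fun h => ⟨r, h, rfl⟩, fun ⟨r', hr', e⟩ => by
        simpa using sub_mem hr' (Ideal.pow_le_self m.succ_ne_zero (Ideal.Quotient.eq.mp e))⟩
    exact ⟨Algebra.FormallySmooth.liftOfSurjective τ π hπ hker,
      fun s => Algebra.FormallySmooth.liftOfSurjective_apply τ π hπ hker s⟩
  have hτJ : ∀ j ∈ J, τ j = 0 := fun j hj => by
    change (AlgEquiv.ofBijective g hg).symm (Ideal.Quotient.mk J j) = 0
    rw [Ideal.Quotient.eq_zero_iff_mem.mpr hj, map_zero]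
  refine ⟨fun x hx => ?_, ?_⟩
  · rcases n with _ | m
    · simp
    obtain ⟨σ, hσ⟩ := hlift m
    have h1 : J.map σ.toRingHom ≤ I.map (Ideal.Quotient.mk (I ^ (m + 1))) := by
      rw [Ideal.map_le_iff_le_comap]
      intro j hj
      rw [Ideal.mem_comap]
      obtain ⟨r, hr⟩ := Ideal.Quotient.mk_surjective (σ j)
      have := hσ j
      rw [← hr, hτJ j hj] at this
      change Ideal.Quotient.mk I r = 0 at this
      rw [Ideal.Quotient.eq_zero_iff_mem] at this
      change σ j ∈ _
      rw [← hr]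
      exact Ideal.mem_map_of_mem _ this
    have h2 := Ideal.pow_right_mono h1 (m + 1) (by
      rw [← Ideal.map_pow]; exact Ideal.mem_map_of_mem _ hx :
      σ (algebraMap R S x) ∈ (J.map σ.toRingHom) ^ (m + 1))
    rw [← Ideal.map_pow, Ideal.map_quotient_self, Ideal.mem_bot, σ.commutes] at h2
    exact Ideal.Quotient.eq_zero_iff_mem.mp h2
  · obtain ⟨σ, hσ⟩ := hlift 1
    let q : (R ⧸ I ^ 2) →ₐ[R] S ⧸ J ^ 2 :=
      { Ideal.quotientMap (J ^ 2) (algebraMap R S) (Ideal.map_le_iff_le_comap.mp (hIJ 2)) with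
        commutes' := fun r => Ideal.quotientMap_mk (I := J ^ 2) (f := algebraMap R S) (x := r) }
    have heq : q.comp σ = Ideal.Quotient.mkₐ R (J ^ 2) := by
      refine Algebra.FormallyUnramified.ext (J.map (Ideal.Quotient.mk (J ^ 2)))
        ⟨2, by rw [← Ideal.map_pow, Ideal.map_quotient_self, Ideal.zero_eq_bot]⟩ fun s => ?_
      obtain ⟨r, hr⟩ := Ideal.Quotient.mk_surjective (σ s)
      have h := hσ s
      rw [← hr] at h
      change Ideal.Quotient.mk I r = τ s at h
      have h3 : Ideal.Quotient.mk J (algebraMap R S r) = Ideal.Quotient.mk J s := by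
        have h4 := congrArg g h
        rw [show g (τ s) = Ideal.Quotient.mk J s from (AlgEquiv.ofBijective g hg).apply_symm_apply _] at h4
        rw [← h4]; rfl
      rw [AlgHom.comp_apply, ← hr]
      change Ideal.Quotient.mk _ (Ideal.Quotient.mk (J ^ 2) (algebraMap R S r)) =
        Ideal.Quotient.mk _ (Ideal.Quotient.mk (J ^ 2) s)
      rw [Ideal.Quotient.eq, ← map_sub]
      exact Ideal.mem_map_of_mem _ (Ideal.Quotient.eq.mp h3)
    have h1 : ∀ y ∈ J, ∃ x ∈ I, algebraMap R S x - y ∈ J ^ 2 := fun y hy => by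
      obtain ⟨r, hr⟩ := Ideal.Quotient.mk_surjective (σ y)
      have h := DFunLike.congr_fun heq y
      rw [AlgHom.comp_apply, ← hr] at h
      have h' : algebraMap R S r - y ∈ J ^ 2 := Ideal.Quotient.eq.mp h
      refine ⟨r, ?_, h'⟩
      show algebraMap R S r ∈ J
      simpa using add_mem (Ideal.pow_le_self two_ne_zero h') hy
    intro y hy
    induction n generalizing y with
    | zero =>
      obtain ⟨r, hr⟩ := hJ (Ideal.Quotient.mk J y)
      refine ⟨r, by simp, ?_⟩
      rw [zero_add, pow_one]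
      exact Ideal.Quotient.eq.mp hr
    | succ n ih =>
      rw [pow_succ] at hy
      refine Submodule.mul_induction_on hy (fun a ha b hb => ?_) fun a b ha hb => ?_
      · obtain ⟨x, hx, hxa⟩ := ih a ha
        obtain ⟨x', hx', hxb⟩ := h1 b hb
        refine ⟨x * x', by rw [pow_succ]; exact Ideal.mul_mem_mul hx hx', ?_⟩
        rw [map_mul, show algebraMap R S x * algebraMap R S x' - a * b =
          (algebraMap R S x - a) * b + algebraMap R S x * (algebraMap R S x' - b) by ring]
        refine add_mem ?_ ?_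
        · rw [pow_succ _ (n + 1)]
          exact Ideal.mul_mem_mul hxa hb
        · rw [show n + 1 + 1 = n + 2 from rfl, pow_add]
          exact Ideal.mul_mem_mul (hIJ n (Ideal.mem_map_of_mem _ hx)) hxb
      · obtain ⟨x, hx, hxa⟩ := ha
        obtain ⟨x', hx', hxb⟩ := hb
        refine ⟨x + x', add_mem hx hx', ?_⟩
        rw [map_add, add_sub_add_comm]
        exact add_mem hxa hxb

/-- Let R → S be formally étale and J an ideal of S such that the composite R → S → S/J is surjective;
let I ⊆ R be its kernel, the preimage of J in R. Then the homomorphism of associated graded rings ⊕ₙ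
Iⁿ/Iⁿ⁺¹ → ⊕ₙ Jⁿ/Jⁿ⁺¹ induced by R → S (which carries I into J) is bijective. -/
theorem result (R : Type u) [CommRing R] (S : Type u)
    [CommRing S] [Algebra R S] [Algebra.FormallyEtale R S] (J : Ideal S)
    (hJ : Function.Surjective (algebraMap R (S ⧸ J))) :
    Function.Bijective (AssocGr.map (AssocGr.IsFiltHom.adic
      (Ideal.map_comap_le : (J.comap (algebraMap R S)).map (algebraMap R S) ≤ J))) := by
  constructor
  · rw [injective_iff_map_eq_zero]
    intro z hz
    obtain ⟨f, rfl⟩ := AssocGr.mkG_surjective _ z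
    rw [AssocGr.map_mkG, AssocGr.mkG_eq_zero_iff] at hz
    rw [AssocGr.mkG_eq_zero_iff]
    intro n
    refine (key J hJ (n + 1)).1 _ ?_
    have h := hz n
    change (((f : Polynomial R).map (algebraMap R S))).coeff n ∈ _ at h
    rwa [Polynomial.coeff_map] at h
  · intro z
    obtain ⟨f, rfl⟩ := AssocGr.mkG_surjective _ z
    rw [← AssocGr.sum_term _ f, map_sum, ← RingHom.mem_range]
    refine sum_mem fun n _ => ?_
    obtain ⟨x, hx, hxy⟩ := (key J hJ n).2 _ (f.2 n)
    refine ⟨(AssocGr.inDeg (FiltBl.IdealFiltration.adic (J.comap (algebraMap R S))) n ⟨x, hx⟩ :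
      AssocGr.GrRing _), ?_⟩
    rw [AssocGr.map_inDeg]
    have h0 : AssocGr.inDeg (FiltBl.IdealFiltration.adic J) n
        ⟨algebraMap R S x, Ideal.map_le_iff_le_comap.mp (by
          rw [Ideal.map_pow]; exact Ideal.pow_right_mono Ideal.map_comap_le n) hx⟩ =
        AssocGr.inDeg (FiltBl.IdealFiltration.adic J) n ⟨(f : Polynomial S).coeff n, f.2 n⟩ :=
      sub_eq_zero.mp (by rw [← map_sub, AssocGr.inDeg_eq_zero_iff]; exact hxy)
    exact (congrArg Subtype.val h0).trans rfl

end Groth.Agent.S16452
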