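import Groth.Statements.S16453
import Groth.Agent.H22.GrHelp

set_option autoImplicit false
universe u
open AdicGr

namespace Groth.Agent.S16453

/-- Let A be a commutative ring, I an ideal and Â the I-adic completion, filtered by the kernels Âₙ of
the projections Â → A/Iⁿ. Then the homomorphism of associated graded rings ⊕ₙ Iⁿ/Iⁿ⁺¹ → ⊕ₙ Âₙ/Âₙ₊₁
induced by the canonical map A → Â is bijective. No hypothesis on A or I is needed. (The published
statement is for an arbitrary filtered ring and also asserts the analogous isomorphism for a
compatibly filtered module; this row is the ring assertion for the filtration by the powers of one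
ideal.) -/
theorem result (A : Type u) [CommRing A] (I : Ideal A) :
    Function.Bijective (AssocGr.map (AssocGr.isFiltHom_kerFilt I)) := by
  have top : ∀ m, (I ^ m • ⊤ : Ideal A) = I ^ m := fun m => by rw [Ideal.smul_eq_mul, Ideal.mul_top]
  refine ⟨Groth.Agent.H22.GrHelp.map_injective_of _ fun n a ha h => ?_,
    Groth.Agent.H22.GrHelp.map_surjective_of _ fun n b hb => ?_⟩
  · rw [AssocGr.mem_kerFilt_iff_val, AdicCompletion.algebraMap_apply, Algebra.algebraMap_self,
      RingHom.id_apply, AdicCompletion.of_apply, Submodule.mkQ_apply, Submodule.Quotient.mk_eq_zero, top] at h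
    exact h
  · obtain ⟨a, ha⟩ := Submodule.Quotient.mk_surjective _ (b.val (n + 1))
    rw [AssocGr.mem_kerFilt_iff_val] at hb
    have h1 := AdicCompletion.transitionMap_comp_eval_apply I A n.le_succ b
    rw [hb] at h1
    have han : a ∈ I ^ n := by
      rw [show b.val (Nat.succ n) = Submodule.Quotient.mk a from ha.symm] at h1
      change Submodule.Quotient.mk a = (0 : A ⧸ (I ^ n • ⊤ : Ideal A)) at h1
      rwa [Submodule.Quotient.mk_eq_zero, top] at h1
    refine ⟨a, han, ?_⟩
    rw [AssocGr.mem_kerFilt_iff_val, AdicCompletion.val_sub, Pi.sub_apply, AdicCompletion.algebraMap_apply,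
      Algebra.algebraMap_self, RingHom.id_apply, AdicCompletion.of_apply, Submodule.mkQ_apply, ← ha, sub_self]

end Groth.Agent.S16453
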