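import Groth.Statements.S16454
import Groth.Agent.Lib.LocalFlat.Basic
import Mathlib.LinearAlgebra.TensorProduct.Quotient
import Mathlib.LinearAlgebra.TensorProduct.Finiteness
import Mathlib.RingTheory.Flat.Stability

set_option autoImplicit false
universe u
open TensorProduct
open EGA43

namespace Groth.Agent.S16454

/-- Let A be a commutative ring, I a nilpotent ideal of A and M an A-module, and form the associated
graded ring G = ⊕ₙ Iⁿ/Iⁿ⁺¹ and the associated graded G-module gr_I(M) = ⊕ₙ IⁿM/Iⁿ⁺¹M. Assume that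
M/IM is flat over A/I and that the canonical homomorphism (M/IM) ⊗ G → gr_I(M), [x] ⊗ [a] ↦ [a·x],
is injective: degree by degree, whenever elements a_i ∈ Iⁿ and x_i ∈ M satisfy Σ_i [a_i]·[x_i] = 0
in gr_I(M) (that is Σ a_i x_i ∈ Iⁿ⁺¹M), the element Σ_i [a_i] ⊗ [x_i] of (Iⁿ/Iⁿ⁺¹) ⊗ (M/IM) is zero.
Then M is a flat A-module. (The published lemma is stated for any finite decreasing multiplicative
filtration A = J₀ ⊇ J₁ ⊇ … ⊇ J_N₊₁ = 0 of A with M filtered by the submodules JₙM; this row is its
case Jₙ = Iⁿ.) -/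
theorem result (A : Type u) [CommRing A] (I : Ideal A)
    (hI : IsNilpotent I) (M : Type u) [AddCommGroup M] [Module A M]
    (hflat : Module.Flat (A ⧸ I) (M ⧸ (I • (⊤ : Submodule A M))))
    (hinj : ∀ (n k : ℕ) (a : Fin k → ↥((FiltBl.IdealFiltration.adic I).F n))
      (x : Fin k → ↥((Rees.powFilt I M).N 0)),
      (∑ i, (AssocGr.inDeg (FiltBl.IdealFiltration.adic I) n (a i) :
          AssocGr.GrRing (FiltBl.IdealFiltration.adic I)) •
        (AssocGr.inDegM (Rees.powFilt I M) 0 (x i) : AssocGr.GrMod (Rees.powFilt I M))) = 0 →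
      (∑ i, (AssocGr.inDeg (FiltBl.IdealFiltration.adic I) n (a i)) ⊗ₜ[A]
          (Submodule.Quotient.mk (x i : M)) :
        ↥(AssocGr.gr (FiltBl.IdealFiltration.adic I) n) ⊗[A] (M ⧸ (I • (⊤ : Submodule A M)))) = 0) :
    Module.Flat A M := by
  classical
  obtain ⟨N, hN⟩ := hI
  let 𝓕 := FiltBl.IdealFiltration.adic I
  have : Module.Flat (A ⧸ I) ((A ⧸ I) ⊗[A] M) := by
    have := hflat
    exact Module.Flat.of_linearEquiv (LinearEquiv.extendScalarsOfSurjective
      (Ideal.Quotient.mk_surjective (I := I)) (TensorProduct.quotTensorEquivQuotSMul M I))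
  have step : ∀ n, Function.Injective ((I ^ (n + 1)).subtype.lTensor M) →
      Function.Injective ((I ^ n).subtype.lTensor M) := by
    intro n h
    rw [injective_iff_map_eq_zero]
    intro z hz
    obtain ⟨k, m, a, rfl⟩ := TensorProduct.exists_sum_tmul_eq z
    have hsum : ∑ i, (a i : A) • m i = 0 := by
      have := congrArg (TensorProduct.rid A M) hz
      simpa using this
    have hN0 : ∀ y : M, y ∈ (Rees.powFilt I M).N 0 := fun y ↦ by simp [Rees.powFilt]
    let a' : Fin k → ↥(𝓕.F n) := fun i ↦ ⟨(a i : A), (a i).2⟩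
    let x : Fin k → ↥((Rees.powFilt I M).N 0) := fun i ↦ ⟨m i, hN0 _⟩
    have h0 := hinj n k a' x (by
      simp only [AssocGr.inDeg_smul_inDegM]
      rw [← AddSubgroup.val_finsetSum, ← map_sum, ZeroMemClass.coe_eq_zero, AssocGr.inDegM_eq_zero_iff,
        AddSubmonoidClass.coe_finset_sum]
      show ∑ i, (a i : A) • m i ∈ _
      rw [hsum]
      exact Submodule.zero_mem _)
    let g : ↥(I ^ n) →ₗ[A] ↥(AssocGr.gr 𝓕 n) := AssocGr.inDeg 𝓕 n
    let P : Submodule A ↥(I ^ n) := Submodule.comap (I ^ n).subtype (I ^ (n + 1) : Ideal A)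
    have hker : LinearMap.ker g = P := by
      ext b
      exact (AssocGr.inDeg_eq_zero_iff 𝓕 n b)
    have hex : Function.Exact P.subtype g := by
      rw [LinearMap.exact_iff, hker, Submodule.range_subtype]
    have h1 : ∑ i, m i ⊗ₜ[A] a i ∈ LinearMap.ker
        (TensorProduct.map (I • (⊤ : Submodule A M)).mkQ g) := by
      rw [LinearMap.mem_ker, map_sum]
      have := congrArg (TensorProduct.comm A ↥(AssocGr.gr 𝓕 n) (M ⧸ (I • (⊤ : Submodule A M)))) h0
      simp only [map_sum, map_zero, TensorProduct.comm_tmul] at this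
      simp only [TensorProduct.map_tmul, Submodule.mkQ_apply]
      exact this
    rw [TensorProduct.map_ker (LinearMap.exact_subtype_mkQ (I • (⊤ : Submodule A M)))
      (Submodule.mkQ_surjective _) hex (AssocGr.inDeg_surjective 𝓕 n)] at h1
    have hle : LinearMap.range (P.subtype.lTensor M) ⊔
        LinearMap.range ((I • (⊤ : Submodule A M)).subtype.rTensor ↥(I ^ n)) ≤
        LinearMap.range ((Submodule.inclusion (Ideal.pow_le_pow_right n.le_succ)).lTensor M :
          M ⊗[A] ↥(I ^ (n + 1)) →ₗ[A] M ⊗[A] ↥(I ^ n)) := by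
      refine sup_le ?_ ?_
      · rintro _ ⟨t, rfl⟩
        induction t using TensorProduct.induction_on with
        | zero => simp
        | add p q hp hq => rw [map_add]; exact add_mem hp hq
        | tmul u b => exact ⟨u ⊗ₜ ⟨b.1.1, b.2⟩, rfl⟩
      · rintro _ ⟨t, rfl⟩
        induction t using TensorProduct.induction_on with
        | zero => simp
        | add p q hp hq => rw [map_add]; exact add_mem hp hq
        | tmul u b =>
          rw [LinearMap.rTensor_tmul]
          obtain ⟨u, hu⟩ := u
          show u ⊗ₜ[A] b ∈ _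
          induction hu using Submodule.smul_induction_on' with
          | smul r hr v _ =>
            refine ⟨v ⊗ₜ ⟨r * b.1, ?_⟩, ?_⟩
            · rw [pow_succ']; exact Ideal.mul_mem_mul hr b.2
            · rw [LinearMap.lTensor_tmul, TensorProduct.smul_tmul]
              congr 1
          | add p _ q _ hp hq => rw [TensorProduct.add_tmul]; exact add_mem hp hq
    obtain ⟨w, hw⟩ := hle h1
    have hw0 : w = 0 := h (by
      rw [map_zero, ← hz, ← hw, ← LinearMap.comp_apply ((I ^ n).subtype.lTensor M), ← LinearMap.lTensor_comp]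
      rfl)
    rw [← hw, hw0, map_zero]
  have key : ∀ d n, N ≤ n + d → Function.Injective ((I ^ n).subtype.lTensor M) := by
    intro d
    induction d with
    | zero =>
      intro n hn
      have : I ^ n = ⊥ := le_bot_iff.1 ((Ideal.pow_le_pow_right (by omega)).trans hN.le)
      have : Subsingleton ↥(I ^ n) := Submodule.subsingleton_iff_eq_bot.2 this
      exact Function.injective_of_subsingleton _
    | succ d ih => exact fun n hn ↦ step n (ih (n + 1) (by omega))
  have h1 : Function.Injective (I.subtype.lTensor M) := by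
    have := key N 1 (by omega)
    rwa [pow_one] at this
  refine Groth.Agent.Lib.LocalFlat.Basic.flat_of_tor1Zero fun J _ ↦
    Groth.Agent.Lib.LocalFlat.Basic.Tor1Zero.of_pow_smul_eq_zero h1 N fun r hr x ↦ ?_
  rw [hN, Ideal.zero_eq_bot, Ideal.mem_bot] at hr
  rw [hr, zero_smul]

end Groth.Agent.S16454
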