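import Groth.Statements.S16456
import Groth.Agent.H22.GrHelp

set_option autoImplicit false
universe u
open AdicGr

namespace Groth.Agent.S16456

/-- Let φ : A → B be a ring homomorphism, I ⊆ A and J ⊆ B ideals with φ(I)B ⊆ J, so that φ is a
homomorphism of filtered rings for the I-adic and J-adic filtrations. Assume that A is I-adically
complete in the sense that every I-adically Cauchy sequence has a limit, that B is J-adically
separated, and that the induced homomorphism of associated graded rings ⊕ₙ Iⁿ/Iⁿ⁺¹ → ⊕ₙ Jⁿ/Jⁿ⁺¹ is
surjective. Then φ is surjective, φ is strict (Jⁿ = φ(Iⁿ)B for all n, that is J = φ(I)B), and B is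
J-adically separated and complete. (The published statement is for a homomorphism of filtered
modules over a filtered ring, with arbitrary compatible filtrations; this row is its case of a ring
homomorphism with adic filtrations.) -/
theorem result (A : Type u) [CommRing A] (B : Type u)
    [CommRing B] (φ : A →+* B) (I : Ideal A) (J : Ideal B) (hIJ : I.map φ ≤ J)
    [IsPrecomplete I A] [IsHausdorff J B]
    (h : Function.Surjective (AssocGr.map (AssocGr.IsFiltHom.adic hIJ))) :
    Function.Surjective φ ∧ I.map φ = J ∧ IsAdicComplete J B := by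
  classical
  have hsurj : Function.Surjective φ := fun b => by
    obtain ⟨a, -, ha⟩ := Groth.Agent.H22.GrHelp.surjective_of_map I hIJ h 0 b (by simp)
    exact ⟨a, ha⟩
  refine ⟨hsurj, le_antisymm hIJ fun b hb => ?_, ?_⟩
  · obtain ⟨a, ha, rfl⟩ := Groth.Agent.H22.GrHelp.surjective_of_map I hIJ h 1 b (by rwa [pow_one])
    exact Ideal.mem_map_of_mem φ (by rwa [pow_one] at ha)
  · haveI : IsPrecomplete J B := ⟨fun f hf => by
      have hd : ∀ n, ∃ a ∈ I ^ n, φ a = f (n + 1) - f n := fun n => by
        refine Groth.Agent.H22.GrHelp.surjective_of_map I hIJ h n _ ?_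
        have := SModEq.sub_mem.1 (hf (Nat.le_succ n))
        rw [Ideal.smul_eq_mul, Ideal.mul_top] at this
        simpa using neg_mem this
      choose a ha hφa using hd
      obtain ⟨L, hL⟩ := Groth.Agent.H22.GrHelp.exists_limit I a id (fun c => ⟨c, fun n hn => hn⟩) ha monotone_id
      refine ⟨f 0 + φ L, fun n => ?_⟩
      rw [SModEq.sub_mem, Ideal.smul_eq_mul, Ideal.mul_top]
      have h1 := Ideal.mem_map_of_mem φ (hL n)
      rw [Ideal.map_pow, map_sub, map_sum] at h1
      simp only [hφa, Finset.sum_range_sub, id] at h1
      have h2 := Ideal.pow_right_mono hIJ _ h1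
      rw [show f n - (f 0 + φ L) = -(φ L - (f n - f 0)) by abel]
      exact neg_mem h2⟩
    exact {}

end Groth.Agent.S16456
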