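import Groth.Statements.S16470
import Groth.Agent.Lib.CurveBundle.Ctx
import Groth.Agent.Lib.CurveBundle.SlopeMax

set_option autoImplicit false
universe u
open CategoryTheory CategoryTheory.Limits AlgebraicGeometry
open VBCurve

namespace Groth.Agent.S16470

/-- Let X be a smooth proper integral curve (integral, smooth and proper of dimension one) over an
algebraically closed field k and E a finite locally free O_X-module of rank r ≥ 1 (degree = χ −
rank·χ(O_X), slope = degree / rank). There is a finite locally free submodule E₁ ⊂ E (a monomorphism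
of O_X-modules) of some rank r₁ ≥ 1, the destabilising sub-bundle, such that: every finite locally
free submodule F ⊂ E of rank r' ≥ 1 has slope at most that of E₁ (deg F · r₁ ≤ deg E₁ · r'); and the
maximal slope drops in the quotient, i.e. every finite locally free submodule G of rank r' ≥ 1 of
the cokernel E/E₁ has deg G · r₁ < deg E₁ · r'. Moreover a submodule with these two properties is
unique: any two are the same subobject of E. (Such an E₁ is slope-semistable, every submodule of E₁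
being a submodule of E; the published statement lists semistability of E₁ as a third property, which
is therefore omitted here.) -/
theorem result (k : Type u) [Field k] [IsAlgClosed k] (X : Scheme.{u}) [X.Over (Spec (CommRingCat.of k))]
    [IsIntegral X] [IsProper (X ↘ Spec (CommRingCat.of k))] [Smooth (X ↘ Spec (CommRingCat.of k))]
    (hdim : topologicalKrullDim X = 1)
    (r : ℕ) (hr : 0 < r) (E : X.Modules) (hE : FlatMod.IsFinLocFreeOfRank r E) :
    (∃ (E₁ : X.Modules) (r₁ : ℕ) (i₁ : E₁ ⟶ E), Mono i₁ ∧ 0 < r₁ ∧ FlatMod.IsFinLocFreeOfRank r₁ E₁ ∧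
      (∀ (F : X.Modules) (r' : ℕ) (j : F ⟶ E), Mono j → 0 < r' → FlatMod.IsFinLocFreeOfRank r' F →
        Curv2.deg k X F r' * (r₁ : ℤ) ≤ Curv2.deg k X E₁ r₁ * (r' : ℤ)) ∧
      (∀ (Q : X.Modules) (s : ℕ) (j : Q ⟶ cokernel i₁), Mono j → 0 < s → FlatMod.IsFinLocFreeOfRank s Q →
        Curv2.deg k X Q s * (r₁ : ℤ) < Curv2.deg k X E₁ r₁ * (s : ℤ))) ∧
    (∀ (E₁ E₁' : X.Modules) (r₁ r₁' : ℕ) (i₁ : E₁ ⟶ E) (i₁' : E₁' ⟶ E),
      Mono i₁ → 0 < r₁ → FlatMod.IsFinLocFreeOfRank r₁ E₁ →
      (∀ (F : X.Modules) (r' : ℕ) (j : F ⟶ E), Mono j → 0 < r' → FlatMod.IsFinLocFreeOfRank r' F →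
        Curv2.deg k X F r' * (r₁ : ℤ) ≤ Curv2.deg k X E₁ r₁ * (r' : ℤ)) →
      (∀ (Q : X.Modules) (s : ℕ) (j : Q ⟶ cokernel i₁), Mono j → 0 < s → FlatMod.IsFinLocFreeOfRank s Q →
        Curv2.deg k X Q s * (r₁ : ℤ) < Curv2.deg k X E₁ r₁ * (s : ℤ)) →
      Mono i₁' → 0 < r₁' → FlatMod.IsFinLocFreeOfRank r₁' E₁' →
      (∀ (F : X.Modules) (r' : ℕ) (j : F ⟶ E), Mono j → 0 < r' → FlatMod.IsFinLocFreeOfRank r' F →
        Curv2.deg k X F r' * (r₁' : ℤ) ≤ Curv2.deg k X E₁' r₁' * (r' : ℤ)) →
      (∀ (Q : X.Modules) (s : ℕ) (j : Q ⟶ cokernel i₁'), Mono j → 0 < s → FlatMod.IsFinLocFreeOfRank s Q →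
        Curv2.deg k X Q s * (r₁' : ℤ) < Curv2.deg k X E₁' r₁' * (s : ℤ)) →
      ∃ e : E₁ ≅ E₁', e.hom ≫ i₁' = i₁) := by
  open Groth.Agent.Lib.CurveBundle in
    have := Groth.Agent.Lib.CurveBundle.Ctx.ofIntegral k hdim
    obtain ⟨hEc, hET, er, -⟩ := Slope.bundle (k := k) hE
    refine ⟨?_, ?_⟩
    · obtain ⟨G, i, hi, hG, h0, h1, h2⟩ := SlopeMax.exists_max hEc hET (er.symm ▸ hr)
      obtain ⟨hb, hd⟩ := Slope.sub_bundle (k := k) i hG hET
      refine ⟨G, _, i, hi, h0, hb, ?_, ?_⟩
      · intro H n j hj _ hH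
        obtain ⟨hHc, -, en, edH⟩ := Slope.bundle (k := k) hH
        rw [hd, edH, ← en]
        exact h1 H j hj hHc
      · intro H n j hj hn hH
        obtain ⟨hHc, -, en, edH⟩ := Slope.bundle (k := k) hH
        rw [hd, edH, ← en]
        exact SlopeMax.drop_of_max i hEc hG h1 h2 j hHc (en.symm ▸ hn)
    · intro G G' n n' i i' hi hn hG hmax hdrop hi' hn' hG' hmax' hdrop'
      obtain ⟨hGc, -, en, edG⟩ := Slope.bundle (k := k) hG
      obtain ⟨hGc', -, en', edG'⟩ := Slope.bundle (k := k) hG'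
      refine SlopeMax.unique (k := k) i i' hEc hET hGc hGc' (en.symm ▸ hn) (en'.symm ▸ hn') ?_ ?_ ?_ ?_
      · intro H j hj hH
        rcases Nat.eq_zero_or_pos (Degree.gr k H) with h0 | h0
        · simp [(Slope.sub_zero_rank j hH hET h0).2, h0]
        · obtain ⟨hb, hd⟩ := Slope.sub_bundle (k := k) j hH hET
          have h := hmax H _ j hj h0 hb
          rw [hd, edG, ← en] at h
          exact h
      · intro H j hj hH
        rcases Nat.eq_zero_or_pos (Degree.gr k H) with h0 | h0
        · simp [(Slope.sub_zero_rank j hH hET h0).2, h0]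
        · obtain ⟨hb, hd⟩ := Slope.sub_bundle (k := k) j hH hET
          have h := hmax' H _ j hj h0 hb
          rw [hd, edG', ← en'] at h
          exact h
      · intro Q q hq hQ hT h0
        have hb := Degree.rank_gr k hQ hT
        have h := hdrop Q _ q hq h0 hb
        rw [← Degree.dg_eq_deg k hb, edG, ← en] at h
        exact h
      · intro Q q hq hQ hT h0
        have hb := Degree.rank_gr k hQ hT
        have h := hdrop' Q _ q hq h0 hb
        rw [← Degree.dg_eq_deg k hb, edG', ← en'] at h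
        exact h

end Groth.Agent.S16470
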