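import Groth.Statements.S16478
import Groth.Agent.H2.Chars

set_option autoImplicit false
universe u
open GaDual

namespace Groth.Agent.S16478

/-- Let A be a commutative ring of prime characteristic p and n ≥ 1, and let φ be the comorphism of the
closed immersion α_{p^n} → G_a over A: the bialgebra map from the Hopf algebra of the additive group
(generator t primitive) to A[x]/(x^(p^n)) (x primitive) sending t to x. Then the restriction map on
characters, from those of the additive group over A to those of α_{p^n} over A, is surjective: every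
group-like element of A[x]/(x^(p^n)) is the image under φ of a group-like element of the Hopf
algebra of the additive group. -/
theorem result (p : ℕ) [Fact p.Prime] (A : Type u) [CommRing A] [CharP A p]
    (n : ℕ) (hn : 1 ≤ n) (φ : SekSuwa.A A 0 →ₐc[A] AlphaPn.A p n A) (hφ : φ SekSuwa.A.t = AlphaPn.x p n A)
    (u : AlphaPn.A p n A) (hu : IsGroupLikeElem A u) :
    ∃ g : SekSuwa.A A 0, IsGroupLikeElem A g ∧ φ g = u := by
  let q := p ^ n
  let I : Ideal (MvPolynomial (Fin 2) A) :=
    Ideal.span {(MvPolynomial.X 0 ^ q : MvPolynomial (Fin 2) A), MvPolynomial.X 1 ^ q}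
  obtain ⟨f₀, hf₀⟩ := AlphaPn.mk_surjective p n A u
  obtain ⟨f, hf, hdeg⟩ : ∃ f : Polynomial A, AlphaPn.mk p n A f = u ∧ f.natDegree < p ^ n := by
    refine ⟨f₀ %ₘ Polynomial.X ^ (p ^ n), ?_, ?_⟩
    · conv_rhs => rw [← hf₀, ← Polynomial.modByMonic_add_div f₀ (Polynomial.X ^ (p ^ n) : Polynomial A)]
      rw [map_add, map_mul, map_pow, AlphaPn.mk_X, AlphaPn.x_pow, zero_mul, add_zero]
    · have hp : p.Prime := Fact.out
      haveI : Nontrivial A := CharP.nontrivial_of_char_ne_one (R := A) hp.ne_one
      refine lt_of_lt_of_le (Polynomial.natDegree_modByMonic_lt _ (Polynomial.monic_X_pow _) ?_)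
        (Polynomial.natDegree_X_pow _).le
      intro h
      have h' := congrArg Polynomial.natDegree h
      rw [Polynomial.natDegree_X_pow, Polynomial.natDegree_one] at h'
      exact pow_ne_zero _ hp.ne_zero h'
  have hux : Polynomial.aeval (AlphaPn.x p n A) f = u := (AlphaPn.aeval_x p n A f).trans hf
  have hcomul : Polynomial.aeval (AlphaPn.x p n A ⊗ₜ[A] (1 : AlphaPn.A p n A)
      + (1 : AlphaPn.A p n A) ⊗ₜ[A] AlphaPn.x p n A) f = u ⊗ₜ[A] u := by
    rw [← hu.comul_eq_tmul_self, ← hux, ← AlphaPn.comul_x,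
      ← Bialgebra.comulAlgHom_apply, ← Bialgebra.comulAlgHom_apply, Polynomial.aeval_algHom_apply]
  have h0 : f.eval 0 = 1 := by
    have h := hu.counit_eq_one
    rw [← hux, ← Bialgebra.counitAlgHom_apply, ← Polynomial.aeval_algHom_apply,
      Bialgebra.counitAlgHom_apply, AlphaPn.counit_x] at h
    exact (Polynomial.coe_aeval_eq_eval (0 : A) ▸ h : f.eval 0 = 1)
  have hz : ∀ i : Fin 2, (Ideal.Quotient.mk I (MvPolynomial.X i)) ^ q = 0 := fun i => by
    rw [← map_pow, Ideal.Quotient.eq_zero_iff_mem]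
    exact Ideal.subset_span (by fin_cases i <;> simp)
  let L := Algebra.TensorProduct.lift (AlphaPn.lift p n A (Ideal.Quotient.mk I (MvPolynomial.X 0)) (hz 0))
    (AlphaPn.lift p n A (Ideal.Quotient.mk I (MvPolynomial.X 1)) (hz 1)) (fun _ _ => Commute.all _ _)
  have hL := congrArg L hcomul
  rw [← Polynomial.aeval_algHom_apply, map_add] at hL
  simp only [L, Algebra.TensorProduct.lift_tmul, map_one, mul_one, one_mul, AlphaPn.lift_x] at hL
  rw [← hux, ← Polynomial.aeval_algHom_apply, ← Polynomial.aeval_algHom_apply, AlphaPn.lift_x,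
    AlphaPn.lift_x, ← map_add] at hL
  simp only [← Ideal.Quotient.mkₐ_eq_mk A, Polynomial.aeval_algHom_apply, ← map_mul] at hL
  obtain ⟨a, ha, hfa⟩ := Groth.Agent.H2.Chars.alpha_char (p := p) n f hdeg h0
    (Ideal.Quotient.eq.1 hL)
  refine ⟨Polynomial.aeval SekSuwa.A.t f, ⟨?_, ?_⟩, ?_⟩
  · rw [← Bialgebra.counitAlgHom_apply, ← Polynomial.aeval_algHom_apply,
      Bialgebra.counitAlgHom_apply, SekSuwa.A.counit_t, Polynomial.coe_aeval_eq_eval]
    exact h0
  · rw [← Bialgebra.comulAlgHom_apply, ← Polynomial.aeval_algHom_apply,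
      Bialgebra.comulAlgHom_apply, SekSuwa.A.comul_t, zero_smul, add_zero, hfa,
      Groth.Agent.H2.Chars.aeval_expProd_add a n (fun i _ => ha i)]
    rw [← Algebra.TensorProduct.includeLeft_apply (S := A), ← Algebra.TensorProduct.includeRight_apply,
      Polynomial.aeval_algHom_apply, Polynomial.aeval_algHom_apply,
      Algebra.TensorProduct.includeLeft_apply, Algebra.TensorProduct.includeRight_apply,
      Algebra.TensorProduct.tmul_mul_tmul, one_mul, mul_one]
  · rw [← BialgHom.coe_toAlgHom, ← Polynomial.aeval_algHom_apply, BialgHom.coe_toAlgHom, hφ, hux]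

end Groth.Agent.S16478
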