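import Groth.Statements.S16483
import Mathlib.AlgebraicGeometry.IdealSheaf.Functorial
import Mathlib.AlgebraicGeometry.Morphisms.ClosedImmersion

set_option autoImplicit false
open CategoryTheory CategoryTheory.Limits AlgebraicGeometry
universe u
open FrobSch

namespace Groth.Agent.S16483

/-- Let p be a prime, k a perfect field of characteristic p, T a k-scheme and X a k-scheme with
Frobenius twist X^(p) = X ×_{Spec k, F} Spec k and relative Frobenius F_{X/k} : X ⟶ X^(p). For m ≥ 0
write T^(m) for the closed subscheme of T cut out by the sections whose p^m-th power vanishes (the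
scheme-theoretic image of the m-fold absolute Frobenius F_T^m), and T_0 for the reduced closed
subscheme of T; the inclusions T_0 ⟶ T^(n+1) and T_0 ⟶ T^(n) over T are the given morphisms i and j.
Then for every k-morphism w : T^(n+1) ⟶ X there is a k-morphism v : T^(n) ⟶ X^(p) whose restriction
to T_0 is F_{X/k} composed with the restriction of w to T_0. (The published statement takes T to be
the special fibre of a flat p-adic formal scheme of finite type over the Witt vectors of k, is
phrased for categories of such objects, and takes X locally of finite type over k; none of this is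
used, so T and X are arbitrary k-schemes here.) -/
theorem result (p : ℕ) [Fact p.Prime]
    (k : Type u) [Field k] [CharP k p] [PerfectField k] (n : ℕ)
    {T X : Scheme.{u}} [FrobSch.IsCharP T p] (t : T ⟶ Spec (CommRingCat.of k))
    (x : X ⟶ Spec (CommRingCat.of k))
    (i : T.nilradical.subscheme ⟶ (FrobSch.frobIter T p (n + 1)).ker.subscheme)
    (hi : i ≫ (FrobSch.frobIter T p (n + 1)).ker.subschemeι = T.nilradical.subschemeι)
    (j : T.nilradical.subscheme ⟶ (FrobSch.frobIter T p n).ker.subscheme)
    (hj : j ≫ (FrobSch.frobIter T p n).ker.subschemeι = T.nilradical.subschemeι)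
    (w : (FrobSch.frobIter T p (n + 1)).ker.subscheme ⟶ X)
    (hw : w ≫ x = (FrobSch.frobIter T p (n + 1)).ker.subschemeι ≫ t) :
    ∃ v : (FrobSch.frobIter T p n).ker.subscheme ⟶ FrobSch.frobTwist x p,
      v ≫ pullback.snd x (FrobSch.frob (Spec (CommRingCat.of k)) p) =
          (FrobSch.frobIter T p n).ker.subschemeι ≫ t ∧
        j ≫ v = i ≫ w ≫ FrobSch.relFrob x p := by
  have hsucc : ∀ m, FrobSch.frobIter T p (m + 1) = FrobSch.frobIter T p m ≫ FrobSch.frob T p := fun m => by
    rw [FrobSch.frobIter_succ, FrobSch.frob_comp]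
  revert i hi j hj w hw
  set K₁ := (FrobSch.frobIter T p (n + 1)).ker with hK₁
  set K₀ := (FrobSch.frobIter T p n).ker with hK₀
  intro i hi j hj w hw
  haveI : FrobSch.IsCharP K₀.subscheme p := FrobSch.IsCharP.of_hom K₀.subschemeι p
  haveI : FrobSch.IsCharP K₁.subscheme p := FrobSch.IsCharP.of_hom K₁.subschemeι p
  haveI : FrobSch.IsCharP X p := FrobSch.IsCharP.of_hom x p
  haveI : FrobSch.IsCharP T.nilradical.subscheme p := FrobSch.IsCharP.of_hom T.nilradical.subschemeι p
  have hle : K₁.subschemeι.ker ≤ (K₀.subschemeι ≫ FrobSch.frob T p).ker := by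
    rw [Scheme.IdealSheafData.ker_subschemeι, Scheme.Hom.ker_comp K₀.subschemeι, Scheme.IdealSheafData.ker_subschemeι,
      hK₀, ← Scheme.Hom.ker_comp, ← hsucc]
  let φ := IsClosedImmersion.lift K₁.subschemeι (K₀.subschemeι ≫ FrobSch.frob T p) hle
  have hφ : φ ≫ K₁.subschemeι = K₀.subschemeι ≫ FrobSch.frob T p := IsClosedImmersion.lift_fac _ _ _
  have hax : (φ ≫ w) ≫ x = (K₀.subschemeι ≫ t) ≫ FrobSch.frob (Spec (CommRingCat.of k)) p := by
    rw [Category.assoc, hw, ← Category.assoc, hφ, Category.assoc, FrobSch.frob_comp, Category.assoc]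
  refine ⟨pullback.lift (φ ≫ w) (K₀.subschemeι ≫ t) hax, pullback.lift_snd _ _ _, ?_⟩
  have hjφ : j ≫ φ = FrobSch.frob _ p ≫ i := by
    rw [← cancel_mono K₁.subschemeι, Category.assoc, hφ, ← Category.assoc, hj, Category.assoc, hi,
      FrobSch.frob_comp]
  apply pullback.hom_ext
  · rw [Category.assoc, pullback.lift_fst, ← Category.assoc, hjφ, Category.assoc, Category.assoc, Category.assoc,
      FrobSch.relFrob_fst, ← FrobSch.frob_comp p w, ← Category.assoc, ← Category.assoc, FrobSch.frob_comp p i,
      Category.assoc]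
  · rw [Category.assoc, pullback.lift_snd, Category.assoc, Category.assoc, FrobSch.relFrob_snd, hw,
      ← Category.assoc, hj, ← Category.assoc, hi]

end Groth.Agent.S16483
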