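import Groth.Statements.S16496
import Groth.Agent.Lib.FlatHartogs.Alg
import Groth.Agent.Lib.Modules.AffineSections
import Groth.Agent.Lib.RefHull.PushU

set_option autoImplicit false
universe u
open CategoryTheory AlgebraicGeometry
open SGA3

namespace Groth.Agent.S16496

open Groth.Agent.Lib Groth.Agent.Lib.QCoh.Localizing TopologicalSpace

/-- Restriction to a big open is bijective on sections over an affine open. -/
theorem bijective_res {S : Scheme.{u}} [IsLocallyNoetherian S] [CompactSpace S]
    (hS : Pi1.IsNormalScheme S) (A : S.Modules) [A.IsQuasicoherent] (hAfl : FlatMod.IsFlat A)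
    (U : S.Opens) (hU : ∀ s : S, ringKrullDim (S.presheaf.stalk s) ≤ 1 → s ∈ U)
    {V : S.Opens} (hV : IsAffineOpen V) {W : S.Opens} (hW : W = U ⊓ V) (hWV : W ≤ V) :
    Function.Bijective (res A hWV) := by
  have : IsNoetherian S := ⟨⟩
  have : IsNoetherianRing Γ(S, V) := IsLocallyNoetherian.component_noetherian ⟨V, hV⟩
  have := Groth.Agent.Lib.Modules.AffineSections.flat_sections hAfl hV
  let pt : PrimeSpectrum Γ(S, V) → V := fun p => ⟨hV.fromSpec p, hV.opensRange_fromSpec.le ⟨p, rfl⟩⟩
  have hpt : ∀ p, hV.primeIdealOf (pt p) = p := fun p =>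
    hV.fromSpec.isOpenEmbedding.injective (hV.fromSpec_primeIdealOf (pt p))
  have hR : ∀ (P : Ideal Γ(S, V)) [P.IsPrime],
      IsDomain (Localization.AtPrime P) ∧ IsIntegrallyClosed (Localization.AtPrime P) := by
    intro P hP
    let y := pt ⟨P, hP⟩
    letI := TopCat.Presheaf.algebra_section_stalk S.presheaf y
    have h := hV.isLocalization_stalk y
    have : IsLocalization.AtPrime (S.presheaf.stalk y.1) P := by
      have e : hV.primeIdealOf y = ⟨P, hP⟩ := hpt _
      convert h using 1
      rw [e]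
    let e := (IsLocalization.algEquiv P.primeCompl (S.presheaf.stalk y.1) (Localization.AtPrime P)).toRingEquiv
    obtain ⟨_, _⟩ := hS y.1
    exact ⟨e.symm.injective.isDomain e.symm.toRingHom, IsIntegrallyClosed.of_equiv e⟩
  have hWc : IsCompact (W : Set S) := NoetherianSpace.isCompact _
  obtain ⟨T, hT, hTW⟩ : ∃ T : Set Γ(S, V), T.Finite ∧ (W : Set S) = ⋃ f ∈ T, (S.basicOpen f : Set S) := by
    obtain ⟨T, hT⟩ := hWc.elim_finite_subcover (fun f : {f : Γ(S, V) // S.basicOpen f ≤ W} => (S.basicOpen f.1 : Set S))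
      (fun f => (S.basicOpen f.1).2) (fun x hx => by
        obtain ⟨f, hf, hxf⟩ := hV.exists_basicOpen_le ⟨x, hx⟩ (hWV hx)
        exact Set.mem_iUnion.2 ⟨⟨f, hf⟩, hxf⟩)
    refine ⟨Subtype.val '' (T : Set {f : Γ(S, V) // S.basicOpen f ≤ W}), T.finite_toSet.image _, ?_⟩
    refine subset_antisymm (hT.trans ?_) ?_
    · intro x hx
      obtain ⟨f, hf, hxf⟩ := Set.mem_iUnion₂.1 hx
      exact Set.mem_iUnion₂.2 ⟨f.1, ⟨f, hf, rfl⟩, hxf⟩
    · intro x hx
      obtain ⟨_, ⟨f, -, rfl⟩, hxf⟩ := Set.mem_iUnion₂.1 hx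
      exact f.2 hxf
  have := hT.to_subtype
  have hTle : ∀ i : T, S.basicOpen i.1 ≤ W := fun i x hx => by
    rw [← SetLike.mem_coe, hTW]; exact Set.mem_iUnion₂.2 ⟨i.1, i.2, hx⟩
  have hcov : ∀ (n : ℕ) (q : Ideal Γ(S, V)), q.IsPrime → q.height ≤ 1 → ∃ i : T, i.1 ^ n ∉ q := by
    intro n q hq hq1
    let y := pt ⟨q, hq⟩
    have e : hV.primeIdealOf y = ⟨q, hq⟩ := hpt _
    letI := TopCat.Presheaf.algebra_section_stalk S.presheaf y
    have : IsLocalization.AtPrime (S.presheaf.stalk y.1) q := by
      convert hV.isLocalization_stalk y using 1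
      rw [e]
    have hy : y.1 ∈ W := by
      rw [hW]
      refine ⟨hU _ ?_, y.2⟩
      rw [IsLocalization.AtPrime.ringKrullDim_eq_height q]
      exact_mod_cast hq1
    rw [← SetLike.mem_coe, hTW] at hy
    obtain ⟨f, hf, hyf⟩ := Set.mem_iUnion₂.1 hy
    refine ⟨⟨f, hf⟩, fun hfq => ?_⟩
    have hfq' : f ∈ q := hq.mem_of_pow_mem n hfq
    have h1 := (S.mem_basicOpen f y.1 y.2).1 hyf
    exact ((IsLocalization.AtPrime.isUnit_to_map_iff (S.presheaf.stalk y.1) q f).1 h1) hfq'
  have hloc := fun f : Γ(S, V) => localizes_of_isAffineOpen A hV f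
  refine ⟨?_, fun s => ?_⟩
  · rw [injective_iff_map_eq_zero]
    intro m hm
    choose n hn using fun i : T => (hloc i.1).sep m (by
      rw [← res_res hWV (hTle i), hm, map_zero])
    cases nonempty_fintype T
    refine (FlatHartogs.exact_flat hR (fun i : T => i.1 ^ Finset.univ.sup n) (hcov _) _).1 m fun i => ?_
    obtain ⟨d, hd⟩ := Nat.exists_eq_add_of_le (Finset.le_sup (f := n) (Finset.mem_univ i))
    rw [hd, pow_add, mul_comm, mul_smul, hn, smul_zero]
  · cases nonempty_fintype T
    choose n t ht using fun i : T => (hloc i.1).ext' (res A (hTle i) s)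
    let N := Finset.univ.sup n
    let t' : T → Γ(A, V) := fun i => i.1 ^ (N - n i) • t i
    have ht' : ∀ i, res A (S.basicOpen_le i.1) (t' i) = resR (S.basicOpen_le i.1) i.1 ^ N • res A (hTle i) s := by
      intro i
      rw [res_smul, ht, map_pow, smul_smul, ← pow_add, Nat.sub_add_cancel (Finset.le_sup (f := n) (Finset.mem_univ i))]
    clear_value t'
    have hagree : ∀ i j : T, ∃ k : ℕ, (i.1 * j.1) ^ k • (j.1 ^ N • t' i - i.1 ^ N • t' j) = 0 := by
      intro i j
      refine (hloc (i.1 * j.1)).sep _ ?_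
      have hle : S.basicOpen (i.1 * j.1) ≤ S.basicOpen i.1 := by rw [Scheme.basicOpen_mul]; exact inf_le_left
      have hle' : S.basicOpen (i.1 * j.1) ≤ S.basicOpen j.1 := by rw [Scheme.basicOpen_mul]; exact inf_le_right
      rw [map_sub, res_smul, res_smul, ← res_res (S.basicOpen_le i.1) hle (t' i),
        ← res_res (S.basicOpen_le j.1) hle' (t' j), ht', ht', res_smul, res_smul, res_res, res_res, map_pow, map_pow,
        map_pow, map_pow, resR_resR, resR_resR, smul_smul, smul_smul, ← sub_smul, sub_eq_zero.2 (mul_comm _ _), zero_smul]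
    choose k hk using hagree
    let K := Finset.univ.sup fun p : T × T => k p.1 p.2
    have hcompat : ∀ i j : T, j.1 ^ (N + K) • (i.1 ^ K • t' i) = i.1 ^ (N + K) • (j.1 ^ K • t' j) := by
      intro i j
      obtain ⟨d, hd⟩ := Nat.exists_eq_add_of_le (Finset.le_sup (f := fun p : T × T => k p.1 p.2) (Finset.mem_univ (i, j)))
      have h := congrArg ((i.1 * j.1) ^ d • ·) (hk i j)
      simp only [smul_zero] at h
      rw [smul_smul, ← pow_add, add_comm d, ← hd, smul_sub, sub_eq_zero] at h
      simp only [smul_smul] at h ⊢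
      refine Eq.trans ?_ (h.trans ?_) <;> congr 1 <;> rw [mul_pow, pow_add] <;> ring
    obtain ⟨m, hm⟩ := (FlatHartogs.exact_flat hR (fun i : T => i.1 ^ (N + K)) (hcov _) _).2 _ hcompat
    refine ⟨m, TopCat.Sheaf.eq_of_locally_eq' (⟨A.presheaf, A.isSheaf⟩ : TopCat.Sheaf Ab S) (fun i : T => S.basicOpen i.1) W
      (fun i => homOfLE (hTle i)) (by intro x hx; rw [← SetLike.mem_coe, hTW] at hx;
                                      obtain ⟨f, hf, hxf⟩ := Set.mem_iUnion₂.1 hx;
                                      exact TopologicalSpace.Opens.mem_iSup.2 ⟨⟨f, hf⟩, hxf⟩) _ _ fun i => ?_⟩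
    show res A (hTle i) (res A hWV m) = res A (hTle i) s
    rw [res_res]
    have h1 := congrArg (res A (S.basicOpen_le i.1)) (hm i)
    rw [res_smul, res_smul, ht', map_pow, map_pow, smul_smul, ← pow_add, add_comm K] at h1
    have hu : IsUnit (resR (S.basicOpen_le i.1) i.1 ^ (N + K)) := by
      refine IsUnit.pow _ ?_
      exact RingedSpace.isUnit_res_basicOpen S.toLocallyRingedSpace.toRingedSpace i.1
    exact (hu.smul_left_cancel.1 h1).symm


/-- Let S be a Noetherian normal scheme, A a flat quasi-coherent O_S-module (not assumed of finite type)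
and j : U → S the inclusion of an open subscheme containing every point of S whose local ring has
dimension at most 1. Then A = j_* j^* A: the unit A → j_*(A|_U) of the adjunction between
restriction to U and direct image along j is an isomorphism. In the source U is the flatness locus
of a finite type submodule of A, an open which contains all points of codimension at most 1; the
printed argument uses only this property of U. -/
theorem result (S : Scheme.{u}) [IsNoetherian S]
    (hS : Pi1.IsNormalScheme S) (A : S.Modules) (hA : Coh.IsQCoh A) (hAfl : FlatMod.IsFlat A)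
    (U : S.Opens) (hU : ∀ s : S, ringKrullDim (S.presheaf.stalk s) ≤ 1 → s ∈ U) :
    IsIso ((Scheme.Modules.restrictAdjunction U.ι).unit.app A) := by
  haveI : A.IsQuasicoherent := hA
  rw [Lib.Modules.StalkModule.isIso_iff_stalkMapₗ_bijective]
  intro x
  have hb : ∀ V : S.Opens, IsAffineOpen V →
      Function.Bijective (((Scheme.Modules.restrictAdjunction U.ι).unit.app A).app V) := fun V hV =>
    bijective_res hS A hAfl U hU hV (W := U.ι ''ᵁ (U.ι ⁻¹ᵁ V))
      (by rw [Scheme.Hom.image_preimage_eq_opensRange_inf, Scheme.Opens.opensRange_ι]) (U.ι.image_preimage_le V)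
  let P := (Scheme.Modules.pushforward U.ι).obj (A.restrict U.ι)
  constructor
  · rw [injective_iff_map_eq_zero]
    intro v hv
    obtain ⟨V, hxV, a, rfl⟩ := TopCat.Presheaf.exists_germ_eq A.presheaf v
    erw [Lib.Modules.StalkModule.stalkMapₗ_germ] at hv
    obtain ⟨V', hxV', i, i', e⟩ := TopCat.Presheaf.germ_eq P.presheaf x hxV hxV _ _
      (hv.trans (map_zero (P.presheaf.germ V x hxV).hom).symm)
    obtain ⟨V'', hV'', hxV'', hle'⟩ := exists_isAffineOpen_mem_and_subset (x := x) (U := V') hxV'
    have hle : V'' ≤ V' := hle'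
    have h0 : res P hle (res P i.le (((Scheme.Modules.restrictAdjunction U.ι).unit.app A).app V a)) = 0 :=
      (congrArg (res P hle) e).trans ((congrArg (res P hle) (map_zero _)).trans (map_zero _))
    rw [res_res, res_app] at h0
    have h1 : res A (show V'' ≤ V from fun y hy => i.le (hle hy)) a = 0 := (hb V'' hV'').1 (h0.trans (map_zero _).symm)
    have h2 := TopCat.Presheaf.germ_res_apply A.presheaf (homOfLE (show V'' ≤ V from fun y hy => i.le (hle hy))) x hxV'' a
    refine h2.symm.trans ?_
    exact (congrArg (A.presheaf.germ V'' x hxV'').hom h1).trans (map_zero _)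
  · intro v
    obtain ⟨V, hxV, c, rfl⟩ := TopCat.Presheaf.exists_germ_eq P.presheaf v
    obtain ⟨V'', hV'', hxV'', hle'⟩ := exists_isAffineOpen_mem_and_subset (x := x) (U := V) hxV
    have hle : V'' ≤ V := hle'
    obtain ⟨a, ha⟩ := (hb V'' hV'').2 (res P hle c)
    refine ⟨A.presheaf.germ V'' x hxV'' a, ?_⟩
    erw [Lib.Modules.StalkModule.stalkMapₗ_germ, ha]
    exact TopCat.Presheaf.germ_res_apply P.presheaf (homOfLE hle) x hxV'' c

end Groth.Agent.S16496
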