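import Groth.Statements.S16497
import Groth.Agent.Lib.Curves.FrobH1

set_option autoImplicit false
universe u
open CategoryTheory CategoryTheory.Limits AlgebraicGeometry Opposite
open Curves

namespace Groth.Agent.S16497

open Groth.Agent.Lib

/-- Let p be a prime, k an algebraically closed field with char k = p, and C a semi-stable curve over k,
that is, C is reduced, proper over k and connected, every irreducible component of C has dimension
one, and the singularities of C are at worst nodal. Let π : C' → C be the normalisation of C, given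
here as a finite morphism from a scheme all of whose local rings are integrally closed domains which
is an isomorphism over a dense open subset of C with dense preimage. Let φ and φ' be the
endomorphisms of the abelian sheaves underlying O_C and O_{C'} that raise sections to the p-th power
(they are pinned by this property). Call C ordinary when the additive map induced by φ on H^1(C,
O_C) is bijective; for a proper curve over an algebraically closed field this is the same as asking
that the semisimple part of this p-linear endomorphism be all of H^1(C, O_C), and for a smooth curve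
it is the classical notion (maximal p-rank of the Jacobian). Then C is ordinary precisely when the
map induced by φ' on H^1(C', O_{C'}) is bijective, i.e. if and only if every irreducible component
of the normalisation (a smooth proper curve) is ordinary, H^1(C', O_{C'}) being the direct sum of
the H^1 of the components. -/
theorem result (k : Type u) [Field k] [IsAlgClosed k]
    (p : ℕ) [Fact p.Prime] [CharP k p]
    (C : Scheme.{u}) [C.Over (Spec (CommRingCat.of k))] [IsReduced C] [IsProper (C ↘ Spec (CommRingCat.of k))]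
    [ConnectedSpace ↥C] (hdim : ∀ Z ∈ irreducibleComponents (C : Type u), topologicalKrullDim Z = 1)
    (hnod : Curv2.AtWorstNodal k C)
    (C' : Scheme.{u}) (π : C' ⟶ C) [IsFinite π] (hC' : Pi1.IsNormalScheme C')
    (U : C.Opens) (hU : Dense (U : Set C)) (hU' : Dense ((π ⁻¹ᵁ U : C'.Opens) : Set C')) (hπU : IsIso (π ∣_ U))
    (φ : Coh.toAb (Coh.structureModule C) ⟶ Coh.toAb (Coh.structureModule C))
    (hφ : ∀ (V : C.Opens) (s : Γ(C, V)), (φ.hom.app (op V)).hom s = s ^ p)
    (φ' : Coh.toAb (Coh.structureModule C') ⟶ Coh.toAb (Coh.structureModule C'))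
    (hφ' : ∀ (V : C'.Opens) (s : Γ(C', V)), (φ'.hom.app (op V)).hom s = s ^ p) :
    Function.Bijective (Sheaf.H.map φ 1) ↔ Function.Bijective (Sheaf.H.map φ' 1) :=  by
  classical
  letI : C'.Over (Spec (CommRingCat.of k)) := ⟨π ≫ (C ↘ (Spec (CommRingCat.of k)))⟩
  haveI : IsProper (C' ↘ Spec (CommRingCat.of k)) :=
    inferInstanceAs (IsProper (π ≫ (C ↘ (Spec (CommRingCat.of k)))))
  haveI := hπU
  haveI := Curves.GlobalSections.isNoetherian_of_proper k C
  haveI := Curves.GlobalSections.noetherianSpace_of_proper k C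
  haveI := Curves.NormStalk.isReduced_of_normal hC'
  haveI := TensorMod.QCohInv.isQCoh_structureModule C'
  have hd := TFOne.Euler.dim_le hdim
  let u := ClSub.unitToPush π
  haveI : Mono u := Curves.NormStalk.mono_unit π hU
  let S := Curves.Positivity.cokerSES u
  have hS : S.ShortExact := Curves.Positivity.cokerSES_shortExact u
  have hT := Curves.LES.shortExact_abSES hS
  let T := Curves.LES.abSES S
  let Φ₂ : T.X₂ ⟶ T.X₂ := (CohTop.push π.base).map φ'
  let Φ₁ : T.X₁ ⟶ T.X₁ := φ
  have h₁₂ : Φ₁ ≫ T.f = T.f ≫ Φ₂ := by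
    apply Sheaf.hom_ext
    apply NatTrans.ext
    funext V
    ext s
    change (π.app V.unop).hom ((φ.hom.app (op V.unop)).hom s) =
      (φ'.hom.app (op (π ⁻¹ᵁ V.unop))).hom ((π.app V.unop).hom s)
    rw [hφ', hφ]
    exact map_pow (π.app V.unop).hom (show Γ(C, V.unop) from s) p
  haveI := hT.epi_g
  let Φ₃ : T.X₃ ⟶ T.X₃ := hT.exact.desc (Φ₂ ≫ T.g) (by
    rw [← Category.assoc, ← h₁₂, Category.assoc, T.zero, comp_zero])
  have h₂₃ : T.g ≫ Φ₃ = Φ₂ ≫ T.g := hT.exact.g_desc _ _
  let ψ : T ⟶ T :=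
    { τ₁ := Φ₁
      τ₂ := Φ₂
      τ₃ := Φ₃
      comm₁₂ := h₁₂
      comm₂₃ := h₂₃.symm }
  -- semilinearity of the map on the cokernel
  let M₂ : Coh.Γtop C → (T.X₂ ⟶ T.X₂) := fun r => Coh.smulAb S.X₂ r
  let M₃ : Coh.Γtop C → (T.X₃ ⟶ T.X₃) := fun r => Coh.smulAb S.X₃ r
  have hnat : ∀ r, M₂ r ≫ T.g = T.g ≫ M₃ r := fun r => Curves.LES.smulAb_naturality S.g r
  have hsl : ∀ r : Coh.Γtop C, M₃ r ≫ Φ₃ = Φ₃ ≫ M₃ (r ^ p) := by
    intro r
    have hsm : M₂ r ≫ Φ₂ = Φ₂ ≫ M₂ (r ^ p) := by
      change Coh.smulAb ((Coh.push π).obj (Coh.structureModule C')) r ≫ _ =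
        _ ≫ Coh.smulAb ((Coh.push π).obj (Coh.structureModule C')) (r ^ p)
      rw [ZarCoh.Morph.push_smulAb π _ r _ rfl, ZarCoh.Morph.push_smulAb π _ (r ^ p) _ rfl]
      refine ((CohTop.push π.base).map_comp _ _).symm.trans (Eq.trans ?_ ((CohTop.push π.base).map_comp _ _))
      congr 1
      exact (FrobCoh.Basic.smulAb_comp p φ' hφ' _).trans
        (congrArg (fun t => φ' ≫ Coh.smulAb (Coh.structureModule C') t)
          (map_pow π.appTop.hom (show Γ(C, ⊤) from r) p).symm)
    apply (cancel_epi T.g).mp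
    calc T.g ≫ M₃ r ≫ Φ₃ = M₂ r ≫ T.g ≫ Φ₃ := by rw [reassoc_of% (hnat r)]
      _ = M₂ r ≫ Φ₂ ≫ T.g := by rw [h₂₃]
      _ = Φ₂ ≫ M₂ (r ^ p) ≫ T.g := by rw [reassoc_of% hsm]
      _ = Φ₂ ≫ T.g ≫ M₃ (r ^ p) := by rw [hnat]
      _ = T.g ≫ Φ₃ ≫ M₃ (r ^ p) := by rw [reassoc_of% h₂₃]
  have hcohQ : Coh.IsCoh S.X₃ :=
    CohBasics.Closure.isCoh_cokernel u (TensorMod.QCohInv.isQCoh_structureModule C)
      (Curves.Birational.isCoh_push π)
  have hgood := Curves.Finiteness.isGood_of_isCoh (k := k) hd hcohQ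
  haveI := hgood.fin₀
  have hcinj : Function.Injective (Sheaf.H.map Φ₃ 0) :=
    Curves.FrobH1.h0_injective (M := S.X₃) Φ₃ fun x w hw =>
      Curves.FrobH1.stalk_injective hS ψ x (fun v hv =>
        Curves.FrobNormal.mem_range_stalk π hU k p hC' hU' hd hnod Φ₂
          (fun W t => hφ' (π ⁻¹ᵁ W) t) x v hv) w hw
  have hc : Function.Bijective (Sheaf.H.map Φ₃ 0) :=
    ⟨hcinj, FrobCoh.Basic.surjective_of_semilinear (k := k) (V := Coh.HH C S.X₃ 0) p (Sheaf.H.map Φ₃ 0)
      (fun c x => by
        show Sheaf.H.map Φ₃ 0 (Sheaf.H.map (Coh.smulAb S.X₃ (Coh.toGlobal (C ↘ Spec (CommRingCat.of k)) c)) 0 x) =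
          Sheaf.H.map (Coh.smulAb S.X₃ (Coh.toGlobal (C ↘ Spec (CommRingCat.of k)) (c ^ p))) 0 (Sheaf.H.map Φ₃ 0 x)
        rw [map_pow]
        exact (Sheaf.H.map_comp_apply _ _ _).symm.trans
          ((congrArg (fun t => Sheaf.H.map t 0 x) (hsl _)).trans (Sheaf.H.map_comp_apply _ _ _))) hcinj⟩
  -- the middle term
  let E := fun n => ZarCoh.Morph.affineEquiv π (Coh.structureModule C') n
  have hE : ∀ n x, E n (Sheaf.H.map Φ₂ n x) = Sheaf.H.map φ' n (E n x) :=
    fun n x => ZarCoh.PushH.pushH_natural π.base φ' n x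
  haveI : FiniteDimensional k (Coh.HH C' (Coh.structureModule C') 0) :=
    haveI := (Curves.Finiteness.isGood_of_isCoh (k := k) hd (Curves.Birational.isCoh_push π)).fin₀
    Module.Finite.equiv (ZarCoh.Linear.affineLinearEquiv π rfl (Coh.structureModule C') 0)
  have hb' : Function.Surjective (Sheaf.H.map φ' 0) := by
    refine FrobCoh.Basic.surjective_of_semilinear (k := k) (V := Coh.HH C' (Coh.structureModule C') 0) p
      (Sheaf.H.map φ' 0) (fun c x => FrobCoh.Basic.map_smul_frobenius p φ' hφ' 0 c x)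
      ((injective_iff_map_eq_zero _).mpr fun z hz => ?_)
    have e := Sheaf.H.equiv₀_naturality (isTerminalTop (α := TopologicalSpace.Opens C')) φ' z
    apply (Sheaf.H.equiv₀ (Coh.toAb (Coh.structureModule C')) (isTerminalTop (α := TopologicalSpace.Opens C'))).injective
    rw [map_zero]
    rw [hz, map_zero] at e
    generalize (Sheaf.H.equiv₀ (Coh.toAb (Coh.structureModule C')) (isTerminalTop (α := TopologicalSpace.Opens C'))) z = s at e ⊢
    exact IsReduced.eq_zero (show Γ(C', ⊤) from s) ⟨p, (hφ' ⊤ s).symm.trans e⟩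
  have hb : Function.Surjective (Sheaf.H.map Φ₂ 0) := fun y => by
    obtain ⟨z, hz⟩ := hb' (E 0 y)
    exact ⟨(E 0).symm z, (E 0).injective ((hE 0 _).trans ((congrArg _ ((E 0).apply_symm_apply z)).trans hz))⟩
  have hC1 : Subsingleton (Sheaf.H T.X₃ 1) :=
    SurfInt.Bound.subsingleton_HH_of_finite (C ↘ Spec (CommRingCat.of k)) (cokernel u) U.2.isClosed_compl
      (Curves.Birational.finite_compl (C ↘ Spec (CommRingCat.of k)) hd U.2 hU)
      (Curves.Birational.support_cokernel_unit π U) one_pos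
  refine (Curves.FrobH1.bijective_iff hT ψ hc hb hC1).trans ⟨fun h => ?_, fun h => ?_⟩
  · have : ⇑(Sheaf.H.map φ' 1) = (E 1) ∘ (Sheaf.H.map Φ₂ 1) ∘ (E 1).symm := funext fun z => by
      show _ = E 1 (Sheaf.H.map Φ₂ 1 ((E 1).symm z))
      exact ((hE 1 _).trans (congrArg _ ((E 1).apply_symm_apply z))).symm
    rw [this]
    exact (E 1).bijective.comp (Function.Bijective.comp h (E 1).symm.bijective)
  · have : ⇑(Sheaf.H.map Φ₂ 1) = (E 1).symm ∘ (Sheaf.H.map φ' 1) ∘ (E 1) := funext fun z => by
      show _ = (E 1).symm (Sheaf.H.map φ' 1 (E 1 z))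
      rw [← hE 1 z]
      exact ((E 1).symm_apply_apply _).symm
    exact this ▸ (E 1).symm.bijective.comp (Function.Bijective.comp h (E 1).bijective)

end Groth.Agent.S16497
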