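import Groth.Statements.S16506
import Groth.Agent.Lib.CurveFF.DoubleInvol
import Groth.Agent.Lib.CurveFF.MapOfField
import Groth.Agent.Lib.CurveFF.PencilDim
import Groth.Agent.Lib.CurveFF.AutoMap
import Groth.Agent.Lib.CurveFF.Consts
import Groth.Agent.Lib.CurveFF.LineExist
import Groth.Agent.Lib.CurveFF.Hyp
import Groth.Agent.H34.Conic.DegOne
import Groth.Agent.Lib.Curves.GenusZero
import Groth.Agent.H2.Rigid.GeomIrred
import Groth.Agent.Lib.Flat55.FlatEquidim
import Groth.Agent.Lib.JacCrit.OverField
import Groth.Agent.Lib.CiField.Basic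
import Groth.Agent.S0212
import Groth.Agent.S2500
import Groth.Agent.Lib.Cyc.SmoothReg
import Groth.Agent.H4.RatExt
import Groth.Agent.H75.Spread.Basic
import Groth.Agent.Lib.Cyc.TorPD
-- import your own Groth.Agent.* helpers here

set_option autoImplicit false
universe u
open CategoryTheory AlgebraicGeometry
open Curves

namespace Groth.Agent.S16506

open Groth.Agent Groth.Agent.Lib
attribute [local instance] Curv2.stalkAlgebra

/-- A smooth curve of genus zero whose function field has a divisor of degree one is the line. -/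
theorem exists_iso_line_of_deg_one (k : Type u) [Field k] (X : Scheme.{u}) [X.Over (Spec (CommRingCat.of k))]
    [IsIntegral X] [IsProper (X ↘ (Spec (CommRingCat.of k)))] [Smooth (X ↘ (Spec (CommRingCat.of k)))]
    (hdim : topologicalKrullDim X = 1) (h : CurveFF.CurveHyp X)
    (h0 : Module.finrank k (Coh.HH X (Coh.structureModule X) 0) = 1)
    (hg : _root_.FunFld.genus k X.functionField = 0)
    (E : _root_.FunFld.Divisor k X.functionField) (hEd : E.deg = 1) :
    ∃ e : X ≅ CohB1.ProjSpace 1 k, e.hom ≫ CohB1.ProjSpace.toSpec 1 k = X ↘ (Spec (CommRingCat.of k)) := by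
  have hK := CurveFF.isFunctionField (k := k) h h0
  have hr := FunFld.Riemann.riemann hK E
  rw [hEd, hg] at hr
  obtain ⟨F, a, hF, ha, hEF, hFd⟩ := FunFld.SmallGenus.exists_nonneg hK (E := E) (by omega)
  have hl : 2 ≤ _root_.FunFld.ell F := by
    rw [← FunFld.Riemann.ell_add_div hK F ha, ← hEF]; omega
  obtain ⟨t, ht, htk⟩ := CurveFF.Pencil.exists_not_mem (V := _root_.FunFld.L F)
    (W := k ∙ (1 : X.functionField)) (by
      rw [finrank_span_singleton (one_ne_zero (α := X.functionField))]
      show 1 < _root_.FunFld.ell F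
      omega)
  have htk' : t ∉ Set.range (algebraMap k X.functionField) := by
    rintro ⟨c, rfl⟩
    exact htk (Submodule.mem_span_singleton.2 ⟨c, (Algebra.algebraMap_eq_smul_one c).symm⟩)
  have htr := FunFld.Bound.transcendental_of_not_mem_range hK htk'
  have hle : FunFld.Degree.poleDiv (k := k) t ≤ F := fun P => by
    rw [FunFld.Degree.poleDiv_apply hK]
    refine max_le ?_ (hF P)
    rcases FunFld.Degree.mem_L_iff_ord.1 ht with h' | h'
    · exact absurd ⟨0, by rw [h', map_zero]⟩ htk'
    · linarith [h' P]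
  have h2 := FunFld.Degree.deg_mono hle
  rw [hFd, hEd, FunFld.Degree.deg_poleDiv hK htr] at h2
  haveI := FunFld.Bound.finiteDimensional_adjoin_transcendental hK htr
  have hpos : 0 < Module.finrank (IntermediateField.adjoin k ({t} : Set X.functionField)) X.functionField :=
    Module.finrank_pos
  have htop := FunFld.Rational.adjoin_eq_top_of_deg_poleDiv hK htr
    (by rw [FunFld.Degree.deg_poleDiv hK htr]; omega)
  -- the isomorphism
  letI : (CohB1.ProjSpace 1 k).Over (Spec (CommRingCat.of k)) := ⟨CohB1.ProjSpace.toSpec 1 k⟩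
  haveI : IsProper ((CohB1.ProjSpace 1 k) ↘ Spec (CommRingCat.of k)) :=
    inferInstanceAs (IsProper (CohB1.ProjSpace.toSpec 1 k))
  haveI : Smooth ((CohB1.ProjSpace 1 k) ↘ Spec (CommRingCat.of k)) :=
    inferInstanceAs (Smooth (CohB1.ProjSpace.toSpec 1 k))
  have hdP : topologicalKrullDim (CohB1.ProjSpace 1 k) = 1 := by
    rw [ProjSpace.Dim.topologicalKrullDim_projSpace 1 k, ringKrullDim_eq_zero_of_field]
    simp
  obtain ⟨f, hf, -, e, hm0, hcoord⟩ := CurveFF.exists_toP1 h htr
  let θ : (CohB1.ProjSpace 1 k).functionField →ₐ[k] X.functionField :=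
    { CurveFF.FieldExt.kMap f e with commutes' := CurveFF.AutoMap.kMap_const f hf e }
  have hmU : genericPoint (CohB1.ProjSpace 1 k) ∈ Groth.Agent.H34.SplitP1.U k 0 := by
    have hm' : f (genericPoint X) ∈ Groth.Agent.H34.SplitP1.U k 0 := hm0
    rwa [e] at hm'
  have hmem : CurveFF.DoubleCover.coord f 0 hm0 ∈ θ.fieldRange :=
    ⟨(CohB1.ProjSpace 1 k).presheaf.germ (Groth.Agent.H34.SplitP1.U k 0) _ hmU
      (Groth.Agent.H34.SplitP1.φ k 0 Polynomial.X), CurveFF.FieldExt.kMap_germ f e _ hmU hm0 _⟩
  have hsurj : Function.Surjective θ := fun z => by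
    rw [hcoord] at hmem
    exact IntermediateField.adjoin_simple_le_iff.2 hmem (htop ▸ IntermediateField.mem_top (x := z))
  obtain ⟨i, hi, -⟩ := CurveFF.MapOfField.exists_iso h (CurveFF.curveHyp_of_smooth k hdP)
    (AlgEquiv.ofBijective θ ⟨θ.injective, hsurj⟩)
  exact ⟨i, hi⟩


theorem exists_ratPoint {K : Type u} [Field K] (F : Scheme.{u}) [F.Over (Spec (CommRingCat.of K))]
    [IsProper (F ↘ Spec (CommRingCat.of K))] [GeometricallyIntegral (F ↘ Spec (CommRingCat.of K))]
    (hdim : topologicalKrullDim F = 1) (hg : Curv2.genus K F = 0) (hC : Curves.IsCi K 1) :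
    ∃ t : Spec (CommRingCat.of K) ⟶ F, t ≫ (F ↘ Spec (CommRingCat.of K)) = 𝟙 _ := by
  haveI : IsIntegral F := GeometricallyIntegral.geometrically_isIntegral
    (f := F ↘ Spec (CommRingCat.of K)) (𝟙 _) (𝟙 F) (F ↘ Spec (CommRingCat.of K))
    (IsPullback.of_id_fst)
  haveI := Groth.Agent.Lib.Curves.GenusZero.smooth_of_genus_zero hdim hg
  haveI := H2.Rigid.GeomIrred.geometricallyConnected (F ↘ Spec (CommRingCat.of K))
  have h := CurveFF.curveHyp_of_smooth K hdim
  have h0 := CurveFF.finrank_h0_eq_one K F
  have hK := CurveFF.isFunctionField (k := K) h h0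
  rw [CurveFF.genus_eq h h0] at hg
  obtain ⟨E, hE⟩ := H34.Conic.exists_deg_one hK hg hC
  obtain ⟨e, he⟩ := exists_iso_line_of_deg_one K F hdim h h0 hg E hE
  obtain ⟨t, ht⟩ := Groth.Agent.Lib.Curves.GenusZero.exists_section_line K
  exact ⟨t ≫ e.inv, by rw [Category.assoc, ← he, e.inv_hom_id_assoc, ht]⟩

/-- The residue field at the generic point of a curve is a C₁ field. -/
theorem isCi_residueField {k : Type u} [Field k] [IsAlgClosed k] (B : Scheme.{u})
    [B.Over (Spec (CommRingCat.of k))] [IsIntegral B] [IsProper (B ↘ Spec (CommRingCat.of k))]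
    [Smooth (B ↘ Spec (CommRingCat.of k))] (hdim : topologicalKrullDim B = 1) :
    Curves.IsCi (B.residueField (genericPoint B)) 1 := by
  haveI : GeometricallyConnected (B ↘ Spec (CommRingCat.of k)) := by
    haveI := S2500.result (B ↘ Spec (CommRingCat.of k))
    exact H2.Rigid.GeomIrred.geometricallyConnected _
  have h := CurveFF.curveHyp_of_smooth k hdim
  have hK := CurveFF.isFunctionField (k := k) h (CurveFF.finrank_h0_eq_one k B)
  obtain ⟨x, hx, -⟩ := hK.1
  have h1 : Algebra.trdeg k B.functionField = 1 := by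
    refine le_antisymm (FunFld.Bound.trdeg_le_one hK) ?_
    have h2 := (algebraicIndependent_unique_type_iff (R := k) (x := fun _ : PUnit.{u + 1} => x)).2 hx
    simpa using h2.cardinalMk_le_trdeg
  have hC := S0212.result k B.functionField 1 (by rw [h1]; norm_num)
  refine CiField.Basic.isCi_of_ringEquiv
    (RingEquiv.ofBijective (B.residue (genericPoint B)).hom ⟨?_, B.residue_surjective _⟩) hC
  exact RingHom.injective ((B.residue (genericPoint B)).hom : B.functionField →+* _)

/-- A genus zero fibration of a proper surface over a regular curve has a section. -/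
theorem section_of_genus_zero {k : Type u} [Field k] [IsAlgClosed k]
    (X : Scheme.{u}) [X.Over (Spec (CommRingCat.of k))] [IsIntegral X] [IsProper (X ↘ Spec (CommRingCat.of k))]
    (hX2 : topologicalKrullDim X = 2)
    (B : Scheme.{u}) [B.Over (Spec (CommRingCat.of k))] [IsIntegral B] [IsProper (B ↘ Spec (CommRingCat.of k))]
    [Smooth (B ↘ Spec (CommRingCat.of k))] (hBd : topologicalKrullDim B = 1)
    (π : X ⟶ B) (hπ : π ≫ (B ↘ Spec (CommRingCat.of k)) = X ↘ Spec (CommRingCat.of k))
    (hsurj : Function.Surjective π.base)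
    [GeometricallyIntegral (π.fiberToSpecResidueField (genericPoint B))]
    (hgen : letI : (π.fiber (genericPoint B)).Over (Spec (B.residueField (genericPoint B))) :=
        ⟨π.fiberToSpecResidueField (genericPoint B)⟩
      Curv2.genus (B.residueField (genericPoint B)) (π.fiber (genericPoint B)) = 0) :
    ∃ σ : B ⟶ X, σ ≫ π = 𝟙 B := by
  haveI : IsProper (π ≫ (B ↘ Spec (CommRingCat.of k))) := hπ.symm ▸ inferInstance
  haveI : IsProper π := IsProper.of_comp π (B ↘ Spec (CommRingCat.of k))
  haveI : IsLocallyNoetherian B := LocallyOfFiniteType.isLocallyNoetherian (B ↘ Spec (CommRingCat.of k))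
  let η := genericPoint B
  let F := π.fiber η
  letI : F.Over (Spec (CommRingCat.of (B.residueField η))) := ⟨π.fiberToSpecResidueField η⟩
  haveI : IsProper (F ↘ Spec (CommRingCat.of (B.residueField η))) :=
    MorphismProperty.pullback_snd _ _ ‹IsProper π›
  haveI : GeometricallyIntegral (F ↘ Spec (CommRingCat.of (B.residueField η))) :=
    ‹GeometricallyIntegral (π.fiberToSpecResidueField (genericPoint B))›
  haveI : IsIntegral F := GeometricallyIntegral.geometrically_isIntegral
    (f := F ↘ Spec (CommRingCat.of (B.residueField η))) (𝟙 _) (𝟙 F)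
    (F ↘ Spec (CommRingCat.of (B.residueField η))) (IsPullback.of_id_fst)
  have hdF : topologicalKrullDim F = 1 := by
    have hcl : topologicalKrullDim (closure (Set.range π.base)) = (1 : ℕ) := by
      rw [Function.Surjective.range_eq hsurj, closure_univ,
        (Homeomorph.Set.univ B).isHomeomorph.topologicalKrullDim_eq, hBd]
      rfl
    obtain ⟨-, hop, hdense⟩ := Flat55.FlatEquidim.fibreDimAt_generic (X ↘ Spec (CommRingCat.of k))
      (B ↘ Spec (CommRingCat.of k)) π hπ 2 1 (by rw [hX2]; rfl) hcl
    obtain ⟨z, hz⟩ := hdense.nonempty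
    have hgen : FlatMor.fibreDimAt π (genericPoint X) = ((2 - 1 : ℕ) : WithBot ℕ∞) :=
      (genericPoint_specializes z).mem_open hop hz
    have hη : π.base (genericPoint X) = η := by
      obtain ⟨z', hz'⟩ := hsurj η
      have h1 : π.base (genericPoint X) ⤳ η :=
        hz' ▸ (genericPoint_specializes z').map π.continuous
      exact h1.antisymm (genericPoint_specializes _) |>.eq
    rw [FlatMor.fibreDimAt] at hgen
    haveI : IrreducibleSpace (π.fiber (π (genericPoint X))) := by
      rw [hη]; infer_instance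
    haveI : @LocallyOfFiniteType _ (Spec (CommRingCat.of (B.residueField (π (genericPoint X)))))
        (π.fiberToSpecResidueField (π (genericPoint X))) :=
      MorphismProperty.pullback_snd _ _ inferInstance
    rw [@JacCrit.OverField.localDim_eq_of_irreducible (B.residueField (π (genericPoint X))) _ _
      (π.fiberToSpecResidueField (π (genericPoint X))) ‹_› (MorphismProperty.pullback_snd _ _ inferInstance), hη] at hgen
    exact hgen
  obtain ⟨t, ht⟩ := exists_ratPoint F hdF hgen (isCi_residueField (k := k) B hBd)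
  haveI : IsIso (B.residue η) := (ConcreteCategory.isIso_iff_bijective _).2
    ⟨RingHom.injective ((B.residue η).hom : B.functionField →+* _), B.residue_surjective _⟩
  let r := Spec.map (B.residue η)
  have hr : r ≫ B.fromSpecStalk η = B.fromSpecResidueField η := rfl
  have hφ : (inv r ≫ t ≫ π.fiberι η) ≫ π = B.fromSpecStalk η ≫ 𝟙 B := by
    rw [Category.comp_id, Category.assoc, Category.assoc, IsIso.inv_comp_eq, hr]
    rw [show π.fiberι η ≫ π = π.fiberToSpecResidueField η ≫ B.fromSpecResidueField η from Limits.pullback.condition]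
    rw [reassoc_of% (show t ≫ π.fiberToSpecResidueField η = 𝟙 _ from ht)]
  haveI : LocallyOfFinitePresentation π :=
    LocallyOfFinitePresentation.iff_locallyOfFiniteType.2 inferInstance
  obtain ⟨U, hηU, s, -, hs⟩ := H75.Spread.spread_out (𝟙 B) π _ hφ
  rw [Category.comp_id] at hs
  have hstalk : ∀ y : B, ringKrullDim (B.presheaf.stalk y) ≤ 1 := fun y =>
    (Cyc.TorPD.ringKrullDim_stalk_le y).trans hBd.le
  obtain ⟨U', hUU', s', hs', -, hall⟩ := H4.RatExt.exists_ext
    (fun y _ => Cyc.SmoothReg.isRegularLocalRing_stalk (B ↘ Spec (CommRingCat.of k)) y) π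
    π.isClosedMap U (U.2.dense ⟨η, hηU⟩) s hs
  obtain rfl : U' = ⊤ := top_le_iff.1 fun y _ => hall y (hstalk y)
  exact ⟨B.topIso.inv ≫ s', by rw [Category.assoc, hs', ← Scheme.topIso_hom, Iso.inv_hom_id]⟩


/-- Over an algebraically closed field k, let X be a projective surface, B a smooth proper curve and π :
X → B a surjective k-morphism whose generic fibre is geometrically integral of arithmetic genus 0.
Then π has a section. -/
theorem result
    (k : Type u) [Field k] [IsAlgClosed k]
    (X : Scheme.{u}) [X.Over (Spec (CommRingCat.of k))] [IsIntegral X] (hX2 : topologicalKrullDim X = 2)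
    (hX : ∃ (N : ℕ) (ι : X ⟶ CohB1.ProjSpace N k), IsClosedImmersion ι ∧
      ι ≫ CohB1.ProjSpace.toSpec N k = X ↘ Spec (CommRingCat.of k))
    (B : Scheme.{u}) [B.Over (Spec (CommRingCat.of k))] [IsIntegral B]
    (hB : Curve.IsSmoothProperCurve k B (B ↘ Spec (CommRingCat.of k)))
    (π : X ⟶ B) (hπ : π ≫ (B ↘ Spec (CommRingCat.of k)) = X ↘ Spec (CommRingCat.of k))
    (hsurj : Function.Surjective π.base)
    [GeometricallyIntegral (π.fiberToSpecResidueField (genericPoint B))]
    (hgen : letI : (π.fiber (genericPoint B)).Over (Spec (B.residueField (genericPoint B))) :=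
        ⟨π.fiberToSpecResidueField (genericPoint B)⟩
      Curv2.genus (B.residueField (genericPoint B)) (π.fiber (genericPoint B)) = 0) :
    ∃ σ : B ⟶ X, σ ≫ π = 𝟙 B := by
  obtain ⟨hBp, hBs, hBi, hBd⟩ := hB
  haveI := hBp
  haveI := hBs
  obtain ⟨N, ι, hι, hιk⟩ := hX
  haveI := ProjSpace.Basic.isProper_toSpec N k
  haveI := hι
  haveI : IsProper (X ↘ Spec (CommRingCat.of k)) := hιk ▸ inferInstance
  exact section_of_genus_zero X hX2 B hBd π hπ hsurj hgen

end Groth.Agent.S16506
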