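import Groth.Statements.S16507
import Groth.Agent.Lib.RatForms33.FreeMain
import Groth.Agent.Lib.BirMap96.SmoothCritScheme
import Groth.Agent.Lib.FundLocal.Rank

set_option autoImplicit false
universe u
open CategoryTheory AlgebraicGeometry
open Curves

namespace Groth.Agent.S16507

/-- Over an algebraically closed field k, let X be a smooth projective variety of dimension n with a
free rational curve, that is, a nonconstant k-morphism f from the projective line such that the
twist of f^*Ω_{X/k} by O(−1) has no nonzero global sections (equivalently f^*T_X is globally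
generated). Then all plurigenera of X vanish: H^0(X, ω^{⊗m}) = 0 for every m ≥ 1, ω the top exterior
power of Ω_{X/k}. (The published hypothesis is that X is smooth, proper and separably uniruled; when
X is smooth and projective over an algebraically closed base field, a free rational curve makes X
separably uniruled, and conversely such an X carries free rational curves. This row also takes k
algebraically closed and X projective, where the published statement allows any base field and X
proper.) -/
theorem result
    (k : Type u) [Field k] [IsAlgClosed k]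
    (X : Scheme.{u}) [X.Over (Spec (CommRingCat.of k))] [IsIntegral X] [Smooth (X ↘ Spec (CommRingCat.of k))]
    (hX : ∃ (N : ℕ) (ι : X ⟶ CohB1.ProjSpace N k), IsClosedImmersion ι ∧
      ι ≫ CohB1.ProjSpace.toSpec N k = X ↘ Spec (CommRingCat.of k))
    (n : ℕ) (hn : topologicalKrullDim X = n)
    (f : CohB1.ProjSpace 1 k ⟶ X) (hf : f ≫ (X ↘ Spec (CommRingCat.of k)) = CohB1.ProjSpace.toSpec 1 k)
    (hnc : ¬ ∃ x : X, Set.range f.base ⊆ {x})
    (hfree : Subsingleton (Coh.HH (CohB1.ProjSpace 1 k)
      (CohB1.tensorMod ((Scheme.Modules.pullback f).obj (Omega.sheaf (X ↘ Spec (CommRingCat.of k)))) (Twist.twistProjSpace 1 k (-1))) 0))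
    (ω : X.Modules) (hω : ExtPow.IsExtPow n (Omega.sheaf (X ↘ Spec (CommRingCat.of k))) ω) (m : ℕ) (hm : 1 ≤ m) :
    Subsingleton (Coh.HH X (CohB1.tensorPow ω m) 0) := by
  haveI : IsSeparated (X ↘ Spec (CommRingCat.of k)) := by
    obtain ⟨N, ι, hι, hιX⟩ := hX
    rw [← hιX]
    infer_instance
  haveI hrel : SmoothOfRelativeDimension n (X ↘ Spec (CommRingCat.of k)) := by
    letI : (Spec (CommRingCat.of k)).Over (Spec (CommRingCat.of k)) := ⟨𝟙 _⟩
    haveI : LocallyOfFiniteType (Spec (CommRingCat.of k) ↘ Spec (CommRingCat.of k)) :=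
      inferInstanceAs (LocallyOfFiniteType (𝟙 _))
    have h0 : topologicalKrullDim (Spec (CommRingCat.of k)) = ((0 : ℕ) : WithBot ℕ∞) := by
      change topologicalKrullDim (PrimeSpectrum k) = _
      rw [PrimeSpectrum.topologicalKrullDim_eq_ringKrullDim, ringKrullDim_eq_zero_of_field]
      rfl
    exact Groth.Agent.Lib.BirMap96.SmoothCritScheme.smoothOfRelativeDimension (X ↘ Spec (CommRingCat.of k))
      (Category.comp_id _) n 0 hn h0
  have hrk := Groth.Agent.Lib.FundLocal.Rank.isFinLocFreeOfRank_omega (X ↘ Spec (CommRingCat.of k)) n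
  obtain ⟨S⟩ := Groth.Agent.Lib.REqForms33.nonempty_setup (f := X ↘ Spec (CommRingCat.of k)) hω
  obtain ⟨m, rfl⟩ := Nat.exists_eq_succ_of_ne_zero (by omega : m ≠ 0)
  have h := Groth.Agent.Lib.RatForms33.eq_zero_of_free (qs := inferInstance) hf hrk hfree hnc S m
  exact (Groth.Agent.Lib.Curves.GlobalSections.h0Equiv _).toEquiv.subsingleton_congr.mpr
    ⟨fun a b => (h a).trans (h b).symm⟩

end Groth.Agent.S16507
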