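import Groth.Statements.S1651
import Groth.Agent.H25.DeltaBaseChange
import Groth.Agent.H25.NagataStalk
import Groth.Agent.H52.FBase.StalkBC
import Groth.Agent.H2.Rigid.GeomRedAt

set_option autoImplicit false
set_option linter.style.haveILetI false
universe u
open CategoryTheory CategoryTheory.Limits AlgebraicGeometry
open Variety

namespace Groth.Agent.S1651

open scoped TensorProduct
open IsLocalRing Groth.Agent.H52.FBase

/-- The algebraic inequality. -/
theorem le_localization (k A K : Type u) [Field k] [CommRing A] [Algebra k A] [IsLocalRing A]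
    [Field K] [Algebra k K] [Module.Finite A (integralClosure A (FractionRing A))]
    (q : Ideal (A ⊗[k] K)) [q.IsPrime]
    (hq : q.comap (algebraMap A (A ⊗[k] K)) = maximalIdeal A) :
    Curv2.deltaInv A ≤ Curv2.deltaInv (Localization.AtPrime q) := by
  haveI : Module.Flat A (Localization.AtPrime q) :=
    Module.Flat.trans A (A ⊗[k] K) (Localization.AtPrime q)
  haveI : IsLocalHom (algebraMap A (Localization.AtPrime q)) := by
    refine ((IsLocalRing.local_hom_TFAE _).out 0 4 rfl rfl).2 ?_
    rw [IsScalarTower.algebraMap_eq A (A ⊗[k] K) (Localization.AtPrime q), ← Ideal.comap_comap]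
    exact (congrArg _ (IsLocalization.AtPrime.under_maximalIdeal (Localization.AtPrime q) q)).trans hq
  exact H25.DeltaFlat.le_deltaInv A (Localization.AtPrime q)

/-- Let X be locally of finite type over k, K a field extension, y a point of X_K with image x. Assume X
is geometrically reduced at x and the local rings at x and at y both have dimension one. Then the
δ-invariant of X at x is at most the δ-invariant of X_K at y. -/
theorem result (k : Type u) [Field k] (X : Scheme.{u}) [X.Over (Spec (CommRingCat.of k))] [LocallyOfFiniteType (X ↘ (Spec (CommRingCat.of k)))] (K : Type u) [Field K] [Algebra k K]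
    (y : Curv2.bc k X K) (hx : Curv2.IsGeomReducedAt k X (Curv2.bcFst k X K y))
    (hdx : ringKrullDim (X.presheaf.stalk (Curv2.bcFst k X K y)) = 1)
    (hdy : ringKrullDim ((Curv2.bc k X K).presheaf.stalk y) = 1) :
    Curv2.deltaInv (X.presheaf.stalk (Curv2.bcFst k X K y)) ≤ Curv2.deltaInv ((Curv2.bc k X K).presheaf.stalk y) := by
  set f := X ↘ Spec (CommRingCat.of k) with hf
  set x := Curv2.bcFst k X K y with hxdef
  haveI : IsLocallyNoetherian X := LocallyOfFiniteType.isLocallyNoetherian f
  let A := StalkBC.Ox f x
  haveI : Algebra.IsGeometricallyReduced k A :=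
    (H2.Rigid.GeomRedAt.isGeometricallyReduced_Ox_iff k X x).2
      ((H2.Rigid.GeomRedAt.iff_stalk k X x).1 hx)
  haveI : _root_.IsReduced A := Algebra.isReduced_of_isGeometricallyReduced k
  haveI := H97.TotalNorm.finite_integralClosure (A := A) (H25.NagataStalk.isNagata_stalk f x)
  obtain ⟨q, hq⟩ := StalkBC.exists_j_eq f x K y (specializes_refl _)
  let e : (Curv2.bc k X K).presheaf.stalk y ≃+*
      Localization.AtPrime (PrimeSpectrum.asIdeal (R := A ⊗[k] K) q) :=
    ((Curv2.bc k X K).presheaf.stalkCongr (.of_eq hq.symm)).commRingCatIsoToRingEquiv.trans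
      (StalkBC.stalkEquiv f x K q)
  rw [H25.DeltaBaseChange.deltaInv_of_ringEquiv e]
  exact le_localization k A K _ ((StalkBC.j_π_eq_iff f x K q).1 (hq.symm ▸ rfl))

end Groth.Agent.S1651
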