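import Groth.Statements.S16511
import Groth.Agent.H34.Ruled.Bundle
import Groth.Agent.H34.Ruled.Fibre
import Groth.Agent.S16506
import Groth.Agent.Lib.GrpSch.ConnFibre
-- import your own Groth.Agent.* helpers here

set_option autoImplicit false
universe u
open CategoryTheory AlgebraicGeometry
open Curves

namespace Groth.Agent.S16511

/-- Over an algebraically closed field k, let π : X → B be a surjective k-morphism from a projective
surface onto a smooth proper curve whose fibres over closed points are all isomorphic to the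
projective line. Then X is isomorphic over B to the projective bundle of a locally free sheaf of
rank 2 on B: π together with some invertible quotient q : π^*E → O(1), E locally free of rank 2 on
B, has the universal property of P(E). -/
theorem result
    (k : Type u) [Field k] [IsAlgClosed k]
    (X : Scheme.{u}) [X.Over (Spec (CommRingCat.of k))] [IsIntegral X] (hX2 : topologicalKrullDim X = 2)
    (hX : ∃ (N : ℕ) (ι : X ⟶ CohB1.ProjSpace N k), IsClosedImmersion ι ∧
      ι ≫ CohB1.ProjSpace.toSpec N k = X ↘ Spec (CommRingCat.of k))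
    (B : Scheme.{u}) [B.Over (Spec (CommRingCat.of k))] (hB : Curve.IsSmoothProperCurve k B (B ↘ Spec (CommRingCat.of k)))
    (π : X ⟶ B) (hπ : π ≫ (B ↘ Spec (CommRingCat.of k)) = X ↘ Spec (CommRingCat.of k))
    (hsurj : Function.Surjective π.base)
    (hfib : ∀ b : B, IsClosed ({b} : Set B) → Nonempty (π.fiber b ≅ CohB1.ProjSpace 1 k)) :
    ∃ (E : B.Modules) (L : X.Modules) (q : (Scheme.Modules.pullback π).obj E ⟶ L),
      FlatMod.IsFinLocFreeOfRank 2 E ∧ KRR.IsProjBundle π E L q := by
  obtain ⟨hBp, hBs, hBi, hB1⟩ : IsProper (B ↘ Spec (CommRingCat.of k)) ∧ Smooth (B ↘ Spec (CommRingCat.of k)) ∧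
      IsIntegral B ∧ topologicalKrullDim B = 1 := ⟨hB.1, hB.2.1, hB.2.2.1, hB.2.2.2⟩
  haveI := hBp
  haveI := hBs
  haveI := hBi
  obtain ⟨N, ι, hι, hιk⟩ := hX
  haveI := hι
  haveI := Groth.Agent.Lib.ProjSpace.Basic.isProper_toSpec N k
  haveI : IsProper (X ↘ Spec (CommRingCat.of k)) := hιk ▸ inferInstance
  have hreg : ∀ b : B, IsRegularLocalRing (B.presheaf.stalk b) := fun b =>
    Groth.Agent.Lib.Cyc.SmoothReg.isRegularLocalRing_stalk (B ↘ Spec (CommRingCat.of k)) b
  obtain ⟨hgi, hgen, hsm, hg0, hdη⟩ :=
    Groth.Agent.H34.Ruled.generic_facts (k := k) hX2 hB1 hreg π hπ hsurj hfib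
  haveI := hgi
  haveI := hsm
  obtain ⟨σ, hσ⟩ := Groth.Agent.S16506.section_of_genus_zero X hX2 B hB1 π hπ hsurj hgen
  haveI : IsProper (π ≫ (B ↘ Spec (CommRingCat.of k))) := hπ.symm ▸ inferInstance
  haveI : IsProper π := IsProper.of_comp π (B ↘ Spec (CommRingCat.of k))
  haveI : IsLocallyNoetherian B := LocallyOfFiniteType.isLocallyNoetherian (B ↘ Spec (CommRingCat.of k))
  have hcase : ∀ b : B, IsClosed ({b} : Set B) ∨ b = genericPoint B := fun b => by
    rcases Groth.Agent.H34.DimOne.isClosed_or_component hB1.le b with hc | hc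
    · exact Or.inl hc
    · refine Or.inr ?_
      rw [irreducibleComponents_eq_singleton, Set.mem_singleton_iff] at hc
      exact ((specializes_iff_mem_closure.mpr (hc ▸ Set.mem_univ _)).antisymm
        (genericPoint_specializes _)).eq
  haveI : IsProper (CohB1.ProjSpace.toSpec 1 k) := Groth.Agent.Lib.ProjSpace.Basic.isProper_toSpec 1 k
  have hdP : topologicalKrullDim (CohB1.ProjSpace 1 k) = 1 := by
    rw [Groth.Agent.Lib.ProjSpace.Dim.topologicalKrullDim_projSpace]; simp
  have hdim : ∀ b : B, topologicalKrullDim ↥(π.fiber b) = 1 := fun b => by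
    rcases hcase b with hb | rfl
    · obtain ⟨v⟩ := hfib b hb
      exact (Scheme.homeoOfIso v).isHomeomorph.topologicalKrullDim_eq.trans hdP
    · exact hdη
  haveI : GeometricallyConnected π :=
    Groth.Agent.Lib.GrpSch.geometricallyConnected_of_section π σ hσ fun b => by
      rcases hcase b with hb | rfl
      · obtain ⟨v⟩ := hfib b hb
        exact (Scheme.homeoOfIso v).symm.surjective.connectedSpace (Scheme.homeoOfIso v).symm.continuous
      · haveI : IsIntegral (π.fiber (genericPoint B)) := GeometricallyIntegral.geometrically_isIntegral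
          (f := π.fiberToSpecResidueField (genericPoint B)) (𝟙 _) (𝟙 (π.fiber (genericPoint B)))
          (π.fiberToSpecResidueField (genericPoint B)) IsPullback.of_id_fst
        infer_instance
  exact Groth.Agent.H34.Ruled.exists_isProjBundle_of_section π hdim hg0 σ hσ

end Groth.Agent.S16511
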