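import Groth.Statements.S16513
import Groth.Agent.H4.RegExt.Scheme
import Groth.Agent.H4.RegExt.ProjNoRat
import Groth.Agent.Lib.Cyc.SmoothReg
-- import your own Groth.Agent.* helpers here

set_option autoImplicit false
universe u
open CategoryTheory AlgebraicGeometry
open Curves

namespace Groth.Agent.S16513

/-- Over an algebraically closed field k, a birational self-map of a smooth projective variety X
containing no rational curve (every k-morphism from the projective line to X is constant) is an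
automorphism: a k-isomorphism between two nonempty open subschemes of X extends to a k-automorphism
of X. (The base field is taken algebraically closed here.) -/
theorem result
    (k : Type u) [Field k] [IsAlgClosed k]
    (X : Scheme.{u}) [X.Over (Spec (CommRingCat.of k))] [IsIntegral X] [Smooth (X ↘ Spec (CommRingCat.of k))]
    (hX : ∃ (n : ℕ) (ι : X ⟶ CohB1.ProjSpace n k), IsClosedImmersion ι ∧
      ι ≫ CohB1.ProjSpace.toSpec n k = X ↘ Spec (CommRingCat.of k))
    (hnorat : ∀ g : CohB1.ProjSpace 1 k ⟶ X,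
      g ≫ (X ↘ Spec (CommRingCat.of k)) = CohB1.ProjSpace.toSpec 1 k → ∃ x : X, Set.range g.base ⊆ {x})
    (U V : X.Opens) (hU : (U : Set X).Nonempty) (φ : (U : Scheme.{u}) ≅ (V : Scheme.{u}))
    (hφ : φ.hom ≫ V.ι ≫ (X ↘ Spec (CommRingCat.of k)) = U.ι ≫ (X ↘ Spec (CommRingCat.of k))) :
    ∃ e : X ≅ X, U.ι ≫ e.hom = φ.hom ≫ V.ι ∧
      e.hom ≫ (X ↘ Spec (CommRingCat.of k)) = X ↘ Spec (CommRingCat.of k) := by
  obtain ⟨n, ι, hι, hιX⟩ := hX
  let s := X ↘ Spec (CommRingCat.of k)
  haveI : IsProper s := by show IsProper (X ↘ Spec (CommRingCat.of k)); rw [← hιX]; infer_instance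
  haveI : IsLocallyNoetherian X := LocallyOfFiniteType.isLocallyNoetherian s
  have hn := Groth.Agent.H4.RegExt.noRat_of_noP1 s hnorat
  have hreg := fun y => Groth.Agent.Lib.Cyc.SmoothReg.isRegularLocalRing_stalk s y
  have hV : (V : Set X).Nonempty := by
    obtain ⟨x, hx⟩ := hU
    exact ⟨_, (φ.hom ⟨x, hx⟩).2⟩
  obtain ⟨e, ⟨he1, he2⟩, -⟩ := Groth.Agent.H4.RegExt.existsUnique_extension s hn hreg s U
    (U.2.dense hU) (φ.hom ≫ V.ι) (by rw [Category.assoc]; exact hφ)
  obtain ⟨e', ⟨he1', he2'⟩, -⟩ := Groth.Agent.H4.RegExt.existsUnique_extension s hn hreg s V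
    (V.2.dense hV) (φ.inv ≫ U.ι) (by rw [Category.assoc, ← hφ, Iso.inv_hom_id_assoc])
  have hid : e ≫ e' = 𝟙 X := by
    haveI : IsDominant U.ι := ⟨by rw [DenseRange, Scheme.Opens.range_ι]; exact U.2.dense hU⟩
    refine ext_of_isDominant_of_isSeparated s ?_ U.ι ?_
    · rw [Category.assoc, he1', he1, Category.id_comp]
    · rw [reassoc_of% he2, he2', Iso.hom_inv_id_assoc, Category.comp_id]
  have hid' : e' ≫ e = 𝟙 X := by
    haveI : IsDominant V.ι := ⟨by rw [DenseRange, Scheme.Opens.range_ι]; exact V.2.dense hV⟩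
    refine ext_of_isDominant_of_isSeparated s ?_ V.ι ?_
    · rw [Category.assoc, he1, he1', Category.id_comp]
    · rw [reassoc_of% he2', he2, Iso.inv_hom_id_assoc, Category.comp_id]
  exact ⟨⟨e, e', hid, hid'⟩, he2, he1⟩

end Groth.Agent.S16513
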