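import Groth.Statements.S16514
import Groth.Agent.S16506
import Groth.Agent.H75.Spread.Iso
import Groth.Agent.H75.Birat.Gen
import Groth.Agent.Lib.ProjSpace.BaseChange
-- import your own Groth.Agent.* helpers here

set_option autoImplicit false
universe u
open CategoryTheory AlgebraicGeometry
open Curves

namespace Groth.Agent.S16514
attribute [local instance] Curv2.stalkAlgebra

/-- Over an algebraically closed field k, let π : X → B be a surjective k-morphism from a projective
surface onto a smooth proper curve whose generic fibre is geometrically integral of arithmetic genus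
0. Then X is birational to B × P^1 over B: a nonempty open subscheme of X is isomorphic over B to an
open subscheme of B ×_k P^1_k. -/
theorem result
    (k : Type u) [Field k] [IsAlgClosed k]
    (X : Scheme.{u}) [X.Over (Spec (CommRingCat.of k))] [IsIntegral X] (hX2 : topologicalKrullDim X = 2)
    (hX : ∃ (N : ℕ) (ι : X ⟶ CohB1.ProjSpace N k), IsClosedImmersion ι ∧
      ι ≫ CohB1.ProjSpace.toSpec N k = X ↘ Spec (CommRingCat.of k))
    (B : Scheme.{u}) [B.Over (Spec (CommRingCat.of k))] [IsIntegral B]
    (hB : Curve.IsSmoothProperCurve k B (B ↘ Spec (CommRingCat.of k)))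
    (π : X ⟶ B) (hπ : π ≫ (B ↘ Spec (CommRingCat.of k)) = X ↘ Spec (CommRingCat.of k))
    (hsurj : Function.Surjective π.base)
    [GeometricallyIntegral (π.fiberToSpecResidueField (genericPoint B))]
    (hgen : letI : (π.fiber (genericPoint B)).Over (Spec (B.residueField (genericPoint B))) :=
        ⟨π.fiberToSpecResidueField (genericPoint B)⟩
      Curv2.genus (B.residueField (genericPoint B)) (π.fiber (genericPoint B)) = 0) :
    ∃ (U : X.Opens) (W : (Limits.pullback (B ↘ Spec (CommRingCat.of k)) (CohB1.ProjSpace.toSpec 1 k)).Opens)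
      (e : (U : Scheme.{u}) ≅ (W : Scheme.{u})),
      (U : Set X).Nonempty ∧ e.hom ≫ W.ι ≫ Limits.pullback.fst (B ↘ Spec (CommRingCat.of k)) (CohB1.ProjSpace.toSpec 1 k) = U.ι ≫ π := by
  classical
  obtain ⟨hBp, hBs, -, hBd⟩ := hB
  haveI := hBs; haveI := hBp
  obtain ⟨N, ι₀, hι₀, hι₀s⟩ := hX
  haveI := hι₀
  haveI : IsProper (X ↘ Spec (CommRingCat.of k)) := hι₀s ▸ inferInstance
  haveI : IsProper (π ≫ (B ↘ Spec (CommRingCat.of k))) := hπ.symm ▸ inferInstance
  haveI : IsProper π := IsProper.of_comp π (B ↘ Spec (CommRingCat.of k))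
  haveI : IsLocallyNoetherian B := LocallyOfFiniteType.isLocallyNoetherian (B ↘ Spec (CommRingCat.of k))
  let η := genericPoint B
  let F := π.fiber η
  let K := B.residueField η
  letI : F.Over (Spec (CommRingCat.of K)) := ⟨π.fiberToSpecResidueField η⟩
  haveI : IsProper (F ↘ Spec (CommRingCat.of K)) :=
    MorphismProperty.pullback_snd _ _ ‹IsProper π›
  haveI : GeometricallyIntegral (F ↘ Spec (CommRingCat.of K)) :=
    ‹GeometricallyIntegral (π.fiberToSpecResidueField (genericPoint B))›
  haveI : IsIntegral F := GeometricallyIntegral.geometrically_isIntegral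
    (f := F ↘ Spec (CommRingCat.of K)) (𝟙 _) (𝟙 F)
    (F ↘ Spec (CommRingCat.of K)) (IsPullback.of_id_fst)
  have hη : π.base (genericPoint X) = η := by
    obtain ⟨z', hz'⟩ := hsurj η
    have h1 : π.base (genericPoint X) ⤳ η :=
      hz' ▸ (genericPoint_specializes z').map π.continuous
    exact h1.antisymm (genericPoint_specializes _) |>.eq
  have hdF : topologicalKrullDim F = 1 := by
    have hcl : topologicalKrullDim (closure (Set.range π.base)) = (1 : ℕ) := by
      rw [Function.Surjective.range_eq hsurj, closure_univ,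
        (Homeomorph.Set.univ B).isHomeomorph.topologicalKrullDim_eq, hBd]
      rfl
    obtain ⟨-, hop, hdense⟩ := Groth.Agent.Lib.Flat55.FlatEquidim.fibreDimAt_generic (X ↘ Spec (CommRingCat.of k))
      (B ↘ Spec (CommRingCat.of k)) π hπ 2 1 (by rw [hX2]; rfl) hcl
    obtain ⟨z, hz⟩ := hdense.nonempty
    have hgen : FlatMor.fibreDimAt π (genericPoint X) = ((2 - 1 : ℕ) : WithBot ℕ∞) :=
      (genericPoint_specializes z).mem_open hop hz
    rw [FlatMor.fibreDimAt] at hgen
    haveI : IrreducibleSpace (π.fiber (π (genericPoint X))) := by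
      rw [hη]; infer_instance
    haveI : @LocallyOfFiniteType _ (Spec (CommRingCat.of (B.residueField (π (genericPoint X)))))
        (π.fiberToSpecResidueField (π (genericPoint X))) :=
      MorphismProperty.pullback_snd _ _ inferInstance
    rw [@Groth.Agent.Lib.JacCrit.OverField.localDim_eq_of_irreducible (B.residueField (π (genericPoint X))) _ _
      (π.fiberToSpecResidueField (π (genericPoint X))) ‹_› (MorphismProperty.pullback_snd _ _ inferInstance), hη] at hgen
    exact hgen
  -- the generic fibre is the line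
  haveI := Groth.Agent.Lib.Curves.GenusZero.smooth_of_genus_zero (k := K) (X := F) hdF hgen
  haveI := Groth.Agent.H2.Rigid.GeomIrred.geometricallyConnected (F ↘ Spec (CommRingCat.of K))
  have h := Groth.Agent.Lib.CurveFF.curveHyp_of_smooth K hdF
  have h0 := Groth.Agent.Lib.CurveFF.finrank_h0_eq_one K F
  have hK := Groth.Agent.Lib.CurveFF.isFunctionField (k := K) h h0
  have hg' : _root_.FunFld.genus K F.functionField = 0 := by
    rw [← Groth.Agent.Lib.CurveFF.genus_eq h h0]; exact hgen
  obtain ⟨E, hE⟩ := Groth.Agent.H34.Conic.exists_deg_one hK hg' (Groth.Agent.S16506.isCi_residueField (k := k) B hBd)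
  obtain ⟨e, he⟩ := Groth.Agent.S16506.exists_iso_line_of_deg_one K F hdF h h0 hg' E hE
  -- the map to the product
  let b : Spec (CommRingCat.of K) ⟶ B := B.fromSpecResidueField η
  obtain ⟨φk, hφk⟩ := Spec.map_surjective (b ≫ (B ↘ Spec (CommRingCat.of k)))
  let p₁ := Limits.pullback.fst (B ↘ Spec (CommRingCat.of k)) (CohB1.ProjSpace.toSpec 1 k)
  let q : CohB1.ProjSpace 1 K ⟶ Limits.pullback (B ↘ Spec (CommRingCat.of k)) (CohB1.ProjSpace.toSpec 1 k) :=
    Limits.pullback.lift (CohB1.ProjSpace.toSpec 1 K ≫ b) (Groth.Agent.Lib.ProjSpace.BaseChange.projMap 1 φk.hom) (by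
      rw [Category.assoc, ← hφk]
      exact (Groth.Agent.Lib.ProjSpace.BaseChange.isPullback_projMap 1 φk.hom).w.symm)
  have hq : IsPullback q (CohB1.ProjSpace.toSpec 1 K) p₁ b := by
    refine IsPullback.of_right ?_ (Limits.pullback.lift_fst _ _ _) (IsPullback.of_hasPullback _ _).flip
    rw [Limits.pullback.lift_snd, ← hφk]
    exact Groth.Agent.Lib.ProjSpace.BaseChange.isPullback_projMap 1 φk.hom
  haveI : IsIso (B.residue η) := (ConcreteCategory.isIso_iff_bijective _).2
    ⟨RingHom.injective ((B.residue η).hom : B.functionField →+* _), B.residue_surjective _⟩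
  haveI hbf : Flat b := by
    haveI := Groth.Agent.H75.Birat.flat_fromSpecStalk B η
    change Flat (Spec.map (B.residue η) ≫ B.fromSpecStalk η)
    infer_instance
  haveI hbp : IsPreimmersion b := by change IsPreimmersion (B.fromSpecResidueField η); infer_instance
  haveI : Flat q := MorphismProperty.of_isPullback (P := @Flat) hq.flip hbf
  haveI : IsPreimmersion q := MorphismProperty.of_isPullback (P := @IsPreimmersion) hq.flip hbp
  let g : F ⟶ Limits.pullback (B ↘ Spec (CommRingCat.of k)) (CohB1.ProjSpace.toSpec 1 k) := e.hom ≫ q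
  have hgfst : g ≫ p₁ = π.fiberι η ≫ π := by
    rw [Category.assoc, hq.w, ← Category.assoc, he]
    exact (Limits.pullback.condition (f := π) (g := b)).symm
  haveI : Flat (π.fiberι η) := MorphismProperty.pullback_fst _ _ hbf
  haveI : IsPreimmersion (π.fiberι η) := MorphismProperty.pullback_fst _ _ hbp
  obtain ⟨z, hz⟩ : genericPoint X ∈ Set.range (π.fiberι η) := by
    rw [Scheme.Hom.range_fiberι]; exact hη
  haveI := Groth.Agent.H75.Birat.isIso_stalkMap_of_flat_preimmersion (π.fiberι η) z
  haveI := Groth.Agent.H75.Birat.flat_fromSpecStalk F z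
  let φ : Spec (X.presheaf.stalk (π.fiberι η z)) ⟶ _ :=
    Spec.map (inv ((π.fiberι η).stalkMap z)) ≫ F.fromSpecStalk z ≫ g
  have hφ : φ ≫ p₁ = X.fromSpecStalk (π.fiberι η z) ≫ π := by
    simp only [φ, Category.assoc, hgfst]
    rw [← Scheme.SpecMap_stalkMap_fromSpecStalk_assoc, ← Spec.map_comp_assoc, IsIso.hom_inv_id,
      Spec.map_id, Category.id_comp]
  haveI : LocallyOfFinitePresentation p₁ :=
    LocallyOfFinitePresentation.iff_locallyOfFiniteType.2 inferInstance
  obtain ⟨U, hxU, s, hs, hsp⟩ := Groth.Agent.H75.Spread.spread_out π p₁ φ hφ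
  let j := U.fromSpecStalkOfMem (π.fiberι η z) hxU
  let c := IsLocalRing.closedPoint (X.presheaf.stalk (π.fiberι η z))
  haveI : Flat j := by
    haveI := Groth.Agent.H75.Birat.flat_fromSpecStalk (U : Scheme) ⟨π.fiberι η z, hxU⟩
    simp only [j, Scheme.Opens.fromSpecStalkOfMem]
    infer_instance
  haveI : IsPreimmersion j := by
    simp only [j, Scheme.Opens.fromSpecStalkOfMem]
    infer_instance
  haveI : Flat (j ≫ s) := by rw [← hs]; infer_instance
  haveI : IsPreimmersion (j ≫ s) := by rw [← hs]; infer_instance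
  haveI : IsIso (j.stalkMap c) := Groth.Agent.H75.Birat.isIso_stalkMap_of_flat_preimmersion j c
  haveI : IsIso (s.stalkMap (j c)) := by
    have h1 := Groth.Agent.H75.Birat.isIso_stalkMap_of_flat_preimmersion (j ≫ s) c
    rw [Scheme.Hom.stalkMap_comp] at h1
    exact @IsIso.of_isIso_comp_right _ _ _ _ _ (s.stalkMap (j c)) (j.stalkMap c) _ h1
  haveI : IsLocallyNoetherian (Limits.pullback (B ↘ Spec (CommRingCat.of k)) (CohB1.ProjSpace.toSpec 1 k)) :=
    LocallyOfFiniteType.isLocallyNoetherian p₁
  haveI : LocallyOfFiniteType (s ≫ p₁) := by rw [hsp]; infer_instance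
  haveI : LocallyOfFiniteType s := locallyOfFiniteType_of_comp s p₁
  haveI : LocallyOfFinitePresentation s :=
    LocallyOfFinitePresentation.iff_locallyOfFiniteType.2 inferInstance
  obtain ⟨U', W, hle, hmem, hiso⟩ := Groth.Agent.H75.Spread.exists_isIso_resLE_of_lfp s (j c)
  haveI := hiso
  refine ⟨U.ι ''ᵁ U', W, (U.ι.isoImage U').symm ≪≫ asIso (s.resLE W U' hle), ⟨U.ι (j c), j c, hmem, rfl⟩, ?_⟩
  simp only [Iso.trans_hom, Iso.symm_hom, asIso_hom, Category.assoc]
  rw [Scheme.Hom.resLE_comp_ι_assoc, hsp, ← Category.assoc, ← Category.assoc, Category.assoc (U.ι.isoImage U').inv]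
  congr 1
  exact Scheme.Hom.isoImage_inv_ι _ _

end Groth.Agent.S16514
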