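import Groth.Statements.S16515
import Mathlib
import Groth.Agent.H68.BinForms

set_option autoImplicit false
universe u
open RatCurv

namespace Groth.Agent.S16515

/-- If C ⊂ P^n is a rational normal curve and P ⊂ P^n a linear r-plane with (r + 2) k ≥ (r + 1)(n + 1),
then P is contained in a k-secant (k − 1)-plane of C, i.e. in the span of some effective divisor of
degree k on C. Stated through the identification of the linear forms on P^n with the binary forms of
degree n on C ≅ P^1: the r-plane P is recorded by the space U of degree-n binary forms vanishing on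
it (of codimension r + 1), an effective divisor of degree k on C by a nonzero binary form g of
degree k, and P ⊂ span(div g) says that every degree-n form divisible by g lies in U. Here k ≤ n,
and the ground field is arbitrary (the source works over the complex numbers). -/
theorem result (K : Type u) [Field K] (n r k : ℕ)
    (hkn : k ≤ n) (hineq : (r + 1) * (n + 1) ≤ (r + 2) * k)
    (U : Submodule K (MvPolynomial (Fin 2) K))
    (hU : U ≤ MvPolynomial.homogeneousSubmodule (Fin 2) K n)
    (hcodim : Module.finrank K ↥U + (r + 1) = n + 1) :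
    ∃ g ∈ MvPolynomial.homogeneousSubmodule (Fin 2) K k, g ≠ 0 ∧
      ∀ h ∈ MvPolynomial.homogeneousSubmodule (Fin 2) K (n - k), g * h ∈ U := by
  classical
  let U' := U.comap (MvPolynomial.homogeneousSubmodule (Fin 2) K n).subtype
  have hsum : k + (n - k) = n := by omega
  let L : MvPolynomial.homogeneousSubmodule (Fin 2) K k →ₗ[K]
      MvPolynomial.homogeneousSubmodule (Fin 2) K (n - k) →ₗ[K] (MvPolynomial.homogeneousSubmodule (Fin 2) K n ⧸ U') :=
    LinearMap.mk₂ K (fun g h => U'.mkQ ⟨g.1 * h.1, by
        have := MvPolynomial.IsHomogeneous.mul g.2 h.2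
        rwa [hsum] at this⟩)
      (fun p p' q => by rw [← map_add]; exact congrArg U'.mkQ (Subtype.ext (add_mul p.1 p'.1 q.1)))
      (fun c p q => by rw [← map_smul]; exact congrArg U'.mkQ (Subtype.ext (smul_mul_assoc c p.1 q.1)))
      (fun p q q' => by rw [← map_add]; exact congrArg U'.mkQ (Subtype.ext (mul_add p.1 q.1 q'.1)))
      (fun c p q => by rw [← map_smul]; exact congrArg U'.mkQ (Subtype.ext (mul_smul_comm c p.1 q.1)))
  have hQ : Module.finrank K (MvPolynomial.homogeneousSubmodule (Fin 2) K n ⧸ U') = r + 1 := by
    have h := Submodule.finrank_quotient_add_finrank U'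
    rw [H68.BinForms.finrank_homogeneous, (Submodule.comapSubtypeEquivOfLe hU).finrank_eq] at h
    omega
  have hker : LinearMap.ker L ≠ ⊥ := by
    apply LinearMap.ker_ne_bot_of_finrank_lt
    rw [Module.finrank_linearMap, hQ, H68.BinForms.finrank_homogeneous, H68.BinForms.finrank_homogeneous]
    obtain ⟨d, rfl⟩ : ∃ d, n = k + d := ⟨n - k, by omega⟩
    rw [Nat.add_sub_cancel_left]
    nlinarith
  obtain ⟨g, hg, hg0⟩ := Submodule.exists_mem_ne_zero_of_ne_bot hker
  refine ⟨g.1, g.2, fun h => hg0 (Subtype.ext h), fun h hh => ?_⟩
  exact (Submodule.Quotient.mk_eq_zero U').mp (LinearMap.congr_fun hg ⟨h, hh⟩)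

end Groth.Agent.S16515
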