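import Groth.Statements.S16516
import Mathlib
import Groth.Agent.H68.Secants

set_option autoImplicit false
universe u
open RatCurv

namespace Groth.Agent.S16516

/-- A smooth nondegenerate rational quintic curve C ⊂ P^4 has exactly one 3-secant line. Stated for C
given as the image of P^1 under a 5-dimensional linear series V of binary quintic forms which
separates every length-2 subscheme of P^1 (for every nonzero quadratic form e the forms of V
together with the multiples of e span all quintic forms), so that P^1 → P(V^*) = P^4 is a closed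
embedding with nondegenerate image; the linear forms on P^4 are the elements of V, a line L ⊂ P^4 is
recorded by the 3-dimensional space of linear forms vanishing on it, and L ∩ C has length at least 3
exactly when that space consists of the multiples g · K[s,t]_2 of a cubic form g. The conclusion: a
nonzero cubic g with g · K[s,t]_2 ⊆ V exists and is unique up to a scalar. (That such a line meets C
in length exactly 3, i.e. is not 4-secant, is immediate in this description and is not restated; the
ground field is algebraically closed of characteristic zero in place of the complex numbers.) -/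
theorem result (K : Type u) [Field K] [IsAlgClosed K]
    [CharZero K] (V : Submodule K (MvPolynomial (Fin 2) K))
    (hV : V ≤ MvPolynomial.homogeneousSubmodule (Fin 2) K 5) (hdim : Module.finrank K ↥V = 5)
    (hsep : ∀ e ∈ MvPolynomial.homogeneousSubmodule (Fin 2) K 2, e ≠ 0 →
      ∀ F ∈ MvPolynomial.homogeneousSubmodule (Fin 2) K 5, ∃ v ∈ V,
        ∃ h ∈ MvPolynomial.homogeneousSubmodule (Fin 2) K 3, F = v + e * h) :
    ∃ g ∈ MvPolynomial.homogeneousSubmodule (Fin 2) K 3, g ≠ 0 ∧
      (∀ h ∈ MvPolynomial.homogeneousSubmodule (Fin 2) K 2, g * h ∈ V) ∧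
      ∀ g' ∈ MvPolynomial.homogeneousSubmodule (Fin 2) K 3,
        (∀ h ∈ MvPolynomial.homogeneousSubmodule (Fin 2) K 2, g' * h ∈ V) → ∃ c : K, g' = c • g := by
  classical
  let U' := V.comap (MvPolynomial.homogeneousSubmodule (Fin 2) K 5).subtype
  have hQ : Module.finrank K (MvPolynomial.homogeneousSubmodule (Fin 2) K 5 ⧸ U') = 1 := by
    have h := Submodule.finrank_quotient_add_finrank U'
    rw [H68.BinForms.finrank_homogeneous, (Submodule.comapSubtypeEquivOfLe hV).finrank_eq] at h
    omega
  let b : Module.Basis (Fin 1) K _ := Module.finBasisOfFinrankEq K _ hQ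
  let φ : MvPolynomial.homogeneousSubmodule (Fin 2) K 5 →ₗ[K] K := (b.coord 0).comp U'.mkQ
  have hφ : ∀ F, φ F = 0 ↔ (F : MvPolynomial (Fin 2) K) ∈ V := by
    intro F
    show b.coord 0 (U'.mkQ F) = 0 ↔ _
    rw [Module.Basis.coord_apply]
    constructor
    · intro h
      apply (Submodule.Quotient.mk_eq_zero U').mp
      apply b.repr.injective
      rw [map_zero]
      refine Finsupp.ext fun i => ?_
      rw [Subsingleton.elim i 0]; exact h
    · intro h
      rw [show U'.mkQ F = 0 from (Submodule.Quotient.mk_eq_zero U').mpr h]; simp
  have hne : φ ≠ 0 := by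
    intro h
    obtain ⟨F, hF⟩ := U'.mkQ_surjective (b 0)
    have := LinearMap.congr_fun h F
    simp [φ, hF] at this
  obtain ⟨g, hg0, hg, hspan⟩ := H68.Secants.exists_unique_ker_bil hV hsep φ hne (fun F hF => (hφ F).mpr hF)
  refine ⟨g.1, g.2, fun h => hg0 (Subtype.ext h), fun h hh => ?_, fun g' hg' hall => ?_⟩
  · exact (hφ _).mp (LinearMap.congr_fun hg ⟨h, hh⟩)
  · obtain ⟨c, hc⟩ := hspan ⟨g', hg'⟩ (LinearMap.ext fun h => (hφ _).mpr (hall h.1 h.2))
    exact ⟨c, (congrArg Subtype.val hc).symm⟩

end Groth.Agent.S16516
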