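import Groth.Statements.S16517
import Groth.Agent.H48.GorLink
import Groth.Agent.Lib.Regular.Quotient
import Mathlib.RingTheory.Regular.Flat

set_option autoImplicit false
universe u
open CAlg

namespace Groth.Agent.S16517

/-- Let R be a regular local ring, A a Gorenstein local ring which is a flat R-algebra through a local
homomorphism, I ⊂ A an ideal of codimension zero (the Krull dimension of A/I equals that of A) with
A/I Cohen–Macaulay, and J = (0 : I) the annihilator of I in A (the ideal of the residual subscheme).
Then A/I and A/J are flat over R. -/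
theorem result (R A : Type u)
    [CommRing R] [IsRegularLocalRing R] [CommRing A] [Algebra R A] [LocCoh.IsGorensteinLocalRing A]
    [IsLocalHom (algebraMap R A)] [Module.Flat R A] (I : Ideal A)
    (hI : ringKrullDim (A ⧸ I) = ringKrullDim A) [LocCoh.IsCohenMacaulayLocalRing (A ⧸ I)] :
    Module.Flat R (A ⧸ I) ∧ Module.Flat R (A ⧸ (Submodule.annihilator I)) := by
  classical
  have hfg : (IsLocalRing.maximalIdeal R).FG := IsNoetherian.noetherian _
  obtain ⟨rs, hrs, hlen⟩ : ∃ rs : List R, Ideal.ofList rs = IsLocalRing.maximalIdeal R ∧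
      rs.length = (IsLocalRing.maximalIdeal R).spanFinrank := by
    refine ⟨(Submodule.FG.finite_generators hfg).toFinset.toList, ?_, ?_⟩
    · simp only [Ideal.ofList, Finset.mem_toList, Set.Finite.mem_toFinset, Set.ofPred_mem_eq]
      exact Submodule.span_generators _
    · rw [Finset.length_toList,
        ← Set.ncard_eq_toFinset_card _ (Submodule.FG.finite_generators hfg),
        Submodule.FG.generators_ncard hfg]
  have hreg := (Groth.Agent.Lib.Regular.Quotient.isRegular_of_span_eq_maximalIdeal rs hrs hlen).toIsWeaklyRegular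
  have hw : RingTheory.Sequence.IsWeaklyRegular A (rs.map (algebraMap R A)) :=
    hreg.of_flat
  have hmem : ∀ x ∈ rs.map (algebraMap R A), x ∈ IsLocalRing.maximalIdeal A := by
    intro x hx
    obtain ⟨r, hr, rfl⟩ := List.mem_map.1 hx
    exact map_nonunit _ r (hrs ▸ Ideal.subset_span hr)
  obtain ⟨-, h2, h3⟩ := Groth.Agent.H48.GorLink.key _ A I (rs.map (algebraMap R A)) rfl hmem hw hI
  rw [← Ideal.map_ofList, hrs] at h2 h3
  exact ⟨Groth.Agent.H48.GorLink.flat_quotient_of_inf_eq I h3,
    Groth.Agent.H48.GorLink.flat_quotient_of_inf_eq _ h2⟩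

end Groth.Agent.S16517
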