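import Groth.Statements.S16519
import Mathlib

set_option autoImplicit false
open CubicSurf

namespace Groth.Agent.S16519

/-- On a smooth cubic surface there are exactly 72 divisor classes L with L² = 1 and L · K = −3. Stated
in the lattice ℤ^{1,6} with basis l, e_1, …, e_6 (l² = 1, e_i² = −1, K = −3l + Σ e_i): the integer
vectors (a, b) ∈ ℤ × ℤ^6, standing for a·l − Σ b_i e_i, with 3a − Σ b_i = 3 and a² − Σ b_i² = 1 form
a set of exactly 72 elements. -/
theorem result :
    {p : ℤ × (Fin 6 → ℤ) | 3 * p.1 - (Finset.univ.sum fun i => p.2 i) = 3 ∧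
        p.1 ^ 2 - (Finset.univ.sum fun i => p.2 i ^ 2) = 1}.ncard = 72 := by
  classical
  let g : Fin 5 × (Fin 6 → Fin 3) → ℤ × (Fin 6 → ℤ) := fun q => (((q.1 : ℕ) : ℤ) + 1, fun i => ((q.2 i : ℕ) : ℤ))
  have hg : Function.Injective g := by
    rintro ⟨a, b⟩ ⟨a', b'⟩ h
    simp only [g, Prod.mk.injEq, funext_iff] at h
    obtain ⟨h1, h2⟩ := h
    refine Prod.ext (Fin.ext (show (a : ℕ) = a' by omega)) (funext fun i => Fin.ext ?_)
    exact_mod_cast h2 i
  let s : Finset (Fin 5 × (Fin 6 → Fin 3)) := Finset.univ.filter fun q =>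
    3 * (g q).1 - (Finset.univ.sum fun i => (g q).2 i) = 3 ∧ (g q).1 ^ 2 - (Finset.univ.sum fun i => (g q).2 i ^ 2) = 1
  have hs : s.card = 72 := by decide +kernel
  have : {p : ℤ × (Fin 6 → ℤ) | 3 * p.1 - (Finset.univ.sum fun i => p.2 i) = 3 ∧
        p.1 ^ 2 - (Finset.univ.sum fun i => p.2 i ^ 2) = 1} = g '' (s : Set _) := by
    ext p
    constructor
    · rintro ⟨h1, h2⟩
      obtain ⟨a, b⟩ := p
      simp only at h1 h2
      have hcs : (∑ i, b i) ^ 2 ≤ 6 * ∑ i, b i ^ 2 := by
        simpa using sq_sum_le_card_mul_sum_sq (s := (Finset.univ : Finset (Fin 6))) (f := b)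
      have ha : 1 ≤ a ∧ a ≤ 5 := by constructor <;> nlinarith
      have hb : ∀ i, 0 ≤ b i ∧ b i < 3 := by
        intro i
        have h3 : (∑ j ∈ Finset.univ.erase i, b j) ^ 2 ≤ 5 * ∑ j ∈ Finset.univ.erase i, b j ^ 2 := by
          simpa using sq_sum_le_card_mul_sum_sq (s := Finset.univ.erase i) (f := b)
        rw [Finset.sum_erase_eq_sub (Finset.mem_univ i), Finset.sum_erase_eq_sub (Finset.mem_univ i)] at h3
        rw [show ∑ j, b j = 3 * a - 3 by linarith, show ∑ j, b j ^ 2 = a ^ 2 - 1 by linarith] at h3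
        obtain ⟨ha1, ha2⟩ := ha
        constructor
        · by_contra hn
          have : b i ≤ -1 := by omega
          interval_cases a <;> nlinarith
        · by_contra hn
          have : 3 ≤ b i := by omega
          interval_cases a <;> nlinarith
      refine ⟨(⟨(a - 1).toNat, by omega⟩, fun i => ⟨(b i).toNat, by have := hb i; omega⟩), ?_, ?_⟩
      · have e : g (⟨(a - 1).toNat, by omega⟩, fun i => ⟨(b i).toNat, by have := hb i; omega⟩) = (a, b) := by
          refine Prod.ext (by simp only [g]; omega) (funext fun i => ?_)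
          have := hb i
          simp only [g]; omega
        simp only [s, Finset.coe_filter, Set.mem_setOf_eq, Finset.mem_univ, true_and, e]
        exact ⟨h1, h2⟩
      · refine Prod.ext (by simp only [g]; omega) (funext fun i => ?_)
        have := hb i
        simp only [g]; omega
    · rintro ⟨q, hq, rfl⟩
      simpa only [s, Finset.coe_filter, Set.mem_setOf_eq, Finset.mem_univ, true_and] using hq
  rw [this, Set.ncard_image_of_injective _ hg, Set.ncard_coe_finset, hs]

end Groth.Agent.S16519
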