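import Groth.Statements.S1652
import Groth.Agent.H97.CurvePositivity
-- import your own Groth.Agent.* helpers here

set_option autoImplicit false
universe u
open CategoryTheory CategoryTheory.Limits AlgebraicGeometry
open Variety

namespace Groth.Agent.S1652

/-- On a proper curve over a field, if L and M are invertible modules with L ⊗ M ≅ O_X and both L and M
have a nonzero global section, then L is isomorphic to the structure sheaf. -/
theorem result (k : Type u) [Field k] (X : Scheme.{u}) [X.Over (Spec (CommRingCat.of k))]
    [IsIntegral X] [IsProper (X ↘ (Spec (CommRingCat.of k)))] (hdim : topologicalKrullDim X = 1)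
    (L M : X.Modules) (hL : PicF.IsInvertible L) (hM : PicF.IsInvertible M) (hLM : ClSub.IsInverseOf L M)
    (s : Coh.structureModule X ⟶ L) (hs : s ≠ 0) (t : Coh.structureModule X ⟶ M) (ht : t ≠ 0) :
    Nonempty (L ≅ Coh.structureModule X) := by
  haveI := Groth.Agent.Lib.Curves.GlobalSections.noetherianSpace_of_proper k X
  have gO := Groth.Agent.Lib.Curves.Degree.isGood_structureModule (k := k) (X := X) hdim.le
  have gL := Groth.Agent.Lib.Curves.Degree.isGood (k := k) hdim.le hL
  have gM := Groth.Agent.Lib.Curves.Degree.isGood (k := k) hdim.le hM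
  have hO := PicLoc.isInvertible_structureModule X
  have h1 := Groth.Agent.Lib.Curves.Positivity.deg_le_of_ne_zero hdim.le hO hL gO gL hs
  have h2 := Groth.Agent.Lib.Curves.Positivity.deg_le_of_ne_zero hdim.le hO hM gO gM ht
  have h3 := Groth.Agent.Lib.Curves.Degree.deg_of_isInverseOf (k := k) hdim.le hL hM hLM
  rw [Groth.Agent.Lib.Curves.Degree.deg_structureModule] at h1 h2
  haveI := Groth.Agent.Lib.Curves.Positivity.isIso_of_deg_eq hdim.le hO hL gO gL hs
    (by rw [Groth.Agent.Lib.Curves.Degree.deg_structureModule]; omega)
  exact ⟨(asIso s).symm⟩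

end Groth.Agent.S1652
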