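import Groth.Statements.S16520
import Groth.Agent.Lib.CurveFF.DoublePush
-- import your own Groth.Agent.* helpers here

set_option autoImplicit false
universe u
open CategoryTheory CategoryTheory.Limits AlgebraicGeometry
open Curves

namespace Groth.Agent.S16520
open Groth.Agent.Lib

/-- Let E be an elliptic curve over an algebraically closed field k of characteristic zero (in place of
the complex numbers): smooth, proper and geometrically connected over k, of dimension one and genus
dim_k H^1(E, O_E) = 1; let π : E → P^1_k be a k-morphism which is finite and flat of constant rank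
2, and L an invertible O_E-module of degree d = χ(L) − χ(O_E). If d = 2e + 1 then π_*L ≅ O(e) ⊕ O(e
− 1); if d = 2e and L ≅ π^*O(e) then π_*L ≅ O(e) ⊕ O(e − 2); if d = 2e and L is not isomorphic to
π^*O(e) then π_*L ≅ O(e − 1) ⊕ O(e − 1). (Existence of isomorphisms of O-modules on P^1_k; the
source states the isomorphisms abstractly.) -/
theorem result (k : Type u) [Field k]
    [IsAlgClosed k] [CharZero k] (E : Scheme.{u}) [E.Over (Spec (CommRingCat.of k))] [IsProper (E ↘ Spec (CommRingCat.of k))]
    [Smooth (E ↘ Spec (CommRingCat.of k))] [GeometricallyConnected (E ↘ Spec (CommRingCat.of k))]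
    (hE : topologicalKrullDim E = 1) (hg : Curv2.genus k E = 1)
    (π : E ⟶ CohB1.ProjSpace 1 k) (hπ : π ≫ CohB1.ProjSpace.toSpec 1 k = E ↘ Spec (CommRingCat.of k))
    [IsFinite π] [Flat π] (hrk : ∀ y : ↥(CohB1.ProjSpace 1 k), Scheme.Hom.finrank π y = 2)
    (L : E.Modules) (hL : PicF.IsInvertible L) (d : ℤ) (hd : Curv2.deg k E L 1 = d) :
    (∀ e : ℤ, d = 2 * e + 1 → Nonempty ((Scheme.Modules.pushforward π).obj L ≅
        ∐ fun j : Fin 2 => Twist.twistProjSpace 1 k (![e, e - 1] j))) ∧
    (∀ e : ℤ, d = 2 * e → Nonempty (L ≅ (Scheme.Modules.pullback π).obj (Twist.twistProjSpace 1 k e)) →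
        Nonempty ((Scheme.Modules.pushforward π).obj L ≅
          ∐ fun j : Fin 2 => Twist.twistProjSpace 1 k (![e, e - 2] j))) ∧
    (∀ e : ℤ, d = 2 * e → IsEmpty (L ≅ (Scheme.Modules.pullback π).obj (Twist.twistProjSpace 1 k e)) →
        Nonempty ((Scheme.Modules.pushforward π).obj L ≅
          ∐ fun j : Fin 2 => Twist.twistProjSpace 1 k (![e - 1, e - 1] j))) := by
  let P := CohB1.ProjSpace 1 k
  letI : P.Over (Spec (CommRingCat.of k)) := ⟨CohB1.ProjSpace.toSpec 1 k⟩
  haveI : IsProper (P ↘ Spec (CommRingCat.of k)) := ProjSpace.Basic.isProper_toSpec 1 k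
  haveI : Nonempty (Spec (CommRingCat.of k)) := inferInstanceAs (Nonempty (PrimeSpectrum k))
  haveI : Subsingleton (Spec (CommRingCat.of k)) := inferInstanceAs (Subsingleton (PrimeSpectrum k))
  haveI : ConnectedSpace E := GeometricallyConnected.connectedSpace_of_subsingleton (E ↘ Spec (CommRingCat.of k))
  haveI : IsIntegral E := CurveBundle.SmoothField.isIntegral k hE.le
  haveI := Curves.GlobalSections.isNoetherian_of_proper k P
  haveI := Curves.GlobalSections.isNoetherian_of_proper k E
  haveI := Curves.GlobalSections.noetherianSpace_of_proper k P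
  haveI := Curves.GlobalSections.noetherianSpace_of_proper k E
  have hPd : topologicalKrullDim P = 1 := CurveFF.DoublePush.dim_line
  have h0 := CurveFF.finrank_h0_eq_one k E
  have hO := Curves.Degree.euler_structureModule (k := k) hE.le h0
  rw [hg] at hO
  obtain ⟨δ, hanti, ⟨i⟩⟩ := H34.SplitP1.exists_splitting
    (CurveFF.DoublePush.isFinLocFreeOfRank_push π hπ hrk hE two_ne_zero hL)
  haveI : L.IsQuasicoherent :=
    TensorMod.QCohInv.isQCoh_of_isInvertible hL
  -- the total degree
  have hsum : δ 0 + δ 1 + 2 = d := by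
    have h1 := SurfInt.Push.euler_push π hπ L
    rw [Curves.Euler.euler_eq_of_iso
      (i ≪≫ CurveFF.DoublePush.sigmaIso fun j : Fin 2 => Twist.twistProjSpace 1 k (δ j)),
      TFOne.Euler.euler_biprod (Curves.Degree.isCoh_of_isInvertible (CurveFF.DoublePush.isInvertible_twist _))
        (Curves.Degree.isCoh_of_isInvertible (CurveFF.DoublePush.isInvertible_twist _)),
      (CurveFF.DoublePush.euler_twist (δ 0)).1, (CurveFF.DoublePush.euler_twist (δ 1)).1] at h1
    rw [← hd, Curves.Degree.deg_eq, ← h1, hO]
    simp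
    ring
  have h01 : δ 1 ≤ δ 0 := hanti (by decide)
  have hpull : ∀ t : ℤ, PicF.IsInvertible ((Scheme.Modules.pullback π).obj (Twist.twistProjSpace 1 k t)) :=
    fun t => PicLoc.isInvertible_pullback π (CurveFF.DoublePush.isInvertible_twist t)
  have hdegpb := fun t => CurveFF.DoublePush.deg_pullback_twist π hπ hrk hE t
  let adj := Scheme.Modules.pullbackPushforwardAdjunction π
  -- the largest twist maps to `L`
  have hup : 2 * δ 0 ≤ d ∧ (2 * δ 0 = d →
      Nonempty (L ≅ (Scheme.Modules.pullback π).obj (Twist.twistProjSpace 1 k (δ 0)))) := by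
    let ι := Sigma.ι (fun j : Fin 2 => Twist.twistProjSpace 1 k (δ j)) 0 ≫ i.inv
    let φ := (adj.homEquiv (Twist.twistProjSpace 1 k (δ 0)) L).symm ι
    have hne : φ ≠ 0 := by
      intro h
      have h1 : ι = 0 := by
        have h2 := congrArg (adj.homEquiv (Twist.twistProjSpace 1 k (δ 0)) L) h
        rw [Equiv.apply_symm_apply, Adjunction.homEquiv_unit, Functor.map_zero, comp_zero] at h2
        exact h2
      have h3 : 𝟙 (Twist.twistProjSpace 1 k (δ 0)) = 0 := by
        have h2 := congrArg (· ≫ i.hom ≫ (CurveFF.DoublePush.sigmaIso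
          fun j : Fin 2 => Twist.twistProjSpace 1 k (δ j)).hom ≫ biprod.fst) h1
        simp only [ι, CurveFF.DoublePush.sigmaIso, Category.assoc, Iso.inv_hom_id_assoc, zero_comp,
          Sigma.ι_desc_assoc] at h2
        exact (biprod.inl_fst).symm.trans h2
      exact CurveFF.DoublePush.id_ne_zero (CurveFF.DoublePush.isInvertible_twist (δ 0)) h3
    have gA := Curves.Degree.isGood (k := k) hE.le (hpull (δ 0))
    have gL := Curves.Degree.isGood (k := k) hE.le hL
    have hle := Curves.Positivity.deg_le_of_ne_zero (k := k) hE.le (hpull _) hL gA gL hne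
    rw [hdegpb, hd] at hle
    refine ⟨by exact_mod_cast hle, fun he => ?_⟩
    haveI := Curves.Positivity.isIso_of_deg_eq (k := k) hE.le (hpull _) hL gA gL hne
      (by rw [hdegpb, hd]; exact_mod_cast he)
    exact ⟨(asIso φ).symm⟩
  -- a twist mapping to `L` is at most the largest one
  have hlow : ∀ e : ℤ, Nonempty (L ≅ (Scheme.Modules.pullback π).obj (Twist.twistProjSpace 1 k e)) →
      e ≤ δ 0 := by
    rintro e ⟨j⟩
    let ψ := adj.homEquiv (Twist.twistProjSpace 1 k e) L j.inv
    let S := fun j : Fin 2 => Twist.twistProjSpace 1 k (δ j)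
    have hne : ψ ≫ i.hom ≫ (CurveFF.DoublePush.sigmaIso S).hom ≠ 0 := by
      intro h
      have h1 : ψ = 0 := by
        rw [← Category.comp_id ψ, ← (i ≪≫ CurveFF.DoublePush.sigmaIso S).hom_inv_id,
          ← Category.assoc, Iso.trans_hom, h, zero_comp]
      have h2 := congrArg (adj.homEquiv (Twist.twistProjSpace 1 k e) L).symm h1
      rw [Equiv.symm_apply_apply, Adjunction.homEquiv_counit, Functor.map_zero, zero_comp] at h2
      exact CurveFF.DoublePush.id_ne_zero hL (by rw [← j.hom_inv_id, h2, comp_zero])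
    have hle : ∀ (a : ℤ) (χ : Twist.twistProjSpace 1 k e ⟶ Twist.twistProjSpace 1 k a), χ ≠ 0 → e ≤ a := by
      intro a χ hχ
      have := Curves.Positivity.deg_le_of_ne_zero (k := k) hPd.le
        (CurveFF.DoublePush.isInvertible_twist e) (CurveFF.DoublePush.isInvertible_twist a)
        (Curves.Degree.isGood (k := k) hPd.le (CurveFF.DoublePush.isInvertible_twist e))
        (Curves.Degree.isGood (k := k) hPd.le (CurveFF.DoublePush.isInvertible_twist a)) hχ
      rwa [(CurveFF.DoublePush.euler_twist e).2, (CurveFF.DoublePush.euler_twist a).2] at this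
    by_cases hf : (ψ ≫ i.hom ≫ (CurveFF.DoublePush.sigmaIso S).hom) ≫ biprod.fst = 0
    · refine (hle (δ 1) ((ψ ≫ i.hom ≫ (CurveFF.DoublePush.sigmaIso S).hom) ≫ biprod.snd)
        fun hs => hne ?_).trans h01
      exact biprod.hom_ext _ _ (hf.trans zero_comp.symm) (hs.trans zero_comp.symm)
    · exact hle _ _ hf
  refine ⟨fun e he => ?_, fun e he hiso => ?_, fun e he hno => ?_⟩
  · obtain rfl : δ = ![e, e - 1] := by
      have := hup.1
      funext j
      fin_cases j <;> simp <;> omega
    exact ⟨i⟩
  · obtain rfl : δ = ![e, e - 2] := by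
      have := hup.1
      have := hlow e hiso
      funext j
      fin_cases j <;> simp <;> omega
    exact ⟨i⟩
  · obtain rfl : δ = ![e - 1, e - 1] := by
      have h1 := hup.1
      have h2 : δ 0 ≠ e := fun h => by
        obtain ⟨w⟩ := hup.2 (by omega)
        rw [h] at w
        exact hno.false w
      funext j
      fin_cases j <;> simp <;> omega
    exact ⟨i⟩

end Groth.Agent.S16520
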