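import Groth.Statements.S16532
import Groth.Agent.Lib.ProjCI.LinForms
import Groth.Agent.Lib.ProjCI.DictInt
import Groth.Agent.Lib.ClSub.Sections
import Groth.Agent.Lib.ProjCoh.SerreDual
import Groth.Agent.Lib.TensorMod.QCohInv
-- import your own Groth.Agent.* helpers here

set_option autoImplicit false
universe u
open CategoryTheory CategoryTheory.Limits AlgebraicGeometry
open Fano

open Groth.Agent.Lib Groth.Agent.Lib.Curves.LES Groth.Agent.Lib.TensorMod.Gen Groth.Agent.Lib.TensorMod.Dual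
open Groth.Agent.Lib.TensorMod.HomGlue Groth.Agent.Lib.TensorMod.Basic Groth.Agent.Lib.Ample.GenLocus

noncomputable section

namespace Groth.Agent.S16532

/-- The kernel of the Hilbert–Burch matrix of `(ml₁, ml₂, al₁ + bl₂)`. -/
theorem syzygy {R : Type*} [CommRing R] {L₁ L₂ M Q A B x₁ x₂ x₃ : R}
    (hM : ∀ z, M * z = 0 → z = 0) (hQ : ∀ z, Q * z ∈ Ideal.span {M} → z ∈ Ideal.span {M})
    (hQ' : Q - (A * L₁ + B * L₂) ∈ Ideal.span {M})
    (hL₁ : ∀ z, L₁ * z = 0 → z = 0) (hL₂ : ∀ z, L₂ * z ∈ Ideal.span {L₁} → z ∈ Ideal.span {L₁})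
    (h : x₁ * (M * L₁) + x₂ * (M * L₂) + x₃ * (A * L₁ + B * L₂) = 0) :
    ∃ u w, x₁ = u * L₂ + w * A ∧ x₂ = -(u * L₁) + w * B ∧ x₃ = -(w * M) := by
  obtain ⟨e, he⟩ := Ideal.mem_span_singleton'.1 hQ'
  obtain ⟨v, hv⟩ := Ideal.mem_span_singleton'.1 (hQ x₃ (Ideal.mem_span_singleton'.2
    ⟨e * x₃ - x₁ * L₁ - x₂ * L₂, by linear_combination x₃ * he - h⟩))
  have h1 : (x₁ + v * A) * L₁ + (x₂ + v * B) * L₂ = 0 := hM _ (by
    linear_combination h + (A * L₁ + B * L₂) * hv)
  obtain ⟨u, hu⟩ := Ideal.mem_span_singleton'.1 (hL₂ (x₂ + v * B) (Ideal.mem_span_singleton'.2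
    ⟨-(x₁ + v * A), by linear_combination -h1⟩))
  have h2 : x₁ + v * A + u * L₂ = 0 := hL₁ _ (by linear_combination h1 + L₂ * hu)
  exact ⟨-u, -v, by linear_combination h2, by linear_combination -hu, by linear_combination -hv⟩

/-- `(L₁, L₂) ∩ (M, Q)`. -/
theorem inf_eq {R : Type*} [CommRing R] {L₁ L₂ M Q A B C : R} (hQ : Q = A * L₁ + B * L₂ + C * M)
    (hM : ∀ z, M * z ∈ Ideal.span {L₁, L₂} → z ∈ Ideal.span {L₁, L₂}) (x : R) :
    x ∈ Ideal.span {L₁, L₂} ⊓ Ideal.span {M, Q} ↔ ∃ p q r, x = p * (M * L₁) + q * (M * L₂) + r * (A * L₁ + B * L₂) := by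
  constructor
  · rintro ⟨h1, h2⟩
    obtain ⟨α, β, hx⟩ := Ideal.mem_span_pair.1 h2
    obtain ⟨p, q, hpq⟩ := Ideal.mem_span_pair.1 (hM (α + β * C) (by
      have e : M * (α + β * C) = x - β * (A * L₁ + B * L₂) := by rw [← hx, hQ]; ring
      rw [e]
      exact sub_mem h1 (Ideal.mem_span_pair.2 ⟨β * A, β * B, by ring⟩)))
    exact ⟨p, q, β, by rw [← hx, hQ]; linear_combination -M * hpq⟩
  · rintro ⟨p, q, r, rfl⟩
    exact ⟨Ideal.mem_span_pair.2 ⟨p * M + r * A, q * M + r * B, by ring⟩,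
      Ideal.mem_span_pair.2 ⟨p * L₁ + q * L₂ - r * C, r, by rw [hQ]; ring⟩⟩

/-- The projection from a sum of copies. -/
def proj {X : Scheme.{u}} {N : X.Modules} {c : ℕ} (j : Fin c) : (∐ fun _ : Fin c => N) ⟶ N :=
  Sigma.desc fun j' => if j' = j then 𝟙 N else 0

theorem proj_total {X : Scheme.{u}} {N : X.Modules} (c : ℕ) :
    ∑ j, proj (N := N) j ≫ Sigma.ι (fun _ : Fin c => N) j = 𝟙 _ := by
  classical
  refine Sigma.hom_ext _ _ fun j => ?_
  rw [Preadditive.comp_sum, Finset.sum_eq_single j]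
  · simp [proj]
  · intro b _ hb; simp [proj, Ne.symm hb]
  · simp

theorem sum_proj {X : Scheme.{u}} {N : X.Modules} {c : ℕ} (U : X.Opens) (x : Γ(∐ fun _ : Fin c => N, U)) :
    ∑ j, (Sigma.ι (fun _ : Fin c => N) j).app U ((proj j).app U x) = x := by
  have h := congrArg (fun φ : (∐ fun _ : Fin c => N) ⟶ ∐ fun _ : Fin c => N => φ.app U x) (proj_total (N := N) c)
  rw [TensorMod.LocIso.sum_app] at h
  exact h

/-- The sections of a sum of twists on a chart. -/
theorem exists_coords {k : Type u} [Field k] {n c : ℕ} (a : ℤ) (i : Fin (n + 1))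
    (x : Γ(ProjCoh.Coherent.sumTS n k c a, LefPen.chart n k i)) :
    ∃ s : Fin c → Γ(CohB1.ProjSpace n k, LefPen.chart n k i),
      x = ∑ j, s j • (Sigma.ι (fun _ : Fin c => ProjCoh.Sections.TS n k a) j).app _ (ProjCI.Dict.g a i) := by
  choose s hs using fun j => exists_coord (ProjCI.Dict.isGen_g a i) ((proj j).app _ x)
  refine ⟨s, (sum_proj _ x).symm.trans (Finset.sum_congr rfl fun j _ => ?_)⟩
  rw [hs j, Scheme.Modules.Hom.app_smul]

/-- Over an algebraically closed field k of characteristic zero (in place of the complex numbers), let Σ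
⊂ P^4 be the union of a 2-plane Σ₁ and a smooth quadric surface Σ₂ meeting along a line; then
H^i(P^4, I_Σ(2)) = 0 for all i > 0. Here Σ₁ = V_+(l₁, l₂) and Σ₂ = V_+(m, q) for linearly
independent linear forms l₁, l₂, m and a quadratic form q in the ideal (l₁, l₂, m) (so Σ₁ ∩ Σ₂ is
the line V_+(l₁, l₂, m)), with V_+(m, q) smooth of dimension 2 over k; I_Σ is the intersection of
the ideal sheaves of Σ₁ and Σ₂, and the conclusion says that the i-th cohomology of I_Σ ⊗ O(2) on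
P^4_k vanishes for every i ≥ 1. -/
theorem result (k : Type u) [Field k]
    [IsAlgClosed k] [CharZero k] (l₁ l₂ m : LefPen.Form 4 k 1) (hlin : LinearIndependent k ![l₁, l₂, m])
    (q : LefPen.Form 4 k 2) (a b c : LefPen.Form 4 k 1) (hq : q.1 = a.1 * l₁.1 + b.1 * l₂.1 + c.1 * m.1)
    [Smooth ((LefPen.hypIdeal m ⊔ LefPen.hypIdeal q).subschemeι ≫ CohB1.ProjSpace.toSpec 4 k)]
    (hdim : topologicalKrullDim ↥(LefPen.hypIdeal m ⊔ LefPen.hypIdeal q).subscheme = 2)
    (i : ℕ) (hi : 1 ≤ i) :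
    Subsingleton (Coh.HH (CohB1.ProjSpace 4 k)
      (CohB1.tensorMod (ClSub.idealMod ((LefPen.hypIdeal l₁ ⊔ LefPen.hypIdeal l₂) ⊓
        (LefPen.hypIdeal m ⊔ LefPen.hypIdeal q))) (Twist.twistProjSpace 4 k 2)) i) := by
  classical
  let P := CohB1.ProjSpace 4 k
  let U : Fin 5 → P.Opens := fun j => LefPen.chart 4 k j
  let U' : Fin 5 → P.affineOpens := fun j => LefPen45.HypSheaf.chartAff k (r := 4) j
  have hUaff : ∀ j, IsAffineOpen (U j) := fun j => (U' j).2
  -- regular sequences on the charts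
  have hR3 : ProjCI.Cone.Reg (a := fun _ : Fin 3 => 1) ![l₁, l₂, m] := ProjCI.LinForms.reg _ hlin
  let a2 : Fin 2 → ℕ := ![1, 2]
  let G2 : ∀ j : Fin 2, LefPen.Form 4 k (a2 j) :=
    Fin.cons (α := fun j => LefPen.Form 4 k (a2 j)) m (Fin.cons (α := fun j : Fin 1 => LefPen.Form 4 k (a2 j.succ)) q finZeroElim)
  have hG2 : LefPen.ciIdeal G2 = LefPen.hypIdeal m ⊔ LefPen.hypIdeal q := by
    refine le_antisymm (iSup_le fun j => ?_) (sup_le (le_iSup (fun j => LefPen.hypIdeal (G2 j)) 0) (le_iSup (fun j => LefPen.hypIdeal (G2 j)) 1))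
    fin_cases j
    · exact le_sup_left
    · exact le_sup_right
  have hR2 : ProjCI.Cone.Reg G2 := by
    refine ProjCI.Cone.reg_of_dim (fun j => by fin_cases j <;> simp [a2]) (by omega) ?_
    have : ∀ I, I = LefPen.hypIdeal m ⊔ LefPen.hypIdeal q →
        topologicalKrullDim ↥I.subscheme ≤ ((4 - 2 : ℕ) : WithBot ℕ∞) := by
      rintro I rfl; exact hdim.le
    exact this _ hG2
  have w3 : ∀ j (t : Fin 3) (z : Γ(P, U j)),
      LefPen.dehom (![l₁, l₂, m] t) j * z ∈ Ideal.span ((fun t => LefPen.dehom (![l₁, l₂, m] t) j) '' Set.Iio t) →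
        z ∈ Ideal.span ((fun t => LefPen.dehom (![l₁, l₂, m] t) j) '' Set.Iio t) := fun j =>
    (Vasconcelos.Global.isWeaklyRegular_ofFn _).1 (ProjCI.Regular.isWeaklyRegular_dehom hR3 j)
  have w2 : ∀ j (t : Fin 2) (z : Γ(P, U j)),
      LefPen.dehom (G2 t) j * z ∈ Ideal.span ((fun t => LefPen.dehom (G2 t) j) '' Set.Iio t) →
        z ∈ Ideal.span ((fun t => LefPen.dehom (G2 t) j) '' Set.Iio t) := fun j =>
    (Vasconcelos.Global.isWeaklyRegular_ofFn _).1 (ProjCI.Regular.isWeaklyRegular_dehom hR2 j)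
  have i0 : Set.Iio (0 : Fin 3) = ∅ := by ext t; simp
  have i1 : Set.Iio (1 : Fin 3) = {0} := by ext t; fin_cases t <;> simp
  have i2 : Set.Iio (2 : Fin 3) = {0, 1} := by ext t; fin_cases t <;> simp
  have j0 : Set.Iio (0 : Fin 2) = ∅ := by ext t; simp
  have j1 : Set.Iio (1 : Fin 2) = {0} := by ext t; fin_cases t <;> simp
  -- the three quadrics
  let mk2 : LefPen.Form 4 k 1 → LefPen.Form 4 k 1 → LefPen.Form 4 k 2 := fun F F' => ⟨F.1 * F'.1, SetLike.mul_mem_graded F.2 F'.2⟩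
  let gen3 : Fin 3 → LefPen.Form 4 k 2 := ![mk2 m l₁, mk2 m l₂, mk2 a l₁ + mk2 b l₂]
  have hmk : ∀ F F' j, LefPen.dehom (mk2 F F') j = LefPen.dehom F j * LefPen.dehom F' j := fun F F' j =>
    ProjCI.Dict.dehom_mul F F' (mk2 F F') rfl rfl j
  have hadd : ∀ (F F' : LefPen.Form 4 k 2) j, LefPen.dehom (F + F') j = LefPen.dehom F j + LefPen.dehom F' j := fun F F' j => by
    have := ProjCI.Dict.dehom_sub (F + F') F' j
    rw [add_sub_cancel_right] at this
    rw [this, sub_add_cancel]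
  have hQdec : ∀ j, LefPen.dehom q j = LefPen.dehom a j * LefPen.dehom l₁ j + LefPen.dehom b j * LefPen.dehom l₂ j +
      LefPen.dehom c j * LefPen.dehom m j := fun j => by
    have e : q = mk2 a l₁ + mk2 b l₂ + mk2 c m := Subtype.ext hq
    rw [e, hadd, hadd, hmk, hmk, hmk]
  let J := (LefPen.hypIdeal l₁ ⊔ LefPen.hypIdeal l₂) ⊓ (LefPen.hypIdeal m ⊔ LefPen.hypIdeal q)
  have hJ : ∀ j (x : Γ(P, U j)), x ∈ J.ideal (U' j) ↔ ∃ p₁ p₂ p₃, x = p₁ * LefPen.dehom (gen3 0) j +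
      p₂ * LefPen.dehom (gen3 1) j + p₃ * LefPen.dehom (gen3 2) j := fun j x => by
    have e : J.ideal (U' j) = Ideal.span {LefPen.dehom l₁ j, LefPen.dehom l₂ j} ⊓
        Ideal.span {LefPen.dehom m j, LefPen.dehom q j} := by
      simp only [J, U', Scheme.IdealSheafData.ideal_inf, Scheme.IdealSheafData.ideal_sup, Pi.inf_apply, Pi.sup_apply,
        LefPen45.HypSheaf.hypIdeal_chart, Ideal.span_insert]
    rw [e]
    simp only [gen3, Matrix.cons_val_zero, Matrix.cons_val_one, Matrix.cons_val_two, Matrix.head_cons,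
      Matrix.tail_cons, hadd, hmk]
    refine inf_eq (hQdec j) (fun z hz => ?_) x
    have := w3 j 2 z
    simp [i2, Set.image_insert_eq, Set.image_singleton] at this
    exact this hz
  -- the maps
  haveI := TensorMod.QCohInv.isQCoh_structureModule P
  haveI := TensorMod.QCohInv.isQCoh_structureModule J.subscheme
  haveI : (_root_.ClSub.quotMod J).IsQuasicoherent := QCoh.Pushforward.isQCoh_pushforward J.subschemeι
  haveI : (_root_.ClSub.idealMod J).IsQuasicoherent := QCoh.Closure.isQCoh_kernel (_root_.ClSub.toSubscheme J)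
  haveI : ∀ (t : ℕ) (d : ℤ), (ProjCoh.Coherent.sumTS 4 k t d).IsQuasicoherent := fun t d => (ProjCoh.Coherent.isCoh_sumTS t d).1
  haveI : ∀ d : ℤ, (ProjCoh.Sections.TS 4 k d).IsQuasicoherent := fun d => ProjTilde.QCoh.tilde_isQCoh d
  let η : Fin 3 → (ProjCoh.Sections.TS 4 k (-2) ⟶ Coh.structureModule P) := fun t =>
    ProjCI.DictInt.mulZ (b := 0) (by norm_num) (gen3 t) ≫ (ProjCoh.Twist.structureIso 4 k).inv
  have hη : ∀ t j, (η t).app (U j) (ProjCI.Dict.g (-2) j) = LefPen.dehom (gen3 t) j • one P (U j) := fun t j => by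
    change (ProjCoh.Twist.structureIso 4 k).inv.app (U j) ((ProjCI.DictInt.mulZ (b := 0) (by norm_num) (gen3 t)).app (U j) (ProjCI.Dict.g (-2) j)) = _
    rw [ProjCI.DictInt.mulZ_g, Scheme.Modules.Hom.app_smul, ← ProjCI.DictInt.structureIso_one j]
    exact congrArg (LefPen.dehom (gen3 t) j • ·)
      (congrArg (fun φ => φ.app (U j) (one P (U j))) (ProjCoh.Twist.structureIso 4 k).hom_inv_id)
  have hcoord : ∀ j (s : Γ(ProjCoh.Sections.TS 4 k (-2), U j)), ∃ r, s = r • ProjCI.Dict.g (-2) j :=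
    fun j s => exists_coord (ProjCI.Dict.isGen_g (-2) j) s
  have hηw : ∀ t, η t ≫ _root_.ClSub.toSubscheme J = 0 := fun t => by
    refine ProjCI.Ident.hom_eq_zero _ U hUaff ProjCI.Cone.exists_chart fun j s => ?_
    obtain ⟨r, rfl⟩ := hcoord j s
    change (_root_.ClSub.toSubscheme J).app (U j) ((η t).app (U j) _) = 0
    rw [Scheme.Modules.Hom.app_smul, hη, smul_smul, ← smul_one_eq, ClSub.Sections.toSubscheme_app]
    change J.subschemeι.app (U' j).1 (r * LefPen.dehom (gen3 t) j) = 0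
    rw [← RingHom.mem_ker, J.ker_subschemeι_app (U' j)]
    refine (hJ j _).2 ?_
    fin_cases t
    · exact ⟨r, 0, 0, by simp⟩
    · exact ⟨0, r, 0, by simp⟩
    · exact ⟨0, 0, r, by simp⟩
  let ψ : ProjCoh.Coherent.sumTS 4 k 3 (-2) ⟶ _root_.ClSub.idealMod J := Sigma.desc fun t => kernel.lift _ (η t) (hηw t)
  have hψ : ∀ j (s : Fin 3 → Γ(P, U j)), (_root_.ClSub.idealModι J).app (U j) (ψ.app (U j)
      (∑ t, s t • (Sigma.ι (fun _ : Fin 3 => ProjCoh.Sections.TS 4 k (-2)) t).app (U j) (ProjCI.Dict.g (-2) j))) =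
      (∑ t, s t * LefPen.dehom (gen3 t) j) • one P (U j) := fun j s => by
    rw [map_sum, map_sum, Finset.sum_smul]
    refine Finset.sum_congr rfl fun t _ => ?_
    rw [Scheme.Modules.Hom.app_smul, Scheme.Modules.Hom.app_smul, mul_smul, ← hη t j]
    refine congrArg (s t • ·) ?_
    have : Sigma.ι (fun _ : Fin 3 => ProjCoh.Sections.TS 4 k (-2)) t ≫ ψ ≫ _root_.ClSub.idealModι J = η t := by
      exact (Category.assoc _ _ _).symm.trans ((congrArg (· ≫ _) (Sigma.ι_desc _ t)).trans (kernel.lift_ι _ _ _))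
    exact congrArg (fun φ => φ.app (U j) (ProjCI.Dict.g (-2) j)) this
  haveI : Epi ψ := Preadditive.epi_of_cancel_zero _ fun {H} f hf => by
    refine ProjCI.Ident.hom_eq_zero f U hUaff ProjCI.Cone.exists_chart fun j y => ?_
    obtain ⟨p₁, p₂, p₃, hp⟩ := (hJ j _).1 ((ClSub.Sections.mem_range_idealModι_app_affine_iff J (U' j)
      ((_root_.ClSub.idealModι J).app (U j) y)).1 ⟨y, rfl⟩)
    let x := ∑ t, (![p₁, p₂, p₃] : Fin 3 → Γ(P, U j)) t •
      (Sigma.ι (fun _ : Fin 3 => ProjCoh.Sections.TS 4 k (-2)) t).app (U j) (ProjCI.Dict.g (-2) j)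
    have hxy : ψ.app (U j) x = y := by
      refine ClSub.Sections.idealModι_app_injective J (U j) ?_
      refine (hψ j _).trans ?_
      rw [← smul_one_eq, Fin.sum_univ_three]
      exact hp.symm
    rw [← hxy]
    exact congrArg (fun φ => φ.app (U j) x) hf
  let z : (LefPen.Form 4 k 1) → (ProjCoh.Sections.TS 4 k (-3) ⟶ ProjCoh.Sections.TS 4 k (-2)) := fun F =>
    ProjCI.DictInt.mulZ (by norm_num) F
  let mat : Fin 2 → Fin 3 → LefPen.Form 4 k 1 := ![![l₂, -l₁, 0], ![a, b, -m]]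
  let φ : ProjCoh.Coherent.sumTS 4 k 2 (-3) ⟶ ProjCoh.Coherent.sumTS 4 k 3 (-2) :=
    Sigma.desc fun t => ∑ t', z (mat t t') ≫ Sigma.ι (fun _ : Fin 3 => ProjCoh.Sections.TS 4 k (-2)) t'
  have hd0 : ∀ j, LefPen.dehom (0 : LefPen.Form 4 k 1) j = 0 := fun j => by
    have := ProjCI.Dict.dehom_sub (0 : LefPen.Form 4 k 1) 0 j
    rwa [sub_zero, sub_self] at this
  have hdneg : ∀ (F : LefPen.Form 4 k 1) j, LefPen.dehom (-F) j = -LefPen.dehom F j := fun F j => by
    have := ProjCI.Dict.dehom_sub 0 F j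
    rw [zero_sub, hd0, zero_sub] at this
    exact this
  have hφ : ∀ j (s : Fin 2 → Γ(P, U j)), φ.app (U j)
      (∑ t, s t • (Sigma.ι (fun _ : Fin 2 => ProjCoh.Sections.TS 4 k (-3)) t).app (U j) (ProjCI.Dict.g (-3) j)) =
      ∑ t', (∑ t, s t * LefPen.dehom (mat t t') j) •
        (Sigma.ι (fun _ : Fin 3 => ProjCoh.Sections.TS 4 k (-2)) t').app (U j) (ProjCI.Dict.g (-2) j) := fun j s => by
    simp only [Finset.sum_smul]
    rw [map_sum, Finset.sum_comm]
    refine Finset.sum_congr rfl fun t _ => ?_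
    rw [Scheme.Modules.Hom.app_smul]
    simp only [mul_smul, ← Finset.smul_sum]
    refine congrArg (s t • ·) ?_
    have : Sigma.ι (fun _ : Fin 2 => ProjCoh.Sections.TS 4 k (-3)) t ≫ φ =
        ∑ t', z (mat t t') ≫ Sigma.ι (fun _ : Fin 3 => ProjCoh.Sections.TS 4 k (-2)) t' := Sigma.ι_desc _ _
    refine (congrArg (fun f => f.app (U j) (ProjCI.Dict.g (-3) j)) this).trans ?_
    simp only [TensorMod.LocIso.sum_app]
    refine Finset.sum_congr rfl fun t' _ => ?_
    change (Sigma.ι (fun _ : Fin 3 => ProjCoh.Sections.TS 4 k (-2)) t').app (U j) ((z (mat t t')).app (U j) _) = _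
    rw [ProjCI.DictInt.mulZ_g, Scheme.Modules.Hom.app_smul]
  have hw : φ ≫ ψ = 0 := by
    refine ProjCI.Ident.hom_eq_zero _ U hUaff ProjCI.Cone.exists_chart fun j x => ?_
    obtain ⟨s, rfl⟩ := exists_coords (-3) j x
    refine ClSub.Sections.idealModι_app_injective J (U j) ?_
    refine (congrArg (fun y => (_root_.ClSub.idealModι J).app (U j) (ψ.app (U j) y)) (hφ j s)).trans ?_
    rw [hψ, ← smul_one_eq, map_zero]
    simp [Fin.sum_univ_three, Fin.sum_univ_two, mat, gen3, hd0, hdneg, hadd, hmk]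
    ring_nf; rfl
  -- injectivity of the matrix on coordinates
  have hzero : ∀ j (s : Fin 3 → Γ(P, U j)),
      (∑ t, s t • (Sigma.ι (fun _ : Fin 3 => ProjCoh.Sections.TS 4 k (-2)) t).app (U j) (ProjCI.Dict.g (-2) j)) = 0 →
      ∀ t, s t = 0 := fun j s hs t => by
    have h1 := congrArg ((proj t).app (U j)) hs
    rw [map_sum, map_zero, Finset.sum_eq_single t] at h1
    · refine ((ProjCI.Dict.isGen_g (-2) j) (U j) le_rfl).1 ?_
      simp only [rs_self, zero_smul]
      rw [Scheme.Modules.Hom.app_smul] at h1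
      have e : Sigma.ι (fun _ : Fin 3 => ProjCoh.Sections.TS 4 k (-2)) t ≫ proj t = 𝟙 _ := by simp [proj]
      rwa [show (proj t).app (U j) ((Sigma.ι (fun _ : Fin 3 => ProjCoh.Sections.TS 4 k (-2)) t).app (U j)
        (ProjCI.Dict.g (-2) j)) = ProjCI.Dict.g (-2) j from congrArg (fun f => f.app (U j) (ProjCI.Dict.g (-2) j)) e] at h1
    · intro t' _ ht
      rw [Scheme.Modules.Hom.app_smul]
      have e : Sigma.ι (fun _ : Fin 3 => ProjCoh.Sections.TS 4 k (-2)) t' ≫ proj t = 0 := by simp [proj, ht]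
      rw [show (proj t).app (U j) ((Sigma.ι (fun _ : Fin 3 => ProjCoh.Sections.TS 4 k (-2)) t').app (U j)
        (ProjCI.Dict.g (-2) j)) = 0 from congrArg (fun f => f.app (U j) (ProjCI.Dict.g (-2) j)) e, smul_zero]
    · simp
  have hnzd : ∀ j, (∀ z : Γ(P, U j), LefPen.dehom m j * z = 0 → z = 0) ∧
      (∀ z, LefPen.dehom l₁ j * z = 0 → z = 0) ∧
      (∀ z, LefPen.dehom q j * z ∈ Ideal.span {LefPen.dehom m j} → z ∈ Ideal.span {LefPen.dehom m j}) ∧
      (∀ z, LefPen.dehom l₂ j * z ∈ Ideal.span {LefPen.dehom l₁ j} → z ∈ Ideal.span {LefPen.dehom l₁ j}) := fun j => by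
    refine ⟨fun z hz => ?_, fun z hz => ?_, fun z hz => ?_, fun z hz => ?_⟩
    · have := w2 j 0 z; simp [j0, G2, a2] at this; exact this hz
    · have := w3 j 0 z; simp [i0] at this; exact this hz
    · have := w2 j 1 z; simp [j1, Set.image_singleton, G2, a2] at this; exact this hz
    · have := w3 j 1 z; simp [i1, Set.image_singleton] at this; exact this hz
  haveI : Mono φ := by
    refine Preadditive.mono_of_kernel_zero ?_
    haveI : (kernel φ).IsQuasicoherent := QCoh.Closure.isQCoh_kernel φ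
    refine ProjCI.Ident.hom_eq_zero _ U hUaff ProjCI.Cone.exists_chart fun j y => ?_
    obtain ⟨s, hs⟩ := exists_coords (-3) j ((kernel.ι φ).app (U j) y)
    have h0 : φ.app (U j) ((kernel.ι φ).app (U j) y) = 0 := ClSub.Sections.app_kernel_ι_app φ (U j) y
    rw [hs, hφ] at h0
    have h1 := hzero j _ h0 2
    have h2 := hzero j _ h0 0
    simp [Fin.sum_univ_two, mat, hd0, hdneg] at h1 h2
    have hs1 : s 1 = 0 := (hnzd j).1 _ (by linear_combination h1)
    have hs0 : s 0 = 0 := by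
      rw [hs1, zero_mul, add_zero] at h2
      obtain ⟨w, hw⟩ := Ideal.mem_span_singleton'.1 ((hnzd j).2.2.2 (s 0) (by rw [mul_comm, h2]; exact zero_mem _))
      have : LefPen.dehom l₁ j * (LefPen.dehom l₂ j * w) = 0 := by linear_combination h2 + LefPen.dehom l₂ j * hw
      obtain ⟨w', hw'⟩ := Ideal.mem_span_singleton'.1 ((hnzd j).2.2.2 w (by rw [(hnzd j).2.1 _ this]; exact zero_mem _))
      have h3 := h1
      have h4 := hzero j _ h0 1
      simp [Fin.sum_univ_two, mat, hd0, hdneg, hs1] at h4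
      exact (hnzd j).2.1 _ (by linear_combination h4)
    rw [hs]
    simp [Fin.sum_univ_two, hs0, hs1]
  let T := ShortComplex.mk φ ψ hw
  have hT : T.ShortExact := by
    refine { exact := ?_, mono_f := ‹Mono φ›, epi_g := ‹Epi ψ› }
    rw [ShortComplex.exact_iff_epi_kernel_lift]
    refine Preadditive.epi_of_cancel_zero _ fun {H} f hf => ?_
    haveI : (kernel ψ).IsQuasicoherent := QCoh.Closure.isQCoh_kernel ψ
    change kernel ψ ⟶ H at f
    refine ProjCI.Ident.hom_eq_zero f U hUaff ProjCI.Cone.exists_chart fun j y => ?_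
    obtain ⟨s, hs⟩ := exists_coords (-2) j ((kernel.ι ψ).app (U j) y)
    have h0 : ψ.app (U j) ((kernel.ι ψ).app (U j) y) = 0 := ClSub.Sections.app_kernel_ι_app ψ (U j) y
    have h1 := hψ j s
    rw [← hs, h0, map_zero, ← smul_one_eq, Fin.sum_univ_three] at h1
    simp [gen3, hadd, hmk] at h1
    obtain ⟨uu, ww, e1, e2, e3⟩ := syzygy (hnzd j).1 (hnzd j).2.2.1
      (Ideal.mem_span_singleton'.2 ⟨LefPen.dehom c j, by rw [hQdec]; ring⟩) (hnzd j).2.1 (hnzd j).2.2.2 h1.symm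
    let x := ∑ t, (![uu, ww] : Fin 2 → Γ(P, U j)) t •
      (Sigma.ι (fun _ : Fin 2 => ProjCoh.Sections.TS 4 k (-3)) t).app (U j) (ProjCI.Dict.g (-3) j)
    have hxy : (kernel.lift ψ φ hw).app (U j) x = y := by
      refine ClSub.Sections.kernel_ι_app_injective ψ (U j) ?_
      refine (congrArg (fun f => f.app (U j) x) (kernel.lift_ι ψ φ hw)).trans ?_
      refine (hφ j _).trans ?_
      rw [hs]
      refine Finset.sum_congr rfl fun t _ => ?_
      congr 1
      fin_cases t <;> simp [Fin.sum_univ_two, mat, hd0, hdneg, e1, e2, e3]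
    rw [← hxy]
    exact congrArg (fun f => f.app (U j) x) hf
  -- twist and take cohomology
  let T2 := T.map (tensorBy (Twist.twistProjSpace 4 k 2))
  have hT2 : T2.ShortExact := ProjCoh.Coherent.shortExact_tw hT 2
  have hX : ∀ (t : ℕ) (d : ℤ) (q : ℕ), 1 ≤ q → -4 ≤ d + 2 →
      Subsingleton (Coh.HH P (CohB1.tensorMod (ProjCoh.Coherent.sumTS 4 k t d) (Twist.twistProjSpace 4 k 2)) q) := by
    intro t d q hq hd
    haveI := ProjCoh.Coherent.subsingleton_HH_sumTS (n := 4) (R := k) t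
      (ProjCoh.Twist.subsingleton_HH_of_neg_le 4 k (d := d + 2) (q := q) (by omega) (by omega))
    exact (isoK k (ProjCoh.Coherent.sumTensor t d 2) q).injective.subsingleton
  haveI h1 : Subsingleton (Coh.HH P T2.X₂ i) := hX 3 (-2) i hi (by norm_num)
  haveI h2 : Subsingleton (Coh.HH P T2.X₁ (i + 1)) := hX 2 (-3) (i + 1) (by omega) (by norm_num)
  refine subsingleton_of_forall_eq (α := Coh.HH P T2.X₃ i) 0 fun x => ?_
  obtain ⟨y, rfl⟩ := ((exactK₃ k hT2 i (i + 1) rfl) x).1 (@Subsingleton.elim _ h2 _ _)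
  rw [Subsingleton.elim y 0, map_zero]

end Groth.Agent.S16532
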