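import Groth.Statements.S16534
import Groth.Agent.Lib.CurveFF.HypContain
import Groth.Agent.Lib.CurveFF.Hyp
import Groth.Agent.Lib.CurveFF.Genus
import Groth.Agent.Lib.Curves.GlobalSections
import Groth.Agent.Lib.PolyFun45.Forms
import Groth.Agent.Lib.FunFld.Weil
-- import your own Groth.Agent.* helpers here

set_option autoImplicit false
universe u
open CategoryTheory CategoryTheory.Limits AlgebraicGeometry
open Curves

namespace Groth.Agent.S16534
open Groth.Agent.Lib
attribute [local instance] Curv2.stalkAlgebra

/-- Over an algebraically closed field k of characteristic zero (in place of the complex numbers), a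
smooth connected quintic curve of genus 2 in P^4 lies in a hyperplane and on a quadric surface in
that hyperplane. Here C is smooth, proper and integral of dimension one over k with dim_k H^1(C,
O_C) = 2, i : C → P^4_k is a closed immersion over k with deg i^*O(1) = χ(i^*O(1)) − χ(O_C) = 5, and
the conclusion provides a nonzero linear form l and a quadratic form q not divisible by l such that
i factors through V_+(l) ∩ V_+(q). -/
theorem result (k : Type u) [Field k] [IsAlgClosed k]
    [CharZero k] (C : Scheme.{u}) [C.Over (Spec (CommRingCat.of k))] [Smooth (C ↘ Spec (CommRingCat.of k))] [IsProper (C ↘ Spec (CommRingCat.of k))]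
    [IsIntegral C] (hC : topologicalKrullDim C = 1) (hg : Curv2.genus k C = 2)
    (i : C ⟶ CohB1.ProjSpace 4 k) [IsClosedImmersion i] (hi : i ≫ CohB1.ProjSpace.toSpec 4 k = C ↘ Spec (CommRingCat.of k))
    (hdeg : Curv2.deg k C ((Scheme.Modules.pullback i).obj (Twist.twistProjSpace 4 k 1)) 1 = 5) :
    ∃ (l : LefPen.Form 4 k 1) (q : LefPen.Form 4 k 2), l ≠ 0 ∧ q.1 ∉ Ideal.span {l.1} ∧
      ∃ j : C ⟶ (LefPen.hypIdeal l ⊔ LefPen.hypIdeal q).subscheme,
        j ≫ (LefPen.hypIdeal l ⊔ LefPen.hypIdeal q).subschemeι = i := by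
  classical
  have h := CurveFF.curveHyp_of_smooth k hC
  have h0 := Curves.GlobalSections.finrank_h0_structure k C
  have hK := CurveFF.isFunctionField (k := k) h h0
  have hge := CurveFF.genus_eq (k := k) h h0
  rw [hg] at hge
  haveI : QuasiCompact i := inferInstance
  obtain ⟨z, D, hD, hz, hker⟩ := CurveFF.HypContain.exists_coords h hK i hi
  rw [hdeg] at hD
  let F : ∀ d : ℕ, LefPen.Form 4 k d →ₗ[k] C.functionField := fun d =>
    (MvPolynomial.aeval z).toLinearMap.comp (Submodule.subtype _)
  have hF : ∀ d : ℕ, LinearMap.range (F d) ≤ _root_.FunFld.L (d • D) := by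
    rintro d _ ⟨G, rfl⟩
    exact CurveFF.HypContain.aeval_mem_L hK hz G
  haveI : ∀ d, Module.Finite k (LefPen.Form 4 k d) := fun d =>
    Module.Finite.equiv PolyFun45.Forms.coef.symm
  have hdim : ∀ d : ℕ, Module.finrank k (LefPen.Form 4 k d) = (4 + d).choose d := fun d => by
    rw [PolyFun45.Forms.finrank_forms, PolyFun45.Forms.card_idx]
  have hkerdim : ∀ d : ℕ, 1 ≤ d →
      ((4 + d).choose d : ℤ) ≤ Module.finrank k (LinearMap.ker (F d)) + (5 * d - 1) := by
    intro d hd
    haveI := FunFld.Degree.finiteDimensional_L hK (d • D)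
    have h1 := (F d).finrank_range_add_finrank_ker
    have h2 := Submodule.finrank_mono (hF d)
    change _ ≤ _root_.FunFld.ell (d • D) at h2
    have hdd : _root_.FunFld.Divisor.deg (d • D) = 5 * (d : ℤ) := by
      rw [← natCast_zsmul, FunFld.Degree.deg_smul, hD]; ring
    have h3 := FunFld.Weil.ell_eq_of_deg_ge hK (D := d • D) (by rw [← hge, hdd]; omega)
    rw [← hge, hdd] at h3
    rw [hdim d] at h1
    omega
  -- the hyperplane
  have hk1 := hkerdim 1 le_rfl
  obtain ⟨l, hl, hl0⟩ := (LinearMap.ker (F 1)).ne_bot_iff.1 (fun e => by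
    rw [e, finrank_bot] at hk1; norm_num at hk1)
  -- the reducible quadrics
  let M : LefPen.Form 4 k 1 →ₗ[k] LefPen.Form 4 k 2 :=
    ((LinearMap.mulLeft k l.1).comp (Submodule.subtype _)).codRestrict _ fun a =>
      (MvPolynomial.mem_homogeneousSubmodule 2 _).2
        (((MvPolynomial.mem_homogeneousSubmodule 1 _).1 l.2).mul
          ((MvPolynomial.mem_homogeneousSubmodule 1 _).1 a.2))
  obtain ⟨q, hq, hqM⟩ : ∃ q ∈ LinearMap.ker (F 2), q ∉ LinearMap.range M := by
    by_contra hc
    push Not at hc
    have h1 := Submodule.finrank_mono (show LinearMap.ker (F 2) ≤ LinearMap.range M from hc)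
    have h2 := LinearMap.finrank_range_le M
    rw [hdim 1] at h2
    have hk2 := hkerdim 2 (by omega)
    norm_num [Nat.choose_two_right] at h2 hk2
    omega
  have hspan : q.1 ∉ Ideal.span {l.1} := by
    intro hmem
    obtain ⟨a, ha⟩ := Ideal.mem_span_singleton'.1 hmem
    refine hqM ⟨⟨MvPolynomial.homogeneousComponent 1 a,
      MvPolynomial.homogeneousComponent_mem 1 a⟩, Subtype.ext ?_⟩
    show l.1 * MvPolynomial.homogeneousComponent 1 a = q.1
    have hq2 : MvPolynomial.homogeneousComponent 2 q.1 = q.1 := by
      rw [MvPolynomial.homogeneousComponent_of_mem q.2, if_pos rfl]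
    rw [← hq2, ← ha, mul_comm a]
    conv_rhs => rw [← MvPolynomial.sum_homogeneousComponent a, Finset.mul_sum, map_sum]
    have hj : ∀ j, MvPolynomial.homogeneousComponent 2 (l.1 * MvPolynomial.homogeneousComponent j a) =
        if j = 1 then l.1 * MvPolynomial.homogeneousComponent j a else 0 := by
      intro j
      rw [MvPolynomial.homogeneousComponent_of_mem
        (((MvPolynomial.mem_homogeneousSubmodule 1 _).1 l.2).mul
          (MvPolynomial.homogeneousComponent_isHomogeneous j a))]
      exact if_congr (by omega) rfl rfl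
    simp only [hj, Finset.sum_ite_eq', Finset.mem_range]
    split_ifs with h1
    · rfl
    · rw [MvPolynomial.homogeneousComponent_eq_zero 1 a (by omega), mul_zero]
  refine ⟨l, q, hl0, hspan, i.toImage ≫ Scheme.IdealSheafData.inclusion
    (sup_le (hker l hl) (hker q hq)), ?_⟩
  rw [Category.assoc, Scheme.IdealSheafData.inclusion_subschemeι, Scheme.Hom.toImage_imageι]

end Groth.Agent.S16534
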