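import Groth.Statements.S16541
import Mathlib.RingTheory.TensorProduct.IncludeLeftSubRight
import Mathlib.RingTheory.Flat.Basic
import Mathlib.RingTheory.Flat.FaithfullyFlat.Algebra

set_option autoImplicit false
universe u v
open CAlg

namespace Groth.Agent.S16541

/-- Let p be a prime, S → R a faithfully flat homomorphism of commutative rings and M a flat
W(S)-module; write ι₁, ι₂ : R → R ⊗_S R for the two coprojections, M_R = W(R) ⊗_{W(S)} M and M_{R ⊗
R} = W(R ⊗_S R) ⊗_{W(S)} M for the scalar extensions along W(S) → W(R) and W(S) → W(R ⊗_S R). Then 0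
→ M → M_R ⇉ M_{R ⊗ R} is exact: the map x ↦ 1 ⊗ x from M to M_R is injective, and an element of M_R
has the same image under the two maps w ⊗ x ↦ W(ι₁)(w) ⊗ x and w ⊗ x ↦ W(ι₂)(w) ⊗ x exactly when it
is of the form 1 ⊗ x. The hypothesis e records that the two composite ring maps W(S) → W(R) → W(R
⊗_S R) agree (both coprojections are S-algebra maps); it serves to identify the two targets. -/
theorem result (p : ℕ) [Fact p.Prime]
    (S R : Type u) [CommRing S] [CommRing R] [Algebra S R] [Module.FaithfullyFlat S R]
    (M : Type v) [AddCommGroup M] [Module (WittVector p S) M] [Module.Flat (WittVector p S) M]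
    (e : (WittVector.map (Algebra.TensorProduct.includeLeftRingHom : R →+* TensorProduct S R R) : WittVector p R →+* WittVector p (TensorProduct S R R)).comp (WittVector.map (algebraMap S R) : WittVector p S →+* WittVector p R) = (WittVector.map ((Algebra.TensorProduct.includeRight : R →ₐ[S] TensorProduct S R R) : R →+* TensorProduct S R R) : WittVector p R →+* WittVector p (TensorProduct S R R)).comp (WittVector.map (algebraMap S R) : WittVector p S →+* WittVector p R)) :
    Function.Injective (Dieu.BC.ι (WittVector.map (algebraMap S R) : WittVector p S →+* WittVector p R) M) ∧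
      ∀ z : Dieu.BC (WittVector.map (algebraMap S R) : WittVector p S →+* WittVector p R) M,
        (Dieu.BC.castHom e (Dieu.BC.push (WittVector.map (algebraMap S R) : WittVector p S →+* WittVector p R) (WittVector.map (Algebra.TensorProduct.includeLeftRingHom : R →+* TensorProduct S R R) : WittVector p R →+* WittVector p (TensorProduct S R R)) z) = Dieu.BC.push (WittVector.map (algebraMap S R) : WittVector p S →+* WittVector p R) (WittVector.map ((Algebra.TensorProduct.includeRight : R →ₐ[S] TensorProduct S R R) : R →+* TensorProduct S R R) : WittVector p R →+* WittVector p (TensorProduct S R R)) z ↔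
          z ∈ Set.range (Dieu.BC.ι (WittVector.map (algebraMap S R) : WittVector p S →+* WittVector p R) M)) := by
  set g := (WittVector.map (algebraMap S R) : WittVector p S →+* WittVector p R)
  set h1 := (WittVector.map (Algebra.TensorProduct.includeLeftRingHom : R →+* TensorProduct S R R) : WittVector p R →+* WittVector p (TensorProduct S R R))
  set h2 := (WittVector.map ((Algebra.TensorProduct.includeRight : R →ₐ[S] TensorProduct S R R) : R →+* TensorProduct S R R) : WittVector p R →+* WittVector p (TensorProduct S R R))
  let ψ0 : WittVector p S →ₗ[WittVector p S] Dieu.Res g :=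
    { toFun := fun a => Dieu.Res.mk g (g a)
      map_add' := fun a b => by rw [map_add]; rfl
      map_smul' := fun a b => by rw [smul_eq_mul, map_mul]; rfl }
  let ψ1 : Dieu.Res g →ₗ[WittVector p S] Dieu.Res (h2.comp g) :=
    { toFun := fun t => Dieu.Res.mk (h2.comp g) (h1 t.val)
      map_add' := fun a b => by rw [Dieu.Res.val_add, map_add]; rfl
      map_smul' := fun a t => Dieu.Res.ext _ (by
        simp only [Dieu.Res.val_smul, map_mul, Dieu.Res.val_mk, RingHom.id_apply]
        rw [← RingHom.comp_apply, e]) }
  let ψ2 : Dieu.Res g →ₗ[WittVector p S] Dieu.Res (h2.comp g) :=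
    { toFun := fun t => Dieu.Res.mk (h2.comp g) (h2 t.val)
      map_add' := fun a b => by rw [Dieu.Res.val_add, map_add]; rfl
      map_smul' := fun a t => Dieu.Res.ext _ (by
        simp only [Dieu.Res.val_smul, map_mul, Dieu.Res.val_mk, RingHom.id_apply]
        rfl) }
  have hg : Function.Injective g := WittVector.map_injective _ (FaithfulSMul.algebraMap_injective S R)
  have hinj : Function.Injective ψ0 := fun a b h => hg h
  have hex : Function.Exact ψ0 (ψ1 - ψ2) := by
    intro z
    rw [LinearMap.sub_apply, sub_eq_zero]
    constructor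
    · intro hz
      have hc : ∀ i, ∃ r : S, algebraMap S R r = z.val.coeff i := fun i => by
        have he : (h1 z.val).coeff i = (h2 z.val).coeff i := congrArg (fun w => w.val.coeff i) hz
        simp only [h1, h2, WittVector.map_coeff] at he
        refine Set.mem_range.mp ?_
        exact Algebra.IsEffective.eqLocus_includeLeft_includeRight (Algebra.IsEffective.of_faithfullyFlat S R) ▸ he
      choose r hr using hc
      refine ⟨WittVector.mk p r, Dieu.Res.ext _ (WittVector.ext fun i => ?_)⟩
      exact (WittVector.map_coeff _ _ i).trans (hr i)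
    · rintro ⟨w, rfl⟩
      exact Dieu.Res.ext _ (RingHom.congr_fun e w)
  have hpush : ∀ z : Dieu.BC g M,
      Dieu.BC.castHom e (Dieu.BC.push g h1 z) = LinearMap.rTensor M ψ1 z ∧
        Dieu.BC.push g h2 z = LinearMap.rTensor M ψ2 z := by
    intro z
    induction z using TensorProduct.induction_on with
    | zero =>
      exact ⟨((congrArg (Dieu.BC.castHom e) (map_zero (Dieu.BC.push g h1))).trans (map_zero (Dieu.BC.castHom e))).trans
          (map_zero (LinearMap.rTensor M ψ1)).symm,
        (map_zero (Dieu.BC.push g h2)).trans (map_zero (LinearMap.rTensor M ψ2)).symm⟩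
    | tmul t x =>
      exact ⟨(congrArg (Dieu.BC.castHom e) (Dieu.BC.push_tmul g h1 t.val x)).trans (Dieu.BC.castHom_tmul _ e _ x),
        Dieu.BC.push_tmul g h2 t.val x⟩
    | add x y hx hy =>
      constructor
      · erw [map_add (Dieu.BC.push g h1), map_add (Dieu.BC.castHom e), map_add (LinearMap.rTensor M ψ1), hx.1, hy.1]
        rfl
      · erw [map_add (Dieu.BC.push g h2), map_add (LinearMap.rTensor M ψ2), hx.2, hy.2]
        rfl
  have hrid : ∀ w : TensorProduct (WittVector p S) (WittVector p S) M,
      LinearMap.rTensor M ψ0 w = Dieu.BC.ι g M (TensorProduct.lid (WittVector p S) M w) := by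
    intro w
    conv_lhs => rw [← (TensorProduct.lid (WittVector p S) M).symm_apply_apply w]
    rw [TensorProduct.lid_symm_apply, LinearMap.rTensor_tmul]
    show (Dieu.Res.mk g (g 1)) ⊗ₜ[WittVector p S] _ = _
    rw [map_one]
    rfl
  refine ⟨fun a b hab => ?_, fun z => ?_⟩
  · have h := Module.Flat.rTensor_preserves_injective_linearMap (M := M) ψ0 hinj
      (a₁ := (TensorProduct.lid (WittVector p S) M).symm a) (a₂ := (TensorProduct.lid (WittVector p S) M).symm b)
      (by rw [hrid, hrid, LinearEquiv.apply_symm_apply, LinearEquiv.apply_symm_apply]; exact hab)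
    exact (TensorProduct.lid (WittVector p S) M).symm.injective h
  · have key : ∀ w : TensorProduct (WittVector p S) (Dieu.Res g) M,
        LinearMap.rTensor M ψ1 w = LinearMap.rTensor M ψ2 w ↔ w ∈ Set.range (LinearMap.rTensor M ψ0) := fun w => by
      have h := Module.Flat.rTensor_exact M hex w
      rwa [LinearMap.rTensor_sub, LinearMap.sub_apply, sub_eq_zero] at h
    have hx := key z
    refine Iff.trans ?_ (hx.trans ⟨?_, ?_⟩)
    · rw [(hpush z).1, (hpush z).2]
      exact Iff.rfl
    · rintro ⟨w, rfl⟩
      exact ⟨_, (hrid w).symm⟩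
    · rintro ⟨x, rfl⟩
      exact ⟨(TensorProduct.lid (WittVector p S) M).symm x, by rw [hrid, LinearEquiv.apply_symm_apply]⟩

end Groth.Agent.S16541
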