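import Groth.Statements.S16542
import Groth.Agent.Lib.Disp.Basic
import Mathlib.LinearAlgebra.Projection
import Mathlib.RingTheory.Flat.FaithfullyFlat.Algebra
-- import your own Groth.Agent.* helpers here

set_option autoImplicit false
universe u v
open Disp

namespace Groth.Agent.S16542

/-- Let p be a prime, S → R a faithfully flat homomorphism of commutative rings with p nilpotent in S,
(P, Q, F, V⁻¹) a display over S, and (P_R, Q_R, F_R, V_R⁻¹) a 3n-display structure on P_R = W(R)
⊗_{W(S)} P which is its base change along S → R (Q_R the kernel of P_R → R ⊗_S (P/Q), F_R(w ⊗ x) =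
σ(w) ⊗ F x, V_R⁻¹(w ⊗ y) = σ(w) ⊗ V⁻¹ y for y ∈ Q, V_R⁻¹(V(w) ⊗ x) = w ⊗ F x). Then for x ∈ P one
has x ∈ Q if and only if 1 ⊗ x ∈ Q_R: together with the exactness of 0 → P → P_R ⇉ P_{R ⊗ R} this is
the exactness of 0 → Q → Q_R ⇉ Q_{R ⊗ R} at Q. -/
theorem result (p : ℕ) [Fact p.Prime]
    (S R : Type u) [CommRing S] [CommRing R] [Algebra S R] [Module.FaithfullyFlat S R] (hp : IsNilpotent (p : S))
    (P : Type v) [AddCommGroup P] [Module (WittVector p S) P] (D : W4c1extbt610.Display3n p S P)
    (hD : Dieu.IsDisplay D)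
    (DR : W4c1extbt610.Display3n p R (Dieu.BC (WittVector.map (algebraMap S R) : WittVector p S →+* WittVector p R) P))
    (hDR : Dieu.IsDispBaseChange (algebraMap S R) D DR) (x : P) :
    x ∈ D.Q ↔ Dieu.BC.ι (WittVector.map (algebraMap S R) : WittVector p S →+* WittVector p R) P x ∈ DR.Q := by
  rw [hDR.Q_eq, LinearMap.mem_ker, Dieu.BC.ι_apply, Dieu.bcQuotMap_tmul, Submodule.mkQ_apply]
  refine ⟨fun hx => by rw [(Submodule.Quotient.mk_eq_zero _).2 hx, Dieu.BC.tmul_zero], fun hx => ?_⟩
  obtain ⟨n, g, e, hge⟩ := Groth.Agent.Lib.Disp.Basic.exists_coords D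
  obtain ⟨L, T, hc, hQ⟩ := D.exists_normal
  let πL : P →ₗ[WittVector p S] P := L.subtype.comp (L.projectionOnto T hc)
  let πT : P →ₗ[WittVector p S] P := T.subtype.comp (T.projectionOnto L hc.symm)
  have hsum : ∀ x, πL x + πT x = x := fun x => Submodule.projection_add_projection_eq_self hc x
  have hTT : ∀ t ∈ T, πT t = t := fun t ht => by simp [πT, Submodule.projectionOnto_apply_left _ ⟨t, ht⟩]
  have hLL : ∀ l ∈ L, πT l = 0 := fun l hl => by simp [πT, hl]
  have hcoord : ∀ j, g j (πT x) ∈ W4c1extbt610.IV p S := by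
    intro j
    let Wf : WittVector p S →+* WittVector p R := WittVector.map (algebraMap S R)
    let cc : WittVector p R →+* R := WittVector.constantCoeff
    let ψ0 : P →ₛₗ[cc.comp Wf] R :=
      { toFun := fun x => cc (Wf (g j (πT x)))
        map_add' := fun a b => by simp
        map_smul' := fun a b => by simp }
    have hle : D.Q ≤ LinearMap.ker ψ0 := by
      intro y hy
      obtain ⟨l, hl, t, ht, rfl⟩ := Submodule.mem_sup.1 (hQ.le hy)
      have h1 : g j (πT (l + t)) ∈ W4c1extbt610.IV p S := by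
        rw [map_add, hLL l hl, zero_add, hTT t (Submodule.smul_le_right ht)]
        exact Groth.Agent.Lib.Disp.Basic.apply_mem_of_mem_smul_top (Submodule.smul_mono le_rfl le_top ht) _
      rw [LinearMap.mem_ker]
      change algebraMap S R ((g j (πT (l + t))).coeff 0) = 0
      rw [Groth.Agent.Lib.Disp.Witt.mem_IV.1 h1, map_zero]
    have h := congrArg (Dieu.BC.lift (cc.comp Wf) (D.Q.liftQ ψ0 hle)) hx
    rw [Dieu.BC.lift_tmul, map_zero, map_one, one_smul, Submodule.liftQ_apply] at h
    change algebraMap S R ((g j (πT x)).coeff 0) = 0 at h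
    rw [Groth.Agent.Lib.Disp.Witt.mem_IV]
    exact (injective_iff_map_eq_zero _).1 (FaithfulSMul.algebraMap_injective S R) _ h
  have hT : πT x ∈ W4c1extbt610.IV p S • T := by
    have h := Submodule.mem_map_of_mem (f := πT) (Groth.Agent.Lib.Disp.Basic.mem_smul_top_of_coords hge hcoord)
    rw [Submodule.map_smul'', hTT (πT x) (T.projectionOnto L hc.symm x).2] at h
    refine Submodule.smul_mono le_rfl ?_ h
    rintro _ ⟨z, -, rfl⟩
    exact (T.projectionOnto L hc.symm z).2
  rw [hQ, ← hsum x]
  exact Submodule.add_mem_sup (L.projectionOnto T hc x).2 hT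

end Groth.Agent.S16542
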