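import Groth.Statements.S16545
import Groth.Agent.S16542
import Mathlib.RingTheory.TensorProduct.IncludeLeftSubRight
-- import your own Groth.Agent.* helpers here

set_option autoImplicit false
universe u v
open Disp

namespace Groth.Agent.S16545

/-- Let p be a prime, S → R a faithfully flat homomorphism of commutative rings with p nilpotent in S,
ι₁, ι₂ : R → R ⊗_S R the two coprojections, and (P, Q, F, V⁻¹), (P', Q', F', V'⁻¹) displays over S
with base changes (P_R, Q_R, F_R, V_R⁻¹) and (P'_R, Q'_R, F'_R, V'_R⁻¹) along S → R (the 3n-display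
structures on W(R) ⊗_{W(S)} P and W(R) ⊗_{W(S)} P' with Q_R = ker(P_R → R ⊗_S P/Q), F_R(w ⊗ x) =
σ(w) ⊗ F x, V_R⁻¹(w ⊗ y) = σ(w) ⊗ V⁻¹ y for y ∈ Q, V_R⁻¹(V(w) ⊗ x) = w ⊗ F x, and likewise for P').
Let χ : P_R → P'_R be a homomorphism of 3n-displays whose two scalar extensions along W(ι₁) and
W(ι₂) agree, after the modules W(R ⊗_S R) ⊗_{W(ι_i),W(R)} (W(R) ⊗_{W(S)} P) are mapped to W(R ⊗_S R)
⊗_{W(S)} P by the canonical maps u ⊗ (w ⊗ x) ↦ u·W(ι_i)(w) ⊗ x (and likewise for P'). Then there is
exactly one homomorphism of 3n-displays ψ : P → P' over S with id ⊗ ψ = χ: the sequence 0 → Hom(P,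
P') → Hom(P_R, P'_R) ⇉ Hom(P_{R⊗R}, P'_{R⊗R}) is exact. The hypotheses e₁, e₂ record that both
composite ring maps W(S) → W(R) → W(R ⊗_S R) equal W(S → R ⊗_S R); they serve to identify targets. -/
theorem result (p : ℕ) [Fact p.Prime]
    (S R : Type u) [CommRing S] [CommRing R] [Algebra S R] [Module.FaithfullyFlat S R] (hp : IsNilpotent (p : S))
    (e₁ : (WittVector.map (Algebra.TensorProduct.includeLeftRingHom : R →+* TensorProduct S R R) : WittVector p R →+* WittVector p (TensorProduct S R R)).comp (WittVector.map (algebraMap S R) : WittVector p S →+* WittVector p R) = (WittVector.map (algebraMap S (TensorProduct S R R)) : WittVector p S →+* WittVector p (TensorProduct S R R)))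
    (e₂ : (WittVector.map ((Algebra.TensorProduct.includeRight : R →ₐ[S] TensorProduct S R R) : R →+* TensorProduct S R R) : WittVector p R →+* WittVector p (TensorProduct S R R)).comp (WittVector.map (algebraMap S R) : WittVector p S →+* WittVector p R) = (WittVector.map (algebraMap S (TensorProduct S R R)) : WittVector p S →+* WittVector p (TensorProduct S R R)))
    (P P' : Type v) [AddCommGroup P] [Module (WittVector p S) P] [AddCommGroup P'] [Module (WittVector p S) P']
    (D : W4c1extbt610.Display3n p S P) (D' : W4c1extbt610.Display3n p S P')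
    (hD : Dieu.IsDisplay D) (hD' : Dieu.IsDisplay D')
    (DR : W4c1extbt610.Display3n p R (Dieu.BC (WittVector.map (algebraMap S R) : WittVector p S →+* WittVector p R) P)) (hDR : Dieu.IsDispBaseChange (algebraMap S R) D DR)
    (DR' : W4c1extbt610.Display3n p R (Dieu.BC (WittVector.map (algebraMap S R) : WittVector p S →+* WittVector p R) P')) (hDR' : Dieu.IsDispBaseChange (algebraMap S R) D' DR')
    (χ : Dieu.BC (WittVector.map (algebraMap S R) : WittVector p S →+* WittVector p R) P →ₗ[WittVector p R] Dieu.BC (WittVector.map (algebraMap S R) : WittVector p S →+* WittVector p R) P') (hχ : W4c1extbt610.IsHom DR DR' χ)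
    (hdesc : ∀ (z₁ : Dieu.BC (WittVector.map (Algebra.TensorProduct.includeLeftRingHom : R →+* TensorProduct S R R) : WittVector p R →+* WittVector p (TensorProduct S R R)) (Dieu.BC (WittVector.map (algebraMap S R) : WittVector p S →+* WittVector p R) P)) (z₂ : Dieu.BC (WittVector.map ((Algebra.TensorProduct.includeRight : R →ₐ[S] TensorProduct S R R) : R →+* TensorProduct S R R) : WittVector p R →+* WittVector p (TensorProduct S R R)) (Dieu.BC (WittVector.map (algebraMap S R) : WittVector p S →+* WittVector p R) P)),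
      (Dieu.BC.castHom (P := P) e₁).comp (Dieu.BC.lift (WittVector.map (Algebra.TensorProduct.includeLeftRingHom : R →+* TensorProduct S R R) : WittVector p R →+* WittVector p (TensorProduct S R R)) (Dieu.BC.push (WittVector.map (algebraMap S R) : WittVector p S →+* WittVector p R) (WittVector.map (Algebra.TensorProduct.includeLeftRingHom : R →+* TensorProduct S R R) : WittVector p R →+* WittVector p (TensorProduct S R R)))) z₁ = (Dieu.BC.castHom (P := P) e₂).comp (Dieu.BC.lift (WittVector.map ((Algebra.TensorProduct.includeRight : R →ₐ[S] TensorProduct S R R) : R →+* TensorProduct S R R) : WittVector p R →+* WittVector p (TensorProduct S R R)) (Dieu.BC.push (WittVector.map (algebraMap S R) : WittVector p S →+* WittVector p R) (WittVector.map ((Algebra.TensorProduct.includeRight : R →ₐ[S] TensorProduct S R R) : R →+* TensorProduct S R R) : WittVector p R →+* WittVector p (TensorProduct S R R)))) z₂ →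
        (Dieu.BC.castHom (P := P') e₁).comp (Dieu.BC.lift (WittVector.map (Algebra.TensorProduct.includeLeftRingHom : R →+* TensorProduct S R R) : WittVector p R →+* WittVector p (TensorProduct S R R)) (Dieu.BC.push (WittVector.map (algebraMap S R) : WittVector p S →+* WittVector p R) (WittVector.map (Algebra.TensorProduct.includeLeftRingHom : R →+* TensorProduct S R R) : WittVector p R →+* WittVector p (TensorProduct S R R)))) (Dieu.BC.map (WittVector.map (Algebra.TensorProduct.includeLeftRingHom : R →+* TensorProduct S R R) : WittVector p R →+* WittVector p (TensorProduct S R R)) χ z₁) =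
          (Dieu.BC.castHom (P := P') e₂).comp (Dieu.BC.lift (WittVector.map ((Algebra.TensorProduct.includeRight : R →ₐ[S] TensorProduct S R R) : R →+* TensorProduct S R R) : WittVector p R →+* WittVector p (TensorProduct S R R)) (Dieu.BC.push (WittVector.map (algebraMap S R) : WittVector p S →+* WittVector p R) (WittVector.map ((Algebra.TensorProduct.includeRight : R →ₐ[S] TensorProduct S R R) : R →+* TensorProduct S R R) : WittVector p R →+* WittVector p (TensorProduct S R R)))) (Dieu.BC.map (WittVector.map ((Algebra.TensorProduct.includeRight : R →ₐ[S] TensorProduct S R R) : R →+* TensorProduct S R R) : WittVector p R →+* WittVector p (TensorProduct S R R)) χ z₂)) :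
    ∃! ψ : P →ₗ[WittVector p S] P', W4c1extbt610.IsHom D D' ψ ∧ Dieu.BC.map (WittVector.map (algebraMap S R) : WittVector p S →+* WittVector p R) ψ = χ := by
  classical
  obtain ⟨n, g, e, hge⟩ := Groth.Agent.Lib.Disp.Basic.exists_coords D'
  let Wf : WittVector p S →+* WittVector p R := WittVector.map (algebraMap S R)
  let Wff : WittVector p S →+* WittVector p (TensorProduct S R R) :=
    WittVector.map (algebraMap S (TensorProduct S R R))
  have hinj : Function.Injective Wf :=
    WittVector.map_injective _ (FaithfulSMul.algebraMap_injective S R)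
  let g' : Fin n → (Dieu.BC Wf P' →ₗ[WittVector p R] WittVector p R) := fun j =>
    Dieu.BC.lift Wf ((Dieu.semilinearOfRingHom Wf).comp (g j))
  have hg' : ∀ j b y, g' j (Dieu.BC.tmul Wf b y) = b * Wf (g j y) := fun j b y => by
    simp [g', Dieu.BC.lift_tmul]
  have hge' : ∀ z, ∑ j, g' j z • Dieu.BC.tmul Wf 1 (e j) = z := by
    intro z
    induction z using Dieu.BC.induction_on Wf with
    | zero => simp
    | add a b ha hb => simp only [map_add, add_smul, Finset.sum_add_distrib, ha, hb]
    | tmul b y =>
      conv_rhs => rw [← hge y, Dieu.BC.tmul_eq_smul_tmul_one]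
      change _ = b • Dieu.BC.ι Wf P' _
      rw [map_sum, Finset.smul_sum]
      refine Finset.sum_congr rfl fun j _ => ?_
      rw [hg', map_smulₛₗ, smul_smul]
      rfl
  have hιinj : Function.Injective (Dieu.BC.ι Wf P') := by
    intro a b h
    rw [← hge a, ← hge b]
    refine Finset.sum_congr rfl fun j _ => ?_
    congr 1
    refine hinj ?_
    have := congrArg (g' j) h
    rw [Dieu.BC.ι_apply, Dieu.BC.ι_apply, hg', hg', one_mul, one_mul] at this
    exact this
  have hc : ∀ j x, ∃ c, Wf c = g' j (χ (Dieu.BC.ι Wf P x)) := by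
    intro j x
    let l₁ : R →+* TensorProduct S R R := Algebra.TensorProduct.includeLeftRingHom
    let l₂ : R →+* TensorProduct S R R :=
      ((Algebra.TensorProduct.includeRight : R →ₐ[S] TensorProduct S R R) : R →+* TensorProduct S R R)
    let a := χ (Dieu.BC.ι Wf P x)
    have h := hdesc (Dieu.BC.tmul _ 1 (Dieu.BC.ι Wf P x)) (Dieu.BC.tmul _ 1 (Dieu.BC.ι Wf P x))
      (by simp only [LinearMap.comp_apply, Dieu.BC.lift_tmul, one_smul, Dieu.BC.ι_apply,
        Wf, Dieu.BC.push_tmul, Dieu.BC.castHom_tmul, map_one])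
    simp only [LinearMap.comp_apply, Dieu.BC.lift_tmul, one_smul, Dieu.BC.map_tmul] at h
    let G : Dieu.BC Wff P' →ₗ[WittVector p (TensorProduct S R R)] WittVector p (TensorProduct S R R) :=
      Dieu.BC.lift Wff ((Dieu.semilinearOfRingHom Wff).comp (g j))
    have hG : ∀ (l : R →+* TensorProduct S R R)
        (el : (WittVector.map l).comp Wf = Wff) (z : Dieu.BC Wf P'),
        G (Dieu.BC.castHom el (Dieu.BC.push Wf (WittVector.map l) z)) = WittVector.map l (g' j z) := by
      intro l el z
      induction z using Dieu.BC.induction_on Wf with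
      | zero => simp only [map_zero]
      | add a b ha hb => simp only [map_add, ha, hb]
      | tmul b y =>
        rw [Dieu.BC.push_tmul, Dieu.BC.castHom_tmul, hg', map_mul]
        simp only [G, Dieu.BC.lift_tmul, LinearMap.comp_apply, smul_eq_mul]
        rw [← el]
        rfl
    have h2 := congrArg G h
    rw [hG l₁ e₁, hG l₂ e₂] at h2
    have hco : ∀ m, (g' j a).coeff m ∈ Set.range (algebraMap S R) := by
      intro m
      rw [← Algebra.IsEffective.eqLocus_includeLeft_includeRight (Algebra.IsEffective.of_faithfullyFlat S R)]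
      have h3 := congrArg (fun w => w.coeff m) h2
      simp only [WittVector.map_coeff] at h3
      exact h3
    choose c hc using hco
    exact ⟨WittVector.mk p c, WittVector.ext fun m => hc m⟩
  choose c hc using hc
  let ψ : P →ₗ[WittVector p S] P' :=
    { toFun := fun x => ∑ j, c j x • e j
      map_add' := fun x y => by
        rw [← Finset.sum_add_distrib]
        refine Finset.sum_congr rfl fun j _ => ?_
        rw [← add_smul, show c j (x + y) = c j x + c j y from hinj (by simp only [hc, map_add])]
      map_smul' := fun a x => by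
        rw [RingHom.id_apply, Finset.smul_sum]
        refine Finset.sum_congr rfl fun j _ => ?_
        rw [smul_smul, show c j (a • x) = a * c j x from hinj (by
          rw [hc, map_mul, hc, map_smulₛₗ, map_smul, map_smul, smul_eq_mul])] }
  have hψ : ∀ x, Dieu.BC.ι Wf P' (ψ x) = χ (Dieu.BC.ι Wf P x) := by
    intro x
    change Dieu.BC.ι Wf P' (∑ j, c j x • e j) = _
    rw [map_sum, ← hge' (χ (Dieu.BC.ι Wf P x))]
    exact Finset.sum_congr rfl fun j _ => by rw [map_smulₛₗ, hc]; rfl
  have hmaps : ∀ q : P, q ∈ D.Q → ψ q ∈ D'.Q := by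
    intro q hq
    rw [Groth.Agent.S16542.result p S R hp P' D' hD' DR' hDR', hψ]
    exact hχ.mapsTo _ ((Groth.Agent.S16542.result p S R hp P D hD DR hDR q).1 hq)
  have hFι : ∀ x, DR.F (Dieu.BC.ι Wf P x) = Dieu.BC.ι Wf P (D.F x) := fun x => by
    rw [Dieu.BC.ι_apply, hDR.F_tmul, map_one]; rfl
  have hF'ι : ∀ x, DR'.F (Dieu.BC.ι Wf P' x) = Dieu.BC.ι Wf P' (D'.F x) := fun x => by
    rw [Dieu.BC.ι_apply, hDR'.F_tmul, map_one]; rfl
  refine ⟨ψ, ⟨⟨hmaps, fun x => hιinj ?_, fun q => hιinj ?_⟩, Dieu.BC.ext Wf fun x => ?_⟩, ?_⟩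
  · rw [hψ, ← hFι, hχ.comm_F, ← hψ, hF'ι]
  · rw [hψ]
    have hq1 : Dieu.BC.tmul Wf 1 (q : P) ∈ DR.Q :=
      (Groth.Agent.S16542.result p S R hp P D hD DR hDR q).1 q.2
    have hq2 : Dieu.BC.tmul Wf 1 (ψ q) ∈ DR'.Q :=
      (Groth.Agent.S16542.result p S R hp P' D' hD' DR' hDR' _).1 (hmaps q q.2)
    have e1 := hDR.Vinv_tmul 1 q hq1
    have e2 := hDR'.Vinv_tmul 1 ⟨ψ q, hmaps q q.2⟩ hq2
    rw [map_one] at e1 e2
    rw [Dieu.BC.ι_apply, ← e1, hχ.comm_Vinv, Dieu.BC.ι_apply, ← e2]
    exact congrArg DR'.Vinv (Subtype.ext (hψ q).symm)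
  · rw [Dieu.BC.map_tmul]
    exact hψ x
  · rintro ψ' ⟨-, hψ'⟩
    refine LinearMap.ext fun x => hιinj ?_
    rw [hψ, ← hψ', Dieu.BC.ι_apply, Dieu.BC.ι_apply, Dieu.BC.map_tmul]

end Groth.Agent.S16545
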