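import Groth.Statements.S16547
import Mathlib.RingTheory.Invariant.Basic
import Groth.Agent.H81.EakinNagata
import Groth.Agent.Lib.Regular.Quotient

set_option autoImplicit false
universe u
open CAlg

namespace Groth.Agent.S16547

open scoped Pointwise

/-- Prefix products of a list. -/
def pre {A : Type*} [Monoid A] : List A → List A
  | [] => []
  | x :: L => 1 :: (pre L).map (x * ·)

theorem length_pre {A : Type*} [Monoid A] : ∀ L : List A, (pre L).length = L.length
  | [] => rfl
  | x :: L => by simp [pre, length_pre L]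

/-- Successive approximation along a list of elements with trivial residue extension. -/
theorem approx {A B : Type*} [CommRing A] [CommRing B] [Algebra B A] (q : Ideal B) [q.IsPrime] :
    ∀ L : List A, (∀ x ∈ L, ∀ a : A, ∃ b c : B, c ∉ q ∧ x ∣ algebraMap B A c * a - algebraMap B A b) →
      ∀ a : A, ∃ c : B, c ∉ q ∧ ∃ s ∈ Submodule.span B {z | z ∈ pre L}, ∃ w : A,
        algebraMap B A c * a = s + L.prod * w
  | [], _, a => ⟨1, fun h => Ideal.IsPrime.ne_top' ((Ideal.eq_top_iff_one q).2 h), 0, Submodule.zero_mem _, a, by simp⟩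
  | x :: L, hL, a => by
    obtain ⟨b, c, hc, y, hy⟩ := hL x (List.mem_cons_self ..) a
    obtain ⟨c', hc', s, hs, w, hw⟩ := approx q L (fun z hz => hL z (List.mem_cons_of_mem _ hz)) y
    refine ⟨c' * c, fun h => (Ideal.IsPrime.mem_or_mem ‹_› h).elim hc' hc,
      algebraMap B A (c' * b) + x * s, ?_, w, ?_⟩
    · refine add_mem ?_ ?_
      · rw [Algebra.algebraMap_eq_smul_one]
        exact Submodule.smul_mem _ _ (Submodule.subset_span (List.mem_cons_self ..))
      · have := Submodule.mem_map_of_mem (f := LinearMap.mulLeft B x) hs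
        rw [Submodule.map_span] at this
        refine Submodule.span_mono ?_ this
        rintro _ ⟨z, hz, rfl⟩
        exact List.mem_cons_of_mem _ (List.mem_map.2 ⟨z, hz, rfl⟩)
    · rw [map_mul, map_mul, List.prod_cons]
      linear_combination (algebraMap B A c') * hy + x * hw

open Polynomial in
/-- Nakayama at a prime: if `c • ⊤ ≤ q • ⊤` on a finite module with `c ∉ q`, some `c' ∉ q` kills it. -/
theorem exists_annihilator {B M : Type*} [CommRing B] [AddCommGroup M] [Module B M] [Module.Finite B M]
    (q : Ideal B) [q.IsPrime] (c : B) (hc : c ∉ q) (h : ∀ m : M, c • m ∈ q • (⊤ : Submodule B M)) :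
    ∃ c' : B, c' ∉ q ∧ ∀ m : M, c' • m = 0 := by
  obtain ⟨P, hP, -, hcoeff, hPc⟩ := LinearMap.exists_monic_and_natDegree_eq_and_coeff_mem_pow_and_aeval_eq_zero
    B (algebraMap B (Module.End B M) c) q (by rintro _ ⟨m, rfl⟩; exact h m)
  refine ⟨P.eval c, fun hmem => ?_, fun m => ?_⟩
  · rw [eval_eq_sum_range, Finset.sum_range_succ, hP.coeff_natDegree, one_mul] at hmem
    have hlow : ∑ i ∈ Finset.range P.natDegree, P.coeff i * c ^ i ∈ q := by
      refine Ideal.sum_mem _ fun i hi => Ideal.mul_mem_right _ _ ?_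
      exact Ideal.pow_le_self (by have := Finset.mem_range.1 hi; omega) (hcoeff i)
    exact hc (Ideal.IsPrime.mem_of_pow_mem ‹_› _ ((q.add_mem_iff_right hlow).1 hmem))
  · rw [Polynomial.aeval_algebraMap_apply, ← Polynomial.coe_aeval_eq_eval] at *
    simpa using LinearMap.congr_fun hPc m

/-- A spanning family (up to a nonzero scalar) has at least `#G` members. -/
theorem card_le_of_span {A B G : Type*} [CommRing A] [IsDomain A] [CommRing B] [Algebra B A] [FaithfulSMul B A]
    [Group G] [Finite G] [MulSemiringAction G A] [FaithfulSMul G A] [SMulCommClass G B A]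
    {m : ℕ} (t : Fin m → A) (c : B) (hc : c ≠ 0) (h : ∀ a : A, c • a ∈ Submodule.span B (Set.range t)) :
    Nat.card G ≤ m := by
  have := Fintype.ofFinite G
  rw [Nat.card_eq_fintype_card]
  by_contra hlt
  let Φ : (G → A) →ₗ[A] (Fin m → A) :=
    { toFun := fun x i => ∑ σ, x σ * σ • t i
      map_add' := fun x y => by funext i; simp [add_mul, Finset.sum_add_distrib]
      map_smul' := fun a x => by funext i; simp [Finset.mul_sum, mul_assoc] }
  obtain ⟨x, hx, hx0⟩ : ∃ x, Φ x = 0 ∧ x ≠ 0 := by
    by_contra! hinj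
    have := LinearMap.finrank_le_finrank_of_injective (f := Φ) ((injective_iff_map_eq_zero Φ).2 hinj)
    simp only [Module.finrank_fintype_fun_eq_card, Fintype.card_fin] at this
    exact hlt this
  let f : G → (A →* A) := fun σ => (MulSemiringAction.toRingHom G A σ).toMonoidHom
  have hf : Function.Injective f := fun σ τ hστ => eq_of_smul_eq_smul (α := A) fun a => DFunLike.congr_fun hστ a
  refine hx0 (funext fun σ => Fintype.linearIndependent_iff.1 ((linearIndependent_monoidHom A A).comp f hf) x ?_ σ)
  funext a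
  have key : ∀ s ∈ Submodule.span B (Set.range t), ∑ σ, x σ * σ • s = 0 := fun s hs => by
    induction hs using Submodule.span_induction with
    | mem s hs => obtain ⟨i, rfl⟩ := hs; exact congr_fun hx i
    | zero => simp
    | add u v _ _ hu hv => simp [smul_add, mul_add, Finset.sum_add_distrib, hu, hv]
    | smul b u _ hu => simp_rw [smul_comm _ b, mul_smul_comm, ← Finset.smul_sum, hu, smul_zero]
  have h1 := key _ (h a)
  simp_rw [smul_comm _ c, mul_smul_comm, ← Finset.smul_sum] at h1
  rw [Algebra.smul_def, mul_eq_zero, map_eq_zero_iff _ (FaithfulSMul.algebraMap_injective B A)] at h1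
  simpa [f, Finset.sum_apply] using h1.resolve_left hc

/-- Let A be a Noetherian factorial local domain and G a finite group acting faithfully on A by ring
automorphisms; let B be a ring with an injective ring map to A whose image is exactly the ring of
invariants of G, and assume A is a finite B-module. Let q be a prime ideal of B of height one and p
a prime ideal of A lying over q such that the extension of residue fields of the local rings B_q and
A_p is trivial (every element of A is congruent modulo p to some c⁻¹b with b, c in B, c outside q).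
Then q is a principal ideal; and if moreover B/q is a regular local ring, then B is a regular local
ring. -/
theorem result
    {A B G : Type u} [CommRing A] [IsDomain A] [IsNoetherianRing A] [IsLocalRing A]
    [UniqueFactorizationMonoid A]
    [CommRing B] [Algebra B A] [FaithfulSMul B A] [Module.Finite B A]
    [Group G] [Finite G] [MulSemiringAction G A] [FaithfulSMul G A] [SMulCommClass G B A]
    [Algebra.IsInvariant B A G]
    (q : Ideal B) [q.IsPrime] (hq : q.height = 1) (p : Ideal A) [p.IsPrime] [p.LiesOver q]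
    (hres : ∀ a : A, ∃ b c : B, c ∉ q ∧ algebraMap B A c * a - algebraMap B A b ∈ p) :
    Submodule.IsPrincipal q ∧ (IsRegularLocalRing (B ⧸ q) → IsRegularLocalRing B) := by
  classical
  let _ := Fintype.ofFinite G
  have hinj := FaithfulSMul.algebraMap_injective B A
  have : IsDomain B := Function.Injective.isDomain _ hinj
  have hfix : ∀ (σ : G) (b : B), σ • algebraMap B A b = algebraMap B A b := fun σ b => smul_algebraMap σ b
  have : Algebra.IsIntegral B A := Algebra.IsInvariant.isIntegral B A G
  have hqp : ∀ b : B, b ∈ q ↔ algebraMap B A b ∈ p := fun b => by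
    rw [Ideal.LiesOver.over (p := q) (P := p)]; rfl
  -- the prime `p` is generated by a prime element
  have hq0 : q ≠ ⊥ := Ideal.ne_bot_of_height_eq_one hq
  have hp0 : p ≠ ⊥ := by
    obtain ⟨b, hb, hb0⟩ := Submodule.exists_mem_ne_zero_of_ne_bot hq0
    intro h
    have := (hqp b).1 hb
    rw [h, Ideal.mem_bot, map_eq_zero_iff _ hinj] at this
    exact hb0 this
  obtain ⟨π, hπp, hπ⟩ := Ideal.IsPrime.exists_mem_prime_of_ne_bot ‹p.IsPrime› hp0
  have hP0 : (Ideal.span {π}).IsPrime := (Ideal.span_singleton_prime hπ.ne_zero).2 hπ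
  have hp : p = Ideal.span {π} := by
    have hle : Ideal.span {π} ≤ p := (Ideal.span_singleton_le_iff_mem _).2 hπp
    refine le_antisymm (fun x hx => ?_) hle
    by_contra hx'
    have hlt := Ideal.comap_lt_comap_of_integral_mem_sdiff hle ⟨hx, hx'⟩ (Algebra.IsIntegral.isIntegral (R := B) x)
    rw [show p.comap (algebraMap B A) = q from (Ideal.LiesOver.over (p := q) (P := p)).symm] at hlt
    have hne : (Ideal.span {π}).comap (algebraMap B A) ≠ ⊥ :=
      Ideal.comap_ne_bot_of_integral_mem hπ.ne_zero (Ideal.mem_span_singleton_self π) (Algebra.IsIntegral.isIntegral π)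
    have := Ideal.height_add_one_le_of_lt_of_isPrime hlt
    rw [hq] at this
    refine hne (Ideal.height_eq_zero_iff_eq_bot.1 ?_)
    exact le_antisymm ((ENat.add_le_add_iff_right ENat.one_ne_top).1 (by simpa using this)) bot_le
  have hqπ : ∀ b : B, b ∈ q ↔ π ∣ algebraMap B A b := fun b => by
    rw [hqp, hp, Ideal.mem_span_singleton]
  -- the minimal multiplicity `e` of an element of `q`
  have hex : ∃ n, ∃ b ∈ q, b ≠ 0 ∧ ¬ π ^ (n + 1) ∣ algebraMap B A b := by
    obtain ⟨b, hb, hb0⟩ := Submodule.exists_mem_ne_zero_of_ne_bot hq0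
    obtain ⟨n, hn⟩ := FiniteMultiplicity.of_prime_left hπ (fun h => hb0 ((map_eq_zero_iff _ hinj).1 h) : algebraMap B A b ≠ 0)
    exact ⟨n, b, hb, hb0, hn⟩
  set e := Nat.find hex
  obtain ⟨b₀, hb₀q, hb₀0, hb₀e⟩ := Nat.find_spec hex
  have hmin : ∀ b ∈ q, π ^ e ∣ algebraMap B A b := fun b hb => by
    rcases eq_or_ne b 0 with rfl | hb0
    · rw [map_zero]; exact dvd_zero _
    rcases Nat.eq_zero_or_pos e with h | h
    · rw [h, pow_zero]; exact one_dvd _
    · by_contra hnd
      exact Nat.find_min hex (show e - 1 < e by omega) ⟨b, hb, hb0, by rwa [show e - 1 + 1 = e by omega]⟩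
  -- the conjugates of `p`
  let O : Finset (Ideal A) := Finset.univ.image fun σ : G => σ • Ideal.span {π}
  have hO : ∀ P ∈ O, ∃ σ : G, σ • Ideal.span {π} = P := fun P hP => by
    simpa [O] using hP
  choose! s hs using hO
  let g : Ideal A → A := fun P => s P • π
  have hspan : ∀ σ : G, σ • Ideal.span {π} = Ideal.span {σ • π} := fun σ => by
    rw [Ideal.pointwise_smul_def, Ideal.map_span, Set.image_singleton]; rfl
  have hg : ∀ P ∈ O, Ideal.span {g P} = P := fun P hP => by rw [← hspan, hs P hP]
  have hσprime : ∀ σ : G, Prime (σ • π) := fun σ =>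
    (MulEquiv.prime_iff (MulSemiringAction.toRingEquiv G A σ).toMulEquiv).2 hπ
  have hrel : (O : Set (Ideal A)).Pairwise (fun P Q => ∀ i j : ℕ, IsRelPrime (g P ^ i) (g Q ^ j)) := by
    intro P hP Q hQ hne i j
    refine IsRelPrime.pow (((hσprime _).irreducible.isRelPrime_iff_not_dvd).2 fun hd => hne ?_)
    rw [← hg P hP, ← hg Q hQ, Ideal.span_singleton_eq_span_singleton]
    exact (hσprime _).associated_of_dvd (hσprime _) hd
  have hprod : ∀ b ∈ q, (∏ P ∈ O, g P ^ e) ∣ algebraMap B A b := fun b hb => by
    refine Finset.prod_dvd_of_isRelPrime (fun P hP Q hQ hne => hrel hP hQ hne e e) fun P _ => ?_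
    rw [← hfix (s P) b, ← smul_pow']
    exact map_dvd (MulSemiringAction.toRingHom G A (s P)) (hmin b hb)
  -- the list and the spanning family
  let L : List A := O.toList.flatMap fun P => List.replicate e (g P)
  have hLprod : L.prod = ∏ P ∈ O, g P ^ e := by
    show (O.toList.flatMap fun P => List.replicate e (g P)).prod = _
    rw [List.flatMap_def, List.prod_flatten, List.map_map, ← Finset.prod_map_toList]
    congr 1
    exact List.map_congr_left fun P _ => by simp
  have hLlen : L.length = O.card * e := by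
    rw [List.length_flatMap]
    simp
  have hres' : ∀ σ : G, ∀ a : A, ∃ b c : B, c ∉ q ∧ (σ • π) ∣ algebraMap B A c * a - algebraMap B A b := by
    intro σ a
    obtain ⟨b, c, hc, hbc⟩ := hres (σ⁻¹ • a)
    refine ⟨b, c, hc, ?_⟩
    rw [hp, Ideal.mem_span_singleton] at hbc
    have := map_dvd (MulSemiringAction.toRingHom G A σ) hbc
    simpa [smul_sub, smul_mul', hfix, smul_inv_smul] using this
  obtain ⟨w, hw⟩ : L.prod ∣ algebraMap B A b₀ := hLprod ▸ hprod b₀ hb₀q
  obtain ⟨cw, hcw⟩ := Algebra.IsInvariant.isInvariant (A := B) (G := G) (∏ σ : G, σ • w)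
    (fun σ => Finset.smul_prod_perm w σ)
  have hcwq : cw ∉ q := by
    intro h
    obtain ⟨σ, -, hσ⟩ := hπ.exists_mem_finset_dvd (hcw ▸ (hqπ cw).1 h : π ∣ ∏ σ : G, σ • w)
    have h1 : σ⁻¹ • π ∣ w := by
      have := map_dvd (MulSemiringAction.toRingHom G A σ⁻¹) hσ
      simpa using this
    have hP : σ⁻¹ • Ideal.span {π} ∈ O := Finset.mem_image_of_mem _ (Finset.mem_univ _)
    set P := σ⁻¹ • Ideal.span {π}
    have h2 : g P ∣ w := by
      rw [← Ideal.mem_span_singleton, hg P hP, show P = Ideal.span {σ⁻¹ • π} from hspan _, Ideal.mem_span_singleton]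
      exact h1
    have h3 : g P ^ (e + 1) ∣ algebraMap B A b₀ := by
      rw [hw, hLprod, pow_succ]
      exact mul_dvd_mul (Finset.dvd_prod_of_mem _ hP) h2
    refine hb₀e ?_
    have := map_dvd (MulSemiringAction.toRingHom G A (s P)⁻¹) h3
    simpa [g, hfix] using this
  set S := Submodule.span B {z | z ∈ pre L}
  have hstep : ∀ a : A, ∃ c : B, c ∉ q ∧ c • Submodule.mkQ S a ∈ q • (⊤ : Submodule B (A ⧸ S)) := by
    intro a
    obtain ⟨c, hc, x, hx, v, hv⟩ := approx q L (fun z hz a => by
      obtain ⟨P, -, hz⟩ := List.mem_flatMap.1 hz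
      rw [List.eq_of_mem_replicate hz]
      exact hres' _ a) a
    refine ⟨cw * c, fun h => (Ideal.IsPrime.mem_or_mem ‹q.IsPrime› h).elim hcwq hc, ?_⟩
    have h1 : w ∣ algebraMap B A cw := by
      rw [hcw]
      have := Finset.dvd_prod_of_mem (fun σ : G => σ • w) (Finset.mem_univ (1 : G))
      rwa [one_smul] at this
    obtain ⟨y, hy⟩ := h1
    have h2 : (cw * c) • a = cw • x + b₀ • (y * v) := by
      rw [Algebra.smul_def, Algebra.smul_def, Algebra.smul_def, map_mul, mul_assoc, hv, hw, hy]
      ring
    rw [← map_smul, h2, map_add, map_smul, map_smul, show S.mkQ x = 0 from (Submodule.Quotient.mk_eq_zero S).2 hx, smul_zero, zero_add]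
    exact Submodule.smul_mem_smul hb₀q Submodule.mem_top
  choose c₁ hc₁ hc₁' using hstep
  obtain ⟨gens, hgens⟩ := (Module.Finite.fg_top (R := B) (M := A))
  obtain ⟨c', hc', hann⟩ := exists_annihilator (M := A ⧸ S) q (∏ a ∈ gens, c₁ a)
    (fun h => by
      obtain ⟨a, -, ha⟩ := (Ideal.IsPrime.prod_mem_iff).1 h
      exact hc₁ a ha)
    (fun m => by
      obtain ⟨a, rfl⟩ := Submodule.mkQ_surjective S m
      have ha : a ∈ Submodule.span B (gens : Set A) := hgens ▸ Submodule.mem_top
      induction ha using Submodule.span_induction with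
      | mem a ha =>
        rw [← Finset.prod_erase_mul _ _ (Finset.mem_coe.1 ha), mul_smul]
        exact Submodule.smul_mem _ _ (hc₁' a)
      | zero => simp
      | add u v _ _ hu hv => rw [map_add, smul_add]; exact add_mem hu hv
      | smul b u _ hu => rw [map_smul, smul_comm]; exact Submodule.smul_mem _ _ hu)
  have hcard : Nat.card G ≤ O.card * e := by
    rw [← hLlen, ← length_pre L]
    refine card_le_of_span (B := B) (fun i => (pre L).get i) c' (fun h => hc' (h ▸ q.zero_mem)) fun a => ?_
    rw [Set.range_list_get]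
    exact (Submodule.Quotient.mk_eq_zero S).1 (hann (Submodule.Quotient.mk a))
  -- the fibres of the orbit map
  set k := (Finset.univ.filter fun σ : G => σ • Ideal.span {π} = Ideal.span {π}).card
  have hfib : ∀ P ∈ O, (Finset.univ.filter fun σ : G => σ • Ideal.span {π} = P).card = k := fun P hP => by
    refine (Finset.card_equiv (Equiv.mulLeft (s P)) fun σ => ?_).symm
    simp only [Finset.mem_filter, Finset.mem_univ, true_and, Equiv.coe_mulLeft, mul_smul]
    conv_rhs => rhs; rw [← hs P hP]
    exact (smul_left_cancel_iff _).symm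
  have hk : k ≤ e := by
    have h1 : Nat.card G = O.card * k := by
      rw [Nat.card_eq_fintype_card, ← Finset.card_univ, Finset.card_eq_sum_card_image (fun σ : G => σ • Ideal.span {π}),
        Finset.sum_congr rfl hfib, Finset.sum_const, smul_eq_mul]
    exact Nat.le_of_mul_le_mul_left (h1 ▸ hcard) (Finset.card_pos.2 ⟨_, Finset.mem_image_of_mem _ (Finset.mem_univ 1)⟩)
  have hN : Associated (∏ σ : G, σ • π) (∏ P ∈ O, g P ^ k) := by
    rw [← Finset.prod_fiberwise_of_maps_to (t := O) (g := fun σ : G => σ • Ideal.span {π})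
      (fun σ hσ => Finset.mem_image_of_mem _ hσ)]
    refine Associated.prod O _ _ fun P hP => ?_
    rw [← hfib P hP, ← Finset.prod_const]
    refine Associated.prod _ _ _ fun σ hσ => ?_
    rw [← Ideal.span_singleton_eq_span_singleton, hg P hP, ← hspan]
    exact (Finset.mem_filter.1 hσ).2
  obtain ⟨N₀, hN₀⟩ := Algebra.IsInvariant.isInvariant (A := B) (G := G) (∏ σ : G, σ • π)
    (fun σ => Finset.smul_prod_perm π σ)
  have hN₀0 : algebraMap B A N₀ ≠ 0 := by
    rw [hN₀]; exact Finset.prod_ne_zero_iff.2 fun σ _ => (hσprime σ).ne_zero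
  have hqN : q = Ideal.span {N₀} := by
    refine le_antisymm (fun b hb => ?_) ((Ideal.span_singleton_le_iff_mem _).2 ?_)
    · have h1 : algebraMap B A N₀ ∣ algebraMap B A b := by
        rw [hN₀]
        exact hN.dvd.trans ((Finset.prod_dvd_prod_of_dvd _ _ fun P _ => pow_dvd_pow _ hk).trans (hprod b hb))
      obtain ⟨z, hz⟩ := h1
      obtain ⟨z₀, hz₀⟩ := Algebra.IsInvariant.isInvariant (A := B) (G := G) z (fun σ => by
        have := congrArg (σ • ·) hz
        simp only [smul_mul', hfix] at this
        exact mul_left_cancel₀ hN₀0 (this.symm.trans hz))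
      exact Ideal.mem_span_singleton.2 ⟨z₀, hinj (by rw [map_mul, hz₀]; exact hz)⟩
    · rw [hqπ, hN₀]
      exact (one_smul G π).symm.dvd.trans (Finset.dvd_prod_of_mem _ (Finset.mem_univ 1))
  refine ⟨⟨N₀, hqN⟩, fun hreg => ?_⟩
  have hunit : ∀ b : B, IsUnit (algebraMap B A b) → IsUnit b := fun b hb => by
    obtain ⟨u, hu⟩ := hb.exists_right_inv
    obtain ⟨u₀, hu₀⟩ := Algebra.IsInvariant.isInvariant (A := B) (G := G) u (fun σ => by
      have := congrArg (σ • ·) hu
      simp only [smul_mul', hfix, smul_one] at this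
      exact hb.mul_left_cancel (this.trans hu.symm))
    exact IsUnit.of_mul_eq_one u₀ (hinj (by rw [map_mul, hu₀, hu, map_one]))
  have : IsLocalRing B := IsLocalRing.of_nonunits_add fun a b ha hb hab => by
    rcases IsLocalRing.isUnit_or_isUnit_of_isUnit_add (map_add (algebraMap B A) a b ▸ hab.map (algebraMap B A)) with h | h
    · exact ha (hunit a h)
    · exact hb (hunit b h)
  have := H81.EakinNagata.isNoetherianRing (B := B) (A := A)
  refine Lib.Regular.Quotient.of_quotient_singleton (x := N₀)
    (IsLocalRing.le_maximalIdeal ‹q.IsPrime›.ne_top (hqN ▸ Ideal.mem_span_singleton_self N₀))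
    (IsSMulRegular.of_ne_zero fun h => hN₀0 (by rw [h, map_zero])) ?_
  rw [← hqN]
  exact hreg

end Groth.Agent.S16547
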