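import Groth.Statements.S16548
import Groth.Agent.H34.SmoothCurveStalk
import Groth.Agent.H34.Ramified

set_option autoImplicit false
universe u
open CategoryTheory CategoryTheory.Limits AlgebraicGeometry
attribute [local instance] Curv2.resAlgebra
open Curves

namespace Groth.Agent.S16548

/-- Let k be a field, X and Y smooth over k of relative dimension one (not necessarily proper), f : X ->
Y a finite k-morphism and x a closed point of X, with y = f(x). Suppose f is tamely ramified at x:
m_y O_{X,x} = m_x^e for an integer e ≥ 2 prime to the characteristic of k, and κ(x) is separable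
over κ(y). Then κ(x) is separable over k. (Consequently the field generated over k by the residue
fields of all such points is Galois over k.) -/
theorem result (k : Type u) [Field k]
    (X Y : Scheme.{u}) [X.Over (Spec (CommRingCat.of k))] [Y.Over (Spec (CommRingCat.of k))]
    [SmoothOfRelativeDimension 1 (X ↘ Spec (CommRingCat.of k))]
    [SmoothOfRelativeDimension 1 (Y ↘ Spec (CommRingCat.of k))]
    (f : X ⟶ Y) [IsFinite f] (hf : f ≫ (Y ↘ Spec (CommRingCat.of k)) = X ↘ Spec (CommRingCat.of k))
    (x : X) (hx : IsClosed ({x} : Set X)) (e : ℕ)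
    (he : (IsLocalRing.maximalIdeal (Y.presheaf.stalk (f.base x))).map (f.stalkMap x).hom =
      IsLocalRing.maximalIdeal (X.presheaf.stalk x) ^ e)
    (h2 : 2 ≤ e) (hp : ¬ ringChar k ∣ e)
    (hsep : @Algebra.IsSeparable (Y.residueField (f.base x)) (X.residueField x) _ _
      (f.residueFieldMap x).hom.toAlgebra) :
    Algebra.IsSeparable k (X.residueField x) := by
  let y := f.base x
  have hy : IsClosed ({y} : Set Y) := by
    have := f.isClosedMap _ hx
    rwa [Set.image_singleton] at this
  have hXs : ∃ U : X.Opens, x ∈ U ∧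
      SmoothOfRelativeDimension 1 (U.ι ≫ (X ↘ Spec (CommRingCat.of k))) :=
    ⟨⊤, trivial, IsZariskiLocalAtSource.comp (P := @SmoothOfRelativeDimension 1) inferInstance _⟩
  have hYs : ∃ U : Y.Opens, y ∈ U ∧
      SmoothOfRelativeDimension 1 (U.ι ≫ (Y ↘ Spec (CommRingCat.of k))) :=
    ⟨⊤, trivial, IsZariskiLocalAtSource.comp (P := @SmoothOfRelativeDimension 1) inferInstance _⟩
  let := Curv2.stalkAlgebra k X x
  let := Curv2.stalkAlgebra k Y y
  obtain ⟨hessA, ⟨eA⟩, -⟩ := Groth.Agent.H34.SmoothCurveStalk.closedPoint_facts k Y y hy hYs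
  obtain ⟨hessB, ⟨eB⟩, hdom, hdvr⟩ := Groth.Agent.H34.SmoothCurveStalk.closedPoint_facts k X x hx hXs
  let : Algebra (Y.presheaf.stalk y) (X.presheaf.stalk x) := (f.stalkMap x).hom.toAlgebra
  have hmor : (Y ↘ Spec (CommRingCat.of k)).appTop ≫ Y.presheaf.germ ⊤ y trivial ≫ f.stalkMap x =
      (X ↘ Spec (CommRingCat.of k)).appTop ≫ X.presheaf.germ ⊤ x trivial := by
    subst y
    rw [← hf, Scheme.Hom.comp_appTop, Category.assoc, f.germ_stalkMap]
    rfl
  have htower : ∀ c : k, Curv2.stalkMap k X x c = f.stalkMap x (Curv2.stalkMap k Y y c) := fun c =>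
    (congr($(hmor).hom ((Scheme.ΓSpecIso (CommRingCat.of k)).inv.hom c))).symm
  have : IsScalarTower k (Y.presheaf.stalk y) (X.presheaf.stalk x) :=
    IsScalarTower.of_algebraMap_eq htower
  have : IsLocalHom (algebraMap (Y.presheaf.stalk y) (X.presheaf.stalk x)) :=
    inferInstanceAs (IsLocalHom (f.stalkMap x).hom)
  have halg : IsLocalRing.ResidueField.map (f.stalkMap x).hom = (f.residueFieldMap x).hom := rfl
  have hsep' : Algebra.IsSeparable (IsLocalRing.ResidueField (Y.presheaf.stalk y))
      (IsLocalRing.ResidueField (X.presheaf.stalk x)) := by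
    convert! hsep using 2
    refine Algebra.algebra_ext _ _ fun r => ?_
    obtain ⟨r, rfl⟩ := IsLocalRing.residue_surjective r
    rfl
  have := hdvr
  have hY : Algebra.IsSeparable k (IsLocalRing.ResidueField (Y.presheaf.stalk y)) :=
    Groth.Agent.H34.Ramified.isSeparable_residueField eA eB
      (IsDiscreteValuationRing.not_a_field _)
      ((le_of_eq he).trans (Ideal.pow_le_pow_right h2))
  exact (Algebra.IsSeparable.trans k (IsLocalRing.ResidueField (Y.presheaf.stalk y))
    (IsLocalRing.ResidueField (X.presheaf.stalk x)) : _)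

end Groth.Agent.S16548
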