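import Groth.Statements.S1655
import Groth.Agent.H26.BirationalZMT
-- import your own Groth.Agent.* helpers here

set_option autoImplicit false
universe u
open CategoryTheory CategoryTheory.Limits AlgebraicGeometry
open Variety

namespace Groth.Agent.S1655

/-- Let X be a Noetherian integral scheme, Y an integral scheme, and f : Y → X a proper morphism that
restricts to an isomorphism over some nonempty open subscheme of X. If x is a point of X whose local
ring is integrally closed and f is quasi-finite at some point lying over x, then f restricts to an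
isomorphism over an open neighbourhood of x. -/
theorem result {X Y : Scheme.{u}} [IsNoetherian X] [IsIntegral X] [IsIntegral Y]
    (f : Y ⟶ X) [IsProper f] (W : X.Opens) (hW : (W : Set X).Nonempty) (hfW : IsIso (f ∣_ W))
    (x : X) (hx : IsIntegrallyClosed (X.presheaf.stalk x)) (y : Y) (hy : f.base y = x) (hq : f.QuasiFiniteAt y) :
    ∃ V : X.Opens, x ∈ V ∧ IsIso (f ∣_ V) := by
  obtain ⟨w, hw⟩ := hW
  obtain ⟨z, hz⟩ := (ConcreteCategory.bijective_of_isIso (f ∣_ W).base).2 ⟨w, hw⟩
  have : Nonempty (f ⁻¹ᵁ W : Set Y) := ⟨z⟩
  have hgY : genericPoint Y ∈ f ⁻¹ᵁ W :=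
    (genericPoint_spec Y).specializes trivial |>.mem_open (f ⁻¹ᵁ W).isOpen z.2
  have hdense : Dense (Set.range f) := by
    refine Dense.mono ?_ (W.isOpen.dense ⟨w, hw⟩)
    intro v hv
    obtain ⟨u, hu⟩ := (ConcreteCategory.bijective_of_isIso (f ∣_ W).base).2 ⟨v, hv⟩
    exact ⟨u.1, (morphismRestrict_base_coe f W u).symm.trans (congrArg Subtype.val hu)⟩
  have hgen : f (genericPoint Y) = genericPoint X := by
    refine ((genericPoint_spec Y).image f.continuous).eq ?_
    rw [Set.image_univ, hdense.closure_eq]
    exact genericPoint_spec X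
  have hbir : IsIso (f.stalkMap (genericPoint Y)) :=
    ((MorphismProperty.isomorphisms CommRingCat).arrow_mk_iso_iff
      (morphismRestrictStalkMap f W ⟨genericPoint Y, hgY⟩)).1
        ((IsOpenImmersion.iff_isIso_stalkMap.mp (inferInstance : IsOpenImmersion (f ∣_ W))).2 _)
  subst hy
  exact Groth.Agent.H26.BirationalZMT.exists_isIso_morphismRestrict f hgen hbir y hx hq

end Groth.Agent.S1655
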