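import Groth.Statements.S16552
import Groth.Agent.Lib.ModelFibre.Centered
import Mathlib.AlgebraicGeometry.Morphisms.QuasiFinite

set_option autoImplicit false
universe u
open CategoryTheory CategoryTheory.Limits AlgebraicGeometry
open Models

namespace Groth.Agent.S16552

open IsLocalRing TopologicalSpace Groth.Agent.Lib.ModelFibre

theorem stalkSpecializes_injective {X : Scheme.{u}} [IsIntegral X] {p y : X} (h : p ⤳ y)
    (hp : p = genericPoint X) : Function.Injective (X.presheaf.stalkSpecializes h) := by
  subst hp
  exact IsFractionRing.injective (X.presheaf.stalk y) X.functionField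

/-- Over a closed point of the first factor, the second projection of a product of proper schemes separates
specializations. -/
theorem eq_of_specializes_of_snd_eq {X W S : Scheme.{u}} [IsAffine S] (f : X ⟶ S) (g : W ⟶ S) [IsProper f]
    {Z : Scheme.{u}} (j : Z ⟶ pullback f g) [IsPreimmersion j]
    {x : X} (hx : IsClosed {x}) (e e' : (j ≫ pullback.fst f g).fiber x) (h : e ⤳ e')
    (heq : ((j ≫ pullback.fst f g).fiberι x ≫ j ≫ pullback.snd f g) e =
      ((j ≫ pullback.fst f g).fiberι x ≫ j ≫ pullback.snd f g) e') : e = e' := by
  haveI : IsClosedImmersion (X.fromSpecResidueField x) := isClosed_singleton_iff_isClosedImmersion.1 hx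
  haveI : IsProper (X.fromSpecResidueField x ≫ f) := inferInstance
  haveI : IsFinite (X.fromSpecResidueField x ≫ f) :=
    IsFinite.iff_isProper_and_isAffineHom.2 ⟨inferInstance, inferInstance⟩
  haveI : IsFinite (pullback.snd (X.fromSpecResidueField x ≫ f) g) :=
    IsFinite.iff_isProper_and_isAffineHom.2 ⟨inferInstance, inferInstance⟩
  let m : pullback (X.fromSpecResidueField x ≫ f) g ⟶ pullback f g :=
    pullback.lift (pullback.fst _ g ≫ X.fromSpecResidueField x) (pullback.snd _ g)
      (by rw [Category.assoc, pullback.condition])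
  let t : (j ≫ pullback.fst f g).fiber x ⟶ pullback (X.fromSpecResidueField x ≫ f) g :=
    pullback.lift ((j ≫ pullback.fst f g).fiberToSpecResidueField x) ((j ≫ pullback.fst f g).fiberι x ≫ j ≫ pullback.snd f g) (by
      rw [← Category.assoc, ← Scheme.Hom.fiber_fac]
      simp only [Category.assoc, pullback.condition])
  have htm : t ≫ m = (j ≫ pullback.fst f g).fiberι x ≫ j := by
    apply pullback.hom_ext
    · simp only [t, m, Category.assoc, pullback.lift_fst, pullback.lift_fst_assoc]
      rw [← Scheme.Hom.fiber_fac]
    · simp only [t, m, Category.assoc, pullback.lift_snd]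
  have hts : t ≫ pullback.snd _ g = (j ≫ pullback.fst f g).fiberι x ≫ j ≫ pullback.snd f g := pullback.lift_snd _ _ _
  have hdisc := (pullback.snd (X.fromSpecResidueField x ≫ f) g).isDiscrete_preimage_singleton
    (((j ≫ pullback.fst f g).fiberι x ≫ j ≫ pullback.snd f g) e)
  have h1 : pullback.snd (X.fromSpecResidueField x ≫ f) g (t e) =
      ((j ≫ pullback.fst f g).fiberι x ≫ j ≫ pullback.snd f g) e := by rw [← Scheme.Hom.comp_apply, hts]
  have h2 : pullback.snd (X.fromSpecResidueField x ≫ f) g (t e') =
      ((j ≫ pullback.fst f g).fiberι x ≫ j ≫ pullback.snd f g) e := by rw [← Scheme.Hom.comp_apply, hts, heq]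
  haveI := hdisc.to_subtype
  have h3 : (⟨t e, h1⟩ : (pullback.snd (X.fromSpecResidueField x ≫ f) g) ⁻¹' {_}) = ⟨t e', h2⟩ :=
    ((subtype_specializes_iff _ _).2 (h.map t.continuous)).eq
  have h4 : t e = t e' := congrArg Subtype.val h3
  have h5 : ((j ≫ pullback.fst f g).fiberι x ≫ j) e = ((j ≫ pullback.fst f g).fiberι x ≫ j) e' := by
    rw [← htm, Scheme.Hom.comp_apply, Scheme.Hom.comp_apply, h4]
  exact ((j ≫ pullback.fst f g).fiberι x ≫ j).isEmbedding.injective h5

/-- Let R be a discrete valuation ring with fraction field K, C a smooth proper curve over K with H^0(C,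
O_C) = K, and XR, WR two models of C over R — integral normal schemes, proper and flat over Spec R,
with generic fibres identified with C through iX and iW. For a point x of either model, view its
local ring inside the function field of C (the stalk of C at its generic point η) through the
specialization map to the stalk at the image of η followed by the stalk map of iX or iW. Suppose
that for every point ξ of WR whose closure is an irreducible component of the special fibre there is
a point ξ' of XR whose closure is an irreducible component of the special fibre and whose local ring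
has the same image in the function field as that of ξ (the centre of the discrete valuation ring
O_{WR,ξ} on XR is a generic point of the special fibre). Then the identification of generic fibres
extends to an R-morphism XR -> WR. The published statement takes both models projective over R; this
row asks them only to be proper, which the argument allows. -/
theorem result
    (R : Type u) [CommRing R] [IsDomain R] [IsDiscreteValuationRing R]
    (C : Scheme.{u}) [IsIntegral C] (fC : C ⟶ Spec (CommRingCat.of (FractionRing R)))
    (hC : Curve.IsSmoothProperCurve (FractionRing R) C fC) (hC0 : IsIso fC.appTop)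
    (XR WR : Over (Spec (CommRingCat.of R))) [IsIntegral XR.left] [IsIntegral WR.left]
    (hXn : Pi1.IsNormalScheme XR.left) (hWn : Pi1.IsNormalScheme WR.left)
    [IsProper XR.hom] [Flat XR.hom] [IsProper WR.hom] [Flat WR.hom]
    (iX : C ⟶ XR.left) (hiX : IsPullback iX fC XR.hom (Spec.map (CommRingCat.ofHom (algebraMap R (FractionRing R)))))
    (iW : C ⟶ WR.left) (hiW : IsPullback iW fC WR.hom (Spec.map (CommRingCat.ofHom (algebraMap R (FractionRing R)))))
    (H : ∀ (ξ : WR.left) (hξ : iW.base (genericPoint C) ⤳ ξ),
      closure ({ξ} : Set WR.left) ∈ Models.fibreComponents R WR →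
        ∃ (ξ' : XR.left) (hξ' : iX.base (genericPoint C) ⤳ ξ'),
          closure ({ξ'} : Set XR.left) ∈ Models.fibreComponents R XR ∧
          Set.range ((iX.stalkMap (genericPoint C)).hom.comp (XR.left.presheaf.stalkSpecializes hξ').hom) =
            Set.range ((iW.stalkMap (genericPoint C)).hom.comp (WR.left.presheaf.stalkSpecializes hξ).hom)) :
    ∃ φ : XR ⟶ WR, iX ≫ φ.left = iW := by
  obtain ⟨hCp, hCs, -, hCd⟩ := hC
  have oX := SmoothGeneric.isOpenImmersion_gK hiX
  have oW := SmoothGeneric.isOpenImmersion_gK hiW
  haveI := hCp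
  haveI : IsLocallyNoetherian XR.left := LocallyOfFiniteType.isLocallyNoetherian XR.hom
  haveI : IsLocallyNoetherian WR.left := LocallyOfFiniteType.isLocallyNoetherian WR.hom
  have hX2 := Horizontal.ringKrullDim_stalk_le_two XR.hom fC iX hiX (le_of_eq hCd)
  have hW2 := Horizontal.ringKrullDim_stalk_le_two WR.hom fC iW hiW (le_of_eq hCd)
  set η := genericPoint C with hη
  have hgX : iX η = genericPoint XR.left := genericPoint_eq_of_isOpenImmersion iX
  have hgW : iW η = genericPoint WR.left := genericPoint_eq_of_isOpenImmersion iW
  haveI : CompactSpace C := QuasiCompact.compactSpace_of_compactSpace fC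
  haveI : IsProper (pullback.fst XR.hom WR.hom) := inferInstance
  haveI : IsProper (pullback.snd XR.hom WR.hom) := inferInstance
  haveI : QuasiSeparatedSpace XR.left := quasiSeparatedSpace_of_quasiSeparated XR.hom
  haveI : QuasiSeparatedSpace ↑(pullback XR.hom WR.hom) :=
    quasiSeparatedSpace_of_quasiSeparated (pullback.fst XR.hom WR.hom)
  let u : C ⟶ pullback XR.hom WR.hom := pullback.lift iX iW (hiX.w.trans hiW.w.symm)
  haveI : QuasiCompact u := quasiCompact_of_compactSpace u
  haveI : IsClosedImmersion u.imageι := inferInstanceAs (IsClosedImmersion u.ker.subschemeι)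
  haveI : AlgebraicGeometry.IsReduced u.image := Lib.Chow.Core.isReduced_image u
  have hdense : DenseRange u.toImage := u.toImage.denseRange
  haveI : IrreducibleSpace ↥u.image := by
    have h0 := ((IrreducibleSpace.isIrreducible_univ C).image u.toImage
      u.toImage.continuous.continuousOn).closure
    rw [Set.image_univ, hdense.closure_range] at h0
    exact (irreducibleSpace_def _).2 h0
  haveI : IsIntegral u.image := isIntegral_of_irreducibleSpace_of_isReduced u.image
  have hgZ : u.toImage η = genericPoint u.image := by
    have h0 := (genericPoint_spec C).image u.toImage.continuous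
    rw [Set.image_univ, hdense.closure_range] at h0
    exact h0.eq (genericPoint_spec _)
  let q1 : u.image ⟶ XR.left := u.imageι ≫ pullback.fst XR.hom WR.hom
  let q2 : u.image ⟶ WR.left := u.imageι ≫ pullback.snd XR.hom WR.hom
  haveI : IsProper q1 := inferInstanceAs (IsProper (u.imageι ≫ _))
  haveI : IsProper q2 := inferInstanceAs (IsProper (u.imageι ≫ _))
  have hq : q1 ≫ XR.hom = q2 ≫ WR.hom := by simp only [q1, q2, Category.assoc, pullback.condition]
  have hq1 : u.toImage ≫ q1 = iX := by
    simp only [q1, Scheme.Hom.toImage_imageι_assoc]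
    exact pullback.lift_fst _ _ _
  have hq2 : u.toImage ≫ q2 = iW := by
    simp only [q2, Scheme.Hom.toImage_imageι_assoc]
    exact pullback.lift_snd _ _ _
  have hbir : ∀ {Y : Scheme.{u}} (q : u.image ⟶ Y), IsOpenImmersion (u.toImage ≫ q) →
      Function.Bijective (q.stalkMap (genericPoint u.image)) := by
    intro Y q hop
    haveI := hop
    rw [← hgZ]
    have hb : Function.Bijective ((u.toImage ≫ q).stalkMap η) := ConcreteCategory.bijective_of_isIso _
    rw [Scheme.Hom.stalkMap_comp] at hb
    replace hb : Function.Bijective
        ((u.toImage.stalkMap η).hom ∘ (q.stalkMap (u.toImage η)).hom) := hb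
    have hf : IsField (u.image.presheaf.stalk (u.toImage η)) := by
      rw [hgZ]; exact Field.toIsField u.image.functionField
    letI := hf.toField
    have hinj : Function.Injective (u.toImage.stalkMap η) :=
      RingHom.injective (u.toImage.stalkMap η).hom
    exact (Function.Bijective.of_comp_iff' ⟨hinj, hb.2.of_comp⟩ _).1 hb
  have hb1 := hbir q1 (by rw [hq1]; exact oX)
  have hb2 := hbir q2 (by rw [hq2]; exact oW)
  have hg1 : q1 (genericPoint u.image) = genericPoint XR.left := by
    rw [← hgZ, ← Scheme.Hom.comp_apply, hq1, hgX]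
  have hg2 : q2 (genericPoint u.image) = genericPoint WR.left := by
    rw [← hgZ, ← Scheme.Hom.comp_apply, hq2, hgW]
  have hfin : ∀ x, (q1 ⁻¹' {x}).Finite := by
    intro x
    by_contra hinf
    have hx1 : ¬ ringKrullDim (XR.left.presheaf.stalk x) ≤ 1 := fun h =>
      hinf (Lib.ZMTStein.finite_fibre q1 hg1 hb1 x h)
    have hxc : IsClosed ({x} : Set XR.left) := by
      refine isClosed_of_closure_subset fun x' hx' => ?_
      by_contra hne
      exact hx1 (Centered.ringKrullDim_stalk_le_one (hX2 x') (specializes_iff_mem_closure.2 hx')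
        (fun h => hne h.symm))
    have hxs : XR.hom x = closedPoint R := by
      have h0 : IsClosed ({XR.hom x} : Set (Spec (CommRingCat.of R))) := by
        have h1 := XR.hom.isClosedMap {x} hxc
        rwa [Set.image_singleton] at h1
      exact ((IsLocalRing.specializes_closedPoint (XR.hom x)).mem_closed h0 rfl).symm
    obtain ⟨e, e', hee, hne⟩ := Centered.exists_specializes_of_infinite q1 x hinf
    have hEx : ∀ a : q1.fiber x, q1 (q1.fiberι x a) = x := fun a => by
      have h1 : q1.fiberι x a ∈ Set.range (q1.fiberι x) := ⟨a, rfl⟩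
      rw [q1.range_fiberι] at h1
      exact h1
    have hwne : q2 (q1.fiberι x e) ≠ q2 (q1.fiberι x e') := fun h =>
      hne (eq_of_specializes_of_snd_eq XR.hom WR.hom u.imageι hxc e e' hee h)
    have hww : q2 (q1.fiberι x e) ⤳ q2 (q1.fiberι x e') :=
      (hee.map (q1.fiberι x).continuous).map q2.continuous
    have hws : ∀ a : q1.fiber x, WR.hom (q2 (q1.fiberι x a)) = closedPoint R := fun a => by
      rw [← Scheme.Hom.comp_apply, ← hq, Scheme.Hom.comp_apply, hEx, hxs]
    set w := q2 (q1.fiberι x e) with hw
    set w' := q2 (q1.fiberι x e')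
    have hgs : genericPoint WR.left ∉ Models.specialFibreSet R WR := by
      intro hmem
      have h1 : (iW ≫ WR.hom) η = closedPoint R := by rw [Scheme.Hom.comp_apply, hgW]; exact hmem
      rw [hiW.w] at h1
      have h2 := congrArg PrimeSpectrum.asIdeal h1
      have h3 : (fC η).asIdeal = ⊥ := (Ideal.eq_bot_or_top _).resolve_right (fC η).isPrime.ne_top
      change Ideal.comap (algebraMap R (FractionRing R)) (fC η).asIdeal = maximalIdeal R at h2
      rw [h3, Ideal.comap_bot_of_injective _ (IsFractionRing.injective R (FractionRing R))] at h2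
      exact IsDiscreteValuationRing.not_a_field R h2.symm
    have hwsub : closure ({w} : Set WR.left) ⊆ Models.specialFibreSet R WR :=
      (Models.isClosed_specialFibreSet R WR).closure_subset_iff.2 (Set.singleton_subset_iff.2 (hws e))
    have hcomp : closure ({w} : Set WR.left) ∈ Models.fibreComponents R WR := by
      refine ⟨⟨isIrreducible_singleton.closure, hwsub⟩, fun T hT hle => ?_⟩
      have hζ := hT.1.isGenericPoint_genericPoint_closure
      have hζw : hT.1.genericPoint ⤳ w := hζ.specializes (subset_closure (hle (subset_closure rfl)))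
      have hζs : hT.1.genericPoint ∈ Models.specialFibreSet R WR :=
        ((Models.isClosed_specialFibreSet R WR).closure_subset_iff.2 hT.2) hζ.mem
      have heq : hT.1.genericPoint = w := by
        by_contra hne0
        exact hgs ((Centered.eq_genericPoint_of_chain (hW2 w') hζw hne0 hww hwne rfl) ▸ hζs)
      exact fun t ht => specializes_iff_mem_closure.1 (heq ▸ hζ.specializes (subset_closure ht))
    have hw1 : ringKrullDim (WR.left.presheaf.stalk w) ≤ 1 :=
      Centered.ringKrullDim_stalk_le_one (hW2 w') hww hwne
    have hξ : iW η ⤳ w := by rw [hgW]; exact genericPoint_specializes w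
    obtain ⟨ξ', hξ', -, hr⟩ := H w hξ hcomp
    let φA : XR.left.presheaf.stalk ξ' ⟶ C.presheaf.stalk η :=
      XR.left.presheaf.stalkSpecializes hξ' ≫ iX.stalkMap η
    let φB : WR.left.presheaf.stalk w ⟶ C.presheaf.stalk η :=
      WR.left.presheaf.stalkSpecializes hξ ≫ iW.stalkMap η
    have hAi : Function.Injective φA.hom :=
      (ConcreteCategory.bijective_of_isIso (iX.stalkMap η)).1.comp (stalkSpecializes_injective hξ' hgX)
    have hBi : Function.Injective φB.hom :=
      (ConcreteCategory.bijective_of_isIso (iW.stalkMap η)).1.comp (stalkSpecializes_injective hξ hgW)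
    have hrr : φA.hom.range = φB.hom.range := SetLike.coe_injective (by
      rw [RingHom.coe_range, RingHom.coe_range]; exact hr)
    let eB := RingEquiv.ofBijective φB.hom.rangeRestrict
      ⟨fun a b h => hBi (congrArg Subtype.val h), φB.hom.rangeRestrict_surjective⟩
    let eA := RingEquiv.ofBijective φA.hom.rangeRestrict
      ⟨fun a b h => hAi (congrArg Subtype.val h), φA.hom.rangeRestrict_surjective⟩
    let αe : XR.left.presheaf.stalk ξ' ≃+* WR.left.presheaf.stalk w :=
      eA.trans ((RingEquiv.subringCongr hrr).trans eB.symm)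
    let α : XR.left.presheaf.stalk ξ' ⟶ WR.left.presheaf.stalk w := CommRingCat.ofHom αe.toRingHom
    have hα : α ≫ φB = φA := by
      ext a
      exact congrArg Subtype.val (eB.apply_symm_apply ((RingEquiv.subringCongr hrr) (eA a)))
    have hKA : Spec.map φA ≫ XR.left.fromSpecStalk ξ' = C.fromSpecStalk η ≫ iX := by
      simp only [φA, Spec.map_comp, Category.assoc, Scheme.SpecMap_stalkSpecializes_fromSpecStalk,
        Scheme.SpecMap_stalkMap_fromSpecStalk]
    have hKB : Spec.map φB ≫ WR.left.fromSpecStalk w = C.fromSpecStalk η ≫ iW := by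
      simp only [φB, Spec.map_comp, Category.assoc, Scheme.SpecMap_stalkSpecializes_fromSpecStalk,
        Scheme.SpecMap_stalkMap_fromSpecStalk]
    haveI : IsDominant (Spec.map φB) := ⟨by
      refine (PrimeSpectrum.denseRange_comap_iff_ker_le_nilRadical φB.hom).2 ?_
      rw [(RingHom.injective_iff_ker_eq_bot φB.hom).1 hBi]
      exact bot_le⟩
    have hKα : Spec.map φB ≫ Spec.map α ≫ XR.left.fromSpecStalk ξ' = C.fromSpecStalk η ≫ iX := by
      rw [← Spec.map_comp_assoc, hα, hKA]
    have hcond : (Spec.map α ≫ XR.left.fromSpecStalk ξ') ≫ XR.hom = WR.left.fromSpecStalk w ≫ WR.hom := by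
      refine ext_of_isDominant_of_isSeparated (terminal.from _) (terminal.hom_ext _ _) (Spec.map φB) ?_
      simp only [Category.assoc]
      rw [reassoc_of% hKB, reassoc_of% hKα, hiX.w, hiW.w]
    let a := pullback.lift _ _ hcond
    have hKa : Spec.map φB ≫ a = (C.fromSpecStalk η ≫ u.toImage) ≫ u.imageι := by
      rw [Category.assoc, Scheme.Hom.toImage_imageι]
      apply pullback.hom_ext
      · simp only [a, u, Category.assoc, pullback.lift_fst, hKα]
      · simp only [a, u, Category.assoc, pullback.lift_snd, hKB]
    have hmem : a (closedPoint (WR.left.presheaf.stalk w)) ∈ Set.range u.imageι := by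
      have h1 : Set.range a ⊆ closure (Set.range (a ∘ Spec.map φB)) :=
        a.continuous.range_subset_closure_image_dense (Spec.map φB).denseRange |>.trans
          (closure_mono (by rw [Set.range_comp]))
      refine (closure_minimal ?_ u.imageι.isClosedEmbedding.isClosed_range) (h1 ⟨_, rfl⟩)
      rintro _ ⟨s, rfl⟩
      exact ⟨(C.fromSpecStalk η ≫ u.toImage) s, by
        rw [Function.comp_apply, ← Scheme.Hom.comp_apply, ← Scheme.Hom.comp_apply, hKa]⟩
    obtain ⟨z0, hz0⟩ := hmem
    have hz2 : q2 z0 = w := by
      show pullback.snd XR.hom WR.hom (u.imageι z0) = w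
      rw [hz0]
      exact (congrArg (fun g : Spec _ ⟶ WR.left => g (closedPoint (WR.left.presheaf.stalk w)))
        (pullback.lift_snd _ _ hcond)).trans Scheme.fromSpecStalk_closedPoint
    have hz1 : q1 z0 = ξ' := by
      show pullback.fst XR.hom WR.hom (u.imageι z0) = ξ'
      haveI : IsLocalHom α.hom := isLocalHom_toRingHom αe
      rw [hz0]
      refine (congrArg (fun g : Spec _ ⟶ XR.left => g (closedPoint (WR.left.presheaf.stalk w)))
        (pullback.lift_fst _ _ hcond)).trans ?_
      exact (congrArg (XR.left.fromSpecStalk ξ') (IsLocalRing.comap_closedPoint α.hom)).trans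
        Scheme.fromSpecStalk_closedPoint
    have hE : z0 = q1.fiberι x e :=
      Centered.subsingleton_fibre q2 hWn hg2 hb2 hw1 hz2 hw.symm
    rw [hE, hEx] at hz1
    apply hx1
    rw [hz1, ringKrullDim_eq_of_ringEquiv αe]
    exact hw1
  haveI := Centered.isIso_of_finite q1 hXn hg1 hb1 hfin
  refine ⟨Over.homMk (inv q1 ≫ q2) (by simp [← hq]), ?_⟩
  show iX ≫ inv q1 ≫ q2 = iW
  conv_lhs => rw [← hq1, Category.assoc, IsIso.hom_inv_id_assoc]
  exact hq2

end Groth.Agent.S16552
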