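import Groth.Statements.S16554
import Groth.Agent.Lib.ModelFibre.Horizontal

set_option autoImplicit false
universe u
open CategoryTheory CategoryTheory.Limits AlgebraicGeometry
attribute [local instance] Curv2.resAlgebra
open Models

namespace Groth.Agent.S16554
open Groth.Agent.Lib.ModelFibre

/-- Let R be a Henselian discrete valuation ring with algebraically closed residue field and fraction
field K, C a smooth proper curve over K with H^0(C, O_C) = K, and XR a regular model of C over R: an
integral scheme all of whose local rings are regular, proper and flat over Spec R, with generic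
fibre identified with C through iX. Let x be a closed point of the special fibre of XR and Γ_1, ...,
Γ_n vertical prime divisors with pairwise distinct supports which are exactly the irreducible
components of the special fibre containing x, with multiplicities r_1, ..., r_n. If P is a closed
point of C whose closure in XR meets the special fibre only in x, then the degree [κ(P) : K] equals
c_1 r_1 + ... + c_n r_n for some positive integers c_i. -/
theorem result
    (R : Type u) [CommRing R] [IsDomain R] [IsDiscreteValuationRing R] [HenselianLocalRing R]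
    (hk : IsAlgClosed (IsLocalRing.ResidueField R))
    (C : Scheme.{u}) [C.Over (Spec (CommRingCat.of (FractionRing R)))]
    (hC : Curve.IsSmoothProperCurve (FractionRing R) C (C ↘ Spec (CommRingCat.of (FractionRing R))))
    (hC0 : IsIso (C ↘ Spec (CommRingCat.of (FractionRing R))).appTop)
    (XR : Over (Spec (CommRingCat.of R))) [IsIntegral XR.left]
    (hreg : ∀ y : XR.left, IsRegularLocalRing (XR.left.presheaf.stalk y))
    [IsProper XR.hom] [Flat XR.hom]
    (iX : C ⟶ XR.left)
    (hiX : IsPullback iX (C ↘ Spec (CommRingCat.of (FractionRing R))) XR.hom (Spec.map (CommRingCat.ofHom (algebraMap R (FractionRing R)))))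
    (x : XR.left) (hx : IsClosed ({x} : Set XR.left)) (hxs : x ∈ Models.specialFibreSet R XR)
    {n : ℕ} (Γ : Fin n → ArSurf.VertComp R XR)
    (hinj : Function.Injective fun i => Set.range ((Γ i).ι.base : (Γ i).curve.left → XR.left))
    (hΓ : ∀ Z ∈ Models.fibreComponents R XR,
      x ∈ Z ↔ ∃ i, Set.range ((Γ i).ι.base : (Γ i).curve.left → XR.left) = Z)
    (P : C) (hP : IsClosed ({P} : Set C))
    (hPx : closure ({iX.base P} : Set XR.left) ∩ Models.specialFibreSet R XR = {x}) :
    ∃ c : Fin n → ℕ, (∀ i, 1 ≤ c i) ∧
      Module.finrank (FractionRing R) (C.residueField P) = ∑ i, c i * Models.mult R XR (Γ i) := by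
  obtain ⟨π, hπ⟩ := IsDiscreteValuationRing.exists_irreducible R
  obtain ⟨hprop, hsm, hint, hdim⟩ := hC
  have := SmoothGeneric.isOpenImmersion_gK hiX
  have hgenni : genericPoint XR.left ∉ Models.specialFibreSet R XR := fun h => by
    have h0 : iX (genericPoint C) = genericPoint XR.left := genericPoint_eq_of_isOpenImmersion iX
    have h1 : genericPoint XR.left ∈ Set.range iX := ⟨_, h0⟩
    rw [SmoothGeneric.range_gK hiX hπ, RegularExt.basicOpen_toGlobal] at h1
    have h' : XR.hom (genericPoint XR.left) = IsLocalRing.closedPoint R := h
    apply h1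
    show π ∈ (XR.hom (genericPoint XR.left)).asIdeal
    rw [h']
    exact hπ.maximalIdeal_eq.ge (Ideal.mem_span_singleton_self π)
  have hdim2 : ∀ z, ringKrullDim (XR.left.presheaf.stalk z) ≤ 2 :=
    Horizontal.ringKrullDim_stalk_le_two XR.hom _ iX hiX hdim.le
  have hcomp := fun i => Horizontal.range_mem_fibreComponents XR hdim2 hgenni (Γ i)
  obtain ⟨a, ha, hassoc⟩ := Horizontal.exists_local_equations XR.hom hreg x hπ Γ hinj hcomp
    (fun i => (hΓ _ (hcomp i)).2 ⟨i, rfl⟩) (fun S hS hxS => (hΓ S hS).1 hxS)
  exact Horizontal.exists_coeff XR.hom _ iX hiX hπ x P hP hPx rfl a ha _ hassoc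

end Groth.Agent.S16554
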