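import Groth.Statements.S16555
import Groth.Agent.S15137
import Groth.Agent.S7907
import Groth.Agent.S0042
import Groth.Agent.S7834
import Groth.Agent.S9687
import Groth.Agent.S14512
import Groth.Agent.Lib.FibreVanish36.Affine
import Groth.Agent.Lib.CohDelta.SerreRel
import Groth.Agent.Lib.Flat55.DimIneqFibre
import Groth.Agent.Lib.Cyc.Residue
import Groth.Agent.Lib.ClSub.Quot
import Groth.Agent.Lib.SchTopo.Basic
import Groth.Agent.H34.Stein.HenselianEtale
import Groth.Agent.H2.Rigid.GeomIrred
import Mathlib.FieldTheory.FinTrdeg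

/-!
# Exceptional curves over a rational singularity are projective lines
-/

set_option linter.style.haveILetI false

set_option autoImplicit false
universe u
open CategoryTheory CategoryTheory.Limits AlgebraicGeometry
open Models

namespace Groth.Agent.S16555

open Groth.Agent Groth.Agent.Lib Opposite TopologicalSpace CategoryTheory.Abelian
open Groth.Agent.Lib.ZarCoh.Basic (Zs)

section Dim

variable {Y Z : Scheme.{u}} [IsIntegral Y] [IsIntegral Z] [IsLocallyNoetherian Y] (π : Z ⟶ Y)
  [IsProper π] (U : Y.Opens) (hU : (U : Set Y).Nonempty) [IsIso (π ∣_ U)]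

include π hU in
/-- A birational proper morphism does not raise the dimension. -/
theorem dim_le {n : ℕ} (hd : topologicalKrullDim Y ≤ n) : topologicalKrullDim Z ≤ n := by
  obtain ⟨hgen, hst⟩ := S15137.gen_props π U hU
  refine Flat55.DimIneqFibre.topologicalKrullDim_le_of_forall_stalk _ fun x => ?_
  letI := (π.residueFieldMap x).hom.toAlgebra
  haveI : Algebra.EssFiniteType (Y.residueField (π x)) (Z.residueField x) :=
    Cyc.Residue.residueFieldMap_essFiniteType x
  obtain ⟨m, hm⟩ := Cardinal.lt_aleph0.mp (trdeg_lt_aleph0 (Y.residueField (π x)) (Z.residueField x))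
  have hη : ∀ ξ : Z, closure {ξ} ∈ irreducibleComponents ↥Z → ξ ⤳ x →
      letI := (π.residueFieldMap ξ).hom.toAlgebra
      Algebra.trdeg (Y.residueField (π.base ξ)) (Z.residueField ξ) ≤ ((0 : ℕ) : Cardinal.{u}) := by
    intro ξ hξ _
    rw [irreducibleComponents_eq_singleton, Set.mem_singleton_iff] at hξ
    obtain rfl : ξ = genericPoint Z :=
      ((isGenericPoint_closure (x := ξ)).eq (show IsGenericPoint (genericPoint Z) (closure {ξ}) from
        hξ ▸ genericPoint_spec Z))
    letI := (π.residueFieldMap (genericPoint Z)).hom.toAlgebra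
    have hsurj : Function.Surjective (π.residueFieldMap (genericPoint Z)).hom := fun v => by
      obtain ⟨a, rfl⟩ := Z.residue_surjective (genericPoint Z) v
      obtain ⟨b, rfl⟩ := (ConcreteCategory.bijective_of_isIso (π.stalkMap (genericPoint Z))).2 a
      exact ⟨Y.residue _ b, ConcreteCategory.congr_hom (Scheme.residue_residueFieldMap π _) b⟩
    haveI : Algebra.IsAlgebraic (Y.residueField (π (genericPoint Z))) (Z.residueField (genericPoint Z)) :=
      ⟨fun v => by
        obtain ⟨b, rfl⟩ := hsurj v
        exact isAlgebraic_algebraMap b⟩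
    rw [Nat.cast_zero, trdeg_eq_zero]
  have h := Groth.Agent.S9687.result π x m 0 hm hη
  have hy : ringKrullDim (Y.presheaf.stalk (π x)) ≤ n := by
    rw [ringKrullDim_stalk_eq_coheight]
    exact (SmoothCurve.Stalk.coheight_le_topologicalKrullDim _).trans hd
  simp only [Nat.cast_zero, add_zero] at h
  exact (le_add_of_nonneg_right (Nat.cast_nonneg' m)).trans (h.trans hy)

include π hU in
/-- Fibres of a birational proper morphism from a surface have dimension at most one. -/
theorem fibre_dim_le_one (hd : topologicalKrullDim Y ≤ 2) (w : Y) :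
    topologicalKrullDim ↥(π.fiber w) ≤ 1 := by
  obtain ⟨hgen, -⟩ := S15137.gen_props π U hU
  have hηU : genericPoint Y ∈ U := (genericPoint_specializes hU.some).mem_open U.2 hU.some_mem
  rw [SchTopo.Basic.topologicalKrullDim_eq_krullDim_scheme]
  refine iSup_le fun s => ?_
  by_contra hlt
  have hlen : 2 ≤ s.length := by
    by_contra h
    exact hlt (by exact_mod_cast (show s.length ≤ 1 by omega))
  let p : Fin 3 → Z := fun i => π.fiberι w (s ⟨i.1, by omega⟩)
  have hp : ∀ i, π (p i) = w := fun i => by
    have h : p i ∈ Set.range (π.fiberι w) := ⟨_, rfl⟩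
    rwa [π.range_fiberι] at h
  have hlt' : ∀ i j : Fin 3, i < j → p j ⤳ p i ∧ p i ≠ p j := fun i j hij => by
    have h := s.strictMono (show (⟨i.1, by omega⟩ : Fin (s.length + 1)) < ⟨j.1, by omega⟩ from hij)
    have hs : (s ⟨j.1, by omega⟩) ⤳ (s ⟨i.1, by omega⟩) := h.le
    exact ⟨hs.map (π.fiberι w).continuous,
      fun he => h.ne ((π.fiberι w).isEmbedding.injective he)⟩
  by_cases hw : p 2 = genericPoint Z
  · have hwη : w = genericPoint Y := by rw [← hp 2, hw, hgen]
    have hmem : ∀ i, p i ∈ π ⁻¹ᵁ U := fun i => by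
      show π (p i) ∈ U
      rw [hp i, hwη]
      exact hηU
    have hinj : Function.Injective (π ∣_ U) := (Scheme.homeoOfIso (asIso (π ∣_ U))).injective
    have h01 : (⟨p 0, hmem 0⟩ : (π ⁻¹ᵁ U : Z.Opens)) = ⟨p 1, hmem 1⟩ := by
      refine hinj (U.ι.isOpenEmbedding.injective ?_)
      have h0 : ∀ q : (π ⁻¹ᵁ U : Z.Opens), U.ι ((π ∣_ U) q) = π q.1 := fun q => by
        show ((π ∣_ U) ≫ U.ι) q = ((π ⁻¹ᵁ U).ι ≫ π) q
        rw [morphismRestrict_ι]
      rw [h0, h0]
      exact (hp 0).trans (hp 1).symm
    exact (hlt' 0 1 (by decide)).2 (congrArg Subtype.val h01)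
  · let t : LTSeries Z := ⟨3, ![p 0, p 1, p 2, genericPoint Z], fun i => by
      fin_cases i
      · exact lt_of_le_not_ge (hlt' 0 1 (by decide)).1 fun h =>
          (hlt' 0 1 (by decide)).2 ((show p 0 ⤳ p 1 from h).antisymm (hlt' 0 1 (by decide)).1).eq
      · exact lt_of_le_not_ge (hlt' 1 2 (by decide)).1 fun h =>
          (hlt' 1 2 (by decide)).2 ((show p 1 ⤳ p 2 from h).antisymm (hlt' 1 2 (by decide)).1).eq
      · exact lt_of_le_not_ge (genericPoint_specializes _) fun h =>
          hw ((show p 2 ⤳ genericPoint Z from h).antisymm (genericPoint_specializes _)).eq⟩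
    have h3 : ((3 : ℕ) : WithBot ℕ∞) ≤ Order.krullDim Z := Order.LTSeries.length_le_krullDim t
    rw [← SchTopo.Basic.topologicalKrullDim_eq_krullDim_scheme] at h3
    exact absurd (h3.trans (dim_le π U hU (n := 2) (by exact_mod_cast hd))) (by decide)

end Dim

/-- `H¹` of a closed subscheme of a preimage of an affine open. -/
theorem subsingleton_H1_sub {Y Z : Scheme.{u}} (π : Z ⟶ Y) [IsProper π] [IsLocallyNoetherian Y]
    [IsLocallyNoetherian Z] (R : Type u) [CommRing R] [Z.Over (Spec (CommRingCat.of R))]
    (hfib : ∀ w : Y, topologicalKrullDim ↥(π.fiber w) ≤ 1) {W : Y.Opens} (hW : IsAffineOpen W)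
    (h1 : Subsingleton (CohTop.HU (Coh.toAb (Coh.structureModule Z)) 1 ((Opens.map π.base).obj W)))
    (I : Z.IdealSheafData) (hI : (I.support : Set Z) ⊆ π.base ⁻¹' W) :
    Subsingleton (Coh.HH I.subscheme (Coh.structureModule I.subscheme) 1) := by
  have hc := Curves.IdealTwist.isCoh_ideal I
  haveI := hc.1
  have hz : IsZero ((Coh.RpushAb π (1 + 1)).obj (Coh.toAb (_root_.ClSub.idealMod I))) :=
    FibreVanish36.Affine.isZero_of_stalk _ fun w =>
      Groth.Agent.S0042.result π w 1 (hfib w) _ hc 2 (by norm_num)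
  have h2 : Subsingleton (Ext.{u} (Zs.obj (π ⁻¹ᵁ W)) (Coh.toAb (_root_.ClSub.idealMod I)) (1 + 1)) :=
    CohDelta.SerreRel.hn_eq_zero π _ hc.1 1 hz hW
  have hS' := H34.HOne.shortExact_toAb (ClSub.Quot.idealSeq_shortExact I)
  have h3 : Subsingleton (Ext.{u} (Zs.obj (π ⁻¹ᵁ W)) (Coh.toAb (_root_.ClSub.quotMod I)) 1) := by
    refine subsingleton_of_forall_eq 0 fun z => ?_
    obtain ⟨v, rfl⟩ := Ext.covariant_sequence_exact₃ _ hS' z (show 1 + 1 = 1 + 1 from rfl)
      (h2.elim _ _)
    have hv : v = 0 := @Subsingleton.elim _ h1 v 0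
    rw [hv]
    simp
    rfl
  haveI : (Coh.structureModule I.subscheme).IsQuasicoherent :=
    TensorMod.QCohInv.isQCoh_structureModule _
  have hbij := ZarCoh.Morph.pushMap_bijective I.subschemeι (Coh.structureModule I.subscheme) (π ⁻¹ᵁ W) 1
  have htop : I.subschemeι ⁻¹ᵁ (π ⁻¹ᵁ W) = ⊤ := eq_top_iff.2 fun x _ =>
    hI (I.range_subschemeι ▸ ⟨x, rfl⟩)
  haveI h4 : Subsingleton (Ext.{u} (Zs.obj ((Opens.map I.subschemeι.base).obj (π ⁻¹ᵁ W)))
      (Coh.toAb (Coh.structureModule I.subscheme)) 1) :=
    haveI : Subsingleton (Ext.{u} (Zs.obj (π ⁻¹ᵁ W))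
      ((CohTop.push I.subschemeι.base).obj (Coh.toAb (Coh.structureModule I.subscheme))) 1) := h3
    hbij.2.subsingleton
  have h5 : Subsingleton (Ext.{u} (Zs.obj (⊤ : I.subscheme.Opens))
      (Coh.toAb (Coh.structureModule I.subscheme)) 1) := by
    rw [← htop]; exact h4
  exact @Equiv.subsingleton _ _ (ZarCoh.Compare.hTop (Coh.toAb (Coh.structureModule I.subscheme)) 1).toEquiv h5

end Groth.Agent.S16555

namespace Groth.Agent.S16555

open Groth.Agent Groth.Agent.Lib TopologicalSpace

/-- Let R be a discrete valuation ring with algebraically closed residue field k, YR an integral normal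
scheme of dimension 2, proper and flat over Spec R, ZR an integral normal scheme with a proper
R-morphism π : ZR -> YR which is an isomorphism over some nonempty open subset of YR, and y a closed
point of YR in the special fibre such that the local ring O_{YR,y} is a rational singularity and the
fibre π⁻¹(y) has dimension one. Then each irreducible component of π⁻¹(y) is, with its reduced
structure, a projective line over k: there is a closed immersion of P^1_k into ZR, compatible with
the maps to Spec R, whose image is that component. The published statement takes YR to be a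
projective normal model of a smooth geometrically connected curve; this row only asks YR integral,
normal, two-dimensional, proper and flat over R, which is all the local argument uses. (The
published statement also adds that the dual graph of π⁻¹(y) is a tree when ZR is regular; not
restated.) -/
theorem result
    (R : Type u) [CommRing R] [IsDomain R] [IsDiscreteValuationRing R]
    (hk : IsAlgClosed (IsLocalRing.ResidueField R))
    (YR ZR : Over (Spec (CommRingCat.of R))) [IsIntegral YR.left] [IsIntegral ZR.left]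
    (hYn : Pi1.IsNormalScheme YR.left) (hZn : Pi1.IsNormalScheme ZR.left)
    [IsProper YR.hom] [Flat YR.hom] (hdY : topologicalKrullDim YR.left = 2)
    (π : ZR ⟶ YR) [IsProper π.left]
    (hbir : ∃ U : YR.left.Opens, (U : Set YR.left).Nonempty ∧ IsIso (π.left ∣_ U))
    (y : YR.left) (hyc : IsClosed ({y} : Set YR.left)) (hys : y ∈ Models.specialFibreSet R YR)
    (hrat : Curv2.IsRationalSing (YR.left.presheaf.stalk y))
    (hdim : topologicalKrullDim (π.left.base ⁻¹' ({y} : Set YR.left)) = 1)
    (E : Set ZR.left)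
    (hE : Maximal (fun S : Set ZR.left => IsIrreducible S ∧ S ⊆ π.left.base ⁻¹' ({y} : Set YR.left)) E) :
    ∃ e : CohB1.ProjSpace 1 (IsLocalRing.ResidueField R) ⟶ ZR.left, IsClosedImmersion e ∧ Set.range e.base = E ∧
      e ≫ ZR.hom = CohB1.ProjSpace.toSpec 1 (IsLocalRing.ResidueField R) ≫
        Spec.map (CommRingCat.ofHom (algebraMap R (IsLocalRing.ResidueField R))) := by
  haveI := hk
  haveI : IsProper ZR.hom := by rw [← Over.w π]; infer_instance
  haveI : IsLocallyNoetherian YR.left := LocallyOfFiniteType.isLocallyNoetherian YR.hom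
  haveI : IsLocallyNoetherian ZR.left := LocallyOfFiniteType.isLocallyNoetherian ZR.hom
  obtain ⟨U, hU, hiso⟩ := hbir
  haveI := hiso
  obtain ⟨hgen, -⟩ := S15137.gen_props π.left U hU
  -- the component with its reduced structure
  have hFc : IsClosed (π.left.base ⁻¹' ({y} : Set YR.left)) := hyc.preimage π.left.continuous
  have hEc : IsClosed E := by
    refine isClosed_of_closure_subset (hE.2 ⟨hE.1.1.closure, ?_⟩ subset_closure)
    exact closure_minimal hE.1.2 hFc
  let I := Scheme.IdealSheafData.vanishingIdeal ⟨E, hEc⟩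
  haveI : IsReduced I.subscheme := H75.RedSub.isReduced_vanishingIdeal _
  have hrange : Set.range I.subschemeι = E := by
    rw [I.range_subschemeι]; rfl
  haveI : IrreducibleSpace I.subscheme := by
    rw [irreducibleSpace_def]
    refine ⟨?_, ?_⟩
    · obtain ⟨z, hz⟩ := hE.1.1.1
      rw [← hrange] at hz
      obtain ⟨x, -⟩ := hz
      exact ⟨x, trivial⟩
    · rintro u v hu hv ⟨a, -, ha⟩ ⟨c, -, hc⟩
      obtain ⟨u', hu', rfl⟩ := I.subschemeι.isClosedEmbedding.isInducing.isOpen_iff.1 hu
      obtain ⟨v', hv', rfl⟩ := I.subschemeι.isClosedEmbedding.isInducing.isOpen_iff.1 hv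
      obtain ⟨w, hwE, hw⟩ := hE.1.1.2 u' v' hu' hv' ⟨_, hrange ▸ ⟨a, rfl⟩, ha⟩ ⟨_, hrange ▸ ⟨c, rfl⟩, hc⟩
      rw [← hrange] at hwE
      obtain ⟨d, rfl⟩ := hwE
      exact ⟨d, trivial, hw⟩
  haveI : IsIntegral I.subscheme := isIntegral_of_irreducibleSpace_of_isReduced _
  -- dimension one
  have hdimE : topologicalKrullDim I.subscheme = 1 := by
    refine le_antisymm ?_ ?_
    · rw [IsHomeomorph.topologicalKrullDim_eq _
        (I.subschemeι.isClosedEmbedding.toHomeomorph.trans (Homeomorph.setCongr hrange)).isHomeomorph,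
        ← hdim]
      exact (Topology.IsEmbedding.inclusion hE.1.2).isInducing.topologicalKrullDim_le
    · by_contra hlt
      have hsub : ∀ a b : I.subscheme, a = b := by
        intro a b
        have key : ∀ x : I.subscheme, x = genericPoint I.subscheme := fun x => by
          by_contra hne
          refine hlt ?_
          rw [SchTopo.Basic.topologicalKrullDim_eq_krullDim_scheme]
          let t : LTSeries I.subscheme := ⟨1, ![x, genericPoint I.subscheme], fun i => by
            fin_cases i
            exact lt_of_le_not_ge (genericPoint_specializes x) fun h =>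
              hne ((show x ⤳ genericPoint I.subscheme from h).antisymm (genericPoint_specializes x)).eq⟩
          have ht : ((1 : ℕ) : WithBot ℕ∞) ≤ Order.krullDim I.subscheme := Order.LTSeries.length_le_krullDim t
          exact_mod_cast ht
        rw [key a, key b]
      obtain ⟨e₀⟩ := (inferInstance : Nonempty I.subscheme)
      set z := I.subschemeι e₀
      have hEz : E = {z} := by
        rw [← hrange]
        exact Set.eq_singleton_iff_unique_mem.2 ⟨⟨e₀, rfl⟩, by
          rintro _ ⟨a, rfl⟩; exact congrArg _ (hsub a e₀)⟩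
      -- the other components avoid `z`
      set F := π.left.base ⁻¹' ({y} : Set YR.left) with hFdef
      have hconn : _root_.IsPreconnected F :=
        (S7907.connected_fibre π.left hYn U hU).1 y
      haveI : CompactSpace ZR.left := QuasiCompact.compactSpace_of_compactSpace ZR.hom
      haveI : IsNoetherian ZR.left := {}
      haveI : NoetherianSpace ZR.left := inferInstance
      obtain ⟨S, hSf, hSc, hSi, hS⟩ := NoetherianSpace.exists_finite_set_isClosed_irreducible hFc
      let T := ⋃₀ {G ∈ S | z ∉ G}
      have hT : IsClosed T := by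
        rw [show T = ⋃ G ∈ {G ∈ S | z ∉ G}, G from Set.sUnion_eq_biUnion]
        exact (hSf.subset fun G hG => hG.1).isClosed_biUnion fun G hG => hSc G hG.1
      have hz : z ∈ F := hE.1.2 (hEz ▸ rfl)
      have hzc : IsClosed ({z} : Set ZR.left) := hEz ▸ hEc
      have hsplit : F ⊆ {z} ∪ T := fun q hq => by
        obtain ⟨G, hG, hqG⟩ := (hS ▸ hq : q ∈ ⋃₀ S)
        by_cases hzG : z ∈ G
        · left
          have hle : G ⊆ E := hE.2 ⟨hSi G hG, fun r hr => hS ▸ ⟨G, hG, hr⟩⟩
            (hEz ▸ Set.singleton_subset_iff.2 hzG)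
          exact hEz ▸ hle hqG
        · exact Or.inr ⟨G, ⟨hG, hzG⟩, hqG⟩
      have hT0 : F ∩ T = ∅ := by
        by_contra hne
        obtain ⟨q, hqF, hq1, hq2⟩ := isPreconnected_closed_iff.1 hconn {z} T hzc hT hsplit ⟨z, hz, rfl⟩
          (Set.nonempty_iff_ne_empty.2 hne)
        obtain ⟨G, ⟨-, hzG⟩, hqG⟩ := hq2
        exact hzG (Set.mem_singleton_iff.1 hq1 ▸ hqG)
      have hF1 : F = {z} := Set.Subset.antisymm (fun q hq => by
        rcases hsplit hq with h | h
        · exact h
        · exact absurd (show q ∈ F ∩ T from ⟨hq, h⟩) (hT0 ▸ Set.notMem_empty q))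
        (Set.singleton_subset_iff.2 hz)
      have h0 : topologicalKrullDim F = 0 := by
        rw [hF1]
        refine le_antisymm (topologicalKrullDim_zero_of_discreteTopology ({z} : Set ZR.left)) ?_
        haveI : Nonempty (IrreducibleCloseds ↥({z} : Set ZR.left)) :=
          ⟨⟨Set.univ, ⟨⟨⟨z, rfl⟩, trivial⟩, Set.subsingleton_of_subsingleton.isPreirreducible⟩, isClosed_univ⟩⟩
        exact Order.krullDim_nonneg
      rw [hdim] at h0
      exact one_ne_zero h0
  -- the structure over the residue field
  let b := Spec.map (CommRingCat.ofHom (algebraMap R (IsLocalRing.ResidueField R)))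
  haveI : IsClosedImmersion b := IsClosedImmersion.spec_of_surjective _ IsLocalRing.residue_surjective
  haveI : IsClosedImmersion (pullback.fst (I.subschemeι ≫ ZR.hom) b) :=
    MorphismProperty.of_isPullback (IsPullback.of_hasPullback (I.subschemeι ≫ ZR.hom) b).flip inferInstance
  haveI : Surjective (pullback.fst (I.subschemeι ≫ ZR.hom) b) := by
    refine ⟨fun x => ?_⟩
    rw [← Set.mem_range, Scheme.Pullback.range_fst]
    show (I.subschemeι ≫ ZR.hom) x ∈ Set.range b
    refine ⟨IsLocalRing.closedPoint _, ?_⟩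
    have hxy : π.left (I.subschemeι x) = y := hE.1.2 (hrange ▸ ⟨x, rfl⟩)
    rw [Scheme.Hom.comp_apply, ← Over.w π, Scheme.Hom.comp_apply, hxy]
    haveI : IsLocalHom (algebraMap R (IsLocalRing.ResidueField R)) :=
      inferInstanceAs (IsLocalHom (IsLocalRing.residue R))
    exact (IsLocalRing.comap_closedPoint (algebraMap R (IsLocalRing.ResidueField R))).trans hys.symm
  haveI : IsIso (pullback.fst (I.subschemeι ≫ ZR.hom) b) :=
    isIso_of_isClosedImmersion_of_surjective _
  let q : I.subscheme ⟶ Spec (CommRingCat.of (IsLocalRing.ResidueField R)) :=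
    inv (pullback.fst (I.subschemeι ≫ ZR.hom) b) ≫ pullback.snd (I.subschemeι ≫ ZR.hom) b
  have hq : q ≫ b = I.subschemeι ≫ ZR.hom := by
    simp only [q, Category.assoc, ← pullback.condition, IsIso.inv_hom_id_assoc]
  letI : I.subscheme.Over (Spec (CommRingCat.of (IsLocalRing.ResidueField R))) := ⟨q⟩
  haveI : IsProper q := by
    haveI : IsProper (q ≫ b) := hq ▸ inferInstance
    exact IsProper.of_comp q b
  haveI : IsProper (I.subscheme ↘ Spec (CommRingCat.of (IsLocalRing.ResidueField R))) := ‹IsProper q›
  -- genus zero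
  obtain ⟨V, hV, hyV, -⟩ := exists_isAffineOpen_mem_and_subset (U := (⊤ : YR.left.Opens)) (x := y) trivial
  obtain ⟨hint, hnP, hbP⟩ := S15137.localScheme_props π.left hZn hgen U hU y
  obtain ⟨V', hyV', hvan⟩ := S15137.exists_nhd_vanish π.left hV hyV
    (hrat (pullback π.left (YR.left.fromSpecStalk y)) (pullback.snd _ _)
      (MorphismProperty.of_isPullback (IsPullback.of_hasPullback π.left (YR.left.fromSpecStalk y)) inferInstance)
      hint hnP hbP)
  obtain ⟨W, hW, hyW, hWle⟩ := exists_isAffineOpen_mem_and_subset (U := V') (x := y) hyV'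
  letI : ZR.left.Over (Spec (CommRingCat.of R)) := ⟨ZR.hom⟩
  have h1 := subsingleton_H1_sub π.left R (fibre_dim_le_one π.left U hU hdY.le) hW
    (hvan W hW fun z hz => hWle hz) I (fun z hz => by
      have hzE : z ∈ E := hz
      show π.left z ∈ W
      rw [show π.left z = y from hE.1.2 hzE]
      exact hyW)
  have hg : Curv2.genus (IsLocalRing.ResidueField R) I.subscheme = 0 :=
    Module.finrank_zero_of_subsingleton
  haveI := Groth.Agent.S14512.result (IsLocalRing.ResidueField R) I.subscheme hdimE hg
  haveI := Groth.Agent.H34.Stein.geometricallyConnected_of_isSepClosed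
    (I.subscheme ↘ Spec (CommRingCat.of (IsLocalRing.ResidueField R)))
  haveI := Groth.Agent.H2.Rigid.GeomIrred.geometricallyIntegral_of_smooth
    (I.subscheme ↘ Spec (CommRingCat.of (IsLocalRing.ResidueField R)))
  obtain ⟨e, he⟩ := Groth.Agent.S7834.result (IsLocalRing.ResidueField R) I.subscheme hdimE hg
  refine ⟨e.inv ≫ I.subschemeι, inferInstance, ?_, ?_⟩
  · rw [← hrange]
    refine Set.Subset.antisymm ?_ ?_
    · rintro _ ⟨x, rfl⟩; exact ⟨e.inv x, rfl⟩
    · rintro _ ⟨x, rfl⟩
      exact ⟨e.hom x, congrArg I.subschemeι (show (e.hom ≫ e.inv) x = x by rw [e.hom_inv_id]; rfl)⟩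
  · rw [Category.assoc, ← hq]
    have : e.inv ≫ q = CohB1.ProjSpace.toSpec 1 (IsLocalRing.ResidueField R) := by
      rw [Iso.inv_comp_eq, he]
      rfl
    rw [← Category.assoc, this]

end Groth.Agent.S16555
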