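import Groth.Statements.S1809
import Groth.Agent.Lib.DualSch.Affine
import Groth.Agent.S0372

set_option autoImplicit false
universe u
open CategoryTheory CategoryTheory.Limits AlgebraicGeometry
attribute [local instance] HasDerivedCategory.standard
open Dual

namespace Groth.Agent.S1809

/-- Let X be a locally Noetherian scheme and ω a dualizing complex on X (affine-locally the derived
tilde of a dualizing complex of the ring; exactness of restriction of module sheaves to opens and of
M ↦ M~ is assumed through instance binders). Then for every point x the local ring O_{X,x} is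
Cohen–Macaulay if and only if exactly one cohomology sheaf of ω has nonzero stalk at x; and the set
of points whose local ring is Cohen–Macaulay is open. -/
theorem result (X : Scheme.{u}) [IsLocallyNoetherian X] [∀ (U : Scheme.{u}) (j : U ⟶ X) [IsOpenImmersion j], PreservesFiniteLimits (Scheme.Modules.restrictFunctor j)] [∀ (R : CommRingCat.{u}), PreservesFiniteLimits (tilde.functor R)] (ω : DCoh.D X) (hω : Dual2.IsDualizingSch X ω) : (∀ x : X, LocCoh.IsCohenMacaulayLocalRing (X.presheaf.stalk x) ↔ ∃! i : ℤ, Nontrivial ((DCoh.HD ω i).presheaf.stalk x)) ∧ IsOpen {x : X | LocCoh.IsCohenMacaulayLocalRing (X.presheaf.stalk x)} := by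
  open Groth.Agent.Lib.DualSch in
  have key : ∀ x : X, ∃ (A : Type u) (_ : CommRing A) (j : Spec (CommRingCat.of A) ⟶ X)
      (_ : IsOpenImmersion j) (p : PrimeSpectrum A), j p = x := fun x => by
    obtain ⟨U, hU, hxU, -⟩ := exists_isAffineOpen_mem_and_subset (X := X) (x := x) (U := ⊤) trivial
    obtain ⟨p, hp⟩ : x ∈ Set.range hU.fromSpec := hU.range_fromSpec.symm ▸ hxU
    exact ⟨Γ(X, U), inferInstance, hU.fromSpec, hU.isOpenImmersion_fromSpec, p, hp⟩
  refine ⟨fun x => ?_, isOpen_iff_mem_nhds.2 fun x hx => ?_⟩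
  · obtain ⟨A, _, j, _, p, rfl⟩ := key x
    obtain ⟨τ, hτ, ⟨e⟩⟩ := hω A j
    exact Groth.Agent.Lib.DualSch.Affine.cohenMacaulay_stalk_iff j e hτ p
  · obtain ⟨A, _, j, _, p, rfl⟩ := key x
    obtain ⟨τ, hτ, -⟩ := hω A j
    haveI := hτ.isNoetherianRing
    have hset : ∀ q : PrimeSpectrum A, LocCoh.IsCohenMacaulayLocalRing (X.presheaf.stalk (j q)) ↔
        LocCoh.IsCohenMacaulayLocalRing (Localization.AtPrime q.asIdeal) := fun q => by
      obtain ⟨ε⟩ := Groth.Agent.Lib.DualSch.Affine.nonempty_stalk_equiv j q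
      exact ⟨fun h => haveI := h; Groth.Agent.Lib.Excellent.Transport.isCohenMacaulayLocalRing_of_ringEquiv ε,
        fun h => haveI := h; Groth.Agent.Lib.Excellent.Transport.isCohenMacaulayLocalRing_of_ringEquiv ε.symm⟩
    refine Filter.mem_of_superset ((j.isOpenEmbedding.isOpenMap _
      (Groth.Agent.S0372.result A τ hτ).1).mem_nhds ⟨p, (hset p).1 hx, rfl⟩) ?_
    rintro _ ⟨q, hq, rfl⟩
    exact (hset q).2 hq

end Groth.Agent.S1809
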