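import Groth.Statements.S1811
import Groth.Agent.Lib.RightAdjCoh.Shriek
import Groth.Agent.Lib.RightAdjCoh.FieldBounds
import Groth.Agent.S11185
-- import your own Groth.Agent.* helpers here

set_option autoImplicit false
universe u
open CategoryTheory CategoryTheory.Limits AlgebraicGeometry
attribute [local instance] HasDerivedCategory.standard
open Dual

namespace Groth.Agent.S1811

/-- Let k be a field and X a scheme proper over k with dim X = d and structure morphism f : X → Spec k;
assume the exactness instances used to define dualizing complexes on schemes (restriction of modules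
to open subschemes and the functors M ↦ M~ on affine schemes preserve finite limits). Assume the
derived direct image Rf_* exists and preserves quasi-coherence of cohomology sheaves (both known
results), so that it restricts to a functor D_QCoh(O_X) → D_QCoh(O_{Spec k}), and let a :
D_QCoh(O_{Spec k}) → D_QCoh(O_X) be a right adjoint of this restricted functor. Let O be an object
of D_QCoh(O_{Spec k}) isomorphic to the structure sheaf placed in degree 0, and put ω = a(O). Then ω
is a dualizing complex on X; its cohomology sheaves H^i(ω) vanish for i < −d and for i > 0; and for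
every i ≤ 0 the set of points of X at which H^i(ω) has nonzero stalk has Krull dimension at most −i.
(The published statement has further parts, which are not asserted here, and is phrased with the
upper shriek f^!; for the proper morphism f, f^!O is the a(O) used here.) -/
theorem result (k : Type u) [Field k] (X : Scheme.{u}) [X.Over (Spec (CommRingCat.of k))] [IsProper (X ↘ Spec (CommRingCat.of k))] [∀ (U : Scheme.{u}) (j : U ⟶ X) [IsOpenImmersion j], PreservesFiniteLimits (Scheme.Modules.restrictFunctor j)] [∀ (R : CommRingCat.{u}), PreservesFiniteLimits (tilde.functor R)] (d : ℕ) (hd : topologicalKrullDim X = d) (f : X ⟶ Spec (CommRingCat.of k)) (hf : f = X ↘ Spec (CommRingCat.of k)) [DCoh.HasRpush f] (h : ∀ K : DCoh.D X, DCoh.IsQCohD K → DCoh.IsQCohD ((DCoh.Rpush f).obj K)) (a : DCoh.DQCoh (Spec (CommRingCat.of k)) ⥤ DCoh.DQCoh X) (adj : (ObjectProperty.lift DCoh.IsQCohD (ObjectProperty.ι DCoh.IsQCohD ⋙ DCoh.Rpush f) (fun K => h K.obj K.property)) ⊣ a) (O : DCoh.DQCoh (Spec (CommRingCat.of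 k))) (hO : Nonempty (O.obj ≅ DCoh.inD (Spec (CommRingCat.of k)) (Coh.structureModule (Spec (CommRingCat.of k))))) : Dual2.IsDualizingSch X (a.obj O).obj ∧ (∀ i : ℤ, (i < -(d : ℤ) ∨ 0 < i) → IsZero (DCoh.HD (a.obj O).obj i)) ∧ ∀ (i : ℤ) (n : ℕ), (n : ℤ) = -i → topologicalKrullDim {x : X | Nontrivial ((DCoh.HD (a.obj O).obj i).presheaf.stalk x)} ≤ (n : WithBot ℕ∞) := by
  haveI : IsProper f := hf ▸ inferInstance
  haveI : IsRegularRing k := inferInstance
  have hk : Dual.IsDualizing k (Dual.inD k k) := Groth.Agent.S11185.result k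
    (fun p => inferInstance) (by rw [ringKrullDim_eq_zero_of_field]; exact WithBot.coe_lt_coe.2 (ENat.natCast_lt_top 0))
  obtain ⟨eO⟩ := Groth.Agent.Lib.RightAdjCoh.Chart.nonempty_one_chart (𝟙 (Spec (CommRingCat.of k))) hO
  have hOd : Dual2.IsDualizingSch (Spec (CommRingCat.of k)) O.obj :=
    Groth.Agent.Lib.DualSch.Local.isDualizingSch_of_cover _ fun x =>
      ⟨k, inferInstance, 𝟙 _, inferInstance, _, ⟨x, rfl⟩, hk, ⟨eO⟩⟩
  have hdual : Dual2.IsDualizingSch X (a.obj O).obj :=
    Groth.Agent.Lib.RightAdjCoh.Chart.isDualizingSch_a f h adj O hOd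
  have hpt : ∀ x : X, (∀ i : ℤ, Nontrivial ((DCoh.HD (a.obj O).obj i).presheaf.stalk x) →
      (-(d : ℤ) ≤ i ∧ i ≤ 0) ∧ Groth.Agent.Lib.Cyc.FieldDim.fdelta f x ≤ -i) ∧
      ∀ i : ℤ, ∃ W : Set X, IsOpen W ∧ x ∈ W ∧
        IsClosed (Subtype.val ⁻¹' {y : X | Nontrivial ((DCoh.HD (a.obj O).obj i).presheaf.stalk y)} : Set W) := by
    intro x
    obtain ⟨U, hU, hxU, -⟩ := exists_isAffineOpen_mem_and_subset (X := X) (x := x) (U := ⊤) trivial
    letI : Algebra k Γ(X, U) := (Groth.Agent.Lib.Cyc.FieldDim.structHom f U).toAlgebra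
    haveI : Algebra.FiniteType k Γ(X, U) := Groth.Agent.Lib.Cyc.FieldDim.structHom_finiteType f hU
    haveI : IsNoetherianRing Γ(X, U) := Algebra.FiniteType.isNoetherianRing k Γ(X, U)
    obtain ⟨m, ψ, hψ⟩ := Algebra.FiniteType.iff_quotient_mvPolynomial''.1
      (inferInstance : Algebra.FiniteType k Γ(X, U))
    obtain ⟨Rψ, ⟨adjψ⟩⟩ := Groth.Agent.Lib.RightAdjCoh.Chart.exists_adjR (CommRingCat.ofHom ψ.toRingHom)
    haveI := Groth.Agent.Lib.DR.BaseChangeU.hasLBaseChange (algebraMap k (MvPolynomial (Fin m) k))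
    have hc : hU.fromSpec ≫ f = Spec.map (CommRingCat.ofHom (algebraMap k Γ(X, U))) ≫ 𝟙 _ := by
      rw [← (isAffineOpen_top (Spec (CommRingCat.of k))).SpecMap_appLE_fromSpec f hU (by simp),
        Category.comp_id, show CommRingCat.ofHom (algebraMap k Γ(X, U)) =
          (Scheme.ΓSpecIso (CommRingCat.of k)).inv ≫ f.appLE ⊤ U (by simp) from rfl, Spec.map_comp,
        IsAffineOpen.fromSpec_top, Scheme.isoSpec_Spec_inv]
    obtain ⟨e⟩ := Groth.Agent.Lib.RightAdjCoh.Chart.nonempty_shriek_chart f (𝟙 X) f (Category.id_comp f) h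
      adj (𝟙 _) hU.fromSpec hc ψ hψ adjψ O (Groth.Agent.Lib.RightAdjCoh.Chart.exists_isGE_one hO)
      (Dual.inD k k) eO
    let e' := (DCoh.restrictD hU.fromSpec).mapIso
      ((Groth.Agent.Lib.Gen43.Restrict.idIso X).symm.app (a.obj O).obj) ≪≫ e
    let P : PrimeSpectrum Γ(X, U) := hU.primeIdealOf ⟨x, hxU⟩
    have hP : hU.fromSpec P = x := hU.fromSpec_primeIdealOf ⟨x, hxU⟩
    refine ⟨fun i hi => ?_, fun i => ⟨Set.range hU.fromSpec, hU.fromSpec.isOpenEmbedding.isOpen_range,
      ⟨P, hP⟩, ?_⟩⟩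
    · have hn := Groth.Agent.Lib.RightAdjCoh.Chart.nontrivial_localized_of_stalk hU.fromSpec e' i P
        (hP.symm ▸ hi)
      have h1 := Groth.Agent.Lib.RightAdjCoh.FieldBounds.dimQ_le_neg hψ adjψ P i hn
      have hfd : Groth.Agent.Lib.Cyc.FieldDim.fdelta f x =
          (Groth.Agent.Lib.Dim.Basic.dimQ k P.asIdeal : ℤ) := by
        simp [Groth.Agent.Lib.Cyc.FieldDim.fdelta,
          Groth.Agent.Lib.Cyc.FieldDim.trdegAt_eq_dimQ f hU hxU, P]
      refine ⟨⟨?_, by omega⟩, by omega⟩
      have hd' := (Groth.Agent.Lib.RightAdjCoh.Chart.fibreDimAt_chart f (𝟙 _) hU.fromSpec hc P).trans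
        (Groth.Agent.Lib.GorenMor.AffineSpace.localFibreDim_eq f (hU.fromSpec P))
      have h2 := Groth.Agent.Lib.DMod.ShriekBounds.neg_fibreDim_le hψ adjψ P _ hd' i hn
      have h3 : Dual3.localFibreDim f (hU.fromSpec P) ≤ (d : WithBot ℕ∞) := by
        refine (iInf₂_le ⊤ trivial).trans ?_
        refine le_trans ?_ hd.le
        exact Topology.IsInducing.topologicalKrullDim_le
          ((f.fiberι (f (hU.fromSpec P))).isEmbedding.comp Topology.IsEmbedding.subtypeVal).isInducing
      rw [Groth.Agent.Lib.GorenMor.AffineSpace.localFibreDim_eq] at h3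
      have h4 : Groth.Agent.H46.DimData.fe f (hU.fromSpec P) ≤ d := by exact_mod_cast h3
      omega
    · obtain ⟨ω', hω', ⟨e''⟩⟩ := hdual Γ(X, U) hU.fromSpec
      haveI : Module.Finite Γ(X, U) (Dual.HD Γ(X, U) ω' i) := hω'.finite_cohomology i
      have hcl : IsClosed (Module.support Γ(X, U) (Dual.HD Γ(X, U) ω' i)) := Module.isClosed_support
      let H := hU.fromSpec.isOpenEmbedding.isEmbedding.toHomeomorph
      rw [← H.isClosed_preimage]
      refine cast (congrArg IsClosed (Set.ext fun p => ?_)) hcl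
      exact (Groth.Agent.Lib.DualSch.Affine.nontrivial_stalk_iff hU.fromSpec e'' i p).symm
  refine ⟨hdual, fun i hi => ?_, fun i n hn => ?_⟩
  · refine Groth.Agent.Lib.Modules.Support.support_eq_empty_iff.1 (Set.eq_empty_of_forall_notMem fun x hx => ?_)
    have := ((hpt x).1 i (not_subsingleton_iff_nontrivial.1 hx)).1
    omega
  · refine Groth.Agent.Lib.RightAdjCoh.FieldBounds.topologicalKrullDim_closed_le f ?_ n fun x hx => ?_
    · choose W hWo hxW hW using fun x => (hpt x).2 i
      refine (TopologicalSpace.IsOpenCover.isClosed_iff_coe_preimage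
        (U := fun x => (⟨W x, hWo x⟩ : TopologicalSpace.Opens X)) ?_).2 hW
      exact top_le_iff.1 fun y _ => TopologicalSpace.Opens.mem_iSup.2 ⟨y, hxW y⟩
    · have := ((hpt x).1 i hx).2
      omega

end Groth.Agent.S1811
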