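import Groth.Statements.S3637
import Groth.Agent.H20.CMDual.Stalk
import Groth.Agent.S1811
import Groth.Agent.S1809
import Groth.Agent.S1769
import Groth.Agent.Lib.ProjDualExt.Dim
import Groth.Agent.Lib.KRes.CohP
import Groth.Agent.Lib.Snapper.Twist
import Groth.Agent.Lib.Modules.Stalk

set_option autoImplicit false
set_option linter.style.haveILetI false
universe u
open CategoryTheory CategoryTheory.Limits AlgebraicGeometry
attribute [local instance] HasDerivedCategory.standard
open Dual3

namespace Groth.Agent.S3637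

open Groth.Agent Groth.Agent.Lib in
theorem stalk_specializes {X : Scheme.{u}}
    [∀ (U : Scheme.{u}) (j : U ⟶ X) [IsOpenImmersion j], PreservesFiniteLimits (Scheme.Modules.restrictFunctor j)]
    [∀ (R : CommRingCat.{u}), PreservesFiniteLimits (tilde.functor R)]
    (K : DCoh.D X) (hK : Dual2.IsDualizingSch X K) (i : ℤ) {η z : X} (h : η ⤳ z)
    (hη : Nontrivial ((DCoh.HD K i).presheaf.stalk η)) :
    Nontrivial ((DCoh.HD K i).presheaf.stalk z) := by
  obtain ⟨V, hV, hzV, -⟩ := exists_isAffineOpen_mem_and_subset (X := X) (x := z) (U := ⊤) trivial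
  obtain ⟨τ, hτ, ⟨e⟩⟩ := hK Γ(X, V) hV.fromSpec
  obtain ⟨q, hq⟩ : η ∈ Set.range hV.fromSpec := hV.range_fromSpec.symm ▸ h.mem_open V.isOpen hzV
  obtain ⟨p, hp⟩ : z ∈ Set.range hV.fromSpec := hV.range_fromSpec.symm ▸ hzV
  subst hq hp
  have hqp : q ⤳ p := hV.fromSpec.isOpenEmbedding.isInducing.specializes_iff.1 h
  exact (DualSch.Affine.nontrivial_stalk_iff hV.fromSpec e i p).2
    (Module.mem_support_mono ((PrimeSpectrum.le_iff_specializes q p).2 hqp)
      ((DualSch.Affine.nontrivial_stalk_iff hV.fromSpec e i q).1 hη))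

/-- Let X be proper over a field k, with all local rings of X Cohen–Macaulay and all irreducible
components of X of dimension d. Assume the derived pushforward Rf_* along the structure morphism f
exists and preserves complexes with quasi-coherent cohomology (carried as hypotheses), let a be a
right adjoint to Rf_* : D_QCoh(O_X) → D_QCoh(Spec k), and let O be an object of D_QCoh(Spec k)
isomorphic to the structure sheaf placed in degree 0. Then H^i(a(O)) = 0 for i ≠ −d, so that a(O) =
ω_X[d] with ω_X = H^{−d}(a(O)); and ω_X is a coherent O_X-module whose stalk at every point x is a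
nonzero Cohen–Macaulay module over O_{X,x} (in particular its support is all of X). -/
theorem result (k : Type u) [Field k] (X : Scheme.{u}) (f : X ⟶ Spec (CommRingCat.of k)) [IsProper f] (hCM : ∀ x : X, LocCoh.IsCohenMacaulayLocalRing (X.presheaf.stalk x)) (d : ℕ) (hd : ∀ Z : Set X, Z ∈ irreducibleComponents X → topologicalKrullDim ↥Z = (d : WithBot ℕ∞)) [DCoh.HasRpush f] (hf : DCoh.RpushPreservesQCoh f) (a : DCoh.DQCoh (Spec (CommRingCat.of k)) ⥤ DCoh.DQCoh X) (adj : DCoh.RpushQ f hf ⊣ a) (O : DCoh.DQCoh (Spec (CommRingCat.of k))) (hO : Nonempty (O.obj ≅ DCoh.inD (Spec (CommRingCat.of k)) (Coh.structureModule (Spec (CommRingCat.of k))))) : (∀ i : ℤ, i ≠ -(d : ℤ) → IsZero (DCoh.HD (a.obj O).obj i)) ∧ Coh.IsCoh (DCoh.HD (a.obj O).obj (-(d : ℤ))) ∧ ∀ x : X, Nontrivial ((DCoh.HD (a.obj O).obj (-(d : ℤ))).presheaf.stalk x) ∧ LocCoh.IsCohenMacaulayModule (X.presheaf.stalk x) ((DCoh.HD (a.obj O).obj (-(d : ℤ))).presheaf.stalk x) := by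
  letI : X.Over (Spec (CommRingCat.of k)) := ⟨f⟩
  haveI : IsProper (X ↘ Spec (CommRingCat.of k)) := (inferInstance : IsProper f)
  haveI : IsLocallyNoetherian X := LocallyOfFiniteType.isLocallyNoetherian f
  haveI : ∀ (R : CommRingCat.{u}), PreservesFiniteLimits (tilde.functor R) := fun R =>
    Groth.Agent.Lib.QCoh.Tilde.tildeFunctor_preservesFiniteLimits ..
  haveI : ∀ (U : Scheme.{u}) (j : U ⟶ X) [IsOpenImmersion j],
      PreservesFiniteLimits (Scheme.Modules.restrictFunctor j) := fun U j _ => inferInstance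
  let K := (a.obj O).obj
  have hcoh : Coh.IsCoh (DCoh.HD K (-(d : ℤ))) := by
    let HS := fun i : ℤ => DerivedCategory.homologyFunctor (Spec (CommRingCat.of k)).Modules i
    have h0 : ∀ i : ℤ, i ≠ 0 → IsZero (DCoh.HD O.obj i) := fun i hi => by
      refine IsZero.of_iso ?_ ((HS i).mapIso hO.some)
      rcases lt_or_gt_of_ne hi with h | h
      · exact DerivedCategory.isZero_of_isGE _ 0 i h
      · exact DerivedCategory.isZero_of_isLE _ 0 i h
    refine Groth.Agent.S1769.result X (Spec (CommRingCat.of k)) f hf a adj O 0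
      (fun i hi => h0 i (by lia)) (fun i => ?_) _
    by_cases hi : i = 0
    · subst hi
      exact Groth.Agent.Lib.CohBasics.Closure.isCoh_of_iso
        (((HS 0).mapIso hO.some ≪≫ (DerivedCategory.singleFunctorCompHomologyFunctorIso
          (Spec (CommRingCat.of k)).Modules 0).app _).symm)
        (Groth.Agent.Lib.Snapper.Twist.isCoh_structureModule _)
    · exact Groth.Agent.Lib.KRes.CohP.isCoh_of_isZero _ (h0 i hi)
  by_cases hne : Nonempty X
  swap
  · exact ⟨fun i _ => Groth.Agent.Lib.Modules.Stalk.isZero_iff_stalk_subsingleton.2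
      fun x => absurd ⟨x⟩ hne, hcoh, fun x => absurd ⟨x⟩ hne⟩
  obtain ⟨x₀⟩ := hne
  have hdim : topologicalKrullDim X = (d : WithBot ℕ∞) := by
    refine le_antisymm (Groth.Agent.Lib.ProjDualExt.Dim.topologicalKrullDim_le_of_components
      fun Z hZ => (hd Z hZ).le) ?_
    rw [← hd _ (irreducibleComponent_mem_irreducibleComponents x₀)]
    exact Topology.IsInducing.subtypeVal.topologicalKrullDim_le
  obtain ⟨hdual, hamp, hsupp⟩ := Groth.Agent.S1811.result k X d hdim f rfl hf a adj O hO
  have huniq : ∀ x : X, ∃! i : ℤ, Nontrivial ((DCoh.HD K i).presheaf.stalk x) := fun x =>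
    ((Groth.Agent.S1809.result X K hdual).1 x).1 (hCM x)
  -- the bottom degree at every point
  have hbot : ∀ x : X, Nontrivial ((DCoh.HD K (-(d : ℤ))).presheaf.stalk x) := fun x => by
    have hZ := irreducibleComponent_mem_irreducibleComponents x
    obtain ⟨η, hη⟩ := QuasiSober.sober (isIrreducible_irreducibleComponent (x := x))
      isClosed_irreducibleComponent
    obtain ⟨i, hi, -⟩ := huniq η
    have hin : ¬ (i < -(d : ℤ) ∨ 0 < i) := fun h => not_subsingleton_iff_nontrivial.2 hi
      (Groth.Agent.Lib.Modules.Stalk.isZero_iff_stalk_subsingleton.1 (hamp i h) η)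
    obtain ⟨n, hn⟩ : ∃ n : ℕ, (n : ℤ) = -i := ⟨(-i).toNat, by lia⟩
    have hsub : irreducibleComponent x ⊆ {y : X | Nontrivial ((DCoh.HD K i).presheaf.stalk y)} :=
      fun z hz => stalk_specializes K hdual i (hη.specializes hz) hi
    have hle : (d : WithBot ℕ∞) ≤ (n : WithBot ℕ∞) := by
      rw [← hd _ hZ]
      exact ((Topology.IsEmbedding.inclusion hsub).toIsInducing.topologicalKrullDim_le).trans
        (hsupp i n hn)
    have hdn : d ≤ n := by exact_mod_cast hle
    obtain rfl : i = -(d : ℤ) := by lia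
    exact hsub mem_irreducibleComponent
  have hconc : ∀ (x : X) (i : ℤ), i ≠ -(d : ℤ) → Subsingleton ((DCoh.HD K i).presheaf.stalk x) :=
    fun x i hi => not_nontrivial_iff_subsingleton.1 fun h => hi ((huniq x).unique h (hbot x))
  refine ⟨fun i hi => Groth.Agent.Lib.Modules.Stalk.isZero_iff_stalk_subsingleton.2
    fun x => hconc x i hi, hcoh, fun x => ⟨hbot x, ?_⟩⟩
  obtain ⟨V, hV, hxV, -⟩ := exists_isAffineOpen_mem_and_subset (X := X) (x := x) (U := ⊤) trivial
  obtain ⟨τ, hτ, ⟨e⟩⟩ := hdual Γ(X, V) hV.fromSpec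
  obtain ⟨p, rfl⟩ : x ∈ Set.range hV.fromSpec := hV.range_fromSpec.symm ▸ hxV
  obtain ⟨φ⟩ := Groth.Agent.Lib.DualSch.Affine.nonempty_HD_iso hV.fromSpec e (-(d : ℤ))
  refine Groth.Agent.H20.CMDual.Stalk.isCM_stalk hV.fromSpec _ _ φ p
    (Groth.Agent.H20.CMDual.Stalk.isCM_localized hτ _ (fun i hi => ?_) p
      ((Groth.Agent.Lib.DualSch.Affine.nontrivial_stalk_iff hV.fromSpec e _ p).1 (hbot _)))
  rw [← Module.support_eq_empty_iff (R := Γ(X, V)), Set.eq_empty_iff_forall_notMem]
  exact fun q hq => not_subsingleton_iff_nontrivial.2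
    ((Groth.Agent.Lib.DualSch.Affine.nontrivial_stalk_iff hV.fromSpec e i q).2 hq) (hconc _ i hi)

end Groth.Agent.S3637
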