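import Groth.Statements.S1656
import Groth.Agent.H20.TopRep.CurveDual
import Groth.Agent.S3637
import Groth.Agent.Lib.FibreVanish36.Affine
import Groth.Agent.Lib.FibreVanish36.Coherent

set_option autoImplicit false
set_option linter.style.haveILetI false
universe u
open CategoryTheory CategoryTheory.Limits AlgebraicGeometry
attribute [local instance] HasDerivedCategory.standard
open Curves

namespace Groth.Agent.S1656

/-- Let X be proper over k, Cohen–Macaulay and equidimensional of dimension one, and let ω_X be its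
dualizing module, i.e. the cohomology sheaf in degree -1 of f^! O for f : X → Spec k (assuming the
derived direct image Rf_* on D_QCoh and its right adjoint exist, which is how the shared prelude
presents f^!). Then χ(X, O_X) = -χ(X, ω_X). -/
theorem result (k : Type u) [Field k] (X : Scheme.{u}) [X.Over (Spec (CommRingCat.of k))] [IsProper (X ↘ (Spec (CommRingCat.of k)))]
    (hCM : ∀ x : X, LocCoh.IsCohenMacaulayLocalRing (X.presheaf.stalk x))
    (hequi : ∀ Z ∈ irreducibleComponents (X : Type u), topologicalKrullDim Z = 1)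
    [DCoh.HasRpush (X ↘ (Spec (CommRingCat.of k)))] (h : DCoh.RpushPreservesQCoh (X ↘ (Spec (CommRingCat.of k)))) [DCoh.HasShriek (X ↘ (Spec (CommRingCat.of k))) h]
    (OY : DCoh.DQCoh (Spec (CommRingCat.of k))) (hOY : Nonempty (OY.obj ≅ DCoh.inD (Spec (CommRingCat.of k)) (Coh.structureModule (Spec (CommRingCat.of k))))) :
    Curv2.euler k X (Coh.structureModule X) = - Curv2.euler k X (DCoh.dualizingMod (X ↘ (Spec (CommRingCat.of k))) h OY 1) := by
  let f := X ↘ Spec (CommRingCat.of k)
  haveI : CompactSpace X := QuasiCompact.compactSpace_of_compactSpace f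
  haveI : QuasiSeparatedSpace X := quasiSeparatedSpace_of_quasiSeparated f
  haveI : PreservesFiniteLimits (tilde.functor (CommRingCat.of k)) :=
    Groth.Agent.Lib.QCoh.Tilde.tildeFunctor_preservesFiniteLimits ..
  letI : HasExt.{u} X.Modules := inferInstance
  let O0 := (DCoh.shriek f h).obj OY
  let ω := DCoh.dualizingMod f h OY 1
  have hdim : topologicalKrullDim X ≤ ((1 : ℕ) : WithBot ℕ∞) :=
    Groth.Agent.Lib.ProjDualExt.Dim.topologicalKrullDim_le_of_components fun Z hZ =>
      (hequi Z hZ).le.trans (le_of_eq Nat.cast_one.symm)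
  have hfib : ∀ y, topologicalKrullDim ↥(f.fiber y) ≤ ((1 : ℕ) : WithBot ℕ∞) := fun y =>
    (f.fiberι y).isEmbedding.toIsInducing.topologicalKrullDim_le.trans hdim
  have hv : ∀ M : X.Modules, M.IsQuasicoherent → ∀ p : ℕ, 1 ≤ p →
      Subsingleton (Coh.HH X M (p + 1)) := fun M hM p hp =>
    Groth.Agent.Lib.FibreVanish36.Affine.subsingleton_HH Groth.Agent.Lib.FibreVanish36.Coherent.cohVanish
      f 1 hfib M p hp
  obtain ⟨hz, hcoh, -⟩ := Groth.Agent.S3637.result k X f hCM 1
    (fun Z hZ => (hequi Z hZ).trans Nat.cast_one.symm) h (DCoh.shriek f h) (DCoh.shriekAdj f h) OY hOY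
  haveI : DerivedCategory.IsGE O0.obj (-1) := (DerivedCategory.isGE_iff _ _).2 fun i hi =>
    hz i (by push_cast; lia)
  haveI : DerivedCategory.IsLE O0.obj (-1) := (DerivedCategory.isLE_iff _ _).2 fun i hi =>
    hz i (by push_cast; lia)
  obtain ⟨M, ⟨eM⟩⟩ := DerivedCategory.exists_iso_singleFunctor_obj_of_isGE_of_isLE O0.obj (-1)
  let eω : ω ≅ M := (DerivedCategory.homologyFunctor X.Modules (-1)).mapIso eM ≪≫
    (DerivedCategory.singleFunctorCompHomologyFunctorIso X.Modules (-1)).app M
  let e : O0.obj ≅ (DCoh.inD X ω)⟦((1 : ℕ) : ℤ)⟧ :=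
    eM ≪≫ (DerivedCategory.singleFunctor X.Modules (-1)).mapIso eω.symm ≪≫
      (((DerivedCategory.singleFunctors X.Modules).shiftIso ((1 : ℕ) : ℤ) (-1) 0 (by lia)).app ω).symm
  have hO := (Groth.Agent.Lib.Snapper.Twist.isCoh_structureModule X).1
  have hd := fun p j hpj => Groth.Agent.H20.TopRep.CurveDual.finrank_eq (k := k) h
    (DCoh.shriekAdj f h) OY hOY.some hO ω 1 e hv p j hpj
  have heuler : ∀ F : X.Modules, F.IsQuasicoherent → Curv2.euler k X F =
      (Module.finrank k (Coh.HH X F 0) : ℤ) - Module.finrank k (Coh.HH X F 1) := fun F hF => by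
    have hsupp : Function.support (fun i : ℕ => (-1 : ℤ) ^ i * (Module.finrank k (Coh.HH X F i) : ℤ)) ⊆
        ↑(Finset.range 2) := fun i hi => by
      rw [Finset.coe_range, Set.mem_Iio]
      by_contra hc
      obtain ⟨p, rfl⟩ : ∃ p, i = p + 1 := ⟨i - 1, by lia⟩
      haveI := hv F hF p (by lia)
      exact hi (by simp [Module.finrank_zero_of_subsingleton])
    rw [Curv2.euler, finsum_eq_sum_of_support_subset _ hsupp, Finset.sum_range_succ,
      Finset.sum_range_one]
    ring
  rw [heuler _ hO, heuler _ hcoh.1, hd 0 1 rfl, hd 1 0 rfl]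
  ring

end Groth.Agent.S1656
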