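import Groth.Statements.S16561
import Groth.Agent.Lib.SurfRR.PlaneBlow
-- import your own Groth.Agent.* helpers here

set_option autoImplicit false
universe u
open CategoryTheory CategoryTheory.Limits AlgebraicGeometry TopologicalSpace
open Surf

namespace Groth.Agent.S16561

/-- Let k be an algebraically closed field, p_1, …, p_r distinct closed points of the projective plane
P²_k and σ : X → P²_k the blow-up of P²_k in the ideal of the reduced finite set {p_1, …, p_r}
(universal property), X being regarded over k through σ; X is then an integral smooth proper surface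
(carried as hypotheses). Write H = σ^*O(1), (L·M) = χ(O_X) − χ(L) − χ(M) + χ(L ⊗ M) for the
intersection number of invertible modules L, M, and for a closed subscheme C ⊆ X with ideal I_C
write (L·C) = χ(O_C ⊗ L) − χ(O_C) and C² = (I_C·I_C). A (−1)-curve is an integral closed
one-dimensional subscheme E ⊆ X with H¹(E, O_E) = 0 and E² = −1. Let L be an invertible O_X-module,
d = (L·H), χ⁻ = max(−χ(L), 0), and E a (−1)-curve with (H·E) ≤ d + 2. If dim_k H¹(X, L) = χ⁻, then
(L·E) ≥ −1 − χ⁻. (The source takes the points in general position; that assumption plays no role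
here.) -/
theorem result (k : Type u) [Field k] [IsAlgClosed k]
    (r : ℕ) (P : Fin r → ↥(CohB1.ProjSpace 2 k)) (hP : Function.Injective P)
    (hPc : ∀ i, IsClosed ({P i} : Set ↥(CohB1.ProjSpace 2 k))) (hZ : IsClosed (Set.range P))
    (X : Scheme.{u}) [X.Over (Spec (CommRingCat.of k))] (σ : X ⟶ CohB1.ProjSpace 2 k)
    (hσk : σ ≫ CohB1.ProjSpace.toSpec 2 k = X ↘ (Spec (CommRingCat.of k)))
    (hσ : BlowUp.IsBlowUp σ (Scheme.IdealSheafData.vanishingIdeal ⟨Set.range P, hZ⟩))
    [IsIntegral X] [IsProper (X ↘ (Spec (CommRingCat.of k)))] [Smooth (X ↘ (Spec (CommRingCat.of k)))] (hdim : topologicalKrullDim X = 2)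
    (L : X.Modules) (hL : PicF.IsInvertible L)
    (E : X.IdealSheafData) (hEi : IsIntegral E.subscheme) (hE1 : topologicalKrullDim (E.support : Set X) = 1)
    (hEg : Subsingleton (Coh.HH E.subscheme (Coh.structureModule E.subscheme) 1))
    (hEE : FGA.intNum k X 2 ![ClSub.idealMod E, ClSub.idealMod E] (Coh.structureModule X) = -1)
    (hEH : (Curv2.euler k X (CohB1.tensorMod (ClSub.quotMod E) ((Scheme.Modules.pullback σ).obj (Twist.twistProjSpace 2 k 1))) - Curv2.euler k X (ClSub.quotMod E)) ≤ FGA.intNum k X 2 ![L, ((Scheme.Modules.pullback σ).obj (Twist.twistProjSpace 2 k 1))] (Coh.structureModule X) + 2)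
    (h1 : (Module.finrank k (Coh.HH X L 1) : ℤ) = max (-Curv2.euler k X L) 0) :
    -1 - max (-Curv2.euler k X L) 0 ≤ (Curv2.euler k X (CohB1.tensorMod (ClSub.quotMod E) L) - Curv2.euler k X (ClSub.quotMod E)) := by
  haveI := Lib.Curves.GlobalSections.isNoetherian_of_proper k X
  have hfin := Lib.Snapper.Finite.cohFinite k X
  have hH : PicF.IsInvertible ((Scheme.Modules.pullback σ).obj (Twist.twistProjSpace 2 k 1)) :=
    PicLoc.isInvertible_pullback σ (Lib.ProjCoh.Coherent.isInvertible_tw (n := 2) (R := k) 1)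
  have hEI : PicF.IsInvertible (ClSub.idealMod E) := Lib.SurfInt.Effective.isInvertible_idealMod
    (Lib.SurfInt.NegDef.isEff hfin hdim (Lib.SurfInt.NegDef.regular_of_smooth (k := k) (X := X)) E hE1)
  have hmax : 0 ≤ max (-Curv2.euler k X L) 0 := le_max_right _ _
  by_contra hcon
  -- `H²(L(-E)) = 0`
  have hIH := Lib.SurfInt.Effective.intNum_ideal (d := 2) hfin hdim.le hEI hH
  simp only [← Lib.Snapper.Chi.euler_eq_eulerCharLE (k := k) hdim.le] at hIH
  rw [Lib.Curves.Euler.euler_eq_of_iso (Lib.TensorMod.Basic.comm _ (ClSub.quotMod E))] at hIH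
  haveI : Subsingleton (Coh.HH X (CohB1.tensorMod L (ClSub.idealMod E)) 2) := by
    refine Lib.SurfRR.PlaneBlow.subsingleton_h2 hdim σ hσk hZ (Set.finite_range P) hσ
      (Lib.TensorMod.Invertible.isInvertible_tensorMod hL hEI) ?_
    erw [Lib.Snapper.IntNum.intNum_pair_tensor_left hfin hdim.le hL hEI hH
      (Lib.Snapper.Twist.isCoh_structureModule X)]
    linarith
  -- `H¹(L) → H¹(L|E)` is surjective
  have hS := Lib.Snapper.Twist.twistSeq_shortExact hL (Lib.ClSub.Quot.idealSeq_shortExact E)
  let g : Coh.HH X L 1 →ₗ[k] Coh.HH X (CohB1.tensorMod L (ClSub.quotMod E)) 1 :=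
    (Lib.Curves.LES.mapK k (Lib.Snapper.Twist.twistSeq L (Lib.ClSub.Quot.idealSeq E)).g 1).comp
      (Lib.Curves.LES.isoK k (Lib.TensorMod.Basic.rightUnit L).symm 1).toLinearMap
  have hsurj0 : Function.Surjective (Lib.Curves.LES.mapK k
      (Lib.Snapper.Twist.twistSeq L (Lib.ClSub.Quot.idealSeq E)).g 1) := fun c => by
    refine ((Lib.Curves.LES.exactK₃ (A := k) hS 1 2 rfl) c).1 ?_
    exact @Subsingleton.elim _ (show Subsingleton (Coh.HH X (CohB1.tensorMod L (ClSub.idealMod E)) 2) from inferInstance) _ _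
  have hsurj : Function.Surjective g :=
    hsurj0.comp (Lib.Curves.LES.isoK k (Lib.TensorMod.Basic.rightUnit L).symm 1).surjective
  haveI := hfin L (Lib.Ample.GG.isCoh_of_isInvertible hL) 1
  have hle : Module.finrank k (Coh.HH X (CohB1.tensorMod L (ClSub.quotMod E)) 1) ≤
      Module.finrank k (Coh.HH X L 1) :=
    LinearMap.finrank_le_finrank_of_surjective hsurj
  -- Riemann–Roch on `E`
  letI := Lib.SurfInt.Surface.overSub (k := k) E
  haveI : IsProper (E.subscheme ↘ Spec (CommRingCat.of k)) :=
    inferInstanceAs (IsProper (E.subschemeι ≫ (X ↘ Spec (CommRingCat.of k))))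
  haveI := hEi
  haveI := hEg
  haveI := Lib.Curves.GlobalSections.isNoetherian_of_proper k E.subscheme
  have hd1 : topologicalKrullDim E.subscheme ≤ ((1 : ℕ) : WithBot ℕ∞) := by
    rw [Lib.SurfInt.Surface.dim_subscheme, hE1]; rfl
  have hO : Curv2.euler k X (ClSub.quotMod E) = 1 := by
    rw [Lib.SurfInt.Surface.euler_quot, Lib.Snapper.Chi.euler_eq_eulerCharLE (k := k) hd1]
    simp [FGA.eulerCharLE, Finset.sum_range_succ, Module.finrank_zero_of_subsingleton,
      Lib.Curves.GlobalSections.finrank_h0_structure k E.subscheme]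
  let N := (Scheme.Modules.pullback E.subschemeι).obj L
  haveI : N.IsQuasicoherent :=
    Lib.TensorMod.QCohInv.isQCoh_of_isInvertible (PicLoc.isInvertible_pullback E.subschemeι hL)
  let e : CohB1.tensorMod L (ClSub.quotMod E) ≅ (Coh.push E.subschemeι).obj N :=
    (Lib.Modules.ProjFormula.projIso E.subschemeι (Lib.Modules.DualBasis.hasDBases_of_isFinLocFree
      (Lib.TensorMod.LocFree.of_rank (Lib.TensorMod.LocFree.of_isInvertible hL)))).app
        (Coh.structureModule E.subscheme) ≪≫
      (Coh.push E.subschemeι).mapIso (Lib.TensorMod.Basic.rightUnit N)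
  have hN1 : Module.finrank k (Coh.HH X (CohB1.tensorMod L (ClSub.quotMod E)) 1) =
      Module.finrank k (Coh.HH E.subscheme N 1) :=
    (Lib.Curves.LES.isoK k e 1).finrank_eq.trans (Lib.SurfInt.Push.finrank_push E.subschemeι rfl N 1)
  have hN : Curv2.euler k X (CohB1.tensorMod (ClSub.quotMod E) L) =
      (Module.finrank k (Coh.HH E.subscheme N 0) : ℤ) - Module.finrank k (Coh.HH E.subscheme N 1) := by
    rw [Lib.Curves.Euler.euler_eq_of_iso (Lib.TensorMod.Basic.comm _ L),
      Lib.SurfInt.Surface.euler_twist_quot E hL, Lib.Snapper.Chi.euler_eq_eulerCharLE (k := k) hd1]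
    simp [FGA.eulerCharLE, Finset.sum_range_succ, N, sub_eq_add_neg]
  have hle' : (Module.finrank k (Coh.HH E.subscheme N 1) : ℤ) ≤ Module.finrank k (Coh.HH X L 1) := by
    rw [← hN1]; exact_mod_cast hle
  have h0 : (0 : ℤ) ≤ Module.finrank k (Coh.HH E.subscheme N 0) := Int.natCast_nonneg _
  linarith

end Groth.Agent.S16561
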