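import Groth.Statements.S16562
import Groth.Agent.H97.NegCurve

set_option autoImplicit false
universe u
open CategoryTheory CategoryTheory.Limits AlgebraicGeometry TopologicalSpace
open Surf

namespace Groth.Agent.S16562

/-- Let k be an algebraically closed field, p_1, …, p_r distinct closed points of the projective plane
P²_k and σ : X → P²_k the blow-up of P²_k in the ideal of the reduced finite set {p_1, …, p_r}
(universal property), X being regarded over k through σ; X is then an integral smooth proper surface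
(carried as hypotheses). Write H = σ^*O(1), (L·M) = χ(O_X) − χ(L) − χ(M) + χ(L ⊗ M) for the
intersection number of invertible modules L, M, and for a closed subscheme C ⊆ X with ideal I_C
write (L·C) = χ(O_C ⊗ L) − χ(O_C) and C² = (I_C·I_C). A (−1)-curve is an integral closed
one-dimensional subscheme E ⊆ X with H¹(E, O_E) = 0 and E² = −1. If L is an invertible O_X-module
and E a (−1)-curve whose H-degree satisfies 2(H·E) > (L·H), and (L·E) < −1, then H⁰(X, L) = 0. (The
source takes the points in general position; that assumption plays no role here.) -/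
theorem result (k : Type u) [Field k] [IsAlgClosed k]
    (r : ℕ) (P : Fin r → ↥(CohB1.ProjSpace 2 k)) (hP : Function.Injective P)
    (hPc : ∀ i, IsClosed ({P i} : Set ↥(CohB1.ProjSpace 2 k))) (hZ : IsClosed (Set.range P))
    (X : Scheme.{u}) [X.Over (Spec (CommRingCat.of k))] (σ : X ⟶ CohB1.ProjSpace 2 k)
    (hσk : σ ≫ CohB1.ProjSpace.toSpec 2 k = X ↘ (Spec (CommRingCat.of k)))
    (hσ : BlowUp.IsBlowUp σ (Scheme.IdealSheafData.vanishingIdeal ⟨Set.range P, hZ⟩))
    [IsIntegral X] [IsProper (X ↘ (Spec (CommRingCat.of k)))] [Smooth (X ↘ (Spec (CommRingCat.of k)))] (hdim : topologicalKrullDim X = 2)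
    (L : X.Modules) (hL : PicF.IsInvertible L)
    (E : X.IdealSheafData) (hEi : IsIntegral E.subscheme) (hE1 : topologicalKrullDim (E.support : Set X) = 1)
    (hEg : Subsingleton (Coh.HH E.subscheme (Coh.structureModule E.subscheme) 1))
    (hEE : FGA.intNum k X 2 ![ClSub.idealMod E, ClSub.idealMod E] (Coh.structureModule X) = -1)
    (hEH : FGA.intNum k X 2 ![L, ((Scheme.Modules.pullback σ).obj (Twist.twistProjSpace 2 k 1))] (Coh.structureModule X) < 2 * (Curv2.euler k X (CohB1.tensorMod (ClSub.quotMod E) ((Scheme.Modules.pullback σ).obj (Twist.twistProjSpace 2 k 1))) - Curv2.euler k X (ClSub.quotMod E)))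
    (hLE : (Curv2.euler k X (CohB1.tensorMod (ClSub.quotMod E) L) - Curv2.euler k X (ClSub.quotMod E)) < -1) :
    Subsingleton (Coh.HH X L 0) := by
  haveI := Lib.Curves.GlobalSections.isNoetherian_of_proper k X
  have hfin := Lib.Snapper.Finite.cohFinite k X
  haveI := hEi
  have hEc := Lib.SurfInt.NegDef.isEff hfin hdim
    (Lib.SurfInt.NegDef.regular_of_smooth (k := k) (X := X)) E hE1
  have hA : CohB1.IsAmple (Twist.twistProjSpace 2 k 1) := Lib.HProj.QuasiProj.isAmple_twist_projSpace 2 k
  set H := (Scheme.Modules.pullback σ).obj (Twist.twistProjSpace 2 k 1)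
  have hH : PicF.IsInvertible H := PicLoc.isInvertible_pullback σ hA.1
  have hI := Lib.SurfInt.Effective.isInvertible_idealMod hEc
  have h := Lib.SurfInt.Effective.intNum_ideal (d := 2) hfin hdim.le hI hL
  simp only [← Lib.Snapper.Chi.euler_eq_eulerCharLE (k := k) hdim.le] at h
  rw [Lib.Curves.Euler.euler_eq_of_iso (Lib.TensorMod.Basic.comm L (ClSub.quotMod E))] at h
  have h' := Lib.SurfInt.Effective.intNum_ideal (d := 2) hfin hdim.le hI hH
  simp only [← Lib.Snapper.Chi.euler_eq_eulerCharLE (k := k) hdim.le] at h'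
  rw [Lib.Curves.Euler.euler_eq_of_iso (Lib.TensorMod.Basic.comm H (ClSub.quotMod E))] at h'
  obtain ⟨h1, h2⟩ := H97.NegCurve.finrank_twist_pow hdim hE1 hL 1 (fun j hj => by
    rw [hEE, h]
    have : (j : ℤ) ≤ 1 := by exact_mod_cast hj
    linarith)
  haveI := hfin L (Lib.Ample.GG.isCoh_of_isInvertible hL) 0
  by_contra hc
  rw [not_subsingleton_iff_nontrivial] at hc
  have hpos : Module.finrank k (Coh.HH X L 0) ≠ 0 := Module.finrank_pos.ne'
  rw [← h1] at hpos
  have h3 := H97.NegCurve.nonneg_of_section hdim σ hA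
    (Lib.TensorMod.Invertible.isInvertible_tensorMod hL
      (Lib.SurfInt.Effective.isInvertible_idealMod (Lib.Ideal.EffCartier.isEffCartier_pow hEc 2))) hpos
  rw [h2 H hH, h'] at h3
  push_cast at h3
  linarith

end Groth.Agent.S16562
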