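import Groth.Statements.S16564
import Groth.Agent.Lib.SurfInt.NegDef
import Groth.Agent.Lib.SurfInt.Bound
import Groth.Agent.Lib.Snapper.Finite

set_option autoImplicit false
set_option linter.style.haveILetI false
universe u
open CategoryTheory CategoryTheory.Limits AlgebraicGeometry TopologicalSpace
open Surf

namespace Groth.Agent.S16564

/-- Let k be an algebraically closed field, p_1, …, p_r distinct closed points of the projective plane
P²_k and σ : X → P²_k the blow-up of P²_k in the ideal of the reduced finite set {p_1, …, p_r}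
(universal property), X being regarded over k through σ; X is then an integral smooth proper surface
(carried as hypotheses). Write H = σ^*O(1), (L·M) = χ(O_X) − χ(L) − χ(M) + χ(L ⊗ M) for the
intersection number of invertible modules L, M, and for a closed subscheme C ⊆ X with ideal I_C
write (L·C) = χ(O_C ⊗ L) − χ(O_C) and C² = (I_C·I_C). A (−1)-curve is an integral closed
one-dimensional subscheme E ⊆ X with H¹(E, O_E) = 0 and E² = −1. Call an invertible module M
non-special when at most one of H⁰(X, M), H¹(X, M), H²(X, M) is nonzero. Suppose every invertible M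
with (M·E) ≥ −1 for every (−1)-curve E is non-special (the non-speciality hypothesis for X). Then no
integral closed one-dimensional subscheme C ⊆ X has C² ≤ −2. (The source concludes that the curves
of negative self-intersection are exactly the (−1)-curves; its argument treats C² ≤ −2, which is
what is stated here.) (The source takes the points in general position; that assumption plays no
role here.) -/
theorem result (k : Type u) [Field k] [IsAlgClosed k]
    (r : ℕ) (P : Fin r → ↥(CohB1.ProjSpace 2 k)) (hP : Function.Injective P)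
    (hPc : ∀ i, IsClosed ({P i} : Set ↥(CohB1.ProjSpace 2 k))) (hZ : IsClosed (Set.range P))
    (X : Scheme.{u}) [X.Over (Spec (CommRingCat.of k))] (σ : X ⟶ CohB1.ProjSpace 2 k)
    (hσk : σ ≫ CohB1.ProjSpace.toSpec 2 k = X ↘ (Spec (CommRingCat.of k)))
    (hσ : BlowUp.IsBlowUp σ (Scheme.IdealSheafData.vanishingIdeal ⟨Set.range P, hZ⟩))
    [IsIntegral X] [IsProper (X ↘ (Spec (CommRingCat.of k)))] [Smooth (X ↘ (Spec (CommRingCat.of k)))] (hdim : topologicalKrullDim X = 2)
    (hconj : ∀ (M : X.Modules), PicF.IsInvertible M →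
      (∀ (E : X.IdealSheafData), IsIntegral E.subscheme → topologicalKrullDim (E.support : Set X) = 1 →
        Subsingleton (Coh.HH E.subscheme (Coh.structureModule E.subscheme) 1) →
        FGA.intNum k X 2 ![ClSub.idealMod E, ClSub.idealMod E] (Coh.structureModule X) = -1 →
        -1 ≤ (Curv2.euler k X (CohB1.tensorMod (ClSub.quotMod E) M) - Curv2.euler k X (ClSub.quotMod E))) →
      ((Subsingleton (Coh.HH X M 0) ∧ Subsingleton (Coh.HH X M 1)) ∨ (Subsingleton (Coh.HH X M 0) ∧ Subsingleton (Coh.HH X M 2)) ∨
        (Subsingleton (Coh.HH X M 1) ∧ Subsingleton (Coh.HH X M 2))))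
    (C : X.IdealSheafData) (hCi : IsIntegral C.subscheme) (hC1 : topologicalKrullDim (C.support : Set X) = 1) :
    -1 ≤ FGA.intNum k X 2 ![ClSub.idealMod C, ClSub.idealMod C] (Coh.structureModule X) := by
  haveI := Lib.Curves.GlobalSections.isNoetherian_of_proper k X
  have hfin := Lib.Snapper.Finite.cohFinite k X
  have hreg := Lib.SurfInt.NegDef.regular_of_smooth (k := k) (X := X)
  haveI := hCi
  have hCc := Lib.SurfInt.NegDef.isEff hfin hdim hreg C hC1
  have hI := Lib.SurfInt.Effective.isInvertible_idealMod hCc
  obtain ⟨M, hM, ⟨e⟩⟩ := Lib.TensorMod.Invertible.exists_inverse hI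
  have hO := Lib.Snapper.Twist.isCoh_structureModule X
  have hOinv := PicLoc.isInvertible_structureModule X
  have hzero : ∀ N : X.Modules, PicF.IsInvertible N →
      FGA.intNum k X 2 ![M, N] (Coh.structureModule X) =
        - FGA.intNum k X 2 ![ClSub.idealMod C, N] (Coh.structureModule X) := fun N hN => by
    have h1 := Lib.Snapper.IntNum.intNum_pair_tensor_left hfin hdim.le hI hM hN hO
    rw [Lib.SurfInt.NegDef.intNum_congr_left (k := k) e] at h1
    have h2 := Lib.Snapper.IntNum.intNum_pair_tensor_left hfin hdim.le hOinv hOinv hN hO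
    rw [Lib.SurfInt.NegDef.intNum_congr_left (k := k)
      (Lib.TensorMod.Basic.leftUnit (Coh.structureModule X))] at h2
    linarith
  have h0 : Module.finrank k (Coh.HH X (Coh.structureModule X) 0) = 1 :=
    Lib.Curves.GlobalSections.finrank_h0_structure k X
  -- the vanishing of the higher cohomology of `O`
  have hn0 : Nontrivial (Coh.HH X (Coh.structureModule X) 0) :=
    Module.nontrivial_of_finrank_pos (R := k) (by omega)
  have hnM : Nontrivial (Coh.HH X M 0) := by
    have hS := Lib.CurveBundle.Twist.shortExact hM (Lib.ClSub.Quot.idealSeq_shortExact C)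
    haveI : Mono (Lib.TensorMod.Basic.tmap (ClSub.idealModι C) (𝟙 M)) := hS.mono_f
    haveI : Nontrivial (Coh.HH X (CohB1.tensorMod (ClSub.idealMod C) M) 0) :=
      (Lib.Curves.LES.isoK k e 0).toEquiv.nontrivial
    haveI := (Lib.Curves.LES.mapK_injective_of_mono k
      ((Lib.TensorMod.Basic.tmap (ClSub.idealModι C) (𝟙 M)))).nontrivial
    exact (Lib.Curves.LES.isoK k (Lib.TensorMod.Basic.leftUnit M) 0).symm.toEquiv.nontrivial
  have hvan : ∀ N : X.Modules, PicF.IsInvertible N → Nontrivial (Coh.HH X N 0) →
      (∀ (E : X.IdealSheafData), IsIntegral E.subscheme → topologicalKrullDim (E.support : Set X) = 1 →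
        FGA.intNum k X 2 ![ClSub.idealMod E, ClSub.idealMod E] (Coh.structureModule X) = -1 →
        FGA.intNum k X 2 ![ClSub.idealMod E, N] (Coh.structureModule X) ≤ 1) →
      FGA.eulerCharLE k X N 2 = Module.finrank k (Coh.HH X N 0) := fun N hN hn hnum => by
    rcases hconj N hN (fun E hE hEd _ hEE => by
      haveI := hE
      have h := Lib.SurfInt.Effective.intNum_ideal (d := 2) hfin hdim.le
        (Lib.SurfInt.Effective.isInvertible_idealMod (Lib.SurfInt.NegDef.isEff hfin hdim hreg E hEd)) hN
      simp only [← Lib.Snapper.Chi.euler_eq_eulerCharLE (k := k) hdim.le] at h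
      rw [Lib.Curves.Euler.euler_eq_of_iso (Lib.TensorMod.Basic.comm N (ClSub.quotMod E))] at h
      have := hnum E hE hEd hEE
      linarith) with ⟨h, -⟩ | ⟨h, -⟩ | ⟨h1, h2⟩
    · exact absurd h (not_subsingleton _)
    · exact absurd h (not_subsingleton _)
    · haveI := h1
      haveI := h2
      simp [FGA.eulerCharLE, Finset.sum_range_succ, Module.finrank_zero_of_subsingleton]
  have hχM := hvan M hM hnM fun E hE hEd hEE => by
    haveI := hE
    have hEi := Lib.SurfInt.Effective.isInvertible_idealMod (Lib.SurfInt.NegDef.isEff hfin hdim hreg E hEd)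
    rw [Lib.Snapper.IntNum.intNum_pair_comm, hzero _ hEi]
    by_cases hCE : C = E
    · subst hCE
      rw [hEE]; norm_num
    · have := Lib.SurfInt.NegDef.intNum_curves_nonneg hfin hdim hreg C E hC1 hEd hCE
      linarith
  have hχO := hvan _ hOinv hn0 fun E hE hEd _ => by
    haveI := hE
    have hEi := Lib.SurfInt.Effective.isInvertible_idealMod (Lib.SurfInt.NegDef.isEff hfin hdim hreg E hEd)
    have h2 := Lib.Snapper.IntNum.intNum_pair_tensor_left hfin hdim.le hOinv hOinv hEi hO
    rw [Lib.SurfInt.NegDef.intNum_congr_left (k := k)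
      (Lib.TensorMod.Basic.leftUnit (Coh.structureModule X)), Lib.Snapper.IntNum.intNum_pair_comm] at h2
    linarith
  have hsp := Lib.SurfInt.Effective.chi_twist_quot hfin (d := 2) hdim.le hI hM
  rw [Lib.Snapper.Chi.eulerCharLE_of_iso e] at hsp
  have hint := Lib.SurfInt.Effective.intNum_ideal (d := 2) hfin hdim.le hI hM
  rw [Lib.Snapper.IntNum.intNum_pair_comm, hzero _ hI] at hint
  have hCle : FGA.eulerCharLE k X (ClSub.quotMod C) 2 ≤ 1 := by
    letI := Lib.SurfInt.Surface.overSub (k := k) C
    haveI : IsProper (C.subscheme ↘ Spec (CommRingCat.of k)) :=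
      inferInstanceAs (IsProper (C.subschemeι ≫ (X ↘ Spec (CommRingCat.of k))))
    haveI := Lib.Curves.GlobalSections.isNoetherian_of_proper k C.subscheme
    have hdC : topologicalKrullDim C.subscheme ≤ (1 : ℕ) := by
      rw [Lib.SurfInt.Surface.dim_subscheme, hC1]; simp
    rw [← Lib.Snapper.Chi.euler_eq_eulerCharLE (k := k) hdim.le, Lib.SurfInt.Surface.euler_quot,
      Lib.Snapper.Chi.euler_eq_eulerCharLE (k := k) hdC]
    simp only [FGA.eulerCharLE, Finset.sum_range_succ, Finset.sum_range_zero,
      Lib.Curves.GlobalSections.finrank_h0_structure k C.subscheme]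
    push_cast
    linarith
  have hpos : 0 < Module.finrank k (Coh.HH X M 0) := by
    haveI := hfin M (Lib.Ample.GG.isCoh_of_isInvertible hM) 0
    haveI := hnM
    exact Module.finrank_pos
  rw [hχO, h0, hχM] at hsp
  push_cast at hsp
  linarith [(by exact_mod_cast hpos : (1 : ℤ) ≤ (Module.finrank k (Coh.HH X M 0) : ℤ))]

end Groth.Agent.S16564
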