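import Groth.Statements.S16572
import Mathlib
-- import your own Groth.Agent.* helpers here

set_option autoImplicit false
universe u
open CAlg

namespace Groth.Agent.S16572

/-- Let A be a commutative ring and T the quotient of the polynomial ring over A in indeterminates X_P,
one for each monic polynomial P over A of positive degree, by the ideal generated by the elements
P(X_P). Then the map on prime spectra Spec T → Spec A is surjective, and for every prime ideal Q of
T, with p its contraction to A, the residue field of Q is algebraically closed and integral over the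
residue field of p under the induced map of residue fields (so it is an algebraic closure of it). -/
theorem result (A : Type u) [CommRing A] :
    Function.Surjective (PrimeSpectrum.comap (algebraMap A (MvPolynomial {P : Polynomial A // P.Monic ∧ 0 < P.natDegree} A ⧸
      Ideal.span (Set.range fun P : {P : Polynomial A // P.Monic ∧ 0 < P.natDegree} =>
        Polynomial.aeval (MvPolynomial.X (R := A) P) P.1)))) ∧
    ∀ (Q : Ideal (MvPolynomial {P : Polynomial A // P.Monic ∧ 0 < P.natDegree} A ⧸
      Ideal.span (Set.range fun P : {P : Polynomial A // P.Monic ∧ 0 < P.natDegree} =>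
        Polynomial.aeval (MvPolynomial.X (R := A) P) P.1))) [Q.IsPrime],
      IsAlgClosed Q.ResidueField ∧
      (Ideal.ResidueField.map (Q.comap (algebraMap A (MvPolynomial {P : Polynomial A // P.Monic ∧ 0 < P.natDegree} A ⧸
      Ideal.span (Set.range fun P : {P : Polynomial A // P.Monic ∧ 0 < P.natDegree} =>
        Polynomial.aeval (MvPolynomial.X (R := A) P) P.1)))) Q (algebraMap A (MvPolynomial {P : Polynomial A // P.Monic ∧ 0 < P.natDegree} A ⧸
      Ideal.span (Set.range fun P : {P : Polynomial A // P.Monic ∧ 0 < P.natDegree} =>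
        Polynomial.aeval (MvPolynomial.X (R := A) P) P.1))) rfl).IsIntegral := by
  classical
  set G : Set (MvPolynomial {P : Polynomial A // P.Monic ∧ 0 < P.natDegree} A) :=
    Set.range fun P : {P : Polynomial A // P.Monic ∧ 0 < P.natDegree} =>
      Polynomial.aeval (MvPolynomial.X (R := A) P) P.1 with hG
  have hroot : ∀ P : {P : Polynomial A // P.Monic ∧ 0 < P.natDegree},
      Polynomial.aeval (Ideal.Quotient.mk (Ideal.span G) (MvPolynomial.X (R := A) P)) P.1 = 0 := by
    intro P
    rw [← Ideal.Quotient.mkₐ_eq_mk A, Polynomial.aeval_algHom_apply, Ideal.Quotient.mkₐ_eq_mk,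
      Ideal.Quotient.eq_zero_iff_mem]
    exact Ideal.subset_span ⟨P, rfl⟩
  haveI : Algebra.IsIntegral A (MvPolynomial {P : Polynomial A // P.Monic ∧ 0 < P.natDegree} A ⧸ Ideal.span G) := by
    refine ⟨fun x => ?_⟩
    obtain ⟨x, rfl⟩ := Ideal.Quotient.mk_surjective x
    induction x using MvPolynomial.induction_on with
    | C a => exact isIntegral_algebraMap
    | add f g hf hg => rw [map_add]; exact hf.add hg
    | mul_X f P hf => rw [map_mul]; exact hf.mul ⟨P.1, P.2.1, hroot P⟩
  refine ⟨fun p => ?_, fun Q hQ => ?_⟩
  · let L := AlgebraicClosure p.asIdeal.ResidueField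
    have hr : ∀ P : {P : Polynomial A // P.Monic ∧ 0 < P.natDegree},
        ∃ z : L, Polynomial.eval₂ (algebraMap A L) z P.1 = 0 := fun P => by
      obtain ⟨z, hz⟩ := IsAlgClosed.exists_root (P.1.map (algebraMap A L))
        (by rw [P.2.1.degree_map, Polynomial.degree_eq_natDegree (fun h => by simpa [h] using P.2.2)]; exact_mod_cast P.2.2.ne')
      exact ⟨z, by rwa [Polynomial.eval₂_eq_eval_map]⟩
    choose z hz using hr
    let φ : (MvPolynomial {P : Polynomial A // P.Monic ∧ 0 < P.natDegree} A ⧸ Ideal.span G) →ₐ[A] L :=
      Ideal.Quotient.liftₐ _ (MvPolynomial.aeval z) (by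
        show Ideal.span G ≤ RingHom.ker (MvPolynomial.aeval z)
        rw [Ideal.span_le]
        rintro _ ⟨P, rfl⟩
        rw [SetLike.mem_coe, RingHom.mem_ker, ← Polynomial.aeval_algHom_apply, MvPolynomial.aeval_X]
        exact hz P)
    refine ⟨⟨RingHom.ker φ, RingHom.ker_isPrime _⟩, PrimeSpectrum.ext ?_⟩
    ext a
    simp only [PrimeSpectrum.comap_asIdeal, Ideal.mem_comap, RingHom.mem_ker, AlgHom.commutes]
    rw [IsScalarTower.algebraMap_apply A p.asIdeal.ResidueField L, map_eq_zero]
    exact Ideal.algebraMap_residueField_eq_zero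
  · set p := Q.comap (algebraMap A (MvPolynomial {P : Polynomial A // P.Monic ∧ 0 < P.natDegree} A ⧸ Ideal.span G)) with hp
    haveI : Q.LiesOver p := ⟨rfl⟩
    letI : Algebra p.ResidueField Q.ResidueField :=
      (Ideal.ResidueField.map p Q (algebraMap A _) rfl).toAlgebra
    haveI hst : IsScalarTower A p.ResidueField Q.ResidueField := IsScalarTower.of_algebraMap_eq fun a => by
      rw [RingHom.algebraMap_toAlgebra, Ideal.ResidueField.map_algebraMap, ← IsScalarTower.algebraMap_apply]
    have halg : Algebra.IsAlgebraic p.ResidueField Q.ResidueField := by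
      refine ⟨fun x => ?_⟩
      have hq : ∀ t, IsIntegral p.ResidueField (algebraMap _ Q.ResidueField t :
          Q.ResidueField) := fun t =>
        ((Algebra.IsIntegral.isIntegral (R := A) (t : MvPolynomial {P : Polynomial A // P.Monic ∧ 0 < P.natDegree} A ⧸ Ideal.span G)).map
          (IsScalarTower.toAlgHom A _ Q.ResidueField)).tower_top
      obtain ⟨a, b, hb, rfl⟩ := IsFractionRing.div_surjective (A := (MvPolynomial {P : Polynomial A // P.Monic ∧ 0 < P.natDegree} A ⧸ Ideal.span G) ⧸ Q) x
      obtain ⟨a, rfl⟩ := Ideal.Quotient.mk_surjective a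
      obtain ⟨b, rfl⟩ := Ideal.Quotient.mk_surjective b
      rw [div_eq_mul_inv, ← Ideal.Quotient.algebraMap_eq, ← IsScalarTower.algebraMap_apply,
        ← IsScalarTower.algebraMap_apply]
      exact ((hq a).mul (hq b).inv).isAlgebraic
    refine ⟨?_, fun x => (halg.isAlgebraic x).isIntegral⟩
    haveI : IsAlgClosure p.ResidueField Q.ResidueField := by
      refine IsAlgClosure.of_exists_root fun q hq hirr => ?_
      obtain ⟨⟨b, hb⟩, hbq⟩ := IsLocalization.exist_integer_multiples (nonZeroDivisors (A ⧸ p))
        (Finset.range q.natDegree) q.coeff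
      obtain ⟨b, rfl⟩ := Ideal.Quotient.mk_surjective b
      set β : p.ResidueField := algebraMap A p.ResidueField b with hβ
      have hβ0 : β ≠ 0 := fun h0 =>
        nonZeroDivisors.ne_zero hb (Ideal.Quotient.eq_zero_iff_mem.2 (Ideal.algebraMap_residueField_eq_zero.1 h0))
      have hl : q.scaleRoots β ∈ Polynomial.lifts (algebraMap A p.ResidueField) := by
        rw [Polynomial.lifts_iff_coeff_lifts]
        intro i
        rw [Polynomial.coeff_scaleRoots]
        rcases lt_trichotomy i q.natDegree with hi | rfl | hi
        · obtain ⟨r, hr⟩ := hbq i (Finset.mem_range.2 hi)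
          obtain ⟨r, rfl⟩ := Ideal.Quotient.mk_surjective r
          refine ⟨r * b ^ (q.natDegree - i - 1), ?_⟩
          rw [Algebra.smul_def] at hr
          change algebraMap A p.ResidueField r = algebraMap A p.ResidueField b * q.coeff i at hr
          rw [map_mul, map_pow, hr, ← hβ, show q.natDegree - i = (q.natDegree - i - 1) + 1 by omega, pow_succ,
            Nat.add_sub_cancel]
          ring
        · exact ⟨1, by rw [hq.coeff_natDegree, Nat.sub_self, pow_zero, mul_one, map_one]⟩
        · exact ⟨0, by rw [Polynomial.coeff_eq_zero_of_natDegree_lt hi, zero_mul, map_zero]⟩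
      obtain ⟨P, hP, hdeg, hPm⟩ := Polynomial.lifts_and_natDegree_eq_and_monic hl ((Polynomial.monic_scaleRoots_iff β).2 hq)
      rw [Polynomial.natDegree_scaleRoots] at hdeg
      have h0 := hroot ⟨P, hPm, hdeg ▸ hirr.natDegree_pos⟩
      set r : Q.ResidueField := algebraMap _ Q.ResidueField (Ideal.Quotient.mk (Ideal.span G)
        (MvPolynomial.X (R := A) (⟨P, hPm, hdeg ▸ hirr.natDegree_pos⟩ : {P : Polynomial A // P.Monic ∧ 0 < P.natDegree})))
      have h1 : Polynomial.aeval r (q.scaleRoots β) = 0 := by
        rw [← hP, Polynomial.aeval_map_algebraMap]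
        simp only [r]
        rw [Polynomial.aeval_algebraMap_apply, h0, map_zero]
      refine ⟨r / algebraMap p.ResidueField Q.ResidueField β, ?_⟩
      have h2 : Polynomial.eval₂ (algebraMap p.ResidueField Q.ResidueField)
          (algebraMap p.ResidueField Q.ResidueField β * (r / algebraMap p.ResidueField Q.ResidueField β)) (q.scaleRoots β) = 0 := by
        rw [mul_div_cancel₀ _ ((map_ne_zero _).2 hβ0)]
        exact h1
      rw [Polynomial.scaleRoots_eval₂_mul, mul_eq_zero] at h2
      exact h2.resolve_left (pow_ne_zero _ ((map_ne_zero _).2 hβ0))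
    exact IsAlgClosure.isAlgClosed p.ResidueField

end Groth.Agent.S16572
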