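import Mathlib
import Groth.Statements.S16573
-- import your own Groth.Agent.* helpers here

set_option autoImplicit false
universe u
open CategoryTheory AlgebraicGeometry
open EtCore

namespace Groth.Agent.S16573

open Polynomial in
lemma exists_root_of_fraction {D K : Type*} [CommRing D] [IsDomain D] [Field K] [Algebra D K]
    [IsFractionRing D K]
    (h : ∀ p : D[X], p.Monic → 0 < p.natDegree → ∃ r, p.eval r = 0) : IsAlgClosed K := by
  refine IsAlgClosed.of_exists_root K fun p hp hirr => ?_
  obtain ⟨d, hd⟩ := IsLocalization.exist_integer_multiples (nonZeroDivisors D)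
    (Finset.range p.natDegree) p.coeff
  have hd0 : algebraMap D K d ≠ 0 :=
    fun e => nonZeroDivisors.ne_zero d.2
      (IsFractionRing.injective D K (e.trans (map_zero (algebraMap D K)).symm))
  have hm : (p.scaleRoots (algebraMap D K d)).Monic := (monic_scaleRoots_iff _).2 hp
  have hl : p.scaleRoots (algebraMap D K d) ∈ lifts (algebraMap D K) := by
    rw [lifts_iff_coeff_lifts]
    intro i
    rw [coeff_scaleRoots]
    rcases lt_trichotomy i p.natDegree with hi | hi | hi
    · obtain ⟨c, hc⟩ := hd i (Finset.mem_range.2 hi)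
      refine ⟨c * (d : D) ^ (p.natDegree - i - 1), ?_⟩
      have hc' : algebraMap D K c = algebraMap D K d * p.coeff i := by
        rw [hc, Algebra.smul_def]
      rw [map_mul, map_pow, hc', show p.natDegree - i = p.natDegree - i - 1 + 1 by omega, pow_succ]
      simp; ring
    · exact ⟨1, by simp [hi, hp.coeff_natDegree]⟩
    · exact ⟨0, by simp [coeff_eq_zero_of_natDegree_lt hi]⟩
  obtain ⟨q, hq, hdeg, hqm⟩ := lifts_and_natDegree_eq_and_monic hl hm
  obtain ⟨r, hr⟩ := h q hqm (by
    rw [hdeg, natDegree_scaleRoots]; exact Irreducible.natDegree_pos hirr)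
  refine ⟨algebraMap D K r / algebraMap D K d, ?_⟩
  have h1 : (p.scaleRoots (algebraMap D K d)).eval (algebraMap D K r) = 0 := by
    rw [← hq, Polynomial.eval_map, Polynomial.eval₂_at_apply, hr, map_zero]
  have h2 := scaleRoots_eval₂_mul (RingHom.id K) (p := p) (algebraMap D K r / algebraMap D K d)
    (algebraMap D K d)
  simp only [eval₂_id, RingHom.id_apply] at h2
  rw [mul_div_cancel₀ _ hd0, h1] at h2
  exact (mul_eq_zero.1 h2.symm).resolve_left (pow_ne_zero _ hd0)

/-- An integral extension of `A`, surjective on spectra, in which monic polynomials have roots. -/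
lemma exists_aic (A : Type u) [CommRing A] :
    ∃ (A' : Type u) (_ : CommRing A') (_ : Algebra A A'), Algebra.IsIntegral A A' ∧
      Function.Surjective (PrimeSpectrum.comap (algebraMap A A')) ∧
      ∀ p : Polynomial A', p.Monic → 0 < p.natDegree → ∃ r, p.eval r = 0 := by
  let K := fun p : PrimeSpectrum A => AlgebraicClosure p.asIdeal.ResidueField
  let B := ∀ p, K p
  refine ⟨integralClosure A B, inferInstance, inferInstance, inferInstance, fun p => ?_,
    fun P hP hdeg => ?_⟩
  · refine ⟨⟨RingHom.ker ((Pi.evalRingHom K p).comp (integralClosure A B).val.toRingHom),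
      RingHom.ker_isPrime _⟩, ?_⟩
    ext a
    change algebraMap A (K p) a = 0 ↔ a ∈ p.asIdeal
    rw [IsScalarTower.algebraMap_apply A p.asIdeal.ResidueField (K p),
      map_eq_zero_iff _ (RingHom.injective _), Ideal.algebraMap_residueField_eq_zero]
  · let ev := fun p => (Pi.evalRingHom K p).comp (integralClosure A B).val.toRingHom
    have hroot : ∀ p, ∃ r : K p, (P.map (ev p)).eval r = 0 := fun p => by
      apply IsAlgClosed.exists_root
      intro e
      have := Polynomial.natDegree_eq_zero_iff_degree_le_zero.2 e.le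
      rw [hP.natDegree_map] at this
      omega
    choose r hr using hroot
    have hev : Polynomial.eval₂ (algebraMap (integralClosure A B) B) r P = 0 := by
      funext p
      have := Polynomial.hom_eval₂ P (algebraMap (integralClosure A B) B) (Pi.evalRingHom K p) r
      refine this.trans ?_
      have := hr p
      rw [Polynomial.eval_map] at this
      exact this
    have hint : IsIntegral A r := isIntegral_trans r ⟨P, hP, hev⟩
    refine ⟨⟨r, hint⟩, Subtype.ext ?_⟩
    have := Polynomial.eval₂_at_apply (algebraMap (integralClosure A B) B) (p := P) ⟨r, hint⟩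
    exact this.symm.trans hev

lemma spec_residueField (A B : CommRingCat.{u}) (φ : A ⟶ B) (hφ : φ.hom.IsIntegral)
    (hroot : ∀ p : Polynomial B, p.Monic → 0 < p.natDegree → ∃ r, p.eval r = 0) (x : Spec B) :
    IsAlgClosed ((Spec B).residueField x) ∧ ((Spec.map φ).residueFieldMap x).hom.IsIntegral := by
  set q := x.asIdeal
  have : q.IsPrime := x.isPrime
  constructor
  · have : IsAlgClosed q.ResidueField := by
      apply exists_root_of_fraction (D := B ⧸ q)
      intro p hp hdeg
      obtain ⟨P, hP, hPdeg, hPm⟩ := Polynomial.lifts_and_natDegree_eq_and_monic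
        (Polynomial.map_surjective _ Ideal.Quotient.mk_surjective p :
          p ∈ Polynomial.lifts (Ideal.Quotient.mk q)) hp
      obtain ⟨r, hr⟩ := hroot P hPm (hPdeg ▸ hdeg)
      exact ⟨Ideal.Quotient.mk q r, by
        rw [← hP, Polynomial.eval_map, Polynomial.eval₂_at_apply, hr, map_zero]⟩
    exact IsAlgClosed.of_ringEquiv q.ResidueField _
      (Scheme.Spec.residueFieldIso B x).commRingCatIsoToRingEquiv.symm
  · have hsq : ((Scheme.ΓSpecIso A).inv ≫ (Spec A).Γevaluation (Spec.map φ x)) ≫
        (Spec.map φ).residueFieldMap x =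
        φ ≫ ((Scheme.ΓSpecIso B).inv ≫ (Spec B).Γevaluation x) := by
      rw [Category.assoc, Scheme.Γevaluation_naturality, ← Scheme.ΓSpecIso_inv_naturality_assoc]
    set ψ := ((Scheme.ΓSpecIso B).inv ≫ (Spec B).Γevaluation x).hom with hψ
    set χ := ((Scheme.ΓSpecIso A).inv ≫ (Spec A).Γevaluation (Spec.map φ x)).hom
    set f := ((Spec.map φ).residueFieldMap x).hom
    have hsq' : f.comp χ = ψ.comp φ.hom := congrArg CommRingCat.Hom.hom hsq
    have hint : ∀ b, f.IsIntegralElem (ψ b) := fun b => by
      obtain ⟨P, hP, hb⟩ := hφ b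
      refine ⟨P.map χ, hP.map _, ?_⟩
      rw [Polynomial.eval₂_map, hsq', ← Polynomial.hom_eval₂, hb, map_zero]
    intro z
    obtain ⟨a, b, hab⟩ : ∃ a b, z = ψ a / ψ b := by
      have hψ' : ψ = (Scheme.Spec.residueFieldIso B x).inv.hom.comp
          (algebraMap B q.ResidueField) := by
        have h0 := congrArg CommRingCat.Hom.hom (Scheme.Spec.algebraMap_residueFieldIso_inv B x)
        exact h0.symm
      obtain ⟨a', b', -, hab⟩ := IsFractionRing.div_surjective (A := B ⧸ q)
        ((Scheme.Spec.residueFieldIso B x).hom z)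
      obtain ⟨a, rfl⟩ := Ideal.Quotient.mk_surjective a'
      obtain ⟨b, rfl⟩ := Ideal.Quotient.mk_surjective b'
      refine ⟨a, b, ?_⟩
      simp only [hψ', RingHom.comp_apply]
      rw [← map_div₀]
      have h1 : algebraMap B q.ResidueField a / algebraMap B q.ResidueField b =
          (Scheme.Spec.residueFieldIso B x).hom z := hab
      rw [h1]
      exact ((Scheme.Spec.residueFieldIso B x).hom_inv_id_apply z).symm
    algebraize [f]
    rw [hab, div_eq_mul_inv]
    exact IsIntegral.mul (hint a) (IsIntegral.inv (hint b))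

lemma sigma_desc_residueField_isIso {X : Scheme.{u}} (U : X.OpenCover) (z : (∐ U.X : Scheme.{u})) :
    IsIso ((Limits.Sigma.desc U.f).residueFieldMap z) := by
  obtain ⟨⟨i, y⟩, rfl⟩ := (sigmaMk U.X).surjective z
  rw [sigmaMk_mk]
  have h := Scheme.Hom.residueFieldMap_congr (Limits.Sigma.ι_desc (C := Scheme.{u}) U.f i) y
  rw [Scheme.residueFieldMap_comp] at h
  have : IsIso ((Limits.Sigma.desc U.f).residueFieldMap (Limits.Sigma.ι U.X i y) ≫
      (Limits.Sigma.ι U.X i).residueFieldMap y) := by
    rw [h]; exact IsIso.comp_isIso' (Iso.isIso_hom _) inferInstance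
  exact IsIso.of_isIso_comp_right _ ((Limits.Sigma.ι U.X i).residueFieldMap y)

/-- For a quasi-compact quasi-separated scheme X there are an affine scheme X' and a quasi-compact
surjective morphism f : X' → X such that for every point x' of X' the residue field of x' is
algebraically closed and integral over the residue field of f(x') under the induced map of residue
fields, that is, an algebraic closure of it. -/
theorem result
    (X : Scheme.{u}) [CompactSpace X] [QuasiSeparatedSpace X] :
    ∃ (X' : Scheme.{u}) (f : X' ⟶ X), IsAffine X' ∧ QuasiCompact f ∧ Surjective f ∧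
      ∀ x' : X', IsAlgClosed (X'.residueField x') ∧ (f.residueFieldMap x').hom.IsIntegral := by
  let U : X.OpenCover := X.affineCover.finiteSubcover
  let Z := (∐ U.X : Scheme.{u})
  obtain ⟨A', _, _, hint, hsurj, hroot⟩ := exists_aic Γ(Z, ⊤)
  let φ : Γ(Z, ⊤) ⟶ CommRingCat.of A' := CommRingCat.ofHom (algebraMap Γ(Z, ⊤) A')
  let h : Spec Γ(Z, ⊤) ⟶ X := Z.isoSpec.inv ≫ Limits.Sigma.desc U.f
  have : Surjective (Spec.map φ) := ⟨hsurj⟩
  have : Surjective h := inferInstance
  refine ⟨Spec (.of A'), Spec.map φ ≫ h, inferInstance, ?_, inferInstance, fun x => ?_⟩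
  · exact QuasiCompact.of_comp (Spec.map φ ≫ h) (Limits.terminal.from X)
  obtain ⟨h1, h2⟩ := spec_residueField _ _ φ (algebraMap_isIntegral_iff.2 hint) hroot x
  refine ⟨h1, ?_⟩
  have : IsIso (h.residueFieldMap (Spec.map φ x)) := by
    rw [Scheme.residueFieldMap_comp]
    exact IsIso.comp_isIso' (sigma_desc_residueField_isIso U (Z.isoSpec.inv (Spec.map φ x)))
      inferInstance
  rw [Scheme.residueFieldMap_comp]
  exact RingHom.IsIntegral.trans _ _ (RingHom.isIntegral_of_surjective _
    (ConcreteCategory.bijective_of_isIso (h.residueFieldMap (Spec.map φ x))).2) h2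

end Groth.Agent.S16573
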