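import Groth.Statements.S16574
import Groth.Agent.S0385
import Mathlib.AlgebraicGeometry.Morphisms.IsIso

set_option autoImplicit false
universe u
open CategoryTheory AlgebraicGeometry
open AffSch

namespace Groth.Agent.S16574

/-- Let A be a commutative ring, U a quasi-compact open subscheme of Spec A and U' → U a finite
morphism. Then there exist a finite A-algebra B and a morphism U' → Spec B such that the square
formed by U' → U, U' → Spec B, Spec B → Spec A and the inclusion of U is cartesian; in particular U'
→ Spec B is the open immersion of the preimage of U. (If U contains the complement of the closed set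
of an ideal I then this preimage contains the complement of the closed set of IB; that clause is
automatic and omitted.) -/
theorem result
    (A : Type u) [CommRing A] (U : (Spec (CommRingCat.of A)).Opens) (hU : IsCompact (U : Set (Spec (CommRingCat.of A))))
    (U' : Scheme.{u}) (g : U' ⟶ (U : Scheme.{u})) [IsFinite g] :
    ∃ (B : Type u) (_ : CommRing B) (_ : Algebra A B) (i : U' ⟶ Spec (CommRingCat.of B)),
      Module.Finite A B ∧ IsPullback i g (Spec.map (CommRingCat.ofHom (algebraMap A B))) U.ι := by
  have : CompactSpace (U : Scheme.{u}) := isCompact_iff_compactSpace.mp hU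
  have : QuasiCompact U.ι := (quasiCompact_iff_compactSpace _).mpr inferInstance
  let f : U' ⟶ Spec (CommRingCat.of A) := g ≫ U.ι
  obtain ⟨T, j, π₀, _, _, _, hjπ⟩ := Groth.Agent.S0385.result f
  -- the scheme-theoretic image of `U'` in the finite scheme
  let π : j.image ⟶ Spec (CommRingCat.of A) := j.imageι ≫ π₀
  let k : U' ⟶ j.image := j.toImage
  have hkπ : k ≫ π = g ≫ U.ι := by
    simp only [k, π, Scheme.Hom.toImage_imageι_assoc]
    exact hjπ
  have : IsDominant k := inferInstance
  have : IsOpenImmersion k := inferInstance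
  have hrk : Set.range k ⊆ (π ⁻¹ᵁ U : Set j.image) := by
    rintro _ ⟨x, rfl⟩
    show π (k x) ∈ U
    rw [← Scheme.Hom.comp_apply, hkπ, Scheme.Hom.comp_apply]
    exact (g x).2
  let k' : U' ⟶ (π ⁻¹ᵁ U : Scheme.{u}) :=
    IsOpenImmersion.lift (π ⁻¹ᵁ U).ι k (by rwa [Scheme.Opens.range_ι])
  have hk' : k' ≫ (π ⁻¹ᵁ U).ι = k := IsOpenImmersion.lift_fac _ _ _
  have hk'g : k' ≫ (π ∣_ U) = g := by
    rw [← cancel_mono U.ι, Category.assoc, morphismRestrict_ι, reassoc_of% hk', hkπ]
  have : IsOpenImmersion (k' ≫ (π ⁻¹ᵁ U).ι) := by rw [hk']; infer_instance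
  have : IsOpenImmersion k' := IsOpenImmersion.of_comp k' (π ⁻¹ᵁ U).ι
  have : IsProper (k' ≫ (π ∣_ U)) := by rw [hk'g]; infer_instance
  have : IsProper k' := IsProper.of_comp k' (π ∣_ U)
  have : IsDominant k' := ⟨fun x => by
    have hx : (π ⁻¹ᵁ U).ι x ∈ closure (Set.range k) := k.denseRange _
    rw [show (k : U' → j.image) = (π ⁻¹ᵁ U).ι ∘ k' by
      ext y; rw [Function.comp_apply, ← Scheme.Hom.comp_apply, hk'], Set.range_comp] at hx
    exact ((π ⁻¹ᵁ U).ι.isOpenEmbedding.isInducing.closure_eq_preimage_closure_image _).ge hx⟩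
  have : Surjective k' := surjective_of_isDominant_of_isClosed_range k' k'.isClosedMap.isClosed_range
  have : IsIso k' := (isIso_iff_isOpenImmersion_and_surjective k').mpr ⟨inferInstance, inferInstance⟩
  have hpb : IsPullback k g π U.ι :=
    (isPullback_morphismRestrict π U).flip.of_iso (asIso k').symm (Iso.refl _) (Iso.refl _) (Iso.refl _)
      (by simp [← hk']) (by simp [← hk'g]) (by simp) (by simp)
  -- the finite algebra
  have : IsAffine j.image := isAffine_of_isAffineHom π
  let φ : CommRingCat.of A ⟶ Γ(j.image, ⊤) := Spec.preimage (j.image.isoSpec.inv ≫ π)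
  have hφ : Spec.map φ = j.image.isoSpec.inv ≫ π := Spec.map_preimage _
  have hfin : φ.hom.Finite := by
    have : IsFinite (Spec.map φ) := by rw [hφ]; infer_instance
    exact IsFinite.SpecMap_iff φ |>.mp this
  refine ⟨Γ(j.image, ⊤), inferInstance, φ.hom.toAlgebra, k ≫ j.image.isoSpec.hom, hfin, ?_⟩
  exact hpb.of_iso (Iso.refl _) j.image.isoSpec (Iso.refl _) (Iso.refl _) (by simp) (by simp)
    (by change π ≫ 𝟙 _ = j.image.isoSpec.hom ≫ Spec.map φ; rw [hφ]; simp) (by simp)

end Groth.Agent.S16574
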