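import Groth.Statements.S16576
import Groth.Agent.H24.C2Flat
import Groth.Agent.H18.FEquidim.Loc
import Groth.Agent.H24.CompletionFlat

set_option autoImplicit false
universe u
open CAlg

namespace Groth.Agent.S16576

open IsLocalRing
open scoped TensorProduct

/-- Components of a flat local algebra over a complete local ring with components of dimension at
least two. -/
theorem two_le_of_complete {C B : Type u} [CommRing C] [IsNoetherianRing C] [IsLocalRing C]
    [IsAdicComplete (maximalIdeal C) C]
    (hC : ∀ p ∈ minimalPrimes C, (2 : WithBot ℕ∞) ≤ ringKrullDim (C ⧸ p))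
    [CommRing B] [IsNoetherianRing B] [IsLocalRing B] [Algebra C B] [IsLocalHom (algebraMap C B)]
    [Module.Flat C B] {q : Ideal B} (hq : q ∈ minimalPrimes B) :
    (2 : WithBot ℕ∞) ≤ ringKrullDim (B ⧸ q) := by
  haveI := hq.1.1
  let p := q.comap (algebraMap C B)
  have hp : p ∈ minimalPrimes C := by
    refine ⟨⟨inferInstance, bot_le⟩, fun p₀ hp₀ hle => ?_⟩
    haveI := hp₀.1
    haveI : q.LiesOver p := ⟨rfl⟩
    obtain ⟨q₀, hq₀, hq₀p, hover⟩ := Ideal.exists_ideal_le_liesOver_of_le q hle
    have : q ≤ q₀ := hq.2 ⟨hq₀p, bot_le⟩ hq₀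
    rw [hover.over]
    exact Ideal.comap_mono this
  haveI : p.IsPrime := inferInstance
  haveI : IsLocalRing (C ⧸ p) := .of_surjective' _ Ideal.Quotient.mk_surjective
  let J := p.map (algebraMap C B)
  have hJq : J ≤ q := Ideal.map_le_iff_le_comap.mpr le_rfl
  haveI : Nontrivial (B ⧸ J) := Ideal.Quotient.nontrivial_iff.mpr fun h =>
    (Ideal.IsPrime.ne_top (inferInstance : q.IsPrime)) (eq_top_iff.mpr (h ▸ hJq))
  haveI : IsLocalRing (B ⧸ J) := .of_surjective' _ Ideal.Quotient.mk_surjective
  haveI : IsLocalHom (algebraMap (C ⧸ p) (B ⧸ J)) := ⟨fun x hx => by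
    obtain ⟨c, rfl⟩ := Ideal.Quotient.mk_surjective x
    have hu : IsUnit (Ideal.Quotient.mk J (algebraMap C B c)) := hx
    haveI : IsLocalHom (Ideal.Quotient.mk J) :=
      IsLocalHom.of_surjective _ Ideal.Quotient.mk_surjective
    exact (IsLocalHom.map_nonunit (f := algebraMap C B) c
      (IsLocalHom.map_nonunit (f := Ideal.Quotient.mk J) _ hu)).map _⟩
  haveI : Module.Flat (C ⧸ p) (B ⧸ J) := by
    let e₁ : (C ⧸ p) ⊗[C] B ≃ₗ[C] B ⧸ (p • ⊤ : Submodule C B) :=
      TensorProduct.quotTensorEquivQuotSMul B p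
    let e₂ : (B ⧸ (p • ⊤ : Submodule C B)) ≃ₗ[C] B ⧸ J :=
      (Submodule.quotEquivOfEq _ _ (Ideal.smul_top_eq_map p)).trans
        (Submodule.Quotient.restrictScalarsEquiv C J)
    exact Module.Flat.of_linearEquiv
      ((e₁.trans e₂).extendScalarsOfSurjective (S := C ⧸ p) Ideal.Quotient.mk_surjective).symm
  haveI : IsAdicComplete (maximalIdeal (C ⧸ p)) (C ⧸ p) :=
    H24.CompleteFinite.isAdicComplete_maximalIdeal (R := C)
  have hq' : q.map (Ideal.Quotient.mk J) ∈ minimalPrimes (B ⧸ J) := by
    have hker : RingHom.ker (Ideal.Quotient.mk J) ≤ q := by rw [Ideal.mk_ker]; exact hJq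
    refine ⟨⟨Ideal.map_isPrime_of_surjective Ideal.Quotient.mk_surjective hker, bot_le⟩,
      fun P hP hle => ?_⟩
    haveI := hP.1
    have h1 : P.comap (Ideal.Quotient.mk J) ≤ q := by
      refine (Ideal.comap_mono hle).trans ?_
      rw [Ideal.comap_map_of_surjective _ Ideal.Quotient.mk_surjective, ← RingHom.ker_eq_comap_bot,
        sup_eq_left.mpr hker]
    exact Ideal.map_le_iff_le_comap.mpr (hq.2 ⟨inferInstance, bot_le⟩ h1)
  have h := H24.C2Flat.two_le (C := C ⧸ p) (B := B ⧸ J) (hC p hp) hq'
  exact h.trans_eq (ringKrullDim_eq_of_ringEquiv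
    (DoubleQuot.quotQuotEquivQuotOfLE hJq))


/-- Let A → B be a flat local homomorphism of Noetherian local rings and let Â, B̂ be their completions
at the maximal ideals. If every irreducible component of Spec Â has dimension at least 2, then every
irreducible component of Spec B̂ has dimension at least 2. (This is the c_2 condition in its
completed form; globally: the preimage of a c_2 closed subset under a flat morphism of Noetherian
schemes is c_2, in particular the condition is invariant under Zariski and étale localization.) -/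
theorem result
    (A B : Type u) [CommRing A] [CommRing B] [IsNoetherianRing A] [IsNoetherianRing B]
    [IsLocalRing A] [IsLocalRing B] (f : A →+* B) [IsLocalHom f] (hf : f.Flat)
    (hA : ∀ q ∈ minimalPrimes (AdicCompletion (IsLocalRing.maximalIdeal A) A), (2 : WithBot ℕ∞) ≤ ringKrullDim (AdicCompletion (IsLocalRing.maximalIdeal A) A ⧸ q)) :
    ∀ q ∈ minimalPrimes (AdicCompletion (IsLocalRing.maximalIdeal B) B), (2 : WithBot ℕ∞) ≤ ringKrullDim (AdicCompletion (IsLocalRing.maximalIdeal B) B ⧸ q) := by
  letI := f.toAlgebra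
  haveI : IsLocalHom (algebraMap A B) := ‹IsLocalHom f›
  haveI : Module.Flat A B := hf
  intro q hq
  obtain ⟨ψ, hψ⟩ := H18.FEquidim.Loc.exists_cplMap A B
  letI := ψ.toAlgebra
  haveI : IsScalarTower A (AdicCompletion (IsLocalRing.maximalIdeal A) A)
      (AdicCompletion (IsLocalRing.maximalIdeal B) B) :=
    IsScalarTower.of_algebraMap_eq' (by
      rw [IsScalarTower.algebraMap_eq A B (AdicCompletion (IsLocalRing.maximalIdeal B) B)]
      exact hψ.symm)
  haveI : Module.Flat (AdicCompletion (IsLocalRing.maximalIdeal A) A)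
      (AdicCompletion (IsLocalRing.maximalIdeal B) B) := H24.CompletionFlat.flat_completion A B
  haveI : IsLocalHom (algebraMap (AdicCompletion (IsLocalRing.maximalIdeal A) A)
      (AdicCompletion (IsLocalRing.maximalIdeal B) B)) := by
    refine ((IsLocalRing.local_hom_TFAE ψ).out 0 2).mpr ?_
    rw [AdicCompletion.maximalIdeal_eq_map, AdicCompletion.maximalIdeal_eq_map, Ideal.map_map, hψ,
      ← Ideal.map_map]
    exact Ideal.map_mono (IsLocalRing.map_maximalIdeal_le _)
  haveI : IsAdicComplete (IsLocalRing.maximalIdeal (AdicCompletion (IsLocalRing.maximalIdeal A) A))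
      (AdicCompletion (IsLocalRing.maximalIdeal A) A) := by
    rw [AdicCompletion.maximalIdeal_eq_map]
    exact AdicCompletion.isAdicComplete_self _ (Ideal.fg_of_isNoetherianRing _)
  exact two_le_of_complete hA hq

end Groth.Agent.S16576
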