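import Groth.Statements.S16577
import Groth.Agent.Lib.Henselian.StrictHenselization
import Groth.Agent.Lib.Henselian.LimProps
import Mathlib.RingTheory.Flat.FaithfullyFlat.Algebra
import Mathlib.RingTheory.Spectrum.Prime.Topology

set_option autoImplicit false
universe u
open Hensel

namespace Groth.Agent.S16577

open Groth.Agent.Lib.Henselian

/-- Let A be a Noetherian local ring with a strict henselization S', and p a prime ideal of A. Call p an
immediate étale generization of the closed point when the strict henselization S'/pS' of A/p has an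
irreducible component of dimension 1, that is, some minimal prime P over pS' has dim S'/P = 1. Then
p is an immediate étale generization of the closed point if and only if p is the contraction of some
prime ideal P of S' with dim S'/P = 1. -/
theorem result
    (A : Type u) [CommRing A] [IsNoetherianRing A] [IsLocalRing A]
    (S' : Type u) [CommRing S'] [IsLocalRing S'] [Algebra A S'] [IsLocalHom (algebraMap A S')]
    [Hensel.IsStrictHenselization A S']
    (p : Ideal A) [p.IsPrime] :
    (∃ P ∈ (p.map (algebraMap A S')).minimalPrimes, ringKrullDim (S' ⧸ P) = 1) ↔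
    (∃ P : Ideal S', P.IsPrime ∧ P.comap (algebraMap A S') = p ∧ ringKrullDim (S' ⧸ P) = 1) := by
  have := StrictHenselization.faithfullyFlat A S'
  let e := StrictHenselization.equivOfIsStrictHenselization A S'
  constructor
  · rintro ⟨P, hP, hdim⟩
    have := hP.1.1
    have hle : p ≤ P.comap (algebraMap A S') := Ideal.map_le_iff_le_comap.mp hP.1.2
    obtain ⟨P', hP'le, hP', hP'lo⟩ := Ideal.exists_ideal_le_liesOver_of_le (q := P.comap (algebraMap A S')) (p := p) P hle
    have hP'p : P'.comap (algebraMap A S') = p := hP'lo.over.symm
    have := hP.2 ⟨hP', Ideal.map_le_iff_le_comap.mpr hP'p.ge⟩ hP'le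
    exact ⟨P, inferInstance, (le_antisymm this hP'le) ▸ hP'p, hdim⟩
  · rintro ⟨P, hP, hPp, hdim⟩
    refine ⟨P, ⟨⟨hP, Ideal.map_le_iff_le_comap.mpr hPp.ge⟩, fun Q hQ hQP => ?_⟩, hdim⟩
    have := hQ.1
    have hQp : Q.comap (algebraMap A S') = p :=
      le_antisymm ((Ideal.comap_mono hQP).trans hPp.le) (Ideal.map_le_iff_le_comap.mp hQ.2)
    let eh : StrictHenselization.StrictHenselization A →+* S' := e.toAlgHom.toRingHom
    have heh : eh.comp (algebraMap A _) = algebraMap A S' := e.toAlgHom.comp_algebraMap
    have h2 := Groth.Agent.Lib.Henselian.LimProps.eq_of_le_of_comap_eq (P := Q.comap eh) (Q := P.comap eh)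
      (Ideal.comap_mono hQP) (by rw [Ideal.comap_comap, Ideal.comap_comap, heh, hQp, hPp])
    exact (Ideal.comap_injective_of_surjective eh e.surjective h2).ge

end Groth.Agent.S16577
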