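import Groth.Statements.S16578
import Groth.Agent.H24.ImmGen.StrictMap

set_option autoImplicit false
universe u
open Hensel

namespace Groth.Agent.S16578

/-- Let A be a Noetherian local ring with completion Â at its maximal ideal, S' a strict henselization
of A, T' a strict henselization of Â, and p a prime ideal of A. Say that a prime p of a Noetherian
local ring with strict henselization S is an immediate étale generization of the closed point when
some minimal prime P over pS has dim S/P = 1. Then p is an immediate étale generization of the
closed point of A if and only if some minimal prime q over pÂ (a maximal point of the fibre over p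
of Spec Â → Spec A) is an immediate étale generization of the closed point of Â. -/
theorem result
    (A : Type u) [CommRing A] [IsNoetherianRing A] [IsLocalRing A]
    (S' : Type u) [CommRing S'] [IsLocalRing S'] [Algebra A S'] [IsLocalHom (algebraMap A S')]
    [Hensel.IsStrictHenselization A S']
    (T' : Type u) [CommRing T'] [IsLocalRing T'] [Algebra (AdicCompletion (IsLocalRing.maximalIdeal A) A) T'] [IsLocalHom (algebraMap (AdicCompletion (IsLocalRing.maximalIdeal A) A) T')]
    [Hensel.IsStrictHenselization (AdicCompletion (IsLocalRing.maximalIdeal A) A) T']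
    (p : Ideal A) [p.IsPrime] :
    (∃ P ∈ (p.map (algebraMap A S')).minimalPrimes, ringKrullDim (S' ⧸ P) = 1) ↔
    (∃ q ∈ (p.map (algebraMap A (AdicCompletion (IsLocalRing.maximalIdeal A) A))).minimalPrimes,
      ∃ Q ∈ (q.map (algebraMap (AdicCompletion (IsLocalRing.maximalIdeal A) A) T')).minimalPrimes, ringKrullDim (T' ⧸ Q) = 1) := by
  let S := Groth.Agent.Lib.Henselian.StrictHenselization.StrictHenselization A
  let Ah := AdicCompletion (IsLocalRing.maximalIdeal A) A
  let T := Groth.Agent.Lib.Henselian.StrictHenselization.StrictHenselization Ah
  haveI hS : Hensel.IsStrictHenselization A S := inferInstance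
  haveI hT : Hensel.IsStrictHenselization Ah T := inferInstance
  haveI := hS.henselian
  haveI : IsNoetherianRing S := Groth.Agent.Lib.Henselian.Permanence.strict_isNoetherianRing A S
  haveI : IsNoetherianRing T := Groth.Agent.Lib.Henselian.Permanence.strict_isNoetherianRing Ah T
  obtain ⟨g, hflat, hmax, hres, hg⟩ := H24.ImmGen.exists_strict_map' A
  letI := g.toAlgebra
  haveI := hflat
  letI : Algebra A T := ((algebraMap Ah T).comp (algebraMap A Ah)).toAlgebra
  haveI : IsScalarTower A Ah T := IsScalarTower.of_algebraMap_eq fun a => rfl
  haveI : IsScalarTower A S T :=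
    IsScalarTower.of_algebraMap_eq fun a => (RingHom.congr_fun hg a).symm
  haveI : Module.Flat Ah T :=
    (Groth.Agent.Lib.Henselian.StrictHenselization.faithfullyFlat Ah T).toFlat
  show H24.ImmGen.HasCurveComp (p.map (algebraMap A S')) ↔
    ∃ q ∈ (p.map (algebraMap A Ah)).minimalPrimes,
      H24.ImmGen.HasCurveComp (q.map (algebraMap Ah T'))
  rw [H24.ImmGen.hasCurveComp_iff_of_algEquiv
      (Groth.Agent.Lib.Henselian.StrictHenselization.equivOfIsStrictHenselization A S').symm p,
    ← H24.ImmGen.hasCurveComp_map_iff (E := T) hmax hres (p.map (algebraMap A S)),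
    Ideal.map_map, ← IsScalarTower.algebraMap_eq,
    H24.ImmGen.hasCurveComp_iff_exists (B := Ah)]
  exact exists_congr fun q => and_congr_right fun _ =>
    H24.ImmGen.hasCurveComp_iff_of_algEquiv
      (Groth.Agent.Lib.Henselian.StrictHenselization.equivOfIsStrictHenselization Ah T') q

end Groth.Agent.S16578
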