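import Groth.Statements.S16579
import Groth.Agent.Lib.Henselian.Gabber.Main

set_option autoImplicit false
universe u
open CategoryTheory AlgebraicGeometry
open Hensel

namespace Groth.Agent.S16579

/-- The case of the constant sheaf on a two-element set. Let (A, I) be a henselian pair with I finitely
generated (A not necessarily Noetherian), Â the I-adic completion of A, π : Spec Â → Spec A the
completion morphism, U a quasi-compact open subscheme of Spec A containing the complement of V(I),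
and Û = π⁻¹(U). Then V ↦ (π|Û)⁻¹(V) is a bijection from the clopen subsets of U onto the clopen
subsets of Û; equivalently, for every finite set F the locally constant F-valued functions on U and
on Û correspond under composition with π. -/
theorem result
    (A : Type u) [CommRing A] (I : Ideal A) (hI : I.FG) [HenselianRing A I]
    (U : (Spec (CommRingCat.of A)).Opens) (hU : IsCompact (U : Set (Spec (CommRingCat.of A))))
    (hUI : ∀ x : Spec (CommRingCat.of A), x ∉ U → I ≤ x.asIdeal) :
    Function.Bijective (fun V : {V : Set ↥U // IsClopen V} =>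
      (⟨((Spec.map (CommRingCat.ofHom (algebraMap A (AdicCompletion I A)))) ∣_ U).base.hom ⁻¹' V.1, V.2.preimage ((Spec.map (CommRingCat.ofHom (algebraMap A (AdicCompletion I A)))) ∣_ U).base.hom.continuous⟩ :
        {V' : Set ↥((Spec.map (CommRingCat.ofHom (algebraMap A (AdicCompletion I A)))) ⁻¹ᵁ U) // IsClopen V'})) := by
  have hUI' : ∀ p : PrimeSpectrum A, ¬ I ≤ p.asIdeal → p ∈ (U : Set ↥(Spec (CommRingCat.of A))) := fun p hp =>
    by_contra fun h => hp (hUI p h)
  let φ := algebraMap A (AdicCompletion I A)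
  have hA := Groth.Agent.Lib.Henselian.Gabber.Main.approx_adicCompletion (A := A) hI
  have hjB := Groth.Agent.Lib.Henselian.Gabber.Main.jacobson_adicCompletion (A := A) hI
  let S := Spec.map (CommRingCat.ofHom φ)
  have hval : Topology.IsOpenEmbedding (Subtype.val : ↥U → Spec (CommRingCat.of A)) := U.isOpen.isOpenEmbedding_subtypeVal
  have hval' : Topology.IsOpenEmbedding (Subtype.val : ↥(S ⁻¹ᵁ U) → Spec (CommRingCat.of (AdicCompletion I A))) :=
    (S ⁻¹ᵁ U).isOpen.isOpenEmbedding_subtypeVal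
  have hres : ∀ x : ↥(S ⁻¹ᵁ U), Subtype.val ((S ∣_ U).base.hom x) = PrimeSpectrum.comap φ x.1 :=
    fun x => morphismRestrict_base_coe S U x
  have split : ∀ V : Set ↥U, IsClopen V →
      IsOpen (Subtype.val '' Vᶜ) ∧ IsOpen (Subtype.val '' V) ∧
      Disjoint (Subtype.val '' Vᶜ) (Subtype.val '' V) ∧
      Subtype.val '' Vᶜ ∪ Subtype.val '' V = (U : Set (Spec (CommRingCat.of A))) := fun V hV =>
    ⟨hval.isOpenMap _ hV.compl.isOpen, hval.isOpenMap _ hV.isOpen,
      Set.disjoint_image_of_injective Subtype.val_injective disjoint_compl_left,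
      (Set.image_union _ _ _).symm.trans ((congrArg _ (Set.compl_union_self V)).trans (Set.image_univ.trans Subtype.range_val))⟩
  constructor
  · rintro ⟨V, hV⟩ ⟨W, hW⟩ hVW
    have hpre := congrArg Subtype.val hVW
    simp only at hpre
    have he : ∀ (V W : Set ↥U), (S ∣_ U).base.hom ⁻¹' V = (S ∣_ U).base.hom ⁻¹' W →
        PrimeSpectrum.comap φ ⁻¹' (Subtype.val '' V) ⊆ PrimeSpectrum.comap φ ⁻¹' (Subtype.val '' W) := by
      rintro V W h Q ⟨x, hx, hxQ⟩
      have hQ : (PrimeSpectrum.comap φ Q : Spec (CommRingCat.of A)) ∈ U := hxQ ▸ x.2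
      have hx' : (S ∣_ U).base.hom ⟨Q, hQ⟩ = x := Subtype.ext ((hres ⟨Q, hQ⟩).trans hxQ.symm)
      have : (⟨Q, hQ⟩ : ↥(S ⁻¹ᵁ U)) ∈ (S ∣_ U).base.hom ⁻¹' W := h ▸ (show _ ∈ V from hx'.symm ▸ hx)
      exact ⟨_, this, hres ⟨Q, hQ⟩⟩
    obtain ⟨a1, a2, a3, a4⟩ := split V hV
    obtain ⟨b1, b2, b3, b4⟩ := split W hW
    have heq := Set.Subset.antisymm (he V W hpre) (he W V hpre.symm)
    have h1 := Groth.Agent.Lib.Henselian.Gabber.Main.eq_of_preimage_eq HenselianRing.jac hA hI hUI' a1 a2 a3 a4 b1 b2 b3 b4 heq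
    have h2 := Groth.Agent.Lib.Henselian.Gabber.Main.eq_of_preimage_eq HenselianRing.jac hA hI hUI' b1 b2 b3 b4 a1 a2 a3 a4 heq.symm
    exact Subtype.ext (Subtype.val_injective.image_injective (Set.Subset.antisymm h1 h2))
  · rintro ⟨V', hV'⟩
    obtain ⟨E₀, E₁, h0, h1, hd, hu, he⟩ := Groth.Agent.Lib.Henselian.Gabber.Main.exists_clopen_of_open hjB hA hI
      U.isOpen hUI' (C₀ := Subtype.val '' V'ᶜ) (C₁ := Subtype.val '' V')
      (hval'.isOpenMap _ hV'.compl.isOpen) (hval'.isOpenMap _ hV'.isOpen)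
      (Set.disjoint_image_of_injective Subtype.val_injective disjoint_compl_left)
      ((Set.image_union _ _ _).symm.trans ((congrArg _ (Set.compl_union_self V')).trans (Set.image_univ.trans Subtype.range_val)))
    have hV : IsClopen (Subtype.val ⁻¹' E₁ : Set ↥U) := by
      refine ⟨?_, h1.preimage continuous_subtype_val⟩
      rw [← isOpen_compl_iff]
      have e : (Subtype.val ⁻¹' E₁ : Set ↥U)ᶜ = Subtype.val ⁻¹' E₀ := by
        ext x
        exact ⟨fun hx => ((Set.ext_iff.mp hu x.1).mpr x.2).resolve_right hx, fun hx => Set.disjoint_left.mp hd hx⟩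
      rw [e]
      exact h0.preimage continuous_subtype_val
    refine ⟨⟨_, hV⟩, Subtype.ext (Set.ext fun x => ?_)⟩
    show Subtype.val ((S ∣_ U).base.hom x) ∈ E₁ ↔ x ∈ V'
    rw [hres]
    exact (Set.ext_iff.mp he x.1).trans ⟨fun ⟨y, hy, hyx⟩ => Subtype.ext hyx ▸ hy, fun hx => ⟨x, hx, rfl⟩⟩

end Groth.Agent.S16579
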