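import Groth.Statements.S1658
import Groth.Agent.Lib.DepthTwist.Zero
import Groth.Agent.Lib.UnifReg.Hyperplane
import Groth.Agent.Lib.Ample.GG

set_option autoImplicit false
universe u
open CategoryTheory CategoryTheory.Limits AlgebraicGeometry
open Divisors

namespace Groth.Agent.S1658
open Groth.Agent.Lib Groth.Agent.Lib.TensorMod Groth.Agent.Lib.TensorMod.Basic Groth.Agent.Lib.Ample Groth.Agent.Lib.Ample.GenLocus Groth.Agent.Lib.Ample.Pow Groth.Agent.Lib.Ample.Basis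

/-- The algebra behind `N ⊗ I ≅ I'` when `(N ⊗ A) ⊗ I` and `A ⊗ I'` are trivial. -/
noncomputable def iso_shuffle {X : Scheme.{u}} (N A I I' : X.Modules)
    (e : CohB1.tensorMod (CohB1.tensorMod N A) I ≅ Coh.structureModule X)
    (e' : CohB1.tensorMod A I' ≅ Coh.structureModule X) : CohB1.tensorMod N I ≅ I' :=
  (rightUnit _).symm ≪≫ tensorIso (Iso.refl _) e'.symm ≪≫ (assoc _ _ _).symm ≪≫
    tensorIso (assoc N I A ≪≫ tensorIso (Iso.refl N) (comm I A) ≪≫ (assoc N A I).symm ≪≫ e) (Iso.refl I') ≪≫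
      leftUnit I'

theorem mono_of_assPoints {X : Scheme.{u}} {M : X.Modules} (s : Coh.structureModule X ⟶ M)
    (h : ∀ x, Curv2.IsAssPoint (Coh.structureModule X) x → x ∈ CohB1.genLocus M s) : Mono s := by
  haveI : (Coh.structureModule X).IsQuasicoherent := QCohInv.isQCoh_of_isInvertible (PicLoc.isInvertible_structureModule X)
  refine AssPt.Modules.mono_of_stalk_injective s fun x hx => ?_
  obtain ⟨U, hxU, hU⟩ := (mem_genLocus_iff s).1 (h x hx)
  exact (ExtHH.SheafHom.bijective_stalk_of_isIso_restrict ((isIso_restrict_iff s U).2 hU) hxU).1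

theorem exists_twist_section {X : Scheme.{u}} [IsNoetherian X] {L N : X.Modules} (hL : CohB1.IsAmple L)
    (hN : PicF.IsInvertible N) {Z : Set X} (hZ : Z.Finite) :
    ∃ n₁ : ℕ, ∀ n, n₁ ≤ n → ∃ t : Coh.structureModule X ⟶ CohB1.tensorMod N (CohB1.tensorPow L n),
      Z ⊆ CohB1.genLocus _ t := by
  classical
  obtain ⟨hi, -, -⟩ := isAmple_iff.1 hL
  let Z₀ : Set X := {z ∈ Z | ∀ z' ∈ Z, z ⤳ z' → z' = z}
  have hmin : ∀ z ∈ Z, ∃ z' ∈ Z₀, z ⤳ z' := by
    intro z hz
    obtain ⟨z', ⟨hz', hzz'⟩, hmax⟩ := (hZ.subset (Set.sep_subset Z (z ⤳ ·))).exists_minimalFor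
      (fun w => closure ({w} : Set X)) {w ∈ Z | z ⤳ w} ⟨z, hz, specializes_rfl⟩
    refine ⟨z', ⟨hz', fun w hw hzw => ?_⟩, hzz'⟩
    have h1 : closure ({w} : Set X) ⊆ closure {z'} := specializes_iff_closure_subset.1 hzw
    have h2 := hmax ⟨hw, hzz'.trans hzw⟩ h1
    exact (Inseparable.eq ((specializes_iff_closure_subset.2 h2).antisymm hzw))
  haveI : Fintype Z₀ := (hZ.subset (Set.sep_subset _ _)).fintype
  have hsel : ∀ z : Z₀, ∃ n : ℕ, 0 < n ∧ ∃ s : Coh.structureModule X ⟶ CohB1.tensorPow L n,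
      (z : X) ∈ CohB1.genLocus _ s ∧ ∀ z' : Z₀, z' ≠ z → (z' : X) ∉ CohB1.genLocus _ s := by
    intro z
    let C : Set X := ⋃ z' : {z' : Z₀ // z' ≠ z}, closure {(z'.1 : X)}
    have hC : IsClosed C := isClosed_iUnion_of_finite fun _ => isClosed_closure
    have hzC : (z : X) ∉ C := fun h => by
      obtain ⟨⟨z', hne⟩, hz'⟩ := Set.mem_iUnion.1 h
      exact hne (Subtype.ext ((z'.2.2 z z.2.1 (specializes_iff_mem_closure.2 hz')).symm))
    obtain ⟨n, hn, s, hzs, hsU, -⟩ := exists_locus_subset hL (U := ⟨Cᶜ, hC.isOpen_compl⟩) (x := (z : X)) hzC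
    exact ⟨n, hn, s, hzs, fun z' hne hz' => hsU hz' (Set.mem_iUnion.2 ⟨⟨z', hne⟩, subset_closure rfl⟩)⟩
  choose n hn s hzs hoth using hsel
  let K := ∏ z, n z
  obtain ⟨n₀, hn₀⟩ := GG.eventually_genAt_twist hL N (GG.isCoh_of_isInvertible hN)
  refine ⟨n₀ + K, fun m hm => ?_⟩
  obtain ⟨i, rfl⟩ : ∃ i, m = i + K := ⟨m - K, by omega⟩
  have hinv : PicF.IsInvertible (CohB1.tensorMod N (CohB1.tensorPow L i)) :=
    Invertible.isInvertible_tensorMod hN (Invertible.isInvertible_tensorPow hi i)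
  choose b hb using fun z : Z₀ => GG.exists_genLocus_of_genAt hinv (hn₀ i (by omega) z.1)
  let k : Z₀ → ℕ := fun z => ∏ w ∈ Finset.univ.erase z, n w
  have hnk : ∀ z, n z * k z = K := fun z => Finset.mul_prod_erase _ _ (Finset.mem_univ z)
  let σ : Z₀ → (Coh.structureModule X ⟶ CohB1.tensorPow L K) := fun z =>
    SecTwist.powHom (s z) (k z) ≫ (powMul L (n z) (k z) ≪≫ powCongr L (hnk z)).hom
  have hσ : ∀ z, CohB1.genLocus _ (σ z) = CohB1.genLocus _ (s z) := fun z => by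
    rw [genLocus_comp_iso, genLocus_powHom (Invertible.isInvertible_tensorPow hi _) _ _
      (Finset.prod_pos fun w _ => hn w)]
  let e : CohB1.tensorMod (CohB1.tensorMod N (CohB1.tensorPow L i)) (CohB1.tensorPow L K) ≅
      CohB1.tensorMod N (CohB1.tensorPow L (i + K)) :=
    assoc _ _ _ ≪≫ tensorIso (Iso.refl N) (powAdd L i K).symm
  let τ : Z₀ → (Coh.structureModule X ⟶ CohB1.tensorMod N (CohB1.tensorPow L (i + K))) := fun z =>
    SecTwist.tmulHom (b z) (σ z) ≫ e.hom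
  have hτ : ∀ z, CohB1.genLocus _ (τ z) = CohB1.genLocus _ (b z) ⊓ CohB1.genLocus _ (s z) := fun z => by
    rw [genLocus_comp_iso, genLocus_tmulHom hinv (Invertible.isInvertible_tensorPow hi K), hσ]
  have hinv' : PicF.IsInvertible (CohB1.tensorMod N (CohB1.tensorPow L (i + K))) :=
    Invertible.isInvertible_tensorMod hN (Invertible.isInvertible_tensorPow hi _)
  refine ⟨∑ z, τ z, fun z hz => ?_⟩
  obtain ⟨z', hz', hzz'⟩ := hmin z hz
  refine hzz'.mem_open (CohB1.genLocus _ _).isOpen ?_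
  refine mem_genLocus_sum hinv' _ τ (Finset.mem_univ ⟨z', hz'⟩) ?_ fun w _ hne => ?_
  · rw [hτ]; exact ⟨hb ⟨z', hz'⟩, hzs _⟩
  · rw [hτ]; exact fun h => hoth w ⟨z', hz'⟩ hne.symm h.2


/-- Let X be Noetherian with an ample invertible module and N any invertible O_X-module. For every
finite set E of points of X there are effective Cartier divisors D and D', whose supports miss E,
with N ⊗ I_D ≅ I_{D'} (that is, N ≅ O_X(D) ⊗ O_X(D')^{-1}), where I_D, I_{D'} are the ideal sheaves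
as O_X-modules. -/
theorem result (X : Scheme.{u}) [IsNoetherian X] (L : X.Modules) (hL : CohB1.IsAmple L)
    (N : X.Modules) (hN : PicF.IsInvertible N) (E : Set X) (hE : E.Finite) :
    ∃ D D' : X.IdealSheafData, BlowUp.IsEffCartierIdeal D ∧ BlowUp.IsEffCartierIdeal D' ∧
      Disjoint E (D.support : Set X) ∧ Disjoint E (D'.support : Set X) ∧
      Nonempty (CohB1.tensorMod N (ClSub.idealMod D) ≅ ClSub.idealMod D') := by
  obtain ⟨hi, -, -⟩ := isAmple_iff.1 hL
  let Z : Set X := E ∪ {x | Curv2.IsAssPoint (Coh.structureModule X) x}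
  have hZ : Z.Finite := hE.union
    (UnifReg.Hyperplane.finite_assPoints (GG.isCoh_of_isInvertible (PicLoc.isInvertible_structureModule X)))
  obtain ⟨n₁, h₁⟩ := exists_twist_section hL hN hZ
  obtain ⟨n₂, h₂⟩ := exists_twist_section hL (PicLoc.isInvertible_structureModule X) hZ
  obtain ⟨t, ht⟩ := h₁ (n₁ + n₂) (by omega)
  obtain ⟨s₀, hs₀⟩ := h₂ (n₁ + n₂) (by omega)
  let A := CohB1.tensorPow L (n₁ + n₂)
  let s : Coh.structureModule X ⟶ A := s₀ ≫ (leftUnit A).hom
  have hs : Z ⊆ CohB1.genLocus _ s := by rw [genLocus_comp_iso]; exact hs₀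
  have hA : PicF.IsInvertible A := Invertible.isInvertible_tensorPow hi _
  have hNA : PicF.IsInvertible (CohB1.tensorMod N A) := Invertible.isInvertible_tensorMod hN hA
  haveI : Mono t := mono_of_assPoints t fun x hx => ht (Or.inr hx)
  haveI : Mono s := mono_of_assPoints s fun x hx => hs (Or.inr hx)
  obtain ⟨hD, ⟨eD⟩, hDs⟩ := DepthTwist.Zero.divisor_spec hNA t
  obtain ⟨hD', ⟨eD'⟩, hD's⟩ := DepthTwist.Zero.divisor_spec hA s
  refine ⟨_, _, hD, hD', ?_, ?_, ⟨iso_shuffle N A _ _ eD eD'⟩⟩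
  · rw [hDs]; exact Set.disjoint_left.2 fun x hx h => h (ht (Or.inl hx))
  · rw [hD's]; exact Set.disjoint_left.2 fun x hx h => h (hs (Or.inl hx))

end Groth.Agent.S1658
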