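import Mathlib
import Groth.Statements.S16583
-- import your own Groth.Agent.* helpers here

set_option autoImplicit false
universe u
open CategoryTheory AlgebraicGeometry
open EtCore

namespace Groth.Agent.S16583

set_option maxHeartbeats 800000 in
lemma spread {A B : Type u} [CommRing A] [CommRing B] [Algebra A B] [Algebra.FinitePresentation A B]
    (p : Ideal A) [p.IsPrime] (σ : B →ₐ[A] Localization.AtPrime p) :
    ∃ (s : A) (h : s ∉ p) (τ : B →ₐ[A] Localization.Away s),
      (IsLocalization.Away.lift s (g := algebraMap A (Localization.AtPrime p))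
        (IsLocalization.map_units (Localization.AtPrime p) (⟨s, h⟩ : p.primeCompl))).comp τ.toRingHom
        = σ.toRingHom := by
  classical
  obtain ⟨n, π, hπ, R, hR⟩ := Algebra.FinitePresentation.out (R := A) (A := B)
  let M := p.primeCompl
  choose a b hab using fun i : Fin n => IsLocalization.exists_mk'_eq M (σ (π (MvPolynomial.X i)))
  let s0 : A := ∏ i, (b i : A)
  have hs0 : s0 ∈ M := prod_mem fun i _ => (b i).2
  let g0 := IsLocalization.Away.lift (S := Localization.Away s0) s0
    (g := algebraMap A (Localization.AtPrime p))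
    (IsLocalization.map_units (Localization.AtPrime p) (⟨s0, hs0⟩ : M))
  have hb : ∀ i, ∃ v : Localization.Away s0, g0 v = σ (π (MvPolynomial.X i)) := fun i => by
    refine ⟨algebraMap A _ (a i * ∏ j ∈ Finset.univ.erase i, (b j : A)) *
      IsLocalization.Away.invSelf s0, ?_⟩
    have h1 : algebraMap A (Localization.AtPrime p) s0 * g0 (IsLocalization.Away.invSelf s0) = 1 := by
      rw [← IsLocalization.Away.lift_eq (S := Localization.Away s0) s0
        (g := algebraMap A (Localization.AtPrime p))
        (IsLocalization.map_units (Localization.AtPrime p) (⟨s0, hs0⟩ : M)) s0, ← map_mul,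
        IsLocalization.Away.mul_invSelf, map_one]
    rw [← hab i, map_mul, IsLocalization.Away.lift_eq, IsLocalization.eq_mk'_iff_mul_eq,
      mul_right_comm, ← map_mul, mul_assoc, Finset.prod_erase_mul _ _ (Finset.mem_univ i),
      map_mul, mul_assoc, h1, mul_one]
  choose v hv using hb
  let φ : MvPolynomial (Fin n) A →ₐ[A] Localization.Away s0 := MvPolynomial.aeval v
  have hφ : g0.comp φ.toRingHom = σ.toRingHom.comp π.toRingHom := by
    refine MvPolynomial.ringHom_ext (fun r => ?_) (fun i => by simpa [φ] using hv i)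
    simp [φ, g0]
  have hm : ∀ r : R, ∃ m : M, algebraMap A (Localization.Away s0) m * φ r.1 = 0 := fun r => by
    obtain ⟨c, k, hk⟩ := IsLocalization.exists_mk'_eq (.powers s0) (φ r.1)
    have h0 : g0 (φ r.1) = 0 := by
      have := congrArg (fun F : _ →+* _ => F r.1) hφ
      refine this.trans ?_
      have hr : π r.1 = 0 := (RingHom.mem_ker (f := π.toRingHom)).1 (hR ▸ Ideal.subset_span r.2)
      simp [hr]
    have h2 : algebraMap A (Localization.AtPrime p) c = 0 := by
      have h3 := congrArg g0 (IsLocalization.mk'_spec (Localization.Away s0) c k)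
      rw [map_mul, hk, h0, zero_mul, IsLocalization.Away.lift_eq] at h3
      exact h3.symm
    obtain ⟨m, hm⟩ := (IsLocalization.map_eq_zero_iff M _ _).1 h2
    refine ⟨m, ?_⟩
    rw [← hk, IsLocalization.mul_mk'_eq_mk'_of_mul, hm, IsLocalization.mk'_zero]
  choose m hm using hm
  let s : A := s0 * ∏ r, (m r : A)
  have hs : s ∈ M := mul_mem hs0 (prod_mem fun r _ => (m r).2)
  have hu : ∀ d : A, d ∣ s → IsUnit (algebraMap A (Localization.Away s) d) := fun d hd =>
    isUnit_of_dvd_unit (map_dvd _ hd) (IsLocalization.Away.algebraMap_isUnit s)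
  let t : Localization.Away s0 →ₐ[A] Localization.Away s :=
    IsLocalization.Away.liftAlgHom (f := Algebra.ofId A _) s0 (hu s0 (dvd_mul_right _ _))
  have hker : RingHom.ker π.toRingHom ≤ RingHom.ker (t.comp φ).toRingHom := by
    rw [← hR, Ideal.span_le]
    intro r hr
    have h4 := congrArg t (hm ⟨r, hr⟩)
    rw [map_mul, map_zero, AlgHom.commutes] at h4
    exact (hu _ (dvd_mul_of_dvd_right (Finset.dvd_prod_of_mem _ (Finset.mem_univ _)) _)).mul_right_eq_zero.1 h4
  let τ : B →ₐ[A] Localization.Away s := AlgHom.liftOfSurjective π hπ (t.comp φ) hker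
  refine ⟨s, hs, τ, RingHom.ext fun x => ?_⟩
  obtain ⟨z, rfl⟩ := hπ x
  have hτ : τ (π z) = t (φ z) := by simp [τ, AlgHom.liftOfSurjective_apply]
  rw [RingHom.comp_apply]
  change IsLocalization.Away.lift s _ (τ (π z)) = _
  rw [hτ]
  have hgt : (IsLocalization.Away.lift (S := Localization.Away s) s
      (IsLocalization.map_units (Localization.AtPrime p) (⟨s, hs⟩ : M))).comp t.toRingHom = g0 := by
    refine IsLocalization.ringHom_ext (.powers s0) (RingHom.ext fun r => ?_)
    simp [g0, AlgHom.commutes]
  exact (congrArg (fun F : _ →+* _ => F (φ z)) hgt).trans (congrArg (fun F : _ →+* _ => F z) hφ)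

lemma exists_point {A B : Type u} [CommRing A] [CommRing B] [Algebra A B] [Algebra.Etale A B]
    (q : Ideal B) [q.IsPrime] (hL : IsField (Localization.AtPrime (q.under A)))
    [IsAlgClosed (q.under A).ResidueField] :
    ∃ σ : B →ₐ[A] Localization.AtPrime (q.under A), RingHom.ker σ = q := by
  letI := Localization.AtPrime.algebraOfLiesOver (q.under A) q
  let K := (q.under A).ResidueField
  have : Algebra.IsIntegral K q.ResidueField := Algebra.IsIntegral.of_finite _ _
  have hb1 := IsAlgClosed.algebraMap_bijective_of_isIntegral (k := K) (K := q.ResidueField)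
  have hb2 : Function.Bijective (IsScalarTower.toAlgHom A (Localization.AtPrime (q.under A)) K) :=
    ⟨by letI := hL.toField; exact RingHom.injective _, Ideal.Quotient.mk_surjective⟩
  let e1 : K ≃ₐ[A] q.ResidueField :=
    AlgEquiv.ofBijective (IsScalarTower.toAlgHom A K q.ResidueField) hb1
  let e2 := AlgEquiv.ofBijective _ hb2
  refine ⟨(e1.symm.trans e2.symm).toAlgHom.comp (IsScalarTower.toAlgHom A B q.ResidueField), ?_⟩
  ext x
  rw [RingHom.mem_ker, AlgHom.comp_apply]
  simp

/-- Let X be a scheme such that every local ring of X is a field and every residue field of X is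
algebraically closed, and let f : Y → X be an étale morphism. Then f is Zariski-locally trivial: for
every point y of Y there exist an open V of X containing f(y) and a section s : V → Y of f over V
whose image contains y. (The published lemma is stated for a specific scheme X^c attached to a
coherent scheme — the constructible topology of a suitable integral cover, which has these two
properties by construction; the row states the assertion for every scheme with these two properties,
which is all the printed proof uses. The lemma's further assertions about the étale and Zariski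
topoi, torsors and gerbes on X^c are not included.) -/
theorem result
    (X Y : Scheme.{u}) (hX : ∀ x : X, IsField (X.presheaf.stalk x))
    (hX' : ∀ x : X, IsAlgClosed (X.residueField x))
    (f : Y ⟶ X) [Etale f] (y : Y) :
    ∃ (V : X.Opens) (s : (V : Scheme.{u}) ⟶ Y), f.base y ∈ V ∧ s ≫ f = V.ι ∧ y ∈ Set.range s.base := by
  obtain ⟨U, hU, hx, -⟩ :=
    exists_isAffineOpen_mem_and_subset (U := (⊤ : X.Opens)) (x := f y) trivial
  obtain ⟨W, hW, hy, hWU⟩ :=
    exists_isAffineOpen_mem_and_subset (U := f ⁻¹ᵁ U) (x := y) hx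
  let A := Γ(X, U)
  let B := Γ(Y, W)
  let φ : A ⟶ B := f.appLE U W hWU
  have het : φ.hom.Etale := HasRingHomProperty.appLE (P := @Etale) f ‹_› ⟨U, hU⟩ ⟨W, hW⟩ hWU
  algebraize [φ.hom]
  let q := hW.primeIdealOf ⟨y, hy⟩
  have hsq : Spec.map φ ≫ hU.fromSpec = hW.fromSpec ≫ f := hU.SpecMap_appLE_fromSpec f hW hWU
  have hqp : Spec.map φ q = hU.primeIdealOf ⟨f y, hx⟩ := by
    apply hU.fromSpec.isEmbedding.injective
    refine ((congrArg (fun k : Spec B ⟶ X => k q) hsq).trans ?_).trans
      (hU.fromSpec_primeIdealOf ⟨f y, hx⟩).symm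
    exact congrArg f (hW.fromSpec_primeIdealOf ⟨y, hy⟩)
  let := TopCat.Presheaf.algebra_section_stalk X.presheaf (⟨f y, hx⟩ : U)
  have hloc := hU.isLocalization_stalk ⟨f y, hx⟩
  rw [← hqp] at hloc
  have : IsLocalization.AtPrime (X.presheaf.stalk (f y)) (q.asIdeal.under A) := hloc
  let eL := (IsLocalization.algEquiv (q.asIdeal.under A).primeCompl
    (X.presheaf.stalk (f y)) (Localization.AtPrime (q.asIdeal.under A))).toRingEquiv
  have hL : IsField (Localization.AtPrime (q.asIdeal.under A)) := eL.symm.isField (hX (f y))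
  have : IsAlgClosed (IsLocalRing.ResidueField (X.presheaf.stalk (f y))) := hX' _
  have : IsAlgClosed (q.asIdeal.under A).ResidueField :=
    IsAlgClosed.of_ringEquiv (IsLocalRing.ResidueField (X.presheaf.stalk (f y))) _
      (IsLocalRing.ResidueField.mapEquiv eL)
  obtain ⟨σ, hσ⟩ := exists_point q.asIdeal hL
  obtain ⟨s, hs, τ, hτ⟩ := spread (q.asIdeal.under A) σ
  let ι' : Spec (CommRingCat.of (Localization.Away s)) ⟶ Spec A :=
    Spec.map (CommRingCat.ofHom (algebraMap A (Localization.Away s)))
  let j := ι' ≫ hU.fromSpec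
  let g : Spec (CommRingCat.of (Localization.Away s)) ⟶ Y :=
    Spec.map (CommRingCat.ofHom τ.toRingHom) ≫ hW.fromSpec
  have hgf : g ≫ f = j := by
    simp only [g, j, ι', Category.assoc, ← hsq, ← Spec.map_comp_assoc]
    congr 2
    ext a
    exact τ.commutes a
  let L : Localization.Away s →+* Localization.AtPrime (q.asIdeal.under A) :=
    IsLocalization.Away.lift s (g := algebraMap A _)
      (IsLocalization.map_units (Localization.AtPrime (q.asIdeal.under A))
        (⟨s, hs⟩ : (q.asIdeal.under A).primeCompl))
  have hbot : (⊥ : Ideal (Localization.AtPrime (q.asIdeal.under A))).IsPrime :=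
    letI := hL.toField
    Ideal.isPrime_bot
  let r : Spec (CommRingCat.of (Localization.Away s)) := ⟨RingHom.ker L, Ideal.comap_isPrime L ⊥⟩
  have hgr : g r = y := by
    have h1 : Spec.map (CommRingCat.ofHom τ.toRingHom) r = q := by
      refine PrimeSpectrum.ext ?_
      change Ideal.comap τ.toRingHom (RingHom.ker L) = q.asIdeal
      rw [RingHom.comap_ker, hτ]
      exact hσ
    rw [Scheme.Hom.comp_apply, h1, IsAffineOpen.fromSpec_primeIdealOf]
  have hjr : j r = f y := by rw [← hgf, Scheme.Hom.comp_apply, hgr]
  refine ⟨j.opensRange, j.isoOpensRange.inv ≫ g, ⟨r, hjr⟩, ?_, ?_⟩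
  · rw [Category.assoc, hgf, Scheme.Hom.isoOpensRange_inv_comp]
  · exact ⟨j.isoOpensRange.hom r, by
      rw [← Scheme.Hom.comp_apply, Iso.hom_inv_id_assoc]; exact hgr⟩

end Groth.Agent.S16583
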