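import Groth.Statements.S1660
import Groth.Agent.H4.CartierUFD
import Groth.Agent.Lib.HilbD.FlatKer
import Groth.Agent.Lib.CartierDescent.Stalk
import Mathlib.RingTheory.Ideal.KrullsHeightTheorem

set_option autoImplicit false
universe u
open CategoryTheory CategoryTheory.Limits AlgebraicGeometry
open Divisors

namespace Groth.Agent.S1660

open Groth.Agent Groth.Agent.H4.CartierUFD
open Groth.Agent.Lib.Ideal

/-- An associated prime of an ideal which becomes principal there is generated by one prime element. -/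
theorem height_eq_one {R : Type u} [CommRing R] [IsDomain R] [UniqueFactorizationMonoid R] [IsNoetherianRing R]
    {J Q : Ideal R} (hQ : Q.IsPrime) {a g s' : R} (ha : ∀ r, r ∈ Q ↔ r * a ∈ J) (hg : g ≠ 0)
    (hs' : s' ∉ Q) (hgJ : s' * g ∈ J) (hJg : ∀ r ∈ J, ∃ s, s ∉ Q ∧ g ∣ s * r) : Q.height = 1 := by
  have hne : Q ≠ ⊥ := fun hb => by
    subst hb
    have : s' * g ∈ (⊥ : Ideal R) := (ha _).2 (J.mul_mem_right a hgJ)
    exact mul_ne_zero (fun h => hs' (by rw [h]; exact Submodule.zero_mem _)) hg this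
  obtain ⟨π, hπQ, hπ⟩ := hQ.exists_mem_prime_of_ne_bot (R := R) hne
  have heq : Q = Ideal.span {π} := by
    refine le_antisymm (fun t ht => ?_) ((Ideal.span_singleton_le_iff_mem _).2 hπQ)
    by_contra htπ
    rw [Ideal.mem_span_singleton] at htπ
    obtain ⟨s₁, h1, b, hb⟩ := hJg _ ((ha π).1 hπQ)
    obtain ⟨s₂, h2, c, hc⟩ := hJg _ ((ha t).1 ht)
    have key : s₂ * t * b = s₁ * π * c := mul_left_cancel₀ hg (by linear_combination (s₁ * π) * hc - (s₂ * t) * hb)
    by_cases hs₁ : π ∣ s₁
    · exact h1 ((Ideal.span_singleton_le_iff_mem Q).2 hπQ (Ideal.mem_span_singleton.2 hs₁))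
    by_cases hs₂ : π ∣ s₂
    · exact h2 ((Ideal.span_singleton_le_iff_mem Q).2 hπQ (Ideal.mem_span_singleton.2 hs₂))
    obtain ⟨b', rfl⟩ : π ∣ b := ((hπ.dvd_mul).1 (Dvd.intro_left s₁ rfl |>.trans ⟨c, by linear_combination key⟩ :
      π ∣ s₂ * t * b)).resolve_left fun h => (hπ.dvd_mul.1 h).elim hs₂ htπ
    have hab : s₁ * a = g * b' := mul_left_cancel₀ hπ.ne_zero (by linear_combination hb)
    have : s' * s₁ ∈ Q := (ha _).2 (by
      rw [show s' * s₁ * a = s' * g * b' by linear_combination s' * hab]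
      exact J.mul_mem_right _ hgJ)
    exact (hQ.mem_or_mem this).elim hs' h1
  refine le_antisymm ?_ ?_
  · exact Ideal.height_le_one_of_isPrincipal_of_mem_minimalPrimes (Ideal.span {π}) Q
      ⟨⟨hQ, heq.ge⟩, fun q hq _ => heq.le.trans hq.2⟩
  · rw [Order.one_le_iff_ne_zero, Ne, Ideal.height_eq_zero_iff]
    exact fun hmin => hne (le_bot_iff.1 (hmin.2 ⟨Ideal.isPrime_bot, le_rfl⟩ bot_le))

/-- Let X be locally Noetherian, U open, and D an effective Cartier divisor on U. If the local ring of X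
at every point outside U is a unique factorisation domain, then there is an effective Cartier
divisor D' on X whose restriction (inverse image ideal) to U is D. -/
theorem result (X : Scheme.{u}) [IsLocallyNoetherian X] (U : X.Opens)
    (D : (U : Scheme.{u}).IdealSheafData) (hD : BlowUp.IsEffCartierIdeal D)
    (hufd : ∀ x : X, x ∉ U → IsDomain (X.presheaf.stalk x) ∧ UniqueFactorizationMonoid (X.presheaf.stalk x)) :
    ∃ D' : X.IdealSheafData, BlowUp.IsEffCartierIdeal D' ∧ D'.comap U.ι = D := by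
  classical
  let e : D.subscheme ⟶ X := D.subschemeι ≫ U.ι
  haveI : QuasiCompact e := inferInstance
  let D' := e.ker
  have hcomap : D'.comap U.ι = D := by
    have sq : IsPullback (𝟙 D.subscheme) D.subschemeι e U.ι := by
      refine ⟨⟨Category.id_comp _⟩, ⟨PullbackCone.IsLimit.mk _ (fun s => s.fst) (fun s => Category.comp_id _)
        (fun s => ?_) fun s l hl _ => by simpa using hl⟩⟩
      rw [← cancel_mono U.ι, Category.assoc]
      exact s.condition
    rw [← Lib.HilbD.FlatKer.ker_comap_of_isOpenImmersion e U.ι sq, Scheme.IdealSheafData.ker_subschemeι]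
  refine ⟨D', isEffCartier_of_stalks D' fun x => ?_, hcomap⟩
  by_cases hxU : x ∈ U
  · let z : (U : Scheme.{u}) := ⟨x, hxU⟩
    obtain ⟨g, hg, he⟩ := Lib.CartierDescent.stalkIdeal_eq_span hD z
    rw [← hcomap, Lib.CartierDescent.stalkIdeal_comap] at he
    let φ := (asIso (U.ι.stalkMap z)).commRingCatIsoToRingEquiv
    change Ideal.map φ (Prime.stalkIdeal D' (U.ι z)) = _ at he
    change ∃ g ∈ nonZeroDivisors (X.presheaf.stalk (U.ι z)), Prime.stalkIdeal D' (U.ι z) = Ideal.span {g}
    refine ⟨φ.symm g, ?_, ?_⟩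
    · refine EffCartier.mem_nonZeroDivisors_of_eq_zero fun b hb => φ.injective ?_
      rw [map_zero]
      refine (mul_left_mem_nonZeroDivisors_eq_zero_iff hg).1 ?_
      rw [← φ.apply_symm_apply g, ← map_mul, hb, map_zero]
    · have := congrArg (Ideal.map φ.symm) he
      rw [Ideal.map_span, Set.image_singleton, Ideal.map_symm φ,
        Ideal.comap_map_of_bijective φ φ.bijective] at this
      exact this
  by_cases hx : x ∈ D'.support
  swap
  · exact ⟨1, one_mem _, by rw [stalkIdeal_eq_top hx, Ideal.span_singleton_one]⟩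
  haveI := (hufd x hxU).1
  haveI := (hufd x hxU).2
  obtain ⟨g, hg0, hg⟩ := isPrincipal_of_height_one (Prime.stalkIdeal D' x) fun Q hQ => by
    obtain ⟨V, hV, hxV, -⟩ := exists_isAffineOpen_mem_and_subset (x := x) (U := (⊤ : X.Opens)) trivial
    let V' : X.affineOpens := ⟨V, hV⟩
    haveI : IsNoetherianRing Γ(X, V) := IsLocallyNoetherian.component_noetherian V'
    letI algx := X.presheaf.algebra_section_stalk ⟨x, hxV⟩
    haveI := hV.isLocalization_stalk ⟨x, hxV⟩
    let p := (hV.primeIdealOf ⟨x, hxV⟩).asIdeal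
    obtain ⟨hQp, a, ha⟩ := hQ
    obtain ⟨⟨c, t⟩, hct⟩ := IsLocalization.surj p.primeCompl a
    let q := Q.comap (algebraMap Γ(X, V) (X.presheaf.stalk x))
    have hst : Prime.stalkIdeal D' x = (D'.ideal V').map (algebraMap Γ(X, V) (X.presheaf.stalk x)) :=
      Prime.stalkIdeal_eq D' V' hxV
    have hqc : ∀ r ∈ q, ∃ w, w ∉ p ∧ w * (r * c) ∈ D'.ideal V' := fun r hr => by
      have h := Ideal.mul_mem_right (algebraMap Γ(X, V) (X.presheaf.stalk x) t) _ ((ha _).1 hr)
      rw [hst, mul_assoc, hct, ← map_mul] at h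
      exact (IsLocalization.algebraMap_mem_map_algebraMap_iff p.primeCompl _ _ _).1 h
    obtain ⟨y, hyV, hyq⟩ := Lib.AssPt.Basic.exists_point_of_prime hV q
    have hyU : y ∈ U := by
      by_contra hyU
      obtain ⟨G, hG⟩ := (IsNoetherian.noetherian q : q.FG)
      choose w hw hwc using fun r : G => hqc r (hG ▸ Ideal.subset_span r.2)
      let s := ∏ r : G, w r
      have hs : s ∉ p := fun h => by
        obtain ⟨r, -, hr⟩ := ((hV.primeIdealOf ⟨x, hxV⟩).2.prod_mem_iff).1 h
        exact hw r hr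
      have hker : ∀ r ∈ G, e.app V (s * (r * c)) = 0 := fun r hr => by
        have h : s * (r * c) ∈ D'.ideal V' := by
          obtain ⟨k, hk⟩ := Finset.dvd_prod_of_mem w (Finset.mem_univ (⟨r, hr⟩ : G))
          rw [show s = w ⟨r, hr⟩ * k from hk, show w ⟨r, hr⟩ * k * (r * c) = k * (w ⟨r, hr⟩ * (r * c)) by ring]
          exact Ideal.mul_mem_left _ _ (hwc ⟨r, hr⟩)
        exact RingHom.mem_ker.1 ((Scheme.Hom.ker_apply e V').le h)
      have hσ : e.app V (s * c) = 0 := by
        refine TopCat.Presheaf.section_ext D.subscheme.sheaf _ _ 0 fun z hz => ?_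
        change D.subscheme.presheaf.germ _ z hz _ = D.subscheme.presheaf.germ _ z hz 0
        rw [map_zero]
        by_cases hall : ∀ r ∈ G, e z ∉ X.basicOpen r
        · exfalso
          have hle : q ≤ (hV.primeIdealOf ⟨e z, hz⟩).asIdeal := by
            rw [← hG, Ideal.span_le]
            exact fun r hr => by
              have := hall r hr
              rwa [EffCartier.mem_basicOpen_iff_notMem_prime hV hz, not_not] at this
          refine hyU (((Lib.AssPt.Basic.specializes_iff_primeIdealOf hV hz hyV).2 (hyq ▸ hle)).mem_open U.2 ?_)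
          exact (D.subschemeι z).2
        · push Not at hall
          obtain ⟨r, hr, hzr⟩ := hall
          have h := congrArg (D.subscheme.presheaf.germ _ z hz) (hker r hr)
          rw [show s * (r * c) = r * (s * c) by ring, map_mul, map_mul, map_zero] at h
          have hu : IsUnit (D.subscheme.presheaf.germ _ z hz (e.app V r)) := by
            rw [← Scheme.Hom.germ_stalkMap_apply]
            exact ((X.mem_basicOpen r (e z) hz).1 hzr).map _
          exact hu.mul_right_eq_zero.1 h
      have hmem : s * c ∈ D'.ideal V' := (Scheme.Hom.ker_apply e V').ge (RingHom.mem_ker.2 hσ)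
      have h1 : algebraMap Γ(X, V) (X.presheaf.stalk x) c ∈ Prime.stalkIdeal D' x := by
        rw [hst]
        exact (IsLocalization.algebraMap_mem_map_algebraMap_iff p.primeCompl _ _ _).2 ⟨s, hs, hmem⟩
      rw [← hct, Ideal.mul_unit_mem_iff_mem _ (IsLocalization.map_units (X.presheaf.stalk x) t)] at h1
      exact hQp.ne_top ((Ideal.eq_top_iff_one _).2 ((ha 1).2 (by rwa [one_mul])))
    -- near `y` the ideal is principal
    obtain ⟨W, hyW, hWU, f₀, hf₀, hI⟩ := EffCartier.exists_gen hD (⟨y, hyU⟩ : U) (W := U.ι ⁻¹ᵁ V) hyV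
    let W' : X.affineOpens := ⟨U.ι ''ᵁ W.1, W.2.image_of_isOpenImmersion U.ι⟩
    obtain ⟨f, hfle, hyf⟩ := hV.exists_basicOpen_le (⟨y, ⟨⟨y, hyU⟩, hyW, rfl⟩⟩ : (W'.1 : X.Opens)) hyV
    have hfy : f ∉ q := fun h => (EffCartier.mem_basicOpen_iff_notMem_prime hV hyV f).1 hyf (hyq ▸ h)
    let Vf : X.affineOpens := ⟨X.basicOpen f, hV.basicOpen f⟩
    have hW : D'.ideal W' = Ideal.span {(U.ι.appIso W.1).inv f₀} := by
      have h := Scheme.IdealSheafData.ideal_comap_of_isOpenImmersion D' U.ι W
      rw [hcomap, hI] at h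
      have h2 := congrArg (Ideal.comap (U.ι.appIso W.1).hom.hom) h
      rw [Ideal.comap_comap] at h2
      have e1 : (U.ι.appIso W.1).inv.hom.comp (U.ι.appIso W.1).hom.hom = RingHom.id _ := by
        rw [← CommRingCat.hom_comp, Iso.hom_inv_id]; rfl
      rw [e1, Ideal.comap_id] at h2
      rw [← h2]
      let ψ := (U.ι.appIso W.1).commRingCatIsoToRingEquiv
      show Ideal.comap ψ (Ideal.span {f₀}) = Ideal.span {ψ.symm f₀}
      rw [← Ideal.map_symm, Ideal.map_span, Set.image_singleton]
    have hVf := EffCartier.ideal_eq_span_of_le (U := W') (V := Vf) hfle hW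
    let gf := X.presheaf.map (homOfLE hfle).op ((U.ι.appIso W.1).inv f₀)
    have hgf : gf ∈ nonZeroDivisors Γ(X, X.basicOpen f) := EffCartier.res_mem_nonZeroDivisors W'.2 hfle (by
      refine EffCartier.mem_nonZeroDivisors_of_eq_zero fun b hb => ?_
      let ψ := (U.ι.appIso W.1).commRingCatIsoToRingEquiv
      refine ψ.injective ?_
      rw [map_zero]
      refine (mul_left_mem_nonZeroDivisors_eq_zero_iff hf₀).1 ?_
      have := congrArg ψ hb
      rw [map_mul, map_zero] at this
      rwa [show ψ ((U.ι.appIso W.1).inv f₀) = f₀ from Iso.inv_hom_id_apply (U.ι.appIso W.1) f₀] at this)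
    haveI := hV.isLocalization_basicOpen f
    obtain ⟨⟨g₀, ⟨_, n, rfl⟩⟩, hg₀⟩ := IsLocalization.surj (Submonoid.powers f) gf
    let al := algebraMap Γ(X, V) (X.presheaf.stalk x)
    have hmap : (D'.ideal Vf) = (D'.ideal V').map (algebraMap Γ(X, V) Γ(X, X.basicOpen f)) :=
      (D'.map_ideal_basicOpen V' f).symm
    obtain ⟨m, hm⟩ : ∃ m, f ^ m * g₀ ∈ D'.ideal V' := by
      have hmem : algebraMap Γ(X, V) Γ(X, X.basicOpen f) g₀ ∈ D'.ideal Vf := by
        rw [← hg₀]
        exact Ideal.mul_mem_right _ _ (hVf.ge (Ideal.mem_span_singleton_self gf))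
      rw [hmap] at hmem
      obtain ⟨_, ⟨m, rfl⟩, hm⟩ := (IsLocalization.algebraMap_mem_map_algebraMap_iff (Submonoid.powers f) _ _ _).1 hmem
      exact ⟨m, hm⟩
    refine height_eq_one hQp (g := al g₀) (s' := al (f ^ m)) ha ?_ (fun h => hfy (hQp.mem_of_pow_mem m (map_pow al f m ▸ h))) ?_ ?_
    · intro h0
      obtain ⟨⟨w, hw⟩, hwg⟩ := (IsLocalization.map_eq_zero_iff p.primeCompl (X.presheaf.stalk x) g₀).1 h0
      have hyp : (hV.primeIdealOf ⟨y, hyV⟩).asIdeal ≤ p := by
        rw [hyq]
        intro r hr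
        by_contra hrp
        exact hQp.ne_top (Ideal.eq_top_of_isUnit_mem _ hr
          (IsLocalization.map_units (M := p.primeCompl) (X.presheaf.stalk x) ⟨r, hrp⟩))
      have hwu : IsUnit (X.presheaf.germ V y hyV w) :=
        (X.mem_basicOpen w y hyV).1 ((EffCartier.mem_basicOpen_iff_notMem_prime hV hyV w).2 fun h => hw (hyp h))
      have hg0y : X.presheaf.germ V y hyV g₀ = 0 := hwu.mul_right_eq_zero.1 (by rw [← map_mul]; exact (congrArg _ hwg).trans (map_zero _))
      have hge : X.presheaf.germ (X.basicOpen f) y hyf gf *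
          X.presheaf.germ V y hyV (f ^ n) = X.presheaf.germ V y hyV g₀ := by
        have := congrArg (X.presheaf.germ (X.basicOpen f) y hyf) hg₀
        rw [map_mul] at this
        have e0 : ∀ r : Γ(X, V), X.presheaf.germ (X.basicOpen f) y hyf (algebraMap Γ(X, V) Γ(X, X.basicOpen f) r) =
            X.presheaf.germ V y hyV r := fun r =>
          TopCat.Presheaf.germ_res_apply X.presheaf (homOfLE (X.basicOpen_le f)) y hyf r
        rw [e0, e0] at this
        exact this
      rw [hg0y, mul_left_mem_nonZeroDivisors_eq_zero_iff (EffCartier.germ_mem_nonZeroDivisors (hV.basicOpen f) hgf y hyf)] at hge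
      have hfu : IsUnit (X.presheaf.germ V y hyV f) := (X.mem_basicOpen f y hyV).1 hyf
      rw [map_pow] at hge
      exact (hfu.pow n).ne_zero hge
    · rw [hst, ← map_mul]
      exact Ideal.mem_map_of_mem _ hm
    · intro r hr
      rw [hst, IsLocalization.mem_map_algebraMap_iff p.primeCompl] at hr
      obtain ⟨⟨⟨j, hj⟩, w⟩, hjw⟩ := hr
      have hmem : algebraMap Γ(X, V) Γ(X, X.basicOpen f) j ∈ Ideal.span {gf} := by
        rw [← hVf, hmap]; exact Ideal.mem_map_of_mem _ hj
      obtain ⟨b, hb⟩ := Ideal.mem_span_singleton'.1 hmem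
      obtain ⟨⟨b₀, ⟨_, m, rfl⟩⟩, hb₀⟩ := IsLocalization.surj (Submonoid.powers f) b
      have hj' : algebraMap Γ(X, V) Γ(X, X.basicOpen f) (j * f ^ n * f ^ m) =
          algebraMap Γ(X, V) Γ(X, X.basicOpen f) (g₀ * b₀) := by
        rw [map_mul, map_mul, map_mul, ← hb₀, ← hg₀, ← hb]; ring
      obtain ⟨⟨_, l, rfl⟩, hl⟩ := (IsLocalization.eq_iff_exists (Submonoid.powers f) _).1 hj'
      refine ⟨al (f ^ (l + n + m) * w), fun h => ?_, al (f ^ l * b₀), ?_⟩
      · rw [map_mul, map_pow] at h
        rcases hQp.mem_or_mem h with h | h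
        · exact hfy (hQp.mem_of_pow_mem _ h)
        · exact hQp.ne_top (Ideal.eq_top_of_isUnit_mem _ h (IsLocalization.map_units _ w))
      · rw [map_mul al (f ^ (l + n + m)) w, mul_assoc, mul_comm (al w) r, hjw, ← map_mul, ← map_mul]
        exact congrArg al (by linear_combination hl)
  exact ⟨g, mem_nonZeroDivisors_of_ne_zero hg0, hg⟩

end Groth.Agent.S1660
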