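import Groth.Statements.S16601
import Groth.Agent.H22.LGPoints
import Mathlib.Algebra.MvPolynomial.Funext
import Mathlib.RingTheory.Ideal.Quotient.Basic
import Mathlib.RingTheory.Polynomial.Basic
import Mathlib.LinearAlgebra.Dual.Lemmas

set_option autoImplicit false
open AlgebraicGeometry
universe u
open LGRing

namespace Groth.Agent.S16601

/-- Let R be an LG-ring whose residue fields at maximal ideals are all infinite (R satisfies the
primitive criterion), M a finite locally free R-module with vector bundle W(M) = Spec Sym(M^∨), and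
U ⊆ W(M) an open quasi-compact subscheme which is fibrewise dense over the closed points of Spec R
(for every maximal ideal m, the trace of U on the closed fibre Spec (Sym(M^∨) ⧸ m Sym(M^∨)) is
dense). Then U has an R-valued point. (The source asks U to be R-dense in W(M); only density of the
closed fibres is used, which is what is assumed here.) -/
theorem result {R : Type u} [CommRing R]
    (hR : LGRing.IsLGRing R) (hinf : ∀ (m : Ideal R) [m.IsMaximal], Infinite (R ⧸ m))
    (M : Type u) [AddCommGroup M] [Module R M] [Module.Finite R M] [Module.Projective R M]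
    (U : (Spec (CommRingCat.of (SymmetricAlgebra R (Module.Dual R M)))).Opens)
    (hU : IsCompact (U : Set ↥(Spec (CommRingCat.of (SymmetricAlgebra R (Module.Dual R M))))))
    (hdense : ∀ (m : Ideal R) [m.IsMaximal],
      Dense ((Spec.map (CommRingCat.ofHom (Ideal.Quotient.mk
        (Ideal.map (algebraMap R (SymmetricAlgebra R (Module.Dual R M))) m)))).base ⁻¹'
          (U : Set ↥(Spec (CommRingCat.of (SymmetricAlgebra R (Module.Dual R M))))))) :
    ∃ φ : Module.Dual R M →ₗ[R] R,
      Set.range (Spec.map (CommRingCat.ofHom (SymmetricAlgebra.lift φ).toRingHom)).base ⊆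
        (U : Set ↥(Spec (CommRingCat.of (SymmetricAlgebra R (Module.Dual R M))))) := by
  classical
  rw [H22.LGPoints.exists_bundle_point_iff hR M U hU]
  intro m hm
  let := Ideal.Quotient.field m
  let D := Module.Dual R M
  let S := SymmetricAlgebra R D
  let J : Ideal S := Ideal.map (algebraMap R S) m
  let z : S →ₐ[R] R ⧸ m := SymmetricAlgebra.lift (0 : D →ₗ[R] R ⧸ m)
  have hJ : J ≠ ⊤ := fun h => by
    have hle : J ≤ RingHom.ker z.toRingHom := by
      refine Ideal.map_le_iff_le_comap.2 fun r hr => ?_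
      rw [Ideal.mem_comap, RingHom.mem_ker]
      show z (algebraMap R S r) = 0
      rw [z.commutes, Ideal.Quotient.algebraMap_eq, Ideal.Quotient.eq_zero_iff_mem.2 hr]
    exact RingHom.ker_ne_top z.toRingHom (top_le_iff.1 (h ▸ hle))
  have : Nontrivial (S ⧸ J) := Ideal.Quotient.nontrivial_iff.2 hJ
  have : Nonempty ↥(Spec (CommRingCat.of (S ⧸ J))) := inferInstanceAs (Nonempty (PrimeSpectrum (S ⧸ J)))
  obtain ⟨l, f, hf⟩ := H22.LGPoints.exists_fin_basicOpen_cover U hU
  obtain ⟨P, hP⟩ := (hdense m).nonempty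
  obtain ⟨i, hi⟩ := (hf _).1 hP
  have hiJ : f i ∉ J := fun h => hi (by
    show Ideal.Quotient.mk J (f i) ∈ (P : PrimeSpectrum (S ⧸ J)).asIdeal
    rw [Ideal.Quotient.eq_zero_iff_mem.2 h]
    exact zero_mem _)
  obtain ⟨n, π, hπ⟩ := Module.Finite.exists_fin' R D
  obtain ⟨s, hs⟩ := Module.projective_lifting_property π LinearMap.id hπ
  let σ : S →ₐ[R] MvPolynomial (Fin n) R :=
    SymmetricAlgebra.lift ((∑ j, ((LinearMap.proj j ∘ₗ s).smulRight (MvPolynomial.X j))) :
      D →ₗ[R] MvPolynomial (Fin n) R)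
  let ρ : MvPolynomial (Fin n) R →ₐ[R] S :=
    MvPolynomial.aeval fun j => SymmetricAlgebra.ι R D (π (Pi.single j 1))
  have hρσ : ρ.comp σ = AlgHom.id R S := by
    refine SymmetricAlgebra.algHom_ext (LinearMap.ext fun v => ?_)
    have h1 : v = ∑ j, s v j • π (Pi.single j 1) := by
      conv_lhs => rw [← LinearMap.id_apply (R := R) v, ← hs, LinearMap.comp_apply,
        pi_eq_sum_univ' (s v), map_sum]
      simp_rw [map_smul]
    conv_rhs => rw [h1]
    simp [σ, ρ, map_sum, map_smul]
    rfl
  let red : MvPolynomial (Fin n) R →+* MvPolynomial (Fin n) (R ⧸ m) :=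
    MvPolynomial.map (Ideal.Quotient.mk m)
  have hne : red (σ (f i)) ≠ 0 := by
    intro h
    apply hiJ
    have hk : σ (f i) ∈ RingHom.ker red := h
    rw [MvPolynomial.ker_map, Ideal.mk_ker] at hk
    have h2 := Ideal.mem_map_of_mem ρ.toRingHom hk
    rw [Ideal.map_map] at h2
    have h3 : ρ.toRingHom.comp MvPolynomial.C = algebraMap R S := ρ.comp_algebraMap
    rw [h3] at h2
    have h4 : ρ (σ (f i)) = f i := AlgHom.congr_fun hρσ (f i)
    rw [AlgHom.toRingHom_eq_coe, RingHom.coe_coe, h4] at h2
    exact h2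
  have := hinf m
  obtain ⟨x, hx⟩ : ∃ x, MvPolynomial.eval x (red (σ (f i))) ≠ 0 := by
    by_contra hc
    push Not at hc
    exact hne (MvPolynomial.funext fun x => by rw [hc, map_zero])
  let e : MvPolynomial (Fin n) R →ₐ[R] R ⧸ m := MvPolynomial.aeval x
  refine ⟨e.toLinearMap ∘ₗ σ.toLinearMap ∘ₗ SymmetricAlgebra.ι R D, ?_⟩
  have hlift : SymmetricAlgebra.lift (e.toLinearMap ∘ₗ σ.toLinearMap ∘ₗ SymmetricAlgebra.ι R D) =
      e.comp σ := SymmetricAlgebra.algHom_ext (LinearMap.ext fun v => by simp)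
  rw [hlift, H22.LGPoints.range_subset_iff _ U f hf]
  refine Ideal.eq_top_of_isUnit_mem _ (Ideal.subset_span ⟨i, rfl⟩) (IsUnit.mk0 _ ?_)
  show e (σ (f i)) ≠ 0
  have he : e (σ (f i)) = MvPolynomial.eval x (red (σ (f i))) := by
    simp only [e, red, MvPolynomial.aeval_def, MvPolynomial.eval_map]
    rfl
  rwa [he]

end Groth.Agent.S16601
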