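import Groth.Statements.S16602
import Groth.Agent.Lib.AzumayaLG

set_option autoImplicit false
universe u v w
open Brauer

namespace Groth.Agent.S16602

/-- Let R be an LG-ring with Spec R connected and A an Azumaya R-algebra. Then any two indecomposable
finitely generated projective left A-modules are isomorphic (a module is indecomposable when it is
non-zero and the only idempotents of its endomorphism ring are 0 and 1). (This extends the semilocal
case.) -/
theorem result {R : Type u} [CommRing R]
    (hR : LGRing.IsLGRing R) [ConnectedSpace (PrimeSpectrum R)] {A : Type v} [Ring A] [Algebra R A] [IsAzumaya R A]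
    (P Q : Type w) [AddCommGroup P] [Module A P] [Module.Finite A P] [Module.Projective A P] [Nontrivial P]
    [AddCommGroup Q] [Module A Q] [Module.Finite A Q] [Module.Projective A Q] [Nontrivial Q]
    (hP : ∀ e : Module.End A P, IsIdempotentElem e → e = 0 ∨ e = 1)
    (hQ : ∀ e : Module.End A Q, IsIdempotentElem e → e = 0 ∨ e = 1) : Nonempty (P ≃ₗ[A] Q) := by
  let _ : Module R P := Module.compHom P (algebraMap R A)
  let _ : Module R Q := Module.compHom Q (algebraMap R A)
  have : IsScalarTower R A P := IsScalarTower.of_algebraMap_smul fun _ _ => rfl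
  have : IsScalarTower R A Q := IsScalarTower.of_algebraMap_smul fun _ _ => rfl
  obtain ⟨hPf, hPp⟩ := Groth.Agent.Lib.AzumayaLG.finite_projective (R := R) (M := P) A
  obtain ⟨hQf, hQp⟩ := Groth.Agent.Lib.AzumayaLG.finite_projective (R := R) (M := Q) A
  have := Module.finitePresentation_of_projective R P
  have := Module.finitePresentation_of_projective R Q
  obtain ⟨p₀⟩ : Nonempty (PrimeSpectrum R) := inferInstance
  have hP' : ∀ p, Module.rankAtStalk (R := R) P p = Module.rankAtStalk (R := R) P p₀ := fun p =>
    Module.isLocallyConstant_rankAtStalk.apply_eq_of_preconnectedSpace p p₀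
  have hQ' : ∀ p, Module.rankAtStalk (R := R) Q p = Module.rankAtStalk (R := R) Q p₀ := fun p =>
    Module.isLocallyConstant_rankAtStalk.apply_eq_of_preconnectedSpace p p₀
  have key : ∀ {M N : Type w} [AddCommGroup M] [Module A M] [Module.Finite A M] [Module.Projective A M]
      [AddCommGroup N] [Module A N] [Module.Finite A N] [Module.Projective A N] [Nontrivial N],
      (∀ e : Module.End A M, IsIdempotentElem e → e = 0 ∨ e = 1) →
      (∃ f : M →ₗ[A] N, Function.Surjective f) → Nonempty (M ≃ₗ[A] N) := by
    intro M N _ _ _ _ _ _ _ _ _ hM ⟨f, hf⟩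
    obtain ⟨g, hg⟩ := Module.projective_lifting_property f LinearMap.id hf
    have hgx : ∀ x, f (g x) = x := fun x => LinearMap.congr_fun hg x
    rcases hM (g ∘ₗ f) (LinearMap.ext fun x => by simp [hgx]) with h | h
    · exfalso
      obtain ⟨y, hy⟩ := exists_ne (0 : N)
      apply hy
      have : g (f (g y)) = 0 := LinearMap.congr_fun h (g y)
      rw [hgx] at this
      rw [← hgx y, this, map_zero]
    · exact ⟨LinearEquiv.ofBijective f
        ⟨fun a b hab => (LinearMap.congr_fun h a).symm.trans ((congrArg g hab).trans (LinearMap.congr_fun h b)), hf⟩⟩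
  rcases le_total (Module.rankAtStalk (R := R) Q p₀) (Module.rankAtStalk (R := R) P p₀) with h | h
  · exact key hP (Groth.Agent.Lib.AzumayaLG.exists_surjective hR fun p => by rw [hP' p, hQ' p]; exact h)
  · obtain ⟨e⟩ := key hQ (Groth.Agent.Lib.AzumayaLG.exists_surjective hR fun p => by rw [hP' p, hQ' p]; exact h)
    exact ⟨e.symm⟩

end Groth.Agent.S16602
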