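import Groth.Statements.S16607
import Groth.Agent.Lib.AzumayaLGCancel
import Groth.Agent.S19589

set_option autoImplicit false
universe u v
open Brauer

namespace Groth.Agent.S16607

/-- Let R be an LG-ring, A and B Azumaya R-algebras and n ≥ 1. If Mₙ(A) ≅ Mₙ(B) as R-algebras then A ≅ B
as R-algebras (cancellation of Azumaya algebras). -/
theorem result {R : Type u} [CommRing R]
    (hR : LGRing.IsLGRing R) (A B : Type v) [Ring A] [Algebra R A] [IsAzumaya R A] [Ring B] [Algebra R B]
    [IsAzumaya R B] (n : ℕ) (hn : 0 < n)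
    (e : Matrix (Fin n) (Fin n) A ≃ₐ[R] Matrix (Fin n) (Fin n) B) : Nonempty (A ≃ₐ[R] B) := by
  have : NeZero n := ⟨hn.ne'⟩
  have : FaithfulSMul R (Fin n → R) := ⟨fun {a b} h => by simpa using congr_fun (h 1) 0⟩
  refine Groth.Agent.Lib.AzumayaLG.nonempty_algEquiv (P := Fin n → R) (Q := Fin n → R) hR (fun p => ?_)
    (Groth.Agent.S19589.result R (Fin n → R))
    ((((Algebra.TensorProduct.congr (AlgEquiv.refl (A₁ := A) (R := R)) Matrix.toLinAlgEquiv'.symm).trans
      (matrixEquivTensor (Fin n) R A).symm).trans e).trans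
      ((matrixEquivTensor (Fin n) R B).trans (Algebra.TensorProduct.congr (AlgEquiv.refl (A₁ := B) (R := R)) Matrix.toLinAlgEquiv')))
  have h1 := congrFun (Module.rankAtStalk_eq_of_equiv
    (((matrixEquivTensor (Fin n) R A).symm.trans e).trans (matrixEquivTensor (Fin n) R B)).toLinearEquiv) p
  rw [Module.rankAtStalk_tensorProduct, Module.rankAtStalk_tensorProduct] at h1
  have : Nontrivial R := p.nontrivial
  refine Nat.eq_of_mul_eq_mul_right ?_ h1
  rw [Module.rankAtStalk_eq_finrank_of_free, Pi.natCast_apply, Nat.cast_id, Module.finrank_matrix, Module.finrank_self,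
    Fintype.card_fin, mul_one]
  positivity

end Groth.Agent.S16607
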