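import Groth.Statements.S16612
import Groth.Agent.H87.SplitMax
-- import your own Groth.Agent.* helpers here

set_option autoImplicit false
open CategoryTheory MonoidalCategory CartesianMonoidalCategory MonObj GrpObj AlgebraicGeometry
universe u
open SGA3x

open CategoryTheory.Limits Groth.Agent.H87 Groth.Agent.Lib.Tori Groth.Agent.Lib.RedPts
namespace Groth.Agent.S16612

/-- Let S be a connected scheme and G an S-group of finite multiplicative type. Then G admits a unique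
maximal split subtorus; equivalently, since split subtori form a directed family, a greatest one: a
monomorphism T ⟶ G from a split torus T ≅ D_S(ℤ^r) through which every split subtorus T' ⟶ G of G
factors. -/
theorem result {S : Scheme.{u}} [ConnectedSpace ↥S]
    {G : Over S} [GrpObj G] (hG : SGA3x.IsMultTypeFT G) :
    ∃ (T : Over S) (_ : GrpObj T) (j : T ⟶ G) (r : ℕ), IsMonHom j ∧ Mono j ∧ Red.IsSplitTorusWith (Fin r → ℤ) T ∧
      ∀ (T' : Over S) [GrpObj T'] (j' : T' ⟶ G) [IsMonHom j'] [Mono j'] (r' : ℕ),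
        Red.IsSplitTorusWith (Fin r' → ℤ) T' → ∃ g : T' ⟶ T, g ≫ j = j' := by
  obtain ⟨r, j, hj, hjm, hmax⟩ := SplitMax.exists_max_rank hG
  refine ⟨_, inferInstance, j, r, hj, hjm, Basic.isSplit_DS S _, fun T' _ j' _ _ r' hT' => ?_⟩
  obtain ⟨e⟩ := hT'
  have : IsMonHom (BaseChange.overIso e).inv := inferInstanceAs (IsMonHom (BaseChange.overIso e.symm).hom)
  let j₀ := (BaseChange.overIso e).inv ≫ j'
  let ι₁ : (Fin r → ℤ) × (Fin r' → ℤ) →+ (Fin r → ℤ) := AddMonoidHom.fst _ _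
  let ι₂ : (Fin r → ℤ) × (Fin r' → ℤ) →+ (Fin r' → ℤ) := AddMonoidHom.snd _ _
  let p₁ := Red.DSmap S (AddMonoidHom.inl (Fin r → ℤ) (Fin r' → ℤ))
  let p₂ := Red.DSmap S (AddMonoidHom.inr (Fin r → ℤ) (Fin r' → ℤ))
  have : IsMonHom p₁ := Gm.isMonHom_DSmap _
  have : IsMonHom p₂ := Gm.isMonHom_DSmap _
  let f : Red.DS S ((Fin r → ℤ) × (Fin r' → ℤ)) ⟶ G := (p₁ ≫ j) * (p₂ ≫ j₀)
  have : IsMonHom f := HomDS.isMonHom_of_points f fun X a b => by
    show (a * b) ≫ ((p₁ ≫ j) * (p₂ ≫ j₀)) = _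
    rw [comp_mul, comp_mul, comp_mul, MonObj.mul_comp a b (p₁ ≫ j), MonObj.mul_comp a b (p₂ ≫ j₀)]
    have h4 := Normal.comm hG (b ≫ p₁ ≫ j) (a ≫ p₂ ≫ j₀)
    rw [_root_.mul_assoc, ← _root_.mul_assoc (b ≫ p₁ ≫ j), h4]
    simp only [_root_.mul_assoc]
  obtain ⟨Λ, hΛ, jΛ, hjΛ, hjΛm, hfac⟩ := Factor.exists_image hG f
  have : Module.Finite ℤ Λ := Module.Finite.iff_addGroup_fg.mpr hΛ
  have : IsAddTorsionFree Λ := Function.Injective.isAddTorsionFree Λ.subtype Λ.subtype_injective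
  obtain ⟨n, ⟨ε⟩⟩ : ∃ n, Nonempty ((Fin n → ℤ) ≃+ Λ) := ⟨_, ⟨(Module.finBasis ℤ Λ).equivFun.toAddEquiv.symm⟩⟩
  let jn : Red.DS S (Fin n → ℤ) ⟶ G := Red.DSmap S ε.symm.toAddMonoidHom ≫ jΛ
  have : IsMonHom (Red.DSmap S ε.symm.toAddMonoidHom) := Gm.isMonHom_DSmap _
  have : Mono (Red.DSmap S ε.symm.toAddMonoidHom) := Loci.mono_DSmap_of_surjective S ε.symm.surjective
  have hn : n ≤ r := hmax n jn inferInstance inferInstance
  have hfac' : Red.DSmap S (Λ.subtype.comp ε.toAddMonoidHom) ≫ jn = f := by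
    rw [← hfac, ← Category.assoc, Factor.DSmap_comp]
    exact congrArg (fun φ => Red.DSmap S φ ≫ jΛ) (AddMonoidHom.ext fun x => congrArg Subtype.val (ε.apply_symm_apply x))
  have hq₁ : Red.DSmap S ι₁ ≫ f = j := by
    show Red.DSmap S ι₁ ≫ ((p₁ ≫ j) * (p₂ ≫ j₀)) = j
    rw [comp_mul, ← Category.assoc, Factor.DSmap_comp, ← Category.assoc, Factor.DSmap_comp,
      show ι₁.comp (AddMonoidHom.inl (Fin r → ℤ) (Fin r' → ℤ)) = AddMonoidHom.id _ from rfl,
      show ι₁.comp (AddMonoidHom.inr (Fin r → ℤ) (Fin r' → ℤ)) = 0 from rfl, Factor.DSmap_zero, MonObj.one_comp,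
      _root_.mul_one, SplitMax.DSmap_id, Category.id_comp]
  have hq₂ : Red.DSmap S ι₂ ≫ f = j₀ := by
    show Red.DSmap S ι₂ ≫ ((p₁ ≫ j) * (p₂ ≫ j₀)) = j₀
    rw [comp_mul, ← Category.assoc, Factor.DSmap_comp, ← Category.assoc, Factor.DSmap_comp,
      show ι₂.comp (AddMonoidHom.inl (Fin r → ℤ) (Fin r' → ℤ)) = 0 from rfl,
      show ι₂.comp (AddMonoidHom.inr (Fin r → ℤ) (Fin r' → ℤ)) = AddMonoidHom.id _ from rfl, Factor.DSmap_zero,
      MonObj.one_comp, _root_.one_mul, SplitMax.DSmap_id, Category.id_comp]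
  let g := Red.DSmap S ι₁ ≫ Red.DSmap S (Λ.subtype.comp ε.toAddMonoidHom)
  have hg : g ≫ jn = j := by rw [Category.assoc, hfac', hq₁]
  have : IsMonHom g := SplitMax.isMonHom_of_comp g j jn hg
  have : Mono (g ≫ jn) := hg ▸ hjm
  have : Mono g := mono_of_mono g jn
  obtain ⟨s⟩ := (inferInstance : Nonempty ↥S)
  obtain rfl : n = r := le_antisymm hn (Factor.rank_le g s)
  have : IsIso g := SplitMax.isIso_of_split (Basic.isSplit_DS S _) (Basic.isSplit_DS S _) g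
  refine ⟨(BaseChange.overIso e).hom ≫ Red.DSmap S ι₂ ≫ Red.DSmap S (Λ.subtype.comp ε.toAddMonoidHom) ≫ inv g, ?_⟩
  have hinv : inv g ≫ j = jn := by rw [← hg, IsIso.inv_hom_id_assoc]
  simp only [Category.assoc, hinv, hfac', hq₂]
  simp [j₀]

end Groth.Agent.S16612
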