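import Groth.Statements.S16614
import Groth.Agent.H87.SplitMax
-- import your own Groth.Agent.* helpers here

set_option autoImplicit false
open CategoryTheory MonoidalCategory CartesianMonoidalCategory MonObj GrpObj AlgebraicGeometry
universe u
open SGA3x

open CategoryTheory.Limits Groth.Agent.H87 Groth.Agent.Lib.Tori Groth.Agent.Lib.RedPts
namespace Groth.Agent.S16614

/-- Over an arbitrary scheme S, an S-group G of finite multiplicative type admits a maximal split
subtorus: a monomorphism T ⟶ G from a split torus T ≅ D_S(ℤ^r) which is maximal among split subtori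
(if T factors through a split subtorus T' ⟶ G then the factoring morphism is an isomorphism). -/
theorem result {S : Scheme.{u}} {G : Over S} [GrpObj G]
    (hG : SGA3x.IsMultTypeFT G) :
    ∃ (T : Over S) (_ : GrpObj T) (j : T ⟶ G) (r : ℕ), IsMonHom j ∧ Mono j ∧ Red.IsSplitTorusWith (Fin r → ℤ) T ∧
      ∀ (T' : Over S) [GrpObj T'] (j' : T' ⟶ G) [IsMonHom j'] [Mono j'] (r' : ℕ) (g : T ⟶ T'),
        Red.IsSplitTorusWith (Fin r' → ℤ) T' → g ≫ j' = j → IsIso g := by
  by_cases hne : Nonempty ↥S
  · obtain ⟨r, j, hj, hjm, hmax⟩ := SplitMax.exists_max_rank hG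
    refine ⟨_, inferInstance, j, r, hj, hjm, Basic.isSplit_DS S _, fun T' _ j' _ _ r' g hT' hg => ?_⟩
    have : IsMonHom g := SplitMax.isMonHom_of_comp g j j' hg
    have : Mono (g ≫ j') := hg ▸ hjm
    have : Mono g := mono_of_mono g j'
    obtain ⟨j₀, h₁, h₂⟩ := SplitMax.exists_std hT' j'
    obtain ⟨e⟩ := hT'
    let g₁ := g ≫ (BaseChange.overIso e).hom
    have hle : r' ≤ r := hmax r' j₀ h₁ h₂
    obtain ⟨s⟩ := hne
    have hle' : r ≤ r' := Factor.rank_le g₁ s
    obtain rfl : r = r' := le_antisymm hle' hle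
    exact SplitMax.isIso_of_split (Basic.isSplit_DS S _) ⟨e⟩ g
  · refine ⟨_, inferInstance, (1 : Red.DS S (Fin 0 → ℤ) ⟶ G), 0, ?_, ?_, Basic.isSplit_DS S _, ?_⟩
    · exact HomDS.isMonHom_of_points _ fun X a b => by simp [MonObj.comp_one]
    · exact ⟨fun {Z} a b _ => Over.OverMorphism.ext (by
        have : IsEmpty ↥S := not_nonempty_iff.mp hne
        have : IsEmpty ↥Z.left := Function.isEmpty Z.hom
        exact isInitialOfIsEmpty.hom_ext _ _)⟩
    · intro T' _ j' _ _ r' g _ _
      have : IsEmpty ↥S := not_nonempty_iff.mp hne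
      have : IsEmpty ↥T'.left := Function.isEmpty T'.hom
      have : IsEmpty ↥(Red.DS S (Fin 0 → ℤ)).left := Function.isEmpty (Red.DS S (Fin 0 → ℤ)).hom
      have : IsIso g.left := inferInstance
      have : IsIso ((Over.forget S).map g) := ‹IsIso g.left›
      exact isIso_of_reflects_iso g (Over.forget S)

end Groth.Agent.S16614
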