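import Groth.Statements.S16616
import Groth.Agent.H87.TorusQuot

set_option autoImplicit false
open CategoryTheory MonoidalCategory CartesianMonoidalCategory MonObj GrpObj AlgebraicGeometry
universe u
open SGA3x

namespace Groth.Agent.S16616

/-- Over an arbitrary scheme S, let T be a locally split S-torus (Zariski-locally on S isomorphic to
split tori), H a subgroup scheme of T of (finite) multiplicative type and q : T ⟶ Q a homomorphism
presenting Q as the fppf quotient T/H. Then Q is a locally split torus. -/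
theorem result {S : Scheme.{u}} {T H Q : Over S} [GrpObj T]
    [GrpObj H] [GrpObj Q] (hT : (∀ s : ↥S, ∃ U : S.Opens, s ∈ U ∧ ∃ r : ℕ, Red.IsSplitTorusWith (Fin r → ℤ) (Red.bc U.ι T)))
    (i : H ⟶ T) [IsMonHom i] [Mono i] (hH : SGA3x.IsMultTypeFT H) (q : T ⟶ Q) [IsMonHom q]
    (hq : RedSub.IsQuotient i q) :
    (∀ s : ↥S, ∃ U : S.Opens, s ∈ U ∧ ∃ r : ℕ, Red.IsSplitTorusWith (Fin r → ℤ) (Red.bc U.ι Q)) := by
  intro s
  obtain ⟨O, hx, r, ⟨e⟩⟩ := hT s
  obtain ⟨V, hV, r', -, ⟨e'⟩⟩ := Groth.Agent.H87.TorusQuot.exists_nhd_split (𝟙 S) O r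
    ⟨Groth.Agent.Lib.Tori.BaseChange.bcCongr (Category.comp_id O.ι) T ≪≫ e⟩ i hH q
    (Groth.Agent.H87.TorusQuot.quot_of_isQuotient i q hq) s hx
  exact ⟨V, hV, r', ⟨Groth.Agent.Lib.Tori.BaseChange.bcCongr (Category.comp_id V.ι).symm Q ≪≫ e'⟩⟩

end Groth.Agent.S16616
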