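import Groth.Statements.S16617
import Groth.Agent.H87.TorusQuot

set_option autoImplicit false
open CategoryTheory MonoidalCategory CartesianMonoidalCategory MonObj GrpObj AlgebraicGeometry
universe u
open SGA3x

namespace Groth.Agent.S16617

/-- Let S be a connected scheme, T ≅ D_S(ℤ^r) a split S-torus, H a subgroup scheme of T of (finite)
multiplicative type and q : T ⟶ Q a homomorphism presenting Q as the fppf quotient T/H. Then Q is a
split torus of rank at most r. -/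
theorem result {S : Scheme.{u}} [ConnectedSpace ↥S]
    {T H Q : Over S} [GrpObj T] [GrpObj H] [GrpObj Q] (r : ℕ) (hT : Red.IsSplitTorusWith (Fin r → ℤ) T)
    (i : H ⟶ T) [IsMonHom i] [Mono i] (hH : SGA3x.IsMultTypeFT H) (q : T ⟶ Q) [IsMonHom q]
    (hq : RedSub.IsQuotient i q) : ∃ r' : ℕ, r' ≤ r ∧ Red.IsSplitTorusWith (Fin r' → ℤ) Q := by
  obtain ⟨e⟩ := hT
  obtain ⟨s⟩ := (inferInstance : Nonempty ↥S)
  obtain ⟨U, hUc, hsU, r', hr', ⟨e'⟩⟩ := Groth.Agent.H87.TorusQuot.exists_clopen_split r e i hH q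
    (Groth.Agent.H87.TorusQuot.quot_of_isQuotient i q hq) s
  have htop : (U : Set ↥S) = Set.univ := IsClopen.eq_univ ⟨hUc, U.2⟩ ⟨s, hsU⟩
  haveI : IsIso U.ι := isIso_of_isOpenImmersion_of_opensRange_eq_top _ (by
    rw [Scheme.Opens.opensRange_ι]; exact TopologicalSpace.Opens.ext htop)
  exact ⟨r', hr', ⟨(Groth.Agent.Lib.Tori.BaseChange.bcId Q).symm ≪≫
    Groth.Agent.Lib.Tori.BaseChange.bcCongr (IsIso.inv_hom_id U.ι).symm Q ≪≫
    Groth.Agent.H87.Charts.resChart e' (CategoryTheory.inv U.ι)⟩⟩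

end Groth.Agent.S16617
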