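import Groth.Statements.S16618
import Groth.Agent.Lib.CentW.Parabolic

set_option autoImplicit false
open CategoryTheory MonoidalCategory CartesianMonoidalCategory MonObj GrpObj AlgebraicGeometry
universe u
open Par

namespace Groth.Agent.S16618

/-- A reductive group scheme G over a connected scheme S admits a minimal parabolic subgroup P (every
parabolic subgroup of G contained in P is equal to P). -/
theorem result {S : Scheme.{u}} [ConnectedSpace ↥S] {G : Over S} [GrpObj G]
    (hG : Red.IsReductive G) :
    ∃ (P : Over S) (_ : GrpObj P) (p : P ⟶ G), Red.IsParabolic p ∧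
      ∀ (P₁ : Over S) [GrpObj P₁] (p₁ : P₁ ⟶ G) (f : P₁ ⟶ P), Red.IsParabolic p₁ → f ≫ p = p₁ → IsIso f := by
  exact Groth.Agent.Lib.CentW.exists_minimal_parabolic hG

end Groth.Agent.S16618
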