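import Groth.Statements.S16620
import Groth.Agent.H87.SplitMax
-- import your own Groth.Agent.* helpers here

set_option autoImplicit false
open CategoryTheory MonoidalCategory CartesianMonoidalCategory MonObj GrpObj AlgebraicGeometry
universe u
open SGA3x

open CategoryTheory.Limits Groth.Agent.H87 Groth.Agent.Lib.Tori Groth.Agent.Lib.RedPts
namespace Groth.Agent.S16620

/-- Let S be a connected, normal, locally Noetherian scheme, T an S-torus and T₀ ⟶ T its unique maximal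
split subtorus, i.e. a split subtorus through which every split subtorus of T factors. Then every
cocharacter λ : 𝔾_m ⟶ T over S factors through T₀; this is the equality X_*(T₀)(S) = X_*(T)(S) of
groups of cocharacters defined over S. -/
theorem result {S : Scheme.{u}} [ConnectedSpace ↥S]
    [IsLocallyNoetherian S] (hnorm : ∀ x : ↥S, IsDomain (S.presheaf.stalk x) ∧ IsIntegrallyClosed (S.presheaf.stalk x))
    {T T₀ : Over S} [GrpObj T] [GrpObj T₀] (hT : Red.IsTorus T) (j₀ : T₀ ⟶ T) [IsMonHom j₀] [Mono j₀] (r₀ : ℕ)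
    (hT₀ : Red.IsSplitTorusWith (Fin r₀ → ℤ) T₀)
    (hmax : ∀ (T' : Over S) [GrpObj T'] (j' : T' ⟶ T) [IsMonHom j'] [Mono j'] (r' : ℕ),
      Red.IsSplitTorusWith (Fin r' → ℤ) T' → ∃ g : T' ⟶ T₀, g ≫ j₀ = j')
    (lam : Red.Gm S ⟶ T) [IsMonHom lam] : ∃ mu : Red.Gm S ⟶ T₀, mu ≫ j₀ = lam := by
  have hMT : SGA3x.IsMultTypeFT T := by
    obtain ⟨S', g, hg, hs, hc, hl⟩ := hT
    refine ⟨S', g, hg, hs, hc, fun s' => ?_⟩
    obtain ⟨U, hU, r, he⟩ := hl s'
    exact ⟨U, hU, Fin r → ℤ, inferInstance, inferInstance, he⟩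
  obtain ⟨Λ, hΛ, j, hj, hjm, hfac⟩ := Factor.exists_image hMT lam
  have : Module.Finite ℤ Λ := Module.Finite.iff_addGroup_fg.mpr hΛ
  have : IsAddTorsionFree Λ := Function.Injective.isAddTorsionFree Λ.subtype Λ.subtype_injective
  obtain ⟨n, ⟨ε⟩⟩ : ∃ n, Nonempty ((Fin n → ℤ) ≃+ Λ) := ⟨_, ⟨(Module.finBasis ℤ Λ).equivFun.toAddEquiv.symm⟩⟩
  let jn : Red.DS S (Fin n → ℤ) ⟶ T := Red.DSmap S ε.symm.toAddMonoidHom ≫ j
  have : IsMonHom (Red.DSmap S ε.symm.toAddMonoidHom) := Gm.isMonHom_DSmap _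
  have : Mono (Red.DSmap S ε.symm.toAddMonoidHom) := Loci.mono_DSmap_of_surjective S ε.symm.surjective
  obtain ⟨g, hg⟩ := hmax _ jn n (Basic.isSplit_DS S _)
  refine ⟨Red.DSmap S (Λ.subtype.comp ε.toAddMonoidHom) ≫ g, ?_⟩
  rw [Category.assoc, hg, ← hfac, ← Category.assoc, Factor.DSmap_comp]
  exact congrArg (fun φ => Red.DSmap S φ ≫ j) (AddMonoidHom.ext fun x => congrArg Subtype.val (ε.apply_symm_apply x))

end Groth.Agent.S16620
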