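import Groth.Statements.S16621
import Groth.Agent.H87.ExtSplitTorus
-- import your own Groth.Agent.* helpers here

set_option autoImplicit false
open CategoryTheory MonoidalCategory CartesianMonoidalCategory MonObj GrpObj AlgebraicGeometry
universe u
open SGA3x

namespace Groth.Agent.S16621

/-- Let S be a connected, normal, locally Noetherian scheme, T an S-torus and T₀ ⟶ T its unique maximal
split subtorus (a split subtorus through which every split subtorus of T factors). Then T₀ is also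
the unique maximal locally split subtorus of T: every subtorus T₁ ⟶ T which is split Zariski-locally
on S factors through T₀. (Without normality this fails.) -/
theorem result {S : Scheme.{u}} [ConnectedSpace ↥S]
    [IsLocallyNoetherian S] (hnorm : ∀ x : ↥S, IsDomain (S.presheaf.stalk x) ∧ IsIntegrallyClosed (S.presheaf.stalk x))
    {T T₀ T₁ : Over S} [GrpObj T] [GrpObj T₀] [GrpObj T₁] (hT : Red.IsTorus T) (j₀ : T₀ ⟶ T) [IsMonHom j₀] [Mono j₀]
    (r₀ : ℕ) (hT₀ : Red.IsSplitTorusWith (Fin r₀ → ℤ) T₀)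
    (hmax : ∀ (T' : Over S) [GrpObj T'] (j' : T' ⟶ T) [IsMonHom j'] [Mono j'] (r' : ℕ),
      Red.IsSplitTorusWith (Fin r' → ℤ) T' → ∃ g : T' ⟶ T₀, g ≫ j₀ = j')
    (j₁ : T₁ ⟶ T) [IsMonHom j₁] [Mono j₁]
    (hT₁ : ∀ s : ↥S, ∃ U : S.Opens, s ∈ U ∧ ∃ r : ℕ, Red.IsSplitTorusWith (Fin r → ℤ) (Red.bc U.ι T₁)) :
    ∃ g : T₁ ⟶ T₀, g ≫ j₀ = j₁ := by
  haveI : ∀ x : ↥S, IsDomain (S.presheaf.stalk x) := fun x => (hnorm x).1
  haveI : IsIntegral S := (Groth.Agent.Lib.FinCond.isIntegral_iff S).2 ⟨inferInstance, fun x => (hnorm x).1⟩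
  choose U hU r hr using hT₁
  have key : ∀ s, ∃ g : Red.bc (U s).ι T₁ ⟶ Red.bc (U s).ι T₀,
      g ≫ (Over.pullback (U s).ι).map j₀ = (Over.pullback (U s).ι).map j₁ := fun s =>
    Groth.Agent.H87.ExtSplitTorus.exists_factor hnorm (Groth.Agent.H87.GmFibre.isMultTypeFT_of_isTorus hT) j₀ hmax
      (U s) (Red.bc (U s).ι T₁) ((Over.pullback (U s).ι).map j₁) (r s) (hr s)
  choose g hg using key
  let 𝒰 : S.OpenCover := S.openCoverOfIsOpenCover U (top_le_iff.mp fun x _ =>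
    TopologicalSpace.Opens.mem_iSup.mpr ⟨x, hU x⟩)
  let 𝒱 := 𝒰.pullback₁ T₁.hom
  have key2 : ∀ i, ∃ gi : 𝒱.X i ⟶ T₀.left, gi ≫ j₀.left = 𝒱.f i ≫ j₁.left := fun i => by
    have h := congrArg (fun q => CommaMorphism.left q ≫ Limits.pullback.fst T.hom (U i).ι) (hg i)
    simp only [Over.comp_left, Category.assoc, Over.pullback_map_left, Limits.pullback.lift_fst] at h
    exact ⟨(g i).left ≫ Limits.pullback.fst T₀.hom (U i).ι, (Category.assoc _ _ _).trans h⟩
  choose gi hgi using key2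
  have hcompat : ∀ i k, Limits.pullback.fst (𝒱.f i) (𝒱.f k) ≫ gi i = Limits.pullback.snd _ _ ≫ gi k := fun i k => by
    rw [← cancel_mono j₀.left, Category.assoc, Category.assoc, hgi, hgi, Limits.pullback.condition_assoc]
  obtain ⟨gl, hgl0⟩ : ∃ gl : T₁.left ⟶ T₀.left, ∀ i, 𝒱.f i ≫ gl = gi i :=
    ⟨Scheme.Cover.glueMorphisms 𝒱 gi hcompat, fun i => Scheme.Cover.ι_glueMorphisms 𝒱 gi hcompat i⟩
  have hgl : gl ≫ j₀.left = j₁.left := Scheme.Cover.hom_ext 𝒱 _ _ fun i => by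
    rw [← Category.assoc, hgl0, hgi]
  refine ⟨Over.homMk gl ?_, Over.OverMorphism.ext hgl⟩
  rw [← Over.w j₀, ← Category.assoc, hgl, Over.w j₁]

end Groth.Agent.S16621
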