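import Groth.Statements.S16625
import Groth.Agent.Lib.ExchangeFP29.ProjFibre
import Groth.Agent.Lib.ZarCoh.FP

set_option autoImplicit false
universe u
open FGA
open Groth.Agent.Lib Groth.Agent.Lib.ExchangeFP29

namespace Groth.Agent.S16625

open AlgebraicGeometry CategoryTheory CategoryTheory.Limits in
/-- Let S be a Noetherian scheme with projective n-space π : P^n_S → S, Q a coherent module on P^n_S
which is flat over S, and m > 0 an integer such that for every point s of S the restriction Q_s of Q
to the fibre P^n_S ×_S Spec κ(s) is m-regular: H^i of the restriction of Q(m - i) = Q ⊗ O(m - i) to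
that fibre vanishes for every i ≥ 1. Then for every integer d ≥ m: (1) π_*(Q(d)) is a finite locally
free O_S-module; (2) R^i π_*(Q(d)) = 0 for every i ≥ 1 (higher direct images of the underlying
abelian sheaf); (3) the counit π^*π_*(Q(d)) → Q(d) is an epimorphism. (The source's (1) also says
that the formation of π_*(Q(d)) commutes with arbitrary base change T → S; that clause is not
recorded here.) -/
theorem result (S : Scheme.{u}) [IsNoetherian S] (n : ℕ)
    (Q : (CohB1.ProjSpaceOver n S).Modules) (hQ : Coh.IsCoh Q)
    (hflat : FlatMod.IsFlatOver (CohB1.ProjSpaceOver.toBase n S) Q) (m : ℤ) (hm : 0 < m)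
    (hreg : ∀ (s : S) (i : ℕ), 1 ≤ i →
      Subsingleton (Coh.HH (pullback (CohB1.ProjSpaceOver.toBase n S) (S.fromSpecResidueField s))
        ((Scheme.Modules.pullback
            (pullback.fst (CohB1.ProjSpaceOver.toBase n S) (S.fromSpecResidueField s))).obj
          (CohB1.tensorMod Q (Twist.twistOver n S (m - i)))) i))
    (d : ℤ) (hd : m ≤ d) :
    FlatMod.IsFinLocFree ((Coh.push (CohB1.ProjSpaceOver.toBase n S)).obj
        (CohB1.tensorMod Q (Twist.twistOver n S d))) ∧
      (∀ i : ℕ, 1 ≤ i → IsZero ((Coh.RpushAb (CohB1.ProjSpaceOver.toBase n S) i).obj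
        (Coh.toAb (CohB1.tensorMod Q (Twist.twistOver n S d))))) ∧
      Epi ((Scheme.Modules.pullbackPushforwardAdjunction (CohB1.ProjSpaceOver.toBase n S)).counit.app
        (CohB1.tensorMod Q (Twist.twistOver n S d))) := by
  haveI : IsLocallyNoetherian (CohB1.ProjSpaceOver n S) :=
    LocallyOfFiniteType.isLocallyNoetherian (CohB1.ProjSpaceOver.toBase n S)
  haveI : Q.IsQuasicoherent := hQ.1
  have hfp : CohB1.IsFP Q := ZarCoh.FP.isFP_of_isCoh Q hQ
  have h : ∀ s, ProjFibre.RegPt Q m s := fun s i hi => by
    have hsq := IsPullback.of_hasPullback (CohB1.ProjSpaceOver.toBase n S) (S.fromSpecResidueField s)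
    have := (ProjFibre.subsingleton_iff Q hfp hflat (L := S.residueField s) _
      (S.fromSpecResidueField s) _ hsq _ i).1 (hreg s i hi)
    rwa [Scheme.fromSpecResidueField_apply] at this
  exact ⟨ProjFibre.isFinLocFree_push Q hfp hflat h hd,
    fun i hi => ProjFibre.isZero_RpushAb Q hfp hflat h hd hi,
    ProjFibre.epi_counit Q hfp hflat h hd⟩

end Groth.Agent.S16625
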