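import Groth.Statements.S16627
import Groth.Agent.Lib.ProjKoszul.Surj

set_option autoImplicit false
universe u
open Variety

namespace Groth.Agent.S16627

open AlgebraicGeometry CategoryTheory CategoryTheory.Limits in
/-- Let k be a field, F a coherent module on projective n-space P^n_k which is m-regular, and ι : F ⊗
O(-1) → F a monomorphism of O-modules (such as multiplication by a linear form that is a
nonzerodivisor on F, i.e. a hyperplane avoiding the associated points of F). Then the cokernel of ι
— the restriction of F to the hyperplane, as a module on P^n_k — is again m-regular. (Stated for an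
arbitrary monomorphism F(-1) → F and an arbitrary ground field.) -/
theorem result (k : Type u) [Field k] (n : ℕ)
    (F : (CohB1.ProjSpace n k).Modules) (hF : Coh.IsCoh F) (m : ℤ) (hreg : Curv2.IsMRegular k n F m)
    (ι : CohB1.tensorMod F (Twist.twistProjSpace n k (-1)) ⟶ F) [Mono ι] :
    Curv2.IsMRegular k n (cokernel ι) m := by
  have hreg' : Lib.ProjKoszul.Regularity.Reg F m := fun i hi => by
    by_cases hin : i ≤ n
    · exact hreg i hi hin
    · have := (Lib.ProjCoh.Coherent.isCoh_tensorMod hF
        (Lib.ProjCoh.Coherent.isCoh_tw (n := n) (R := k) (m - i))).1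
      exact Lib.ProjCoh.Twist.subsingleton_HH_of_lt _ (by omega)
  intro i hi _
  let T := Lib.TensorMod.Basic.tensorBy (Twist.twistProjSpace n k (m - i))
  let S := ShortComplex.mk ι (cokernel.π ι) (cokernel.condition ι)
  have hS : S.ShortExact := ShortComplex.ShortExact.mk' (ShortComplex.exact_cokernel ι) inferInstance inferInstance
  have : T.IsEquivalence := Lib.ProjCoh.Coherent.isEquivalence_tw (n := n) (R := k) (m - i)
  have hT : (S.map T).ShortExact := hS.map_of_exact T
  have h2 : Subsingleton (Coh.HH (CohB1.ProjSpace n k) (S.map T).X₂ i) := hreg' i hi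
  have h1 : Subsingleton (Coh.HH (CohB1.ProjSpace n k) (S.map T).X₁ (i + 1)) := by
    refine Lib.ProjKoszul.Chase.subsingleton_of_iso k ?_ (hreg' (i + 1) (by omega))
    exact (Lib.TensorMod.Basic.assoc F _ _ ≪≫ Lib.TensorMod.Basic.tensorIso (Iso.refl F)
      (Lib.ProjCoh.Coherent.twTensor (n := n) (R := k) (-1) (m - i) ≪≫
        eqToIso (congrArg (Lib.ProjCoh.Coherent.tw n k) (by push_cast; ring)))).symm
  change Subsingleton (Coh.HH (CohB1.ProjSpace n k) (S.map T).X₃ i)
  refine subsingleton_of_forall_eq 0 fun x => ?_
  obtain ⟨y, hy⟩ := (Lib.Curves.LES.exactK₃ k hT i (i + 1) rfl x).1 (Subsingleton.elim _ _)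
  rw [← hy, Subsingleton.elim y 0, map_zero]

end Groth.Agent.S16627
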