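import Groth.Statements.S16629
import Groth.Agent.Lib.GrassGen.Subobj

set_option autoImplicit false
universe u
open Grass

namespace Groth.Agent.S16629

open AlgebraicGeometry CategoryTheory CategoryTheory.Limits in
/-- Let S be a Noetherian scheme, V a finite locally free O_S-module of rank n, and 0 < q < n. The
Grassmannian functor Gr(q, V) — sending an S-scheme T to the set of submodules K of V_T (the
pullback of V to S ×_S T) whose quotient V_T/K is finite locally free of rank q, with pullback of
submodules as transition maps — is represented by an S-scheme G carrying a universal such submodule;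
and for every O_S-module L that is a q-th exterior power of V and every projective bundle π : P → S
of L (an invertible quotient O_P(1) of π^*L with the universal property for invertible quotients of
pullbacks of L), there is a closed immersion G → P over S. (In the source the closed immersion is
the Plücker morphism sending a quotient to its top exterior power; here it is only asserted to
exist.) -/
theorem result (S : Scheme.{u}) [IsNoetherian S]
    (n q : ℕ) (hq : 0 < q) (hqn : q < n) (V : S.Modules) (hV : FlatMod.IsFinLocFreeOfRank n V) :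
    ∃ (G : Over S) (K : Subobject (FGA.ET (𝟙 S) V G)),
      FlatMod.IsFinLocFreeOfRank q (cokernel K.arrow) ∧
      (∀ (T : Over S) (K' : Subobject (FGA.ET (𝟙 S) V T)),
        FlatMod.IsFinLocFreeOfRank q (cokernel K'.arrow) → ∃! g : T ⟶ G, FGA.quotPull (𝟙 S) V g K = K') ∧
      (∀ (L : S.Modules), ExtPow.IsExtPow q V L →
        ∀ (P : Scheme.{u}) (π : P ⟶ S) (O1 : P.Modules) (u : (Scheme.Modules.pullback π).obj L ⟶ O1),
          KRR.IsProjBundle π L O1 u →
            ∃ c : G.left ⟶ P, IsClosedImmersion c ∧ c ≫ π = G.hom) := by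
  open Groth.Agent.Lib.GrassGen in
  haveI : V.IsQuasicoherent := Groth.Agent.Lib.Modules.AffineSections.isQCoh_of_isFinLocFree
    (fun x => by obtain ⟨U, hx, h⟩ := hV x; exact ⟨U, n, hx, h⟩)
  open Groth.Agent.Lib.GrassGen in
  obtain ⟨G, b, hb⟩ := exists_universal (E := V) (r := q)
  obtain ⟨K, hK, huK⟩ := Groth.Agent.Lib.GrassGen.Subobj.exists_universal_subobject hb
  refine ⟨G, K, hK, huK, fun L hL P π O1 u hu => ?_⟩
  haveI : L.IsQuasicoherent := Groth.Agent.Lib.Modules.AffineSections.isQCoh_of_isFinLocFree
    (Groth.Agent.Lib.GrassGen.ExtPowFree.isFinLocFree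
      (fun x => by obtain ⟨U, hx, h⟩ := hV x; exact ⟨U, n, hx, h⟩) hL)
  obtain ⟨φ, hφ⟩ := hL
  haveI := hu.epi
  let bP : Groth.Agent.Lib.GrassGen.Pt L 1 π := Groth.Agent.Lib.GrassGen.cls u hu.invertible
  have hP : Groth.Agent.Lib.GrassGen.Embed.IsUniv (Over.mk π) bP := by
    intro T a
    have hG := Grass.IsGrass.of_isProjBundle hu
    obtain ⟨h, ⟨hg, he⟩, huniq⟩ := hG.univ T.left T.hom _ (Groth.Agent.Lib.GrassGen.rank_quo a)
      (Groth.Agent.Lib.GrassGen.quo a) inferInstance
    have key : ∀ (h : T.left ⟶ P) (hg : h ≫ π = T.hom),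
        Groth.Agent.Lib.GrassGen.bc h hg bP = a ↔ ∃ e, Grass.quotBC hg u ≫ Iso.hom e =
          Groth.Agent.Lib.GrassGen.quo a := by
      intro h hg
      haveI := Groth.Agent.Lib.GrassGen.epi_bc hg u
      rw [Groth.Agent.Lib.GrassGen.bc_cls h hg u hu.invertible this]
      conv_lhs => rw [← Groth.Agent.Lib.GrassGen.cls_quo a]
      exact Groth.Agent.Lib.GrassGen.cls_eq_iff _ _
    exact ⟨Over.homMk h hg, (key h hg).2 he, fun g hg' =>
      Over.OverMorphism.ext (huniq g.left ⟨Over.w g, (key g.left (Over.w g)).1 hg'⟩)⟩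
  obtain ⟨c, hc⟩ := Groth.Agent.Lib.GrassGen.Embed.exists_closedImmersion φ hφ hb hP
  exact ⟨c.left, hc, Over.w c⟩

end Groth.Agent.S16629
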