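import Groth.Statements.S1663
import Groth.Agent.H41.AffineDimOne
import Groth.Agent.Lib.CohDelta.AbR
import Groth.Agent.Lib.ZarCoh.Morph
import Groth.Agent.Lib.Modules.Stalk

set_option autoImplicit false
universe u
open CategoryTheory CategoryTheory.Limits AlgebraicGeometry
open Variety

namespace Groth.Agent.S1663

/-- Let X be a scheme whose local rings are Noetherian of Krull dimension at most one, j : U → X the
inclusion of a retrocompact open (j quasi-compact) and F a quasi-coherent O_U-module. Then R^p j_* F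
vanishes for all p > 0. -/
theorem result (X : Scheme.{u})
    (hX : ∀ x : X, IsNoetherianRing (X.presheaf.stalk x) ∧ ringKrullDim (X.presheaf.stalk x) ≤ 1)
    (U : X.Opens) [QuasiCompact U.ι] [HasInjectiveResolutions (U : Scheme.{u}).Modules]
    (F : (U : Scheme.{u}).Modules) (hF : Coh.IsQCoh F) (p : ℕ) (hp : 0 < p) :
    IsZero ((Coh.Rpush U.ι p).obj F) := by
  haveI : IsAffineHom U.ι := Groth.Agent.H41.AffineDimOne.isAffineHom_ι hX U
  haveI : F.IsQuasicoherent := hF
  obtain ⟨k, rfl⟩ : ∃ k, p = k + 1 := ⟨p - 1, by omega⟩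
  let I := injectiveResolution F
  obtain ⟨e⟩ := Groth.Agent.Lib.CohDelta.Syzygy.nonempty_rightDerived_iso I U.ι k
  obtain ⟨i⟩ := Groth.Agent.Lib.CohDelta.AbR.nonempty_rpushAb_iso U.ι I k
  refine IsZero.of_iso (Groth.Agent.Lib.Modules.Stalk.isZero_iff_stalk_subsingleton.2 fun y => ?_) e
  exact AddCommGrpCat.subsingleton_of_isZero (((sheafToPresheaf (Opens.grothendieckTopology ↥X) AddCommGrpCat.{u} ⋙
      TopCat.Presheaf.stalkFunctor AddCommGrpCat.{u} y).map_isZero
    (Groth.Agent.Lib.ZarCoh.Morph.isZero_RpushAb U.ι F k)).of_iso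
      ((sheafToPresheaf (Opens.grothendieckTopology ↥X) AddCommGrpCat.{u} ⋙
      TopCat.Presheaf.stalkFunctor AddCommGrpCat.{u} y).mapIso i).symm)

end Groth.Agent.S1663
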