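import Groth.Statements.S16636
import Groth.Agent.Lib.CentW.IsogKer
import Groth.Agent.Lib.GrpSch.SmoothReduced

set_option autoImplicit false
open CategoryTheory MonoidalCategory CartesianMonoidalCategory MonObj GrpObj AlgebraicGeometry
universe u
open Red
open CategoryTheory.Limits
open Groth.Agent.Lib Groth.Agent.Lib.RedPts Groth.Agent.Lib.Tori Groth.Agent.H87 Groth.Agent.Lib.CentW

namespace Groth.Agent.S16636

set_option linter.style.haveILetI false

/-- A homomorphism from a connected smooth group to a finite kernel: conjugation fixes the kernel. -/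
theorem commute_of_finite {L : Type u} [Field L] [IsAlgClosed L]
    {A K : Over (Spec (CommRingCat.of L))} [GrpObj A] [Smooth A.hom] [IsSeparated A.hom]
    [ConnectedSpace A.left] [IsFinite K.hom] (c : A ⟶ K) (i : K ⟶ A) (y : 𝟙_ (Over (Spec (CommRingCat.of L))) ⟶ A)
    (hc : c ≫ i = 𝟙 A * (toUnit A ≫ y) * (𝟙 A)⁻¹) : (toUnit A ≫ y) * 𝟙 A = 𝟙 A * (toUnit A ≫ y) := by
  haveI : IsArtinianRing (CommRingCat.of L) := inferInstanceAs (IsArtinianRing L)
  haveI : IsLocallyArtinian (Spec (CommRingCat.of L)) := Scheme.isLocallyArtinianScheme_Spec.2 inferInstance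
  haveI : IsLocallyArtinian K.left := IsLocallyArtinian.of_locallyQuasiFinite K.hom
  haveI : IsReduced A.left := Groth.Agent.Lib.GrpSch.isReduced_of_smooth_field A.hom
  symm
  haveI : LocallyOfFiniteType ((𝟙 A * (toUnit A ≫ y)).left ≫ A.hom) := by
    rw [Over.w]
    infer_instance
  refine Over.OverMorphism.ext (ext_of_apply_eq A.hom Set.univ isClosed_univ.isLocallyClosed dense_univ
    (fun x _ hx => ?_) (by rw [Over.w, Over.w]))
  let g : 𝟙_ (Over (Spec (CommRingCat.of L))) ⟶ A :=
    Over.homMk (pointOfClosedPoint A.hom x hx) (pointOfClosedPoint_comp A.hom x hx)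
  let x₀ : (𝟙_ (Over (Spec (CommRingCat.of L))) : Over _).left := IsLocalRing.closedPoint L
  have hgx : g.left x₀ = x := pointOfClosedPoint_apply A.hom x hx _
  rw [← hgx, ← Scheme.Hom.comp_apply, ← Scheme.Hom.comp_apply, ← Over.comp_left, ← Over.comp_left]
  have hp : g ≫ c = 1 ≫ c := Over.OverMorphism.ext (ext_of_apply_closedPoint_eq K.hom (Over.w (g ≫ c))
    (Over.w ((1 : 𝟙_ (Over (Spec (CommRingCat.of L))) ⟶ A) ≫ c)) (by
      rw [Over.comp_left, Over.comp_left, Scheme.Hom.comp_apply, Scheme.Hom.comp_apply]
      exact PreconnectedSpace.constant inferInstance c.left.continuous))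
  have hcp : ∀ p : 𝟙_ (Over (Spec (CommRingCat.of L))) ⟶ A, (p ≫ c) ≫ i = p * y * p⁻¹ := fun p => by
    rw [Category.assoc, hc, MonObj.comp_mul, MonObj.comp_mul, GrpObj.comp_inv, Category.comp_id, ← Category.assoc,
      toUnit_unique (p ≫ toUnit A) (𝟙 _), Category.id_comp]
  have h2 : g * y * g⁻¹ = y := by
    rw [← hcp, hp, hcp, _root_.one_mul, _root_.inv_one, _root_.mul_one]
  rw [mul_inv_eq_iff_eq_mul] at h2
  rw [MonObj.comp_mul, MonObj.comp_mul, Category.comp_id, ← Category.assoc,
    toUnit_unique (g ≫ toUnit A) (𝟙 _), Category.id_comp, h2]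

set_option backward.isDefEq.respectTransparency false in
set_option maxHeartbeats 2000000 in
/-- Let f : G' → G be a homomorphism of reductive group schemes over a scheme S. If on every fibre over
S the induced morphism G'_s → G_s is finite, flat and surjective, then f is finite, flat and
surjective (an isogeny: the point is that the quasi-finite kernel is finite over S). -/
theorem result {S : Scheme.{u}} {G' G : Over S} [GrpObj G'] [GrpObj G]
    (hG' : Red.IsReductive G') (hG : Red.IsReductive G) (f : G' ⟶ G) [IsMonHom f]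
    (hfib : ∀ s : S, IsFinite (Limits.pullback.snd f.left (G.hom.fiberι s)) ∧
      Flat (Limits.pullback.snd f.left (G.hom.fiberι s)) ∧ Surjective (Limits.pullback.snd f.left (G.hom.fiberι s))) :
    IsFinite f.left ∧ Flat f.left ∧ Surjective f.left := by
  haveI := hG'.1
  haveI := hG'.2.1
  haveI := hG.1
  haveI := hG.2.1
  haveI hsurj : Surjective f.left := ⟨fun y => by
    obtain ⟨y', hy'⟩ : y ∈ Set.range (G.hom.fiberι (G.hom y)) := by
      rw [Scheme.Hom.range_fiberι]
      exact Set.mem_singleton _
    obtain ⟨z, hz⟩ := (hfib _).2.2.surj y'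
    exact ⟨pullback.fst f.left _ z, by
      rw [← Scheme.Hom.comp_apply, pullback.condition, Scheme.Hom.comp_apply, hz, hy']⟩⟩
  haveI hflat : Flat f.left := flat_of_fibrewise f fun s => by
    let k := S.fromSpecResidueField s
    haveI : Smooth (Red.bc k G).hom := inferInstanceAs (Smooth (pullback.snd G.hom k))
    haveI : Smooth (Red.bc k G').hom := inferInstanceAs (Smooth (pullback.snd G'.hom k))
    haveI : IsAffineHom (Red.bc k G).hom :=
      isAffineHom_isStableUnderBaseChange.of_isPullback (IsPullback.of_hasPullback G.hom k) inferInstance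
    haveI : IsAffineHom (Red.bc k G').hom :=
      isAffineHom_isStableUnderBaseChange.of_isPullback (IsPullback.of_hasPullback G'.hom k) inferInstance
    haveI : IsMonHom ((Over.pullback k).map f : Red.bc k G' ⟶ Red.bc k G) := AlgClosedDescend.isMonHom_map k f
    haveI : Surjective ((Over.pullback k).map f : Red.bc k G' ⟶ Red.bc k G).left :=
      MorphismProperty.overPullbackMap (P := @Surjective) _ _ hsurj
    exact Groth.Agent.Lib.GrpQ.flat_of_surjective_of_smooth ((Over.pullback k).map f : Red.bc k G' ⟶ Red.bc k G)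
  refine ⟨?_, hflat, hsurj⟩
  haveI : QuasiCompact f.left := by
    haveI : QuasiCompact (f.left ≫ G.hom) := by rw [Over.w]; infer_instance
    exact QuasiCompact.of_comp f.left G.hom
  haveI : LocallyOfFinitePresentation f.left := by
    have : LocallyOfFinitePresentation (f.left ≫ G.hom) := by rw [Over.w f]; infer_instance
    exact Groth.Agent.Lib.Flat55.FibreTransfer.locallyOfFinitePresentation_of_comp (f := f.left) (g := G.hom) this
      inferInstance
  obtain ⟨Z', gZ', j', hj', hcl', hm'⟩ := exists_centre_closed hG'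
  obtain ⟨Z, gZ, j, hj, hcl, hm⟩ := exists_centre_closed hG
  haveI := hj'.1
  haveI := hj'.2.1
  haveI := hj.1
  haveI := hj.2.1
  haveI := hcl'
  have hj'c : Cent j' := fun X q h => by
    simpa using (hj'.2.2 Z' j').1 ⟨𝟙 Z', Category.id_comp _⟩ X q h
  have hjc : Cent (j' ≫ f) := by
    intro T' p z
    let π : Over.mk (pullback.snd f.left z.left ≫ T'.hom) ⟶ T' := Over.homMk (pullback.snd f.left z.left) rfl
    let z' : Over.mk (pullback.snd f.left z.left ≫ T'.hom) ⟶ G' := Over.homMk (pullback.fst f.left z.left) (by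
      show pullback.fst f.left z.left ≫ G'.hom = pullback.snd f.left z.left ≫ T'.hom
      rw [← Over.w f, pullback.condition_assoc, Over.w z])
    have hz : z' ≫ f = π ≫ z := Over.OverMorphism.ext pullback.condition
    haveI : Epi π.left := Flat.epi_of_flat_of_surjective (pullback.snd f.left z.left)
    haveI : Epi π := Over.epi_of_epi_left π
    rw [← cancel_epi π, MonObj.comp_mul, MonObj.comp_mul, ← hz, ← Category.assoc, ← Category.assoc,
      ← MonObj.mul_comp, ← MonObj.mul_comp, hj'c _ (π ≫ p) z']
  obtain ⟨v, hv⟩ := (hj.2.2 Z' (j' ≫ f)).2 fun X' q h => by simpa using hjc X' q h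
  haveI : IsMonHom (v ≫ j) := by rw [hv]; infer_instance
  haveI : IsMonHom v := SmWeil.MaxTorusBC.isMonHom_of_mono_comp v j
  -- the kernel
  let K : Over S := pullback f η[G]
  let i : K ⟶ G' := pullback.fst f η[G]
  have hK : AlgGrp.IsKernel i f := by
    have h := IsPullback.of_hasPullback f η[G]
    rwa [toUnit_unique (pullback.snd f η[G]) (toUnit K)] at h
  have hKl : IsPullback i.left K.hom f.left (η[G]).left := by
    have h := hK.map (Over.forget S)
    have h2 : (toUnit K).left = K.hom := (Category.comp_id _).symm.trans (Over.w (toUnit K))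
    exact h2 ▸ h
  haveI : IsClosedImmersion i.left := by
    haveI : IsClosedImmersion (η[G]).left :=
      haveI : IsClosedImmersion ((η[G]).left ≫ G.hom) := by rw [Over.w η[G]]; exact inferInstanceAs (IsClosedImmersion (𝟙 S))
      IsClosedImmersion.of_comp (η[G]).left G.hom
    exact MorphismProperty.of_isPullback (P := @IsClosedImmersion) hKl.flip inferInstance
  have hKfin : ∀ s : S, IsFinite (pullback.snd K.hom (S.fromSpecResidueField s)) := fun s => by
    let k := S.fromSpecResidueField s
    let e : Spec (S.residueField s) ⟶ G.hom.fiber s := pullback.lift (k ≫ (η[G]).left) (𝟙 _) (by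
      rw [Category.assoc, Over.w η[G], Category.id_comp]
      exact Category.comp_id _)
    have hbig : IsPullback (pullback.fst K.hom k ≫ i.left) (pullback.snd K.hom k) f.left (e ≫ G.hom.fiberι s) := by
      rw [show e ≫ G.hom.fiberι s = k ≫ (η[G]).left from pullback.lift_fst _ _ _]
      exact (IsPullback.of_hasPullback K.hom k).paste_horiz hKl
    refine MorphismProperty.of_isPullback (P := @IsFinite) (f := e)
      (f' := pullback.lift (pullback.fst K.hom k ≫ i.left) (pullback.snd K.hom k ≫ e)
        (by rw [hbig.w, Category.assoc])) ?_ (hfib s).1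
    refine IsPullback.of_right ?_ (pullback.lift_snd _ _ _) (IsPullback.of_hasPullback f.left (G.hom.fiberι s))
    rw [pullback.lift_fst]
    exact hbig
  -- its central part
  let N : Over S := Over.mk (pullback.fst i.left j'.left ≫ K.hom)
  let a : N ⟶ K := Over.homMk (pullback.fst i.left j'.left) rfl
  let n : N ⟶ Z' := Over.homMk (pullback.snd i.left j'.left) (by
    show pullback.snd i.left j'.left ≫ Z'.hom = pullback.fst i.left j'.left ≫ K.hom
    rw [← Over.w i, ← Over.w j', ← Category.assoc, ← pullback.condition, Category.assoc])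
  have han : a ≫ i = n ≫ j' := Over.OverMorphism.ext pullback.condition
  have hpb : IsPullback a n i j' := IsPullback.of_map (Over.forget S) han (IsPullback.of_hasPullback _ _)
  have hn : AlgGrp.IsKernel n v := by
    have h2 : IsPullback n (a ≫ toUnit K) (v ≫ j) η[G] := hv.symm ▸ hpb.flip.paste_vert hK
    have hη : η[Z] ≫ j = η[G] := IsMonHom.one_hom j
    have hw : n ≫ v = toUnit N ≫ η[Z] := by
      rw [← cancel_mono j, Category.assoc, Category.assoc, hη, h2.w]
      exact congrArg (· ≫ η[G]) (toUnit_unique _ _)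
    refine ⟨⟨hw⟩, ⟨PullbackCone.IsLimit.mk _ (fun c => h2.lift c.fst c.snd (by
      rw [← Category.assoc, c.condition, Category.assoc, hη])) (fun c => h2.lift_fst _ _ _)
      (fun c => toUnit_unique _ _) (fun c m h1 _ => h2.hom_ext (h1.trans (h2.lift_fst _ _ _).symm) (toUnit_unique _ _))⟩⟩
  haveI : IsClosedImmersion a.left := inferInstanceAs (IsClosedImmersion (pullback.fst i.left j'.left))
  haveI hNfin : IsFinite N.hom := finite_ker hm' hm v n hn fun s => by
    let k := S.fromSpecResidueField s
    haveI : IsClosedImmersion ((Over.pullback k).map a).left :=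
      MorphismProperty.overPullbackMap (P := @IsClosedImmersion) _ _ inferInstance
    haveI := hKfin s
    rw [show pullback.snd N.hom k = ((Over.pullback k).map a).left ≫ pullback.snd K.hom k from
      (Over.w ((Over.pullback k).map a)).symm]
    infer_instance
  -- every point of the kernel is central
  haveI : Surjective a.left := ⟨fun z => by
    let s := K.hom z
    let L := AlgebraicClosure (S.residueField s)
    let t := Red.geomPt s
    haveI hfinL : IsFinite (pullback.snd K.hom t) := by
      let q : Spec (CommRingCat.of L) ⟶ Spec (S.residueField s) :=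
        Spec.map (CommRingCat.ofHom (algebraMap (S.residueField s) L))
      refine MorphismProperty.of_isPullback (P := @IsFinite) (f := q)
        (f' := pullback.map K.hom t K.hom (S.fromSpecResidueField s) (𝟙 _) q (𝟙 _) (by simp) (Category.comp_id _)) ?_
        (hKfin s)
      refine IsPullback.of_right ?_ (by simp) (IsPullback.of_hasPullback K.hom _)
      convert IsPullback.of_hasPullback K.hom t using 1
      simp
    obtain ⟨w, hw⟩ : z ∈ Set.range (pullback.fst K.hom t) := by
      rw [Scheme.Pullback.range_fst, Set.mem_preimage]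
      exact ⟨IsLocalRing.closedPoint L, (Scheme.Hom.comp_apply _ _ _).trans (Scheme.fromSpecResidueField_apply _ _)⟩
    let KL := Red.bc t K
    haveI : IsFinite KL.hom := hfinL
    haveI : IsArtinianRing (CommRingCat.of L) := inferInstanceAs (IsArtinianRing L)
    haveI : IsLocallyArtinian (Spec (CommRingCat.of L)) := Scheme.isLocallyArtinianScheme_Spec.2 inferInstance
    haveI : IsLocallyArtinian KL.left := IsLocallyArtinian.of_locallyQuasiFinite KL.hom
    have hwc : IsClosed ({w} : Set KL.left) := isClosed_discrete _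
    let yK : 𝟙_ (Over (Spec (CommRingCat.of L))) ⟶ KL :=
      Over.homMk (pointOfClosedPoint KL.hom w hwc) (pointOfClosedPoint_comp KL.hom w hwc)
    let A := Red.geomFibre s G'
    haveI : IsAffine A.left := (hG'.2.2 s).1
    haveI : Smooth A.hom := (hG'.2.2 s).2.1
    haveI : ConnectedSpace A.left := (hG'.2.2 s).2.2.1
    let iL : KL ⟶ A := (Over.pullback t).map i
    let y : 𝟙_ (Over (Spec (CommRingCat.of L))) ⟶ A := yK ≫ iL
    let F : A ⟶ Red.bc t G := (Over.pullback t).map f
    haveI : IsMonHom F := AlgClosedDescend.isMonHom_map t f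
    have hiF : iL ≫ F = 1 := BC.down_injective (by
      rw [BC.down_map, ← Category.id_comp iL, BC.down_map, Category.assoc, hK.w, BC.down_one, ← Category.assoc]
      rw [Hom.one_def, toUnit_unique (_ ≫ toUnit K) (toUnit _)])
    let cc : A ⟶ A := 𝟙 A * (toUnit A ≫ y) * (𝟙 A)⁻¹
    have hccF : cc ≫ F = 1 := by
      simp only [cc, y, MonObj.mul_comp, GrpObj.inv_comp, Category.assoc, hiF, MonObj.comp_one,
        _root_.mul_one, Category.id_comp, mul_inv_cancel]
    obtain ⟨c, hc⟩ : ∃ c : A ⟶ KL, c ≫ iL = cc := by
      refine ⟨BC.up t (hK.lift (BC.down t cc) (toUnit _) ?_), BC.down_injective ?_⟩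
      · rw [← BC.down_map, hccF, BC.down_one, Hom.one_def]
      · rw [BC.down_map, BC.down_up, hK.lift_fst]
    have hcomm := commute_of_finite c iL y hc
    have hy : Cent y := fun X q g => by
      have h1 := congrArg (g ≫ ·) hcomm
      simpa only [MonObj.comp_mul, Category.comp_id, ← Category.assoc, toUnit_unique (g ≫ toUnit A) q] using h1
    rw [cent_bc] at hy
    obtain ⟨u, hu⟩ := (hj'.2.2 _ (BC.down t y)).2 fun X q h => by simpa using hy X q h
    let yN := hpb.lift (BC.down t yK) u (by rw [← BC.down_map]; exact hu.symm)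
    have hN : yN ≫ a = BC.down t yK := hpb.lift_fst _ _ _
    refine ⟨yN.left (IsLocalRing.closedPoint L : Spec (CommRingCat.of L)), ?_⟩
    rw [← Scheme.Hom.comp_apply, ← Over.comp_left, hN, BC.down_left, Scheme.Hom.comp_apply]
    exact (congrArg (pullback.fst K.hom t) (pointOfClosedPoint_apply KL.hom w hwc _)).trans hw⟩
  -- the kernel is finite
  haveI : IsFinite K.hom := by
    haveI : LocallyQuasiFinite (a.left ≫ K.hom) := by rw [Over.w a]; infer_instance
    haveI : UniversallyClosed (a.left ≫ K.hom) := by rw [Over.w a]; infer_instance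
    haveI : UniversallyClosed K.hom := UniversallyClosed.of_comp_surjective a.left K.hom
    haveI : IsAffineHom K.hom := by rw [← Over.w i]; infer_instance
    haveI : LocallyOfFiniteType K.hom := by rw [← Over.w i]; infer_instance
    haveI : IsProper K.hom := {}
    exact IsFinite.iff_isProper_and_isAffineHom.2 ⟨inferInstance, inferInstance⟩
  -- descend along `f`
  haveI := Groth.Agent.Lib.TorsorSch.Descent.descendsAlong_isFinite.{u}
  let P := pullback f f
  let m : P ⟶ K := hK.lift ((pullback.fst f f)⁻¹ * pullback.snd f f) (toUnit _) (by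
    rw [MonObj.mul_comp, GrpObj.inv_comp, pullback.condition, inv_mul_cancel, Hom.one_def])
  let Φ : P ⟶ G' ⊗ K := lift (pullback.fst f f) m
  have hif : i ≫ f = 1 := hK.w.trans (Hom.one_def).symm
  let Ψ : G' ⊗ K ⟶ P := pullback.lift (fst G' K) (fst G' K * (snd G' K ≫ i)) (by
    rw [MonObj.mul_comp, Category.assoc, hif, MonObj.comp_one, _root_.mul_one])
  have hm1 : m ≫ i = (pullback.fst f f)⁻¹ * pullback.snd f f := hK.lift_fst _ _ _
  haveI : Mono i := Over.mono_of_mono_left i
  have h1 : Φ ≫ Ψ = 𝟙 P := by
    apply pullback.hom_ext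
    · simp [Φ, Ψ]
    · simp [Φ, Ψ, MonObj.comp_mul, hm1]
  have h2 : Ψ ≫ Φ = 𝟙 _ := by
    apply CartesianMonoidalCategory.hom_ext
    · simp [Φ, Ψ]
    · rw [← cancel_mono i, Category.assoc, Category.assoc]
      simp [Φ, Ψ, hm1, MonObj.comp_mul, GrpObj.comp_inv, ← Category.assoc]
  haveI : IsIso Φ := ⟨Ψ, h1, h2⟩
  haveI : IsIso Φ.left := inferInstanceAs (IsIso ((Over.forget _).map Φ))
  haveI : IsFinite (fst G' K).left := MorphismProperty.pullback_fst (P := @IsFinite) _ _ ‹IsFinite K.hom›
  haveI : IsFinite (pullback.fst f f).left := by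
    rw [show (pullback.fst f f).left = Φ.left ≫ (fst G' K).left by rw [← Over.comp_left]; simp [Φ]]
    infer_instance
  exact MorphismProperty.of_isPullback_of_descendsAlong (P := @IsFinite) (Q := @Surjective ⊓ @Flat ⊓ @QuasiCompact)
    ((IsPullback.of_hasPullback f f).map (Over.forget S)) ⟨⟨hsurj, hflat⟩, ‹QuasiCompact f.left›⟩
    ‹IsFinite (pullback.fst f f).left›

end Groth.Agent.S16636
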