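import Groth.Statements.S16638
import Groth.Agent.H82.Closed.Fibre
import Groth.Agent.H82.Roots.Base
import Groth.Agent.H82.Reduced.Main
import Groth.Agent.Lib.FreeRes.SubGrp

set_option autoImplicit false
open CategoryTheory MonoidalCategory CartesianMonoidalCategory MonObj GrpObj AlgebraicGeometry
universe u
open RedSub
open Groth.Agent.Lib.RedPts Groth.Agent.H82 Groth.Agent.H82.Contract Groth.Agent.H82.Order.Level
open Groth.Agent.H82.RankOne (P P_eq P_zero)

namespace Groth.Agent.S16638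

/-- Let G be a reductive group scheme over a scheme S with a splitting D, and let Ψ be a closed set of
roots (a, b ∈ Ψ with a + b a root forces a + b ∈ Ψ) containing no pair of opposite roots. Then the
root groups U_a, a ∈ Ψ, directly span, in any order, one and the same closed subgroup scheme U_Ψ of
G: U_Ψ is smooth over S with connected geometric fibres containing no non-trivial subtorus, it is
normalised by the torus of the splitting, and for every enumeration of Ψ the ordered product of the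
root homomorphisms is an isomorphism from a power of the additive group onto U_Ψ. -/
theorem result {S : Scheme.{u}} {G : Over S} [GrpObj G]
    (D : Red.SplitRed G) (Ψ : Set D.idx)
    (hcl : ∀ a b c : D.idx, a ∈ Ψ → b ∈ Ψ → D.P.root a + D.P.root b = D.P.root c → c ∈ Ψ)
    (hneg : ∀ a b : D.idx, a ∈ Ψ → D.P.root b = -D.P.root a → b ∉ Ψ) :
    ∃ (U : Over S) (_ : GrpObj U) (v : U ⟶ G), IsMonHom v ∧ IsClosedImmersion v.left ∧ Smooth U.hom ∧
      (∀ s : S, ConnectedSpace (Red.geomFibre s U).left ∧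
        Red.HasNoSubtorus (AlgebraicClosure (S.residueField s)) (Red.geomFibre s U)) ∧
      (∀ (X : Over S) (t : X ⟶ D.T) (x : X ⟶ U), ∃ x' : X ⟶ U, (t ≫ D.i) * (x ≫ v) * (t ≫ D.i)⁻¹ = x' ≫ v) ∧
      ∀ {m : ℕ} (e : Fin m → D.idx), RedSub.Enumerates Ψ e →
        ∃ ψ : RedSub.pow (Red.Ga S) m ≅ U, ψ.hom ≫ v = RedSub.prodMap (Red.Ga S) m (fun k => D.u (e k)) := by
  classical
  rcases isEmpty_or_nonempty S with hS | hS
  · haveI : ∀ X : Over S, IsEmpty X.left := fun X => Function.isEmpty X.hom.base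
    have hsub : ∀ (X Y : Over S) (f g : X ⟶ Y), f = g := fun X Y f g =>
      Over.OverMorphism.ext (isInitialOfIsEmpty.hom_ext _ _)
    let w : ∀ X Y : Over S, X ⟶ Y := fun X Y =>
      Over.homMk (isInitialOfIsEmpty.to _) (isInitialOfIsEmpty.hom_ext _ _)
    refine ⟨𝟙_ _, inferInstance, w _ _, ⟨hsub _ _ _ _, hsub _ _ _ _⟩, inferInstance, inferInstance,
      fun s => (hS.false s).elim, fun X t x => ⟨w _ _, hsub _ _ _ _⟩, fun {m} e _ => ?_⟩
    exact ⟨⟨w _ _, w _ _, hsub _ _ _ _, hsub _ _ _ _⟩, hsub _ _ _ _⟩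
  haveI := Reduced.isReduced D
  have hd : ∀ i ∈ Ψ, D.P.reflectionPerm i i ∉ Ψ := fun i hi =>
    hneg i _ hi (by rw [D.P.root_reflectionPerm, D.P.reflection_apply_self])
  have hc : RootD.IsClosedSub D.P Ψ := fun i j k hi hj h => hcl i j k hi hj h.symm
  obtain ⟨b, hb⟩ := Roots.exists_base_of_pointed (Roots.pointed_of_closed D.P hd hc)
  obtain ⟨l, hlp, hln⟩ := exists_regular (D := D) b
  have hl : ∀ a, l (D.P.root a) ≠ 0 := fun a =>
    (b.root_mem_or_neg_mem a).elim (fun h => (hlp a h).ne') fun h => (hln a h).ne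
  have hpos : ∀ a ∈ Ψ, 0 < l (D.P.root a) := fun a ha => hlp a (hb ha)
  obtain ⟨k, e, he⟩ := Borel.exists_enum (D := D) Ψ
  haveI := isAffineHom D
  have hclim : IsClosedImmersion (RedSub.prodMap (Red.Ga S) k fun i => D.u (e i)).left :=
    mono_prodMap_pos he.1 fun i => hpos _ (he.2 ▸ Set.mem_range_self i)
  haveI := mono_of_isClosedImmersion _ hclim
  have hiff : ∀ {X : Over S} (g : X ⟶ G),
      (∃ z, z ≫ RedSub.prodMap (Red.Ga S) k (fun i => D.u (e i)) = g) ↔ g ∈ V Ψ l X 1 := fun {X} g => by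
    constructor
    · rintro ⟨z, rfl⟩
      rw [Closed.comp_prodMap_eq_F]
      exact Closed.F_mem Ψ l e he fun i hi => absurd hi (by
        have := hpos _ (he.2 ▸ Set.mem_range_self i : e i ∈ Ψ); omega)
    · intro hg
      obtain ⟨x, hx⟩ := Closed.exists_F Ψ l e hd hc hl hpos he hg
      exact ⟨_, (Closed.tuple_prodMap_eq_F e x).trans hx⟩
  obtain ⟨inst, hm⟩ := Groth.Agent.Lib.FreeRes.exists_grpObj_of_mono
    (RedSub.prodMap (Red.Ga S) k fun i => D.u (e i)) (fun T => (hiff 1).2 (one_mem _))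
    (fun a c => (hiff _).2 (mul_mem ((hiff _).1 ⟨a, rfl⟩) ((hiff _).1 ⟨c, rfl⟩)))
    (fun a => (hiff _).2 (inv_mem ((hiff _).1 ⟨a, rfl⟩)))
  haveI := hm
  haveI := smoothOfRelativeDimension_pow (S := S) k
  refine ⟨RedSub.pow (Red.Ga S) k, inst, RedSub.prodMap (Red.Ga S) k fun i => D.u (e i), hm, hclim,
    SmoothOfRelativeDimension.smooth k _, fun s => ⟨?_, ?_⟩, fun X t x => ?_, fun {m} e' he' => ?_⟩
  · exact Closed.connected_pow k (Red.geomPt s)
  · exact Closed.hasNoSubtorus Ψ l e hd hc hl hpos he (Red.geomPt s)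
  · rw [Closed.comp_prodMap_eq_F]
    refine ⟨_, ((Closed.tuple_prodMap_eq_F e
      (fun i => Red.gmFn (t ≫ chr D (D.P.root (e i))) * Red.gaFn (x ≫ proj k i))).trans ?_).symm⟩
    exact eq_mul_inv_iff_mul_eq.2 (Reduced.conj_prodPts t e _).symm
  · let v := RedSub.prodMap (Red.Ga S) m fun i => D.u (e' i)
    haveI : Mono v := mono_of_isClosedImmersion _
      (mono_prodMap_pos he'.1 fun i => hpos _ (he'.2 ▸ Set.mem_range_self i))
    obtain ⟨φ, hφ⟩ := (hiff v).2 (by
      rw [← Category.id_comp v, Closed.comp_prodMap_eq_F]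
      exact Closed.F_mem Ψ l e' he' fun i hi => absurd hi (by
        have := hpos _ (he'.2 ▸ Set.mem_range_self i : e' i ∈ Ψ); omega))
    obtain ⟨x, hx⟩ := Closed.exists_F Ψ l e' hd hc hl hpos he'
      ((hiff (RedSub.prodMap (Red.Ga S) k fun i => D.u (e i))).1 ⟨𝟙 _, Category.id_comp _⟩)
    let ψ := tuple m fun i => Ga.gaPt (x i)
    have hψ : ψ ≫ v = RedSub.prodMap (Red.Ga S) k fun i => D.u (e i) :=
      (Closed.tuple_prodMap_eq_F e' x).trans hx
    exact ⟨⟨φ, ψ, (cancel_mono v).1 (by rw [Category.assoc, hψ, hφ, Category.id_comp]),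
      (cancel_mono (RedSub.prodMap (Red.Ga S) k fun i => D.u (e i))).1
        (by rw [Category.assoc, hφ, hψ, Category.id_comp])⟩, hφ⟩

end Groth.Agent.S16638
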