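import Groth.Statements.S1664
import Groth.Agent.Lib.Ample.GG
import Groth.Agent.Lib.Ample.Basis
import Groth.Agent.H34.GlobGen
-- import your own Groth.Agent.* helpers here

set_option autoImplicit false
universe u
open CategoryTheory CategoryTheory.Limits AlgebraicGeometry
open Variety

namespace Groth.Agent.S1664

open Groth.Agent.Lib Groth.Agent.Lib.Ample.GenLocus Groth.Agent.Lib.Ample.Pow Groth.Agent.Lib.Ample.GG

/-- Let X be quasi-compact. Suppose every point of X lies in the locus where some global section s of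
some globally generated invertible module L generates L, with that locus affine. Then X has an ample
invertible module. -/
theorem result (X : Scheme.{u}) [CompactSpace X]
    (h : ∀ x : X, ∃ (L : X.Modules) (s : Coh.structureModule X ⟶ L), PicF.IsInvertible L ∧ Curv2.IsGloballyGenerated L ∧
      x ∈ CohB1.genLocus L s ∧ IsAffineOpen (CohB1.genLocus L s)) :
    ∃ M : X.Modules, CohB1.IsAmple M := by
  classical
  choose L s hL hgg hx hs using h
  obtain ⟨T, hT⟩ := isCompact_univ.elim_finite_subcover (fun x => (CohB1.genLocus (L x) (s x) : Set X))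
    (fun x => (CohB1.genLocus (L x) (s x)).isOpen) fun x _ => Set.mem_iUnion.2 ⟨x, hx x⟩
  have key : ∀ T : Finset X, ∃ M : X.Modules, PicF.IsInvertible M ∧ (∀ x, GenAt M x) ∧
      ∀ y ∈ T, ∀ x ∈ CohB1.genLocus (L y) (s y), ∃ σ : Coh.structureModule X ⟶ M,
        x ∈ CohB1.genLocus M σ ∧ IsAffineOpen (CohB1.genLocus M σ) := by
    intro T
    induction T using Finset.induction with
    | empty => exact ⟨_, PicLoc.isInvertible_structureModule X,
        fun x => H34.GlobGen.gl_eq_top_of_gg (H34.GlobGen.gg_structureModule X) x, by simp⟩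
    | insert a T _ ih =>
      obtain ⟨M, hM, hMg, hMs⟩ := ih
      have hga : ∀ x, GenAt (L a) x := fun x => H34.GlobGen.gl_eq_top_of_gg (hgg a) x
      refine ⟨CohB1.tensorMod M (L a), TensorMod.Invertible.isInvertible_tensorMod hM (hL a),
        fun x => GenAt.tensor (hMg x) (hga x), fun y hy x hxy => ?_⟩
      rcases Finset.mem_insert.1 hy with rfl | hy
      · obtain ⟨σ, hσ⟩ := exists_genLocus_of_genAt hM (hMg x)
        refine ⟨SecTwist.tmulHom σ (s y), ?_, ?_⟩ <;> rw [genLocus_tmulHom hM (hL y)]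
        · exact ⟨hσ, hxy⟩
        · exact Ample.Basis.isAffineOpen_genLocus_inf hM σ (hs y)
      · obtain ⟨σ, hxσ, hσ⟩ := hMs y hy x hxy
        obtain ⟨τ, hτ⟩ := exists_genLocus_of_genAt (hL a) (hga x)
        refine ⟨SecTwist.tmulHom σ τ, ?_, ?_⟩ <;> rw [genLocus_tmulHom hM (hL a)]
        · exact ⟨hxσ, hτ⟩
        · rw [inf_comm]; exact Ample.Basis.isAffineOpen_genLocus_inf (hL a) τ hσ
  obtain ⟨M, hM, -, hMs⟩ := key T
  refine ⟨M, isAmple_iff.2 ⟨hM, inferInstance, fun x => ?_⟩⟩
  obtain ⟨y, hy, hxy⟩ := Set.mem_iUnion₂.1 (hT (Set.mem_univ x))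
  obtain ⟨σ, hxσ, hσ⟩ := hMs y hy x hxy
  exact AffineAt.mk one_pos (powOne M).symm σ hxσ hσ

end Groth.Agent.S1664
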