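import Groth.Statements.S16642
import Groth.Agent.Lib.CentW.Parabolic

set_option autoImplicit false
open CategoryTheory MonoidalCategory CartesianMonoidalCategory MonObj GrpObj AlgebraicGeometry
universe u
open RedSub

namespace Groth.Agent.S16642

/-- For a parabolic subgroup P of a reductive group scheme G over a scheme S, etale-locally on S there
is a maximal torus of G contained in P. -/
theorem result {S : Scheme.{u}} {G P : Over S} [GrpObj G] [GrpObj P]
    (hG : Red.IsReductive G) (p : P ⟶ G) (hP : Red.IsParabolic p) (s : S) :
    ∃ (S' : Scheme.{u}) (f : S' ⟶ S) (_ : Etale f), s ∈ Set.range f.base ∧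
      ∃ (T : Over S') (_ : GrpObj T) (t : T ⟶ Red.bc f P), IsMonHom t ∧
        Red.IsMaximalTorus (t ≫ (Over.pullback f).map p) := by
  exact Groth.Agent.Lib.CentW.exists_maxTorus_parabolic hG hP s

end Groth.Agent.S16642
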