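import Groth.Statements.S16644
import Mathlib


set_option autoImplicit false
open QuadZ

namespace Groth.Agent.S16644

lemma det_eq_zero_of_symm {n : ℕ} (hn : Odd n) {R : Type*} [CommRing R] {M : Matrix (Fin n) (Fin n) R}
    (h2 : (2 : R) = 0) (hs : ∀ i j, M i j = M j i) (hd : ∀ i, M i i = 0) : M.det = 0 := by
  classical
  rw [Matrix.det_apply]
  apply Finset.sum_involution (fun σ _ => σ⁻¹)
  · intro σ _
    have : ∏ i, M ((σ⁻¹ : Equiv.Perm (Fin n)) i) i = ∏ i, M (σ i) i := by
      rw [← Equiv.prod_comp σ]
      exact Finset.prod_congr rfl fun i _ => by rw [Equiv.Perm.inv_def, Equiv.symm_apply_apply, hs]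
    rw [Equiv.Perm.sign_inv, this]
    have e : ∀ x : R, x + x = 0 := fun x => by rw [← two_mul, h2, zero_mul]
    rw [← smul_add, e, smul_zero]
  · intro σ _ hne heq
    apply hne
    have hinv : σ * σ = 1 := by
      conv_lhs => arg 1; rw [← heq]
      simp
    by_contra hprod
    have hfix : ∀ i, σ i ≠ i := by
      intro i hi
      apply hprod
      rw [Finset.prod_eq_zero (Finset.mem_univ i) (by rw [hi]; exact hd i), smul_zero]
    have hsupp : σ.support = Finset.univ := Finset.eq_univ_iff_forall.mpr fun i =>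
      Equiv.Perm.mem_support.mpr (hfix i)
    have h3 : 2 ∣ Fintype.card (Fin n) := by
      haveI : Fact (Nat.Prime 2) := ⟨Nat.prime_two⟩
      by_contra h
      obtain ⟨x, hx⟩ := Equiv.Perm.exists_fixed_point_of_prime h (n := 1) (σ := σ) (by rw [pow_one, sq, hinv])
      exact hfix x hx
    rw [Fintype.card_fin] at h3
    exact (Nat.not_even_iff_odd.mpr hn) (even_iff_two_dvd.mpr h3)
  · intro σ _; exact inv_inv σ
  · intro σ _; exact Finset.mem_univ _

/-- For odd n, the discriminant of the universal quadratic form Σ_{i ≤ j} A_{ij} x_i x_j in n variables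
(variables A_{ij} indexed by unordered pairs), i.e. the determinant of the symmetric matrix with
diagonal entries 2 A_{ii} and off-diagonal entries A_{ij}, is divisible by 2 in the integral
polynomial ring ℤ[A_{ij}] (so the half-discriminant is an integral polynomial). -/
theorem result (n : ℕ) (hn : Odd n) :
    (2 : MvPolynomial (Sym2 (Fin n)) ℤ) ∣
      (Matrix.of fun i j : Fin n =>
        if i = j then 2 * MvPolynomial.X (R := ℤ) (σ := Sym2 (Fin n)) (Sym2.mk i j)
        else MvPolynomial.X (R := ℤ) (σ := Sym2 (Fin n)) (Sym2.mk i j)).det := by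
  classical
  set M := (Matrix.of fun i j : Fin n =>
        if i = j then 2 * MvPolynomial.X (R := ℤ) (σ := Sym2 (Fin n)) (Sym2.mk i j)
        else MvPolynomial.X (R := ℤ) (σ := Sym2 (Fin n)) (Sym2.mk i j)) with hM
  have key : MvPolynomial.map (Int.castRingHom (ZMod 2)) M.det = 0 := by
    rw [RingHom.map_det]
    apply det_eq_zero_of_symm hn
    · exact (by rw [show (2 : MvPolynomial (Sym2 (Fin n)) (ZMod 2)) = MvPolynomial.C (2 : ZMod 2) from
        (map_ofNat MvPolynomial.C 2).symm, show (2 : ZMod 2) = 0 from rfl, map_zero])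
    · intro i j
      simp only [RingHom.mapMatrix_apply, Matrix.map_apply, hM, Matrix.of_apply]
      by_cases h : i = j
      · subst h; rfl
      · rw [if_neg h, if_neg (Ne.symm h), Sym2.eq_swap]
    · intro i
      simp only [RingHom.mapMatrix_apply, Matrix.map_apply, hM, Matrix.of_apply, if_true]
      rw [map_mul, map_ofNat, show (2 : MvPolynomial (Sym2 (Fin n)) (ZMod 2)) = MvPolynomial.C (2 : ZMod 2) from
        (map_ofNat MvPolynomial.C 2).symm, show (2 : ZMod 2) = 0 from rfl, map_zero, zero_mul]
  have : MvPolynomial.C (2 : ℤ) ∣ M.det := by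
    rw [MvPolynomial.C_dvd_iff_dvd_coeff]
    intro d
    have h1 := congrArg (MvPolynomial.coeff d) key
    rw [MvPolynomial.coeff_map, MvPolynomial.coeff_zero] at h1
    simpa [ZMod.intCast_zmod_eq_zero_iff_dvd] using h1
  simpa using this

end Groth.Agent.S16644
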