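import Groth.Statements.S16646
import Groth.Agent.Lib.SimpleFactor.Basic

set_option autoImplicit false
open CategoryTheory MonoidalCategory CartesianMonoidalCategory MonObj GrpObj AlgebraicGeometry
universe u
open Red

open Groth.Agent.Lib

namespace Groth.Agent.S16646

/-- Let G be a non-trivial semisimple group scheme over a field k. Consider the normal smooth connected
closed k-subgroup schemes of G that are non-trivial and minimal for these properties. Then there are
finitely many of them (a finite family through which every such subgroup factors isomorphically),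
each of them is k-simple (it has no normal smooth connected closed k-subgroup other than itself and
the trivial one), and any two of them that differ as subgroups of G commute with each other. The
statement that the multiplication map from the product of these subgroups to G is a central isogeny
is not included here. -/
theorem result (k : Type u) [Field k]
    {G : Over (Spec (CommRingCat.of k))} [GrpObj G] (hG : Red.IsSemisimple G) (hnt : ¬ Red.IsTrivialGrp G)
    (nsc : ∀ (N : Over (Spec (CommRingCat.of k))) [GrpObj N], (N ⟶ G) → Prop)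
    (hnsc : ∀ (N : Over (Spec (CommRingCat.of k))) [GrpObj N] (i : N ⟶ G), nsc N i ↔
      IsMonHom i ∧ IsClosedImmersion i.left ∧ Smooth N.hom ∧ ConnectedSpace N.left ∧ AlgGrp.IsNormalHom i)
    (mnl : ∀ (N : Over (Spec (CommRingCat.of k))) [GrpObj N], (N ⟶ G) → Prop)
    (hmnl : ∀ (N : Over (Spec (CommRingCat.of k))) [GrpObj N] (i : N ⟶ G), mnl N i ↔
      nsc N i ∧ ¬ Red.IsTrivialGrp N ∧
        ∀ (N' : Over (Spec (CommRingCat.of k))) [GrpObj N'] (i' : N' ⟶ G) (f : N' ⟶ N) [IsMonHom f],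
          nsc N' i' → f ≫ i = i' → Red.IsTrivialGrp N' ∨ IsIso f) :
    (∃ (r : ℕ) (N : Fin r → Over (Spec (CommRingCat.of k))) (_ : ∀ a, GrpObj (N a)) (j : ∀ a, N a ⟶ G),
      (∀ a, mnl (N a) (j a)) ∧
      ∀ (M : Over (Spec (CommRingCat.of k))) [GrpObj M] (i : M ⟶ G), mnl M i → ∃ (a : Fin r) (e : M ≅ N a), e.hom ≫ j a = i) ∧
    (∀ (N : Over (Spec (CommRingCat.of k))) [GrpObj N] (i : N ⟶ G), mnl N i →
      ∀ (N' : Over (Spec (CommRingCat.of k))) [GrpObj N'] (f : N' ⟶ N) [IsMonHom f], IsClosedImmersion f.left →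
        Smooth N'.hom → ConnectedSpace N'.left → AlgGrp.IsNormalHom f → Red.IsTrivialGrp N' ∨ IsIso f) ∧
    (∀ (N₁ N₂ : Over (Spec (CommRingCat.of k))) [GrpObj N₁] [GrpObj N₂] (i₁ : N₁ ⟶ G) (i₂ : N₂ ⟶ G),
      mnl N₁ i₁ → mnl N₂ i₂ → (¬ ∃ e : N₁ ≅ N₂, e.hom ≫ i₂ = i₁) →
      ∀ (X : Over (Spec (CommRingCat.of k))) (x : X ⟶ N₁) (y : X ⟶ N₂), (x ≫ i₁) * (y ≫ i₂) = (y ≫ i₂) * (x ≫ i₁)) := by
  classical
  have hto : ∀ (N : Over (Spec (CommRingCat.of k))) [GrpObj N] (i : N ⟶ G), mnl N i → SimpleFactor.Mnl i := by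
    intro N _ i h
    obtain ⟨h1, h2, h3⟩ := (hmnl N i).1 h
    exact ⟨(hnsc N i).1 h1, h2, fun N' _ i' f _ hi' => h3 N' i' f ((hnsc N' i').2 hi')⟩
  have hfrom : ∀ (N : Over (Spec (CommRingCat.of k))) [GrpObj N] (i : N ⟶ G), SimpleFactor.Mnl i → mnl N i := by
    intro N _ i h
    exact (hmnl N i).2 ⟨(hnsc N i).2 h.1, h.2.1, fun N' _ i' f _ hi' => h.2.2 N' i' f ((hnsc N' i').1 hi')⟩
  refine ⟨?_, fun N _ i h => SimpleFactor.simple hG (hto N i h),
    fun N₁ N₂ _ _ i₁ i₂ h₁ h₂ hne => SimpleFactor.commute hG (hto N₁ i₁ h₁) (hto N₂ i₂ h₂) hne⟩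
  obtain ⟨F, hF⟩ := SimpleFactor.finite_pieces hG
  let P : Fin F.card → SimpleFactor.Piece G := fun a => (F.equivFin.symm a).1
  refine ⟨F.card, fun a => (P a).N, fun a => (P a).grp, fun a => (P a).i,
    fun a => @hfrom (P a).N (P a).grp (P a).i (P a).mnl, fun M _ i h => ?_⟩
  obtain ⟨Q, hQ, e, he⟩ := hF ⟨M, inferInstance, i, hto M i h⟩
  refine ⟨F.equivFin ⟨Q, hQ⟩, ?_⟩
  have : P (F.equivFin ⟨Q, hQ⟩) = Q := by simp [P]
  show ∃ e : M ≅ (P (F.equivFin ⟨Q, hQ⟩)).N, e.hom ≫ (P (F.equivFin ⟨Q, hQ⟩)).i = i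
  rw [this]
  exact ⟨e, he⟩

end Groth.Agent.S16646
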