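import Groth.Statements.S16647
import Groth.Agent.Lib.DescAlg.Descends
import Groth.Agent.Lib.GrpQ.Desc
import Groth.Agent.Lib.GrpSch.Basic
import Groth.Agent.Lib.AlgSpMor.Cancel

set_option autoImplicit false
open CategoryTheory MonoidalCategory CartesianMonoidalCategory MonObj GrpObj AlgebraicGeometry
universe u
open GrpSch

namespace Groth.Agent.S16647

/-- In a commutative diagram of short exact sequences of S-group schemes that are flat, separated and of
finite presentation over a scheme S (in each row the first homomorphism is the kernel of the second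
and the second is a flat surjection), if the two outer vertical homomorphisms are closed immersions
then so is the middle one. -/
theorem result {S : Scheme.{u}}
    {H₁' H₁ H₁'' H₂' H₂ H₂'' : Over S} [GrpObj H₁'] [GrpObj H₁] [GrpObj H₁''] [GrpObj H₂'] [GrpObj H₂] [GrpObj H₂'']
    [Flat H₁'.hom] [Flat H₁.hom] [Flat H₁''.hom] [Flat H₂'.hom] [Flat H₂.hom] [Flat H₂''.hom]
    [IsSeparated H₁'.hom] [IsSeparated H₁.hom] [IsSeparated H₁''.hom]
    [IsSeparated H₂'.hom] [IsSeparated H₂.hom] [IsSeparated H₂''.hom]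
    [QuasiCompact H₁'.hom] [QuasiCompact H₁.hom] [QuasiCompact H₁''.hom]
    [QuasiCompact H₂'.hom] [QuasiCompact H₂.hom] [QuasiCompact H₂''.hom]
    [LocallyOfFinitePresentation H₁'.hom] [LocallyOfFinitePresentation H₁.hom] [LocallyOfFinitePresentation H₁''.hom]
    [LocallyOfFinitePresentation H₂'.hom] [LocallyOfFinitePresentation H₂.hom] [LocallyOfFinitePresentation H₂''.hom]
    (a₁ : H₁' ⟶ H₁) (b₁ : H₁ ⟶ H₁'') (a₂ : H₂' ⟶ H₂) (b₂ : H₂ ⟶ H₂'')
    [IsMonHom a₁] [IsMonHom b₁] [IsMonHom a₂] [IsMonHom b₂]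
    (h₁ : AlgGrp.IsKernel a₁ b₁) (hb₁ : Flat b₁.left ∧ Surjective b₁.left)
    (h₂ : AlgGrp.IsKernel a₂ b₂) (hb₂ : Flat b₂.left ∧ Surjective b₂.left)
    (j' : H₁' ⟶ H₂') (j : H₁ ⟶ H₂) (j'' : H₁'' ⟶ H₂'') [IsMonHom j'] [IsMonHom j] [IsMonHom j'']
    (sq₁ : a₁ ≫ j = j' ≫ a₂) (sq₂ : b₁ ≫ j'' = j ≫ b₂)
    (hj' : IsClosedImmersion j'.left) (hj'' : IsClosedImmersion j''.left) :
    IsClosedImmersion j.left := by
  haveI := hb₁.1; haveI := hb₁.2
  haveI : Flat b₁.left := hb₁.1
  haveI := Groth.Agent.Lib.GrpQ.kernel_mono h₁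
  haveI := Groth.Agent.Lib.GrpQ.kernel_mono h₂
  haveI : LocallyOfFinitePresentation b₁.left :=
    Groth.Agent.Lib.AlgSpMor.Cancel.locallyOfFinitePresentation_of_comp (g := H₁''.hom)
      (by rw [Over.w]; infer_instance) inferInstance
  let P := Limits.pullback j'' b₂
  let π : P ⟶ H₁'' := Limits.pullback.fst j'' b₂
  let ρ : P ⟶ H₂ := Limits.pullback.snd j'' b₂
  let φ : H₁ ⟶ P := Limits.pullback.lift b₁ j sq₂
  have hφπ : φ ≫ π = b₁ := Limits.pullback.lift_fst _ _ _
  have hφρ : φ ≫ ρ = j := Limits.pullback.lift_snd _ _ _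
  have hχw : (fst H₁ H₂' ≫ b₁) ≫ j'' = ((fst H₁ H₂' ≫ j) * (snd H₁ H₂' ≫ a₂)) ≫ b₂ := by
    rw [MonObj.mul_comp, Category.assoc, Category.assoc, Category.assoc, Groth.Agent.Lib.GrpQ.kernel_comp h₂,
      MonObj.comp_one, _root_.mul_one, sq₂]
  let χ : H₁ ⊗ H₂' ⟶ P := Limits.pullback.lift (fst H₁ H₂' ≫ b₁) ((fst H₁ H₂' ≫ j) * (snd H₁ H₂' ≫ a₂)) hχw
  have hχπ : χ ≫ π = fst H₁ H₂' ≫ b₁ := Limits.pullback.lift_fst _ _ _
  have hχρ : χ ≫ ρ = (fst H₁ H₂' ≫ j) * (snd H₁ H₂' ≫ a₂) := Limits.pullback.lift_snd _ _ _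
  -- `χ` is a base change of `b₁`
  have sqχ : IsPullback (fst H₁ H₂') χ b₁ π := by
    have hrel : ∀ c : Limits.PullbackCone b₁ π, ((c.fst ≫ j)⁻¹ * (c.snd ≫ ρ)) ≫ b₂ = 1 := fun c => by
      have h : π ≫ j'' = ρ ≫ b₂ := Limits.pullback.condition
      rw [MonObj.mul_comp, GrpObj.inv_comp, Category.assoc, Category.assoc, ← sq₂, ← h,
        reassoc_of% c.condition, inv_mul_cancel]
    refine ⟨⟨hχπ.symm⟩, ⟨Limits.PullbackCone.IsLimit.mk _ (fun c => lift c.fst
      ((Groth.Agent.Lib.GrpQ.mem_kernel h₂ _).2 (hrel c)).choose) (fun c => lift_fst _ _) (fun c => ?_)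
      (fun c l h1 h2 => ?_)⟩⟩
    · apply Limits.pullback.hom_ext
      · rw [Category.assoc, hχπ, lift_fst_assoc, c.condition]
      · rw [Category.assoc, hχρ, MonObj.comp_mul, lift_fst_assoc, lift_snd_assoc,
          ((Groth.Agent.Lib.GrpQ.mem_kernel h₂ _).2 (hrel c)).choose_spec, mul_inv_cancel_left]
    · apply CartesianMonoidalCategory.hom_ext
      · rw [lift_fst]; exact h1
      · rw [lift_snd, ← cancel_mono a₂, ((Groth.Agent.Lib.GrpQ.mem_kernel h₂ _).2 (hrel c)).choose_spec, ← h2,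
          Category.assoc l χ ρ, hχρ, MonObj.comp_mul, reassoc_of% h1, inv_mul_cancel_left, Category.assoc]
  -- the base change of `φ` along `χ`
  have sq : IsPullback (H₁ ◁ j') (fst H₁ H₁' * (snd H₁ H₁' ≫ a₁)) χ φ := by
    have hw : (H₁ ◁ j') ≫ χ = (fst H₁ H₁' * (snd H₁ H₁' ≫ a₁)) ≫ φ := by
      apply Limits.pullback.hom_ext
      · rw [Category.assoc, Category.assoc, hχπ, hφπ, whiskerLeft_fst_assoc, MonObj.mul_comp, Category.assoc,
          Groth.Agent.Lib.GrpQ.kernel_comp h₁, MonObj.comp_one, _root_.mul_one]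
      · rw [Category.assoc, Category.assoc, hχρ, hφρ, MonObj.comp_mul, whiskerLeft_fst_assoc, whiskerLeft_snd_assoc,
          MonObj.mul_comp, Category.assoc, ← sq₁]
    have hrel : ∀ c : Limits.PullbackCone χ φ, ((c.fst ≫ fst H₁ H₂')⁻¹ * c.snd) ≫ b₁ = 1 := fun c => by
      have h := congrArg (· ≫ π) c.condition
      simp only [Category.assoc, hχπ, hφπ] at h
      rw [MonObj.mul_comp, GrpObj.inv_comp, Category.assoc, h, inv_mul_cancel]
    refine ⟨⟨hw⟩, ⟨Limits.PullbackCone.IsLimit.mk _ (fun c => lift (c.fst ≫ fst H₁ H₂')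
      ((Groth.Agent.Lib.GrpQ.mem_kernel h₁ _).2 (hrel c)).choose) (fun c => ?_) (fun c => ?_) (fun c l h1 h2 => ?_)⟩⟩
    · apply CartesianMonoidalCategory.hom_ext
      · rw [Category.assoc, whiskerLeft_fst, lift_fst]
      · have h := congrArg (· ≫ ρ) c.condition
        simp only [Category.assoc, hχρ, hφρ, MonObj.comp_mul] at h
        rw [Category.assoc, whiskerLeft_snd, lift_snd_assoc, ← cancel_mono a₂, Category.assoc, Category.assoc, ← sq₁,
          ← Category.assoc, ((Groth.Agent.Lib.GrpQ.mem_kernel h₁ _).2 (hrel c)).choose_spec, MonObj.mul_comp,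
          GrpObj.inv_comp, ← h, Category.assoc, inv_mul_cancel_left]
    · rw [MonObj.comp_mul, lift_fst, lift_snd_assoc,
        ((Groth.Agent.Lib.GrpQ.mem_kernel h₁ _).2 (hrel c)).choose_spec, mul_inv_cancel_left]
    · have hfst : l ≫ fst H₁ H₁' = c.fst ≫ fst H₁ H₂' := by
        rw [← h1, Category.assoc, whiskerLeft_fst]
      apply CartesianMonoidalCategory.hom_ext
      · rw [lift_fst, hfst]
      · rw [lift_snd, ← cancel_mono a₁, ((Groth.Agent.Lib.GrpQ.mem_kernel h₁ _).2 (hrel c)).choose_spec, ← h2,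
          MonObj.comp_mul, hfst, inv_mul_cancel_left, Category.assoc]
  have sqχ' := sqχ.map (Over.forget S)
  have hc : (@Surjective ⊓ @Flat ⊓ @LocallyOfFinitePresentation : MorphismProperty Scheme.{u}) χ.left :=
    ⟨⟨MorphismProperty.of_isPullback (P := @Surjective) sqχ' ‹Surjective b₁.left›,
      MorphismProperty.of_isPullback (P := @Flat) sqχ' ‹Flat b₁.left›⟩,
      MorphismProperty.of_isPullback (P := @LocallyOfFinitePresentation) sqχ' ‹_›⟩
  haveI := Groth.Agent.Lib.DescAlg.Descends.descends_isClosedImmersion.{u}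
  haveI : MorphismProperty.DescendsAlong (@IsClosedImmersion : MorphismProperty Scheme.{u})
      (@Surjective ⊓ @Flat ⊓ @LocallyOfFinitePresentation : MorphismProperty Scheme.{u}) := inferInstance
  have hψ : IsClosedImmersion (H₁ ◁ j').left :=
    Groth.Agent.Lib.GrpSch.whiskerLeft_left_of (P := @IsClosedImmersion) H₁ j' hj'
  haveI : IsClosedImmersion φ.left :=
    MorphismProperty.DescendsAlong.of_isPullback (P := @IsClosedImmersion)
      (Q := @Surjective ⊓ @Flat ⊓ @LocallyOfFinitePresentation) (sq.map (Over.forget S)) hc hψ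
  haveI : IsClosedImmersion ρ.left :=
    MorphismProperty.of_isPullback (P := @IsClosedImmersion)
      ((IsPullback.of_hasPullback j'' b₂).map (Over.forget S)) hj''
  rw [← hφρ, Over.comp_left]
  infer_instance

end Groth.Agent.S16647
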