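import Groth.Statements.S1665
import Groth.Agent.Lib.SemiLocalDimOne.Glue
-- import your own Groth.Agent.* helpers here

set_option autoImplicit false
universe u
open Variety

namespace Groth.Agent.S1665

/-- Let B be a Noetherian domain of dimension one with finitely many maximal ideals and B' its integral
closure in its fraction field. Then B' is a Dedekind domain with finitely many maximal ideals, and
for every nonzero x in the Jacobson radical of B' and every y ∈ B' some power x^n satisfies x^n y ∈
B. -/
theorem result (B : Type u) [CommRing B] [IsDomain B] [IsNoetherianRing B]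
    (hdim : ringKrullDim B = 1) (hsl : Finite (MaximalSpectrum B)) :
    IsDedekindDomain (integralClosure B (FractionRing B)) ∧ Finite (MaximalSpectrum (integralClosure B (FractionRing B))) ∧
      ∀ x : integralClosure B (FractionRing B), x ≠ 0 → x ∈ (⊥ : Ideal (integralClosure B (FractionRing B))).jacobson →
        ∀ y : integralClosure B (FractionRing B), ∃ n : ℕ, (x ^ n * y).1 ∈ (algebraMap B (FractionRing B)).range := by
  haveI : Ring.KrullDimLE 1 B := Ring.krullDimLE_iff.2 hdim.le
  haveI := hsl
  haveI hD : IsDedekindDomain (integralClosure B (FractionRing B)) :=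
    Groth.Agent.Lib.SemiLocalDimOne.KrullAkizuki.isDedekindDomain_integralClosure
  refine ⟨hD, Groth.Agent.Lib.SemiLocalDimOne.KrullAkizuki.finite_maximalSpectrum_subalgebra _,
    fun x _ hx y => ?_⟩
  exact Groth.Agent.Lib.SemiLocalDimOne.Glue.exists_pow_mul_mem x
    (fun Q hQ hQ0 => Submodule.mem_sInf.1 hx Q ⟨bot_le, hQ.isMaximal hQ0⟩) y

end Groth.Agent.S1665
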