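import Groth.Statements.S16650
import Groth.Agent.H1.Classical.ParabolicNormalizer
import Groth.Agent.Lib.SmWeil.MonoApps
import Groth.Agent.Lib.SmWeil.CartanAux
-- import your own Groth.Agent.* helpers here

set_option autoImplicit false
open CategoryTheory MonoidalCategory CartesianMonoidalCategory MonObj GrpObj AlgebraicGeometry
universe u
open RedSub

namespace Groth.Agent.S16650

open Groth.Agent.Lib.RedPts.BC Groth.Agent.H1.Classical in
/-- A parabolic subgroup of a reductive group scheme is its own transporter. -/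
theorem exists_factor_of_conj {S : Scheme.{u}} {G P : Over S} [GrpObj G] [GrpObj P]
    (hG : Red.IsReductive G) (p : P ⟶ G) (hP : Red.IsParabolic p) {X : Over S} (g : X ⟶ G)
    (hg : ∀ (X' : Over S) (x : X' ⟶ X) (h : X' ⟶ P),
      ∃ h' : X' ⟶ P, (x ≫ g) * (h ≫ p) * (x ≫ g)⁻¹ = h' ≫ p) :
    ∃ z : X ⟶ P, z ≫ p = g := by
  obtain ⟨hGa, hGs, hGf⟩ := hG
  obtain ⟨hm, hc, hs, hgeom⟩ := hP
  haveI := hGa
  haveI := hGs
  haveI := hm
  haveI := hc
  haveI := hs
  haveI : Mono p := Over.mono_of_mono_left p
  haveI : IsAffineHom P.hom := by rw [← Over.w p]; infer_instance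
  haveI : QuasiSeparated P.hom := inferInstance
  haveI := Groth.Agent.Lib.SmWeil.lfp_left (G := G) p
  have hfib : ∀ s : S, ConnectedSpace (Red.geomFibre s P).left ∧
      ∀ {Y : Over (Spec (CommRingCat.of (AlgebraicClosure (S.residueField s))))} (y : Y ⟶ Red.geomFibre s G),
        ParabolicNormalizer.Fwd ((Over.pullback (Red.geomPt s)).map p) y →
          ∃ w, w ≫ (Over.pullback (Red.geomPt s)).map p = y := fun s => by
    obtain ⟨h1, h2, h3, -⟩ := hGf s
    haveI := h1
    haveI := h2
    haveI := h3
    exact ParabolicNormalizer.props_closed (hgeom s)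
  haveI : GeometricallyConnected P.hom := Groth.Agent.Lib.SmWeil.geometricallyConnected_grp P fun s => by
    let r : Spec (CommRingCat.of (AlgebraicClosure (S.residueField s))) ⟶ Spec (S.residueField s) :=
      Spec.map (CommRingCat.ofHom (algebraMap (S.residueField s) (AlgebraicClosure (S.residueField s))))
    haveI : Surjective r := ⟨fun x => ⟨IsLocalRing.closedPoint _, Subsingleton.elim (α := PrimeSpectrum _) _ _⟩⟩
    haveI : ConnectedSpace ↥(Limits.pullback P.hom (r ≫ S.fromSpecResidueField s)) := (hfib s).1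
    let m := (Limits.pullbackLeftPullbackSndIso P.hom (S.fromSpecResidueField s) r).inv ≫
      Limits.pullback.fst (Limits.pullback.snd P.hom (S.fromSpecResidueField s)) r
    exact Function.Surjective.connectedSpace m.surjective m.continuous
  obtain ⟨C, c, hcl, -, hC⟩ := Groth.Agent.Lib.SmWeil.exists_transporter_mono (G := G) p p
  haveI := hcl
  haveI : Mono c := Over.mono_of_mono_left c
  obtain ⟨f, hf⟩ := (hC p).mpr fun T' x h =>
    ⟨x * h * x⁻¹, by simp only [MonObj.mul_comp, GrpObj.inv_comp]⟩
  haveI : Mono f := mono_of_mono_fac hf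
  haveI : LocallyOfFiniteType C.hom := by rw [← Over.w c]; infer_instance
  haveI : IsIso f := by
    refine Groth.Agent.Lib.SmWeil.CartanAux.isIso_of_geom_fibres f fun s => ?_
    let π := Over.pullback (Red.geomPt s)
    haveI : IsClosedImmersion (π.map c).left := by
      have sq := Groth.Agent.H87.Charts.isPullback_map (Red.geomPt s) c
      exact MorphismProperty.of_isPullback (P := @IsClosedImmersion) sq hcl
    haveI : Mono (π.map c) := Over.mono_of_mono_left _
    obtain ⟨w, hw⟩ := (hfib s).2 (π.map c) fun X' x h => by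
      obtain ⟨h', hh'⟩ := (hC c).mp ⟨𝟙 C, Category.id_comp c⟩ _ (down _ x) (down _ h)
      refine ⟨up _ h', down_injective ?_⟩
      simp only [down_mul, down_inv]
      rw [down_map x, down_map h, down_map (up _ h'), down_up]
      exact hh'
    haveI : Mono (π.map f) := by
      haveI : Mono (π.map f ≫ π.map c) := by
        rw [← π.map_comp, hf]
        infer_instance
      exact mono_of_mono (π.map f) (π.map c)
    refine ⟨w, ?_, ?_⟩
    · rw [← cancel_mono (π.map f), Category.assoc]
      have : w ≫ π.map f = 𝟙 _ := by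
        rw [← cancel_mono (π.map c), Category.assoc, ← π.map_comp, hf, hw, Category.id_comp]
      rw [this, Category.comp_id, Category.id_comp]
    · rw [← cancel_mono (π.map c), Category.assoc, ← π.map_comp, hf, hw, Category.id_comp]
  obtain ⟨z, hz⟩ := (hC g).mpr hg
  exact ⟨z ≫ CategoryTheory.inv f, by rw [Category.assoc, ← hf, IsIso.inv_hom_id_assoc, hz]⟩

/-- The centre of a reductive group scheme G over a scheme S is contained in every parabolic subgroup of
G. -/
theorem result {S : Scheme.{u}} {G Z P : Over S} [GrpObj G] [GrpObj Z] [GrpObj P]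
    (hG : Red.IsReductive G) (z : Z ⟶ G) (hZ : Red.IsCentre z) (p : P ⟶ G) (hP : Red.IsParabolic p) :
    ∃ f : Z ⟶ P, f ≫ p = z := by
  refine exists_factor_of_conj hG p hP z fun X' x h => ⟨h, ?_⟩
  have := (hZ.2.2 Z z).mp ⟨𝟙 Z, Category.id_comp z⟩ X' x (h ≫ p)
  rw [Category.comp_id] at this
  rw [this, mul_inv_cancel_right]

end Groth.Agent.S16650
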