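import Groth.Statements.S16652
import Groth.Agent.H82.Order.Level

set_option autoImplicit false
open CategoryTheory MonoidalCategory CartesianMonoidalCategory MonObj GrpObj AlgebraicGeometry
universe u
open RedSub

open Groth.Agent.Lib.RedPts Groth.Agent.H82 Groth.Agent.H82.Contract Groth.Agent.H82.Order.Level
open Groth.Agent.H82.RankOne (P P_eq P_zero)
open scoped commutatorElement

namespace Groth.Agent.S16652

/-- With G a reductive group scheme over a scheme S with splitting D, Ψ a closed set of roots without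
opposite pairs, λ ∈ M^∨ non-vanishing on the roots and positive on Ψ, and n ≥ 1, let U₁ ⊃ U₂ be the
closed subgroups directly spanned by the root groups U_a (a ∈ Ψ) with λ(a) ≥ n, resp. λ(a) ≥ n + 1.
Then U₂ is normal in U₁, root groups U_a, U_b with λ(a) = λ(b) = n commute modulo U₂, and
multiplication (∏_{λ(a) = n} U_a) × U₂ → U₁ (product in any order) is an isomorphism of schemes;
thus U₁/U₂ is the vector group ∏_{λ(a)=n} U_a. -/
theorem result {S : Scheme.{u}} {G : Over S} [GrpObj G]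
    (D : Red.SplitRed G) (Ψ : Set D.idx)
    (hcl : ∀ a b c : D.idx, a ∈ Ψ → b ∈ Ψ → D.P.root a + D.P.root b = D.P.root c → c ∈ Ψ)
    (hneg : ∀ a b : D.idx, a ∈ Ψ → D.P.root b = -D.P.root a → b ∉ Ψ)
    (lam : Module.Dual ℤ D.M) (hlam : ∀ a : D.idx, lam (D.P.root a) ≠ 0) (hpos : ∀ a ∈ Ψ, 0 < lam (D.P.root a))
    (n : ℕ) (hn : 1 ≤ n)
    {U₁ U₂ : Over S} [GrpObj U₁] [GrpObj U₂] (v₁ : U₁ ⟶ G) (v₂ : U₂ ⟶ G) [IsMonHom v₁] [IsMonHom v₂]
    (hv₁ : IsClosedImmersion v₁.left) (hv₂ : IsClosedImmersion v₂.left)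
    (hU₁ : ∀ {m : ℕ} (e : Fin m → D.idx), RedSub.Enumerates {a | a ∈ Ψ ∧ (n : ℤ) ≤ lam (D.P.root a)} e →
      ∃ ψ : RedSub.pow (Red.Ga S) m ≅ U₁, ψ.hom ≫ v₁ = RedSub.prodMap (Red.Ga S) m (fun k => D.u (e k)))
    (hU₂ : ∀ {m : ℕ} (e : Fin m → D.idx), RedSub.Enumerates {a | a ∈ Ψ ∧ (n : ℤ) + 1 ≤ lam (D.P.root a)} e →
      ∃ ψ : RedSub.pow (Red.Ga S) m ≅ U₂, ψ.hom ≫ v₂ = RedSub.prodMap (Red.Ga S) m (fun k => D.u (e k))) :
    (∃ f : U₂ ⟶ U₁, f ≫ v₁ = v₂ ∧ IsMonHom f ∧ AlgGrp.IsNormalHom f) ∧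
    (∀ (a b : D.idx), a ∈ Ψ → b ∈ Ψ → lam (D.P.root a) = n → lam (D.P.root b) = n →
      ∀ (X : Over S) (x y : X ⟶ Red.Ga S), ∃ w : X ⟶ U₂,
        (x ≫ D.u a) * (y ≫ D.u b) * (x ≫ D.u a)⁻¹ * (y ≫ D.u b)⁻¹ = w ≫ v₂) ∧
    ∀ {m : ℕ} (e : Fin m → D.idx), RedSub.Enumerates {a | a ∈ Ψ ∧ lam (D.P.root a) = n} e →
      ∃ ψ : RedSub.pow (Red.Ga S) m ⊗ U₂ ≅ U₁,
        ψ.hom ≫ v₁ = (fst _ _ ≫ RedSub.prodMap (Red.Ga S) m (fun k => D.u (e k))) * (snd _ _ ≫ v₂) := by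
  classical
  let l : D.M →+ ℤ := lam.toAddMonoidHom
  have hd : ∀ i ∈ Ψ, D.P.reflectionPerm i i ∉ Ψ := fun i hi =>
    hneg i _ hi (by rw [D.P.root_reflectionPerm, D.P.reflection_apply_self])
  have hc : RootD.IsClosedSub D.P Ψ := fun i j k hi hj h => hcl i j k hi hj h.symm
  have hn0 : (0 : ℤ) ≤ (n : ℤ) := Int.natCast_nonneg n
  haveI : Mono v₁.left := inferInstance
  haveI : Mono v₁ := Over.mono_of_mono_left v₁
  haveI : Mono v₂.left := inferInstance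
  haveI : Mono v₂ := Over.mono_of_mono_left v₂
  obtain ⟨m₁, e₁, he₁⟩ := Borel.exists_enum (D := D) {a | a ∈ Ψ ∧ (n : ℤ) ≤ lam (D.P.root a)}
  obtain ⟨m₂, e₂, he₂⟩ := Borel.exists_enum (D := D) {a | a ∈ Ψ ∧ (n : ℤ) + 1 ≤ lam (D.P.root a)}
  obtain ⟨ψ₁, hψ₁⟩ := hU₁ e₁ he₁
  obtain ⟨ψ₂, hψ₂⟩ := hU₂ e₂ he₂
  have M₁ := mem_iff Ψ l he₁ v₁ ψ₁ hψ₁
  have M₂ := mem_iff Ψ l he₂ v₂ ψ₂ hψ₂
  obtain ⟨f, hf⟩ := (M₁ U₂ v₂).1 (V_anti Ψ l U₂ (by omega) ((M₂ U₂ v₂).2 ⟨𝟙 _, Category.id_comp _⟩))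
  have hfh : IsMonHom f := Weyl.isMonHom_of_points f fun X a b => (cancel_mono v₁).1 (by
    rw [MonObj.mul_comp (a ≫ f) (b ≫ f) v₁, Category.assoc, Category.assoc, Category.assoc, hf,
      MonObj.mul_comp a b v₂])
  haveI := hfh
  refine ⟨⟨f, hf, hfh, ?_⟩, fun a b ha hb hla hlb X x y => ?_, fun {m} e he => ?_⟩
  · intro X g x
    obtain ⟨w, hw⟩ := (M₂ X _).1 (conj_both Ψ l hd hc hlam hpos ((M₁ X _).2 ⟨g, rfl⟩) _
      ((M₂ X _).2 ⟨x, rfl⟩)).1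
    refine ⟨w, (cancel_mono v₁).1 ?_⟩
    let ev : (X ⟶ U₁) →* (X ⟶ G) := MonoidHom.mk' (· ≫ v₁) fun a b => MonObj.mul_comp a b v₁
    show ev (g * (x ≫ f) * g⁻¹) = (w ≫ f) ≫ v₁
    rw [map_mul, map_mul, map_inv]
    show (g ≫ v₁) * ((x ≫ f) ≫ v₁) * (g ≫ v₁)⁻¹ = (w ≫ f) ≫ v₁
    rw [Category.assoc, Category.assoc, hf, hw]
  · rw [P_eq, P_eq]
    obtain ⟨w, hw⟩ := (M₂ X _).1 (comm_root Ψ l hd hc hlam hpos hb ha (n := (n : ℤ) + 1)
      (show (n : ℤ) + 1 ≤ lam (D.P.root b) + lam (D.P.root a) by omega) (Red.gaFn y) (Red.gaFn x))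
    exact ⟨w, by rw [hw, commutatorElement_def]⟩
  · have hek : ∀ i, e i ∈ Ψ ∧ lam (D.P.root (e i)) = n := fun i => Set.ext_iff.1 he.2 _ |>.1 (Set.mem_range_self i)
    let p : RedSub.pow (Red.Ga S) m ⊗ U₂ ⟶ G :=
      (fst _ _ ≫ RedSub.prodMap (Red.Ga S) m (fun k => D.u (e k))) * (snd _ _ ≫ v₂)
    have hp : ∀ (X : Over S) (z : X ⟶ RedSub.pow (Red.Ga S) m ⊗ U₂), z ≫ p =
        prodPts m (fun k => P (D.u (e k)) (Red.gaFn (z ≫ fst _ _ ≫ proj m k))) * ((z ≫ snd _ _) ≫ v₂) := fun X z => by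
      rw [MonObj.comp_mul, ← Category.assoc, ← Category.assoc z (snd _ _), comp_prodMap]
      refine congrArg (· * _) (congrArg _ (funext fun k => ?_))
      rw [← Category.assoc, P_eq, Category.assoc]
    have hpm : ∀ (X : Over S) (z : X ⟶ RedSub.pow (Red.Ga S) m ⊗ U₂), z ≫ p ∈ V Ψ l X n := fun X z => by
      rw [hp]
      exact mul_mem (Order.prodPts_mem _ fun i => mem_V Ψ l (hek i).1 (hek i).2.ge _)
        (V_anti Ψ l X (by omega) ((M₂ X _).2 ⟨_, rfl⟩))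
    obtain ⟨q, hq⟩ := (M₁ _ p).1 (by simpa using hpm _ (𝟙 _))
    -- injectivity on points
    let d : Fin (m + m₂) → D.idx := Fin.append e e₂
    have he₂k : ∀ i, e₂ i ∈ Ψ ∧ (n : ℤ) + 1 ≤ lam (D.P.root (e₂ i)) := fun i =>
      Set.ext_iff.1 he₂.2 _ |>.1 (Set.mem_range_self i)
    have hdinj : Function.Injective d := Fin.append_injective_iff.2 ⟨he.1, he₂.1, fun i j h => by
      have h1 := (hek i).2
      have h2 := (he₂k j).2
      rw [h] at h1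
      omega⟩
    have hdneg : ∀ k, (-l) (D.P.root (d k)) < 0 := fun k => by
      refine Fin.addCases (fun i => ?_) (fun i => ?_) k
      · simp only [d, Fin.append_left]
        exact neg_neg_of_pos (hpos _ (hek i).1)
      · simp only [d, Fin.append_right]
        exact neg_neg_of_pos (hpos _ (he₂k i).1)
    have inj : ∀ (X : Over S) (z z' : X ⟶ RedSub.pow (Red.Ga S) m ⊗ U₂), z ≫ p = z' ≫ p → z = z' := fun X z z' h => by
      have hc2 : ∀ z : X ⟶ RedSub.pow (Red.Ga S) m ⊗ U₂, z ≫ p = prodPts (m + m₂) (fun k => P (D.u (d k))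
          (Fin.append (fun i => Red.gaFn (z ≫ fst _ _ ≫ proj m i))
            (fun i => Red.gaFn (((z ≫ snd _ _) ≫ ψ₂.inv) ≫ proj m₂ i)) k)) := fun z => by
        rw [hp, show (fun k => P (D.u (d k)) (Fin.append (fun i => Red.gaFn (z ≫ fst _ _ ≫ proj m i))
            (fun i => Red.gaFn (((z ≫ snd _ _) ≫ ψ₂.inv) ≫ proj m₂ i)) k)) =
          Fin.append (fun i => P (D.u (e i)) (Red.gaFn (z ≫ fst _ _ ≫ proj m i)))
            (fun i => P (D.u (e₂ i)) (Red.gaFn (((z ≫ snd _ _) ≫ ψ₂.inv) ≫ proj m₂ i))) from funext fun k => by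
          refine Fin.addCases (fun i => ?_) (fun i => ?_) k <;> simp [d],
          Weyl.prodPts_append]
        refine congrArg (_ * ·) ?_
        conv_lhs => rw [← Category.comp_id (z ≫ snd _ _), ← ψ₂.inv_hom_id]
        rw [Category.assoc, Category.assoc ψ₂.inv, hψ₂, ← Category.assoc, comp_prodMap]
        exact congrArg _ (funext fun k => by rw [← Category.assoc, P_eq])
      rw [hc2, hc2] at h
      have h3 := Reduced.eq_of_prodPts (l := -l) hdinj hdneg h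
      apply CartesianMonoidalCategory.hom_ext
      · refine pow_ext fun k => Ga.gaFn_injective ?_
        simpa [Category.assoc] using congrFun h3 (Fin.castAdd m₂ k)
      · refine (cancel_mono ψ₂.inv).1 (pow_ext fun k => Ga.gaFn_injective ?_)
        simpa using congrFun h3 (Fin.natAdd m k)
    obtain ⟨x₀, h₀, hh₀, e0⟩ := exists_split Ψ l hd hc hlam hpos hn0 he ((M₁ U₁ v₁).2 ⟨𝟙 _, Category.id_comp _⟩)
    obtain ⟨w₀, rfl⟩ := (M₂ U₁ h₀).1 hh₀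
    let r : U₁ ⟶ RedSub.pow (Red.Ga S) m ⊗ U₂ := lift (tuple m fun k => Ga.gaPt (x₀ k)) w₀
    have hr : r ≫ p = v₁ := by
      rw [hp, e0]
      refine congrArg₂ (· * ·) (congrArg _ (funext fun k => ?_)) (by rw [lift_snd])
      rw [← Category.assoc, lift_fst, tuple_proj, Ga.gaFn_gaPt]
    refine ⟨⟨q, r, inj _ _ _ ?_, (cancel_mono v₁).1 ?_⟩, hq⟩
    · rw [Category.assoc, hr, hq, Category.id_comp]
    · rw [Category.assoc, hq, hr, Category.id_comp]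

end Groth.Agent.S16652
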