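import Groth.Statements.S16663
import Groth.Agent.Lib.Conn99.Basic
-- import your own Groth.Agent.* helpers here

set_option autoImplicit false
universe v u
open TensorProduct
open Conn

namespace Groth.Agent.S16663

open Groth.Agent.Lib.Conn99.Basic

/-- Let B be an A-algebra with a receptacle of differentials (Ω, δ), Ω a finite free B-module (the local
form of a weakly smooth scheme), and let M be a finitely ℤ-graded B-module presented as a finite
family of finite free B-modules M_i with integer degrees deg i (the local form of a graded vector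
bundle), with total module Π_i M_i. Let ∇ be a connection on Π_i M_i preserving the grading, in the
sense that (pr_j ⊗ 1)(∇(ι_i m)) = 0 for m ∈ M_i whenever deg i ≠ deg j, and let ∇_E be the induced
connection on the B-linear endomorphisms, the one with (ev_m ⊗ 1)(∇_E φ) = ∇(φ m) − (φ ⊗ 1)(∇ m).
Give B the connection b ↦ 1 ⊗ δ b. Then the supertrace, φ ↦ tr(ε ∘ φ) with ε = Σ_i (−1)^{deg i} ι_i
∘ pr_i the grading involution, is a horizontal map End_B(Π_i M_i) → B. -/
theorem result {A : Type v} {B Ω ι : Type u}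
    [CommRing A] [CommRing B] [Algebra A B]
    [AddCommGroup Ω] [Module B Ω] [Module A Ω] [IsScalarTower A B Ω] [Module.Finite B Ω] [Module.Free B Ω]
    [Fintype ι] [DecidableEq ι] (deg : ι → ℤ) (M : ι → Type u)
    [∀ i, AddCommGroup (M i)] [∀ i, Module B (M i)] [∀ i, Module A (M i)] [∀ i, IsScalarTower A B (M i)]
    [∀ i, Module.Free B (M i)] [∀ i, Module.Finite B (M i)]
    (δ : Derivation A B Ω) (nabla : (Π k, M k) →ₗ[A] (Π k, M k) ⊗[B] Ω) (hc : Conn.IsConn δ nabla)
    (hgr : ∀ i j : ι, deg i ≠ deg j → ∀ m : M i,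
      TensorProduct.map (LinearMap.proj j : (Π k, M k) →ₗ[B] M j) LinearMap.id (nabla (LinearMap.single B M i m)) = 0)
    (nablaE : ((Π k, M k) →ₗ[B] (Π k, M k)) →ₗ[A] ((Π k, M k) →ₗ[B] (Π k, M k)) ⊗[B] Ω)
    (hE : Conn.IsHomConn nabla nabla nablaE) :
    Conn.IsHorizontal nablaE (Conn.triv δ)
      (LinearMap.trace B (Π k, M k) ∘ₗ LinearMap.llcomp B (Π k, M k) (Π k, M k) (Π k, M k)
        (∑ i : ι, (LinearMap.single B M i) ∘ₗ (((-1 : B) ^ (deg i).natAbs) • (LinearMap.proj i : (Π k, M k) →ₗ[B] M i)))) := by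
  intro φ
  refine eq_of_ct fun θ => ?_
  rw [ct_map, Conn.triv_apply, ct_tmul, smul_eq_mul, mul_one, ← along_eq]
  let ε : (Π k, M k) →ₗ[B] (Π k, M k) :=
    ∑ i : ι, (LinearMap.single B M i) ∘ₗ (((-1 : B) ^ (deg i).natAbs) • (LinearMap.proj i : (Π k, M k) →ₗ[B] M i))
  have hε : ∀ (x : Π k, M k) (j : ι), ε x j = ((-1 : B) ^ (deg j).natAbs) • x j := fun x j => by
    simp only [ε, LinearMap.sum_apply, Finset.sum_apply, LinearMap.comp_apply, LinearMap.smul_apply, LinearMap.proj_apply]
    rw [Finset.sum_eq_single j (fun i _ hi => by simp [hi.symm]) (by simp)]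
    simp
  let D := Conn.along nabla θ
  have hsign : ∀ m : ℕ, δ ((-1 : B) ^ m) = 0 := fun m => by
    rcases neg_one_pow_eq_or B m with h | h <;> simp [h]
  have hcomm : ∀ x, D (ε x) = ε (D x) := by
    intro x
    have hx : ∑ i, LinearMap.single B M i (x i) = x := by
      funext j
      rw [Finset.sum_apply, Finset.sum_eq_single j (fun i _ hi => by simp [hi.symm]) (by simp)]
      simp
    have hx' : ε x = ∑ i, ((-1 : B) ^ (deg i).natAbs) • LinearMap.single B M i (x i) := by
      simp only [ε, LinearMap.sum_apply, LinearMap.comp_apply, LinearMap.smul_apply, LinearMap.proj_apply, map_smul]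
    funext j
    rw [hε, hx']
    conv_rhs => rw [← hx]
    simp only [map_sum, Finset.sum_apply, Finset.smul_sum]
    refine Finset.sum_congr rfl fun i _ => ?_
    show Conn.along nabla θ _ j = _ • Conn.along nabla θ _ j
    rw [along_smul hc, hsign, map_zero, zero_smul, add_zero, Pi.smul_apply]
    by_cases h : deg i = deg j
    · rw [h]
    · have hz := congrArg (ct θ) (hgr i j h (x i))
      rw [ct_map, map_zero, ← along_eq, LinearMap.proj_apply] at hz
      rw [hz, smul_zero, smul_zero]
  rw [LinearMap.comp_apply, LinearMap.comp_apply]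
  exact (trace_along hc θ _ (LinearMap.llcomp B _ _ _ ε φ) fun m => by
    simp only [LinearMap.llcomp_apply]
    rw [along_hom hE, map_sub]
    exact congrArg₂ (· - ·) (hcomm (φ m)).symm rfl).symm

end Groth.Agent.S16663
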