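import Groth.Statements.S16667
import Groth.Agent.H18.SerreCrit
import Groth.Agent.H18.AB

set_option autoImplicit false
universe u
open CAlg

namespace Groth.Agent.S16667

/-- Let A be a Noetherian integral domain satisfying Serre's condition (S_2), with fraction field K. An
element of K which lies in the localization A_p for every prime p of A with depth(A_p) = 1 lies in
A. -/
theorem result {A : Type u} [CommRing A] [IsDomain A]
    [IsNoetherianRing A] (hS2 : LocCoh.HasSk 2 A A) (x : FractionRing A)
    (hx : ∀ (p : Ideal A) [p.IsPrime],
      LocCoh.depth (Localization.AtPrime p) (Localization.AtPrime p) = 1 →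
        x ∈ Set.range (algebraMap (Localization.AtPrime p) (FractionRing A))) :
    x ∈ Set.range (algebraMap A (FractionRing A)) := by
  classical
  obtain ⟨b, a, ha, rfl⟩ := IsFractionRing.div_surjective A x
  have ha0 : a ≠ 0 := nonZeroDivisors.ne_zero ha
  have ha' : algebraMap A (FractionRing A) a ≠ 0 := IsFractionRing.to_map_eq_zero_iff.not.mpr ha0
  obtain ⟨c, hc⟩ := Groth.Agent.H18.SerreCrit.dvd_of_forall_height_le_one hS2
    (fun y z h => mul_left_cancel₀ ha0 h) b fun P _ hP => by
    let B := Localization.AtPrime P
    by_cases hd : LocCoh.depth B B = 0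
    · by_cases hu : IsUnit (algebraMap A B a)
      · exact hu.dvd
      exfalso
      have hm : algebraMap A B a ∈ IsLocalRing.maximalIdeal B := hu
      have hreg : IsSMulRegular B (algebraMap A B a) := fun y z h => mul_left_cancel₀
        (fun h0 => ha0 (IsLocalization.injective B P.primeCompl_le_nonZeroDivisors (by rw [h0, map_zero]))) h
      have := Groth.Agent.H18.AB.one_le_depth_of_regular hm hreg
      rw [hd] at this
      simp at this
    · have h1 : LocCoh.depth B B = 1 := by
        refine le_antisymm ?_ (Order.one_le_iff_ne_zero.mpr hd)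
        exact WithBot.coe_le_coe.mp ((Groth.Agent.Lib.Depth.Assoc.depth_le_ringKrullDim B).trans hP)
      obtain ⟨y, hy⟩ := hx P h1
      refine ⟨y, IsFractionRing.injective B (FractionRing A) ?_⟩
      rw [map_mul, hy, ← IsScalarTower.algebraMap_apply, ← IsScalarTower.algebraMap_apply,
        mul_div_cancel₀ _ ha']
  exact ⟨c, by rw [hc, map_mul, mul_div_cancel_left₀ _ ha']⟩

end Groth.Agent.S16667
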