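import Groth.Statements.S16671
import Groth.Agent.Lib.TwistEmbed27.Main

set_option autoImplicit false
universe u
open CategoryTheory CategoryTheory.Limits AlgebraicGeometry
open Coh

namespace Groth.Agent.S16671

/-- Let k be a field, X an integral scheme locally of finite type over k carrying an ample invertible
module L, and E a coherent O_X-module all of whose stalks are reflexive. Then there are natural
numbers q, q', integers r, r' ≥ 1 and a coherent O_X-module E' with a short exact sequence 0 → E →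
(L^q)^r → E' → 0 (tensor powers of L, direct sums of copies) and a monomorphism E' → (L^q')^r'; and
E' is finite locally free whenever E is. (In the published statement X is an integral locally closed
subscheme of P^N_k, the sums are restrictions of O(m)^r with m any integer, and E is reflexive
coherent.) -/
theorem result (k : Type u) [Field k] (X : Scheme.{u})
    (f : X ⟶ Spec (CommRingCat.of k)) [LocallyOfFiniteType f] [IsIntegral X]
    (L : X.Modules) (hL : CohB1.IsAmple L) (E : X.Modules) (hE : Coh.IsCoh E)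
    (hEr : ∀ x : X, Module.IsReflexive (X.presheaf.stalk x) (E.presheaf.stalk x)) :
    ∃ (q r q' r' : ℕ) (E' : X.Modules) (ι : E ⟶ ∐ fun _ : Fin r => CohB1.tensorPow L q)
      (π : (∐ fun _ : Fin r => CohB1.tensorPow L q) ⟶ E') (w : ι ≫ π = 0)
      (ι' : E' ⟶ ∐ fun _ : Fin r' => CohB1.tensorPow L q'),
      1 ≤ r ∧ 1 ≤ r' ∧ (ShortComplex.mk ι π w).ShortExact ∧ Mono ι' ∧ Coh.IsCoh E' ∧
        (FlatMod.IsFinLocFree E → FlatMod.IsFinLocFree E') := by
  haveI : HasFiniteBiproducts X.Modules := HasFiniteBiproducts.of_hasFiniteCoproducts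
  haveI : IsLocallyNoetherian X := LocallyOfFiniteType.isLocallyNoetherian f
  obtain ⟨q, r, Φ, hr, hΦ⟩ := Groth.Agent.Lib.TwistEmbed27.Main.exists_map hL E hE
  have hcohF : Coh.IsCoh (∐ fun _ : Fin r => CohB1.tensorPow L q : X.Modules) :=
    Groth.Agent.Lib.CohBasics.Closure.isCoh_of_iso (biproduct.isoCoproduct _)
      (Groth.Agent.Lib.CohDelta.IdealMul.DevExt.isCoh_biproduct _ fun _ =>
        Groth.Agent.Lib.Ample.GG.isCoh_of_isInvertible
          (Groth.Agent.Lib.TensorMod.Invertible.isInvertible_tensorPow hL.1 q))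
  haveI := hE.1
  have hE' : Coh.IsCoh (cokernel Φ) :=
    Groth.Agent.Lib.CohBasics.Closure.isCoh_cokernel Φ hE.1 hcohF
  obtain ⟨q', r', ι', hr', hι'⟩ := Groth.Agent.Lib.TwistEmbed27.Main.exists_map hL (cokernel Φ) hE'
  haveI hmono : Mono Φ := (Groth.Agent.Lib.Modules.StalkModule.mono_iff_stalkMapₗ_injective Φ).2
    fun x => by
      obtain ⟨π, hspan, -, -, -⟩ := hΦ x
      haveI := hEr x
      refine Groth.Agent.Lib.TwistEmbed27.Main.injective_of_separated _ π hspan fun e he => ?_
      exact (Module.bijective_dual_eval (X.presheaf.stalk x) (E.presheaf.stalk x)).1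
        ((LinearMap.ext he).trans (map_zero _).symm)
  have hseq : (ShortComplex.mk Φ (cokernel.π Φ) (cokernel.condition Φ)).ShortExact :=
    { exact := ShortComplex.exact_cokernel Φ
      mono_f := hmono
      epi_g := coequalizer.π_epi }
  have hq : ∀ x : X, Function.Surjective
      (Groth.Agent.Lib.Modules.StalkModule.stalkMapₗ (cokernel.π Φ) x) :=
    (Groth.Agent.Lib.Modules.StalkModule.epi_iff_stalkMapₗ_surjective _).1 coequalizer.π_epi
  have hq0 : ∀ (x : X) e, Groth.Agent.Lib.Modules.StalkModule.stalkMapₗ (cokernel.π Φ) x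
      (Groth.Agent.Lib.Modules.StalkModule.stalkMapₗ Φ x e) = 0 := fun x e => by
    rw [← LinearMap.comp_apply, ← Groth.Agent.Lib.Modules.StalkModule.stalkMapₗ_comp,
      cokernel.condition, Groth.Agent.Lib.Modules.StalkModule.stalkMapₗ_zero, LinearMap.zero_apply]
  have hex : ∀ (x : X) v, Groth.Agent.Lib.Modules.StalkModule.stalkMapₗ (cokernel.π Φ) x v = 0 →
      ∃ e, Groth.Agent.Lib.Modules.StalkModule.stalkMapₗ Φ x e = v := fun x v hv =>
    (ShortComplex.ab_exact_iff _).1
      ((Groth.Agent.Lib.Modules.Stalk.exact_iff_stalk _).1 hseq.exact x) v hv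
  refine ⟨q, r, q', r', cokernel Φ, Φ, cokernel.π Φ, cokernel.condition Φ, ι', hr, hr', hseq,
    ?_, hE', fun hlf => ?_⟩
  · refine (Groth.Agent.Lib.Modules.StalkModule.mono_iff_stalkMapₗ_injective ι').2 fun x => ?_
    obtain ⟨π, hspan, hsep, -, -⟩ := hΦ x
    obtain ⟨π', hspan', -, -, -⟩ := hι' x
    haveI := hEr x
    exact Groth.Agent.Lib.TwistEmbed27.Main.injective_of_separated _ π' hspan' fun c hc =>
      Groth.Agent.Lib.TwistEmbed27.Main.eq_zero_of_dual _ π hspan hsep _ (hq x) (hq0 x) (hex x) c hc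
  · refine Groth.Agent.Lib.RefHull.LocFree.isFinLocFree hE' fun x => ?_
    obtain ⟨π, hspan, -, hfree, hfin⟩ := hΦ x
    haveI := Groth.Agent.Lib.RefHull.LocFree.free_stalk hlf x
    haveI := Groth.Agent.Lib.RefHull.LocFree.finite_stalk hE x
    exact Groth.Agent.Lib.TwistEmbed27.Main.free_of_free _ π hspan _ (hq x) (hq0 x) (hex x)

end Groth.Agent.S16671
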