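import Groth.Statements.S16673
import Mathlib.AlgebraicGeometry.AlgClosed.Basic
import Mathlib.AlgebraicGeometry.Morphisms.Finite
-- import your own Groth.Agent.* helpers here

set_option autoImplicit false
universe u
open CategoryTheory CategoryTheory.Limits MonoidalCategory CartesianMonoidalCategory MonObj GrpObj AlgebraicGeometry
open AbVar

namespace Groth.Agent.S16673

theorem rank_eq_of_isogeny {G G' : Type u} [CommGroup G] [CommGroup G'] (φ : G →* G')
    (hsurj : Function.Surjective φ) [hfin : Finite φ.ker] (p : ℕ) [hp : Fact p.Prime] (i j : ℕ)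
    (hi : ∀ m : ℕ, Nonempty ((powMonoidHom (p ^ m) : G →* G).ker ≃* Multiplicative (Fin i → ZMod (p ^ m))))
    (hj : ∀ m : ℕ, Nonempty ((powMonoidHom (p ^ m) : G' →* G').ker ≃* Multiplicative (Fin j → ZMod (p ^ m)))) :
    i = j := by
  have hcard : ∀ {H : Type u} [Group H] (n m : ℕ), Nonempty (H ≃* Multiplicative (Fin n → ZMod (p ^ m))) →
      Nat.card H = p ^ (m * n) := by
    intro H _ n m ⟨e⟩
    rw [Nat.card_congr (e.toEquiv.trans Multiplicative.toAdd)]
    simp [← pow_mul]
  have hposC : 0 < Nat.card φ.ker := Nat.card_pos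
  obtain ⟨c, u, hu, hCu⟩ := Nat.exists_eq_pow_mul_and_not_dvd hposC.ne' p hp.out.ne_one
  refine le_antisymm ?_ ?_
  · by_contra hij
    -- restriction to the torsion has kernel of order at most `C`
    set m := Nat.card φ.ker with hm
    let ψ : (powMonoidHom (p ^ m) : G →* G).ker →* (powMonoidHom (p ^ m) : G' →* G').ker :=
      (φ.comp (Subgroup.subtype _)).codRestrict _ fun x => by
        have hx : (x : G) ^ (p ^ m) = 1 := x.2
        show (φ x) ^ (p ^ m) = 1
        rw [← map_pow, hx, map_one]
    have h1 : Nat.card ψ.ker ≤ m := by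
      refine Nat.card_le_card_of_injective (fun x => (⟨((x.1 : _) : G), ?_⟩ : φ.ker)) ?_
      · have := congrArg Subtype.val x.2
        exact this
      · intro a b hab
        have := congrArg (fun z : φ.ker => (z : G)) hab
        exact Subtype.ext (Subtype.ext this)
    have h2 := Subgroup.card_eq_card_quotient_mul_card_subgroup ψ.ker
    rw [hcard i m (hi m), Nat.card_congr (QuotientGroup.quotientKerEquivRange ψ).toEquiv] at h2
    have h3 : Nat.card ψ.range ≤ p ^ (m * j) := by
      rw [← hcard j m (hj m)]
      haveI : Finite (powMonoidHom (p ^ m) : G' →* G').ker :=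
        Nat.finite_of_card_ne_zero (by rw [hcard j m (hj m)]; exact pow_ne_zero _ hp.out.ne_zero)
      exact Subgroup.card_le_card_group _
    have h4 : p ^ (m * i) ≤ p ^ (m * j) * m := h2 ▸ Nat.mul_le_mul h3 h1
    have h5 : m < p ^ m := Nat.lt_pow_self hp.out.one_lt
    have h6 : p ^ (m * j + m) ≤ p ^ (m * i) := Nat.pow_le_pow_right hp.out.pos (by nlinarith)
    rw [pow_add] at h6
    have : 0 < p ^ (m * j) := pow_pos hp.out.pos _
    nlinarith
  · by_contra hij
    set m := i * c + 1 with hm
    haveI : Finite (powMonoidHom (p ^ (m + c)) : G →* G).ker :=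
        Nat.finite_of_card_ne_zero (by rw [hcard i _ (hi _)]; exact pow_ne_zero _ hp.out.ne_zero)
    have hle : (powMonoidHom (p ^ m) : G' →* G').ker ≤ (powMonoidHom (p ^ (m + c)) : G →* G).ker.map φ := by
      intro y hy
      obtain ⟨x, rfl⟩ := hsurj y
      have hy' : φ x ^ p ^ m = 1 := hy
      have hxk : x ^ p ^ m ∈ φ.ker := by rw [MonoidHom.mem_ker, map_pow, hy']
      have hxC : (x ^ p ^ m) ^ Nat.card φ.ker = 1 :=
        congrArg Subtype.val (pow_card_eq_one' (x := (⟨_, hxk⟩ : φ.ker)))
      have hxu : x ^ u ∈ (powMonoidHom (p ^ (m + c)) : G →* G).ker := by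
        show (x ^ u) ^ p ^ (m + c) = 1
        rw [hCu, ← pow_mul] at hxC
        rw [← pow_mul, pow_add, show u * (p ^ m * p ^ c) = p ^ m * (p ^ c * u) by ring]
        exact hxC
      obtain ⟨v, hv⟩ := exists_pow_eq_self_of_coprime (x := φ x) (n := u)
        (Nat.Coprime.coprime_dvd_right (orderOf_dvd_of_pow_eq_one hy')
          (((hp.out.coprime_iff_not_dvd).2 hu).symm.pow_right m))
      rw [← hv, ← map_pow]
      exact pow_mem (Subgroup.mem_map_of_mem φ hxu) v
    have h1 : Nat.card (powMonoidHom (p ^ m) : G' →* G').ker ≤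
        Nat.card ((powMonoidHom (p ^ (m + c)) : G →* G).ker.map φ) := by
      haveI : Finite ((powMonoidHom (p ^ (m + c)) : G →* G).ker.map φ) := by
        rw [← SetLike.coe_sort_coe, Subgroup.coe_map]; exact Finite.Set.finite_image _ _
      exact Subgroup.card_le_of_le hle
    rw [hcard j m (hj m)] at h1
    have h2 : p ^ (m * j) ≤ p ^ ((m + c) * i) := by
      rw [← hcard i _ (hi (m + c))]
      exact h1.trans (Nat.card_le_card_of_surjective _ (MonoidHom.subgroupMap_surjective φ _))
    have h3 : m * j ≤ (m + c) * i := (Nat.pow_le_pow_iff_right hp.out.one_lt).1 h2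
    nlinarith


/-- Let k be a field of characteristic p > 0 with an algebraic closure k̄, let X and Y be abelian
varieties over k (proper, geometrically integral, commutative k-group schemes) and let h : X → Y be
a homomorphism which is finite and surjective (an isogeny). If i and j are natural numbers such that
for every m ≥ 0 the group X[p^m](k̄) of k̄-valued points of X killed by p^m (k̄-valued points being
the k-morphisms Spec k̄ → X, a group under the group law of X) is isomorphic to (ℤ/p^m)^i and the
group Y[p^m](k̄) is isomorphic to (ℤ/p^m)^j (groups of points written multiplicatively), then i = j: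
the p-rank is an isogeny invariant. -/
theorem result (k : Type u) [Field k] (p : ℕ) [Fact p.Prime] [CharP k p]
    (X Y : Over (Spec (CommRingCat.of k)))
    [GrpObj X] [IsCommMonObj X] [IsProper X.hom] [GeometricallyIntegral X.hom]
    [GrpObj Y] [IsCommMonObj Y] [IsProper Y.hom] [GeometricallyIntegral Y.hom]
    (h : X ⟶ Y) [IsMonHom h] [IsFinite h.left] [Surjective h.left]
    (i j : ℕ)
    (hi : ∀ m : ℕ, Nonempty (AbDual.torsPts X (p ^ m)
      (Over.mk (Spec.map (CommRingCat.ofHom (algebraMap k (AlgebraicClosure k))))) ≃*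
      Multiplicative (Fin i → ZMod (p ^ m))))
    (hj : ∀ m : ℕ, Nonempty (AbDual.torsPts Y (p ^ m)
      (Over.mk (Spec.map (CommRingCat.ofHom (algebraMap k (AlgebraicClosure k))))) ≃*
      Multiplicative (Fin j → ZMod (p ^ m)))) :
    i = j := by
  classical
  set P : Over (Spec (CommRingCat.of k)) :=
    Over.mk (Spec.map (CommRingCat.ofHom (algebraMap k (AlgebraicClosure k)))) with hP
  let φ : (P ⟶ X) →* (P ⟶ Y) :=
    MonoidHom.mk' (fun x => x ≫ h) fun a b => MonObj.mul_comp a b h
  let y' : (P ⟶ Y) → Scheme.{u} := fun y => pullback h.left y.left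
  let g : ∀ y : P ⟶ Y, y' y ⟶ Spec (CommRingCat.of (AlgebraicClosure k)) :=
    fun y => pullback.snd h.left y.left
  haveI : ∀ y, IsFinite (g y) := fun y => inferInstanceAs (IsFinite (pullback.snd h.left y.left))
  haveI : ∀ y, Surjective (g y) := fun y => inferInstanceAs (Surjective (pullback.snd h.left y.left))
  have hw : ∀ (y : P ⟶ Y) (s : { p : Spec (CommRingCat.of (AlgebraicClosure k)) ⟶ y' y // p ≫ g y = 𝟙 _ }),
      (s.1 ≫ pullback.fst h.left y.left) ≫ X.hom = P.hom := by
    intro y s
    rw [Category.assoc, ← Over.w h, pullback.condition_assoc, Over.w y]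
    exact ((Category.assoc _ _ _).symm.trans (congrArg (· ≫ P.hom) s.2)).trans (Category.id_comp _)
  have hsurj : Function.Surjective φ := by
    intro y
    haveI : Nonempty (y' y) :=
      ⟨((g y).surjective (IsLocalRing.closedPoint (AlgebraicClosure k))).choose⟩
    haveI : CompactSpace (y' y) := QuasiCompact.compactSpace_of_compactSpace (g y)
    obtain ⟨z, -, hz⟩ := IsClosed.exists_closed_singleton (isClosed_univ (X := y' y)) Set.univ_nonempty
    obtain ⟨s, hs⟩ := (pointEquivClosedPoint (g y)).surjective ⟨z, hz⟩
    refine ⟨Over.homMk (s.1 ≫ pullback.fst h.left y.left) (hw y s), ?_⟩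
    ext1
    show (s.1 ≫ pullback.fst h.left y.left) ≫ h.left = y.left
    rw [Category.assoc, pullback.condition, ← Category.assoc]
    exact (congrArg (· ≫ y.left) s.2).trans (Category.id_comp _)
  haveI : Finite φ.ker := by
    haveI : Finite (closedPoints (y' 1)) := by
      have hf : (Set.univ : Set (y' 1)).Finite := by
        refine (IsFinite.finite_preimage_singleton (g 1) (IsLocalRing.closedPoint _)).subset
          fun z _ => ?_
        exact Subsingleton.elim (α := PrimeSpectrum (AlgebraicClosure k)) _ _
      exact (hf.subset (Set.subset_univ _)).to_subtype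
    refine Finite.of_injective (β := closedPoints (y' 1)) (fun x => pointEquivClosedPoint (g 1)
      ⟨pullback.lift (f := h.left) (g := (1 : P ⟶ Y).left) x.1.left (𝟙 _) ?_, pullback.lift_snd _ _ _⟩) ?_
    · rw [← Over.comp_left, Category.id_comp]
      exact congrArg (fun q : P ⟶ Y => q.left) x.2
    · intro a b hab
      have := congrArg Subtype.val ((pointEquivClosedPoint (g 1)).injective hab)
      have := congrArg (fun q => q ≫ pullback.fst h.left (1 : P ⟶ Y).left) this
      simp only [pullback.lift_fst] at this
      exact Subtype.ext (Over.OverMorphism.ext this)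
  exact rank_eq_of_isogeny φ hsurj p i j hi hj

end Groth.Agent.S16673
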