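import Groth.Statements.S4113
import Mathlib.RingTheory.HopfAlgebra.Basic
import Mathlib.RingTheory.Trace.Basic
import Mathlib.RingTheory.Unramified.Finite
import Mathlib.RingTheory.Etale.Field
import Mathlib.LinearAlgebra.TensorProduct.Basis
import Mathlib.LinearAlgebra.BilinearForm.Properties
-- import your own Groth.Agent.* helpers here

set_option autoImplicit false
universe u
open CategoryTheory MonoidalCategory CartesianMonoidalCategory MonObj GrpObj AlgebraicGeometry CategoryTheory.Limits
open SGA3

namespace Groth.Agent.S4113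

open TensorProduct Coalgebra in
theorem nondeg_aux (k : Type u) [Field k] (A : Type u) [CommRing A] [HopfAlgebra k A] [Module.Finite k A]
    (h : (Module.finrank k A : k) ≠ 0) (x : A) (hx : ∀ b, Algebra.trace k A (x * b) = 0) : x = 0 := by
  classical
  let t := Algebra.trace k A
  -- the shear `c ⊗ a ↦ (c ⊗ 1) * Δ a`
  let ψ : A ⊗[k] A →ₐ[A] A ⊗[k] A :=
    Algebra.TensorProduct.lift (Algebra.ofId A (A ⊗[k] A)) (Bialgebra.comulAlgHom k A)
      fun a b => Commute.all _ _
  have hψ : ∀ c a : A, ψ (c ⊗ₜ[k] a) = (c ⊗ₜ[k] (1 : A)) * comul a := fun c a => by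
    simp [ψ, Algebra.ofId_apply, Algebra.TensorProduct.algebraMap_apply]
  have hsurj : Function.Surjective ψ := by
    let g : A ⊗[k] A →ₗ[k] A ⊗[k] A :=
      ((LinearMap.mul' k A) ∘ₗ (HopfAlgebra.antipode k).rTensor A).rTensor A ∘ₗ
        (TensorProduct.assoc k A A A).symm.toLinearMap ∘ₗ comul.lTensor A
    have hg : ∀ c a : A, g (c ⊗ₜ[k] a) = ψ (HopfAlgebra.antipode k c ⊗ₜ[k] a) := by
      intro c a
      rw [hψ]
      simp only [g, LinearMap.comp_apply, LinearMap.lTensor_tmul, LinearEquiv.coe_coe]
      generalize comul (R := k) a = w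
      induction w with
      | zero => simp
      | add u v hu hv => rw [tmul_add, map_add, map_add, hu, hv, mul_add]
      | tmul p q => simp [Algebra.TensorProduct.tmul_mul_tmul]
    have hone : ∀ a : A, ∃ z, ψ z = (1 : A) ⊗ₜ[k] a := by
      intro a
      refine ⟨(HopfAlgebra.antipode k).rTensor A (comul a), ?_⟩
      have h1 : ∀ w : A ⊗[k] A, ψ ((HopfAlgebra.antipode k).rTensor A w) = g w := fun w => by
        induction w with
        | zero => simp
        | add u v hu hv => rw [map_add, map_add, map_add, hu, hv]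
        | tmul p q => rw [LinearMap.rTensor_tmul, hg]
      rw [h1]
      simp only [g, LinearMap.comp_apply, LinearEquiv.coe_coe, coassoc_symm_apply]
      rw [← LinearMap.comp_apply, ← LinearMap.rTensor_comp, LinearMap.comp_assoc,
        HopfAlgebra.mul_antipode_rTensor_comul, LinearMap.rTensor_comp, LinearMap.comp_apply,
        rTensor_counit_comul]
      simp
    intro w
    induction w with
    | zero => exact ⟨0, map_zero _⟩
    | add u v hu hv =>
      obtain ⟨p, rfl⟩ := hu
      obtain ⟨q, rfl⟩ := hv
      exact ⟨p + q, map_add _ _ _⟩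
    | tmul c a =>
      obtain ⟨z, hz⟩ := hone a
      refine ⟨c • z, ?_⟩
      rw [map_smul, hz, TensorProduct.smul_tmul', smul_eq_mul, _root_.mul_one]
  have hbij : Function.Bijective ψ :=
    ⟨(LinearMap.injective_iff_surjective (f := ψ.toLinearMap.restrictScalars k)).2 hsurj, hsurj⟩
  let T := Algebra.trace A (A ⊗[k] A)
  have hT1 : ∀ c a : A, T (c ⊗ₜ[k] a) = c * algebraMap k A (t a) := fun c a => by
    rw [show c ⊗ₜ[k] a = c • ((1 : A) ⊗ₜ[k] a) by rw [TensorProduct.smul_tmul', smul_eq_mul, _root_.mul_one],
      map_smul, smul_eq_mul]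
    congr 1
    rw [Algebra.trace_apply, Algebra.trace_apply, ← LinearMap.trace_baseChange]
    congr 1
    refine TensorProduct.AlgebraTensorModule.ext fun p q => ?_
    simp [Algebra.TensorProduct.tmul_mul_tmul]
  have hT2 : ∀ z, T (ψ z) = T z := fun z =>
    Algebra.trace_eq_of_algEquiv (AlgEquiv.ofBijective ψ hbij) z
  have hdel : ∀ x : A, (∀ b, t (x * b) = 0) → ∀ b : A, T (comul x * ((1 : A) ⊗ₜ[k] b)) = 0 := by
    intro x hx b
    obtain ⟨z, hz⟩ := hsurj ((1 : A) ⊗ₜ[k] b)
    have h1 : comul x = ψ ((1 : A) ⊗ₜ[k] x) := by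
      rw [hψ, ← Algebra.TensorProduct.one_def, _root_.one_mul]
    rw [h1, ← hz, ← map_mul, hT2]
    clear hz h1
    induction z with
    | zero => simp
    | add u v hu hv => rw [mul_add, map_add, hu, hv, add_zero]
    | tmul c a => rw [Algebra.TensorProduct.tmul_mul_tmul, hT1, hx, map_zero, mul_zero]
  let β := Module.finBasis k A
  have hrep : ∀ y : A, (∀ b, t (y * b) = 0) → ∃ d : Fin (Module.finrank k A) →₀ A,
      (d.sum fun i n => β i ⊗ₜ[k] n) = comul (R := k) y ∧ ∀ i b, t (d i * b) = 0 := by
    intro y hy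
    obtain ⟨d, hd⟩ := TensorProduct.eq_repr_basis_left (x := comul (R := k) y) β
    refine ⟨d, hd, fun i b => ?_⟩
    have h0 := hdel y hy b
    rw [← hd, Finsupp.sum, Finset.sum_mul, map_sum] at h0
    simp only [Algebra.TensorProduct.tmul_mul_tmul, _root_.mul_one, hT1] at h0
    by_cases hi : i ∈ d.support
    · refine linearIndependent_iff'.1 β.linearIndependent d.support (fun j => t (d j * b)) ?_ i hi
      rw [← h0]
      exact Finset.sum_congr rfl fun j _ => by rw [Algebra.smul_def, _root_.mul_comm]
    · simp [Finsupp.notMem_support_iff.1 hi]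
  -- the counit vanishes on the kernel of the trace form
  have hcounit : ∀ y : A, (∀ b, t (y * b) = 0) → counit (R := k) y = 0 := by
    intro y hy
    obtain ⟨d, hdy, hd⟩ := hrep y hy
    have h1 := HopfAlgebra.mul_antipode_rTensor_comul_apply (R := k) y
    rw [← hdy, Finsupp.sum, map_sum, map_sum] at h1
    simp only [LinearMap.rTensor_tmul, LinearMap.mul'_apply] at h1
    have h2 := congrArg t h1
    rw [map_sum, Finset.sum_eq_zero (fun i _ => by rw [_root_.mul_comm]; exact hd i _),
      Algebra.trace_algebraMap, nsmul_eq_mul] at h2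
    exact (mul_eq_zero.1 h2.symm).resolve_left h
  obtain ⟨c, hc, hN⟩ := hrep x hx
  have hci : ∀ i, counit (R := k) (c i) = 0 := fun i => hcounit _ (hN i)
  have h3 := lTensor_counit_comul (R := k) x
  rw [← hc, Finsupp.sum, map_sum, Finset.sum_eq_zero (fun i _ => by simp [hci])] at h3
  simpa using (congrArg (TensorProduct.rid k A) h3).symm

open TensorProduct in
theorem unramified_of_nondeg (k : Type u) [Field k] (A : Type u) [CommRing A] [Algebra k A] [Module.Finite k A]
    (hnd : ∀ x : A, (∀ b, Algebra.trace k A (x * b) = 0) → x = 0) : Algebra.FormallyUnramified k A := by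
  classical
  let B := Algebra.traceForm k A
  have hB : B.Nondegenerate := LinearMap.BilinForm.nondegenerate_iff_ker_eq_bot.2
    (LinearMap.ker_eq_bot'.2 fun x hx => hnd x fun b => LinearMap.congr_fun hx b)
  let e := Module.finBasis k A
  let f := LinearMap.BilinForm.dualBasis B hB e
  have hef : ∀ i j, Algebra.trace k A (f i * e j) = if j = i then 1 else 0 :=
    fun i j => LinearMap.BilinForm.apply_dualBasis_left hB e i j
  have hexp : ∀ y : A, ∀ i, e.repr y i = Algebra.trace k A (f i * y) := by
    intro y i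
    conv_rhs => rw [← e.sum_repr y, Finset.mul_sum, map_sum]
    simp [Algebra.mul_smul_comm, hef, Finset.sum_ite_eq']
  have hexp' : ∀ y : A, ∀ i, f.repr y i = Algebra.trace k A (y * e i) := by
    intro y i
    conv_rhs => rw [← f.sum_repr y, Finset.sum_mul, map_sum]
    simp [Algebra.smul_mul_assoc, hef, Finset.sum_ite_eq]
  rw [Algebra.FormallyUnramified.iff_exists_tensorProduct]
  refine ⟨∑ i, e i ⊗ₜ[k] f i, fun s => ?_, ?_⟩
  · rw [sub_mul, sub_eq_zero, Finset.mul_sum, Finset.mul_sum]
    simp only [Algebra.TensorProduct.tmul_mul_tmul, _root_.one_mul]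
    calc ∑ i, e i ⊗ₜ[k] (s * f i)
        = ∑ i, ∑ j, Algebra.trace k A (s * f i * e j) • (e i ⊗ₜ[k] f j) := by
          refine Finset.sum_congr rfl fun i _ => ?_
          conv_lhs => rw [← f.sum_repr (s * f i), TensorProduct.tmul_sum]
          exact Finset.sum_congr rfl fun j _ => by rw [hexp', TensorProduct.tmul_smul]
      _ = ∑ j, ∑ i, Algebra.trace k A (s * f i * e j) • (e i ⊗ₜ[k] f j) := Finset.sum_comm
      _ = ∑ j, (s * e j) ⊗ₜ[k] f j := by
          refine Finset.sum_congr rfl fun j _ => ?_
          conv_rhs => rw [← e.sum_repr (s * e j), TensorProduct.sum_tmul]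
          exact Finset.sum_congr rfl fun i _ => by
            rw [hexp, TensorProduct.smul_tmul', show f i * (s * e j) = s * f i * e j by ring]
  · refine sub_eq_zero.1 (hnd _ fun b => ?_)
    rw [sub_mul, map_sub, _root_.one_mul, sub_eq_zero, map_sum, Finset.sum_mul, map_sum]
    rw [Algebra.trace_eq_matrix_trace e b, Matrix.trace]
    refine Finset.sum_congr rfl fun i _ => ?_
    rw [Matrix.diag_apply, Algebra.leftMulMatrix_eq_repr_mul, hexp, Algebra.TensorProduct.lmul'_apply_tmul]
    congr 1
    ring


/-- Let A be a finite-dimensional commutative Hopf algebra over a field k (a finite algebraic k-group of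
rank dim A). If the rank is invertible in k then A is an etale k-algebra. -/
theorem result (k : Type u) [Field k] (A : Type u) [CommRing A] [HopfAlgebra k A]
    [Module.Finite k A] (h : (Module.finrank k A : k) ≠ 0) : Algebra.Etale k A := by
  haveI := unramified_of_nondeg k A (nondeg_aux k A h)
  haveI : Algebra.FormallyEtale k A := Algebra.FormallyEtale.of_formallyUnramified_of_field k A
  haveI : Algebra.FinitePresentation k A := Algebra.FinitePresentation.of_finiteType.1 inferInstance
  exact {}

end Groth.Agent.S4113
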