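import Groth.Statements.S16674
import Groth.Agent.S4113
import Groth.Agent.H4.Shear
import Mathlib.RingTheory.Unramified.Field
import Mathlib.LinearAlgebra.Trace
import Mathlib.RingTheory.Ideal.IdempotentFG
import Mathlib.LinearAlgebra.Dual.Lemmas
import Mathlib.RingTheory.Artinian.Module
-- import your own Groth.Agent.* helpers here

set_option autoImplicit false
universe u
open CartDual

namespace Groth.Agent.S16674

open scoped TensorProduct in
theorem etale_of_rank (k : Type u) [Field k] (B : Type u) [CommRing B] [HopfAlgebra k B] [Module.Finite k B]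
    (h : (Module.finrank k B : k) ≠ 0) : Algebra.Etale k B := by
  haveI := Groth.Agent.S4113.unramified_of_nondeg k B (Groth.Agent.S4113.nondeg_aux k B h)
  haveI : Algebra.FormallyEtale k B := Algebra.FormallyEtale.of_formallyUnramified_of_field k B
  haveI : Algebra.FinitePresentation k B := Algebra.FinitePresentation.of_finiteType.1 inferInstance
  exact {}

open scoped TensorProduct in
theorem trace_invariant (k : Type u) [Field k] (A : Type u) [CommRing A] [HopfAlgebra k A] [Module.Finite k A]
    (a : A) : TensorProduct.rid k A ((Algebra.trace k A).lTensor A (Coalgebra.comul (R := k) a)) =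
      algebraMap k A (Algebra.trace k A a) := by
  classical
  obtain ⟨ψ, hψ, hbij⟩ : ∃ ψ : A ⊗[k] A →ₐ[A] A ⊗[k] A,
      (∀ c b : A, ψ (c ⊗ₜ[k] b) = (c ⊗ₜ[k] (1 : A)) * Coalgebra.comul b) ∧ Function.Bijective ψ :=
    Groth.Agent.H4.Shear.exists_shear k A
  have hT : ∀ c b : A, Algebra.trace A (A ⊗[k] A) (c ⊗ₜ[k] b) = c * algebraMap k A (Algebra.trace k A b) := fun c b => by
    rw [show c ⊗ₜ[k] b = c • ((1 : A) ⊗ₜ[k] b) by rw [TensorProduct.smul_tmul', smul_eq_mul, _root_.mul_one],
      map_smul, smul_eq_mul]
    congr 1
    rw [Algebra.trace_apply, Algebra.trace_apply, ← LinearMap.trace_baseChange]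
    congr 1
    refine TensorProduct.AlgebraTensorModule.ext fun p q => ?_
    simp [Algebra.TensorProduct.tmul_mul_tmul]
  have h1 := Algebra.trace_eq_of_algEquiv (AlgEquiv.ofBijective ψ hbij) ((1 : A) ⊗ₜ[k] a)
  rw [AlgEquiv.coe_ofBijective, hψ, ← Algebra.TensorProduct.one_def, _root_.one_mul, hT, _root_.one_mul] at h1
  rw [← h1]
  generalize Coalgebra.comul (R := k) a = w
  induction w with
  | zero => simp
  | add u v hu hv => rw [map_add, map_add, map_add, hu, hv]
  | tmul p q => rw [LinearMap.lTensor_tmul, TensorProduct.rid_tmul, hT, Algebra.smul_def, _root_.mul_comm]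


/-- Let k be a field of characteristic p > 0 and A a finite-dimensional commutative and cocommutative
Hopf algebra over k, the coordinate ring of a finite commutative k-group scheme G, with Cartier dual
the convolution Hopf algebra Hom_k(A, k). Then G is étale-étale, i.e. both A and its dual are étale
k-algebras, if and only if p does not divide the rank dim_k A of G. -/
theorem result (k : Type u) [Field k] (p : ℕ) [Fact p.Prime] [CharP k p]
    (A : Type u) [CommRing A] [HopfAlgebra k A] [Coalgebra.IsCocomm k A] [FiniteDimensional k A] :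
    (Algebra.Etale k A ∧ Algebra.Etale k (CartDual.D k A)) ↔ ¬ p ∣ Module.finrank k A := by
  classical
  haveI : Module.Finite k (CartDual.D k A) := inferInstance
  have hrk : Module.finrank k (CartDual.D k A) = Module.finrank k A :=
    ((CartDual.toDual k A).finrank_eq).trans Subspace.dual_finrank_eq
  constructor
  · rintro ⟨hA, hD⟩ hdvd
    haveI := hA
    haveI := hD
    have hn : (Module.finrank k A : k) = 0 := (CharP.cast_eq_zero_iff k p _).2 hdvd
    set I := RingHom.ker (Bialgebra.counitAlgHom k A)
    haveI : IsNoetherianRing A := IsNoetherianRing.of_finite k A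
    haveI : _root_.IsReduced A := Algebra.FormallyUnramified.isReduced_of_field k A
    -- the idempotent at the unit
    have hI2 : I * I = I := by
      refine le_antisymm Ideal.mul_le_left fun x hx => ?_
      haveI : IsArtinianRing A := IsArtinianRing.of_finite k A
      obtain ⟨n, y, hy⟩ := IsArtinian.exists_pow_succ_smul_dvd x (1 : A)
      obtain ⟨z, hz⟩ : ∃ z, x = x * x * z := by
        refine ⟨y, ?_⟩
        have : (x - x * x * y) ^ (n + 1) = 0 := by
          have e : x ^ n * (x - x * x * y) = x * (x ^ n - x ^ (n + 1) * y) := by ring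
          have h0 : x ^ n * (x - x * x * y) = 0 := by
            have hy' : x ^ (n + 1) * y = x ^ n := by simpa [Nat.succ_eq_add_one, smul_eq_mul] using hy
            rw [e, hy', sub_self, mul_zero]
          rw [show x - x * x * y = x * (1 - x * y) by ring, mul_pow, pow_succ, _root_.mul_assoc,
            show x * (1 - x * y) ^ (n + 1) = (x - x * x * y) * (1 - x * y) ^ n by ring,
            ← _root_.mul_assoc, h0, zero_mul]
        exact sub_eq_zero.1 (IsNilpotent.eq_zero ⟨_, this⟩)
      rw [hz]
      exact Ideal.mul_mem_right _ _ (Ideal.mul_mem_mul hx hx)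
    obtain ⟨e, he, heI⟩ := (Ideal.isIdempotentElem_iff_of_fg I (IsNoetherian.noetherian I)).1 hI2
    have hεe : Coalgebra.counit (R := k) e = 0 := by
      have : e ∈ I := heI.symm ▸ Ideal.subset_span rfl
      exact this
    set δ := 1 - e with hδ
    have hmul : ∀ b : A, δ * b = Coalgebra.counit (R := k) b • δ := fun b => by
      have hb : b - algebraMap k A (Coalgebra.counit (R := k) b) ∈ I := by
        rw [RingHom.mem_ker, map_sub, AlgHom.commutes]
        simp
      rw [heI, Ideal.mem_span_singleton] at hb
      obtain ⟨w, hw⟩ := hb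
      have h0 : δ * (e * w) = 0 := by rw [hδ, ← _root_.mul_assoc, sub_mul, _root_.one_mul, he.eq, sub_self, zero_mul]
      rw [Algebra.smul_def, _root_.mul_comm (algebraMap k A _), ← sub_eq_zero, ← mul_sub, hw, h0]
    have ht : Algebra.trace k A δ = 1 := by
      rw [Algebra.trace_apply]
      have : Algebra.lmul k A δ = (Coalgebra.counit (R := k) (A := A)).smulRight δ :=
        LinearMap.ext fun b => hmul b
      rw [this, LinearMap.trace_smulRight, hδ, map_sub, Bialgebra.counit_one, hεe, sub_zero]
    let t : CartDual.D k A := WithConv.toConv (Algebra.trace k A)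
    have htt : t * t = 0 := by
      refine WithConv.ext (LinearMap.ext fun a => ?_)
      simp only [t, LinearMap.convMul_def, WithConv.ofConv_toConv, LinearMap.comp_apply]
      have h1 := congrArg (Algebra.trace k A) (trace_invariant k A a)
      rw [Algebra.trace_algebraMap, nsmul_eq_mul, hn, zero_mul] at h1
      refine Eq.trans ?_ h1
      generalize Coalgebra.comul (R := k) a = w
      induction w with
      | zero => simp
      | add u v hu hv => rw [map_add, map_add, map_add, map_add, map_add, hu, hv]
      | tmul q r => simp [_root_.mul_comm]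
    haveI : _root_.IsReduced (CartDual.D k A) := Algebra.FormallyUnramified.isReduced_of_field k _
    have ht0 : t = 0 := IsNilpotent.eq_zero ⟨2, by rw [pow_two]; exact htt⟩
    have h2 : t δ = (0 : CartDual.D k A) δ := by rw [ht0]
    rw [show t δ = 1 from ht] at h2
    exact one_ne_zero (h2.trans rfl)
  · intro hdvd
    have hn : (Module.finrank k A : k) ≠ 0 := fun h => hdvd ((CharP.cast_eq_zero_iff k p _).1 h)
    exact ⟨etale_of_rank k A hn, etale_of_rank k (CartDual.D k A) (by rw [hrk]; exact hn)⟩

end Groth.Agent.S16674
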