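import Groth.Statements.S16676
import Groth.Agent.H4.KernelSquare
import Mathlib.Topology.Separation.Connected
import Mathlib.AlgebraicGeometry.Morphisms.UniversallyInjective
import Mathlib.AlgebraicGeometry.Morphisms.QuasiFinite
import Mathlib.AlgebraicGeometry.Artinian
-- import your own Groth.Agent.* helpers here

set_option autoImplicit false
universe u
open CategoryTheory CategoryTheory.Limits MonoidalCategory CartesianMonoidalCategory MonObj GrpObj AlgebraicGeometry
open AbVar

namespace Groth.Agent.S16676

/-- The equivalence of its second and third conditions. Let X and Y be abelian varieties over a field k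
(proper, geometrically integral k-group schemes), f : X → Y a homomorphism which is finite, flat and
surjective (an isogeny), and i : N → X the kernel of f (the square formed by i, f, the unit section
of Y and the structure map of N is cartesian). Then f is universally injective (a purely inseparable
morphism) if and only if the scheme N is connected. (The published item also includes the equivalent
condition that the function field of X is purely inseparable over that of Y; that clause is not part
of this statement.) -/
theorem result (k : Type u) [Field k]
    (X Y : Over (Spec (CommRingCat.of k)))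
    [GrpObj X] [IsProper X.hom] [GeometricallyIntegral X.hom]
    [GrpObj Y] [IsProper Y.hom] [GeometricallyIntegral Y.hom]
    (f : X ⟶ Y) [IsMonHom f] [IsFinite f.left] [Flat f.left] [Surjective f.left]
    (N : Over (Spec (CommRingCat.of k))) (i : N ⟶ X) (hN : AlgGrp.IsKernel i f) :
    UniversallyInjective f.left ↔ ConnectedSpace ↥N.left := by
  have hfin : IsFinite N.hom := Groth.Agent.H4.KernelSquare.hom_of (P := @IsFinite) f i hN ‹_›
  let e : 𝟙_ (Over (Spec (CommRingCat.of k))) ⟶ N :=
    hN.lift η[X] (𝟙 _) (by rw [Category.id_comp]; exact IsMonHom.one_hom f)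
  haveI : Nonempty N.left := ⟨e.left (IsLocalRing.closedPoint k)⟩
  constructor
  · intro h
    haveI : UniversallyInjective N.hom :=
      Groth.Agent.H4.KernelSquare.hom_of (P := @UniversallyInjective) f i hN h
    haveI : Subsingleton N.left :=
      ⟨fun a b => N.hom.injective (Subsingleton.elim (α := Spec (CommRingCat.of k)) _ _)⟩
    exact ⟨inferInstance⟩
  · intro h
    haveI : IsLocallyArtinian (Spec (CommRingCat.of k)) :=
      Scheme.isLocallyArtinianScheme_Spec.2 (inferInstanceAs (IsArtinianRing k))
    haveI : IsLocallyArtinian N.left := IsLocallyArtinian.of_locallyQuasiFinite N.hom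
    haveI : Subsingleton N.left :=
      ⟨fun a b => PreconnectedSpace.trivial_of_discrete (X := N.left) |>.elim a b⟩
    haveI : Surjective e.left := ⟨fun a => ⟨IsLocalRing.closedPoint k, Subsingleton.elim _ _⟩⟩
    refine Groth.Agent.H4.KernelSquare.left_of_hom (P := @UniversallyInjective) f i hN ?_
    rw [UniversallyInjective.iff_diagonal]
    refine ⟨fun p => ?_⟩
    have hw : e.left ≫ N.hom = 𝟙 _ := Over.w e
    have e₁ : 𝟙 (Spec (CommRingCat.of k)) = e.left ≫ N.hom := hw.symm
    haveI : MorphismProperty.IsStableUnderComposition (@Surjective : MorphismProperty Scheme.{u}) :=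
      ⟨fun a b (_ : Surjective a) (_ : Surjective b) => (inferInstance : Surjective (a ≫ b))⟩
    have hs : Surjective (pullback.map (𝟙 (Spec (CommRingCat.of k))) (𝟙 _) N.hom N.hom e.left e.left (𝟙 _)
        ((Category.comp_id _).trans e₁) ((Category.comp_id _).trans e₁)) :=
      MorphismProperty.pullbackMap (P := @Surjective) ‹_› ‹_› e₁ e₁
    obtain ⟨q, rfl⟩ := hs.surj p
    refine ⟨e.left (IsLocalRing.closedPoint k), ?_⟩
    have hq : q = pullback.diagonal (𝟙 (Spec (CommRingCat.of k))) (IsLocalRing.closedPoint k) := by
      apply (Scheme.Hom.injective (pullback.fst (𝟙 (Spec (CommRingCat.of k))) (𝟙 _)))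
      exact Subsingleton.elim (α := Spec (CommRingCat.of k)) _ _
    have hcomm : e.left ≫ pullback.diagonal N.hom =
        pullback.diagonal (𝟙 (Spec (CommRingCat.of k))) ≫
          pullback.map (𝟙 (Spec (CommRingCat.of k))) (𝟙 _) N.hom N.hom e.left e.left (𝟙 _)
            ((Category.comp_id _).trans e₁) ((Category.comp_id _).trans e₁) := by
      apply pullback.hom_ext
      · rw [Category.assoc, Category.assoc, pullback.map, pullback.lift_fst, pullback.diagonal_fst,
          Category.comp_id, ← Category.assoc]
        erw [pullback.diagonal_fst, Category.id_comp]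
      · rw [Category.assoc, Category.assoc, pullback.map, pullback.lift_snd, pullback.diagonal_snd,
          Category.comp_id, ← Category.assoc]
        erw [pullback.diagonal_snd, Category.id_comp]
    rw [hq]
    exact congr($hcomm (IsLocalRing.closedPoint k))

end Groth.Agent.S16676
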