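import Groth.Statements.S16678
import Mathlib.AlgebraicGeometry.Morphisms.Etale
import Mathlib.AlgebraicGeometry.Limits
import Mathlib.AlgebraicGeometry.Artinian
import Mathlib.FieldTheory.SeparableClosure
import Mathlib.RingTheory.Etale.Field
import Mathlib.RingTheory.Unramified.Field

set_option autoImplicit false
universe u
open CategoryTheory CategoryTheory.Limits AlgebraicGeometry
open Variety

namespace Groth.Agent.S16678

section Algebra

open Polynomial

variable {k R : Type u} [Field k] [CommRing R] [Algebra k R]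

/-- Elements killed by a separable polynomial. -/
def IsSepElt (k : Type u) {R : Type u} [Field k] [CommRing R] [Algebra k R] (a : R) : Prop :=
  ∃ p : k[X], p.Separable ∧ aeval a p = 0

theorem isIntegral_of_isSepElt {a : R} (ha : IsSepElt k a) : IsIntegral k a := by
  obtain ⟨p, hp, h0⟩ := ha
  exact IsAlgebraic.isIntegral ⟨p, hp.ne_zero, h0⟩

theorem irreducible_minpoly [Nontrivial R] (hid : ∀ e : R, IsIdempotentElem e → e = 0 ∨ e = 1)
    {a : R} (ha : IsSepElt k a) : Irreducible (minpoly k a) ∧ (minpoly k a).Separable := by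
  have hint := isIntegral_of_isSepElt ha
  obtain ⟨p, hp, h0⟩ := ha
  have hs := hp.of_dvd (minpoly.dvd k a h0)
  refine ⟨⟨minpoly.not_isUnit k a, fun f g hfg => ?_⟩, hs⟩
  by_contra hc
  rw [not_or] at hc
  rw [hfg] at hs
  obtain ⟨u, v, huv⟩ := hs.isCoprime
  have h1 : aeval a f * aeval a g = 0 := by rw [← map_mul, ← hfg, minpoly.aeval]
  have h2 : aeval a u * aeval a f + aeval a v * aeval a g = 1 := by
    rw [← map_mul, ← map_mul, ← map_add, huv, map_one]
  have key : ∀ f g : k[X], minpoly k a = f * g → ¬ IsUnit g → aeval a f ≠ 0 := by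
    intro f g hfg hg hf
    have hne := minpoly.ne_zero hint
    rw [hfg] at hne
    have := minpoly.degree_le_of_ne_zero k a (left_ne_zero_of_mul hne) hf
    rw [hfg, degree_mul] at this
    have hpos := degree_pos_of_ne_zero_of_nonunit (right_ne_zero_of_mul hne) hg
    rw [degree_eq_natDegree (right_ne_zero_of_mul hne)] at this hpos
    rw [degree_eq_natDegree (left_ne_zero_of_mul hne)] at this
    norm_cast at this hpos
    omega
  rcases hid (aeval a u * aeval a f) (by
    have : aeval a u * aeval a f * (aeval a v * aeval a g) = 0 := by linear_combination (aeval a u * aeval a v) * h1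
    show _ * _ = _
    linear_combination (aeval a u * aeval a f) * h2 - this) with h | h
  · refine key f g hfg hc.2 ?_
    rw [h, zero_add] at h2
    linear_combination -(aeval a f) * h2 + (aeval a v) * h1
  · refine key g f (hfg.trans (mul_comm f g)) hc.1 ?_
    linear_combination -(aeval a g) * h + (aeval a u) * h1

/-- Two separable elements lie in the image of a finite separable field extension. -/
theorem exists_field [Nontrivial R] (hid : ∀ e : R, IsIdempotentElem e → e = 0 ∨ e = 1)
    {a b : R} (ha : IsSepElt k a) (hb : IsSepElt k b) :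
    ∃ (L : Type u) (_ : Field L) (_ : Algebra k L) (_ : Algebra.IsSeparable k L) (φ : L →ₐ[k] R),
      a ∈ φ.range ∧ b ∈ φ.range := by
  obtain ⟨hi₁, hs₁⟩ := irreducible_minpoly hid ha
  haveI : Fact (Irreducible (minpoly k a)) := ⟨hi₁⟩
  let φ₁ : AdjoinRoot (minpoly k a) →ₐ[k] R := AdjoinRoot.liftAlgHom _ (Algebra.ofId k R) a (minpoly.aeval k a)
  letI := φ₁.toRingHom.toAlgebra
  haveI : IsScalarTower k (AdjoinRoot (minpoly k a)) R :=
    IsScalarTower.of_algebraMap_eq fun x => (φ₁.commutes x).symm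
  obtain ⟨q, hq, hq0⟩ := hb
  have hb' : IsSepElt (AdjoinRoot (minpoly k a)) b :=
    ⟨q.map (algebraMap k _), hq.map, by rw [aeval_map_algebraMap, hq0]⟩
  obtain ⟨hi₂, hs₂⟩ := irreducible_minpoly hid hb'
  haveI : Fact (Irreducible (minpoly (AdjoinRoot (minpoly k a)) b)) := ⟨hi₂⟩
  haveI sep : ∀ {F : Type u} [Field F] (m : F[X]) [Fact (Irreducible m)], m.Separable →
      Algebra.IsSeparable F (AdjoinRoot m) := fun {F} _ m hf hm => by
    haveI : Algebra.IsSeparable F (⊤ : IntermediateField F (AdjoinRoot m)) := by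
      rw [← IntermediateField.adjoin_root_eq_top m, IntermediateField.isSeparable_adjoin_simple_iff_isSeparable]
      exact hm.of_dvd (minpoly.dvd F _ (AdjoinRoot.eval₂_root m))
    exact Algebra.IsSeparable.of_algHom F _ IntermediateField.topEquiv.symm.toAlgHom
  haveI := sep _ hs₁
  haveI := sep _ hs₂
  let φ₂ : AdjoinRoot (minpoly (AdjoinRoot (minpoly k a)) b) →ₐ[AdjoinRoot (minpoly k a)] R :=
    AdjoinRoot.liftAlgHom _ (Algebra.ofId _ R) b (minpoly.aeval _ b)
  refine ⟨AdjoinRoot (minpoly (AdjoinRoot (minpoly k a)) b), inferInstance, inferInstance, Algebra.IsSeparable.trans k (AdjoinRoot (minpoly k a)) _,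
    φ₂.restrictScalars k, ⟨algebraMap _ _ (AdjoinRoot.root (minpoly k a)), ?_⟩, ⟨AdjoinRoot.root _, ?_⟩⟩
  · exact (φ₂.commutes _).trans (AdjoinRoot.liftAlgHom_root (minpoly k a) _ a (minpoly.aeval k a))
  · exact AdjoinRoot.liftAlgHom_root _ _ b (minpoly.aeval _ b)

theorem isSepElt_of_mem {L : Type u} [Field L] [Algebra k L] [Algebra.IsSeparable k L] (φ : L →ₐ[k] R)
    {a : R} (ha : a ∈ φ.range) : IsSepElt k a := by
  obtain ⟨x, rfl⟩ := ha
  exact ⟨minpoly k x, Algebra.IsSeparable.isSeparable k x,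
    (aeval_algHom_apply φ x _).trans (by rw [minpoly.aeval, map_zero])⟩

theorem isSepElt_algebraMap (c : k) : IsSepElt k (algebraMap k R c) :=
  ⟨Polynomial.X - Polynomial.C c, separable_X_sub_C, by simp⟩

variable [Nontrivial R] (hid : ∀ e : R, IsIdempotentElem e → e = 0 ∨ e = 1)

/-- The largest separable subextension. -/
def sepSub : Subalgebra k R where
  carrier := {a | IsSepElt k a}
  mul_mem' ha hb := by
    obtain ⟨L, _, _, _, φ, h1, h2⟩ := exists_field hid ha hb
    exact isSepElt_of_mem φ (mul_mem h1 h2)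
  add_mem' ha hb := by
    obtain ⟨L, _, _, _, φ, h1, h2⟩ := exists_field hid ha hb
    exact isSepElt_of_mem φ (add_mem h1 h2)
  algebraMap_mem' c := isSepElt_algebraMap c

theorem isField_sepSub : IsField (sepSub (k := k) hid) := by
  refine ⟨⟨0, 1, zero_ne_one⟩, mul_comm, fun {x} hx => ?_⟩
  obtain ⟨L, _, _, _, φ, ⟨l, hl : φ l = x.1⟩, -⟩ := exists_field hid x.2 x.2
  refine ⟨⟨φ l⁻¹, isSepElt_of_mem φ ⟨_, rfl⟩⟩, Subtype.ext ?_⟩
  show x.1 * φ l⁻¹ = 1
  rw [← hl, ← map_mul, mul_inv_cancel₀, map_one]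
  rintro rfl
  exact hx (Subtype.ext (by rw [← hl, map_zero]; rfl))

end Algebra

/-- The universal map of a connected scheme to an étale scheme over a field. -/
theorem connected_case (k : Type u) [Field k] (C : Scheme.{u}) (p : C ⟶ Spec (CommRingCat.of k))
    [LocallyOfFiniteType p] [ConnectedSpace C] :
    ∃ (P : Scheme.{u}) (g : P ⟶ Spec (CommRingCat.of k)) (q : C ⟶ P), Etale g ∧ q ≫ g = p ∧
      Subsingleton P ∧ Nonempty P ∧ Flat q ∧
      ∀ (Y : Scheme.{u}) (gY : Y ⟶ Spec (CommRingCat.of k)) (h : C ⟶ Y), Etale gY → h ≫ gY = p →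
        ∃! t : P ⟶ Y, t ≫ gY = g ∧ q ≫ t = h := by
  haveI : JacobsonSpace C := LocallyOfFiniteType.jacobsonSpace p
  haveI : Nonempty C := inferInstance
  let φ : CommRingCat.of k ⟶ Γ(C, ⊤) := (Scheme.ΓSpecIso (CommRingCat.of k)).inv ≫ p.appTop
  letI := φ.hom.toAlgebra
  have hid : ∀ e : Γ(C, ⊤), IsIdempotentElem e → e = 0 ∨ e = 1 := fun e he => by
    have hloc : ∀ x : C, (x ∈ C.basicOpen e ∧ C.presheaf.germ ⊤ x trivial e = 1) ∨
        (x ∈ C.basicOpen (1 - e) ∧ C.presheaf.germ ⊤ x trivial e = 0) := fun x => by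
      have h : IsIdempotentElem (C.presheaf.germ ⊤ x trivial e) := he.map (C.presheaf.germ ⊤ x trivial).hom
      rcases IsLocalRing.isUnit_or_isUnit_of_add_one (add_sub_cancel (C.presheaf.germ ⊤ x trivial e) 1) with h' | h'
      · exact Or.inl ⟨(Scheme.mem_basicOpen C (U := ⊤) e x trivial).2 h', (IsIdempotentElem.iff_eq_one_of_isUnit h').1 h⟩
      · refine Or.inr ⟨(Scheme.mem_basicOpen C (U := ⊤) (1 - e) x trivial).2 (by rwa [map_sub, map_one]), ?_⟩
        exact h'.mul_left_eq_zero.1 (by rw [mul_sub, mul_one, h.eq, sub_self])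
    have hclopen : IsClopen (C.basicOpen e : Set C) := ⟨by
      rw [← isOpen_compl_iff]
      convert (C.basicOpen (1 - e)).isOpen using 1
      ext x
      have hh := hloc x
      constructor
      · intro hx; exact (hh.resolve_left fun h => hx h.1).1
      · intro hx hxe
        have h1 := (Scheme.mem_basicOpen C (U := ⊤) (1 - e) x trivial).1 hx
        have h2 := (Scheme.mem_basicOpen C (U := ⊤) e x trivial).1 hxe
        rcases hh with ⟨-, h⟩ | ⟨-, h⟩
        · rw [map_sub, map_one, h, sub_self] at h1; exact not_isUnit_zero h1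
        · rw [h] at h2; exact not_isUnit_zero h2, (C.basicOpen e).isOpen⟩
    rcases isClopen_iff.1 hclopen with h | h
    · left
      refine TopCat.Presheaf.section_ext C.sheaf ⊤ _ _ fun x _ => ?_
      refine Eq.trans ?_ (map_zero (C.presheaf.germ ⊤ x trivial).hom).symm
      exact ((hloc x).resolve_left fun hx => (Set.eq_empty_iff_forall_notMem.1 h x) hx.1).2
    · right
      refine TopCat.Presheaf.section_ext C.sheaf ⊤ _ _ fun x _ => ?_
      refine Eq.trans ?_ (map_one (C.presheaf.germ ⊤ x trivial).hom).symm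
      refine ((hloc x).resolve_right fun hx => ?_).2
      have h2 := (Scheme.mem_basicOpen C (U := ⊤) e x trivial).1 (h.symm ▸ Set.mem_univ x : x ∈ (C.basicOpen e : Set C))
      rw [hx.2] at h2
      exact not_isUnit_zero h2
  haveI : Nonempty (⊤ : C.Opens) := ⟨⟨Classical.arbitrary C, trivial⟩⟩
  haveI : Nontrivial Γ(C, ⊤) := Scheme.component_nontrivial C ⊤
  let S := sepSub (k := k) hid
  letI : Field S := (isField_sepSub hid).toField
  haveI : Algebra.IsSeparable k S := ⟨fun a => by
    obtain ⟨q, hq, hq0⟩ := a.2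
    refine hq.of_dvd (minpoly.dvd k a (Subtype.ext ?_))
    exact (Polynomial.aeval_algHom_apply S.val a q).symm.trans hq0⟩
  obtain ⟨x, -, hx⟩ := nonempty_inter_closedPoints (X := C) (Z := Set.univ) Set.univ_nonempty
    isOpen_univ.isLocallyClosed
  haveI : LocallyOfFiniteType (C.fromSpecResidueField x) := (isClosed_singleton_iff_locallyOfFiniteType).1 hx
  let r := C.fromSpecResidueField x ≫ p
  haveI : IsFinite r := isFinite_iff_locallyOfFiniteType_of_jacobsonSpace.2 inferInstance
  letI := ((Scheme.ΓSpecIso (CommRingCat.of k)).inv ≫ r.appTop).hom.toAlgebra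
  haveI : Module.Finite k Γ(Spec (C.residueField x), ⊤) :=
    RingHom.Finite.comp r.finite_appTop (RingHom.Finite.of_surjective _
      (Scheme.ΓSpecIso (CommRingCat.of k)).symm.commRingCatIsoToRingEquiv.surjective)
  let ev : Γ(C, ⊤) →ₐ[k] Γ(Spec (C.residueField x), ⊤) :=
    ⟨(C.fromSpecResidueField x).appTop.hom, fun c => by
      show _ = ((Scheme.ΓSpecIso (CommRingCat.of k)).inv ≫ r.appTop).hom c
      simp only [r, Scheme.Hom.comp_appTop]
      rfl⟩
  haveI : Module.Finite k S := Module.Finite.of_injective ((ev.comp S.val).toLinearMap)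
    (ev.comp S.val).toRingHom.injective
  haveI : Algebra.FormallyEtale k S := Algebra.FormallyEtale.of_isSeparable k S
  haveI : Algebra.Etale k S := ⟨inferInstance, Algebra.FinitePresentation.of_finiteType.1 inferInstance⟩
  let q : C ⟶ Spec (CommRingCat.of S) := C.toSpecΓ ≫ Spec.map (CommRingCat.ofHom S.val.toRingHom)
  let g : Spec (CommRingCat.of S) ⟶ Spec (CommRingCat.of k) :=
    Spec.map (CommRingCat.ofHom (algebraMap k S))
  have hqg : q ≫ g = p := by
    simp only [q, g, Category.assoc, ← Spec.map_comp]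
    rw [show CommRingCat.ofHom (algebraMap k S) ≫ CommRingCat.ofHom S.val.toRingHom = φ from rfl,
      Spec.map_comp, ← Scheme.toSpecΓ_naturality_assoc]
    simp
  have hinj : Function.Injective q.appTop.hom := by
    have : q.appTop = (Scheme.ΓSpecIso (CommRingCat.of S)).hom ≫ CommRingCat.ofHom S.val.toRingHom := by
      simp [q]
    rw [this]
    exact Function.Injective.comp (g := S.val) Subtype.val_injective
      (Scheme.ΓSpecIso (CommRingCat.of S)).commRingCatIsoToRingEquiv.injective
  have hcancel : ∀ {Z : Scheme.{u}} [IsAffine Z] (a b : Spec (CommRingCat.of S) ⟶ Z), q ≫ a = q ≫ b → a = b := by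
    intro Z _ a b hab
    refine ext_of_isAffine (CommRingCat.hom_ext (RingHom.ext fun z => hinj ?_))
    have := congrArg (fun m => m.appTop.hom z) hab
    simpa only [Scheme.Hom.comp_appTop, CommRingCat.hom_comp, RingHom.comp_apply] using this
  haveI : Subsingleton (Spec (CommRingCat.of S) : Scheme.{u}) :=
    inferInstanceAs (Subsingleton (PrimeSpectrum S))
  refine ⟨_, g, q, ?_, hqg, inferInstance, inferInstanceAs (Nonempty (PrimeSpectrum S)), inferInstance, ?_⟩
  · exact (HasRingHomProperty.Spec_iff (P := @Etale)).2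
      (RingHom.etale_algebraMap.2 inferInstance)
  intro Y gY h hY hh
  haveI : IsLocallyArtinian Y := (isLocallyArtinian_iff_openCover Y.affineCover).2 fun i => by
    haveI := hY
    obtain ⟨φi, hφi⟩ := Spec.map_surjective (Y.affineCover.f i ≫ gY)
    have h1 : Etale (Spec.map φi) := hφi ▸ (inferInstance : Etale (Y.affineCover.f i ≫ gY))
    have := (HasRingHomProperty.Spec_iff (P := @Etale)).1 h1
    algebraize [φi.hom]
    refine Scheme.isLocallyArtinianScheme_Spec.2 ?_
    haveI := Algebra.FormallyUnramified.finite_of_free k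
    exact IsArtinianRing.of_finite k _
  haveI : DiscreteTopology Y := inferInstance
  obtain ⟨x0⟩ := ‹Nonempty C›
  let V : Y.Opens := ⟨{h x0}, isOpen_discrete _⟩
  have hrange : Set.range h ⊆ Set.range V.ι := by
    rw [Scheme.Opens.range_ι]
    rintro _ ⟨c, rfl⟩
    exact (isPreconnected_range h.continuous).subsingleton ⟨c, rfl⟩ ⟨x0, rfl⟩
  let h' := IsOpenImmersion.lift V.ι h hrange
  have hh' : h' ≫ V.ι = h := IsOpenImmersion.lift_fac _ _ _
  haveI : Subsingleton (V : Scheme.{u}) := Set.subsingleton_singleton.coe_sort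
  haveI : Nonempty (V : Scheme.{u}) := ⟨⟨h x0, rfl⟩⟩
  haveI : IsAffine (V : Scheme.{u}) := inferInstance
  let ψ : CommRingCat.of k ⟶ Γ((V : Scheme.{u}), ⊤) :=
    (Scheme.ΓSpecIso (CommRingCat.of k)).inv ≫ (V.ι ≫ gY).appTop
  have hψ : ψ.hom.Etale := by
    simp only [ψ, CommRingCat.hom_comp]
    exact RingHom.Etale.stableUnderComposition _ _ (RingHom.Etale.of_bijective
      (Scheme.ΓSpecIso (CommRingCat.of k)).symm.commRingCatIsoToRingEquiv.bijective)
      (HasRingHomProperty.appTop (P := @Etale) (V.ι ≫ gY) inferInstance)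
  letI := ψ.hom.toAlgebra
  haveI : Algebra.Etale k Γ((V : Scheme.{u}), ⊤) := hψ
  haveI : IsReduced Γ((V : Scheme.{u}), ⊤) := Algebra.FormallyUnramified.isReduced_of_field k _
  haveI : Subsingleton (PrimeSpectrum Γ((V : Scheme.{u}), ⊤)) :=
    (V : Scheme.{u}).isoSpec.inv.homeomorph.toEquiv.subsingleton
  have hA : IsField Γ((V : Scheme.{u}), ⊤) := by
    haveI : Nonempty (⊤ : (V : Scheme.{u}).Opens) := ⟨⟨⟨h x0, rfl⟩, trivial⟩⟩
    haveI := Scheme.component_nontrivial (V : Scheme.{u}) ⊤
    obtain ⟨m, hm⟩ := Ideal.exists_maximal Γ((V : Scheme.{u}), ⊤)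
    have : m = ⊥ := by
      rw [eq_bot_iff]
      intro z hz
      refine IsNilpotent.eq_zero (nilpotent_iff_mem_prime.2 fun J hJ => ?_)
      show z ∈ (⟨J, hJ⟩ : PrimeSpectrum _).asIdeal
      rwa [Subsingleton.elim (⟨J, hJ⟩ : PrimeSpectrum _) ⟨m, hm.isPrime⟩]
    exact Ring.isField_iff_isSimpleOrder_ideal.2 (isSimpleOrder_iff_isAtom_top.2 <| by
      subst this; exact ⟨top_ne_bot, fun J hJ => by_contra fun hne => hJ.ne (hm.1.2 J (bot_lt_iff_ne_bot.2 hne))⟩)
  letI := hA.toField
  haveI : Algebra.IsSeparable k Γ((V : Scheme.{u}), ⊤) := (Algebra.FormallyEtale.iff_isSeparable k _).1 inferInstance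
  let χ : Γ((V : Scheme.{u}), ⊤) →ₐ[k] Γ(C, ⊤) := ⟨h'.appTop.hom, fun c => by
    show ((ψ ≫ h'.appTop).hom c) = φ.hom c
    have e : h' ≫ V.ι ≫ gY = p := by rw [← Category.assoc, hh', hh]
    simp only [ψ, φ, ← e, Scheme.Hom.comp_appTop, Category.assoc]⟩
  let χS : CommRingCat.of Γ((V : Scheme.{u}), ⊤) ⟶ CommRingCat.of S :=
    CommRingCat.ofHom (χ.codRestrict S fun a => isSepElt_of_mem χ ⟨a, rfl⟩).toRingHom
  let t : Spec (CommRingCat.of S) ⟶ Y := Spec.map χS ≫ (V : Scheme.{u}).isoSpec.inv ≫ V.ι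
  have hqt : q ≫ t = h := by
    simp only [q, t, Category.assoc, ← Spec.map_comp_assoc]
    rw [show χS ≫ CommRingCat.ofHom S.val.toRingHom = h'.appTop from rfl,
      ← Scheme.toSpecΓ_naturality_assoc, Scheme.toSpecΓ_isoSpec_inv_assoc, hh']
  refine ⟨t, ⟨hcancel _ _ (by rw [← Category.assoc, hqt, hh, hqg]), hqt⟩, fun t' ⟨_, ht'⟩ => ?_⟩
  have hr : ∀ a : Spec (CommRingCat.of S) ⟶ Y, q ≫ a = h → Set.range a ⊆ Set.range V.ι := by
    intro a ha
    rintro _ ⟨z, rfl⟩
    rw [Subsingleton.elim z (q x0), ← Scheme.Hom.comp_apply, ha, Scheme.Opens.range_ι]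
    rfl
  rw [← IsOpenImmersion.lift_fac V.ι t (hr t hqt), ← IsOpenImmersion.lift_fac V.ι t' (hr t' ht')]
  congr 1
  exact hcancel _ _ ((cancel_mono V.ι).1 (by simp [ht', hqt]))

/-- The connected component of a point is open. -/
theorem isOpen_connectedComponent' (X : Scheme.{u}) [IsLocallyNoetherian X] (x : X) :
    IsOpen (connectedComponent x) := by
  rw [isOpen_iff_mem_nhds]
  intro y hy
  rw [connectedComponent_eq hy]
  obtain ⟨_, ⟨U, hU, rfl⟩, hyU, -⟩ :=
    X.isBasis_affineOpens.exists_subset_of_mem_open (Set.mem_univ y) isOpen_univ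
  haveI : IsNoetherianRing Γ(X, U) := IsLocallyNoetherian.component_noetherian ⟨U, hU⟩
  haveI : TopologicalSpace.NoetherianSpace (U : Set X) := AlgebraicGeometry.noetherianSpace_of_isAffineOpen U hU
  let bad : Set (Set (U : Set X)) := {T | T ∈ irreducibleComponents _ ∧ (⟨y, hyU⟩ : (U : Set X)) ∉ T}
  have hfin : bad.Finite :=
    TopologicalSpace.NoetherianSpace.finite_irreducibleComponents.subset fun T h => h.1
  let W : Set (U : Set X) := (⋃₀ bad)ᶜ
  have hW : IsOpen W := by
    simp only [W, Set.sUnion_eq_biUnion]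
    exact (hfin.isClosed_biUnion fun T hT => isClosed_of_mem_irreducibleComponents T hT.1).isOpen_compl
  have hsub : Subtype.val '' W ⊆ connectedComponent y := by
    rintro _ ⟨z, hz, rfl⟩
    have hzT : irreducibleComponent z ∈ irreducibleComponents _ := irreducibleComponent_mem_irreducibleComponents z
    have hyT : (⟨y, hyU⟩ : (U : Set X)) ∈ irreducibleComponent z := by_contra fun h =>
      hz ⟨_, ⟨hzT, h⟩, mem_irreducibleComponent⟩
    exact (hzT.1.image Subtype.val continuous_subtype_val.continuousOn).isConnected.isPreconnected.subset_connectedComponent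
      ⟨_, hyT, rfl⟩ ⟨z, mem_irreducibleComponent, rfl⟩
  refine Filter.mem_of_superset ((U.isOpen.isOpenMap_subtype_val W hW).mem_nhds ⟨⟨y, hyU⟩, ?_, rfl⟩) hsub
  rintro ⟨T, hT, hyT⟩
  exact hT.2 hyT

set_option backward.isDefEq.respectTransparency.types false in
/-- For a field k and a k-scheme X locally of finite type there are an étale k-scheme P and a k-morphism
q : X → P such that every k-morphism h : X → Y to an étale k-scheme Y equals t ∘ q for exactly one
k-morphism t : P → Y; moreover q is flat and surjective, and for each point x of X the fibre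
q⁻¹(q(x)), as a subset of X, is the connected component of x. (Étale means locally of finite
presentation with étale ring maps on affine pieces; no quasi-compactness is asked, so P may have
infinitely many points.) -/
theorem result (k : Type u) [Field k]
    (X : Scheme.{u}) (f : X ⟶ Spec (CommRingCat.of k)) [LocallyOfFiniteType f] :
    ∃ (P : Scheme.{u}) (g : P ⟶ Spec (CommRingCat.of k)) (q : X ⟶ P), Etale g ∧ q ≫ g = f ∧
      (∀ (Y : Scheme.{u}) (gY : Y ⟶ Spec (CommRingCat.of k)) (h : X ⟶ Y), Etale gY → h ≫ gY = f →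
        ∃! t : P ⟶ Y, t ≫ gY = g ∧ q ≫ t = h) ∧
      Flat q ∧ Surjective q ∧
      ∀ x : ↥X, (fun x' : ↥X => q x') ⁻¹' {q x} = connectedComponent x := by
  haveI : IsLocallyNoetherian X := LocallyOfFiniteType.isLocallyNoetherian f
  let ι := ConnectedComponents X
  let U : ι → X.Opens := fun i => ⟨ConnectedComponents.mk ⁻¹' {i}, by
    obtain ⟨x, rfl⟩ := ConnectedComponents.surjective_coe i
    rw [connectedComponents_preimage_singleton]
    exact isOpen_connectedComponent' X x⟩
  haveI : ∀ i, ConnectedSpace ↥(U i : Scheme.{u}) := fun i => by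
    obtain ⟨x, rfl⟩ := ConnectedComponents.surjective_coe i
    refine isConnected_iff_connectedSpace.1 ?_
    show _root_.IsConnected (ConnectedComponents.mk ⁻¹' {_})
    rw [connectedComponents_preimage_singleton]
    exact isConnected_connectedComponent
  choose P g q hg hqg hsub hne hflat huniv using fun i => connected_case k (U i) ((U i).ι ≫ f)
  have hU : TopologicalSpace.IsOpenCover U := .mk (eq_top_iff.2 fun x _ =>
    TopologicalSpace.Opens.mem_iSup.2 ⟨ConnectedComponents.mk x, rfl⟩)
  let 𝒰 := X.openCoverOfIsOpenCover U hU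
  have hdis : ∀ i j, i ≠ j → Disjoint (U i : Set X) (U j) := fun i j hij =>
    Set.disjoint_left.2 fun x hi hj => hij ((Eq.symm hi).trans hj)
  let m : ∀ i, (U i : Scheme.{u}) ⟶ ∐ P := fun i => q i ≫ Sigma.ι P i
  let Q : X ⟶ ∐ P := 𝒰.glueMorphisms m (by
    show ∀ i j, pullback.fst (U i).ι (U j).ι ≫ m i = pullback.snd (U i).ι (U j).ι ≫ m j
    intro i j
    by_cases hij : i = j
    · subst hij
      rw [cancel_mono (U i).ι |>.1 pullback.condition]
    · haveI : IsEmpty ↥(pullback (U i).ι (U j).ι : Scheme.{u}) := ⟨fun z =>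
        Set.disjoint_left.1 (hdis i j hij) (pullback.fst (U i).ι (U j).ι z).2 (by
          have := congrArg (fun w => w.base z) (pullback.condition (f := (U i).ι) (g := (U j).ι))
          have e : (pullback.fst (U i).ι (U j).ι z).1 = (pullback.snd (U i).ι (U j).ι z).1 := this
          exact e ▸ (pullback.snd (U i).ι (U j).ι z).2)⟩
      exact isInitialOfIsEmpty.hom_ext _ _)
  have hQ : ∀ i, (U i).ι ≫ Q = q i ≫ Sigma.ι P i := fun i => 𝒰.ι_glueMorphisms m _ i
  refine ⟨∐ P, Sigma.desc g, Q, ?_, 𝒰.hom_ext _ _ fun (i : ι) => ?_, ?_, ?_, ?_, ?_⟩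
  · exact IsZariskiLocalAtSource.sigmaDesc hg
  · show (U i).ι ≫ _ = _
    rw [← Category.assoc, hQ, Category.assoc, Sigma.ι_desc, hqg]
    rfl
  · intro Y gY h hY hh
    choose t ht ht' using fun i => huniv i Y gY ((U i).ι ≫ h) hY (by rw [Category.assoc, hh])
    refine ⟨Sigma.desc t, ⟨Sigma.hom_ext _ _ fun i => ?_, 𝒰.hom_ext _ _ fun (i : ι) => ?_⟩, ?_⟩
    · rw [Sigma.ι_desc_assoc, Sigma.ι_desc, (ht i).1]
    · show (U i).ι ≫ _ = (U i).ι ≫ _
      rw [← Category.assoc, hQ, Category.assoc, Sigma.ι_desc, (ht i).2]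
    · rintro t' ⟨h1, h2⟩
      refine Sigma.hom_ext _ _ fun i => ?_
      rw [Sigma.ι_desc]
      exact ht' i _ ⟨by rw [Category.assoc, h1, Sigma.ι_desc],
        by rw [← Category.assoc, ← hQ, Category.assoc, h2]⟩
  · refine IsZariskiLocalAtSource.of_openCover 𝒰 fun (i : ι) => ?_
    show Flat ((U i).ι ≫ Q)
    rw [hQ]
    haveI := hflat i
    exact inferInstanceAs (Flat (q i ≫ Sigma.ι P i))
  · refine ⟨fun z => ?_⟩
    obtain ⟨⟨i, w⟩, rfl⟩ := (sigmaMk P).surjective z
    obtain ⟨c⟩ := (inferInstance : Nonempty ↥(U i : Scheme.{u}))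
    refine ⟨(U i).ι c, ?_⟩
    rw [sigmaMk_mk, ← Scheme.Hom.comp_apply, hQ, Scheme.Hom.comp_apply]
    haveI := hsub i
    rw [Subsingleton.elim (q i c) w]
  · intro x
    have hval : ∀ y : X, Q y = Sigma.ι P (ConnectedComponents.mk y)
        (q (ConnectedComponents.mk y) (⟨y, rfl⟩ : (U (ConnectedComponents.mk y) : Scheme.{u}))) := fun y =>
      congrArg (fun w => w.base (⟨y, rfl⟩ : (U (ConnectedComponents.mk y) : Scheme.{u}))) (hQ _)
    rw [← connectedComponents_preimage_singleton]
    ext y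
    show Q y = Q x ↔ ConnectedComponents.mk y = ConnectedComponents.mk x
    constructor
    · intro h
      rw [hval, hval] at h
      by_contra hne'
      exact Set.disjoint_left.1 (TopologicalSpace.Opens.coe_disjoint.2 (disjoint_opensRange_sigmaι P _ _ hne'))
        ⟨_, rfl⟩ ⟨_, h.symm⟩
    · intro h
      rw [hval, hval]
      have : ∀ i j (a : P i) (b : P j), i = j → Sigma.ι P i a = Sigma.ι P j b := by
        rintro i j a b rfl
        haveI := hsub i
        rw [Subsingleton.elim a b]
      exact this _ _ _ _ h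

end Groth.Agent.S16678
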