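import Groth.Statements.S16680
import Groth.Agent.Lib.AVEmb92.Core
import Mathlib.RingTheory.KrullDimension.Polynomial
import Mathlib.RingTheory.Ideal.KrullsHeightTheorem
import Mathlib.RingTheory.Jacobson.Ring
import Mathlib.AlgebraicGeometry.Geometrically.Integral

set_option autoImplicit false
universe u
open CategoryTheory CategoryTheory.Limits MonoidalCategory CartesianMonoidalCategory MonObj GrpObj AlgebraicGeometry
open AbVar

namespace Groth.Agent.S16680

open Groth.Agent.Lib.AVEmb92 Sq Tangent Chart Core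

/-- Fix a field k and a g-dimensional abelian variety X over k (a proper, geometrically integral k-group
scheme whose underlying space has Krull dimension g). Then X admits no closed immersion into
projective (2g − 1)-space over k: if f : X → P^n_k is a closed immersion compatible with the
structure morphisms to Spec k, then 2g ≤ n. -/
theorem result (k : Type u) [Field k]
    (X : Over (Spec (CommRingCat.of k))) [GrpObj X] [IsProper X.hom] [GeometricallyIntegral X.hom]
    (g : ℕ) (hg : topologicalKrullDim ↥X.left = g)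
    (n : ℕ) (f : X.left ⟶ CohB1.ProjSpace n k) [IsClosedImmersion f]
    (hf : f ≫ CohB1.ProjSpace.toSpec n k = X.hom) :
    2 * g ≤ n := by
  classical
  let f' : X.left ⟶ Proj (CohB1.polyGrading n k) := f
  haveI : IsClosedImmersion f' := ‹IsClosedImmersion f›
  have hf' : f' ≫ Proj.toSpecZero (CohB1.polyGrading n k) ≫
      Spec.map (CommRingCat.ofHom (algebraMap k (CohB1.polyGrading n k 0))) = X.hom := hf
  haveI : IsIntegral X.left := GeometricallyIntegral.isIntegral_of_subsingleton X.hom
  haveI : IsLocallyNoetherian X.left := LocallyOfFiniteType.isLocallyNoetherian X.hom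
  obtain ⟨F⟩ := exists_frame X g hg
  by_contra hcon
  rw [not_le] at hcon
  -- the chart at the origin
  let e : Spec (CommRingCat.of k) ⟶ X.left := (η[X] : 𝟙_ _ ⟶ X).left
  have he : e ≫ X.hom = 𝟙 _ := Over.w (η[X] : 𝟙_ _ ⟶ X)
  let p : X.left := e (IsLocalRing.closedPoint k)
  obtain ⟨i, φe, hφe⟩ := Chart.exists_lift (e ≫ f')
  let D : (Proj (CohB1.polyGrading n k)).Opens := Proj.basicOpen (CohB1.polyGrading n k) (MvPolynomial.X i)
  have hD : D = (Chart.ι (k := k) i).opensRange :=
    (Proj.opensRange_awayι _ _ (Chart.X_mem i) one_pos).symm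
  have hpD : f' p ∈ D := by
    rw [hD]
    exact ⟨Spec.map (CommRingCat.ofHom φe) (IsLocalRing.closedPoint k),
      congrArg (fun w : Spec (CommRingCat.of k) ⟶ Proj (CohB1.polyGrading n k) =>
        w (IsLocalRing.closedPoint k)) hφe⟩
  let U : X.left.Opens := f' ⁻¹ᵁ D
  have hpU : p ∈ U := hpD
  have hU : IsAffineOpen U := (Proj.isAffineOpen_basicOpen _ _ (Chart.X_mem i) one_pos).preimage f'
  haveI : Nonempty U := ⟨⟨p, hpU⟩⟩
  let R : Type u := Γ(X.left, U)
  obtain ⟨ρ, hρ⟩ := Spec.map_surjective (hU.fromSpec ≫ X.hom)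
  let x₀ : SP (A := R) ρ.hom ⟶ X := Over.homMk hU.fromSpec hρ.symm
  obtain ⟨Φ₀, hΦ₀⟩ := exists_lifted (F := F) (f := f') (x := x₀) (m := i) (by
    rintro _ ⟨q, rfl⟩
    have : hU.fromSpec q ∈ (U : Set X.left) := hU.range_fromSpec ▸ ⟨q, rfl⟩
    exact this)
  -- the chart is a closed immersion
  let φ₀ : AW k n i →+* R := (pr g).comp Φ₀
  have hφ₀ : IsLift (hU.fromSpec ≫ f') i φ₀ := hΦ₀.fst
  have hsurj : Function.Surjective φ₀ := by
    have hpb : IsPullback (Spec.map (CommRingCat.ofHom φ₀)) hU.fromSpec (Chart.ι i) f' := by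
      refine IsOpenImmersion.isPullback _ _ _ _ hφ₀.symm ?_
      rw [← hD]
      exact hU.opensRange_fromSpec.symm
    have hc : IsClosedImmersion (Spec.map (CommRingCat.ofHom φ₀)) :=
      MorphismProperty.of_isPullback (P := @IsClosedImmersion) hpb.flip ‹IsClosedImmersion f'›
    have h1 := (IsClosedImmersion.isAffine_surjective_of_isAffine
      (f := Spec.map (CommRingCat.ofHom φ₀))).2
    intro r
    obtain ⟨a, ha⟩ := h1 ((Scheme.ΓSpecIso (CommRingCat.of R)).inv.hom r)
    refine ⟨(Scheme.ΓSpecIso (CommRingCat.of (AW k n i))).hom.hom a, ?_⟩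
    have h2 := congrArg (fun w => w.hom a) (Scheme.ΓSpecIso_naturality (CommRingCat.ofHom φ₀))
    simp only [CommRingCat.hom_comp, RingHom.comp_apply, CommRingCat.hom_ofHom] at h2
    refine h2.symm.trans ?_
    rw [ha]
    exact RingHom.congr_fun (congrArg CommRingCat.Hom.hom (Scheme.ΓSpecIso (CommRingCat.of R)).inv_hom_id) r
  have hcst : ∀ c, φ₀ (cst i c) = ρ.hom c := fun c => by
    change (Φ₀ (cst i c)).fst = _
    rw [hΦ₀.cst_eq hf']
    rfl
  letI : Algebra k R := ρ.hom.toAlgebra
  haveI : Algebra.FiniteType k R :=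
    Algebra.FiniteType.of_surjective (MvPolynomial.aeval fun l => φ₀ (co i l)) fun r => by
      obtain ⟨z, rfl⟩ := hsurj r
      obtain ⟨P, rfl⟩ := ev_surjective i z
      refine ⟨P, ?_⟩
      rw [MvPolynomial.aeval_def, ev, MvPolynomial.coe_eval₂Hom, MvPolynomial.eval₂_comp_left]
      congr 1
      exact RingHom.ext fun c => (hcst c).symm
  haveI : IsNoetherianRing R := Algebra.FiniteType.isNoetherianRing k R
  -- dimension
  have hp : IsClosed ({p} : Set X.left) := by
    haveI : IsClosedImmersion (e ≫ X.hom) := he ▸ inferInstance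
    haveI := IsClosedImmersion.of_comp e X.hom
    have hr := e.isClosedEmbedding.isClosed_range
    have hs : Set.range e = {p} := by
      ext y
      constructor
      · rintro ⟨z, rfl⟩
        rw [Subsingleton.elim z (IsLocalRing.closedPoint k)]
        rfl
      · rintro rfl
        exact ⟨_, rfl⟩
    rwa [hs] at hr
  have hdimR : (g : WithBot ℕ∞) ≤ ringKrullDim R := by
    rw [← (Groth.Agent.S0354.result k X p hp).trans hg]
    letI := TopCat.Presheaf.algebra_section_stalk X.left.presheaf ⟨p, hpU⟩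
    haveI := hU.isLocalization_stalk ⟨p, hpU⟩
    rw [IsLocalization.AtPrime.ringKrullDim_eq_height (hU.primeIdealOf ⟨p, hpU⟩).asIdeal
      (X.left.presheaf.stalk p)]
    exact Ideal.height_le_ringKrullDim_of_ne_top (hU.primeIdealOf ⟨p, hpU⟩).isPrime.ne_top
  obtain ⟨M, hM, hMn⟩ : ∃ M : Ideal (MvPolynomial (Fin g) R), M.IsMaximal ∧ (n : ℕ∞) < M.height := by
    by_contra h
    push Not at h
    have h1 : ringKrullDim (MvPolynomial (Fin g) R) ≤ (n : WithBot ℕ∞) :=
      (ringKrullDim_le_iff_isMaximal_height_le _).2 fun m hm => by exact_mod_cast h m hm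
    rw [MvPolynomial.ringKrullDim_of_isNoetherianRing, Nat.card_fin] at h1
    have h2 : ((g + g : ℕ) : WithBot ℕ∞) ≤ (n : WithBot ℕ∞) := by
      push_cast
      exact (add_le_add_left hdimR _).trans h1
    have : g + g ≤ n := by exact_mod_cast h2
    omega
  let T : Type u := MvPolynomial (Fin g) R
  let G : Fin (n + 1) → MvPolynomial (Fin g) R := fun l =>
    MvPolynomial.C (Φ₀ (co i l)).fst + ∑ j, MvPolynomial.X j * MvPolynomial.C ((Φ₀ (co i l)).snd j)
  letI : Field (MvPolynomial (Fin g) R ⧸ M) := Ideal.Quotient.field M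
  haveI : Algebra.FiniteType k (MvPolynomial (Fin g) R) :=
    Algebra.FiniteType.trans (S := R) inferInstance inferInstance
  haveI : Algebra.FiniteType k (MvPolynomial (Fin g) R ⧸ M) :=
    Algebra.FiniteType.of_surjective (Ideal.Quotient.mkₐ k M) (Ideal.Quotient.mkₐ_surjective k M)
  haveI : Module.Finite k (MvPolynomial (Fin g) R ⧸ M) :=
    finite_of_finite_type_of_isJacobsonRing k _
  let q : Fin (n + 1) → MvPolynomial (Fin g) R := fun l =>
    Polynomial.aeval (G l) (minpoly k (Ideal.Quotient.mkₐ k M (G l)))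
  have hqM : ∀ l, q l ∈ M := fun l => by
    rw [← Ideal.Quotient.eq_zero_iff_mem, ← Ideal.Quotient.mkₐ_eq_mk k M]
    change (Ideal.Quotient.mkₐ k M) _ = 0
    rw [← Polynomial.aeval_algHom_apply, minpoly.aeval]
  let s : Finset (MvPolynomial (Fin g) R) := (Finset.univ.erase i).image q
  have hs : (s.card : ℕ∞) ≤ n := by
    have : s.card ≤ n := Finset.card_image_le.trans (by simp)
    exact_mod_cast this
  have hsM : Ideal.span (s : Set (MvPolynomial (Fin g) R)) ≤ M := by
    rw [Ideal.span_le]
    intro z hz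
    obtain ⟨l, -, rfl⟩ := Finset.mem_image.1 (Finset.mem_coe.1 hz)
    exact hqM l
  haveI := hM.isPrime
  obtain ⟨Q, hQ, hQM⟩ := Ideal.exists_minimalPrimes_le hsM
  have hQne : Q ≠ M := by
    rintro rfl
    exact absurd (((Ideal.height_le_card_of_mem_minimalPrimes_span_finset hQ).trans hs).trans_lt hMn)
      (lt_irrefl _)
  haveI hQp : Q.IsPrime := hQ.1.1
  let K : Type u := FractionRing (MvPolynomial (Fin g) R ⧸ Q)
  let π : MvPolynomial (Fin g) R →+* K :=
    (algebraMap (MvPolynomial (Fin g) R ⧸ Q) K).comp (Ideal.Quotient.mk Q)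
  let χ : R →+* K := π.comp MvPolynomial.C
  let σ : k →+* K := χ.comp ρ.hom
  let x : SP σ ⟶ X := Tangent.mk χ rfl ≫ x₀
  have hx : Lifted F f' x i ((Sq.map χ).comp Φ₀) := hΦ₀.map χ rfl
  have hπσ : ∀ l, σ.IsIntegralElem (((Sq.map χ).comp Φ₀ (co i l)).fst +
      ∑ j, π (MvPolynomial.X j) * (((Sq.map χ).comp Φ₀ (co i l)).snd j)) := fun l => by
    have eG : π (G l) = ((Sq.map χ).comp Φ₀ (co i l)).fst +
        ∑ j, π (MvPolynomial.X j) * (((Sq.map χ).comp Φ₀ (co i l)).snd j) := by
      simp [G, χ, map_sum]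
    rw [← eG]
    by_cases hl : l = i
    · subst hl
      have e1 : G l = 1 := by simp [G, co_self]
      rw [e1, map_one, ← map_one σ]
      exact σ.isIntegralElem_map
    · refine ⟨minpoly k (Ideal.Quotient.mkₐ k M (G l)), minpoly.monic (IsIntegral.of_finite k _), ?_⟩
      have hq : q l ∈ Q := hQ.1.2 (Ideal.subset_span (Finset.mem_coe.2
        (Finset.mem_image.2 ⟨l, Finset.mem_erase.2 ⟨hl, Finset.mem_univ _⟩, rfl⟩)))
      have h0 : π (q l) = 0 := by
        simp [π, Ideal.Quotient.eq_zero_iff_mem.2 hq]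
      rw [← h0]
      change Polynomial.eval₂ σ _ _ = π (Polynomial.eval₂ _ _ _)
      rw [Polynomial.hom_eval₂]
      rfl
  obtain ⟨hy, hν⟩ := isIntegralElem_all hf' hx (fun j => π (MvPolynomial.X j)) hπσ
  letI : Algebra k K := σ.toAlgebra
  have hall : ∀ t, IsIntegral k (π t) := by
    intro t
    induction t using MvPolynomial.induction_on with
    | C r =>
      obtain ⟨z, rfl⟩ := hsurj r
      obtain ⟨P, rfl⟩ := ev_surjective i z
      induction P using MvPolynomial.induction_on with
      | C c =>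
        rw [ev, MvPolynomial.eval₂Hom_C, hcst]
        exact isIntegral_algebraMap (R := k) (A := K) (x := c)
      | add a b ha hb => simpa only [map_add] using ha.add hb
      | mul_X a l ha =>
        rw [map_mul, map_mul, map_mul, map_mul]
        refine ha.mul ?_
        rw [ev, MvPolynomial.eval₂Hom_X']
        have := hy l
        show σ.IsIntegralElem _
        simpa [χ, φ₀, pr] using this
    | add a b ha hb => simpa only [map_add] using ha.add hb
    | mul_X a j ha =>
      rw [map_mul]
      exact ha.mul (hν j)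
  haveI : Algebra.IsIntegral k (MvPolynomial (Fin g) R ⧸ Q) := ⟨fun z => by
    obtain ⟨t, rfl⟩ := Ideal.Quotient.mk_surjective z
    let α : (MvPolynomial (Fin g) R ⧸ Q) →ₐ[k] K :=
      { algebraMap (MvPolynomial (Fin g) R ⧸ Q) K with commutes' := fun c => rfl }
    exact (isIntegral_algHom_iff α (IsFractionRing.injective (MvPolynomial (Fin g) R ⧸ Q) K)).1 (hall t)⟩
  have hfield : IsField (MvPolynomial (Fin g) R ⧸ Q) :=
    isField_of_isIntegral_of_isField' (Field.toIsField k)
  exact hQne (((Ideal.Quotient.maximal_ideal_iff_isField_quotient Q).2 hfield).eq_of_le hM.ne_top hQM)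

end Groth.Agent.S16680
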