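import Groth.Statements.S16687
import Groth.Agent.H4.PicZero.Primitive
-- import your own Groth.Agent.* helpers here

set_option autoImplicit false
universe u
open CategoryTheory CategoryTheory.Limits MonoidalCategory CartesianMonoidalCategory MonObj GrpObj AlgebraicGeometry
open AbVar

namespace Groth.Agent.S16687

/-- Let X be an abelian variety over a field k (a proper, geometrically integral k-group scheme) with
group law m : X ×_k X → X and projections p₁, p₂, let L be an invertible O_X-module, and let n ≥ 2
be an integer such that n^*L ≅ L^{⊗ n}, where n : X → X is multiplication by n (the n-th power of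
the identity in the group of endomorphisms). Then the class of L lies in Pic⁰_{X/k}, i.e. the
Mumford module of L is trivial: m^*L ≅ p₁^*L ⊗ p₂^*L (existence of an isomorphism of modules on X
×_k X). (The published statement allows any integer n other than 0 and 1, negative n included; this
row takes n a natural number with n ≥ 2. The converse implication also holds; this row is the
direction from one such n.) -/
theorem result (k : Type u) [Field k]
    (X : Over (Spec (CommRingCat.of k))) [GrpObj X] [IsProper X.hom] [GeometricallyIntegral X.hom]
    (L : X.left.Modules) (hL : PicF.IsInvertible L) (n : ℕ) (hn : 2 ≤ n)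
    (h : Nonempty ((Scheme.Modules.pullback (𝟙 X ^ n).left).obj L ≅ CohB1.tensorPow L n)) :
    Nonempty ((Scheme.Modules.pullback μ[X].left).obj L ≅
      CohB1.tensorMod ((Scheme.Modules.pullback (fst X X).left).obj L)
        ((Scheme.Modules.pullback (snd X X).left).obj L)) := by
  letI : ∀ Y : Scheme.{u}, PicGrp.Law Y := fun Y => Groth.Agent.Lib.TensorMod.Invertible.law Y
  let c := PicGrp.cls L hL
  have hc := (Groth.Agent.H3.PicCalc.iso_iff
    (Groth.Agent.H3.PicCalc.cl_pullback ((𝟙 X : X ⟶ X) ^ n) (a := c) rfl)
    (Groth.Agent.H4.PicZero.cl_tensorPow (a := c) rfl n)).1 h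
  have hm : μ[X] = fst X X * snd X X := MonObj.mul_eq_mul (M := X)
  exact (Groth.Agent.H3.PicCalc.iso_iff (Groth.Agent.H3.PicCalc.cl_pullback μ[X] (a := c) rfl)
    (Groth.Agent.H3.PicCalc.cl_tensor (Groth.Agent.H3.PicCalc.cl_pullback (fst X X) (a := c) rfl)
      (Groth.Agent.H3.PicCalc.cl_pullback (snd X X) (a := c) rfl))).2
    (by rw [hm]; exact Groth.Agent.H4.PicZero.mul_eq_of_pow c hn hc)

end Groth.Agent.S16687
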