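import Groth.Statements.S1669
import Groth.Agent.H2.Rigid.GeomRegPt

set_option autoImplicit false
universe u
open CategoryTheory CategoryTheory.Limits AlgebraicGeometry
open Variety

namespace Groth.Agent.S1669

/-- Let X be a locally Noetherian scheme over k such that X_{k'} has regular local rings for every
finite purely inseparable extension k' of k. Then X is geometrically regular over k at every point
(its base change to any finitely generated field extension has regular local rings). -/
theorem result (k : Type u) [Field k] (X : Scheme.{u}) [X.Over (Spec (CommRingCat.of k))] [IsLocallyNoetherian X]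
    (h : ∀ (k' : Type u) [Field k'] [Algebra k k'] [FiniteDimensional k k'] [IsPurelyInseparable k k']
      (x' : Curv2.bc k X k'), IsRegularLocalRing ((Curv2.bc k X k').presheaf.stalk x'))
    (x : X) : Curv2.IsGeomRegularAt k X x := by
  exact Groth.Agent.H2.Rigid.GeomRegPt.isGeomRegularAt_of_geometricallyRegular k X x
    (Groth.Agent.H2.Rigid.GeomRegPt.geometricallyRegular_of_pi k X x fun k' _ _ _ _ x' _ => h k' x')

end Groth.Agent.S1669
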