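import Groth.Statements.S16710
import Groth.Agent.Lib.Nakai.Effective

set_option autoImplicit false
universe u
open CategoryTheory CategoryTheory.Limits AlgebraicGeometry TopologicalSpace
open Variety

namespace Groth.Agent.S16710

/-- Let X be a proper scheme over a field k and L an invertible O_X-module. Then L is ample if and only
if (i) L is strictly nef, meaning χ(O_C ⊗ L) - χ(O_C) > 0 for every integral closed subscheme C ⊆ X
of dimension one, and (ii) L is semiample, meaning some positive tensor power of L is generated by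
its global sections (is a quotient of a free O_X-module). -/
theorem result (k : Type u) [Field k] (X : Scheme.{u})
    [X.Over (Spec (CommRingCat.of k))] [IsProper (X ↘ (Spec (CommRingCat.of k)))]
    (L : X.Modules) (hL : PicF.IsInvertible L) :
    CohB1.IsAmple L ↔
      ((∀ C : X.IdealSheafData, IsIntegral C.subscheme →
          topologicalKrullDim (C.support : Set X) = 1 →
            0 < Curv2.euler k X (CohB1.tensorMod (ClSub.quotMod C) L) - Curv2.euler k X (ClSub.quotMod C)) ∧
        ∃ m : ℕ, Curv2.IsGloballyGenerated (CohB1.tensorPow L (m + 1))) := by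
  haveI := Lib.Curves.GlobalSections.isNoetherian_of_proper k X
  obtain ⟨N, hN⟩ := Lib.Snapper.DimBound.exists_dim_bound k X
  constructor
  · intro hA
    refine ⟨fun C hC hCd => ?_, ?_⟩
    · haveI := hC
      obtain ⟨y, rfl, hs⟩ := Lib.Nakai.Criterion.exists_eq_ptIdeal C
      have hy : Lib.Nakai.Main.pd k y = 1 :=
        Lib.Nakai.Criterion.pdim_eq_of_dim (k := k) (by rw [← hs]; exact hCd)
      obtain ⟨P, hP⟩ := Lib.Nakai.Criterion.exists_poly (k := k) hL (IntMult.ptIdeal y) 1
      have h := (Lib.Nakai.Criterion.isAmple_iff (k := k) hL).mp hA (IntMult.ptIdeal y) 1 one_pos hCd P hP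
      rw [Lib.Nakai.Criterion.coeff_eq_degOn hN hL y hy hP, Int.cast_pos,
        Lib.Nakai.Effective.degOn_curve hN L hy] at h
      exact h
    · obtain ⟨n, hn⟩ := Lib.Ample.GG.eventually_genAt_twist hA (Coh.structureModule X)
        (Lib.Snapper.Twist.isCoh_structureModule X)
      exact ⟨n, Lib.Ample.GG.isGloballyGenerated_of_genAt fun x =>
        (hn (n + 1) n.le_succ x).of_iso (Lib.TensorMod.Basic.leftUnit _)⟩
  · rintro ⟨hnef, m, hg⟩
    exact Lib.Nakai.Main.isAmple_of_effective (k := k) hN hL
      (fun y hy => Lib.Nakai.Effective.degOn_curve_pos (k := k) hN hnef hy)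
      fun y _ => (Lib.Nakai.Effective.exists_section_of_gg hL hg y).elim
        fun s hs => ⟨m + 1, s, m.succ_pos, hs⟩

end Groth.Agent.S16710
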