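import Groth.Statements.S16715
import Groth.Agent.Lib.Ferrand.BaseChange

set_option autoImplicit false
universe u
open FlatMor

namespace Groth.Agent.S16715

open CategoryTheory CategoryTheory.Limits AlgebraicGeometry in
/-- Base change of pushouts along a closed immersion and an affine morphism. Let i : X₀ → X be a closed
immersion and f₀ : X₀ → Y₀ an affine morphism of schemes, and let Y together with an affine morphism
f : X → Y and a closed immersion j : Y₀ → Y be a pushout of i and f₀ in the category of schemes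
whose square is also cartesian. Let Y be a scheme over S such that X₀ is flat over S, and let S' → S
be any morphism. Then the base-changed square over S' is again a pushout in the category of schemes:
Y ×_S S' is the pushout of X ×_S S' and Y₀ ×_S S' along X₀ ×_S S'. -/
theorem result {X₀ X Y₀ Y S S' : Scheme.{u}}
    (i : X₀ ⟶ X) [IsClosedImmersion i] (f₀ : X₀ ⟶ Y₀) [IsAffineHom f₀] (f : X ⟶ Y) [IsAffineHom f]
    (j : Y₀ ⟶ Y) [IsClosedImmersion j] (hpo : IsPushout i f₀ f j) (hpb : IsPullback i f₀ f j)
    (q : Y ⟶ S) [Flat ((i ≫ f) ≫ q)] (g : S' ⟶ S) :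
    IsPushout
      (pullback.map ((i ≫ f) ≫ q) g (f ≫ q) g i (𝟙 S') (𝟙 S)
        ((Category.comp_id _).trans (Category.assoc i f q))
        ((Category.comp_id g).trans (Category.id_comp g).symm))
      (pullback.map ((i ≫ f) ≫ q) g (j ≫ q) g f₀ (𝟙 S') (𝟙 S)
        ((Category.comp_id _).trans ((congrArg (fun t => t ≫ q) hpo.w).trans (Category.assoc f₀ j q)))
        ((Category.comp_id g).trans (Category.id_comp g).symm))
      (pullback.map (f ≫ q) g q g f (𝟙 S') (𝟙 S)
        (Category.comp_id _) ((Category.comp_id g).trans (Category.id_comp g).symm))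
      (pullback.map (j ≫ q) g q g j (𝟙 S') (𝟙 S)
        (Category.comp_id _) ((Category.comp_id g).trans (Category.id_comp g).symm)) := by
  have hcov : ∀ y : Y₀, ∃ k : Lib.Ferrand.AffPair i f₀, y ∈ k.V := by
    intro y
    obtain ⟨O, hO, hyO, -⟩ := exists_isAffineOpen_mem_and_subset (x := j y) (U := ⊤) trivial
    refine ⟨⟨f ⁻¹ᵁ O, j ⁻¹ᵁ O, hO.preimage f, hO.preimage j, ?_⟩, hyO⟩
    rw [← Scheme.Hom.comp_preimage, ← Scheme.Hom.comp_preimage, hpo.w]
  have hg := Lib.Ferrand.GluedBy.of_isPushout hcov hpo
  have key : ∀ {A B : Scheme.{u}} (k : A ⟶ B) (sA : A ⟶ S) (sB : B ⟶ S) (hk : k ≫ sB = sA) e₁ e₂,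
      IsPullback (pullback.fst sA g) (pullback.map sA g sB g k (𝟙 S') (𝟙 S) e₁ e₂) k
        (pullback.fst sB g) := by
    intro A B k sA sB hk e₁ e₂
    refine IsPullback.of_bot ?_ (pullback.lift_fst _ _ _).symm (IsPullback.of_hasPullback sB g)
    rw [hk, pullback.lift_snd, Category.comp_id]
    exact IsPullback.of_hasPullback sA g
  refine hg.baseChange q g (IsPullback.of_hasPullback q g) (key f _ _ rfl _ _) (key j _ _ rfl _ _)
    (key i _ _ (Category.assoc i f q).symm _ _) (pullback.lift_fst _ _ _) ?_
    (.inr (by rw [← Category.assoc]; infer_instance))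
  apply pullback.hom_ext
  · simp only [pullback.map, Category.assoc, limit.lift_π, PullbackCone.mk_π_app, pullback.lift_fst, pullback.lift_fst_assoc, hpo.w]
  · simp only [pullback.map, Category.assoc, pullback.lift_snd, pullback.lift_snd_assoc, Category.comp_id]

end Groth.Agent.S16715
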