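import Groth.Statements.S16717
import Groth.Agent.H66.LinRed
import Mathlib.Algebra.Module.Shrink
-- import your own Groth.Agent.* helpers here

set_option autoImplicit false
universe u v
open HopfRep

namespace Groth.Agent.S16717

open TensorProduct in
/-- Equivalence of the exactness of invariants with complete reducibility of finite-dimensional
representations. Let k be a field and A a finitely generated commutative Hopf algebra over k (the
coordinate ring of an affine algebraic group G). Then every finite-dimensional A-comodule is
semisimple if and only if taking fixed vectors is exact, i.e. for every surjective comodule map φ :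
V → W between A-comodules (of any dimension; φ k-linear with (φ ⊗ id) ∘ ρ_V = ρ_W ∘ φ) every fixed
vector of W is the image of a fixed vector of V. -/
theorem result (k : Type u) [Field k] (A : Type v)
    [CommRing A] [HopfAlgebra k A] (hA : Algebra.FiniteType k A) :
    HopfRep.IsLinearlyReductive k A ↔
      ∀ (V W : Type v) [AddCommGroup V] [Module k V] [HopfRep.Comod k A V]
        [AddCommGroup W] [Module k W] [HopfRep.Comod k A W] (φ : V →ₗ[k] W),
        LinearMap.rTensor A φ ∘ₗ HopfRep.Comod.coact (k := k) (A := A) (V := V) =
            HopfRep.Comod.coact (k := k) (A := A) (V := W) ∘ₗ φ →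
          Function.Surjective φ →
            ∀ w ∈ HopfRep.fixedPts k A W, ∃ v ∈ HopfRep.fixedPts k A V, φ v = w := by
  constructor
  · intro hG V W _ _ _ _ _ _ φ hφ hsurj w hw
    exact Lib.Comod.Reynolds.exists_fixedPts_lift hG hφ.symm hw (hsurj w)
  · intro h
    refine H66.LinRed.isLinearlyReductive_of_criterion fun V _ _ _ _ π hπ hπ1 => ?_
    haveI : Small.{v} k := small_of_injective (Lib.Comod.Reynolds.algebraMap_injective (k := k) (A := A))
    let e : k ≃ₗ[k] Shrink.{v} k := (Shrink.linearEquiv k k).symm
    letI := HopfRep.Comod.trivial k A (Shrink.{v} k)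
    have h1 : LinearMap.rTensor A (e.toLinearMap ∘ₗ π) ∘ₗ HopfRep.Comod.coact (k := k) (A := A) (V := V) =
        HopfRep.Comod.coact (k := k) (A := A) (V := Shrink.{v} k) ∘ₗ (e.toLinearMap ∘ₗ π) := by
      rw [LinearMap.rTensor_comp, LinearMap.comp_assoc, hπ1]
      refine LinearMap.ext fun x => ?_
      simp only [LinearMap.comp_apply, LinearMap.flip_apply, TensorProduct.mk_apply, LinearMap.rTensor_tmul]
      rfl
    obtain ⟨v, hv, hv1⟩ := h V (Shrink.{v} k) (e.toLinearMap ∘ₗ π) h1 (e.surjective.comp hπ) (e 1) rfl
    refine ⟨v, hv, ?_⟩
    rw [show π v = 1 from e.injective hv1]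
    exact one_ne_zero

end Groth.Agent.S16717
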