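import Groth.Statements.S16719
import Groth.Agent.Lib.Exchange.Proper
import Groth.Agent.Lib.FlatCx.Local
import Mathlib.Algebra.Category.ModuleCat.Products
-- import your own Groth.Agent.* helpers here

set_option autoImplicit false
universe u
open CategoryTheory CategoryTheory.Limits AlgebraicGeometry
open CohIII

namespace Groth.Agent.S16719

open scoped TensorProduct in
open CategoryTheory CategoryTheory.Limits in
/-- Tensoring with a finite free module commutes with products. -/
theorem piRightHom_bijective {A : Type u} [CommRing A] (N : Type u) [AddCommGroup N] [Module A N]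
    [Module.Free A N] [Module.Finite A N] {J : Type u} (M : J → Type u) [∀ j, AddCommGroup (M j)]
    [∀ j, Module A (M j)] : Function.Bijective (TensorProduct.piRightHom A A N M) := by
  classical
  let b := Module.Free.chooseBasis A N
  let ι := Module.Free.ChooseBasisIndex A N
  let c : ∀ (P : Type u) [AddCommGroup P] [Module A P], ι → N ⊗[A] P →ₗ[A] P :=
    fun P _ _ i => (TensorProduct.lid A P).toLinearMap ∘ₗ (b.coord i).rTensor P
  have hc : ∀ (P : Type u) [AddCommGroup P] [Module A P] (z : N ⊗[A] P), z = ∑ i, b i ⊗ₜ c P i z := by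
    intro P _ _ z
    induction z using TensorProduct.induction_on with
    | zero => simp
    | tmul n p =>
      simp only [c, LinearMap.comp_apply, LinearMap.rTensor_tmul, LinearEquiv.coe_coe, TensorProduct.lid_tmul,
        ← TensorProduct.smul_tmul, ← TensorProduct.sum_tmul, Module.Basis.coord_apply, b.sum_repr]
    | add z w hz hw => simp only [map_add, TensorProduct.tmul_add, Finset.sum_add_distrib, ← hz, ← hw]
  have hcomm : ∀ (i : ι) (j : J) (z : N ⊗[A] (∀ j, M j)),
      c (M j) i (TensorProduct.piRightHom A A N M z j) = c (∀ j, M j) i z j := fun i j z => by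
    induction z using TensorProduct.induction_on with
    | zero => simp
    | tmul n m => simp [c]
    | add z w hz hw => simp only [map_add, Pi.add_apply, hz, hw]
  refine ⟨fun z w h => ?_, fun g => ⟨∑ i, b i ⊗ₜ fun j => c (M j) i (g j), ?_⟩⟩
  · rw [hc _ z, hc _ w]
    refine Finset.sum_congr rfl fun i _ => congrArg _ (funext fun j => ?_)
    rw [← hcomm i j z, ← hcomm i j w, h]
  · funext j
    rw [map_sum, Finset.sum_apply]
    simp only [TensorProduct.piRightHom_tmul]
    exact (hc _ (g j)).symm

open Groth.Agent.Lib.FlatCx in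
open scoped TensorProduct in
open CategoryTheory CategoryTheory.Limits in
/-- The functor of a complex of finite free modules commutes with products. -/
theorem TFun_pi_bijective {A : Type u} [CommRing A] (P : ChainComplex (ModuleCat.{u} A) ℤ)
    (hfin : ∀ i, Module.Finite A (P.X i)) [∀ i, Module.Free A (P.X i)] (p : ℤ) {J : Type u}
    (M : J → ModuleCat.{u} A) :
    Function.Bijective (LinearMap.pi fun j => ((CohIII.TFun P p).map
      (ModuleCat.ofHom (LinearMap.proj j) : ModuleCat.of A (∀ j, M j) ⟶ M j)).hom) := by
  haveI := hfin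
  let Pi' : ModuleCat.{u} A := ModuleCat.of A (∀ j, M j)
  let π : ∀ j, Pi' ⟶ M j := fun j => ModuleCat.ofHom (LinearMap.proj j)
  let ρ : ∀ i, P.X i ⊗[A] (∀ j, M j) → ∀ j, P.X i ⊗[A] M j :=
    fun i => TensorProduct.piRightHom A A (P.X i) (fun j => M j)
  have hρ : ∀ i, Function.Bijective (ρ i) := fun i => piRightHom_bijective _ _
  have hπ : ∀ i j z, (π j).hom.lTensor (P.X i) z = ρ i z j := fun i j z => by
    induction z using TensorProduct.induction_on with
    | zero => simp [ρ]
    | tmul n m => rfl
    | add z w hz hw => simp only [ρ, map_add, Pi.add_apply] at *; rw [hz, hw]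
  have hd : ∀ i k j z, (Basic.D P i k).rTensor (M j) (ρ i z j) =
      ρ k ((Basic.D P i k).rTensor Pi' z) j := fun i k j z => by
    rw [← hπ, ← hπ, Basic.lTensor_rTensor]
  constructor
  · rw [injective_iff_map_eq_zero]
    intro x hx
    obtain ⟨z, hz, rfl⟩ := Local.tcls_surjective P Pi' p (p - 1) (Basic.next_eq' p) x
    have hy : ∀ j, ∃ y, (Basic.D P (p + 1) p).rTensor (M j) y = ρ p z j := fun j => by
      have hz' : (Basic.D P p (p - 1)).rTensor (M j) ((π j).hom.lTensor (P.X p) z) = 0 := by
        rw [← Basic.lTensor_rTensor, hz, map_zero]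
      have h0 := congrFun hx j
      change (CohIII.TFun P p).map (π j) (Local.tcls P Pi' p (p - 1) _ z hz) = 0 at h0
      rw [Local.map_tcls P (π j) p (p - 1) (Basic.next_eq' p) z hz hz'] at h0
      rw [← hπ]
      exact (Local.tcls_eq_zero_iff P (M j) p (p - 1) (Basic.next_eq' p) _ hz').1 h0
    choose y hy using hy
    obtain ⟨Y, hY⟩ := (hρ (p + 1)).2 y
    refine (Local.tcls_eq_zero_iff P Pi' p (p - 1) (Basic.next_eq' p) z hz).2 ⟨Y, (hρ p).1 (funext fun j => ?_)⟩
    rw [← hd, hY, hy]
  · intro g
    have hz : ∀ j, ∃ z : P.X p ⊗[A] M j, ∃ hz, Local.tcls P (M j) p (p - 1) (Basic.next_eq' p) z hz = g j :=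
      fun j => Local.tcls_surjective P (M j) p (p - 1) (Basic.next_eq' p) (g j)
    choose z hz hzg using hz
    obtain ⟨Z, hZ⟩ := (hρ p).2 z
    have hZ0 : (Basic.D P p (p - 1)).rTensor Pi' Z = 0 := (hρ (p - 1)).1 (funext fun j => by
      rw [← hd, hZ, hz]
      show 0 = TensorProduct.piRightHom A A _ _ (0 : P.X (p - 1) ⊗[A] (∀ j, M j)) j
      rw [map_zero]
      rfl)
    refine ⟨Local.tcls P Pi' p (p - 1) (Basic.next_eq' p) Z hZ0, funext fun j => ?_⟩
    have hz' : (Basic.D P p (p - 1)).rTensor (M j) ((π j).hom.lTensor (P.X p) Z) = 0 := by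
      rw [← Basic.lTensor_rTensor, hZ0, map_zero]
    show (CohIII.TFun P p).map (π j) _ = _
    rw [Local.map_tcls P (π j) p (p - 1) (Basic.next_eq' p) Z hZ0 hz', ← hzg]
    congr 1
    rw [hπ, hZ]

/-- The first of its three functors. Let A be a Noetherian ring, X a proper scheme over Spec A and F a
coherent O_X-module flat over A. Then for every p the functor M ↦ H^p(X, F ⊗_A M) from A-modules to
abelian groups (F ⊗_A M = F ⊗_{O_X} f^*M~ for the structure morphism f) commutes with arbitrary
products: it preserves limits of shape a discrete category, i.e. the canonical map H^p(X, F ⊗_A ∏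
M_α) → ∏ H^p(X, F ⊗_A M_α) is an isomorphism. (The published statement is for a flat proper X over
an arbitrary ring A and states the same for two Ext functors; this row assumes A Noetherian, does
not assume X flat over A, and states only the cohomology functor.) -/
theorem result (A : Type u) [CommRing A] [IsNoetherianRing A]
    (X : Scheme.{u}) [X.Over (Spec (CommRingCat.of A))] [IsProper (X ↘ (Spec (CommRingCat.of A)))]
    (F : X.Modules) (hF : Coh.IsCoh F) (hflat : FlatMod.IsFlatOver (X ↘ (Spec (CommRingCat.of A))) F)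
    (p : ℕ) (J : Type u) :
    PreservesLimitsOfShape (Discrete J) (CohIII.tensorAFunctor A F ⋙ CohIII.HAb X p) := by
  obtain ⟨b, P, -, hfin, hfree, -, hiso⟩ := ZarCoh.Exchange.Proper.exists_rep A F hF hflat
  haveI := hfree
  obtain ⟨e⟩ := hiso p
  haveI : ∀ M : J → ModuleCat.{u} A, PreservesLimit (Discrete.functor M) (CohIII.TFun P (-(p : ℤ))) :=
    fun M => by
      refine preservesLimit_of_preserves_limit_cone (ModuleCat.productConeIsLimit M) ?_
      refine (isLimitMapConeFanMkEquiv _ _ _).symm ?_
      let hc := ModuleCat.productConeIsLimit fun j => (CohIII.TFun P (-(p : ℤ))).obj (M j)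
      haveI : IsIso (hc.lift (Fan.mk ((CohIII.TFun P (-(p : ℤ))).obj (ModuleCat.of A (∀ j, M j)))
          fun j => (CohIII.TFun P (-(p : ℤ))).map (ModuleCat.ofHom (LinearMap.proj j)))) :=
        (ConcreteCategory.isIso_iff_bijective _).2 (TFun_pi_bijective P hfin _ M)
      exact hc.ofPointIso
  haveI : PreservesLimitsOfShape (Discrete J) (CohIII.TFun P (-(p : ℤ))) :=
    preservesLimitsOfShape_of_discrete _
  exact preservesLimitsOfShape_of_natIso e

end Groth.Agent.S16719
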