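import Groth.Statements.S16731
import Groth.Agent.H10.StableTail.Comp

set_option autoImplicit false
universe u
open CurvSt

namespace Groth.Agent.S16731

open CategoryTheory CategoryTheory.Limits AlgebraicGeometry in
/-- Let k be an algebraically closed field and X a proper connected scheme over k of dimension one with
at-worst-nodal singularities. For a natural number g the following are equivalent: (i) X, with no
marked points, is a stable curve of genus g in the component form — dim H^1(X, O_X) = g, every
irreducible component which is a smooth rational curve (the image of a closed immersion of the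
projective line) contains at least three points lying on other components, and 2g ≥ 3; (ii) dim
H^1(X, O_X) = g with g ≥ 2, and no irreducible component of X is a rational tail or a rational
bridge. (With no marked points the published statement excludes only genus one; it fails for the
projective line, which has genus zero, no rational tail and no rational bridge, and is not stable,
so genus at least two is required in (ii) here — exactly what the inequality 2g ≥ 3 of (i) forces.) -/
theorem result (k : Type u) [Field k] [IsAlgClosed k] (X : Scheme.{u})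
    [X.Over (Spec (CommRingCat.of k))] [IsProper (X ↘ Spec (CommRingCat.of k))] [ConnectedSpace X]
    (hdim : topologicalKrullDim X = 1) (hX : Curv2.AtWorstNodal k X) (g : ℕ) :
    CurvSt.IsStablePtd k X (X ↘ Spec (CommRingCat.of k)) g (Fin.elim0 : Fin 0 → X) ↔
      (Curv2.genus k X = g ∧ 2 ≤ g ∧
        (∀ (C : Set X) (hC : C ∈ irreducibleComponents (X : Type u)), ¬ Curv2.IsRationalTail X C hC) ∧
        (∀ (C : Set X) (hC : C ∈ irreducibleComponents (X : Type u)), ¬ Curv2.IsRationalBridge k X C hC)) := by
  open Groth.Agent.H10.StableTail Groth.Agent.Lib Groth.Agent.H25 in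
  haveI := Node.AtWorst.isReduced k X hX
  haveI := Curves.GlobalSections.noetherianSpace_of_proper k X
  have hsup : ∀ C (hC : C ∈ irreducibleComponents (X : Type u)), Comp.IC hC ⊔ Comp.IX hC =
      Scheme.IdealSheafData.vanishingIdeal
        ⟨C ∩ closure Cᶜ, (isClosed_of_mem_irreducibleComponents C hC).inter isClosed_closure⟩ :=
    fun C hC => (congrArg (Comp.IC hC ⊔ ·) (Geom.ker_compl hC)).trans (Geom.sup_eq hdim.le hX hC)
  have hsupX : ∀ C (hC : C ∈ irreducibleComponents (X : Type u)),
      ((Comp.IX hC).support : Set X) = closure Cᶜ := fun C hC => by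
    rw [show Comp.IX hC = _ from Geom.ker_compl hC, Scheme.IdealSheafData.coe_support_vanishingIdeal]
    rfl
  have hcard : ∀ C (hC : C ∈ irreducibleComponents (X : Type u)),
      Module.finrank k (Coh.HH X (ClSub.quotMod (Comp.IC hC ⊔ Comp.IX hC)) 0) =
        (C ∩ closure Cᶜ).ncard := fun C hC => by
    rw [hsup C hC]
    exact Comp.finrank_h0_finite (Comp.finite_meet k hdim hC) fun p hp => Comp.isClosed_meet k hdim hC hp
  constructor
  · rintro ⟨-, -, -, ⟨-, hg⟩, -, -, hstab, h3⟩
    have hg2 : 2 ≤ g := by omega
    have hge : ∀ C (hC : C ∈ irreducibleComponents (X : Type u)),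
        Subsingleton (Coh.HH (Comp.IC hC).subscheme (Coh.structureModule (Comp.IC hC).subscheme) 1) →
        3 ≤ (C ∩ closure Cᶜ).ncard := fun C hC h1 => by
      have h := hstab C (Comp.exists_line hdim hC h1)
      rw [Geom.meetPts_eq hC, ← (Comp.finite_meet k hdim hC).cast_ncard_eq] at h
      simp only [Nat.card_of_isEmpty, Nat.cast_zero, add_zero] at h
      exact_mod_cast h
    refine ⟨hg, hg2, fun C hC ⟨_, _, hsub, _, _, h1⟩ => ?_, fun C hC ⟨_, hrk, h1⟩ => ?_⟩
    · have h := hge C hC h1
      have hle : (C ∩ closure Cᶜ).Subsingleton := fun a ha b hb => by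
        have hr : Set.range (Comp.IC hC ⊔ Comp.IX hC).subschemeι = C ∩ closure Cᶜ := by
          rw [Scheme.IdealSheafData.range_subschemeι, hsup C hC,
            Scheme.IdealSheafData.coe_support_vanishingIdeal]
          rfl
        obtain ⟨a', rfl⟩ := hr.ge ha
        obtain ⟨b', rfl⟩ := hr.ge hb
        exact congrArg _ (hsub.allEq a' b')
      haveI := (Comp.finite_meet k hdim hC).to_subtype
      have := Set.ncard_le_one_iff_subsingleton.2 hle
      omega
    · have h := hge C hC h1
      have hrk' : (C ∩ closure Cᶜ).ncard = 2 * 1 :=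
        ((hcard C hC).symm.trans hrk).trans (congrArg (2 * ·) (Comp.finrank_h0_comp hC))
      omega
  · rintro ⟨hg, hg2, htail, hbridge⟩
    refine ⟨inferInstance, inferInstance, hdim, ⟨hX, hg⟩, fun i => i.elim0, fun i => i.elim0, ?_, by omega⟩
    intro E hE
    have hC := hE.1
    have h1 := Comp.h1_of_line hC hE
    have hM := Comp.finite_meet k hdim hC
    rw [Geom.meetPts_eq hC, ← hM.cast_ncard_eq]
    simp only [Nat.card_of_isEmpty, Nat.cast_zero, add_zero]
    suffices h : 3 ≤ (E ∩ closure Eᶜ).ncard by exact_mod_cast h
    by_contra hlt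
    have h0 : (E ∩ closure Eᶜ).ncard ≠ 0 := fun h0 => by
      rw [Set.ncard_eq_zero hM] at h0
      have hcl : IsClosed Eᶜ := closure_subset_iff_isClosed.1 fun p hp hp' =>
        (Set.mem_empty_iff_false p).1 (h0 ▸ ⟨hp', hp⟩)
      have huniv : E = Set.univ := (isClopen_iff.1 ⟨isClosed_of_mem_irreducibleComponents E hC,
        isClosed_compl_iff.1 hcl⟩).resolve_left hC.1.nonempty.ne_empty
      obtain ⟨-, e, hecl, he, her⟩ := hE
      haveI := hecl
      haveI : Surjective e := ⟨Set.range_eq_univ.1 (her.trans huniv)⟩
      haveI : IsIso e := isIso_of_isClosedImmersion_of_surjective e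
      have hgX : Curv2.genus k X = 0 := (Curves.DegreeOne.h0_genus_of_iso_line (k := k) (X := X)
        (e := (asIso e).symm) (by rw [Iso.symm_hom, asIso_inv, IsIso.inv_comp_eq]; exact he.symm)).2
      omega
    have hne : (E ∩ closure Eᶜ).Nonempty := Set.nonempty_of_ncard_ne_zero h0
    have hsne : ((Comp.IX hC).support : Set X).Nonempty := by
      rw [hsupX E hC]; exact hne.mono Set.inter_subset_right
    rcases (show (E ∩ closure Eᶜ).ncard = 1 ∨ (E ∩ closure Eᶜ).ncard = 2 by omega) with h | h
    · obtain ⟨p, hp⟩ := Set.ncard_eq_one.1 h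
      have hr : Set.range (Comp.IC hC ⊔ Comp.IX hC).subschemeι = E ∩ closure Eᶜ := by
        rw [Scheme.IdealSheafData.range_subschemeι, hsup E hC,
          Scheme.IdealSheafData.coe_support_vanishingIdeal]
        rfl
      have hsub : Subsingleton (Comp.IC hC ⊔ Comp.IX hC).subscheme := ⟨fun a b =>
        (Comp.IC hC ⊔ Comp.IX hC).subschemeι.isClosedEmbedding.injective
          ((show _ = p from hp.le (hr.le ⟨a, rfl⟩)).trans
            (show _ = p from hp.le (hr.le ⟨b, rfl⟩)).symm)⟩
      have hnon : Nonempty (Comp.IC hC ⊔ Comp.IX hC).subscheme := by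
        obtain ⟨a, -⟩ := hr.ge hne.some_mem
        exact ⟨a⟩
      have hred : IsReduced (Comp.IC hC ⊔ Comp.IX hC).subscheme := by
        rw [hsup E hC]; exact Groth.Agent.H75.RedSub.isReduced_vanishingIdeal _
      refine htail E hC ⟨hsne, hnon, hsub, hred, fun c => ?_, h1⟩
      refine Comp.evaluation_bijective k hC _ ?_
      haveI := hsub
      haveI : Subsingleton (Scheme.IdealSheafData.vanishingIdeal
          ⟨E, isClosed_of_mem_irreducibleComponents E hC⟩ ⊔ Comp.IX hC).subscheme := hsub
      rw [← Set.image_singleton]
      exact (Scheme.IdealSheafData.inclusion (le_sup_left : Comp.IC hC ≤ Comp.IC hC ⊔ Comp.IX hC)).isClosedEmbedding.isClosedMap _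
        (by rw [Set.eq_univ_of_forall (s := {c}) fun x => Subsingleton.elim x c]; exact isClosed_univ)
    · exact hbridge E hC ⟨hsne,
        ((hcard E hC).trans h).trans (congrArg (2 * ·) (Comp.finrank_h0_comp hC)).symm, h1⟩

end Groth.Agent.S16731
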