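import Groth.Statements.S16737
import Mathlib.RingTheory.Kaehler.Polynomial
import Mathlib.Algebra.MvPolynomial.Expand
import Mathlib.Algebra.MvPolynomial.PDeriv
import Mathlib.Algebra.CharP.Lemmas

set_option autoImplicit false
universe u v
open DeRham

namespace Groth.Agent.S16737

/-- The case of affine space over an affine base of characteristic p, in degree zero. Let p be a prime
and R a commutative ring with p = 0 in R. For a polynomial f over R in any set of variables t_i, the
Kähler differential df in Ω_{R[t]/R} vanishes if and only if f is a polynomial in the p-th powers of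
the variables, f = g(t_i^p). Equivalently, the functions on affine space over R killed by the
differential of the de Rham complex are exactly the functions on its Frobenius twist. (The published
computation is for finitely many variables over a noetherian base of characteristic p; the statement
here allows any commutative ring with p = 0 and any set of variables.) -/
theorem result (p : ℕ) [Fact p.Prime]
    (R : Type u) [CommRing R] [CharP R p] (σ : Type v) (f : MvPolynomial σ R) :
    KaehlerDifferential.D R (MvPolynomial σ R) f = 0 ↔
      ∃ g : MvPolynomial σ R, f = MvPolynomial.expand p g := by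
  classical
  constructor
  · intro hf
    have hp : ∀ i, MvPolynomial.pderiv i f = 0 := by
      intro i
      rw [← KaehlerDifferential.mvPolynomialBasis_repr_apply R σ f i, hf, map_zero,
        Finsupp.coe_zero, Pi.zero_apply]
    have hdiv : ∀ m ∈ f.support, ∀ i, p ∣ m i := by
      intro m hm i
      by_contra hnd
      have hpos : 0 < m i := Nat.pos_of_ne_zero fun h => hnd (h ▸ dvd_zero p)
      have h2 := congrArg (MvPolynomial.coeff (m - Finsupp.single i 1)) (hp i)
      have hle : Finsupp.single i 1 ≤ m := by
        intro j
        rw [Finsupp.single_apply]
        split_ifs with h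
        · subst h; omega
        · simp
      rw [MvPolynomial.coeff_pderiv, MvPolynomial.coeff_zero, tsub_add_cancel_of_le hle,
        Finsupp.tsub_apply, Finsupp.single_eq_same] at h2
      have e : ((m i - 1 : ℕ) : R) + 1 = (m i : R) := by
        exact_mod_cast congrArg (Nat.cast : ℕ → R) (Nat.sub_add_cancel hpos)
      have hu : IsUnit ((m i : ℕ) : R) := by
        have h3 : IsUnit ((m i : ℕ) : ZMod p) :=
          (ZMod.isUnit_iff_coprime _ _).mpr ((Fact.out : p.Prime).coprime_iff_not_dvd.mpr hnd).symm
        simpa using h3.map (ZMod.castHom dvd_rfl R)
      rw [e, hu.mul_left_eq_zero] at h2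
      exact (MvPolynomial.mem_support_iff.mp hm) h2
    refine ⟨∑ m ∈ f.support, MvPolynomial.monomial (Finsupp.mapRange (· / p) (Nat.zero_div p) m)
      (f.coeff m), ?_⟩
    conv_lhs => rw [← MvPolynomial.support_sum_monomial_coeff f]
    rw [map_sum]
    refine Finset.sum_congr rfl fun m hm => ?_
    rw [MvPolynomial.expand_monomial]
    congr 2
    ext i
    simp [Nat.mul_div_cancel' (hdiv m hm i)]
  · rintro ⟨g, rfl⟩
    induction g using MvPolynomial.induction_on with
    | C a => rw [MvPolynomial.expand_C, ← MvPolynomial.algebraMap_eq]; exact Derivation.map_algebraMap _ _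
    | add a b ha hb => rw [map_add, map_add, ha, hb, add_zero]
    | mul_X a i ha =>
      rw [map_mul, MvPolynomial.expand_X, Derivation.leibniz, ha, smul_zero, add_zero,
        Derivation.leibniz_pow, ← Nat.cast_smul_eq_nsmul R, CharP.cast_eq_zero, zero_smul, smul_zero]

end Groth.Agent.S16737
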