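import Groth.Statements.S16742
import Groth.Agent.Lib.LocalFlat.Basic
import Mathlib.RingTheory.TensorProduct.Quotient
import Mathlib.RingTheory.Flat.Stability
import Mathlib.Algebra.Algebra.Basic

set_option autoImplicit false
universe u
open CAlg

namespace Groth.Agent.S16742

/-- The equivalence in affine form, with flatness of the reduction in place of smoothness. Let p be a
prime, A~ a commutative ring flat over Z/p^2 and B~ an A~-algebra such that B~/pB~ is flat over
A~/pA~. Then B~ is flat over A~ if and only if every element of B~ killed by p is a multiple of p;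
equivalently multiplication by p identifies B~/pB~ with pB~. (The published statement assumes the
reduction smooth over A~/pA~ and the schemes noetherian, and phrases (b) as B~ being a lifting, that
is flat over A~; the statement here assumes only that the reduction is flat, where the equivalence
still holds by the local flatness criterion for the square-zero ideal generated by p.) -/
theorem result (p : ℕ) [Fact p.Prime]
    (Al : Type u) [CommRing Al] [Algebra (ZMod (p ^ 2)) Al] [Module.Flat (ZMod (p ^ 2)) Al]
    (Bl : Type u) [CommRing Bl] [Algebra Al Bl]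
    (hB : Module.Flat (Al ⧸ Ideal.span {(p : Al)})
      (Bl ⧸ (Ideal.span {(p : Al)}).map (algebraMap Al Bl))) :
    Module.Flat Al Bl ↔ ∀ b : Bl, (p : Bl) * b = 0 → b ∈ Ideal.span {(p : Bl)} := by
  classical
  have hpR : (p : ZMod (p ^ 2)) * p = 0 := by
    rw [← pow_two, ← Nat.cast_pow, ZMod.natCast_self]
  have hp2 : (p : Al) * p = 0 := by
    have := congrArg (algebraMap (ZMod (p ^ 2)) Al) hpR
    simpa using this
  have hZ : ∀ z : ZMod (p ^ 2), (p : ZMod (p ^ 2)) * z = 0 → ∃ w, (p : ZMod (p ^ 2)) * w = z := by
    intro z hz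
    have : NeZero (p ^ 2) := ⟨pow_ne_zero _ (Fact.out : p.Prime).ne_zero⟩
    rw [← ZMod.natCast_zmod_val z, ← Nat.cast_mul, ZMod.natCast_eq_zero_iff] at hz
    obtain ⟨w, hw⟩ : p ∣ z.val := Nat.dvd_of_mul_dvd_mul_left (Fact.out : p.Prime).pos (by rwa [← pow_two])
    exact ⟨(w : ZMod (p ^ 2)), by rw [← Nat.cast_mul, ← hw, ZMod.natCast_zmod_val]⟩
  have hAl : ∀ x : Al, (p : Al) * x = 0 → ∃ y, (p : Al) * y = x := by
    intro x hx
    let f : ZMod (p ^ 2) →ₗ[ZMod (p ^ 2)] ZMod (p ^ 2) := LinearMap.mulLeft _ (p : ZMod (p ^ 2))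
    have hf : Function.Exact f f := fun z =>
      ⟨fun hz => hZ z hz, by rintro ⟨w, rfl⟩; change (p : ZMod (p ^ 2)) * (p * w) = 0; rw [← mul_assoc, hpR, zero_mul]⟩
    have hexa := Module.Flat.lTensor_exact Al hf
    let r := TensorProduct.rid (ZMod (p ^ 2)) Al
    have hr : ∀ w, r (f.lTensor Al w) = (p : Al) * r w := by
      intro w
      induction w using TensorProduct.induction_on with
      | zero => simp
      | tmul a z => simp [r, f, Algebra.smul_def, mul_comm, mul_left_comm]
      | add u v hu hv => simp only [map_add, hu, hv, mul_add]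
    obtain ⟨w, hw⟩ := (hexa (r.symm x)).1 (r.injective (by rw [hr, r.apply_symm_apply, hx, map_zero]))
    exact ⟨r w, by rw [← hr, hw, r.apply_symm_apply]⟩
  constructor
  · intro hflat b hb
    let f : Al →ₗ[Al] Al := LinearMap.mulLeft Al (p : Al)
    have hf : Function.Exact f f := fun z =>
      ⟨fun hz => hAl z hz, by rintro ⟨w, rfl⟩; change (p : Al) * (p * w) = 0; rw [← mul_assoc, hp2, zero_mul]⟩
    have hexa := Module.Flat.lTensor_exact Bl hf
    let r := TensorProduct.rid Al Bl
    have hr : ∀ w, r (f.lTensor Bl w) = (p : Bl) * r w := by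
      intro w
      induction w using TensorProduct.induction_on with
      | zero => simp
      | tmul a z => simp [r, f, Algebra.smul_def, mul_comm, mul_left_comm]
      | add u v hu hv => simp only [map_add, hu, hv, mul_add]
    obtain ⟨w, hw⟩ := (hexa (r.symm b)).1 (r.injective (by rw [hr, r.apply_symm_apply, hb, map_zero]))
    exact Ideal.mem_span_singleton'.2 ⟨r w, by rw [mul_comm, ← hr, hw, r.apply_symm_apply]⟩
  · intro h
    let I : Ideal Al := Ideal.span {(p : Al)}
    have : Module.Flat (Al ⧸ I) (TensorProduct Al (Al ⧸ I) Bl) := by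
      let e : (Bl ⧸ I.map (algebraMap Al Bl)) ≃ₗ[Al] TensorProduct Al (Al ⧸ I) Bl :=
        ((Algebra.TensorProduct.quotIdealMapEquivTensorQuot Bl I).toLinearEquiv.restrictScalars Al).trans
          (TensorProduct.comm Al Bl (Al ⧸ I))
      exact Module.Flat.of_linearEquiv
        (LinearEquiv.extendScalarsOfSurjective (S := Al ⧸ I) Ideal.Quotient.mk_surjective e).symm
    have hinj : Function.Injective (I.subtype.lTensor Bl) := by
      rw [injective_iff_map_eq_zero]
      intro z hz
      have hgen : ∀ z : TensorProduct Al Bl I,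
          ∃ b : Bl, z = b ⊗ₜ[Al] (⟨(p : Al), Ideal.mem_span_singleton_self _⟩ : I) := by
        intro z
        induction z using TensorProduct.induction_on with
        | zero => exact ⟨0, by simp⟩
        | tmul b i =>
          obtain ⟨c, hc⟩ := Ideal.mem_span_singleton'.1 i.2
          refine ⟨c • b, ?_⟩
          rw [TensorProduct.smul_tmul]
          exact congrArg _ (Subtype.ext hc.symm)
        | add u v hu hv =>
          obtain ⟨b, rfl⟩ := hu; obtain ⟨b', rfl⟩ := hv
          exact ⟨b + b', (TensorProduct.add_tmul _ _ _).symm⟩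
      obtain ⟨b, rfl⟩ := hgen z
      have hb : (p : Bl) * b = 0 := by
        have := congrArg (TensorProduct.rid Al Bl) hz
        simpa [Algebra.smul_def] using this
      obtain ⟨c, rfl⟩ := Ideal.mem_span_singleton'.1 (h b hb)
      rw [show c * (p : Bl) = (p : Al) • c by rw [Algebra.smul_def, map_natCast, mul_comm], TensorProduct.smul_tmul]
      convert TensorProduct.tmul_zero (R := Al) (N := I) c
      exact Subtype.ext hp2
    refine Groth.Agent.Lib.LocalFlat.Basic.flat_of_tor1Zero fun J _ =>
      Groth.Agent.Lib.LocalFlat.Basic.Tor1Zero.of_pow_smul_eq_zero hinj 2 fun r hr x => ?_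
    rw [Ideal.span_singleton_pow, pow_two, hp2, Ideal.span_singleton_eq_bot.2 rfl, Ideal.mem_bot] at hr
    rw [hr, zero_smul]

end Groth.Agent.S16742
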