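import Groth.Statements.S16744
import Groth.Agent.Lib.Cartier45.LogDR

set_option autoImplicit false
set_option maxSynthPendingDepth 3
universe u
open DeRham

namespace Groth.Agent.S16744

open exteriorPower in
/-- The case of affine n-space over an affine base of characteristic p with boundary divisor t_1⋯t_r =
0, all degrees. Let p be a prime, R a commutative ring with p = 0 in R, B = R[t_1, …, t_n] and r ≤
n. Let (L, ι, dl) be the module of differentials of B over R with logarithmic poles along t_1, …,
t_r, pinned by its defining properties (t_i · dl_i = ι(dt_i); ι(Ω_{B/R}) and the dl_i generate; no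
(t_1⋯t_r)-torsion; the kernel of ι is the (t_1⋯t_r)-power torsion), and let d be the logarithmic de
Rham differential on the exterior powers of L (the de Rham rule for ι ∘ d together with d(dl_i) = 0,
and d ∘ d = 0). Put w_ν = dl_ν for ν < r and w_ν = ι(t_ν^{p-1} dt_ν) for ν ≥ r (indices from 0), and
for an a-element set s of indices let e_s be the wedge of the w_ν, ν ∈ s, in increasing order. Then
an a-form with logarithmic poles is closed exactly when it is an exact form plus a combination Σ_s
g_s(t_1^p, …, t_n^p) · e_s with coefficients polynomials in the p-th powers of the variables, and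
such a combination is exact only if every g_s vanishes: the a-th cohomology of the logarithmic de
Rham complex of affine n-space is free over R[t_1^p, …, t_n^p] on the classes of the e_s. -/
theorem result (p : ℕ) [Fact p.Prime]
    (R : Type u) [CommRing R] [CharP R p] (n r a : ℕ) (hr : r ≤ n)
    (L : Type u) [AddCommGroup L] [Module (MvPolynomial (Fin n) R) L] [Module R L]
    [IsScalarTower R (MvPolynomial (Fin n) R) L]
    (ι : (Ω[MvPolynomial (Fin n) R⁄R]) →ₗ[MvPolynomial (Fin n) R] L) (dl : Fin r → L)
    (hL : LogDiff.IsLog (KaehlerDifferential.D R (MvPolynomial (Fin n) R))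
      (fun i : Fin r => (MvPolynomial.X (Fin.castLE hr i) : MvPolynomial (Fin n) R)) ι dl)
    (d : ∀ q : ℕ, ↥(⋀[MvPolynomial (Fin n) R]^q L) →ₗ[R] ↥(⋀[MvPolynomial (Fin n) R]^(q + 1) L))
    (hd : DeRham.IsDiff (ι.compDer (KaehlerDifferential.D R (MvPolynomial (Fin n) R))) d)
    (hlog : LogDiff.IsLogRule (KaehlerDifferential.D R (MvPolynomial (Fin n) R)) ι dl d)
    (w : Fin n → L) (hw : ∀ i : Fin r, w (Fin.castLE hr i) = dl i)
    (hw' : ∀ ν : Fin n, r ≤ (ν : ℕ) → w ν = ι (((MvPolynomial.X ν : MvPolynomial (Fin n) R) ^ (p - 1)) •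
      KaehlerDifferential.D R (MvPolynomial (Fin n) R) (MvPolynomial.X ν)))
    (e : Finset (Fin n) → ↥(⋀[MvPolynomial (Fin n) R]^a L))
    (he : ∀ (s : Finset (Fin n)) (hs : s.card = a),
      e s = exteriorPower.ιMulti (MvPolynomial (Fin n) R) a (fun j => w (s.orderEmbOfFin hs j))) :
    (∀ ω, ω ∈ DeRham.cocycles d a ↔
      ∃ (g : Finset (Fin n) → MvPolynomial (Fin n) R) (η : ↥(⋀[MvPolynomial (Fin n) R]^a L)),
        η ∈ DeRham.coboundaries d a ∧
          ω = η + ∑ s ∈ Finset.powersetCard a Finset.univ, MvPolynomial.expand p (g s) • e s) ∧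
    (∀ g : Finset (Fin n) → MvPolynomial (Fin n) R,
      (∑ s ∈ Finset.powersetCard a Finset.univ, MvPolynomial.expand p (g s) • e s) ∈ DeRham.coboundaries d a →
        ∀ s ∈ Finset.powersetCard a (Finset.univ : Finset (Fin n)), g s = 0) := by
  classical
  let b := Module.Basis.mk (Groth.Agent.Lib.Cartier45.linearIndependent_gen hr ι dl hL)
    (Groth.Agent.Lib.Cartier45.span_gen hr ι dl hL).ge
  have hb : ∀ ν, b ν = Groth.Agent.Lib.Cartier45.gen hr ι dl ν := fun ν => Module.Basis.mk_apply _ _ ν
  have hd' : ∀ (q : ℕ) (g : MvPolynomial (Fin n) R) (f : Fin q → Fin n),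
      d q (g • Groth.Agent.Lib.Cartier45.eta b q f) =
        Groth.Agent.Lib.Cartier45.mulL q
          (∑ ν, (MvPolynomial.pderiv ν g * Groth.Agent.Lib.Cartier45.cf r ν) • b ν)
          (Groth.Agent.Lib.Cartier45.eta b q f) := by
    intro q g f
    have hD : (∑ ν, (MvPolynomial.pderiv ν g * Groth.Agent.Lib.Cartier45.cf r ν) • b ν) =
        ι (KaehlerDifferential.D R (MvPolynomial (Fin n) R) g) := by
      rw [Groth.Agent.Lib.Cartier45.ι_D hr ι dl hL g]
      exact Finset.sum_congr rfl fun ν _ => by rw [hb]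
    rw [hD]
    unfold Groth.Agent.Lib.Cartier45.eta
    rw [Groth.Agent.Lib.Cartier45.mulL_ιMulti]
    refine hlog q g (b ∘ f) fun k => ?_
    rw [Function.comp_apply, hb, Groth.Agent.Lib.Cartier45.gen]
    split_ifs with h
    · exact Or.inr ⟨_, rfl⟩
    · exact Or.inl ⟨_, rfl⟩
  obtain ⟨h1, h2⟩ := Groth.Agent.Lib.Cartier45.main (r := r) b p d hd' a
  have hbase : ∀ (s : Set.powersetCard (Fin n) a),
      e s.val = MvPolynomial.monomial ((p - 1) • Groth.Agent.Lib.Cartier45.wt r
        (Set.powersetCard.ofFinEmbEquiv.symm s)) (1 : R) • b.exteriorPower a s := by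
    intro s
    rw [he s.val s.prop, Groth.Agent.Lib.Cartier45.exteriorPower_eq_eta]
    have hfun : (fun j => w (s.val.orderEmbOfFin s.prop j)) = fun j =>
        MvPolynomial.monomial ((p - 1) • Groth.Agent.Lib.Cartier45.e1 r
          (Set.powersetCard.ofFinEmbEquiv.symm s j)) (1 : R) •
          b (Set.powersetCard.ofFinEmbEquiv.symm s j) := by
      funext j
      rw [← Set.powersetCard.ofFinEmbEquiv_symm_apply s, hb, Groth.Agent.Lib.Cartier45.gen,
        Groth.Agent.Lib.Cartier45.e1]
      set ν := Set.powersetCard.ofFinEmbEquiv.symm s j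
      by_cases h : (ν : ℕ) < r
      · rw [dif_pos h, if_neg (by omega)]
        have : w ν = dl ⟨ν, h⟩ := hw ⟨ν, h⟩
        rw [this, smul_zero, MvPolynomial.monomial_zero', map_one, one_smul]
      · rw [dif_neg h, if_pos (by omega), hw' ν (by omega), map_smul, Finsupp.smul_single,
          smul_eq_mul, mul_one, MvPolynomial.X_pow_eq_monomial]
    rw [hfun, Groth.Agent.Lib.Cartier45.eta, AlternatingMap.map_smul_univ,
      Groth.Agent.Lib.Cartier45.wt, Finset.smul_sum, MvPolynomial.monomial_sum_one]
    rfl
  have hsum : ∀ g : Finset (Fin n) → MvPolynomial (Fin n) R,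
      (∑ s ∈ Finset.powersetCard a Finset.univ, MvPolynomial.expand p (g s) • e s) =
        Groth.Agent.Lib.Cartier45.comb b r p a fun s => g s.val := by
    intro g
    rw [Groth.Agent.Lib.Cartier45.comb, Finset.sum_subtype (Finset.powersetCard a Finset.univ)
      (p := fun s => s ∈ Set.powersetCard (Fin n) a) (fun s => by simp)]
    exact Finset.sum_congr rfl fun s _ => by rw [hbase]
  constructor
  · intro ω
    rw [h1 ω]
    constructor
    · rintro ⟨g, η, hη, rfl⟩
      refine ⟨fun s => if h : s.card = a then g ⟨s, h⟩ else 0, η, hη, ?_⟩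
      rw [hsum]
      congr 2
      funext s
      simp only [dif_pos (show s.val.card = a from s.prop)]
    · rintro ⟨g, η, hη, rfl⟩
      exact ⟨fun s => g s.val, η, hη, by rw [hsum]⟩
  · intro g hg s hs
    rw [hsum] at hg
    exact congrFun (h2 _ hg) ⟨s, (Finset.mem_powersetCard.1 hs).2⟩

end Groth.Agent.S16744
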