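import Groth.Statements.S16751
import Groth.Agent.H54.BCX.RSec
import Groth.Agent.H54.BCX.ZeroCrit
import Groth.Agent.H26.FreeCrit
import Groth.Agent.H46.FibreProf.Unit
import Groth.Agent.H2.Rigid.PushFlat
import Groth.Agent.Lib.Cube.FibreGen
import Groth.Agent.Lib.Curves.GlobalSections
-- import your own Groth.Agent.* helpers here

set_option autoImplicit false
universe u
open CurvSt

namespace Groth.Agent.S16751

open CategoryTheory CategoryTheory.Limits AlgebraicGeometry in
/-- Let f : X → S be a flat, proper morphism of schemes, locally of finite presentation, all of whose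
fibres have dimension at most one (a family of curves whose total space is a scheme), and assume
that for every point s of S the fibre X_s has dim_{κ(s)} H^0(X_s, O_{X_s}) = 1 (the residue field is
the ring of global functions of the fibre). Then (1) the map O_S → f_* O_X is an isomorphism, and so
is O_{S'} → f'_* O_{X'} for the base change f' of f along any morphism of schemes S' → S; and (2)
R^1 f_* O_X is a finite locally free O_S-module. The source allows the total space to be an
algebraic space, and also asserts the compatibility of R^1 f_* O_X with arbitrary base change, which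
is not stated here. -/
theorem result (X S : Scheme.{u}) (f : X ⟶ S)
    [Flat f] [IsProper f] [LocallyOfFinitePresentation f]
    (hdim : ∀ s : S, topologicalKrullDim ↥(f.fiber s) ≤ 1)
    (h0 : ∀ s : S, Models.hRank ↥(S.residueField s) (f.fiber s) (f.fiberToSpecResidueField s)
      (Coh.structureModule (f.fiber s)) 0 = 1)
    [HasInjectiveResolutions X.Modules] :
    (∀ (S' : Scheme.{u}) (g : S' ⟶ S), IsIso (ClSub.unitToPush (pullback.snd f g))) ∧
      FlatMod.IsFinLocFree ((Coh.Rpush f 1).obj (Coh.structureModule X)) := by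
  classical
  have hker : ∀ s : S, Nonempty ↥(f.fiber s) ∧ Function.Surjective (f.fiberToSpecResidueField s).appTop.hom := by
    intro s
    letI : (f.fiber s).Over (Spec (CommRingCat.of (S.residueField s))) := ⟨f.fiberToSpecResidueField s⟩
    let M := Coh.structureModule (f.fiber s)
    letI := Groth.Agent.Lib.Curves.GlobalSections.secModule (S.residueField s) M
    let E := Groth.Agent.Lib.Curves.GlobalSections.h0Linear (S.residueField s) M
    have h1 : Module.finrank (S.residueField s) (M.val.obj (Opposite.op ⊤) : Type u) = 1 := E.finrank_eq.symm.trans (h0 s)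
    haveI hnt : Nontrivial (M.val.obj (Opposite.op ⊤) : Type u) := Module.nontrivial_of_finrank_pos (R := S.residueField s) (by omega)
    have hne : Nonempty ↥(f.fiber s) := by
      by_contra hc
      haveI := not_nonempty_iff.1 hc
      haveI : Subsingleton (M.val.obj (Opposite.op ⊤) : Type u) := by
        show Subsingleton Γ(f.fiber s, ⊤)
        rw [show (⊤ : (f.fiber s).Opens) = ⊥ from TopologicalSpace.Opens.ext (Set.ext fun x => isEmptyElim x)]
        infer_instance
      exact not_subsingleton (M.val.obj (Opposite.op ⊤) : Type u) inferInstance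
    haveI := hne
    haveI : Nonempty ((⊤ : (f.fiber s).Opens) : Set (f.fiber s)) := ⟨⟨Classical.arbitrary _, trivial⟩⟩
    refine ⟨hne, fun y => ?_⟩
    obtain ⟨c, hc⟩ := (finrank_eq_one_iff_of_nonzero' (K := S.residueField s)
      (show (M.val.obj (Opposite.op ⊤) : Type u) from Groth.Agent.Lib.TensorMod.Gen.one (f.fiber s) ⊤)
      (one_ne_zero (α := Γ(f.fiber s, ⊤)))).1 h1 (show (M.val.obj (Opposite.op ⊤) : Type u) from y)
    exact ⟨(Scheme.ΓSpecIso (S.residueField s)).inv.hom c, (mul_one _).symm.trans hc⟩
  haveI : Surjective f := ⟨fun s => by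
    obtain ⟨z⟩ := (hker s).1
    exact ⟨f.fiberι s z, show f.fiberι s z ∈ f ⁻¹' {s} from f.range_fiberι s ▸ Set.mem_range_self _⟩⟩
  have hH : Groth.Agent.H2.Rigid.H0 f := fun s => (hker s).2
  refine ⟨fun S' g => ?_, ?_⟩
  · haveI : Surjective (pullback.snd f g) := MorphismProperty.pullback_snd _ _ ‹_›
    haveI : IsProper (pullback.snd f g) := MorphismProperty.pullback_snd _ _ ‹_›
    have h := Groth.Agent.H2.Rigid.PushFlat.push_of_flat_fp (pullback.snd f g) (hH.pullback_snd f g)
    exact Groth.Agent.Lib.CohDelta.BC.Transpose.isIso_of_bijective_basis _ (B := Set.univ)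
      (TopologicalSpace.Opens.isBasis_iff_nbhd.2 fun {U x} hx => ⟨U, trivial, hx, le_rfl⟩) fun U _ => h U
  · have hfp : CohB1.IsFP (Coh.structureModule X) := H46.FibreProf.Unit.isFP_structureModule X
    haveI := H26.FreeCrit.isQuasicoherent_of_isFP hfp
    have hfl : FlatMod.IsFlatOver f (Coh.structureModule X) := fun x =>
      (H46.FibreProf.Unit.isFlatOverAt_structureModule f x).2 (Flat.stalkMap f x)
    refine H54.BCX.RSec.isFinLocFree_of_sp 1 fun s => ?_
    obtain ⟨V, hV, hsV, ⟨D⟩⟩ := H54.BCX.Main.exists_affine hfp hfl s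
    refine ⟨V, hV, D, ?_, ?_⟩
    · obtain ⟨a, ha, -, h2, -⟩ := H54.BCX.Crit.exists_of_vanishing hV D hsV 2
        (H54.BCX.Main.subsingleton_fiberH s (d := 1) (hdim s) (by omega))
      letI := H54.BCX.Pair.overOpen f V
      exact ⟨a, ha, H54.BCX.Crit.split_congr D.L (by omega) (by omega) h2⟩
    · have hsp : H54.BCX.Crit.Sp D ((0 : ℕ) : ℤ) s := by
        refine H54.BCX.ZeroCrit.sp_of_epi hV D hsV ?_
        refine Groth.Agent.Lib.Cube.FibreGen.epi_bc0_of_gen f _ _ _ (f.fiber_fac s) _ (fun U => ?_)
          (hker s).2 (W := ⊤) rfl _ (Groth.Agent.Lib.Ample.GenLocus.isGen_one _)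
        rcases (U : Set (Spec (S.residueField s))).eq_empty_or_nonempty with h | ⟨z, hz⟩
        · exact Or.inl (TopologicalSpace.Opens.ext h)
        · exact Or.inr (top_unique fun w _ => Subsingleton.elim z w ▸ hz)
      letI := H54.BCX.Pair.overOpen f V
      obtain ⟨a, ha, h⟩ := hsp
      exact ⟨a, ha, H54.BCX.Crit.split_congr D.L (by omega) (by omega) h⟩

end Groth.Agent.S16751
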