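import Groth.Statements.S16752
import Groth.Agent.Lib.Curves.GlobalSections
import Groth.Agent.Lib.TensorMod.FPConv
import Groth.Prelude.Def_PicLoc
import Groth.Agent.Lib.Curves.LES
import Groth.Agent.Lib.ExchangeFP29.Main
import Groth.Agent.H47.Extend.Locus
import Groth.Agent.Lib.Flat55.FibreDimFlat
-- import your own Groth.Agent.* helpers here

set_option autoImplicit false
set_option backward.isDefEq.respectTransparency false
universe u
open CurvSt
open Groth.Agent.Lib
open CategoryTheory CategoryTheory.Limits AlgebraicGeometry

namespace Groth.Agent.S16752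

theorem finrank_pos (k : Type u) [Field k] (Z : Scheme.{u}) [Z.Over (Spec (CommRingCat.of k))]
    [Nonempty Z] [Module.Finite k (Coh.HH Z (Coh.structureModule Z) 0)] :
    0 < Module.finrank k (Coh.HH Z (Coh.structureModule Z) 0) := by
  haveI : Nonempty (⊤ : Z.Opens) := ⟨⟨Classical.arbitrary Z, trivial⟩⟩
  haveI : Nontrivial Γ(Z, ⊤) := Scheme.component_nontrivial Z ⊤
  rw [Module.finrank_pos_iff]
  haveI : Nontrivial (((Coh.structureModule Z).val.obj (Opposite.op (⊤ : Z.Opens))) : Type u) :=
    ‹Nontrivial Γ(Z, ⊤)›
  exact (Groth.Agent.Lib.Curves.GlobalSections.h0Equiv (Coh.structureModule Z)).toEquiv.nontrivial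

open CategoryTheory CategoryTheory.Limits AlgebraicGeometry in
/-- Let f : X → S be a flat, proper morphism of schemes, locally of finite presentation, all of whose
fibres have dimension at most one (a family of curves whose total space is a scheme). Then the set
of points s of S such that the fibre X_s has dimension one and dim_{κ(s)} H^0(X_s, O_{X_s}) = 1 (the
conditions under which the genus of X_s is defined) is open in S. The source allows the total space
to be an algebraic space and phrases the result as the existence of an open substack of the stack of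
curves with this membership condition. -/
theorem result (X S : Scheme.{u}) (f : X ⟶ S)
    [Flat f] [IsProper f] [LocallyOfFinitePresentation f]
    (hdim : ∀ s : S, topologicalKrullDim ↥(f.fiber s) ≤ 1) :
    IsOpen {s : S | topologicalKrullDim ↥(f.fiber s) = 1 ∧
      Models.hRank ↥(S.residueField s) (f.fiber s) (f.fiberToSpecResidueField s)
        (Coh.structureModule (f.fiber s)) 0 = 1} := by
  let O := Coh.structureModule X
  have hF : CohB1.IsFP O := Groth.Agent.Lib.TensorMod.FPConv.isFP_of_isFinLocFree fun _ => ⟨⊤, 1, trivial,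
    ⟨(Scheme.Modules.restrictFunctor _).mapIso (Groth.Agent.Lib.TensorMod.LocFree.freeModOneIso X).symm ≪≫
      Groth.Agent.Lib.TensorMod.LocFree.restrictFreeModIso _ 1⟩⟩
  haveI : SheafOfModules.IsFinitePresentation (R := X.ringCatSheaf) O := hF
  haveI : O.IsQuasicoherent := inferInstance
  have hfl := Groth.Agent.H47.Extend.isFlatOver_structureModule f
  have h1 := Groth.Agent.Lib.ExchangeFP29.Main.isOpen_fiberRank_lt f O hF hfl 0 2
  have h2 := Groth.Agent.Lib.Flat55.FibreDimFlat.isOpen_setOf_le_fibre_dim f 1
  convert h1.inter h2 using 1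
  ext s
  simp only [Set.mem_inter_iff, Set.mem_ofPred_eq]
  letI : (f.fiber s).Over (Spec (CommRingCat.of (S.residueField s))) := ⟨f.fiberToSpecResidueField s⟩
  have hfr : CohIII.fiberRank f O 0 s =
      Module.finrank (S.residueField s) (Coh.HH (f.fiber s) (Coh.structureModule (f.fiber s)) 0) :=
    (Curves.LES.isoK (S.residueField s) (PicLoc.pullbackStructureIso (f.fiberι s)) 0).finrank_eq
  rw [hfr]
  constructor
  · rintro ⟨hd, hr⟩
    refine ⟨?_, le_of_eq (hd.symm ▸ Nat.cast_one)⟩
    exact lt_of_eq_of_lt hr (by norm_num)
  · rintro ⟨hr, hd⟩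
    have hd1 : topologicalKrullDim ↥(f.fiber s) = 1 := le_antisymm (hdim s) (by simpa using hd)
    haveI : Nonempty ↥(f.fiber s) := by
      by_contra hne
      haveI := not_nonempty_iff.1 hne
      have hbot : topologicalKrullDim ↥(f.fiber s) = ⊥ := by
        haveI : IsEmpty (TopologicalSpace.IrreducibleCloseds ↥(f.fiber s)) := ⟨fun T => (IsEmpty.false T.isIrreducible.nonempty.choose)⟩
        exact Order.krullDim_eq_bot
      rw [hbot] at hd1
      exact absurd hd1 (by simp)
    haveI : Module.Finite (S.residueField s) (Coh.HH (f.fiber s) (Coh.structureModule (f.fiber s)) 0) := by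
      haveI := Groth.Agent.Lib.ExchangeFP29.Main.finite_fiberH f O hF s 0
      exact Module.Finite.equiv (Curves.LES.isoK (S.residueField s) (PicLoc.pullbackStructureIso (f.fiberι s)) 0)
    have := finrank_pos (S.residueField s) (f.fiber s)
    refine ⟨hd1, ?_⟩
    show Module.finrank (S.residueField s) (Coh.HH (f.fiber s) (Coh.structureModule (f.fiber s)) 0) = 1
    omega

end Groth.Agent.S16752
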