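import Groth.Statements.S16753
import Groth.Agent.Lib.Amp36.Contraction.Fibre

set_option autoImplicit false
universe u
open CurvSt

namespace Groth.Agent.S16753

open CategoryTheory CategoryTheory.Limits AlgebraicGeometry in
/-- Fix a scheme S with a point s, and consider two families of curves X → S and Y → S, where X and Y
are schemes and each structure morphism is flat, proper and locally of finite presentation with
every fibre of dimension at most one; the family X → S is given as the composite of a morphism c : X
→ Y over S followed by g : Y → S. Suppose that on the fibres over s the induced morphism c_s : X_s →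
Y_s makes O_{Y_s} → c_{s,*} O_{X_s} an isomorphism (on sections over each open of Y_s) and satisfies
R^1 c_{s,*} O_{X_s} = 0 (meaning that first cohomology of the structure sheaf vanishes on the
preimage of each affine open of Y_s). One can then find an open subset U of S containing s with the
following property: whenever S' → S has image inside U and X' → Y' → S' is the base-changed diagram
(with both squares cartesian), the morphism c' : X' → Y' still makes O_{Y'} → c'_* O_{X'} an
isomorphism and still has R^1 c'_* O_{X'} = 0, understood in the same sense. In the source, X and Y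
are permitted to be algebraic spaces. -/
theorem result {X Y S : Scheme.{u}} (c : X ⟶ Y) (g : Y ⟶ S)
    [Flat (c ≫ g)] [IsProper (c ≫ g)] [LocallyOfFinitePresentation (c ≫ g)]
    [Flat g] [IsProper g] [LocallyOfFinitePresentation g]
    (hX : ∀ t : S, topologicalKrullDim ↥((c ≫ g).fiber t) ≤ 1) (hY : ∀ t : S, topologicalKrullDim ↥(g.fiber t) ≤ 1)
    (s : S) (hiso : ∀ U : (g.fiber s).Opens, IsIso ((MoreMor.fiberMap c g s).app U))
    (hR1 : ∀ U : (g.fiber s).Opens, IsAffineOpen U →
      Subsingleton (Coh.HHon ((c ≫ g).fiber s) (Coh.structureModule ((c ≫ g).fiber s)) (MoreMor.fiberMap c g s ⁻¹ᵁ U) 1)) :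
    ∃ U : S.Opens, s ∈ U ∧
      ∀ (S' X' Y' : Scheme.{u}) (b : S' ⟶ S) (g' : Y' ⟶ S') (c' : X' ⟶ Y') (pY : Y' ⟶ Y) (pX : X' ⟶ X),
        IsPullback pY g' g b → IsPullback pX c' c pY → Set.range b.base ⊆ (U : Set S) →
          (∀ W : Y'.Opens, IsIso (c'.app W)) ∧
            ∀ W : Y'.Opens, IsAffineOpen W →
              Subsingleton (Coh.HHon X' (Coh.structureModule X') (c' ⁻¹ᵁ W) 1) := by
  haveI : IsProper c := IsProper.of_comp c g
  haveI := Groth.Agent.Lib.Amp36.Contraction.Fibre.isProper_fiberMap c g s
  have hs := Groth.Agent.Lib.Amp36.Contraction.Fibre.small (MoreMor.fiberMap c g s)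
    (fun y => Groth.Agent.Lib.Amp36.Contraction.Fibre.dim_le _ (hX s) y) hR1
  have hb := Groth.Agent.Lib.Amp36.Contraction.Fibre.bij (MoreMor.fiberMap c g s) hiso
  obtain ⟨V, hV, hsV, hbV, hfV⟩ :=
    Groth.Agent.Lib.Amp36.Contraction.Main.exists_good_nhd c g s (fun x _ => Flat.stalkMap (c ≫ g) x) hs hb
  haveI := hfV
  refine ⟨⟨(g.base '' (V : Set Y)ᶜ)ᶜ, (g.isClosedMap _ V.2.isClosed_compl).isOpen_compl⟩,
    fun ⟨y, hy, hys⟩ => hy (hV hys), fun S' X' Y' b g' c' pY pX hY' hX' hb' => ?_⟩
  haveI : IsProper c' := MorphismProperty.of_isPullback hX' inferInstance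
  have htop : ∀ W : Y'.Opens, W ≤ pY ⁻¹ᵁ V := fun W y _ => by
    by_contra hy
    refine hb' ⟨g' y, rfl⟩ ⟨pY y, hy, ?_⟩
    show g (pY y) = b (g' y)
    rw [← Scheme.Hom.comp_apply, hY'.w, Scheme.Hom.comp_apply]
  refine ⟨fun W => (ConcreteCategory.isIso_iff_bijective _).2
      (Groth.Agent.Lib.Amp36.Contraction.Universal.bij_baseChange c g hsV hbV hY' hX' W (htop W)),
    fun W hW => Groth.Agent.Lib.Amp36.Contraction.Fibres.subsingleton_HHon c' hW
      ((Groth.Agent.Lib.Amp36.Contraction.Fibres.small_baseChange c hX' hsV).mono (htop W))⟩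

end Groth.Agent.S16753
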