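import Groth.Statements.S16754
import Groth.Agent.H2.Rigid.GeomIrred
import Groth.Agent.H2.Rigid.GeomConn0
import Groth.Agent.H2.Rigid.Smooth
import Groth.Agent.Lib.Curves.GlobalSections

set_option autoImplicit false
universe u
open CurvSt
open Groth.Agent.H2.Rigid

namespace Groth.Agent.S16754

open CategoryTheory CategoryTheory.Limits AlgebraicGeometry in
/-- Let k be a field and X a scheme which is proper and smooth over k and of dimension one. Then the
following are equivalent: dim_k H^0(X, O_X) = 1 (the ground field is the ring of global functions);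
X is geometrically connected over k; X is geometrically integral over k. (The remaining conditions
of the source concern membership in an open substack of the stack of curves and are not stated.) -/
theorem result (k : Type u) [Field k]
    (X : Scheme.{u}) [X.Over (Spec (CommRingCat.of k))] [IsProper (X ↘ Spec (CommRingCat.of k))]
    [Smooth (X ↘ Spec (CommRingCat.of k))] (hdim : topologicalKrullDim ↥X = 1) :
    (Module.finrank k (Coh.HH X (Coh.structureModule X) 0) = 1 ↔ GeometricallyConnected (X ↘ Spec (CommRingCat.of k))) ∧
      (GeometricallyConnected (X ↘ Spec (CommRingCat.of k)) ↔ GeometricallyIntegral (X ↘ Spec (CommRingCat.of k))) := by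
  set f := X ↘ Spec (CommRingCat.of k) with hf
  letI : Algebra k Γ(X, ⊤) := (GeomConn0.str f).toAlgebra
  have halg : algebraMap k Γ(X, ⊤) = GeomConn0.str f := rfl
  have hfr : Module.finrank k (Coh.HH X (Coh.structureModule X) 0) =
      Module.finrank k Γ(X, ⊤) := by
    letI := Groth.Agent.Lib.Curves.GlobalSections.secModule k (Coh.structureModule X)
    exact (Groth.Agent.Lib.Curves.GlobalSections.h0Linear k (Coh.structureModule X)).finrank_eq
  refine ⟨⟨fun h1 => ?_, fun hc => ?_⟩, fun _ => GeomIrred.geometricallyIntegral_of_smooth f,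
    fun _ => GeomIrred.geometricallyConnected f⟩
  · rw [hfr] at h1
    have : Nontrivial Γ(X, ⊤) := Module.nontrivial_of_finrank_eq_succ h1
    have : FiniteDimensional k Γ(X, ⊤) := Module.finite_of_finrank_eq_succ h1
    have hb : Function.Surjective (algebraMap k Γ(X, ⊤)) := fun a => by
      obtain ⟨c, hc⟩ := (finrank_eq_one_iff_of_nonzero' (1 : Γ(X, ⊤)) one_ne_zero).1 h1 a
      exact ⟨c, by rw [Algebra.algebraMap_eq_smul_one]; exact hc⟩
    have hfld : IsField Γ(X, ⊤) :=
      ((RingEquiv.ofBijective (algebraMap k Γ(X, ⊤))
        ⟨RingHom.injective _, hb⟩).symm.toMulEquiv).isField (Field.toIsField k)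
    refine (GeomConn0.geometricallyConnected_iff f halg (ringExpChar k)).2
      ⟨let := hfld.toField; inferInstance, ringKrullDim_eq_zero_of_isField hfld, fun a => ?_⟩
    obtain ⟨c, rfl⟩ := hb a
    exact ⟨0, c, by simp⟩
  · have := geometricallyReduced_of_smooth f
    have hH : H0 f := H0.of_geometrically f
    have hs : Function.Surjective f.appTop.hom := by
      refine H0.isPullback hH (P := X) (p₁ := 𝟙 X) (p₂ := f) (pt := 𝟙 _) ?_
      exact IsPullback.of_horiz_isIso ⟨by simp⟩
    have hb : Function.Surjective (algebraMap k Γ(X, ⊤)) :=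
      hs.comp (Scheme.ΓSpecIso (CommRingCat.of k)).commRingCatIsoToRingEquiv.symm.surjective
    have hc0 : ConnectedSpace X := GeometricallyConnected.connectedSpace_of_subsingleton (f := f)
    have : Nonempty (⊤ : X.Opens) := ⟨⟨Classical.arbitrary X, trivial⟩⟩
    have : Nontrivial Γ(X, ⊤) := Scheme.component_nontrivial X ⊤
    rw [hfr]
    refine finrank_eq_one (1 : Γ(X, ⊤)) one_ne_zero fun a => ?_
    obtain ⟨c, rfl⟩ := hb a
    exact ⟨c, by rw [Algebra.algebraMap_eq_smul_one]⟩


end Groth.Agent.S16754
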