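import Groth.Statements.S16755
import Groth.Agent.Lib.Amp36.Contraction.IsoNear

set_option autoImplicit false
universe u
open CurvSt

namespace Groth.Agent.S16755

open CategoryTheory CategoryTheory.Limits AlgebraicGeometry in
/-- Let S be a scheme and s a point of S; let f : X → S, g₁ : Y₁ → S, g₂ : Y₂ → S be families of curves
with X, Y₁, Y₂ schemes (flat, proper, locally of finite presentation, all fibres of dimension at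
most one) and c₁ : X → Y₁, c₂ : X → Y₂ morphisms over S. Fix the fibres X_s, Y_{1,s}, Y_{2,s} over
the residue field κ(s) (cartesian squares over Spec κ(s) → S), the morphisms d₁ : X_s → Y_{1,s}, d₂
: X_s → Y_{2,s} induced by c₁, c₂, and an isomorphism e : Y_{1,s} ≅ Y_{2,s} over κ(s) with d₁
followed by e equal to d₂. Assume O_{Y_{1,s}} → d_{1,*} O_{X_s} is an isomorphism (on sections over
every open) and R^1 d_{1,*} O_{X_s} = 0 (the first cohomology of the structure sheaf of X_s vanishes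
on the preimage of every affine open of Y_{1,s}). Then there are an open neighbourhood U of s in S
and an isomorphism e' between the open subschemes g₁^{-1}(U) of Y₁ and g₂^{-1}(U) of Y₂, over S,
compatible with c₁ and c₂ (a T-valued point of X whose images under c₁ and c₂ lie in these opens has
those images matched by e') and restricting to e on the fibres over s. The source allows
algebraic-space total spaces. -/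
theorem result {X Y₁ Y₂ S : Scheme.{u}}
    (f : X ⟶ S) (g₁ : Y₁ ⟶ S) (g₂ : Y₂ ⟶ S) (c₁ : X ⟶ Y₁) (c₂ : X ⟶ Y₂) (hc₁ : c₁ ≫ g₁ = f) (hc₂ : c₂ ≫ g₂ = f)
    [Flat f] [IsProper f] [LocallyOfFinitePresentation f]
    [Flat g₁] [IsProper g₁] [LocallyOfFinitePresentation g₁]
    [Flat g₂] [IsProper g₂] [LocallyOfFinitePresentation g₂]
    (hX : ∀ t : S, topologicalKrullDim ↥(f.fiber t) ≤ 1) (hY₁ : ∀ t : S, topologicalKrullDim ↥(g₁.fiber t) ≤ 1)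
    (hY₂ : ∀ t : S, topologicalKrullDim ↥(g₂.fiber t) ≤ 1)
    (s : S) (Xs Ys₁ Ys₂ : Scheme.{u})
    (iX : Xs ⟶ X) (qX : Xs ⟶ Spec (S.residueField s)) (hXs : IsPullback iX qX f (S.fromSpecResidueField s))
    (i₁ : Ys₁ ⟶ Y₁) (q₁ : Ys₁ ⟶ Spec (S.residueField s)) (hYs₁ : IsPullback i₁ q₁ g₁ (S.fromSpecResidueField s))
    (i₂ : Ys₂ ⟶ Y₂) (q₂ : Ys₂ ⟶ Spec (S.residueField s)) (hYs₂ : IsPullback i₂ q₂ g₂ (S.fromSpecResidueField s))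
    (d₁ : Xs ⟶ Ys₁) (hd₁ : d₁ ≫ i₁ = iX ≫ c₁) (hd₁q : d₁ ≫ q₁ = qX)
    (d₂ : Xs ⟶ Ys₂) (hd₂ : d₂ ≫ i₂ = iX ≫ c₂) (hd₂q : d₂ ≫ q₂ = qX)
    (e : Ys₁ ≅ Ys₂) (he : e.hom ≫ q₂ = q₁) (hec : d₁ ≫ e.hom = d₂)
    (hiso : ∀ U : Ys₁.Opens, IsIso (d₁.app U))
    (hR1 : ∀ U : Ys₁.Opens, IsAffineOpen U → Subsingleton (Coh.HHon Xs (Coh.structureModule Xs) (d₁ ⁻¹ᵁ U) 1)) :
    ∃ U : S.Opens, s ∈ U ∧ ∃ e' : ((g₁ ⁻¹ᵁ U : Scheme.{u})) ≅ (g₂ ⁻¹ᵁ U : Scheme.{u}),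
      e'.hom ≫ (g₂ ⁻¹ᵁ U).ι ≫ g₂ = (g₁ ⁻¹ᵁ U).ι ≫ g₁ ∧
      (∀ (T : Scheme.{u}) (a : T ⟶ X) (a₁ : T ⟶ (g₁ ⁻¹ᵁ U : Scheme.{u})) (a₂ : T ⟶ (g₂ ⁻¹ᵁ U : Scheme.{u})),
          a ≫ c₁ = a₁ ≫ (g₁ ⁻¹ᵁ U).ι → a ≫ c₂ = a₂ ≫ (g₂ ⁻¹ᵁ U).ι → a₁ ≫ e'.hom = a₂) ∧
      (∀ (b₁ : Ys₁ ⟶ (g₁ ⁻¹ᵁ U : Scheme.{u})) (b₂ : Ys₂ ⟶ (g₂ ⁻¹ᵁ U : Scheme.{u})),
          b₁ ≫ (g₁ ⁻¹ᵁ U).ι = i₁ → b₂ ≫ (g₂ ⁻¹ᵁ U).ι = i₂ → b₁ ≫ e'.hom = e.hom ≫ b₂) := by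
  subst hc₁
  haveI : IsProper c₁ := IsProper.of_comp c₁ g₁
  have sqX : IsPullback iX d₁ c₁ i₁ := IsPullback.of_bot (by rw [hd₁q]; exact hXs) hd₁.symm hYs₁
  haveI : IsProper d₁ := MorphismProperty.of_isPullback sqX inferInstance
  have hXdim : topologicalKrullDim ↥Xs ≤ ((1 : ℕ) : WithBot ℕ∞) := by
    let α : (c₁ ≫ g₁).fiber s ≅ Xs :=
      (IsPullback.of_hasPullback (c₁ ≫ g₁) (S.fromSpecResidueField s)).isoIsPullback _ _ hXs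
    exact ((IsHomeomorph.topologicalKrullDim_eq _ α.inv.homeomorph.isHomeomorph)).trans_le (hX s)
  have hsd := Groth.Agent.Lib.Amp36.Contraction.Fibre.small d₁
    (fun y => Groth.Agent.Lib.Amp36.Contraction.Fibre.dim_le d₁ hXdim y) hR1
  have hbd := Groth.Agent.Lib.Amp36.Contraction.Fibre.bij d₁ hiso
  obtain ⟨hsm, hbm⟩ := Groth.Agent.Lib.Amp36.Contraction.IsoNear.small_bij_fiberMap c₁ g₁ s hYs₁ sqX hsd hbd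
  obtain ⟨V, hV, -, hbV, -⟩ := Groth.Agent.Lib.Amp36.Contraction.Main.exists_good_nhd c₁ g₁ s
    (fun x _ => Flat.stalkMap (c₁ ≫ g₁) x) hsm hbm
  have hfib : ∀ y : Y₁, g₁ y = s → ∃ y₂ : Y₂, ∀ x, c₁ x = y → c₂ x = y₂ := fun y hy => by
    obtain ⟨z, -, hz, -⟩ : ∃ z : Ys₁, True ∧ i₁ z = y ∧ True := by
      obtain ⟨p, hp, -⟩ := Scheme.Pullback.exists_preimage_pullback (f := g₁)
        (g := S.fromSpecResidueField s) y (default : PrimeSpectrum (S.residueField s))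
        (hy.trans (S.fromSpecResidueField_apply s _).symm)
      exact ⟨hYs₁.isoPullback.inv p, trivial, (congr($(hYs₁.isoPullback_inv_fst) p)).trans hp, trivial⟩
    refine ⟨i₂ (e.hom z), fun x hx => ?_⟩
    obtain ⟨p, hp₁, hp₂⟩ := Scheme.Pullback.exists_preimage_pullback (f := c₁) (g := i₁) x z
      (hx.trans hz.symm)
    have h1 : iX (sqX.isoPullback.inv p) = x := (congr($(sqX.isoPullback_inv_fst) p)).trans hp₁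
    have h2 : d₁ (sqX.isoPullback.inv p) = z := (congr($(sqX.isoPullback_inv_snd) p)).trans hp₂
    rw [← h1, ← h2, ← Scheme.Hom.comp_apply, ← hd₂, ← hec]
    simp only [Scheme.Hom.comp_apply]
  obtain ⟨U, hsU, hUV, h, hw, hc⟩ :=
    Groth.Agent.Lib.Amp36.Contraction.IsoNear.exists_hom g₁ g₂ c₁ c₂ s hc₂ hbV hV hfib
  -- the fibres inside
  have hr₁ : Set.range i₁ ⊆ Set.range (g₁ ⁻¹ᵁ U).ι := by
    rw [Scheme.Opens.range_ι]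
    rintro _ ⟨z, rfl⟩
    show g₁ (i₁ z) ∈ U
    rw [← Scheme.Hom.comp_apply, hYs₁.w, Scheme.Hom.comp_apply, Scheme.fromSpecResidueField_apply]
    exact hsU
  have hr₂ : Set.range i₂ ⊆ Set.range (g₂ ⁻¹ᵁ U).ι := by
    rw [Scheme.Opens.range_ι]
    rintro _ ⟨z, rfl⟩
    show g₂ (i₂ z) ∈ U
    rw [← Scheme.Hom.comp_apply, hYs₂.w, Scheme.Hom.comp_apply, Scheme.fromSpecResidueField_apply]
    exact hsU
  have hrX : Set.range iX ⊆ Set.range (c₁ ⁻¹ᵁ g₁ ⁻¹ᵁ U).ι := by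
    rw [Scheme.Opens.range_ι]
    rintro _ ⟨z, rfl⟩
    show g₁ (c₁ (iX z)) ∈ U
    rw [← Scheme.Hom.comp_apply, ← Scheme.Hom.comp_apply, hXs.w, Scheme.Hom.comp_apply,
      Scheme.fromSpecResidueField_apply]
    exact hsU
  let j₁ := IsOpenImmersion.lift (g₁ ⁻¹ᵁ U).ι i₁ hr₁
  let j₂ := IsOpenImmersion.lift (g₂ ⁻¹ᵁ U).ι i₂ hr₂
  let jX := IsOpenImmersion.lift (c₁ ⁻¹ᵁ g₁ ⁻¹ᵁ U).ι iX hrX
  have hj₁ : j₁ ≫ (g₁ ⁻¹ᵁ U).ι = i₁ := IsOpenImmersion.lift_fac _ _ _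
  have hj₂ : j₂ ≫ (g₂ ⁻¹ᵁ U).ι = i₂ := IsOpenImmersion.lift_fac _ _ _
  have hjX : jX ≫ (c₁ ⁻¹ᵁ g₁ ⁻¹ᵁ U).ι = iX := IsOpenImmersion.lift_fac _ _ _
  have hej : j₁ ≫ h = e.hom ≫ j₂ := by
    rw [← cancel_mono (g₂ ⁻¹ᵁ U).ι, Category.assoc, Category.assoc, hj₂]
    refine Groth.Agent.Lib.Amp36.Contraction.Factor.cancel d₁ hbd _ _ ?_
    have h1 : d₁ ≫ j₁ = jX ≫ (c₁ ∣_ (g₁ ⁻¹ᵁ U)) := by
      rw [← cancel_mono (g₁ ⁻¹ᵁ U).ι, Category.assoc, hj₁, Category.assoc, morphismRestrict_ι,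
        ← Category.assoc, hjX, hd₁]
    rw [← Category.assoc, h1, Category.assoc, hc, ← Category.assoc, hjX, ← hd₂, ← hec, Category.assoc]
  obtain ⟨U', hsU', hU'U, hiso'⟩ := Groth.Agent.Lib.Amp36.Contraction.IsoNear.exists_iso_nhd g₁ g₂ s h hw hsU e
    (Groth.Agent.Lib.Amp36.Contraction.IsoNear.isPullback_of_fac (g₁ ⁻¹ᵁ U).ι j₁ hj₁ hYs₁)
    (Groth.Agent.Lib.Amp36.Contraction.IsoNear.isPullback_of_fac (g₂ ⁻¹ᵁ U).ι j₂ hj₂ hYs₂) he hej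
  haveI := hiso'
  let W := (g₂ ⁻¹ᵁ U).ι ⁻¹ᵁ g₂ ⁻¹ᵁ U'
  have hle₁ : g₁ ⁻¹ᵁ U' ≤ g₁ ⁻¹ᵁ U := fun x hx => hU'U hx
  have hle₂ : g₂ ⁻¹ᵁ U' ≤ g₂ ⁻¹ᵁ U := fun x hx => hU'U hx
  have hwpt : ∀ x, g₂ ((g₂ ⁻¹ᵁ U).ι (h x)) = g₁ ((g₁ ⁻¹ᵁ U).ι x) := fun x => by
    exact congr($(hw) x)
  have hA : Set.range (g₁ ⁻¹ᵁ U').ι = Set.range ((h ⁻¹ᵁ W).ι ≫ (g₁ ⁻¹ᵁ U).ι) := by
    rw [Scheme.Opens.range_ι]
    ext y
    constructor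
    · intro hy
      exact ⟨⟨⟨y, hle₁ hy⟩, (congrArg (· ∈ U') (hwpt ⟨y, hle₁ hy⟩)).mpr hy⟩, rfl⟩
    · rintro ⟨x, rfl⟩
      have hx : g₂ ((g₂ ⁻¹ᵁ U).ι (h x.1)) ∈ U' := x.2
      exact (congrArg (· ∈ U') (hwpt x.1)).mp hx
  have hB : Set.range (W.ι ≫ (g₂ ⁻¹ᵁ U).ι) = Set.range (g₂ ⁻¹ᵁ U').ι := by
    rw [Scheme.Opens.range_ι]
    ext y
    exact ⟨by rintro ⟨x, rfl⟩; exact x.2, fun hy => ⟨⟨⟨y, hle₂ hy⟩, hy⟩, rfl⟩⟩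
  let e' : (g₁ ⁻¹ᵁ U').toScheme ≅ (g₂ ⁻¹ᵁ U').toScheme :=
    IsOpenImmersion.isoOfRangeEq (g₁ ⁻¹ᵁ U').ι ((h ⁻¹ᵁ W).ι ≫ (g₁ ⁻¹ᵁ U).ι) hA ≪≫
      @asIso _ _ _ _ (h ∣_ W) hiso' ≪≫
      IsOpenImmersion.isoOfRangeEq (W.ι ≫ (g₂ ⁻¹ᵁ U).ι) (g₂ ⁻¹ᵁ U').ι hB
  have hkey : e'.hom ≫ (g₂ ⁻¹ᵁ U').ι = Y₁.homOfLE hle₁ ≫ h ≫ (g₂ ⁻¹ᵁ U).ι := by
    have hα : (IsOpenImmersion.isoOfRangeEq (g₁ ⁻¹ᵁ U').ι ((h ⁻¹ᵁ W).ι ≫ (g₁ ⁻¹ᵁ U).ι) hA).hom ≫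
        (h ⁻¹ᵁ W).ι = Y₁.homOfLE hle₁ := by
      rw [← cancel_mono (g₁ ⁻¹ᵁ U).ι, Category.assoc, IsOpenImmersion.isoOfRangeEq_hom_fac,
        Scheme.homOfLE_ι]
    simp only [e', Iso.trans_hom, asIso_hom, Category.assoc, IsOpenImmersion.isoOfRangeEq_hom_fac]
    rw [morphismRestrict_ι_assoc, reassoc_of% hα]
  refine ⟨U', hsU', e', ?_, fun T a a₁ a₂ h₁ h₂ => ?_, fun b₁ b₂ h₁ h₂ => ?_⟩
  · rw [← Category.assoc, hkey, Category.assoc, Category.assoc, hw, Scheme.homOfLE_ι_assoc]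
  · rw [← cancel_mono (g₂ ⁻¹ᵁ U').ι, Category.assoc, hkey, ← h₂]
    have hra : Set.range a ⊆ Set.range (c₁ ⁻¹ᵁ g₁ ⁻¹ᵁ U).ι := by
      rw [Scheme.Opens.range_ι]
      rintro _ ⟨t, rfl⟩
      show c₁ (a t) ∈ g₁ ⁻¹ᵁ U
      rw [← Scheme.Hom.comp_apply, h₁, Scheme.Hom.comp_apply]
      exact hle₁ (a₁ t).2
    have hb' := IsOpenImmersion.lift_fac (c₁ ⁻¹ᵁ g₁ ⁻¹ᵁ U).ι a hra
    have h1 : a₁ ≫ Y₁.homOfLE hle₁ =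
        IsOpenImmersion.lift (c₁ ⁻¹ᵁ g₁ ⁻¹ᵁ U).ι a hra ≫ (c₁ ∣_ (g₁ ⁻¹ᵁ U)) := by
      rw [← cancel_mono (g₁ ⁻¹ᵁ U).ι, Category.assoc, Scheme.homOfLE_ι, Category.assoc,
        morphismRestrict_ι, ← Category.assoc, hb', h₁]
    rw [← Category.assoc, h1, Category.assoc, hc, ← Category.assoc, hb']
  · rw [← cancel_mono (g₂ ⁻¹ᵁ U').ι, Category.assoc, hkey, Category.assoc, h₂, ← hj₂]
    have h1 : b₁ ≫ Y₁.homOfLE hle₁ = j₁ := by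
      rw [← cancel_mono (g₁ ⁻¹ᵁ U).ι, Category.assoc, Scheme.homOfLE_ι, h₁, hj₁]
    rw [← Category.assoc, h1, ← Category.assoc, hej, Category.assoc]

end Groth.Agent.S16755
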