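import Groth.Statements.S16762
import Groth.Agent.Lib.Pure.UI
import Mathlib.RingTheory.Flat.FaithfullyFlat.Basic
import Mathlib.LinearAlgebra.TensorProduct.Tower

set_option autoImplicit false
universe u
open CAlgX

namespace Groth.Agent.S16762

/-- Let A → A' be faithfully flat and u : M → N a map of A-modules. Then u is universally injective (u ⊗
id_Q injective for every A-module Q) if and only if its base change A' ⊗_A M → A' ⊗_A N is
universally injective as a map of A'-modules. -/
theorem result (A A' : Type u) [CommRing A] [CommRing A']
    [Algebra A A'] [Module.FaithfullyFlat A A'] {M N : Type u} [AddCommGroup M] [Module A M]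
    [AddCommGroup N] [Module A N] (u : M →ₗ[A] N) :
    CAlgX.UniversallyInjective A u ↔ CAlgX.UniversallyInjective A' (u.baseChange A') := by
  have key : ∀ (Q : Type u) [AddCommGroup Q] [Module A' Q] [Module A Q] [IsScalarTower A A' Q],
      Function.Injective ((u.baseChange A').lTensor Q) ↔ Function.Injective (u.lTensor Q) := by
    intro Q _ _ _ _
    have e : u.lTensor Q ∘ TensorProduct.AlgebraTensorModule.cancelBaseChange A A' A' Q M
        = TensorProduct.AlgebraTensorModule.cancelBaseChange A A' A' Q N ∘ (u.baseChange A').lTensor Q := by
      funext x
      simp only [Function.comp_apply]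
      induction x using TensorProduct.induction_on with
      | zero => simp
      | add a b ha hb => simp only [map_add, ha, hb]
      | tmul q y =>
        induction y using TensorProduct.induction_on with
        | zero => simp
        | add a b ha hb => simp only [TensorProduct.tmul_add, map_add, ha, hb]
        | tmul s m => simp
    rw [← EquivLike.comp_injective _ (TensorProduct.AlgebraTensorModule.cancelBaseChange A A' A' Q N), ← e,
      EquivLike.injective_comp]
  constructor
  · intro h Q _ _
    let : Module A Q := Module.compHom Q (algebraMap A A')
    have : IsScalarTower A A' Q := IsScalarTower.of_algebraMap_smul fun r y => rfl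
    exact ((u.baseChange A').lTensor_inj_iff_rTensor_inj Q).1
      ((key Q).2 ((u.lTensor_inj_iff_rTensor_inj Q).2 (h Q)))
  · intro h Q _ _
    have h1 : Function.Injective (u.lTensor (TensorProduct A A' Q)) :=
      (key _).1 (((u.baseChange A').lTensor_inj_iff_rTensor_inj _).2 (h _))
    rw [← u.lTensor_inj_iff_rTensor_inj Q,
      ← Module.FaithfullyFlat.lTensor_injective_iff_injective A A']
    have e2 : (u.lTensor Q).lTensor A'
        = (TensorProduct.assoc A A' Q N).toLinearMap ∘ₗ u.lTensor (TensorProduct A A' Q) ∘ₗ
          (TensorProduct.assoc A A' Q M).symm.toLinearMap := by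
      ext; simp
    rw [e2]
    exact ((TensorProduct.assoc A A' Q N).injective.comp h1).comp
      (TensorProduct.assoc A A' Q M).symm.injective

end Groth.Agent.S16762
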