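import Groth.Statements.S16770
import Groth.Agent.H87.HomSch
import Groth.Agent.H87.MapFam
-- import your own Groth.Agent.* helpers here

set_option autoImplicit false
open CategoryTheory MonoidalCategory CartesianMonoidalCategory MonObj GrpObj AlgebraicGeometry
universe u
open SGA3x CategoryTheory.Limits

namespace Groth.Agent.S16770

theorem exists_repsOn {S : Scheme.{u}} (X Y : Over S) [IsFinite X.hom] [Flat X.hom]
    [LocallyOfFinitePresentation X.hom] [IsAffineHom Y.hom] {A : Type u} [CommRing A]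
    (j : Spec (.of A) ⟶ S) :
    ∃ (N : Over (Spec (.of A))) (U : H87.MapFam.Fam X Y (N.hom ≫ j)), H87.MapFam.RepsOn j N U ∧
      IsAffineHom N.hom ∧ (LocallyOfFinitePresentation Y.hom → LocallyOfFinitePresentation N.hom) := by
  obtain ⟨N, ev, hev, hNa, -, hNfp⟩ := H87.HomLoc.exists_mapsOn X Y j
  let U : H87.MapFam.Fam X Y (N.hom ≫ j) := H87.MapFam.Fam.ofMor ev
  refine ⟨N, U, fun T x F => ?_, hNa, hNfp⟩
  obtain ⟨a, ⟨w, ha⟩, hu⟩ := hev T x F.toMor
  have hres : ∀ (b : T ⟶ N.left) (wb : b ≫ N.hom = x) (w' : b ≫ N.hom ≫ j = x ≫ j),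
      (U.res b w').toMor = H87.HomLoc.wh X j N b wb ≫ ev := fun b wb w' => by
    let bb : Over.mk (x ≫ j) ⟶ Over.mk (N.hom ≫ j) := Over.homMk b w'
    have h1 : (U.res b w').toMor = (X ◁ bb) ≫ U.toMor := by
      rw [show (X ◁ bb) = lift (fst X _) (snd X _ ≫ bb) from
        CartesianMonoidalCategory.hom_ext _ _ (by simp) (by simp)]
      erw [H87.MapFam.Fam.lift_toMor]
      rfl
    rw [h1, show U.toMor = ev from H87.MapFam.Fam.toMor_ofMor ev]
  refine ⟨a, ⟨w, ?_⟩, fun b hb => ?_⟩
  · have w' : a ≫ N.hom ≫ j = x ≫ j := by rw [← Category.assoc, w]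
    rw [← H87.MapFam.Fam.ofMor_toMor (U.res a w'), ← H87.MapFam.Fam.ofMor_toMor F]
    exact congrArg H87.MapFam.Fam.ofMor ((hres a w w').trans ha)
  · obtain ⟨wb, hb⟩ := hb
    exact hu b ⟨wb, (hres b wb (by rw [← Category.assoc, wb])).symm.trans
      (congrArg H87.MapFam.Fam.toMor hb)⟩

/-- For X finite, flat and of finite presentation over a scheme S and Y affine of finite presentation
over S, the functor T ↦ Hom_S(X ×_S T, Y) on S-schemes is representable by an S-scheme which is
affine and of finite presentation over S (products are fibre products over S, written with the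
cartesian monoidal structure of S-schemes). -/
theorem result {S : Scheme.{u}} (X Y : Over S)
    (hXf : IsFinite X.hom) (hXfl : Flat X.hom) (hXfp : LocallyOfFinitePresentation X.hom)
    (hYa : IsAffineHom Y.hom) (hYfp : LocallyOfFinitePresentation Y.hom) :
    ∃ (M : Over S) (ev : X ⊗ M ⟶ Y), IsAffineHom M.hom ∧ LocallyOfFinitePresentation M.hom ∧
      ∀ (T : Over S) (φ : X ⊗ T ⟶ Y), ∃! v : T ⟶ M, (X ◁ v) ≫ ev = φ := by
  classical
  have := hXf; have := hXfl; have := hXfp; have := hYa
  choose N U hU hNa hNfp using fun i => exists_repsOn X Y (S.affineCover.f i)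
  have hcov : Presieve.ofArrows S.affineCover.X S.affineCover.f ∈ Scheme.fpqcPrecoverage S :=
    Scheme.zariskiPrecoverage_le_fpqcPrecoverage _ S.affineCover.mem₀
  obtain ⟨R, V, hV, hR⟩ := H87.MapFam.exists_reps_of_indQA S.affineCover.f hcov N U hU
    fun i => H87.HomSch.indQA_of_isAffineHom (hf := hNa i) (N i).hom
  refine ⟨R, V.toMor, ?_, ?_, H87.MapFam.existsUnique_of_reps R V hV⟩
  · exact IsZariskiLocalAtTarget.of_openCover (P := @IsAffineHom) S.affineCover fun i =>
      H87.HomSch.exists_representsHom.piece S.affineCover.f R N hR hNa i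
  · exact IsZariskiLocalAtTarget.of_openCover (P := @LocallyOfFinitePresentation) S.affineCover fun i =>
      H87.HomSch.exists_representsHom.piece S.affineCover.f R N hR (fun i => hNfp i hYfp) i

end Groth.Agent.S16770
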