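import Groth.Statements.S16773
import Groth.Agent.Lib.CentW.IsogKer

set_option autoImplicit false
open CategoryTheory MonoidalCategory CartesianMonoidalCategory MonObj GrpObj AlgebraicGeometry
universe u
open Red

namespace Groth.Agent.S16773

/-- Let f : G' → G be a homomorphism of reductive group schemes over a scheme S which is surjective,
with kernel K. If for every s ∈ S the fibre K_s is finite and central in G'_s, then f is flat, K is
finite over S and K is central in G' (f is a central isogeny). -/
theorem result {S : Scheme.{u}} {G' G K : Over S}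
    [GrpObj G'] [GrpObj G] (hG' : Red.IsReductive G') (hG : Red.IsReductive G) (f : G' ⟶ G) [IsMonHom f]
    (hf : Surjective f.left) (i : K ⟶ G') (hK : AlgGrp.IsKernel i f)
    (hfin : ∀ s : S, IsFinite (K.hom.fiberToSpecResidueField s))
    (hcen : ∀ (s : S) (X : Over (Spec (S.residueField s))) (x : X ⟶ Red.bc (S.fromSpecResidueField s) K)
      (g : X ⟶ Red.bc (S.fromSpecResidueField s) G'),
      (x ≫ (Over.pullback (S.fromSpecResidueField s)).map i) * g = g * (x ≫ (Over.pullback (S.fromSpecResidueField s)).map i)) :
    Flat f.left ∧ IsFinite K.hom ∧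
      ∀ (X : Over S) (x : X ⟶ K) (g : X ⟶ G'), (x ≫ i) * g = g * (x ≫ i) := by
  exact Groth.Agent.Lib.CentW.kernel_central_finite hG' hG f hf i hK hfin hcen

end Groth.Agent.S16773
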