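import Groth.Statements.S16774
import Groth.Agent.Lib.CentW.TorusNhd

set_option autoImplicit false
set_option linter.style.haveILetI false
open CategoryTheory MonoidalCategory CartesianMonoidalCategory MonObj GrpObj AlgebraicGeometry
universe u
open Red

namespace Groth.Agent.S16774

/-- Let G be a smooth affine group scheme with connected fibres over a scheme S, T ⊆ G a subtorus with
centralizer Z = Z_G(T) ⊇ T, and s ∈ S a point at which the geometric fibre of G is reductive and the
geometric fibre of T is a maximal torus. Then over some open neighbourhood U of s the inclusion T →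
Z_G(T) is an isomorphism and T is a maximal torus of G. (The published statement allows disconnected
fibres and concerns identity components; here the fibres of G are connected.) -/
theorem result {S : Scheme.{u}} {G T Z : Over S} [GrpObj G] [GrpObj T] [GrpObj Z]
    (hG : Smooth G.hom) (hGa : IsAffineHom G.hom) (hconn : ∀ s : S, _root_.IsConnected (G.hom.base ⁻¹' {s}))
    (i : T ⟶ G) [IsMonHom i] [Mono i] (hT : Red.IsTorus T) (z : Z ⟶ G) (hz : Red.IsCentralizerOf i z)
    (f : T ⟶ Z) (hf : f ≫ z = i) (s : S)
    (hs : Red.IsReductiveOver (AlgebraicClosure (S.residueField s)) (Red.geomFibre s G))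
    (hTs : Red.IsMaximalTorus ((Over.pullback (Red.geomPt s)).map i)) :
    ∃ U : S.Opens, s ∈ U ∧ IsIso ((Over.pullback U.ι).map f) ∧ Red.IsMaximalTorus ((Over.pullback U.ι).map i) := by
  haveI := hG
  haveI := hGa
  haveI : IsAffine (Red.geomFibre s G).left := hs.1
  obtain ⟨h1, h2, h3, -⟩ := id hTs
  haveI : Smooth (Red.geomFibre s G).hom := hs.2.1
  haveI : ConnectedSpace ↥(Red.geomFibre s G).left := hs.2.2.1
  have hagf : AGF.IsMaxTorus ((Over.pullback (Red.geomPt s)).map i) := ⟨h1, h2, h3, fun T' _ j _ _ g hT' hg =>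
    Groth.Agent.Lib.SmWeil.maximal_of_isMaximalTorus hTs j g hT' hg⟩
  have hself := Groth.Agent.H1.Classical.CentralizerRed.isCentralizerOf_self hs hagf
  obtain ⟨U, hsU, hU⟩ := Groth.Agent.Lib.CentW.exists_nhd_self G hconn i hT z hz f hf s hself
  obtain ⟨-, hZs⟩ := Groth.Agent.Lib.CentW.centralizer_props G i hT z hz
  haveI := hZs
  exact ⟨U, hsU, Groth.Agent.Lib.CentW.restrict_self G i hT z f hf U.ι fun L _ _ k => hU L (k ≫ U.ι)
    (by
      show (k ≫ U.ι) (IsLocalRing.closedPoint L) ∈ U
      erw [Scheme.Hom.comp_apply]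
      exact (k (IsLocalRing.closedPoint L)).2)⟩

end Groth.Agent.S16774
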