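import Groth.Statements.S16775
import Groth.Agent.H87.CentralExt
import Groth.Agent.H87.MTIso
import Groth.Agent.H87.MT
-- import your own Groth.Agent.* helpers here

set_option autoImplicit false
set_option linter.style.haveILetI false
open CategoryTheory MonoidalCategory CartesianMonoidalCategory MonObj GrpObj AlgebraicGeometry
universe u
open SGA3x

namespace Groth.Agent.S16775

open Groth.Agent Groth.Agent.Lib.RedPts

/-- Let G be a smooth affine group scheme with connected fibres over a scheme S, H ⊆ G a normal subgroup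
scheme of multiplicative type (of finite type), G → Q = G/H the quotient, and H' ⊆ Q a central
subgroup scheme of multiplicative type (of finite type). Then the preimage of H' in G is a central
subgroup scheme of G of multiplicative type. -/
theorem result {S : Scheme.{u}} {G H Q H' P : Over S}
    [GrpObj G] [GrpObj H] [GrpObj Q] [GrpObj H'] [GrpObj P]
    (hG : Smooth G.hom) (hGa : IsAffineHom G.hom) (hconn : ∀ s : S, _root_.IsConnected (G.hom.base ⁻¹' {s}))
    (i : H ⟶ G) [IsMonHom i] [Mono i] (hH : SGA3x.IsMultTypeFT H) (hHn : AlgGrp.IsNormalHom i)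
    (q : G ⟶ Q) [IsMonHom q] (hq : RedSub.IsQuotient i q) (hker : AlgGrp.IsKernel i q)
    (j : H' ⟶ Q) [IsMonHom j] [Mono j] (hH' : SGA3x.IsMultTypeFT H')
    (hcenH' : ∀ (X : Over S) (x : X ⟶ H') (g : X ⟶ Q), (x ≫ j) * g = g * (x ≫ j))
    (i' : P ⟶ G) [IsMonHom i'] (p : P ⟶ H') (hP : IsPullback i' p q j) :
    SGA3x.IsMultTypeFT P ∧ ∀ (X : Over S) (x : X ⟶ P) (g : X ⟶ G), (x ≫ i') * g = g * (x ≫ i') := by
  haveI := hGa
  obtain ⟨hq1, hq2, hq3, hq4⟩ := id hq
  haveI := hq1
  haveI := hq2
  haveI := hq3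
  have hfib : ∀ s : S, ConnectedSpace ↥(Limits.pullback G.hom (S.fromSpecResidueField s)) := fun s =>
    (G.hom.fiberHomeo s).connectedSpace_iff.mpr (isConnected_iff_connectedSpace.mp (hconn s))
  have hzc : ∀ (X : Over S) (x : X ⟶ H) (g : X ⟶ G), (x ≫ i) * g = g * (x ≫ i) := fun X x g =>
    (H87.Normal.central_of_connected i hH hHn hfib g x).symm
  haveI : IsAffineHom H.hom := H87.MT.isAffineHom hH
  haveI : QuasiCompact q.left := @H87.CentralExt.quasiCompact_of_kernelPair _ _ _ _ _ _ (hq4.map (Over.forget S))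
    (inferInstanceAs (QuasiCompact (Limits.pullback.fst G.hom H.hom))) hq2 hq3 hq1
  obtain ⟨P', _, x, p', hx, hP', hcen, -, -, hsq⟩ := H87.CentralExt.exists_central_preimage q i j
    (H87.TorusQuot.quot_of_isQuotient i q hq) hzc hH hH' hcenH' hfib
  haveI := hx
  haveI : Mono i' := MorphismProperty.of_isPullback (P := MorphismProperty.monomorphisms _) hP.flip ‹Mono j›
  let e : P' ≅ P := hsq.isoIsPullback _ _ hP
  have hei : e.hom ≫ i' = x := hsq.isoIsPullback_hom_fst _ _ hP
  haveI : IsMonHom e.hom := H87.HomDS.isMonHom_of_points _ fun X a b => by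
    rw [← cancel_mono i', MonObj.mul_comp _ _ i', Category.assoc, Category.assoc, Category.assoc, hei,
      MonObj.mul_comp]
  refine ⟨H87.MTIso.isMultTypeFT_congr (Lib.Tori.BaseChange.grpIso e) hP', fun X y g => ?_⟩
  have := hcen X (y ≫ e.inv) g
  rwa [← hei, Category.assoc, Iso.inv_hom_id_assoc] at this

end Groth.Agent.S16775
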