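import Groth.Statements.S16776
import Groth.Agent.S5287
import Groth.Agent.Lib.EtaleSection.Sections
import Groth.Agent.Lib.RedPts.BC
-- import your own Groth.Agent.* helpers here

set_option autoImplicit false
open CategoryTheory MonoidalCategory CartesianMonoidalCategory MonObj GrpObj AlgebraicGeometry
universe u
open SGA3x

namespace Groth.Agent.S16776

/-- Let G be a smooth affine group scheme over a scheme S and H₁, H₂ ⊆ G subgroup schemes of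
multiplicative type (of finite type). If at a point s ∈ S the geometric fibres of H₁ and H₂ are
conjugate under a geometric point of G, then H₁ and H₂ become conjugate under a section of G over
some etale neighbourhood of s. -/
theorem result {S : Scheme.{u}} (H₁ H₂ G : Over S) [GrpObj H₁] [GrpObj H₂] [GrpObj G]
    (h₁ : SGA3x.IsMultTypeFT H₁) (h₂ : SGA3x.IsMultTypeFT H₂) (hG : Smooth G.hom) (hGa : IsAffineHom G.hom)
    (i₁ : H₁ ⟶ G) [IsMonHom i₁] [Mono i₁] (i₂ : H₂ ⟶ G) [IsMonHom i₂] [Mono i₂] (s : S)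
    (hs : ∃ g : Over.mk (Red.geomPt s) ⟶ G, ∀ (X : Over S) (p : X ⟶ Over.mk (Red.geomPt s)),
      (∀ a : X ⟶ H₁, ∃ b : X ⟶ H₂, (p ≫ g) * (a ≫ i₁) * (p ≫ g)⁻¹ = b ≫ i₂) ∧
      (∀ b : X ⟶ H₂, ∃ a : X ⟶ H₁, (p ≫ g)⁻¹ * (b ≫ i₂) * (p ≫ g) = a ≫ i₁)) :
    ∃ (S' : Scheme.{u}) (e : S' ⟶ S), Etale e ∧ s ∈ Set.range e.base ∧
      ∃ g : 𝟙_ (Over S') ⟶ Red.bc e G, SGA3x.ConjBy ((Over.pullback e).map i₁) ((Over.pullback e).map i₂) g := by
  obtain ⟨T, j, -, hsm, hT⟩ := Groth.Agent.S5287.result H₁ H₂ G h₁ h₂ hG hGa i₁ i₂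
  have : Smooth T.hom := hsm
  have hmem : ∀ (X : Over S) (g : X ⟶ G), (∃ t : X ⟶ T, t ≫ j = g) →
      ∀ (X' : Over S) (x : X' ⟶ X),
        (∀ a : X' ⟶ H₁, ∃ b : X' ⟶ H₂, (x ≫ g) * (a ≫ i₁) * (x ≫ g)⁻¹ = b ≫ i₂) ∧
        (∀ b : X' ⟶ H₂, ∃ a : X' ⟶ H₁, (x ≫ g)⁻¹ * (b ≫ i₂) * (x ≫ g) = a ≫ i₁) :=
    fun X g => (hT X g).1
  obtain ⟨g', hg'⟩ := hs
  obtain ⟨t, -⟩ := (hT _ g').2 hg'
  let pt : (Spec (CommRingCat.of (AlgebraicClosure (S.residueField s))) : Scheme.{u}) :=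
    IsLocalRing.closedPoint (AlgebraicClosure (S.residueField s))
  have hpt : T.hom (t.left pt) = s := by
    rw [← Scheme.Hom.comp_apply, Over.w t]
    exact S.fromSpecResidueField_apply s _
  obtain ⟨S', f, s₁, hf, hs₁, k, hk⟩ :=
    Groth.Agent.Lib.EtaleSection.Sections.exists_etale_section T.hom (t.left pt)
  refine ⟨S', f, hf, ⟨s₁, hs₁.trans hpt⟩, ?_⟩
  let t₀ : (Over.map f).obj (𝟙_ (Over S')) ⟶ T :=
    Over.homMk k (by rw [hk]; exact (Category.id_comp f).symm)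
  refine ⟨Groth.Agent.Lib.RedPts.BC.up f (t₀ ≫ j), ?_⟩
  set g := Groth.Agent.Lib.RedPts.BC.up f (t₀ ≫ j) with hgdef
  have key₁ : ∀ (X : Over S') (a : X ⟶ Red.bc f H₁), ∃ b : X ⟶ Red.bc f H₂,
      (toUnit X ≫ g) * (a ≫ (Over.pullback f).map i₁) * (toUnit X ≫ g)⁻¹ =
        b ≫ (Over.pullback f).map i₂ := fun X a => by
    obtain ⟨b, hb⟩ := (hmem _ _ ⟨t₀, rfl⟩ _ ((Over.map f).map (toUnit X))).1
      (Groth.Agent.Lib.RedPts.BC.down f a)
    refine ⟨Groth.Agent.Lib.RedPts.BC.up f b, ?_⟩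
    apply Groth.Agent.Lib.RedPts.BC.down_injective
    rw [Groth.Agent.Lib.RedPts.BC.down_map, Groth.Agent.Lib.RedPts.BC.down_mul,
      Groth.Agent.Lib.RedPts.BC.down_mul, Groth.Agent.Lib.RedPts.BC.down_inv,
      Groth.Agent.Lib.RedPts.BC.down_comp, hgdef, Groth.Agent.Lib.RedPts.BC.down_up,
      Groth.Agent.Lib.RedPts.BC.down_map, Groth.Agent.Lib.RedPts.BC.down_up]
    exact hb
  have key₂ : ∀ (X : Over S') (b : X ⟶ Red.bc f H₂), ∃ a : X ⟶ Red.bc f H₁,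
      (toUnit X ≫ g)⁻¹ * (b ≫ (Over.pullback f).map i₂) * (toUnit X ≫ g) =
        a ≫ (Over.pullback f).map i₁ := fun X b => by
    obtain ⟨a, ha⟩ := (hmem _ _ ⟨t₀, rfl⟩ _ ((Over.map f).map (toUnit X))).2
      (Groth.Agent.Lib.RedPts.BC.down f b)
    refine ⟨Groth.Agent.Lib.RedPts.BC.up f a, ?_⟩
    apply Groth.Agent.Lib.RedPts.BC.down_injective
    rw [Groth.Agent.Lib.RedPts.BC.down_map, Groth.Agent.Lib.RedPts.BC.down_mul,
      Groth.Agent.Lib.RedPts.BC.down_mul, Groth.Agent.Lib.RedPts.BC.down_inv,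
      Groth.Agent.Lib.RedPts.BC.down_comp, hgdef, Groth.Agent.Lib.RedPts.BC.down_up,
      Groth.Agent.Lib.RedPts.BC.down_map, Groth.Agent.Lib.RedPts.BC.down_up]
    exact ha
  obtain ⟨φ, hφ⟩ := key₁ _ (𝟙 _)
  obtain ⟨ψ, hψ⟩ := key₂ _ (𝟙 _)
  rw [Category.id_comp] at hφ hψ
  -- naturality of the two conjugations
  have hφ' : ∀ {X : Over S'} (a : X ⟶ Red.bc f H₁),
      (toUnit X ≫ g) * (a ≫ (Over.pullback f).map i₁) * (toUnit X ≫ g)⁻¹ =
        (a ≫ φ) ≫ (Over.pullback f).map i₂ := fun {X} a => by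
    rw [Category.assoc, ← hφ, MonObj.comp_mul, MonObj.comp_mul, GrpObj.comp_inv, ← Category.assoc,
      comp_toUnit]
  have hψ' : ∀ {X : Over S'} (b : X ⟶ Red.bc f H₂),
      (toUnit X ≫ g)⁻¹ * (b ≫ (Over.pullback f).map i₂) * (toUnit X ≫ g) =
        (b ≫ ψ) ≫ (Over.pullback f).map i₁ := fun {X} b => by
    rw [Category.assoc, ← hψ, MonObj.comp_mul, MonObj.comp_mul, GrpObj.comp_inv, ← Category.assoc,
      comp_toUnit]
  refine ⟨⟨φ, ψ, ?_, ?_⟩, hφ⟩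
  · rw [← cancel_mono ((Over.pullback f).map i₁), ← hψ' φ, ← hφ, Category.id_comp]
    group
  · rw [← cancel_mono ((Over.pullback f).map i₂), ← hφ' ψ, ← hψ, Category.id_comp]
    group

end Groth.Agent.S16776
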