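import Groth.Statements.S16789
import Groth.Agent.H87.FinSubAll
import Groth.Agent.H87.TypeLocus
import Groth.Agent.H87.TwistAux

set_option autoImplicit false
set_option linter.style.haveILetI false
open CategoryTheory MonoidalCategory CartesianMonoidalCategory MonObj GrpObj AlgebraicGeometry
universe u
open SGA3x
open CategoryTheory.Limits Groth.Agent.H87 Groth.Agent.H87.MonoHom Groth.Agent.H87.SubIn Groth.Agent.H87.TypeLocus

namespace Groth.Agent.S16789

/-- Let G be a smooth affine group scheme over a scheme S and H ⊆ G a subgroup scheme of multiplicative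
type (of finite type) with finite fibres. The functor of multiplicative-type subgroup schemes of
base changes of G whose geometric fibres are isomorphic (as groups) to those of H is representable
by an S-scheme which is quasi-affine and of finite presentation over S, with a universal such
subgroup. -/
theorem result {S : Scheme.{u}} (G H : Over S) [GrpObj G] [GrpObj H]
    (hG : Smooth G.hom) (hGa : IsAffineHom G.hom) (i : H ⟶ G) [IsMonHom i] [Mono i] (hH : SGA3x.IsMultTypeFT H)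
    (hHf : ∀ s : S, IsFinite (H.hom.fiberToSpecResidueField s)) :
    ∃ (M : Over S) (Hu : Over M.left) (_ : GrpObj Hu) (hu : Hu ⟶ Red.bc M.hom G) (_ : IsMonHom hu) (_ : Mono hu),
      Mor2.IsQuasiAffine M.hom ∧ LocallyOfFinitePresentation M.hom ∧ SGA3x.IsMultTypeFT Hu ∧
      (∀ m : ↥M.left, Nonempty (Grp.mk (Red.geomFibre m Hu) ≅ Grp.mk (Red.bc (Red.geomPt m ≫ M.hom) H))) ∧
      ∀ (S' : Scheme.{u}) (f : S' ⟶ S) (H' : Over S') [GrpObj H'] (h' : H' ⟶ Red.bc f G) [IsMonHom h'] [Mono h'],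
        SGA3x.IsMultTypeFT H' →
        (∀ s' : S', Nonempty (Grp.mk (Red.geomFibre s' H') ≅ Grp.mk (Red.bc (Red.geomPt s' ≫ f) H))) →
        ∃! g : S' ⟶ M.left, g ≫ M.hom = f ∧ RedSub.SamePoints G f h' M hu g := by
  haveI := hG
  haveI := hGa
  haveI : LocallyOfFinitePresentation G.hom := inferInstance
  obtain ⟨M, K, gK, j, -, hjm, hjmono, -, hKmt, hKf, hMfp, ⟨I, Mf, iMf, fMf, U, hdist, hrep, hcov, hUaff, hUtype⟩, huniv⟩ :=
    FinSubAll.exists_univ_types G
  letI := gK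
  haveI := hjm
  haveI := hjmono
  haveI := hKf
  haveI := hMfp
  have hfin : ∀ s : S, ∃ (X : Scheme.{u}) (x : X ⟶ S) (p : X), x p = s ∧ IsFinite (Red.bc x H).hom := fun s =>
    ⟨_, S.fromSpecResidueField s, IsLocalRing.closedPoint _, S.fromSpecResidueField_apply _ _, hHf s⟩
  have hHfin : IsFinite H.hom := isFinite_of_fibres hH hfin
  have hcovH : ∀ s : S, ∃ a, s ∈ locus H (Mf a) := fun s => by
    obtain ⟨N, iN, hN, hs⟩ := exists_type hH hfin s
    obtain ⟨a, ⟨e⟩⟩ := hrep N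
    obtain ⟨X, x, p, hp, h⟩ := hs
    exact ⟨a, X, x, p, hp, HasType.congr h e.symm⟩
  have huniqH : ∀ (s : S) (a b : I), s ∈ locus H (Mf a) → s ∈ locus H (Mf b) → a = b := by
    rintro s a b ⟨X, x, p, hp, h⟩ ⟨X', x', p', hp', h'⟩
    obtain ⟨e⟩ := type_unique' p p' (hp.trans hp'.symm) h h'
    exact hdist a b e
  let L : I → S.Opens := fun a => ⟨locus H (Mf a), isOpen_locus hH hfin (Mf a)⟩
  have huniqK : ∀ (m : M.left) (a b : I), m ∈ U a → m ∈ U b → a = b := by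
    intro m a b ha hb
    obtain ⟨X, x, p, hp, h⟩ := hUtype a m ha
    obtain ⟨X', x', p', hp', h'⟩ := hUtype b m hb
    obtain ⟨e⟩ := type_unique' p p' (hp.trans hp'.symm) h h'
    exact hdist a b e
  let V : M.left.Opens := ⨆ a, U a ⊓ M.hom ⁻¹ᵁ L a
  let M₁ : Over S := Over.mk (V.ι ≫ M.hom)
  have haff : IsAffineHom M₁.hom := TwistAux.isAffineHom_of_cover _ fun s => by
    obtain ⟨a, ha⟩ := hcovH s
    refine ⟨L a, ha, fun W hW hle => ?_⟩
    haveI := hUaff a
    have h1 : IsAffineOpen (((U a).ι ≫ M.hom) ⁻¹ᵁ W) := hW.preimage _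
    have h2 : IsAffineOpen ((U a).ι ''ᵁ (((U a).ι ≫ M.hom) ⁻¹ᵁ W)) := h1.image_of_isOpenImmersion _
    have h3 : V.ι ''ᵁ (M₁.hom ⁻¹ᵁ W) = (U a).ι ''ᵁ (((U a).ι ≫ M.hom) ⁻¹ᵁ W) := by
      ext m
      constructor
      · rintro ⟨⟨m', hm'⟩, hW', rfl⟩
        obtain ⟨b, hb⟩ := TopologicalSpace.Opens.mem_iSup.mp hm'
        have hba : b = a := huniqH _ b a hb.2 (hle hW')
        subst hba
        exact ⟨⟨m', hb.1⟩, hW', rfl⟩
      · rintro ⟨⟨m', hm'⟩, hW', rfl⟩
        exact ⟨⟨m', TopologicalSpace.Opens.mem_iSup.mpr ⟨a, hm', hle hW'⟩⟩, hW', rfl⟩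
    exact (Scheme.Hom.isAffineOpen_iff_of_isOpenImmersion V.ι).mp (h3 ▸ h2)
  obtain ⟨hu, hum, humono, -, huIn⟩ := exists_pull (t' := M₁.hom) V.ι rfl j
  have hgeom : ∀ m : ↥M₁.left, Nonempty (Grp.mk (Red.geomFibre m (Red.bc V.ι K)) ≅
      Grp.mk (Red.bc (Red.geomPt m ≫ M₁.hom) H)) := by
    intro m
    obtain ⟨a, ha⟩ := TopologicalSpace.Opens.mem_iSup.mp m.2
    have hm : Red.geomPt (S := (V : Scheme.{u})) m (IsLocalRing.closedPoint _) = m := by
      exact TwistAux.geomPt_apply (S := (V : Scheme.{u})) m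
    obtain ⟨X, x, p, hp, h⟩ := hUtype a m.1 ha.1
    obtain ⟨e₁⟩ := hasType_algClosed hKmt (Red.geomPt (S := (V : Scheme.{u})) m ≫ V.ι) (N := Mf a)
      ⟨X, x, p, hp.trans (by rw [Scheme.Hom.comp_apply, hm]; rfl), h⟩
    obtain ⟨e₂⟩ := hasType_algClosed hH (Red.geomPt (S := (V : Scheme.{u})) m ≫ M₁.hom) (N := Mf a) (by
      rw [Scheme.Hom.comp_apply, hm]
      exact ha.2)
    exact ⟨(Groth.Agent.Lib.Tori.BaseChange.bcComp (Red.geomPt (S := (V : Scheme.{u})) m) V.ι K).symm ≪≫ e₁ ≪≫ e₂.symm⟩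
  refine ⟨M₁, Red.bc V.ι K, inferInstance, hu, hum, humono, TwistAux.isQuasiAffine_of_isAffineHom _,
    inferInstanceAs (LocallyOfFinitePresentation (V.ι ≫ M.hom)), Normal.multTypeFT_bc hKmt V.ι, hgeom, ?_⟩
  intro T f H' _ h' _ _ hH' hgeo
  have hfin' : ∀ t : T, ∃ (X : Scheme.{u}) (x : X ⟶ T) (p : X), x p = t ∧ IsFinite (Red.bc x H').hom := by
    intro t
    obtain ⟨e⟩ := hgeo t
    let e' := Groth.Agent.Lib.Tori.BaseChange.overIso e
    haveI : IsFinite (Red.bc (Red.geomPt t ≫ f) H).hom :=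
      MorphismProperty.pullback_snd (P := @IsFinite) _ _ hHfin
    haveI : IsIso e'.hom.left := inferInstanceAs (IsIso ((Over.forget _).map e'.hom))
    exact ⟨_, Red.geomPt t, IsLocalRing.closedPoint _, TwistAux.geomPt_apply t, by
      rw [← Over.w e'.hom]
      exact (MorphismProperty.cancel_left_of_respectsIso @IsFinite e'.hom.left _).2 inferInstance⟩
  obtain ⟨v, ⟨hv, hvIn⟩, hvu⟩ := huniv T f H' h' hH' (isFinite_of_fibres hH' hfin')
  have hrange : Set.range v ⊆ Set.range V.ι := by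
    rintro _ ⟨t, rfl⟩
    rw [Scheme.Opens.range_ι]
    obtain ⟨a, ha⟩ := hcov (v t)
    obtain ⟨b, hb⟩ := hcovH (f t)
    obtain ⟨jv, hjv1, hjv2, -, hjvIn⟩ := exists_pull v hv j
    obtain ⟨φ, hφ⟩ := exists_iso_of_In h' jv fun W w g => (hvIn W w g).trans (hjvIn w g).symm
    haveI : IsMonHom φ.hom := HomDS.isMonHom_of_points _ fun X p q => by
      rw [← cancel_mono jv, Category.assoc, hφ, MonObj.mul_comp, MonObj.mul_comp, Category.assoc, Category.assoc, hφ]
    let z := Red.geomPt t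
    have hz : z (IsLocalRing.closedPoint _) = t := TwistAux.geomPt_apply t
    obtain ⟨eH⟩ := hasType_algClosed hH (z ≫ f) (N := Mf b) (by rw [Scheme.Hom.comp_apply, hz]; exact hb)
    obtain ⟨e⟩ := hgeo t
    have hKb : HasType K (Mf b) (z ≫ v) := ⟨Groth.Agent.Lib.Tori.BaseChange.bcComp z v K ≪≫
      (Groth.Agent.Lib.Tori.BaseChange.bcMapIso z (Groth.Agent.Lib.Tori.BaseChange.grpIso φ)).symm ≪≫ e ≪≫ eH⟩
    obtain ⟨X, x, p, hp, h⟩ := hUtype a (v t) ha
    obtain ⟨eab⟩ := type_unique' p (IsLocalRing.closedPoint _) (hp.trans (by rw [Scheme.Hom.comp_apply, hz])) h hKb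
    have hab : a = b := hdist a b eab
    subst hab
    refine TopologicalSpace.Opens.mem_iSup.mpr ⟨a, ha, ?_⟩
    show M.hom (v t) ∈ locus H (Mf a)
    rw [← Scheme.Hom.comp_apply, hv]
    exact hb
  let g₀ : T ⟶ M₁.left := IsOpenImmersion.lift V.ι v hrange
  have hg₀ : g₀ ≫ V.ι = v := IsOpenImmersion.lift_fac _ _ _
  refine ⟨g₀, ⟨?_, ?_⟩, ?_⟩
  · show g₀ ≫ V.ι ≫ M.hom = f
    rw [← Category.assoc, hg₀, hv]
  · intro X y g'
    refine (hvIn X y g').trans ?_
    rw [← hg₀, ← Category.assoc]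
    exact (huIn (y ≫ g₀) g').symm
  · rintro g ⟨hg, hgS⟩
    rw [← cancel_mono V.ι, hg₀]
    refine hvu _ ⟨(Category.assoc _ _ _).trans hg, fun W w g' => ?_⟩
    rw [← Category.assoc]
    exact (hgS W w g').trans (huIn (w ≫ g) g')

end Groth.Agent.S16789
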