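import Groth.Statements.S16794
import Groth.Agent.Lib.Conn99.Basic
import Groth.Agent.Lib.PCurv99.Basic
import Mathlib.RingTheory.Derivation.Basic
-- import your own Groth.Agent.* helpers here

set_option autoImplicit false
universe v u
open PCurv

namespace Groth.Agent.S16794

open TensorProduct in
/-- Let p be a prime number and B a commutative algebra of characteristic p over a commutative ring A
whose module Ω of Kähler differentials over A is free of rank one on a form ω; let θ₀ be the
A-derivation of B dual to ω (its B-linear functional Ω → B takes the value 1 on ω), and let ∇ be a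
connection on a finite free B-module M. Then the p-curvature of ∇ vanishes identically — for every
A-derivation θ of B and every derivation θ' that agrees with the p-fold iterate of θ, the
endomorphism (∇_θ)^p − ∇_{θ'} of M is zero — if and only if it vanishes for the single derivation
θ₀. -/
theorem result {A : Type v} {B M : Type u} [CommRing A] [CommRing B]
    [Algebra A B] (p : ℕ) [Fact p.Prime] [CharP B p]
    [AddCommGroup M] [Module B M] [Module A M] [IsScalarTower A B M] [Module.Finite B M] [Module.Free B M]
    (bΩ : Module.Basis (Fin 1) B (KaehlerDifferential A B)) (θ₀ : Derivation A B B)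
    (hθ₀ : θ₀.liftKaehlerDifferential (bΩ 0) = 1)
    (nabla : M →ₗ[A] M ⊗[B] KaehlerDifferential A B)
    (hc : Conn.IsConn (KaehlerDifferential.D A B) nabla) :
    (∀ θ θp : Derivation A B B, Conn.IsIterPow θ p θp → Conn.pCurv p nabla θ θp = 0) ↔
      (∀ θp : Derivation A B B, Conn.IsIterPow θ₀ p θp → Conn.pCurv p nabla θ₀ θp = 0) := by
  classical
  have hp : p.Prime := Fact.out
  refine ⟨fun h θp hθp => h θ₀ θp hθp, fun h θ θp hθp => ?_⟩
  have hleib : ∀ (θ : Derivation A B B) (b : B) (m : M),
      Conn.alongDer nabla θ (b • m) = b • Conn.alongDer nabla θ m + θ b • m := by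
    intro θ b m
    rw [Conn.alongDer, Groth.Agent.Lib.Conn99.Basic.along_smul hc, θ.liftKaehlerDifferential_comp_D]
  have hth : ∀ a b : B, θ₀ (a * b) = a * θ₀ b + θ₀ a * b := fun a b => by
    rw [Derivation.leibniz, smul_eq_mul, smul_eq_mul]
    ring
  have hit : ∀ a b : B, θ₀^[p] (a * b) = a * θ₀^[p] b + θ₀^[p] a * b := fun a b =>
    Groth.Agent.Lib.PCurv99.Basic.iterate_prime_smul p θ₀ (θ₀ : B →ₗ[A] B).toAddMonoidHom hth a b
  let θ0p : Derivation A B B := Derivation.mk' ((θ₀ : B →ₗ[A] B) ^ p) (fun a b => by
    simp only [Module.End.pow_apply, smul_eq_mul]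
    exact (hit a b).trans (by rw [mul_comm (θ₀^[p] a) b]; rfl))
  have hθ0p : Conn.IsIterPow θ₀ p θ0p := fun b => by
    show ((θ₀ : B →ₗ[A] B) ^ p) b = _
    rw [Module.End.pow_apply]
    rfl
  have hz := h θ0p hθ0p
  rw [Conn.pCurv, sub_eq_zero] at hz
  have hscal : ∀ θ : Derivation A B B, θ.liftKaehlerDifferential =
      θ.liftKaehlerDifferential (bΩ 0) • θ₀.liftKaehlerDifferential := fun θ => bΩ.ext fun i => by
    rw [Fin.eq_zero i, LinearMap.smul_apply, hθ₀, smul_eq_mul, mul_one]
  have hder : ∀ (θ : Derivation A B B) (b : B), θ b = θ.liftKaehlerDifferential (bΩ 0) * θ₀ b := by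
    intro θ b
    conv_lhs => rw [← θ.liftKaehlerDifferential_comp_D, hscal θ, LinearMap.smul_apply,
      θ₀.liftKaehlerDifferential_comp_D, smul_eq_mul]
  have halong : ∀ (θ : Derivation A B B) (m : M),
      Conn.alongDer nabla θ m = θ.liftKaehlerDifferential (bΩ 0) • Conn.alongDer nabla θ₀ m := by
    intro θ m
    rw [Conn.alongDer, Conn.alongDer, Groth.Agent.Lib.Conn99.Basic.along_eq,
      Groth.Agent.Lib.Conn99.Basic.along_eq, hscal θ]
    generalize nabla m = z
    induction z using TensorProduct.induction_on with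
    | zero => simp
    | tmul a w => simp [smul_smul, hθ₀]
    | add a b ha hb => simp only [map_add, smul_add, ha, hb]
  have hgen : ∀ c : B, (∀ x, c * θ₀ x = 0) → c = 0 := by
    intro c hc0
    have hmem : ∀ w, c * θ₀.liftKaehlerDifferential w = 0 := by
      intro w
      have hw : w ∈ Submodule.span B (Set.range (KaehlerDifferential.D A B)) := by
        rw [KaehlerDifferential.span_range_derivation]
        trivial
      induction hw using Submodule.span_induction with
      | mem y hy =>
        obtain ⟨x, rfl⟩ := hy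
        rw [θ₀.liftKaehlerDifferential_comp_D]
        exact hc0 x
      | zero => simp
      | add a b _ _ ha hb => rw [map_add, mul_add, ha, hb, add_zero]
      | smul a x _ ha => rw [map_smul, smul_eq_mul, mul_left_comm, ha, mul_zero]
    have := hmem (bΩ 0)
    rwa [hθ₀, mul_one] at this
  obtain ⟨q, hq1, hq2⟩ := Groth.Agent.Lib.PCurv99.Basic.expand (M := M) p hp.one_lt θ₀
    (Conn.alongDer nabla θ₀).toAddMonoidHom hth (fun a b => map_add θ₀ a b) (hleib θ₀)
    (θ.liftKaehlerDifferential (bΩ 0)) (θ0p.liftKaehlerDifferential (bΩ 0))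
    (fun m => by
      show (Conn.alongDer nabla θ₀)^[p] m = _
      rw [← Module.End.pow_apply, hz, halong]
      rfl)
    (fun b => by rw [← hθ0p b, hder]) p
  refine LinearMap.ext fun m => ?_
  rw [Conn.pCurv, LinearMap.sub_apply, LinearMap.zero_apply, sub_eq_zero, Module.End.pow_apply, halong θp]
  have hfun : (⇑(Conn.alongDer nabla θ) : M → M) =
      fun z => θ.liftKaehlerDifferential (bΩ 0) • (Conn.alongDer nabla θ₀).toAddMonoidHom z := funext (halong θ)
  rw [hfun, hq1]
  obtain ⟨p', hp'⟩ : ∃ p', p = p' + 1 := ⟨p - 1, by have := hp.pos; omega⟩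
  have hpsum : ∀ b, ∑ k ∈ Finset.range (p' + 1),
      (q k - if k = 1 then θp.liftKaehlerDifferential (bΩ 0) else 0) * θ₀^[k] b = 0 := by
    intro b
    rw [← hp']
    simp only [sub_mul, Finset.sum_sub_distrib, ite_mul, zero_mul, Finset.sum_ite_eq', Finset.mem_range,
      if_pos hp.one_lt, Function.iterate_one]
    rw [← hq2, ← hder, hθp, sub_eq_zero]
    congr 1
    funext z
    exact (hder θ z).symm
  have hq0 := Groth.Agent.Lib.PCurv99.Basic.independent p θ₀ hgen p' (by omega) _ hpsum
  rw [Finset.sum_eq_single 1 (fun k hk hne => by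
      have := hq0 k (by rw [Finset.mem_range] at hk; omega)
      rw [if_neg hne, sub_zero] at this
      rw [this, zero_smul])
    (fun h1 => absurd (Finset.mem_range.mpr hp.one_lt) h1)]
  have h1 := hq0 1 (by have := hp.one_lt; omega)
  rw [if_pos rfl, sub_eq_zero] at h1
  rw [h1, Function.iterate_one]
  rfl

end Groth.Agent.S16794
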