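import Groth.Statements.S16798
import Groth.Agent.Lib.LogConn99.Change
-- import your own Groth.Agent.* helpers here

set_option autoImplicit false
universe v u
open LogConn

namespace Groth.Agent.S16798

open TensorProduct in
/-- Let B be a commutative algebra over a commutative ring A, λ ∈ B, and t₁, …, tₙ ∈ B elements whose
differentials dt₁, …, dtₙ form a basis of the Kähler differentials Ω of B over A; let L be a
B-module free on ω₁, …, ωₙ with a B-linear ι : Ω → L sending dtᵢ to tᵢ ωᵢ (ωᵢ playing the role of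
dlog tᵢ), and E a B-module with an A-linear ∇ : E → E ⊗ L obeying the λ-twisted Leibniz rule ∇(b e)
= b ∇e + λ e ⊗ ι(db); write ∇ᵢ for the components of ∇ in the basis ω, ∇_J for their composite over
a finite index set J in increasing order, and E_I = Σ_{J ⊆ I} (∏_{i ∈ I∖J} tᵢ) · ∇_J(E) (an
A-submodule of E) for a finite index set I. Assume ∇ flat: for the logarithmic de Rham differential
d on the exterior powers of L (pinned on generators by d(b₀ · e₁ ∧ ⋯ ∧ e_p) = ι(db₀) ∧ e₁ ∧ ⋯ ∧ e_p,
factors eⱼ of the form ι(db) or ωᵢ) and the λ-twisted extension ∇^• of ∇ (∇^p(e ⊗ η) = ∇(e) ∧ η + e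
⊗ λ dη) one has ∇¹ ∘ ∇ = 0. Let u₁, …, uₙ be units of B such that the elements t'ᵢ = uᵢ tᵢ again
have differentials forming a basis of Ω, and such that the elements ω'ᵢ = ωᵢ + uᵢ⁻¹ ι(duᵢ) again
form a basis of L (a second admissible coordinate system with the same branches, ω'ᵢ playing the
role of dlog t'ᵢ). Then for every p the layer ⊕_{|K| = p} E_K ⊗ ω_K formed with the coordinates t,
the basis ω and the components of ∇ in ω coincides with the layer formed with t', ω' and the
components of ∇ in ω'. (The published statement also allows a permutation of the indices.) -/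
theorem result {A : Type v} {B L E : Type u} [CommRing A] [CommRing B]
    [Algebra A B] [AddCommGroup L] [Module B L] [Module A L] [IsScalarTower A B L]
    [AddCommGroup E] [Module B E] [Module A E] [IsScalarTower A B E]
    (lam : B) {n : ℕ} (t : Fin n → B) (bΩ : Module.Basis (Fin n) B (KaehlerDifferential A B))
    (hbΩ : ∀ i, bΩ i = KaehlerDifferential.D A B (t i))
    (ω : Module.Basis (Fin n) B L) (ι : KaehlerDifferential A B →ₗ[B] L)
    (hι : ∀ i, ι (KaehlerDifferential.D A B (t i)) = t i • ω i)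
    (nabla : E →ₗ[A] E ⊗[B] L)
    (hc : Conn.IsLamConn (ι.compDer (KaehlerDifferential.D A B)) lam nabla)
    (d : ∀ p : ℕ, ↥(⋀[B]^p L) →ₗ[A] ↥(⋀[B]^(p + 1) L))
    (hd : LogDiff.IsLogRule (KaehlerDifferential.D A B) ι (⇑ω) d)
    (nablas : ∀ p : ℕ, E ⊗[B] ↥(⋀[B]^p L) →ₗ[A] E ⊗[B] ↥(⋀[B]^(p + 1) L))
    (hint : Conn.IsIntegrable nabla (fun p => lam • d p) nablas)
    (u : Fin n → Bˣ) (bΩ' : Module.Basis (Fin n) B (KaehlerDifferential A B))
    (hbΩ' : ∀ i, bΩ' i = KaehlerDifferential.D A B ((u i : B) * t i))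
    (ω' : Module.Basis (Fin n) B L)
    (hω' : ∀ i, ω' i = ω i + ((u i)⁻¹ : Bˣ).val • ι (KaehlerDifferential.D A B (u i : B)))
    (p : ℕ) :
    LogConn.layer nabla ω t p = LogConn.layer nabla ω' (fun i => (u i : B) * t i) p := by
  have hι' : ∀ i, ι (KaehlerDifferential.D A B ((u i : B) * t i)) = ((u i : B) * t i) • ω' i := by
    intro i
    rw [Derivation.leibniz, map_add, map_smul, map_smul, hι, hω', smul_add, smul_smul, smul_smul,
      show (u i : B) * t i * ((u i)⁻¹ : Bˣ).val = t i by rw [mul_comm (u i : B), mul_assoc, Units.mul_inv, mul_one]]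
  have hdiff : ∀ i, ω' i - ω i ∈ LinearMap.range ι := fun i =>
    ⟨((u i)⁻¹ : Bˣ).val • KaehlerDifferential.D A B (u i : B), by rw [map_smul, hω', add_sub_cancel_left]⟩
  have hd1 : ∀ i, d 1 (exteriorPower.ιMulti B 1 (fun _ => ω i)) = 0 := fun i =>
    Groth.Agent.Lib.LogConn99.Layer.d_basis hd (fun _ : Fin 1 => i)
  have hd1' : ∀ i, d 1 (exteriorPower.ιMulti B 1 (fun _ => ω' i)) = 0 := by
    intro i
    have h1 : (fun _ : Fin 1 => ω' i) = Function.update (fun _ => ω' i) 0
        (ω i + ((u i)⁻¹ : Bˣ).val • ι (KaehlerDifferential.D A B (u i : B))) := by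
      funext j
      fin_cases j
      simp [hω']
    have h2 : ∀ z : L, Function.update (fun _ : Fin 1 => ω' i) 0 z = fun _ => z := fun z => by
      funext j
      fin_cases j
      simp
    rw [h1, AlternatingMap.map_update_add, AlternatingMap.map_update_smul, map_add, h2, h2, hd1, zero_add,
      hd 1 _ _ (fun _ => Or.inl ⟨(u i : B), rfl⟩),
      Derivation.leibniz_of_mul_eq_one _ (Units.inv_mul (u i)), map_smul]
    generalize ι (KaehlerDifferential.D A B (u i : B)) = x
    have h3 : (Fin.cons ((-((u i)⁻¹ : Bˣ).val ^ 2) • x) fun _ : Fin 1 => x : Fin 2 → L) =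
        Function.update (fun _ => x) 0 ((-((u i)⁻¹ : Bˣ).val ^ 2) • x) := by
      funext j
      fin_cases j <;> simp
    exact (congrArg _ h3).trans (by
      rw [AlternatingMap.map_update_smul, Function.update_eq_self,
        (exteriorPower.ιMulti B 2).map_eq_zero_of_eq (fun _ => x) (i := 0) (j := 1) rfl (by decide), smul_zero])
  refine le_antisymm
    (Groth.Agent.Lib.LogConn99.Change.layer_le hbΩ' hι' hbΩ hι hc
      (Groth.Agent.Lib.LogConn99.Layer.comm_of_integrable (ω := ω') hint hd1')
      (fun i => neg_sub (ω' i) (ω i) ▸ Submodule.neg_mem _ (hdiff i))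
      (fun i => ⟨((u i)⁻¹ : Bˣ).val, by rw [mul_comm (u i : B), mul_assoc, Units.mul_inv, mul_one]⟩) p)
    (Groth.Agent.Lib.LogConn99.Change.layer_le hbΩ hι hbΩ' hι' hc
      (Groth.Agent.Lib.LogConn99.Layer.comm_of_integrable (ω := ω) hint hd1)
      hdiff (fun i => Dvd.intro_left _ rfl) p)

end Groth.Agent.S16798
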