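import Groth.Statements.S16803
import Groth.Agent.H14.CohBC.BaseChange

set_option autoImplicit false
universe u
open CategoryTheory MonoidalCategory CartesianMonoidalCategory AlgebraicGeometry
open StMod

namespace Groth.Agent.S16803

/-- Let `S` be a scheme, `G` a group scheme over `S` whose structure morphism is affine, flat and
locally of finite presentation, acting on a scheme `X` that is quasi-compact, quasi-separated and
locally of finite presentation over `S`; let `[X/G]` be the fppf quotient stack (torsor
description), assumed algebraic with finite inertia, and let `φ : [X/G] ⟶ M` be a coarse moduli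
space with `M` a scheme over `S`, `φ` quasi-compact and quasi-separated. Let `g : M' ⟶ M` be a
morphism of schemes over `S` and `φ' : [X/G] ×_M M' ⟶ M'` the first projection of the 2-fibre
product, assumed to be a coarse moduli space as well, quasi-compact and quasi-separated; assume `M`
and `M'` quasi-separated. If `[X/G]` is tame — pushforward along `φ` is exact on quasi-coherent
modules — then so is its base change: pushforward along `φ'` is exact on quasi-coherent modules of
`[X/G] ×_M M'`. (The published setting has `S = Spec R` and `X = Spec B` affine; this row allows any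
base scheme `S` and any `X` quasi-compact, quasi-separated and locally of finite presentation over
`S`, the generality in which the published argument runs.) (The published statement has no
quasi-separatedness assumption on `M`, `M'`; its reduction to affine `M` and `M'` passes through
quasi-compact open immersions of affine opens, which is where quasi-separatedness is used, so it is
assumed here.) (Here '`[X/G]` tame' is rendered as: pushforward along its coarse moduli map takes
surjections of quasi-coherent modules to maps surjective on sections over every affine scheme etale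
over the target.) -/
theorem result
    (S : Scheme.{u}) (G : Over S) [GrpObj G]
    [IsAffineHom G.hom] [Flat G.hom] [LocallyOfFinitePresentation G.hom]
    (X : Over S) [QuasiCompact X.hom] [QuasiSeparated X.hom] [LocallyOfFinitePresentation X.hom]
    (aX : AlgGrp.Action G X)
    (h𝒳 : AlgSt.IsAlgStack Scheme.fppfPrecoverage (AlgSt.QuotSt Scheme.fppfPrecoverage G aX))
    (hI : AlgSt.RepByAlgSpWith AlgSp.IsFiniteMor
      (FibCat.inertiaToBase (FibCat.toSelf (AlgSt.QuotSt Scheme.fppfPrecoverage G aX))))
    (M M' : Over S) (g : M' ⟶ M)
    (φ : AlgSt.QuotSt Scheme.fppfPrecoverage G aX ⥤ᵇ AlgSt.ofSch M) (hφ : AlgSt.IsCoarseModuli φ)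
    (hqc : AlgSt.IsQuasiCompactMor Scheme.fppfPrecoverage φ) (hqs : AlgSt.IsQuasiSeparatedMor φ)
    (h𝒳' : AlgSt.IsAlgStack Scheme.fppfPrecoverage
      (FibCat.fp (AlgSt.ofSpMap ((AlgSp.yon S).map g)) φ))
    (hφ' : AlgSt.IsCoarseModuli (FibCat.fpFst (AlgSt.ofSpMap ((AlgSp.yon S).map g)) φ))
    (hqc' : AlgSt.IsQuasiCompactMor Scheme.fppfPrecoverage
      (FibCat.fpFst (AlgSt.ofSpMap ((AlgSp.yon S).map g)) φ))
    (hqs' : AlgSt.IsQuasiSeparatedMor (FibCat.fpFst (AlgSt.ofSpMap ((AlgSp.yon S).map g)) φ))
    [QuasiSeparatedSpace M.left] [QuasiSeparatedSpace M'.left]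
    (h : StMod.IsCohAffine φ) :
    StMod.IsCohAffine (FibCat.fpFst (AlgSt.ofSpMap ((AlgSp.yon S).map g)) φ) := by
  exact Groth.Agent.H14.CohBC.isCohAffine_bc' (M := (AlgSp.ofScheme S).obj M) ((AlgSp.yon S).map g) φ h𝒳
    (Groth.Agent.H14.CohBC.compactPullbacks_yon M) hqc hqs h𝒳'.isStack.1 h

end Groth.Agent.S16803
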