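import Groth.Statements.S16806
import Groth.Agent.Lib.Gerbe.PointStack2

set_option autoImplicit false
universe u
open CategoryTheory AlgebraicGeometry
open Gerb

namespace Groth.Agent.S16806

/-- An algebraic stack 𝒵 is reduced, locally Noetherian and has exactly one point if and only if it
receives a locally finitely presented, surjective, flat morphism from the spectrum of a field. -/
theorem result
    (S : Scheme.{u}) (𝒵 : AlgSt.Cat S) (h𝒵 : AlgSt.IsAlgStack Scheme.fppfPrecoverage 𝒵) :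
    (AlgSt.SmoothLocally (fun T => IsReduced T) 𝒵 ∧ AlgSt.SmoothLocally (fun T => IsLocallyNoetherian T) 𝒵 ∧
        Nonempty (AlgSt.Points 𝒵) ∧ Subsingleton (AlgSt.Points 𝒵)) ↔
      ∃ (k : Type u) (_ : Field k) (a : Spec (CommRingCat.of k) ⟶ S)
        (z : FibCat.overCat (Over.mk a) ⥤ᵇ 𝒵), AlgSt.RepByAlgSpWith (AlgSp.LocP @LocallyOfFinitePresentation) z ∧
          AlgSt.RepByAlgSpWith AlgSp.IsSurjectiveMor z ∧ AlgSt.RepByAlgSpWith (AlgSp.LocP @Flat) z := by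
  refine ⟨fun ⟨h1, h2, h3, h4⟩ => ?_, fun ⟨k, _, a, z, h1, h2, h3⟩ =>
    ⟨Lib.Gerbe.PointStack.smoothLocally_reduced h𝒵 h2 h3, Lib.Gerbe.PointStack.smoothLocally_noetherian h𝒵 h2 h3 h1,
      Lib.Gerbe.PointStack.nonempty_points h𝒵 z, Lib.Gerbe.PointStack.subsingleton_points h𝒵 h2⟩⟩
  obtain ⟨k, _, a, z, hs, hf⟩ := Lib.Gerbe.PointStack.exists_flat_point h𝒵 h1 h3 h4
  obtain ⟨k', _, a', z', hl, hs', hf'⟩ := Lib.Gerbe.PointStack.exists_lft_point h𝒵 hs hf
  exact ⟨k', inferInstance, a', z', Lib.Gerbe.PointStack.lfp_of_lft h𝒵 h2 hl, hs', hf'⟩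

end Groth.Agent.S16806
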