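import Groth.Statements.S16808
import Groth.Agent.Lib.Gerbe.FieldImage

set_option autoImplicit false
universe u
open CategoryTheory AlgebraicGeometry
open Gerb

namespace Groth.Agent.S16808

/-- Let the algebraic stack 𝒵 receive a surjective flat morphism from the spectrum of a field. Then
there is a unique strictly full subcategory of 𝒵 which is an algebraic stack receiving a locally
finitely presented, surjective, flat morphism from the spectrum of a field; its inclusion into 𝒵 is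
a monomorphism. -/
theorem result
    (S : Scheme.{u}) (𝒵 : AlgSt.Cat S) (h𝒵 : AlgSt.IsAlgStack Scheme.fppfPrecoverage 𝒵)
    (k : Type u) [Field k] (a : Spec (CommRingCat.of k) ⟶ S)
    (z : FibCat.overCat (Over.mk a) ⥤ᵇ 𝒵)
    (hzs : AlgSt.RepByAlgSpWith AlgSp.IsSurjectiveMor z) (hzf : AlgSt.RepByAlgSpWith (AlgSp.LocP @Flat) z) :
    ∃ Q : 𝒵.obj → Prop,
      (ObjectProperty.IsClosedUnderIsomorphisms Q ∧ AlgSt.IsAlgStack Scheme.fppfPrecoverage (AlgSt.fullSub 𝒵 Q) ∧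
        (∃ (k' : Type u) (_ : Field k') (a' : Spec (CommRingCat.of k') ⟶ S)
          (z' : FibCat.overCat (Over.mk a') ⥤ᵇ AlgSt.fullSub 𝒵 Q),
          AlgSt.RepByAlgSpWith (AlgSp.LocP @LocallyOfFinitePresentation) z' ∧
            AlgSt.RepByAlgSpWith AlgSp.IsSurjectiveMor z' ∧ AlgSt.RepByAlgSpWith (AlgSp.LocP @Flat) z') ∧
        AlgSt.IsMono (AlgSt.subIncl 𝒵 Q)) ∧
      ∀ Q' : 𝒵.obj → Prop, ObjectProperty.IsClosedUnderIsomorphisms Q' → AlgSt.IsAlgStack Scheme.fppfPrecoverage (AlgSt.fullSub 𝒵 Q') →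
        (∃ (k' : Type u) (_ : Field k') (a' : Spec (CommRingCat.of k') ⟶ S)
          (z' : FibCat.overCat (Over.mk a') ⥤ᵇ AlgSt.fullSub 𝒵 Q'),
          AlgSt.RepByAlgSpWith (AlgSp.LocP @LocallyOfFinitePresentation) z' ∧
            AlgSt.RepByAlgSpWith AlgSp.IsSurjectiveMor z' ∧ AlgSt.RepByAlgSpWith (AlgSp.LocP @Flat) z') →
        ∀ ξ : 𝒵.obj, Q' ξ ↔ Q ξ := by
  obtain ⟨Q, hiso, hA, hpt, hm⟩ := Groth.Agent.Lib.Gerbe.FieldImage.exists_fppf_substack h𝒵 hzs hzf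
  refine ⟨Q, ⟨hiso, hA, hpt, hm⟩, fun Q' hiso' hA' hpt' ξ => ?_⟩
  have hsubZ := Groth.Agent.Lib.Gerbe.PointStack.subsingleton_points h𝒵 hzs
  obtain ⟨k₁, _, a₁, z₁, hp₁, hs₁, hf₁⟩ := hpt
  obtain ⟨k₂, _, a₂, z₂, hp₂, hs₂, hf₂⟩ := hpt'
  obtain ⟨p₁⟩ := Groth.Agent.Lib.Gerbe.PointStack.nonempty_points hA z₁
  obtain ⟨p₂⟩ := Groth.Agent.Lib.Gerbe.PointStack.nonempty_points hA' z₂
  exact ⟨fun h => Groth.Agent.Lib.Gerbe.FieldImage.le_of_point h𝒵 hiso hA hA'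
      (Groth.Agent.Lib.Gerbe.PointStack.smoothLocally_reduced hA' hs₂ hf₂)
      (Groth.Agent.Lib.Gerbe.PointStack.smoothLocally_noetherian hA' hs₂ hf₂ hp₂)
      (Groth.Agent.Lib.Gerbe.PointStack.subsingleton_points hA' hs₂)
      (p := p₂) (q := p₁) (Subsingleton.elim _ _) h,
    fun h => Groth.Agent.Lib.Gerbe.FieldImage.le_of_point h𝒵 hiso' hA' hA
      (Groth.Agent.Lib.Gerbe.PointStack.smoothLocally_reduced hA hs₁ hf₁)
      (Groth.Agent.Lib.Gerbe.PointStack.smoothLocally_noetherian hA hs₁ hf₁ hp₁)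
      (Groth.Agent.Lib.Gerbe.PointStack.subsingleton_points hA hs₁)
      (p := p₁) (q := p₂) (Subsingleton.elim _ _) h⟩

end Groth.Agent.S16808
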