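import Groth.Statements.S16809
import Groth.Agent.Lib.Gerbe.RedSub
import Groth.Agent.Lib.Gerbe.PointStack3
import Groth.Agent.H14.Chart.OpenSub2
import Groth.Agent.Lib.AlgStack.CompRep

set_option autoImplicit false
universe u
open CategoryTheory AlgebraicGeometry
open Gerb

namespace Groth.Agent.S16809

/-- (1)⇔(2)⇔(3): for a point x of an algebraic stack 𝒳 the following are equivalent: some algebraic
stack with exactly one point maps monomorphically to 𝒳 onto x; some reduced algebraic stack with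
exactly one point does; some algebraic stack 𝒵 with a monomorphism f : 𝒵 → 𝒳 receives a surjective
flat morphism z from the spectrum of a field with f(z) = x. -/
theorem result
    (S : Scheme.{u}) (𝒳 : AlgSt.Cat S) (h𝒳 : AlgSt.IsAlgStack Scheme.fppfPrecoverage 𝒳) (x : AlgSt.Points 𝒳) :
    [Gerb.ResGerbeExists Scheme.fppfPrecoverage 𝒳 x,
      ∃ (𝒵 : AlgSt.Cat S) (f : 𝒵 ⥤ᵇ 𝒳), AlgSt.IsAlgStack Scheme.fppfPrecoverage 𝒵 ∧
        AlgSt.SmoothLocally (fun T => IsReduced T) 𝒵 ∧ AlgSt.IsMono f ∧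
        Nonempty (AlgSt.Points 𝒵) ∧ Subsingleton (AlgSt.Points 𝒵) ∧ ∀ p, AlgSt.Points.map f p = x,
      ∃ (𝒵 : AlgSt.Cat S) (f : 𝒵 ⥤ᵇ 𝒳) (k : Type u) (_ : Field k) (a : Spec (CommRingCat.of k) ⟶ S)
        (z : FibCat.overCat (Over.mk a) ⥤ᵇ 𝒵), AlgSt.IsAlgStack Scheme.fppfPrecoverage 𝒵 ∧ AlgSt.IsMono f ∧
        AlgSt.RepByAlgSpWith AlgSp.IsSurjectiveMor z ∧ AlgSt.RepByAlgSpWith (AlgSp.LocP @Flat) z ∧
        ∀ t : ↥(Over.mk a).left, AlgSt.Points.map f (AlgSt.Points.ofChart z t) = x].TFAE := by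
  tfae_have 2 → 1 := fun ⟨Z, f, h, _, hf, hn, hs, hx⟩ => ⟨Z, f, h, hf, hn, hs, hx⟩
  tfae_have 2 → 3 := fun ⟨Z, f, h, hred, hf, hn, hs, hx⟩ => by
    obtain ⟨k, hk, a, z, hzs, hzf⟩ := Groth.Agent.Lib.Gerbe.PointStack.exists_flat_point h hred hn hs
    exact ⟨Z, f, k, hk, a, z, h, hf, hzs, hzf, fun t => hx _⟩
  tfae_have 3 → 2 := fun ⟨Z, f, k, hk, a, z, h, hf, hzs, hzf, hx⟩ => by
    have hs := Groth.Agent.Lib.Gerbe.PointStack.subsingleton_points h hzs
    exact ⟨Z, f, h, Groth.Agent.Lib.Gerbe.PointStack.smoothLocally_reduced h hzs hzf, hf,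
      Groth.Agent.Lib.Gerbe.PointStack.nonempty_points h z, hs, fun p => by
        obtain ⟨t⟩ : Nonempty ↥(Over.mk a).left := inferInstanceAs (Nonempty (PrimeSpectrum k))
        rw [Subsingleton.elim p (AlgSt.Points.ofChart z t)]
        exact hx t⟩
  tfae_have 1 → 2 := fun ⟨Z, f, h, hf, hn, hs, hx⟩ => by
    obtain ⟨U, a, ha, has⟩ := h.atlas
    let C : TopologicalSpace.Closeds ↥U.left := ⊤
    let I := Scheme.IdealSheafData.vanishingIdeal C
    let W : Over S := Over.mk (I.subschemeι ≫ U.hom)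
    let i : W ⟶ U := Over.homMk I.subschemeι rfl
    have : IsClosedImmersion i.left := inferInstanceAs (IsClosedImmersion I.subschemeι)
    have : IsReduced W.left := Groth.Agent.H75.RedSub.isReduced_vanishingIdeal C
    have hr : Set.range i.left = AlgSt.Points.ofChart a ⁻¹' (Set.univ : Set (AlgSt.Points Z)) := by
      show Set.range I.subschemeι = _
      rw [Scheme.IdealSheafData.range_subschemeι, Scheme.IdealSheafData.coe_support_vanishingIdeal]
      rfl
    obtain ⟨⟨-, hA, -⟩, hrange, hred⟩ := Groth.Agent.Lib.Gerbe.RedSub.main h ha has hr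
    have hm := Groth.Agent.Lib.Gerbe.PointStack.isMono_subIncl hA h
    have hne : Nonempty (AlgSt.Points (AlgSt.fullSub Z (Groth.Agent.Lib.Gerbe.RedSub.sub a i))) := by
      obtain ⟨p⟩ := hn
      obtain ⟨q, -⟩ := hrange.symm.subset (Set.mem_univ p)
      exact ⟨q⟩
    refine ⟨_, BasedFunctor.comp (AlgSt.subIncl Z _) f, hA, hred,
      Groth.Agent.Lib.AlgStack.CompRep.repByAlgSpWith_comp_mono hA.isStack.1 h.isStack.1 hm hf, hne,
      ⟨fun p q => Groth.Agent.H14.Chart.OpenSub.exists_image.injective_map_subIncl h.isStack.1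
        (fun _ _ φ hx => Groth.Agent.Lib.Gerbe.RedSub.sub_of_hom a i φ hx) (Subsingleton.elim _ _)⟩,
      fun p => ?_⟩
    rw [Groth.Agent.H14.Chart.Basic.map_comp]
    exact hx _
  tfae_finish

end Groth.Agent.S16809
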