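import Groth.Statements.S16810
import Groth.Agent.Lib.Gerbe.FieldImage

set_option autoImplicit false
universe u
open CategoryTheory AlgebraicGeometry
open Gerb

namespace Groth.Agent.S16810

/-- If some reduced algebraic stack with exactly one point admits a monomorphism to the algebraic stack
𝒳 with image the point x, then there is a unique strictly full subcategory of 𝒳 which is a reduced,
locally Noetherian algebraic stack with exactly one point mapping to x. -/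
theorem result
    (S : Scheme.{u}) (𝒳 : AlgSt.Cat S) (h𝒳 : AlgSt.IsAlgStack Scheme.fppfPrecoverage 𝒳) (x : AlgSt.Points 𝒳)
    (𝒵 : AlgSt.Cat S) (h𝒵 : AlgSt.IsAlgStack Scheme.fppfPrecoverage 𝒵)
    (hred : AlgSt.SmoothLocally (fun T => IsReduced T) 𝒵)
    (hne : Nonempty (AlgSt.Points 𝒵)) (hsub : Subsingleton (AlgSt.Points 𝒵))
    (f : 𝒵 ⥤ᵇ 𝒳) (hf : AlgSt.IsMono f) (hfx : ∀ p : AlgSt.Points 𝒵, AlgSt.Points.map f p = x) :
    ∃ Q : 𝒳.obj → Prop, Gerb.IsResGerbe Scheme.fppfPrecoverage 𝒳 x Q ∧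
      ∀ Q' : 𝒳.obj → Prop, Gerb.IsResGerbe Scheme.fppfPrecoverage 𝒳 x Q' → ∀ ξ : 𝒳.obj, Q' ξ ↔ Q ξ := by
  obtain ⟨k, _, a, z, hzs, hzf⟩ := Groth.Agent.Lib.Gerbe.PointStack.exists_flat_point h𝒵 hred hne hsub
  obtain ⟨R, -, hA, ⟨k₁, _, a₁, z₁, hp₁, hs₁, hf₁⟩, hm⟩ :=
    Groth.Agent.Lib.Gerbe.FieldImage.exists_fppf_substack h𝒵 hzs hzf
  obtain ⟨Q, hQ, -⟩ := Groth.Agent.Lib.Gerbe.PointStack.exists_isResGerbe h𝒳 hA
    (Groth.Agent.Lib.Gerbe.PointStack.smoothLocally_reduced hA hs₁ hf₁)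
    (Groth.Agent.Lib.Gerbe.PointStack.smoothLocally_noetherian hA hs₁ hf₁ hp₁)
    (Groth.Agent.Lib.Gerbe.PointStack.nonempty_points hA z₁)
    (Groth.Agent.Lib.Gerbe.PointStack.subsingleton_points hA hs₁)
    (BasedFunctor.comp (AlgSt.subIncl 𝒵 R) f)
    (Groth.Agent.Lib.AlgStack.CompRep.repByAlgSpWith_comp_mono hA.isStack.1 h𝒵.isStack.1 hm hf)
    (fun p => by rw [Groth.Agent.H14.Chart.Basic.map_comp]; exact hfx _)
  refine ⟨Q, hQ, fun Q' hQ' ξ => ?_⟩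
  obtain ⟨hi, hA₁, hr, hn, ⟨p⟩, hs, hx⟩ := hQ
  obtain ⟨hi', hA₂, hr', hn', ⟨q⟩, hs', hx'⟩ := hQ'
  exact ⟨fun h => Groth.Agent.Lib.Gerbe.FieldImage.le_of_point h𝒳 hi hA₁ hA₂ hr' hn' hs'
      (p := q) (q := p) (by rw [hx, hx']) h,
    fun h => Groth.Agent.Lib.Gerbe.FieldImage.le_of_point h𝒳 hi' hA₂ hA₁ hr hn hs
      (p := p) (q := q) (by rw [hx, hx']) h⟩

end Groth.Agent.S16810
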