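import Groth.Statements.S16825
import Groth.Agent.H14.DvrUC.Main
import Groth.Agent.H14.DvrUC.Special
import Mathlib.RingTheory.PowerSeries.Inverse

set_option autoImplicit false
set_option backward.isDefEq.respectTransparency false
set_option backward.isDefEq.respectTransparency.types false
universe u
open AlgSt

namespace Groth.Agent.S16825

open CategoryTheory AlgebraicGeometry in
/-- Points of a scheme are told apart by the identity chart. -/
theorem ofChart_id_inj {S : Scheme.{u}} {V : Over S} {a b : ↥V.left}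
    (h : AlgSt.Points.ofChart (BasedFunctor.id (FibCat.overCat V)) a =
      AlgSt.Points.ofChart (BasedFunctor.id (FibCat.overCat V)) b) : a = b := by
  obtain ⟨W, p, q, w, rfl, rfl, ⟨e⟩⟩ :=
    H14.Chart.Points.exists_of_ofChart_eq (Lib.AlgStack.Yoneda.isFibGrpd_overCat V) h
  have : p = q := Lib.AlgStack.ChartLift.eq_of_iso
    (e : AlgSt.overMap p ≅ AlgSt.overMap q)
  rw [this]

open CategoryTheory AlgebraicGeometry in
/-- A specialization to a point of a noetherian affine scheme is realized by a discrete valuation ring. -/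
theorem exists_dvr {A C : Type u} [CommRing A] [IsNoetherianRing A] [CommRing C] [Algebra A C]
    [LocallyOfFiniteType (H14.DvrUC.str A C)] (c : ↥(Spec (CommRingCat.of C)))
    (t₀ : ↥(Spec (CommRingCat.of A))) (hct : H14.DvrUC.str A C c ⤳ t₀) :
    ∃ (R : Type u) (_ : CommRing R) (_ : IsDomain R) (_ : IsDiscreteValuationRing R)
      (φ : Spec (CommRingCat.of R) ⟶ Spec (CommRingCat.of A))
      (top : Spec (CommRingCat.of (FractionRing R)) ⟶ Spec (CommRingCat.of C)),
      top ≫ H14.DvrUC.str A C = Spec.map (CommRingCat.ofHom (algebraMap R (FractionRing R))) ≫ φ ∧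
        φ (IsLocalRing.closedPoint R) = t₀ ∧ ∀ p, top p = c := by
  let κ := (Spec (CommRingCat.of C)).residueField c
  by_cases hne : H14.DvrUC.str A C c = t₀
  · let P := PowerSeries κ
    refine ⟨P, inferInstance, inferInstance, inferInstance,
      Spec.map (CommRingCat.ofHom (algebraMap κ P)) ≫ (Spec _).fromSpecResidueField c ≫ H14.DvrUC.str A C,
      Spec.map (CommRingCat.ofHom ((algebraMap P (FractionRing P)).comp (algebraMap κ P))) ≫
        (Spec _).fromSpecResidueField c, ?_, ?_, fun p => ?_⟩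
    · rw [CommRingCat.ofHom_comp, Spec.map_comp]
      simp only [Category.assoc]
    · rw [Scheme.Hom.comp_apply, Scheme.Hom.comp_apply]
      refine (congrArg _ ?_).trans hne
      exact Scheme.fromSpecResidueField_apply _ _
    · rw [Scheme.Hom.comp_apply]
      exact Scheme.fromSpecResidueField_apply _ _
  · obtain ⟨W, hW, φ, hφt, hφg⟩ := Lib.DvrCrit.exists_dvr_center (H14.DvrUC.str A C) c t₀ hct hne
    let ι := FractionRing.algEquiv W κ
    refine ⟨W, inferInstance, inferInstance, hW, φ,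
      Spec.map (CommRingCat.ofHom ι.symm.toRingEquiv.toRingHom) ≫ (Spec _).fromSpecResidueField c,
      ?_, hφt, fun p => ?_⟩
    · rw [Category.assoc, ← hφg, ← Category.assoc, ← Spec.map_comp, ← CommRingCat.ofHom_comp]
      congr 3
      ext x
      exact ι.symm.commutes x
    · rw [Scheme.Hom.comp_apply]
      exact Scheme.fromSpecResidueField_apply _ _

open CategoryTheory AlgebraicGeometry in
/-- Let S be a quasi-separated scheme and f : 𝒳 → 𝒴 a functor over (Sch/S) between algebraic stacks for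
the etale topology which are Noetherian (every smooth scheme chart locally Noetherian,
quasi-compact, quasi-separated over S), with f locally of finite type and quasi-compact. Let x be a
point of 𝒳 and y₀ a point of 𝒴 which is a specialization of the image of x. Then there are a
discrete valuation ring R with a morphism Spec R → S, a morphism a : (Sch/Spec K) → 𝒳 over (Sch/S),
K the fraction field of R, whose point is x, and a morphism b : (Sch/Spec R) → 𝒴 over (Sch/S)
sending the closed point to y₀, such that a followed by f is isomorphic over (Sch/S) to Spec K →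
Spec R followed by b. -/
theorem result (S : Scheme.{u})
    [QuasiSeparatedSpace ↥S] (𝒳 𝒴 : AlgSt.Cat S)
    (h𝒳 : AlgSt.IsAlgStack Scheme.etalePrecoverage 𝒳) (h𝒴 : AlgSt.IsAlgStack Scheme.etalePrecoverage 𝒴)
    (hn𝒳 : AlgSt.SmoothLocally (fun T => IsLocallyNoetherian T) 𝒳 ∧ AlgSt.IsQuasiCompact 𝒳 ∧
      AlgSt.IsQuasiSeparatedOver 𝒳)
    (hn𝒴 : AlgSt.SmoothLocally (fun T => IsLocallyNoetherian T) 𝒴 ∧ AlgSt.IsQuasiCompact 𝒴 ∧
      AlgSt.IsQuasiSeparatedOver 𝒴)
    (f : 𝒳 ⥤ᵇ 𝒴) (hft : AlgSt.LocQ (AlgSp.LocP @LocallyOfFiniteType) f)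
    (hqc : AlgSt.IsQuasiCompactMor Scheme.etalePrecoverage f)
    (x : AlgSt.Points 𝒳) (y₀ : AlgSt.Points 𝒴) (hsp : AlgSt.Points.map f x ⤳ y₀) :
    ∃ (R : Type u) (_ : CommRing R) (_ : IsDomain R) (_ : IsDiscreteValuationRing R)
      (sR : Spec (CommRingCat.of R) ⟶ S)
      (a : FibCat.overCat (Over.mk (Spec.map (CommRingCat.ofHom (algebraMap R (FractionRing R))) ≫ sR)) ⥤ᵇ 𝒳)
      (b : FibCat.overCat (Over.mk sR) ⥤ᵇ 𝒴),
      Nonempty (BasedFunctor.comp a f ≅
        BasedFunctor.comp (AlgSt.overMap (Over.homMk (Spec.map (CommRingCat.ofHom (algebraMap R (FractionRing R)))) rfl :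
          Over.mk (Spec.map (CommRingCat.ofHom (algebraMap R (FractionRing R))) ≫ sR) ⟶ Over.mk sR)) b) ∧
      (∀ p, AlgSt.Points.ofChart a p = x) ∧
      AlgSt.Points.ofChart b (IsLocalRing.closedPoint R) = y₀ := by
  obtain ⟨V₀, y₁, hy₁, hy₁'⟩ := h𝒴.atlas
  obtain ⟨t', ht'⟩ := H14.Chart.Points.surjective_ofChart h𝒴.isStack.1 hy₁' y₀
  obtain ⟨Vo, hVo, hmV, -⟩ := exists_isAffineOpen_mem_and_subset (U := ⊤) (x := t') trivial
  have : IsLocallyNoetherian V₀.left := hn𝒴.1 V₀ y₁ hy₁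
  have : IsNoetherianRing Γ(V₀.left, Vo) := IsLocallyNoetherian.component_noetherian ⟨Vo, hVo⟩
  let sA : Spec (CommRingCat.of Γ(V₀.left, Vo)) ⟶ S := hVo.fromSpec ≫ V₀.hom
  let j : Over.mk sA ⟶ V₀ := Over.homMk hVo.fromSpec rfl
  have : IsOpenImmersion j.left := inferInstanceAs (IsOpenImmersion hVo.fromSpec)
  have hsm := Lib.SourceDescent.Scheme.smooth.{u}
  let y : FibCat.overCat (Over.mk sA) ⥤ᵇ 𝒴 := BasedFunctor.comp (AlgSt.overMap j) y₁
  have hy : RepByAlgSpWith (AlgSp.LocP @Smooth) y :=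
    Lib.AlgStack.IsAlgFp.comp_locP hsm (Lib.AlgStack.Yoneda.isFibGrpd_overCat _)
      (Lib.AlgStack.Yoneda.isFibGrpd_overCat _)
      (H14.Chart.Basic.rep_overMap_locP j hsm inferInstance) hy₁
  obtain ⟨t₀, ht₀⟩ : t' ∈ Set.range j.left := hVo.range_fromSpec.symm ▸ hmV
  have hyt : AlgSt.Points.ofChart y t₀ = y₀ := by
    rw [H14.Chart.Points.ofChart_overMap, ht₀]; exact ht'
  obtain ⟨C, _, _, _, ⟨K⟩⟩ := H14.DvrUC.exists_affine_chart h𝒳 h𝒴 hqc hft hy
  let UU : Over S := Over.mk (H14.DvrUC.str Γ(V₀.left, Vo) C ≫ sA)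
  have : IsAffine UU.left := inferInstanceAs (IsAffine (Spec (CommRingCat.of C)))
  let sC : UU ⟶ Over.mk sA := Over.homMk (H14.DvrUC.str Γ(V₀.left, Vo) C) rfl
  let χ : FibCat.overCat UU ⥤ᵇ 𝒳 := BasedFunctor.comp K.u (FibCat.fpSnd y f)
  have : IsAffine (Over.mk sA).left := inferInstanceAs (IsAffine (Spec _))
  have hP := Lib.AlgStack.OfCharts.isAlgStack_fp (H14.DvrUC.isAlgStack_overCat_etale (Over.mk sA))
    h𝒳 h𝒴 y f
  have key : ∀ N : Set ↥(Over.mk sA).left, IsOpen N → t₀ ∈ N →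
      ∃ c : ↥UU.left, sC.left c ∈ N ∧ AlgSt.Points.ofChart χ c = x := by
    intro N hN htN
    obtain ⟨t, htN', ht⟩ := hsp.mem_open
      (H14.Chart.Points.isOpenMap_ofChart h𝒴.isStack.1 hy N hN) ⟨t₀, htN, hyt⟩
    obtain ⟨r, hr, hr'⟩ := H14.Chart.Basic.exists_points_fp h𝒳.isStack.1 h𝒴.isStack.1
      (Lib.AlgStack.Yoneda.isFibGrpd_overCat _) (g := y)
      (p := AlgSt.Points.ofChart (BasedFunctor.id _) t) ht
    obtain ⟨c, rfl⟩ := H14.Chart.Points.surjective_ofChart hP.isStack.1 K.surj r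
    refine ⟨c, ?_, hr'⟩
    have : sC.left c = t := ofChart_id_inj (by
      rw [← hr, H14.Chart.Points.map_ofChart, H14.Chart.Points.ofChart_iso K.u_fst,
        ← H14.Chart.Points.ofChart_overMap]
      rfl)
    exact this ▸ htN'
  obtain ⟨c₀, -, hc₀⟩ := key Set.univ isOpen_univ trivial
  obtain ⟨T, _, v, hv⟩ := H14.DvrUC.exists_affine_class h𝒳.isStack.1
    (fun T z => by
      obtain ⟨G, e, he, h⟩ := hn𝒳.2.2 T z
      exact ⟨G, e, he, h.1⟩) χ c₀
  obtain ⟨τ, hτ⟩ : ∃ τ, (v.left ≫ sC.left) τ ⤳ t₀ := by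
    refine H14.DvrUC.exists_specializes_of_mem_closure _ (mem_closure_iff.2 fun N hN htN => ?_)
    obtain ⟨c, hcN, hc⟩ := key N hN htN
    obtain ⟨τ, hτ⟩ : c ∈ Set.range v.left := by
      rw [hv]; exact hc.trans hc₀.symm
    exact ⟨_, hcN, τ, by rw [Scheme.Hom.comp_apply, hτ]⟩
  have hx : AlgSt.Points.ofChart χ (v.left τ) = x := by
    have : v.left τ ∈ Set.range v.left := ⟨τ, rfl⟩
    rw [hv] at this
    exact this.trans hc₀
  obtain ⟨R, _, _, _, φ, top, htop, hφ, hc⟩ := exists_dvr (v.left τ) t₀ hτ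
  let PK : Over S := Over.mk (Spec.map (CommRingCat.ofHom (algebraMap R (FractionRing R))) ≫ φ ≫ sA)
  let PR : Over S := Over.mk (φ ≫ sA)
  let jK : PK ⟶ PR := Over.homMk (Spec.map (CommRingCat.ofHom (algebraMap R (FractionRing R)))) rfl
  let jV : PR ⟶ Over.mk sA := Over.homMk φ rfl
  let topU : PK ⟶ UU := Over.homMk top (by
    change top ≫ H14.DvrUC.str _ C ≫ sA = _ ≫ φ ≫ sA
    rw [← Category.assoc, htop, Category.assoc])
  have hjV : topU ≫ sC = jK ≫ jV := Over.OverMorphism.ext htop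
  refine ⟨R, inferInstance, inferInstance, inferInstance, φ ≫ sA,
    BasedFunctor.comp (AlgSt.overMap topU) χ, BasedFunctor.comp (AlgSt.overMap jV) y, ⟨?_⟩,
    fun p => ?_, ?_⟩
  · exact (Lib.AlgStack.BasedBasic.isoWhiskerLeft (BasedFunctor.comp (AlgSt.overMap topU) K.u)
      (FibCat.fpIso y f)).symm ≪≫
      Lib.AlgStack.BasedBasic.isoWhiskerRight
        (Lib.AlgStack.BasedBasic.isoWhiskerLeft (AlgSt.overMap topU) K.u_fst ≪≫
          Lib.AlgStack.ChartLift.overMapComp topU sC ≪≫ eqToIso (congrArg AlgSt.overMap hjV) ≪≫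
          (Lib.AlgStack.ChartLift.overMapComp jK jV).symm) y
  · rw [H14.Chart.Points.ofChart_overMap]
    exact (congrArg _ (hc p)).trans hx
  · rw [H14.Chart.Points.ofChart_overMap, ← hyt]
    exact congrArg _ hφ

end Groth.Agent.S16825
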