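import Groth.Statements.S16826
import Groth.Agent.Lib.QuotSt.Atlas
import Mathlib.AlgebraicGeometry.Morphisms.LocalFlatDescent

set_option autoImplicit false
universe u
open AlgSt

namespace Groth.Agent.S16826

open CategoryTheory AlgebraicGeometry in
/-- Let S be a scheme, G a group scheme over S whose structure morphism G → S is smooth and affine, and
X a scheme over S with an action of G. Then the quotient stack [X/G] over (Sch/S), whose objects
over T are the G-torsors P → T locally trivial for the etale topology together with an equivariant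
morphism P → X, is an algebraic stack for the big etale topology, and the canonical functor (Sch/X)
→ [X/G] (sending x : T → X to the trivial torsor with the orbit map of x) is representable by
algebraic spaces, smooth, surjective and affine. The source allows X to be an algebraic space; X is
a scheme here. -/
theorem result (S : Scheme.{u}) (G : Over S) [GrpObj G]
    (hGs : Smooth G.hom) (hGa : IsAffineHom G.hom) (X : Over S) (aX : AlgGrp.Action G X) :
    AlgSt.IsAlgStack Scheme.etalePrecoverage (AlgSt.QuotSt Scheme.etalePrecoverage G aX) ∧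
      AlgSt.RepByAlgSpWith (AlgSp.LocP @Smooth)
        (BasedFunctor.comp (AlgSt.ofOverCat X) (AlgSt.quotMap Scheme.etalePrecoverage G aX)) ∧
      AlgSt.RepByAlgSpWith AlgSp.IsSurjectiveMor
        (BasedFunctor.comp (AlgSt.ofOverCat X) (AlgSt.quotMap Scheme.etalePrecoverage G aX)) ∧
      AlgSt.RepByAlgSpWith AlgSp.IsAffineMor
        (BasedFunctor.comp (AlgSt.ofOverCat X) (AlgSt.quotMap Scheme.etalePrecoverage G aX)) := by
  have : MorphismProperty.IsStableUnderComposition @Etale.{u} :=
    (inferInstance : MorphismProperty.IsMultiplicative @Etale.{u}).toIsStableUnderComposition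
  have : Scheme.etalePrecoverage.{u}.IsStableUnderComposition := by
    unfold Scheme.etalePrecoverage; infer_instance
  have hK : Scheme.etalePrecoverage.{u} ≤ Scheme.fppfPrecoverage :=
    Lib.TorsorSch.Descent.etalePrecoverage_le_fppfPrecoverage
  have hK' := hK.trans Scheme.fppfPrecoverage_le_fpqcPrecoverage
  have h1 := Lib.QuotSt.repByAlgSpWith_atlas (K := Scheme.etalePrecoverage) (aX := aX)
    (P := AlgSp.LocP @Smooth) fun y =>
      Lib.AlgSpMor.RelNorm.locP_smooth_yon_map _ (Lib.QuotSt.property_proj (P := @Smooth) y hK' hGs)
  have h2 := Lib.QuotSt.repByAlgSpWith_atlas (K := Scheme.etalePrecoverage) (aX := aX)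
    (P := AlgSp.IsSurjectiveMor) fun y =>
      Lib.QuotSt.isSurjectiveMor_yon_map _ (Lib.QuotSt.surjective_proj hK' y)
  exact ⟨Lib.AlgStack.EtaleBoot.isAlgStack_of_stack_atlas (Lib.QuotSt.isStack hK) ⟨X, _, h1, h2⟩, h1, h2,
    Lib.QuotSt.repByAlgSpWith_atlas fun y =>
      Lib.QuotSt.isAffineMor_yon_map _ (Lib.QuotSt.property_proj (P := @IsAffineHom) y hK' hGa)⟩

end Groth.Agent.S16826
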