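import Groth.Statements.S16828
import Groth.Agent.Lib.AlgStack.Stabilizer
import Groth.Agent.Lib.AlgSpMor.LqfRep
import Groth.Agent.Lib.AlgSpMor.QuasiAffineDescent
import Groth.Agent.H14.Sep.SpProps
import Groth.Agent.H14.Sep.Rep
import Groth.Agent.S9905
import Groth.Agent.S10322
import Groth.Agent.S1402
-- import your own Groth.Agent.* helpers here

set_option autoImplicit false
universe u
open AlgSt

namespace Groth.Agent.S16828

open CategoryTheory AlgebraicGeometry in
/-- Let 𝒳 be a Deligne–Mumford stack over (Sch/S) for the etale topology whose diagonal 𝒳 → 𝒳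
×_{(Sch/S)} 𝒳 is separated and quasi-compact (representable by algebraic spaces with these
properties). Then the diagonal is quasi-affine: representable by algebraic spaces with every base
change to a scheme a quasi-affine morphism. The source states this for the absolute diagonal; the
diagonal over S is used here. -/
theorem result {S : Scheme.{u}} (𝒳 : AlgSt.Cat S)
    (h𝒳 : AlgSt.IsDM Scheme.etalePrecoverage 𝒳)
    (hsep : AlgSt.RepByAlgSpWith AlgSp.IsSeparatedMor (FibCat.diag (FibCat.toSelf 𝒳)))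
    (hqc : AlgSt.RepByAlgSpWith AlgSp.IsQuasiCompactMor (FibCat.diag (FibCat.toSelf 𝒳))) :
    AlgSt.RepByAlgSpWith AlgSp.IsQuasiAffineMor (FibCat.diag (FibCat.toSelf 𝒳)) := by
  have hu : AlgSt.RepByAlgSpWith (AlgSp.LocP (@LocallyOfFiniteType ⊓ @FormallyUnramified))
      (FibCat.diag (FibCat.toSelf 𝒳)) := Lib.AlgStack.Stabilizer.isDMOver_of_isDM h𝒳
  intro T z
  obtain ⟨G, e, he, hγu⟩ := hu T z
  have hY := AlgSp.IsAlgSpace.yon_obj T
  have hγs := Lib.AlgStack.Space.prop_of_rep (H14.Sep.Rep.respectsIsoSp H14.Sep.SpProps.stableBC_sep) hsep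
    G.property he
  have hγc := Lib.AlgStack.Space.prop_of_rep (H14.Sep.Rep.respectsIsoSp H14.Sep.SpProps.stableBC_qc) hqc
    G.property he
  refine ⟨G, e, he, ?_⟩
  set γ : G.obj ⟶ (AlgSp.yon S).obj T := AlgSt.spMapOfOver (BasedFunctor.comp e (FibCat.fpFst z (FibCat.diag (FibCat.toSelf 𝒳))))
  have hql : AlgSp.LocP (@LocallyQuasiFinite ⊓ @LocallyOfFiniteType) γ :=
    S10322.result (X := G) (Y := ⟨_, hY⟩) ⟨γ⟩ |>.2 hγu
  have hr : AlgSp.Representable γ := Lib.AlgSpMor.LqfRep.representable G.property hY hql hγs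
  have h1 := Lib.AlgSpMor.LocP.repWith_of_locP Lib.AlgSpMor.LocP.lqfLft hY hr hql
  have h2 : AlgSp.RepWith @QuasiCompact γ := (Lib.AlgSpMor.QC.repWith_quasiCompact_iff hr).2 hγc
  have h3 : AlgSp.RepWith @IsSeparated γ :=
    (S9905.result (X := G) (Y := ⟨_, hY⟩) ⟨γ⟩ hr).1.1 hγs
  refine Lib.AlgSpMor.QuasiAffineDescent.isQuasiAffineMor_iff.2 ⟨hr, fun U V g fst snd sq => ?_⟩
  have : QuasiCompact snd.left := h2.2 g fst snd sq
  have : IsSeparated snd.left := h3.2 g fst snd sq
  obtain ⟨ha, hb⟩ := h1.2 g fst snd sq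
  have : LocallyQuasiFinite snd.left := ha
  have : LocallyOfFiniteType snd.left := hb
  exact (Lib.AlgSpMor.QuasiAffineDescent.qaHom_iff _).2 ⟨‹_›, S1402.result snd.left⟩

end Groth.Agent.S16828
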