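import Groth.Statements.S16829
import Groth.Agent.H14.DvrUC.Main

set_option autoImplicit false
set_option backward.isDefEq.respectTransparency false
set_option backward.isDefEq.respectTransparency.types false
universe u
open AlgSt

namespace Groth.Agent.S16829

open CategoryTheory AlgebraicGeometry in
/-- Let f : 𝒳 → 𝒴 be a functor over (Sch/S) between algebraic stacks for the etale topology which are
locally Noetherian (every smooth scheme chart locally Noetherian), with f quasi-compact,
quasi-separated (its diagonal representable, quasi-compact and quasi-separated) and locally of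
finite type. Suppose that f satisfies the valuative criterion with extensions: for every discrete
valuation ring R over S with fraction field K, every a : (Sch/Spec K) → 𝒳, b : (Sch/Spec R) → 𝒴 over
(Sch/S) and every 2-isomorphism α between a followed by f and Spec K → Spec R followed by b, there
are a discrete valuation ring R', an injective local homomorphism R → R', a morphism Spec K' → Spec
K over Spec R' → Spec R (K' the fraction field of R'), and a functor c : (Sch/Spec R') → 𝒳 ×_𝒴
(Sch/Spec R) over (Sch/S) into the 2-fibre product of f and b, lying over Spec R' → Spec R, whose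
restriction to Spec K' is isomorphic, as a functor into the 2-fibre product, to the restriction of
the functor (a, Spec K → Spec R, α); a lifting is thus a morphism Spec R' → 𝒳 together with
2-isomorphisms compatible with α. Then f is universally closed: every base change of f along a
morphism of algebraic stacks induces a closed map on points. (The published statement assumes f only
quasi-compact and quasi-separated; its proof passes to a base of finite type and realizes
specializations there by discrete valuation rings, which uses that f is of finite type, and without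
that hypothesis the spectrum of an algebraic closure of ℚ, mapped to the spectrum of ℤ localized at
a prime, satisfies the criterion — every discrete valuation is trivial on an algebraically closed
field — while its image is the generic point, which is not closed; so f is taken locally of finite
type here. The published statement also restricts the extensions to those with K'/K of finite
transcendence degree; this row accepts any extension of discrete valuation rings, which is all the
proof uses. Only this implication is stated.) -/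
theorem result (S : Scheme.{u}) (𝒳 𝒴 : AlgSt.Cat S)
    (h𝒳 : AlgSt.IsAlgStack Scheme.etalePrecoverage 𝒳) (h𝒴 : AlgSt.IsAlgStack Scheme.etalePrecoverage 𝒴)
    (hn𝒳 : AlgSt.SmoothLocally (fun T => IsLocallyNoetherian T) 𝒳)
    (hn𝒴 : AlgSt.SmoothLocally (fun T => IsLocallyNoetherian T) 𝒴)
    (f : 𝒳 ⥤ᵇ 𝒴) (hqc : AlgSt.IsQuasiCompactMor Scheme.etalePrecoverage f)
    (hqs : AlgSt.IsQuasiSeparatedMor f)
    (hft : AlgSt.LocQ (AlgSp.LocP @LocallyOfFiniteType) f)
    (hval : ∀ (R : Type u) [CommRing R] [IsDomain R] [IsDiscreteValuationRing R]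
        (sR : Spec (CommRingCat.of R) ⟶ S)
        (a : FibCat.overCat (Over.mk (Spec.map (CommRingCat.ofHom (algebraMap R (FractionRing R))) ≫ sR)) ⥤ᵇ 𝒳)
        (b : FibCat.overCat (Over.mk sR) ⥤ᵇ 𝒴)
        (α : BasedFunctor.comp a f ≅
          BasedFunctor.comp (AlgSt.overMap (Over.homMk (Spec.map (CommRingCat.ofHom (algebraMap R (FractionRing R)))) rfl :
            Over.mk (Spec.map (CommRingCat.ofHom (algebraMap R (FractionRing R))) ≫ sR) ⟶ Over.mk sR)) b),
        ∃ (R' : Type u) (_ : CommRing R') (_ : IsDomain R') (_ : IsDiscreteValuationRing R') (φ : R →+* R')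
          (_ : Function.Injective φ) (_ : IsLocalHom φ)
          (gψ : (Over.mk (Spec.map (CommRingCat.ofHom (algebraMap R' (FractionRing R'))) ≫
                  Spec.map (CommRingCat.ofHom φ) ≫ sR) : Over S) ⟶
                Over.mk (Spec.map (CommRingCat.ofHom (algebraMap R (FractionRing R))) ≫ sR))
          (c : FibCat.overCat (Over.mk (Spec.map (CommRingCat.ofHom φ) ≫ sR)) ⥤ᵇ FibCat.fp f b),
          gψ ≫ (Over.homMk (Spec.map (CommRingCat.ofHom (algebraMap R (FractionRing R)))) rfl :
              Over.mk (Spec.map (CommRingCat.ofHom (algebraMap R (FractionRing R))) ≫ sR) ⟶ Over.mk sR) =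
            (Over.homMk (Spec.map (CommRingCat.ofHom (algebraMap R' (FractionRing R')))) rfl :
                Over.mk (Spec.map (CommRingCat.ofHom (algebraMap R' (FractionRing R'))) ≫
                  Spec.map (CommRingCat.ofHom φ) ≫ sR) ⟶ Over.mk (Spec.map (CommRingCat.ofHom φ) ≫ sR)) ≫
              (Over.homMk (Spec.map (CommRingCat.ofHom φ)) rfl :
                Over.mk (Spec.map (CommRingCat.ofHom φ) ≫ sR) ⟶ Over.mk sR) ∧
          Nonempty (BasedFunctor.comp c (FibCat.fpSnd f b) ≅
            AlgSt.overMap (Over.homMk (Spec.map (CommRingCat.ofHom φ)) rfl :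
              Over.mk (Spec.map (CommRingCat.ofHom φ) ≫ sR) ⟶ Over.mk sR)) ∧
          Nonempty (BasedFunctor.comp
              (AlgSt.overMap (Over.homMk (Spec.map (CommRingCat.ofHom (algebraMap R' (FractionRing R')))) rfl :
                Over.mk (Spec.map (CommRingCat.ofHom (algebraMap R' (FractionRing R'))) ≫
                  Spec.map (CommRingCat.ofHom φ) ≫ sR) ⟶ Over.mk (Spec.map (CommRingCat.ofHom φ) ≫ sR))) c ≅
            BasedFunctor.comp (AlgSt.overMap gψ)
              (FibCat.fpLift a
                (AlgSt.overMap (Over.homMk (Spec.map (CommRingCat.ofHom (algebraMap R (FractionRing R)))) rfl :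
                  Over.mk (Spec.map (CommRingCat.ofHom (algebraMap R (FractionRing R))) ≫ sR) ⟶ Over.mk sR)) α))) :
    AlgSt.IsUnivClosed Scheme.etalePrecoverage f := by
  intro 𝒵 h𝒵 g F hF
  rw [← isOpen_compl_iff]
  refine fun T z hz => isOpen_iff_mem_nhds.2 fun t ht => ?_
  obtain ⟨V₀, y₀, hy₀, hy₀'⟩ := h𝒴.atlas
  obtain ⟨W, cW, lW, w, -, -, ⟨ec⟩, ⟨el⟩, -, hcs, hcsu, -⟩ :=
    Lib.AlgStack.ChartLift.exists_chart.{u} h𝒴.isStack.1 (BasedFunctor.comp z g) (a := y₀)
      (H14.DvrUC.repByAlgSp1_of_diag h𝒴.diag _)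
  have := hcs hy₀
  have := hcsu hy₀'
  let E : BasedFunctor.comp (overMap cW) (BasedFunctor.comp z g) ≅ BasedFunctor.comp (overMap lW) y₀ :=
    Lib.AlgStack.BasedBasic.isoWhiskerRight ec.symm (BasedFunctor.comp z g) ≪≫
      Lib.AlgStack.BasedBasic.isoWhiskerLeft w (FibCat.fpIso (BasedFunctor.comp z g) y₀) ≪≫
      Lib.AlgStack.BasedBasic.isoWhiskerRight el y₀
  obtain ⟨w', hw'⟩ := cW.left.surjective t
  obtain ⟨Vo, hVo, hmV, -⟩ :=
    exists_isAffineOpen_mem_and_subset (U := ⊤) (x := lW.left w') trivial
  obtain ⟨Wo, hWo, hmW, hle⟩ :=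
    exists_isAffineOpen_mem_and_subset (U := lW.left ⁻¹ᵁ Vo) (x := w') hmV
  have : IsLocallyNoetherian V₀.left := hn𝒴 V₀ y₀ hy₀
  have : IsNoetherianRing Γ(V₀.left, Vo) := IsLocallyNoetherian.component_noetherian ⟨Vo, hVo⟩
  let : Algebra Γ(V₀.left, Vo) Γ(W.left, Wo) := (lW.left.appLE Vo Wo hle).hom.toAlgebra
  have hB : H14.DvrUC.str Γ(V₀.left, Vo) Γ(W.left, Wo) ≫ hVo.fromSpec = hWo.fromSpec ≫ lW.left :=
    IsAffineOpen.SpecMap_appLE_fromSpec lW.left hVo hWo hle
  let sA : Spec (CommRingCat.of Γ(V₀.left, Vo)) ⟶ S := hVo.fromSpec ≫ V₀.hom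
  let j : Over.mk sA ⟶ V₀ := Over.homMk hVo.fromSpec rfl
  let k : Over.mk (H14.DvrUC.str Γ(V₀.left, Vo) Γ(W.left, Wo) ≫ sA) ⟶ W :=
    Over.homMk hWo.fromSpec (by
      change hWo.fromSpec ≫ W.hom = H14.DvrUC.str _ _ ≫ hVo.fromSpec ≫ V₀.hom
      rw [← Category.assoc (H14.DvrUC.str _ _), hB, Category.assoc]
      exact congrArg _ (Over.w lW).symm)
  have hk : k ≫ lW =
      (Over.homMk (H14.DvrUC.str Γ(V₀.left, Vo) Γ(W.left, Wo)) rfl :
        Over.mk (H14.DvrUC.str Γ(V₀.left, Vo) Γ(W.left, Wo) ≫ sA) ⟶ Over.mk sA) ≫ j :=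
    Over.OverMorphism.ext hB.symm
  have : IsOpenImmersion j.left := inferInstanceAs (IsOpenImmersion hVo.fromSpec)
  have : IsOpenImmersion k.left := inferInstanceAs (IsOpenImmersion hWo.fromSpec)
  have hsm := Lib.SourceDescent.Scheme.smooth.{u}
  have hy : RepByAlgSpWith (AlgSp.LocP @Smooth) (BasedFunctor.comp (overMap j) y₀) :=
    Lib.AlgStack.IsAlgFp.comp_locP hsm (Lib.AlgStack.Yoneda.isFibGrpd_overCat _)
      (Lib.AlgStack.Yoneda.isFibGrpd_overCat _)
      (H14.Chart.Basic.rep_overMap_locP j hsm inferInstance) hy₀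
  let e : BasedFunctor.comp (BasedFunctor.comp (overMap (k ≫ cW)) z) g ≅
      BasedFunctor.comp (overMap (Over.homMk (H14.DvrUC.str Γ(V₀.left, Vo) Γ(W.left, Wo)) rfl :
        Over.mk (H14.DvrUC.str Γ(V₀.left, Vo) Γ(W.left, Wo) ≫ sA) ⟶ Over.mk sA))
        (BasedFunctor.comp (overMap j) y₀) :=
    eqToIso (H14.DvrUC.comp_overMap k cW (BasedFunctor.comp z g)).symm ≪≫
      Lib.AlgStack.BasedBasic.isoWhiskerLeft (overMap k) E ≪≫
      eqToIso (by rw [H14.DvrUC.comp_overMap, H14.DvrUC.comp_overMap, hk])
  have hcl := H14.DvrUC.isClosed_preimage_image h𝒳 h𝒴 h𝒵 hqc hft hval g hy _ _ e hF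
  have ho : IsOpenMap (k ≫ cW).left := (cW.left.isOpenMap).comp k.left.isOpenMap
  obtain ⟨b, hb⟩ : w' ∈ Set.range k.left := hWo.range_fromSpec.symm ▸ hmW
  have hbt : (k ≫ cW).left b = t := by
    change cW.left (k.left b) = t
    rw [hb, hw']
  refine Filter.mem_of_superset ((ho _ hcl.isOpen_compl).mem_nhds ⟨b, ?_, hbt⟩) ?_
  · intro hb'
    apply ht
    rw [← hbt, ← H14.Chart.Points.ofChart_overMap]
    exact hb'
  · rintro _ ⟨b', hb', rfl⟩ hb''
    apply hb'
    change Points.ofChart (BasedFunctor.comp (overMap (k ≫ cW)) z) b' ∈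
      Points.map (FibCat.fpFst g f) '' F
    rw [H14.Chart.Points.ofChart_overMap]
    exact hb''

end Groth.Agent.S16829
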