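import Groth.Statements.S16832
import Groth.Agent.Lib.AlgStack.EtaleTop

set_option autoImplicit false
set_option backward.isDefEq.respectTransparency false
set_option backward.isDefEq.respectTransparency.types false
universe u
open AlgSt

namespace Groth.Agent.S16832

open CategoryTheory AlgebraicGeometry in
/-- Let 𝒳 be an algebraic stack over (Sch/S) for the etale topology. Then 𝒳 is an algebraic space
(equivalent over (Sch/S) to the category of sections of an algebraic space) if and only if every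
point of 𝒳 has trivial stabilizer: for every field k, every morphism Spec k → S and every functor x
: (Sch/Spec k) → 𝒳 over (Sch/S), the group of automorphisms over the identity of the object x(T) is
trivial for every scheme T over Spec k (the stabilizer of x, a group algebraic space over k, has
only the identity section over every T). -/
theorem result {S : Scheme.{u}} (𝒳 : AlgSt.Cat S)
    (h𝒳 : AlgSt.IsAlgStack Scheme.etalePrecoverage 𝒳) :
    AlgSt.RepByAlgSp 𝒳 ↔
      ∀ (k : Type u) [Field k] (sk : Spec (CommRingCat.of k) ⟶ S)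
        (x : FibCat.overCat (Over.mk sk) ⥤ᵇ 𝒳) (T : Over (Over.mk sk)),
        Subsingleton (Gerb.AutO (x.obj T)) := by
  have h := h𝒳.isStack.1
  refine ⟨fun hr k _ sk x T => ⟨fun α β => ?_⟩, fun hsub => ?_⟩
  · have key : ∀ γ : Gerb.AutO (x.obj T), γ.hom.1 = 𝟙 (x.obj T) := fun γ =>
      Lib.AlgStack.Space.setoidal_of_repByAlgSp hr (x.obj T) γ.hom.1
        (haveI := γ.hom.2; (IsHomLift.fac' 𝒳.p (𝟙 (𝒳.p.obj (x.obj T))) γ.hom.1).trans (by simp))
    exact Iso.ext (Functor.Fiber.hom_ext ((key α).trans (key β).symm))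
  refine Lib.AlgStack.EtaleTop.repByAlgSp_of_trivial h𝒳 fun K _ _ s x hx b φ θ hθ => ?_
  let g : 𝒳.p.obj b ⟶ Over.mk s := 𝒳.p.map φ ≫ eqToHom hx
  have hφ : 𝒳.p.IsHomLift g φ := IsHomLift.of_fac' _ _ _ rfl hx (by simp [g])
  have hl : 𝒳.p.IsHomLift g (Lib.AlgStack.Yoneda.pbMap h hx g) := inferInstance
  obtain ⟨ν, hν, hνe⟩ := Lib.Fibred.Descent.exists_factor h φ hφ _ hl
  have : IsIso ν := Lib.AlgStack.BasedBasic.isIso_of_isHomLift_id h (R := 𝒳.p.obj b) ν
  let y := Lib.AlgStack.Yoneda.fromObj h hx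
  let T : Over (Over.mk s) := Over.mk g
  let c := y.obj T
  have hc : 𝒳.p.obj c = 𝒳.p.obj b := IsHomLift.domain_eq 𝒳.p (𝟙 (𝒳.p.obj b)) ν
  let θ' : c ⟶ c := ν ≫ θ ≫ inv ν
  have hθ' : 𝒳.p.IsHomLift (𝟙 (𝒳.p.obj c)) θ' := by
    refine IsHomLift.of_fac' _ _ _ rfl rfl ?_
    simp [θ', hθ]

  have : IsIso θ' := Lib.AlgStack.BasedBasic.isIso_of_isHomLift_id h (R := 𝒳.p.obj c) θ'
  let a : Gerb.AutO c := ⟨⟨θ', hθ'⟩, ⟨inv θ', IsHomLift.lift_id_inv_isIso _ _ _⟩,
    Functor.Fiber.hom_ext (IsIso.hom_inv_id θ'), Functor.Fiber.hom_ext (IsIso.inv_hom_id θ')⟩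
  have h1 : θ' = 𝟙 c := congrArg (fun i => i.hom.1) (@Subsingleton.elim _ (hsub K s y T) a (Iso.refl _))
  rw [← cancel_epi ν, ← cancel_mono (inv ν)]
  simp only [Category.comp_id, IsIso.hom_inv_id, Category.assoc]
  exact h1

end Groth.Agent.S16832
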