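import Groth.Statements.S16833
import Groth.Agent.Lib.AlgSpMor.LqfRep
import Groth.Agent.Lib.AlgSpFormal.Charts
-- import your own Groth.Agent.* helpers here

set_option autoImplicit false
universe u
open AlgSp

set_option linter.style.haveILetI false
open Groth.Agent.Lib.AlgSpace Groth.Agent.Lib.AlgSpMor
open CategoryTheory Limits AlgebraicGeometry

namespace Groth.Agent.S16833

open CategoryTheory AlgebraicGeometry in
/-- Let p : U → X and f : X → Y be morphisms of algebraic spaces over a scheme S with p etale and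
surjective and f separated. If the composite U → Y is finite, then f is finite. -/
theorem result {S : Scheme.{u}}
    {U X Y : AlgSp.Space S} (p : U ⟶ X) (f : X ⟶ Y)
    (hp : AlgSp.IsEtaleMor p.hom) (hps : AlgSp.IsSurjectiveMor p.hom)
    (hf : AlgSp.IsSeparatedMor f.hom) (h : AlgSp.IsFiniteMor (p ≫ f).hom) :
    AlgSp.IsFiniteMor f.hom := by
  intro Z hZ g
  haveI := hZ
  obtain ⟨W, i, fW, sqW, _, _⟩ := h hZ g
  let P := Limits.pullback f.hom g
  let pr : P ⟶ X.obj := Limits.pullback.fst f.hom g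
  let sn : P ⟶ (yon S).obj Z := Limits.pullback.snd f.hom g
  have sqP : IsPullback pr sn f.hom g := IsPullback.of_hasPullback _ _
  have hP : IsAlgSpace P := isAlgSpace_of_isPullback sqP Y.property.diag X.property
    (IsAlgSpace.yon_obj Z)
  obtain ⟨p', hp₁, hp₂⟩ : ∃ p' : (yon S).obj W ⟶ P, p' ≫ pr = fW ≫ p.hom ∧
      p' ≫ sn = (yon S).map i :=
    ⟨sqP.lift _ _ ((Category.assoc _ _ _).trans sqW.w), sqP.lift_fst _ _ _, sqP.lift_snd _ _ _⟩
  have sq' : IsPullback fW p' p.hom pr := by
    refine IsPullback.of_bot ?_ hp₁.symm sqP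
    rw [hp₂]
    exact sqW
  have hE := Groth.Agent.Lib.SourceDescent.Scheme.etale.{u}
  have hp'e : RepWith @Etale p' := LocP.repWith_of_locP hE hP (hP.representable_from_yon p')
    (LocP.locP_of_isPullback hE U.property X.property hP sq'
      ((Groth.Agent.Lib.AlgSpFormal.Charts.isEtaleMor_iff_locP U.property X.property p.hom).1 hp))
  have hp's : RepWith @Surjective p' :=
    repWith_surjective_of_points (hP.representable_from_yon p') fun y ↦ by
      obtain ⟨z, hz⟩ := hps (Points.map pr y)
      obtain ⟨w, -, hw⟩ := exists_of_isPullback sq' z y hz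
      exact ⟨w, hw⟩
  have hsep : IsSeparatedMor sn := Sep.repWith_diagonal_baseChange sqP hf
  obtain ⟨W₁, ⟨e⟩⟩ := LqfRep.exists_iso_of_affine_chart hP hsep hp'e hp's hp₂
  obtain ⟨w₁, hw₁⟩ := (yon S).map_surjective (e.hom ≫ sn)
  obtain ⟨c, hc⟩ := (yon S).map_surjective (p' ≫ e.inv)
  have hcw : c ≫ w₁ = i := (yon S).map_injective (by
    rw [Functor.map_comp, hc, hw₁, Category.assoc, e.inv_hom_id_assoc, hp₂])
  haveI : Etale c.left :=
    (repWith_yon_map_iff _ c).1 (by rw [hc]; exact (repWith_comp_iso_iff _ _ _).2 hp'e)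
  haveI : Surjective c.left :=
    (repWith_yon_map_iff _ c).1 (by rw [hc]; exact (repWith_comp_iso_iff _ _ _).2 hp's)
  haveI : IsSeparated w₁.left := (isSeparatedMor_yon_map_iff w₁).1
    (Sep.repWith_diagonal_of_eq e (Iso.refl _) (by simp [hw₁]) hsep)
  haveI : IsFinite (c.left ≫ w₁.left) := by
    rw [← Over.comp_left, hcw]; assumption
  have hq : (@LocallyQuasiFinite ⊓ @LocallyOfFiniteType : MorphismProperty Scheme.{u}) w₁.left :=
    LocP.lqfLft.descends c.left w₁.left ‹Etale c.left› ‹Surjective c.left› ⟨inferInstance, inferInstance⟩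
  haveI : LocallyQuasiFinite w₁.left := hq.1
  haveI : LocallyOfFiniteType w₁.left := hq.2
  haveI : UniversallyClosed w₁.left := UniversallyClosed.of_comp_surjective c.left w₁.left
  haveI : IsProper w₁.left := ⟨⟩
  haveI : IsFinite w₁.left := IsFinite.of_isProper_of_locallyQuasiFinite _
  exact ⟨W₁, w₁, e.hom ≫ pr,
    IsPullback.of_iso sqP e.symm (Iso.refl _) (Iso.refl _) (Iso.refl _) (by simp)
      (by simp [hw₁]) (by simp) (by simp), isAffine_of_isAffineHom w₁.left, ‹_›⟩

end Groth.Agent.S16833
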