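import Groth.Statements.S16839
import Groth.Agent.H63.FrobRoots

set_option autoImplicit false
universe u
open CategoryTheory MonoidalCategory CartesianMonoidalCategory MonObj GrpObj AlgebraicGeometry
open AbVar

namespace Groth.Agent.S16839

/-- Let k be a finite field with q elements and algebraic closure Ω, ℓ a prime invertible in k, and X an
abelian variety over k (a proper, geometrically integral commutative group scheme over k) of
dimension g, with geometric Frobenius π_X (the endomorphism that is the identity on points and the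
q-th power map on sections); assume, as is the case, that the ℓ-adic Tate module of Ω-points T_ℓ X
is free of finite rank over ℤ_ℓ, and let f_X ∈ ℤ[t] be the polynomial mapping to the characteristic
polynomial of T_ℓ(π_X) (the characteristic polynomial of Frobenius). Then √q and −√q, if they occur
as roots of f_X, occur with even multiplicity: the root multiplicities of f_X (mapped to ℝ[t]) at √q
and at −√q are even. (The other assertions of (ii) — that q/α is a root whenever α is, with the same
multiplicity — are not restated.) -/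
theorem result (k Ω : Type u) [Field k] [Finite k] [Field Ω] [Algebra k Ω] [IsAlgClosure k Ω]
    (l : ℕ) [Fact l.Prime] (hl : (l : k) ≠ 0) (X : Over (Spec (CommRingCat.of k)))
    [GrpObj X] [IsCommMonObj X] [IsProper X.hom] [GeometricallyIntegral X.hom]
    (πX : X ⟶ X) [IsMonHom πX] (hπb : πX.left.base = 𝟙 _)
    (hπle : ∀ U : X.left.Opens, U ≤ πX.left ⁻¹ᵁ U)
    (hπapp : ∀ (U : X.left.Opens) (s : Γ(X.left, U)), (πX.left.appLE U U (hπle U)).hom s = s ^ Nat.card k)
    [Module.Free ℤ_[l] (AbDual.TateMod X l (SGA7.pt Ω))] [Module.Finite ℤ_[l] (AbDual.TateMod X l (SGA7.pt Ω))]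
    (P : Polynomial ℤ) (hP : (AbDual.tateMapₗ (l := l) (T := SGA7.pt Ω) πX).charpoly = P.map (Int.castRingHom ℤ_[l])) :
    Even ((P.map (Int.castRingHom ℝ)).rootMultiplicity (Real.sqrt (Nat.card k))) ∧
      Even ((P.map (Int.castRingHom ℝ)).rootMultiplicity (-Real.sqrt (Nat.card k))) := by
  haveI : IsAlgClosed Ω := IsAlgClosure.isAlgClosed k
  haveI : IsIntegral X.left := GeometricallyIntegral.isIntegral_of_subsingleton X.hom
  have hq : 0 < Nat.card k := Nat.card_pos
  obtain ⟨g, hg⟩ := H63.AVIsogeny.exists_dim (A := X)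
  obtain ⟨hm, hcard, habs, hprod, hsum, hconj, hF⟩ :=
    H63.FrobRoots.basic πX hl (Nat.card k) hπb hπle hπapp hg P hP
  classical
  set R := (P.map (Int.castRingHom ℂ)).roots
  set s := Real.sqrt (Nat.card k) with hs
  have hs0 : 0 < s := Real.sqrt_pos.2 (Nat.cast_pos.2 hq)
  have hcount : ∀ x : ℝ, (P.map (Int.castRingHom ℝ)).rootMultiplicity x = R.count (x : ℂ) := fun x => by
    rw [Polynomial.count_roots, Polynomial.eq_rootMultiplicity_map Complex.ofRealHom.injective,
      Polynomial.map_map, RingHom.ext_int (Complex.ofRealHom.comp (Int.castRingHom ℝ)) (Int.castRingHom ℂ)]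
    rfl
  rw [hcount, hcount]
  set Rp := R.filter fun a => 0 < a.im with hRp
  set Rm := R.filter fun a => a.im < 0 with hRm
  have hmap : Rm = Rp.map (starRingEnd ℂ) := by
    conv_lhs => rw [hRm, ← hconj, Multiset.filter_map]
    rw [hRp]
    congr 1
    exact Multiset.filter_congr fun a _ => by simp
  have hre : ∀ a ∈ R, a.im = 0 → a = (s : ℂ) ∨ a = ((-s : ℝ) : ℂ) := fun a ha him => by
    have h1 : |a.re| = s := by rw [← habs a ha, Complex.abs_re_eq_norm.2 him]
    rcases (abs_eq hs0.le).1 h1 with h | h
    · exact Or.inl (Complex.ext (by simpa using h) (by simpa using him))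
    · exact Or.inr (Complex.ext (by simpa using h) (by simpa using him))
  have hne : (s : ℂ) ≠ ((-s : ℝ) : ℂ) := fun h => by
    have := Complex.ofReal_injective h
    linarith
  have hdec : R = (Multiset.replicate (R.count (s : ℂ)) (s : ℂ) +
      Multiset.replicate (R.count ((-s : ℝ) : ℂ)) ((-s : ℝ) : ℂ)) + (Rp + Rm) := by
    refine Multiset.ext.2 fun a => ?_
    simp only [Multiset.count_add, Multiset.count_replicate, hRp, hRm, Multiset.count_filter]
    by_cases h1 : a = (s : ℂ)
    · subst h1
      have h3 : ¬ (((-s : ℝ) : ℂ) = (s : ℂ)) := hne.symm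
      rw [if_neg h3, if_pos rfl]
      simp
    by_cases h2 : a = ((-s : ℝ) : ℂ)
    · subst h2
      rw [if_neg hne, if_pos rfl]
      simp
    rw [if_neg (Ne.symm h1), if_neg (Ne.symm h2)]
    by_cases ha : a ∈ R
    · rcases lt_trichotomy a.im 0 with h | h | h
      · simp [h, h.le, not_lt.2 h.le]
      · exact absurd (hre a ha h) (by tauto)
      · simp [h, not_lt.2 h.le]
    · simp [Multiset.count_eq_zero.2 ha]
  have hpair : (Rp + Rm).prod = ((s ^ (2 * Multiset.card Rp) : ℝ) : ℂ) := by
    rw [Multiset.prod_add, hmap, ← Multiset.map_id' Rp, Multiset.map_map, ← Multiset.prod_map_mul,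
      Multiset.map_congr rfl (g := fun _ => ((s ^ 2 : ℝ) : ℂ)) fun a ha => ?_]
    · rw [Multiset.map_const', Multiset.prod_replicate, ← Complex.ofReal_pow, ← pow_mul, Multiset.map_id']
    · rw [Function.comp_apply, Complex.mul_conj', habs a (Multiset.mem_of_mem_filter ha)]
      push_cast
      rfl
  have hp := congrArg Multiset.prod hdec
  rw [hprod, Multiset.prod_add, Multiset.prod_add, Multiset.prod_replicate, Multiset.prod_replicate, hpair] at hp
  have hp' : ((Nat.card k : ℝ)) ^ g =
      s ^ R.count (s : ℂ) * (-s) ^ R.count ((-s : ℝ) : ℂ) * s ^ (2 * Multiset.card Rp) := by exact_mod_cast hp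
  have heven : Even (R.count ((-s : ℝ) : ℂ)) := by
    by_contra hodd
    rw [Nat.not_even_iff_odd] at hodd
    rw [hodd.neg_pow] at hp'
    have e1 : 0 < (Nat.card k : ℝ) ^ g := pow_pos (Nat.cast_pos.2 hq) g
    have e2 : 0 < s ^ R.count (s : ℂ) * s ^ R.count ((-s : ℝ) : ℂ) * s ^ (2 * Multiset.card Rp) := by positivity
    nlinarith
  refine ⟨?_, heven⟩
  have hc := congrArg Multiset.card hdec
  rw [hcard] at hc
  simp only [Multiset.card_add, Multiset.card_replicate, hmap, Multiset.card_map] at hc
  obtain ⟨t, ht⟩ := heven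
  rw [Nat.even_iff]
  omega

end Groth.Agent.S16839
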