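import Groth.Statements.S1684
import Groth.Agent.H4.CartierUFD
-- import your own Groth.Agent.* helpers here

set_option autoImplicit false
universe u
open CategoryTheory CategoryTheory.Limits AlgebraicGeometry TopologicalSpace
open SDiv

namespace Groth.Agent.S1684

/-- Let X be a locally Noetherian scheme and 𝓘 a quasi-coherent ideal sheaf whose closed subscheme D is
integral, of codimension 1 in X (the local ring of X at the generic point of D has dimension 1), and
such that the local ring of X at every point of D is a unique factorisation domain. Then 𝓘 is the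
ideal sheaf of an effective Cartier divisor. -/
theorem result (X : Scheme.{u}) [IsLocallyNoetherian X] (𝓘 : X.IdealSheafData)
    [IsIntegral 𝓘.subscheme]
    (hcodim : ringKrullDim (X.presheaf.stalk (𝓘.subschemeι (genericPoint ↥𝓘.subscheme))) = 1)
    (hufd : ∀ x : ↥X, x ∈ 𝓘.support → IsDomain (X.presheaf.stalk x) ∧ UniqueFactorizationMonoid (X.presheaf.stalk x)) :
    BlowUp.IsEffCartierIdeal 𝓘 := by
  refine H4.CartierUFD.isEffCartier_of_assoc 𝓘 (fun y hy ha => ?_) hufd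
  obtain ⟨a, ha, hm⟩ := ha
  have hy' : y ∈ Set.range 𝓘.subschemeι := by rw [𝓘.range_subschemeι]; exact hy
  obtain ⟨z, rfl⟩ := hy'
  haveI : IsDomain (𝓘.subscheme.presheaf.stalk z) := inferInstance
  have hker := H4.CartierUFD.ker_stalkMap_subschemeι 𝓘 z
  have hle : IsLocalRing.maximalIdeal (X.presheaf.stalk (𝓘.subschemeι z)) ≤
      Lib.Ideal.Prime.stalkIdeal 𝓘 (𝓘.subschemeι z) := by
    intro r hr
    have h := hm r hr
    rw [← hker, RingHom.mem_ker, map_mul, mul_eq_zero] at h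
    rw [← hker, RingHom.mem_ker]
    exact h.resolve_right fun h0 => ha (by rw [← hker, RingHom.mem_ker]; exact h0)
  obtain ⟨U, hU, hzU, -⟩ := exists_isAffineOpen_mem_and_subset (x := 𝓘.subschemeι z) (U := ⊤) trivial
  have hgU : Lib.Ideal.Prime.gen 𝓘 ∈ U :=
    (Lib.Ideal.Prime.gen_specializes 𝓘 hy).mem_open U.2 hzU
  suffices he : 𝓘.subschemeι z = Lib.Ideal.Prime.gen 𝓘 by rw [he]; exact hcodim
  have hp : (hU.primeIdealOf ⟨_, hzU⟩).asIdeal ≤ (hU.primeIdealOf ⟨_, hgU⟩).asIdeal := by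
    rw [Lib.Ideal.Prime.primeIdealOf_gen 𝓘 ⟨U, hU⟩ hgU]
    intro r hr
    letI := X.presheaf.algebra_section_stalk ⟨𝓘.subschemeι z, hzU⟩
    haveI := hU.isLocalization_stalk ⟨𝓘.subschemeι z, hzU⟩
    have h := hle ((IsLocalization.AtPrime.to_map_mem_maximal_iff (X.presheaf.stalk (𝓘.subschemeι z))
      (hU.primeIdealOf ⟨_, hzU⟩).asIdeal r).mpr hr)
    rw [Lib.Ideal.Prime.stalkIdeal_eq 𝓘 ⟨U, hU⟩ hzU] at h
    haveI := Lib.Ideal.Prime.isPrime_ideal 𝓘 ⟨U, hU⟩ ⟨_, hy, hzU⟩
    obtain ⟨t, ht, htr⟩ := (IsLocalization.algebraMap_mem_map_algebraMap_iff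
      (hU.primeIdealOf ⟨_, hzU⟩).asIdeal.primeCompl (X.presheaf.stalk (𝓘.subschemeι z))
      (𝓘.ideal ⟨U, hU⟩) r).mp h
    exact (Ideal.IsPrime.mem_or_mem ‹_› htr).resolve_left fun ht' =>
      ht ((Lib.Ideal.Prime.mem_support_iff_le_prime 𝓘 ⟨U, hU⟩ hzU).mp hy ht')
  have hspec := (Lib.AssPt.Basic.specializes_iff_primeIdealOf hU hgU hzU).mpr hp
  exact (hspec.antisymm (Lib.Ideal.Prime.gen_specializes 𝓘 hy)).eq

end Groth.Agent.S1684
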