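import Groth.Statements.S16841
import Groth.Agent.H63.FrobRoots

set_option autoImplicit false
universe u
open CategoryTheory MonoidalCategory CartesianMonoidalCategory MonObj GrpObj AlgebraicGeometry
open AbVar

namespace Groth.Agent.S16841

/-- Let k be a finite field with q elements and algebraic closure Ω, ℓ a prime invertible in k, and X an
abelian variety over k (a proper, geometrically integral commutative group scheme over k) of
dimension g, with geometric Frobenius π_X (the endomorphism that is the identity on points and the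
q-th power map on sections); assume, as is the case, that the ℓ-adic Tate module of Ω-points T_ℓ X
is free of finite rank over ℤ_ℓ, and let f_X ∈ ℤ[t] be the polynomial mapping to the characteristic
polynomial of T_ℓ(π_X) (the characteristic polynomial of Frobenius). Only the inequality is stated,
not the equality case. Then the trace of π_X, which is minus the second-highest coefficient of f_X,
satisfies |trace(π_X)| ≤ g · ⌊2√q⌋. -/
theorem result (k Ω : Type u) [Field k] [Finite k] [Field Ω] [Algebra k Ω] [IsAlgClosure k Ω]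
    (l : ℕ) [Fact l.Prime] (hl : (l : k) ≠ 0) (X : Over (Spec (CommRingCat.of k)))
    [GrpObj X] [IsCommMonObj X] [IsProper X.hom] [GeometricallyIntegral X.hom]
    (g : ℕ) (hg : topologicalKrullDim X.left = g)
    (πX : X ⟶ X) [IsMonHom πX] (hπb : πX.left.base = 𝟙 _)
    (hπle : ∀ U : X.left.Opens, U ≤ πX.left ⁻¹ᵁ U)
    (hπapp : ∀ (U : X.left.Opens) (s : Γ(X.left, U)), (πX.left.appLE U U (hπle U)).hom s = s ^ Nat.card k)
    [Module.Free ℤ_[l] (AbDual.TateMod X l (SGA7.pt Ω))] [Module.Finite ℤ_[l] (AbDual.TateMod X l (SGA7.pt Ω))]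
    (P : Polynomial ℤ) (hP : (AbDual.tateMapₗ (l := l) (T := SGA7.pt Ω) πX).charpoly = P.map (Int.castRingHom ℤ_[l])) :
    |(P.nextCoeff : ℝ)| ≤ (g : ℝ) * (⌊2 * Real.sqrt (Nat.card k)⌋ : ℝ) := by
  haveI : IsAlgClosed Ω := IsAlgClosure.isAlgClosed k
  have hq : 0 < Nat.card k := Nat.card_pos
  obtain ⟨hm, hcard, habs, hprod, hsum, hconj, hF⟩ :=
    H63.FrobRoots.basic πX hl (Nat.card k) hπb hπle hπapp hg P hP
  set R := (P.map (Int.castRingHom ℂ)).roots
  set m := ⌊2 * Real.sqrt (Nat.card k)⌋ with hmdef
  have hre : ∀ a ∈ R, |2 * a.re| < (m : ℝ) + 1 := fun a ha => by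
    have h1 := Complex.abs_re_le_norm a
    rw [habs a ha] at h1
    rw [abs_mul, abs_two]
    linarith [Int.lt_floor_add_one (2 * Real.sqrt (Nat.card k))]
  have hsumre : (R.map fun a => a.re).sum = -(P.nextCoeff : ℝ) := by
    have h := congrArg Complex.reAddGroupHom hsum
    rw [map_multiset_sum] at h
    simpa using h
  -- for a sign `e`, the bound on one side
  have key : ∀ e : ℝ, (e = 1 ∨ e = -1) → (∀ a ∈ R, 0 < (m : ℝ) + 1 - e * (2 * a.re)) := fun e he a ha => by
    have := abs_lt.1 (hre a ha)
    rcases he with rfl | rfl <;> linarith [this.1, this.2]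
  have hshift : ∀ e : ℝ, (R.map fun a => ((m : ℝ) + 1 - e * (2 * a.re)) - 1).sum =
      2 * g * m + 2 * e * (P.nextCoeff : ℝ) := fun e => by
    rw [show (fun a : ℂ => ((m : ℝ) + 1 - e * (2 * a.re)) - 1) = fun a => (m : ℝ) - (2 * e) * a.re from
      funext fun a => by ring, Multiset.sum_map_sub, Multiset.map_const', Multiset.sum_replicate,
      Multiset.sum_map_mul_left, hsumre, hcard]
    simp only [nsmul_eq_mul]
    push_cast
    ring
  have h1 : 1 ≤ (R.map fun a => (m : ℝ) + 1 - 1 * (2 * a.re)).prod := by
    have := H63.FrobRoots.one_le_prod hq P hm habs hprod hF (m + 1) 1 fun a ha => by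
      have := key 1 (Or.inl rfl) a ha
      push_cast
      linarith
    simpa [R] using this
  have h2 : 1 ≤ (R.map fun a => (m : ℝ) + 1 - (-1) * (2 * a.re)).prod := by
    have := H63.FrobRoots.one_le_prod hq P hm habs hprod hF (m + 1) (-1) fun a ha => by
      have := key (-1) (Or.inr rfl) a ha
      push_cast
      linarith
    simpa [R] using this
  have b1 := (H63.FrobRoots.sum_sub_one_nonneg _ (fun r hr => by
    obtain ⟨a, ha, rfl⟩ := Multiset.mem_map.1 hr
    exact key 1 (Or.inl rfl) a ha) h1).1
  have b2 := (H63.FrobRoots.sum_sub_one_nonneg _ (fun r hr => by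
    obtain ⟨a, ha, rfl⟩ := Multiset.mem_map.1 hr
    exact key (-1) (Or.inr rfl) a ha) h2).1
  rw [Multiset.map_map] at b1 b2
  simp only [Function.comp_def] at b1 b2
  rw [hshift] at b1 b2
  rw [abs_le]
  constructor <;> nlinarith

end Groth.Agent.S16841
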