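import Groth.Statements.S16842
import Groth.Agent.S14936
import Groth.Agent.S16840
import Groth.Agent.S16838
import Groth.Agent.H63.TateCor.Recover
import Groth.Agent.H63.TateEnd
import Groth.Agent.H63.Tate.FrobGal
import Mathlib.FieldTheory.Finite.Extension

set_option autoImplicit false
universe u
open CategoryTheory MonoidalCategory CartesianMonoidalCategory MonObj GrpObj AlgebraicGeometry
open AbVar

namespace Groth.Agent.S16842

/-- (a) ⇔ (e2): fix a finite field k and abelian varieties X and Y over it (proper, geometrically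
integral commutative group schemes over k). Then X and Y are isogenous over k — there exist
homomorphisms u : X → Y and v : Y → X and an integer n > 0 with v ∘ u = [n]_X and u ∘ v = [n]_Y — if
and only if X and Y have the same number of k'-valued points for every finite extension field k' of
k (equivalently, the same zeta function). -/
theorem result (k : Type u) [Field k] [Finite k]
    (X : Over (Spec (CommRingCat.of k)))
    [GrpObj X] [IsCommMonObj X] [IsProper X.hom] [GeometricallyIntegral X.hom]
    (Y : Over (Spec (CommRingCat.of k)))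
    [GrpObj Y] [IsCommMonObj Y] [IsProper Y.hom] [GeometricallyIntegral Y.hom] :
    (∃ (u : X ⟶ Y) (_ : IsMonHom u) (v : Y ⟶ X) (_ : IsMonHom v) (n : ℕ), 0 < n ∧
        u ≫ v = (𝟙 X) ^ n ∧ v ≫ u = (𝟙 Y) ^ n) ↔
      ∀ (k' : Type u) [Field k'] [Algebra k k'] [Finite k'],
        Nat.card (Over.mk (Spec.map (CommRingCat.ofHom (algebraMap k k'))) ⟶ X) = Nat.card (Over.mk (Spec.map (CommRingCat.ofHom (algebraMap k k'))) ⟶ Y) := by
  classical
  let Ω := AlgebraicClosure k
  haveI : IsAlgClosed Ω := inferInstance
  obtain ⟨l, hlp, hl⟩ := H63.HomLattice.exists_prime_ne_zero k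
  haveI : Fact l.Prime := ⟨hlp⟩
  haveI : IsIntegral X.left := GeometricallyIntegral.isIntegral_of_subsingleton X.hom
  haveI : IsIntegral Y.left := GeometricallyIntegral.isIntegral_of_subsingleton Y.hom
  obtain ⟨g, hg⟩ := H63.AVIsogeny.exists_dim (A := X)
  obtain ⟨h, hh⟩ := H63.AVIsogeny.exists_dim (A := Y)
  obtain ⟨a1, a2, -⟩ := H63.HomLattice.tate_free_finite Ω X l hl hg
  obtain ⟨b1, b2, -⟩ := H63.HomLattice.tate_free_finite Ω Y l hl hh
  haveI := a1; haveI := a2; haveI := b1; haveI := b2
  obtain ⟨πX, hXb, hXle, hXapp, -, hXm⟩ := H63.Tate.FrobGal.exists_frob_galAct k Ω X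
  obtain ⟨πY, hYb, hYle, hYapp, -, hYm⟩ := H63.Tate.FrobGal.exists_frob_galAct k Ω Y
  haveI := hXm; haveI := hYm
  obtain ⟨P, -, -, -, hP'⟩ := H63.TateEnd.exists_charpoly Ω hg (EndAV.End.of πX)
  obtain ⟨Q, -, -, -, hQ'⟩ := H63.TateEnd.exists_charpoly Ω hh (EndAV.End.of πY)
  have hP := hP' l hl
  have hQ := hQ' l hl
  have hiso := S14936.result k Ω l hl X Y πX hXb hXle hXapp πY hYb hYle hYapp
  have hX := fun (K : Type u) [Field K] [Algebra k K] [Finite K] =>
    S16840.result k Ω l hl X πX hXb hXle hXapp P hP K
  have hY := fun (K : Type u) [Field K] [Algebra k K] [Finite K] =>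
    S16840.result k Ω l hl Y πY hYb hYle hYapp Q hQ K
  constructor
  · intro hXY K _ _ _
    have hc := hiso.1 hXY
    rw [show AbDual.tateMapₗ (l := l) (T := SGA7.pt (K := k) Ω) πX = AbDual.tateMapₗ (l := l) (T := SGA7.pt (K := k) Ω) (EndAV.End.of πX).toHom from rfl, hP] at hc
    have hPQ : P = Q := Polynomial.map_injective _ (RingHom.injective_int _) (hc.trans hQ)
    have e := hY K
    rw [← hPQ] at e
    exact_mod_cast (hX K).trans e.symm
  · intro hcount
    refine hiso.2 (hP.trans (Eq.trans ?_ hQ.symm))
    congr 1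
    have hPm : P.Monic := by
      refine Polynomial.monic_of_injective (RingHom.injective_int (Int.castRingHom ℤ_[l])) ?_
      rw [← hP]
      exact LinearMap.charpoly_monic _
    have hQm : Q.Monic := by
      refine Polynomial.monic_of_injective (RingHom.injective_int (Int.castRingHom ℤ_[l])) ?_
      rw [← hQ]
      exact LinearMap.charpoly_monic _
    refine Polynomial.map_injective (Int.castRingHom ℂ) (RingHom.injective_int _) ?_
    have hroots : (P.map (Int.castRingHom ℂ)).roots = (Q.map (Int.castRingHom ℂ)).roots := by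
      refine H63.TateCor.Recover.eq_of_prod_one_sub_pow _ _ (r := Real.sqrt (Nat.card k))
        (Real.lt_sqrt_of_sq_lt (by rw [one_pow]; exact_mod_cast Finite.one_lt_card (α := k)))
        (S16838.result k Ω l hl X πX hXb hXle hXapp P hP) (S16838.result k Ω l hl Y πY hYb hYle hYapp Q hQ) ?_
      intro m hm
      haveI : NeZero m := ⟨by omega⟩
      obtain ⟨p, hp⟩ := CharP.exists k
      haveI : Fact p.Prime := ⟨(CharP.char_is_prime_or_zero k p).resolve_right fun h0 => by
        subst h0
        haveI := CharP.charP_to_charZero k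
        exact not_finite k⟩
      let K := ULift.{u} (FiniteField.Extension k p m)
      have hK : Module.finrank k K = m := by
        rw [LinearEquiv.finrank_eq (ULift.moduleEquiv : K ≃ₗ[k] FiniteField.Extension k p m),
          FiniteField.finrank_extension]
      have e := hX K
      rw [hcount K, hY K, hK] at e
      exact e.symm
    rw [(IsAlgClosed.splits (P.map (Int.castRingHom ℂ))).eq_prod_roots_of_monic (hPm.map _),
      (IsAlgClosed.splits (Q.map (Int.castRingHom ℂ))).eq_prod_roots_of_monic (hQm.map _), hroots]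

end Groth.Agent.S16842
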