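import Groth.Statements.S16844
import Groth.Agent.H63.TateCor.Center
import Groth.Agent.S16843
import Groth.Agent.H63.TateEnd

set_option autoImplicit false
universe u
open CategoryTheory MonoidalCategory CartesianMonoidalCategory MonObj GrpObj AlgebraicGeometry
open AbVar

namespace Groth.Agent.S16844

/-- (a) ⇔ (b2) ⇔ (c): let k be a finite field with q elements and algebraic closure Ω, ℓ a prime
invertible in k, and X an abelian variety over k (a proper, geometrically integral commutative group
scheme over k) of dimension g, with geometric Frobenius π_X (the endomorphism that is the identity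
on points and the q-th power map on sections); assume, as is the case, that the ℓ-adic Tate module
of Ω-points T_ℓ X is free of finite rank over ℤ_ℓ, and let f_X ∈ ℤ[t] be the polynomial mapping to
the characteristic polynomial of T_ℓ(π_X) (the characteristic polynomial of Frobenius). Then: the
endomorphism ring End_k(X) (endomorphisms defined over k) is commutative if and only if f_X has no
multiple root, i.e. is squarefree in ℚ[t]; and f_X is squarefree if and only if dim_ℚ (ℚ ⊗ End_k(X))
= 2g. (The further equivalent condition End⁰(X) = ℚ[π_X] is not restated.) -/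
theorem result (k Ω : Type u) [Field k] [Finite k] [Field Ω] [Algebra k Ω] [IsAlgClosure k Ω]
    (l : ℕ) [Fact l.Prime] (hl : (l : k) ≠ 0) (X : Over (Spec (CommRingCat.of k)))
    [GrpObj X] [IsCommMonObj X] [IsProper X.hom] [GeometricallyIntegral X.hom]
    (g : ℕ) (hg : topologicalKrullDim X.left = g)
    (πX : X ⟶ X) [IsMonHom πX] (hπb : πX.left.base = 𝟙 _)
    (hπle : ∀ U : X.left.Opens, U ≤ πX.left ⁻¹ᵁ U)
    (hπapp : ∀ (U : X.left.Opens) (s : Γ(X.left, U)), (πX.left.appLE U U (hπle U)).hom s = s ^ Nat.card k)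
    [Module.Free ℤ_[l] (AbDual.TateMod X l (SGA7.pt Ω))] [Module.Finite ℤ_[l] (AbDual.TateMod X l (SGA7.pt Ω))]
    (P : Polynomial ℤ) (hP : (AbDual.tateMapₗ (l := l) (T := SGA7.pt Ω) πX).charpoly = P.map (Int.castRingHom ℤ_[l])) :
    ((∀ a b : EndAV.End X, a * b = b * a) ↔ Squarefree (P.map (Int.castRingHom ℚ))) ∧
      (Squarefree (P.map (Int.castRingHom ℚ)) ↔ Module.finrank ℚ (EndAV.End0 X) = 2 * g) := by
  classical
  haveI : IsAlgClosed Ω := IsAlgClosure.isAlgClosed k
  haveI : IsIntegral X.left := GeometricallyIntegral.isIntegral_of_subsingleton X.hom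
  obtain ⟨-, -, h3⟩ := H63.HomLattice.tate_free_finite Ω X l hl hg
  haveI : Module.Free ℤ (EndAV.End X) := H63.End0Basic.moduleFree_finite.1
  haveI : Module.Finite ℤ (EndAV.End X) := H63.End0Basic.moduleFree_finite.2
  have hn : Module.finrank ℚ (EndAV.End0 X) = Module.finrank ℤ (EndAV.Hom X X) := Module.finrank_baseChange
  rw [S16843.result k Ω l hl X X πX hπb hπle hπapp πX hπb hπle hπapp P hP P hP] at hn
  set Q := P.map (Int.castRingHom ℚ) with hQ
  set s := UniqueFactorizationMonoid.normalizedFactors Q
  have hPm : P.Monic := by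
    refine Polynomial.monic_of_injective (RingHom.injective_int (Int.castRingHom ℤ_[l])) ?_
    rw [← hP]
    exact LinearMap.charpoly_monic _
  have hQm : Q.Monic := hPm.map _
  have hd : P.natDegree = 2 * g := by
    rw [← Polynomial.natDegree_map_eq_of_injective (RingHom.injective_int (Int.castRingHom ℤ_[l])), ← hP,
      LinearMap.charpoly_natDegree]
    exact h3
  have hsum : ∑ q ∈ s.toFinset, s.count q * q.natDegree = 2 * g := by
    have hp := UniqueFactorizationMonoid.prod_normalizedFactors_eq hQm.ne_zero
    rw [hQm.normalize_eq_self] at hp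
    rw [← hd, ← hPm.natDegree_map (Int.castRingHom ℚ), ← hQ, ← hp, Polynomial.natDegree_multiset_prod _
      (UniqueFactorizationMonoid.zero_notMem_normalizedFactors _), Finset.sum_multiset_map_count]
    exact Finset.sum_congr rfl fun q _ => rfl
  have hge : ∀ q ∈ s.toFinset, s.count q * q.natDegree ≤ s.count q * s.count q * q.natDegree :=
    fun q _ => Nat.mul_le_mul_right _ (Nat.le_mul_self _)
  have hiff : Squarefree Q ↔ Module.finrank ℚ (EndAV.End0 X) = 2 * g := by
    rw [UniqueFactorizationMonoid.squarefree_iff_nodup_normalizedFactors hQm.ne_zero, hn, ← hsum, eq_comm,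
      Finset.sum_eq_sum_iff_of_le hge]
    constructor
    · intro h q hq
      rw [Multiset.count_eq_one_of_mem h (Multiset.mem_toFinset.1 hq)]
    · intro h
      refine Multiset.nodup_iff_count_le_one.2 fun q => ?_
      by_cases hq : q ∈ s
      · have hp' := (UniqueFactorizationMonoid.irreducible_of_normalized_factor q hq).natDegree_pos
        have e := Nat.eq_of_mul_eq_mul_right hp' (h q (Multiset.mem_toFinset.2 hq))
        have hc := Multiset.count_pos.2 hq
        nlinarith [e]
      · rw [Multiset.count_eq_zero_of_notMem hq]; exact Nat.zero_le _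
  refine ⟨⟨fun hcomm => hiff.2 (le_antisymm ?_ (hn ▸ hsum.symm.trans_le (Finset.sum_le_sum hge))), fun hsf => ?_⟩, hiff⟩
  · have hc := H63.TateCor.center_eq Ω l X hl πX hπb hπle hπapp
    obtain ⟨P', hP'm, hP'd, -, hP'⟩ := H63.TateEnd.exists_charpoly Ω hg (EndAV.End.of πX)
    have h0 := H63.End0Basic.aeval_eq_zero Ω hg (EndAV.End.of πX) P' hP'
    have hPP : P' = P := Polynomial.map_injective _ (RingHom.injective_int _) ((hP' l hl).symm.trans hP)
    rw [hPP] at h0
    have h0' : Polynomial.aeval (EndAV.toEnd0 (EndAV.End.of πX)) Q = 0 := by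
      rw [hQ, ← algebraMap_int_eq, Polynomial.aeval_map_algebraMap, Polynomial.aeval_algHom_apply, h0, map_zero]
    have hle : (⊤ : Submodule ℚ (EndAV.End0 X)) ≤
        (Polynomial.degreeLT ℚ (2 * g)).map (Polynomial.aeval (EndAV.toEnd0 (EndAV.End.of πX))).toLinearMap := by
      intro x _
      have hx : x ∈ EndAV.QAdj (EndAV.End.of πX) := hc ▸ Subalgebra.mem_center_iff.2 fun y => by
        obtain ⟨N, φ, hN, hφ⟩ := H63.End0Basic.exists_smul_eq x
        obtain ⟨M, ψ, hM, hψ⟩ := H63.End0Basic.exists_smul_eq y
        have e := congrArg EndAV.toEnd0 (hcomm ψ φ)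
        simp only [map_mul, ← hφ, ← hψ, smul_mul_assoc, mul_smul_comm, smul_smul, mul_comm (N : ℚ) (M : ℚ)] at e
        exact smul_right_injective _ (mul_ne_zero (Int.cast_ne_zero.2 hM) (Int.cast_ne_zero.2 hN)) e
      obtain ⟨F, rfl⟩ := Algebra.adjoin_mem_exists_aeval ℚ _ hx
      refine ⟨F %ₘ Q, ?_, ?_⟩
      · rw [SetLike.mem_coe, Polynomial.mem_degreeLT]
        refine (Polynomial.degree_modByMonic_lt F hQm).trans_le ?_
        rw [Polynomial.degree_eq_natDegree hQm.ne_zero, hQ, hPm.natDegree_map, hd]
      · show Polynomial.aeval _ (F %ₘ Q) = _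
        conv_rhs => rw [← Polynomial.modByMonic_add_div F Q]
        rw [map_add, map_mul, h0', zero_mul, add_zero]
    have h4 := Submodule.finrank_mono (M := EndAV.End0 X) hle
    haveI : Module.Finite ℚ (Polynomial.degreeLT ℚ (2 * g)) :=
      Module.Finite.equiv (Polynomial.degreeLTEquiv ℚ (2 * g)).symm
    rw [finrank_top] at h4
    refine h4.trans ((Submodule.finrank_map_le _ _).trans (le_of_eq ?_))
    rw [(Polynomial.degreeLTEquiv ℚ (2 * g)).finrank_eq, Module.finrank_fin_fun]
  · refine H63.TateCor.comm_of_squarefree Ω l X hl πX hπb hπle hπapp ?_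
    rw [LinearMap.charpoly_baseChange, hP, Polynomial.map_map,
      RingHom.ext_int ((algebraMap ℤ_[l] ℚ_[l]).comp (Int.castRingHom ℤ_[l])) ((algebraMap ℚ ℚ_[l]).comp (Int.castRingHom ℚ)),
      ← Polynomial.map_map]
    exact ((PerfectField.separable_iff_squarefree.2 hsf).map).squarefree

end Groth.Agent.S16844
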