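import Groth.Statements.S16845
import Groth.Agent.H63.TateCor.Center
import Groth.Agent.S16843
import Mathlib.LinearAlgebra.Matrix.Charpoly.Basic
import Mathlib.RingTheory.IntegralClosure.IntegrallyClosed

set_option autoImplicit false
universe u
open CategoryTheory MonoidalCategory CartesianMonoidalCategory MonObj GrpObj AlgebraicGeometry
open AbVar

namespace Groth.Agent.S16845

/-- (a) ⇔ (b) ⇔ (c): let k be a finite field with q elements and algebraic closure Ω, ℓ a prime
invertible in k, and X an abelian variety over k (a proper, geometrically integral commutative group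
scheme over k) of dimension g, with geometric Frobenius π_X (the endomorphism that is the identity
on points and the q-th power map on sections); assume, as is the case, that the ℓ-adic Tate module
of Ω-points T_ℓ X is free of finite rank over ℤ_ℓ, and let f_X ∈ ℤ[t] be the polynomial mapping to
the characteristic polynomial of T_ℓ(π_X) (the characteristic polynomial of Frobenius). Then dim_ℚ
(ℚ ⊗ End_k(X)) = (2g)² if and only if ℚ[π_X] = ℚ, i.e. π_X ∈ End_k(X) is multiplication by some
rational integer n; and π_X = [n] for some integer n if and only if f_X = (t − a)^{2g} for some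
integer a. (The remaining equivalent conditions, involving the quaternion algebra ramified at p and
∞ and supersingular elliptic curves, are not restated.) -/
theorem result (k Ω : Type u) [Field k] [Finite k] [Field Ω] [Algebra k Ω] [IsAlgClosure k Ω]
    (l : ℕ) [Fact l.Prime] (hl : (l : k) ≠ 0) (X : Over (Spec (CommRingCat.of k)))
    [GrpObj X] [IsCommMonObj X] [IsProper X.hom] [GeometricallyIntegral X.hom]
    (g : ℕ) (hg : topologicalKrullDim X.left = g)
    (πX : X ⟶ X) [IsMonHom πX] (hπb : πX.left.base = 𝟙 _)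
    (hπle : ∀ U : X.left.Opens, U ≤ πX.left ⁻¹ᵁ U)
    (hπapp : ∀ (U : X.left.Opens) (s : Γ(X.left, U)), (πX.left.appLE U U (hπle U)).hom s = s ^ Nat.card k)
    [Module.Free ℤ_[l] (AbDual.TateMod X l (SGA7.pt Ω))] [Module.Finite ℤ_[l] (AbDual.TateMod X l (SGA7.pt Ω))]
    (P : Polynomial ℤ) (hP : (AbDual.tateMapₗ (l := l) (T := SGA7.pt Ω) πX).charpoly = P.map (Int.castRingHom ℤ_[l])) :
    (Module.finrank ℚ (EndAV.End0 X) = (2 * g) ^ 2 ↔ ∃ n : ℤ, EndAV.End.of πX = (n : EndAV.End X)) ∧
      ((∃ n : ℤ, EndAV.End.of πX = (n : EndAV.End X)) ↔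
        ∃ a : ℤ, P = (Polynomial.X - Polynomial.C a) ^ (2 * g)) := by
  classical
  haveI : IsAlgClosed Ω := IsAlgClosure.isAlgClosed k
  haveI : IsIntegral X.left := GeometricallyIntegral.isIntegral_of_subsingleton X.hom
  obtain ⟨-, -, h3⟩ := H63.HomLattice.tate_free_finite Ω X l hl hg
  haveI : Module.Free ℤ (EndAV.End X) := H63.End0Basic.moduleFree_finite.1
  haveI : Module.Finite ℤ (EndAV.End X) := H63.End0Basic.moduleFree_finite.2
  have hn : Module.finrank ℚ (EndAV.End0 X) = Module.finrank ℤ (EndAV.Hom X X) := Module.finrank_baseChange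
  rw [S16843.result k Ω l hl X X πX hπb hπle hπapp πX hπb hπle hπapp P hP P hP] at hn
  set Q := P.map (Int.castRingHom ℚ) with hQ
  set s := UniqueFactorizationMonoid.normalizedFactors Q with hs
  have hPm : P.Monic := by
    refine Polynomial.monic_of_injective (RingHom.injective_int (Int.castRingHom ℤ_[l])) ?_
    rw [← hP]
    exact LinearMap.charpoly_monic _
  have hQm : Q.Monic := hPm.map _
  have hd : P.natDegree = 2 * g := by
    rw [← Polynomial.natDegree_map_eq_of_injective (RingHom.injective_int (Int.castRingHom ℤ_[l])), ← hP,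
      LinearMap.charpoly_natDegree]
    exact h3
  have hsum : ∑ q ∈ s.toFinset, s.count q * q.natDegree = 2 * g := by
    have hp := UniqueFactorizationMonoid.prod_normalizedFactors_eq hQm.ne_zero
    rw [hQm.normalize_eq_self] at hp
    rw [← hd, ← hPm.natDegree_map (Int.castRingHom ℚ), ← hQ, ← hp, Polynomial.natDegree_multiset_prod _
      (UniqueFactorizationMonoid.zero_notMem_normalizedFactors _), Finset.sum_multiset_map_count]
    exact Finset.sum_congr rfl fun q _ => rfl
  -- (n) gives the polynomial
  have h12 : (∃ n : ℤ, EndAV.End.of πX = (n : EndAV.End X)) → ∃ a : ℤ, P = (Polynomial.X - Polynomial.C a) ^ (2 * g) := by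
    rintro ⟨n, hn'⟩
    refine ⟨n, Polynomial.map_injective _ (RingHom.injective_int (Int.castRingHom ℤ_[l])) ?_⟩
    rw [← hP, show AbDual.tateMapₗ (l := l) (T := SGA7.pt (K := k) Ω) πX =
      EndAV.End.tateRep l (SGA7.pt (K := k) Ω) (EndAV.End.of πX) from rfl, hn', map_intCast,
      ← LinearMap.charpoly_toMatrix _ (Module.finBasis ℤ_[l] _),
      show LinearMap.toMatrix (Module.finBasis ℤ_[l] (AbDual.TateMod X l (SGA7.pt (K := k) Ω)))
        (Module.finBasis ℤ_[l] (AbDual.TateMod X l (SGA7.pt (K := k) Ω))) (n : Module.End ℤ_[l] _) =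
          Matrix.diagonal fun _ => (n : ℤ_[l]) from
        (map_intCast (LinearMap.toMatrixAlgEquiv (Module.finBasis ℤ_[l] (AbDual.TateMod X l (SGA7.pt (K := k) Ω)))) n).trans
          (Matrix.diagonal_intCast n).symm,
      Matrix.charpoly_diagonal, Finset.prod_const, Finset.card_univ, Fintype.card_fin]
    simp [h3]
  have h23 : (∃ a : ℤ, P = (Polynomial.X - Polynomial.C a) ^ (2 * g)) → ∃ n : ℤ, EndAV.End.of πX = (n : EndAV.End X) := by
    rintro ⟨a, ha⟩
    refine ⟨a, H63.TateCor.rep_injective Ω l X hl ?_⟩
    rw [map_intCast, ← sub_eq_zero]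
    set L := H63.TateCor.rep Ω l X (EndAV.End.of πX) with hL
    have hss : Module.End.IsSemisimple L := S14943.result k Ω l hl X πX hπb hπle hπapp
    have he : L - (a : Module.End ℚ_[l] _) = Polynomial.aeval L (Polynomial.X - Polynomial.C (a : ℚ_[l])) := by
      simp
    refine Module.End.eq_zero_of_isNilpotent_isSemisimple ⟨2 * g, ?_⟩ (he ▸ hss.aeval _)
    have hch := LinearMap.aeval_self_charpoly L
    rw [show L.charpoly = (P.map (Int.castRingHom ℤ_[l])).map (algebraMap ℤ_[l] ℚ_[l]) from by
      rw [← hP]; exact LinearMap.charpoly_baseChange _ _, ha] at hch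
    rw [he, ← map_pow]
    simpa [Polynomial.map_pow, Polynomial.map_sub] using hch
  have h31 : (∃ a : ℤ, P = (Polynomial.X - Polynomial.C a) ^ (2 * g)) → Module.finrank ℚ (EndAV.End0 X) = (2 * g) ^ 2 := by
    rintro ⟨a, ha⟩
    have hirr : Irreducible (Polynomial.X - Polynomial.C (a : ℚ)) := Polynomial.irreducible_X_sub_C _
    have hs' : s = Multiset.replicate (2 * g) (Polynomial.X - Polynomial.C (a : ℚ)) := by
      rw [hs, show Q = (Polynomial.X - Polynomial.C (a : ℚ)) ^ (2 * g) by
        rw [hQ, ha, Polynomial.map_pow, Polynomial.map_sub, Polynomial.map_X, Polynomial.map_C]; rfl,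
        UniqueFactorizationMonoid.normalizedFactors_pow, UniqueFactorizationMonoid.normalizedFactors_irreducible hirr,
        (Polynomial.monic_X_sub_C (a : ℚ)).normalize_eq_self, Multiset.nsmul_singleton]
    rw [hn]
    rw [hs'] at hsum ⊢
    rcases Nat.eq_zero_or_pos (2 * g) with h0 | h0
    · simp [h0]
    · rw [Multiset.toFinset_replicate, if_neg h0.ne', Finset.sum_singleton, Multiset.count_replicate_self,
        Polynomial.natDegree_X_sub_C]
      ring
  have h13 : Module.finrank ℚ (EndAV.End0 X) = (2 * g) ^ 2 → ∃ a : ℤ, P = (Polynomial.X - Polynomial.C a) ^ (2 * g) := by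
    intro h
    rcases Nat.eq_zero_or_pos (2 * g) with h0 | h0
    · exact ⟨0, by rw [h0, pow_zero]; exact Polynomial.eq_one_of_monic_natDegree_zero hPm (hd.trans h0)⟩
    rw [hn, pow_two] at h
    nth_rw 1 [← hsum] at h
    rw [Finset.sum_mul] at h
    have hle : ∀ q ∈ s.toFinset, s.count q * q.natDegree ≤ 2 * g := fun q hq =>
      (Finset.single_le_sum (f := fun q => s.count q * q.natDegree) (fun _ _ => Nat.zero_le _) hq).trans hsum.le
    have hpos : ∀ q ∈ s.toFinset, 0 < q.natDegree := fun q hq =>
      (UniqueFactorizationMonoid.irreducible_of_normalized_factor q (Multiset.mem_toFinset.1 hq)).natDegree_pos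
    have hterm := (Finset.sum_eq_sum_iff_of_le fun q hq => by
      calc s.count q * s.count q * q.natDegree = s.count q * q.natDegree * s.count q := by ring
        _ ≤ s.count q * q.natDegree * (2 * g) :=
          Nat.mul_le_mul_left _ (le_trans (Nat.le_mul_of_pos_right _ (hpos q hq)) (hle q hq))).1 h
    obtain ⟨q, hq⟩ : s.toFinset.Nonempty := by
      by_contra hne
      rw [Finset.not_nonempty_iff_eq_empty.1 hne] at hsum
      simp at hsum
      omega
    have hcq : s.count q = 2 * g := by
      have e := hterm q hq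
      rw [mul_right_comm] at e
      exact Nat.eq_of_mul_eq_mul_left (Nat.mul_pos (Multiset.count_pos.2 (Multiset.mem_toFinset.1 hq)) (hpos q hq)) e
    have hdq : q.natDegree = 1 := by
      have e := hle q hq
      rw [hcq] at e
      have := hpos q hq
      nlinarith [e, h0, this]
    have hsq : s = Multiset.replicate (2 * g) q := by
      symm
      refine Multiset.eq_of_le_of_card_le (Multiset.le_count_iff_replicate_le.1 hcq.ge) ?_
      rw [Multiset.card_replicate, ← Multiset.toFinset_sum_count_eq, ← hsum]
      exact Finset.sum_le_sum fun q' hq' => Nat.le_mul_of_pos_right _ (hpos q' hq')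
    have hqm : q.Monic := by
      rw [← UniqueFactorizationMonoid.normalize_normalized_factor q (Multiset.mem_toFinset.1 hq)]
      exact Polynomial.monic_normalize (fun h => by simp [h] at hdq)
    have hp := UniqueFactorizationMonoid.prod_normalizedFactors_eq hQm.ne_zero
    rw [hQm.normalize_eq_self, ← hs, hsq, Multiset.prod_replicate, hqm.eq_X_add_C hdq] at hp
    obtain ⟨a, ha⟩ := IsIntegrallyClosed.isIntegral_iff.1 (show IsIntegral ℤ (-q.coeff 0) from
      ⟨P, hPm, by
        rw [← Polynomial.eval_map, algebraMap_int_eq, ← hQ, ← hp]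
        simp
        omega⟩)
    refine ⟨a, Polynomial.map_injective (Int.castRingHom ℚ) Int.cast_injective ?_⟩
    rw [← hQ, ← hp, Polynomial.map_pow, Polynomial.map_sub, Polynomial.map_X, Polynomial.map_C,
      show (Int.castRingHom ℚ) a = -q.coeff 0 from ha, map_neg, sub_neg_eq_add]
  exact ⟨⟨fun h => h23 (h13 h), fun h => h31 (h12 h)⟩, ⟨h12, h23⟩⟩

end Groth.Agent.S16845
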