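import Groth.Statements.S16849
import Groth.Agent.H63.FrobCount
import Groth.Agent.H63.SubsetProducts
import Groth.Agent.Lib.Zeta.Points
import Groth.Agent.Lib.Zeta.ZetaFun
import Mathlib.FieldTheory.Finite.Extension

set_option autoImplicit false
universe u
open CategoryTheory MonoidalCategory CartesianMonoidalCategory MonObj GrpObj AlgebraicGeometry
open AbVar

namespace Groth.Agent.S16849

/-- Let k be a finite field with q elements and algebraic closure Ω, ℓ a prime invertible in k, and X an
abelian variety over k (a proper, geometrically integral commutative group scheme over k) of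
dimension g, with geometric Frobenius π_X (the endomorphism that is the identity on points and the
q-th power map on sections); assume, as is the case, that the ℓ-adic Tate module of Ω-points T_ℓ X
is free of finite rank over ℤ_ℓ, and let f_X ∈ ℤ[t] be the polynomial mapping to the characteristic
polynomial of T_ℓ(π_X) (the characteristic polynomial of Frobenius). Let α_1, …, α_{2g} be the
complex roots of f_X with multiplicity and, for 0 ≤ j ≤ 2g, P_j(t) = ∏_I (1 − α_I t), the product
over the j-element sub-multisets I of the roots, α_I = ∏_{i ∈ I} α_i (so P_j is the reciprocal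
characteristic polynomial of the j-th exterior power of V_ℓ(π_X)). Then every P_j has integer
coefficients, and the zeta function Z(X; t) = exp(Σ_{m ≥ 1} N_m t^m / m) (N_m the number of points
of X in a degree-m extension of k, counted through closed points) satisfies Z(X; t) · ∏_{j even}
P_j(t) = ∏_{j odd} P_j(t) in ℂ⟦t⟧, i.e. Z(X; t) = P_1 P_3 ⋯ P_{2g−1} / (P_0 P_2 ⋯ P_{2g}). -/
theorem result (k Ω : Type u) [Field k] [Finite k] [Field Ω] [Algebra k Ω] [IsAlgClosure k Ω]
    (l : ℕ) [Fact l.Prime] (hl : (l : k) ≠ 0) (X : Over (Spec (CommRingCat.of k)))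
    [GrpObj X] [IsCommMonObj X] [IsProper X.hom] [GeometricallyIntegral X.hom]
    (πX : X ⟶ X) [IsMonHom πX] (hπb : πX.left.base = 𝟙 _)
    (hπle : ∀ U : X.left.Opens, U ≤ πX.left ⁻¹ᵁ U)
    (hπapp : ∀ (U : X.left.Opens) (s : Γ(X.left, U)), (πX.left.appLE U U (hπle U)).hom s = s ^ Nat.card k)
    [Module.Free ℤ_[l] (AbDual.TateMod X l (SGA7.pt Ω))] [Module.Finite ℤ_[l] (AbDual.TateMod X l (SGA7.pt Ω))]
    (P : Polynomial ℤ) (hP : (AbDual.tateMapₗ (l := l) (T := SGA7.pt Ω) πX).charpoly = P.map (Int.castRingHom ℤ_[l])) :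
    (∀ j : ℕ, ∃ Q : Polynomial ℤ, Q.map (Int.castRingHom ℂ) = (((P.map (Int.castRingHom ℂ)).roots.powersetCard j).map
          (fun I => (1 : Polynomial ℂ) - Polynomial.C I.prod * Polynomial.X)).prod) ∧
      (Zeta.zetaFun X.hom).map (algebraMap ℚ ℂ) *
          ∏ j ∈ (Finset.range (P.natDegree + 1)).filter (fun j => Even j),
            (((((P.map (Int.castRingHom ℂ)).roots.powersetCard j).map
          (fun I => (1 : Polynomial ℂ) - Polynomial.C I.prod * Polynomial.X)).prod : Polynomial ℂ) : PowerSeries ℂ) =
        ∏ j ∈ (Finset.range (P.natDegree + 1)).filter (fun j => Odd j),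
          (((((P.map (Int.castRingHom ℂ)).roots.powersetCard j).map
          (fun I => (1 : Polynomial ℂ) - Polynomial.C I.prod * Polynomial.X)).prod : Polynomial ℂ) : PowerSeries ℂ) := by
  haveI : IsAlgClosed Ω := IsAlgClosure.isAlgClosed k
  haveI : IsIntegral X.left := GeometricallyIntegral.isIntegral_of_subsingleton X.hom
  obtain ⟨g, hg⟩ := H63.AVIsogeny.exists_dim (A := X)
  obtain ⟨hm, hd, hv⟩ := H63.FrobRoots.eq_charpoly πX hg hl P hP
  refine ⟨fun j => H63.SubsetProducts.exists_int_poly P hm j, ?_⟩
  set R := (P.map (Int.castRingHom ℂ)).roots with hR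
  have hcard : Multiset.card R = 2 * g := by
    rw [hR, ← (IsAlgClosed.splits (P.map (Int.castRingHom ℂ))).natDegree_eq_card_roots, hm.natDegree_map, hd]
  rw [hd]
  set rj := Finset.range (2 * g + 1)
  -- the number of points
  have hN : ∀ m : ℕ, m ≠ 0 → (Zeta.nPts X.hom m : ℂ) = (R.map fun a => 1 - a ^ m).prod := by
    intro m hm0
    haveI : NeZero m := ⟨hm0⟩
    obtain ⟨p, hp⟩ := CharP.exists k
    haveI : Fact p.Prime := ⟨(CharP.char_is_prime_or_zero k p).resolve_right fun h0 => by
      subst h0
      haveI := CharP.charP_to_charZero k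
      exact not_finite k⟩
    let K := ULift.{u} (FiniteField.Extension k p m)
    have hK : Module.finrank k K = m := by
      rw [LinearEquiv.finrank_eq (ULift.moduleEquiv : K ≃ₗ[k] FiniteField.Extension k p m),
        FiniteField.finrank_extension]
    have h1 := Lib.Zeta.Points.pointCount_eq_nPts X.hom K
    rw [hK] at h1
    rw [← h1]
    have h2 : SgaExt.pointCount X.hom K =
        Nat.card (Over.mk (Spec.map (CommRingCat.ofHom (algebraMap k K))) ⟶ X) :=
      Nat.card_congr { toFun := fun t => Over.homMk t.1 t.2, invFun := fun t => ⟨t.left, Over.w t⟩,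
                       left_inv := fun _ => rfl, right_inv := fun _ => rfl }
    rw [h2, H63.FrobCount.natCard_eq πX hπle hπapp hg hπb P hm hd hv K, hK,
      show (fun a : ℂ => 1 - a ^ m) = fun a => -1 * (a ^ m - 1) from funext fun a => by ring,
      Multiset.prod_map_mul, Multiset.map_const', Multiset.prod_replicate, hcard, pow_mul, neg_one_sq, one_pow,
      _root_.one_mul]
  let G : ℕ → PowerSeries ℂ := fun j => ((R.powersetCard j).map fun I => Lib.Zeta.ExpSeries.geomLog I.prod 1).sum
  have hG0 : ∀ j, PowerSeries.constantCoeff (G j) = 0 := fun j => by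
    rw [map_multiset_sum]
    exact Multiset.sum_eq_zero fun x hx => by
      simp only [Multiset.map_map, Multiset.mem_map, Function.comp_apply] at hx
      obtain ⟨I, -, rfl⟩ := hx
      exact Lib.Zeta.ExpSeries.constantCoeff_geomLog _ _
  have hlog : (Zeta.logZeta X.hom).map (algebraMap ℚ ℂ) + ∑ j ∈ rj.filter (fun j => Odd j), G j =
      ∑ j ∈ rj.filter (fun j => Even j), G j := by
    refine PowerSeries.ext fun m => ?_
    have hc : ∀ j, PowerSeries.coeff m (G j) =
        ((R.powersetCard j).map fun I => (1 / (m : ℂ)) * I.prod ^ m).sum := fun j => by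
      rw [map_multiset_sum, Multiset.map_map]
      refine congrArg _ (Multiset.map_congr rfl fun I _ => ?_)
      simp [Lib.Zeta.ExpSeries.geomLog]
    rw [map_add, PowerSeries.coeff_map, Zeta.logZeta, PowerSeries.coeff_mk, map_sum, map_sum,
      map_div₀, map_natCast, map_natCast]
    rcases eq_or_ne m 0 with rfl | hm0
    · simp [hc, Zeta.nPts]
    simp only [hc, Multiset.sum_map_mul_left]
    rw [← Finset.mul_sum, ← Finset.mul_sum, hN m hm0, H63.SubsetProducts.prod_one_sub_pow,
      H63.SubsetProducts.powerset_eq_sum, hcard, ← Finset.sum_filter_add_sum_filter_not rj (fun j => Even j),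
      show rj.filter (fun j => ¬ Even j) = rj.filter (fun j => Odd j) from
        Finset.filter_congr fun j _ => Nat.not_even_iff_odd]
    have he : ∀ j, Even j → ((R.powersetCard j).map fun I => (-1 : ℂ) ^ Multiset.card I * I.prod ^ m).sum =
        ((R.powersetCard j).map fun I => I.prod ^ m).sum := fun j hj => congrArg _ (Multiset.map_congr rfl fun I hI => by
      rw [(Multiset.mem_powersetCard.1 hI).2, hj.neg_one_pow, _root_.one_mul])
    have ho : ∀ j, Odd j → ((R.powersetCard j).map fun I => (-1 : ℂ) ^ Multiset.card I * I.prod ^ m).sum =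
        -((R.powersetCard j).map fun I => I.prod ^ m).sum := fun j hj => by
      rw [← Multiset.sum_map_neg', Multiset.map_map]
      exact congrArg _ (Multiset.map_congr rfl fun I hI => by
        rw [Function.comp_apply, (Multiset.mem_powersetCard.1 hI).2, hj.neg_one_pow, neg_one_mul])
    rw [Finset.sum_congr rfl (fun j hj => he j (Finset.mem_filter.1 hj).2),
      Finset.sum_congr rfl (fun j hj => ho j (Finset.mem_filter.1 hj).2), Finset.sum_neg_distrib]
    ring
  have hexp : ∀ s : Finset ℕ, Lib.Zeta.ExpSeries.expS (∑ j ∈ s, G j) *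
      ∏ j ∈ s, ((H63.SubsetProducts.subsetPoly R j : Polynomial ℂ) : PowerSeries ℂ) = 1 := fun s => by
    rw [Lib.Zeta.ExpSeries.expS_sum s G fun j _ => hG0 j, ← Finset.prod_mul_distrib]
    exact Finset.prod_eq_one fun j _ => H63.SubsetProducts.expS_mul_prod _
  have hz := congrArg Lib.Zeta.ExpSeries.expS hlog
  have hz0 : PowerSeries.constantCoeff ((Zeta.logZeta X.hom).map (algebraMap ℚ ℂ)) = 0 := by
    rw [← PowerSeries.coeff_zero_eq_constantCoeff_apply, PowerSeries.coeff_map]
    simp [Zeta.logZeta]
  rw [Lib.Zeta.ExpSeries.expS_add hz0 (by rw [map_sum]; exact Finset.sum_eq_zero fun j _ => hG0 j),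
    ← Lib.Zeta.ExpSeries.map_expS _ (Lib.Zeta.ZetaFun.constantCoeff_logZeta X.hom),
    ← Lib.Zeta.ZetaFun.zetaFun_eq] at hz
  show _ * ∏ j ∈ rj.filter (fun j => Even j), ((H63.SubsetProducts.subsetPoly R j : Polynomial ℂ) : PowerSeries ℂ) =
    ∏ j ∈ rj.filter (fun j => Odd j), ((H63.SubsetProducts.subsetPoly R j : Polynomial ℂ) : PowerSeries ℂ)
  have he := hexp (rj.filter (fun j => Even j))
  rw [← hz] at he
  linear_combination
    (∏ j ∈ rj.filter (fun j => Odd j), ((H63.SubsetProducts.subsetPoly R j : Polynomial ℂ) : PowerSeries ℂ)) * he -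
    ((Zeta.zetaFun X.hom).map (algebraMap ℚ ℂ) *
      ∏ j ∈ rj.filter (fun j => Even j), ((H63.SubsetProducts.subsetPoly R j : Polynomial ℂ) : PowerSeries ℂ)) *
      hexp (rj.filter (fun j => Odd j))

end Groth.Agent.S16849
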