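import Groth.Statements.S16850
import Groth.Agent.H63.FrobRoots

set_option autoImplicit false
universe u
open CategoryTheory MonoidalCategory CartesianMonoidalCategory MonObj GrpObj AlgebraicGeometry
open AbVar

namespace Groth.Agent.S16850

/-- Let k be a finite field with q elements and algebraic closure Ω, ℓ a prime invertible in k, and X an
abelian variety over k (a proper, geometrically integral commutative group scheme over k) of
dimension g, with geometric Frobenius π_X (the endomorphism that is the identity on points and the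
q-th power map on sections); assume, as is the case, that the ℓ-adic Tate module of Ω-points T_ℓ X
is free of finite rank over ℤ_ℓ, and let f_X ∈ ℤ[t] be the polynomial mapping to the characteristic
polynomial of T_ℓ(π_X) (the characteristic polynomial of Frobenius). With P_j(t) = ∏_I (1 − α_I t)
over the j-element sub-multisets I of the complex roots of f_X (α_I their product), the zeta
function of X is the rational function Z(X; t) = ∏_{j=0}^{2g} P_j(t)^{(−1)^{j+1}}, and for g ≥ 1 it
satisfies the functional equation Z(X; 1/(q^g t)) = Z(X; t). (The dimension-zero case must be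
excluded: for X a point, Z(X; t) = 1/(1 − t) and Z(X; 1/t) = t/(t − 1) differ; the published
statement has no such restriction, and its proof uses Σ_j (−1)^{j+1} C(2g, j) = 0, valid only for g
≥ 1.) Stated pointwise: for every non-zero complex number t such that no P_j vanishes at t or at
1/(q^g t), ∏_j P_j(1/(q^g t))^{(−1)^{j+1}} = ∏_j P_j(t)^{(−1)^{j+1}}. -/
theorem result (k Ω : Type u) [Field k] [Finite k] [Field Ω] [Algebra k Ω] [IsAlgClosure k Ω]
    (l : ℕ) [Fact l.Prime] (hl : (l : k) ≠ 0) (X : Over (Spec (CommRingCat.of k)))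
    [GrpObj X] [IsCommMonObj X] [IsProper X.hom] [GeometricallyIntegral X.hom]
    (g : ℕ) (hg : topologicalKrullDim X.left = g) (hg1 : 1 ≤ g)
    (πX : X ⟶ X) [IsMonHom πX] (hπb : πX.left.base = 𝟙 _)
    (hπle : ∀ U : X.left.Opens, U ≤ πX.left ⁻¹ᵁ U)
    (hπapp : ∀ (U : X.left.Opens) (s : Γ(X.left, U)), (πX.left.appLE U U (hπle U)).hom s = s ^ Nat.card k)
    [Module.Free ℤ_[l] (AbDual.TateMod X l (SGA7.pt Ω))] [Module.Finite ℤ_[l] (AbDual.TateMod X l (SGA7.pt Ω))]
    (P : Polynomial ℤ) (hP : (AbDual.tateMapₗ (l := l) (T := SGA7.pt Ω) πX).charpoly = P.map (Int.castRingHom ℤ_[l]))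
    (t : ℂ) (ht : t ≠ 0)
    (hPt : ∀ j ∈ Finset.range (2 * g + 1), Polynomial.eval t ((((P.map (Int.castRingHom ℂ)).roots.powersetCard j).map
          (fun I => (1 : Polynomial ℂ) - Polynomial.C I.prod * Polynomial.X)).prod : Polynomial ℂ) ≠ 0)
    (hPs : ∀ j ∈ Finset.range (2 * g + 1), Polynomial.eval (((Nat.card k : ℂ) ^ g * t)⁻¹) ((((P.map (Int.castRingHom ℂ)).roots.powersetCard j).map
          (fun I => (1 : Polynomial ℂ) - Polynomial.C I.prod * Polynomial.X)).prod : Polynomial ℂ) ≠ 0) :
    ∏ j ∈ Finset.range (2 * g + 1), (Polynomial.eval (((Nat.card k : ℂ) ^ g * t)⁻¹) ((((P.map (Int.castRingHom ℂ)).roots.powersetCard j).map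
          (fun I => (1 : Polynomial ℂ) - Polynomial.C I.prod * Polynomial.X)).prod : Polynomial ℂ)) ^ ((-1 : ℤ) ^ (j + 1)) =
      ∏ j ∈ Finset.range (2 * g + 1), (Polynomial.eval t ((((P.map (Int.castRingHom ℂ)).roots.powersetCard j).map
          (fun I => (1 : Polynomial ℂ) - Polynomial.C I.prod * Polynomial.X)).prod : Polynomial ℂ)) ^ ((-1 : ℤ) ^ (j + 1)) := by
  classical
  haveI : IsAlgClosed Ω := IsAlgClosure.isAlgClosed k
  have hq : 0 < Nat.card k := Nat.card_pos
  obtain ⟨hm, hcard, -, hprod, -, -, -⟩ :=
    H63.FrobRoots.basic πX hl (Nat.card k) hπb hπle hπapp hg P hP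
  set R := (P.map (Int.castRingHom ℂ)).roots with hR
  set q : ℂ := (Nat.card k : ℂ) ^ g with hqdef
  have hq0 : q ≠ 0 := pow_ne_zero _ (Nat.cast_ne_zero.2 hq.ne')
  let F : ℕ → ℂ → ℂ := fun j x => ((R.powersetCard j).map fun I => 1 - I.prod * x).prod
  have hF : ∀ j x, Polynomial.eval x (((R.powersetCard j).map
      (fun I => (1 : Polynomial ℂ) - Polynomial.C I.prod * Polynomial.X)).prod : Polynomial ℂ) = F j x := fun j x => by
    rw [Polynomial.eval_multiset_prod, Multiset.map_map]
    exact congrArg _ (Multiset.map_congr rfl fun I _ => by simp)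
  simp only [hF] at hPt hPs ⊢
  have hbig : ∀ j, j ≤ 2 * g → (R.powersetCard j).map (R - ·) = R.powersetCard (2 * g - j) := fun j hj => by
    have hdiag : (R.antidiagonal.map fun p => p.2) = R.powerset.map (R - ·) := by
      conv_rhs => rw [← Multiset.antidiagonal_map_fst, Multiset.map_map]
      exact Multiset.map_congr rfl fun p hp => by
        rw [Function.comp_apply, ← Multiset.mem_antidiagonal.1 hp, add_tsub_cancel_left]
    rw [Multiset.antidiagonal_map_snd] at hdiag
    have hfilt : ∀ (S : Multiset ℂ) (n : ℕ), S.powerset.filter (fun I => Multiset.card I = n) = S.powersetCard n := by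
      intro S
      induction S using Multiset.induction_on with
      | empty => intro n; cases n <;> simp [Multiset.filter_singleton]
      | cons a S ih =>
        intro n
        rw [Multiset.powerset_cons, Multiset.filter_add, Multiset.filter_map]
        simp only [Function.comp_def, Multiset.card_cons]
        cases n with
        | zero =>
          have h0 := ih 0
          simp at h0
          simp [h0]
        | succ n => simp [ih]
    rw [← hfilt, ← hfilt]
    conv_rhs => rw [hdiag, Multiset.filter_map]
    refine congrArg _ (Multiset.filter_congr fun I hI => ?_)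
    have hIle := Multiset.mem_powerset.1 hI
    have := Multiset.card_le_card hIle
    rw [Function.comp_apply, Multiset.card_sub hIle, hcard]
    omega
  have hterm : ∀ j, j ≤ 2 * g → F j ((q * t)⁻¹) =
      ((R.powersetCard (2 * g - j)).map fun K => -(K.prod * t)⁻¹).prod * F (2 * g - j) t := by
    intro j hj
    simp only [F]
    rw [← Multiset.prod_map_mul, ← hbig j hj, Multiset.map_map]
    refine congrArg _ (Multiset.map_congr rfl fun I hI => ?_)
    have hIle := (Multiset.mem_powersetCard.1 hI).1
    have e : I.prod * (R - I).prod = q := by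
      rw [← Multiset.prod_add, add_tsub_cancel_of_le hIle, hprod]
    have h1 : (R - I).prod ≠ 0 := fun h => hq0 (by rw [← e, h, mul_zero])
    rw [Function.comp_apply, ← e]
    have h2 : I.prod ≠ 0 := fun h => hq0 (by rw [← e, h, zero_mul])
    field_simp
    ring
  have hprodK : ∀ j, j ≤ 2 * g → ((R.powersetCard j).map Multiset.prod).prod = q ^ (2 * g - 1).choose (j - 1) ∨ j = 0 := by
    intro j hj
    rcases Nat.eq_zero_or_pos j with h | h
    · exact Or.inr h
    refine Or.inl ?_
    obtain ⟨i, rfl⟩ : ∃ i, j = i + 1 := ⟨j - 1, by omega⟩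
    have key : ∀ (S : Multiset ℂ) (i : ℕ), ((S.powersetCard (i + 1)).map Multiset.prod).prod =
        S.prod ^ (Multiset.card S - 1).choose i := by
      intro S
      induction S using Multiset.induction_on with
      | empty => intro i; simp
      | cons a S ih =>
        intro i
        rw [Multiset.powersetCard_cons, Multiset.map_add, Multiset.prod_add, Multiset.map_map, ih i]
        rw [show (Multiset.prod ∘ Multiset.cons a) = fun I : Multiset ℂ => a * I.prod from
          funext fun I => Multiset.prod_cons a I, Multiset.prod_map_mul, Multiset.map_const', Multiset.prod_replicate,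
          Multiset.card_powersetCard, Multiset.card_cons, Nat.add_sub_cancel, Multiset.prod_cons, mul_pow]
        cases i with
        | zero => simp [Nat.choose_zero_right, mul_comm]
        | succ i =>
          rw [ih i]
          rcases Multiset.empty_or_exists_mem S with h0 | ⟨b, hb⟩
          · simp [h0]
          · obtain ⟨n, hn⟩ : ∃ n, Multiset.card S = n + 1 :=
              ⟨Multiset.card S - 1, by have := Multiset.card_pos_iff_exists_mem.2 ⟨b, hb⟩; omega⟩
            rw [hn, Nat.add_sub_cancel, Nat.choose_succ_succ' n i, pow_add, pow_add]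
            ring
    rw [key R i, hcard, hprod, Nat.add_sub_cancel]
  -- the extra factor has alternating product one
  have hfac : ∏ j ∈ Finset.range (2 * g + 1),
      (((R.powersetCard j).map fun K => -(K.prod * t)⁻¹).prod) ^ ((-1 : ℤ) ^ (j + 1)) = 1 := by
    obtain ⟨w, hw⟩ : ∃ w, 2 * g = w + 1 := ⟨2 * g - 1, by omega⟩
    have e1 : ∀ j, j ≤ w + 1 → ((R.powersetCard j).map fun K => -(K.prod * t)⁻¹).prod =
        (-t⁻¹) ^ (((w + 1).choose j : ℕ) : ℤ) * (q⁻¹) ^ ((if j = 0 then 0 else w.choose (j - 1) : ℕ) : ℤ) := by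
      intro j hj
      rw [show (fun K : Multiset ℂ => -(K.prod * t)⁻¹) = fun K => (-t⁻¹) * (K.prod)⁻¹ from
        funext fun K => by rw [_root_.mul_inv]; ring, Multiset.prod_map_mul, Multiset.map_const', Multiset.prod_replicate,
        Multiset.card_powersetCard, hcard, hw, zpow_natCast, zpow_natCast]
      congr 1
      rw [Multiset.prod_map_inv]
      rcases hprodK j (by omega) with h | h
      · rcases Nat.eq_zero_or_pos j with h0 | h0
        · subst h0; simp
        · rw [h, if_neg h0.ne', inv_pow, hw, Nat.add_sub_cancel]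
      · subst h; simp
    rw [hw, Finset.prod_congr rfl (fun j hj => by
      rw [e1 j (by rw [Finset.mem_range] at hj; omega), mul_zpow, ← zpow_mul, ← zpow_mul])]
    have hpow : ∀ (x : ℂ), x ≠ 0 → ∀ (e : ℕ → ℤ) (s : Finset ℕ), ∏ j ∈ s, x ^ e j = x ^ ∑ j ∈ s, e j := by
      intro x hx e s
      induction s using Finset.cons_induction with
      | empty => simp
      | cons a s ha ih => rw [Finset.prod_cons, Finset.sum_cons, ih, zpow_add₀ hx]
    rw [Finset.prod_mul_distrib, hpow (-t⁻¹) (neg_ne_zero.2 (inv_ne_zero ht)), hpow q⁻¹ (inv_ne_zero hq0)]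
    have s1 : (∑ j ∈ Finset.range (w + 1 + 1), (((w + 1).choose j : ℕ) : ℤ) * (-1) ^ (j + 1)) = 0 := by
      have h := Int.alternating_sum_range_choose_of_ne (n := w + 1) (by omega)
      rw [show (fun j : ℕ => (((w + 1).choose j : ℕ) : ℤ) * (-1) ^ (j + 1)) = fun j => -((-1) ^ j * ((w + 1).choose j : ℤ)) from
        funext fun j => by rw [pow_succ]; ring, Finset.sum_neg_distrib, h, neg_zero]
    have s2 : (∑ j ∈ Finset.range (w + 1 + 1), ((if j = 0 then 0 else w.choose (j - 1) : ℕ) : ℤ) * (-1) ^ (j + 1)) = 0 := by
      rw [Finset.sum_range_succ']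
      simp only [Nat.succ_ne_zero, if_false, Nat.add_sub_cancel, if_true, Nat.cast_zero, zero_mul, add_zero]
      have h := Int.alternating_sum_range_choose_of_ne (n := w) (by omega)
      rw [← h]
      exact Finset.sum_congr rfl fun j _ => by rw [pow_succ, pow_succ]; ring
    rw [s1, s2, zpow_zero, zpow_zero, _root_.one_mul]
  have hflip : ∀ (f : ℕ → ℂ), ∏ j ∈ Finset.range (2 * g + 1), f (2 * g - j) ^ ((-1 : ℤ) ^ (j + 1)) =
      ∏ j ∈ Finset.range (2 * g + 1), f j ^ ((-1 : ℤ) ^ (j + 1)) := fun f => by
    rw [← Finset.prod_range_reflect (fun j => f j ^ ((-1 : ℤ) ^ (j + 1))) (2 * g + 1)]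
    refine Finset.prod_congr rfl fun j hj => ?_
    rw [Finset.mem_range] at hj
    rw [show 2 * g + 1 - 1 - j = 2 * g - j by omega]
    congr 1
    have h2 : (2 * g - j + 1) % 2 = (j + 1) % 2 := by omega
    rw [neg_one_pow_eq_pow_mod_two (R := ℤ) (2 * g - j + 1), h2, ← neg_one_pow_eq_pow_mod_two]
  rw [Finset.prod_congr rfl (fun j hj => by
    rw [hterm j (by rw [Finset.mem_range] at hj; omega), mul_zpow]), Finset.prod_mul_distrib,
    hflip (fun j => ((R.powersetCard j).map fun K => -(K.prod * t)⁻¹).prod), hfac, _root_.one_mul]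
  exact hflip (fun j => F j t)

end Groth.Agent.S16850
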