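import Groth.Statements.S16852
import Groth.Agent.S14936
import Groth.Agent.S16840
import Groth.Agent.S16838
import Groth.Agent.H63.TateCor.Recover
import Groth.Agent.H63.TateEnd
import Groth.Agent.H63.Tate.FrobGal
import Mathlib.FieldTheory.Finite.Extension
import Groth.Agent.S16842
import Groth.Agent.Lib.Zeta.Points
import Groth.Agent.Lib.Zeta.ZetaFun

set_option autoImplicit false
universe u
open CategoryTheory MonoidalCategory CartesianMonoidalCategory MonObj GrpObj AlgebraicGeometry
open AbVar

namespace Groth.Agent.S16852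

/-- (a) ⇔ (e1): fix a finite field k and abelian varieties X and Y over it (proper, geometrically
integral commutative group schemes over k). Then X and Y are isogenous over k — there exist
homomorphisms u : X → Y and v : Y → X and an integer n > 0 with v ∘ u = [n]_X and u ∘ v = [n]_Y — if
and only if their zeta functions coincide: Z(X; t) = Z(Y; t) in ℚ⟦t⟧, where Z(X; t) = exp(Σ_{m ≥ 1}
N_m t^m / m) with N_m = Σ_{e ∣ m} e · #(closed points of X of residue degree e). -/
theorem result (k : Type u) [Field k] [Finite k]
    (X : Over (Spec (CommRingCat.of k)))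
    [GrpObj X] [IsCommMonObj X] [IsProper X.hom] [GeometricallyIntegral X.hom]
    (Y : Over (Spec (CommRingCat.of k)))
    [GrpObj Y] [IsCommMonObj Y] [IsProper Y.hom] [GeometricallyIntegral Y.hom] :
    (∃ (u : X ⟶ Y) (_ : IsMonHom u) (v : Y ⟶ X) (_ : IsMonHom v) (n : ℕ), 0 < n ∧
        u ≫ v = (𝟙 X) ^ n ∧ v ≫ u = (𝟙 Y) ^ n) ↔
      Zeta.zetaFun X.hom = Zeta.zetaFun Y.hom := by
  refine (S16842.result k X Y).trans ?_
  have hcard : ∀ (Z : Over (Spec (CommRingCat.of k))) [IsProper Z.hom] (K : Type u) [Field K] [Algebra k K] [Finite K],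
      Nat.card (Over.mk (Spec.map (CommRingCat.ofHom (algebraMap k K))) ⟶ Z) = Zeta.nPts Z.hom (Module.finrank k K) := by
    intro Z _ K _ _ _
    haveI : QuasiCompact Z.hom := inferInstance
    rw [← Lib.Zeta.Points.pointCount_eq_nPts Z.hom K]
    exact (Nat.card_congr { toFun := fun t => Over.homMk t.1 t.2, invFun := fun t => ⟨t.left, Over.w t⟩,
                            left_inv := fun _ => rfl, right_inv := fun _ => rfl }).symm
  constructor
  · intro h
    have hlog : Zeta.logZeta X.hom = Zeta.logZeta Y.hom := by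
      refine PowerSeries.ext fun m => ?_
      rcases Nat.eq_zero_or_pos m with rfl | hm
      · simp [Zeta.logZeta]
      haveI : NeZero m := ⟨by omega⟩
      obtain ⟨p, hp⟩ := CharP.exists k
      haveI : Fact p.Prime := ⟨(CharP.char_is_prime_or_zero k p).resolve_right fun h0 => by
        subst h0
        haveI := CharP.charP_to_charZero k
        exact not_finite k⟩
      let K := ULift.{u} (FiniteField.Extension k p m)
      have hK : Module.finrank k K = m := by
        rw [LinearEquiv.finrank_eq (ULift.moduleEquiv : K ≃ₗ[k] FiniteField.Extension k p m),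
          FiniteField.finrank_extension]
      have e := h K
      rw [hcard X K, hcard Y K, hK] at e
      simp [Zeta.logZeta, e]
    rw [Lib.Zeta.ZetaFun.zetaFun_eq, Lib.Zeta.ZetaFun.zetaFun_eq, hlog]
  · intro h K _ _ _
    have hX0 := Lib.Zeta.ZetaFun.constantCoeff_logZeta X.hom
    have hY0 := Lib.Zeta.ZetaFun.constantCoeff_logZeta Y.hom
    rw [Lib.Zeta.ZetaFun.zetaFun_eq, Lib.Zeta.ZetaFun.zetaFun_eq] at h
    have hu : IsUnit (Lib.Zeta.ExpSeries.expS (Zeta.logZeta Y.hom)) := by
      rw [PowerSeries.isUnit_iff_constantCoeff, Lib.Zeta.ExpSeries.constantCoeff_expS hY0]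
      exact isUnit_one
    have hd := congrArg (PowerSeries.derivative ℚ) h
    rw [Lib.Zeta.ExpSeries.derivative_expS hX0, Lib.Zeta.ExpSeries.derivative_expS hY0, h] at hd
    have hlog : Zeta.logZeta X.hom = Zeta.logZeta Y.hom :=
      PowerSeries.derivative.ext (hu.mul_right_cancel hd) (hX0.trans hY0.symm)
    have hpos : 0 < Module.finrank k K := Module.finrank_pos
    have e := congrArg (PowerSeries.coeff (Module.finrank k K)) hlog
    simp only [Zeta.logZeta, PowerSeries.coeff_mk] at e
    rw [hcard X K, hcard Y K]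
    have hne : ((Module.finrank k K : ℕ) : ℚ) ≠ 0 := Nat.cast_ne_zero.2 hpos.ne'
    field_simp at e
    exact_mod_cast e

end Groth.Agent.S16852
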