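import Groth.Statements.S16853
import Mathlib.FieldTheory.IsAlgClosed.Basic
import Mathlib.FieldTheory.Perfect
import Mathlib.LinearAlgebra.Dimension.Finite
import Mathlib.RingTheory.Finiteness.Cardinality

set_option autoImplicit false
universe u v
open CAlg

namespace Groth.Agent.S16853

open Polynomial in
lemma exists_fixed {k : Type u} [Field k] [IsAlgClosed k] (p ν : ℕ) [Fact p.Prime] [CharP k p] (hν : 1 ≤ ν)
    {V : Type v} [AddCommGroup V] [Module k V] [FiniteDimensional k V] [Nontrivial V]
    (φ : V →+ V) (hφ : ∀ (a : k) (v : V), φ (a • v) = a ^ (p ^ ν) • φ v) (hinj : Function.Injective φ) :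
    ∃ x, x ≠ 0 ∧ φ x = x := by
  classical
  let q := p ^ ν
  have hq : 1 < q := Nat.one_lt_pow (by omega) (Fact.out : p.Prime).one_lt
  obtain ⟨v, hv⟩ := exists_ne (0 : V)
  let u : ℕ → V := fun i => φ^[i] v
  let S : ℕ → Submodule k V := fun r => Submodule.span k (u '' Set.Iio r)
  have hex : ∃ r, u r ∈ S r := by
    by_contra hno
    push Not at hno
    have hmono : StrictMono S := strictMono_nat_of_lt_succ fun r => by
      refine lt_of_le_of_ne (Submodule.span_mono (Set.image_mono (Set.Iio_subset_Iio (by omega)))) fun e => hno r ?_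
      rw [e]; exact Submodule.subset_span ⟨r, Set.mem_Iio.2 (by omega), rfl⟩
    have : ∀ r, r ≤ Module.finrank k (S r) := by
      intro r
      induction r with
      | zero => omega
      | succ r ih => have := Submodule.finrank_lt_finrank_of_lt (hmono (show r < r + 1 by omega)); omega
    have h1 := this (Module.finrank k V + 1)
    have h2 := Submodule.finrank_le (S (Module.finrank k V + 1))
    omega
  have hr := Nat.find_spec hex
  have hmin : ∀ i < Nat.find hex, u i ∉ S i := fun i hi => Nat.find_min hex hi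
  generalize Nat.find hex = r at hr hmin
  obtain ⟨n, rfl⟩ : ∃ n, r = n + 1 := Nat.exists_eq_succ_of_ne_zero (by
    rintro rfl
    simp [S, u] at hr
    exact hv hr)
  obtain ⟨a, ha⟩ : ∃ a : Fin (n + 1) → k, ∑ i, a i • u i = u (n + 1) := by
    refine (Submodule.mem_span_range_iff_exists_fun k).1 ?_
    convert hr using 2
    ext x
    exact ⟨fun ⟨i, e⟩ => ⟨i, i.2, e⟩, fun ⟨i, hi, e⟩ => ⟨⟨i, hi⟩, e⟩⟩
  have hlast : ∀ (c : ℕ → k), ∑ i ∈ Finset.range (n + 1), c i • u i = 0 → c n = 0 := by
    intro c hc
    by_contra hne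
    refine hmin n (by omega) ?_
    rw [Finset.sum_range_succ, add_eq_zero_iff_eq_neg'] at hc
    rw [← inv_smul_smul₀ hne (u n), hc]
    exact Submodule.smul_mem _ _ (neg_mem (sum_mem fun i hi => Submodule.smul_mem _ _
      (Submodule.subset_span ⟨i, Finset.mem_range.1 hi, rfl⟩)))
  have hu : ∀ i, φ (u i) = u (i + 1) := fun i => (Function.iterate_succ_apply' φ i v).symm
  have ha0 : a 0 ≠ 0 := by
    intro h0
    rw [Fin.sum_univ_succ, h0, zero_smul, zero_add] at ha
    choose z hz using fun i : Fin n => IsAlgClosed.exists_pow_nat_eq (a i.succ) (show 0 < q by omega)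
    have : φ (∑ i : Fin n, z i • u i) = φ (u n) := by
      rw [map_sum, hu n, ← ha]
      exact Finset.sum_congr rfl fun i _ => by rw [hφ, hz, hu]; rfl
    refine hmin n (by omega) ?_
    rw [← hinj this]
    exact sum_mem fun i _ => Submodule.smul_mem _ _ (Submodule.subset_span ⟨i, i.2, rfl⟩)
  let b : ℕ → k := fun i => if h : i < n + 1 then a ⟨i, h⟩ else 0
  let P : ℕ → k[X] := fun i => Nat.rec (C (b 0) * X ^ q) (fun j Q => Q ^ q + C (b (j + 1)) * X ^ q) i
  have hPd : ∀ i, (P i).natDegree = q ^ (i + 1) := by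
    intro i
    induction i with
    | zero => simp only [P, zero_add, pow_one]; exact natDegree_C_mul_X_pow q _ (by simpa [b] using ha0)
    | succ i ih =>
      show (P i ^ q + C (b (i + 1)) * X ^ q).natDegree = _
      rw [natDegree_add_eq_left_of_natDegree_lt, natDegree_pow, ih, ← pow_succ']
      refine (natDegree_C_mul_X_pow_le _ _).trans_lt ?_
      rw [natDegree_pow, ih, ← pow_succ']
      exact lt_self_pow₀ hq (by omega)
  have hder : ∀ i, derivative (P i) = 0 := by
    have hq0 : ((q : ℕ) : k) = 0 := by simp [q, CharP.cast_eq_zero, Nat.one_le_iff_ne_zero.1 hν]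
    intro i
    cases i <;> simp [P, derivative_pow, hq0]
  have hP0 : ∀ i, (P i).eval 0 = 0 := by
    intro i
    induction i with
    | zero => simp [P, zero_pow (show q ≠ 0 by omega)]
    | succ i ih =>
      show (P i ^ q + C (b (i + 1)) * X ^ q).eval 0 = 0
      simp [ih, zero_pow (show q ≠ 0 by omega)]
  obtain ⟨g, hg⟩ : X ∣ P n - X := by
    rw [X_dvd_iff, coeff_zero_eq_eval_zero]; simp [hP0]
  have hg0 : g.eval 0 = -1 := by
    have := congrArg (fun f => (derivative f).eval 0) hg
    simpa [hder] using this.symm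
  obtain ⟨t, ht⟩ := IsAlgClosed.exists_root g (by
    intro h
    have h1 : (P n - X).natDegree ≤ 1 := by
      rw [hg]
      refine natDegree_mul_le.trans ?_
      rw [natDegree_X, natDegree_eq_of_degree_eq_some (n := 0) h]
    rw [natDegree_sub_eq_left_of_natDegree_lt (by rw [natDegree_X, hPd]; exact Nat.one_lt_pow (by omega) hq), hPd] at h1
    exact absurd h1 (not_le.2 (Nat.one_lt_pow (by omega) hq)))
  have ht0 : t ≠ 0 := by
    rintro rfl
    rw [IsRoot.def, hg0] at ht
    exact neg_ne_zero.2 one_ne_zero ht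
  have htn : (P n).eval t = t := by
    have := congrArg (eval t) hg
    rw [eval_mul, ht.eq_zero, mul_zero] at this
    simpa [sub_eq_zero] using this
  let c : ℕ → k := fun i => (P i).eval t
  refine ⟨∑ i ∈ Finset.range (n + 1), c i • u i, fun h => ht0 (htn ▸ hlast c h), ?_⟩
  have ha' : u (n + 1) = ∑ i ∈ Finset.range (n + 1), b i • u i := by
    rw [← ha, ← Fin.sum_univ_eq_sum_range (fun i => b i • u i)]
    exact Finset.sum_congr rfl fun i _ => by simp only [b, dif_pos i.2, Fin.eta]
  rw [map_sum]
  simp only [hφ, hu]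
  rw [Finset.sum_range_succ, Finset.sum_range_succ' (fun i => c i • u i), ha', Finset.smul_sum,
    Finset.sum_range_succ', show c n = t from htn]
  have hc0 : c 0 = b 0 * t ^ q := by simp [c, P]
  have hcs : ∀ i, c (i + 1) = c i ^ q + b (i + 1) * t ^ q := fun i => by simp [c, P]
  simp only [hc0, hcs, add_smul, Finset.sum_add_distrib, mul_smul, smul_comm (t ^ q)]
  rw [show p ^ ν = q from rfl]
  simp only [← mul_smul, mul_comm]
  abel


/-- Let k be an algebraically closed field of characteristic p > 0 and ν ≥ 1; let V be a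
finite-dimensional k-vector space and φ : V → V a bijective additive map that is Frob^ν-semilinear,
φ(a·v) = a^(p^ν)·φ(v). Then V admits a k-basis consisting of φ-fixed vectors; in particular V is
spanned by V₀ = {v | φ(v) = v}, an F_{p^ν}-subspace, and k ⊗ V₀ → V is surjective. (The copy allows
ν < 0 as well, reducing to φ⁻¹; stated here for ν ≥ 1. The injectivity of k ⊗_{F_{p^ν}} V₀ → V,
asserted in the copy, is not restated.) -/
theorem result (k : Type u) [Field k] [IsAlgClosed k]
    (p : ℕ) [Fact p.Prime] [CharP k p] (ν : ℕ) (hν : 1 ≤ ν)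
    (V : Type v) [AddCommGroup V] [Module k V] [FiniteDimensional k V]
    (φ : V →+ V) (hφ : ∀ (a : k) (v : V), φ (a • v) = a ^ (p ^ ν) • φ v) (hbij : Function.Bijective φ) :
    ∃ (ι : Type v) (b : Module.Basis ι k V), ∀ i, φ (b i) = b i := by
  classical
  let q := p ^ ν
  have hq : 1 < q := Nat.one_lt_pow (by omega) (Fact.out : p.Prime).one_lt
  let W : Submodule k V := Submodule.span k {v | φ v = v}
  have hWtop : W = ⊤ := by
    by_contra hW
    have hφW : ∀ w ∈ W, φ w ∈ W := by
      intro w hw
      induction hw using Submodule.span_induction with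
      | mem v hv => exact Submodule.subset_span (show φ (φ v) = φ v by rw [show φ v = v from hv]; exact hv)
      | zero => simp
      | add a b _ _ ha hb => rw [map_add]; exact add_mem ha hb
      | smul a v _ hv => rw [hφ]; exact W.smul_mem _ hv
    have hsur : ∀ w ∈ W, ∃ w' ∈ W, φ w' = w := by
      intro w hw
      induction hw using Submodule.span_induction with
      | mem v hv => exact ⟨v, Submodule.subset_span hv, hv⟩
      | zero => exact ⟨0, zero_mem _, map_zero φ⟩
      | add a b _ _ ha hb =>
        obtain ⟨a', ha', rfl⟩ := ha; obtain ⟨b', hb', rfl⟩ := hb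
        exact ⟨a' + b', add_mem ha' hb', map_add φ _ _⟩
      | smul a v _ hv =>
        obtain ⟨v', hv', rfl⟩ := hv
        obtain ⟨z, hz⟩ := IsAlgClosed.exists_pow_nat_eq a (show 0 < q by omega)
        exact ⟨z • v', W.smul_mem _ hv', by rw [hφ, hz]⟩
    let φq : (V ⧸ W) →+ (V ⧸ W) := QuotientAddGroup.map W.toAddSubgroup W.toAddSubgroup φ hφW
    have hφq : ∀ v, φq (W.mkQ v) = W.mkQ (φ v) := fun v => rfl
    have hnt : Nontrivial (V ⧸ W) := Submodule.Quotient.nontrivial_iff.2 hW
    obtain ⟨x, hx0, hx⟩ := exists_fixed p ν hν φq (fun a v => by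
      obtain ⟨v, rfl⟩ := W.mkQ_surjective v
      rw [← map_smul, hφq, hφ, map_smul, hφq]) (by
      rw [injective_iff_map_eq_zero]
      intro v hv
      obtain ⟨v, rfl⟩ := W.mkQ_surjective v
      rw [hφq, Submodule.mkQ_apply, Submodule.Quotient.mk_eq_zero] at hv
      obtain ⟨w', hw', e⟩ := hsur _ hv
      rw [← hbij.1 e]
      exact (Submodule.Quotient.mk_eq_zero W).2 hw')
    obtain ⟨v, rfl⟩ := W.mkQ_surjective x
    rw [hφq, Submodule.mkQ_apply, Submodule.mkQ_apply, Submodule.Quotient.eq] at hx
    have : ∀ w ∈ W, ∃ u ∈ W, u - φ u = w := by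
      intro w hw
      refine Submodule.span_induction (p := fun w _ => ∀ a : k, ∃ u ∈ W, u - φ u = a • w) ?_ ?_ ?_ ?_ hw 1
        |>.imp fun u h => ⟨h.1, by rw [h.2, one_smul]⟩
      · intro e he a
        obtain ⟨c, hc⟩ := IsAlgClosed.exists_root (Polynomial.X ^ q - Polynomial.X + Polynomial.C a : Polynomial k) (by
          have : (Polynomial.X ^ q - Polynomial.X + Polynomial.C a : Polynomial k).natDegree = q := by
            rw [Polynomial.natDegree_add_C, Polynomial.natDegree_sub_eq_left_of_natDegree_lt (by rw [Polynomial.natDegree_X, Polynomial.natDegree_X_pow]; exact hq), Polynomial.natDegree_X_pow]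
          intro h
          have := Polynomial.natDegree_eq_of_degree_eq_some (n := 0) h
          omega) 
        refine ⟨c • e, W.smul_mem _ (Submodule.subset_span he), ?_⟩
        rw [hφ, show φ e = e from he, ← sub_smul]
        congr 1
        simp [q] at hc
        linear_combination (-1 : k) * hc
      · exact fun a => ⟨0, zero_mem _, by simp⟩
      · intro u v _ _ hu hv a
        obtain ⟨u', hu', eu⟩ := hu a; obtain ⟨v', hv', ev⟩ := hv a
        exact ⟨u' + v', add_mem hu' hv', by rw [map_add, smul_add, ← eu, ← ev]; abel⟩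
      · intro b u _ hu a
        simpa [smul_smul] using hu (a * b)
    obtain ⟨u, hu, eu⟩ := this _ hx
    refine hx0 ((Submodule.Quotient.mk_eq_zero W).2 ?_)
    have : v + u ∈ W := Submodule.subset_span (show φ (v + u) = v + u by
      rw [map_add, show φ u = u - (φ v - v) by rw [← eu]; abel]; abel)
    simpa using sub_mem this hu
  obtain ⟨b, hb1, hb2, hb3⟩ := exists_linearIndependent k {v | φ v = v}
  refine ⟨b, Module.Basis.mk hb3 (by rw [Subtype.range_coe, hb2]; exact hWtop.ge), fun i => ?_⟩
  rw [Module.Basis.mk_apply]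
  exact hb1 i.2

end Groth.Agent.S16853
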