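import Groth.Statements.S16854
import Groth.Agent.S16853
import Mathlib.RingTheory.WittVector.Complete
import Mathlib.RingTheory.WittVector.DiscreteValuationRing
import Mathlib.LinearAlgebra.Determinant
import Mathlib.FieldTheory.IsAlgClosed.Basic

set_option autoImplicit false
universe u v
open CAlg

namespace Groth.Agent.S16854

set_option maxHeartbeats 800000

/-- Let k be an algebraically closed field of characteristic p > 0, ν ≥ 1, W = W(k) the ring of
p-typical Witt vectors with its Frobenius endomorphism σ, M a finitely generated free W-module and F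
: M → M a bijective additive map that is σ^ν-semilinear, F(a·m) = σ^ν(a)·F(m). Then M admits a
W-basis consisting of F-fixed elements; in particular M is spanned over W by M₀ = {m | F(m) = m}, a
module over the Witt vectors of F_{p^ν}. (The copy allows ν < 0 as well, reducing to F⁻¹; stated
here for ν ≥ 1.) -/
theorem result (k : Type u) [Field k] [IsAlgClosed k]
    (p : ℕ) [Fact p.Prime] [CharP k p] (ν : ℕ) (hν : 1 ≤ ν)
    (M : Type v) [AddCommGroup M] [Module (WittVector p k) M]
    [Module.Finite (WittVector p k) M] [Module.Free (WittVector p k) M]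
    (F : M →+ M)
    (hF : ∀ (a : WittVector p k) (m : M), F (a • m) = ((⇑(WittVector.frobenius : WittVector p k →+* WittVector p k))^[ν] a) • F m)
    (hbij : Function.Bijective F) :
    ∃ (ι : Type v) (b : Module.Basis ι (WittVector p k) M), ∀ i, F (b i) = b i := by
  classical
  let W := WittVector p k
  let ι := Module.Free.ChooseBasisIndex W M
  let b₀ : Module.Basis ι W M := Module.Free.chooseBasis W M
  let σ : W →+* W := (WittVector.frobenius : W →+* W) ^ ν
  have hσ : ∀ a, σ a = (⇑(WittVector.frobenius : W →+* W))^[ν] a := fun a => congrFun (RingHom.coe_pow _ ν) a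
  have hσ0 : ∀ a : W, (σ a).coeff 0 = a.coeff 0 ^ p ^ ν := by
    intro a
    rw [hσ]
    clear_value σ
    clear hσ σ hν hF hbij
    induction ν with
    | zero => simp
    | succ n ih => rw [Function.iterate_succ_apply', WittVector.coeff_frobenius_charP, ih, ← pow_mul, pow_succ]
  have hFs : ∀ (a : W) (m : M), F (a • m) = σ a • F m := fun a m => by rw [hσ]; exact hF a m
  have hFp : ∀ (n : ℕ) (m : M), F ((p : W) ^ n • m) = (p : W) ^ n • F m := fun n m => by
    rw [hFs, map_pow, map_natCast]
  let π : M →+ (ι → k) :=
    { toFun := fun m i => (b₀.repr m i).coeff 0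
      map_zero' := by ext i; simp
      map_add' := fun m m' => by
        ext i
        simp only [map_add, Finsupp.coe_add, Pi.add_apply]
        exact (WittVector.constantCoeff : W →+* k).map_add _ _ }
  have hπs : ∀ (a : W) (m : M), π (a • m) = a.coeff 0 • π m := fun a m => by
    ext i
    show (b₀.repr (a • m) i).coeff 0 = _
    rw [map_smul, Finsupp.smul_apply, smul_eq_mul]
    exact (WittVector.constantCoeff : W →+* k).map_mul _ _
  have hker : ∀ m, π m = 0 → ∃ n, m = (p : W) • n := by
    intro m hm
    have : ∀ i, ∃ c, b₀.repr m i = (p : W) * c := fun i => by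
      rw [← dvd_def, ← Ideal.mem_span_singleton, WittVector.mem_span_p_iff_coeff_zero_eq_zero]
      exact congrFun hm i
    choose c hc using this
    refine ⟨∑ i, c i • b₀ i, ?_⟩
    rw [Finset.smul_sum]
    conv_lhs => rw [← b₀.sum_repr m]
    exact Finset.sum_congr rfl fun i _ => by rw [smul_smul, hc i]
  let lift : (ι → k) → M := fun v => ∑ i, WittVector.teichmuller p (v i) • b₀ i
  have hlift : ∀ v, π (lift v) = v := fun v => by
    ext i
    show (b₀.repr (lift v) i).coeff 0 = v i
    rw [show lift v = ∑ j, WittVector.teichmuller p (v j) • b₀ j from rfl, b₀.repr_sum_self]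
    exact WittVector.teichmuller_coeff_zero p (v i)
  have hπp : ∀ m : M, π ((p : W) • m) = 0 := fun m => by
    rw [hπs]
    have : ((p : W)).coeff 0 = 0 := (WittVector.mem_span_p_iff_coeff_zero_eq_zero _).1 (Ideal.mem_span_singleton_self _)
    rw [this, zero_smul]
  have hcomp : ∀ m, π (F (lift (π m))) = π (F m) := by
    intro m
    obtain ⟨n, hn⟩ := hker (m - lift (π m)) (by rw [map_sub, hlift, sub_self])
    rw [sub_eq_iff_eq_add'] at hn
    conv_rhs => rw [hn, map_add, map_add, ← pow_one (p : W), hFp, pow_one, hπp, add_zero]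
  let Fb : (ι → k) →+ (ι → k) :=
    { toFun := fun v => π (F (lift v))
      map_zero' := by
        have := hcomp 0
        simpa using this
      map_add' := fun v w => by
        have := hcomp (lift v + lift w)
        rw [map_add π, hlift, hlift] at this
        rw [this, map_add F, map_add π] }
  have hFb : ∀ m, Fb (π m) = π (F m) := hcomp
  have hsemi : ∀ (a : k) (v : ι → k), Fb (a • v) = a ^ p ^ ν • Fb v := by
    intro a v
    have h1 : π (WittVector.teichmuller p a • lift v) = a • v := by
      rw [hπs, hlift, WittVector.teichmuller_coeff_zero]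
    rw [← h1, hFb, hFs, hπs, hσ0, WittVector.teichmuller_coeff_zero]
    rfl
  have hbb : Function.Bijective Fb := by
    constructor
    · rw [injective_iff_map_eq_zero]
      intro v hv
      obtain ⟨n, hn⟩ := hker (F (lift v)) hv
      obtain ⟨n', rfl⟩ := hbij.2 n
      rw [← pow_one (p : W), ← hFp, pow_one] at hn
      rw [← hlift v, hbij.1 hn, hπp]
    · intro v
      obtain ⟨m, hm⟩ := hbij.2 (lift v)
      exact ⟨π m, by rw [hFb, hm, hlift]⟩
  obtain ⟨κ, e₀, he₀⟩ := Groth.Agent.S16853.result k p ν hν (ι → k) Fb hsemi hbb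
  let e : Module.Basis ι k (ι → k) := e₀.reindex (e₀.indexEquiv (Pi.basisFun k ι))
  have he : ∀ i, Fb (e i) = e i := fun i => by simp only [e, Module.Basis.reindex_apply]; exact he₀ _
  -- solve mod p
  have hmod : ∀ y : M, ∃ x z, y - (F x - x) = (p : W) • z := by
    intro y
    choose c hc using fun i => IsAlgClosed.exists_root
      (Polynomial.X ^ (p ^ ν) - Polynomial.X - Polynomial.C (e.repr (π y) i) : Polynomial k) (by
        have hq : 1 < p ^ ν := Nat.one_lt_pow (by omega) (Fact.out : p.Prime).one_lt
        have : (Polynomial.X ^ (p ^ ν) - Polynomial.X - Polynomial.C (e.repr (π y) i) : Polynomial k).natDegree = p ^ ν := by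
          rw [Polynomial.natDegree_sub_C, Polynomial.natDegree_sub_eq_left_of_natDegree_lt
            (by rw [Polynomial.natDegree_X, Polynomial.natDegree_X_pow]; exact hq), Polynomial.natDegree_X_pow]
        intro h
        have := Polynomial.natDegree_eq_of_degree_eq_some (n := 0) h
        omega)
    obtain ⟨x, hx⟩ : ∃ x : M, π x = ∑ i, c i • e i := ⟨_, hlift _⟩
    refine ⟨x, hker _ ?_⟩
    rw [map_sub, map_sub, ← hFb, hx, map_sum]
    simp only [hsemi, he, ← Finset.sum_sub_distrib, ← sub_smul]
    refine sub_eq_zero.2 ((e.sum_repr (π y)).symm.trans (Finset.sum_congr rfl fun i _ => ?_))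
    congr 1
    have := hc i
    simp at this
    linear_combination -this
  choose s z hsz using hmod
  have hsurj : ∀ y : M, ∃ x, F x - x = y := by
    intro y
    let ys : ℕ → M := fun n => z^[n] y
    let X : ℕ → M := fun n => ∑ i ∈ Finset.range n, (p : W) ^ i • s (ys i)
    have hX : ∀ n, y - (F (X n) - X n) = (p : W) ^ n • ys n := by
      intro n
      induction n with
      | zero => simp [X, ys]
      | succ n ih =>
        have e1 : X (n + 1) = X n + (p : W) ^ n • s (ys n) := Finset.sum_range_succ _ _
        have e2 : y - (F (X (n + 1)) - X (n + 1)) = (p : W) ^ n • (ys n - (F (s (ys n)) - s (ys n))) := by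
          rw [e1, map_add, hFp, smul_sub, ← ih, smul_sub]; abel
        rw [e2, hsz, smul_smul, ← pow_succ, show ys (n + 1) = z (ys n) from Function.iterate_succ_apply' z n y]
    have hc : ∀ i, ∃ L : W, ∀ n, b₀.repr (X n) i ≡ L [SMOD (Ideal.span {(p : W)} ^ n • ⊤ : Submodule W W)] := by
      intro i
      refine IsPrecomplete.prec inferInstance (f := fun n => b₀.repr (X n) i) fun {m n} hmn => ?_
      rw [SModEq.sub_mem, smul_eq_mul, Ideal.mul_top, Ideal.span_singleton_pow]
      have : X n - X m = ∑ l ∈ Finset.Ico m n, (p : W) ^ l • s (ys l) := by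
        rw [Finset.sum_Ico_eq_sub _ hmn]
      rw [← neg_sub, neg_mem_iff, ← Finsupp.sub_apply, ← map_sub, this, map_sum, Finsupp.finsetSum_apply]
      refine sum_mem fun l hl => ?_
      rw [map_smul, Finsupp.smul_apply, smul_eq_mul]
      exact Ideal.mul_mem_right _ _ (Ideal.mem_span_singleton.2 (pow_dvd_pow _ (Finset.mem_Ico.1 hl).1))
    choose L hL using hc
    refine ⟨∑ i, L i • b₀ i, b₀.repr.injective (Finsupp.ext fun j => ?_)⟩
    apply eq_of_sub_eq_zero
    refine IsHausdorff.haus (I := Ideal.span {(p : W)}) inferInstance _ fun n => ?_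
    rw [SModEq.zero, smul_eq_mul, Ideal.mul_top, Ideal.span_singleton_pow]
    have hd : ∀ i, ∃ d, L i - b₀.repr (X n) i = (p : W) ^ n * d := fun i => by
      have := hL i n
      rw [SModEq.sub_mem, smul_eq_mul, Ideal.mul_top, Ideal.span_singleton_pow, Ideal.mem_span_singleton] at this
      obtain ⟨d, hd⟩ := this
      exact ⟨-d, by linear_combination -hd⟩
    choose d hd using hd
    have e1 : (∑ i, L i • b₀ i) = X n + (p : W) ^ n • ∑ i, d i • b₀ i := by
      conv_rhs => rw [← b₀.sum_repr (X n), Finset.smul_sum, ← Finset.sum_add_distrib]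
      refine Finset.sum_congr rfl fun i _ => ?_
      rw [smul_smul, ← add_smul, ← hd i, add_sub_cancel]
    rw [← Finsupp.sub_apply, ← map_sub]
    have e2 : (F (∑ i, L i • b₀ i) - ∑ i, L i • b₀ i) - y =
        (p : W) ^ n • (F (∑ i, d i • b₀ i) - ∑ i, d i • b₀ i - ys n) := by
      rw [e1, map_add, hFp, smul_sub, smul_sub, ← hX n]; abel
    rw [e2, map_smul, Finsupp.smul_apply, smul_eq_mul]
    exact Ideal.mul_mem_right _ _ (Ideal.mem_span_singleton_self _)
  have hfix : ∀ i, ∃ x, F x = x ∧ π x = e i := by
    intro i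
    obtain ⟨n, hn⟩ := hker (F (lift (e i)) - lift (e i)) (by rw [map_sub, hlift]; exact sub_eq_zero.2 (he i))
    obtain ⟨w, hw⟩ := hsurj n
    refine ⟨lift (e i) - (p : W) • w, ?_, by rw [map_sub, hπp, sub_zero, hlift]⟩
    rw [map_sub, ← pow_one (p : W), hFp, pow_one]
    rw [← hw, smul_sub] at hn
    linear_combination (norm := module) hn
  choose x hxF hxπ using hfix
  have hdet : IsUnit (b₀.det x) := by
    refine WittVector.isUnit_of_coeff_zero_ne_zero _ ?_
    rw [Module.Basis.det_apply]
    show WittVector.constantCoeff _ ≠ 0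
    rw [RingHom.map_det]
    have h1 : (WittVector.constantCoeff : W →+* k).mapMatrix (b₀.toMatrix x) = (Pi.basisFun k ι).toMatrix e := by
      ext i j
      simp [Module.Basis.toMatrix_apply, ← hxπ, π]
    rw [h1, ← Module.Basis.det_apply]
    exact (Module.Basis.isUnit_det _ e).ne_zero
  obtain ⟨hli, hsp⟩ := (Module.Basis.is_basis_iff_det b₀).2 hdet
  exact ⟨ι, Module.Basis.mk hli hsp.ge, fun i => by rw [Module.Basis.mk_apply]; exact hxF i⟩

end Groth.Agent.S16854
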