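import Groth.Statements.S16856
import Groth.Agent.H63.FrobRoots

set_option autoImplicit false
universe u
open CategoryTheory MonoidalCategory CartesianMonoidalCategory MonObj GrpObj AlgebraicGeometry
open AbVar

namespace Groth.Agent.S16856

/-- Equality case of the Hasse–Weil–Serre bound: let k be a finite field with q elements and algebraic
closure Ω, ℓ a prime invertible in k, and X an abelian variety over k (a proper, geometrically
integral commutative group scheme over k) of dimension g, with geometric Frobenius π_X (the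
endomorphism that is the identity on points and the q-th power map on sections); assume, as is the
case, that the ℓ-adic Tate module of Ω-points T_ℓ X is free of finite rank over ℤ_ℓ, and let f_X ∈
ℤ[t] be the polynomial mapping to the characteristic polynomial of T_ℓ(π_X) (the characteristic
polynomial of Frobenius). Put m = ⌊2√q⌋. Then |trace(π_X)| = g·m (equality in the bound |trace(π_X)|
≤ g·m; the trace is minus the second-highest coefficient of f_X) if and only if either α + q/α = m
for every root α of f_X or α + q/α = −m for every root, i.e. if and only if f_X = (t² − m t + q)^g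
or f_X = (t² + m t + q)^g. -/
theorem result (k Ω : Type u) [Field k] [Finite k] [Field Ω] [Algebra k Ω] [IsAlgClosure k Ω]
    (l : ℕ) [Fact l.Prime] (hl : (l : k) ≠ 0) (X : Over (Spec (CommRingCat.of k)))
    [GrpObj X] [IsCommMonObj X] [IsProper X.hom] [GeometricallyIntegral X.hom]
    (g : ℕ) (hg : topologicalKrullDim X.left = g)
    (πX : X ⟶ X) [IsMonHom πX] (hπb : πX.left.base = 𝟙 _)
    (hπle : ∀ U : X.left.Opens, U ≤ πX.left ⁻¹ᵁ U)
    (hπapp : ∀ (U : X.left.Opens) (s : Γ(X.left, U)), (πX.left.appLE U U (hπle U)).hom s = s ^ Nat.card k)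
    [Module.Free ℤ_[l] (AbDual.TateMod X l (SGA7.pt Ω))] [Module.Finite ℤ_[l] (AbDual.TateMod X l (SGA7.pt Ω))]
    (P : Polynomial ℤ) (hP : (AbDual.tateMapₗ (l := l) (T := SGA7.pt Ω) πX).charpoly = P.map (Int.castRingHom ℤ_[l])) :
    |(P.nextCoeff : ℝ)| = (g : ℝ) * (⌊2 * Real.sqrt (Nat.card k)⌋ : ℝ) ↔
      (P = (Polynomial.X ^ 2 - Polynomial.C ⌊2 * Real.sqrt (Nat.card k)⌋ * Polynomial.X + Polynomial.C (Nat.card k : ℤ)) ^ g ∨
        P = (Polynomial.X ^ 2 + Polynomial.C ⌊2 * Real.sqrt (Nat.card k)⌋ * Polynomial.X + Polynomial.C (Nat.card k : ℤ)) ^ g) := by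
  haveI : IsAlgClosed Ω := IsAlgClosure.isAlgClosed k
  have hq : 0 < Nat.card k := Nat.card_pos
  obtain ⟨hm, hcard, habs, hprod, hsum, hconj, hF⟩ :=
    H63.FrobRoots.basic πX hl (Nat.card k) hπb hπle hπapp hg P hP
  set R := (P.map (Int.castRingHom ℂ)).roots with hRdef
  set m := ⌊2 * Real.sqrt (Nat.card k)⌋ with hmdef
  have hre : ∀ a ∈ R, |2 * a.re| < (m : ℝ) + 1 := fun a ha => by
    have h1 := Complex.abs_re_le_norm a
    rw [habs a ha] at h1
    rw [abs_mul, abs_two]
    linarith [Int.lt_floor_add_one (2 * Real.sqrt (Nat.card k))]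
  have hsumre : (R.map fun a => a.re).sum = -(P.nextCoeff : ℝ) := by
    have h := congrArg Complex.reAddGroupHom hsum
    rw [map_multiset_sum] at h
    simpa using h
  have hshift : ∀ e : ℤ, (R.map fun a => ((m : ℝ) + 1 - e * (2 * a.re)) - 1).sum =
      2 * g * m + 2 * e * (P.nextCoeff : ℝ) := fun e => by
    rw [show (fun a : ℂ => ((m : ℝ) + 1 - (e : ℝ) * (2 * a.re)) - 1) = fun a => (m : ℝ) - (2 * (e : ℝ)) * a.re from
      funext fun a => by ring, Multiset.sum_map_sub, Multiset.map_const', Multiset.sum_replicate,
      Multiset.sum_map_mul_left, hsumre, hcard]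
    simp only [nsmul_eq_mul]
    push_cast
    ring
  -- equality forces every root to satisfy the quadratic
  have hforce : ∀ e : ℤ, (e = 1 ∨ e = -1) → (e : ℝ) * (P.nextCoeff : ℝ) = -((g : ℝ) * m) →
      ∀ a ∈ R, (e : ℝ) * (2 * a.re) = m := by
    intro e he h a ha
    have hpos : ∀ b ∈ R, 0 < ((m + 1 : ℤ) : ℝ) - (e : ℝ) * (2 * b.re) := fun b hb => by
      have := abs_lt.1 (hre b hb)
      rcases he with rfl | rfl <;> push_cast <;> linarith [this.1, this.2]
    have h1 := H63.FrobRoots.one_le_prod hq P hm habs hprod hF (m + 1) e hpos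
    have h2 := (H63.FrobRoots.sum_sub_one_nonneg _ (fun r hr => by
      obtain ⟨b, hb, rfl⟩ := Multiset.mem_map.1 hr
      exact hpos b hb) h1).2 (by
        rw [Multiset.map_map, Function.comp_def]
        push_cast
        rw [hshift e]
        linarith) _ (Multiset.mem_map_of_mem _ ha)
    push_cast at h2
    linarith
  have hquad : ∀ (e : ℤ), e * e = 1 → ((∀ a ∈ R, (e : ℝ) * (2 * a.re) = m) →
      P = (Polynomial.X ^ 2 - Polynomial.C (e * m) * Polynomial.X + Polynomial.C (Nat.card k : ℤ)) ^ g) := by
    intro e he hall
    apply Polynomial.map_injective (Int.castRingHom ℂ) Int.cast_injective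
    rw [Polynomial.map_pow]
    have hsplit : (P.map (Int.castRingHom ℂ)).Splits := IsAlgClosed.splits _
    rw [hsplit.eq_prod_roots_of_monic (hm.map _), ← hRdef]
    rcases Multiset.empty_or_exists_mem R with h0 | ⟨a, ha⟩
    · have : g = 0 := by
        have := congrArg Multiset.card h0
        rw [hcard, Multiset.card_zero] at this
        omega
      simp [h0, this]
    have hmem : ∀ b ∈ R, b = a ∨ b = (starRingEnd ℂ) a := fun b hb => by
      have he' : (e : ℝ) ≠ 0 := Int.cast_ne_zero.2 fun h => by simp [h] at he
      have h1 : b.re = a.re := mul_left_cancel₀ he' (by linarith [hall a ha, hall b hb])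
      have h2 : b.im * b.im = a.im * a.im := by
        have e1 := Complex.normSq_eq_norm_sq b
        have e2 := Complex.normSq_eq_norm_sq a
        rw [habs b hb] at e1
        rw [habs a ha] at e2
        rw [Complex.normSq_apply] at e1 e2
        rw [h1] at e1
        linarith
      rcases mul_self_eq_mul_self_iff.1 h2 with h | h
      · exact Or.inl (Complex.ext h1 h)
      · exact Or.inr (Complex.ext (by simp [h1]) (by simp [h]))
    have hprodq : a * (starRingEnd ℂ) a = (Nat.card k : ℂ) := by
      rw [Complex.mul_conj', habs a ha]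
      exact_mod_cast Real.sq_sqrt (Nat.cast_nonneg (Nat.card k))
    have hsumq : a + (starRingEnd ℂ) a = ((e * m : ℤ) : ℂ) := by
      rw [Complex.add_conj]
      have h' : 2 * a.re = (e : ℝ) * m := by
        have := congrArg (fun t => (e : ℝ) * t) (hall a ha)
        rw [← _root_.mul_assoc, ← Int.cast_mul, he, Int.cast_one, _root_.one_mul] at this
        linarith
      rw [h']
      push_cast
      rfl
    have hu : (Polynomial.X ^ 2 - Polynomial.C (e * m) * Polynomial.X + Polynomial.C (Nat.card k : ℤ)).map
        (Int.castRingHom ℂ) = (Polynomial.X - Polynomial.C a) * (Polynomial.X - Polynomial.C ((starRingEnd ℂ) a)) := by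
      have hC1 : (Int.castRingHom ℂ) (e * m) = a + (starRingEnd ℂ) a := hsumq.symm
      have hC2 : (Int.castRingHom ℂ) (Nat.card k : ℤ) = a * (starRingEnd ℂ) a := by
        rw [hprodq, eq_intCast, Int.cast_natCast]
      rw [Polynomial.map_add, Polynomial.map_sub, Polynomial.map_mul, Polynomial.map_pow, Polynomial.map_X,
        Polynomial.map_C, Polynomial.map_C, hC1, hC2, map_add, map_mul]
      ring
    rw [hu, mul_pow]
    classical
    by_cases hreal : (starRingEnd ℂ) a = a
    · have : R = Multiset.replicate (2 * g) a := Multiset.eq_replicate.2 ⟨hcard, fun b hb => by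
        rcases hmem b hb with h | h
        · exact h
        · rw [h, hreal]⟩
      rw [this, Multiset.map_replicate, Multiset.prod_replicate, hreal, ← pow_add, two_mul]
    · have hdec : R = Multiset.replicate (R.count a) a + Multiset.replicate (R.count ((starRingEnd ℂ) a)) ((starRingEnd ℂ) a) := by
        refine Multiset.ext.2 fun b => ?_
        rw [Multiset.count_add, Multiset.count_replicate, Multiset.count_replicate]
        by_cases h1 : b = a
        · subst h1; simp [hreal]
        by_cases h2 : b = (starRingEnd ℂ) a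
        · subst h2; simp [Ne.symm hreal]
        rw [if_neg (Ne.symm h1), if_neg (Ne.symm h2), Multiset.count_eq_zero.2 fun hb => by
          rcases hmem b hb with h | h <;> contradiction]
      have hc : R.count ((starRingEnd ℂ) a) = R.count a := by
        conv_lhs => rw [← hconj]
        exact Multiset.count_map_eq_count' _ _ (starRingEnd ℂ).injective a
      have hg2 : R.count a = g := by
        have := congrArg Multiset.card hdec
        rw [hcard, Multiset.card_add, Multiset.card_replicate, Multiset.card_replicate, hc] at this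
        omega
      rw [hdec, Multiset.map_add, Multiset.map_replicate, Multiset.map_replicate, Multiset.prod_add,
        Multiset.prod_replicate, Multiset.prod_replicate, hc, hg2]
  have hnext : ∀ e : ℤ, P = (Polynomial.X ^ 2 - Polynomial.C (e * m) * Polynomial.X + Polynomial.C (Nat.card k : ℤ)) ^ g →
      (P.nextCoeff : ℝ) = -((g : ℝ) * (e * m)) := fun e hP' => by
    have hu : (Polynomial.X ^ 2 - Polynomial.C (e * m) * Polynomial.X + Polynomial.C (Nat.card k : ℤ)).Monic ∧
        (Polynomial.X ^ 2 - Polynomial.C (e * m) * Polynomial.X + Polynomial.C (Nat.card k : ℤ)).nextCoeff = -(e * m) := by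
      have e1 : Polynomial.X ^ 2 - Polynomial.C (e * m) * Polynomial.X + Polynomial.C (Nat.card k : ℤ) =
          Polynomial.C 1 * Polynomial.X ^ 2 + Polynomial.C (-(e * m)) * Polynomial.X + Polynomial.C (Nat.card k : ℤ) := by
        rw [map_one, map_neg]; ring
      rw [e1]
      refine ⟨Polynomial.leadingCoeff_quadratic one_ne_zero, ?_⟩
      rw [Polynomial.nextCoeff, Polynomial.natDegree_quadratic one_ne_zero]
      simp [Polynomial.coeff_X, Polynomial.coeff_C]
    rw [hP', Polynomial.Monic.nextCoeff_pow hu.1, hu.2]
    simp [nsmul_eq_mul]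
    try ring
  constructor
  · intro h
    rcases abs_choice (P.nextCoeff : ℝ) with habs' | habs' <;> rw [habs'] at h
    · refine Or.inr ?_
      have := hquad (-1) rfl (hforce (-1) (Or.inr rfl) (by push_cast; linarith))
      rw [this]
      congr 1
      rw [map_mul, map_neg, map_one]
      ring
    · refine Or.inl ?_
      have := hquad 1 rfl (hforce 1 (Or.inl rfl) (by push_cast; linarith))
      rwa [_root_.one_mul] at this
  · have hgm : 0 ≤ (g : ℝ) * m := mul_nonneg (Nat.cast_nonneg g)
      (Int.cast_nonneg (Int.floor_nonneg.2 (by positivity)))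
    rintro (h | h)
    · rw [hnext 1 (by rwa [_root_.one_mul]), Int.cast_one, _root_.one_mul, abs_neg, abs_of_nonneg hgm]
    · rw [hnext (-1) (by rw [h]; congr 1; rw [map_mul, map_neg, map_one]; ring)]
      push_cast
      rw [show -((g : ℝ) * (-1 * (m : ℝ))) = (g : ℝ) * m by ring, abs_of_nonneg hgm]

end Groth.Agent.S16856
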