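import Groth.Statements.S16857
import Groth.Agent.H63.TateCor.Center

set_option autoImplicit false
set_option synthInstance.maxHeartbeats 200000
universe u
open CategoryTheory MonoidalCategory CartesianMonoidalCategory MonObj GrpObj AlgebraicGeometry
open AbVar

namespace Groth.Agent.S16857

/-- (b1) ⇔ (b2): fix a finite field k of size q and an abelian variety X over k (a proper, geometrically
integral commutative group scheme over k) and π_X its geometric Frobenius (the identity on points,
the q-th power map on sections; a homomorphism). Then End⁰(X) = ℚ ⊗ End_k(X) equals its subalgebra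
ℚ[π_X] if and only if End_k(X) is commutative. -/
theorem result (k : Type u) [Field k] [Finite k] (X : Over (Spec (CommRingCat.of k)))
    [GrpObj X] [IsCommMonObj X] [IsProper X.hom] [GeometricallyIntegral X.hom]
    (πX : X ⟶ X) [IsMonHom πX] (hπb : πX.left.base = 𝟙 _)
    (hπle : ∀ U : X.left.Opens, U ≤ πX.left ⁻¹ᵁ U)
    (hπapp : ∀ (U : X.left.Opens) (s : Γ(X.left, U)), (πX.left.appLE U U (hπle U)).hom s = s ^ Nat.card k) :
    EndAV.QAdj (EndAV.End.of πX) = ⊤ ↔ ∀ a b : EndAV.End X, a * b = b * a := by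
  classical
  let Ω := AlgebraicClosure k
  haveI : IsAlgClosed Ω := inferInstance
  obtain ⟨l, hlp, hl⟩ := H63.HomLattice.exists_prime_ne_zero k
  haveI : Fact l.Prime := ⟨hlp⟩
  haveI : IsIntegral X.left := GeometricallyIntegral.isIntegral_of_subsingleton X.hom
  obtain ⟨g, hg⟩ := H63.AVIsogeny.exists_dim (A := X)
  obtain ⟨h1, h2, -⟩ := H63.HomLattice.tate_free_finite Ω X l hl hg
  haveI := h1; haveI := h2
  have hc := H63.TateCor.center_eq Ω l X hl πX hπb hπle hπapp
  constructor
  · intro h a b
    apply H63.End0Basic.toEnd0_injective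
    rw [map_mul, map_mul]
    have hb : EndAV.toEnd0 b ∈ EndAV.QAdj (EndAV.End.of πX) := h ▸ Algebra.mem_top
    have hz : EndAV.toEnd0 b ∈ Subalgebra.center ℚ (EndAV.End0 X) := by rwa [hc]
    exact Subalgebra.mem_center_iff.1 hz _
  · intro h
    rw [← hc, eq_top_iff]
    intro x _
    rw [Subalgebra.mem_center_iff]
    intro y
    obtain ⟨N, φ, hN, hφ⟩ := H63.End0Basic.exists_smul_eq x
    obtain ⟨M, ψ, hM, hψ⟩ := H63.End0Basic.exists_smul_eq y
    have e := congrArg EndAV.toEnd0 (h ψ φ)
    simp only [map_mul, ← hφ, ← hψ, smul_mul_assoc, mul_smul_comm, smul_smul, mul_comm (N : ℚ) (M : ℚ)] at e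
    exact smul_right_injective _ (mul_ne_zero (Int.cast_ne_zero.2 hM) (Int.cast_ne_zero.2 hN)) e

end Groth.Agent.S16857
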