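import Groth.Statements.S16860
import Groth.Agent.Lib.Gerbe.Criterion

set_option autoImplicit false
universe u
open CategoryTheory AlgebraicGeometry
open Gerb

namespace Groth.Agent.S16860

/-- For a morphism f of algebraic stacks, the source is a gerbe over the target along f if and only if f
and its diagonal are both surjective, flat and locally of finite presentation. -/
theorem result
    (S : Scheme.{u}) (𝒳 𝒴 : AlgSt.Cat S)
    (h𝒳 : AlgSt.IsAlgStack Scheme.fppfPrecoverage 𝒳) (h𝒴 : AlgSt.IsAlgStack Scheme.fppfPrecoverage 𝒴)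
    (f : 𝒳 ⥤ᵇ 𝒴) :
    Gerb.IsGerbeOver (QuotSh.J Scheme.fppfPrecoverage S) f ↔
      (AlgSt.IsSurjective f ∧ AlgSt.LocQ (AlgSp.LocP @Flat) f ∧
        AlgSt.LocQ (AlgSp.LocP @LocallyOfFinitePresentation) f) ∧
      (AlgSt.IsSurjective (FibCat.diag f) ∧ AlgSt.LocQ (AlgSp.LocP @Flat) (FibCat.diag f) ∧
        AlgSt.LocQ (AlgSp.LocP @LocallyOfFinitePresentation) (FibCat.diag f)) := by
  refine ⟨fun hf => ?_, fun ⟨⟨h3, h1, h2⟩, d3, d1, d2⟩ =>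
    Lib.Gerbe.Criterion.isGerbeOver h𝒳 h𝒴 h1 h2 h3 d1 d2 d3⟩
  obtain ⟨h1, h2⟩ := Lib.Gerbe.Diag.locQ_flat_lfp h𝒳 h𝒴 f hf
  obtain ⟨d1, d2, -⟩ := Lib.Gerbe.Diag.diag_props h𝒳 h𝒴 f hf
  have hff := H14.Chart.Basic.isAlgStack_fp h𝒴 h𝒳 h𝒳 f f
  exact ⟨⟨Lib.Gerbe.Surj.surjective h𝒳.isStack.1 h𝒴.isStack.1 f hf.1, h1, h2⟩,
    Lib.Gerbe.Diag.surjective_diag h𝒳 h𝒴 f hf,
    H14.Chart.LocQ.locQ_of_repByAlgSpWith H14.Chart.SmLocal.isSmoothLocalST_flat.precomp h𝒳 hff d1,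
    H14.Chart.LocQ.locQ_of_repByAlgSpWith H14.Chart.SmLocal.isSmoothLocalST_lfp.precomp h𝒳 hff d2⟩

end Groth.Agent.S16860
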