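import Groth.Statements.S16863
import Groth.Agent.Lib.Gerbe.Diag
import Groth.Agent.H14.Chart.LocQ2
import Groth.Agent.Lib.AlgStack.RepOver

set_option autoImplicit false
universe u
open CategoryTheory AlgebraicGeometry
open Gerb

namespace Groth.Agent.S16863

/-- If f makes 𝒳 a gerbe over 𝒴, then for morphisms x₁ : T₁ → 𝒳, x₂ : T₂ → 𝒳 from algebraic spaces the
comparison morphism T₁ ×_𝒳 T₂ → T₁ ×_𝒴 T₂ (induced by the two projections and the 2-isomorphism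
obtained by applying f to the canonical one) is surjective, flat and locally of finite presentation. -/
theorem result
    (S : Scheme.{u}) (𝒳 𝒴 : AlgSt.Cat S)
    (h𝒳 : AlgSt.IsAlgStack Scheme.fppfPrecoverage 𝒳) (h𝒴 : AlgSt.IsAlgStack Scheme.fppfPrecoverage 𝒴)
    (f : 𝒳 ⥤ᵇ 𝒴) (hf : Gerb.IsGerbeOver (QuotSh.J Scheme.fppfPrecoverage S) f)
    (T₁ T₂ : AlgSp.Space S) (x₁ : AlgSt.ofSp T₁.obj ⥤ᵇ 𝒳) (x₂ : AlgSt.ofSp T₂.obj ⥤ᵇ 𝒳)
    (e : BasedFunctor.comp (FibCat.fpFst x₁ x₂) (BasedFunctor.comp x₁ f) ≅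
      BasedFunctor.comp (FibCat.fpSnd x₁ x₂) (BasedFunctor.comp x₂ f))
    (he : ∀ a, e.hom.toNatTrans.app a = f.map a.obj.iso.hom) :
    AlgSt.IsSurjective (FibCat.fpLift (FibCat.fpFst x₁ x₂) (FibCat.fpSnd x₁ x₂) e) ∧
      AlgSt.LocQ (AlgSp.LocP @Flat) (FibCat.fpLift (FibCat.fpFst x₁ x₂) (FibCat.fpSnd x₁ x₂) e) ∧
      AlgSt.LocQ (AlgSp.LocP @LocallyOfFinitePresentation)
        (FibCat.fpLift (FibCat.fpFst x₁ x₂) (FibCat.fpSnd x₁ x₂) e) := by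
  have hT₁ := Lib.AlgStack.IsAlg.isAlgStack_ofSp T₁
  have hT₂ := Lib.AlgStack.IsAlg.isAlgStack_ofSp T₂
  have hA := H14.Chart.Basic.isAlgStack_fp h𝒳 hT₁ hT₂ x₁ x₂
  have hB := H14.Chart.Basic.isAlgStack_fp h𝒴 hT₁ hT₂ (BasedFunctor.comp x₁ f) (BasedFunctor.comp x₂ f)
  have he' : e = Lib.AlgStack.BasedBasic.isoWhiskerRight (FibCat.fpIso x₁ x₂) f := by
    apply Iso.ext
    apply BasedNatTrans.ext
    ext a
    exact he a
  subst he'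
  obtain ⟨h1, h2, h3⟩ := Lib.Gerbe.Diag.diag_props h𝒳 h𝒴 f hf
  exact ⟨H14.Chart.Points.isSurjective_of_rep hB.isStack.1 (H14.Sep.Rep.cmp_of_diag x₁ x₂ h3),
    H14.Chart.LocQ.locQ_of_repByAlgSpWith H14.Chart.SmLocal.isSmoothLocalST_flat.precomp hA hB
      (H14.Sep.Rep.cmp_of_diag x₁ x₂ h1),
    H14.Chart.LocQ.locQ_of_repByAlgSpWith H14.Chart.SmLocal.isSmoothLocalST_lfp.precomp hA hB
      (H14.Sep.Rep.cmp_of_diag x₁ x₂ h2)⟩

end Groth.Agent.S16863
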