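import Groth.Statements.S16868
import Groth.Agent.Lib.Gerbe.OnePointInertia
import Groth.Agent.H14.Chart.UnivTop
import Groth.Agent.H14.Chart.SmLoc
import Groth.Agent.Lib.Gerbe.RedSub

set_option autoImplicit false
universe u
open CategoryTheory AlgebraicGeometry
open Gerb

namespace Groth.Agent.S16868

/-- If an algebraic stack is reduced, locally Noetherian and has a single point, then it is a gerbe,
along some morphism, over an algebraic space that is itself reduced, locally Noetherian and has a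
single point. -/
theorem result
    (S : Scheme.{u}) (𝒵 : AlgSt.Cat S) (h𝒵 : AlgSt.IsAlgStack Scheme.fppfPrecoverage 𝒵)
    (hred : AlgSt.SmoothLocally (fun T => IsReduced T) 𝒵)
    (hnoeth : AlgSt.SmoothLocally (fun T => IsLocallyNoetherian T) 𝒵)
    (hne : Nonempty (AlgSt.Points 𝒵)) (hsub : Subsingleton (AlgSt.Points 𝒵)) :
    ∃ (Z : AlgSp.Space S) (π : 𝒵 ⥤ᵇ AlgSt.ofSp Z.obj),
      Gerb.IsGerbeOver (QuotSh.J Scheme.fppfPrecoverage S) π ∧
        AlgSp.EtaleLocally (fun T => IsReduced T) Z.obj ∧ AlgSp.IsLocNoethSp Z.obj ∧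
        Nonempty (AlgSp.Points Z.obj) ∧ Subsingleton (AlgSp.Points Z.obj) := by
  obtain ⟨k₀, _, a₀, z₀, hs₀, hf₀⟩ := Lib.Gerbe.PointStack.exists_flat_point h𝒵 hred hne hsub
  obtain ⟨k, _, a, z, hl, hs, hf⟩ := Lib.Gerbe.PointStack.exists_lft_point h𝒵 hs₀ hf₀
  have hp := Lib.Gerbe.PointStack.lfp_of_lft h𝒵 hnoeth hl
  obtain ⟨h1, h2⟩ := Lib.Gerbe.OnePointInertia.inertia_props h𝒵 hf hp hs
  let Z : AlgSp.Space S := ⟨_, Lib.Gerbe.Rigid.isAlgSpace_base h𝒵 h1 h2⟩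
  let π : 𝒵 ⥤ᵇ AlgSt.ofSp Z.obj := Lib.Gerbe.Rigid.proj h𝒵.isStack.1
  have hπ : Gerb.IsGerbeOver (QuotSh.J Scheme.fppfPrecoverage S) π := Lib.Gerbe.Rigid.isGerbeOver_proj h𝒵.isStack.1
  have hZ := Lib.AlgStack.IsAlg.isAlgStack_ofSp Z
  have hK := H14.Chart.Basic.isAlgStack_overCat (Over.mk a)
  obtain ⟨q1, q2⟩ := Lib.Gerbe.Diag.locQ_flat_lfp h𝒵 hZ π hπ
  let w := BasedFunctor.comp z π
  have hw := H14.Chart.LocQ.repByAlgSp1_chart hZ w
  have hSF := H14.Chart.SmLocal.isSmoothLocalST_flat (S := S)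
  have hSP := H14.Chart.SmLocal.isSmoothLocalST_lfp (S := S)
  have eF := Lib.SourceDescent.Scheme.flat.{u}
  have eP := Lib.SourceDescent.Scheme.locallyOfFinitePresentation.{u}
  have hwf : AlgSt.RepByAlgSpWith (AlgSp.LocP @Flat) w :=
    H14.Chart.LocQ.repByAlgSpWith_of_locQ hSF (H14.Sep.SpProps.stableBC_locP eF) hK hZ hw
      (S13038.result S _ hSF (fun _ _ _ hA hB hC _ _ ha hb => Lib.AlgSpMor.LocP.locP_comp eF hA hB hC ha hb)
        _ _ _ hK h𝒵 hZ z π (H14.Chart.LocQ.locQ_of_repByAlgSpWith hSF.precomp hK h𝒵 hf) q1)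
  have hwp : AlgSt.RepByAlgSpWith (AlgSp.LocP @LocallyOfFinitePresentation) w :=
    H14.Chart.LocQ.repByAlgSpWith_of_locQ hSP (H14.Sep.SpProps.stableBC_locP eP) hK hZ hw
      (S13038.result S _ hSP (fun _ _ _ hA hB hC _ _ ha hb => Lib.AlgSpMor.LocP.locP_comp eP hA hB hC ha hb)
        _ _ _ hK h𝒵 hZ z π (H14.Chart.LocQ.locQ_of_repByAlgSpWith hSP.precomp hK h𝒵 hp) q2)
  have hπs : Function.Surjective (AlgSt.Points.map π) :=
    Lib.Gerbe.Surj.surjective h𝒵.isStack.1 hZ.isStack.1 π hπ.1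
  have hss : Subsingleton (AlgSt.Points (AlgSt.ofSp Z.obj)) := hπs.subsingleton
  have hws : AlgSt.RepByAlgSpWith AlgSp.IsSurjectiveMor w :=
    H14.Chart.Points.rep_of_isSurjective hZ.isStack.1 hK.isStack.1 hw fun q =>
      ⟨AlgSt.Points.ofChart (BasedFunctor.id _)
        (Classical.choice (inferInstanceAs (Nonempty (PrimeSpectrum k)))), Subsingleton.elim _ _⟩
  have hr : AlgSp.EtaleLocally (fun T => IsReduced T) Z.obj :=
    (H14.Chart.SmLoc.smoothLocally_ofSp_iff Lib.Gerbe.RedSub.isSmLocal_reduced Z).1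
      (Lib.Gerbe.PointStack.smoothLocally_reduced hZ hws hwf)
  have hn := Lib.Gerbe.PointStack.smoothLocally_noetherian hZ hws hwf hwp
  obtain ⟨U, p, he, hps⟩ := Z.property.atlas
  refine ⟨Z, π, hπ, hr, ⟨U, p, he, hps, hn U _ (H14.Chart.SmLoc.rep_etale_chart he hps).1⟩,
    hne.map fun x => H14.Chart.UnivTop.toSp Z (AlgSt.Points.map π x),
    (H14.Chart.UnivTop.surjective_toSp Z).subsingleton⟩

end Groth.Agent.S16868
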