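import Groth.Statements.S1687
import Groth.Agent.Lib.SurfInt.AffineCompl

set_option autoImplicit false
universe u
open CategoryTheory CategoryTheory.Limits AlgebraicGeometry TopologicalSpace
open SDiv

namespace Groth.Agent.S1687

/-- Let X be a Noetherian scheme with affine diagonal (the intersection of any two affine opens is
affine), U a dense affine open subset, and suppose the local ring of X at every point outside U is a
unique factorisation domain. Then there is an effective Cartier divisor whose support is exactly X
minus U. -/
theorem result (X : Scheme.{u}) [IsNoetherian X]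
    (hΔ : ∀ V W : X.Opens, IsAffineOpen V → IsAffineOpen W → IsAffineOpen (V ⊓ W)) (U : X.Opens) (hU : IsAffineOpen U)
    (hdense : Dense (U : Set ↥X))
    (hufd : ∀ x : ↥X, x ∉ U → IsDomain (X.presheaf.stalk x) ∧ UniqueFactorizationMonoid (X.presheaf.stalk x)) :
    ∃ 𝓘 : X.IdealSheafData, BlowUp.IsEffCartierIdeal 𝓘 ∧ (𝓘.support : Set ↥X) = (U : Set ↥X)ᶜ := by
  let I := Scheme.IdealSheafData.vanishingIdeal (X := X) ⟨((U : Set X))ᶜ, U.isOpen.isClosed_compl⟩
  refine ⟨I, Groth.Agent.Lib.SurfInt.AffineCompl.isEffCartier_compl
    hΔ hU hdense hufd, ?_⟩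
  exact Scheme.IdealSheafData.coe_support_vanishingIdeal _

end Groth.Agent.S1687
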