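import Groth.Statements.S16871
import Groth.Agent.Lib.Gerbe.Diag
import Groth.Agent.S10370
import Groth.Agent.H14.Chart.UnivTop
import Groth.Agent.Lib.AlgStack.RepOver

set_option autoImplicit false
universe u
open CategoryTheory AlgebraicGeometry
open Gerb

namespace Groth.Agent.S16871

/-- If an algebraic stack is a gerbe (over some algebraic space), then the residual gerbe exists at
every one of its points. (Non-triviality of the conclusion rests on the monomorphism condition.) -/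
theorem result
    (S : Scheme.{u}) (𝒳 : AlgSt.Cat S) (h𝒳 : AlgSt.IsAlgStack Scheme.fppfPrecoverage 𝒳)
    (X : AlgSp.Space S) (π : 𝒳 ⥤ᵇ AlgSt.ofSp X.obj)
    (hπ : Gerb.IsGerbeOver (QuotSh.J Scheme.fppfPrecoverage S) π) (x : AlgSt.Points 𝒳) :
    Gerb.ResGerbeExists Scheme.fppfPrecoverage 𝒳 x := by
  have hX := Lib.AlgStack.IsAlg.isAlgStack_ofSp X
  let y := H14.Chart.UnivTop.toSp X (AlgSt.Points.map π x)
  obtain ⟨Z, i, hi, hr, -⟩ := S10370.result X y
  have hZ := Lib.AlgStack.IsAlg.isAlgStack_ofSp Z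
  let g := AlgSt.ofSpMap i.hom
  let Q := FibCat.fp g π
  have hQ := H14.Chart.Basic.isAlgStack_fp hX hZ h𝒳 g π
  have hg : AlgSt.RepByAlgSpWith (MorphismProperty.monomorphisms (AlgSp.Sp S)) g :=
    H14.Sep.Rep.ofSpMap_of Z.property X.property i.hom fun U ξ P p q sq => by
      have := hi
      exact sq.mono_snd_of_mono
  have hinj : Function.Injective (AlgSt.Points.map π) :=
    H14.Chart.UnivInj.injective_map h𝒳.isStack.1 hX.isStack.1 (Lib.Gerbe.Diag.surjective_diag h𝒳 hX π hπ)
  have hh := Lib.Gerbe.Diag.isUnivHomeo h𝒳 hX π hπ _ hZ g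
  have key : ∀ z : AlgSp.Points Z.obj, AlgSp.Points.map i.hom z = y := fun z =>
    (Set.mem_singleton_iff).1 (hr.subset (Set.mem_range_self z))
  refine ⟨Q, FibCat.fpSnd g π, hQ, Lib.AlgStack.RepOver.repByAlgSpWith_fpSnd π hg, ?_, ⟨fun p q => ?_⟩, fun z => ?_⟩
  · obtain ⟨z, -⟩ : y ∈ Set.range (AlgSp.Points.map i.hom) := hr.symm ▸ Set.mem_singleton y
    obtain ⟨z', -⟩ := H14.Chart.UnivTop.surjective_toSp Z z
    obtain ⟨p, -⟩ := hh.bijective.2 z'
    exact ⟨p⟩
  · refine hh.bijective.1 (H14.Chart.UnivTop.injective_toSp Z ?_)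
    have := hi
    exact Lib.AlgSpace.injective_map_of_mono i.hom ((key _).trans (key _).symm)
  · refine hinj (H14.Chart.UnivTop.injective_toSp X ?_)
    rw [← H14.Chart.Basic.map_comp, ← H14.Chart.Basic.map_iso (FibCat.fpIso g π), H14.Chart.Basic.map_comp,
      H14.Chart.UnivTop.toSp_map]
    exact key _

end Groth.Agent.S16871
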