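import Groth.Statements.S16872
import Groth.Agent.Lib.Gerbe.GenFlat
import Groth.Agent.Lib.Gerbe.RedSub
import Groth.Agent.S16871
import Groth.Agent.S12868
import Groth.Agent.S12869

set_option autoImplicit false
universe u
open CategoryTheory AlgebraicGeometry
open Gerb

set_option backward.isDefEq.respectTransparency false
set_option backward.isDefEq.respectTransparency.types false

namespace Groth.Agent.S16872

/-- On an algebraic stack with quasi-compact inertia, the residual gerbe exists at every point.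
(Non-triviality of the conclusion rests on the monomorphism condition.) -/
theorem result
    (S : Scheme.{u}) (𝒳 : AlgSt.Cat S) (h𝒳 : AlgSt.IsAlgStack Scheme.fppfPrecoverage 𝒳)
    (hI : AlgSt.IsQuasiCompactMor Scheme.fppfPrecoverage (FibCat.inertiaToBase (FibCat.toSelf 𝒳)))
    (x : AlgSt.Points 𝒳) :
    Gerb.ResGerbeExists Scheme.fppfPrecoverage 𝒳 x := by
  obtain ⟨U, a, ha, has⟩ := h𝒳.atlas
  have hg := h𝒳.isStack.1
  let T : Set (AlgSt.Points 𝒳) := closure {x}
  let C : TopologicalSpace.Closeds ↥U.left :=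
    ⟨AlgSt.Points.ofChart a ⁻¹' T, isClosed_closure.preimage (H14.Chart.Points.continuous_ofChart h𝒳 a)⟩
  let I := Scheme.IdealSheafData.vanishingIdeal C
  let Z : Over S := Over.mk (I.subschemeι ≫ U.hom)
  let i : Z ⟶ U := Over.homMk I.subschemeι rfl
  have : IsClosedImmersion i.left := inferInstanceAs (IsClosedImmersion I.subschemeι)
  have : IsReduced Z.left := H75.RedSub.isReduced_vanishingIdeal C
  have hr : Set.range i.left = AlgSt.Points.ofChart a ⁻¹' T := by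
    show Set.range I.subschemeι = _
    rw [Scheme.IdealSheafData.range_subschemeι, Scheme.IdealSheafData.coe_support_vanishingIdeal]
    rfl
  obtain ⟨⟨-, hA, hci⟩, hrange, hred⟩ := Lib.Gerbe.RedSub.main h𝒳 ha has hr
  let Q := Lib.Gerbe.RedSub.sub a i
  let ι := AlgSt.subIncl 𝒳 Q
  have hιm : AlgSt.IsMono ι := Lib.AlgStack.Rep.repByAlgSpWith_mono hci fun _ _ _ _ _ h =>
    Lib.AlgSpace.mono_of_repWith (P := @IsClosedImmersion) (fun _ _ g (hg : IsClosedImmersion g) => inferInstance) h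
  have : ι.toFunctor.Full := inferInstanceAs (ObjectProperty.ι Q).Full
  have hinj : Function.Injective (AlgSt.Points.map ι) :=
    Lib.AlgStack.Points.injective_map hA.isStack.1 hg ι
  -- the inertia of the closed substack
  obtain ⟨Ψ, hΨ, ⟨eΨ⟩⟩ := Lib.Gerbe.GenFlat.exists_inertia_equiv (𝒳 := 𝒳)
    (Lib.Gerbe.RedSub.isClosedUnderIsomorphisms_sub a i)
  let d := FibCat.inertiaToBase (FibCat.toSelf 𝒳)
  have algI : ∀ {𝒴 : AlgSt.Cat S}, AlgSt.IsAlgStack Scheme.fppfPrecoverage 𝒴 →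
      AlgSt.IsAlgStack Scheme.fppfPrecoverage (FibCat.inertia (FibCat.toSelf 𝒴)) := fun h =>
    Lib.AlgStack.RepOver.isAlgStack_of_repByAlgSp1
      (Lib.Fibred.SelfOver.inertia_grpd h.isStack.1 Lib.Fibred.SelfOver.selfOver_grpd) h
      (Lib.AlgStack.Rep.repByAlgSp1_of_repByAlgSpWith
        (H14.Sep.Inertia.inertiaToBase_of_diag (H14.Sep.Lft.diag_toSelf_lft h)))
  have hIQ : AlgSt.IsQuasiCompactMor Scheme.fppfPrecoverage
      (FibCat.inertiaToBase (FibCat.toSelf (AlgSt.fullSub 𝒳 Q))) :=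
    H14.Chart.QC.isQuasiCompactMor_of_source
      (H14.Chart.Basic.isAlgStack_fp h𝒳 hA (algI h𝒳) ι d) (algI hA) hA hΨ eΨ
      (H14.Chart.QC.isQuasiCompactMor_fpFst (algI h𝒳) h𝒳 hA ι hI)
  obtain ⟨Q', hQ'o, hdense, X, π, hπ⟩ := Lib.Gerbe.GenFlat.main hA hred hIQ
  let ι' := AlgSt.subIncl (AlgSt.fullSub 𝒳 Q) Q'
  let V := Set.range (AlgSt.Points.map ι')
  have hV : IsOpen V := H14.Chart.OpenSub.isOpen_range hA hQ'o
  obtain ⟨-, hA', hoi⟩ := hQ'o
  have hx : x ∈ Set.range (AlgSt.Points.map ι) := hrange.symm.subset (subset_closure rfl)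
  obtain ⟨p₀, hp₀⟩ := hx
  obtain ⟨p, hp⟩ : V.Nonempty := by
    have : Nonempty (AlgSt.Points (AlgSt.fullSub 𝒳 Q)) := ⟨p₀⟩
    exact hdense.nonempty
  -- the chart of the closed substack
  let z : FibCat.overCat Z ⥤ᵇ AlgSt.fullSub 𝒳 Q :=
    { toFunctor := ObjectProperty.lift _ (BasedFunctor.comp (AlgSt.overMap i) a).toFunctor fun g =>
        (Lib.Gerbe.RedSub.sub_obj_iff h𝒳 ha hr _).2 ⟨g.hom, rfl⟩
      w := (BasedFunctor.comp (AlgSt.overMap i) a).w }
  have hz : ∀ w, AlgSt.Points.map ι (AlgSt.Points.ofChart z w) = AlgSt.Points.ofChart a (i.left w) :=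
    fun w => (H14.Chart.Points.map_ofChart ι z w).trans (H14.Chart.Points.ofChart_overMap i a w)
  have hmemT : ∀ q, AlgSt.Points.map ι q ∈ T := fun q => hrange.subset ⟨q, rfl⟩
  obtain ⟨u, hu⟩ := H14.Chart.Points.surjective_ofChart hg has (AlgSt.Points.map ι p)
  obtain ⟨w, rfl⟩ : u ∈ Set.range i.left := hr.symm.subset (by
    rw [Set.mem_preimage, hu]; exact hmemT p)
  have hw : AlgSt.Points.ofChart z w = p := hinj ((hz w).trans hu)
  have hW : IsOpen (AlgSt.Points.ofChart z ⁻¹' V) := hV.preimage (H14.Chart.Points.continuous_ofChart hA z)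
  obtain ⟨W', hW', hWW'⟩ := i.left.isClosedEmbedding.isInducing.isOpen_iff.1 hW
  have hop : IsOpen (AlgSt.Points.ofChart a '' W') := H14.Chart.Points.isOpenMap_ofChart hg ha _ hW'
  have hwW : i.left w ∈ W' := hWW'.symm.subset (show AlgSt.Points.ofChart z w ∈ V from hw.symm ▸ hp)
  obtain ⟨_, ⟨u', hu'W, rfl⟩, hu'x⟩ := mem_closure_iff.1 (hmemT p) _ hop ⟨i.left w, hwW, hu⟩
  rw [Set.mem_singleton_iff] at hu'x
  obtain ⟨w', rfl⟩ : u' ∈ Set.range i.left := hr.symm.subset (by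
    rw [Set.mem_preimage, hu'x]; exact subset_closure rfl)
  obtain ⟨r, hr'⟩ : AlgSt.Points.ofChart z w' ∈ V := hWW'.subset (show w' ∈ i.left ⁻¹' W' from hu'W)
  obtain ⟨𝒵, j, h𝒵, hj, hne, hsub, hjr⟩ := S16871.result S _ hA' X π hπ r
  have hι'm : AlgSt.IsMono ι' := Lib.AlgStack.Rep.repByAlgSpWith_mono hoi fun _ _ _ _ _ h =>
    Lib.AlgSpace.mono_of_repWith (P := @IsOpenImmersion) (fun _ _ g (hg : IsOpenImmersion g) => inferInstance) h
  refine ⟨𝒵, BasedFunctor.comp (BasedFunctor.comp j ι') ι, h𝒵,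
    S12869.result h𝒵 hA h𝒳 _ _ (S12869.result h𝒵 hA' hA _ _ hj hι'm) hιm, hne, hsub, fun q => ?_⟩
  rw [H14.Chart.Basic.map_comp, H14.Chart.Basic.map_comp, hjr q, hr', hz, hu'x]

end Groth.Agent.S16872
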