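import Groth.Statements.S16874
import Groth.Agent.Lib.Gerbe.MinPoint

set_option autoImplicit false
universe u
open CategoryTheory AlgebraicGeometry
open Gerb

namespace Groth.Agent.S16874

/-- On a locally Noetherian algebraic stack the residual gerbe exists at every point. (Non-triviality of
the conclusion rests on the monomorphism condition.) -/
theorem result
    (S : Scheme.{u}) (𝒳 : AlgSt.Cat S) (h𝒳 : AlgSt.IsAlgStack Scheme.fppfPrecoverage 𝒳)
    (hN : AlgSt.SmoothLocally (fun T => IsLocallyNoetherian T) 𝒳) (x : AlgSt.Points 𝒳) :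
    Gerb.ResGerbeExists Scheme.fppfPrecoverage 𝒳 x := by
  classical
  obtain ⟨U, y, hy, hys⟩ := h𝒳.atlas
  have : IsLocallyNoetherian U.left := hN U y hy
  obtain ⟨u, hu⟩ := H14.Chart.Points.surjective_ofChart h𝒳.isStack.1 hys x
  obtain ⟨O, hO, huO, -⟩ := exists_isAffineOpen_mem_and_subset (U := ⊤) (x := u) (Set.mem_univ _)
  have : IsNoetherianRing Γ(U.left, O) := IsLocallyNoetherian.component_noetherian ⟨O, hO⟩
  let j : Spec Γ(U.left, O) ⟶ U.left := hO.isoSpec.inv ≫ O.ι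
  let g : Over.mk (j ≫ U.hom) ⟶ U := Over.homMk j rfl
  let y' : FibCat.overCat (Over.mk (j ≫ U.hom)) ⥤ᵇ 𝒳 := BasedFunctor.comp (AlgSt.overMap g) y
  have hy' : AlgSt.RepByAlgSpWith (AlgSp.LocP @Smooth) y' :=
    Lib.AlgStack.IsAlgFp.comp_locP Lib.SourceDescent.Scheme.smooth (Lib.AlgStack.Yoneda.isFibGrpd_overCat _)
      (Lib.AlgStack.Yoneda.isFibGrpd_overCat _)
      (H14.Chart.Basic.rep_overMap_locP g Lib.SourceDescent.Scheme.smooth (inferInstanceAs (Smooth j))) hy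
  let E : Set (Ideal Γ(U.left, O)) := {I | ∃ q : PrimeSpectrum Γ(U.left, O), q.asIdeal = I ∧ AlgSt.Points.ofChart y' q = x}
  have hu' : j (hO.isoSpec.hom ⟨u, huO⟩) = u := by
    change (hO.isoSpec.hom ≫ hO.isoSpec.inv ≫ O.ι) ⟨u, huO⟩ = u
    rw [Iso.hom_inv_id_assoc]
    rfl
  have hE : E.Nonempty := ⟨_, hO.isoSpec.hom ⟨u, huO⟩, rfl, by
    rw [H14.Chart.Points.ofChart_overMap]
    exact (congrArg _ hu').trans hu⟩
  obtain ⟨I, ⟨p, rfl, hp⟩, hmax⟩ := set_has_maximal_iff_noetherian.2 inferInstance E hE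
  rw [← hp]
  refine Lib.Gerbe.MinPoint.resGerbeExists h𝒳 _ hy' p fun q hq he => PrimeSpectrum.ext ?_
  exact (eq_of_le_of_not_lt hq (hmax q.asIdeal ⟨q, rfl, he.trans hp⟩)).symm

end Groth.Agent.S16874
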