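import Groth.Statements.S1688
import Groth.Agent.Lib.RefHull.LocFree
-- import your own Groth.Agent.* helpers here

set_option autoImplicit false
universe u
open CategoryTheory CategoryTheory.Limits AlgebraicGeometry TopologicalSpace
open SDiv

namespace Groth.Agent.S1688

/-- Let X be a locally Noetherian integral scheme of dimension at most 1 all of whose local rings are
regular, and F a coherent module on X. Then F is torsion free (every stalk is a torsion-free module
over the local ring) if and only if F is finite locally free. -/
theorem result (X : Scheme.{u}) [IsIntegral X] [IsLocallyNoetherian X] (hreg : ∀ x : ↥X, IsRegularLocalRing (X.presheaf.stalk x))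
    (hdim : topologicalKrullDim ↥X ≤ 1) (F : X.Modules) (hF : Coh.IsCoh F) :
    (∀ x : ↥X, NoZeroSMulDivisors (X.presheaf.stalk x) (F.presheaf.stalk x)) ↔ FlatMod.IsFinLocFree F := by
  constructor
  · intro h
    refine Groth.Agent.Lib.RefHull.LocFree.isFinLocFree hF fun x => ?_
    haveI := hreg x
    haveI := h x
    haveI := Groth.Agent.Lib.RefHull.LocFree.finite_stalk hF x
    haveI := Groth.Agent.Lib.RefHull.LocFree.isPrincipalIdealRing_of_regular (X.presheaf.stalk x)
      ((Groth.Agent.Lib.Cyc.TorPD.ringKrullDim_stalk_le x).trans hdim)
    exact Module.free_of_finite_type_torsion_free'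
  · intro h x
    haveI := Groth.Agent.Lib.RefHull.LocFree.free_stalk h x
    exact noZeroSMulDivisors_iff_right_eq_zero_of_smul.mpr fun r hr m e =>
      (smul_eq_zero.mp e).resolve_left hr

end Groth.Agent.S1688
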