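import Groth.Statements.S16885
import Groth.Agent.Lib.Gerb.Local

set_option autoImplicit false
open CategoryTheory
universe v u
open Gerb
open Groth.Agent.Lib

namespace Groth.Agent.S16885

/-- Let `𝒮₁`, `𝒮₂` be categories over `C` and `F : 𝒮₁ ⟶ 𝒮₂` a functor over `C` which is an equivalence
in the 2-category of categories over `C`. Then, for a topology `J` on `C`, `𝒮₁` is a gerbe over the
site `(C, J)` if and only if `𝒮₂` is. -/
theorem result {C : Type u} [Category.{v} C] (J : GrothendieckTopology C)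
    {𝒮₁ 𝒮₂ : BasedCategory.{v, max u v} C} (F : 𝒮₁ ⥤ᵇ 𝒮₂) (hF : FibCat.IsEquivOver F) :
    Gerb.IsGerbe J 𝒮₁ ↔ Gerb.IsGerbe J 𝒮₂ := by
  have key : ∀ {A B : BasedCategory.{v, max u v} C} (G : A ⥤ᵇ B), FibCat.IsEquivOver G →
      Gerb.IsGerbe J A → Gerb.IsGerbe J B := by
    intro A B G hG hA
    have hB : Stk.IsStack J B := (Fibred.StackLemmas.isStack_iff_of_isEquivOver G J hG).mp hA.1
    refine ⟨hB, fun U => ?_, fun y y' b hb => ?_⟩
    · obtain ⟨R, hR, hl⟩ := hA.2.1 U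
      refine ⟨R, hR, fun V f hf => ?_⟩
      obtain ⟨x, g, hg⟩ := hl f hf
      refine ⟨G.obj x, eqToHom (G.w_obj x) ≫ g, ?_⟩
      have hV : A.p.obj x = V := @IsHomLift.domain_eq _ _ _ _ (FibCat.selfOver C).p _ _ _ _ f g hg
      refine IsHomLift.of_fac' (FibCat.selfOver C).p f _ ((G.w_obj x).trans hV) rfl ?_
      have e := @IsHomLift.fac' _ _ _ _ (FibCat.selfOver C).p _ _ _ _ f g hg
      change g = eqToHom hV ≫ f ≫ 𝟙 U at e
      change eqToHom (G.w_obj x) ≫ g = eqToHom ((G.w_obj x).trans hV) ≫ f ≫ 𝟙 U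
      rw [e]
      exact eqToHom_trans_assoc (G.w_obj x) hV _
    · have hy' : B.p.obj y' = B.p.obj y :=
        @IsHomLift.codomain_eq _ _ _ _ (FibCat.selfOver C).p _ _ _ _ (𝟙 (B.p.obj y)) b hb
      obtain ⟨ξ, e, he⟩ := Fibred.EquivOver.essSurjOver_of_isEquivOver hG y
      obtain ⟨ξ', e', he'⟩ := Fibred.EquivOver.essSurjOver_of_isEquivOver hG y'
      have hξ : A.p.obj ξ = B.p.obj y :=
        (G.w_obj ξ).symm.trans (IsHomLift.domain_eq B.p (𝟙 (B.p.obj y)) e.hom)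
      have hξ' : A.p.obj ξ' = B.p.obj y :=
        ((G.w_obj ξ').symm.trans (IsHomLift.domain_eq B.p (𝟙 (B.p.obj y')) e'.hom)).trans hy'
      have he'' : B.p.IsHomLift (𝟙 (B.p.obj y)) e'.hom :=
        Gerb.Local.isHomLift_id_congr hy' _ he'
      obtain ⟨R, hR, hl⟩ := Gerb.Local.locIso hA hξ hξ'
      refine ⟨R, hR, fun V f hf => ?_⟩
      obtain ⟨x₀, ψ, χ, hψ, hχ⟩ := hl f hf
      refine ⟨G.obj x₀, G.map ψ ≫ e.hom, G.map χ ≫ e'.hom, inferInstance, inferInstance, ?_⟩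
      have h1 : b = eqToHom hy'.symm := by
        have e := @IsHomLift.fac' _ _ _ _ (FibCat.selfOver C).p _ _ _ _ (𝟙 (B.p.obj y)) b hb
        change b = eqToHom rfl ≫ 𝟙 (B.p.obj y) ≫ eqToHom hy'.symm at e
        simpa using e
      have h2 : B.p.IsHomLift f (G.map ψ ≫ e.hom) := inferInstance
      have h3 : B.p.IsHomLift f (G.map χ ≫ e'.hom) := inferInstance
      rw [h1]
      change B.p.map (G.map ψ ≫ e.hom) ≫ eqToHom hy'.symm = B.p.map (G.map χ ≫ e'.hom)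
      rw [IsHomLift.fac' B.p f (G.map ψ ≫ e.hom), IsHomLift.fac' B.p f (G.map χ ≫ e'.hom)]
      simp
  obtain ⟨G, hG, -⟩ := Fibred.EquivOver.isEquivOver_inverse hF
  exact ⟨key F hF, key G hG⟩

end Groth.Agent.S16885
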