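import Groth.Statements.S16886
import Groth.Agent.Lib.Fibred.StackOver

set_option autoImplicit false
open CategoryTheory
universe v u
open Gerb

namespace Groth.Agent.S16886
open Groth.Agent.Lib.Fibred

/-- (2) ⇒ (1): let `𝒳`, `𝒴` be stacks in groupoids over the site `(C, J)` and `F : 𝒳 ⟶ 𝒴` a functor over
`C` making `𝒳` a gerbe over `𝒴` (objects of `𝒴` come from `𝒳` locally and morphisms between images
lift locally). Then for every factorization `F = a ⋙ F'` through a category `𝒳'` over `C` with `a :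
𝒳 ⟶ 𝒳'` an equivalence in the 2-category of categories over `C` and `F' : 𝒳' ⟶ 𝒴` a functor whose
underlying functor makes `𝒳'` fibred in groupoids over `𝒴`, the category `𝒳'` over `𝒴` (through
`F'`) is a gerbe over the site `𝒴` with the topology inherited from `J`. (Only this implication is
stated; the converse is asserted in the published item with its verification not carried out.) -/
theorem result {C : Type u} [Category.{v} C]
    (J : GrothendieckTopology C) {𝒳 𝒴 𝒳' : BasedCategory.{v, max u v} C}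
    (h𝒳 : Stk.IsStack J 𝒳) (h𝒴 : Stk.IsStack J 𝒴) (F : 𝒳 ⥤ᵇ 𝒴) (hF : Gerb.IsGerbeOver J F)
    (a : 𝒳 ⥤ᵇ 𝒳') (ha : FibCat.IsEquivOver a) (F' : 𝒳' ⥤ᵇ 𝒴) (hF' : FibCat.IsFibGrpd F'.toFunctor)
    (hfac : BasedFunctor.comp a F' = F) :
    Gerb.IsGerbe (𝒴.p.restrictedTopology J) (BasedCategory.ofFunctor F'.toFunctor) := by
  subst hfac
  have h' : Stk.IsStack J 𝒳' := (StackLemmas.isStack_iff_of_isEquivOver a J ha).mp h𝒳
  refine ⟨StackOver.isStack_over J h' h𝒴 F' hF', fun y => ?_, fun x x' b hb => ?_⟩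
  · let R : Sieve y :=
      { arrows := fun y' _ => ∃ x : 𝒳'.obj, F'.obj x = y'
        downward_closed := by
          rintro y₁ y₂ g ⟨x, rfl⟩ k
          obtain ⟨z, ψ, hψ⟩ := Restricted.exists_lift hF' (x := x) k
          exact ⟨z, IsHomLift.domain_eq F'.toFunctor k ψ⟩ }
    refine ⟨R, (Restricted.mem_restricted_iff h𝒴.1 J R).2 ?_, ?_⟩
    · obtain ⟨R₀, hR₀, hl⟩ := hF.1 y
      refine J.superset_covering (fun V f hf => ?_) hR₀
      obtain ⟨x, g, hg⟩ := hl f hf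
      exact (Restricted.pushforward_iff h𝒴.1 R f g).2 ⟨a.obj x, rfl⟩
    · rintro y' g ⟨x, rfl⟩
      exact ⟨x, g, IsHomLift.map (FibCat.selfOver 𝒴.obj).p g⟩
  · let y : 𝒴.obj := F'.obj x
    have hx' : F'.obj x' = y := @IsHomLift.codomain_eq _ _ _ _ (FibCat.selfOver 𝒴.obj).p _ _ _ _ (𝟙 y) b hb
    have hb' : b = eqToHom hx'.symm := by
      refine (@IsHomLift.fac' _ _ _ _ (FibCat.selfOver 𝒴.obj).p _ _ _ _ (𝟙 y) b hb).trans ?_
      change eqToHom rfl ≫ 𝟙 y ≫ eqToHom hx'.symm = eqToHom hx'.symm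
      simp
    let R : Sieve y :=
      { arrows := fun y' g => ∃ (x₀ : 𝒳'.obj) (φ : x₀ ⟶ x) (ψ : x₀ ⟶ x'),
          F'.toFunctor.IsHomLift g φ ∧ F'.toFunctor.IsHomLift g ψ ∧ F'.map φ ≫ eqToHom hx'.symm = F'.map ψ
        downward_closed := by
          rintro y₁ y₂ g ⟨x₀, φ, ψ, hφ, hψ, e⟩ k
          obtain ⟨z, θ, hθ⟩ := Restricted.exists_lift hF' (x := x₀) (k ≫ eqToHom (IsHomLift.domain_eq F'.toFunctor g φ).symm)
          have hθ' : F'.toFunctor.IsHomLift k θ := by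
            have e' := IsHomLift.fac' F'.toFunctor (k ≫ eqToHom (IsHomLift.domain_eq F'.toFunctor g φ).symm) θ
            exact IsHomLift.of_fac' _ _ _ (IsHomLift.domain_eq F'.toFunctor (k ≫ eqToHom (IsHomLift.domain_eq F'.toFunctor g φ).symm) θ) (IsHomLift.domain_eq F'.toFunctor g φ) (by rw [e']; simp)
          exact ⟨z, θ ≫ φ, θ ≫ ψ, inferInstance, inferInstance, by
            rw [F'.toFunctor.map_comp, Category.assoc, e, F'.toFunctor.map_comp]⟩ }
    refine ⟨R, (Restricted.mem_restricted_iff h𝒴.1 J R).2 ?_, ?_⟩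
    · let U := 𝒴.p.obj y
      obtain ⟨ξ, e, he⟩ := EquivOver.essSurjOver_of_isEquivOver ha x
      obtain ⟨ξ', e', he'⟩ := EquivOver.essSurjOver_of_isEquivOver ha x'
      have hU : 𝒳'.p.obj x = U := (F'.w_obj x).symm
      have hU' : 𝒳'.p.obj x' = U := (F'.w_obj x').symm.trans (congrArg 𝒴.p.obj hx')
      rw [hU] at he
      rw [hU'] at he'
      have hξ : 𝒳.p.obj ξ = U := (a.w_obj ξ).symm.trans (IsHomLift.domain_eq 𝒳'.p (𝟙 U) e.hom)
      have h1 : 𝒳'.p.IsHomLift (𝟙 U) e'.inv := IsHomLift.lift_id_inv 𝒳'.p U e'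
      have h2 : 𝒴.p.IsHomLift (𝟙 U) (F'.map e.hom) := BasedFunctor.preserves_isHomLift F' (𝟙 U) e.hom
      have h3 : 𝒴.p.IsHomLift (𝟙 U) (F'.map e'.inv) := BasedFunctor.preserves_isHomLift F' (𝟙 U) e'.inv
      have h4 : 𝒴.p.IsHomLift (𝟙 U) (eqToHom hx'.symm : y ⟶ F'.obj x') := IsHomLift.eqToHom_codomain_lift_id (p := 𝒴.p) hx'.symm ((F'.w_obj x').trans hU')
      let b₀ : F'.obj (a.obj ξ) ⟶ F'.obj (a.obj ξ') := F'.map e.hom ≫ eqToHom hx'.symm ≫ F'.map e'.inv
      have h5 : 𝒴.p.IsHomLift (𝟙 (𝒳.p.obj ξ)) b₀ := by rw [hξ]; infer_instance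
      obtain ⟨R₀, hR₀, hl⟩ := hF.2 ξ ξ' b₀ h5
      have hR₀' : R₀.pullback (eqToHom hξ.symm) ∈ J U := J.pullback_stable _ hR₀
      refine J.superset_covering (fun V f hf => ?_) hR₀'
      obtain ⟨x₀, φ, ψ, hφ, hψ, heq⟩ := hl _ hf
      have h6 : 𝒳'.p.IsHomLift (f ≫ eqToHom hξ.symm) (a.map φ) := BasedFunctor.preserves_isHomLift a _ φ
      have h7 : 𝒳'.p.IsHomLift ((f ≫ eqToHom hξ.symm) ≫ eqToHom hξ) (a.map φ ≫ e.hom) := by
        have : 𝒳'.p.IsHomLift (eqToHom hξ) e.hom := by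
          have := IsHomLift.fac' 𝒳'.p (𝟙 U) e.hom
          exact IsHomLift.of_fac' _ _ _ ((a.w_obj ξ)) hU (by rw [this]; simp)
        infer_instance
      rw [Category.assoc, eqToHom_trans, eqToHom_refl, Category.comp_id] at h7
      have h8 : 𝒴.p.IsHomLift f (F'.map (a.map φ ≫ e.hom)) := BasedFunctor.preserves_isHomLift F' f _
      refine (Restricted.pushforward_iff h𝒴.1 R f (F'.map (a.map φ ≫ e.hom))).2
        ⟨a.obj x₀, a.map φ ≫ e.hom, a.map ψ ≫ e'.hom, IsHomLift.map F'.toFunctor _, ?_, ?_⟩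
      all_goals
        have key : F'.map (a.map φ ≫ e.hom) ≫ eqToHom hx'.symm = F'.map (a.map ψ ≫ e'.hom) := by
          have hh : F'.map (a.map φ) ≫ b₀ = F'.map (a.map ψ) := heq
          rw [F'.toFunctor.map_comp, F'.toFunctor.map_comp, ← hh]
          simp only [b₀, Category.assoc]
          rw [← F'.toFunctor.map_comp e'.inv, e'.inv_hom_id, F'.toFunctor.map_id]
          simp
      · exact IsHomLift.of_fac' _ _ _ rfl hx' (by rw [← key]; simp)
      · exact key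
    · rintro y' g ⟨x₀, φ, ψ, hφ, hψ, e⟩
      exact ⟨x₀, φ, ψ, hφ, hψ, hb'.symm ▸ e⟩

end Groth.Agent.S16886
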