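import Groth.Statements.S1690
import Groth.Agent.Lib.RefHull.PushRefl
import Groth.Agent.Lib.RefHull.LocFree
-- import your own Groth.Agent.* helpers here

set_option autoImplicit false
universe u
open CategoryTheory CategoryTheory.Limits AlgebraicGeometry TopologicalSpace
open SDiv

namespace Groth.Agent.S1690

/-- (1) if and only if (3): let X be an integral locally Noetherian normal scheme and F a coherent
module. Then F is reflexive (stalkwise) if and only if there is an open subscheme j : U ⟶ X such
that every point outside U has local ring of dimension at least 2, the restriction of F to U is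
finite locally free, and the canonical map F ⟶ j_* j^* F is an isomorphism. -/
theorem result (X : Scheme.{u}) [IsIntegral X] [IsLocallyNoetherian X] (hX : Pi1.IsNormalScheme X)
    (F : X.Modules) (hF : Coh.IsCoh F) :
    (∀ x : ↥X, Module.IsReflexive (X.presheaf.stalk x) (F.presheaf.stalk x)) ↔
      ∃ U : X.Opens, (∀ x : ↥X, x ∉ U → (2 : WithBot ℕ∞) ≤ ringKrullDim (X.presheaf.stalk x)) ∧
        FlatMod.IsFinLocFree (F.restrict U.ι) ∧ IsIso ((Scheme.Modules.restrictAdjunction U.ι).unit.app F) := by
  open Groth.Agent.Lib Groth.Agent.Lib.RefHull in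
  have hgen : ∀ U : X.Opens, (∀ x : X, x ∉ U → (2 : WithBot ℕ∞) ≤ ringKrullDim (X.presheaf.stalk x)) →
      genericPoint ↥X ∈ U ∧ ∀ y : X, ringKrullDim (X.presheaf.stalk y) = 1 → y ∈ U := by
    intro U hU
    constructor
    · by_contra h
      have h2 := hU _ h
      have h0 : ringKrullDim X.functionField = 0 := ringKrullDim_eq_zero_of_field X.functionField
      change (2 : WithBot ℕ∞) ≤ ringKrullDim X.functionField at h2
      rw [h0] at h2
      exact absurd h2 (by decide)
    · intro y hy
      by_contra h
      have h2 := hU y h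
      rw [hy] at h2
      exact absurd h2 (by decide)
  constructor
  · intro h
    have hfree : ∀ x : X, ringKrullDim (X.presheaf.stalk x) ≤ 1 →
        Module.Free (X.presheaf.stalk x) (F.presheaf.stalk x) := fun x hx => by
      haveI := (hX x).2
      haveI := Groth.Agent.Lib.RefHull.LocFree.finite_stalk hF x
      haveI := Groth.Agent.Lib.RefHull.Generic.isPrincipalIdealRing_of_dim_le_one hX x hx
      haveI : Module.IsTorsionFree (X.presheaf.stalk x) (F.presheaf.stalk x) :=
        Module.isTorsionFree_iff_smul_eq_zero.mpr fun a v e => or_iff_not_imp_left.mpr fun ha =>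
          Groth.Agent.Lib.RefHull.DualAlg.smul_eq_zero_imp (h x).bijective_dual_eval'.1 ha e
      exact Module.free_of_finite_type_torsion_free'
    let U : X.Opens := ⟨_, Groth.Agent.Lib.RefHull.LocFree.isOpen_free hF⟩
    have hU : ∀ x : X, x ∉ U → (2 : WithBot ℕ∞) ≤ ringKrullDim (X.presheaf.stalk x) := fun x hx => by
      by_contra hlt
      refine hx (hfree x ?_)
      rw [not_le] at hlt
      revert hlt
      generalize ringKrullDim (X.presheaf.stalk x) = d
      intro hlt
      induction d with
      | bot => exact bot_le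
      | coe a =>
        have h2 : a < ((1 : ℕ∞) + 1) := by
          rw [one_add_one_eq_two]; exact WithBot.coe_lt_coe.mp hlt
        exact_mod_cast (ENat.lt_add_one_iff ENat.one_ne_top).mp h2
    refine ⟨U, hU, ?_, Groth.Agent.Lib.RefHull.PushU.isIso_unit_of_codim U hX (hgen U hU).1 (hgen U hU).2 hF h⟩
    haveI := isLocallyNoetherian_of_isOpenImmersion U.ι
    refine Groth.Agent.Lib.RefHull.LocFree.isFinLocFree
      (Groth.Agent.Lib.RefHull.LocFree.isCoh_restrict hF _) fun y => ?_
    exact @Groth.Agent.Lib.TensorMod.FPCrit.free_stalk_restrict _ _ _ _ F y y.2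
  · rintro ⟨U, hU, hfree, hiso⟩
    refine Groth.Agent.Lib.RefHull.PushRefl.isReflexive_of_isIso_unit U hF hiso (fun y hy => ?_)
      (Groth.Agent.Lib.RefHull.PushU.isIso_unit_of_codim U hX (hgen U hU).1 (hgen U hU).2
        (Groth.Agent.Lib.RefHull.Reflexive.isCoh_ddual hF)
        (Groth.Agent.Lib.RefHull.PushRefl.isReflexiveAt_ddual hF))
    haveI := isLocallyNoetherian_of_isOpenImmersion U.ι
    haveI := Groth.Agent.Lib.RefHull.LocFree.free_stalk hfree ⟨y, hy⟩
    haveI := Groth.Agent.Lib.RefHull.LocFree.finite_stalk
      (Groth.Agent.Lib.RefHull.LocFree.isCoh_restrict hF U) ⟨y, hy⟩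
    exact (Groth.Agent.Lib.RefHull.ReflRestrict.isReflexive_restrict_iff U.ι F ⟨y, hy⟩).mp inferInstance

end Groth.Agent.S1690
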