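import Groth.Statements.S16900
import Groth.Agent.H95.CycAlg.Main
import Groth.Agent.Lib.Regular.Quotient
import Mathlib.RingTheory.AdjoinRoot
import Mathlib.RingTheory.LocalProperties.Reduced
import Mathlib.FieldTheory.IsAlgClosed.Basic
import Mathlib.RingTheory.FiniteType
import Mathlib.RingTheory.RootsOfUnity.AlgebraicallyClosed

set_option autoImplicit false
universe u
open Polynomial
open Vanish

namespace Groth.Agent.S16900

set_option maxHeartbeats 1000000 in
/-- Let k be an algebraically closed field and B an integral domain of finite type over k all of whose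
localizations at primes are regular (an affine open Spec B of a manifold); let N ≥ 1 be invertible
in k, u a unit of B, α a natural number and f₁ ≠ 0 an element of B such that all local rings of
B/f₁B are regular (the divisor D₁ = V(f₁) is non-singular; f₁ may be a unit). With A' = B[t]/(t^N −
u·f₁^α) (the algebra of the N-th root of the section u·f₁^α) and K = A'[1/f₁], let A ⊆ K be the
B-subalgebra generated by the N elements t^i · f₁^(−⌊iα/N⌋), 0 ≤ i < N. Then A is finite over B, A
is the integral closure of A' in K (Spec A is the normalization of Spec A', finite and normal over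
Spec B), and Spec A is non-singular: every localization of A at a prime ideal is a regular local
ring. -/
theorem result (k : Type u) [Field k] [IsAlgClosed k]
    (B : Type u) [CommRing B] [IsDomain B] [Algebra k B] [Algebra.FiniteType k B]
    (hreg : ∀ (P : Ideal B) [P.IsPrime], IsRegularLocalRing (Localization.AtPrime P))
    (N : ℕ) (hN : 0 < N) (hNk : IsUnit ((N : ℕ) : k)) (u : Bˣ) (α : ℕ) (f₁ : B) (hf₁ : f₁ ≠ 0)
    (hD : ∀ (P : Ideal (B ⧸ Ideal.span ({f₁} : Set B))) [P.IsPrime], IsRegularLocalRing (Localization.AtPrime P))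
    (A : Subalgebra B (Localization.Away
      (algebraMap B (AdjoinRoot (X ^ N - C ((u : B) * f₁ ^ α) : B[X])) f₁)))
    (hA : A = Algebra.adjoin B (Set.range fun i : Fin N =>
      algebraMap (AdjoinRoot (X ^ N - C ((u : B) * f₁ ^ α) : B[X])) (Localization.Away
        (algebraMap B (AdjoinRoot (X ^ N - C ((u : B) * f₁ ^ α) : B[X])) f₁))
        (AdjoinRoot.root (X ^ N - C ((u : B) * f₁ ^ α) : B[X]) ^ (i : ℕ)) *
      IsLocalization.Away.invSelf (S := Localization.Away
        (algebraMap B (AdjoinRoot (X ^ N - C ((u : B) * f₁ ^ α) : B[X])) f₁))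
        (algebraMap B (AdjoinRoot (X ^ N - C ((u : B) * f₁ ^ α) : B[X])) f₁) ^ ((i : ℕ) * α / N))) :
    Module.Finite B A ∧
      IsIntegralClosure A (AdjoinRoot (X ^ N - C ((u : B) * f₁ ^ α) : B[X]))
        (Localization.Away (algebraMap B (AdjoinRoot (X ^ N - C ((u : B) * f₁ ^ α) : B[X])) f₁)) ∧
      ∀ (Q : Ideal A) [Q.IsPrime], IsRegularLocalRing (Localization.AtPrime Q) := by
  classical
  let c : B := (u : B) * f₁ ^ α
  let p : B[X] := X ^ N - C c
  have hp : p = X ^ N - C c := rfl
  have hpm : p.Monic := monic_X_pow_sub_C c hN.ne'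
  have hdeg : p.natDegree = N := natDegree_X_pow_sub_C
  let pb := AdjoinRoot.powerBasis' hpm
  have hpbdim : pb.dim = N := hdeg
  haveI hfree : Module.Free B (AdjoinRoot p) := Module.Free.of_basis pb.basis
  haveI : IsNoetherianRing B := Algebra.FiniteType.isNoetherianRing k B
  haveI : Module.Finite B (AdjoinRoot p) := pb.finite
  let f' := algebraMap B (AdjoinRoot p) f₁
  have hf' : f' = algebraMap B (AdjoinRoot p) f₁ := rfl
  let K := Localization.Away f'
  have hnz : f' ∈ nonZeroDivisors (AdjoinRoot p) := by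
    rw [mem_nonZeroDivisors_iff_right]
    intro x hx
    rw [mul_comm, hf', ← Algebra.smul_def] at hx
    exact (smul_eq_zero.mp hx).resolve_left hf₁
  have hinjK : Function.Injective (algebraMap (AdjoinRoot p) K) :=
    IsLocalization.injective K (Submonoid.powers_le.mpr hnz)
  have htow : ∀ b : B, algebraMap B K b = algebraMap (AdjoinRoot p) K (algebraMap B (AdjoinRoot p) b) :=
    fun b => IsScalarTower.algebraMap_apply B (AdjoinRoot p) K b
  let t : K := algebraMap (AdjoinRoot p) K (AdjoinRoot.root p)
  have hv : algebraMap B K f₁ * IsLocalization.Away.invSelf (S := K) f' = 1 := by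
    rw [htow]; exact IsLocalization.Away.mul_invSelf f'
  have hrootN : AdjoinRoot.root p ^ N = algebraMap B (AdjoinRoot p) c := by
    have := AdjoinRoot.eval₂_root p
    rw [hp, eval₂_sub, eval₂_pow, eval₂_X, eval₂_C, sub_eq_zero] at this
    exact this
  have ht : t ^ N = algebraMap B K c := by rw [← map_pow, hrootN, ← htow]
  have hred : ∀ (x : B) (n : ℕ), f₁ ∣ x ^ n → f₁ ∣ x := by
    intro x n hx
    haveI : IsReduced (B ⧸ Ideal.span ({f₁} : Set B)) :=
      isReduced_ofLocalizationMaximal _ fun J hJ => by
        haveI := hD J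
        haveI := Groth.Agent.Lib.Regular.Quotient.isDomain (Localization.AtPrime J)
        infer_instance
    rw [← Ideal.mem_span_singleton, ← Ideal.Quotient.eq_zero_iff_mem] at hx ⊢
    rw [map_pow] at hx
    exact IsNilpotent.eq_zero ⟨n, hx⟩
  have hli : LinearIndependent B fun j : Fin N => t ^ (j : ℕ) := by
    have h1 : LinearIndependent B fun j : Fin N => AdjoinRoot.root p ^ (j : ℕ) := by
      have h2 := pb.basis.linearIndependent.comp (Fin.cast hpbdim.symm) (Fin.cast_injective _)
      simpa [Function.comp_def, pb] using h2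
    have h3 := h1.map' (IsScalarTower.toAlgHom B (AdjoinRoot p) K).toLinearMap
      (LinearMap.ker_eq_bot.mpr hinjK)
    simpa [Function.comp_def, t] using h3
  have hspan : ∀ x : K, ∃ (m : ℕ) (b : Fin N → B),
      algebraMap B K (f₁ ^ m) * x = ∑ j, algebraMap B K (b j) * t ^ (j : ℕ) := by
    intro x
    obtain ⟨m, a, hma⟩ := IsLocalization.Away.surj f' x
    refine ⟨m, fun j => pb.basis.repr a (Fin.cast hpbdim.symm j), ?_⟩
    rw [map_pow, htow, ← hf', mul_comm, hma]
    conv_lhs => rw [← pb.basis.sum_repr a]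
    rw [map_sum, ← (finCongr hpbdim.symm).sum_comp]
    refine Finset.sum_congr rfl fun j _ => ?_
    rw [Algebra.smul_def, map_mul, ← htow]
    simp [t, pb, finCongr]
  let D : H95.CycAlg.Integral.Datum B K :=
    { f := f₁, u := u, N := N, α := α, t := t, v := IsLocalization.Away.invSelf f'
      hN := hN, hf := hf₁, hv := hv, ht := ht, hred := hred, hspan := hspan, hli := hli }
  have hgen : A = Algebra.adjoin B (Set.range D.e) := by
    rw [hA]
    refine congrArg _ (congrArg Set.range (funext fun i => ?_))
    change _ = (algebraMap (AdjoinRoot p) K (AdjoinRoot.root p)) ^ (i : ℕ) * (IsLocalization.Away.invSelf (S := K) f') ^ ((i : ℕ) * α / N)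
    rw [← map_pow]
  haveI : NeZero (N : k) := ⟨hNk.ne_zero⟩
  obtain ⟨ζ₀, hζ₀⟩ := HasEnoughRootsOfUnity.exists_primitiveRoot k N
  have hζ : IsPrimitiveRoot (algebraMap k B ζ₀) N :=
    hζ₀.map_of_injective (algebraMap k B).injective
  have hNB : IsUnit ((N : ℕ) : B) := by
    rw [← map_natCast (algebraMap k B)]; exact hNk.map _
  have hσ : ∀ l : ℕ, ∃ σ : K →ₐ[B] K, σ t = algebraMap B K (algebraMap k B ζ₀ ^ l) * t := by
    intro l
    let φ : AdjoinRoot p →ₐ[B] K :=
      AdjoinRoot.liftAlgHom p (Algebra.ofId B K) (algebraMap B K (algebraMap k B ζ₀ ^ l) * t) (by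
        simp only [hp, eval₂_sub, eval₂_pow, eval₂_X, eval₂_C]
        rw [mul_pow, ← map_pow, ← pow_mul, mul_comm l, pow_mul, hζ.pow_eq_one, one_pow, map_one,
          one_mul, ht]
        exact sub_self _)
    have hφu : ∀ y : Submonoid.powers f', IsUnit (φ y) := by
      rintro ⟨y, m, rfl⟩
      simp only [map_pow]
      refine IsUnit.pow m ?_
      change IsUnit (φ (algebraMap B (AdjoinRoot p) f₁))
      rw [φ.commutes]
      exact IsUnit.of_mul_eq_one _ hv
    refine ⟨IsLocalization.liftAlgHom hφu, ?_⟩
    change IsLocalization.liftAlgHom hφu (algebraMap (AdjoinRoot p) K (AdjoinRoot.root p)) = _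
    rw [IsLocalization.liftAlgHom_apply, IsLocalization.lift_eq]
    exact AdjoinRoot.liftAlgHom_root p _ _ _
  have hmem : ∀ x, x ∈ A ↔ IsIntegral B x := by
    intro x
    constructor
    · intro hx
      rw [hgen] at hx
      exact (Algebra.adjoin_le (S := integralClosure B K) (by rintro _ ⟨j, rfl⟩; exact D.isIntegral_e j)) hx
    · intro hx
      rw [hgen]
      exact Algebra.span_le_adjoin B _ (D.mem_span_of_isIntegral hζ hNB hσ x hx)
  have hsub : Subalgebra.toSubmodule A = Submodule.span B (Set.range D.e) := by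
    refine le_antisymm (fun x hx => D.mem_span_of_isIntegral hζ hNB hσ x ((hmem x).mp hx))
      (Submodule.span_le.mpr ?_)
    rintro _ ⟨j, rfl⟩
    exact (hmem _).mpr (D.isIntegral_e j)
  haveI : Module.Free B A := Module.Free.of_equiv
    (((Module.Basis.span D.li_e).equivFun.symm.trans (LinearEquiv.ofEq _ _ hsub.symm)))
  haveI hfin : Module.Finite B A := Module.Finite.equiv
    (((Module.Basis.span D.li_e).equivFun.symm.trans (LinearEquiv.ofEq _ _ hsub.symm)))
  haveI : IsNoetherianRing A := IsNoetherianRing.of_finite B A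
  refine ⟨hfin, ⟨Subtype.val_injective, fun {x} => ?_⟩, fun Q _ => ?_⟩
  · refine ⟨fun hx => ⟨⟨x, (hmem x).mpr (isIntegral_trans (R := B) x hx)⟩, rfl⟩, ?_⟩
    rintro ⟨y, rfl⟩
    exact ((hmem _).mp y.2).tower_top
  · exact H95.CycAlg.Main.isRegularLocalRing D A hmem hgen hreg hD hNB Q

end Groth.Agent.S16900
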