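import Groth.Statements.S16901
import Groth.Agent.Lib.PosLin.Volume

set_option autoImplicit false
universe u
open CategoryTheory CategoryTheory.Limits AlgebraicGeometry
open Vanish

namespace Groth.Agent.S16901

/-- Let k be an algebraically closed field and X an integral proper k-scheme of dimension n with an
ample invertible O_X-module (a projective variety, not assumed non-singular), and let L be an
invertible O_X-module. The Iitaka dimension of L is n, in the growth form the text adopts as its
working definition (for some ν > 0 there is a constant a > 0 with μ^n ≤ a · dim_k H^0(X, L^⊗νμ) for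
all μ ≥ 1), if and only if for some ν > 0 there are an ample invertible module A and a monomorphism
A → L^⊗ν (that is, L^⊗ν(−C) is ample for some effective divisor C). -/
theorem result (k : Type u) [Field k] [IsAlgClosed k]
    (X : Scheme.{u}) [X.Over (Spec (CommRingCat.of k))] [IsIntegral X] [IsProper (X ↘ Spec (CommRingCat.of k))]
    (n : ℕ) (hn : topologicalKrullDim X = n) (H : X.Modules) (hH : CohB1.IsAmple H)
    (L : X.Modules) (hL : PicF.IsInvertible L) :
    (∃ ν a : ℕ, 0 < ν ∧ 0 < a ∧ ∀ μ : ℕ, 1 ≤ μ →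
        μ ^ n ≤ a * Module.finrank k (Coh.HH X (CohB1.tensorPow L (ν * μ)) 0)) ↔
      ∃ (ν : ℕ) (A : X.Modules) (φ : A ⟶ CohB1.tensorPow L ν), 0 < ν ∧ CohB1.IsAmple A ∧ Mono φ := by
  haveI := Lib.Curves.GlobalSections.isNoetherian_of_proper k X
  constructor
  · rintro ⟨ν, a, hν, -, hg⟩
    obtain ⟨m, hm, hs⟩ := Lib.PosLin.Kodaira.exists_sections (k := k) hn hH hL
      (Lib.PosLin.Kodaira.unbdd_of_growth (k := k) (μ₀ := 1) hν hg) hH.1
    obtain ⟨φ, hφ⟩ := Lib.PosLin.Kodaira.exists_mono (k := k) hH.1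
      (Lib.TensorMod.Invertible.isInvertible_tensorPow hL m) hs
    exact ⟨m, H, φ, hm, hH, hφ⟩
  · rintro ⟨ν, A, φ, hν, hA, hφ⟩
    obtain ⟨a, μ₀, ha, hg⟩ := Lib.PosLin.Kodaira.growth_of_sections (k := k) hn hA hL
      (Lib.PosLin.Kodaira.h0_pos_of_mono (k := k) hA.1
        (Lib.TensorMod.Invertible.isInvertible_tensorPow hL ν) φ)
    refine ⟨ν * (μ₀ + 1), a, Nat.mul_pos hν μ₀.succ_pos, ha, fun μ hμ => ?_⟩
    rw [mul_assoc]
    exact (Nat.pow_le_pow_left (Nat.le_mul_of_pos_left μ μ₀.succ_pos) n).trans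
      (hg _ ((Nat.le_succ μ₀).trans (Nat.le_mul_of_pos_right _ hμ)))

end Groth.Agent.S16901
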