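import Groth.Statements.S16903
import Groth.Agent.Lib.Nakai.NumTrivial
import Groth.Agent.H97.AsympRR
import Groth.Agent.Lib.TensorMod.TensorInv

set_option autoImplicit false
universe u
open CategoryTheory CategoryTheory.Limits AlgebraicGeometry
open Vanish

namespace Groth.Agent.S16903

/-- Let k be an algebraically closed field of characteristic zero and X an irreducible proper smooth
k-scheme of dimension n with an ample invertible O_X-module (a projective manifold); let L be a
numerically effective invertible O_X-module with tensor inverse L⁻¹ and m a natural number such that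
c_1(L)^m is numerically trivial, i.e. the intersection number (L^m · V) = ∫ c_1(L)^m [O_V] vanishes
for every integral closed subscheme V ⊆ X of dimension m. Then κ(L) < m, in the growth form: there
are no ν > 0 and a > 0 with μ^m ≤ a · dim_k H^0(X, L^⊗νμ) for all μ ≥ 1. (This expresses ν(L) ≥
κ(L); only the characteristic-zero case is stated.) -/
theorem result (k : Type u) [Field k] [IsAlgClosed k] [CharZero k]
    (X : Scheme.{u}) [X.Over (Spec (CommRingCat.of k))] [IsProper (X ↘ Spec (CommRingCat.of k))]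
    [Smooth (X ↘ Spec (CommRingCat.of k))] [IrreducibleSpace X] (n : ℕ) (hn : topologicalKrullDim X = n)
    (H : X.Modules) (hH : CohB1.IsAmple H) (L Linv : X.Modules) (hL : PicF.IsInvertible L) (hLinv : ClSub.IsInverseOf Linv L)
    (hnef : (∀ (Y : Scheme.{u}) (i : Y ⟶ X) [IsClosedImmersion i], IsIntegral Y → topologicalKrullDim Y = 1 →
      0 ≤ Pic13.curveDeg k (i ≫ (X ↘ Spec (CommRingCat.of k))) ((Scheme.Modules.pullback i).obj L)))
    (m : ℕ) (hm : (∀ (V : Scheme.{u}) (i : V ⟶ X) [IsClosedImmersion i], IsIntegral V → topologicalKrullDim V = (m : ℕ) →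
      FGA.intNum k X n (fun _ : Fin m => Linv) ((Scheme.Modules.pushforward i).obj (Coh.structureModule V)) = 0)) :
    ¬ (∃ ν a : ℕ, 0 < ν ∧ 0 < a ∧ ∀ μ : ℕ, 1 ≤ μ →
        μ ^ m ≤ a * Module.finrank k (Coh.HH X (CohB1.tensorPow L (ν * μ)) 0)) := by
  have hN : topologicalKrullDim X ≤ (n : ℕ) := hn.le
  haveI := Lib.Curves.GlobalSections.isNoetherian_of_proper k X
  have hnef' := Lib.Nakai.NefConv.nef_of_curves (k := k) hN hL hnef
  obtain ⟨e⟩ := hLinv
  have hLi := Lib.TensorMod.TensorInv.isInvertible_of_tensor_iso e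
  have htriv : Lib.Nakai.NumTrivial.Triv k n L m := fun z hz => by
    have hd : topologicalKrullDim (closure ({z} : Set X)) = (m : ℕ) :=
      (Lib.Nakai.Cut.dim_closure z).trans (congrArg Nat.cast hz)
    have h := hm (IntMult.ptIdeal z).subscheme (IntMult.ptIdeal z).subschemeι
      (Lib.IntTheory.Curves.isIntegral_ptIdeal z) ((Lib.IntTheory.Curves.dim_ptIdeal z).trans hd)
    rw [Lib.Snapper.IntNum.intNum_eq_sym, List.ofFn_const] at h
    have h' := H97.AsympRR.sym_replicate_inverse k hN hL hLi (Lib.TensorMod.Basic.comm L Linv ≪≫ e)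
      (Lib.Devissage.Closure.isCoh_closureStructureSheaf z) m [] (by simp)
      (by
        rw [List.length_nil, Nat.zero_add]
        exact (Lib.Devissage.Dim.dim_mono
          (Lib.Devissage.Closure.support_closureStructureSheaf z)).trans hd.le)
    simp only [List.append_nil] at h'
    rw [Lib.Nakai.Cut.ip, List.length_replicate]
    exact h'.symm.trans h
  rintro ⟨ν, a, hν, ha, hg⟩
  rcases Nat.eq_zero_or_pos m with rfl | hm0
  · obtain ⟨x, -, hx⟩ := (isClosed_univ (X := X)).exists_closed_singleton Set.univ_nonempty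
    exact absurd (htriv x ((Lib.VarDim.Basic.pdim_eq_zero_iff _ x).2 hx))
      (Lib.Nakai.Cut.ip_nil_pos (k := k) hN ((Lib.VarDim.Basic.pdim_eq_zero_iff _ x).2 hx)).ne'
  obtain ⟨K, hK⟩ := Lib.Nakai.NumTrivial.exists_bound (k := k) hN hL hnef' hH hm0 htriv
    (Lib.Snapper.Twist.isCoh_structureModule X)
  set μ := a * K * (2 * ν) ^ (m - 1) + 1 with hμ
  have h1 := hg μ (by omega)
  have h2 := (Lib.PosLin.SectionBound.h0_congr (k := k)
    (Lib.TensorMod.Basic.rightUnit (CohB1.tensorPow L (ν * μ)))).ge.trans (hK (ν * μ))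
  have h3 : (ν * μ + 1) ^ (m - 1) ≤ (2 * ν) ^ (m - 1) * μ ^ (m - 1) := by
    rw [← mul_pow]
    refine Nat.pow_le_pow_left ?_ _
    have : 1 ≤ ν * μ := Nat.mul_pos hν (by omega)
    rw [mul_assoc]; omega
  have h4 : μ * μ ^ (m - 1) ≤ a * K * (2 * ν) ^ (m - 1) * μ ^ (m - 1) := by
    rw [← pow_succ', show m - 1 + 1 = m by omega]
    calc μ ^ m ≤ a * _ := h1
      _ ≤ a * (K * (ν * μ + 1) ^ (m - 1)) := Nat.mul_le_mul_left a h2
      _ ≤ a * (K * ((2 * ν) ^ (m - 1) * μ ^ (m - 1))) :=
        Nat.mul_le_mul_left a (Nat.mul_le_mul_left K h3)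
      _ = _ := by ring
  have := Nat.le_of_mul_le_mul_right h4 (pow_pos (by omega) _)
  omega

end Groth.Agent.S16903
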