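import Groth.Statements.S16904
import Groth.Agent.Lib.SemiampleKappa96.Main
import Groth.Agent.S16903
-- import your own Groth.Agent.* helpers here

set_option autoImplicit false
set_option linter.style.haveILetI false
universe u
open CategoryTheory CategoryTheory.Limits AlgebraicGeometry
open Vanish

namespace Groth.Agent.S16904

/-- Let k be an algebraically closed field of characteristic zero and X an irreducible proper smooth
k-scheme of dimension n with an ample invertible O_X-module (a projective manifold); let L be a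
semi-ample invertible O_X-module (some L^⊗μ with μ > 0 is globally generated; such L is numerically
effective) with tensor inverse L⁻¹. Then for every natural number m, c_1(L)^m is numerically trivial
— (L^m · V) = 0 for every integral closed subscheme V ⊆ X of dimension m — if and only if κ(L) < m
in the growth form: there are no ν > 0 and a > 0 with μ^m ≤ a · dim_k H^0(X, L^⊗νμ) for all μ ≥ 1.
(This expresses ν(L) = κ(L) for semi-ample L; characteristic zero only.) -/
theorem result (k : Type u) [Field k] [IsAlgClosed k] [CharZero k]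
    (X : Scheme.{u}) [X.Over (Spec (CommRingCat.of k))] [IsProper (X ↘ Spec (CommRingCat.of k))]
    [Smooth (X ↘ Spec (CommRingCat.of k))] [IrreducibleSpace X] (n : ℕ) (hn : topologicalKrullDim X = n)
    (H : X.Modules) (hH : CohB1.IsAmple H) (L Linv : X.Modules) (hL : PicF.IsInvertible L) (hLinv : ClSub.IsInverseOf Linv L)
    (hsa : ∃ μ : ℕ, 0 < μ ∧ Curv2.IsGloballyGenerated (CohB1.tensorPow L μ))
    (m : ℕ) :
    (∀ (V : Scheme.{u}) (i : V ⟶ X) [IsClosedImmersion i], IsIntegral V → topologicalKrullDim V = (m : ℕ) →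
      FGA.intNum k X n (fun _ : Fin m => Linv) ((Scheme.Modules.pushforward i).obj (Coh.structureModule V)) = 0) ↔ ¬ (∃ ν a : ℕ, 0 < ν ∧ 0 < a ∧ ∀ μ : ℕ, 1 ≤ μ →
        μ ^ m ≤ a * Module.finrank k (Coh.HH X (CohB1.tensorPow L (ν * μ)) 0)) := by
  obtain ⟨μ₀, hμ₀, hgg⟩ := hsa
  have hN : topologicalKrullDim X ≤ (n : ℕ) := hn.le
  haveI := Lib.Curves.GlobalSections.isNoetherian_of_proper k X
  obtain ⟨e⟩ := hLinv
  have hLi := Lib.TensorMod.TensorInv.isInvertible_of_tensor_iso e
  refine ⟨fun htriv => ?_, fun hno V i _ hV hVd => ?_⟩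
  · refine Groth.Agent.S16903.result k X n hn H hH L Linv hL ⟨e⟩ (fun Y j _ hY hYd => ?_) m htriv
    exact Lib.Nakai.NefConv.curveDeg_nonneg (k := k) hN hL
      (Lib.SemiampleKappa96.nef_of_semiample (k := k) hN hL hμ₀ hgg) j hYd.le
  · have htr := Lib.SemiampleKappa96.triv_of_not_growth (k := k) hN hL hH hμ₀ hgg m hno
    have hl : ∀ M ∈ List.replicate m L, PicF.IsInvertible M :=
      fun M hM => List.eq_of_mem_replicate hM ▸ hL
    haveI : IsLocallyNoetherian V := LocallyOfFiniteType.isLocallyNoetherian i
    have hcoh : Coh.IsCoh ((Coh.push i).obj (Coh.structureModule V)) :=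
      Lib.Cyc.Dev.SchemeEquiv.isCoh_push i (Lib.Snapper.Twist.isCoh_structureModule V)
    let T : TopologicalSpace.Closeds X := ⟨Set.range i, i.isClosedEmbedding.isClosed_range⟩
    have hT : topologicalKrullDim (T : Set X) ≤ (m : ℕ) :=
      (i.isClosedEmbedding.isEmbedding.toHomeomorph.isHomeomorph.topologicalKrullDim_eq).symm.le.trans
        hVd.le
    have hsupp : CohB1.support ((Coh.push i).obj (Coh.structureModule V)) ⊆ T := by
      rw [Lib.IntTheory.Positive.support_push]
      exact Set.image_subset_range _ _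
    change FGA.intNum k X n (fun _ : Fin m => Linv) ((Coh.push i).obj (Coh.structureModule V)) = 0
    rw [Lib.Snapper.IntNum.intNum_eq_sym, List.ofFn_const]
    have h' := H97.AsympRR.sym_replicate_inverse k hN hL hLi (Lib.TensorMod.Basic.comm L Linv ≪≫ e)
      hcoh m [] (by simp) (by
        rw [List.length_nil, Nat.zero_add]
        exact (Lib.Devissage.Dim.dim_mono hsupp).trans hT)
    simp only [List.append_nil] at h'
    rw [h', Lib.IntTheory.Additive.eq_sum
      (Lib.IntTheory.Additive.isAdd_sym (Lib.Snapper.Finite.cohFinite k X) hN hl)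
      (Lib.IntTheory.Additive.vanishBelow_sym (Lib.Snapper.Finite.cohFinite k X) hN hl
        List.length_replicate) hcoh (T := T) hsupp hT]
    refine mul_eq_zero_of_right _ (Finset.sum_eq_zero fun z hz => mul_eq_zero_of_right _ ?_)
    obtain ⟨-, hzd⟩ := (Set.Finite.mem_toFinset _).1 hz
    rw [Lib.Nakai.Cut.dim_closure (k := k) z] at hzd
    have h0 := htr z (by exact_mod_cast hzd)
    rw [Lib.Nakai.Cut.ip, List.length_replicate] at h0
    exact (mul_eq_zero.mp h0).resolve_left (pow_ne_zero _ (by norm_num))

end Groth.Agent.S16904
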