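import Groth.Statements.S16909
import Groth.Agent.Lib.Ample.IdealCrit
import Groth.Agent.Lib.Ample.QAffCrit
import Groth.Agent.Lib.Ample.RelAmple
import Groth.Agent.Lib.TensorMod.TensorQCoh
-- import your own Groth.Agent.* helpers here

set_option autoImplicit false
universe u
open CategoryTheory CategoryTheory.Limits AlgebraicGeometry
open ResProp

namespace Groth.Agent.S16909

/-- Let `X` be a quasi-compact and quasi-separated scheme on which every quasi-coherent module is
globally generated (a quotient of a free module on some index type, i.e. the structure sheaf is a
generating family). Then `X` is quasi-affine. No separatedness hypothesis is made; it follows. (The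
published statement is for an algebraic stack over an algebraic space with affine stabilizer groups
at closed points and concludes that it is representable by a quasi-affine morphism; that general
case rests on results outside this text, and this row is the final step of its proof, the case of a
scheme.) -/
theorem result (X : Scheme.{u}) [CompactSpace X]
    [QuasiSeparatedSpace X] (h : ∀ M : X.Modules, Coh.IsQCoh M → Curv2.IsGloballyGenerated M) :
    X.IsQuasiAffine := by
  refine Lib.Ample.RelAmple.isQuasiAffine_of_isAmple_structure (Lib.Ample.IdealCrit.isAmple _
    (PicLoc.isInvertible_structureModule X) fun I _ => ⟨0, h _ ?_⟩)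
  have := Lib.Ample.QAffCrit.isQCoh_idealMod I
  have : (Coh.structureModule X).IsQuasicoherent :=
    Lib.TensorMod.QCohInv.isQCoh_structureModule X
  have : (CohB1.tensorPow (Coh.structureModule X) (0 + 1)).IsQuasicoherent :=
    Lib.TensorMod.QCohInv.isQCoh_of_isInvertible
      (Lib.TensorMod.Invertible.isInvertible_tensorPow (PicLoc.isInvertible_structureModule X) _)
  exact Lib.TensorMod.TensorQCoh.isQCoh_tensorMod _ _

end Groth.Agent.S16909
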