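import Groth.Statements.S1691
import Groth.Agent.Lib.RefHull.PushCoh
-- import your own Groth.Agent.* helpers here

set_option autoImplicit false
universe u
open CategoryTheory CategoryTheory.Limits AlgebraicGeometry TopologicalSpace
open SDiv

namespace Groth.Agent.S1691

/-- Let X be an integral locally Noetherian scheme and j : U ⟶ X an open subscheme such that the local
ring of X at every point outside U has depth at least 2. Then (a) for every coherent reflexive
module F on X the canonical map F ⟶ j_* j^* F is an isomorphism, and (b) for every coherent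
reflexive module G on U the direct image j_* G is coherent and reflexive (so that j^* and j_* are
mutually inverse equivalences). -/
theorem result (X : Scheme.{u}) [IsIntegral X] [IsLocallyNoetherian X] (U : X.Opens)
    (hU : ∀ x : ↥X, x ∉ U → (2 : ℕ∞) ≤ LocCoh.depth (X.presheaf.stalk x) (X.presheaf.stalk x)) :
    (∀ F : X.Modules, Coh.IsCoh F → (∀ x : ↥X, Module.IsReflexive (X.presheaf.stalk x) (F.presheaf.stalk x)) →
        IsIso ((Scheme.Modules.restrictAdjunction U.ι).unit.app F)) ∧
      (∀ G : (U : Scheme.{u}).Modules, Coh.IsCoh G → (∀ x : ↥(U : Scheme.{u}), Module.IsReflexive ((U : Scheme.{u}).presheaf.stalk x) (G.presheaf.stalk x)) →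
        Coh.IsCoh ((Scheme.Modules.pushforward U.ι).obj G) ∧
          (∀ x : ↥X, Module.IsReflexive (X.presheaf.stalk x) (((Scheme.Modules.pushforward U.ι).obj G).presheaf.stalk x))) := by
  open Groth.Agent.Lib Groth.Agent.Lib.RefHull in
  refine ⟨fun F hF hr => Groth.Agent.Lib.RefHull.PushU.isIso_unit_of_depth U hU hF hr, fun G hG hr => ?_⟩
  haveI := isLocallyNoetherian_of_isOpenImmersion U.ι
  haveI := hG.1
  let P' := (Scheme.Modules.pushforward U.ι).obj G
  haveI hq : P'.IsQuasicoherent := Groth.Agent.Lib.RefHull.PushU.isQCoh_P U G inferInstance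
  haveI hu : IsIso ((Scheme.Modules.restrictAdjunction U.ι).unit.app P') := by
    have e := (Scheme.Modules.restrictAdjunction U.ι).right_triangle_components G
    have h1 : (Scheme.Modules.restrictAdjunction U.ι).unit.app P' =
        inv ((Scheme.Modules.pushforward U.ι).map ((Scheme.Modules.restrictAdjunction U.ι).counit.app G)) :=
      IsIso.eq_inv_of_inv_hom_id e
    rw [h1]
    infer_instance
  let i : G ≅ P'.restrict U.ι := (asIso ((Scheme.Modules.restrictAdjunction U.ι).counit.app G)).symm
  have hGU : Coh.IsCoh (P'.restrict U.ι) := by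
    refine Groth.Agent.Lib.CohBasics.Closure.isCoh_of_iso i hG
  have href : ∀ y ∈ U, RefHull.IsReflexiveAt P' y := fun y hy => by
    let z : (U : Scheme.{u}) := ⟨y, hy⟩
    haveI := hr z
    haveI : Module.IsReflexive ((U : Scheme.{u}).presheaf.stalk z)
        ((P'.restrict U.ι).presheaf.stalk z) :=
      Module.equiv (Groth.Agent.Lib.Modules.StalkModule.stalkLinearEquiv i _)
    exact (Groth.Agent.Lib.RefHull.ReflRestrict.isReflexive_restrict_iff U.ι P' z).mp inferInstance
  have hinj : ∀ x, Function.Injective (Groth.Agent.Lib.RefHull.Generic.toGen P' x) := fun x a b h => by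
    have hb := (Groth.Agent.Lib.Modules.StalkModule.isIso_iff_stalkMapₗ_bijective _).mp hu x
    refine hb.1 (Groth.Agent.Lib.RefHull.PushU.toGen_injective U
      (Groth.Agent.Lib.RefHull.PushU.genericPoint_mem_of_depth U hU) (fun y hy =>
        Groth.Agent.Lib.RefHull.Generic.toGen_injective_of_isReflexiveAt y (href y hy)) x ?_)
    show Groth.Agent.Lib.RefHull.Generic.toGen _ x
        (RefHull.stalkMapₗ ((Scheme.Modules.restrictAdjunction U.ι).unit.app P') x a) =
      Groth.Agent.Lib.RefHull.Generic.toGen _ x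
        (RefHull.stalkMapₗ ((Scheme.Modules.restrictAdjunction U.ι).unit.app P') x b)
    rw [Groth.Agent.Lib.RefHull.Generic.toGen_stalkMap, Groth.Agent.Lib.RefHull.Generic.toGen_stalkMap]
    exact congrArg _ h
  have hfin : ∀ V : X.Opens, IsAffineOpen V → V ≤ U → Module.Finite Γ(X, V) Γ(P', V) := fun V hV hVU => by
    obtain ⟨V', rfl⟩ : ∃ V' : (U : Scheme.{u}).Opens, U.ι ''ᵁ V' = V :=
      ⟨U.ι ⁻¹ᵁ V, by rw [Scheme.Hom.image_preimage_eq_opensRange_inf, Scheme.Opens.opensRange_ι]
                     exact inf_eq_right.2 hVU⟩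
    exact (Groth.Agent.Lib.TensorMod.TensorQCoh.finite_restrict_iff U.ι P' V').1
      (Groth.Agent.Lib.CohBasics.Closure.finite_sections hGU (U.ι.isAffineOpen_iff_of_isOpenImmersion.mp hV))
  have hcoh : Coh.IsCoh P' := Groth.Agent.Lib.CohBasics.Closure.isCoh_of_finite_sections fun V hV =>
    Groth.Agent.Lib.RefHull.PushCoh.finite_sections U hU hinj hfin hV
  exact ⟨hcoh, Groth.Agent.Lib.RefHull.PushRefl.isReflexive_of_isIso_unit U hcoh hu href
    (Groth.Agent.Lib.RefHull.PushU.isIso_unit_of_depth U hU
      (Groth.Agent.Lib.RefHull.Reflexive.isCoh_ddual hcoh)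
      (Groth.Agent.Lib.RefHull.PushRefl.isReflexiveAt_ddual hcoh))⟩

end Groth.Agent.S1691
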