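import Groth.Statements.S16910
import Groth.Agent.H14.Sep.Cover
import Groth.Agent.Lib.QFAffine.Basic
import Groth.Agent.Lib.AlgSpMor.AffineDescent
import Groth.Agent.S10533
import Groth.Agent.Lib.AlgSpMor.DiagCharts

set_option autoImplicit false
set_option backward.isDefEq.respectTransparency false
set_option backward.isDefEq.respectTransparency.types false
universe u
open CategoryTheory CategoryTheory.Limits AlgebraicGeometry
open ResProp

namespace Groth.Agent.S16910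

open Groth.Agent.Lib.AlgStack
open Groth.Agent.H14.Sep SpProps DiagCat Main
open Groth.Agent.Lib.AlgSpace (repWith_exists)
open FibCat (IsEquivOver fp fpFst fpSnd fpLift fpIso diag overCat IsFibGrpd toSelf)
open AlgSt (ofSp ofSpMap ofOverCat toOverCat spMapOfOver RepByAlgSp1 RepByAlgSpWith IsAlgStack)
open AlgSp (Sp yon IsAlgSpace LocP RepWith Points)
open Lib.AlgStack.Diag (pair isoToProd prodToFp)

/-- A Noetherian scheme of dimension at most one has affine diagonal. -/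
theorem isAffineHom_diagonal {X S : Scheme.{u}} [IsLocallyNoetherian X]
    (hdim : topologicalKrullDim X ≤ 1) (p : X ⟶ S) : IsAffineHom (pullback.diagonal p) := by
  refine isAffineHom_diagonal_iff.2 fun _ _ V₁ _ V₂ _ h₁ h₂ => ?_
  have : IsAffineHom V₁.ι := Lib.QFAffine.isAffineHom_ι_of_dim (Lib.QFAffine.stalk_dim_le hdim) V₁
  have h : IsAffineOpen (V₁.ι ⁻¹ᵁ V₂) := h₂.preimage V₁.ι
  have := h.image_of_isOpenImmersion V₁.ι
  rwa [Scheme.Hom.image_preimage_eq_opensRange_inf, Scheme.Opens.opensRange_ι] at this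

variable {S : Scheme.{u}} {𝒳 : AlgSt.Cat S} {U : Over S}

/-- The first projection of `U ×_S U` has affine diagonal. -/
theorem isAffineHom_diagonal_fst (hd : IsAffineHom (pullback.diagonal U.hom)) :
    IsAffineHom (pullback.diagonal (prod.fst : U ⨯ U ⟶ U).left) := by
  exact MorphismProperty.of_isPullback (P := MorphismProperty.diagonal @IsAffineHom.{u})
    (Lib.AlgSpMor.DiagCharts.isPullback_prod_left U U).flip hd

/-- The base change of the diagonal to `U ×_S U` is affine. -/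
theorem affine_fpFst_sqAtlas (hd : IsAffineHom (pullback.diagonal U.hom)) (u : overCat U ⥤ᵇ 𝒳)
    (hu : RepByAlgSpWith AlgSp.IsAffineMor u) :
    RepByAlgSpWith AlgSp.IsAffineMor (fpFst (Lft.sqAtlas u) (diag (toSelf 𝒳))) := by
  obtain ⟨R, e, he, hsm⟩ := hu U u
  let D := Lib.AlgStack.Diag.toDiagPullback u u
  let Φ := BasedFunctor.comp e (BasedFunctor.comp D (fpFst (Lft.sqAtlas u) (diag (toSelf 𝒳))))
  obtain ⟨i, hi, ⟨η⟩, ⟨ε⟩⟩ :=
    BasedBasic.IsEquivOver.exists_inverse (Lib.AlgStack.Diag.isEquivOver_prodToFp U U)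
  let γ : R.obj ⟶ (yon S).obj (U ⨯ U) := spMapOfOver (BasedFunctor.comp Φ i)
  have h1 : γ ≫ (yon S).map prod.fst = spMapOfOver (BasedFunctor.comp e (fpFst u u)) := by
    rw [← Lft.spMapOfOver_overMap']
    exact Rep.spMapOfOver_eq_of_iso (BasedBasic.isoWhiskerLeft Φ
      (BasedBasic.isoWhiskerRight ε (fpFst (toSelf (overCat U)) (toSelf (overCat U)))))
  have hγ : AlgSp.IsAffineMor γ := by
    obtain ⟨V, g, a, sq, hg⟩ := repWith_exists
      (Lib.AlgSpMor.AffineDescent.repWith_of_isAffineMor (h1.symm ▸ hsm :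
        AlgSp.IsAffineMor (γ ≫ (yon S).map prod.fst))) (𝟙 _)
    have : IsIso a := sq.isIso_fst_of_isIso
    obtain ⟨h, hh⟩ := (yon S).map_surjective (a ≫ γ)
    have hg' : g = h ≫ prod.fst := (yon S).map_injective (by
      rw [Functor.map_comp, hh, Category.assoc, sq.w, Category.comp_id])
    have hh' : IsAffineHom h.left := by
      have := (MorphismProperty.hasOfPostcompProperty_iff_le_diagonal (P := @IsAffineHom.{u})
        (Q := MorphismProperty.diagonal @IsAffineHom.{u})).2 le_rfl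
      refine MorphismProperty.of_postcomp (W := @IsAffineHom.{u})
        (W' := MorphismProperty.diagonal @IsAffineHom.{u}) h.left (prod.fst : U ⨯ U ⟶ U).left
        (isAffineHom_diagonal_fst hd) ?_
      rw [← Over.comp_left, ← hg']
      exact hg
    refine Lib.AlgSpMor.AffineDescent.isAffineMor_iff.2 ?_
    rw [← Lib.AlgSpace.repWith_iso_comp_iff _ a, ← hh]
    exact (AlgSp.repWith_yon_map_iff _ _).2 hh'
  have h2 : RepByAlgSpWith AlgSp.IsAffineMor (ofSpMap γ) :=
    Rep.ofSpMap_of R.property (IsAlgSpace.yon_obj _) γ fun T ξ P' p q sq =>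
      good_affine.bc R.property (IsAlgSpace.yon_obj _)
        (Lib.AlgSpace.isAlgSpace_of_isPullback sq (IsAlgSpace.yon_obj _).diag R.property
          (IsAlgSpace.yon_obj T)) (IsAlgSpace.yon_obj T) _ _ _ _ sq hγ
  have hb : IsEquivOver (BasedFunctor.comp (toOverCat (U ⨯ U)) (prodToFp U U)) :=
    BasedBasic.IsEquivOver.comp (Rep.isEquivOver_toOverCat _)
      (Lib.AlgStack.Diag.isEquivOver_prodToFp U U)
  exact (Rep.repByAlgSpWith_iff_of_isEquivOver (f := fpFst (Lft.sqAtlas u) (diag (toSelf 𝒳)))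
    (f' := ofSpMap γ)
    (BasedBasic.IsEquivOver.comp he (Lib.AlgStack.Diag.isEquivOver_toDiagPullback u u)) hb
    ((BasedBasic.isoWhiskerRight (Rep.isoSpMapOfOver (BasedFunctor.comp Φ i)) (prodToFp U U)).symm ≪≫
      BasedBasic.isoWhiskerLeft Φ ε)).2 h2

/-- An affine flat surjective functor gives lifts after affine faithfully flat covers. -/
theorem exists_lift {w : overCat U ⥤ᵇ 𝒳} (hw₁ : RepByAlgSpWith AlgSp.IsAffineMor w)
    (hw₂ : RepByAlgSpWith (LocP @Flat) w)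
    (hw₃ : RepByAlgSpWith AlgSp.IsSurjectiveMor w) {T : Over S} (x : overCat T ⥤ᵇ 𝒳) :
    ∃ (T' : Over S) (s : T' ⟶ T) (_ : IsAffineHom s.left ∧ Flat s.left ∧ Surjective s.left)
      (v : overCat T' ⥤ᵇ overCat U),
      Nonempty (BasedFunctor.comp (Lft.vOf s) x ≅ BasedFunctor.comp v w) := by
  obtain ⟨G, e, he, haf⟩ := hw₁ T x
  have hfl := Space.prop_of_rep (IsAlgFp.respectsIsoSp_locP
    Lib.SourceDescent.Scheme.flat) hw₂ G.property he
  have hsu := Space.prop_of_rep IsAlgFp.respectsIsoSp_surjective hw₃ G.property he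
  let γ : G.obj ⟶ (yon S).obj T := spMapOfOver (BasedFunctor.comp e (fpFst x w))
  obtain ⟨T', s, a, sq, hs₁⟩ :=
    repWith_exists (Lib.AlgSpMor.AffineDescent.repWith_of_isAffineMor (f := γ) haf) (𝟙 _)
  have : IsIso a := sq.isIso_fst_of_isIso
  have hs : a ≫ γ = (yon S).map s := by rw [sq.w, Category.comp_id]
  have h3 : Surjective s.left := ⟨fun t => by
    obtain ⟨g, hg⟩ := hsu (Points.schemeHomeo T t)
    obtain ⟨t', rfl⟩ : ∃ t', Points.map a t' = g := ⟨Points.map (inv a) g, by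
      rw [← Points.map_comp, IsIso.inv_hom_id, Points.map_id]⟩
    obtain ⟨t₀, rfl⟩ := (Points.schemeHomeo T').surjective t'
    refine ⟨t₀, (Points.schemeHomeo T).injective ?_⟩
    rw [← Points.map_yon_map_apply, ← hg, ← hs, Points.map_comp]⟩
  have h2 : Flat s.left := by
    refine AlgSp.locP_yon_map ?_
    rw [← hs]
    exact Lib.AlgSpMor.LocP.locP_of_repWith Lib.SourceDescent.Scheme.flat
      ((Lib.AlgSpace.repWith_iso_comp_iff _ a γ).2 (Lib.AlgSpMor.LocP.repWith_of_locP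
        Lib.SourceDescent.Scheme.flat (IsAlgSpace.yon_obj T)
        (Lib.AlgSpMor.AffineDescent.repWith_of_isAffineMor (f := γ) haf).1 hfl))
  let η : overCat T' ⥤ᵇ fp x w :=
    BasedFunctor.comp (ofOverCat T') (BasedFunctor.comp (ofSpMap a) e)
  have hv : spMapOfOver (BasedFunctor.comp (ofSpMap a) (BasedFunctor.comp e (fpFst x w))) =
      (yon S).map s := by rw [Rep.spMapOfOver_precomp, hs]
  let ι : BasedFunctor.comp η (fpFst x w) ≅ Lft.vOf s :=
    BasedBasic.isoWhiskerLeft (ofOverCat T')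
      (Rep.isoSpMapOfOver (BasedFunctor.comp (ofSpMap a) (BasedFunctor.comp e (fpFst x w))) ≪≫
        eqToIso (by rw [hv]))
  exact ⟨T', s, ⟨hs₁, h2, h3⟩, BasedFunctor.comp η (fpSnd x w),
    ⟨(BasedBasic.isoWhiskerRight ι x).symm ≪≫ BasedBasic.isoWhiskerLeft η (fpIso x w)⟩⟩

/-- Affineness of representing morphisms may be checked after affine faithfully flat covers. -/
theorem rep_descend {𝒴 𝒵 : AlgSt.Cat S} {d : 𝒵 ⥤ᵇ 𝒴} (hr : RepByAlgSp1 d)
    (h : ∀ (T : Over S) (z : overCat T ⥤ᵇ 𝒴), ∃ (T' : Over S) (s : T' ⟶ T),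
      (IsAffineHom s.left ∧ Flat s.left ∧ Surjective s.left) ∧
      RepByAlgSpWith AlgSp.IsAffineMor (fpFst (BasedFunctor.comp (Lft.vOf s) z) d)) :
    RepByAlgSpWith AlgSp.IsAffineMor d := fun T z => by
  obtain ⟨G, e, he⟩ := hr T z
  refine ⟨G, e, he, ?_⟩
  obtain ⟨T', s, ⟨hs₁, hs₂, hs₃⟩, hC⟩ := h T z
  set γ : G.obj ⟶ (yon S).obj T := spMapOfOver (BasedFunctor.comp e (fpFst z d))
  have hD : RepByAlgSpWith AlgSp.IsAffineMor (fpFst (Lft.vOf s) (fpFst z d)) :=
    (Rep.repByAlgSpWith_iff_of_isEquivOver (f := fpFst (BasedFunctor.comp (Lft.vOf s) z) d)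
      (f' := fpFst (Lft.vOf s) (fpFst z d))
      (Rep.isEquivOver_pasteBase (Lft.vOf s) z d) BasedBasic.isEquivOver_id
      (eqToIso (Rep.pasteBase_fst (Lft.vOf s) z d).symm)).1 hC
  have sq := IsPullback.of_hasPullback γ ((yon S).map s)
  have hX : IsAlgSpace (pullback γ ((yon S).map s)) :=
    Lib.AlgSpace.isAlgSpace_of_isPullback sq (IsAlgSpace.yon_obj T).diag G.property
      (IsAlgSpace.yon_obj T')
  have := BasedBasic.IsEquivOver.full (Rep.isEquivOver_toOverCat T)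
  have := BasedBasic.IsEquivOver.faithful (Rep.isEquivOver_toOverCat T)
  have h1 := Space.isEquivOver_sqLift (sq.map (sheafToPresheaf _ _)).flip
  have h2 := FibProd.isEquivOver_fpMap (toOverCat T') e (toOverCat T)
    (F := Lft.vOf s) (G := fpFst z d) (F' := ofSpMap ((yon S).map s)) (G' := ofSpMap γ)
    (Iso.refl _) (Rep.isoSpMapOfOver (BasedFunctor.comp e (fpFst z d)))
    (Rep.isEquivOver_toOverCat T') he
  have hE : RepByAlgSpWith AlgSp.IsAffineMor (ofSpMap (pullback.snd γ ((yon S).map s))) :=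
    (Rep.repByAlgSpWith_iff_of_isEquivOver (f := fpFst (Lft.vOf s) (fpFst z d))
      (f' := ofSpMap (pullback.snd γ ((yon S).map s))) (BasedBasic.IsEquivOver.comp h1 h2)
      (Rep.isEquivOver_toOverCat T') (Iso.refl _)).1 hD
  have hsnd : AlgSp.IsAffineMor (pullback.snd γ ((yon S).map s)) :=
    Rep.prop_of_ofSpMap (Rep.respectsIsoSp good_affine.bc) good_affine.fs hX
      (IsAlgSpace.yon_obj T') _ hE
  exact (S10533.result S (fun _ : PUnit.{u + 1} => (yon S).obj T') (fun _ => (yon S).map s)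
    (IsAlgSpace.yon_obj T) (fun _ => IsAlgSpace.yon_obj T')
    (Lib.AlgSpFpqc.Affine.isFpqcCover_single s) γ G.property
    (fun _ => pullback γ ((yon S).map s)) (fun _ => pullback.snd _ _) (fun _ => pullback.fst _ _)
    (fun _ => hX) (fun _ => sq)).2 fun _ => hsnd

theorem diag_affine [IsNoetherian U.left] (hr : RepByAlgSp1 (diag (toSelf 𝒳)))
    (hdim : topologicalKrullDim U.left ≤ 1) (u : overCat U ⥤ᵇ 𝒳)
    (hu₁ : RepByAlgSpWith AlgSp.IsAffineMor u) (hu₂ : RepByAlgSpWith (LocP @Flat) u)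
    (hu₃ : RepByAlgSpWith AlgSp.IsSurjectiveMor u) :
    RepByAlgSpWith AlgSp.IsAffineMor (diag (toSelf 𝒳)) := by
  refine rep_descend hr fun T z => ?_
  obtain ⟨T₁, s₁, ⟨a₁, f₁, e₁⟩, u₁, ⟨α₁⟩⟩ :=
    exists_lift hu₁ hu₂ hu₃ (BasedFunctor.comp z (fpFst (toSelf 𝒳) (toSelf 𝒳)))
  obtain ⟨T₂, s₂, ⟨a₂, f₂, e₂⟩, u₂, ⟨α₂⟩⟩ := exists_lift hu₁ hu₂ hu₃
    (BasedFunctor.comp (Lft.vOf s₁) (BasedFunctor.comp z (fpSnd (toSelf 𝒳) (toSelf 𝒳))))
  let s := s₂ ≫ s₁
  refine ⟨T₂, s, by refine ⟨?_, ?_, ?_⟩ <;> (rw [Over.comp_left]; infer_instance), ?_⟩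
  let w : overCat T₂ ⥤ᵇ fp (toSelf (overCat U)) (toSelf (overCat U)) :=
    pair (BasedFunctor.comp (Lft.vOf s₂) u₁) u₂
  let α : BasedFunctor.comp w (Lft.sqAtlas u) ≅ BasedFunctor.comp (Lft.vOf s) z :=
    isoToProd
      ((BasedBasic.isoWhiskerLeft (Lft.vOf s₂) α₁).symm ≪≫ BasedBasic.isoWhiskerRight
        (eqToIso (Lft.vOf_comp s₂ s₁)) (BasedFunctor.comp z (fpFst (toSelf 𝒳) (toSelf 𝒳))))
      (α₂.symm ≪≫ BasedBasic.isoWhiskerRight (eqToIso (Lft.vOf_comp s₂ s₁))
        (BasedFunctor.comp z (fpSnd (toSelf 𝒳) (toSelf 𝒳))))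
  have hA := Rep.repByAlgSpWith_fpFst w
    (affine_fpFst_sqAtlas (isAffineHom_diagonal hdim U.hom) u hu₁)
  have hB : RepByAlgSpWith AlgSp.IsAffineMor
      (fpFst (BasedFunctor.comp w (Lft.sqAtlas u)) (diag (toSelf 𝒳))) :=
    (Rep.repByAlgSpWith_iff_of_isEquivOver
      (f := fpFst (BasedFunctor.comp w (Lft.sqAtlas u)) (diag (toSelf 𝒳)))
      (f' := fpFst w (fpFst (Lft.sqAtlas u) (diag (toSelf 𝒳))))
      (Rep.isEquivOver_pasteBase w (Lft.sqAtlas u) (diag (toSelf 𝒳))) BasedBasic.isEquivOver_id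
      (eqToIso (Rep.pasteBase_fst w (Lft.sqAtlas u) (diag (toSelf 𝒳))).symm)).2 hA
  exact (Rep.repByAlgSpWith_iff_of_isEquivOver
      (f := fpFst (BasedFunctor.comp (Lft.vOf s) z) (diag (toSelf 𝒳)))
      (f' := fpFst (BasedFunctor.comp w (Lft.sqAtlas u)) (diag (toSelf 𝒳)))
      (FibProd.isEquivOver_congrLeft α (diag (toSelf 𝒳))) BasedBasic.isEquivOver_id
      (eqToIso (FibProd.congrLeft_fst α (diag (toSelf 𝒳))).symm)).2 hB

end Groth.Agent.S16910

namespace Groth.Agent.S16910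

/-- Let `𝒳` be an algebraic stack over `S` (fppf topology; diagonal representable, separated and
quasi-compact, the text's standing convention) admitting a morphism `u : U → 𝒳` from a Noetherian
scheme `U` of Krull dimension at most one all of whose local rings are regular, with `u`
representable by algebraic spaces, affine, flat and surjective. Then the diagonal of `𝒳` over
`(Sch/S)` is representable by algebraic spaces and affine. -/
theorem result (S : Scheme.{u}) (𝒳 : AlgSt.Cat S)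
    (h𝒳 : AlgSt.IsAlgStack Scheme.fppfPrecoverage 𝒳)
    (hΔ : AlgSt.RepByAlgSpWith (AlgSp.IsSeparatedMor ⊓ AlgSp.IsQuasiCompactMor) (FibCat.diag (FibCat.toSelf 𝒳)))
    (U : Over S) [IsNoetherian U.left] (hreg : ∀ x : U.left, IsRegularLocalRing (U.left.presheaf.stalk x))
    (hdim : topologicalKrullDim U.left ≤ 1) (u : FibCat.overCat U ⥤ᵇ 𝒳)
    (hua : AlgSt.RepByAlgSpWith AlgSp.IsAffineMor u) (huf : AlgSt.RepByAlgSpWith (AlgSp.LocP @Flat) u)
    (hus : AlgSt.RepByAlgSpWith AlgSp.IsSurjectiveMor u) :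
    AlgSt.RepByAlgSpWith AlgSp.IsAffineMor (FibCat.diag (FibCat.toSelf 𝒳)) :=
  diag_affine h𝒳.diag hdim u hua huf hus

end Groth.Agent.S16910
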