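import Groth.Statements.S16913
import Groth.Agent.Lib.QuotSt.Atlas
import Groth.Agent.H14.UB.Resolution
import Mathlib.AlgebraicGeometry.Morphisms.LocalFlatDescent

set_option autoImplicit false
set_option backward.isDefEq.respectTransparency false
universe u
open CategoryTheory CategoryTheory.Limits AlgebraicGeometry MonoidalCategory
open ResProp

namespace Groth.Agent.S16913

/-- Over an affine base scheme `S`, let `G` be a group scheme over `S`, affine, flat and locally of
finite presentation over `S`, and `X` a scheme quasi-compact and quasi-separated over `S` with an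
action of `G`. If the quotient stack `[X/G]` (fppf `G`-torsors given as schemes, with an equivariant
map to `X`) has the resolution property — its locally free quasi-coherent modules of finite type
form a generating family: two morphisms of quasi-coherent modules `M ⟶ N` on `[X/G]` that agree
after composition with every morphism from such a module into `M` are equal — then the scheme `X`
has the resolution property: every quasi-coherent module of finite type on `X` is a quotient of a
finite locally free module. (The published statement is over an algebraic stack `S` with `G → S`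
quasi-affine and concerns the resolution property relative to `S`; over an affine base the relative
notion is the absolute one, and `G` is taken affine here.) -/
theorem result (S : Scheme.{u}) [IsAffine S]
    (G : Over S) [GrpObj G] [IsAffineHom G.hom] [Flat G.hom] [LocallyOfFinitePresentation G.hom]
    (X : Over S) [QuasiCompact X.hom] [QuasiSeparated X.hom] (aX : AlgGrp.Action G X)
    (h : ∀ (M N : StMod.QCoh (AlgSt.QuotSt Scheme.fppfPrecoverage G aX)) (a b : M ⟶ N),
      (∀ E : StMod.QCoh (AlgSt.QuotSt Scheme.fppfPrecoverage G aX),
        E.obj.IsLocFree → E.obj.IsFinType → ∀ φ : E ⟶ M, φ ≫ a = φ ≫ b) → a = b) :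
    PerfAux.HasResolutionProperty X.left := by
  haveI : CompactSpace X.left := QuasiCompact.compactSpace_of_compactSpace X.hom
  intro M hM hMft
  have hK : (Scheme.fppfPrecoverage : Precoverage Scheme.{u}) ≤ Scheme.fpqcPrecoverage :=
    Scheme.fppfPrecoverage_le_fpqcPrecoverage
  let f := Lib.QuotSt.atlas Scheme.fppfPrecoverage aX
  have hf : AlgSt.RepByAlgSpWith AlgSp.IsAffineMor f := Lib.QuotSt.repByAlgSpWith_atlas fun y =>
    Lib.QuotSt.isAffineMor_yon_map _ (Lib.QuotSt.property_proj (P := @IsAffineHom.{u}) y hK ‹IsAffineHom G.hom›)
  let ι := {E : StMod.QCoh (AlgSt.QuotSt Scheme.fppfPrecoverage G aX) // E.obj.IsLocFree ∧ E.obj.IsFinType}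
  have hgen : StMod.IsGenFam (fun i : ι => i.1) := by
    rw [StMod.isGenFam_iff]
    intro M' N' v hv
    exact h M' N' v 0 fun E h1 h2 φ => ObjectProperty.hom_ext _ ((hv ⟨E, h1, h2⟩ φ.hom).trans comp_zero.symm)
  refine H14.UB.Resolution.exists_resolution _ (fun i => ?_)
    (H14.UB.AffComp.isGenFam_comap (Lib.AlgStack.Yoneda.isFibGrpd_overCat X) Lib.QuotSt.isFibGrpd hf _ hgen) M hM hMft
  refine H14.UB.Resolution.isFinLocFree_castMod _ _ ?_
  exact H14.GerbeDesc.isFinLocFree_of_isLocallyFree (h := i.2.1 _) (i.2.2 _)

end Groth.Agent.S16913
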