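import Groth.Statements.S16917
import Groth.Agent.H96.Countable
-- import your own Groth.Agent.* helpers here

set_option autoImplicit false
open CategoryTheory AlgebraicGeometry
universe u
open Variety

namespace Groth.Agent.S16917

/-- Let k be an uncountable algebraically closed field, X a k-scheme of finite type and Z₀, Z₁, …
countably many closed subsets of X. Then the countable union of the Zₙ, read through closed points,
has a unique irredundant decomposition: there is exactly one countable family S of irreducible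
closed subsets of X, pairwise not contained in one another, such that a closed point of X lies in
some member of S if and only if it lies in some Zₙ. (The published statement is the existence and
uniqueness of the irredundant decomposition of a countable union of algebraic varieties into
c-components, a variety being read through its closed points; with all points of the scheme the
uniqueness would not need the uncountable field.) -/
theorem result (k : Type u) [Field k] [IsAlgClosed k]
    [Uncountable k] (X : Scheme.{u}) (sX : X ⟶ Spec (CommRingCat.of k)) [LocallyOfFiniteType sX]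
    [QuasiCompact sX] (Z : ℕ → TopologicalSpace.Closeds X) :
    ∃! S : Set (TopologicalSpace.Closeds X), S.Countable ∧ (∀ T ∈ S, IsIrreducible (T : Set X)) ∧
      IsAntichain (· ≤ ·) S ∧
      {x : X | IsClosed ({x} : Set X) ∧ ∃ T ∈ S, x ∈ T} =
        {x : X | IsClosed ({x} : Set X) ∧ ∃ n, x ∈ Z n} := by
  classical
  haveI : IsLocallyNoetherian X := LocallyOfFiniteType.isLocallyNoetherian sX
  haveI : CompactSpace X := QuasiCompact.compactSpace_of_compactSpace sX
  haveI : AlgebraicGeometry.IsNoetherian X := ⟨⟩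
  choose F hFfin hFc hFi hFU using fun n =>
    TopologicalSpace.NoetherianSpace.exists_finite_set_isClosed_irreducible (Z n).2
  let C : Set (TopologicalSpace.Closeds X) := {T | ∃ n, (T : Set X) ∈ F n}
  have hCirr : ∀ T ∈ C, IsIrreducible (T : Set X) := fun T ⟨n, hn⟩ => hFi n _ hn
  let S : Set (TopologicalSpace.Closeds X) := {T ∈ C | ∀ T' ∈ C, T ≤ T' → T' = T}
  have hSC : S.Countable := by
    refine Set.Countable.mono (fun T hT => hT.1) ?_
    have : C ⊆ ⋃ n, (SetLike.coe : TopologicalSpace.Closeds X → Set X) ⁻¹' F n :=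
      fun T ⟨n, hn⟩ => Set.mem_iUnion.2 ⟨n, hn⟩
    exact (Set.countable_iUnion fun n =>
      ((hFfin n).preimage SetLike.coe_injective.injOn).countable).mono this
  have hSanti : IsAntichain (· ≤ ·) S := fun T hT T' hT' hne hle => hne (hT.2 T' hT'.1 hle).symm
  have hSeq : {x : X | IsClosed ({x} : Set X) ∧ ∃ T ∈ S, x ∈ T} =
      {x : X | IsClosed ({x} : Set X) ∧ ∃ n, x ∈ Z n} := by
    ext x
    refine and_congr_right fun _ => ⟨?_, ?_⟩
    · rintro ⟨T, ⟨⟨n, hn⟩, -⟩, hx⟩
      exact ⟨n, (hFU n).ge ⟨_, hn, hx⟩⟩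
    · rintro ⟨n, hx⟩
      obtain ⟨t, ht, hxt⟩ := (hFU n).le hx
      obtain ⟨T', hT', hle, hmax⟩ := Groth.Agent.H96.Countable.exists_maximal sX C hCirr
        (T := ⟨t, hFc n t ht⟩) ⟨n, ht⟩
      exact ⟨T', ⟨hT', hmax⟩, hle hxt⟩
  refine ⟨S, ⟨hSC, fun T hT => hCirr T hT.1, hSanti, hSeq⟩, ?_⟩
  rintro S' ⟨hS'c, hS'i, hS'a, hS'eq⟩
  have key : ∀ (S₁ S₂ : Set (TopologicalSpace.Closeds X)), S₂.Countable →
      (∀ T ∈ S₁, IsIrreducible (T : Set X)) →
      {x : X | IsClosed ({x} : Set X) ∧ ∃ T ∈ S₁, x ∈ T} =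
        {x : X | IsClosed ({x} : Set X) ∧ ∃ T ∈ S₂, x ∈ T} →
      ∀ T ∈ S₁, ∃ T' ∈ S₂, T ≤ T' := by
    intro S₁ S₂ h2 h1 he T hT
    haveI := h2.to_subtype
    obtain ⟨⟨T', hT'⟩, hsub⟩ := Groth.Agent.H96.Countable.exists_subset sX (h1 T hT) T.2
      (fun T' : S₂ => T'.1) fun x hx hxc => by
        obtain ⟨-, T', hT', hxT'⟩ := (he.le ⟨hxc, T, hT, hx⟩ : x ∈ _)
        exact ⟨⟨T', hT'⟩, hxT'⟩
    exact ⟨T', hT', hsub⟩
  have e : {x : X | IsClosed ({x} : Set X) ∧ ∃ T ∈ S', x ∈ T} =
      {x : X | IsClosed ({x} : Set X) ∧ ∃ T ∈ S, x ∈ T} := hS'eq.trans hSeq.symm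
  refine Set.Subset.antisymm (fun T hT => ?_) (fun T hT => ?_)
  · obtain ⟨T₁, h1, hle1⟩ := key S' S hSC hS'i e T hT
    obtain ⟨T₂, h2, hle2⟩ := key S S' hS'c (fun T hT => hCirr T hT.1) e.symm T₁ h1
    have : T = T₂ := hS'a.eq hT h2 (hle1.trans hle2)
    rwa [le_antisymm hle1 (this ▸ hle2)]
  · obtain ⟨T₁, h1, hle1⟩ := key S S' hS'c (fun T hT => hCirr T hT.1) e.symm T hT
    obtain ⟨T₂, h2, hle2⟩ := key S' S hSC hS'i e T₁ h1
    have : T = T₂ := hSanti.eq hT h2 (hle1.trans hle2)
    rwa [le_antisymm hle1 (this ▸ hle2)]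

end Groth.Agent.S16917
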