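import Groth.Statements.S1692
import Groth.Agent.Lib.RefHull.DivSheaf
-- import your own Groth.Agent.* helpers here

set_option autoImplicit false
universe u
open CategoryTheory CategoryTheory.Limits AlgebraicGeometry TopologicalSpace
open SDiv

namespace Groth.Agent.S1692

/-- Let X be a locally Noetherian integral scheme and f a nonzero rational function. Then the closures
of the codimension-one points at which f has nonzero order of vanishing form a locally finite family
of closed subsets of X. -/
theorem result (X : Scheme.{u}) [IsIntegral X] [IsLocallyNoetherian X] (f : ↑X.functionField) (hf : f ≠ 0) :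
    LocallyFinite (fun ξ : {ξ : ↥X // Order.coheight ξ = 1 ∧ Scheme.ord f ξ ≠ 0} => closure ({ξ.1} : Set ↥X)) := by
  intro x
  obtain ⟨U, hU, hxU, -⟩ := exists_isAffineOpen_mem_and_subset (x := x) (U := ⊤) trivial
  refine ⟨U, U.2.mem_nhds hxU, ?_⟩
  obtain ⟨V, hV, g, rfl⟩ := TopCat.Presheaf.exists_germ_eq X.presheaf f
  have hgη : genericPoint ↥X ∈ X.basicOpen g :=
    (X.mem_basicOpen g _ hV).mpr (isUnit_iff_ne_zero.mpr hf)
  haveI : Nonempty ↥(X.basicOpen g) := ⟨⟨_, hgη⟩⟩
  have hfin := Lib.RefHull.Divisor.finite_not_mem hU hgη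
  refine Set.Finite.of_finite_image (f := Subtype.val) (hfin.subset ?_) Subtype.val_injective.injOn
  rintro _ ⟨⟨ξ, hξ1, hξ⟩, ⟨y, hy, hyU⟩, rfl⟩
  refine ⟨(specializes_iff_mem_closure.mpr hy).mem_open U.2 hyU, hξ1, fun hξg => hξ ?_⟩
  haveI : Nonempty ↥(X.basicOpen g).toScheme := ⟨⟨_, hgη⟩⟩
  have h := Scheme.ord_of_isUnit (X := X) (U := X.basicOpen g) (f := X.presheaf.map (homOfLE (X.basicOpen_le g)).op g)
    (RingedSpace.isUnit_res_basicOpen X.toSheafedSpace g) hξg
  convert h using 2
  exact (TopCat.Presheaf.germ_res_apply X.presheaf (homOfLE (X.basicOpen_le g)) _ hgη g).symm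

end Groth.Agent.S1692
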