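import Groth.Statements.S16920
import Groth.Agent.H96.Countable
-- import your own Groth.Agent.* helpers here

set_option autoImplicit false
open CategoryTheory AlgebraicGeometry
universe u
open Variety

namespace Groth.Agent.S16920

/-- Let k be an uncountable algebraically closed field, V an irreducible k-scheme of finite type and Z₀,
Z₁, … closed subsets of V, each different from V. Then the set of closed points of V lying in no Zₙ
is dense in V. (The published statement: a nonempty c-open subset of an irreducible quasi-projective
variety is Zariski dense, a variety being read through its closed points; nonemptiness of the c-open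
subset amounts to every Zₙ being a proper subset, while quasi-projectivity and the standing
characteristic-zero assumption play no role and are dropped.) -/
theorem result (k : Type u) [Field k] [IsAlgClosed k]
    [Uncountable k] (V : Scheme.{u}) (sV : V ⟶ Spec (CommRingCat.of k)) [IrreducibleSpace V]
    [LocallyOfFiniteType sV] [QuasiCompact sV] (Z : ℕ → TopologicalSpace.Closeds V)
    (hZ : ∀ n, (Z n : Set V) ≠ Set.univ) :
    Dense {x : V | IsClosed ({x} : Set V) ∧ ∀ n, x ∉ Z n} := by
  rw [dense_iff_inter_open]
  intro U hU hne
  by_contra hemp
  have hcov : ∀ x ∈ (Set.univ : Set ↥V), IsClosed ({x} : Set ↥V) →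
      ∃ i : Option ℕ, x ∈ (i.elim (⟨Uᶜ, hU.isClosed_compl⟩ : TopologicalSpace.Closeds V) Z) := by
    intro x _ hx
    by_cases hxU : x ∈ U
    · by_contra! h
      exact hemp ⟨x, hxU, hx, fun n => h (some n)⟩
    · exact ⟨none, hxU⟩
  obtain ⟨i, hi⟩ := Groth.Agent.H96.Countable.exists_subset sV
    (IrreducibleSpace.isIrreducible_univ ↥V) isClosed_univ _ hcov
  cases i with
  | none =>
    obtain ⟨u, hu⟩ := hne
    exact hi (Set.mem_univ u) hu
  | some n => exact hZ n (Set.univ_subset_iff.1 hi)

end Groth.Agent.S16920
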