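import Groth.Statements.S1693



set_option autoImplicit false
universe u
open CategoryTheory CategoryTheory.Limits AlgebraicGeometry TopologicalSpace
open SDiv

namespace Groth.Agent.S1693

/-- Let X be a locally Noetherian scheme and Z a closed subset. Then the irreducible components of Z
form a locally finite family of subsets of X. -/
theorem result (X : Scheme.{u}) [IsLocallyNoetherian X] (Z : Set ↥X) (hZ : IsClosed Z) :
    LocallyFinite (fun T : ↥(irreducibleComponents ↥Z) => ((↑) '' (T.1 : Set ↥Z) : Set ↥X)) := by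
  intro x
  obtain ⟨V, hV, hxV, -⟩ := exists_isAffineOpen_mem_and_subset (X := X) (x := x) (U := ⊤) trivial
  haveI : IsNoetherianRing Γ(X, V) := IsLocallyNoetherian.component_noetherian ⟨V, hV⟩
  haveI hNV : NoetherianSpace ((V : Set ↥X) : Set ↥X) := AlgebraicGeometry.noetherianSpace_of_isAffineOpen V hV
  let W : Set ↥Z := (↑) ⁻¹' (V : Set ↥X)
  have hW : IsOpen W := V.2.preimage continuous_subtype_val
  let g : W → ((V : Set ↥X) : Set ↥X) := fun w => ⟨w.1.1, w.2⟩
  have hg : Topology.IsInducing g := Topology.IsInducing.of_comp (by fun_prop) continuous_subtype_val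
    (Topology.IsInducing.subtypeVal.comp Topology.IsInducing.subtypeVal : Topology.IsInducing fun w : W => w.1.1)
  haveI : NoetherianSpace W := hg.noetherianSpace
  refine ⟨V, V.2.mem_nhds hxV, ?_⟩
  refine Set.Finite.of_finite_image (f := fun T : ↥(irreducibleComponents ↥Z) => ((↑) : W → ↥Z) ⁻¹' T.1)
    (TopologicalSpace.NoetherianSpace.finite_irreducibleComponents.subset ?_) ?_
  · rintro _ ⟨T, ⟨_, ⟨t, ht, rfl⟩, htV⟩, rfl⟩
    exact preimage_mem_irreducibleComponents T.2 hW.isOpenEmbedding_subtypeVal ⟨t, ht, ⟨t, htV⟩, rfl⟩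
  · rintro T ⟨_, ⟨t, ht, rfl⟩, htV⟩ T' ⟨_, ⟨t', ht', rfl⟩, htV'⟩ e
    have h1 := closure_image_preimage_of_isPreirreducible ((↑) : W → ↥Z) hW.isOpenMap_subtype_val T.1
      ⟨⟨t, htV⟩, ht⟩ T.2.1.2 (isClosed_of_mem_irreducibleComponents _ T.2)
    have h2 := closure_image_preimage_of_isPreirreducible ((↑) : W → ↥Z) hW.isOpenMap_subtype_val T'.1
      ⟨⟨t', htV'⟩, ht'⟩ T'.2.1.2 (isClosed_of_mem_irreducibleComponents _ T'.2)
    refine Subtype.ext (h1.symm.trans ?_)
    rw [show ((↑) : W → ↥Z) ⁻¹' T.1 = ((↑) : W → ↥Z) ⁻¹' T'.1 from e]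
    exact h2

end Groth.Agent.S1693
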