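import Groth.Statements.S1695
import Groth.Agent.Lib.BlowUpExists.Cover

set_option autoImplicit false
universe u
open CategoryTheory CategoryTheory.Limits AlgebraicGeometry TopologicalSpace
open SDiv

namespace Groth.Agent.S1695

open Groth.Agent.Lib.BlowUpExists


theorem cover_top {X X' : Scheme.{u}} [IsAffine X] (J : X.IdealSheafData) {A : Type u} [CommRing A]
    (γ : A →+* Γ(X, ⊤)) (hγ : Function.Bijective γ) (I : Ideal A)
    (hI : J.ideal ⟨⊤, isAffineOpen_top X⟩ = I.map γ) (b : X' ⟶ X) (hb : BlowUp.IsBlowUp b J) (x' : X') :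
    ∃ (a : A) (_ : a ∈ I) (V : X'.Opens)
      (e : (V : Scheme.{u}) ≅ Spec (CommRingCat.of ↥(BlowUp.affineAlgebra A I a))),
      x' ∈ V ∧ e.hom ≫ Spec.map (CommRingCat.ofHom (algebraMap A ↥(BlowUp.affineAlgebra A I a))) ≫
        Spec.map (CommRingCat.ofHom (RingEquiv.ofBijective γ hγ).symm.toRingHom) ≫
          (isAffineOpen_top X).fromSpec = V.ι ≫ b := by
  obtain ⟨⟨a', ha'⟩, hx⟩ := exists_mem_chartOpen b hb.1 x' ⟨⊤, isAffineOpen_top X⟩ trivial
  obtain ⟨a, haI, rfl⟩ := (Ideal.mem_map_iff_of_surjective γ hγ.2).1 (hI.le ha')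
  let U : X.affineOpens := ⟨⊤, isAffineOpen_top X⟩
  let i : Idx J := ⟨U, γ a, ha'⟩
  obtain ⟨e, he⟩ := exists_chartIso hb i
  let B := BlowUp.affineAlgebra A I a
  let q : Γ(X, ⊤) →+* chartRing i := (chartRingMap i).hom
  have hq1 : q (γ a) ∈ nonZeroDivisors (chartRing i) := chartRingMap_gen_mem_nonZeroDivisors i
  have hq2 : ∀ x ∈ I, q (γ x) ∈ Ideal.span {q (γ a)} := fun x hx =>
    (chartRingMap_map_ideal i).le (Ideal.mem_map_of_mem _ (hI.ge (Ideal.mem_map_of_mem γ hx)))
  obtain ⟨ψ, hψ⟩ := exists_hom_affineAlgebra I a (q.comp γ) hq1 hq2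
  let γi : Γ(X, ⊤) →+* A := (RingEquiv.ofBijective γ hγ).symm.toRingHom
  have hγi : ∀ x, γi (γ x) = x := fun x => (RingEquiv.ofBijective γ hγ).symm_apply_apply x
  have hγiI : ∀ z ∈ J.ideal U, γi z ∈ I := fun z hz => by
    obtain ⟨w, hw, rfl⟩ := (Ideal.mem_map_iff_of_surjective γ hγ.2).1 (hI.le hz)
    rwa [hγi]
  obtain ⟨χ, hχ⟩ := exists_hom_affineAlgebra (J.ideal U) (γ a) ((algebraMap A B).comp γi)
    (by rw [RingHom.comp_apply, hγi]; exact algebraMap_gen_mem_nonZeroDivisors I a)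
    (fun z hz => by
      rw [RingHom.comp_apply, RingHom.comp_apply, hγi, ← map_ideal_eq_span I a haI]
      exact Ideal.mem_map_of_mem _ (hγiI z hz))
  have h1 : ψ.comp χ = RingHom.id _ := by
    refine hom_ext_affineAlgebra (J.ideal U) (γ a) ?_ ?_
    · refine RingHom.ext fun z => ?_
      obtain ⟨w, rfl⟩ := hγ.2 z
      change ψ (χ (algebraMap Γ(X, ⊤) (BlowUp.affineAlgebra Γ(X, ⊤) (J.ideal U) (γ a)) (γ w))) =
        q (γ w)
      have hz := DFunLike.congr_fun hχ (γ w)
      simp only [RingHom.comp_apply, hγi] at hz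
      exact (congrArg ψ hz).trans (DFunLike.congr_fun hψ w)
    · have hz := DFunLike.congr_fun hχ (γ a)
      have hw := DFunLike.congr_fun hψ a
      simp only [RingHom.comp_apply, hγi] at hz hw ⊢
      rw [hz, hw]
      exact hq1
  have h2 : χ.comp ψ = RingHom.id _ := by
    refine hom_ext_affineAlgebra I a ?_ ?_
    · refine RingHom.ext fun z => ?_
      change χ (ψ (algebraMap A B z)) = algebraMap A B z
      have hz := DFunLike.congr_fun hχ (γ z)
      simp only [RingHom.comp_apply, hγi] at hz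
      exact (congrArg χ (DFunLike.congr_fun hψ z)).trans hz
    · have hw := DFunLike.congr_fun hψ a
      have hz := DFunLike.congr_fun hχ (γ a)
      simp only [RingHom.comp_apply, hγi] at hz hw
      change χ (ψ (algebraMap A B a)) ∈ _
      rw [show χ (ψ (algebraMap A B a)) = algebraMap A B a from (congrArg χ hw).trans hz]
      exact algebraMap_gen_mem_nonZeroDivisors I a
  let ρ : CommRingCat.of B ≅ chartRing i := (RingEquiv.ofRingHom ψ χ h1 h2).toCommRingCatIso
  refine ⟨a, haI, _, e ≪≫ Scheme.Spec.mapIso ρ.op, hx, ?_⟩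
  rw [← he, Iso.trans_hom, Category.assoc]
  refine congrArg (e.hom ≫ ·) ?_
  change Spec.map ρ.hom ≫ Spec.map (CommRingCat.ofHom (algebraMap A B)) ≫
    Spec.map (CommRingCat.ofHom γi) ≫ (isAffineOpen_top X).fromSpec = chartMap i
  have hcomp : CommRingCat.ofHom γi ≫ CommRingCat.ofHom (algebraMap A B) ≫ ρ.hom = chartRingMap i := by
    refine CommRingCat.hom_ext (RingHom.ext fun z => ?_)
    obtain ⟨w, rfl⟩ := hγ.2 z
    change ψ (algebraMap A B (γi (γ w))) = q (γ w)
    rw [hγi]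
    exact DFunLike.congr_fun hψ w
  rw [chartMap, ← hcomp, Spec.map_comp, Spec.map_comp, Category.assoc, Category.assoc]

/-- Let A be a ring, I an ideal, and b : X' ⟶ Spec A a blowing-up of Spec A along the ideal sheaf of I.
Then every point of X' has an open neighbourhood which is isomorphic, over Spec A, to the spectrum
of an affine blow-up algebra A[I/a] for some a ∈ I. -/
theorem result (A : Type u) [CommRing A] (I : Ideal A) {X' : Scheme.{u}}
    (b : X' ⟶ Spec (CommRingCat.of A)) (hb : BlowUp.IsBlowUp b (Scheme.IdealSheafData.ofIdealTop (I.map (Scheme.ΓSpecIso (CommRingCat.of A)).inv.hom))) (x' : ↥X') :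
    ∃ (a : A) (_ : a ∈ I) (V : X'.Opens) (e : (V : Scheme.{u}) ≅ Spec (CommRingCat.of ↥(BlowUp.affineAlgebra A I a))),
      x' ∈ V ∧ e.hom ≫ Spec.map (CommRingCat.ofHom (algebraMap A ↥(BlowUp.affineAlgebra A I a))) = V.ι ≫ b := by
  obtain ⟨a, ha, V, e, hx, he⟩ := cover_top (X := Spec (CommRingCat.of A)) _
    (Scheme.ΓSpecIso (CommRingCat.of A)).inv.hom
    (ConcreteCategory.bijective_of_isIso (Scheme.ΓSpecIso (CommRingCat.of A)).inv) I
    (by
      rw [Scheme.IdealSheafData.ofIdealTop_ideal]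
      rw [Subsingleton.elim (homOfLE _) (𝟙 (⊤ : (Spec (CommRingCat.of A)).Opens)), op_id,
        (Spec (CommRingCat.of A)).presheaf.map_id]
      exact Ideal.map_id _)
    b hb x'
  refine ⟨a, ha, V, e, hx, ?_⟩
  rw [← he]
  refine congrArg (e.hom ≫ ·) ?_
  refine Eq.trans (Category.comp_id _).symm (congrArg (Spec.map _ ≫ ·) ?_)
  rw [IsAffineOpen.fromSpec_top, Scheme.isoSpec_Spec_inv, ← Spec.map_comp, ← Spec.map_id]
  refine congrArg Spec.map (CommRingCat.hom_ext (RingHom.ext fun z => ?_))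
  have h0 := (RingEquiv.ofBijective (Scheme.ΓSpecIso (CommRingCat.of A)).inv.hom
    (ConcreteCategory.bijective_of_isIso (Scheme.ΓSpecIso (CommRingCat.of A)).inv)).symm_apply_apply z
  first
    | exact h0
    | exact h0.symm

end Groth.Agent.S1695
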