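import Groth.Statements.S16951
import Groth.Agent.Lib.Cube.FibreGen
import Groth.Agent.Lib.Curves.GlobalSections
import Groth.Agent.Lib.Curves.LES
import Groth.Agent.Lib.TensorMod.TensorInv

set_option autoImplicit false
set_option linter.style.haveILetI false
universe u
open PicF

namespace Groth.Agent.S16951

open AlgebraicGeometry CategoryTheory Scheme.Modules in
/-- Let f : X → S be a proper flat morphism of locally Noetherian schemes whose fibres are geometrically
integral, and let L be an invertible O_X-module with an inverse M (an isomorphism L ⊗ M ≅ O_X). Then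
the following are equivalent: (a) L ≅ f^* L₀ for some invertible O_S-module L₀; (b) for N = L and
for N = M, at every point s of S the space H^0(X_s, N|_{X_s}) of sections over the scheme-theoretic
fibre is nonzero and the degree-0 base change map of the fibre square, κ(s)^* f_* N → (X_s → Spec
κ(s))_* (N|_{X_s}), is an epimorphism. When this holds, dim_{κ(s)} H^0(X_s, N|_{X_s}) = 1 for every
s and both N, the counit f^* f_* L → L is an isomorphism, and any invertible L₀ with L ≅ f^* L₀ is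
isomorphic to f_* L. -/
theorem result
    {X S : Scheme.{u}} (f : X ⟶ S) [IsProper f] [Flat f] [IsLocallyNoetherian X] [IsLocallyNoetherian S]
    [GeometricallyIntegral f] (L M : X.Modules) (hL : PicF.IsInvertible L)
    (hM : Nonempty (CohB1.tensorMod L M ≅ Coh.structureModule X)) :
    ((∃ L₀ : S.Modules, PicF.IsInvertible L₀ ∧ Nonempty (L ≅ (pullback f).obj L₀)) ↔
      ((∀ s : S, Nontrivial (CohIII.fiberH f L s 0)) ∧ (∀ s : S, Nontrivial (CohIII.fiberH f M s 0)) ∧
        (∀ s : S, Epi (CohBC.bc0 f (S.fromSpecResidueField s) (f.fiberToSpecResidueField s) (f.fiberι s) (f.fiber_fac s) L)) ∧ (∀ s : S, Epi (CohBC.bc0 f (S.fromSpecResidueField s) (f.fiberToSpecResidueField s) (f.fiberι s) (f.fiber_fac s) M)))) ∧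
    (((∀ s : S, Nontrivial (CohIII.fiberH f L s 0)) ∧ (∀ s : S, Nontrivial (CohIII.fiberH f M s 0)) ∧
        (∀ s : S, Epi (CohBC.bc0 f (S.fromSpecResidueField s) (f.fiberToSpecResidueField s) (f.fiberι s) (f.fiber_fac s) L)) ∧ (∀ s : S, Epi (CohBC.bc0 f (S.fromSpecResidueField s) (f.fiberToSpecResidueField s) (f.fiberι s) (f.fiber_fac s) M))) →
      (∀ s : S, CohIII.fiberRank f L 0 s = 1 ∧ CohIII.fiberRank f M 0 s = 1) ∧
      IsIso ((pullbackPushforwardAdjunction f).counit.app L) ∧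
      ∀ L₀ : S.Modules, PicF.IsInvertible L₀ → Nonempty (L ≅ (pullback f).obj L₀) →
        Nonempty (L₀ ≅ (pushforward f).obj L)) := by
  haveI : Surjective f := by
    haveI := Groth.Agent.Lib.Cube.OverField.geometricallyConnected_of_irreducible f
    infer_instance
  obtain ⟨hH, hint⟩ := Groth.Agent.Lib.Cube.SeesawCons.h0_of_geometricallyIntegral f
  have hpush := Groth.Agent.H2.Rigid.push_of_flat f hH
  obtain ⟨i⟩ := hM
  have hMi : PicF.IsInvertible M := Groth.Agent.Lib.TensorMod.TensorInv.isInvertible_of_tensor_iso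
    (Groth.Agent.Lib.TensorMod.Basic.comm M L ≪≫ i)
  have main : ∀ (A B : X.Modules), PicF.IsInvertible A → PicF.IsInvertible B →
      (CohB1.tensorMod A B ≅ Coh.structureModule X) →
      (∀ s : S, Nontrivial (CohIII.fiberH f A s 0)) → (∀ s : S, Nontrivial (CohIII.fiberH f B s 0)) →
      (∀ s : S, Epi (CohBC.bc0 f (S.fromSpecResidueField s) (f.fiberToSpecResidueField s) (f.fiberι s) (f.fiber_fac s) A)) →
      (∀ s : S, Epi (CohBC.bc0 f (S.fromSpecResidueField s) (f.fiberToSpecResidueField s) (f.fiberι s) (f.fiber_fac s) B)) →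
      ∃ A₀ : S.Modules, PicF.IsInvertible A₀ ∧ Nonempty ((Scheme.Modules.pullback f).obj A₀ ≅ A) := by
    intro A B hA hB j nA nB eA eB
    refine Groth.Agent.Lib.Cube.SeesawGlobal.exists_of_local_gen f hpush A fun s => ?_
    haveI := hint s
    have nt : ∀ (C : X.Modules), Nontrivial (CohIII.fiberH f C s 0) →
        Nontrivial Γ((Scheme.Modules.pullback (f.fiberι s)).obj C, ⊤) := fun C h =>
      (Groth.Agent.Lib.Curves.GlobalSections.h0Equiv (CohIII.fiberMod f C s)).symm.toEquiv.nontrivial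
    haveI := nt A (nA s)
    haveI := nt B (nB s)
    obtain ⟨W₁, m, hm⟩ := Groth.Agent.Lib.Cube.FibreGen.exists_ne_zero f _ _ _ (f.fiber_fac s) A (eA s)
    obtain ⟨W₂, n, hn⟩ := Groth.Agent.Lib.Cube.FibreGen.exists_ne_zero f _ _ _ (f.fiber_fac s) B (eB s)
    obtain ⟨V, hV, l, hl⟩ := Groth.Agent.Lib.Cube.FibreGen.exists_gen_of_pair f hpush hA hB j m n
      (Groth.Agent.Lib.Cube.FibreGen.genNear_of_ne_zero f (f.fiberι s) hA m hm)
      (Groth.Agent.Lib.Cube.FibreGen.genNear_of_ne_zero f (f.fiberι s) hB n hn)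
    refine ⟨V, ?_, l, hl⟩
    have e : f (f.fiberι s (genericPoint (f.fiber s))) ∈ ({s} : Set S) :=
      show f.fiberι s (genericPoint (f.fiber s)) ∈ f ⁻¹' {s} from f.range_fiberι s ▸ Set.mem_range_self _
    rwa [Set.mem_singleton_iff.1 e] at hV
  have back : ∀ (A : X.Modules) (A₀ : S.Modules), PicF.IsInvertible A₀ →
      ((Scheme.Modules.pullback f).obj A₀ ≅ A) → ∀ s : S,
      (Nontrivial (CohIII.fiberH f A s 0) ∧ CohIII.fiberRank f A 0 s = 1) ∧
        Epi (CohBC.bc0 f (S.fromSpecResidueField s) (f.fiberToSpecResidueField s) (f.fiberι s) (f.fiber_fac s) A) := by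
    intro A A₀ hA₀ e s
    haveI := hint s
    have hbij := Groth.Agent.Lib.Cube.SeesawGlobal.bijective_appTop_of_surjective _ (hH s)
    obtain ⟨t⟩ := Groth.Agent.Lib.Cube.SeesawCons.trivial_on_fibre f hA₀ e s
    letI : (f.fiber s).Over (Spec (CommRingCat.of (S.residueField s))) := ⟨f.fiberToSpecResidueField s⟩
    have hrank : CohIII.fiberRank f A 0 s = 1 := by
      letI := Groth.Agent.Lib.Curves.GlobalSections.secModule (S.residueField s) (Coh.structureModule (f.fiber s))
      let φ : S.residueField s →ₗ[S.residueField s]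
          ((Coh.structureModule (f.fiber s)).val.obj (Opposite.op ⊤) : Type u) :=
        LinearMap.toSpanSingleton _ _ (Groth.Agent.Lib.TensorMod.Gen.one (f.fiber s) ⊤)
      have hb : Function.Bijective φ := by
        have : (φ : S.residueField s → _) = fun a =>
            ((f.fiberToSpecResidueField s).appTop.hom ((Scheme.ΓSpecIso (S.residueField s)).inv.hom a) :) :=
          funext fun a => mul_one ((f.fiberToSpecResidueField s).appTop.hom ((Scheme.ΓSpecIso (S.residueField s)).inv.hom a))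
        rw [this]
        exact hbij.comp (ConcreteCategory.bijective_of_isIso (Scheme.ΓSpecIso (S.residueField s)).inv)
      exact ((Groth.Agent.Lib.Curves.LES.isoK (A := S.residueField s) t 0).trans
        ((Groth.Agent.Lib.Curves.GlobalSections.h0Linear (S.residueField s)
          (Coh.structureModule (f.fiber s))).trans (LinearEquiv.ofBijective φ hb).symm)).finrank_eq.trans
        (Module.finrank_self _)
    refine ⟨⟨Module.nontrivial_of_finrank_pos (R := S.residueField s) ?_, hrank⟩, ?_⟩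
    · exact lt_of_lt_of_eq one_pos hrank.symm
    obtain ⟨V, e₀, hsV, he₀⟩ := Groth.Agent.Lib.TensorMod.Gen.isInvertible_iff.1 hA₀ s
    have hl := Groth.Agent.Lib.Ample.GenLocus.isGen_of_isIso_over
      (Groth.Agent.Lib.Ample.GenLocus.isIso_over_of_iso e (f ⁻¹ᵁ V))
      (Groth.Agent.Lib.Ample.GenLocus.isGen_unitSec f he₀)
    refine Groth.Agent.Lib.Cube.FibreGen.epi_bc0_of_gen f _ _ _ (f.fiber_fac s) A (fun U => ?_)
      hbij.2 (W := V) ?_ _ hl
    · rcases (U : Set (Spec (S.residueField s))).eq_empty_or_nonempty with h | ⟨z, hz⟩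
      · exact Or.inl (TopologicalSpace.Opens.ext h)
      · exact Or.inr (top_unique fun w _ => Subsingleton.elim z w ▸ hz)
    · exact top_unique fun z _ => show S.fromSpecResidueField s z ∈ V by
        rw [S.fromSpecResidueField_apply]; exact hsV
  have hinv : ∀ L₀ : S.Modules, PicF.IsInvertible L₀ → ((Scheme.Modules.pullback f).obj L₀ ≅ L) →
      ∃ M₀ : S.Modules, PicF.IsInvertible M₀ ∧ Nonempty ((Scheme.Modules.pullback f).obj M₀ ≅ M) := by
    intro L₀ hL₀ e
    letI : ∀ Z : Scheme.{u}, PicGrp.Law Z := Groth.Agent.Lib.TensorMod.Invertible.law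
    obtain ⟨M₀, hM₀, hc⟩ := PicGrp.exists_eq_cls ((PicGrp.cls L₀ hL₀)⁻¹)
    refine ⟨M₀, hM₀, ?_⟩
    let p := PicGrp.pullHom f (Groth.Agent.Lib.TensorMod.Pullback.pullMul f)
    have h1 : p (PicGrp.cls L₀ hL₀) = PicGrp.cls L hL :=
      Subtype.ext ((PicGrp.cl_eq_cl_iff _ _).2 ⟨e⟩)
    have h2 : PicGrp.cls L hL * PicGrp.cls M hMi = 1 := by
      refine (PicGrp.cls_eq_one_iff
        (Groth.Agent.Lib.TensorMod.Invertible.isInvertible_tensorMod hL hMi)).2 ⟨i⟩ |> Eq.trans ?_
      exact Subtype.ext (PicGrp.cls_mul_cls_val hL hMi)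
    have h3 : p (PicGrp.cls M₀ hM₀) = PicGrp.cls M hMi := by
      rw [← hc, map_inv, h1]
      exact (eq_inv_of_mul_eq_one_right h2).symm
    exact (PicGrp.cl_eq_cl_iff _ _).1 (congrArg Subtype.val h3)
  refine ⟨⟨?_, fun h => ?_⟩, fun h => ?_⟩
  · rintro ⟨L₀, hL₀, ⟨e⟩⟩
    obtain ⟨M₀, hM₀, ⟨e'⟩⟩ := hinv L₀ hL₀ e.symm
    exact ⟨fun s => (back L L₀ hL₀ e.symm s).1.1, fun s => (back M M₀ hM₀ e' s).1.1,
      fun s => (back L L₀ hL₀ e.symm s).2, fun s => (back M M₀ hM₀ e' s).2⟩
  · obtain ⟨nL, nM, eL, eM⟩ := h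
    obtain ⟨L₀, hL₀, ⟨e⟩⟩ := main L M hL hMi i nL nM eL eM
    exact ⟨L₀, hL₀, ⟨e.symm⟩⟩
  · obtain ⟨nL, nM, eL, eM⟩ := h
    obtain ⟨L₀, hL₀, ⟨e⟩⟩ := main L M hL hMi i nL nM eL eM
    obtain ⟨M₀, hM₀, ⟨e'⟩⟩ := hinv L₀ hL₀ e
    refine ⟨fun s => ⟨(back L L₀ hL₀ e s).1.2, (back M M₀ hM₀ e' s).1.2⟩,
      (Groth.Agent.Lib.Cube.SeesawCons.counit_of_pullback f hpush hL₀ e).2, fun L₁ hL₁ ⟨e₁⟩ => ?_⟩
    have hη : IsIso ((Scheme.Modules.pullbackPushforwardAdjunction f).unit.app L₁) :=
      Groth.Agent.Lib.TensorMod.LocIso.isIso_unit_of_isFinLocFree f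
        (fun U => (ConcreteCategory.isIso_iff_bijective _).2 (hpush U))
        (Groth.Agent.Lib.TensorMod.LocFree.of_rank (Groth.Agent.Lib.TensorMod.LocFree.of_isInvertible hL₁))
    exact ⟨asIso ((Scheme.Modules.pullbackPushforwardAdjunction f).unit.app L₁) ≪≫
      (Scheme.Modules.pushforward f).mapIso e₁.symm⟩

end Groth.Agent.S16951
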