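import Groth.Statements.S1696
import Groth.Agent.Lib.DerivedOX.PullbackStalk
import Groth.Agent.Lib.Ideal.EffCartier
import Groth.Agent.Lib.Ideal.Comap
import Groth.Agent.Lib.Modules.StalkModule
import Mathlib.RingTheory.Flat.TorsionFree
import Mathlib.RingTheory.Flat.Stability

set_option autoImplicit false
universe u
open CategoryTheory CategoryTheory.Limits AlgebraicGeometry TopologicalSpace
open SDiv

namespace Groth.Agent.S1696

open Groth.Agent.Lib

theorem flat_pullback_stalk {X Y : Scheme.{u}} (f : X ⟶ Y) (F : Y.Modules) (x : X)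
    (h : FlatMod.IsFlatAt F (f x)) :
    Module.Flat (X.presheaf.stalk x) (((Scheme.Modules.pullback f).obj F).presheaf.stalk x) := by
  letI := (f.stalkMap x).hom.toAlgebra
  haveI : Module.Flat (Y.presheaf.stalk (f x)) (F.presheaf.stalk (f x)) := h
  haveI : Module.Flat (X.presheaf.stalk x)
      (TensorProduct (Y.presheaf.stalk (f x)) (X.presheaf.stalk x) (F.presheaf.stalk (f x))) :=
    inferInstance
  let e : TensorProduct (Y.presheaf.stalk (f x)) (X.presheaf.stalk x) (F.presheaf.stalk (f x))
      ≃ₗ[X.presheaf.stalk x] ((Scheme.Modules.pullback f).obj F).presheaf.stalk x :=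
    (asIso ((DerivedOX.PullbackStalk.comparison f x).app F)).toLinearEquiv
  exact Module.Flat.of_linearEquiv e.symm

theorem killed_eq_zero {X Y : Scheme.{u}} (f : X ⟶ Y) (I : Y.IdealSheafData)
    (hI : BlowUp.IsEffCartierIdeal (I.comap f)) (G : X.Modules)
    (hflat : ∀ x : X, f x ∈ I.support → Module.Flat (X.presheaf.stalk x) (G.presheaf.stalk x))
    (V : X.affineOpens) (m : G.presheaf.obj (Opposite.op V.1))
    (hm : BlowUp.KilledByPowerNear (I.comap f) G V m) : m = 0 := by
  obtain ⟨n, hn⟩ := hm
  suffices hgerm : ∀ x (hx : x ∈ V.1), G.presheaf.germ V.1 x hx m = 0 by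
    exact TopCat.Presheaf.section_ext ⟨G.presheaf, G.isSheaf⟩ V.1 m 0 fun x hx =>
      (hgerm x hx).trans (map_zero (G.presheaf.germ V.1 x hx).hom).symm
  intro x hx
  obtain ⟨W, hxW, hWV, t, ht, htW⟩ := Ideal.EffCartier.exists_gen hI x hx
  set M := G.presheaf.germ V.1 x hx m
  set τ := X.presheaf.germ W.1 x hxW t
  show M = 0
  have hpow : τ ^ n • M = 0 := by
    have key : ∀ c ∈ ((I.comap f) ^ n).ideal W, X.presheaf.germ W.1 x hxW c • M = 0 := by
      intro c hc
      rw [← ((I.comap f) ^ n).map_ideal hWV, Ideal.map] at hc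
      induction hc using Submodule.span_induction with
      | mem c hc =>
        obtain ⟨a, ha, rfl⟩ := hc
        have e := congrArg (G.presheaf.germ V.1 x hx) (hn a ha)
        rw [Modules.StalkModule.germ_smul, map_zero] at e
        rw [← e]
        congr 1
        exact TopCat.Presheaf.germ_res_apply X.presheaf (homOfLE hWV) x hxW a
      | zero => rw [map_zero]; exact zero_smul _ M
      | add c d _ _ hc hd => rw [map_add, add_smul, hc, hd, add_zero]
      | smul r c _ hc => rw [smul_eq_mul, map_mul, mul_smul, hc, smul_zero]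
    rw [← map_pow]
    refine key _ ?_
    rw [Scheme.IdealSheafData.ideal_pow, Pi.pow_apply, htW, Ideal.span_singleton_pow]
    exact Ideal.mem_span_singleton_self _
  by_cases hu : IsUnit τ
  · exact (hu.pow n).smul_eq_zero.mp hpow
  · have hx' : f x ∈ I.support := by
      have h1 : x ∈ (I.comap f).support := by
        rw [Scheme.IdealSheafData.mem_support_iff_of_mem hxW, Scheme.mem_zeroLocus_iff]
        intro g hg hxg
        obtain ⟨c, rfl⟩ := Ideal.mem_span_singleton'.mp (htW.le hg)
        rw [X.mem_basicOpen _ x hxW, map_mul] at hxg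
        exact hu (isUnit_of_mul_isUnit_right hxg)
      rwa [Scheme.IdealSheafData.support_comap] at h1
    haveI := hflat x hx'
    exact (Module.Flat.isSMulRegular_of_nonZeroDivisors
      (pow_mem (Ideal.EffCartier.germ_mem_nonZeroDivisors W.2 ht x hxW) n))
      (hpow.trans (smul_zero _).symm)

/-- Let b : S' → S be the blowing-up of a scheme S in a quasi-coherent sheaf of ideals 𝓘 and F a
quasi-coherent O_S-module which is flat at every point of V(𝓘), the support of O_S/𝓘. Then the
pullback b^*F is its own strict transform (via the identity map): no nonzero local section of b^*F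
is annihilated by a power of the exceptional ideal. -/
theorem result {S S' : Scheme.{u}} (𝓘 : S.IdealSheafData) (b : S' ⟶ S) (hb : BlowUp.IsBlowUp b 𝓘)
    (F : S.Modules) (hF : Coh.IsQCoh F) (hflat : ∀ s : ↥S, s ∈ 𝓘.support → FlatMod.IsFlatAt F s) :
    BlowUp.IsStrictTransform b 𝓘 F ((Scheme.Modules.pullback b).obj F) (𝟙 _) := by
  refine ⟨inferInstance, fun V m => ⟨fun h => ⟨0, fun a _ => ?_⟩, fun h => ?_⟩⟩
  · rw [show m = 0 from h]; exact smul_zero a
  · exact killed_eq_zero b 𝓘 hb.1 _ (fun x hx => flat_pullback_stalk b F x (hflat _ hx)) V m h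

end Groth.Agent.S1696
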