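import Groth.Statements.S16962
import Mathlib.LinearAlgebra.TensorProduct.Basic

set_option autoImplicit false
universe u
open ConstAct

namespace Groth.Agent.S16962

open TensorProduct in
/-- Let R be a commutative ring, Γ a finite group and B a commutative R-algebra equipped with a comodule
structure over the Hopf algebra of R-valued functions on Γ (the coordinate ring of the constant
group scheme of Γ over Spec R, with basis the indicator functions e_γ) whose coaction B → B ⊗ Fun(Γ,
R) is a homomorphism of algebras, i.e. an action of the constant group scheme on Spec B. Then there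
is exactly one action of Γ on B by R-algebra automorphisms whose associated coaction b ↦ Σ_γ (γ · b)
⊗ e_γ is the given coaction; and for that action the ring of invariants of the comodule algebra (the
b whose coaction is b ⊗ 1) equals the ring of elements fixed by Γ. (That the coaction associated
with an action is a comodule algebra structure is the other direction of the published equivalence
and is a construction here.) -/
theorem result (R : Type u) [CommRing R]
    (B : Type u) [CommRing B] [Algebra R B] (Γ : Type u) [Group Γ] [Fintype Γ] [DecidableEq Γ]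
    [HopfRep.Comod R (ConstGrp.F R Γ) B] [GLin.IsCoactAlg R (ConstGrp.F R Γ) B] :
    ∃! a : MulSemiringAction Γ B, ∃ _ : SMulCommClass Γ R B,
      ConstAct.coactLin R B Γ = HopfRep.Comod.coact (k := R) (A := ConstGrp.F R Γ) (V := B) ∧
        GLin.invariants R (ConstGrp.F R Γ) B = ConstAct.inv R B Γ := by
  classical
  let ρ : B →ₗ[R] B ⊗[R] ConstGrp.F R Γ := HopfRep.Comod.coact (k := R) (A := ConstGrp.F R Γ) (V := B)
  let evL : Γ → B ⊗[R] ConstGrp.F R Γ →ₐ[R] B := fun γ =>
    (Algebra.TensorProduct.rid R R B).toAlgHom.comp (Algebra.TensorProduct.map (AlgHom.id R B) (ConstGrp.ev R γ))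
  have hev : ∀ γ b f, evL γ (b ⊗ₜ[R] f) = f γ • b := fun γ b f => by simp [evL]
  have hev' : ∀ (γ δ : Γ) b, evL γ (b ⊗ₜ[R] ConstGrp.e R δ) = if γ = δ then b else 0 := fun γ δ b => by
    rw [hev, ConstGrp.e_apply]; split_ifs <;> simp
  have hexp : ∀ x : B ⊗[R] ConstGrp.F R Γ, x = ∑ γ, evL γ x ⊗ₜ[R] ConstGrp.e R γ := fun x => by
    induction x with
    | zero => simp
    | tmul b f =>
      conv_lhs => rw [ConstGrp.eq_sum_smul_e f, TensorProduct.tmul_sum]
      exact Finset.sum_congr rfl fun γ _ => by rw [hev, TensorProduct.smul_tmul]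
    | add x y hx hy =>
      conv_lhs => rw [hx, hy, ← Finset.sum_add_distrib]
      exact Finset.sum_congr rfl fun γ _ => by rw [map_add, TensorProduct.add_tmul]
  let act : Γ → B → B := fun γ b => evL γ (ρ b)
  have hρ : ∀ b, ρ b = ∑ γ, act γ b ⊗ₜ[R] ConstGrp.e R γ := fun b => hexp (ρ b)
  have hone : ∀ b, act 1 b = b := fun b => by
    have h := LinearMap.congr_fun (HopfRep.Comod.counit_comp (k := R) (A := ConstGrp.F R Γ) (V := B)) b
    change (CoalgebraStruct.counit (R := R) (A := ConstGrp.F R Γ)).lTensor B (ρ b) = b ⊗ₜ[R] (1 : R) at h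
    rw [hρ, map_sum] at h
    simp only [LinearMap.lTensor_tmul, ConstGrp.counit_e, TensorProduct.tmul_ite, Finset.sum_ite_eq, Finset.mem_univ,
      if_true] at h
    simpa using congrArg (TensorProduct.rid R B) h
  have hmul : ∀ γ δ b, act (γ * δ) b = act γ (act δ b) := fun γ δ b => by
    have h := LinearMap.congr_fun (HopfRep.Comod.coassoc (k := R) (A := ConstGrp.F R Γ) (V := B)) b
    change (TensorProduct.assoc R B _ _) (ρ.rTensor (ConstGrp.F R Γ) (ρ b)) =
      (CoalgebraStruct.comul (R := R) (A := ConstGrp.F R Γ)).lTensor B (ρ b) at h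
    let E : B ⊗[R] (ConstGrp.F R Γ ⊗[R] ConstGrp.F R Γ) →ₗ[R] B :=
      (TensorProduct.rid R B).toLinearMap.comp (LinearMap.lTensor B ((TensorProduct.rid R R).toLinearMap.comp
        (TensorProduct.map (ConstGrp.ev R γ).toLinearMap (ConstGrp.ev R δ).toLinearMap)))
    have hE : ∀ x f g, E (x ⊗ₜ[R] (f ⊗ₜ[R] g)) = (f γ * g δ) • x := fun x f g => by simp [E, mul_comm]
    have h2 := congrArg E h
    have hL : E ((TensorProduct.assoc R B _ _) (ρ.rTensor (ConstGrp.F R Γ) (ρ b))) = act γ (act δ b) := by
      rw [hρ b, map_sum, map_sum, map_sum, Finset.sum_eq_single δ]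
      · rw [LinearMap.rTensor_tmul, hρ (act δ b), TensorProduct.sum_tmul, map_sum, map_sum, Finset.sum_eq_single γ]
        · simp [hE]
        · intro x _ hx; simp [hE, ConstGrp.e_apply, Ne.symm hx]
        · simp
      · intro x _ hx
        rw [LinearMap.rTensor_tmul, hρ (act x b), TensorProduct.sum_tmul, map_sum, map_sum]
        exact Finset.sum_eq_zero fun y _ => by simp [hE, ConstGrp.e_apply, Ne.symm hx]
      · simp
    have hR : E ((CoalgebraStruct.comul (R := R) (A := ConstGrp.F R Γ)).lTensor B (ρ b)) = act (γ * δ) b := by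
      rw [hρ b, map_sum, map_sum, Finset.sum_eq_single (γ * δ)]
      · rw [LinearMap.lTensor_tmul, ConstGrp.comul_e, TensorProduct.tmul_sum, map_sum, Finset.sum_eq_single γ]
        · simp [hE]
        · intro x _ hx; simp [hE, ConstGrp.e_apply, Ne.symm hx]
        · simp
      · intro x _ hx
        rw [LinearMap.lTensor_tmul, ConstGrp.comul_e, TensorProduct.tmul_sum, map_sum]
        refine Finset.sum_eq_zero fun y _ => ?_
        rw [hE]
        by_cases hy : γ = y
        · subst hy
          have : δ ≠ γ⁻¹ * x := fun e => hx (by rw [e, mul_inv_cancel_left])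
          simp [ConstGrp.e_apply, this]
        · simp [ConstGrp.e_apply, hy]
      · simp
    rw [hL, hR] at h2
    exact h2.symm
  let a : MulSemiringAction Γ B :=
    { smul := act
      one_smul := hone
      mul_smul := hmul
      smul_zero := fun γ => show evL γ (ρ 0) = 0 by rw [map_zero, map_zero]
      smul_add := fun γ x y => show evL γ (ρ (x + y)) = evL γ (ρ x) + evL γ (ρ y) by rw [map_add, map_add]
      smul_one := fun γ => show evL γ (ρ 1) = 1 by
        rw [show ρ 1 = 1 from GLin.IsCoactAlg.coact_one (k := R) (A := ConstGrp.F R Γ) (R := B), map_one]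
      smul_mul := fun γ x y => show evL γ (ρ (x * y)) = evL γ (ρ x) * evL γ (ρ y) by
        rw [show ρ (x * y) = ρ x * ρ y from GLin.IsCoactAlg.coact_mul (k := R) (A := ConstGrp.F R Γ) (R := B) x y, map_mul] }
  letI := a
  haveI hcomm : SMulCommClass Γ R B := ⟨fun γ r b => show evL γ (ρ (r • b)) = r • evL γ (ρ b) by rw [map_smul, map_smul]⟩
  have hco : ConstAct.coactLin R B Γ = ρ := LinearMap.ext fun b => (ConstAct.coactLin_apply R B Γ b).trans (hρ b).symm
  refine ⟨a, ⟨hcomm, hco, ?_⟩, ?_⟩
  · ext b
    show ρ b = b ⊗ₜ[R] (1 : ConstGrp.F R Γ) ↔ ∀ γ : Γ, act γ b = b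
    constructor
    · intro h γ
      show evL γ (ρ b) = b
      rw [h, hev, ConstGrp.one_apply, one_smul]
    · intro h
      rw [hρ, Finset.sum_congr rfl fun γ _ => by rw [h γ], ← TensorProduct.tmul_sum, ConstGrp.sum_e]
  · rintro a' ⟨h', hc', -⟩
    suffices hsm : ∀ (γ : Γ) (b : B), a'.smul γ b = act γ b by
      cases a'
      congr 1
      exact DistribMulAction.ext (funext₂ hsm)
    intro γ b
    have h1 : evL γ (@ConstAct.coactLin R _ B _ _ Γ _ _ _ a' h' b) = evL γ (ρ b) := by rw [hc']
    rw [@ConstAct.coactLin_apply R _ B _ _ Γ _ _ _ a' h' b, map_sum, Finset.sum_congr rfl fun δ _ => hev' γ δ _,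
      Finset.sum_ite_eq, if_pos (Finset.mem_univ _)] at h1
    exact h1

end Groth.Agent.S16962
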