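import Groth.Statements.S16963
import Mathlib.LinearAlgebra.TensorProduct.Basic

set_option autoImplicit false
universe u
open scoped BigOperators
open ConstAct

namespace Groth.Agent.S16963

open TensorProduct in
/-- Let R be a commutative ring and Γ a finite group acting on a commutative R-algebra B by R-algebra
automorphisms; regard B as a comodule algebra over the Hopf algebra of R-valued functions on Γ (the
constant group scheme of Γ acting on Spec B) through the coaction b ↦ Σ_γ (γ · b) ⊗ e_γ. Then the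
action is tame — there is a comodule map α from the Hopf algebra, with its regular coaction, to B
with α(1) = 1 (a total integral) — if and only if the trace b ↦ Σ_γ γ · b, which takes values in the
ring of invariants B^Γ, maps B onto B^Γ. -/
theorem result (R : Type u) [CommRing R]
    (B : Type u) [CommRing B] [Algebra R B] (Γ : Type u) [Group Γ] [Fintype Γ] [DecidableEq Γ]
    [MulSemiringAction Γ B] [SMulCommClass Γ R B] :
    letI := ConstAct.comod R B Γ
    (∃ α : ConstGrp.F R Γ →ₗ[R] B, Hoch.IsComodHom (ConstGrp.F R Γ) α ∧ α 1 = 1) ↔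
      ∀ c : B, c ∈ ConstAct.inv R B Γ → ∃ b : B, ∑ γ : Γ, γ • b = c := by
  letI := ConstAct.comod R B Γ
  classical
  let evL : Γ → B ⊗[R] ConstGrp.F R Γ →ₗ[R] B := fun γ =>
    (TensorProduct.rid R B).toLinearMap.comp ((ConstGrp.ev R γ).toLinearMap.lTensor B)
  have hev' : ∀ (γ δ : Γ) b, evL γ (b ⊗ₜ[R] ConstGrp.e R δ) = if γ = δ then b else 0 := fun γ δ b => by
    simp [evL, ConstGrp.e_apply]
  constructor
  · rintro ⟨α, hα, hα1⟩ c hc
    have key : ∀ γ k, γ • α (ConstGrp.e R k) = α (ConstGrp.e R (k * γ⁻¹)) := fun γ k => by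
      have h := LinearMap.congr_fun hα (ConstGrp.e R k)
      change ConstAct.coactLin R B Γ (α (ConstGrp.e R k)) =
        α.rTensor (ConstGrp.F R Γ) (CoalgebraStruct.comul (R := R) (ConstGrp.e R k)) at h
      rw [ConstAct.coactLin_apply, ConstGrp.comul_e, map_sum] at h
      have h1 := congrArg (evL γ) h
      simp only [map_sum, LinearMap.rTensor_tmul, hev'] at h1
      rw [Finset.sum_ite_eq, if_pos (Finset.mem_univ _), Finset.sum_eq_single (k * γ⁻¹)] at h1
      · rw [if_pos (by rw [mul_inv_rev, inv_inv, inv_mul_cancel_right])] at h1; exact h1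
      · intro x _ hx; rw [if_neg]; intro e; exact hx (by rw [e]; group)
      · simp
    refine ⟨c * α (ConstGrp.e R 1), ?_⟩
    simp only [smul_mul', (ConstAct.mem_inv R B Γ c).mp hc, ← Finset.mul_sum, key, one_mul]
    rw [Fintype.sum_equiv (Equiv.inv Γ) (fun g => α (ConstGrp.e R g⁻¹)) (fun g => α (ConstGrp.e R g)) (fun g => rfl), ← map_sum, ConstGrp.sum_e, hα1, mul_one]
  · intro h
    obtain ⟨t, ht⟩ := h 1 (fun γ => smul_one γ)
    let α : ConstGrp.F R Γ →ₗ[R] B := ∑ γ : Γ, ((ConstGrp.ev R γ).toLinearMap.smulRight (γ⁻¹ • t))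
    have hαe : ∀ k, α (ConstGrp.e R k) = k⁻¹ • t := fun k => by
      simp [α, LinearMap.sum_apply, ConstGrp.e_apply]
    refine ⟨α, ConstGrp.linearMap_ext fun k => ?_, ?_⟩
    · show ConstAct.coactLin R B Γ (α (ConstGrp.e R k)) =
        α.rTensor (ConstGrp.F R Γ) (CoalgebraStruct.comul (R := R) (ConstGrp.e R k))
      rw [ConstAct.coactLin_apply, ConstGrp.comul_e, map_sum]
      refine Fintype.sum_equiv ((Equiv.inv Γ).trans (Equiv.mulLeft k)) _ _ fun γ => ?_
      show (γ • α (ConstGrp.e R k)) ⊗ₜ[R] ConstGrp.e R γ =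
        α.rTensor (ConstGrp.F R Γ) (ConstGrp.e R (k * γ⁻¹) ⊗ₜ[R] ConstGrp.e R ((k * γ⁻¹)⁻¹ * k))
      rw [LinearMap.rTensor_tmul, hαe, hαe, smul_smul, mul_inv_rev, inv_inv, inv_mul_cancel_right]
    · rw [← ConstGrp.sum_e, map_sum]
      simp only [hαe]
      rw [Fintype.sum_equiv (Equiv.inv Γ) (fun g => g⁻¹ • t) (fun g => g • t) (fun g => rfl), ht]

end Groth.Agent.S16963
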