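import Groth.Statements.S16966
import Groth.Agent.Lib.Curves.SlopeBound

set_option autoImplicit false
universe u
open CategoryTheory CategoryTheory.Limits AlgebraicGeometry Opposite
open Curves

namespace Groth.Agent.S16966

/-- Let X be a smooth projective curve over an algebraically closed field k of characteristic 0 (an
integral scheme, proper over k, of dimension one, with all local rings regular), of genus g ≥ 1, and
L an invertible O_X-module with deg L > 2g. Then the morphism to projective space given by the
complete linear system of L is linearly stable, stated through the criterion by invertible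
subsheaves: for every invertible module M and every monomorphism ι : M ⟶ L that is not an
isomorphism, with dim_k H^0(X, M) ≥ 2, one has deg L · (h^0(M) - 1) < deg M · (h^0(L) - 1), i.e. the
reduced degree deg M / (h^0(M) - 1) of the projection exceeds the reduced degree deg L / (h^0(L) -
1). Degrees are χ(·) - χ(O_X). -/
theorem result (k : Type u) [Field k] [IsAlgClosed k] [CharZero k] (X : Scheme.{u}) [X.Over (Spec (CommRingCat.of k))]
    [IsIntegral X] [IsProper (X ↘ (Spec (CommRingCat.of k)))] (hdim : topologicalKrullDim X = 1)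
    (hreg : ∀ x : X, IsRegularLocalRing (X.presheaf.stalk x))
    (hg : 1 ≤ Curv2.genus k X) (L : X.Modules) (hL : PicF.IsInvertible L)
    (hdeg : 2 * (Curv2.genus k X : ℤ) < Curv2.deg k X L 1)
    (M : X.Modules) (hM : PicF.IsInvertible M) (ι : M ⟶ L) [Mono ι] (hι : ¬ IsIso ι)
    (h2 : 2 ≤ Module.finrank k (Coh.HH X M 0)) :
    Curv2.deg k X L 1 * ((Module.finrank k (Coh.HH X M 0) : ℤ) - 1) <
      Curv2.deg k X M 1 * ((Module.finrank k (Coh.HH X L 0) : ℤ) - 1) := by
  have hd : topologicalKrullDim X ≤ 1 := hdim.le
  have := Groth.Agent.Lib.Curves.GlobalSections.noetherianSpace_of_proper k X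
  have gM := Groth.Agent.Lib.Curves.Degree.isGood (k := k) hd hM
  have gL := Groth.Agent.Lib.Curves.Degree.isGood (k := k) hd hL
  have hne : ι ≠ 0 := by
    rintro rfl
    have hz : CategoryTheory.Limits.IsZero M :=
      CategoryTheory.Limits.IsZero.of_mono_eq_zero (0 : M ⟶ L) rfl
    have : Subsingleton (Coh.HH X M 0) := subsingleton_of_forall_eq 0 fun z =>
      Groth.Agent.Lib.Curves.LES.mapK_injective_of_mono k (0 : M ⟶ L) (by
        rw [show (0 : M ⟶ L) = 𝟙 M ≫ (0 : M ⟶ L) by simp, hz.eq_of_src (𝟙 M) 0,
          Groth.Agent.Lib.Curves.LES.mapK_comp, LinearMap.comp_apply]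
        have h0 : ∀ w, Groth.Agent.Lib.Curves.LES.mapK k (0 : M ⟶ M) 0 w = 0 := fun w => by
          have := LinearMap.congr_fun (Groth.Agent.Lib.Curves.Clifford.mapK_add k (0 : M ⟶ M) 0 0) w
          rw [add_zero, LinearMap.add_apply] at this
          exact left_eq_add.mp this
        rw [LinearMap.comp_apply, h0, h0])
    have := Module.finrank_zero_of_subsingleton (R := k) (M := Coh.HH X M 0)
    omega
  have hle := Groth.Agent.Lib.Curves.Positivity.deg_le_of_ne_zero hd hM hL gM gL hne
  have hlt : Curv2.deg k X M 1 < Curv2.deg k X L 1 := lt_of_le_of_ne hle fun he =>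
    hι (Groth.Agent.Lib.Curves.Positivity.isIso_of_deg_eq hd hM hL gM gL hne he)
  have hL0 := Groth.Agent.Lib.Curves.Clifford.hdim_zero_eq_of_deg k hd
    (Groth.Agent.Lib.Curves.GlobalSections.finrank_h0_structure k X) hL (by omega)
  simp only [Groth.Agent.Lib.Curves.Euler.hdim] at hL0
  rw [hL0]
  have hh := Groth.Agent.Lib.Curves.SlopeBound.lt_of_dichotomy (g := (Curv2.genus k X : ℤ))
    (e := Curv2.deg k X M 1) (d := Curv2.deg k X L 1)
    (m := (Module.finrank k (Coh.HH X M 0) : ℤ) - 1) (h := (Module.finrank k (Coh.HH X M 0) : ℤ))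
    (by exact_mod_cast hg) (by omega) (by omega) hdeg hle (Or.inl hlt)
    (Groth.Agent.Lib.Curves.SlopeBound.dichotomy k hd hM (by omega))
  linarith

end Groth.Agent.S16966
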