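import Groth.Statements.S16967
import Groth.Agent.Lib.CurveFF.SubLine
import Groth.Agent.Lib.CurveFF.CliffordSub
import Groth.Agent.Lib.CurveFF.OmegaRep
import Groth.Agent.Lib.CurveFF.Hyp
-- import your own Groth.Agent.* helpers here

set_option autoImplicit false
universe u
open CategoryTheory CategoryTheory.Limits AlgebraicGeometry Opposite
open Curves

namespace Groth.Agent.S16967
open Groth.Agent.Lib
attribute [local instance] Curv2.stalkAlgebra

/-- Let X be a smooth projective curve over an algebraically closed field k of characteristic 0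
(integral, proper over k, of dimension one, all local rings regular) of genus g ≥ 3 that is not
hyperelliptic: there is no invertible module of degree 2 with two k-linearly independent global
sections. Then the canonical morphism of X is linearly stable, stated through the criterion by
invertible subsheaves: for every invertible module M and every monomorphism ι : M ⟶ Ω_{X/k} which is
not an isomorphism, with dim_k H^0(X, M) ≥ 2, one has deg Ω_{X/k} · (h^0(M) - 1) < deg M ·
(h^0(Ω_{X/k}) - 1). Degrees are χ(·) - χ(O_X). -/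
theorem result (k : Type u) [Field k] [IsAlgClosed k] [CharZero k] (X : Scheme.{u}) [X.Over (Spec (CommRingCat.of k))]
    [IsIntegral X] [IsProper (X ↘ (Spec (CommRingCat.of k)))] (hdim : topologicalKrullDim X = 1)
    (hreg : ∀ x : X, IsRegularLocalRing (X.presheaf.stalk x))
    (hg : 3 ≤ Curv2.genus k X)
    (hnh : ¬ ∃ (N : X.Modules) (t : Fin 2 → LinSer.Sect X N), LinSer.IsLinSer k X N 2 1 t)
    (M : X.Modules) (hM : PicF.IsInvertible M) (ι : M ⟶ Omega.sheaf (X ↘ (Spec (CommRingCat.of k)))) [Mono ι] (hι : ¬ IsIso ι)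
    (h2 : 2 ≤ Module.finrank k (Coh.HH X M 0)) :
    Curv2.deg k X (Omega.sheaf (X ↘ (Spec (CommRingCat.of k)))) 1 * ((Module.finrank k (Coh.HH X M 0) : ℤ) - 1) <
      Curv2.deg k X M 1 * ((Module.finrank k (Coh.HH X (Omega.sheaf (X ↘ (Spec (CommRingCat.of k)))) 0) : ℤ) - 1) := by
  have h := CurveFF.curveHyp_of_regular k hdim hreg
  have h0 := Curves.GlobalSections.finrank_h0_structure k X
  have hK := CurveFF.isFunctionField (k := k) h h0
  rw [CurveFF.genus_eq h h0] at hg
  obtain ⟨W, hW⟩ := CurveFF.OmegaRep.exists_rep h hK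
  have hWd : Curv2.deg k X (Omega.sheaf (X ↘ (Spec (CommRingCat.of k)))) 1 =
      2 * (_root_.FunFld.genus k X.functionField : ℤ) - 2 := by
    rw [W.deg_eq h hK, FunFld.Weil.deg_canonical hK hW]
  have hWl : Module.finrank k (Coh.HH X (Omega.sheaf (X ↘ (Spec (CommRingCat.of k)))) 0) =
      _root_.FunFld.genus k X.functionField := by
    rw [W.finrank_h0 h hK, FunFld.Weil.ell_canonical hK hW]
  obtain ⟨R⟩ := CurveFF.LineDiv.nonempty_rep hM
  have hlt := CurveFF.SubLine.deg_lt_of_mono h hK hM W.inv ι hι
  rw [hWd, R.deg_eq h hK] at hlt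
  rw [R.finrank_h0 h hK] at h2
  have hb := CurveFF.CliffordEq.bound h hK hW (D := R.div h hK) (by omega)
    (by rw [FunFld.Weil.deg_canonical hK hW]; exact hlt)
  have hne : 2 * (_root_.FunFld.ell (R.div h hK) : ℤ) ≠ (R.div h hK).deg + 2 := by
    intro heq
    obtain ⟨N, hNd, hNl, -⟩ := CurveFF.CliffordEq.exists_multiple h hK hW (D := R.div h hK) (by omega)
      (hb.2 heq h2)
      (fun ⟨g, hg', hge⟩ => by
        have := FunFld.Riemann.ell_add_div hK (0 : _root_.FunFld.Divisor k X.functionField) hg'
        rw [zero_add, ← hge, FunFld.Degree.ell_zero hK] at this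
        omega)
      (fun ⟨g, hg', hge⟩ => by
        rw [hge, FunFld.Degree.deg_add, FunFld.Degree.deg_div hK, FunFld.Weil.deg_canonical hK hW] at hlt
        omega) heq
    obtain ⟨P, Q, hQ, hPd⟩ := CurveFF.LineDiv.exists_line h hK N
    letI := Curves.GlobalSections.secModule k P
    obtain ⟨eQ⟩ := Q.nonempty_h0_equiv h hK
    let e' := (Curves.GlobalSections.h0Linear k P).symm.trans eQ
    haveI := FunFld.Degree.finiteDimensional_L hK (Q.div h hK)
    haveI : Module.Finite k (P.val.obj (Opposite.op ⊤) : Type u) := Module.Finite.equiv e'.symm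
    obtain ⟨s, hs2⟩ := exists_linearIndependent_of_le_finrank (R := k)
      (M := (P.val.obj (Opposite.op ⊤) : Type u)) (n := 2) (by
        rw [e'.finrank_eq, hQ]; exact hNl)
    exact hnh ⟨P, s, ⟨Q.inv, by rw [hPd, hNd]; rfl, fun c hc => funext fun i =>
      Fintype.linearIndependent_iff.1 hs2 c hc i⟩⟩
  rw [hWd, hWl, R.deg_eq h hK, R.finrank_h0 h hK]
  have hb1 := hb.1
  have hlt2 : 2 * ((_root_.FunFld.ell (R.div h hK) : ℤ) - 1) < (R.div h hK).deg := by omega
  have hgg : (3 : ℤ) ≤ _root_.FunFld.genus k X.functionField := by exact_mod_cast hg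
  nlinarith

end Groth.Agent.S16967
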