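import Groth.Statements.S16968
import Groth.Agent.Lib.CurveFF.SubLine
import Groth.Agent.Lib.CurveFF.CliffordSub
import Groth.Agent.Lib.CurveFF.PencilDim
import Groth.Agent.Lib.CurveFF.OmegaRep
import Groth.Agent.Lib.CurveFF.Hyp
-- import your own Groth.Agent.* helpers here

set_option autoImplicit false
universe u
open CategoryTheory CategoryTheory.Limits AlgebraicGeometry Opposite
open Curves

namespace Groth.Agent.S16968
open Groth.Agent.Lib
attribute [local instance] Curv2.stalkAlgebra

/-- Let X be a smooth projective curve over an algebraically closed field k of characteristic 0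
(integral, proper over k, of dimension one, all local rings regular) of genus g ≥ 3 which is
hyperelliptic, with a g^1_2 given as an invertible module N of degree 2 and two k-linearly
independent global sections t_0, t_1. Then the canonical morphism of X is linearly semistable but
not linearly stable, stated through the criterion by invertible subsheaves: (i) for every invertible
module M and every monomorphism ι : M ⟶ Ω_{X/k} which is not an isomorphism, with dim_k H^0(X, M) ≥
2, one has deg Ω_{X/k} · (h^0(M) - 1) ≤ deg M · (h^0(Ω_{X/k}) - 1); (ii) N admits a monomorphism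
into Ω_{X/k} which is not an isomorphism and for which equality holds. Degrees are χ(·) - χ(O_X).
(The published statement gives no genus bound for the hyperelliptic case; here g ≥ 3 is assumed,
since for g = 2 the module N is the canonical module itself and clause (ii) fails.) -/
theorem result (k : Type u) [Field k] [IsAlgClosed k] [CharZero k] (X : Scheme.{u}) [X.Over (Spec (CommRingCat.of k))]
    [IsIntegral X] [IsProper (X ↘ (Spec (CommRingCat.of k)))] (hdim : topologicalKrullDim X = 1)
    (hreg : ∀ x : X, IsRegularLocalRing (X.presheaf.stalk x))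
    (hg : 3 ≤ Curv2.genus k X)
    (N : X.Modules) (t : Fin 2 → LinSer.Sect X N) (hN : LinSer.IsLinSer k X N 2 1 t) :
    (∀ (M : X.Modules) (ι : M ⟶ Omega.sheaf (X ↘ (Spec (CommRingCat.of k)))), PicF.IsInvertible M → Mono ι → ¬ IsIso ι →
        2 ≤ Module.finrank k (Coh.HH X M 0) →
        Curv2.deg k X (Omega.sheaf (X ↘ (Spec (CommRingCat.of k)))) 1 * ((Module.finrank k (Coh.HH X M 0) : ℤ) - 1) ≤
          Curv2.deg k X M 1 * ((Module.finrank k (Coh.HH X (Omega.sheaf (X ↘ (Spec (CommRingCat.of k)))) 0) : ℤ) - 1)) ∧
      ∃ ι : N ⟶ Omega.sheaf (X ↘ (Spec (CommRingCat.of k))), Mono ι ∧ ¬ IsIso ι ∧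
        Curv2.deg k X (Omega.sheaf (X ↘ (Spec (CommRingCat.of k)))) 1 * ((Module.finrank k (Coh.HH X N 0) : ℤ) - 1) =
          Curv2.deg k X N 1 * ((Module.finrank k (Coh.HH X (Omega.sheaf (X ↘ (Spec (CommRingCat.of k)))) 0) : ℤ) - 1) := by
  have h := CurveFF.curveHyp_of_regular k hdim hreg
  have h0 := Curves.GlobalSections.finrank_h0_structure k X
  have hK := CurveFF.isFunctionField (k := k) h h0
  rw [CurveFF.genus_eq h h0] at hg
  obtain ⟨W, hW⟩ := CurveFF.OmegaRep.exists_rep h hK
  have hWd : Curv2.deg k X (Omega.sheaf (X ↘ (Spec (CommRingCat.of k)))) 1 =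
      2 * (_root_.FunFld.genus k X.functionField : ℤ) - 2 := by
    rw [W.deg_eq h hK, FunFld.Weil.deg_canonical hK hW]
  have hWl : Module.finrank k (Coh.HH X (Omega.sheaf (X ↘ (Spec (CommRingCat.of k)))) 0) =
      _root_.FunFld.genus k X.functionField := by
    rw [W.finrank_h0 h hK, FunFld.Weil.ell_canonical hK hW]
  have hgg : (3 : ℤ) ≤ _root_.FunFld.genus k X.functionField := by exact_mod_cast hg
  constructor
  · intro M ι hM hmono hι h2
    haveI := hmono
    obtain ⟨R⟩ := CurveFF.LineDiv.nonempty_rep hM
    have hlt := CurveFF.SubLine.deg_lt_of_mono h hK hM W.inv ι hι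
    rw [hWd, R.deg_eq h hK] at hlt
    rw [R.finrank_h0 h hK] at h2
    have hb := (CurveFF.CliffordEq.bound h hK hW (D := R.div h hK) (by omega)
      (by rw [FunFld.Weil.deg_canonical hK hW]; exact hlt)).1
    rw [hWd, hWl, R.deg_eq h hK, R.finrank_h0 h hK]
    nlinarith
  · obtain ⟨R⟩ := CurveFF.LineDiv.nonempty_rep hN.1
    have hd : (R.div h hK).deg = 2 := (R.deg_eq h hK).symm.trans hN.2.1
    have hl : _root_.FunFld.ell (R.div h hK) = 2 := by
      refine le_antisymm (CurveFF.Pencil.ell_le_two hK (by omega) hd) ?_
      letI := Curves.GlobalSections.secModule k N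
      have hli : LinearIndependent k t := Fintype.linearIndependent_iff.2 fun c hc i =>
        congrFun (hN.2.2 c hc) i
      obtain ⟨e⟩ := R.nonempty_h0_equiv h hK
      let e' := (Curves.GlobalSections.h0Linear k N).symm.trans e
      haveI := FunFld.Degree.finiteDimensional_L hK (R.div h hK)
      haveI : Module.Finite k (N.val.obj (Opposite.op ⊤) : Type u) := Module.Finite.equiv e'.symm
      have h2 := hli.fintype_card_le_finrank
      rwa [Fintype.card_fin, e'.finrank_eq] at h2
    have hrr := FunFld.Weil.riemann_roch hK hW (R.div h hK)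
    obtain ⟨z, hz0, hz⟩ := FunFld.Riemann.exists_ne_zero_of_ell_pos
      (D := W.div h hK - R.div h hK) (by omega)
    obtain ⟨ι, hι⟩ := CurveFF.SubLine.exists_mono h hK R W hz0 hz
    haveI := hι
    refine ⟨ι, hι, fun hiso => ?_, ?_⟩
    · haveI := hiso
      have := Curves.Euler.deg_eq_of_iso (k := k) (asIso ι) 1
      rw [hWd, R.deg_eq h hK, hd] at this
      omega
    · rw [hWd, hWl, R.deg_eq h hK, R.finrank_h0 h hK, hd, hl]
      push_cast
      ring

end Groth.Agent.S16968
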