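import Groth.Statements.S16972
import Groth.Agent.Lib.CurveFF.CliffordTwo
import Groth.Agent.Lib.CurveFF.CliffordThree
import Groth.Agent.Lib.CurveFF.CliffordField
import Groth.Agent.Lib.CurveFF.QuadricPencils
-- import your own Groth.Agent.* helpers here

set_option autoImplicit false
universe u
open CategoryTheory CategoryTheory.Limits AlgebraicGeometry Opposite
open Curves

namespace Groth.Agent.S16972
open Groth.Agent.Lib
attribute [local instance] Curv2.stalkAlgebra

/-- Let X be a smooth projective curve over an algebraically closed field k of characteristic 0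
(integral, proper over k, of dimension one, all local rings regular) of genus g ≥ 5 which is
trigonal (carries an invertible module of degree 3 with two k-linearly independent global sections)
and not hyperelliptic (no such module of degree 2). Let V ⊂ H^0(X, Ω_{X/k}) be a hyperplane without
base points, given by g - 1 global sections σ_i : O_X ⟶ Ω_{X/k}, k-linearly independent and
generating Ω_{X/k} at every point, i.e. the projection of the canonical image from a point p not on
it; assume p lies on no trisecant line of the canonical curve: for every invertible module N with a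
monomorphism ι : N ⟶ Ω_{X/k}, deg N = 2g - 5 and dim_k H^0(X, N) = g - 2 (so N = Ω_{X/k}(-D) for a
divisor D of degree 3 moving in a pencil), some global section of N has image outside the k-span of
the σ_i. Then the projection is linearly stable: for every m with 2 ≤ m < g - 1, every k-linearly
independent family w_1, …, w_m of global sections of Ω_{X/k} in the span of the σ_i, and every
invertible module M with a monomorphism M ⟶ Ω_{X/k} through whose global sections all w_j factor,
deg Ω_{X/k} · (m - 1) < deg M · (g - 2). -/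
theorem result (k : Type u) [Field k] [IsAlgClosed k] [CharZero k] (X : Scheme.{u}) [X.Over (Spec (CommRingCat.of k))]
    [IsIntegral X] [IsProper (X ↘ (Spec (CommRingCat.of k)))] (hdim : topologicalKrullDim X = 1)
    (hreg : ∀ x : X, IsRegularLocalRing (X.presheaf.stalk x))
    (hg : 5 ≤ Curv2.genus k X)
    (hnh : ¬ ∃ (N : X.Modules) (t : Fin 2 → LinSer.Sect X N), LinSer.IsLinSer k X N 2 1 t)
    (htr : ∃ (N : X.Modules) (t : Fin 2 → LinSer.Sect X N), LinSer.IsLinSer k X N 3 1 t)
    (σ : Fin (Curv2.genus k X - 1) → (Coh.structureModule X ⟶ Omega.sheaf (X ↘ (Spec (CommRingCat.of k)))))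
    (hσ : LinSer.LinIndep k X (Omega.sheaf (X ↘ (Spec (CommRingCat.of k)))) (fun i => PicF2.secVal (Omega.sheaf (X ↘ (Spec (CommRingCat.of k)))) (σ i) ⊤))
    (hbpf : ⨆ i, CohB1.genLocus (Omega.sheaf (X ↘ (Spec (CommRingCat.of k)))) (σ i) = ⊤)
    (hsec : ∀ (N : X.Modules) (ι : N ⟶ Omega.sheaf (X ↘ (Spec (CommRingCat.of k)))), PicF.IsInvertible N → Mono ι →
      Curv2.deg k X N 1 + 5 = 2 * (Curv2.genus k X : ℤ) → Module.finrank k (Coh.HH X N 0) + 2 = Curv2.genus k X →
      ∃ v : LinSer.Sect X N, ∀ c : Fin (Curv2.genus k X - 1) → k,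
        (ι.val.app (op ⊤)).hom v ≠ ∑ i, (Coh.toGlobal (X ↘ Spec (CommRingCat.of k)) (c i)) • PicF2.secVal (Omega.sheaf (X ↘ (Spec (CommRingCat.of k)))) (σ i) ⊤) :
    ∀ (m : ℕ) (w : Fin m → LinSer.Sect X (Omega.sheaf (X ↘ (Spec (CommRingCat.of k))))), 2 ≤ m → m + 1 < Curv2.genus k X →
      LinSer.LinIndep k X (Omega.sheaf (X ↘ (Spec (CommRingCat.of k)))) w →
      (∀ j, ∃ c : Fin (Curv2.genus k X - 1) → k,
        w j = ∑ i, (Coh.toGlobal (X ↘ Spec (CommRingCat.of k)) (c i)) • PicF2.secVal (Omega.sheaf (X ↘ (Spec (CommRingCat.of k)))) (σ i) ⊤) →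
      ∀ (M : X.Modules) (ι : M ⟶ Omega.sheaf (X ↘ (Spec (CommRingCat.of k)))), PicF.IsInvertible M → Mono ι →
        (∀ j, ∃ v : LinSer.Sect X M, (ι.val.app (op ⊤)).hom v = w j) →
        Curv2.deg k X (Omega.sheaf (X ↘ (Spec (CommRingCat.of k)))) 1 * ((m : ℤ) - 1) < Curv2.deg k X M 1 * ((Curv2.genus k X : ℤ) - 2) := by
  classical
  intro m w hm2 hm hw hwV M ι hM hmono hfac
  haveI := hmono
  have h := CurveFF.curveHyp_of_regular k hdim hreg
  have h0 := Curves.GlobalSections.finrank_h0_structure k X
  have hK := CurveFF.isFunctionField (k := k) h h0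
  have hge := CurveFF.genus_eq (k := k) h h0
  obtain ⟨C, D, hC, hCd, hDd, hmD, hh, hle⟩ := CurveFF.CliffordTwo.exists_data h hK hM ι w hw hfac
  have hrr := FunFld.Weil.riemann_roch hK hC D
  have hCdeg := FunFld.Weil.deg_canonical hK hC
  rw [← hge] at hrr hCdeg
  rw [hCd, hDd, hCdeg]
  set g := Curv2.genus k X with hgdef
  rcases Nat.lt_or_ge (_root_.FunFld.ell (C - D)) 2 with h1 | h1
  · have hd : (g : ℤ) - 2 + m ≤ D.deg := by omega
    nlinarith [mul_le_mul_of_nonneg_right hd (show (0 : ℤ) ≤ (g : ℤ) - 2 by omega)]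
  have hd := CurveFF.CliffordTwo.clifford_one h hK hC hnh (D := D) (by omega) h1
  by_cases hbig : 2 * (m : ℤ) ≤ D.deg
  · nlinarith [mul_le_mul_of_nonneg_right hbig (show (0 : ℤ) ≤ (g : ℤ) - 2 by omega)]
  have hl : _root_.FunFld.ell D = m := by omega
  have hdm : D.deg = 2 * (m : ℤ) - 1 := by omega
  rw [hdm]
  rcases eq_or_lt_of_le hm2 with hm2' | hm3
  · subst hm2'; push_cast; omega
  exfalso
  obtain ⟨N₀, t, ht⟩ := htr
  obtain ⟨hN₀, hN₀d, hN₀t⟩ := id ht
  rcases Nat.lt_or_ge (m + 2) g with hsmall | htop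
  · obtain ⟨R₀⟩ := CurveFF.LineDiv.nonempty_rep hN₀
    set E₀ := R₀.div h hK with hE₀
    have hE₀d : E₀.deg = 3 := by rw [hE₀, ← R₀.deg_eq h hK, hN₀d]; rfl
    have hE₀l : 2 ≤ _root_.FunFld.ell E₀ := by
      letI := Curves.GlobalSections.secModule k N₀
      obtain ⟨eQ⟩ := R₀.nonempty_h0_equiv h hK
      let e' := (Curves.GlobalSections.h0Linear k N₀).symm.trans eQ
      haveI := FunFld.Degree.finiteDimensional_L hK E₀
      haveI : Module.Finite k (N₀.val.obj (Opposite.op ⊤) : Type u) := Module.Finite.equiv e'.symm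
      have hi : LinearIndependent k (fun j => (show (N₀.val.obj (op ⊤) : Type u) from t j)) :=
        Fintype.linearIndependent_iff.2 fun c hc i => congrFun (hN₀t c hc) i
      have := hi.fintype_card_le_finrank
      rw [Fintype.card_fin, e'.finrank_eq] at this
      exact this
    have low : ∀ A : _root_.FunFld.Divisor k X.functionField, 2 ≤ _root_.FunFld.ell A →
        2 ≤ _root_.FunFld.ell (C - A) → 2 * (_root_.FunFld.ell A : ℤ) - 1 ≤ A.deg :=
      fun A => CurveFF.CliffordTwo.clifford_one h hK hC hnh (D := A)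
    -- the pencil
    obtain ⟨F, a, hF, ha, hFe, hFd⟩ := FunFld.SmallGenus.exists_nonneg hK (E := E₀) (by omega)
    have hFl : 2 ≤ _root_.FunFld.ell F := by
      rwa [hFe, FunFld.Riemann.ell_add_div hK _ ha] at hE₀l
    obtain ⟨f, hf, hfn⟩ : ∃ f ∈ _root_.FunFld.L F,
        f ∉ _root_.FunFld.L (0 : _root_.FunFld.Divisor k X.functionField) := by
      by_contra hc
      push Not at hc
      haveI := FunFld.Degree.finiteDimensional_L hK (0 : _root_.FunFld.Divisor k X.functionField)
      have h' := Submodule.finrank_mono (show _root_.FunFld.L F ≤ _root_.FunFld.L 0 from hc)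
      change _root_.FunFld.ell F ≤ _root_.FunFld.ell (0 : _root_.FunFld.Divisor k X.functionField) at h'
      rw [FunFld.Degree.ell_zero hK] at h'
      omega
    have hf0 : f ≠ 0 := fun e => hfn (e ▸ zero_mem _)
    set P := FunFld.Degree.poleDiv (k := k) f with hP
    have hPF : P ≤ F := fun Q => by
      rw [hP, FunFld.Degree.poleDiv_apply hK]
      have h2 := (FunFld.Degree.mem_L_iff_ord.1 hf).resolve_left hf0 Q
      have h3 := hF Q
      rw [Finsupp.coe_zero, Pi.zero_apply] at h3
      omega
    have hPl : 2 ≤ _root_.FunFld.ell P := CurveFF.QuadricPencils.two_le_ell_poleDiv hK fun c hc => by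
      refine hfn ?_
      rw [FunFld.Degree.L_zero hK, Submodule.one_eq_range]
      exact ⟨c, hc.symm⟩
    have hPd := FunFld.Degree.deg_mono hPF
    rw [hFd, hE₀d] at hPd
    have hPrr := FunFld.Weil.riemann_roch hK hC P
    rw [← hge] at hPrr
    have hP3 : P.deg = 3 := by
      have := low P hPl (by omega)
      omega
    have hpt := CurveFF.CliffordThree.pencil_trick hK D hf0
    rw [hl, ← hP] at hpt
    have hrrp := FunFld.Weil.riemann_roch hK hC (D + P)
    have hrrm := FunFld.Weil.riemann_roch hK hC (D - P)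
    rw [← hge, FunFld.Degree.deg_add, hP3, hdm] at hrrp
    rw [← hge, FunFld.Degree.deg_sub, hP3, hdm] at hrrm
    have hminus : _root_.FunFld.ell (D - P) + 2 ≤ m := by
      by_contra hlt
      have := low (D - P) (by omega) (by omega)
      rw [FunFld.Degree.deg_sub, hP3, hdm] at this
      omega
    have := low (D + P) (by omega) (by omega)
    rw [FunFld.Degree.deg_add, hP3, hdm] at this
    omega
  · obtain ⟨R⟩ := CurveFF.LineDiv.nonempty_rep hM
    have hRd : (R.div h hK).deg = 2 * (m : ℤ) - 1 := by rw [← R.deg_eq h hK, hDd, hdm]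
    letI := Curves.GlobalSections.secModule k M
    obtain ⟨eQ⟩ := R.nonempty_h0_equiv h hK
    let e' := (Curves.GlobalSections.h0Linear k M).symm.trans eQ
    haveI := FunFld.Degree.finiteDimensional_L hK (R.div h hK)
    haveI : Module.Finite k (M.val.obj (Opposite.op ⊤) : Type u) := Module.Finite.equiv e'.symm
    choose v hv using hfac
    have hvi : LinearIndependent k (fun j => (show (M.val.obj (op ⊤) : Type u) from v j)) := by
      refine Fintype.linearIndependent_iff.2 fun c hc i => congrFun (hw c ?_) i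
      have h1 := congrArg (fun s => (ι.val.app (op ⊤)).hom s) hc
      refine Eq.trans ?_ (h1.trans (map_zero (ι.val.app (op ⊤)).hom))
      show _ = (ι.val.app (op ⊤)).hom (∑ j, (Coh.toGlobal (X ↘ Spec (CommRingCat.of k)) (c j)) • v j)
      rw [map_sum]
      exact Finset.sum_congr rfl fun j _ => by
        rw [← hv j]; exact (LinearMap.map_smul (ι.val.app (op ⊤)).hom _ _).symm
    have hmM := hvi.fintype_card_le_finrank
    rw [Fintype.card_fin, e'.finrank_eq] at hmM
    change m ≤ _root_.FunFld.ell (R.div h hK) at hmM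
    have hrrM := FunFld.Weil.riemann_roch hK hC (R.div h hK)
    rw [← hge, hRd] at hrrM
    have hcl := CurveFF.CliffordField.clifford hK hC (D := R.div h hK) (by omega) (by omega)
    have hM0 : _root_.FunFld.ell (R.div h hK) = m := by omega
    obtain ⟨v₀, hv₀⟩ := hsec M ι hM hmono (by rw [hDd, hdm]; omega)
      (by rw [R.finrank_h0 h hK, hM0]; omega)
    have htopspan := hvi.span_eq_top_of_card_eq_finrank' (by
      rw [Fintype.card_fin, e'.finrank_eq]; exact hM0.symm)
    obtain ⟨b, hb⟩ := (Submodule.mem_span_range_iff_exists_fun k).1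
      (htopspan ▸ Submodule.mem_top : (show (M.val.obj (op ⊤) : Type u) from v₀) ∈
        Submodule.span k (Set.range fun j => (show (M.val.obj (op ⊤) : Type u) from v j)))
    choose cw hcw using hwV
    refine hv₀ (fun i => ∑ j, b j * cw j i) ?_
    have hb' : v₀ = ∑ j, (Coh.toGlobal (X ↘ Spec (CommRingCat.of k)) (b j)) • v j := hb.symm
    rw [hb', map_sum]
    simp only [map_sum, Finset.sum_smul, map_mul, mul_smul]
    rw [Finset.sum_comm]
    refine Finset.sum_congr rfl fun j _ => ?_
    refine (LinearMap.map_smul (ι.val.app (op ⊤)).hom _ _).trans ?_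
    erw [hv j, hcw j, Finset.smul_sum]

end Groth.Agent.S16972
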