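import Groth.Statements.S16973
import Groth.Agent.Lib.CurveFF.TwoQuotients
import Groth.Agent.Lib.CurveFF.CoverField
import Groth.Agent.Lib.CurveFF.Hyp
-- import your own Groth.Agent.* helpers here

set_option autoImplicit false
universe u
open CategoryTheory CategoryTheory.Limits AlgebraicGeometry Opposite
open Curves

namespace Groth.Agent.S16973
open Groth.Agent.Lib
attribute [local instance] Curv2.stalkAlgebra

/-- Let F be a smooth projective curve over an algebraically closed field k of characteristic 0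
(integral, proper over k, of dimension one, all local rings regular) of genus g, and γ ≥ 1 an
integer with g > 4γ + 1. Then F carries at most one involution whose quotient has genus at most γ;
equivalently, degree-2 covers of curves of genus ≤ γ by F are unique: if for i = 1, 2, P_i is a
smooth projective curve over k of genus dim_k H^1(P_i, O) ≤ γ and f_i : F ⟶ P_i is a morphism over k
which is finite and flat of constant rank 2, then there is an isomorphism e : P_1 ≅ P_2 over k with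
f_1 ≫ e = f_2. -/
theorem result (k : Type u) [Field k] [IsAlgClosed k] [CharZero k] (X : Scheme.{u}) [X.Over (Spec (CommRingCat.of k))]
    [IsIntegral X] [IsProper (X ↘ (Spec (CommRingCat.of k)))] (hdim : topologicalKrullDim X = 1)
    (hreg : ∀ x : X, IsRegularLocalRing (X.presheaf.stalk x))
    (γ : ℕ) (hγ : 1 ≤ γ) (hg : 4 * γ + 1 < Curv2.genus k X)
    (P₁ : Scheme.{u}) [P₁.Over (Spec (CommRingCat.of k))] [IsIntegral P₁] [IsProper (P₁ ↘ (Spec (CommRingCat.of k)))]
    (hdim₁ : topologicalKrullDim P₁ = 1) (hreg₁ : ∀ y : P₁, IsRegularLocalRing (P₁.presheaf.stalk y)) (hγ₁ : Curv2.genus k P₁ ≤ γ)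
    (P₂ : Scheme.{u}) [P₂.Over (Spec (CommRingCat.of k))] [IsIntegral P₂] [IsProper (P₂ ↘ (Spec (CommRingCat.of k)))]
    (hdim₂ : topologicalKrullDim P₂ = 1) (hreg₂ : ∀ y : P₂, IsRegularLocalRing (P₂.presheaf.stalk y)) (hγ₂ : Curv2.genus k P₂ ≤ γ)
    (f₁ : X ⟶ P₁) (hf₁ : f₁ ≫ (P₁ ↘ Spec (CommRingCat.of k)) = X ↘ Spec (CommRingCat.of k))
    [IsFinite f₁] [Flat f₁] (hr₁ : ∀ y : P₁, Scheme.Hom.finrank f₁ y = 2)
    (f₂ : X ⟶ P₂) (hf₂ : f₂ ≫ (P₂ ↘ Spec (CommRingCat.of k)) = X ↘ Spec (CommRingCat.of k))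
    [IsFinite f₂] [Flat f₂] (hr₂ : ∀ y : P₂, Scheme.Hom.finrank f₂ y = 2) :
    ∃ e : P₁ ≅ P₂, e.hom ≫ (P₂ ↘ Spec (CommRingCat.of k)) = (P₁ ↘ Spec (CommRingCat.of k)) ∧ f₁ ≫ e.hom = f₂ := by
  have h := CurveFF.curveHyp_of_regular k hdim hreg
  have h₁ := CurveFF.curveHyp_of_regular k hdim₁ hreg₁
  have h₂ := CurveFF.curveHyp_of_regular k hdim₂ hreg₂
  have h0 := Curves.GlobalSections.finrank_h0_structure k X
  have hK := CurveFF.isFunctionField (k := k) h h0
  rw [CurveFF.genus_eq h h0] at hg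
  have e₁ := CurveFF.CoverField.generic_eq hdim hdim₁ f₁
  have e₂ := CurveFF.CoverField.generic_eq hdim hdim₂ f₂
  obtain ⟨i1, hF, hgF, hF2⟩ :=
    CurveFF.CoverField.facts hK h₁ (Curves.GlobalSections.finrank_h0_structure k P₁) f₁ hf₁ hr₁ e₁
  obtain ⟨i2, hG, hgG, hG2⟩ :=
    CurveFF.CoverField.facts hK h₂ (Curves.GlobalSections.finrank_h0_structure k P₂) f₂ hf₂ hr₂ e₂
  refine CurveFF.CoverField.exists_iso h₁ h₂ f₁ hf₁ e₁ f₂ hf₂ e₂ ?_
  by_contra hne
  have := CurveFF.TwoQuotients.genus_le hK (two_ne_zero (α := k)) hF hG hF2 hG2 hne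
  rw [hgF, hgG] at this
  omega

end Groth.Agent.S16973
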