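import Groth.Statements.S16975
import Groth.Agent.Lib.SurfRR.FibreVanish
import Groth.Agent.H34.Stein.Connected
import Groth.Agent.H4.CartierUFD
import Groth.Agent.S1641

set_option autoImplicit false
set_option linter.style.haveILetI false
universe u
open CategoryTheory CategoryTheory.Limits AlgebraicGeometry TopologicalSpace
open Surf
open Groth.Agent.Lib Groth.Agent.Lib.SurfRR Groth.Agent.Lib.TensorMod.Basic

namespace Groth.Agent.S16975

/-- Let f : S ⟶ B be a relatively minimal fibration of genus at least 2 over an algebraically closed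
field k of characteristic 0 (S a smooth projective integral surface, B a smooth projective integral
curve, f a surjective k-morphism with O_B ⟶ f_*O_S an isomorphism, every closed fibre with χ(O_F) <
0, and no (-1)-curve in a fibre: every integral closed curve E ⊆ S with regular local rings, mapped
to a point and with χ(O_E) = 1, has E.E ≠ -1). Let p be a closed point of B, F = f⁻¹(p) its fibre, r
≥ 1, and D = rF the closed subscheme of S whose ideal sheaf is the r-th power of the ideal sheaf
m_p·O_S of F. Let N be an invertible O_D-module with negative total degree, χ(N) - χ(O_D) < 0, and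
with deg N|_C ≤ 0 for every integral closed curve C ⊆ D. Then H^0(D, N) = 0. -/
theorem result (k : Type u) [Field k] [IsAlgClosed k] [CharZero k]
    (S : Scheme.{u}) [S.Over (Spec (CommRingCat.of k))] [IsProper (S ↘ (Spec (CommRingCat.of k)))]
    [Smooth (S ↘ (Spec (CommRingCat.of k)))] [IsIntegral S] (hdimS : topologicalKrullDim S = 2)
    (B : Scheme.{u}) [B.Over (Spec (CommRingCat.of k))] [IsProper (B ↘ (Spec (CommRingCat.of k)))]
    [Smooth (B ↘ (Spec (CommRingCat.of k)))] [IsIntegral B] (hdimB : topologicalKrullDim B = 1)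
    (f : S ⟶ B) [f.IsOver (Spec (CommRingCat.of k))] [Surjective f] (hconn : IsIso (ClSub.unitToPush f))
    (hg : ∀ p : B, IsClosed ({p} : Set B) → Curv2.euler k S (ClSub.quotMod (f.fiberι p).ker) < 0)
    (hmin : ∀ (E : Scheme.{u}) (j : E ⟶ S), IsClosedImmersion j → IsIntegral E → topologicalKrullDim E = 1 →
      (∀ e : E, IsRegularLocalRing (E.presheaf.stalk e)) → (∃ p : B, Set.range (j ≫ f).base ⊆ {p}) →
      Curv2.euler k S (ClSub.quotMod j.ker) = 1 →
      FGA.intNum k S 2 ![ClSub.idealMod j.ker, ClSub.idealMod j.ker] (Coh.structureModule S) ≠ -1)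
    (p : B) (hp : IsClosed ({p} : Set B)) (r : ℕ) (hr : 1 ≤ r)
    (D : Scheme.{u}) [D.Over (Spec (CommRingCat.of k))] (ιD : D ⟶ S) [IsClosedImmersion ιD]
    (hιD : ιD ≫ (S ↘ Spec (CommRingCat.of k)) = D ↘ Spec (CommRingCat.of k))
    (hD : ιD.ker = ((Scheme.IdealSheafData.vanishingIdeal ⟨{p}, hp⟩).comap f) ^ r)
    (N : D.Modules) (hN : PicF.IsInvertible N) (hneg : Curv2.deg k D N 1 < 0)
    (hcompD : ∀ (C : Scheme.{u}) [C.Over (Spec (CommRingCat.of k))] (i : C ⟶ D), IsClosedImmersion i →
      IsIntegral C → topologicalKrullDim C = 1 → i ≫ (D ↘ Spec (CommRingCat.of k)) = C ↘ Spec (CommRingCat.of k) →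
      Curv2.deg k C ((Scheme.Modules.pullback i).obj N) 1 ≤ 0) :
    Subsingleton (Coh.HH D N 0) := by
  classical
  haveI := Curves.GlobalSections.isNoetherian_of_proper k S
  haveI := Curves.GlobalSections.isNoetherian_of_proper k B
  haveI : IsProper f := by
    have h : IsProper (f ≫ (B ↘ Spec (CommRingCat.of k))) := by rw [comp_over]; infer_instance
    exact IsProper.of_comp f (B ↘ Spec (CommRingCat.of k))
  -- the fibre is connected
  have happ : ∀ U : B.Opens, IsIso (f.app U) := fun U => by
    have := Scheme.Modules.Hom.isIso_iff_isIso_app.1 hconn U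
    rw [ConcreteCategory.isIso_iff_bijective] at this ⊢
    exact this
  haveI := Groth.Agent.H34.Stein.geometricallyConnected f happ
  have hfib : _root_.IsPreconnected (f.base ⁻¹' {p}) := by
    rw [← Scheme.Hom.range_fiberι]
    haveI : ConnectedSpace (f.fiber p) := inferInstance
    exact isPreconnected_range (f.fiberι p).continuous
  -- the maximal ideal of `p` is principal
  haveI : SmoothOfRelativeDimension 1 (B ↘ Spec (CommRingCat.of k)) :=
    Proper.smoothOfRelativeDimension (k := k) 1 (by rw [hdimB]; rfl)
  haveI := WeilExt.Basic.isRegularLocalRing_stalk (B ↘ Spec (CommRingCat.of k)) p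
  have hdimp : ringKrullDim (B.presheaf.stalk p) = 1 := by
    simpa using ProjSpace.SmoothDimEq.ringKrullDim_stalk_closed k (B ↘ Spec (CommRingCat.of k)) 1 hp
  haveI : (IsLocalRing.maximalIdeal (B.presheaf.stalk p)).IsPrincipal := by
    have h := IsRegularLocalRing.spanFinrank_maximalIdeal (R := B.presheaf.stalk p)
    rw [hdimp] at h
    refine ⟨?_⟩
    have h1 : (IsLocalRing.maximalIdeal (B.presheaf.stalk p)).spanFinrank = 1 := by exact_mod_cast h
    have hfg := IsNoetherian.noetherian (IsLocalRing.maximalIdeal (B.presheaf.stalk p))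
    obtain ⟨s, hcard, hspan⟩ := Submodule.FG.exists_span_set_encard_eq_spanFinrank hfg
    rw [h1, Nat.cast_one, Set.encard_eq_one] at hcard
    obtain ⟨t, rfl⟩ := hcard
    exact ⟨t, hspan.symm⟩
  obtain ⟨t, ht⟩ := Submodule.IsPrincipal.principal (IsLocalRing.maximalIdeal (B.presheaf.stalk p))
  obtain ⟨V, hpV, s, hs⟩ := B.presheaf.exists_germ_eq (x := p) t
  have hI : Ideal.Prime.stalkIdeal (Scheme.IdealSheafData.vanishingIdeal (⟨{p}, hp⟩ : TopologicalSpace.Closeds B)) p =
      IsLocalRing.maximalIdeal (B.presheaf.stalk p) := by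
    obtain ⟨A, hA, hpA, -⟩ := exists_isAffineOpen_mem_and_subset (show p ∈ (⊤ : B.Opens) from trivial)
    have hpre : hA.fromSpec ⁻¹' ({p} : Set B) = {hA.primeIdealOf ⟨p, hpA⟩} := by
      ext q
      constructor
      · intro hq
        exact hA.fromSpec.isOpenEmbedding.injective (hq.trans (hA.fromSpec_primeIdealOf ⟨p, hpA⟩).symm)
      · rintro rfl
        exact hA.fromSpec_primeIdealOf ⟨p, hpA⟩
    rw [Ideal.Prime.stalkIdeal_eq _ ⟨A, hA⟩ hpA, Scheme.IdealSheafData.vanishingIdeal_ideal]
    erw [hpre, PrimeSpectrum.vanishingIdeal_singleton]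
    letI algx := B.presheaf.algebra_section_stalk ⟨p, hpA⟩
    haveI := hA.isLocalization_stalk ⟨p, hpA⟩
    exact IsLocalization.AtPrime.map_eq_maximalIdeal (hA.primeIdealOf ⟨p, hpA⟩).asIdeal (B.presheaf.stalk p)
  have ht0 : t ≠ 0 := by
    intro h0
    rw [h0, Submodule.span_singleton_eq_bot.2 rfl] at ht
    have hF : IsField (B.presheaf.stalk p) := IsLocalRing.isField_iff_maximalIdeal_eq.2 ht
    have := ringKrullDim_eq_zero_of_isField hF
    rw [hdimp] at this
    exact one_ne_zero this
  -- the fibre is cut out by a function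
  set F := (Scheme.IdealSheafData.vanishingIdeal (⟨{p}, hp⟩ : TopologicalSpace.Closeds B)).comap f with hFdef
  have hFs : (F.support : Set S) = f.base ⁻¹' {p} := by
    rw [hFdef, Scheme.IdealSheafData.support_comap, TopologicalSpace.Closeds.coe_preimage,
      Scheme.IdealSheafData.coe_support_vanishingIdeal]
    rfl
  have hsub : (F.support : Set S) ⊆ (f ⁻¹ᵁ V : S.Opens) := fun y hy => by
    have hy' : f y = p := hFs.le hy
    change f y ∈ V
    rw [hy']; exact hpV
  have hst : ∀ (y : S) (_ : y ∈ F.support) (hy : y ∈ f ⁻¹ᵁ V), Ideal.Prime.stalkIdeal F y =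
      _root_.Ideal.span {S.presheaf.germ (f ⁻¹ᵁ V) y hy (f.app V s)} := by
    intro y hyE hy
    have hy' : f y = p := hFs.le hyE
    subst hy'
    rw [hFdef, CartierDescent.stalkIdeal_comap, hI, ht, _root_.Ideal.submodule_span_eq,
      _root_.Ideal.map_span, Set.image_singleton, ← hs]
    exact congrArg (fun c => _root_.Ideal.span {c}) (Scheme.Hom.germ_stalkMap_apply f V y hy s)
  have hs0 : s ≠ 0 := fun h0 => ht0 (by rw [← hs, h0, map_zero])
  have hdom : f (genericPoint S) = genericPoint B := by
    refine ((genericPoint_spec S).image f.continuous).eq ?_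
    rw [Set.image_univ, f.surjective.range_eq, closure_univ]
    exact genericPoint_spec B
  have hg0 : f.app V s ≠ 0 := by
    intro h0
    haveI : Nonempty V := ⟨⟨p, hpV⟩⟩
    have hzV : f (genericPoint S) ∈ V := by
      rw [hdom]; exact (genericPoint_spec B).mem_open_set_iff V.2 |>.2 ⟨p, trivial, hpV⟩
    have h2 := Scheme.Hom.germ_stalkMap_apply f V (genericPoint S) hzV s
    rw [h0, map_zero] at h2
    have hfield : IsField (B.presheaf.stalk (f (genericPoint S))) := by
      rw [hdom]; exact Field.toIsField B.functionField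
    letI := hfield.toField
    refine hs0 (germ_injective_of_isIntegral B (f (genericPoint S)) hzV ?_)
    rw [map_zero]
    exact (RingHom.injective (f.stalkMap (genericPoint S)).hom) (h2.trans (map_zero _).symm)
  have hFc : BlowUp.IsEffCartierIdeal F := by
    refine Groth.Agent.H4.CartierUFD.isEffCartier_of_stalks F fun x => ?_
    by_cases hx : x ∈ F.support
    · refine ⟨_, mem_nonZeroDivisors_of_ne_zero fun h0 => hg0 ?_, hst x hx (hsub hx)⟩
      exact germ_injective_of_isIntegral S x (hsub hx) (h0.trans (map_zero _).symm)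
    · exact ⟨1, one_mem _, by rw [Transform.stalkIdeal_eq_top hx, _root_.Ideal.span_singleton_one]⟩
  set Z := ιD.ker with hZdef
  have hZc : BlowUp.IsEffCartierIdeal Z := by
    rw [hD]; exact Ideal.EffCartier.isEffCartier_pow hFc r
  have hZs : (Z.support : Set S) = f.base ⁻¹' {p} := by
    obtain ⟨n, rfl⟩ : ∃ n, r = n + 1 := ⟨r - 1, by omega⟩
    rw [hD, Scheme.IdealSheafData.support_pow_succ, hFs]
  have hrange : Set.range ιD.base = (Z.support : Set S) := by
    rw [hZdef, Scheme.Hom.support_ker, ιD.isClosedEmbedding.isClosed_range.closure_eq]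
  haveI : IsProper (D ↘ Spec (CommRingCat.of k)) := by rw [← hιD]; infer_instance
  haveI := Curves.GlobalSections.isNoetherian_of_proper k D
  have hdimD : topologicalKrullDim D ≤ 1 := by
    have h1 : topologicalKrullDim (Z.support : Set S) ≤ 1 := by
      refine (VarDim.Basic.topologicalKrullDim_le_iff (S ↘ Spec (CommRingCat.of k))
        Z.support.isClosed.isLocallyClosed 1).2 fun x hx => ?_
      have hlt : VarDim.Basic.pdim (S ↘ Spec (CommRingCat.of k)) x < 2 := by
        by_contra hge
        have hxg := SurfInt.Curve.eq_genericPoint_of_two_le _ hdimS (not_lt.mp hge)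
        have hfx : f x = p := hZs.le hx
        rw [hxg, hdom] at hfx
        have h2 := (genericPoint_spec B).def
        rw [hfx, hp.closure_eq] at h2
        have h3 : topologicalKrullDim B ≤ 0 := by
          haveI : Subsingleton B := ⟨fun a b => (h2.symm.le (Set.mem_univ a)).trans (h2.symm.le (Set.mem_univ b)).symm⟩
          haveI : Nonempty B := ⟨p⟩
          haveI : DiscreteTopology B := inferInstance
          exact topologicalKrullDim_zero_of_discreteTopology B
        rw [hdimB] at h3
        exact absurd h3 (by decide)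
      exact_mod_cast (by omega : VarDim.Basic.pdim (S ↘ Spec (CommRingCat.of k)) x ≤ 1)
    rw [← hrange] at h1
    rwa [IsHomeomorph.topologicalKrullDim_eq _ ιD.isClosedEmbedding.isEmbedding.toHomeomorph.isHomeomorph]
  -- the dual of `N`
  have hL := TensorMod.Invertible.isInvertible_dual hN
  set L := TensorMod.Dual.dual N
  let eNL : CohB1.tensorMod N L ≅ Coh.structureModule D := TensorMod.Invertible.tensorDualIso hN
  let δ : S.IdealSheafData → ℤ := fun C =>
    if h : ιD.ker ≤ C.subschemeι.ker then
      - @Curv2.deg k _ C.subscheme (SurfInt.Surface.overSub C)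
          ((Scheme.Modules.pullback (IsClosedImmersion.lift ιD C.subschemeι h)).obj L) 1
    else 0
  -- the degrees of `N` on the components
  have hdeg : ∀ (C : S.IdealSheafData) [IsIntegral C.subscheme],
      topologicalKrullDim (C.support : Set S) = 1 → (h : ιD.ker ≤ C.subschemeι.ker) →
      δ C = @Curv2.deg k _ C.subscheme (SurfInt.Surface.overSub C)
          ((Scheme.Modules.pullback (IsClosedImmersion.lift ιD C.subschemeι h)).obj N) 1 ∧ δ C ≤ 0 := by
    intro C _ hCd h
    letI := SurfInt.Surface.overSub (k := k) C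
    haveI : IsProper (C.subscheme ↘ Spec (CommRingCat.of k)) :=
      inferInstanceAs (IsProper (C.subschemeι ≫ (S ↘ Spec (CommRingCat.of k))))
    set j := IsClosedImmersion.lift ιD C.subschemeι h
    have hd := ((SurfInt.Surface.dim_subscheme C).trans hCd).le
    have hN' := PicLoc.isInvertible_pullback j hN
    have hL' := PicLoc.isInvertible_pullback j hL
    have h1 := Curves.Degree.deg_of_isInverseOf (k := k) hd hL' hN'
      ⟨(TensorMod.Pullback.pullbackTensorIso j L N).symm ≪≫
        (Scheme.Modules.pullback j).mapIso (comm L N ≪≫ eNL) ≪≫ PicLoc.pullbackStructureIso j⟩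
    have h2 : δ C = Curv2.deg k C.subscheme ((Scheme.Modules.pullback j).obj N) 1 := by
      simp only [δ, dif_pos h]
      rw [h1]; ring
    refine ⟨h2, ?_⟩
    rw [h2]
    haveI : IsClosedImmersion (j ≫ ιD) := by
      rw [IsClosedImmersion.lift_fac]; infer_instance
    haveI : IsClosedImmersion j := IsClosedImmersion.of_comp_isClosedImmersion j ιD
    exact hcompD C.subscheme j inferInstance inferInstance ((SurfInt.Surface.dim_subscheme C).trans hCd)
      (by rw [← hιD, ← Category.assoc, IsClosedImmersion.lift_fac]; rfl)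
  have hne : ∃ (C : S.IdealSheafData) (_ : IsIntegral C.subscheme),
      topologicalKrullDim (C.support : Set S) = 1 ∧ (C.support : Set S) ⊆ Z.support ∧ δ C < 0 := by
    by_contra hno
    push Not at hno
    have hsum := Groth.Agent.S1641.result k D hdimD 1 N (TensorMod.LocFree.of_isInvertible hN)
    rw [hsum] at hneg
    refine hneg.ne (finsum_eq_zero_of_forall_eq_zero fun Y => ?_)
    split_ifs with hY1
    swap
    · rfl
    set J := (D.irreducibleComponentIdeal Y.1 Y.2).radical
    letI : J.subscheme.Over (Spec (CommRingCat.of k)) := ⟨J.subschemeι ≫ (D ↘ Spec (CommRingCat.of k))⟩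
    have hJs : (J.support : Set D) = Y.1 := by
      simp only [J, Scheme.IdealSheafData.support_radical]
      rfl
    haveI : AlgebraicGeometry.IsReduced J.subscheme := by
      have : J = Scheme.IdealSheafData.vanishingIdeal (D.irreducibleComponentIdeal Y.1 Y.2).support :=
        Scheme.IdealSheafData.vanishingIdeal_support.symm
      rw [this]
      exact Groth.Agent.H75.RedSub.isReduced_vanishingIdeal _
    haveI : IrreducibleSpace J.subscheme := by
      let i := J.subschemeι
      have hr : Set.range i = Y.1 := by rw [J.range_subschemeι, hJs]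
      obtain ⟨ξ, hξ⟩ := QuasiSober.sober Y.2.1 (hJs ▸ J.support.isClosed)
      obtain ⟨z, hz⟩ : ξ ∈ Set.range i := hr.symm ▸ hξ.mem
      have hcl : closure {z} = Set.univ := by
        rw [i.isClosedEmbedding.isInducing.closure_eq_preimage_closure_image, Set.image_singleton, hz,
          hξ.def, ← hr, Set.preimage_range]
      exact { isPreirreducible_univ := hcl ▸ isIrreducible_singleton.closure.2
              toNonempty := ⟨z⟩ }
    haveI : IsIntegral J.subscheme := isIntegral_of_irreducibleSpace_of_isReduced _
    set i' := J.subschemeι ≫ ιD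
    haveI : IsClosedImmersion i' := inferInstance
    set C := i'.ker
    let e : J.subscheme ⟶ C.subscheme := i'.toImage
    haveI : IsIso e := inferInstance
    haveI : IsIntegral C.subscheme := by
      haveI : IrreducibleSpace C.subscheme := by
        have h := (IrreducibleSpace.isIrreducible_univ J.subscheme).image e.base e.continuous.continuousOn
        rw [Set.image_univ, e.surjective.range_eq] at h
        exact { isPreirreducible_univ := h.2, toNonempty := Set.nonempty_iff_univ_nonempty.2 h.1 }
      haveI : AlgebraicGeometry.IsReduced C.subscheme := isReduced_of_isOpenImmersion (CategoryTheory.inv e)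
      exact isIntegral_of_irreducibleSpace_of_isReduced _
    have hCd : topologicalKrullDim (C.support : Set S) = 1 := by
      rw [← SurfInt.Surface.dim_subscheme C, ← IsHomeomorph.topologicalKrullDim_eq _ e.homeomorph.isHomeomorph,
        SurfInt.Surface.dim_subscheme J, hJs]
      exact hY1
    have hle : ιD.ker ≤ C.subschemeι.ker := by
      rw [Scheme.IdealSheafData.ker_subschemeι]
      exact Scheme.Hom.le_ker_comp _ _
    obtain ⟨h2, h3⟩ := hdeg C hCd hle
    have h4 := hno C inferInstance hCd
      (Scheme.IdealSheafData.support_antitone (by rw [hZdef]; exact Scheme.Hom.le_ker_comp _ _))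
    have h5 : δ C = 0 := le_antisymm h3 h4
    letI := SurfInt.Surface.overSub (k := k) C
    set j := IsClosedImmersion.lift ιD C.subschemeι hle
    have hej : e ≫ j = J.subschemeι := by
      rw [← cancel_mono ιD, Category.assoc, IsClosedImmersion.lift_fac]
      exact i'.toImage_imageι
    have hek : e ≫ (C.subscheme ↘ Spec (CommRingCat.of k)) = J.subscheme ↘ Spec (CommRingCat.of k) := by
      change e ≫ C.subschemeι ≫ _ = J.subschemeι ≫ _
      rw [← Category.assoc, show e ≫ C.subschemeι = i' from i'.toImage_imageι, ← hιD]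
      rfl
    haveI : IsProper (C.subscheme ↘ Spec (CommRingCat.of k)) :=
      inferInstanceAs (IsProper (C.subschemeι ≫ (S ↘ Spec (CommRingCat.of k))))
    have h6 := SurfInt.PushIso.deg_pullback e hek (PicLoc.isInvertible_pullback j hN)
    rw [← h2, h5] at h6
    rw [mul_eq_zero]
    right
    rw [← h6]
    exact Curves.Euler.deg_eq_of_iso (((Scheme.Modules.pullbackComp e j).app N ≪≫
      (Scheme.Modules.pullbackCongr hej).app N).symm) 1
  -- every map from the dual of `N` to the structure sheaf vanishes
  have hv : ∀ u : L ⟶ Coh.structureModule D, u = 0 := by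
    intro u
    haveI : IsIso ιD.toImage := inferInstance
    haveI : IsIso (_root_.ClSub.unitToPush ιD.toImage) := SurfInt.PushIso.isIso_unitToPush ιD.toImage
    let eO : _root_.ClSub.quotMod Z ≅ (Coh.push ιD).obj (Coh.structureModule D) :=
      (Scheme.Modules.pushforward Z.subschemeι).mapIso (asIso (_root_.ClSub.unitToPush ιD.toImage)) ≪≫
        (Scheme.Modules.pushforwardComp ιD.toImage Z.subschemeι).app _ ≪≫
        (Scheme.Modules.pushforwardCongr (show ιD.toImage ≫ Z.subschemeι = ιD from ιD.toImage_imageι)).app _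
    have h0 : (Coh.push ιD).map u ≫ eO.inv = 0 := by
      refine FibreVanish.hom_eq_zero (k := k) hdimS hZc ((f.app V s) ^ r) (pow_ne_zero _ hg0)
        ((hZs.trans hFs.symm).le.trans hsub) (fun y hy hyW => ?_) (hZs ▸ hfib) δ
        (fun C _ hCd hle M hM v hv => ?_) (fun C _ hCd hle => ?_) hne _
      · rw [hD, ModelFibre.StalkIdeal.stalkIdeal_pow, hst y (hFs.ge (hZs.le hy)) hyW,
          _root_.Ideal.span_singleton_pow, map_pow]
      · have hle' : ιD.ker ≤ C.subschemeι.ker := by rw [Scheme.IdealSheafData.ker_subschemeι]; exact hle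
        simp only [δ, dif_pos hle']
        exact FibreVanish.intNum_le_neg_deg (k := k) hdimS ιD hL C hCd hle' hM v hv
      · exact (hdeg C hCd (by rw [Scheme.IdealSheafData.ker_subschemeι]; exact hle)).2
    haveI : ∀ W, IsIso ((Scheme.Modules.pullbackPushforwardAdjunction ιD).counit.app W) :=
      fun W => Cyc.Dev.SchemeCase.isIso_counit ιD W
    haveI : IsIso (Scheme.Modules.pullbackPushforwardAdjunction ιD).counit :=
      NatIso.isIso_of_isIso_app _
    refine (Scheme.Modules.pullbackPushforwardAdjunction ιD).fullyFaithfulROfIsIsoCounit.map_injective ?_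
    rw [← cancel_mono eO.inv, h0, Functor.map_zero, zero_comp]
  refine subsingleton_of_forall_eq 0 fun z => ?_
  by_contra hz
  obtain ⟨t, ht'⟩ := Curves.Positivity.exists_section_of_nontrivial (nontrivial_of_ne z 0 hz)
  exact ht' (FibreVanish.eq_zero_of_dual hN eNL hv t)

end Groth.Agent.S16975
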