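import Groth.Statements.S16976
import Groth.Agent.Lib.SurfRR.Fibre
import Groth.Agent.H34.Stein.Connected

set_option autoImplicit false
set_option linter.style.haveILetI false
universe u
open CategoryTheory CategoryTheory.Limits AlgebraicGeometry TopologicalSpace
open Surf
open Groth.Agent.Lib Groth.Agent.Lib.SurfRR

namespace Groth.Agent.S16976

/-- Let f : S ⟶ B be a relatively minimal fibration of genus at least 2 over an algebraically closed
field k of characteristic 0 (S a smooth projective integral surface, B a smooth projective integral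
curve, f a surjective k-morphism with O_B ⟶ f_*O_S an isomorphism, every closed fibre with χ(O_F) <
0, and no (-1)-curve in a fibre: every integral closed curve E ⊆ S with regular local rings, mapped
to a point and with χ(O_E) = 1, has E.E ≠ -1). Let F = f⁻¹(p) be the fibre over a closed point, with
ideal sheaf I_F = m_p·O_S. Then F is a positive multiple m·E of a 1-connected effective divisor E:
for every m ≥ 1 and every locally principal ideal sheaf I_E with I_E^m = I_F that is not the n-th
power (n ≥ 2) of a locally principal ideal sheaf (so that E = F/m with m the greatest common divisor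
of the multiplicities of F), and for every factorisation I_E = I_A · I_B with I_A, I_B locally
principal ideal sheaves different from O_S (an effective decomposition E = A + B), the intersection
number A.B — computed as the intersection number of the ideal sheaves I_A, I_B on S — is at least 1. -/
theorem result (k : Type u) [Field k] [IsAlgClosed k] [CharZero k]
    (S : Scheme.{u}) [S.Over (Spec (CommRingCat.of k))] [IsProper (S ↘ (Spec (CommRingCat.of k)))]
    [Smooth (S ↘ (Spec (CommRingCat.of k)))] [IsIntegral S] (hdimS : topologicalKrullDim S = 2)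
    (B : Scheme.{u}) [B.Over (Spec (CommRingCat.of k))] [IsProper (B ↘ (Spec (CommRingCat.of k)))]
    [Smooth (B ↘ (Spec (CommRingCat.of k)))] [IsIntegral B] (hdimB : topologicalKrullDim B = 1)
    (f : S ⟶ B) [f.IsOver (Spec (CommRingCat.of k))] [Surjective f] (hconn : IsIso (ClSub.unitToPush f))
    (hg : ∀ p : B, IsClosed ({p} : Set B) → Curv2.euler k S (ClSub.quotMod (f.fiberι p).ker) < 0)
    (hmin : ∀ (E : Scheme.{u}) (j : E ⟶ S), IsClosedImmersion j → IsIntegral E → topologicalKrullDim E = 1 →
      (∀ e : E, IsRegularLocalRing (E.presheaf.stalk e)) → (∃ p : B, Set.range (j ≫ f).base ⊆ {p}) →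
      Curv2.euler k S (ClSub.quotMod j.ker) = 1 →
      FGA.intNum k S 2 ![ClSub.idealMod j.ker, ClSub.idealMod j.ker] (Coh.structureModule S) ≠ -1)
    (p : B) (hp : IsClosed ({p} : Set B))
    (m : ℕ) (hm : 1 ≤ m) (IE : S.IdealSheafData) (hIE : Curv2.IsLocPrincipal IE)
    (hpow : IE ^ m = (Scheme.IdealSheafData.vanishingIdeal ⟨{p}, hp⟩).comap f)
    (hprim : ∀ n : ℕ, 2 ≤ n → ∀ J : S.IdealSheafData, Curv2.IsLocPrincipal J → J ^ n ≠ IE)
    (IA IB : S.IdealSheafData) (hIA : Curv2.IsLocPrincipal IA) (hIB : Curv2.IsLocPrincipal IB)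
    (hA : IA ≠ ⊤) (hB : IB ≠ ⊤) (hAB : IA * IB = IE) :
    1 ≤ FGA.intNum k S 2 ![ClSub.idealMod IA, ClSub.idealMod IB] (Coh.structureModule S) := by
  classical
  haveI := Curves.GlobalSections.isNoetherian_of_proper k S
  haveI := Curves.GlobalSections.isNoetherian_of_proper k B
  haveI : IsProper f := by
    have h : IsProper (f ≫ (B ↘ Spec (CommRingCat.of k))) := by rw [comp_over]; infer_instance
    exact IsProper.of_comp f (B ↘ Spec (CommRingCat.of k))
  -- the fibre is connected
  have happ : ∀ U : B.Opens, IsIso (f.app U) := fun U => by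
    have := Scheme.Modules.Hom.isIso_iff_isIso_app.1 hconn U
    rw [ConcreteCategory.isIso_iff_bijective] at this ⊢
    exact this
  haveI := Groth.Agent.H34.Stein.geometricallyConnected f happ
  have hfib : _root_.IsPreconnected (f.base ⁻¹' {p}) := by
    rw [← Scheme.Hom.range_fiberι]
    haveI : ConnectedSpace (f.fiber p) := inferInstance
    exact isPreconnected_range (f.fiberι p).continuous
  -- the maximal ideal of `p` is principal
  haveI : SmoothOfRelativeDimension 1 (B ↘ Spec (CommRingCat.of k)) :=
    Proper.smoothOfRelativeDimension (k := k) 1 (by rw [hdimB]; rfl)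
  haveI := WeilExt.Basic.isRegularLocalRing_stalk (B ↘ Spec (CommRingCat.of k)) p
  have hdimp : ringKrullDim (B.presheaf.stalk p) = 1 := by
    simpa using ProjSpace.SmoothDimEq.ringKrullDim_stalk_closed k (B ↘ Spec (CommRingCat.of k)) 1 hp
  haveI : (IsLocalRing.maximalIdeal (B.presheaf.stalk p)).IsPrincipal := by
    have h := IsRegularLocalRing.spanFinrank_maximalIdeal (R := B.presheaf.stalk p)
    rw [hdimp] at h
    refine ⟨?_⟩
    have h1 : (IsLocalRing.maximalIdeal (B.presheaf.stalk p)).spanFinrank = 1 := by exact_mod_cast h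
    have hfg := IsNoetherian.noetherian (IsLocalRing.maximalIdeal (B.presheaf.stalk p))
    obtain ⟨s, hcard, hspan⟩ := Submodule.FG.exists_span_set_encard_eq_spanFinrank hfg
    rw [h1, Nat.cast_one, Set.encard_eq_one] at hcard
    obtain ⟨t, rfl⟩ := hcard
    exact ⟨t, hspan.symm⟩
  obtain ⟨t, ht⟩ := Submodule.IsPrincipal.principal (IsLocalRing.maximalIdeal (B.presheaf.stalk p))
  obtain ⟨V, hpV, s, hs⟩ := B.presheaf.exists_germ_eq (x := p) t
  have hI : Ideal.Prime.stalkIdeal (Scheme.IdealSheafData.vanishingIdeal (⟨{p}, hp⟩ : TopologicalSpace.Closeds B)) p =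
      IsLocalRing.maximalIdeal (B.presheaf.stalk p) := by
    obtain ⟨A, hA, hpA, -⟩ := exists_isAffineOpen_mem_and_subset (show p ∈ (⊤ : B.Opens) from trivial)
    have hpre : hA.fromSpec ⁻¹' ({p} : Set B) = {hA.primeIdealOf ⟨p, hpA⟩} := by
      ext q
      constructor
      · intro hq
        exact hA.fromSpec.isOpenEmbedding.injective (hq.trans (hA.fromSpec_primeIdealOf ⟨p, hpA⟩).symm)
      · rintro rfl
        exact hA.fromSpec_primeIdealOf ⟨p, hpA⟩
    rw [Ideal.Prime.stalkIdeal_eq _ ⟨A, hA⟩ hpA, Scheme.IdealSheafData.vanishingIdeal_ideal]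
    erw [hpre, PrimeSpectrum.vanishingIdeal_singleton]
    letI algx := B.presheaf.algebra_section_stalk ⟨p, hpA⟩
    haveI := hA.isLocalization_stalk ⟨p, hpA⟩
    exact IsLocalization.AtPrime.map_eq_maximalIdeal (hA.primeIdealOf ⟨p, hpA⟩).asIdeal (B.presheaf.stalk p)
  have ht0 : t ≠ 0 := by
    intro h0
    rw [h0, Submodule.span_singleton_eq_bot.2 rfl] at ht
    have hF : IsField (B.presheaf.stalk p) := IsLocalRing.isField_iff_maximalIdeal_eq.2 ht
    have := ringKrullDim_eq_zero_of_isField hF
    rw [hdimp] at this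
    exact one_ne_zero this
  -- the supports
  have hFsupp : (((Scheme.IdealSheafData.vanishingIdeal (⟨{p}, hp⟩ : TopologicalSpace.Closeds B)).comap f).support : Set S) =
      f.base ⁻¹' {p} := by
    rw [Scheme.IdealSheafData.support_comap, TopologicalSpace.Closeds.coe_preimage, Scheme.IdealSheafData.coe_support_vanishingIdeal]
    rfl
  have hEs : (IE.support : Set S) = f.base ⁻¹' {p} := by
    rw [← hFsupp, ← hpow]
    obtain ⟨n, rfl⟩ : ∃ n, m = n + 1 := ⟨m - 1, by omega⟩
    rw [Scheme.IdealSheafData.support_pow_succ]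
  -- the fibre is cut out by `g`
  have hsub : (IE.support : Set S) ⊆ (f ⁻¹ᵁ V : S.Opens) := fun y hy => by
    have hy' : f y = p := hEs.le hy
    change f y ∈ V
    rw [hy']; exact hpV
  have hst : ∀ (y : S) (_ : y ∈ IE.support) (hy : y ∈ f ⁻¹ᵁ V), Ideal.Prime.stalkIdeal (IE ^ m) y =
      _root_.Ideal.span {S.presheaf.germ (f ⁻¹ᵁ V) y hy (f.app V s)} := by
    intro y hyE hy
    have hy' : f y = p := hEs.le hyE
    subst hy'
    rw [hpow, CartierDescent.stalkIdeal_comap, hI, ht, _root_.Ideal.submodule_span_eq,
      _root_.Ideal.map_span, Set.image_singleton, ← hs]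
    exact congrArg (fun c => _root_.Ideal.span {c}) (Scheme.Hom.germ_stalkMap_apply f V y hy s)
  have hs0 : s ≠ 0 := fun h0 => ht0 (by rw [← hs, h0, map_zero])
  have hdom : f (genericPoint S) = genericPoint B := by
    refine ((genericPoint_spec S).image f.continuous).eq ?_
    rw [Set.image_univ, f.surjective.range_eq, closure_univ]
    exact genericPoint_spec B
  have hg0 : f.app V s ≠ 0 := by
    intro h0
    haveI : Nonempty V := ⟨⟨p, hpV⟩⟩
    have hzV : f (genericPoint S) ∈ V := by
      rw [hdom]; exact (genericPoint_spec B).mem_open_set_iff V.2 |>.2 ⟨p, trivial, hpV⟩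
    have h2 := Scheme.Hom.germ_stalkMap_apply f V (genericPoint S) hzV s
    rw [h0, map_zero] at h2
    have hfield : IsField (B.presheaf.stalk (f (genericPoint S))) := by
      rw [hdom]; exact Field.toIsField B.functionField
    letI := hfield.toField
    refine hs0 (germ_injective_of_isIntegral B (f (genericPoint S)) hzV ?_)
    rw [map_zero]
    exact (RingHom.injective (f.stalkMap (genericPoint S)).hom) (h2.trans (map_zero _).symm)
  -- `IE` is effective Cartier
  have hEc : BlowUp.IsEffCartierIdeal IE := by
    intro x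
    by_cases hx : x ∈ IE.support
    · obtain ⟨A, hxA, e, he⟩ := hIE x hx
      refine ⟨A, hxA, e, ?_, he⟩
      haveI : Nonempty A.1 := ⟨⟨x, hxA⟩⟩
      refine mem_nonZeroDivisors_of_ne_zero fun h0 => hg0 ?_
      have h := hst x hx (hsub hx)
      rw [ModelFibre.StalkIdeal.stalkIdeal_pow, Ideal.Prime.stalkIdeal_eq IE A hxA, he, h0,
        _root_.Ideal.map_span, Set.image_singleton, map_zero, _root_.Ideal.span_singleton_pow,
        zero_pow (by omega)] at h
      have h' := h.symm
      rw [_root_.Ideal.span_singleton_eq_bot.2 rfl, _root_.Ideal.span_singleton_eq_bot] at h'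
      exact germ_injective_of_isIntegral S x (hsub hx) (h'.trans (map_zero _).symm)
    · obtain ⟨A, hA, hxA, hle⟩ := exists_isAffineOpen_mem_and_subset
        (show x ∈ IE.support.compl from hx)
      refine ⟨⟨A, hA⟩, hxA, 1, one_mem _, ?_⟩
      rw [_root_.Ideal.span_singleton_one]
      by_contra hne
      obtain ⟨M, hM, hMle⟩ := _root_.Ideal.exists_le_maximal _ hne
      obtain ⟨y, hy, hym⟩ := AssPt.Basic.exists_point_of_prime hA M
      refine hle hy ?_
      show y ∈ IE.support
      rw [Ideal.Prime.mem_support_iff_le_prime IE ⟨A, hA⟩ hy, hym]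
      exact hMle
  exact Fibre.one_le_intNum (k := k) hdimS hm hEc (f.app V s) hg0 hsub hst (hEs ▸ hfib)
    (fun n hn J hJ => hprim n hn J fun x _ => by
      obtain ⟨A, hxA, e, -, he⟩ := hJ x
      exact ⟨A, hxA, e, he⟩) hA hB hAB

end Groth.Agent.S16976
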