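import Groth.Statements.S16977
import Groth.Agent.Lib.CurveFF.BirationalBound
import Groth.Agent.Lib.CurveFF.H1Div
-- import your own Groth.Agent.* helpers here

set_option autoImplicit false
universe u
open CategoryTheory CategoryTheory.Limits AlgebraicGeometry Opposite
open Curves

namespace Groth.Agent.S16977
open Groth.Agent.Lib
attribute [local instance] Curv2.stalkAlgebra

/-- Let X be a smooth projective curve over an algebraically closed field k of characteristic 0
(integral, proper over k, of dimension one, all local rings regular) of genus g, and L an invertible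
O_X-module of degree d which is special (dim_k H^1(X, L) ≥ 1) with dim_k H^0(X, L) = r + 1. Suppose
the map given by the complete linear system of L is birational onto its image: there are an integral
closed subscheme j : Y ⟶ P^r_k, a morphism φ : X ⟶ Y over k which restricts to an isomorphism over
some nonempty open subset of Y, and a monomorphism ι from the pullback of O(1) along φ ≫ j into L,
such that every nonzero global section of O(1) on P^r_k pulls back to a nonzero section (so the r +
1 coordinate sections span H^0(X, L) and φ ≫ j is the map of the complete linear system, base points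
allowed). Then: (a) if L ⊗ L is special (dim_k H^1(X, L ⊗ L) ≥ 1), 3r - 1 ≤ d; (b) if L ⊗ L is
non-special, 3r - 1 + g ≤ 2d. Degrees are χ(·) - χ(O_X). -/
theorem result (k : Type u) [Field k] [IsAlgClosed k] [CharZero k] (X : Scheme.{u}) [X.Over (Spec (CommRingCat.of k))]
    [IsIntegral X] [IsProper (X ↘ (Spec (CommRingCat.of k)))] (hdim : topologicalKrullDim X = 1)
    (hreg : ∀ x : X, IsRegularLocalRing (X.presheaf.stalk x))
    (L : X.Modules) (hL : PicF.IsInvertible L) (r : ℕ)
    (h0 : Module.finrank k (Coh.HH X L 0) = r + 1) (h1 : 1 ≤ Module.finrank k (Coh.HH X L 1))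
    (Y : Scheme.{u}) [IsIntegral Y] (j : Y ⟶ CohB1.ProjSpace r k) [IsClosedImmersion j] (φ : X ⟶ Y)
    (hφ : φ ≫ j ≫ CohB1.ProjSpace.toSpec r k = X ↘ Spec (CommRingCat.of k))
    (hbir : ∃ U : Y.Opens, (U : Set Y).Nonempty ∧ IsIso (φ ∣_ U))
    (ι : (Scheme.Modules.pullback (φ ≫ j)).obj (Twist.twistProjSpace r k 1) ⟶ L) [Mono ι]
    (hnd : ∀ s : LinSer.Sect (CohB1.ProjSpace r k) (Twist.twistProjSpace r k 1), s ≠ 0 → OmegaSh.pullSect (φ ≫ j) (Twist.twistProjSpace r k 1) ⊤ s ≠ 0) :
    (1 ≤ Module.finrank k (Coh.HH X (CohB1.tensorMod L L) 1) → 3 * (r : ℤ) - 1 ≤ Curv2.deg k X L 1) ∧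
      (Module.finrank k (Coh.HH X (CohB1.tensorMod L L) 1) = 0 →
        3 * (r : ℤ) - 1 + Curv2.genus k X ≤ 2 * Curv2.deg k X L 1) := by
  classical
  have h := CurveFF.curveHyp_of_regular k hdim hreg
  have hK := CurveFF.isFunctionField (k := k) h (Curves.GlobalSections.finrank_h0_structure k X)
  obtain ⟨R, hD, hgen⟩ := CurveFF.BirationalBound.exists_rep h hK hL φ j hφ hbir ι (by omega)
  rw [R.finrank_h0 h hK] at h0
  obtain ⟨W, hW⟩ := FunFld.Weil.exists_isCanonical hK
  rw [CurveFF.H1Div.finrank_h1 h hK hW R] at h1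
  obtain ⟨D', hD', hle, hr', hrd, h2, -⟩ := CurveFF.BirationalBound.bounds hK hD hgen r (by omega)
  set D := R.div (k := k) h hK with hDdef
  have hsp : 0 < _root_.FunFld.ell (W - D') := by
    haveI := FunFld.Degree.finiteDimensional_L hK (W - D')
    refine lt_of_lt_of_le h1 (Submodule.finrank_mono (FunFld.Degree.L_mono fun P => ?_))
    have := hle P
    simp only [Finsupp.sub_apply]
    omega
  have hcl := CurveFF.CliffordField.clifford hK hW (D := D') (by omega) hsp
  have hmono : _root_.FunFld.ell ((2 : ℤ) • D') ≤ _root_.FunFld.ell ((2 : ℤ) • D) := by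
    haveI := FunFld.Degree.finiteDimensional_L hK ((2 : ℤ) • D)
    refine Submodule.finrank_mono (FunFld.Degree.L_mono fun P => ?_)
    have := hle P
    simp only [Finsupp.smul_apply, smul_eq_mul]
    omega
  have h3r : 3 * (r : ℤ) ≤ _root_.FunFld.ell ((2 : ℤ) • D) := by omega
  have hD2 : (R.mul R).div (k := k) h hK = (2 : ℤ) • D := by
    rw [CurveFF.LineDiv.Rep.div_mul, two_zsmul]
  have hd : D.deg = Curv2.deg k X L 1 := (R.deg_eq h hK).symm
  have hd2 : ((2 : ℤ) • D).deg = 2 * D.deg := FunFld.Degree.deg_smul _ _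
  rw [CurveFF.H1Div.finrank_h1 h hK hW (R.mul R), hD2]
  refine ⟨fun hs => ?_, fun hns => ?_⟩
  · have hpos : 0 < _root_.FunFld.ell ((2 : ℤ) • D) := by
      haveI := FunFld.Degree.finiteDimensional_L hK ((2 : ℤ) • D)
      refine Submodule.one_le_finrank_iff.2 ((Submodule.ne_bot_iff _).2
        ⟨1, CurveFF.CastelnuovoBound.one_mem_L (fun P => ?_), one_ne_zero⟩)
      have := hD P
      simp only [Finsupp.coe_zero, Pi.zero_apply, Finsupp.smul_apply, smul_eq_mul] at this ⊢
      omega
    have := CurveFF.CliffordField.clifford hK hW (D := (2 : ℤ) • D) hpos (by omega)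
    omega
  · have hrr := FunFld.Weil.riemann_roch hK hW ((2 : ℤ) • D)
    have hg := CurveFF.genus_eq (k := k) h (Curves.GlobalSections.finrank_h0_structure k X)
    omega

end Groth.Agent.S16977
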