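import Groth.Statements.S16979
import Mathlib.LinearAlgebra.Matrix.Charpoly.Eigs
import Mathlib.LinearAlgebra.Matrix.Charpoly.Coeff
import Mathlib.FieldTheory.IsAlgClosed.AlgebraicClosure
import Mathlib.RingTheory.Localization.FractionRing
import Mathlib.FieldTheory.Separable
import Mathlib.FieldTheory.IsAlgClosed.Spectrum

set_option autoImplicit false
universe u v
open CAlg

namespace Groth.Agent.S16979

/-- Let R be an integral domain with fraction field K and φ a square matrix over R whose characteristic
polynomial becomes separable in K[T] (equivalently, K[T] modulo the characteristic polynomial is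
geometrically reduced over K). Then a polynomial f over R satisfies f(φ) = 0 exactly when the
characteristic polynomial of φ divides f in R[T]: the kernel of evaluation at φ (the minimal ideal
of φ) is the principal ideal generated by the characteristic polynomial. -/
theorem result
    {R : Type u} [CommRing R] [IsDomain R] {n : Type v} [Fintype n] [DecidableEq n]
    (φ : Matrix n n R)
    (hsep : (φ.charpoly.map (algebraMap R (FractionRing R))).Separable) :
    RingHom.ker (Polynomial.aeval (R := R) φ) = Ideal.span {φ.charpoly} := by
  classical
  ext f
  rw [RingHom.mem_ker, Ideal.mem_span_singleton]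
  refine ⟨fun hf => ?_, ?_⟩
  · let K := FractionRing R
    let L := AlgebraicClosure K
    let ι : R →+* L := (algebraMap K L).comp (algebraMap R K)
    have hι : Function.Injective ι := (algebraMap K L).injective.comp (IsFractionRing.injective R K)
    rw [← Polynomial.map_dvd_map ι hι (Matrix.charpoly_monic φ)]
    rcases eq_or_ne f 0 with rfl | hf0
    · simp
    have hs : (φ.charpoly.map ι).Separable := by
      rw [← Polynomial.map_map]; exact Polynomial.Separable.map hsep
    rw [(IsAlgClosed.splits (φ.charpoly.map ι)).eq_prod_roots_of_monic ((Matrix.charpoly_monic φ).map ι)]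
    rw [Multiset.prod_X_sub_C_dvd_iff_le_roots ((Polynomial.map_ne_zero_iff hι).2 hf0),
      Multiset.le_iff_subset (Polynomial.nodup_roots hs)]
    intro l hl
    rw [Polynomial.mem_roots'] at hl
    rw [Polynomial.mem_roots', Polynomial.map_ne_zero_iff hι]
    refine ⟨hf0, ?_⟩
    by_contra hne
    have h1 : l ∈ spectrum L (φ.map ι) := by
      rw [Matrix.mem_spectrum_iff_isRoot_charpoly, Matrix.charpoly_map]; exact hl.2
    have h2 := spectrum.subset_polynomial_aeval (φ.map ι) (f.map ι) ⟨l, h1, rfl⟩
    have h3 : Polynomial.aeval (φ.map ι) (f.map ι) = 0 := by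
      have := Polynomial.map_aeval_eq_aeval_map (φ := ι) (ψ := ι.mapMatrix) (by
        ext r i j
        simp [Matrix.algebraMap_matrix_apply, apply_ite ι]) f φ
      rw [hf, map_zero] at this
      exact this.symm
    rw [h3, spectrum.mem_iff, sub_zero] at h2
    exact h2 ((IsUnit.mk0 _ hne).map (algebraMap L _))
  · rintro ⟨g, rfl⟩
    rw [map_mul, Matrix.aeval_self_charpoly, zero_mul]

end Groth.Agent.S16979
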