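import Groth.Statements.S16980
import Mathlib.RingTheory.Kaehler.Basic
import Mathlib.RingTheory.Polynomial.Basic
import Mathlib.Algebra.MvPolynomial.PDeriv
import Mathlib.Algebra.MvPolynomial.Division
import Mathlib.LinearAlgebra.TensorProduct.Quotient
import Mathlib.Tactic.LinearCombination
import Mathlib.Tactic.Ring

set_option autoImplicit false
universe u
open CAlg

namespace Groth.Agent.S16980

section
open MvPolynomial

theorem node_nzd {A : Type*} [CommRing A] (t : A) (h : MvPolynomial (Fin 2) A)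
    (hh : h * (X 0 * X 1 - C t) = 0) : h = 0 := by
  classical
  set v : Fin 2 →₀ ℕ := Finsupp.single 0 1 + Finsupp.single 1 1
  have key : ∀ m, coeff m h = t * coeff (m + v) h := by
    intro m
    have h1 : h * monomial v 1 = C t * h := by
      have hv : (monomial v (1 : A)) = X 0 * X 1 := by
        rw [X, X, monomial_mul, one_mul]
      rw [hv]; linear_combination hh
    have h2 := congrArg (coeff (m + v)) h1
    rwa [coeff_mul_monomial, mul_one, coeff_C_mul] at h2
  by_contra hne
  obtain ⟨m, hm, hmax⟩ := h.support.exists_max_image (fun s => s 0) (support_nonempty.mpr hne)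
  rw [mem_support_iff] at hm
  apply hm
  rw [key m]
  by_cases hc : coeff (m + v) h = 0
  · rw [hc, mul_zero]
  · have := hmax (m + v) (mem_support_iff.mpr hc)
    simp [v] at this

theorem node_cancel {A : Type*} [CommRing A] (t : A) (f : MvPolynomial (Fin 2) A)
    (hX : (X 0 * X 1 - C t) ∣ f * X 0) (hY : (X 0 * X 1 - C t) ∣ f * X 1) :
    (X 0 * X 1 - C t) ∣ f := by
  classical
  obtain ⟨a, ha⟩ := hX
  obtain ⟨b, hb⟩ := hY
  have hab : a * X 1 = b * X 0 := by
    refine sub_eq_zero.mp (node_nzd t _ ?_)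
    linear_combination (X 1 : MvPolynomial (Fin 2) A) * (-ha) + (X 0 : MvPolynomial (Fin 2) A) * hb
  have hdvd : X 0 ∣ a := by
    rw [X_dvd_iff_modMonomial_eq_zero]
    ext m
    rw [coeff_zero]
    by_cases hle : Finsupp.single (0 : Fin 2) 1 ≤ m
    · rw [coeff_modMonomial_of_le _ hle]
    · rw [coeff_modMonomial_of_not_le _ hle]
      have h2 := congrArg (coeff (m + Finsupp.single 1 1)) hab
      rw [coeff_mul_X, coeff_mul_X', if_neg] at h2
      · exact h2
      · rw [Finsupp.mem_support_iff, not_not, Finsupp.add_apply,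
          Finsupp.single_eq_of_ne (by decide), add_zero]
        by_contra h0
        exact hle (Finsupp.single_le_iff.mpr (Nat.one_le_iff_ne_zero.mpr h0))
  obtain ⟨a', rfl⟩ := hdvd
  refine ⟨a', ?_⟩
  have h3 : (f - (X 0 * X 1 - C t) * a') * monomial (Finsupp.single 0 1) 1 = 0 := by
    have hX0 : (monomial (Finsupp.single (0 : Fin 2) 1) (1 : A)) = X 0 := rfl
    rw [hX0]; linear_combination ha
  ext m
  have h4 := congrArg (coeff (m + Finsupp.single 0 1)) h3
  rw [coeff_mul_monomial, mul_one, coeff_zero, coeff_sub, sub_eq_zero] at h4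
  exact h4

theorem pderiv_mem_map_C {R σ : Type*} [CommRing R] (K : Ideal R) {f : MvPolynomial σ R}
    (hf : f ∈ K.map C) (i : σ) : pderiv i f ∈ K.map C := by
  rw [mem_map_C_iff] at hf ⊢
  intro m
  rw [f.as_sum, map_sum, coeff_sum]
  refine sum_mem fun v _ => ?_
  classical
  rw [pderiv_monomial, coeff_monomial]
  split
  · exact K.mul_mem_right _ (hf v)
  · exact zero_mem _

variable {A : Type*} [CommRing A] {J : Type*} [AddCommGroup J] [Module A J] [Module Aᵐᵒᵖ J]
  [IsCentralScalar A J]

/-- `a + εj ↦ a`, as an endomorphism of polynomials over `A ⊕ εJ`. -/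
noncomputable def sigma : MvPolynomial (Fin 2) (TrivSqZeroExt A J) →+*
    MvPolynomial (Fin 2) (TrivSqZeroExt A J) :=
  MvPolynomial.map ((algebraMap A (TrivSqZeroExt A J)).comp (TrivSqZeroExt.fstHom A A J).toRingHom)

theorem sub_sigma_mem (f : MvPolynomial (Fin 2) (TrivSqZeroExt A J)) :
    f - sigma f ∈ (TrivSqZeroExt.kerIdeal A J).map C := by
  rw [mem_map_C_iff]
  intro m
  rw [coeff_sub, sigma, coeff_map]
  simp [TrivSqZeroExt.kerIdeal, RingHom.mem_ker, TrivSqZeroExt.algebraMap_eq_inl]

theorem sigma_eq_zero {f : MvPolynomial (Fin 2) (TrivSqZeroExt A J)}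
    (hf : f ∈ (TrivSqZeroExt.kerIdeal A J).map C) : sigma f = 0 := by
  rw [mem_map_C_iff] at hf
  refine MvPolynomial.ext _ _ fun m => ?_
  rw [sigma, coeff_map, coeff_zero]
  have := hf m
  simp only [TrivSqZeroExt.kerIdeal, RingHom.mem_ker] at this
  simp [this]

end

/-- Let A be a commutative ring, J an A-module, A′ = A ⊕ εJ the trivial square-zero extension of A by J,
and τ any element of A′. Let B′ be the A′-algebra A′[x,y]/(xy − τ), presented by two generators x, y
with the evaluation map from the polynomial ring in two variables over A′ surjective and with kernel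
generated by XY − τ. Let I ⊆ B′ be the ideal generated by the square-zero ideal J of A′, so that B =
B′/I is A[x,y]/(xy − t) with t the A-component of τ. Then the first map of the conormal sequence of
B′ → B relative to A, namely I → B ⊗_{B′} Ω_{B′/A}, i ↦ 1 ⊗ di, is injective (so the sequence 0 → I
→ B ⊗_{B′} Ω_{B′/A} → Ω_{B/A} → 0 is exact on the left as well; this is the local computation at a
node for first-order deformations of nodal curves). -/
theorem result
    (A : Type u) [CommRing A] (J : Type u) [AddCommGroup J] [Module A J] [Module Aᵐᵒᵖ J]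
    [IsCentralScalar A J] (τ : TrivSqZeroExt A J)
    (B' : Type u) [CommRing B'] [Algebra (TrivSqZeroExt A J) B'] [Algebra A B']
    [IsScalarTower A (TrivSqZeroExt A J) B'] (x y : B')
    (hsurj : Function.Surjective
      (MvPolynomial.aeval ![x, y] : MvPolynomial (Fin 2) (TrivSqZeroExt A J) →ₐ[TrivSqZeroExt A J] B'))
    (hker : RingHom.ker
      (MvPolynomial.aeval ![x, y] : MvPolynomial (Fin 2) (TrivSqZeroExt A J) →ₐ[TrivSqZeroExt A J] B') =
      Ideal.span {MvPolynomial.X 0 * MvPolynomial.X 1 - MvPolynomial.C τ}) :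
    Function.Injective (KaehlerDifferential.kerToTensor A B'
      (B' ⧸ Ideal.map (algebraMap (TrivSqZeroExt A J) B') (TrivSqZeroExt.kerIdeal A J))) := by
  classical
  set φ : MvPolynomial (Fin 2) (TrivSqZeroExt A J) →ₐ[TrivSqZeroExt A J] B' :=
    MvPolynomial.aeval ![x, y] with hφ
  set K := TrivSqZeroExt.kerIdeal A J with hK
  set I := K.map (algebraMap (TrivSqZeroExt A J) B') with hI
  set g : MvPolynomial (Fin 2) (TrivSqZeroExt A J) :=
    MvPolynomial.X 0 * MvPolynomial.X 1 - MvPolynomial.C τ with hg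
  have hIφ : I = (K.map MvPolynomial.C).map φ.toRingHom := by
    rw [Ideal.map_map, hI]
    congr 1
    exact RingHom.ext fun a => (MvPolynomial.aeval_C _ a).symm
  have hmemI : ∀ {f}, f ∈ K.map (MvPolynomial.C : _ →+* MvPolynomial (Fin 2) _) → φ f ∈ I := by
    intro f hf
    rw [hIφ]
    exact Ideal.mem_map_of_mem φ.toRingHom hf
  have hII : ∀ a ∈ I, ∀ b ∈ I, a * b = 0 := by
    intro a ha b hb
    have := Ideal.mul_mem_mul ha hb
    rwa [← pow_two, hI, ← Ideal.map_pow, hK, TrivSqZeroExt.kerIdeal_sq, Ideal.map_bot,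
      Ideal.mem_bot] at this
  have hφX : φ (MvPolynomial.X 0) = x ∧ φ (MvPolynomial.X 1) = y := by
    constructor <;> simp [hφ]
  have hφg : φ g = 0 := by
    have : g ∈ RingHom.ker φ := by rw [hker]; exact Ideal.subset_span rfl
    exact this
  let r₀ : I := ⟨φ (g - sigma g), hmemI (sub_sigma_mem g)⟩
  let N : Submodule B' (↥I × B' × B') :=
    Submodule.span B' {(r₀, y, x)} ⊔ (⊥ : Submodule B' ↥I).prod (Submodule.prod I I)
  let comp : MvPolynomial (Fin 2) (TrivSqZeroExt A J) → ↥I × B' × B' := fun f =>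
    (⟨φ (f - sigma f), hmemI (sub_sigma_mem f)⟩,
      φ (MvPolynomial.pderiv 0 f), φ (MvPolynomial.pderiv 1 f))
  let Dt : MvPolynomial (Fin 2) (TrivSqZeroExt A J) → (↥I × B' × B') ⧸ N := fun f =>
    Submodule.Quotient.mk (comp f)
  have hadd : ∀ f f', Dt (f + f') = Dt f + Dt f' := by
    intro f f'
    simp only [Dt, ← Submodule.Quotient.mk_add]
    congr 1
    ext <;> simp [comp, map_add] <;> abel
  have hmul : ∀ f f', Dt (f * f') = φ f • Dt f' + φ f' • Dt f := by
    intro f f'
    simp only [Dt, ← Submodule.Quotient.mk_smul, ← Submodule.Quotient.mk_add]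
    congr 1
    have h0 := hII _ (hmemI (sub_sigma_mem f)) _ (hmemI (sub_sigma_mem f'))
    ext <;> simp only [comp, Prod.smul_mk, Prod.mk_add_mk, smul_eq_mul, Submodule.coe_add,
      SetLike.val_smul, map_mul, map_sub, Derivation.leibniz, map_add] at h0 ⊢
    · linear_combination (-1 : B') * h0
  have hg0 : Dt g = 0 := by
    refine (Submodule.Quotient.mk_eq_zero _).mpr (Submodule.mem_sup_left ?_)
    have : comp g = (r₀, y, x) := by
      ext <;> simp [comp, r₀, hg, hφX.1, hφX.2, MvPolynomial.pderiv_X]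
    rw [this]
    exact Submodule.subset_span rfl
  have hwd : ∀ f, φ f = 0 → Dt f = 0 := by
    intro f hf
    have : f ∈ RingHom.ker φ := hf
    rw [hker, Ideal.mem_span_singleton'] at this
    obtain ⟨h, rfl⟩ := this
    rw [hmul, hg0, hφg]
    simp
  have hDz : Dt 0 = 0 := hwd 0 (map_zero φ)
  have hconst : ∀ a : A, Dt (MvPolynomial.C (algebraMap A (TrivSqZeroExt A J) a)) = 0 := by
    intro a
    simp only [Dt]
    rw [show comp (MvPolynomial.C (algebraMap A (TrivSqZeroExt A J) a)) = 0 by
      ext <;> simp [comp, sigma, TrivSqZeroExt.algebraMap_eq_inl]]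
    rfl
  let L := Function.surjInv hsurj
  have hL : ∀ b, φ (L b) = b := Function.surjInv_eq hsurj
  let D0 : B' → (↥I × B' × B') ⧸ N := fun b => Dt (L b)
  have hD0 : ∀ f, D0 (φ f) = Dt f := by
    intro f
    have h1 := hwd (L (φ f) - f) (by rw [map_sub, hL, sub_self])
    have h2 := hadd (L (φ f) - f) f
    rwa [sub_add_cancel, h1, zero_add] at h2
  have hDmul : ∀ a b, D0 (a * b) = a • D0 b + b • D0 a := by
    intro a b
    rw [← hL a, ← hL b, ← map_mul, hD0, hD0, hD0, hmul]
  let Dl : B' →ₗ[A] (↥I × B' × B') ⧸ N :=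
    { toFun := D0
      map_add' := fun a b => by rw [← hL a, ← hL b, ← map_add, hD0, hD0, hD0, hadd]
      map_smul' := fun a b => by
        have ha : φ (MvPolynomial.C (algebraMap A (TrivSqZeroExt A J) a)) = algebraMap A B' a := by
          rw [hφ, MvPolynomial.aeval_C, ← IsScalarTower.algebraMap_apply]
        rw [Algebra.smul_def, hDmul, ← ha, hD0, hconst, smul_zero, add_zero, ha, algebraMap_smul]
        rfl }
  let D : Derivation A B' ((↥I × B' × B') ⧸ N) := Derivation.mk' Dl hDmul
  have hIM : ∀ a ∈ I, ∀ m : (↥I × B' × B') ⧸ N, a • m = 0 := by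
    intro a ha m
    obtain ⟨⟨m₁, m₂, m₃⟩, rfl⟩ := Submodule.Quotient.mk_surjective _ m
    refine (Submodule.Quotient.mk_eq_zero _).mpr (Submodule.mem_sup_right ⟨?_, ?_, ?_⟩)
    · simp only [Prod.smul_mk, SetLike.mem_coe, Submodule.mem_bot]
      exact Subtype.ext (hII a ha _ m₁.2)
    · simp only [Prod.smul_mk, SetLike.mem_coe]
      exact I.mul_mem_right _ ha
    · simp only [Prod.smul_mk, SetLike.mem_coe]
      exact I.mul_mem_right _ ha
  have hcancel : ∀ c, c * x ∈ I → c * y ∈ I → c ∈ I := by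
    intro c hcx hcy
    obtain ⟨f, rfl⟩ := hsurj c
    let q : MvPolynomial (Fin 2) (TrivSqZeroExt A J) →+* MvPolynomial (Fin 2) A :=
      MvPolynomial.map (TrivSqZeroExt.fstHom A A J).toRingHom
    have hqK : RingHom.ker q = K.map MvPolynomial.C := MvPolynomial.ker_map _
    have hqg : q g = MvPolynomial.X 0 * MvPolynomial.X 1 - MvPolynomial.C τ.fst := by
      simp [q, hg]
    have hdvd : ∀ {h}, φ h ∈ I → q g ∣ q h := by
      intro h hh
      rw [hIφ] at hh
      obtain ⟨k, hk, hke⟩ := (Ideal.mem_map_iff_of_surjective φ.toRingHom hsurj).mp hh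
      have : h - k ∈ RingHom.ker φ := by
        rw [RingHom.mem_ker, map_sub, sub_eq_zero]
        exact hke.symm
      rw [hker, Ideal.mem_span_singleton'] at this
      obtain ⟨w, hw⟩ := this
      rw [← hqK, RingHom.mem_ker] at hk
      refine ⟨q w, ?_⟩
      rw [← map_mul, mul_comm, hw, map_sub, hk, sub_zero]
    have h1 := hdvd (h := f * MvPolynomial.X 0) (by rwa [map_mul, hφX.1])
    have h2 := hdvd (h := f * MvPolynomial.X 1) (by rwa [map_mul, hφX.2])
    rw [map_mul, MvPolynomial.map_X, hqg] at h1 h2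
    obtain ⟨a, ha⟩ := node_cancel τ.fst (q f) h1 h2
    obtain ⟨a', rfl⟩ : ∃ a', q a' = a :=
      MvPolynomial.map_surjective _ (fun z => ⟨TrivSqZeroExt.inl z, rfl⟩) a
    have : f - g * a' ∈ K.map MvPolynomial.C := by
      rw [← hqK, RingHom.mem_ker, map_sub, map_mul, hqg, ha, sub_self]
    have h3 := hmemI this
    rwa [map_sub, map_mul, hφg, zero_mul, sub_zero] at h3
  have key : ∀ i ∈ I, (KaehlerDifferential.D A B' i) ∈ I • (⊤ : Submodule B' (Ω[B'⁄A])) → i = 0 := by
    intro i hi hmem
    have hker' : I • (⊤ : Submodule B' (Ω[B'⁄A])) ≤ LinearMap.ker D.liftKaehlerDifferential := by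
      rw [Submodule.smul_le]
      intro a ha w _
      rw [LinearMap.mem_ker, map_smul, hIM a ha]
    have h1 : D i = 0 := by
      have := hker' hmem
      rwa [LinearMap.mem_ker, Derivation.liftKaehlerDifferential_comp_D] at this
    have hi' := hi
    rw [hIφ] at hi'
    obtain ⟨f, hf, hfi⟩ := (Ideal.mem_map_iff_of_surjective φ.toRingHom hsurj).mp hi'
    change φ f = i at hfi
    have h2 : Dt f = 0 := by rw [← hD0, hfi]; exact h1
    obtain ⟨v, hv, w, hw, hvw⟩ := Submodule.mem_sup.mp ((Submodule.Quotient.mk_eq_zero _).mp h2)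
    obtain ⟨c, rfl⟩ := Submodule.mem_span_singleton.mp hv
    obtain ⟨hw1, hw2, hw3⟩ := hw
    simp only [SetLike.mem_coe, Submodule.mem_bot] at hw1 hw2 hw3
    have e1 : c * (r₀ : B') = i := by
      have := congrArg (fun p => (p.1 : B')) hvw
      simpa [comp, hw1, sigma_eq_zero hf, hfi] using this
    have e2 : c * y + w.2.1 = φ (MvPolynomial.pderiv 0 f) := congrArg (fun p => p.2.1) hvw
    have e3 : c * x + w.2.2 = φ (MvPolynomial.pderiv 1 f) := congrArg (fun p => p.2.2) hvw
    have hc : c ∈ I := hcancel c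
      (by rw [← eq_sub_iff_add_eq] at e3; rw [e3]; exact sub_mem (hmemI (pderiv_mem_map_C K hf 1)) hw3)
      (by rw [← eq_sub_iff_add_eq] at e2; rw [e2]; exact sub_mem (hmemI (pderiv_mem_map_C K hf 0)) hw2)
    rw [← e1]
    exact hII c hc _ r₀.2
  rw [injective_iff_map_eq_zero]
  rintro ⟨i, hi⟩ h0
  have hi' : i ∈ I := by
    simpa [RingHom.mem_ker, Ideal.Quotient.eq_zero_iff_mem] using hi
  refine Subtype.ext (key i hi' ?_)
  rw [← Submodule.Quotient.mk_eq_zero, ← TensorProduct.quotTensorEquivQuotSMul_mk_one_tmul,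
    LinearEquiv.map_eq_zero_iff]
  simpa [KaehlerDifferential.kerToTensor] using h0

end Groth.Agent.S16980
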