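import Groth.Statements.S16982
import Groth.Agent.H24.SqZeroComplete
import Groth.Agent.H24.PowerSeries
import Mathlib.RingTheory.MvPowerSeries.Rename

set_option autoImplicit false
universe u v w w'
open CAlg

namespace Groth.Agent.S16982

/-- Let R be a commutative ring, A a complete Noetherian local R-algebra written as a quotient of a
power series ring over R in finitely many variables by a surjective R-algebra map π, and f : E → A a
surjective R-algebra map whose kernel has square zero and is finitely generated. Then π lifts along
f to an R-algebra map λ from the power series ring to E with f ∘ λ = π. (The published statement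
takes R Artinian local and asks for a lift that is continuous for the adic topologies; this row
allows any commutative R and asks for any lift.) -/
theorem result
    {R : Type u} [CommRing R] {σ : Type v} [Finite σ]
    {A : Type w} {E : Type w'} [CommRing A] [CommRing E] [Algebra R A] [Algebra R E]
    [IsNoetherianRing A] [IsLocalRing A] [IsAdicComplete (IsLocalRing.maximalIdeal A) A]
    (π : MvPowerSeries σ R →ₐ[R] A) (hπ : Function.Surjective π)
    (f : E →ₐ[R] A) (hf : Function.Surjective f)
    (hsq : RingHom.ker f.toRingHom ^ 2 = ⊥) (hfg : (RingHom.ker f.toRingHom).FG) :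
    ∃ l : MvPowerSeries σ R →ₐ[R] E, f.comp l = π := by
  haveI := Groth.Agent.H24.SqZeroComplete.isAdicComplete f.toRingHom hf hsq hfg
  obtain ⟨n, ⟨eσ⟩⟩ := Finite.exists_equiv_fin σ
  let e : MvPowerSeries σ R ≃ₐ[R] MvPowerSeries (Fin n) R := MvPowerSeries.renameEquiv R eσ
  let π' : MvPowerSeries (Fin n) R →ₐ[R] A := π.comp e.symm.toAlgHom
  have hπ' : Function.Surjective π' := hπ.comp e.symm.surjective
  have hX : ∀ i : Fin n, π' (MvPowerSeries.X i) ∈ IsLocalRing.maximalIdeal A := by
    intro i hu
    obtain ⟨G, hG⟩ := hπ' (↑hu.unit⁻¹ : A)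
    have h1 : IsUnit (1 - MvPowerSeries.X i * G : MvPowerSeries (Fin n) R) :=
      MvPowerSeries.isUnit_iff_constantCoeff.2 (by simp)
    have h2 := h1.map π'
    rw [map_sub, map_mul, map_one, hG, IsUnit.mul_val_inv, sub_self] at h2
    exact not_isUnit_zero h2
  choose b hb using fun i => hf (π' (MvPowerSeries.X i))
  obtain ⟨g, hg⟩ := Groth.Agent.H24.PowerSeries.exists_hom (A := R)
    ((IsLocalRing.maximalIdeal A).comap f.toRingHom) b fun i => by
      show f (b i) ∈ IsLocalRing.maximalIdeal A
      rw [hb]; exact hX i
  have hcomp : f.comp g = π' := Groth.Agent.H24.PowerSeries.hom_ext (IsLocalRing.maximalIdeal A)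
    (fun i => by rw [AlgHom.comp_apply, hg, hb]; exact hX i)
    (fun i => by rw [AlgHom.comp_apply, hg, hb])
  refine ⟨g.comp e.toAlgHom, ?_⟩
  rw [← AlgHom.comp_assoc, hcomp]
  ext x
  exact congrArg π (e.symm_apply_apply x)

end Groth.Agent.S16982
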