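import Groth.Statements.S16983
import Mathlib

set_option autoImplicit false
universe u
open DeformData

namespace Groth.Agent.S16983

/-- Let p be a prime, s ≥ 1, B a finite index set with a subset B₀ of exactly three elements, m_j ≥ 1
integers coprime to p, and σ_{i,j} (i < s, j ∈ B) rational numbers with m_j σ_{i,j} an integer, such
that Σ_j (σ_{i,j} − 1) = −2 for every i, the fractional part of σ_{i,j} equals that of p^i σ_{0,j},
no σ_{i,j} equals 1, and the minimum over i of ⌊σ_{i,j}⌋ is 0 for j ∈ B₀ and 1 for j ∉ B₀. Then for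
every i the fractional parts ⟨σ_{i,j}⟩ sum over j to 1 (purity), and ⌊σ_{i,j}⌋ is 0 on B₀ and 1 off
B₀ for every i. (The hypotheses are exactly the properties of the signature of a special deformation
datum on the projective line: each entry is an integer divided by a stabilizer order m_j in a group
of order prime to p, the degree identity coming from Riemann–Hurwitz, the Frobenius-twist relation
between fractional parts, and the speciality conditions; the statement is given here for any such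
tuple.) -/
theorem result
    {B : Type u} [Fintype B] [DecidableEq B] (B₀ : Finset B) (hB₀ : B₀.card = 3)
    (p : ℕ) (hp : p.Prime) (s : ℕ) (hs : 0 < s)
    (m : B → ℕ) (hm : ∀ j, 0 < m j) (hmp : ∀ j, Nat.Coprime (m j) p)
    (σ : Fin s → B → ℚ) (hint : ∀ i j, ∃ h : ℤ, σ i j = (h : ℚ) / (m j : ℚ))
    (hsum : ∀ i, ∑ j, (σ i j - 1) = -2)
    (hfract : ∀ i j, Int.fract (σ i j) = Int.fract ((p : ℚ) ^ (i : ℕ) * σ ⟨0, hs⟩ j))
    (hne : ∀ i j, σ i j ≠ 1)
    (hB₀min : ∀ j ∈ B₀, (∃ i, ⌊σ i j⌋ = 0) ∧ ∀ i, 0 ≤ ⌊σ i j⌋)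
    (hBmin : ∀ j ∉ B₀, (∃ i, ⌊σ i j⌋ = 1) ∧ ∀ i, 1 ≤ ⌊σ i j⌋) :
    (∀ i, ∑ j, Int.fract (σ i j) = 1) ∧ (∀ i j, ⌊σ i j⌋ = if j ∈ B₀ then 0 else 1) := by
  have hfl : ∀ i j, (if j ∈ B₀ then (0 : ℤ) else 1) ≤ ⌊σ i j⌋ := by
    intro i j
    split_ifs with h
    · exact (hB₀min j h).2 i
    · exact (hBmin j h).2 i
  have hcard : (∑ j : B, (if j ∈ B₀ then (0 : ℤ) else 1)) = (Fintype.card B : ℤ) - 3 := by
    rw [show (∑ j : B, (if j ∈ B₀ then (0 : ℤ) else 1))
      = ∑ j : B, ((1 : ℤ) - if j ∈ B₀ then 1 else 0) from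
        Finset.sum_congr rfl fun j _ => by split_ifs <;> norm_num]
    rw [Finset.sum_sub_distrib, Finset.sum_const, Finset.sum_ite_mem, Finset.univ_inter,
      Finset.sum_const, hB₀]
    simp
  have hfs : ∀ i, ∑ j, Int.fract (σ i j) = ((Fintype.card B : ℤ) - 2 - ∑ j, ⌊σ i j⌋ : ℤ) := by
    intro i
    have h := hsum i
    rw [Finset.sum_sub_distrib, Finset.sum_const, Finset.card_univ, nsmul_one] at h
    simp only [Int.fract, Finset.sum_sub_distrib]
    push_cast
    linarith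
  have hpos : ∀ i, (0 : ℚ) < ∑ j, Int.fract (σ i j) := by
    intro i
    refine lt_of_le_of_ne (Finset.sum_nonneg fun j _ => Int.fract_nonneg _) fun h0 => ?_
    have hz : ∀ j, Int.fract (σ i j) = 0 := fun j =>
      (Finset.sum_eq_zero_iff_of_nonneg fun j _ => Int.fract_nonneg _).1 h0.symm j (Finset.mem_univ j)
    have h00 : ∀ j, ∃ z : ℤ, σ ⟨0, hs⟩ j = z := by
      intro j
      have h1 := hz j
      rw [hfract i j, Int.fract_eq_zero_iff] at h1
      obtain ⟨a, ha⟩ := h1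
      obtain ⟨b, hb⟩ := hint ⟨0, hs⟩ j
      have hcop : IsCoprime ((m j : ℤ)) ((p : ℤ) ^ (i : ℕ)) :=
        (Int.isCoprime_iff_nat_coprime.2 (by simpa using hmp j)).pow_right
      have hm0 : (m j : ℚ) ≠ 0 := Nat.cast_ne_zero.2 (hm j).ne'
      have heq : (p : ℤ) ^ (i : ℕ) * b = (m j : ℤ) * a := by
        have : ((p : ℚ) ^ (i : ℕ)) * b = (m j : ℚ) * a := by
          rw [ha, hb]; field_simp
        exact_mod_cast this
      obtain ⟨q, hq⟩ := hcop.dvd_of_dvd_mul_left ⟨a, heq⟩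
      refine ⟨q, ?_⟩
      rw [hb, hq]
      push_cast
      field_simp
    have hall : ∀ i' j, ∃ z : ℤ, σ i' j = z := by
      intro i' j
      have h1 : Int.fract (σ i' j) = 0 := by
        obtain ⟨z, hz'⟩ := h00 j
        rw [hfract i' j, hz', Int.fract_eq_zero_iff]
        exact ⟨(p : ℤ) ^ (i' : ℕ) * z, by push_cast; ring⟩
      obtain ⟨z, hz'⟩ := Int.fract_eq_zero_iff.1 h1
      exact ⟨z, hz'.symm⟩
    have hB : ∀ j, j ∈ B₀ := by
      intro j
      by_contra hj
      obtain ⟨i', hi'⟩ := (hBmin j hj).1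
      obtain ⟨z, hz'⟩ := hall i' j
      rw [hz', Int.floor_intCast] at hi'
      exact hne i' j (by rw [hz', hi']; norm_num)
    have hn3 : Fintype.card B = 3 := by
      rw [← hB₀, ← Finset.card_univ, Finset.eq_univ_of_forall hB]
    have h1 := hfs i
    rw [← h0, hn3] at h1
    have h2 : ∑ j, ⌊σ i j⌋ = 1 := by
      have : ((3 : ℤ) - 2 - ∑ j, ⌊σ i j⌋ : ℤ) = 0 := by exact_mod_cast h1.symm
      omega
    obtain ⟨j, -, hj⟩ := Finset.exists_ne_zero_of_sum_ne_zero (by rw [h2]; norm_num : ∑ j, ⌊σ i j⌋ ≠ 0)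
    obtain ⟨z, hz'⟩ := hall i j
    have hle := Finset.single_le_sum (f := fun j => ⌊σ i j⌋)
      (fun x _ => (hB₀min x (hB x)).2 i) (Finset.mem_univ j)
    have h0' := (hB₀min j (hB j)).2 i
    rw [h2] at hle
    refine hne i j ?_
    have : ⌊σ i j⌋ = 1 := by omega
    rw [hz', Int.floor_intCast] at this
    rw [hz', this]
    norm_num
  have hfloor : ∀ i, ∑ j, ⌊σ i j⌋ = (Fintype.card B : ℤ) - 3 := by
    intro i
    have h1 := Finset.sum_le_sum (s := Finset.univ) fun j _ => hfl i j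
    have h2 := hpos i
    rw [hfs i, Int.cast_pos] at h2
    rw [hcard] at h1
    omega
  refine ⟨fun i => ?_, fun i j => ?_⟩
  · rw [hfs i, hfloor i]
    norm_num
  · exact ((Finset.sum_eq_sum_iff_of_le (fun j _ => hfl i j)).1
      (hcard.trans (hfloor i).symm) j (Finset.mem_univ j)).symm

end Groth.Agent.S16983
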