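import Groth.Statements.S16984
import Groth.Agent.H66.Base
-- import your own Groth.Agent.* helpers here

set_option autoImplicit false
universe u v w
open Hoch

namespace Groth.Agent.S16984

open TensorProduct in
/-- Let k be a commutative ring, A a commutative k-bialgebra that is flat over k (the coordinate ring of
a flat affine group scheme over Spec k; flatness and commutativity are the standing hypotheses of
the appendix and are not needed for the assertion) and P a k-module. Then p ↦ p ⊗ 1 is an injection
of P into the induced comodule P ⊗ A (coaction id ⊗ Δ) whose image is exactly the submodule of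
invariants, i.e. the elements with coaction x ↦ x ⊗ 1. (The published statement writes the
coordinate-ring factor on the left and calls this module coinduced; this row is its degree-zero
part, the identification of P with the invariants of the coinduced module.) -/
theorem result (k : Type u) [CommRing k] (A : Type v) [CommRing A] [Bialgebra k A]
    [Module.Flat k A] (P : Type w) [AddCommGroup P] [Module k P] :
    Function.Injective ((Hoch.Ind.equiv k A P).toLinearMap ∘ₗ (TensorProduct.mk k P A).flip (1 : A)) ∧
    LinearMap.range ((Hoch.Ind.equiv k A P).toLinearMap ∘ₗ (TensorProduct.mk k P A).flip (1 : A)) =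
      HopfRep.fixedPts k A (Hoch.Ind k A P) := by
  have key : ∀ p : P, Hoch.Ind.counit k A P (Hoch.Ind.equiv k A P (p ⊗ₜ (1 : A))) = p := fun p => by simp
  refine ⟨fun p q h => ?_, le_antisymm ?_ fun x hx => ?_⟩
  · have := congrArg (Hoch.Ind.counit k A P) h
    simpa using this
  · rintro _ ⟨p, rfl⟩
    refine (Hoch.Ind.coact_equiv_tmul k A P p 1).trans ?_
    rw [Bialgebra.comul_one, Algebra.TensorProduct.one_def, TensorProduct.assoc_symm_tmul]
    rfl
  · refine ⟨Hoch.Ind.counit k A P x, ?_⟩
    have h3 := H66.Base.counit_rTensor_coact (k := k) (A := A) x
    rw [show HopfRep.Comod.coact (k := k) (A := A) x = x ⊗ₜ[k] (1 : A) from hx, LinearMap.rTensor_tmul] at h3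
    exact h3

end Groth.Agent.S16984
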