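import Groth.Statements.S16989
import Groth.Agent.Lib.QuadGrp99.Cliff.Global
-- import your own Groth.Agent.* helpers here

set_option autoImplicit false
universe u v
open QuadGrp

namespace Groth.Agent.S16989

open Groth.Agent.Lib.QuadGrp99.Cliff


/-- Over a commutative ring with connected prime spectrum, for a quadratic form Q on a finite free
module of even rank 2m ≥ 2 whose polar form is a perfect pairing, an isometry of Q which does not
satisfy the Dickson condition has determinant −1. (The published statement is the identity of
homomorphisms to μ₂ expressing the determinant on the orthogonal group as the composite of the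
Dickson invariant with the map from the constant group ℤ/2 sending 1 to −1. Over a disconnected base
an isometry may satisfy the Dickson condition on one component only, so connectedness of the base is
needed for this points-level form.) -/
theorem result {R : Type u} [CommRing R] (hc : ConnectedSpace (PrimeSpectrum R))
    {M : Type v} [AddCommGroup M] [Module R M] [Module.Free R M] [Module.Finite R M]
    (m : ℕ) (hm : 1 ≤ m) (hM : Module.finrank R M = 2 * m) (Q : QuadraticForm R M) (hQ : QuadGrp.IsRegular Q)
    (g : M ≃ₗ[R] M) (hg : g ∈ QuadGrp.O Q) (hD : ¬ QuadGrp.IsDicksonTrivial Q g hg) :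
    LinearEquiv.det g = -1 := by
  classical
  have hS : ∀ x : PrimeSpectrum R, ¬ TrivAt x.asIdeal g hg := by
    have h1 := trivAt_isOpen hQ m hM g hg True
    have h2 := trivAt_isOpen hQ m hM g hg False
    simp only [iff_true, iff_false] at h1 h2
    have hcl : IsClopen {x : PrimeSpectrum R | TrivAt x.asIdeal g hg} := ⟨⟨h2⟩, h1⟩
    rcases isClopen_iff.mp hcl with h | h
    · intro x hx; exact Set.eq_empty_iff_forall_notMem.mp h x hx
    · exact absurd (trivial_of_local g hg fun J hJ =>
        (Set.eq_univ_iff_forall.mp h ⟨J, hJ.isPrime⟩ : _)) hD
  refine Units.ext ?_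
  rw [LinearEquiv.coe_det, Units.val_neg, Units.val_one, ← sub_eq_zero]
  refine eq_zero_of_localization _ fun J hJ => ?_
  rcases dichotomy (regular_QA _ Q hQ) m (finrank_loc J m hM) _
      (baseChange_mem_O (Localization.AtPrime J) Q g hg) with ⟨-, h1⟩ | ⟨h1, -, -⟩
  · exact absurd h1 (hS ⟨J, hJ.isPrime⟩)
  · rw [map_sub, ← LinearMap.det_baseChange, map_neg, map_one]
    exact sub_eq_zero.mpr h1

end Groth.Agent.S16989
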