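import Groth.Statements.S1699
import Groth.Agent.Lib.MeroK.Basic

set_option autoImplicit false
universe u
open CategoryTheory CategoryTheory.Limits AlgebraicGeometry TopologicalSpace
open SDiv

namespace Groth.Agent.S1699

open Groth.Agent.Lib.Ideal.EffCartier Groth.Agent.Lib.AssPt.Basic Groth.Agent.Lib.MeroK.Basic


/-- (1) if and only if (3): let X be a locally Noetherian scheme and U an open subscheme. Then U is
scheme-theoretically dense in X if and only if U contains every associated point of X (every point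
whose local ring has its maximal ideal as an associated prime). -/
theorem result (X : Scheme.{u}) [IsLocallyNoetherian X] (U : X.Opens) :
    CInt.IsSchematicallyDense U ↔ ∀ x : ↥X, IsAssociatedPrime (IsLocalRing.maximalIdeal ↑(X.presheaf.stalk x)) ↑(X.presheaf.stalk x) → x ∈ U := by
  refine ⟨fun hU x hx => ?_, fun hU V => ?_⟩
  · by_contra hxU
    obtain ⟨-, g, hg⟩ := hx
    obtain ⟨W, hxW, t₀, rfl⟩ := X.presheaf.exists_germ_eq g
    obtain ⟨A, hA, hxA, hle⟩ := exists_isAffineOpen_mem_and_subset hxW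
    have hAW : A ≤ W := fun z hz => hle hz
    rw [← TopCat.Presheaf.germ_res_apply X.presheaf (homOfLE hAW) x hxA] at hg
    set t := X.presheaf.map (homOfLE hAW).op t₀ with ht
    haveI : IsNoetherianRing Γ(X, A) := IsLocallyNoetherian.component_noetherian ⟨A, hA⟩
    let algx := X.presheaf.algebra_section_stalk ⟨x, hxA⟩
    haveI := hA.isLocalization_stalk ⟨x, hxA⟩
    set p := (hA.primeIdealOf ⟨x, hxA⟩).asIdeal with hp
    obtain ⟨T, hT⟩ := IsNoetherian.noetherian p
    have hex : ∀ r ∈ T, ∃ u : p.primeCompl, ∃ n : ℕ, u.1 * (r ^ n * t) = 0 := by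
      intro r hr
      have hrp : r ∈ p := hT ▸ Submodule.subset_span hr
      have hrm : algebraMap Γ(X, A) (X.presheaf.stalk x) r ∈
          IsLocalRing.maximalIdeal (X.presheaf.stalk x) :=
        (IsLocalization.AtPrime.to_map_mem_maximal_iff (X.presheaf.stalk x) p r).mpr hrp
      rw [hg, Ideal.mem_radical_iff] at hrm
      obtain ⟨n, hn⟩ := hrm
      rw [Submodule.mem_colon_singleton, Submodule.mem_bot, smul_eq_mul, ← map_pow] at hn
      change _ * algebraMap Γ(X, A) (X.presheaf.stalk x) t = 0 at hn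
      rw [← map_mul] at hn
      obtain ⟨u, hu⟩ := (IsLocalization.map_eq_zero_iff p.primeCompl (X.presheaf.stalk x) _).mp hn
      exact ⟨u, n, hu⟩
    choose u n hu using hex
    let w : p.primeCompl := ∏ r ∈ T.attach, u r.1 r.2
    have hxB : x ∈ X.basicOpen w.1 := (mem_basicOpen_iff_notMem_prime hA hxA _).mpr w.2
    have hBA : X.basicOpen w.1 ≤ A := X.basicOpen_le _
    have h0 : X.presheaf.map (homOfLE hBA).op t = 0 := by
      refine hU _ ?_
      rw [map_zero]
      refine section_eq_zero_of_germs _ fun y hy => ?_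
      rw [TopCat.Presheaf.germ_res_apply, TopCat.Presheaf.germ_res_apply]
      have hyA : y ∈ A := hBA hy.1
      have hnp : ¬ p ≤ (hA.primeIdealOf ⟨y, hyA⟩).asIdeal := fun hle' =>
        hxU (((specializes_iff_primeIdealOf hA hyA hxA).mpr hle').mem_open U.isOpen hy.2)
      rw [← hT, Submodule.span_le, Set.not_subset] at hnp
      obtain ⟨r, hr, hry⟩ := hnp
      let algy := X.presheaf.algebra_section_stalk ⟨y, hyA⟩
      haveI := hA.isLocalization_stalk ⟨y, hyA⟩
      refine (IsLocalization.map_eq_zero_iff (hA.primeIdealOf ⟨y, hyA⟩).asIdeal.primeCompl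
        (X.presheaf.stalk y) t).mpr ⟨⟨(u r hr).1 * r ^ n r hr, ?_⟩, by
          rw [mul_assoc]; exact hu r hr⟩
      refine Submonoid.mul_mem _ ?_ (Submonoid.pow_mem _ hry _)
      obtain ⟨c, hc⟩ := Finset.dvd_prod_of_mem (fun r : {r // r ∈ T} => u r.1 r.2)
        (Finset.mem_attach T ⟨r, hr⟩)
      intro hmem
      refine (mem_basicOpen_iff_notMem_prime hA hyA _).mp hy.1 ?_
      change (∏ r ∈ T.attach, u r.1 r.2 : p.primeCompl).1 ∈ _
      rw [hc]
      exact Ideal.mul_mem_right _ _ hmem
    have hne : X.presheaf.germ A x hxA t ≠ 0 := by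
      intro hz
      refine (IsLocalRing.maximalIdeal.isMaximal (X.presheaf.stalk x)).ne_top ?_
      rw [hg, hz, Ideal.eq_top_iff_one, Ideal.mem_radical_iff]
      exact ⟨1, by simp [Submodule.mem_colon_singleton]⟩
    apply hne
    rw [← TopCat.Presheaf.germ_res_apply X.presheaf (homOfLE hBA) x hxB, h0, map_zero]
  · rw [injective_iff_map_eq_zero]
    intro r hr
    refine eq_zero_of_germ_eq_zero_maxAssoc r fun y hy hay => ?_
    rw [← TopCat.Presheaf.germ_res_apply X.presheaf (homOfLE (inf_le_left : V ⊓ U ≤ V)) y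
      ⟨hy, hU y hay⟩, hr, map_zero]

end Groth.Agent.S1699
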