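import Groth.Statements.S16990
import Groth.Agent.Lib.QuadGrp99.Cliff.Global
-- import your own Groth.Agent.* helpers here

set_option autoImplicit false
universe u v
open QuadGrp

namespace Groth.Agent.S16990

open Groth.Agent.Lib.QuadGrp99.Cliff


/-- Comparison with SO′: over a commutative ring in which 2 is invertible, for a quadratic form Q on a
finite free module of even rank 2m ≥ 2 whose polar form is a perfect pairing, the isometries
satisfying the Dickson condition are exactly the isometries of determinant one. -/
theorem result {R : Type u} [CommRing R] [Invertible (2 : R)]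
    {M : Type v} [AddCommGroup M] [Module R M] [Module.Free R M] [Module.Finite R M]
    (m : ℕ) (hm : 1 ≤ m) (hM : Module.finrank R M = 2 * m) (Q : QuadraticForm R M) (hQ : QuadGrp.IsRegular Q) :
    QuadGrp.SOeven Q = QuadGrp.SO' Q := by
  refine le_antisymm ?_ ?_
  · rintro g ⟨hg, ht⟩
    exact ⟨hg, Units.ext ((LinearEquiv.coe_det g).trans (det_eq_one_of_trivial hQ m hM g hg ht))⟩
  · rintro g ⟨hg, hd⟩
    have hd1 : LinearMap.det g.toLinearMap = 1 := (LinearEquiv.coe_det g).symm.trans (congrArg Units.val hd)
    refine ⟨hg, trivial_of_local g hg fun J hJ => ?_⟩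
    rcases dichotomy (regular_QA _ Q hQ) m (finrank_loc J m hM) _
        (baseChange_mem_O (Localization.AtPrime J) Q g hg) with ⟨-, h1⟩ | ⟨h1, -, -⟩
    · exact h1
    · exfalso
      have h2 : algebraMap R (Localization.AtPrime J) 1 = -1 := by
        rw [← hd1, ← LinearMap.det_baseChange]; exact h1
      rw [map_one] at h2
      have h3 : algebraMap R (Localization.AtPrime J) 2 = 0 := by rw [map_ofNat]; linear_combination h2
      exact not_isUnit_zero (h3 ▸ (isUnit_of_invertible (2 : R)).map (algebraMap R (Localization.AtPrime J)))

end Groth.Agent.S16990
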