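import Groth.Statements.S16991
import Groth.Agent.Lib.QuadGrp99.AltDet
import Mathlib.LinearAlgebra.Determinant
import Mathlib.Algebra.CharP.Two
-- import your own Groth.Agent.* helpers here

set_option autoImplicit false
universe u v
open QuadGrp

namespace Groth.Agent.S16991

/-- Over a commutative ring in which 2 = 0, for a quadratic form Q on a finite free module of even rank
2m ≥ 2 whose polar form is a perfect pairing, every isometry of Q has determinant one. (The
published statement is the equality of the naive special orthogonal group with the orthogonal group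
on fibres in characteristic 2; its proof gives this equality over every base of characteristic 2,
which is the form stated.) -/
theorem result {R : Type u} [CommRing R] [CharP R 2]
    {M : Type v} [AddCommGroup M] [Module R M] [Module.Free R M] [Module.Finite R M]
    (m : ℕ) (hm : 1 ≤ m) (hM : Module.finrank R M = 2 * m) (Q : QuadraticForm R M) (hQ : QuadGrp.IsRegular Q) :
    QuadGrp.O Q = QuadGrp.SO' Q := by
  classical
  refine le_antisymm (fun g hg => ⟨hg, ?_⟩) inf_le_left
  change LinearEquiv.det g = 1
  refine Units.ext ?_
  rw [LinearEquiv.coe_det, Units.val_one]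
  haveI : Nontrivial R := CharP.nontrivial_of_char_ne_one (v := 2) (R := R) (by norm_num)
  let b := Module.finBasisOfFinrankEq R M hM
  rw [← LinearMap.det_toMatrix b]
  set B := LinearMap.toMatrix₂ b b (QuadraticMap.polarBilin Q) with hB
  have hBij : ∀ i j, B i j = QuadraticMap.polar Q (b i) (b j) := fun i j => by
    rw [hB, LinearMap.toMatrix₂_apply]; rfl
  have h2 : (2 : R) = 0 := CharTwo.two_eq_zero
  refine Groth.Agent.Lib.QuadGrp99.AltDet.det_eq_one B _ ?_ ?_ ?_ ?_
  · ext i j
    rw [Matrix.transpose_apply, Matrix.neg_apply, hBij, hBij, QuadraticMap.polar_comm, CharTwo.neg_eq]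
  · intro i
    rw [hBij, QuadraticMap.polar_self, two_smul]
    exact CharTwo.add_self_eq_zero _
  · let φ : Fin (2 * m) → M → R := fun j => b.coord j
    choose y hy using fun j => hQ.2 (b.coord j)
    refine Matrix.isUnit_det_of_left_inverse (B := Matrix.of fun j i => b.repr (y j) i) ?_
    ext j k
    have := congrArg (fun f => f (b k)) (hy j)
    simp only [Module.Basis.coord_apply, Module.Basis.repr_self, Finsupp.single_apply] at this
    rw [Matrix.mul_apply, Matrix.one_apply]
    rw [← b.sum_repr (y j), map_sum, LinearMap.sum_apply] at this
    simp only [map_smul, LinearMap.smul_apply, smul_eq_mul, QuadraticMap.polarBilin_apply_apply] at this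
    simp only [Matrix.of_apply, hBij]
    rw [this]
    exact if_congr eq_comm rfl rfl
  · rw [hB, ← LinearMap.toMatrix₂_compl₁₂ b b b b]
    congr 1
    ext x y
    simp only [LinearMap.compl₁₂_apply, QuadraticMap.polarBilin_apply_apply, LinearEquiv.coe_coe,
      QuadraticMap.polar, ← map_add]
    rw [hg, hg, hg]

end Groth.Agent.S16991
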