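import Groth.Statements.S16995
import Groth.Agent.Lib.QuadGrp99.Cliff.Odd.Local
-- import your own Groth.Agent.* helpers here

set_option autoImplicit false
universe u v
open QuadGrp

namespace Groth.Agent.S16995

open Groth.Agent.Lib.QuadGrp99.Cliff Groth.Agent.Lib.QuadGrp99.Cliff.Odd


/-- Over a local ring, let Q be a quadratic form on a finite free module M with a basis indexed by Fin
(2m+1) whose half-discriminant in that basis is a unit. Then every isometry of Q of determinant one
is conjugation by a point of the even Clifford group: an even, locally homogeneous unit u of C(Q)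
normalising M with u v u⁻¹ = g v for all v in M. (The published statement is the Zariski-exact
sequence 1 → G_m → GSpin(q) → SO(q) → 1 of group schemes; over a local base its surjectivity is the
statement given.) -/
theorem result {R : Type u} [CommRing R] [IsLocalRing R]
    {M : Type v} [AddCommGroup M] [Module R M] [Module.Free R M] [Module.Finite R M]
    (m : ℕ) (b : Module.Basis (Fin (2 * m + 1)) R M) (Q : QuadraticForm R M)
    (hQ : QuadGrp.IsSemiregular b (LinearEquiv.refl R R) Q)
    (g : M ≃ₗ[R] M) (hg : g ∈ QuadGrp.SO' Q) :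
    ∃ u ∈ QuadGrp.GSpin Q, ∀ v : M,
      (u : CliffordAlgebra Q) * CliffordAlgebra.ι Q v * ↑u⁻¹ = CliffordAlgebra.ι Q (g v) := by
  obtain ⟨hgO, hd⟩ := hg
  obtain ⟨u, hu, hconj⟩ := exists_lift_SO b hQ g hgO ((LinearEquiv.coe_det g).symm.trans (congrArg Units.val hd))
  exact ⟨u, ⟨⟨mem_GPin'_of_conj g u hconj, ⟨1, IsIdempotentElem.one, by rw [one_smul]; exact hu,
    by rw [sub_self, zero_smul]; exact zero_mem _⟩⟩, hu⟩, hconj⟩

end Groth.Agent.S16995
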