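import Groth.Statements.S16996
import Groth.Agent.Lib.QuadGrp99.Cliff.Odd.Local
-- import your own Groth.Agent.* helpers here

set_option autoImplicit false
universe u v
open QuadGrp

namespace Groth.Agent.S16996

open Groth.Agent.Lib.QuadGrp99.Cliff Groth.Agent.Lib.QuadGrp99.Cliff.Odd


/-- Points over a local ring: over a local ring, let Q be a quadratic form on a finite free module M
with a basis indexed by Fin (2m+1) whose half-discriminant in that basis is a unit. Then every unit
of the Clifford algebra C(Q) normalising M is the product of a central unit of C(Q) and a point of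
the even Clifford group (an even, locally homogeneous unit normalising M). (The published statement
is the equality GPin′(q) = Z_q^× ×^{G_m} GSpin(q) of group schemes, a Zariski-local product
decomposition; over a local base it is the factorisation given.) -/
theorem result {R : Type u} [CommRing R] [IsLocalRing R]
    {M : Type v} [AddCommGroup M] [Module R M] [Module.Free R M] [Module.Finite R M]
    (m : ℕ) (b : Module.Basis (Fin (2 * m + 1)) R M) (Q : QuadraticForm R M)
    (hQ : QuadGrp.IsSemiregular b (LinearEquiv.refl R R) Q)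
    (u' : (CliffordAlgebra Q)ˣ) (hu' : u' ∈ QuadGrp.GPin' Q) :
    ∃ z : CliffordAlgebra Q, z ∈ Subalgebra.center R (CliffordAlgebra Q) ∧ IsUnit z ∧
      ∃ u ∈ QuadGrp.GSpin Q, (u' : CliffordAlgebra Q) = z * u := by
  obtain ⟨g, hg, hconj⟩ := exists_iso_of_GPin' u' hu'
  obtain ⟨u, hu, hconj'⟩ := exists_lift_SO b hQ g hg (det_conj b hQ g hg u' fun v => (conj_iff u' v).mp (hconj v))
  have hz : ∀ v, CliffordAlgebra.ι Q v * ((u' : CliffordAlgebra Q) * ↑u⁻¹) =
      (u' : CliffordAlgebra Q) * ↑u⁻¹ * CliffordAlgebra.ι Q v := fun v => by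
    have h1 : (↑u⁻¹ : CliffordAlgebra Q) * CliffordAlgebra.ι Q v =
        CliffordAlgebra.ι Q (g.symm v) * ↑u⁻¹ := by
      refine u.isUnit.mul_left_cancel ?_
      rw [← mul_assoc, Units.mul_inv, one_mul, ← mul_assoc, hconj', g.apply_symm_apply]
    rw [mul_assoc, h1, ← mul_assoc, ← mul_assoc, (conj_iff u' (g.symm v)).mp (hconj _), g.apply_symm_apply]
  exact ⟨_, Subalgebra.mem_center_iff.mpr fun y => commute_all _ hz y, u'.isUnit.mul (u⁻¹).isUnit, u,
    ⟨⟨mem_GPin'_of_conj g u hconj', ⟨1, IsIdempotentElem.one, by rw [one_smul]; exact hu,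
      by rw [sub_self, zero_smul]; exact zero_mem _⟩⟩, hu⟩, by rw [mul_assoc, Units.inv_mul, mul_one]⟩

end Groth.Agent.S16996
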