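import Groth.Statements.S16997
import Groth.Agent.Lib.QuadGrp99.Cliff.Odd.Local
-- import your own Groth.Agent.* helpers here

set_option autoImplicit false
universe u v
open QuadGrp

namespace Groth.Agent.S16997

open Groth.Agent.Lib.QuadGrp99.Cliff Groth.Agent.Lib.QuadGrp99.Cliff.Odd


/-- Over a commutative ring in which 2 is invertible, let Q be a quadratic form on a finite free module
with a basis indexed by Fin (2m+1), m odd (rank congruent to 3 mod 4), whose half-discriminant in
that basis is a unit. Then every unit of the Clifford algebra normalising the module and of Clifford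
norm one is locally homogeneous: the Pin group equals the naive Pin group. (The published statement
adds the converse: for rank 1 mod 4, or when 2 is not a unit on the base, the two group schemes
differ.) -/
theorem result {R : Type u} [CommRing R] [Invertible (2 : R)]
    {M : Type v} [AddCommGroup M] [Module R M] [Module.Free R M] [Module.Finite R M]
    (m : ℕ) (hm : Odd m) (b : Module.Basis (Fin (2 * m + 1)) R M) (Q : QuadraticForm R M)
    (hQ : QuadGrp.IsSemiregular b (LinearEquiv.refl R R) Q) :
    QuadGrp.Pin Q = QuadGrp.Pin' Q := by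
  refine le_antisymm (fun u hu => ⟨hu.1.1, hu.2⟩) fun u hu => ⟨⟨hu.1, ?_⟩, hu.2⟩
  obtain ⟨hu1, hu2⟩ := hu
  obtain ⟨g, -, hconj⟩ := exists_iso_of_GPin' u hu1
  change star (u : CliffordAlgebra Q) * u = 1 at hu2
  set u0 := P0 Q (u : CliffordAlgebra Q) with hu0
  set u1 := (u : CliffordAlgebra Q) - u0 with hu1'
  have hp0 := P0_mem Q (u : CliffordAlgebra Q)
  have hp1 := sub_P0_mem Q (u : CliffordAlgebra Q)
  have hinv : (↑u⁻¹ : CliffordAlgebra Q) = star (u : CliffordAlgebra Q) := Units.inv_eq_of_mul_eq_one_left hu2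
  -- `u⁻¹ u₀` is central
  have hx : ∀ v, CliffordAlgebra.ι Q v * ((↑u⁻¹ : CliffordAlgebra Q) * u0) =
      (↑u⁻¹ : CliffordAlgebra Q) * u0 * CliffordAlgebra.ι Q v := fun v => by
    have hv' := (conj_iff u v).mp (hconj v)
    have h0 : u0 * CliffordAlgebra.ι Q v = CliffordAlgebra.ι Q (g v) * u0 :=
      sub_eq_zero.mp (parity_zero Q (b := u1 * CliffordAlgebra.ι Q v - CliffordAlgebra.ι Q (g v) * u1)
        (sub_mem (mul_mem_even_odd Q (by decide) hp0 (CliffordAlgebra.ι_mem_evenOdd_one Q _))
          (mul_mem_even_odd Q (by decide) (CliffordAlgebra.ι_mem_evenOdd_one Q _) hp0))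
        (sub_mem (mul_mem_even_odd Q (by decide) hp1 (CliffordAlgebra.ι_mem_evenOdd_one Q _))
          (mul_mem_even_odd Q (by decide) (CliffordAlgebra.ι_mem_evenOdd_one Q _) hp1))
        (by rw [hu1', sub_mul, mul_sub, hv']; abel))
    refine u.isUnit.mul_left_cancel ?_
    simp only [← mul_assoc, u.mul_inv, one_mul, hv', mul_assoc _ (u : CliffordAlgebra Q) (↑u⁻¹ : CliffordAlgebra Q),
      mul_one]
    exact h0.symm
  have hsplit : (↑u⁻¹ : CliffordAlgebra Q) * u0 = star u0 * u0 + star u1 * u0 := by
    rw [hinv, ← add_mul, ← star_add, hu1', add_sub_cancel]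
  have he : star u0 * u0 ∈ CliffordAlgebra.evenOdd Q 0 :=
    mul_mem_even_odd Q (by decide) (star_mem_evenOdd 0 _ hp0) hp0
  have ho : star u1 * u0 ∈ CliffordAlgebra.evenOdd Q 1 :=
    mul_mem_even_odd Q (by decide) (star_mem_evenOdd 1 _ hp1) hp0
  have hcomp : P0 Q ((↑u⁻¹ : CliffordAlgebra Q) * u0) = star u0 * u0 := by
    rw [hsplit, map_add, P0_even Q he, P0_odd Q ho, add_zero]
  obtain ⟨c0, c1⟩ := center_components Q _ hx
  rw [hcomp] at c0 c1
  have hx1 : ∀ v, CliffordAlgebra.ι Q v * (star u1 * u0) = star u1 * u0 * CliffordAlgebra.ι Q v := fun v => by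
    have := c1 v
    rwa [hsplit, add_sub_cancel_left] at this
  -- the odd part vanishes
  have hsum : star u1 * u0 + star u0 * u1 = 0 := by
    refine Submodule.disjoint_def.mp (CliffordAlgebra.evenOdd_isCompl Q).disjoint _ ?_
      (add_mem ho (mul_mem_even_odd Q (by decide) (star_mem_evenOdd 0 _ hp0) hp1))
    have h1 : star u0 * u0 + star u1 * u1 ∈ CliffordAlgebra.evenOdd Q 0 :=
      add_mem he (mul_mem_even_odd Q (by decide) (star_mem_evenOdd 1 _ hp1) hp1)
    have e : star u1 * u0 + star u0 * u1 = 1 - (star u0 * u0 + star u1 * u1) := by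
      rw [← hu2, show (u : CliffordAlgebra Q) = u0 + u1 by rw [hu1', add_sub_cancel], star_add, add_mul, mul_add,
        mul_add]
      abel
    rw [e]
    exact sub_mem (SetLike.one_mem_graded _) h1
  have hzero : star u1 * u0 = 0 := by
    have h1 : star (star u1 * u0) = star u1 * u0 := by
      rw [star_odd_central b hQ _ ho hx1, (Odd.add_one hm).neg_one_pow, one_smul]
    rw [star_mul, star_star] at h1
    rw [h1] at hsum
    have h2 : (⅟2 : R) • ((2 : R) • (star u1 * u0)) = 0 := by rw [two_smul, hsum, smul_zero]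
    rwa [smul_smul, invOf_mul_self, one_smul] at h2
  rw [hzero, add_zero] at hsplit
  obtain ⟨c, hc⟩ := even_scalar b hQ _ he c0
  have hcu : c • (u : CliffordAlgebra Q) = u0 := by
    rw [Algebra.smul_def, Algebra.commutes, hc, ← hsplit, ← mul_assoc, u.mul_inv, one_mul]
  have hcc : c * c = c := by
    have h1 : c • u0 = u0 := by
      rw [hu0, ← map_smul, hcu]; exact P0_even Q hp0
    rw [← hcu, smul_smul, Algebra.smul_def, Algebra.smul_def] at h1
    exact algebraMap_injective (u.isUnit.mul_left_inj.mp h1)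
  exact ⟨c, hcc, by rw [hcu]; exact hp0, by rw [sub_smul, one_smul, hcu]; exact hp1⟩

end Groth.Agent.S16997
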