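import Groth.Statements.S16999
import Groth.Agent.Lib.QuadGrp99.Cliff.Odd.Local
-- import your own Groth.Agent.* helpers here

set_option autoImplicit false
universe u v
open QuadGrp

namespace Groth.Agent.S16999

open Groth.Agent.Lib.QuadGrp99.Cliff Groth.Agent.Lib.QuadGrp99.Cliff.Odd


/-- Centre over a local base: over a local ring R, let Q be a quadratic form on a free module M with a
basis indexed by Fin (2m+1) whose half-discriminant in that basis is a unit. Then the centre of the
Clifford algebra C(Q) is generated by the square root of a unit: there is a central unit z, odd for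
the ℤ/2-grading, with z² a scalar, such that 1, z are linearly independent and span the centre. (The
published statement: the centre is a ℤ/2-graded locally free module of rank 2 with degree-0 part the
structure sheaf and degree-1 part an invertible sheaf squaring to it; over a local base this is the
form stated.) -/
theorem result {R : Type u} [CommRing R] [IsLocalRing R]
    {M : Type v} [AddCommGroup M] [Module R M]
    (m : ℕ) (b : Module.Basis (Fin (2 * m + 1)) R M) (Q : QuadraticForm R M)
    (hQ : QuadGrp.IsSemiregular b (LinearEquiv.refl R R) Q) :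
    ∃ z : CliffordAlgebra Q, z ∈ Subalgebra.center R (CliffordAlgebra Q) ∧ z ∈ CliffordAlgebra.evenOdd Q 1 ∧ IsUnit z ∧
      z * z ∈ (algebraMap R (CliffordAlgebra Q)).range ∧ LinearIndependent R ![(1 : CliffordAlgebra Q), z] ∧
      Subalgebra.toSubmodule (Subalgebra.center R (CliffordAlgebra Q)) = Submodule.span R {1, z} := by
  obtain ⟨_, _⟩ := free_finite b
  obtain ⟨z, h1, h2, h3, ⟨d, hd⟩, hall⟩ := center_local b hQ
  have hzc : z ∈ Subalgebra.center R (CliffordAlgebra Q) := (Subalgebra.mem_center_iff (R := R)).mpr fun y => commute_all _ h2 y
  refine ⟨z, hzc, h1, h3, ⟨d, hd.symm⟩, ?_, ?_⟩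
  · rw [LinearIndependent.pair_iff]
    intro s t hst
    have h0 : t • z = 0 := parity_zero Q (Submodule.smul_mem _ t h1)
      (Submodule.smul_mem _ s (SetLike.one_mem_graded _)) (by rw [add_comm]; exact hst)
    rw [h0, add_zero, ← Algebra.algebraMap_eq_smul_one] at hst
    refine ⟨algebraMap_injective (hst.trans (map_zero _).symm), algebraMap_injective (Q := Q) ?_⟩
    rw [map_zero]
    rw [Algebra.smul_def] at h0
    exact h3.mul_left_eq_zero.mp h0
  · refine le_antisymm (fun x hx => ?_) ?_
    · obtain ⟨a, r, rfl⟩ := hall x fun v => (Subalgebra.mem_center_iff (R := R)).mp hx _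
      exact add_mem (Submodule.smul_mem _ _ (Submodule.subset_span (by simp)))
        (Submodule.smul_mem _ _ (Submodule.subset_span (by simp)))
    · rw [Submodule.span_le]
      rintro _ (rfl | rfl)
      · exact Subalgebra.one_mem _
      · exact hzc

end Groth.Agent.S16999
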