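import Groth.Statements.S1700
import Groth.Agent.H4.CartierUFD
-- import your own Groth.Agent.* helpers here

set_option autoImplicit false
universe u
open CategoryTheory CategoryTheory.Limits AlgebraicGeometry TopologicalSpace
open SDiv

namespace Groth.Agent.S1700

/-- Let X be a Noetherian scheme and 𝓘 a quasi-coherent ideal sheaf with closed subscheme Z such that
(1) Z has no embedded points: every point of Z whose local ring has its maximal ideal associated is
a maximal point of Z; (2) every maximal point of Z has codimension 1 in X (the local ring of X there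
has dimension 1); (3) the local ring of X at every point of Z is a unique factorisation domain. Then
𝓘 is the ideal sheaf of an effective Cartier divisor. -/
theorem result (X : Scheme.{u}) [IsNoetherian X] (𝓘 : X.IdealSheafData)
    (h1 : ∀ z : ↥𝓘.subscheme, IsAssociatedPrime (IsLocalRing.maximalIdeal ↑(𝓘.subscheme.presheaf.stalk z)) ↑(𝓘.subscheme.presheaf.stalk z) → ∀ z' : ↥𝓘.subscheme, z' ⤳ z → z' = z)
    (h2 : ∀ z : ↥𝓘.subscheme, (∀ z' : ↥𝓘.subscheme, z' ⤳ z → z' = z) →
      ringKrullDim (X.presheaf.stalk (𝓘.subschemeι z)) = 1)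
    (h3 : ∀ x : ↥X, x ∈ 𝓘.support → IsDomain (X.presheaf.stalk x) ∧ UniqueFactorizationMonoid (X.presheaf.stalk x)) :
    BlowUp.IsEffCartierIdeal 𝓘 := by
  refine H4.CartierUFD.isEffCartier_of_assoc 𝓘 (fun y hy ha => ?_) h3
  obtain ⟨a, ha, hm⟩ := ha
  have hy' : y ∈ Set.range 𝓘.subschemeι := by rw [𝓘.range_subschemeι]; exact hy
  obtain ⟨z, rfl⟩ := hy'
  have hker := H4.CartierUFD.ker_stalkMap_subschemeι 𝓘 z
  refine h2 z (h1 z ?_)
  rw [← hker, RingHom.mem_ker] at ha
  have hann : IsLocalRing.maximalIdeal ↑(𝓘.subscheme.presheaf.stalk z) =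
      (⊥ : Submodule ↑(𝓘.subscheme.presheaf.stalk z) ↑(𝓘.subscheme.presheaf.stalk z)).colon
        {(𝓘.subschemeι.stalkMap z).hom a} := by
    refine le_antisymm (fun r hr => ?_) (IsLocalRing.le_maximalIdeal fun htop => ha ?_)
    · obtain ⟨r, rfl⟩ := 𝓘.subschemeι.stalkMap_surjective z r
      have hr' : r ∈ IsLocalRing.maximalIdeal (X.presheaf.stalk (𝓘.subschemeι z)) :=
        (IsLocalRing.mem_maximalIdeal r).mpr fun hu =>
          (IsLocalRing.mem_maximalIdeal _).mp hr (hu.map (𝓘.subschemeι.stalkMap z).hom)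
      have h := hm r hr'
      rw [← hker, RingHom.mem_ker, map_mul] at h
      rw [Submodule.mem_colon_singleton, Submodule.mem_bot]
      exact h
    · have h1' := (Ideal.eq_top_iff_one _).mp htop
      rw [Submodule.mem_colon_singleton, Submodule.mem_bot, one_smul] at h1'
      exact h1'
  refine ⟨inferInstance, (𝓘.subschemeι.stalkMap z).hom a, ?_⟩
  rw [← hann, (IsLocalRing.maximalIdeal.isMaximal _).isPrime.radical]

end Groth.Agent.S1700
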