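import Groth.Statements.S17007
import Groth.Agent.Lib.QuadGrp99.Cliff.Global
-- import your own Groth.Agent.* helpers here

set_option autoImplicit false
universe u v
open QuadGrp

namespace Groth.Agent.S17007

open Groth.Agent.Lib.QuadGrp99.Cliff


/-- Over a local ring, for a quadratic form Q on a finite free module of even rank 2m ≥ 2 whose polar
form is a perfect pairing, the isometries satisfying the Dickson condition form a subgroup of index
2 in the group of all isometries. (Points-level form, over a local base, of: the Dickson invariant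
from the orthogonal group onto the constant group ℤ/2 is surjective with kernel the special
orthogonal group.) -/
theorem result {R : Type u} [CommRing R] [IsLocalRing R]
    {M : Type v} [AddCommGroup M] [Module R M] [Module.Free R M] [Module.Finite R M]
    (m : ℕ) (hm : 1 ≤ m) (hM : Module.finrank R M = 2 * m) (Q : QuadraticForm R M) (hQ : QuadGrp.IsRegular Q) :
    ((QuadGrp.SOeven Q).subgroupOf (QuadGrp.O Q)).index = 2 := by
  obtain ⟨z, hz⟩ := exists_split_local hQ m hM
  -- a vector of invertible length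
  obtain ⟨a, ha⟩ : ∃ a, IsUnit (Q a) := by
    by_contra hne
    push Not at hne
    have hm0 : ∀ v, Q v ∈ IsLocalRing.maximalIdeal R := fun v => (IsLocalRing.mem_maximalIdeal _).mpr (hne v)
    let b := Module.finBasisOfFinrankEq R M hM
    obtain ⟨y, hy⟩ := hQ.2 (b.coord ⟨0, by omega⟩)
    have h1 : QuadraticMap.polar Q y (b ⟨0, by omega⟩) = 1 := by
      rw [← QuadraticMap.polarBilin_apply_apply, hy]; simp
    exact (IsLocalRing.maximalIdeal.isMaximal R).ne_top ((Ideal.eq_top_iff_one _).mpr
      (h1 ▸ sub_mem (sub_mem (hm0 _) (hm0 _)) (hm0 _)))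
  obtain ⟨c, hc⟩ := ha
  let s := refl a c hc.symm
  have hs : s ∈ QuadGrp.O Q := refl_mem a c hc.symm
  have hsz : CliffordAlgebra.map (QuadGrp.isometryOfMem Q s hs) z = 1 - z :=
    (lifted_refl a c hc.symm).map_split_odd odd_one hs hz
  rw [Subgroup.index_eq_two_iff]
  refine ⟨⟨s, hs⟩, fun g => ?_⟩
  obtain ⟨g, hg⟩ := g
  have hiff : ∀ (g : M ≃ₗ[R] M) (hg : g ∈ QuadGrp.O Q),
      g ∈ QuadGrp.SOeven Q ↔ CliffordAlgebra.map (QuadGrp.isometryOfMem Q g hg) z = z := fun g hg =>
    ⟨fun ⟨_, ht⟩ => (trivial_iff_fix hQ m hM g hg hz).mp ht, fun h => ⟨hg, (trivial_iff_fix hQ m hM g hg hz).mpr h⟩⟩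
  have hgs : g * s ∈ QuadGrp.O Q := (QuadGrp.O Q).mul_mem hg hs
  have hmap : CliffordAlgebra.map (QuadGrp.isometryOfMem Q (g * s) hgs) z =
      1 - CliffordAlgebra.map (QuadGrp.isometryOfMem Q g hg) z := by
    have e : QuadGrp.isometryOfMem Q (g * s) hgs =
        (QuadGrp.isometryOfMem Q g hg).comp (QuadGrp.isometryOfMem Q s hs) := by
      ext v; rfl
    rw [e, ← CliffordAlgebra.map_comp_map, AlgHom.comp_apply, hsz, map_sub, map_one]
  have key : CliffordAlgebra.map (QuadGrp.isometryOfMem Q g hg) z = z ∨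
      CliffordAlgebra.map (QuadGrp.isometryOfMem Q g hg) z = 1 - z := by
    rcases dichotomy hQ m hM g hg with ⟨-, h⟩ | ⟨-, -, h⟩
    · exact Or.inl ((trivial_iff_fix hQ m hM g hg hz).mp h)
    · exact Or.inr (h z hz)
  simp only [Subgroup.mem_subgroupOf, Subgroup.coe_mul, hiff g hg, hiff (g * s) hgs, hmap]
  rcases key with h | h
  · rw [h]; exact Or.inr ⟨rfl, hz.one_sub_ne⟩
  · rw [h, sub_sub_cancel]; exact Or.inl ⟨rfl, hz.one_sub_ne⟩

end Groth.Agent.S17007
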