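import Groth.Statements.S17009
import Groth.Agent.Lib.QuadGrp99.Cliff.Global
-- import your own Groth.Agent.* helpers here

set_option autoImplicit false
universe u v
open QuadGrp

namespace Groth.Agent.S17009

open Groth.Agent.Lib.QuadGrp99.Cliff


/-- For a quadratic form Q on a finite free module M of even rank 2m ≥ 2 over a commutative ring whose
polar form is a perfect pairing, every unit of the Clifford algebra normalising M is locally
homogeneous for the ℤ/2-grading (some idempotent e of the base has e u even and (1 − e) u odd), so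
the naive Clifford group is contained in, hence equal to, the Clifford group of locally homogeneous
normalising units. (False for degenerate forms: for the zero form on a rank-two module over the
field with two elements, 1 + v normalises the module and is not locally homogeneous.) -/
theorem result {R : Type u} [CommRing R] {M : Type v} [AddCommGroup M] [Module R M] [Module.Free R M] [Module.Finite R M]
    (m : ℕ) (hm : 1 ≤ m) (hM : Module.finrank R M = 2 * m) (Q : QuadraticForm R M) (hQ : QuadGrp.IsRegular Q) :
    QuadGrp.GPin' Q ≤ QuadGrp.LH Q := by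
  intro u hu
  rw [QuadGrp.mem_GPin'] at hu
  have hconj : ∀ v, ∃ v', (u : CliffordAlgebra Q) * CliffordAlgebra.ι Q v = CliffordAlgebra.ι Q v' * u := fun v => by
    have h : ConjAct.toConjAct u • CliffordAlgebra.ι Q v ∈ LinearMap.range (CliffordAlgebra.ι Q) := by
      rw [← hu]; exact ⟨_, ⟨v, rfl⟩, rfl⟩
    obtain ⟨v', hv'⟩ := h
    refine ⟨v', ?_⟩
    rw [hv', ConjAct.units_smul_def, ConjAct.ofConjAct_toConjAct, mul_assoc, Units.inv_mul, mul_one]
  set u0 := P0 Q (u : CliffordAlgebra Q) with hu0
  have hx : ∀ v, CliffordAlgebra.ι Q v * ((↑u⁻¹ : CliffordAlgebra Q) * u0) =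
      (↑u⁻¹ : CliffordAlgebra Q) * u0 * CliffordAlgebra.ι Q v := fun v => by
    obtain ⟨v', hv'⟩ := hconj v
    have h0 : u0 * CliffordAlgebra.ι Q v = CliffordAlgebra.ι Q v' * u0 :=
      sub_eq_zero.mp (parity_zero Q (a := u0 * CliffordAlgebra.ι Q v - CliffordAlgebra.ι Q v' * u0)
        (b := ((u : CliffordAlgebra Q) - u0) * CliffordAlgebra.ι Q v -
          CliffordAlgebra.ι Q v' * ((u : CliffordAlgebra Q) - u0))
        (sub_mem (mul_mem_even_odd Q (by decide) (P0_mem Q _) (CliffordAlgebra.ι_mem_evenOdd_one Q _))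
          (mul_mem_even_odd Q (by decide) (CliffordAlgebra.ι_mem_evenOdd_one Q _) (P0_mem Q _)))
        (sub_mem (mul_mem_even_odd Q (by decide) (sub_P0_mem Q _) (CliffordAlgebra.ι_mem_evenOdd_one Q _))
          (mul_mem_even_odd Q (by decide) (CliffordAlgebra.ι_mem_evenOdd_one Q _) (sub_P0_mem Q _)))
        (by rw [sub_mul, mul_sub, hv']; abel))
    refine u.isUnit.mul_left_cancel ?_
    simp only [← mul_assoc, u.mul_inv, one_mul, hv', mul_assoc _ (u : CliffordAlgebra Q) (↑u⁻¹ : CliffordAlgebra Q),
      mul_one]
    exact h0.symm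
  obtain ⟨c, hc⟩ := center_eq_scalar hQ m hM _ hx
  have hcu : c • (u : CliffordAlgebra Q) = u0 := by
    rw [Algebra.smul_def, Algebra.commutes, hc, ← mul_assoc, u.mul_inv, one_mul]
  have hcc : c * c = c := by
    have h1 : c • u0 = u0 := by
      rw [hu0, ← map_smul, hcu]; exact P0_even Q (P0_mem Q _)
    rw [← hcu, smul_smul, Algebra.smul_def, Algebra.smul_def] at h1
    exact algebraMap_injective (u.isUnit.mul_left_inj.mp h1)
  exact ⟨c, hcc, by rw [hcu]; exact P0_mem Q _, by rw [sub_smul, one_smul, hcu]; exact sub_P0_mem Q _⟩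

end Groth.Agent.S17009
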