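import Groth.Statements.S1701
import Groth.Agent.H4.CartierUFD
import Groth.Agent.H4.FlatCartier
-- import your own Groth.Agent.* helpers here

set_option autoImplicit false
universe u
open CategoryTheory CategoryTheory.Limits AlgebraicGeometry TopologicalSpace
open SDiv

namespace Groth.Agent.S1701

/-- Let f : X ⟶ S be a morphism, 𝓘 the ideal sheaf of an effective Cartier divisor D ⊂ X such that D ⟶ S
is flat (a relative effective Cartier divisor), and x a point of D at which the local ring of X is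
Noetherian. Then f is flat at x. -/
theorem result {X S : Scheme.{u}} (f : X ⟶ S) (𝓘 : X.IdealSheafData)
    (hD : (BlowUp.IsEffCartierIdeal 𝓘 ∧ Flat (𝓘.subschemeι ≫ f))) (d : ↥𝓘.subscheme) [IsNoetherianRing (X.presheaf.stalk (𝓘.subschemeι d))] :
    (f.stalkMap (𝓘.subschemeι d)).hom.Flat := by
  obtain ⟨hC, hfl⟩ := hD
  haveI := hfl
  have hs := (Flat.iff_flat_stalkMap _).mp hfl d
  have hs' : ((𝓘.subschemeι.stalkMap d).hom.comp (f.stalkMap (𝓘.subschemeι d)).hom).Flat := by
    rw [Scheme.Hom.stalkMap_comp] at hs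
    exact hs
  obtain ⟨U, hxU, g, hg, hgI⟩ := hC (𝓘.subschemeι d)
  set x := 𝓘.subschemeι d with hx
  let g' := X.presheaf.germ U.1 x hxU g
  have hker : RingHom.ker (𝓘.subschemeι.stalkMap d).hom = Ideal.span {g'} := by
    rw [H4.CartierUFD.ker_stalkMap_subschemeι, Lib.Ideal.Prime.stalkIdeal_eq 𝓘 U hxU, hgI,
      Ideal.map_span, Set.image_singleton]
  have hg' : g' ∈ nonZeroDivisors (X.presheaf.stalk x) :=
    Lib.Ideal.EffCartier.germ_mem_nonZeroDivisors U.2 hg x hxU
  have hgm : g' ∈ IsLocalRing.maximalIdeal (X.presheaf.stalk x) :=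
    IsLocalRing.le_maximalIdeal (J := RingHom.ker (𝓘.subschemeι.stalkMap d).hom) (RingHom.ker_ne_top _)
      (hker.ge (Ideal.mem_span_singleton_self g'))
  letI : Algebra (S.presheaf.stalk (f x)) (X.presheaf.stalk x) := (f.stalkMap x).hom.toAlgebra
  haveI : Module.Flat (S.presheaf.stalk (f x)) (X.presheaf.stalk x ⧸ Ideal.span {g'}) := by
    let e : X.presheaf.stalk x ⧸ Ideal.span {g'} ≃+* 𝓘.subscheme.presheaf.stalk d :=
      (Ideal.quotEquivOfEq hker.symm).trans
        (RingHom.quotientKerEquivOfSurjective (𝓘.subschemeι.stalkMap_surjective d))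
    have h2 := hs'.comp (RingHom.Flat.of_bijective (f := e.symm.toRingHom) e.symm.bijective)
    suffices h3 : (algebraMap (S.presheaf.stalk (f x)) (X.presheaf.stalk x ⧸ Ideal.span {g'})).Flat from h3
    convert h2 using 1
    ext r
    exact (e.symm_apply_apply (Ideal.Quotient.mk _ ((f.stalkMap x).hom r))).symm
  exact H4.FlatCartier.flat_of_flat_quotient_span g' hgm hg'

end Groth.Agent.S1701
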