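import Groth.Statements.S17016
import Mathlib.Tactic
-- import your own Groth.Agent.* helpers here

set_option autoImplicit false
universe u
open QuadGrp

namespace Groth.Agent.S17016




variable {R : Type u} [CommRing R] {m : ℕ}

theorem splitForm_apply (x : Fin (m * 2) → R) :
    QuadGrp.splitForm R (m * 2) x = ∑ i : Fin m, x (finProdFinEquiv (i, 0)) * x (finProdFinEquiv (i, 1)) := by
  rw [QuadGrp.splitForm, dif_neg (by omega), add_zero, QuadraticMap.sum_apply]
  refine Fintype.sum_equiv (finCongr (by omega)) _ _ fun i => ?_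
  simp only [QuadraticMap.linMulLin_apply, LinearMap.proj_apply]
  congr 2 <;> (apply Fin.ext; simp) <;> omega

theorem split_single (j : Fin (m * 2)) : QuadGrp.splitForm R (m * 2) (Pi.single j 1) = 0 := by
  rw [splitForm_apply]
  refine Finset.sum_eq_zero fun i _ => ?_
  rcases eq_or_ne j (finProdFinEquiv (i, 0)) with h | h
  · subst h
    rw [Pi.single_eq_of_ne (show finProdFinEquiv (i, 1) ≠ finProdFinEquiv (i, 0) by simp), mul_zero]
  · rw [Pi.single_eq_of_ne (Ne.symm h), zero_mul]

theorem polar_single (a b : Fin m × Fin 2) :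
    QuadraticMap.polar (QuadGrp.splitForm R (m * 2)) (Pi.single (finProdFinEquiv a) 1) (Pi.single (finProdFinEquiv b) 1) =
      if a.1 = b.1 ∧ a.2 ≠ b.2 then 1 else 0 := by
  simp only [QuadraticMap.polar, split_single, sub_zero, splitForm_apply, Pi.add_apply, Pi.single_apply,
    EmbeddingLike.apply_eq_iff_eq]
  obtain ⟨i, k⟩ := a
  obtain ⟨j, l⟩ := b
  rw [Finset.sum_eq_single i]
  · fin_cases k <;> fin_cases l <;> by_cases h : i = j <;> simp [h, eq_comm]
  · intro p _ hp
    fin_cases k <;> fin_cases l <;> simp [hp]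
  · simp

theorem prod_move {A : Type*} [Ring A] {ι' : Type*} (f : ι' → A) (x : A) (i0 : ι')
    (hc : ∀ i, i ≠ i0 → x * f i = f i * x) (ha : x * f i0 = -(f i0 * x)) :
    ∀ l : List ι', l.Nodup → (i0 ∉ l → x * (l.map f).prod = (l.map f).prod * x) ∧
      (i0 ∈ l → x * (l.map f).prod = -((l.map f).prod * x))
  | [], _ => by simp
  | b :: l, hl => by
    obtain ⟨hb, hl'⟩ := List.nodup_cons.mp hl
    obtain ⟨h1, h2⟩ := prod_move f x i0 hc ha l hl'
    refine ⟨fun hn => ?_, fun hm => ?_⟩
    · rw [List.mem_cons, not_or] at hn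
      rw [List.map_cons, List.prod_cons, ← mul_assoc, hc b (Ne.symm hn.1), mul_assoc, h1 hn.2, mul_assoc]
    · rw [List.map_cons, List.prod_cons, ← mul_assoc]
      by_cases hbi : b = i0
      · subst hbi
        rw [ha, neg_mul, mul_assoc, h1 hb, mul_assoc]
      · rw [hc b hbi, mul_assoc, h2 ((List.mem_cons.mp hm).resolve_left (Ne.symm hbi)), mul_neg, mul_assoc]

theorem prod_sq {A : Type*} [Ring A] {ι' : Type*} (f : ι' → A) (hc : ∀ i j, Commute (f i) (f j))
    (h1 : ∀ i, f i * f i = 1) : ∀ l : List ι', (l.map f).prod * (l.map f).prod = 1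
  | [] => by simp
  | b :: l => by
    have hP : Commute (f b) (l.map f).prod := Commute.list_prod_right _ _ fun y hy => by
      obtain ⟨i, _, rfl⟩ := List.mem_map.mp hy
      exact hc b i
    rw [List.map_cons, List.prod_cons, hP.symm.mul_mul_mul_comm, h1, prod_sq f hc h1 l, one_mul]

theorem pair_alg {A : Type*} [Ring A] (a b : A) (ha : a * a = 0) (hb : b * b = 0) (hab : a * b + b * a = 1) :
    (1 - 2 * (a * b)) * (1 - 2 * (a * b)) = 1 ∧ a * (1 - 2 * (a * b)) = -((1 - 2 * (a * b)) * a) ∧
      b * (1 - 2 * (a * b)) = -((1 - 2 * (a * b)) * b) := by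
  have hba : b * a = 1 - a * b := eq_sub_of_add_eq' hab
  have haba : a * b * a = a := by rw [mul_assoc, hba, mul_sub, ← mul_assoc, ha, zero_mul, mul_one, sub_zero]
  have hbab : b * a * b = b := by rw [hba, sub_mul, mul_assoc, hb, mul_zero, one_mul, sub_zero]
  refine ⟨?_, ?_, ?_⟩
  · have : a * b * (a * b) = a * b := by rw [← mul_assoc, haba]
    calc (1 - 2 * (a * b)) * (1 - 2 * (a * b)) = 1 - 4 * (a * b) + 4 * (a * b * (a * b)) := by noncomm_ring
      _ = 1 := by rw [this]; noncomm_ring
  · calc a * (1 - 2 * (a * b)) = a - 2 * (a * a * b) := by noncomm_ring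
      _ = -(a - 2 * (a * b * a)) := by rw [ha, haba]; noncomm_ring
      _ = _ := by noncomm_ring
  · calc b * (1 - 2 * (a * b)) = b - 2 * (b * a * b) := by noncomm_ring
      _ = -(b - 2 * (a * (b * b))) := by rw [hb, hbab]; noncomm_ring
      _ = _ := by noncomm_ring

theorem commute_pair {A : Type*} [Ring A] (x a b : A) (hxa : x * a = -(a * x)) (hxb : x * b = -(b * x)) :
    x * (1 - 2 * (a * b)) = (1 - 2 * (a * b)) * x := by
  have h : x * (a * b) = a * b * x := by
    rw [← mul_assoc, hxa, neg_mul, mul_assoc, hxb, mul_neg, neg_neg, mul_assoc]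
  calc x * (1 - 2 * (a * b)) = x - 2 * (x * (a * b)) := by noncomm_ring
    _ = x - 2 * (a * b * x) := by rw [h]
    _ = _ := by noncomm_ring




/-- For the standard split quadratic form Σ x_{2i} x_{2i+1} on R^{2m} over any commutative ring R, with
standard basis vectors e_j in the Clifford algebra, the product w of the elements 1 − 2 e_{2i}
e_{2i+1} (i < m, which pairwise commute) satisfies w² = 1 and anticommutes with every e_j. (Hence w
is central in the even Clifford algebra; over rings in which 2 is invertible (1 − w)/2 is the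
non-trivial central idempotent of the even part.) -/
theorem result (R : Type u) [CommRing R] (m : ℕ) :
    let Q := QuadGrp.splitForm R (m * 2)
    let e : Fin (m * 2) → CliffordAlgebra Q := fun j => CliffordAlgebra.ι Q (Pi.single j 1)
    let w : CliffordAlgebra Q :=
      ((List.finRange m).map fun i => 1 - 2 * (e (finProdFinEquiv (i, 0)) * e (finProdFinEquiv (i, 1)))).prod
    w * w = 1 ∧ ∀ j : Fin (m * 2), e j * w = -(w * e j) := by
  intro Q e w
  let a : Fin m → CliffordAlgebra Q := fun i => e (finProdFinEquiv (i, 0))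
  let b : Fin m → CliffordAlgebra Q := fun i => e (finProdFinEquiv (i, 1))
  have hsq : ∀ j, e j * e j = 0 := fun j => by
    simp only [e, CliffordAlgebra.ι_sq_scalar, Q, split_single, map_zero]
  have hadd : ∀ p q : Fin m × Fin 2, e (finProdFinEquiv p) * e (finProdFinEquiv q) + e (finProdFinEquiv q) * e (finProdFinEquiv p) =
      if p.1 = q.1 ∧ p.2 ≠ q.2 then 1 else 0 := fun p q => by
    simp only [e]
    rw [CliffordAlgebra.ι_mul_ι_add_swap, polar_single]
    split_ifs <;> simp
  have hanti : ∀ p q : Fin m × Fin 2, p.1 ≠ q.1 →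
      e (finProdFinEquiv p) * e (finProdFinEquiv q) = -(e (finProdFinEquiv q) * e (finProdFinEquiv p)) := fun p q h =>
    eq_neg_of_add_eq_zero_left (by rw [hadd, if_neg (fun hh => h hh.1)])
  have hpair := fun i => pair_alg (a i) (b i) (hsq _) (hsq _) (by rw [hadd, if_pos ⟨rfl, by simp⟩])
  let f : Fin m → CliffordAlgebra Q := fun i => 1 - 2 * (a i * b i)
  have hcomm : ∀ (p : Fin m × Fin 2) (i : Fin m), p.1 ≠ i → e (finProdFinEquiv p) * f i = f i * e (finProdFinEquiv p) :=
    fun p i h => commute_pair _ _ _ (hanti p (i, 0) h) (hanti p (i, 1) h)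
  have hff : ∀ i j, Commute (f i) (f j) := fun i j => by
    rcases eq_or_ne i j with rfl | h
    · exact Commute.refl _
    · have h0 : Commute (a i) (f j) := hcomm (i, 0) j h
      have h1 : Commute (b i) (f j) := hcomm (i, 1) j h
      exact (Commute.one_left _).sub_left ((Commute.ofNat_left _ _).mul_left (h0.mul_left h1))
  refine ⟨prod_sq f hff (fun i => (hpair i).1) _, fun j => ?_⟩
  obtain ⟨⟨i0, k⟩, rfl⟩ := finProdFinEquiv.surjective j
  refine ((prod_move f _ i0 (fun i h => hcomm (i0, k) i (Ne.symm h)) ?_ _ (List.nodup_finRange m)).2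
    (List.mem_finRange i0))
  fin_cases k
  · exact (hpair i0).2.1
  · exact (hpair i0).2.2

end Groth.Agent.S17016
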