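import Groth.Statements.S17017
import Mathlib.Tactic
import Mathlib.LinearAlgebra.Matrix.Trace
-- import your own Groth.Agent.* helpers here

set_option autoImplicit false
universe u
open QuadGrp

namespace Groth.Agent.S17017


variable {k : Type u} [Field k]

local notation "Q₃" => QuadGrp.splitForm k 3
local notation "E" => (fun i : Fin 3 => CliffordAlgebra.ι (QuadGrp.splitForm k 3) (Pi.single i 1))

theorem split3_apply (x : Fin 3 → k) : Q₃ x = x 1 * x 2 + x 0 * x 0 := by
  rw [QuadGrp.splitForm, dif_pos (by norm_num)]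
  simp

/-- The two-by-two matrices of the vectors. -/
def vecMat : (Fin 3 → k) →ₗ[k] Matrix (Fin 2) (Fin 2) k where
  toFun v := !![v 0, v 1; v 2, -v 0]
  map_add' v w := by ext i j; fin_cases i <;> fin_cases j <;> simp <;> ring
  map_smul' c v := by ext i j; fin_cases i <;> fin_cases j <;> simp

/-- The representation on `k²`. -/
noncomputable def phi : CliffordAlgebra Q₃ →ₐ[k] Matrix (Fin 2) (Fin 2) k :=
  CliffordAlgebra.lift Q₃ ⟨vecMat, fun v => by
    ext i j
    fin_cases i <;> fin_cases j <;>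
      simp [vecMat, split3_apply, Matrix.mul_apply, Fin.sum_univ_two, Matrix.algebraMap_eq_diagonal] <;> ring⟩

theorem phi_ι (v : Fin 3 → k) : phi (CliffordAlgebra.ι Q₃ v) = !![v 0, v 1; v 2, -v 0] := by
  simp [phi, vecMat]

theorem ι_decomp (v : Fin 3 → k) : CliffordAlgebra.ι Q₃ v = v 0 • E 0 + v 1 • E 1 + v 2 • E 2 := by
  simp only [← map_smul, ← map_add]
  congr 1
  ext i
  fin_cases i <;> simp

theorem rels : E 0 * E 0 = 1 ∧ E 1 * E 1 = 0 ∧ E 2 * E 2 = 0 ∧ E 1 * E 0 = -(E 0 * E 1) ∧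
    E 2 * E 0 = -(E 0 * E 2) ∧ E 2 * E 1 = 1 - E 1 * E 2 := by
  refine ⟨?_, ?_, ?_, eq_neg_of_add_eq_zero_left ?_, eq_neg_of_add_eq_zero_left ?_, eq_sub_of_add_eq ?_⟩
  all_goals first
    | (simp [CliffordAlgebra.ι_sq_scalar, split3_apply]; done)
    | (simp [CliffordAlgebra.ι_mul_ι_add_swap, QuadraticMap.polar, split3_apply]; done)

theorem odd_mem_span (x : CliffordAlgebra Q₃) (hx : x ∈ CliffordAlgebra.evenOdd Q₃ 1) :
    x ∈ Submodule.span k ({E 0, E 1, E 2, E 0 * (E 1 * E 2)} : Set (CliffordAlgebra Q₃)) := by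
  set S1 := Submodule.span k ({E 0, E 1, E 2, E 0 * (E 1 * E 2)} : Set (CliffordAlgebra Q₃)) with hS1
  set S0 := Submodule.span k ({1, E 0 * E 1, E 0 * E 2, E 1 * E 2} : Set (CliffordAlgebra Q₃)) with hS0
  obtain ⟨h00, h11, h22, h10, h20, h21⟩ := rels (k := k)
  have m00 : ∀ y : CliffordAlgebra Q₃, E 0 * (E 0 * y) = y := fun y => by rw [← mul_assoc, h00, one_mul]
  have m11 : ∀ y : CliffordAlgebra Q₃, E 1 * (E 1 * y) = 0 := fun y => by rw [← mul_assoc, h11, zero_mul]
  have m10 : ∀ y : CliffordAlgebra Q₃, E 1 * (E 0 * y) = -(E 0 * (E 1 * y)) := fun y => by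
    rw [← mul_assoc, h10, neg_mul, mul_assoc]
  have m20 : ∀ y : CliffordAlgebra Q₃, E 2 * (E 0 * y) = -(E 0 * (E 2 * y)) := fun y => by
    rw [← mul_assoc, h20, neg_mul, mul_assoc]
  have m21 : ∀ y : CliffordAlgebra Q₃, E 2 * (E 1 * y) = y - E 1 * (E 2 * y) := fun y => by
    rw [← mul_assoc, h21, sub_mul, one_mul, mul_assoc]
  have a1 : (1 : CliffordAlgebra Q₃) ∈ S0 := Submodule.subset_span (by simp)
  have a2 : E 0 * E 1 ∈ S0 := Submodule.subset_span (by simp)
  have a3 : E 0 * E 2 ∈ S0 := Submodule.subset_span (by simp)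
  have a4 : E 1 * E 2 ∈ S0 := Submodule.subset_span (by simp)
  have b1 : E 0 ∈ S1 := Submodule.subset_span (by simp)
  have b2 : E 1 ∈ S1 := Submodule.subset_span (by simp)
  have b3 : E 2 ∈ S1 := Submodule.subset_span (by simp)
  have b4 : E 0 * (E 1 * E 2) ∈ S1 := Submodule.subset_span (by simp)
  have e10 : ∀ i : Fin 3, ∀ y ∈ S1, E i * y ∈ S0 := by
    intro i y hy
    induction hy using Submodule.span_induction with
    | zero => simp
    | add a b _ _ ha hb => rw [mul_add]; exact add_mem ha hb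
    | smul c a _ ha => rw [mul_smul_comm]; exact Submodule.smul_mem _ c ha
    | mem y hy =>
      simp only [Set.mem_insert_iff, Set.mem_singleton_iff] at hy
      fin_cases i <;> rcases hy with rfl | rfl | rfl | rfl <;>
        simp only [Fin.isValue, Fin.mk_zero, Fin.mk_one, Fin.reduceFinMk, m00, m11, m10, m20, m21, h00, h11, h22, h10, h20, h21, mul_zero, mul_one, sub_zero, neg_zero] <;>
        first
          | exact S0.zero_mem
          | assumption
          | exact S0.neg_mem a2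
          | exact S0.neg_mem a3
          | exact S0.sub_mem a1 a4
  have e01 : ∀ i : Fin 3, ∀ y ∈ S0, E i * y ∈ S1 := by
    intro i y hy
    induction hy using Submodule.span_induction with
    | zero => simp
    | add a b _ _ ha hb => rw [mul_add]; exact add_mem ha hb
    | smul c a _ ha => rw [mul_smul_comm]; exact Submodule.smul_mem _ c ha
    | mem y hy =>
      simp only [Set.mem_insert_iff, Set.mem_singleton_iff] at hy
      fin_cases i <;> rcases hy with rfl | rfl | rfl | rfl <;>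
        simp only [Fin.isValue, Fin.mk_zero, Fin.mk_one, Fin.reduceFinMk, m00, m11, m10, m20, m21, h00, h11, h22, h10, h20, h21, mul_zero, mul_one, sub_zero, neg_zero, mul_sub] <;>
        first
          | exact S1.zero_mem
          | assumption
          | exact S1.neg_mem b4
          | exact S1.neg_mem (S1.sub_mem b1 b4)
  have step : ∀ v : Fin 3 → k, ∀ y ∈ S0, CliffordAlgebra.ι Q₃ v * y ∈ S1 := fun v y hy => by
    rw [ι_decomp]; simp only [add_mul, smul_mul_assoc]
    exact add_mem (add_mem (S1.smul_mem _ (e01 0 y hy)) (S1.smul_mem _ (e01 1 y hy))) (S1.smul_mem _ (e01 2 y hy))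
  have step' : ∀ v : Fin 3 → k, ∀ y ∈ S1, CliffordAlgebra.ι Q₃ v * y ∈ S0 := fun v y hy => by
    rw [ι_decomp]; simp only [add_mul, smul_mul_assoc]
    exact add_mem (add_mem (S0.smul_mem _ (e10 0 y hy)) (S0.smul_mem _ (e10 1 y hy))) (S0.smul_mem _ (e10 2 y hy))
  induction x, hx using CliffordAlgebra.odd_induction with
  | ι v => simpa using step v 1 a1
  | add a b _ _ ha hb => exact add_mem ha hb
  | ι_mul_ι_mul m1 m2 y _ ih => rw [mul_assoc]; exact step m1 _ (step' m2 y ih)

theorem phi_inj_odd (x : CliffordAlgebra Q₃) (hx : x ∈ CliffordAlgebra.evenOdd Q₃ 1) (h : phi x = 0) : x = 0 := by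
  obtain ⟨a, y, hy, e1⟩ := Submodule.mem_span_insert.mp (odd_mem_span x hx)
  obtain ⟨b, z, hz, e2⟩ := Submodule.mem_span_insert.mp hy
  obtain ⟨c, w, hw, e3⟩ := Submodule.mem_span_insert.mp hz
  obtain ⟨d, e4⟩ := Submodule.mem_span_singleton.mp hw
  rw [e2, e3, ← e4] at e1
  clear hx hy hz hw e2 e3 e4
  subst e1
  simp only [map_add, map_smul, map_mul, phi_ι] at h
  have h00 := congrFun (congrFun h 0) 0
  have h01 := congrFun (congrFun h 0) 1
  have h10 := congrFun (congrFun h 1) 0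
  have h11 := congrFun (congrFun h 1) 1
  simp [Matrix.mul_apply, Fin.sum_univ_two] at h00 h01 h10 h11
  subst h01 h10 h11
  simp only [zero_add] at h00
  subst h00
  simp

theorem conj_mem (u : (CliffordAlgebra Q₃)ˣ) (hu : u ∈ QuadGrp.evenUnits Q₃) (v : Fin 3 → k) :
    (u : CliffordAlgebra Q₃) * CliffordAlgebra.ι Q₃ v * ↑u⁻¹ ∈ LinearMap.range (CliffordAlgebra.ι Q₃) := by
  have hu' : ((u⁻¹ : (CliffordAlgebra Q₃)ˣ) : CliffordAlgebra Q₃) ∈ CliffordAlgebra.evenOdd Q₃ 0 :=
    (QuadGrp.evenUnits Q₃).inv_mem hu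
  have h1 : (u : CliffordAlgebra Q₃) * CliffordAlgebra.ι Q₃ v ∈ CliffordAlgebra.evenOdd Q₃ (0 + 1) :=
    SetLike.mul_mem_graded ((QuadGrp.mem_evenUnits _ u).mp hu) (CliffordAlgebra.ι_mem_evenOdd_one _ v)
  have hodd : (u : CliffordAlgebra Q₃) * CliffordAlgebra.ι Q₃ v * ↑u⁻¹ ∈ CliffordAlgebra.evenOdd Q₃ 1 := by
    have h2 := SetLike.mul_mem_graded h1 hu'
    rwa [zero_add, add_zero] at h2
  have htr : Matrix.trace (phi (k := k) ((u : CliffordAlgebra Q₃) * CliffordAlgebra.ι Q₃ v * ↑u⁻¹)) = 0 := by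
    rw [map_mul, map_mul, Matrix.trace_mul_comm, ← mul_assoc, ← map_mul, Units.inv_mul, map_one, one_mul, phi_ι]
    simp [Matrix.trace_fin_two]
  generalize (u : CliffordAlgebra Q₃) * CliffordAlgebra.ι Q₃ v * ↑u⁻¹ = x at hodd htr ⊢
  refine ⟨![phi x 0 0, phi x 0 1, phi x 1 0], ?_⟩
  refine sub_eq_zero.mp (phi_inj_odd _ (sub_mem (CliffordAlgebra.ι_mem_evenOdd_one _ _) hodd) ?_)
  rw [map_sub, phi_ι, sub_eq_zero]
  rw [Matrix.trace_fin_two] at htr
  ext i j
  fin_cases i <;> fin_cases j <;> simp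
  exact (eq_neg_of_add_eq_zero_right htr).symm


/-- Over a field k, for the standard split quadratic form x₀² + x₁x₂ on k³, every even unit of the
Clifford algebra normalises the subspace k³, i.e. lies in the naive Clifford group; so the even
Clifford group is the whole unit group of the even Clifford algebra. (The published claim is made
over fields of characteristic different from 2; here it is stated for every field.) -/
theorem result (k : Type u) [Field k] :
    QuadGrp.evenUnits (QuadGrp.splitForm k 3) ≤ QuadGrp.GPin' (QuadGrp.splitForm k 3) := by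
  intro u hu
  rw [QuadGrp.mem_GPin']
  refine le_antisymm ?_ ?_
  · rintro _ ⟨_, ⟨v, rfl⟩, rfl⟩
    exact conj_mem u hu v
  · rintro _ ⟨v, rfl⟩
    refine ⟨(↑u⁻¹ : CliffordAlgebra (QuadGrp.splitForm k 3)) * CliffordAlgebra.ι (QuadGrp.splitForm k 3) v * ↑u, ?_, ?_⟩
    · have := conj_mem u⁻¹ (Subgroup.inv_mem _ hu) v
      rw [inv_inv] at this
      exact this
    · change (u : CliffordAlgebra (QuadGrp.splitForm k 3)) * ((↑u⁻¹ : CliffordAlgebra (QuadGrp.splitForm k 3)) * CliffordAlgebra.ι (QuadGrp.splitForm k 3) v * ↑u) * ↑u⁻¹ = _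
      simp [mul_assoc]

end Groth.Agent.S17017
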