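import Groth.Statements.S17019
import Groth.Agent.Lib.ModelFibre.GenericField

set_option autoImplicit false
universe u
open CategoryTheory CategoryTheory.Limits AlgebraicGeometry
open scoped TensorProduct
open Models

namespace Groth.Agent.S17019

/-- Let R be a discrete valuation ring with algebraically closed residue field and f : X → Spec R a
proper flat morphism whose generic fibre (base change to the fraction field of R) is smooth of
relative dimension 1 and connected and whose special fibre (base change to the residue field) is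
connected and reduced; let ξ be the generic point of an irreducible component of the special fibre
and B a discrete valuation ring given with an isomorphism from the local ring of X at ξ under which
R → B is the map induced by f; let R' be a discrete valuation ring with an injective local
homomorphism R → R' which is generically finite (Frac R ⊗_R R' is a finite module over Frac R). Then
B ⊗_R R' is an integral domain and a discrete valuation ring. (The published setting takes
everything essentially of finite type over a field of characteristic zero; the printed argument does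
not use this and it is not imposed here.) -/
theorem result
    (R : Type u) [CommRing R] [IsDomain R] [IsDiscreteValuationRing R]
    [IsAlgClosed (IsLocalRing.ResidueField R)]
    (X : Scheme.{u}) (f : X ⟶ Spec (CommRingCat.of R)) [IsProper f] [Flat f]
    (XK : Scheme.{u}) (gK : XK ⟶ X) (fK : XK ⟶ Spec (CommRingCat.of (FractionRing R)))
    (hK : IsPullback gK fK f (Spec.map (CommRingCat.ofHom (algebraMap R (FractionRing R)))))
    [SmoothOfRelativeDimension 1 fK] [ConnectedSpace XK]
    (Xs : Scheme.{u}) (gs : Xs ⟶ X) (fs : Xs ⟶ Spec (CommRingCat.of (IsLocalRing.ResidueField R)))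
    (hs : IsPullback gs fs f (Spec.map (CommRingCat.ofHom (IsLocalRing.residue R))))
    [ConnectedSpace Xs] [IsReduced Xs]
    (ξ : Xs) (hξ : closure ({ξ} : Set Xs) ∈ irreducibleComponents Xs)
    (B : Type u) [CommRing B] [IsDomain B] [IsDiscreteValuationRing B] [Algebra R B]
    (e : X.presheaf.stalk (gs.base ξ) ≅ CommRingCat.of B)
    (he : e.hom.hom.comp ((X.presheaf.germ ⊤ (gs.base ξ) trivial).hom.comp (Coh.toGlobal f)) =
      algebraMap R B)
    (R' : Type u) [CommRing R'] [IsDomain R'] [IsDiscreteValuationRing R'] [Algebra R R']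
    (hinj : Function.Injective (algebraMap R R')) [IsLocalHom (algebraMap R R')]
    [Module.Finite (FractionRing R) (FractionRing R ⊗[R] R')] :
    ∃ _ : IsDomain (B ⊗[R] R'), IsDiscreteValuationRing (B ⊗[R] R') := by
  obtain ⟨π, hπ⟩ := IsDiscreteValuationRing.exists_irreducible R
  obtain ⟨ϖ, hϖ⟩ := IsDiscreteValuationRing.exists_irreducible R'
  set K := FractionRing R with hKdef
  set L := FractionRing R'
  have hπu : ¬ IsUnit (algebraMap R R' π) := fun h => hπ.not_isUnit (isUnit_of_map_unit _ _ h)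
  have hπ0 : algebraMap R R' π ≠ 0 := (map_ne_zero_iff _ hinj).2 hπ.ne_zero
  have : FaithfulSMul R L := (faithfulSMul_iff_algebraMap_injective R L).2 (by
    rw [IsScalarTower.algebraMap_eq R R' L]
    exact (IsFractionRing.injective R' L).comp hinj)
  let : Algebra K L := FractionRing.liftAlgebra R L
  have : Algebra.IsPushout R K R' L :=
    Groth.Agent.Lib.ModelFibre.GenericField.isPushout_fractionRing _ _ hπ hπ0 hπu
  have : Module.Finite K L :=
    Module.Finite.equiv (Algebra.IsPushout.equiv R K R' L).toLinearEquiv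
  have : Algebra.IsAlgebraic K L := Algebra.IsAlgebraic.of_finite K L
  have hfield : IsField (L ⊗[R] B) :=
    Groth.Agent.Lib.ModelFibre.GenericField.isField_tensor X f XK gK fK hK Xs gs fs hs ξ hξ B e he L
  have hmax := Groth.Agent.S17018.result R X f XK gK fK hK Xs gs fs hs ξ hξ B e he
  rw [hπ.maximalIdeal_eq, Ideal.map_span, Set.image_singleton] at hmax
  have hB0 : algebraMap R B π ≠ 0 := fun h0 => IsDiscreteValuationRing.not_a_field B (by
    rw [hmax, h0, Ideal.span_singleton_zero])
  have hBinj : Function.Injective (algebraMap R B) := (injective_iff_map_eq_zero _).2 fun r hr => by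
    by_contra hr0
    obtain ⟨n, w, rfl⟩ := IsDiscreteValuationRing.eq_unit_mul_pow_irreducible hr0 hπ
    rw [map_mul, map_pow] at hr
    exact hB0 (pow_eq_zero_iff'.1 ((mul_eq_zero.1 hr).resolve_left (w.isUnit.map _).ne_zero)).1
  have : FaithfulSMul R B := (faithfulSMul_iff_algebraMap_injective R B).2 hBinj
  have : Module.IsTorsionFree R B := inferInstance
  have : Module.Flat R B := inferInstance
  let ι : B ⊗[R] R' →ₐ[R] L ⊗[R] B :=
    (Algebra.TensorProduct.comm R B L).toAlgHom.comp
      (Algebra.TensorProduct.map (AlgHom.id R B) (IsScalarTower.toAlgHom R R' L))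
  have hι : Function.Injective ι :=
    (Algebra.TensorProduct.comm R B L).injective.comp
      (Module.Flat.lTensor_preserves_injective_linearMap _ (IsFractionRing.injective R' L))
  have hιt : ∀ b r, ι (b ⊗ₜ r) = algebraMap R' L r ⊗ₜ b := fun b r => rfl
  have : IsDomain (L ⊗[R] B) := hfield.isDomain
  have hdom : IsDomain (B ⊗[R] R') := hι.isDomain ι.toRingHom
  refine ⟨hdom, ?_⟩
  -- residue field of `R'`
  have hres : ∀ a : R', ∃ (c : R) (t : R'), a = algebraMap R R' c + ϖ * t := fun a => by
    have halgK : IsAlgebraic K (algebraMap R' L a) := Algebra.IsAlgebraic.isAlgebraic _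
    have halg : IsAlgebraic R a :=
      (isAlgebraic_algebraMap_iff (IsFractionRing.injective R' L)).1
        ((IsFractionRing.isAlgebraic_iff R K L).2 halgK)
    obtain ⟨c, hc⟩ := Groth.Agent.Lib.ModelFibre.GenericField.isAlgebraic_residue hinj a halg
    have h : a - algebraMap R R' c ∈ IsLocalRing.maximalIdeal R' := by
      rw [← IsLocalRing.residue_eq_zero_iff, map_sub, ← hc]
      exact sub_self _
    rw [hϖ.maximalIdeal_eq, Ideal.mem_span_singleton] at h
    obtain ⟨t, ht⟩ := h
    exact ⟨c, t, by rw [← ht]; ring⟩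
  set P₀ : B ⊗[R] R' := 1 ⊗ₜ ϖ with hP₀
  set M := Ideal.span {P₀}
  have hP₀0 : P₀ ≠ 0 := fun h => by
    have h1 := congrArg ι h
    rw [map_zero, hιt] at h1
    have hu : IsUnit ((algebraMap R' L ϖ) ⊗ₜ[R] (1 : B)) :=
      (isUnit_iff_ne_zero.2 ((map_ne_zero_iff _ (IsFractionRing.injective R' L)).2 hϖ.ne_zero)).map
        (Algebra.TensorProduct.includeLeft : L →ₐ[R] L ⊗[R] B)
    exact hu.ne_zero h1
  obtain ⟨w, hw⟩ : ϖ ∣ algebraMap R R' π := by
    rw [← Ideal.mem_span_singleton, ← hϖ.maximalIdeal_eq]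
    exact hπu
  -- every element is a scalar modulo `M`
  have hsurj : ∀ x : B ⊗[R] R', ∃ b : B, x - b ⊗ₜ 1 ∈ M := by
    intro x
    induction x using TensorProduct.induction_on with
    | zero => exact ⟨0, by rw [TensorProduct.zero_tmul, sub_zero]; exact M.zero_mem⟩
    | tmul b r =>
      obtain ⟨c, t, rfl⟩ := hres r
      refine ⟨c • b, Ideal.mem_span_singleton.2 ⟨b ⊗ₜ t, ?_⟩⟩
      rw [hP₀, Algebra.TensorProduct.tmul_mul_tmul, one_mul, TensorProduct.tmul_add,
        Algebra.algebraMap_eq_smul_one, TensorProduct.tmul_smul, TensorProduct.smul_tmul']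
      abel
    | add x y hx hy =>
      obtain ⟨b, hb⟩ := hx
      obtain ⟨b', hb'⟩ := hy
      refine ⟨b + b', ?_⟩
      rw [TensorProduct.add_tmul, add_sub_add_comm]
      exact add_mem hb hb'
  have hmB : ∀ b ∈ IsLocalRing.maximalIdeal B, b ⊗ₜ (1 : R') ∈ M := fun b hb => by
    rw [hmax, Ideal.mem_span_singleton] at hb
    obtain ⟨b', rfl⟩ := hb
    refine Ideal.mem_span_singleton.2 ⟨b' ⊗ₜ w, ?_⟩
    rw [hP₀, Algebra.TensorProduct.tmul_mul_tmul, one_mul, ← hw, ← Algebra.smul_def,
      Algebra.algebraMap_eq_smul_one, TensorProduct.tmul_smul, TensorProduct.smul_tmul']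
  have hne : M ≠ ⊤ := by
    let κ := IsLocalRing.ResidueField B
    have hk : Function.Surjective ((IsLocalRing.residue R').comp (algebraMap R R')) := fun z => by
      obtain ⟨a, rfl⟩ := IsLocalRing.residue_surjective z
      obtain ⟨c, t, rfl⟩ := hres a
      refine ⟨c, ?_⟩
      rw [map_add, map_mul, (IsLocalRing.residue_eq_zero_iff ϖ).2
        (hϖ.maximalIdeal_eq.ge (Ideal.mem_span_singleton_self ϖ)), zero_mul, add_zero]
      rfl
    let φ : IsLocalRing.ResidueField R' →+* κ :=
      ((IsLocalRing.residue R').comp (algebraMap R R')).liftOfSurjective hk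
        ⟨(IsLocalRing.residue B).comp (algebraMap R B), fun r hr => by
          have h1 : algebraMap R R' r ∈ IsLocalRing.maximalIdeal R' :=
            (IsLocalRing.residue_eq_zero_iff _).1 hr
          have h2 : r ∈ IsLocalRing.maximalIdeal R := (IsLocalRing.mem_maximalIdeal r).2 fun h =>
            (IsLocalRing.mem_maximalIdeal _).1 h1 (h.map _)
          rw [hπ.maximalIdeal_eq, Ideal.mem_span_singleton] at h2
          rw [RingHom.mem_ker, RingHom.comp_apply, IsLocalRing.residue_eq_zero_iff, hmax,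
            Ideal.mem_span_singleton]
          exact map_dvd _ h2⟩
    let ψ : R' →ₐ[R] κ :=
      { φ.comp (IsLocalRing.residue R') with
        commutes' := fun r => RingHom.congr_fun
          (RingHom.liftOfSurjective_comp ((IsLocalRing.residue R').comp (algebraMap R R')) hk _) r }
    let Φ : B ⊗[R] R' →ₐ[R] κ := Algebra.TensorProduct.lift (IsScalarTower.toAlgHom R B κ) ψ
      (fun _ _ => Commute.all _ _)
    intro h
    have h1 : M ≤ RingHom.ker Φ.toRingHom := by
      rw [Ideal.span_singleton_le_iff_mem, RingHom.mem_ker]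
      show Φ (1 ⊗ₜ ϖ) = 0
      rw [Algebra.TensorProduct.lift_tmul]
      show _ * φ (IsLocalRing.residue R' ϖ) = 0
      rw [(IsLocalRing.residue_eq_zero_iff ϖ).2 (hϖ.maximalIdeal_eq.ge (Ideal.mem_span_singleton_self ϖ)),
        map_zero, mul_zero]
    exact RingHom.ker_ne_top _ (top_le_iff.1 (h ▸ h1))
  have hMmax : M.IsMaximal := by
    refine Ideal.isMaximal_iff.2 ⟨fun h => hne ((Ideal.eq_top_iff_one _).2 h), fun J x hMJ hxM hxJ => ?_⟩
    obtain ⟨b, hb⟩ := hsurj x
    have hbJ : b ⊗ₜ (1 : R') ∈ J := by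
      have := J.sub_mem hxJ (hMJ hb)
      rwa [sub_sub_cancel] at this
    have hbu : IsUnit b := by
      by_contra hbu
      exact hxM ((Submodule.sub_mem_iff_left _ (hmB b hbu)).1 hb)
    have hu : IsUnit (b ⊗ₜ[R] (1 : R')) :=
      hbu.map (Algebra.TensorProduct.includeLeft : B →ₐ[R] B ⊗[R] R')
    exact (Ideal.eq_top_iff_one _).1 (Ideal.eq_top_of_isUnit_mem _ hbJ hu)
  have hden : ∀ y : L ⊗[R] B, ∃ s : R', s ≠ 0 ∧ y * (algebraMap R' L s ⊗ₜ 1) ∈ ι.range := by
    intro y
    induction y using TensorProduct.induction_on with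
    | zero => exact ⟨1, one_ne_zero, by rw [zero_mul]; exact ι.range.zero_mem⟩
    | tmul l b =>
      obtain ⟨a, s, hs, rfl⟩ := IsFractionRing.div_surjective (A := R') l
      refine ⟨s, nonZeroDivisors.ne_zero hs, b ⊗ₜ a, ?_⟩
      show ι (b ⊗ₜ a) = _
      rw [hιt, Algebra.TensorProduct.tmul_mul_tmul, mul_one,
        div_mul_cancel₀ _ (IsFractionRing.to_map_ne_zero_of_mem_nonZeroDivisors hs)]
    | add x y hx hy =>
      obtain ⟨s, hs, hsx⟩ := hx
      obtain ⟨t, ht, hty⟩ := hy
      have h1 : ∀ r : R', (algebraMap R' L r ⊗ₜ[R] (1 : B)) ∈ ι.range := fun r => ⟨1 ⊗ₜ r, hιt 1 r⟩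
      have hm : (algebraMap R' L (s * t) ⊗ₜ[R] (1 : B)) =
          (algebraMap R' L s ⊗ₜ[R] (1 : B)) * (algebraMap R' L t ⊗ₜ[R] (1 : B)) := by
        rw [Algebra.TensorProduct.tmul_mul_tmul, mul_one, map_mul]
      refine ⟨s * t, mul_ne_zero hs ht, ?_⟩
      rw [hm, add_mul]
      refine ι.range.add_mem ?_ ?_
      · rw [← mul_assoc]
        exact ι.range.mul_mem hsx (h1 t)
      · rw [mul_comm (algebraMap R' L s ⊗ₜ[R] (1 : B)), ← mul_assoc]
        exact ι.range.mul_mem hty (h1 s)
  have hprime : ∀ P : Ideal (B ⊗[R] R'), P.IsPrime → P = ⊥ ∨ P = M := by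
    intro P hP
    by_cases h : P₀ ∈ P
    · exact Or.inr (hMmax.eq_of_le hP.ne_top ((Ideal.span_singleton_le_iff_mem _).2 h)).symm
    refine Or.inl (eq_bot_iff.2 fun x hx => Submodule.mem_bot _ |>.2 ?_)
    by_contra hx0
    obtain ⟨y, hy⟩ := hfield.mul_inv_cancel (fun h0 => hx0 (hι (h0.trans (map_zero ι).symm)))
    obtain ⟨s, hs, t, ht⟩ := hden y
    have hmem : (1 : B) ⊗ₜ s ∈ P := by
      have h2 : x * t = 1 ⊗ₜ s := hι (by
        rw [map_mul, hιt]
        exact (congrArg (ι x * ·) ht).trans (by rw [← mul_assoc, hy, one_mul]))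
      exact h2 ▸ P.mul_mem_right t hx
    obtain ⟨n, v, rfl⟩ := IsDiscreteValuationRing.eq_unit_mul_pow_irreducible hs hϖ
    have h3 : (1 : B) ⊗ₜ[R] ((v : R') * ϖ ^ n) = ((1 : B) ⊗ₜ[R] (v : R')) * P₀ ^ n := by
      rw [hP₀, Algebra.TensorProduct.tmul_pow, Algebra.TensorProduct.tmul_mul_tmul, one_pow, one_mul]
    rw [h3] at hmem
    rcases hP.mem_or_mem hmem with h4 | h4
    · exact hP.ne_top (Ideal.eq_top_of_isUnit_mem _ h4
        (v.isUnit.map (Algebra.TensorProduct.includeRight : R' →ₐ[R] B ⊗[R] R')))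
    · exact h (hP.mem_of_pow_mem n h4)
  have : IsPrincipalIdealRing (B ⊗[R] R') := IsPrincipalIdealRing.of_prime fun P hP => by
    rcases hprime P hP with rfl | rfl
    · exact ⟨⟨0, by simp⟩⟩
    · exact ⟨⟨P₀, rfl⟩⟩
  have hMbot : M ≠ ⊥ := fun h => hP₀0 (Ideal.span_singleton_eq_bot.1 h)
  have : IsLocalRing (B ⊗[R] R') := IsLocalRing.of_unique_max_ideal ⟨M, hMmax, fun J hJ => by
    rcases hprime J hJ.isPrime with rfl | rfl
    · exact absurd (hJ.eq_of_le hMmax.ne_top bot_le).symm hMbot
    · rfl⟩
  exact { not_a_field' := fun h => hMbot ((IsLocalRing.eq_maximalIdeal hMmax).trans h) }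

end Groth.Agent.S17019
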