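import Groth.Statements.S17021
import Groth.Agent.H52.ParaFDescent
import Groth.Agent.Lib.ParaStalk.Main
import Groth.Agent.Lib.QDepth.Sk


set_option autoImplicit false
universe u
open CategoryTheory CategoryTheory.Limits AlgebraicGeometry
open PicF

namespace Groth.Agent.S17021

open CategoryTheory CategoryTheory.Limits AlgebraicGeometry
open Groth.Agent.Lib Groth.Agent.Lib.TensorMod.Gen Groth.Agent.Lib.TensorMod.Pullback
  Groth.Agent.Lib.Ample.GenLocus Groth.Agent.H52

/-- Serre's condition gives depth two at a point of codimension two. -/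
theorem two_le_depth (R : Type u) [CommRing R] [IsLocalRing R] [IsNoetherianRing R]
    (h : LocCoh.HasSk 2 R R) (hd : ringKrullDim R = 2) : (2 : ℕ∞) ≤ LocCoh.depth R R := by
  let m := IsLocalRing.maximalIdeal R
  have : IsLocalization.AtPrime R m :=
    IsLocalization.self fun x hx => IsLocalRing.notMem_maximalIdeal.1 hx
  rw [ParaStalk.Main.depth_eq m R]
  refine QDepth.le_depth_of_hasSk h m le_rfl (le_of_eq ?_)
  have e := (IsLocalizedModule.iso m.primeCompl (Algebra.linearMap R (Localization.AtPrime m))).extendScalarsOfIsLocalization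
    m.primeCompl (Localization.AtPrime m)
  rw [Module.supportDim_eq_of_equiv e, Module.supportDim_self_eq_ringKrullDim,
    IsLocalization.AtPrime.ringKrullDim_eq_height m, IsLocalRing.maximalIdeal_height_eq_ringKrullDim, hd]
  rfl


/-- Let X be a locally Noetherian scheme all of whose local rings satisfy Serre's condition (S₂), p a
closed point of X whose local ring has Krull dimension 2, U the open complement of p and L an
invertible O_U-module. Suppose L extends to an invertible module over an étale neighbourhood of p:
there are an étale morphism j : V → X, a point q of V with j(q) = p and an invertible O_V-module M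
whose pullback to j⁻¹(U) is isomorphic to the pullback of L along j⁻¹(U) → U. Then L extends to X:
some invertible O_X-module has pullback to U isomorphic to L. (Stated for schemes; the published
statement is for a Deligne–Mumford stack of dimension 2 satisfying (S₂) and its proof passes to a
scheme on an étale chart. Dimension 2 is imposed here on the local ring at p. The published setting
takes everything essentially of finite type over a field of characteristic zero; here X is only
assumed locally Noetherian.) -/
theorem result {X : Scheme.{u}} [IsLocallyNoetherian X]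
    (hS2 : ∀ x : X, LocCoh.HasSk 2 (X.presheaf.stalk x) (X.presheaf.stalk x))
    (p : X) (hp : IsClosed ({p} : Set X)) (hdim : ringKrullDim (X.presheaf.stalk p) = 2)
    (U : X.Opens) (hU : (U : Set X) = {p}ᶜ)
    (L : (U : Scheme.{u}).Modules) (hL : PicF.IsInvertible L)
    {V : Scheme.{u}} (j : V ⟶ X) [Etale j] (q : V) (hq : j.base q = p)
    (M : V.Modules) (hM : PicF.IsInvertible M)
    (e : (Scheme.Modules.pullback (j ⁻¹ᵁ U).ι).obj M ≅ (Scheme.Modules.pullback (j ∣_ U)).obj L) :
    ∃ N : X.Modules, PicF.IsInvertible N ∧ Nonempty ((Scheme.Modules.pullback U.ι).obj N ≅ L) := by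
  have hd : ∀ z : X, z ∉ U → (2 : ℕ∞) ≤ LocCoh.depth (X.presheaf.stalk z) (X.presheaf.stalk z) := by
    intro z hz
    obtain rfl : z = p := by
      by_contra hne
      exact hz (show z ∈ (U : Set X) from hU ▸ hne)
    exact two_le_depth _ (hS2 z) hdim
  have hres := ParaStalk.Main.resBij_of_depth U hd
  have hb : ∀ W : X.Opens, Function.Bijective (U.ι.app W) :=
    ParaFDescent.bijective_app_of_resBij U.ι (by rw [Scheme.Opens.opensRange_ι]; exact hres)
  have hgen : ∀ y : X, ∃ (W : X.Opens) (s : Γ(L, U.ι ⁻¹ᵁ W)), y ∈ W ∧ IsGen L (U.ι ⁻¹ᵁ W) s := by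
    intro y
    by_cases hy : y ∈ U
    · obtain ⟨O, s, hyO, hs⟩ := isInvertible_iff.1 hL ⟨y, hy⟩
      exact ⟨U.ι ''ᵁ O, _, ⟨⟨y, hy⟩, hyO, rfl⟩, hs.res (U.ι.preimage_image_eq O).le⟩
    · obtain rfl : y = p := by
        by_contra hne
        exact hy (show y ∈ (U : Set X) from hU ▸ hne)
      subst hq
      obtain ⟨O, s, hqO, hs⟩ := isInvertible_iff.1 hM q
      obtain ⟨W, hW, hyW, -⟩ := exists_isAffineOpen_mem_and_subset (X := X) (x := j q) (U := ⊤) trivial
      obtain ⟨W', hW', hqW', hle⟩ := exists_isAffineOpen_mem_and_subset (X := V) (x := q) (U := O ⊓ j ⁻¹ᵁ W)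
        ⟨hqO, hyW⟩
      exact GenDescent.exists_gen (isPullback_morphismRestrict j U) hL hW hW' (fun z hz => (hle hz).2)
        (hb W) ((PushInv.isGen_of_iso e (isGen_unitSec (j ⁻¹ᵁ U).ι hs)).res
          (fun z hz => (hle hz).1)) q hqW'
  have := PushInv.isIso_counit U.ι hb hgen
  exact ⟨(Scheme.Modules.pushforward U.ι).obj L, PushInv.isInvertible_push U.ι hb hgen,
    ⟨asIso ((Scheme.Modules.pullbackPushforwardAdjunction U.ι).counit.app L)⟩⟩


end Groth.Agent.S17021
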