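import Groth.Statements.S17022
import Groth.Agent.Lib.CurveFF.EtaleTwo
import Groth.Agent.Lib.Curves.DegreeOne
import Groth.Agent.Lib.Curves.GenusZero
import Groth.Agent.Lib.CurveFF.PencilDim
import Groth.Agent.Lib.CurveFF.DoubleCover
import Groth.Agent.Lib.Unram.AtPrime
import Groth.Agent.Lib.ProjSpace.Dim
import Groth.Agent.Lib.ModelFibre.SmoothGeneric
-- import your own Groth.Agent.* helpers here

set_option autoImplicit false
universe u
open CategoryTheory CategoryTheory.Limits AlgebraicGeometry
open Curves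

namespace Groth.Agent.S17022
open Groth.Agent.Lib
attribute [local instance] Curv2.stalkAlgebra

/-- Let k be an algebraically closed field of characteristic zero, C a connected scheme which is proper
and smooth of relative dimension 1 over k, and f : C → P¹_k a surjective morphism over k which is
étale over the complement of two closed points p, q of P¹_k (p = q is allowed). Then C is isomorphic
to P¹_k over k, and f has exactly one point over p and exactly one point over q. (Existence of an
isomorphism only; the published statement moreover identifies f, in suitable coordinates, with (a :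
b) ↦ (aⁿ : bⁿ) for some n. The published statement leaves implicit that the ground field is
algebraically closed and that C is a connected smooth proper curve; its argument uses both, and over
a non-closed field the projective line over a finite extension is a connected cover with no
ramification.) -/
theorem result (k : Type u) [Field k]
    [IsAlgClosed k] [CharZero k] {C : Scheme.{u}} (s : C ⟶ Spec (CommRingCat.of k))
    [IsProper s] [SmoothOfRelativeDimension 1 s] [ConnectedSpace C]
    (f : C ⟶ CohB1.ProjSpace 1 k) (hf : f ≫ CohB1.ProjSpace.toSpec 1 k = s) [Surjective f]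
    (p q : ↥(CohB1.ProjSpace 1 k)) (hp : IsClosed ({p} : Set ↥(CohB1.ProjSpace 1 k))) (hq : IsClosed ({q} : Set ↥(CohB1.ProjSpace 1 k)))
    (W : (CohB1.ProjSpace 1 k).Opens) (hW : (W : Set ↥(CohB1.ProjSpace 1 k)) = {p, q}ᶜ) [Etale (f ∣_ W)] :
    (∃ e : C ≅ CohB1.ProjSpace 1 k, e.hom ≫ CohB1.ProjSpace.toSpec 1 k = s) ∧
      (∀ x y : C, f.base x = p → f.base y = p → x = y) ∧
      (∀ x y : C, f.base x = q → f.base y = q → x = y) := by
  classical
  letI : C.Over (Spec (CommRingCat.of k)) := ⟨s⟩
  letI : (CohB1.ProjSpace 1 k).Over (Spec (CommRingCat.of k)) := ⟨CohB1.ProjSpace.toSpec 1 k⟩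
  haveI : IsProper (C ↘ Spec (CommRingCat.of k)) := inferInstanceAs (IsProper s)
  haveI : SmoothOfRelativeDimension 1 (C ↘ Spec (CommRingCat.of k)) :=
    inferInstanceAs (SmoothOfRelativeDimension 1 s)
  haveI : Smooth s := SmoothOfRelativeDimension.smooth 1 s
  haveI : IsProper ((CohB1.ProjSpace 1 k) ↘ Spec (CommRingCat.of k)) :=
    inferInstanceAs (IsProper (CohB1.ProjSpace.toSpec 1 k))
  haveI : Smooth ((CohB1.ProjSpace 1 k) ↘ Spec (CommRingCat.of k)) :=
    inferInstanceAs (Smooth (CohB1.ProjSpace.toSpec 1 k))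
  haveI : IsLocallyNoetherian C := LocallyOfFiniteType.isLocallyNoetherian s
  haveI : IsIntegral C := (FinCond.isIntegral_iff C).2 ⟨inferInstance, fun x => by
    have : IsRegularLocalRing (C.presheaf.stalk x) := JacCrit.OverField.isRegularLocalRing_stalk s x
      (by rw [Scheme.Hom.smoothLocus_eq_top]; trivial)
    exact Regular.Quotient.isDomain _⟩
  have hC := CurveFF.EtaleTwo.curveHyp_of_relDim (k := k) C
  have hdP : topologicalKrullDim (CohB1.ProjSpace 1 k) = 1 := by
    rw [ProjSpace.Dim.topologicalKrullDim_projSpace 1 k, ringKrullDim_eq_zero_of_field]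
    simp
  have hP := CurveFF.curveHyp_of_smooth k hdP
  have hKC := CurveFF.isFunctionField (k := k) hC (Curves.GlobalSections.finrank_h0_structure k C)
  obtain ⟨h0P, hgP⟩ := Curves.DegreeOne.h0_genus_of_iso_line (k := k)
    (X := CohB1.ProjSpace 1 k) (e := Iso.refl _) (Category.id_comp _)
  have hKP := CurveFF.isFunctionField (k := k) hP h0P
  rw [CurveFF.genus_eq hP h0P] at hgP
  haveI : LocallyOfFiniteType (f ≫ CohB1.ProjSpace.toSpec 1 k) := by rw [hf]; infer_instance
  haveI : LocallyOfFiniteType f := locallyOfFiniteType_of_comp f (CohB1.ProjSpace.toSpec 1 k)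
  have e : f (genericPoint C) = genericPoint (CohB1.ProjSpace 1 k) := by
    refine (((genericPoint_spec _)).eq ?_).symm
    have h1 := (genericPoint_spec C).image f.continuous
    rwa [Set.image_univ, f.surjective.range_eq, closure_univ] at h1
  have hcl : ∀ {y : ↥(CohB1.ProjSpace 1 k)}, IsClosed ({y} : Set ↥(CohB1.ProjSpace 1 k)) →
      ∀ x : C, f x = y → IsClosed ({x} : Set C) := by
    intro y hy x hx
    refine (SmoothCurve.Curve.eq_genericPoint_or_isClosed hC.dim x).resolve_left fun hxe => ?_
    rw [hxe, e] at hx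
    rw [← hx] at hy
    have h0 := hP.dim
    have h1 : topologicalKrullDim (CohB1.ProjSpace 1 k) ≤ 0 := by
      have huniv : ({genericPoint (CohB1.ProjSpace 1 k)} : Set ↥(CohB1.ProjSpace 1 k)) = Set.univ := by
        rw [← hy.closure_eq]; exact (genericPoint_spec _)
      haveI : Subsingleton (CohB1.ProjSpace 1 k) := ⟨fun a b => by
        have ha := huniv.ge (Set.mem_univ a)
        have hb := huniv.ge (Set.mem_univ b)
        rw [Set.mem_singleton_iff] at ha hb
        rw [ha, hb]⟩
      exact topologicalKrullDim_zero_of_discreteTopology _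
    rw [h0] at h1
    exact not_lt.2 h1 zero_lt_one
  -- a second point
  obtain ⟨q', hq', hpq', hsub⟩ : ∃ q' : CurveFF.CPt (CohB1.ProjSpace 1 k), True ∧
      (q'.1 ≠ p) ∧ ({p, q} : Set ↥(CohB1.ProjSpace 1 k)) ⊆ {p, q'.1} := by
    by_cases hpq : q = p
    · obtain ⟨Q, hQ⟩ : ∃ Q, Q ≠ CurveFF.placeOf k hP ⟨p, hp⟩ := by
        obtain ⟨t, ht⟩ := FunFld.Riemann.exists_transcendental hKP
        obtain ⟨Z, hZ⟩ := FunFld.Existence.exists_zero hKP ht
        obtain ⟨P', hP'⟩ := FunFld.Existence.exists_pole hKP ht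
        by_cases h : Z = CurveFF.placeOf k hP ⟨p, hp⟩
        · exact ⟨P', fun h' => by rw [h', ← h] at hP'; omega⟩
        · exact ⟨Z, h⟩
      obtain ⟨y, rfl⟩ := CurveFF.placeOf_surjective (k := k) hP Q
      exact ⟨y, trivial, fun h => hQ (congrArg _ (Subtype.ext h)), by simp [hpq]⟩
    · exact ⟨⟨q, hq⟩, trivial, hpq, subset_rfl⟩
  set Yp := CurveFF.placeOf k hP ⟨p, hp⟩
  set Yq := CurveFF.placeOf k hP q'
  have hYne : Yp ≠ Yq := fun h => hpq' (congrArg Subtype.val (CurveFF.placeOf_injective hP h)).symm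
  have hd1 : ∀ Y, _root_.FunFld.Place.deg (k := k) (K := (CohB1.ProjSpace 1 k).functionField) Y = 1 :=
    fun Y => FunFld.Rational.deg_eq_one hKP Y
  obtain ⟨t, ht0, htdiv⟩ := FunFld.SmallGenus.exists_div_of_deg_zero hKP
    (E := Finsupp.single Yp 1 - Finsupp.single Yq 1) (by
      have h := FunFld.Riemann.riemann hKP (Finsupp.single Yp 1 - Finsupp.single Yq 1)
      rw [FunFld.Degree.deg_sub, FunFld.Degree.deg_single, FunFld.Degree.deg_single, hd1, hd1, hgP] at h
      omega)
    (by rw [FunFld.Degree.deg_sub, FunFld.Degree.deg_single, FunFld.Degree.deg_single, hd1, hd1, sub_self])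
  have hordt : ∀ Y : _root_.FunFld.Place k (CohB1.ProjSpace 1 k).functionField,
      Y.ord t = (if Y = Yp then 1 else 0) - (if Y = Yq then 1 else 0) := fun Y => by
    rw [← FunFld.Degree.div_apply hKP, ← htdiv, Finsupp.sub_apply, Finsupp.single_apply,
      Finsupp.single_apply]
    simp only [eq_comm]
  set T := CurveFF.FieldExt.kMap f e t with hTdef
  have hT0 : T ≠ 0 := (map_ne_zero _).2 ht0
  -- signs
  have hsign : ∀ (x : CurveFF.CPt C) (y : CurveFF.CPt (CohB1.ProjSpace 1 k)), f x.1 = y.1 →
      (0 < (CurveFF.placeOf k hP y).ord t → 0 < (CurveFF.placeOf k hC x).ord T) ∧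
      ((CurveFF.placeOf k hP y).ord t < 0 → (CurveFF.placeOf k hC x).ord T < 0) ∧
      ((CurveFF.placeOf k hP y).ord t = 0 → (CurveFF.placeOf k hC x).ord T = 0) := by
    intro x y hxy
    have lt : ∀ w : (CohB1.ProjSpace 1 k).functionField, w ≠ 0 →
        0 < (CurveFF.placeOf k hP y).ord w →
        0 < (CurveFF.placeOf k hC x).ord (CurveFF.FieldExt.kMap f e w) := fun w hw h => by
      have h1 := (CurveFF.CoverPlaces.val_kMap hC hP f e x y hxy w).2
        ((FunFld.Place.val_lt_one_iff _).2 (Or.inr h))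
      exact ((FunFld.Place.val_lt_one_iff _).1 h1).resolve_left ((map_ne_zero _).2 hw)
    have le : ∀ w : (CohB1.ProjSpace 1 k).functionField,
        0 ≤ (CurveFF.placeOf k hP y).ord w →
        0 ≤ (CurveFF.placeOf k hC x).ord (CurveFF.FieldExt.kMap f e w) := fun w h =>
      (FunFld.Place.val_le_one_iff _).1 ((CurveFF.CoverPlaces.val_kMap hC hP f e x y hxy w).1
        ((FunFld.Place.val_le_one_iff _).2 h))
    refine ⟨lt t ht0, fun h => ?_, fun h => ?_⟩
    · have := lt t⁻¹ (inv_ne_zero ht0) (by rw [FunFld.Place.ord_inv]; omega)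
      rw [map_inv₀, ← hTdef, FunFld.Place.ord_inv] at this
      omega
    · have := le t⁻¹ (by rw [FunFld.Place.ord_inv]; omega)
      rw [map_inv₀, ← hTdef, FunFld.Place.ord_inv] at this
      have h2 := le t h.ge
      rw [← hTdef] at h2
      omega
  have himg : ∀ x : CurveFF.CPt C, IsClosed ({f x.1} : Set ↥(CohB1.ProjSpace 1 k)) := fun x => by
    haveI : IsProper (f ≫ CohB1.ProjSpace.toSpec 1 k) := by rw [hf]; infer_instance
    haveI : IsProper f := IsProper.of_comp f (CohB1.ProjSpace.toSpec 1 k)
    rw [← Set.image_singleton (f := f)]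
    exact f.isClosedMap _ x.2
  have hTtr : Transcendental k T := by
    obtain ⟨x, hx⟩ := f.surjective p
    refine FunFld.Existence.transcendental_of_ord_ne_zero hKC
      (CurveFF.placeOf k hC ⟨x, hcl hp x hx⟩) ((hsign ⟨x, hcl hp x hx⟩ ⟨p, hp⟩ hx).1 ?_).ne'
    rw [hordt, if_pos rfl, if_neg hYne]
    norm_num
  obtain ⟨hg, hz, hp'⟩ := CurveFF.EtaleTwo.of_unramified hKC hTtr fun Q hQ => by
    obtain ⟨x, rfl⟩ := CurveFF.placeOf_surjective (k := k) hC Q
    let y : CurveFF.CPt (CohB1.ProjSpace 1 k) := ⟨f x.1, himg x⟩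
    set Y := CurveFF.placeOf k hP y
    have hy0 : Y.ord t = 0 := by
      obtain h1 | h1 | h1 := lt_trichotomy (Y.ord t) 0
      · exact absurd ((hsign x y rfl).2.1 h1) (by omega)
      · exact h1
      · exact absurd ((hsign x y rfl).1 h1) (by omega)
    have hne1 : Y ≠ Yp := fun h => by rw [h, hordt, if_pos rfl, if_neg hYne] at hy0; omega
    have hne2 : Y ≠ Yq := fun h => by rw [h, hordt, if_pos rfl, if_neg hYne.symm] at hy0; omega
    obtain ⟨c, hc⟩ := FunFld.Hasse.Param.isDegOne hKP Y t ((FunFld.Place.val_le_one_iff Y).2 hy0.ge)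
    set u := t - algebraMap k (CohB1.ProjSpace 1 k).functionField c with hu
    have hu0 : u ≠ 0 := by
      intro h
      rw [hu, sub_eq_zero] at h
      obtain h1 := hordt Yp
      rw [if_pos rfl, if_neg hYne] at h1
      exact FunFld.Existence.transcendental_of_ord_ne_zero hKP Yp (x := t) (by omega)
        (h ▸ isAlgebraic_algebraMap c)
    have huv : Y.1 u = WithZero.exp (-1) := by
      have h1 := ((FunFld.Place.val_lt_one_iff Y).1 hc).resolve_left hu0
      rw [FunFld.Place.val_eq_exp Y hu0, WithZero.exp_inj]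
      by_contra hne
      have hmem : u ∈ _root_.FunFld.L (Finsupp.single Yq 1 - Finsupp.single Y 2) := by
        refine FunFld.Degree.mem_L_iff_ord.2 (Or.inr fun Z => ?_)
        rw [Finsupp.sub_apply, Finsupp.single_apply, Finsupp.single_apply]
        have htL : t ∈ _root_.FunFld.L (Finsupp.single Yq (1 : ℤ)) := by
          refine FunFld.Degree.mem_L_iff_ord.2 (Or.inr fun W => ?_)
          rw [hordt, Finsupp.single_apply]
          split_ifs <;> (try subst_vars) <;> first | omega | (exact absurd rfl hYne) | simp_all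
        have hcL : algebraMap k (CohB1.ProjSpace 1 k).functionField c ∈
            _root_.FunFld.L (Finsupp.single Yq (1 : ℤ)) := by
          refine FunFld.Degree.L_mono (Finsupp.single_nonneg.2 zero_le_one) ?_
          rw [FunFld.Degree.L_zero hKP, Submodule.one_eq_range]
          exact ⟨c, rfl⟩
        have h2 := (FunFld.Degree.mem_L_iff_ord.1 (sub_mem htL hcL)).resolve_left hu0 Z
        rw [Finsupp.single_apply] at h2
        rw [← hu] at h2
        split_ifs at h2 ⊢ with a b
        · exact absurd (b.trans a.symm) hne2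
        all_goals (try subst_vars) <;> omega
      rw [FunFld.Degree.L_eq_bot_of_deg_neg hKP (by
        rw [FunFld.Degree.deg_sub, FunFld.Degree.deg_single, FunFld.Degree.deg_single, hd1, hd1]
        norm_num)] at hmem
      exact hu0 hmem
    refine ⟨c, ?_⟩
    have hxW : f x.1 ∈ W := by
      show f x.1 ∈ (W : Set ↥(CohB1.ProjSpace 1 k))
      rw [hW]
      intro hmem
      rcases hsub hmem with h | h
      · exact hne1 (congrArg (CurveFF.placeOf k hP) (Subtype.ext h))
      · exact hne2 (congrArg (CurveFF.placeOf k hP) (Subtype.ext h))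
    have hun := Unram.AtPrime.formallyUnramified_stalkMap_of_nhd f x.1 ⟨f ⁻¹ᵁ W, hxW, by
      rw [← morphismRestrict_ι]; infer_instance⟩
    have h3 := CurveFF.EtaleTwo.val_uniformizer hC hP f e x y rfl hun u huv
    rw [hu, map_sub] at h3
    rwa [show CurveFF.FieldExt.kMap f e (algebraMap k (CohB1.ProjSpace 1 k).functionField c) =
      algebraMap k C.functionField c from CurveFF.AutoMap.kMap_const f hf e c] at h3
  have hz' : ∀ x y : C, f.base x = p → f.base y = p → x = y := fun x y hx hy => by
    have h := hz _ _ ((hsign ⟨x, hcl hp x hx⟩ ⟨p, hp⟩ hx).1 (by rw [hordt, if_pos rfl, if_neg hYne]; omega))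
      ((hsign ⟨y, hcl hp y hy⟩ ⟨p, hp⟩ hy).1 (by rw [hordt, if_pos rfl, if_neg hYne]; omega))
    exact congrArg Subtype.val (CurveFF.placeOf_injective hC h)
  refine ⟨?_, hz', fun x y hx hy => ?_⟩
  · obtain ⟨Q⟩ := FunFld.Riemann.nonempty_place hKC
    have hQd : _root_.FunFld.Divisor.deg (Finsupp.single Q (1 : ℤ) : _root_.FunFld.Divisor k C.functionField) = 1 := by
      rw [FunFld.Degree.deg_single, FunFld.Rational.deg_eq_one hKC Q]; rfl
    have hl := FunFld.Weil.ell_eq_of_deg_ge hKC (D := Finsupp.single Q (1 : ℤ)) (by rw [hg, hQd]; norm_num)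
    rw [hQd, hg] at hl
    obtain ⟨w, hw, hwk⟩ := CurveFF.Pencil.exists_not_mem
      (V := _root_.FunFld.L (Finsupp.single Q (1 : ℤ) : _root_.FunFld.Divisor k C.functionField))
      (W := k ∙ (1 : C.functionField)) (by
      rw [finrank_span_singleton (one_ne_zero (α := C.functionField))]
      change 1 < _root_.FunFld.ell (Finsupp.single Q (1 : ℤ) : _root_.FunFld.Divisor k C.functionField)
      omega)
    have hwk' : w ∉ Set.range (algebraMap k C.functionField) := by
      rintro ⟨c, rfl⟩
      exact hwk (Submodule.mem_span_singleton.2 ⟨c, (Algebra.algebraMap_eq_smul_one c).symm⟩)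
    have htr := FunFld.Bound.transcendental_of_not_mem_range hKC hwk'
    have hle : FunFld.Degree.poleDiv (k := k) w ≤ Finsupp.single Q (1 : ℤ) := fun R => by
      rw [FunFld.Degree.poleDiv_apply hKC]
      refine max_le ?_ (Finsupp.single_nonneg.2 zero_le_one R)
      have h1 := (FunFld.Degree.mem_L_iff_ord.1 hw).resolve_left (fun h0 => hwk' ⟨0, by rw [h0, map_zero]⟩) R
      omega
    have h2 := FunFld.Degree.deg_mono hle
    rw [hQd, FunFld.Degree.deg_poleDiv hKC htr] at h2
    haveI := FunFld.Bound.finiteDimensional_adjoin_transcendental hKC htr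
    have hpos : 0 < Module.finrank (IntermediateField.adjoin k ({w} : Set C.functionField)) C.functionField :=
      Module.finrank_pos
    have htop := FunFld.Rational.adjoin_eq_top_of_deg_poleDiv hKC htr
      (by rw [FunFld.Degree.deg_poleDiv hKC htr]; omega)
    obtain ⟨φ, hφ, -, eφ, hm0, hcoord⟩ := CurveFF.exists_toP1 hC htr
    let θ : (CohB1.ProjSpace 1 k).functionField →ₐ[k] C.functionField :=
      { CurveFF.FieldExt.kMap φ eφ with commutes' := CurveFF.AutoMap.kMap_const φ hφ eφ }
    have hmU : genericPoint (CohB1.ProjSpace 1 k) ∈ Groth.Agent.H34.SplitP1.U k 0 := by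
      have hm' : φ (genericPoint C) ∈ Groth.Agent.H34.SplitP1.U k 0 := hm0
      rwa [eφ] at hm'
    have hmem : CurveFF.DoubleCover.coord φ 0 hm0 ∈ θ.fieldRange :=
      ⟨(CohB1.ProjSpace 1 k).presheaf.germ (Groth.Agent.H34.SplitP1.U k 0) _ hmU
        (Groth.Agent.H34.SplitP1.φ k 0 Polynomial.X), CurveFF.FieldExt.kMap_germ φ eφ _ hmU hm0 _⟩
    have hsurj : Function.Surjective θ := fun v => by
      rw [hcoord] at hmem
      exact IntermediateField.adjoin_simple_le_iff.2 hmem (htop ▸ IntermediateField.mem_top (x := v))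
    obtain ⟨i, hi, -⟩ := CurveFF.MapOfField.exists_iso hC hP
      (AlgEquiv.ofBijective θ ⟨θ.injective, hsurj⟩)
    exact ⟨i, hi⟩
  · by_cases hqp : q = p
    · exact hz' x y (hx.trans hqp) (hy.trans hqp)
    have hqq : q = q'.1 := (hsub (Or.inr rfl)).resolve_left hqp
    rw [hqq] at hx hy
    have h := hp' _ _ ((hsign ⟨x, hcl q'.2 x hx⟩ q' hx).2.1 (by rw [hordt, if_pos rfl, if_neg hYne.symm]; omega))
      ((hsign ⟨y, hcl q'.2 y hy⟩ q' hy).2.1 (by rw [hordt, if_pos rfl, if_neg hYne.symm]; omega))
    exact congrArg Subtype.val (CurveFF.placeOf_injective hC h)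

end Groth.Agent.S17022
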