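import Groth.Statements.S17023
import Mathlib
import Groth.Agent.Lib.JacCrit.SmoothLocal
import Groth.Agent.Lib.Regular.Quotient

set_option autoImplicit false
universe u
open FlatMor

namespace Groth.Agent.S17023

/-- Let B be a discrete valuation ring, A a B-algebra of finite type and p a prime ideal of A which lies
over the maximal ideal of B (a point of the special fibre), at which A is smooth over B (the
localization A_p is formally smooth over B), and such that B maps onto the residue field κ(p). Then
there are a discrete valuation ring B' and a ring map ψ : A → B' pulling the maximal ideal of B'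
back to p, such that the composite B → A → B' is injective, the maximal ideal of B generates the
maximal ideal of B', and B maps onto the residue field of B'; in other words Spec B' → Spec A → Spec
B is surjective and unramified with trivial residue field extension. (The published statement does
not say that the closed point of Spec B' goes to p; it is required here. The published setting takes
A essentially of finite type over a field of characteristic zero; here A is taken of finite type
over B, with no ground field.) -/
theorem result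
    (B : Type u) [CommRing B] [IsDomain B] [IsDiscreteValuationRing B]
    (A : Type u) [CommRing A] [Algebra B A] [Algebra.FiniteType B A]
    (p : Ideal A) [p.IsPrime] (hp : p.comap (algebraMap B A) = IsLocalRing.maximalIdeal B)
    [Algebra.IsSmoothAt B p]
    (hres : Function.Surjective ((algebraMap A p.ResidueField).comp (algebraMap B A))) :
    ∃ (B' : Type u) (_ : CommRing B') (_ : IsDomain B') (_ : IsDiscreteValuationRing B') (ψ : A →+* B'),
      Ideal.comap ψ (IsLocalRing.maximalIdeal B') = p ∧
      Function.Injective (ψ.comp (algebraMap B A)) ∧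
      Ideal.map (ψ.comp (algebraMap B A)) (IsLocalRing.maximalIdeal B) = IsLocalRing.maximalIdeal B' ∧
      Function.Surjective ((IsLocalRing.residue B').comp (ψ.comp (algebraMap B A))) := by
  classical
  haveI : IsNoetherianRing A := Algebra.FiniteType.isNoetherianRing B A
  haveI : Algebra.FinitePresentation B A := Algebra.FinitePresentation.of_finiteType.mp inferInstance
  let L := Localization.AtPrime p
  haveI : IsNoetherianRing L := IsLocalization.isNoetherianRing p.primeCompl L ‹_›
  haveI : Module.Flat B L := by
    obtain ⟨g, hg, hs⟩ := Algebra.IsSmoothAt.exists_notMem_smooth B p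
    haveI : Module.Flat B (Localization.Away g) := Algebra.Smooth.flat_of_isNoetherianRing B _
    letI : Algebra (Localization.Away g) L := IsLocalization.localizationAlgebraOfSubmonoidLe _ _ (Submonoid.powers g) p.primeCompl (Submonoid.powers_le.mpr hg)
    haveI : IsScalarTower A (Localization.Away g) L := IsLocalization.localization_isScalarTower_of_submonoid_le _ _ (Submonoid.powers g) p.primeCompl (Submonoid.powers_le.mpr hg)
    haveI : IsLocalization (p.primeCompl.map (algebraMap A (Localization.Away g))) L :=
      IsLocalization.isLocalization_of_submonoid_le _ _ (Submonoid.powers g) p.primeCompl (Submonoid.powers_le.mpr hg)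
    haveI : Module.Flat (Localization.Away g) L := IsLocalization.flat _ (p.primeCompl.map (algebraMap A (Localization.Away g)))
    haveI : IsScalarTower B (Localization.Away g) L := IsScalarTower.of_algebraMap_eq fun b => by
      rw [IsScalarTower.algebraMap_apply B A L, IsScalarTower.algebraMap_apply B A (Localization.Away g),
        ← IsScalarTower.algebraMap_apply A (Localization.Away g) L]
    exact Module.Flat.trans B (Localization.Away g) L
  haveI : IsLocalHom (algebraMap B L) := ⟨fun b hb => by
    by_contra hnu
    rw [IsScalarTower.algebraMap_apply B A L, IsLocalization.AtPrime.isUnit_to_map_iff L p] at hb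
    exact hb (show b ∈ p.comap (algebraMap B A) by rw [hp]; exact (IsLocalRing.mem_maximalIdeal _).mpr hnu)⟩
  haveI : Algebra.EssFiniteType B L :=
    haveI : Algebra.EssFiniteType A L := Algebra.EssFiniteType.of_isLocalization L p.primeCompl
    Algebra.EssFiniteType.comp B A L
  let J := (IsLocalRing.maximalIdeal B).map (algebraMap B L)
  haveI : IsRegularLocalRing (L ⧸ J) := Groth.Agent.Lib.JacCrit.SmoothLocal.isRegularLocalRing_fibre (algebraMap B L)
    (RingHom.essFiniteType_algebraMap.mpr ‹_›) (RingHom.formallySmooth_algebraMap.mpr ‹Algebra.IsSmoothAt B p›)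
  have hdim := Groth.Agent.Lib.JacCrit.SmoothLocal.ringKrullDim_eq_of_flat (algebraMap B L) (RingHom.flat_algebraMap_iff.mpr ‹_›)
  have hB1 : ringKrullDim B = 1 := IsPrincipalIdealRing.ringKrullDim_eq_one B (IsDiscreteValuationRing.not_isField B)
  let F := L ⧸ J
  obtain ⟨s, hs, hspan⟩ := Submodule.FG.exists_span_finset_card_eq_spanFinrank (IsNoetherian.noetherian (IsLocalRing.maximalIdeal F))
  let σ : F → L := Function.surjInv Ideal.Quotient.mk_surjective
  have hσ : ∀ z, Ideal.Quotient.mk J (σ z) = z := Function.surjInv_eq _
  let I : Ideal L := Ideal.span (((s.image σ : Finset L) : Set L))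
  have hsm : ∀ z ∈ s, σ z ∈ IsLocalRing.maximalIdeal L := fun z hz => by
    have hz' : z ∈ IsLocalRing.maximalIdeal F := by rw [← hspan]; exact Submodule.subset_span hz
    rw [IsLocalRing.mem_maximalIdeal] at hz' ⊢
    exact fun hu => hz' (hσ z ▸ hu.map _)
  have hIm : I ≤ IsLocalRing.maximalIdeal L := by
    rw [Ideal.span_le]
    intro y hy
    obtain ⟨z, hz, rfl⟩ := Finset.mem_image.mp (Finset.mem_coe.mp hy)
    exact hsm z hz
  have hJm : J ≤ IsLocalRing.maximalIdeal L := IsLocalRing.map_maximalIdeal_le _
  have hmax : IsLocalRing.maximalIdeal L ≤ I ⊔ J := by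
    intro y hy
    have hymk : Ideal.Quotient.mk J y ∈ IsLocalRing.maximalIdeal F := by
      rw [IsLocalRing.mem_maximalIdeal] at hy ⊢
      intro hu
      obtain ⟨w, hw⟩ := hu.exists_right_inv
      obtain ⟨w, rfl⟩ := Ideal.Quotient.mk_surjective w
      rw [← map_mul, ← map_one (Ideal.Quotient.mk J), Ideal.Quotient.eq] at hw
      exact (IsLocalRing.maximalIdeal.isMaximal L).ne_top ((Ideal.eq_top_iff_one _).mpr (by
        simpa using sub_mem (Ideal.mul_mem_right w _ ((IsLocalRing.mem_maximalIdeal _).mpr hy)) (hJm hw)))
    have hle : IsLocalRing.maximalIdeal F ≤ I.map (Ideal.Quotient.mk J) := by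
      rw [← hspan, Submodule.span_le]
      intro z hz
      rw [← hσ z]
      exact Ideal.mem_map_of_mem _ (Ideal.subset_span (Finset.mem_coe.mpr (Finset.mem_image_of_mem σ hz)))
    have := hle hymk
    rw [← Ideal.mem_comap, Ideal.comap_map_of_surjective _ Ideal.Quotient.mk_surjective, ← RingHom.ker_eq_comap_bot, Ideal.mk_ker] at this
    exact this
  let B' := L ⧸ I
  haveI : Nontrivial B' := Ideal.Quotient.nontrivial_iff.mpr fun h => (IsLocalRing.maximalIdeal.isMaximal L).ne_top (top_le_iff.mp (h ▸ hIm))
  haveI : IsLocalRing B' := IsLocalRing.of_surjective' (Ideal.Quotient.mk I) Ideal.Quotient.mk_surjective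
  have hm' : IsLocalRing.maximalIdeal B' = (IsLocalRing.maximalIdeal B).map ((Ideal.Quotient.mk I).comp (algebraMap B L)) := by
    rw [← Ideal.map_map]
    refine le_antisymm ?_ (le_trans (Ideal.map_mono hJm) ?_)
    · intro y hy
      obtain ⟨y, rfl⟩ := Ideal.Quotient.mk_surjective y
      have hy' : y ∈ IsLocalRing.maximalIdeal L := by
        rw [IsLocalRing.mem_maximalIdeal] at hy ⊢
        exact fun hu => hy (hu.map _)
      have h2 := Ideal.mem_map_of_mem (Ideal.Quotient.mk I) (hmax hy')
      rwa [Ideal.map_sup, Ideal.map_quotient_self, bot_sup_eq] at h2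
    · refine IsLocalRing.le_maximalIdeal fun h => ?_
      have h2 := congrArg (Ideal.comap (Ideal.Quotient.mk I)) h
      rw [Ideal.comap_map_of_surjective _ Ideal.Quotient.mk_surjective, ← RingHom.ker_eq_comap_bot, Ideal.mk_ker,
        sup_eq_left.mpr hIm, Ideal.comap_top] at h2
      exact (IsLocalRing.maximalIdeal.isMaximal L).ne_top h2
  obtain ⟨π, hπ⟩ := IsDiscreteValuationRing.exists_irreducible B
  let ψ0 : B →+* B' := (Ideal.Quotient.mk I).comp (algebraMap B L)
  have hprinc : IsLocalRing.maximalIdeal B' = Ideal.span {ψ0 π} := by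
    rw [hm', hπ.maximalIdeal_eq, Ideal.map_span, Set.image_singleton]
  have hdimB' : (1 : WithBot ℕ∞) ≤ ringKrullDim B' := by
    have h1 : ringKrullDim L ≤ ringKrullDim B' + (s.image σ).card :=
      ringKrullDim_le_ringKrullDim_quotient_add_card _ (by
        rw [IsLocalRing.ringJacobson_eq_maximalIdeal]; exact fun y hy => hIm (Ideal.subset_span hy))
    have h2 : ((s.image σ).card : WithBot ℕ∞) ≤ ringKrullDim F := by
      rw [← IsRegularLocalRing.spanFinrank_maximalIdeal (R := F), ← hs]
      exact_mod_cast Finset.card_image_le
    obtain ⟨dF, hdF⟩ : ∃ d : ℕ, ringKrullDim F = d :=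
      ⟨_, (IsRegularLocalRing.spanFinrank_maximalIdeal (R := F)).symm⟩
    rw [hdim, hB1, show ringKrullDim (L ⧸ J) = ringKrullDim F from rfl, hdF] at h1
    rw [hdF] at h2
    have hc : (s.image σ).card ≤ dF := by exact_mod_cast h2
    have h3 : (1 : WithBot ℕ∞) + dF ≤ ringKrullDim B' + dF :=
      h1.trans (add_le_add le_rfl (by exact_mod_cast hc))
    generalize ringKrullDim B' = e at h3 ⊢
    induction e using WithBot.recBotCoe with
    | bot =>
      rw [WithBot.bot_add] at h3
      exact absurd (le_bot_iff.mp h3) (by exact WithBot.coe_ne_bot)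
    | coe a =>
      induction a using ENat.recTopCoe with
      | top => exact WithBot.coe_le_coe.mpr le_top
      | coe a =>
        have h4 : ((1 + dF : ℕ) : WithBot ℕ∞) ≤ ((a + dF : ℕ) : WithBot ℕ∞) := by
          push_cast
          exact h3
        have h5 : 1 + dF ≤ a + dF := by exact_mod_cast h4
        exact_mod_cast (show 1 ≤ a by omega)
  haveI : IsRegularLocalRing B' := IsRegularLocalRing.of_spanFinrank_maximalIdeal_le B' (by
    refine le_trans ?_ hdimB'
    rw [hprinc]
    have := Submodule.spanFinrank_span_le_ncard_of_finite (R := B') (Set.finite_singleton (ψ0 π))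
    rw [Set.ncard_singleton] at this
    exact_mod_cast this)
  haveI : IsDomain B' := Groth.Agent.Lib.Regular.Quotient.isDomain B'
  have hnf : ¬ IsField B' := fun hF => by
    rw [ringKrullDim_eq_zero_of_isField hF] at hdimB'
    exact absurd hdimB' (by decide)
  haveI : IsDiscreteValuationRing B' :=
    ((IsDiscreteValuationRing.TFAE B' hnf).out 0 4).mpr (⟨⟨_, hprinc⟩⟩ : (IsLocalRing.maximalIdeal B').IsPrincipal)
  let ψ : A →+* B' := (Ideal.Quotient.mk I).comp (algebraMap A L)
  have hψ : ψ.comp (algebraMap B A) = ψ0 := by
    show ((Ideal.Quotient.mk I).comp (algebraMap A L)).comp (algebraMap B A) = _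
    rw [RingHom.comp_assoc, ← IsScalarTower.algebraMap_eq]
  have hcomap : Ideal.comap ψ (IsLocalRing.maximalIdeal B') = p := by
    haveI : IsLocalHom (Ideal.Quotient.mk I) := IsLocalHom.of_surjective _ Ideal.Quotient.mk_surjective
    rw [← Ideal.comap_comap, ((IsLocalRing.local_hom_TFAE (Ideal.Quotient.mk I)).out 0 4 rfl rfl).mp inferInstance]
    exact IsLocalization.AtPrime.under_maximalIdeal L p
  refine ⟨B', inferInstance, inferInstance, inferInstance, ψ, hcomap, ?_, ?_, ?_⟩
  · rw [hψ, injective_iff_map_eq_zero]
    intro b hb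
    by_contra hb0
    obtain ⟨k, u, rfl⟩ := IsDiscreteValuationRing.eq_unit_mul_pow_irreducible hb0 hπ
    rw [map_mul, map_pow, (u.isUnit.map ψ0).mul_right_eq_zero] at hb
    have h0 := eq_zero_of_pow_eq_zero hb
    apply hnf
    rw [IsLocalRing.isField_iff_maximalIdeal_eq, hprinc, h0, Ideal.span_singleton_eq_bot]
  · rw [hψ, ← hm']
  · intro z
    obtain ⟨y, rfl⟩ := IsLocalRing.residue_surjective z
    obtain ⟨y, rfl⟩ := Ideal.Quotient.mk_surjective y
    obtain ⟨b, hb⟩ := hres (IsLocalRing.residue L y)
    refine ⟨b, ?_⟩
    show IsLocalRing.residue B' (ψ (algebraMap B A b)) = IsLocalRing.residue B' (Ideal.Quotient.mk I y)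
    rw [← sub_eq_zero, ← map_sub, IsLocalRing.residue_eq_zero_iff]
    have h1 : algebraMap A L (algebraMap B A b) - y ∈ IsLocalRing.maximalIdeal L := by
      rw [← IsLocalRing.residue_eq_zero_iff, map_sub, sub_eq_zero]
      exact hb
    haveI : IsLocalHom (Ideal.Quotient.mk I) := IsLocalHom.of_surjective _ Ideal.Quotient.mk_surjective
    show Ideal.Quotient.mk I (algebraMap A L (algebraMap B A b)) - Ideal.Quotient.mk I y ∈ _
    rw [← map_sub, IsLocalRing.mem_maximalIdeal]
    exact fun hu => (IsLocalRing.mem_maximalIdeal _).mp h1 (isUnit_of_map_unit _ _ hu)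

end Groth.Agent.S17023
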