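import Groth.Statements.S8895
import Groth.Agent.H26.H1Scheme


set_option autoImplicit false
universe u
open CategoryTheory CategoryTheory.Limits AlgebraicGeometry TopologicalSpace
open SDiv

namespace Groth.Agent.S8895

/-- Let f : X ⟶ S be locally of finite presentation and i : Z ⟶ X a relative H_1-regular immersion. Then
(1) there is an open subscheme U ⊆ X containing the image of Z such that U ⟶ S is flat, and (2) i is
a regular immersion and remains one after any base change S' ⟶ S. -/
theorem result {Z X S : Scheme.{u}} (f : X ⟶ S) [LocallyOfFinitePresentation f] (i : Z ⟶ X)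
    (hi : RegImm.IsRelRegularImmersion RegImm.Kind.h1 f i) :
    (∃ U : X.Opens, Set.range (fun z : ↥Z => i z) ⊆ (U : Set ↥X) ∧ Flat (U.ι ≫ f)) ∧
      RegImm.IsRegularImmersion RegImm.Kind.regular i ∧
      ∀ (S' : Scheme.{u}) (g : S' ⟶ S), RegImm.IsRegularImmersion RegImm.Kind.regular (pullback.snd i (pullback.fst f g)) := by
  haveI : IsImmersion i := hi.1.1
  haveI := hi.2
  let U : X.Opens := ⟨_, Groth.Agent.H19.FlatLocus.Scheme.isOpen_flat_stalkMap (f := f)⟩
  have hzU : ∀ z : Z, i z ∈ U := fun z => Groth.Agent.H26.H1Scheme.flatAt f i z (hi.1.2 z)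
  haveI hUf : Flat (U.ι ≫ f) := Groth.Agent.H26.H1Scheme.flat_opens_comp f U fun x hx => hx
  refine ⟨⟨U, Set.range_subset_iff.mpr hzU, hUf⟩, ⟨inferInstance, fun z =>
    Groth.Agent.H26.RelQuasiScheme.regularAt_of_flatAt f i z (hzU z)
      (Groth.Agent.H26.H1Scheme.quasiAt (hi.1.2 z))⟩, fun S' g => ?_⟩
  have hX : IsPullback (pullback.fst f g) (pullback.snd f g) f g := IsPullback.of_hasPullback f g
  have hsq := IsPullback.of_hasPullback i (pullback.fst f g)
  haveI : Flat (pullback.snd i (pullback.fst f g) ≫ pullback.snd f g) :=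
    Groth.Agent.H26.RelQuasiScheme.flat_comp_baseChange f i g hX hsq
  haveI : LocallyOfFinitePresentation (pullback.snd f g) := MorphismProperty.pullback_snd f g inferInstance
  haveI : IsImmersion (pullback.snd i (pullback.fst f g)) :=
    MorphismProperty.pullback_snd (P := @IsImmersion) _ _ inferInstance
  haveI : Flat ((pullback.fst f g ⁻¹ᵁ U).ι ≫ pullback.snd f g) :=
    MorphismProperty.of_isPullback (P := @Flat) ((isPullback_morphismRestrict (pullback.fst f g) U).paste_vert hX) hUf
  refine ⟨inferInstance, fun z => Groth.Agent.H26.RelQuasiScheme.regularAt_of_flatAt (pullback.snd f g) _ z ?_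
    (Groth.Agent.H26.RelQuasiScheme.quasiAt_baseChange f i g hX hsq z
      (Groth.Agent.H26.H1Scheme.quasiAt (hi.1.2 _)))⟩
  refine Groth.Agent.H26.H1Scheme.flat_stalkMap_of_opens (pullback.snd f g) (pullback.fst f g ⁻¹ᵁ U) ⟨_, ?_⟩
  show pullback.fst f g (pullback.snd i (pullback.fst f g) z) ∈ U
  rw [← Scheme.Hom.comp_apply, ← hsq.w, Scheme.Hom.comp_apply]
  exact hzU _

end Groth.Agent.S8895
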