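import Groth.Statements.S1703
import Groth.Agent.S8895


set_option autoImplicit false
universe u
open CategoryTheory CategoryTheory.Limits AlgebraicGeometry TopologicalSpace
open SDiv

namespace Groth.Agent.S1703

/-- Let f : X ⟶ S be locally of finite presentation and 𝓘 the ideal sheaf of an effective Cartier
divisor D ⊂ X with D ⟶ S flat. Then there is an open subscheme U of X containing D such that U ⟶ S
is flat. -/
theorem result {X S : Scheme.{u}} (f : X ⟶ S) [LocallyOfFinitePresentation f] (𝓘 : X.IdealSheafData)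
    (hD : (BlowUp.IsEffCartierIdeal 𝓘 ∧ Flat (𝓘.subschemeι ≫ f))) : ∃ U : X.Opens, (𝓘.support : Set ↥X) ⊆ U ∧ Flat (U.ι ≫ f) := by
  haveI := hD.2
  have hrel : RegImm.IsRelRegularImmersion RegImm.Kind.h1 f 𝓘.subschemeι := by
    refine ⟨⟨inferInstance, fun z => ?_⟩, hD.2⟩
    obtain ⟨U, hzU, a, ha, hI⟩ := hD.1 (𝓘.subschemeι z)
    refine ⟨U, hzU, IsZariskiLocalAtTarget.restrict (inferInstance : IsClosedImmersion 𝓘.subschemeι) _, [a], ?_,
      by rw [𝓘.ker_subschemeι_app, hI, Ideal.ofList_singleton]⟩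
    intro b hb
    have h0 : b = 0 := by
      have hb' : b (⟨0, Nat.zero_lt_one⟩ : Fin [a].length) * a = 0 :=
        (Fin.sum_univ_one (fun i : Fin 1 => b i * [a].get i)).symm.trans hb
      funext k
      match k with
      | ⟨0, _⟩ => exact (mul_right_mem_nonZeroDivisors_eq_zero_iff ha).mp hb'
    rw [h0]
    exact Submodule.zero_mem _
  obtain ⟨⟨U, hU, hflat⟩, -⟩ := S8895.result f 𝓘.subschemeι hrel
  refine ⟨U, ?_, hflat⟩
  rw [← 𝓘.range_subschemeι]
  exact hU

end Groth.Agent.S1703
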