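import Groth.Statements.S17030
import Groth.Agent.S17035
import Groth.Agent.H22.CohDim.SmallComp
import Groth.Agent.H22.CohDim.IndGroth
import Groth.Agent.Lib.DerCat.DerAdj
import Groth.Agent.Lib.DerCat29.CohIn
import Groth.Agent.Lib.SpecSeq.RightHom

set_option autoImplicit false
open CategoryTheory CategoryTheory.Limits
universe u
attribute [local instance] HasDerivedCategory.standard
open FSch
set_option maxHeartbeats 1000000

namespace Groth.Agent.S17030

/-- Let f : 𝔛 ⟶ 𝔜 be a morphism of formal schemes given as systems of thickenings with quasi-compact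
underlying spaces, 𝔛 moreover adic with locally Noetherian levels (a Noetherian formal scheme). Let
A be the full subcategory of O_𝔛-modules that are small filtered colimits of coherent ones; assume
(as holds here) that it contains 0, is closed under kernels, cokernels and finite products, and that
its inclusion is exact, so that A is abelian with derived category D(A). Then the composite of the
induced functor D(A) ⥤ D(O_𝔛) with the total right derived functor Rf_* : D(O_𝔛) ⥤ D(O_𝔜) has a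
right adjoint. (The published statement gives a right adjoint compatible with the triangulated
structures.) -/
theorem result (𝔛 𝔜 : FSch.Sys.{u}) (h𝔛 : 𝔛.IsLocNoethFormal)
    [CompactSpace (𝔛.X 0)] (h𝔜 : 𝔜.IsFormal) [CompactSpace (𝔜.X 0)] (f : 𝔛 ⟶ 𝔜)
    [(ObjectProperty.ind.{u} fun 𝔊 : FSch.ModF 𝔛 h𝔛.1 => FSch.IsCohF 𝔛 h𝔛.1 𝔊).ContainsZero] [(ObjectProperty.ind.{u} fun 𝔊 : FSch.ModF 𝔛 h𝔛.1 => FSch.IsCohF 𝔛 h𝔛.1 𝔊).IsClosedUnderKernels]
    [(ObjectProperty.ind.{u} fun 𝔊 : FSch.ModF 𝔛 h𝔛.1 => FSch.IsCohF 𝔛 h𝔛.1 𝔊).IsClosedUnderCokernels] [(ObjectProperty.ind.{u} fun 𝔊 : FSch.ModF 𝔛 h𝔛.1 => FSch.IsCohF 𝔛 h𝔛.1 𝔊).IsClosedUnderFiniteProducts]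
    [PreservesFiniteLimits (ObjectProperty.ind.{u} fun 𝔊 : FSch.ModF 𝔛 h𝔛.1 => FSch.IsCohF 𝔛 h𝔛.1 𝔊).ι] [PreservesFiniteColimits (ObjectProperty.ind.{u} fun 𝔊 : FSch.ModF 𝔛 h𝔛.1 => FSch.IsCohF 𝔛 h𝔛.1 𝔊).ι]
    [SiteCmp.HasRpushD (FSch.homMor f h𝔛.1 h𝔜)] :
    ((ObjectProperty.ind.{u} fun 𝔊 : FSch.ModF 𝔛 h𝔛.1 => FSch.IsCohF 𝔛 h𝔛.1 𝔊).ι.mapDerivedCategory ⋙ SiteCmp.RpushD (FSch.homMor f h𝔛.1 h𝔜)).IsLeftAdjoint := by
  haveI := Groth.Agent.Lib.DerivedOX.Grothendieck.isGrothendieckAbelian_sheafOfModules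
    (ModSite.ringSh (𝔛.Osh h𝔛.1))
  haveI := Groth.Agent.Lib.DerivedOX.Grothendieck.isGrothendieckAbelian_sheafOfModules
    (ModSite.ringSh (𝔜.Osh h𝔜))
  haveI : (DerivedCategory.Qh (C := FSch.ModF 𝔛 h𝔛.1)).IsLeftAdjoint :=
    Groth.Agent.Lib.DerivedOX.Exists.isLeftAdjoint_Qh
  haveI := Groth.Agent.H22.IndColim.isGrothendieckAbelian_ind h𝔛
  haveI := Groth.Agent.H22.IndColim.isLeftAdjoint_ι h𝔛
  let P := ObjectProperty.ind.{u} fun 𝔊 : FSch.ModF 𝔛 h𝔛.1 => FSch.IsCohF 𝔛 h𝔛.1 𝔊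
  let adj := Adjunction.ofIsLeftAdjoint P.ι
  haveI := adj.right_adjoint_additive
  haveI hι := (Groth.Agent.Lib.DerCat.DerAdj.derivedAdj adj).leftAdjoint_preservesColimits
  let f' := FSch.homMor f h𝔛.1 h𝔜
  let R := Groth.Agent.Lib.RlimTrunc.RightPres.R f'.push
  have i : SiteCmp.RpushD f' ≅ R :=
    (Groth.Agent.Lib.DerivedOX.RightDerived.totalRightDerivedIso (SiteCmp.pushKh f')).symm
  let Φ := P.ι.mapDerivedCategory ⋙ R
  haveI : Φ.IsLeftAdjoint := Groth.Agent.H22.CohDimSmall.isLeftAdjoint_comp P.ι f'.push fun κ K => by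
    let E : κ → DerivedCategory (FSch.ModF 𝔛 h𝔛.1) := fun a => P.ι.mapDerivedCategory.obj (K.obj ⟨a⟩)
    have hE : ∀ (a : κ) (j : ℤ), P (SiteCmp.HMod (E a) j) := fun a j => by
      obtain ⟨C, ⟨e⟩⟩ : ∃ C, Nonempty (DerivedCategory.Q.obj C ≅ K.obj ⟨a⟩) :=
        ⟨_, ⟨DerivedCategory.Q.objObjPreimageIso _⟩⟩
      refine P.prop_of_iso ?_ ((DerivedCategory.homologyFunctor _ j).obj (K.obj ⟨a⟩)).property
      exact P.ι.mapIso ((DerivedCategory.homologyFunctor _ j).mapIso e.symm ≪≫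
          (DerivedCategory.homologyFunctorFactors _ j).app C) ≪≫
        ((C.sc j).mapHomologyIso P.ι).symm ≪≫
        ((DerivedCategory.homologyFunctorFactors _ j).app ((P.ι.mapHomologicalComplex _).obj C)).symm ≪≫
        (DerivedCategory.homologyFunctor _ j).mapIso
          ((Groth.Agent.Lib.DR.ExactPush.mapQ P.ι C).symm ≪≫ P.ι.mapDerivedCategory.mapIso e)
    haveI := Groth.Agent.S17035.result 𝔛 𝔜 h𝔛 h𝔜 f κ E hE
    haveI : PreservesColimit (Discrete.functor E) R := preservesColimit_of_natIso _ i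
    haveI : PreservesColimit (K ⋙ P.ι.mapDerivedCategory) R :=
      preservesColimit_of_iso_diagram R (K₁ := Discrete.functor E) (Discrete.natIso fun _ => Iso.refl _)
    show PreservesColimit K (P.ι.mapDerivedCategory ⋙ R)
    infer_instance
  exact ((Adjunction.ofIsLeftAdjoint Φ).ofNatIsoLeft (Functor.isoWhiskerLeft _ i.symm)).isLeftAdjoint

end Groth.Agent.S17030
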