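import Groth.Statements.S17032
import Groth.Agent.H22.CohDim.Bound
import Groth.Agent.H22.CohDim.Push
import Groth.Agent.H22.IndColim.Main

set_option autoImplicit false
open CategoryTheory CategoryTheory.Limits
universe u
attribute [local instance] HasDerivedCategory.standard
open FSch AlgebraicGeometry

namespace Groth.Agent.S17032

/-- Let f : 𝔛 ⟶ 𝔜 be a morphism of formal schemes given as systems of thickenings with quasi-compact
underlying spaces, 𝔛 adic with locally Noetherian levels (a Noetherian formal scheme), and assume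
the total right derived functor Rf_* on unbounded derived categories of modules exists. Then Rf_* is
bounded above on complexes with lim-coherent cohomology: there is an integer e ≥ 0 such that
whenever G ∈ D(O_𝔛) has every cohomology sheaf a small filtered colimit of coherent O_𝔛-modules and
H^i(G) = 0 for all i ≥ i₀, then H^i(Rf_* G) = 0 for all i ≥ i₀ + e. -/
theorem result (𝔛 𝔜 : FSch.Sys.{u}) (h𝔛 : 𝔛.IsLocNoethFormal)
    [CompactSpace (𝔛.X 0)] (h𝔜 : 𝔜.IsFormal) [CompactSpace (𝔜.X 0)] (f : 𝔛 ⟶ 𝔜)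
    [SiteCmp.HasRpushD (FSch.homMor f h𝔛.1 h𝔜)] :
    ∃ e : ℕ, ∀ (G : DerivedCategory (FSch.ModF 𝔛 h𝔛.1)),
      (∀ i : ℤ, (ObjectProperty.ind.{u} fun 𝔊 : FSch.ModF 𝔛 h𝔛.1 => FSch.IsCohF 𝔛 h𝔛.1 𝔊) (SiteCmp.HMod G i)) →
      ∀ i₀ : ℤ, (∀ i : ℤ, i₀ ≤ i → IsZero (SiteCmp.HMod G i)) →
        ∀ i : ℤ, i₀ + e ≤ i → IsZero (SiteCmp.HMod ((SiteCmp.RpushD (FSch.homMor f h𝔛.1 h𝔜)).obj G) i) := by
  haveI := h𝔛.2.2 0
  haveI : AlgebraicGeometry.IsNoetherian (𝔛.X 0) := {}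
  let f0 := (f : FSch.Hom 𝔛 𝔜).app 0
  let P : ObjectProperty (FSch.ModF 𝔛 h𝔛.1) :=
    ObjectProperty.ind.{u} fun 𝔊 : FSch.ModF 𝔛 h𝔛.1 => FSch.IsCohF 𝔛 h𝔛.1 𝔊
  obtain ⟨s, hsf, hs⟩ := (AlgebraicGeometry.isCompact_iff_finite_and_eq_biUnion_affineOpens
    (U := (⊤ : (𝔜.X 0).Opens))).mp isCompact_univ
  choose d hd using fun b : (𝔜.X 0).affineOpens =>
    Groth.Agent.H22.CohDim.exists_bound h𝔛 (f0 ⁻¹ᵁ b.1)
  let n := ∑ b ∈ hsf.toFinset, d b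
  let B : Set (TopologicalSpace.Opens (𝔛.X 0)) := {W | AlgebraicGeometry.IsAffineOpen (W : (𝔛.X 0).Opens)}
  let B' : Set (TopologicalSpace.Opens (𝔜.X 0)) :=
    {O | ∃ b ∈ s, ∃ g : Γ(𝔜.X 0, b.1), O = (𝔜.X 0).basicOpen g}
  have hB' : TopologicalSpace.Opens.IsBasis B' := by
    refine TopologicalSpace.Opens.isBasis_iff_nbhd.2 fun {U x} hx => ?_
    have hx' : x ∈ (⊤ : (𝔜.X 0).Opens) := trivial
    rw [hs] at hx'
    obtain ⟨b, hx'⟩ := TopologicalSpace.Opens.mem_iSup.1 hx'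
    obtain ⟨hb, hxb⟩ := TopologicalSpace.Opens.mem_iSup.1 hx'
    obtain ⟨g, hgU, hxg⟩ := b.2.exists_basicOpen_le ⟨x, hx⟩ hxb
    exact ⟨_, ⟨b, hb, g, rfl⟩, hxg, hgU⟩
  have hn : ∀ M, P M → Groth.Agent.H22.CohDimPush.AcyAbove ((FSch.homMor f h𝔛.1 h𝔜).fn.obj '' B') n M := by
    rintro M hM _ ⟨O, ⟨b, hb, g, rfl⟩, rfl⟩ q hq
    have hdn : d b ≤ n := Finset.single_le_sum (f := d) (fun _ _ => Nat.zero_le _) (hsf.mem_toFinset.2 hb)
    have e : f0 ⁻¹ᵁ (𝔜.X 0).basicOpen g = (𝔛.X 0).basicOpen (f0.app b.1 g) :=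
      AlgebraicGeometry.Scheme.preimage_basicOpen f0 g
    have h := hd b _ (Groth.Agent.H22.CohDim.basicOpen_mem_uniform (f0 ⁻¹ᵁ b.1) (f0.app b.1 g))
      ((𝔛.X 0).basicOpen_le _) M hM (q + 1) (by omega)
    rw [← e] at h
    exact h
  refine ⟨n, fun G hG i₀ h0 i hi => ?_⟩
  exact Groth.Agent.H22.CohDimPush.isZero_HMod_RpushD (FSch.homMor f h𝔛.1 h𝔜) B' hB' B
    (AlgebraicGeometry.Scheme.isBasis_affineOpens _) P
    (fun M hM V hV q => Groth.Agent.H30.AffAcyclic.subsingleton_ind h𝔛 hV M hM (q + 1) (by omega))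
    n hn G hG (i₀ - 1) (fun j hj => h0 j (by omega)) i (by omega)

end Groth.Agent.S17032
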