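import Groth.Statements.S17033
import Groth.Agent.H30.FSch.RpushDCoh
import Groth.Agent.S13637

set_option autoImplicit false
set_option linter.style.haveILetI false
open CategoryTheory CategoryTheory.Limits
universe u
attribute [local instance] HasDerivedCategory.standard
open FSch

namespace Groth.Agent.S17033

/-- Let f : 𝔛 ⟶ 𝔜 be a proper morphism of Noetherian formal schemes (adic systems of thickenings with
locally Noetherian levels and quasi-compact underlying spaces; f adic with proper morphism of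
smallest levels), and assume the total right derived functor Rf_* exists on unbounded derived
categories of modules. Then Rf_* carries complexes with coherent cohomology sheaves (no boundedness
assumed) to complexes with coherent cohomology sheaves. -/
theorem result (𝔛 𝔜 : FSch.Sys.{u}) (h𝔛 : 𝔛.IsLocNoethFormal) (h𝔜 : 𝔜.IsLocNoethFormal)
    [CompactSpace (𝔛.X 0)] [CompactSpace (𝔜.X 0)] (f : 𝔛 ⟶ 𝔜) (hf : FSch.IsProperHom f)
    [SiteCmp.HasRpushD (FSch.homMor f h𝔛.1 h𝔜.1)] (G : DerivedCategory (FSch.ModF 𝔛 h𝔛.1))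
    (hG : ∀ i : ℤ, FSch.IsCohF 𝔛 h𝔛.1 (SiteCmp.HMod G i)) (i : ℤ) :
    FSch.IsCohF 𝔜 h𝔜.1 (SiteCmp.HMod ((SiteCmp.RpushD (FSch.homMor f h𝔛.1 h𝔜.1)).obj G) i) := by
  haveI : HasInjectiveResolutions (FSch.ModF 𝔛 h𝔛.1) := inferInstance
  haveI := Groth.Agent.H30.CohSerre.isWeakSerre h𝔛
  haveI := Groth.Agent.H30.CohSerre.isWeakSerre h𝔜
  haveI : AlgebraicGeometry.IsProper ((f : FSch.Hom 𝔛 𝔜).app 0) := hf.2
  exact Groth.Agent.H30.RpushDCoh.cohIn h𝔛 h𝔜 f inferInstance
    (fun F : FSch.ModF 𝔛 h𝔛.1 => FSch.IsCohF 𝔛 h𝔛.1 F)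
    (fun M hM V hV q => Groth.Agent.H30.AffAcyclic.subsingleton_isCohF h𝔛 hV M hM (q + 1) (Nat.succ_pos q))
    (fun F : FSch.ModF 𝔜 h𝔜.1 => FSch.IsCohF 𝔜 h𝔜.1 F)
    (fun M hM p => Groth.Agent.S13637.result 𝔛 𝔜 h𝔛 h𝔜 f hf M hM p) G hG i

end Groth.Agent.S17033
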