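import Groth.Statements.S17036
import Groth.Agent.H30.FSch.AffAcyclic
import Groth.Agent.H30.FSch.AcycPush

set_option autoImplicit false
open CategoryTheory CategoryTheory.Limits
universe u
open FSch

namespace Groth.Agent.S17036

/-- Let g : 𝔛 ⟶ 𝔜 be a morphism of locally Noetherian formal schemes (adic systems of thickenings with
locally Noetherian levels) whose morphism of smallest levels is an affine morphism of schemes. Then
for every O_𝔛-module M that is a small filtered colimit of coherent O_𝔛-modules, the higher direct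
images R^i g_* M vanish for all i > 0. -/
theorem result (𝔛 𝔜 : FSch.Sys.{u}) (h𝔛 : 𝔛.IsLocNoethFormal) (h𝔜 : 𝔜.IsLocNoethFormal)
    (g : 𝔛 ⟶ 𝔜) [AlgebraicGeometry.IsAffineHom ((g : FSch.Hom 𝔛 𝔜).app 0)]
    [HasInjectiveResolutions (FSch.ModF 𝔛 h𝔛.1)]
    (𝔐 : FSch.ModF 𝔛 h𝔛.1) (h𝔐 : (ObjectProperty.ind.{u} fun 𝔊 : FSch.ModF 𝔛 h𝔛.1 => FSch.IsCohF 𝔛 h𝔛.1 𝔊) 𝔐) (i : ℕ) (hi : 0 < i) :
    IsZero ((FSch.RpushF g h𝔛.1 h𝔜.1 i).obj 𝔐) := by
  haveI : AlgebraicGeometry.IsLocallyNoetherian (𝔛.X 0) := h𝔛.2.2 0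
  haveI : PrespectralSpace (𝔛.X 0) := inferInstance
  haveI : QuasiSeparatedSpace (𝔛.X 0) := inferInstance
  obtain ⟨k, rfl⟩ : ∃ k, i = k + 1 := ⟨i - 1, by omega⟩
  refine Groth.Agent.H30.AcycPush.isZero (FSch.homMor g h𝔛.1 h𝔜.1)
    {V | AlgebraicGeometry.IsAffineOpen (V : (𝔜.X 0).Opens)} (AlgebraicGeometry.Scheme.isBasis_affineOpens _) 𝔐 ?_ k
  rintro W ⟨V, hV, rfl⟩ q
  exact Groth.Agent.H30.AffAcyclic.subsingleton_ind h𝔛 (AlgebraicGeometry.IsAffineOpen.preimage hV ((g : FSch.Hom 𝔛 𝔜).app 0))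
    𝔐 h𝔐 (q + 1) (Nat.succ_pos q)

end Groth.Agent.S17036
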