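import Groth.Statements.S17050
import Groth.Agent.S17035
import Groth.Agent.H22.CohDim.SmallComp
import Groth.Agent.H22.CohDim.QCTGroth
import Groth.Agent.Lib.DerCat.DerAdj
import Groth.Agent.Lib.DerCat29.CohIn
import Groth.Agent.Lib.SpecSeq.RightHom

set_option autoImplicit false
open CategoryTheory CategoryTheory.Limits
universe u
attribute [local instance] HasDerivedCategory.standard
open FTors

namespace Groth.Agent.S17050

/-- Let f : 𝔛 ⟶ 𝔜 be a morphism of Noetherian formal schemes (adic systems of thickenings with locally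
Noetherian levels and quasi-compact underlying spaces), and assume the total right derived functor
Rf_* exists on unbounded derived categories of modules. Let A_qct be the full subcategory of
quasi-coherent torsion O_𝔛-modules, assumed (as holds) to contain 0, to be closed under kernels,
cokernels and finite products and to have exact inclusion; assume further that the induced functor
D(A_qct) ⥤ D(O_𝔛) is fully faithful with essential image D_qct(𝔛), the complexes with quasi-coherent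
torsion cohomology sheaves — the case the published proof establishes first, valid when 𝔛 is
separated or of finite Krull dimension. Then the restriction of Rf_* to D_qct(𝔛) has a right
adjoint. (The published statement also removes the hypothesis on 𝔛 when f is separated, by gluing
over an open cover, and gives a bounded-below right adjoint compatible with the triangulated
structures.) -/
theorem result (𝔛 𝔜 : FSch.Sys.{u}) (h𝔛 : 𝔛.IsLocNoethFormal) (h𝔜 : 𝔜.IsLocNoethFormal)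
    [CompactSpace (𝔛.X 0)] [CompactSpace (𝔜.X 0)] (f : 𝔛 ⟶ 𝔜)
    [SiteCmp.HasRpushD (FSch.homMor f h𝔛.1 h𝔜.1)]
    [(FTors.IsQCT 𝔛 h𝔛.1).ContainsZero] [(FTors.IsQCT 𝔛 h𝔛.1).IsClosedUnderKernels]
    [(FTors.IsQCT 𝔛 h𝔛.1).IsClosedUnderCokernels] [(FTors.IsQCT 𝔛 h𝔛.1).IsClosedUnderFiniteProducts]
    [PreservesFiniteLimits (FTors.IsQCT 𝔛 h𝔛.1).ι] [PreservesFiniteColimits (FTors.IsQCT 𝔛 h𝔛.1).ι]
    (hj : (FTors.IsQCT 𝔛 h𝔛.1).ι.mapDerivedCategory.Full ∧ (FTors.IsQCT 𝔛 h𝔛.1).ι.mapDerivedCategory.Faithful ∧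
      ∀ G : DerivedCategory (FSch.ModF 𝔛 h𝔛.1),
        (FTors.IsQCT 𝔛 h𝔛.1).ι.mapDerivedCategory.essImage G ↔ FTors.IsDQCT 𝔛 h𝔛.1 G) :
    ((FTors.IsDQCT 𝔛 h𝔛.1).ι ⋙ SiteCmp.RpushD (FSch.homMor f h𝔛.1 h𝔜.1)).IsLeftAdjoint := by
  haveI := Groth.Agent.Lib.DerivedOX.Grothendieck.isGrothendieckAbelian_sheafOfModules
    (ModSite.ringSh (𝔛.Osh h𝔛.1))
  haveI := Groth.Agent.Lib.DerivedOX.Grothendieck.isGrothendieckAbelian_sheafOfModules
    (ModSite.ringSh (𝔜.Osh h𝔜.1))
  haveI : (DerivedCategory.Qh (C := FSch.ModF 𝔛 h𝔛.1)).IsLeftAdjoint :=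
    Groth.Agent.Lib.DerivedOX.Exists.isLeftAdjoint_Qh
  haveI := Groth.Agent.H22.QCTGroth.isGrothendieckAbelian h𝔛
  haveI := Groth.Agent.H30.TorsClosure.isLeftAdjoint_ι h𝔛
  let P := FTors.IsQCT 𝔛 h𝔛.1
  let adj := Adjunction.ofIsLeftAdjoint P.ι
  haveI := adj.right_adjoint_additive
  haveI hι := (Groth.Agent.Lib.DerCat.DerAdj.derivedAdj adj).leftAdjoint_preservesColimits
  let f' := FSch.homMor f h𝔛.1 h𝔜.1
  let R := Groth.Agent.Lib.RlimTrunc.RightPres.R f'.push
  haveI : P.IsClosedUnderIsomorphisms := ⟨fun {X Y} e hX => ⟨Groth.Agent.H30.TorsClosure.isTors_of_epi e.hom hX.1,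
    (SheafOfModules.isQuasicoherent (ModSite.ringSh (𝔛.Osh h𝔛.1))).prop_of_iso e hX.2⟩⟩
  have i : SiteCmp.RpushD f' ≅ R :=
    (Groth.Agent.Lib.DerivedOX.RightDerived.totalRightDerivedIso (SiteCmp.pushKh f')).symm
  let Φ := P.ι.mapDerivedCategory ⋙ R
  haveI : Φ.IsLeftAdjoint := Groth.Agent.H22.CohDimSmall.isLeftAdjoint_comp P.ι f'.push fun κ K => by
    let E : κ → DerivedCategory (FSch.ModF 𝔛 h𝔛.1) := fun a => P.ι.mapDerivedCategory.obj (K.obj ⟨a⟩)
    have hE : ∀ (a : κ) (j : ℤ), P (SiteCmp.HMod (E a) j) := fun a j => by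
      obtain ⟨C, ⟨e⟩⟩ : ∃ C, Nonempty (DerivedCategory.Q.obj C ≅ K.obj ⟨a⟩) :=
        ⟨_, ⟨DerivedCategory.Q.objObjPreimageIso _⟩⟩
      refine P.prop_of_iso ?_ ((DerivedCategory.homologyFunctor _ j).obj (K.obj ⟨a⟩)).property
      exact P.ι.mapIso ((DerivedCategory.homologyFunctor _ j).mapIso e.symm ≪≫
          (DerivedCategory.homologyFunctorFactors _ j).app C) ≪≫
        ((C.sc j).mapHomologyIso P.ι).symm ≪≫
        ((DerivedCategory.homologyFunctorFactors _ j).app ((P.ι.mapHomologicalComplex _).obj C)).symm ≪≫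
        (DerivedCategory.homologyFunctor _ j).mapIso
          ((Groth.Agent.Lib.DR.ExactPush.mapQ P.ι C).symm ≪≫ P.ι.mapDerivedCategory.mapIso e)
    haveI := Groth.Agent.S17035.result 𝔛 𝔜 h𝔛 h𝔜.1 f κ E fun a j => Groth.Agent.H30.TorsClosure.ind_of_isQCT h𝔛 (hE a j)
    haveI : PreservesColimit (Discrete.functor E) R := preservesColimit_of_natIso _ i
    haveI : PreservesColimit (K ⋙ P.ι.mapDerivedCategory) R :=
      preservesColimit_of_iso_diagram R (K₁ := Discrete.functor E) (Discrete.natIso fun _ => Iso.refl _)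
    show PreservesColimit K (P.ι.mapDerivedCategory ⋙ R)
    infer_instance
  obtain ⟨hfull, hfaith, hess⟩ := hj
  let L : DerivedCategory P.FullSubcategory ⥤ (FTors.IsDQCT 𝔛 h𝔛.1).FullSubcategory :=
    (FTors.IsDQCT 𝔛 h𝔛.1).lift P.ι.mapDerivedCategory fun X => (hess _).1 ⟨X, ⟨Iso.refl _⟩⟩
  have eL : L ⋙ (FTors.IsDQCT 𝔛 h𝔛.1).ι ≅ P.ι.mapDerivedCategory := Iso.refl _
  haveI : L.Full := Functor.Full.of_comp_faithful_iso eL
  haveI : L.Faithful := Functor.Faithful.of_comp_iso eL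
  haveI : L.EssSurj := ⟨fun G => by
    obtain ⟨X, ⟨e⟩⟩ := (hess G.obj).2 G.property
    exact ⟨X, ⟨(FTors.IsDQCT 𝔛 h𝔛.1).fullyFaithfulι.preimageIso e⟩⟩⟩
  haveI : L.IsEquivalence := {}
  let eq := L.asEquivalence
  have j : eq.inverse ⋙ Φ ≅ (FTors.IsDQCT 𝔛 h𝔛.1).ι ⋙ SiteCmp.RpushD f' :=
    Functor.isoWhiskerLeft _ (Functor.isoWhiskerRight eL.symm R ≪≫ Functor.associator _ _ _) ≪≫
      (Functor.associator _ _ _).symm ≪≫ Functor.isoWhiskerRight eq.counitIso _ ≪≫ Functor.leftUnitor _ ≪≫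
      Functor.isoWhiskerLeft _ i.symm
  exact ((Adjunction.ofIsLeftAdjoint (eq.inverse ⋙ Φ)).ofNatIsoLeft j).isLeftAdjoint

end Groth.Agent.S17050
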