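import Groth.Statements.S17059
import Groth.Agent.H30.FSch.RpushDCoh
import Groth.Agent.H30.FSch.TorsPush

set_option autoImplicit false
set_option linter.style.haveILetI false
open CategoryTheory CategoryTheory.Limits
universe u
attribute [local instance] HasDerivedCategory.standard
open FTors

namespace Groth.Agent.S17059

/-- Let f : 𝔛 ⟶ 𝔜 be a pseudo-proper morphism of Noetherian formal schemes (adic systems of thickenings
with locally Noetherian levels, quasi-compact underlying spaces; the morphism of smallest levels is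
proper, adicness not assumed), and assume Rf_* exists on unbounded derived categories of modules. If
F ∈ D(O_𝔛) has quasi-coherent torsion cohomology sheaves which are coherent, then Rf_* F has
coherent cohomology sheaves. -/
theorem result (𝔛 𝔜 : FSch.Sys.{u}) (h𝔛 : 𝔛.IsLocNoethFormal) (h𝔜 : 𝔜.IsLocNoethFormal)
    [CompactSpace (𝔛.X 0)] [CompactSpace (𝔜.X 0)] (f : 𝔛 ⟶ 𝔜)
    [AlgebraicGeometry.IsProper ((f : FSch.Hom 𝔛 𝔜).app 0)]
    [SiteCmp.HasRpushD (FSch.homMor f h𝔛.1 h𝔜.1)] (F : DerivedCategory (FSch.ModF 𝔛 h𝔛.1))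
    (hF : FTors.IsDQCT 𝔛 h𝔛.1 F) (hFc : ∀ i : ℤ, FSch.IsCohF 𝔛 h𝔛.1 (SiteCmp.HMod F i)) (i : ℤ) :
    FSch.IsCohF 𝔜 h𝔜.1 (SiteCmp.HMod ((SiteCmp.RpushD (FSch.homMor f h𝔛.1 h𝔜.1)).obj F) i) := by
  haveI : HasInjectiveResolutions (FSch.ModF 𝔛 h𝔛.1) := inferInstance
  haveI := Groth.Agent.H30.TorsCoh.isWeakSerre h𝔛
  haveI := Groth.Agent.H30.CohSerre.isWeakSerre h𝔜
  exact Groth.Agent.H30.RpushDCoh.cohIn h𝔛 h𝔜 f inferInstance (Groth.Agent.H30.TorsCoh.Bdd h𝔛)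
    (fun M hM V hV q => Groth.Agent.H30.AffAcyclic.subsingleton_isCohF h𝔛 hV M hM.1 (q + 1) (Nat.succ_pos q))
    (fun F : FSch.ModF 𝔜 h𝔜.1 => FSch.IsCohF 𝔜 h𝔜.1 F)
    (fun M hM p => Groth.Agent.H30.TorsPush.isCohF_rpush h𝔛 h𝔜 f M hM p) F
    (fun j => Groth.Agent.H30.TorsCoh.bdd_of_isTors h𝔛 _ (hFc j) (hF j).1) i

end Groth.Agent.S17059
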