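import Groth.Statements.S17062
import Groth.Agent.H22.CohDim.Bound
import Groth.Agent.H22.CohDim.Push
import Groth.Agent.H22.CohDim.Sections

set_option autoImplicit false
open CategoryTheory CategoryTheory.Limits
universe u
attribute [local instance] HasDerivedCategory.standard
open FSch

namespace Groth.Agent.S17062

/-- Let 𝔛 be a Noetherian formal scheme (adic system of thickenings with locally Noetherian levels and
quasi-compact underlying space). Then RΓ(𝔛, –) is bounded above on complexes with lim-coherent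
cohomology sheaves: there is e ≥ 0 such that whenever G ∈ D(O_𝔛) has every cohomology sheaf a small
filtered colimit of coherent O_𝔛-modules and H^i(G) = 0 for all i ≥ i₀, the groups Hom_{D(O_𝔛)}(O_𝔛,
G[i]) (the hypercohomology H^i(𝔛, G)) vanish for all i ≥ i₀ + e. -/
theorem result (𝔛 : FSch.Sys.{u}) (h𝔛 : 𝔛.IsLocNoethFormal) [CompactSpace (𝔛.X 0)] :
    ∃ e : ℕ, ∀ (G : DerivedCategory (FSch.ModF 𝔛 h𝔛.1)),
      (∀ i : ℤ, (ObjectProperty.ind.{u} fun 𝔊 : FSch.ModF 𝔛 h𝔛.1 => FSch.IsCohF 𝔛 h𝔛.1 𝔊) (SiteCmp.HMod G i)) →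
      ∀ i₀ : ℤ, (∀ i : ℤ, i₀ ≤ i → IsZero (SiteCmp.HMod G i)) →
        ∀ i : ℤ, i₀ + e ≤ i →
          Subsingleton (SiteCmp.inD (𝔛.Osh h𝔛.1) (FSch.unitF 𝔛 h𝔛.1) ⟶ (shiftFunctor (DerivedCategory (FSch.ModF 𝔛 h𝔛.1)) i).obj G) := by
  obtain ⟨d, hd⟩ := Groth.Agent.H22.CohDim.exists_bound_top h𝔛
  refine ⟨d, fun G hG i₀ h0 i hi => ?_⟩
  refine Groth.Agent.H22.CohDimSections.subsingleton_hom (𝔛.Osh h𝔛.1)
    (ObjectProperty.ind.{u} fun 𝔊 : FSch.ModF 𝔛 h𝔛.1 => FSch.IsCohF 𝔛 h𝔛.1 𝔊)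
    {W | AlgebraicGeometry.IsAffineOpen (W : (𝔛.X 0).Opens)}
    (AlgebraicGeometry.Scheme.isBasis_affineOpens _) ?_ d (fun M hM k hk => hd M hM k hk) G hG (i₀ - 1)
    (fun j hj => h0 j (by omega)) i (by omega)
  intro M hM V hV q
  haveI := h𝔛.2.2 0
  haveI : AlgebraicGeometry.IsNoetherian (𝔛.X 0) := {}
  exact Groth.Agent.H30.AffAcyclic.subsingleton_ind h𝔛 hV M hM (q + 1) (by omega)

end Groth.Agent.S17062
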