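import Groth.Statements.S17065
import Mathlib.RingTheory.Filtration
import Mathlib.RingTheory.AdicCompletion.Algebra

set_option autoImplicit false
universe u
open CAlg

namespace Groth.Agent.S17065

/-- The local algebraic statement its proof establishes: let A be a Noetherian ring, I ≤ J radical
ideals and Â the J-adic completion of A. If J^n Â ⊆ I Â for some n, then the closed set V(J) is open
inside V(I) ⊆ Spec A. (Globally: if X₂ ⊆ X₁ are the completions of a locally Noetherian scheme along
nested closed subsets Z₂ ⊆ Z₁ and the ideal of Z₁ generates an ideal of definition of X₂, then X₂ is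
a union of connected components of X₁.) -/
theorem result (A : Type u) [CommRing A] [IsNoetherianRing A]
    (I J : Ideal A) (hIJ : I ≤ J) (hI : I.IsRadical) (hJ : J.IsRadical) (n : ℕ)
    (h : (J ^ n).map (algebraMap A (AdicCompletion J A)) ≤ I.map (algebraMap A (AdicCompletion J A))) :
    IsOpen ((fun x : PrimeSpectrum.zeroLocus (I : Set A) => (x : PrimeSpectrum A)) ⁻¹'
      PrimeSpectrum.zeroLocus (J : Set A)) := by
  -- elements of `J ^ n` lie in `I + J ^ m` for all `m`, so some `1 - j` multiplies them into `I`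
  have key : ∀ x ∈ J ^ n, ∃ r ∈ J, (1 - r) * x ∈ I := by
    intro x hx
    have hxI : ∀ m, Ideal.Quotient.mk (J ^ m) x ∈ I.map (Ideal.Quotient.mk (J ^ m)) := by
      intro m
      have h1 := h (Ideal.mem_map_of_mem _ hx)
      have h2 := Ideal.mem_map_of_mem (AdicCompletion.evalₐ J m).toRingHom h1
      rw [Ideal.map_map] at h2
      have hc : (AdicCompletion.evalₐ J m).toRingHom.comp (algebraMap A (AdicCompletion J A)) =
          Ideal.Quotient.mk (J ^ m) := by
        ext y; exact (AdicCompletion.evalₐ J m).commutes y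
      rw [hc] at h2
      simpa [← RingHom.congr_fun hc x] using h2
    have hmem : (Ideal.Quotient.mk I x) ∈ (⨅ i : ℕ, J ^ i • ⊤ : Submodule A (A ⧸ I)) := by
      rw [Submodule.mem_iInf]
      intro i
      obtain ⟨y, hy, hyx⟩ := (Ideal.mem_map_iff_of_surjective _ Ideal.Quotient.mk_surjective).mp (hxI i)
      have h3 : Ideal.Quotient.mk I x = (x - y) • (1 : A ⧸ I) := by
        rw [Algebra.smul_def, mul_one, Ideal.Quotient.algebraMap_eq, map_sub,
          Ideal.Quotient.eq_zero_iff_mem.mpr hy, sub_zero]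
      rw [h3]
      exact Submodule.smul_mem_smul (Ideal.Quotient.eq.mp hyx.symm) trivial
    obtain ⟨r, hr⟩ := (J.mem_iInf_smul_pow_eq_bot_iff _).mp hmem
    refine ⟨r, r.2, Ideal.Quotient.eq_zero_iff_mem.mp ?_⟩
    rw [Algebra.smul_def, Ideal.Quotient.algebraMap_eq] at hr
    rw [map_mul, map_sub, map_one, sub_mul, one_mul, hr, sub_self]
  choose! r hr hrx using key
  obtain ⟨s, hs⟩ := (IsNoetherian.noetherian (J ^ n) : (J ^ n).FG)
  let g : A := ∏ x ∈ s, (1 - r x)
  have hg : 1 - g ∈ J := by
    rw [← Ideal.Quotient.eq_zero_iff_mem, map_sub, map_one, sub_eq_zero, map_prod]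
    exact (Finset.prod_eq_one fun x hx => by
      rw [map_sub, map_one, Ideal.Quotient.eq_zero_iff_mem.mpr (hr x (hs ▸ Submodule.subset_span hx)),
        sub_zero]).symm
  have hgJ : ∀ x ∈ J ^ n, g * x ∈ I := by
    intro x hx
    rw [← hs] at hx
    induction hx using Submodule.span_induction with
    | mem x hx =>
      obtain ⟨d, hd⟩ : (1 - r x) ∣ g := Finset.dvd_prod_of_mem (fun x => 1 - r x) hx
      rw [hd, mul_right_comm]
      exact I.mul_mem_right d (hrx x (hs ▸ Submodule.subset_span hx))
    | zero => simp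
    | add y z _ _ hy hz => rw [mul_add]; exact I.add_mem hy hz
    | smul a y _ hy => rw [smul_eq_mul, mul_left_comm]; exact I.mul_mem_left a hy
  have hJI : ∀ q : PrimeSpectrum A, I ≤ q.asIdeal → g ∉ q.asIdeal → J ≤ q.asIdeal := by
    intro q hq hgq
    have : J ^ n ≤ q.asIdeal := fun x hx => (q.2.mem_or_mem (hq (hgJ x hx))).resolve_left hgq
    exact fun x hx => q.2.mem_of_pow_mem n (this (Ideal.pow_mem_pow hx n))
  have heq : ((fun x : PrimeSpectrum.zeroLocus (I : Set A) => (x : PrimeSpectrum A)) ⁻¹'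
      PrimeSpectrum.zeroLocus (J : Set A)) = (fun x : PrimeSpectrum.zeroLocus (I : Set A) =>
        (x : PrimeSpectrum A)) ⁻¹' (PrimeSpectrum.basicOpen g : Set (PrimeSpectrum A)) := by
    ext ⟨q, hq⟩
    simp only [Set.mem_preimage, PrimeSpectrum.mem_zeroLocus, SetLike.coe_subset_coe,
      SetLike.mem_coe, PrimeSpectrum.mem_basicOpen] at hq ⊢
    refine ⟨fun h2 hgq => q.2.ne_top ((Ideal.eq_top_iff_one _).mpr ?_), hJI q hq⟩
    have := q.asIdeal.add_mem (h2 hg) hgq
    rwa [sub_add_cancel] at this
  rw [heq]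
  exact (PrimeSpectrum.basicOpen g).isOpen.preimage continuous_subtype_val

end Groth.Agent.S17065
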