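import Groth.Statements.S17069
import Groth.Agent.H22.Gam.PullTors
-- import your own Groth.Agent.* helpers here

set_option autoImplicit false
open CategoryTheory CategoryTheory.Limits AlgebraicGeometry
universe u
open FTors

namespace Groth.Agent.S17069

/-- Let X be a locally Noetherian scheme, 𝓘 a quasi-coherent ideal of O_X, X̂ the completion of X along
𝓘 and κ : X̂ ⟶ X the completion morphism of ringed spaces. Then κ^* and κ_* are mutually inverse
between 𝓘-power-torsion O_X-modules and torsion O_X̂-modules: κ^* of an 𝓘-power-torsion module is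
torsion with the unit an isomorphism, and κ_* of a torsion module is 𝓘-power torsion with the counit
an isomorphism. -/
theorem result (X : Scheme.{u}) [IsLocallyNoetherian X]
    (𝓘 : X.IdealSheafData) (hX : (FSch.completionAlong X 𝓘).IsFormal) :
    (∀ N : ModSite.Mod X.sheaf, FTors.IsTorsZp X 𝓘 N →
      FTors.IsTorsF (FSch.completionAlong X 𝓘) hX ((FSch.toSchemeMor (FSch.completionAlong X 𝓘) hX (FSch.completionToX X 𝓘) (FSch.completionToX_comm X 𝓘)).pull.obj N) ∧ IsIso ((FSch.toSchemeMor (FSch.completionAlong X 𝓘) hX (FSch.completionToX X 𝓘) (FSch.completionToX_comm X 𝓘)).adj.unit.app N)) ∧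
    (∀ M : FSch.ModF (FSch.completionAlong X 𝓘) hX, FTors.IsTorsF (FSch.completionAlong X 𝓘) hX M →
      FTors.IsTorsZp X 𝓘 ((FSch.toSchemeMor (FSch.completionAlong X 𝓘) hX (FSch.completionToX X 𝓘) (FSch.completionToX_comm X 𝓘)).push.obj M) ∧ IsIso ((FSch.toSchemeMor (FSch.completionAlong X 𝓘) hX (FSch.completionToX X 𝓘) (FSch.completionToX_comm X 𝓘)).adj.counit.app M)) := by
  let h𝔛 := Groth.Agent.S3854.result X 𝓘
  let p := FSch.completionToX X 𝓘
  let hp := FSch.completionToX_comm X 𝓘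
  haveI : ∀ k, IsClosedImmersion (p k) := fun _ => inferInstance
  have hker : ∀ k (U : X.affineOpens), (p k).ker.ideal U = 𝓘.ideal U ^ (k + 1) :=
    fun k U => Groth.Agent.H30.ComplSec.ker_completionToX X 𝓘 k U
  haveI : PreservesFiniteLimits (Groth.Agent.H22.Gam.Compl.κ h𝔛 p hp).pull :=
    Groth.Agent.H30.ComplFlat.isFlat h𝔛 p hp
      (Groth.Agent.H22.Gam.Compl.hker₀ p 𝓘 hker)
  exact ⟨fun N hN => ⟨Groth.Agent.H22.Gam.PullTors.isTorsF_pull 𝓘 h𝔛 p hp hker hN,
      Groth.Agent.H22.Gam.PullTors.isIso_unit 𝓘 h𝔛 p hp hker hN⟩,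
    fun M hM => ⟨Groth.Agent.H22.Gam.PullTors.isTorsZp_push 𝓘 h𝔛 p hp hker hM,
      Groth.Agent.H22.Gam.PullTors.isIso_counit 𝓘 h𝔛 p hp hker hM⟩⟩

end Groth.Agent.S17069
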