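import Groth.Statements.S1707
import Groth.Agent.Lib.AssPt.Modules

set_option autoImplicit false
universe u
open CategoryTheory CategoryTheory.Limits AlgebraicGeometry TopologicalSpace
open SDiv

namespace Groth.Agent.S1707

open Groth.Agent.Lib Groth.Agent.Lib.AssPt.Basic Groth.Agent.Lib.AssPt.Modules


/-- Let X be a scheme, F a quasi-coherent module and x a point of the support of F such that no other
point of the support specializes to x. Then x is weakly associated to F. -/
theorem result (X : Scheme.{u}) (F : X.Modules) (hF : Coh.IsQCoh F) (x : ↥X)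
    (hx : x ∈ CohB1.support F) (hmax : ∀ y : ↥X, y ∈ CohB1.support F → y ⤳ x → y = x) : Curv2.IsWeakAssPoint F x := by
  haveI : F.IsQuasicoherent := hF
  obtain ⟨y, hyx, hy⟩ := exists_assPoint_of_stalk_nontrivial (M := F) (x := x) hx
  obtain rfl := hmax y (nontrivial_stalk_of_assPoint hy) hyx
  exact (isWeakAssPoint_iff_isAssPoint F _).mpr hy

end Groth.Agent.S1707
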