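import Groth.Statements.S17070
import Groth.Agent.H22.Gam.QctPush
-- import your own Groth.Agent.* helpers here

set_option autoImplicit false
open CategoryTheory CategoryTheory.Limits AlgebraicGeometry
universe u
open FTors

namespace Groth.Agent.S17070

/-- Quasi-coherent torsion modules, and the coherence clause: let X be a locally Noetherian scheme, 𝓘 a
quasi-coherent ideal of O_X, X̂ the completion of X along 𝓘 and κ : X̂ ⟶ X the completion morphism
of ringed spaces. Then κ^* of a quasi-coherent 𝓘-power-torsion O_X-module is a quasi-coherent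
torsion O_X̂-module; κ_* of a quasi-coherent torsion O_X̂-module M is quasi-coherent and 𝓘-power
torsion, and is coherent when M is coherent. -/
theorem result (X : Scheme.{u}) [IsLocallyNoetherian X]
    (𝓘 : X.IdealSheafData) (hX : (FSch.completionAlong X 𝓘).IsFormal) :
    (∀ N : ModSite.Mod X.sheaf, FTors.IsTorsZp X 𝓘 N → SheafOfModules.IsQuasicoherent.{u} N →
      FTors.IsQCT (FSch.completionAlong X 𝓘) hX ((FSch.toSchemeMor (FSch.completionAlong X 𝓘) hX (FSch.completionToX X 𝓘) (FSch.completionToX_comm X 𝓘)).pull.obj N)) ∧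
    (∀ M : FSch.ModF (FSch.completionAlong X 𝓘) hX, FTors.IsQCT (FSch.completionAlong X 𝓘) hX M →
      FTors.IsTorsZp X 𝓘 ((FSch.toSchemeMor (FSch.completionAlong X 𝓘) hX (FSch.completionToX X 𝓘) (FSch.completionToX_comm X 𝓘)).push.obj M) ∧ SheafOfModules.IsQuasicoherent.{u} ((FSch.toSchemeMor (FSch.completionAlong X 𝓘) hX (FSch.completionToX X 𝓘) (FSch.completionToX_comm X 𝓘)).push.obj M) ∧
      (FSch.IsCohF (FSch.completionAlong X 𝓘) hX M → Coh.IsCoh ((FSch.toSchemeMor (FSch.completionAlong X 𝓘) hX (FSch.completionToX X 𝓘) (FSch.completionToX_comm X 𝓘)).push.obj M))) := by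
  let h𝔛 := Groth.Agent.S3854.result X 𝓘
  let p := FSch.completionToX X 𝓘
  let hp := FSch.completionToX_comm X 𝓘
  haveI : ∀ k, IsClosedImmersion (p k) := fun _ => inferInstance
  have hker : ∀ k (U : X.affineOpens), (p k).ker.ideal U = 𝓘.ideal U ^ (k + 1) :=
    fun k U => Groth.Agent.H30.ComplSec.ker_completionToX X 𝓘 k U
  exact ⟨fun N hN hq => ⟨Groth.Agent.H22.Gam.PullTors.isTorsF_pull 𝓘 h𝔛 p hp hker hN,
      Groth.Agent.Lib.ModSiteLoc.PullFree.isQuasicoherent_pull
        (FSch.toSchemeMor _ h𝔛.1 p hp) hq⟩,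
    fun M hM => ⟨Groth.Agent.H22.Gam.PullTors.isTorsZp_push 𝓘 h𝔛 p hp hker hM.1,
      Groth.Agent.H22.Gam.QctPush.isQCoh_push h𝔛 p hp M hM,
      fun hc => Groth.Agent.H22.Gam.QctPush.isCoh_push h𝔛 p hp M hM hc⟩⟩

end Groth.Agent.S17070
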