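import Groth.Statements.S17073
import Groth.Agent.Lib.LCFin.Top
import Groth.Agent.Lib.LCFin.Cd
import Mathlib.LinearAlgebra.TensorProduct.Tower

set_option autoImplicit false
open CategoryTheory
universe u
open LocCoh

namespace Groth.Agent.S17073

/-- Let R → S be a homomorphism of Noetherian rings, J an ideal of S containing elements u₁, …, u_d such
that S/(u₁, …, u_d) is a finite R-module and J lies in the radical of (u₁, …, u_d), and let F be a
finite R-module. Then the functor sending an S-module E to the set Hom_R(H^d_J(E), F) (d-th local
cohomology supported in J, scalars restricted to R) is representable by an S-module. (The published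
statement gives the representing module as the degree −d cohomology of RHom_R(RΓ_J S, F) and a
bifunctorial isomorphism; only representability is asserted here.) -/
theorem result
    (R S : Type u) [CommRing R] [CommRing S] [IsNoetherianRing R] [IsNoetherianRing S] [Algebra R S]
    (J : Ideal S) (d : ℕ) (u : Fin d → S) (hu : ∀ i, u i ∈ J)
    (hJ : J ≤ (Ideal.span (Set.range u)).radical) [Module.Finite R (S ⧸ Ideal.span (Set.range u))]
    (F : Type u) [AddCommGroup F] [Module R F] [Module.Finite R F] :
    ((localCohomology J d ⋙ ModuleCat.restrictScalars (algebraMap R S)).op ⋙
      yoneda.obj (ModuleCat.of R F)).IsRepresentable := by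
  classical
  have hrad : J.radical = (Ideal.span (Set.range u)).radical := le_antisymm
    (by simpa using Ideal.radical_mono hJ)
    (Ideal.radical_mono (Ideal.span_le.2 (by rintro _ ⟨i, rfl⟩; exact hu i)))
  have hcd : LocCoh.CdLE S J d := by
    have h1 := Groth.Agent.Lib.LCFin.Cd.cdLE_mono (R := S) (I := Ideal.span ((Finset.univ.image u : Finset S) : Set S))
      (d' := d) (by simpa using Finset.card_image_le (s := (Finset.univ : Finset (Fin d))) (f := u))
      (Groth.Agent.Lib.LCFin.Cd.cdLE_card _)
    intro M _ _ i hi
    have := h1 M i hi
    exact (((localCohomology.isoOfSameRadical (J := J) (K := Ideal.span ((Finset.univ.image u : Finset S) : Set S))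
      (by simpa using hrad) i).app _).toLinearEquiv.toEquiv).subsingleton
  let H0 := LocCoh.H J d S
  letI : Module R H0 := Module.compHom H0 (algebraMap R S)
  haveI : IsScalarTower R S H0 := IsScalarTower.of_algebraMap_smul fun _ _ => rfl
  let H := (localCohomology J d ⋙ ModuleCat.restrictScalars (algebraMap R S))
  let G := H.op ⋙ yoneda.obj (ModuleCat.of R F)
  letI : Module S (H0 →ₗ[R] F) :=
    { smul := fun s φ => φ ∘ₗ ((LinearMap.lsmul S H0 s).restrictScalars R)
      one_smul := fun φ => LinearMap.ext fun h => congrArg φ (one_smul S h)
      mul_smul := fun s t φ => LinearMap.ext fun h => congrArg φ (by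
        change (s * t) • h = t • s • h
        rw [smul_smul, mul_comm])
      smul_zero := fun s => LinearMap.zero_comp _
      smul_add := fun s φ ψ => LinearMap.add_comp _ _ _
      add_smul := fun s t φ => LinearMap.ext fun h => by
        change φ ((s + t) • h) = φ (s • h) + φ (t • h)
        rw [add_smul, map_add]
      zero_smul := fun φ => LinearMap.ext fun h => by
        change φ ((0 : S) • h) = 0
        rw [zero_smul, map_zero] }
  let fwd : ∀ (E : ModuleCat.{u} S), (E →ₗ[S] (H0 →ₗ[R] F)) → (TensorProduct S H0 E →+ F) := fun E φ =>
    TensorProduct.liftAddHom
      { toFun := fun h =>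
          { toFun := fun e => φ e h
            map_zero' := by simp
            map_add' := fun a b => by simp }
        map_zero' := by ext e; simp
        map_add' := fun a b => by ext e; simp }
      (fun s h e => by
        change φ e (s • h) = φ (s • e) h
        exact (LinearMap.congr_fun (φ.map_smul s e) h).symm)
  have hbij : ∀ E : ModuleCat.{u} S, Function.Bijective (Groth.Agent.Lib.LCFin.Top.θ J d E) := fun E =>
    Groth.Agent.Lib.LCFin.Top.θ_bijective hcd
  let te : ∀ E : ModuleCat.{u} S, TensorProduct S H0 E ≃ₗ[S] LocCoh.H J d E := fun E =>
    LinearEquiv.ofBijective _ (hbij E)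
  let rsm : ∀ E : ModuleCat.{u} S, Module R (LocCoh.H J d E) := fun E => Module.compHom _ (algebraMap R S)
  refine Functor.RepresentableBy.isRepresentable (F := G) (Y := ModuleCat.of S (H0 →ₗ[R] F)) ?_
  refine
    { homEquiv := fun {E} =>
        { toFun := fun φ => ModuleCat.ofHom
            (X := (ModuleCat.restrictScalars (algebraMap R S)).obj ((localCohomology J d).obj E))
            { toFun := fun x => fwd E φ.hom ((te E).symm x)
              map_add' := fun a b => (congrArg (fwd E φ.hom) ((te E).symm.map_add a b)).trans (map_add _ _ _)
              map_smul' := fun r x => by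
                change fwd E φ.hom ((te E).symm ((algebraMap R S r) • (x : LocCoh.H J d E))) =
                  r • fwd E φ.hom ((te E).symm x)
                refine (congrArg (fwd E φ.hom) ((te E).symm.map_smul (algebraMap R S r) x)).trans ?_
                generalize (te E).symm x = t
                induction t using TensorProduct.induction_on with
                | zero => simp
                | add a b ha hb => rw [smul_add, map_add, ha, hb, map_add, smul_add]
                | tmul h e =>
                  rw [TensorProduct.smul_tmul']
                  change φ.hom e (r • h) = r • φ.hom e h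
                  rw [map_smul] }
          invFun := fun g => ModuleCat.ofHom
            { toFun := fun e =>
                { toFun := fun h => g.hom (te E (h ⊗ₜ e))
                  map_add' := fun a b => (congrArg g.hom ((congrArg (te E) (TensorProduct.add_tmul a b e)).trans
                    ((te E).map_add _ _))).trans (g.hom.map_add _ _)
                  map_smul' := fun r h => by
                    change g.hom (te E ((algebraMap R S r • h) ⊗ₜ e)) = _
                    rw [← TensorProduct.smul_tmul', map_smul]
                    exact g.hom.map_smul r _ }
              map_add' := fun a b => LinearMap.ext fun h =>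
                (congrArg g.hom ((congrArg (te E) (TensorProduct.tmul_add h a b)).trans
                    ((te E).map_add _ _))).trans (g.hom.map_add _ _)
              map_smul' := fun s e => LinearMap.ext fun h => by
                change g.hom (te E (h ⊗ₜ (s • e))) = g.hom (te E ((s • h) ⊗ₜ e))
                rw [TensorProduct.smul_tmul] }
          left_inv := fun φ => by
            refine ModuleCat.hom_ext (LinearMap.ext fun e => LinearMap.ext fun h => ?_)
            change fwd E φ.hom ((te E).symm (te E (h ⊗ₜ e))) = φ.hom e h
            rw [LinearEquiv.symm_apply_apply]
            rfl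
          right_inv := fun g => by
            refine ModuleCat.hom_ext (LinearMap.ext fun x => ?_)
            obtain ⟨t, rfl⟩ := (te E).surjective x
            change fwd E _ ((te E).symm (te E t)) = _
            rw [LinearEquiv.symm_apply_apply]
            induction t using TensorProduct.induction_on with
            | zero => rw [map_zero]; exact ((congrArg g.hom (map_zero (te E))).trans g.hom.map_zero).symm
            | tmul h e => rfl
            | add a b ha hb =>
              rw [map_add, ha, hb]
              exact ((congrArg g.hom ((te E).map_add a b)).trans (g.hom.map_add _ _)).symm }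
      homEquiv_comp := fun {E E'} f φ => ?_ }
  refine ModuleCat.hom_ext (LinearMap.ext fun x => ?_)
  obtain ⟨t, rfl⟩ := (te E).surjective x
  change fwd E (φ.hom ∘ₗ f.hom) ((te E).symm (te E t)) =
    fwd E' φ.hom ((te E').symm (Groth.Agent.Lib.LCFin.Seq.Hmap J d f.hom (te E t)))
  rw [show Groth.Agent.Lib.LCFin.Seq.Hmap J d f.hom (te E t) = te E' (f.hom.lTensor H0 t) from
    (Groth.Agent.Lib.LCFin.Top.θ_natural J d f.hom t).symm, LinearEquiv.symm_apply_apply, LinearEquiv.symm_apply_apply]
  induction t using TensorProduct.induction_on with
  | zero => simp
  | tmul h e => rfl
  | add a b ha hb => rw [map_add, ha, hb, map_add, map_add]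

end Groth.Agent.S17073
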