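import Groth.Statements.S17075
import Mathlib.AlgebraicGeometry.PullbackCarrier
import Mathlib.AlgebraicGeometry.Morphisms.Proper

set_option autoImplicit false
universe u
open CategoryTheory CategoryTheory.Limits AlgebraicGeometry
open MorSch

namespace Groth.Agent.S17075

/-- Let g : X → S be a proper morphism, i : V → X a closed immersion and j : U → X an open immersion.
Then there is an open subset S₀ of S such that, for every scheme S' and every morphism f : S' → S,
the image of f lies in S₀ if and only if the base change V ×_S S' → X ×_S S' of i factors through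
the open subscheme U ×_S S', equivalently the composite V ×_S S' → V → X has image contained in the
image of j. -/
theorem result
    {V X U S : Scheme.{u}} (g : X ⟶ S) [IsProper g] (i : V ⟶ X) [IsClosedImmersion i]
    (j : U ⟶ X) [IsOpenImmersion j] :
    ∃ S₀ : S.Opens, ∀ (S' : Scheme.{u}) (f : S' ⟶ S),
      Set.range f ⊆ (S₀ : Set S) ↔
        Set.range (pullback.fst (i ≫ g) f ≫ i) ⊆ Set.range j := by
  let K : Set S := (fun v : V => g (i v)) '' ((i ⁻¹ᵁ j.opensRange : V.Opens) : Set V)ᶜ
  have hK : IsClosed K := (i ≫ g).isClosedMap _ (i ⁻¹ᵁ j.opensRange).2.isClosed_compl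
  refine ⟨⟨Kᶜ, hK.isOpen_compl⟩, fun S' f => ?_⟩
  constructor
  · rintro h _ ⟨z, rfl⟩
    by_contra hc
    refine h ⟨pullback.snd (i ≫ g) f z, rfl⟩ ⟨pullback.fst (i ≫ g) f z, hc, ?_⟩
    exact congrArg (fun m : pullback (i ≫ g) f ⟶ S => m z) pullback.condition
  · rintro h _ ⟨s, rfl⟩ ⟨v, hc, hv⟩
    obtain ⟨z, h1, -⟩ := Scheme.Pullback.exists_preimage_pullback (f := i ≫ g) (g := f) v s hv
    exact hc (show i v ∈ Set.range j from h1 ▸ h ⟨z, rfl⟩)

end Groth.Agent.S17075
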