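import Groth.Statements.S17076
import Groth.Agent.S10888
import Mathlib.AlgebraicGeometry.Morphisms.FlatDescent
import Mathlib.AlgebraicGeometry.Fiber
import Mathlib.AlgebraicGeometry.Noetherian
import Mathlib.AlgebraicGeometry.Morphisms.FinitePresentation

set_option autoImplicit false
universe u
open CategoryTheory CategoryTheory.Limits AlgebraicGeometry
open MorSch

namespace Groth.Agent.S17076

section Helpers
open CategoryTheory.Limits

/-- The base change of a morphism over `S` is a pullback of it. -/
theorem isPullback_map {S S' : Scheme.{u}} (g : S' ⟶ S) {X Y : Over S} (f : X ⟶ Y) :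
    IsPullback (pullback.fst X.hom g) ((Over.pullback g).map f).left f.left (pullback.fst Y.hom g) := by
  refine (IsPullback.of_bot (h₃₁ := g) (v₂₁ := pullback.snd Y.hom g) (v₂₂ := Y.hom) ?_ ?_
    (IsPullback.of_hasPullback Y.hom g)).flip.flip
  · rw [Over.w, show ((Over.pullback g).map f).left ≫ pullback.snd Y.hom g = pullback.snd X.hom g from
      pullback.lift_snd _ _ _]
    exact IsPullback.of_hasPullback X.hom g
  · exact (pullback.lift_fst _ _ _).symm

theorem isIso_of_left {S : Scheme.{u}} {X Y : Over S} (f : X ⟶ Y) [IsIso f.left] : IsIso f := by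
  have : IsIso ((Over.forget S).map f) := ‹IsIso f.left›
  exact isIso_of_reflects_iso f (Over.forget S)

/-- Isomorphisms descend along faithfully flat quasi-compact base change. -/
theorem isIso_of_pullback_map {S S' : Scheme.{u}} (g : S' ⟶ S) [Surjective g] [Flat g] [QuasiCompact g]
    {X Y : Over S} (f : X ⟶ Y) (h : IsIso ((Over.pullback g).map f).left) : IsIso f := by
  have : IsIso f.left := MorphismProperty.of_isPullback_of_descendsAlong
    (P := MorphismProperty.isomorphisms Scheme.{u}) (Q := @Surjective ⊓ @Flat ⊓ @QuasiCompact)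
    (isPullback_map g f).flip
    ⟨⟨MorphismProperty.of_isPullback (P := @Surjective) (IsPullback.of_hasPullback Y.hom g).flip inferInstance,
      MorphismProperty.of_isPullback (P := @Flat) (IsPullback.of_hasPullback Y.hom g).flip inferInstance⟩,
      MorphismProperty.of_isPullback (P := @QuasiCompact) (IsPullback.of_hasPullback Y.hom g).flip inferInstance⟩
    h
  exact isIso_of_left f

theorem isIso_pullback_comp {S S' T : Scheme.{u}} (a : T ⟶ S') (b : S' ⟶ S) {X Y : Over S}
    (f : X ⟶ Y) :
    IsIso ((Over.pullback (a ≫ b)).map f) ↔ IsIso ((Over.pullback a).map ((Over.pullback b).map f)) :=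
  NatIso.isIso_map_iff (Over.pullbackComp a b) f

theorem isIso_pullback_of_restrict {S : Scheme.{u}} {X Y : Over S} (f : X ⟶ Y) (U : S.Opens)
    (hU : IsIso (f.left ∣_ (Y.hom ⁻¹ᵁ U))) : IsIso ((Over.pullback U.ι).map f) := by
  let j := pullback.fst Y.hom U.ι
  have hr : j.opensRange = Y.hom ⁻¹ᵁ U := by
    ext x
    show x ∈ Set.range (pullback.fst Y.hom U.ι) ↔ _
    rw [Scheme.Pullback.range_fst, Scheme.Opens.range_ι]
    rfl
  haveI : IsIso (f.left ∣_ j.opensRange) := hr ▸ hU
  haveI : IsIso (pullback.snd f.left j) :=
    ((MorphismProperty.isomorphisms Scheme.{u}).arrow_mk_iso_iff (morphismRestrictOpensRange f.left j)).1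
      ‹IsIso (f.left ∣_ j.opensRange)›
  haveI : IsIso ((Over.pullback U.ι).map f).left := by
    rw [← (isPullback_map U.ι f).isoPullback_hom_snd]
    infer_instance
  exact isIso_of_left _

theorem fibre_iff {S : Scheme.{u}} {X Y : Over S} (f : X ⟶ Y) (s : S) :
    (∃ e : X.hom.fiber s ≅ Y.hom.fiber s, e.hom ≫ Y.hom.fiberι s = X.hom.fiberι s ≫ f.left) ↔
      IsIso ((Over.pullback (S.fromSpecResidueField s)).map f) := by
  constructor
  · rintro ⟨e, he⟩
    have : e.hom = ((Over.pullback (S.fromSpecResidueField s)).map f).left := by
      refine pullback.hom_ext (he.trans (pullback.lift_fst _ _ _).symm) ?_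
      rw [← cancel_mono (S.fromSpecResidueField s)]
      refine (Category.assoc _ _ _).trans ((congrArg (e.hom ≫ ·) pullback.condition.symm).trans ?_)
      refine (Category.assoc _ _ _).symm.trans ((congrArg (· ≫ Y.hom) he).trans ?_)
      refine (Category.assoc _ _ _).trans ((congrArg (_ ≫ ·) (Over.w f)).trans ?_)
      exact pullback.condition.trans (congrArg (· ≫ _) (pullback.lift_snd _ _ _).symm)
    haveI : IsIso ((Over.pullback (S.fromSpecResidueField s)).map f).left := this ▸ e.isIso_hom
    exact isIso_of_left _
  · intro h
    haveI hl : IsIso ((Over.pullback (S.fromSpecResidueField s)).map f).left := by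
      have := h
      exact inferInstanceAs (IsIso ((Over.forget _).map ((Over.pullback (S.fromSpecResidueField s)).map f)))
    exact ⟨@asIso _ _ _ _ ((Over.pullback (S.fromSpecResidueField s)).map f).left hl, pullback.lift_fst _ _ _⟩

end Helpers

/-- Let S be a locally Noetherian scheme, X and Y schemes proper over S with X flat over S, and f : X →
Y an S-morphism. Then there is an open subset S₀ of S such that, for every locally Noetherian scheme
S' and every morphism h : S' → S, the image of h lies in S₀ if and only if the base change X ×_S S'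
→ Y ×_S S' of f is an isomorphism. (The published statement also supposes that some fibre of f is an
isomorphism; that hypothesis only serves to make S₀ nonempty and is not needed.) -/
theorem result
    {S : Scheme.{u}} [IsLocallyNoetherian S] (X Y : Over S) [IsProper X.hom] [IsProper Y.hom]
    [Flat X.hom] (f : X ⟶ Y) :
    ∃ S₀ : S.Opens, ∀ (S' : Scheme.{u}) [IsLocallyNoetherian S'] (h : S' ⟶ S),
      Set.range h ⊆ (S₀ : Set S) ↔ IsIso ((Over.pullback h).map f).left := by
  haveI : LocallyOfFinitePresentation X.hom := inferInstance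
  haveI : LocallyOfFinitePresentation Y.hom := inferInstance
  obtain ⟨U, hU, hiso⟩ := Groth.Agent.S10888.result X.hom Y.hom f.left (Over.w f)
  refine ⟨U, fun S' _ h => ⟨fun hh => ?_, fun hi => ?_⟩⟩
  · have e : IsOpenImmersion.lift U.ι h (by rwa [Scheme.Opens.range_ι]) ≫ U.ι = h :=
      IsOpenImmersion.lift_fac _ _ _
    haveI := isIso_pullback_of_restrict f U hiso
    have : IsIso ((Over.pullback h).map f) := by
      rw [← e, isIso_pullback_comp]
      infer_instance
    exact inferInstanceAs (IsIso ((Over.forget S').map ((Over.pullback h).map f)))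
  · rintro _ ⟨s', rfl⟩
    refine (hU _).2 ((fibre_iff f _).2 ?_)
    haveI := hi
    haveI := isIso_of_left ((Over.pullback h).map f)
    let φ := Spec.map (h.residueFieldMap s')
    have h1 : IsIso ((Over.pullback (S'.fromSpecResidueField s' ≫ h)).map f) := by
      rw [isIso_pullback_comp]; infer_instance
    rw [← Scheme.Hom.SpecMap_residueFieldMap_fromSpecResidueField, isIso_pullback_comp] at h1
    haveI : Surjective φ := ⟨fun x => ⟨IsLocalRing.closedPoint _, Subsingleton.elim (α := PrimeSpectrum _) _ _⟩⟩
    haveI : Flat φ := by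
      rw [HasRingHomProperty.Spec_iff (P := @Flat)]
      letI := (h.residueFieldMap s').hom.toAlgebra
      exact RingHom.flat_algebraMap_iff.mpr (inferInstanceAs (Module.Flat _ _))
    exact isIso_of_pullback_map φ _
      (inferInstanceAs (IsIso ((Over.forget _).map ((Over.pullback φ).map _))))

end Groth.Agent.S17076
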