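import Groth.Statements.S17077
import Mathlib.RingTheory.Nullstellensatz
import Mathlib.Algebra.MvPolynomial.Division
import Mathlib.RingTheory.MvPolynomial.Homogeneous
import Mathlib.Tactic.Ring

set_option autoImplicit false
universe u
open RatCurve

namespace Groth.Agent.S17077

variable {k : Type u} [Field k]

lemma exists_zero [IsAlgClosed k] {H : MvPolynomial (Fin 2) k} (hH : ¬ IsUnit H) :
    ∃ a : Fin 2 → k, a ≠ 0 ∧ MvPolynomial.eval a H = 0 := by
  classical
  by_contra hc
  push Not at hc
  have hrad : ∀ i : Fin 2, (MvPolynomial.X i : MvPolynomial (Fin 2) k) ∈ (Ideal.span {H}).radical := by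
    intro i
    rw [← MvPolynomial.vanishingIdeal_zeroLocus_eq_radical (K := k)]
    intro x hx
    have hx0 : x = 0 := by
      by_contra h
      refine hc x h ?_
      simpa [MvPolynomial.aeval_eq_eval] using hx H (Ideal.mem_span_singleton_self H)
    simp [hx0]
  obtain ⟨n, hn⟩ := hrad 0
  obtain ⟨m, hm⟩ := hrad 1
  rw [Ideal.mem_span_singleton] at hn hm
  obtain ⟨i, _, hi⟩ := (dvd_prime_pow MvPolynomial.X_prime _).1 hn
  rcases i with _ | i
  · rw [pow_zero, associated_one_iff_isUnit] at hi
    exact hH hi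
  · have h1 : (MvPolynomial.X 0 : MvPolynomial (Fin 2) k) ∣ MvPolynomial.X 1 ^ m :=
      (dvd_pow_self _ (Nat.succ_ne_zero i)).trans (hi.symm.dvd.trans hm)
    have h2 := MvPolynomial.X_prime.dvd_of_dvd_pow h1
    have := map_dvd (MvPolynomial.eval (fun i : Fin 2 => if i = 0 then (0 : k) else 1)) h2
    simp at this

lemma dvd_of_zero {F : MvPolynomial (Fin 2) k} {d : ℕ} (hF : F.IsHomogeneous d) (a : Fin 2 → k)
    (j : Fin 2) (hj : a j ≠ 0) (h : MvPolynomial.eval a F = 0) :
    (MvPolynomial.X (j + 1) - MvPolynomial.C (a (j + 1) / a j) * MvPolynomial.X j) ∣ F := by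
  classical
  let t : Fin 2 → k := fun i => a i / a j
  let φ : MvPolynomial (Fin 2) k →ₐ[k] MvPolynomial (Fin 2) k :=
    MvPolynomial.aeval fun i => MvPolynomial.C (t i) * MvPolynomial.X j
  set l := MvPolynomial.X (j + 1) - MvPolynomial.C (a (j + 1) / a j) * MvPolynomial.X j with hl
  have hdiff : ∀ p, l ∣ p - φ p := by
    intro p
    rw [← Ideal.mem_span_singleton, ← Ideal.Quotient.eq]
    change (Ideal.Quotient.mkₐ k (Ideal.span {l})) p = ((Ideal.Quotient.mkₐ k (Ideal.span {l})).comp φ) p
    congr 1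
    refine MvPolynomial.algHom_ext fun i => ?_
    rw [AlgHom.comp_apply, MvPolynomial.aeval_X]
    refine Ideal.Quotient.eq.2 (Ideal.mem_span_singleton.2 ?_)
    rcases eq_or_ne i j with rfl | hne
    · simp [t, div_self hj]
    · have : i = j + 1 := by
        revert hne; fin_cases i <;> fin_cases j <;> simp
      subst this
      exact dvd_rfl
  have hφF : φ F = MvPolynomial.C (MvPolynomial.eval t F) * MvPolynomial.X j ^ d := by
    conv_lhs => rw [F.as_sum]
    rw [map_sum, MvPolynomial.eval_eq', map_sum, Finset.sum_mul]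
    refine Finset.sum_congr rfl fun s hs => ?_
    have hdeg := hF (MvPolynomial.mem_support_iff.1 hs)
    rw [MvPolynomial.aeval_monomial, map_mul, map_prod, MvPolynomial.algebraMap_eq, Finsupp.prod_fintype _ _ (fun i => pow_zero _)]
    simp only [mul_pow, Finset.prod_mul_distrib, ← map_pow, Finset.prod_pow_eq_pow_sum]
    rw [mul_assoc]
    congr 2
    congr 1
    rw [← hdeg, Finsupp.weight_apply, Finsupp.sum_fintype _ _ (fun i => by simp)]
    simp
  have he : MvPolynomial.eval t F = 0 := by
    have h1 : MvPolynomial.eval a (φ F) = MvPolynomial.eval a F := by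
      change ((MvPolynomial.aeval a).comp φ) F = MvPolynomial.aeval a F
      congr 1
      refine MvPolynomial.algHom_ext fun i => ?_
      simp [φ, t, div_mul_cancel₀ _ hj]
    rw [hφF, h, map_mul, MvPolynomial.eval_C, map_pow, MvPolynomial.eval_X, mul_eq_zero] at h1
    exact h1.resolve_right (pow_ne_zero _ hj)
  have := hdiff F
  rwa [hφF, he, map_zero, zero_mul, sub_zero] at this

/-- Let k be an algebraically closed field and F_0, …, F_{n-1} homogeneous polynomials in k[u, v] (of
possibly different degrees). Then the F_i have a common factor which is not a unit if and only if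
they have a common zero (a, b) ≠ (0, 0) in k², that is, a common zero in the projective line. -/
theorem result
    {k : Type u} [Field k] [IsAlgClosed k] {n : ℕ} (F : Fin n → MvPolynomial (Fin 2) k)
    (d : Fin n → ℕ) (hF : ∀ i, (F i).IsHomogeneous (d i)) :
    (∃ H : MvPolynomial (Fin 2) k, ¬ IsUnit H ∧ ∀ i, H ∣ F i) ↔
      ∃ a : Fin 2 → k, a ≠ 0 ∧ ∀ i, MvPolynomial.eval a (F i) = 0 := by
  constructor
  · rintro ⟨H, hH, hdvd⟩
    obtain ⟨a, ha, ha0⟩ := exists_zero hH
    refine ⟨a, ha, fun i => ?_⟩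
    obtain ⟨q, hq⟩ := hdvd i
    rw [hq, map_mul, ha0, zero_mul]
  · rintro ⟨a, ha, hzero⟩
    obtain ⟨j, hj⟩ := Function.ne_iff.1 ha
    refine ⟨MvPolynomial.X (j + 1) - MvPolynomial.C (a (j + 1) / a j) * MvPolynomial.X j, fun hu => ?_,
      fun i => dvd_of_zero (hF i) a j hj (hzero i)⟩
    have := hu.map (MvPolynomial.eval (0 : Fin 2 → k))
    simp at this

end Groth.Agent.S17077
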