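import Groth.Statements.S17078
import Mathlib

set_option autoImplicit false
universe u
open RatCurve

namespace Groth.Agent.S17078

/-- Let k be an algebraically closed field and F_0, …, F_{n-1} homogeneous polynomials of degree d in
k[u, v]. Then the F_i have no common factor other than units if and only if there is an integer m ≥
d such that every homogeneous polynomial of degree m can be written Σ_i F_i G_i with each G_i
homogeneous of degree m − d, i.e. the k-linear map (G_i)_i ↦ Σ_i F_i G_i from n copies of k[u,
v]_{m−d} to k[u, v]_m is surjective. -/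
theorem result
    {k : Type u} [Field k] [IsAlgClosed k] {n : ℕ} (F : Fin n → MvPolynomial (Fin 2) k)
    (d : ℕ) (hF : ∀ i, (F i).IsHomogeneous d) :
    (¬ ∃ H : MvPolynomial (Fin 2) k, ¬ IsUnit H ∧ ∀ i, H ∣ F i) ↔
      ∃ m : ℕ, d ≤ m ∧ ∀ P : MvPolynomial (Fin 2) k, P.IsHomogeneous m →
        ∃ G : Fin n → MvPolynomial (Fin 2) k, (∀ i, (G i).IsHomogeneous (m - d)) ∧
          P = ∑ i, F i * G i := by
  classical
  constructor
  · intro hno
    set I := Ideal.span (Set.range F) with hIdef
    have hzero : ∀ x : Fin 2 → k, (∀ i, MvPolynomial.eval x (F i) = 0) → x = 0 := by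
      intro x hx
      by_contra hne
      have main : ∀ a b : Fin 2, a ≠ b → x b ≠ 0 → False := by
        intro a b hab hb
        set c := x a / x b
        let φ : MvPolynomial (Fin 2) k →ₐ[k] MvPolynomial (Fin 2) k := MvPolynomial.aeval fun i => MvPolynomial.C (x i / x b) * MvPolynomial.X b
        set L := MvPolynomial.X a - MvPolynomial.C c * MvPolynomial.X b with hL
        have hall : ∀ i : Fin 2, i = a ∨ i = b := by intro i; fin_cases a <;> fin_cases b <;> fin_cases i <;> simp at *
        have hd : ∀ f, L ∣ f - φ f := by
          intro f
          induction f using MvPolynomial.induction_on with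
          | C r => simp [φ]
          | add f g hf hg => rw [map_add, add_sub_add_comm]; exact dvd_add hf hg
          | mul_X f i hf =>
            have hi : L ∣ MvPolynomial.X i - φ (MvPolynomial.X i) := by
              rcases hall i with rfl | rfl
              · simp [φ, hL, c]
              · simp [φ, div_self hb]
            rw [map_mul, show f * MvPolynomial.X i - φ f * φ (MvPolynomial.X i) = (f - φ f) * MvPolynomial.X i + φ f * (MvPolynomial.X i - φ (MvPolynomial.X i)) by ring]
            exact dvd_add (dvd_mul_of_dvd_left hf _) (dvd_mul_of_dvd_right hi _)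
        refine hno ⟨L, ?_, fun i => ?_⟩
        · intro hu
          have := hu.map (MvPolynomial.eval (fun i => if i = a then c else 1))
          simp [hL, hab.symm] at this
        · have h0 : φ (F i) = 0 := by
            have : φ (F i) = MvPolynomial.C (MvPolynomial.eval (fun l => x l / x b) (F i)) * MvPolynomial.X b ^ d := by
              conv_lhs => rw [← MvPolynomial.support_sum_monomial_coeff (F i)]
              rw [MvPolynomial.eval_eq', map_sum, map_sum, Finset.sum_mul]
              refine Finset.sum_congr rfl fun m hm => ?_
              have hdeg : ∑ l, m l = d := by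
                have := hF i (MvPolynomial.mem_support_iff.1 hm)
                simpa [Finsupp.weight_apply, Finsupp.sum_fintype] using this
              rw [MvPolynomial.aeval_monomial, Finsupp.prod_fintype _ _ (fun _ => pow_zero _)]
              simp only [mul_pow, Finset.prod_mul_distrib, ← map_pow, ← map_prod, Finset.prod_pow_eq_pow_sum, hdeg, MvPolynomial.algebraMap_eq, map_mul]
              ring
            have hx' : MvPolynomial.eval (fun l => x l / x b) (F i) = 0 := by
              have h3 : MvPolynomial.eval x (F i) = x b ^ d * MvPolynomial.eval (fun l => x l / x b) (F i) := by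
                rw [MvPolynomial.eval_eq', MvPolynomial.eval_eq', Finset.mul_sum]
                refine Finset.sum_congr rfl fun m hm => ?_
                have hdeg : ∑ l, m l = d := by
                  have := hF i (MvPolynomial.mem_support_iff.1 hm)
                  simpa [Finsupp.weight_apply, Finsupp.sum_fintype] using this
                rw [← hdeg, ← Finset.prod_pow_eq_pow_sum, mul_left_comm, ← Finset.prod_mul_distrib]
                refine congrArg _ (Finset.prod_congr rfl fun l _ => ?_)
                rw [← mul_pow, mul_div_cancel₀ _ hb]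
              rw [hx i] at h3
              exact (mul_eq_zero.1 h3.symm).resolve_left (pow_ne_zero _ hb)
            rw [this, hx', map_zero, zero_mul]
          simpa [h0] using hd (F i)
      obtain ⟨b, hb⟩ := Function.ne_iff.1 hne
      exact main (if b = 0 then 1 else 0) b (by fin_cases b <;> simp) hb
    have hrad : ∀ i : Fin 2, MvPolynomial.X i ∈ I.radical := by
      intro i
      rw [← MvPolynomial.vanishingIdeal_zeroLocus_eq_radical (K := k)]
      intro x hx
      have : x = 0 := hzero x fun l => by
        have h1 := hx (F l) (Ideal.subset_span (Set.mem_range_self l))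
        rwa [← MvPolynomial.coe_aeval_eq_eval]
      simp [this]
    obtain ⟨N0, hN0⟩ := hrad 0
    obtain ⟨N1, hN1⟩ := hrad 1
    refine ⟨d + (N0 + N1), by omega, fun P hP => ?_⟩
    have hPI : P ∈ I := by
      rw [← MvPolynomial.support_sum_monomial_coeff P]
      refine Ideal.sum_mem _ fun m hm => ?_
      have hdeg : ∑ l, m l = d + (N0 + N1) := by
        have := hP (MvPolynomial.mem_support_iff.1 hm)
        simpa [Finsupp.weight_apply, Finsupp.sum_fintype] using this
      rw [MvPolynomial.monomial_eq, Finsupp.prod_fintype _ _ (fun _ => pow_zero _), Fin.prod_univ_two]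
      rw [Fin.sum_univ_two] at hdeg
      rcases Nat.lt_or_ge (m 0) N0 with h | h
      · exact I.mul_mem_left _ (I.mul_mem_left _ (Ideal.pow_mem_of_pow_mem I hN1 (by omega)))
      · exact I.mul_mem_left _ (I.mul_mem_right _ (Ideal.pow_mem_of_pow_mem I hN0 h))
    obtain ⟨G, hG⟩ := (Ideal.mem_span_range_iff_exists_fun).1 hPI
    refine ⟨fun i => MvPolynomial.homogeneousComponent (N0 + N1) (G i), fun i => ?_, ?_⟩
    · rw [Nat.add_sub_cancel_left]; exact MvPolynomial.homogeneousComponent_isHomogeneous _ _
    · have key : ∀ i, MvPolynomial.homogeneousComponent (d + (N0 + N1)) (G i * F i) = F i * MvPolynomial.homogeneousComponent (N0 + N1) (G i) := by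
        intro i
        conv_lhs => rw [← MvPolynomial.sum_homogeneousComponent (G i), Finset.sum_mul, map_sum]
        have : ∀ e, MvPolynomial.homogeneousComponent (d + (N0 + N1)) (MvPolynomial.homogeneousComponent e (G i) * F i) = if N0 + N1 = e then MvPolynomial.homogeneousComponent e (G i) * F i else 0 := by
          intro e
          rw [MvPolynomial.homogeneousComponent_of_mem ((MvPolynomial.homogeneousComponent_isHomogeneous e (G i)).mul (hF i))]
          congr 1
          rw [eq_iff_iff]; omega
        rw [Finset.sum_congr rfl fun e _ => this e, Finset.sum_ite_eq]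
        split_ifs with h
        · ring
        · rw [Finset.mem_range, not_lt] at h
          rw [MvPolynomial.homogeneousComponent_eq_zero _ _ (by omega), mul_zero]
      rw [← Finset.sum_congr rfl fun i _ => key i, ← map_sum, hG, MvPolynomial.homogeneousComponent_of_mem hP, if_pos rfl]
  · rintro ⟨m, -, hm⟩ ⟨H, hH, hdvd⟩
    have hX : ∀ i : Fin 2, H ∣ MvPolynomial.X i ^ m := by
      intro i
      obtain ⟨G, -, hG⟩ := hm (MvPolynomial.X i ^ m) (MvPolynomial.isHomogeneous_X_pow i m)
      rw [hG]
      exact Finset.dvd_sum fun l _ => dvd_mul_of_dvd_left (hdvd l) _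
    obtain ⟨j, -, hj⟩ := (dvd_prime_pow (MvPolynomial.X_prime (i := (0 : Fin 2))) m).1 (hX 0)
    rcases Nat.eq_zero_or_pos j with rfl | hj0
    · exact hH (by rw [pow_zero] at hj; exact associated_one_iff_isUnit.1 hj)
    · have h1 : (MvPolynomial.X 0 : MvPolynomial (Fin 2) k) ∣ MvPolynomial.X 1 ^ m :=
        ((dvd_pow_self _ hj0.ne').trans hj.symm.dvd).trans (hX 1)
      have := (MvPolynomial.X_prime (i := (0 : Fin 2))).dvd_of_dvd_pow h1
      rw [MvPolynomial.X_dvd_X] at this
      exact absurd this (by decide)

end Groth.Agent.S17078
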