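import Groth.Statements.S17079
import Groth.Agent.Lib.WeilRep.Sheaf

set_option autoImplicit false
universe u
open CategoryTheory CategoryTheory.Limits AlgebraicGeometry
open MorSch

set_option backward.isDefEq.respectTransparency false

namespace Groth.Agent.S17079

/-- Let gX : X → S and gY : Y → S be morphisms and suppose the functor Mor_S(X, Y) — sending an S-scheme
T to the set of S-morphisms T ×_S X → Y, with base change as transition maps — is represented by an
S-scheme M. Then for every morphism h : S' → S the functor Mor_{S'}(X ×_S S', Y ×_S S') on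
S'-schemes is represented by M ×_S S'. (The published statement assumes X and Y projective over S
with X flat and S, S' locally Noetherian; this row assumes only that the functor is represented by
M. Only the existence of a representing structure on M ×_S S' is asserted, not its compatibility
with the one on M.) -/
theorem result
    {X Y S S' : Scheme.{u}} (gX : X ⟶ S) (gY : Y ⟶ S) (h : S' ⟶ S)
    (M : Over S) (e : (Flatn.morS gX gY).RepresentableBy M) :
    Nonempty ((Flatn.morS (pullback.snd gX h) (pullback.snd gY h)).RepresentableBy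
      (Over.mk (pullback.snd M.hom h))) := by
  let p := pullback.snd gX h
  have hP : IsPullback (pullback.fst gX h) p gX h := IsPullback.of_hasPullback gX h
  have hc : ∀ T : Over S', IsPullback (pullback.fst T.hom p) (pullback.snd T.hom p ≫ pullback.fst gX h)
      ((Over.map h).obj T).hom gX := fun T =>
    (IsPullback.of_hasPullback T.hom p).flip.paste_horiz hP |>.flip
  let α : ∀ T : Over S', (Over.map h).obj ((Over.map p).obj ((Over.pullback p).obj T)) ≅
      (Over.map gX).obj ((Over.pullback gX).obj ((Over.map h).obj T)) := fun T =>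
    Over.isoMk (hc T).isoPullback (by
      change (hc T).isoPullback.hom ≫ pullback.snd _ gX ≫ gX = (pullback.snd T.hom p ≫ p) ≫ h
      rw [(hc T).isoPullback_hom_snd_assoc, Category.assoc, Category.assoc, hP.w])
  have hα : ∀ {T T' : Over S'} (g : T' ⟶ T),
      (Over.map h).map ((Over.map p).map ((Over.pullback p).map g)) ≫ (α T).hom =
        (α T').hom ≫ (Over.map gX).map ((Over.pullback gX).map ((Over.map h).map g)) := fun {T T'} g => by
    apply Over.OverMorphism.ext
    change ((Over.pullback p).map g).left ≫ (hc T).isoPullback.hom =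
      (hc T').isoPullback.hom ≫ ((Over.pullback gX).map ((Over.map h).map g)).left
    rw [Lib.WeilRep.Sheaf.pullback_map_left, Lib.WeilRep.Sheaf.pullback_map_left]
    apply pullback.hom_ext
    · refine (Category.assoc _ _ _).trans ((congrArg (_ ≫ ·) (hc T).isoPullback_hom_fst).trans ?_)
      refine (pullback.lift_fst _ _ _).trans ?_
      refine Eq.trans ?_ ((congrArg (_ ≫ ·) (pullback.lift_fst _ _ _)).symm.trans (Category.assoc _ _ _).symm)
      exact (congrArg (· ≫ g.left) (hc T').isoPullback_hom_fst).symm.trans (Category.assoc _ _ _)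
    · refine (Category.assoc _ _ _).trans ((congrArg (_ ≫ ·) (hc T).isoPullback_hom_snd).trans ?_)
      refine (Category.assoc _ _ _).symm.trans ((congrArg (· ≫ _) (pullback.lift_snd _ _ _)).trans ?_)
      refine Eq.trans ?_ ((congrArg (_ ≫ ·) (pullback.lift_snd _ _ _)).symm.trans (Category.assoc _ _ _).symm)
      exact (hc T').isoPullback_hom_snd.symm
  have hcomp : ∀ {T T' : Over S'} (g : T' ⟶ T) (ψ : (Over.map h).obj T ⟶ M),
      (α T').hom ≫ (e.homEquiv ((Over.map h).map g ≫ ψ) :
          (Over.map gX).obj ((Over.pullback gX).obj ((Over.map h).obj T')) ⟶ Over.mk gY) =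
        (Over.map h).map ((Over.map p).map ((Over.pullback p).map g)) ≫ (α T).hom ≫
          (e.homEquiv ψ : (Over.map gX).obj ((Over.pullback gX).obj ((Over.map h).obj T)) ⟶ Over.mk gY) := by
    intro T T' g ψ
    have he : (e.homEquiv ((Over.map h).map g ≫ ψ) :
          (Over.map gX).obj ((Over.pullback gX).obj ((Over.map h).obj T')) ⟶ Over.mk gY) =
        (Over.map gX).map ((Over.pullback gX).map ((Over.map h).map g)) ≫
          (e.homEquiv ψ : (Over.map gX).obj ((Over.pullback gX).obj ((Over.map h).obj T)) ⟶ Over.mk gY) :=
      e.homEquiv_comp _ _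
    rw [he, ← Category.assoc, ← Category.assoc, hα]
  let E : ∀ T : Over S', ((Over.map h).obj T ⟶ M) ≃
      ((Over.map h).obj ((Over.map p).obj ((Over.pullback p).obj T)) ⟶ Over.mk gY) := fun T =>
    { toFun := fun ψ => (α T).hom ≫
        (e.homEquiv ψ : (Over.map gX).obj ((Over.pullback gX).obj ((Over.map h).obj T)) ⟶ Over.mk gY)
      invFun := fun c => e.homEquiv.symm ((α T).inv ≫ c :
        (Over.map gX).obj ((Over.pullback gX).obj ((Over.map h).obj T)) ⟶ Over.mk gY)
      left_inv := fun ψ => by simp only [Iso.inv_hom_id_assoc]; exact e.homEquiv.symm_apply_apply ψ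
      right_inv := fun c => by simp only [Equiv.apply_symm_apply, Iso.hom_inv_id_assoc] }
  let A := Over.mapPullbackAdj h
  let Φ : ∀ T : Over S', (T ⟶ (Over.pullback h).obj M) ≃
      ((Over.map p).obj ((Over.pullback p).obj T) ⟶ (Over.pullback h).obj (Over.mk gY)) := fun T =>
    ((A.homEquiv T M).symm.trans (E T)).trans (A.homEquiv _ _)
  refine ⟨{ homEquiv := fun {T} => Φ T, homEquiv_comp := fun {T' T} g φ => ?_ }⟩
  change A.homEquiv _ _ (E T' ((A.homEquiv _ _).symm (g ≫ φ))) =
    (Over.map p).map ((Over.pullback p).map g) ≫ A.homEquiv _ _ (E T ((A.homEquiv _ _).symm φ))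
  rw [A.homEquiv_naturality_left_symm]
  refine (congrArg (A.homEquiv _ _) (hcomp g ((A.homEquiv _ _).symm φ))).trans ?_
  exact A.homEquiv_naturality_left _ _

end Groth.Agent.S17079
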