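import Groth.Statements.S1708
import Groth.Agent.Lib.AssPt.Pushforward

set_option autoImplicit false
universe u
open CategoryTheory CategoryTheory.Limits AlgebraicGeometry TopologicalSpace
open SDiv

namespace Groth.Agent.S1708

open Groth.Agent.Lib.AssPt.Basic Groth.Agent.Lib.AssPt.Pushforward


/-- Let f : X ⟶ S be an affine morphism and F a quasi-coherent module on X. Then every weakly associated
point of f_* F is the image of a weakly associated point of F. -/
theorem result {X S : Scheme.{u}} (f : X ⟶ S) [IsAffineHom f] (F : X.Modules) (hF : Coh.IsQCoh F)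
    (s : ↥S) (hs : Curv2.IsWeakAssPoint ((Scheme.Modules.pushforward f).obj F) s) :
    ∃ x : ↥X, f x = s ∧ Curv2.IsWeakAssPoint F x := by
  haveI : F.IsQuasicoherent := hF
  obtain ⟨x, hx, hass⟩ := exists_assPoint_of_pushforward f
    ((isWeakAssPoint_iff_isAssPoint _ s).mp hs)
  exact ⟨x, hx, (isWeakAssPoint_iff_isAssPoint F x).mpr hass⟩

end Groth.Agent.S1708
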