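import Groth.Statements.S17080
import Groth.Agent.Lib.WeilRep.AF

set_option autoImplicit false
universe u
open CategoryTheory CategoryTheory.Limits AlgebraicGeometry
open MorSch

set_option backward.isDefEq.respectTransparency false

namespace Groth.Agent.S17080

/-- Let gX : X → S be proper and flat, gY : Y → S separated and j : U → Y an open immersion, and suppose
the functor Mor_S(X, Y) — S-schemes T ↦ S-morphisms T ×_S X → Y — is represented by an S-scheme M
via e. Then there are an open subset M₀ of M and a representation e₀ of Mor_S(X, U) by the open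
subscheme M₀ (viewed over S through M) which is compatible with e: for every S-morphism φ : T → M₀,
the S-morphism T ×_S X → Y classified by φ followed by the inclusion M₀ → M is the S-morphism T ×_S
X → U classified by φ, followed by j. In particular the morphism Mor_S(X, U) → Mor_S(X, Y) induced
by j is an open immersion. (Published for X projective and flat and Y quasi-projective over a
locally Noetherian S, which is how M is known to exist there; representability is taken as a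
hypothesis here.) -/
theorem result
    {X Y U S : Scheme.{u}} (gX : X ⟶ S) [IsProper gX] [Flat gX] (gY : Y ⟶ S) [IsSeparated gY]
    (j : U ⟶ Y) [IsOpenImmersion j] (M : Over S) (e : (Flatn.morS gX gY).RepresentableBy M) :
    ∃ (M₀ : M.left.Opens)
      (e₀ : (Flatn.morS gX (j ≫ gY)).RepresentableBy (Over.mk (M₀.ι ≫ M.hom))),
      ∀ (T : Over S) (φ : T ⟶ Over.mk (M₀.ι ≫ M.hom)),
        (e.homEquiv (φ ≫ Over.homMk M₀.ι rfl) :
            (Over.map gX).obj ((Over.pullback gX).obj T) ⟶ Over.mk gY) =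
          (e₀.homEquiv φ : (Over.map gX).obj ((Over.pullback gX).obj T) ⟶ Over.mk (j ≫ gY)) ≫
            (Over.homMk j rfl : Over.mk (j ≫ gY) ⟶ Over.mk gY) := by
  let b : (Over.map gX).obj ((Over.pullback gX).obj M) ⟶ Over.mk gY := e.homEquiv (𝟙 M)
  let K : Set M.left := pullback.fst M.hom gX '' (b.left ⁻¹ᵁ j.opensRange : (pullback M.hom gX).Opens).carrierᶜ
  let M₀ : M.left.Opens := ⟨Kᶜ,
    ((pullback.fst M.hom gX).isClosedMap _ (b.left ⁻¹ᵁ j.opensRange).2.isClosed_compl).isOpen_compl⟩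
  let ι₀ : Over.mk (M₀.ι ≫ M.hom) ⟶ M := Over.homMk M₀.ι rfl
  let jY : Over.mk (j ≫ gY) ⟶ Over.mk gY := Over.homMk j rfl
  have heq : ∀ {T : Over S} (ψ : T ⟶ M),
      (e.homEquiv ψ : (Over.map gX).obj ((Over.pullback gX).obj T) ⟶ Over.mk gY) =
        (Over.map gX).map ((Over.pullback gX).map ψ) ≫ b := fun ψ => e.homEquiv_eq ψ
  have hiff : ∀ {T : Over S} (ψ : T ⟶ M),
      Set.range ψ.left ⊆ M₀ ↔
        Set.range ((e.homEquiv ψ : (Over.map gX).obj ((Over.pullback gX).obj T) ⟶ Over.mk gY).left) ⊆ Set.range j := by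
    intro T ψ
    have hl : ((Over.map gX).map ((Over.pullback gX).map ψ) ≫ b).left =
        ((Over.pullback gX).map ψ).left ≫ b.left := rfl
    rw [heq ψ, hl]
    constructor
    · rintro h _ ⟨z, rfl⟩
      by_contra hc
      refine h ⟨pullback.fst T.hom gX z, rfl⟩ ⟨((Over.pullback gX).map ψ).left z, hc, ?_⟩
      exact congrArg (fun m : pullback T.hom gX ⟶ M.left => m z) (Lib.WeilRep.AF.isPullback_map gX ψ).w
    · rintro h _ ⟨t, rfl⟩ ⟨z, hc, hz⟩
      obtain ⟨z', h1, -⟩ := Scheme.exists_preimage_of_isPullback (Lib.WeilRep.AF.isPullback_map gX ψ) z t hz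
      exact hc (show b.left z ∈ Set.range j from h1 ▸ h ⟨z', rfl⟩)
  have hφ : ∀ {T : Over S} (φ : T ⟶ Over.mk (M₀.ι ≫ M.hom)), Set.range (φ ≫ ι₀).left ⊆ M₀ := fun φ => by
    rintro _ ⟨x, rfl⟩; exact (φ.left x).2
  let v : ∀ {T : Over S} (_ : T ⟶ Over.mk (M₀.ι ≫ M.hom)),
      (Over.map gX).obj ((Over.pullback gX).obj T) ⟶ Over.mk (j ≫ gY) := fun φ =>
    Over.homMk (IsOpenImmersion.lift j _ ((hiff (φ ≫ ι₀)).1 (hφ φ)))
      ((Category.assoc _ _ _).symm.trans ((congrArg (· ≫ gY) (IsOpenImmersion.lift_fac _ _ _)).trans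
        (Over.w (e.homEquiv (φ ≫ ι₀) : (Over.map gX).obj ((Over.pullback gX).obj _) ⟶ Over.mk gY))))
  have hv : ∀ {T : Over S} (φ : T ⟶ Over.mk (M₀.ι ≫ M.hom)),
      v φ ≫ jY = (e.homEquiv (φ ≫ ι₀) : (Over.map gX).obj ((Over.pullback gX).obj T) ⟶ Over.mk gY) :=
    fun φ => Over.OverMorphism.ext (IsOpenImmersion.lift_fac _ _ _)
  have hjY : ∀ {A : Over S} (x y : A ⟶ Over.mk (j ≫ gY)), x ≫ jY = y ≫ jY → x = y := fun x y h =>
    Over.OverMorphism.ext ((cancel_mono j).mp (congrArg CommaMorphism.left h))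
  have hbij : ∀ T : Over S, Function.Bijective fun φ : T ⟶ Over.mk (M₀.ι ≫ M.hom) => v φ := by
    intro T
    refine ⟨fun φ φ' h => ?_, fun c => ?_⟩
    · have h' := e.homEquiv.injective ((hv φ).symm.trans ((congrArg (· ≫ jY) h).trans (hv φ')))
      exact Over.OverMorphism.ext ((cancel_mono M₀.ι).mp (congrArg CommaMorphism.left h'))
    · let ψ : T ⟶ M := e.homEquiv.symm (c ≫ jY)
      have hψ : e.homEquiv ψ = c ≫ jY := e.homEquiv.apply_symm_apply _
      have hr : Set.range ψ.left ⊆ M₀ := (hiff ψ).2 (by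
        rw [hψ]; rintro _ ⟨z, rfl⟩; exact ⟨c.left z, rfl⟩)
      let φ : T ⟶ Over.mk (M₀.ι ≫ M.hom) := Over.homMk
        (IsOpenImmersion.lift M₀.ι ψ.left (hr.trans (Lib.WeilRep.Glue.range_ι M₀).symm.subset))
        ((Category.assoc _ _ _).symm.trans
          ((congrArg (· ≫ M.hom) (IsOpenImmersion.lift_fac _ _ _)).trans (Over.w ψ)))
      have hφψ : φ ≫ ι₀ = ψ := Over.OverMorphism.ext (IsOpenImmersion.lift_fac _ _ _)
      exact ⟨φ, hjY _ _ (((hv φ).trans (by rw [hφψ])).trans hψ)⟩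
  refine ⟨M₀, { homEquiv := fun {T} => Equiv.ofBijective _ (hbij T), homEquiv_comp := fun g φ => hjY _ _ ?_ },
    fun T φ => (hv φ).symm⟩
  change v (g ≫ φ) ≫ jY = ((Over.map gX).map ((Over.pullback gX).map g) ≫ v φ) ≫ jY
  rw [hv]
  refine Eq.trans ?_ (Category.assoc _ _ _).symm
  rw [hv, Category.assoc]
  exact e.homEquiv_comp g (φ ≫ ι₀)

end Groth.Agent.S17080
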