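import Groth.Statements.S17081
-- import your own Groth.Agent.* helpers here

set_option autoImplicit false
universe u
open CategoryTheory CategoryTheory.Limits AlgebraicGeometry
open MorSch

namespace Groth.Agent.S17081
set_option backward.isDefEq.respectTransparency false
set_option backward.isDefEq.respectTransparency.types false

theorem hilbPull_eq {X S : Scheme.{u}} (f : X ⟶ S) {T T' : Over S} (g : T' ⟶ T)
    (I : (PicF.XT f T).IdealSheafData) : FGA.hilbPull f g I = I.comap (PicF.XTmap f g) := by
  show (pullback.snd I.subschemeι (PicF.XTmap f g)).ker = _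
  rw [← pullbackSymmetry_hom_comp_fst, Scheme.Hom.ker_comp_of_isIso]
  rfl

/-- Let S and S' be Noetherian schemes, h : S' → S and f : X → S morphisms, and (H, Z) a pair
representing the Hilbert functor of X over S on locally Noetherian S-schemes (H locally Noetherian
over S; Z ⊆ X ×_S H closed, proper and flat over H; every closed subscheme of X ×_S T proper and
flat over a locally Noetherian S-scheme T is the pullback of Z along a unique S-morphism T → H),
with H locally of finite type over S. Write X' = X ×_S S' → S' and H' = H ×_S S' → S', and let Z' ⊆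
X' ×_{S'} H' be the closed subscheme pulled back from Z along the morphism X' ×_{S'} H' → X ×_S H
induced by the projections X' → X and H' → H. Then (H', Z') represents the Hilbert functor of X'
over S'. (Published for X flat and projective over S, which is how (H, Z) is known to exist there;
representability is taken as a hypothesis here; the hypothesis that H is locally of finite type over
S is added here (it holds for the Hilbert scheme of a flat projective scheme) so that H ×_S S' is
locally Noetherian.) -/
theorem result
    {X S S' : Scheme.{u}} [IsNoetherian S] [IsNoetherian S'] (f : X ⟶ S) (h : S' ⟶ S)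
    (H : Over S) (Z : FGA.HilbSet f H) (hH : FGA.HilbRepresentedBy f H Z)
    [LocallyOfFiniteType H.hom]
    (Z' : FGA.HilbSet (pullback.snd f h) (Over.mk (pullback.snd H.hom h)))
    (hZ' : Z'.1 = Z.1.comap (pullback.map (pullback.snd f h) (pullback.snd H.hom h) f H.hom
      (pullback.fst f h) (pullback.fst H.hom h) h pullback.condition.symm pullback.condition.symm)) :
    FGA.HilbRepresentedBy (pullback.snd f h) (Over.mk (pullback.snd H.hom h)) Z' := by
  obtain ⟨hH1, hH2⟩ := hH
  let f' := pullback.snd f h
  let H' : Over S' := Over.mk (pullback.snd H.hom h)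
  haveI : LocallyOfFiniteType (pullback.snd H.hom h) := MorphismProperty.pullback_snd _ _ inferInstance
  refine ⟨LocallyOfFiniteType.isLocallyNoetherian (pullback.snd H.hom h), fun T _ Y => ?_⟩
  let T₀ : Over S := Over.mk (T.hom ≫ h)
  haveI : IsLocallyNoetherian T₀.left := ‹IsLocallyNoetherian T.left›
  let ehom : PicF.XT f T₀ ⟶ PicF.XT f' T := pullback.lift
    (pullback.lift (pullback.fst f T₀.hom) (pullback.snd f T₀.hom ≫ T.hom)
      (pullback.condition.trans (Category.assoc _ _ _).symm))
    (pullback.snd f T₀.hom) (pullback.lift_snd _ _ _)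
  let einv : PicF.XT f' T ⟶ PicF.XT f T₀ := pullback.lift
    (pullback.fst f' T.hom ≫ pullback.fst f h) (pullback.snd f' T.hom) (by
      show _ = pullback.snd f' T.hom ≫ T.hom ≫ h
      rw [Category.assoc, pullback.condition, ← Category.assoc, pullback.condition, Category.assoc])
  let e : PicF.XT f T₀ ≅ PicF.XT f' T :=
    { hom := ehom
      inv := einv
      hom_inv_id := by
        apply pullback.hom_ext <;> simp only [ehom, einv, Category.assoc, pullback.lift_fst, pullback.lift_snd, Category.id_comp]
        rw [pullback.lift_fst_assoc, pullback.lift_fst]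
      inv_hom_id := by
        apply pullback.hom_ext
        · apply pullback.hom_ext
          · simp only [ehom, einv, Category.assoc, pullback.lift_fst, Category.id_comp]
          · simp only [ehom, einv, Category.assoc, pullback.lift_fst, pullback.lift_snd, Category.id_comp]
            rw [pullback.lift_snd_assoc]
            exact (pullback.condition (f := f') (g := T.hom)).symm
        · simp only [ehom, einv, Category.assoc, pullback.lift_snd, Category.id_comp] }
  let Y₀ : FGA.HilbSet f T₀ := ⟨Y.1.comap e.hom, by
    have hh : (Y.1.comap e.hom).subschemeι ≫ PicF.XTproj f T₀ =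
        ((Y.1.comapIso e.hom).hom ≫ pullback.snd e.hom Y.1.subschemeι) ≫ Y.1.subschemeι ≫ PicF.XTproj f' T := by
      rw [← Scheme.IdealSheafData.comapIso_hom_fst, Category.assoc, Category.assoc,
        ← pullback.condition_assoc]
      congr 2
      exact (pullback.lift_snd _ _ _).symm
    obtain ⟨h1, h2⟩ := Y.2
    haveI : IsIso (pullback.snd e.hom Y.1.subschemeι) := by
      haveI : IsIso e.hom := e.isIso_hom
      infer_instance
    haveI : IsIso ((Y.1.comapIso e.hom).hom ≫ pullback.snd e.hom Y.1.subschemeι) := inferInstance
    rw [hh]
    exact ⟨(MorphismProperty.cancel_left_of_respectsIso @IsProper _ _).2 h1,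
      (MorphismProperty.cancel_left_of_respectsIso @Flat _ _).2 h2⟩⟩
  obtain ⟨g₀, hg₀, huniq⟩ := hH2 T₀ Y₀
  let Φ := pullback.map (pullback.snd f h) (pullback.snd H.hom h) f H.hom
      (pullback.fst f h) (pullback.fst H.hom h) h pullback.condition.symm pullback.condition.symm
  have key : ∀ (g : T ⟶ H') (g₁ : T₀ ⟶ H), g.left ≫ pullback.fst H.hom h = g₁.left →
      (FGA.hilbPull f' g Z'.1 = Y.1 ↔ FGA.hilbPull f g₁ Z.1 = Y₀.1) := fun g g₁ hg => by
    have hc : PicF.XTmap f' g ≫ Φ = e.inv ≫ PicF.XTmap f g₁ := by
      apply pullback.hom_ext
      · simp only [PicF.XTmap, Φ, e, einv, Category.assoc, pullback.map, pullback.lift_fst, pullback.lift_fst_assoc,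
          Category.comp_id, Category.id_comp]
        erw [pullback.lift_fst_assoc]
      · simp only [PicF.XTmap, Φ, e, einv, Category.assoc, pullback.map, pullback.lift_snd, pullback.lift_snd_assoc,
          Category.comp_id, Category.id_comp]
        erw [pullback.lift_snd_assoc]
        simp only [Category.assoc]
        exact congrArg (pullback.snd f' T.hom ≫ ·) hg
    rw [hilbPull_eq, hilbPull_eq, hZ', ← Scheme.IdealSheafData.comap_comp, hc,
      Scheme.IdealSheafData.comap_comp]
    constructor
    · intro hh
      show _ = Y.1.comap e.hom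
      rw [← hh, ← Scheme.IdealSheafData.comap_comp, e.hom_inv_id, Scheme.IdealSheafData.comap_id]
    · intro hh
      rw [show (Z.1.comap (PicF.XTmap f g₁)) = Y.1.comap e.hom from hh, ← Scheme.IdealSheafData.comap_comp,
        e.inv_hom_id, Scheme.IdealSheafData.comap_id]
  let g : T ⟶ H' := Over.homMk (pullback.lift g₀.left T.hom (Over.w g₀)) (pullback.lift_snd _ _ _)
  refine ⟨g, (key g g₀ (pullback.lift_fst _ _ _)).2 hg₀, fun g' hg' => ?_⟩
  have hw : g'.left ≫ pullback.snd H.hom h = T.hom := Over.w g'
  let g₁ : T₀ ⟶ H := Over.homMk (g'.left ≫ pullback.fst H.hom h) (by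
    show (g'.left ≫ pullback.fst H.hom h) ≫ H.hom = T.hom ≫ h
    rw [Category.assoc, pullback.condition, ← Category.assoc, hw])
  have he := huniq g₁ ((key g' g₁ rfl).1 hg')
  refine Over.OverMorphism.ext (pullback.hom_ext ?_ (hw.trans (pullback.lift_snd _ _ _).symm))
  exact (congrArg CommaMorphism.left he).trans (pullback.lift_fst _ _ _).symm

end Groth.Agent.S17081
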