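import Groth.Statements.S17082
-- import your own Groth.Agent.* helpers here

set_option autoImplicit false
universe u
open CategoryTheory CategoryTheory.Limits AlgebraicGeometry
open MorSch

namespace Groth.Agent.S17082
set_option backward.isDefEq.respectTransparency false
set_option backward.isDefEq.respectTransparency.types false

theorem hilbPull_eq {X S : Scheme.{u}} (f : X ⟶ S) {T T' : Over S} (g : T' ⟶ T)
    (I : (PicF.XT f T).IdealSheafData) : FGA.hilbPull f g I = I.comap (PicF.XTmap f g) := by
  show (pullback.snd I.subschemeι (PicF.XTmap f g)).ker = _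
  rw [← pullbackSymmetry_hom_comp_fst, Scheme.Hom.ker_comp_of_isIso]
  rfl

theorem isIso_snd_of_subset {A B : Scheme.{u}} (u : A ⟶ B) [IsOpenImmersion u] (W : B.IdealSheafData)
    (h : Set.range W.subschemeι ⊆ Set.range u) : IsIso (pullback.snd u W.subschemeι) := by
  haveI : Surjective (pullback.snd u W.subschemeι) := ⟨fun w => by
    obtain ⟨a, ha⟩ := h ⟨w, rfl⟩
    obtain ⟨z, -, hz⟩ := Scheme.Pullback.exists_preimage_pullback a w (f := u) (g := W.subschemeι) ha
    exact ⟨z, hz⟩⟩
  haveI : Epi (pullback.snd u W.subschemeι).base := (TopCat.epi_iff_surjective _).2 (Surjective.surj)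
  exact IsOpenImmersion.isIso _

theorem map_comap_of_subset {A B : Scheme.{u}} (u : A ⟶ B) [IsOpenImmersion u] (W : B.IdealSheafData)
    (h : Set.range W.subschemeι ⊆ Set.range u) : (W.comap u).map u = W := by
  haveI := isIso_snd_of_subset u W h
  show ((W.comap u).subschemeι ≫ u).ker = W
  rw [← Scheme.IdealSheafData.comapIso_hom_fst, Category.assoc, Scheme.Hom.ker_comp_of_isIso,
    pullback.condition, Scheme.Hom.ker_comp_of_isIso, Scheme.IdealSheafData.ker_subschemeι]

theorem comap_map_of_isClosedImmersion {A B : Scheme.{u}} (u : A ⟶ B) [IsOpenImmersion u]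
    (J : A.IdealSheafData) [IsClosedImmersion (J.subschemeι ≫ u)] : (J.map u).comap u = J := by
  show (J.subschemeι ≫ u).ker.comap u = J
  rw [← Scheme.IdealSheafData.ker_fst_of_isClosedImmersion]
  have sq : IsPullback J.subschemeι (𝟙 _) u (J.subschemeι ≫ u) :=
    IsPullback.of_iso_pullback ⟨by simp⟩
      { hom := pullback.lift J.subschemeι (𝟙 _) (by simp)
        inv := pullback.snd _ _
        hom_inv_id := pullback.lift_snd _ _ _
        inv_hom_id := by
          refine pullback.hom_ext ?_ (by rw [Category.assoc, pullback.lift_snd, Category.id_comp, Category.comp_id])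
          rw [Category.assoc, pullback.lift_fst, Category.id_comp, ← cancel_mono u, Category.assoc]
          exact pullback.condition.symm } (pullback.lift_fst _ _ _) (pullback.lift_snd _ _ _)
  rw [← sq.isoPullback_inv_fst, Scheme.Hom.ker_comp_of_isIso, Scheme.IdealSheafData.ker_subschemeι]

/-- Let f : X → S be a separated morphism, j : U → X an open immersion, and (H, Z) a pair representing
the Hilbert functor of X over S on locally Noetherian S-schemes (H locally Noetherian over S; Z ⊆ X
×_S H closed, proper and flat over H; every closed subscheme of X ×_S T proper and flat over a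
locally Noetherian S-scheme T is the pullback of Z along a unique S-morphism T → H). Then there are
an open subset H₀ of H and a closed subscheme Z₀ ⊆ U ×_S H₀, proper and flat over H₀, such that Z₀
is the pullback of Z along the morphism U ×_S H₀ → X ×_S H induced by j and the inclusion of H₀, and
(H₀, Z₀) represents the Hilbert functor of U over S. So the Hilbert scheme of U over S exists and is
an open subscheme of that of X. (Published for X projective and flat over a Noetherian S in the
representable case; this row assumes only X separated over S and takes the Hilbert scheme of X as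
given.) -/
theorem result
    {X U S : Scheme.{u}} (f : X ⟶ S) [IsSeparated f] (j : U ⟶ X) [IsOpenImmersion j]
    (H : Over S) (Z : FGA.HilbSet f H) (hH : FGA.HilbRepresentedBy f H Z) :
    ∃ (H₀ : H.left.Opens) (Z₀ : FGA.HilbSet (j ≫ f) (Over.mk (H₀.ι ≫ H.hom))),
      Z₀.1 = Z.1.comap (pullback.map (j ≫ f) (H₀.ι ≫ H.hom) f H.hom j H₀.ι (𝟙 S)
        (Category.comp_id _) (Category.comp_id _)) ∧
      FGA.HilbRepresentedBy (j ≫ f) (Over.mk (H₀.ι ≫ H.hom)) Z₀ := by
  obtain ⟨hH1, hH2⟩ := hH
  let p := PicF.XTproj f H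
  let ζ := Z.1.subschemeι ≫ p
  haveI hζ : IsProper ζ := Z.2.1
  haveI hζf : Flat ζ := Z.2.2
  let bad : Set Z.1.subscheme := (Z.1.subschemeι ≫ pullback.fst f H.hom) ⁻¹' (Set.range j)ᶜ
  have hbad : IsClosed bad := (j.isOpenEmbedding.isOpen_range.isClosed_compl).preimage
    (Z.1.subschemeι ≫ pullback.fst f H.hom).continuous
  let H₀ : H.left.Opens := ⟨(ζ '' bad)ᶜ, (ζ.isClosedMap _ hbad).isOpen_compl⟩
  let H₀' : Over S := Over.mk (H₀.ι ≫ H.hom)
  let u : ∀ T : Over S, PicF.XT (j ≫ f) T ⟶ PicF.XT f T := fun T =>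
    pullback.map (j ≫ f) T.hom f T.hom j (𝟙 _) (𝟙 S) (by simp) (by simp)
  have hu : ∀ T : Over S, IsOpenImmersion (u T) := fun T => by
    have sq : IsPullback (pullback.fst (j ≫ f) T.hom) (u T) j (pullback.fst f T.hom) := by
      refine IsPullback.of_bot ?_ (pullback.lift_fst _ _ _).symm (IsPullback.of_hasPullback f T.hom)
      rw [show u T ≫ pullback.snd f T.hom = pullback.snd _ _ from (pullback.lift_snd _ _ _).trans (Category.comp_id _)]
      exact IsPullback.of_hasPullback (j ≫ f) T.hom
    exact MorphismProperty.of_isPullback sq ‹IsOpenImmersion j›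
  have hrange : ∀ (T : Over S) (q : PicF.XT f T), q ∈ Set.range (u T) ↔ pullback.fst f T.hom q ∈ Set.range j :=
    fun T q => by
    constructor
    · rintro ⟨a, rfl⟩
      exact ⟨pullback.fst (j ≫ f) T.hom a, (congr($(show u T ≫ pullback.fst f T.hom = pullback.fst (j ≫ f) T.hom ≫ j from pullback.lift_fst _ _ _) a)).symm⟩
    · rintro ⟨a, ha⟩
      have sq : IsPullback (pullback.fst (j ≫ f) T.hom) (u T) j (pullback.fst f T.hom) := by
        refine IsPullback.of_bot ?_ (pullback.lift_fst _ _ _).symm (IsPullback.of_hasPullback f T.hom)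
        rw [show u T ≫ pullback.snd f T.hom = pullback.snd _ _ from (pullback.lift_snd _ _ _).trans (Category.comp_id _)]
        exact IsPullback.of_hasPullback (j ≫ f) T.hom
      obtain ⟨z, -, hz⟩ := Scheme.exists_preimage_of_isPullback sq a q ha
      exact ⟨z, hz⟩
  let incl : H₀' ⟶ H := Over.homMk H₀.ι rfl
  let W₀ := Z.1.comap (PicF.XTmap f incl)
  have hsub : ∀ (T : Over S) (g : T ⟶ H), Set.range g.left ⊆ (H₀ : Set H.left) →
      Set.range (Z.1.comap (PicF.XTmap f g)).subschemeι ⊆ Set.range (u T) := by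
    intro T g hg q hq
    rw [Scheme.IdealSheafData.range_subschemeι, Scheme.IdealSheafData.support_comap] at hq
    obtain ⟨z, hz⟩ : PicF.XTmap f g q ∈ Set.range Z.1.subschemeι := by
      rw [Scheme.IdealSheafData.range_subschemeι]; exact hq
    rw [hrange]
    by_contra hq'
    refine hg ⟨pullback.snd f T.hom q, rfl⟩ ⟨z, ?_, ?_⟩
    · show pullback.fst f H.hom (Z.1.subschemeι z) ∉ Set.range j
      rw [hz, show pullback.fst f H.hom (PicF.XTmap f g q) = pullback.fst f T.hom q from
        congr($(show PicF.XTmap f g ≫ pullback.fst f H.hom = pullback.fst f T.hom from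
          (pullback.lift_fst _ _ _).trans (Category.comp_id _)) q)]
      exact hq'
    · show p (Z.1.subschemeι z) = _
      rw [hz]
      exact congr($(show PicF.XTmap f g ≫ pullback.snd f H.hom = pullback.snd f T.hom ≫ g.left from pullback.lift_snd _ _ _) q)
  have e0 : ∀ (T : Over S) (g : T ⟶ H) (g' : T ⟶ H₀'), g' ≫ incl = g →
      PicF.XTmap (j ≫ f) g' ≫ pullback.map (j ≫ f) (H₀.ι ≫ H.hom) f H.hom j H₀.ι (𝟙 S)
        (Category.comp_id _) (Category.comp_id _) = u T ≫ PicF.XTmap f g := by
    rintro T _ g' rfl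
    apply pullback.hom_ext <;>
      simp [PicF.XTmap, u, pullback.map, incl, H₀']
  have hfam : IsProper ((W₀.comap (u H₀')).subschemeι ≫ PicF.XTproj (j ≫ f) H₀') ∧
      Flat ((W₀.comap (u H₀')).subschemeι ≫ PicF.XTproj (j ≫ f) H₀') := by
    haveI := hu H₀'
    haveI := isIso_snd_of_subset (u H₀') W₀ (hsub H₀' incl (by
      show Set.range H₀.ι ⊆ _
      exact H₀.range_ι.subset))
    have e1 : (W₀.comap (u H₀')).subschemeι ≫ PicF.XTproj (j ≫ f) H₀' =
        ((W₀.comapIso (u H₀')).hom ≫ pullback.snd _ _) ≫ W₀.subschemeι ≫ PicF.XTproj f H₀' := by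
      rw [← Scheme.IdealSheafData.comapIso_hom_fst, Category.assoc, Category.assoc, ← pullback.condition_assoc]
      congr 2
      exact ((pullback.lift_snd _ _ _).trans (Category.comp_id _)).symm
    have sq1 : IsPullback (PicF.XTmap f incl) (PicF.XTproj f H₀') (PicF.XTproj f H) incl.left := by
      refine IsPullback.of_right ?_ (pullback.lift_snd _ _ _) (IsPullback.of_hasPullback f H.hom).flip.flip
      rw [show PicF.XTmap f incl ≫ pullback.fst f H.hom = pullback.fst f H₀'.hom from
        (pullback.lift_fst _ _ _).trans (Category.comp_id _), Over.w incl]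
      exact IsPullback.of_hasPullback f H₀'.hom
    have sq2 : IsPullback ((Z.1.comapIso (PicF.XTmap f incl)).hom ≫ pullback.snd _ _) W₀.subschemeι
        Z.1.subschemeι (PicF.XTmap f incl) :=
      IsPullback.of_iso_pullback ⟨by rw [Category.assoc, ← pullback.condition, Scheme.IdealSheafData.comapIso_hom_fst_assoc]⟩
        (Z.1.comapIso (PicF.XTmap f incl) ≪≫ pullbackSymmetry _ _) (by simp) (by simp [W₀])
    have sq := sq2.paste_vert sq1
    rw [e1]
    exact ⟨(MorphismProperty.cancel_left_of_respectsIso @IsProper _ _).2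
      (MorphismProperty.of_isPullback sq hζ),
      (MorphismProperty.cancel_left_of_respectsIso @Flat _ _).2 (MorphismProperty.of_isPullback sq hζf)⟩
  refine ⟨H₀, ⟨W₀.comap (u H₀'), hfam⟩, ?_, isLocallyNoetherian_of_isOpenImmersion H₀.ι, fun T _ Y => ?_⟩
  · show (Z.1.comap _).comap (u H₀') = _
    rw [← Scheme.IdealSheafData.comap_comp, ← e0 H₀' incl (𝟙 _) (Category.id_comp _)]
    congr 1
    apply pullback.hom_ext <;> simp [PicF.XTmap, pullback.map, H₀'] <;> exact Category.id_comp _
  haveI := hu T
  haveI hYp : IsProper (Y.1.subschemeι ≫ PicF.XTproj (j ≫ f) T) := Y.2.1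
  have hproj : u T ≫ PicF.XTproj f T = PicF.XTproj (j ≫ f) T :=
    (pullback.lift_snd _ _ _).trans (Category.comp_id _)
  haveI : IsSeparated (PicF.XTproj f T) := MorphismProperty.pullback_snd _ _ inferInstance
  haveI : IsProper (Y.1.subschemeι ≫ u T) := by
    haveI : IsProper ((Y.1.subschemeι ≫ u T) ≫ PicF.XTproj f T) := by rw [Category.assoc, hproj]; exact hYp
    exact IsProper.of_comp _ (PicF.XTproj f T)
  haveI : IsClosedImmersion (Y.1.subschemeι ≫ u T) :=
    IsClosedImmersion.of_isPreimmersion _ (Y.1.subschemeι ≫ u T).isClosedMap.isClosed_range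
  let Y' : FGA.HilbSet f T := ⟨Y.1.map (u T), by
    have e2 : (Y.1.subschemeι ≫ u T).toImage ≫ (Y.1.map (u T)).subschemeι ≫ PicF.XTproj f T =
        Y.1.subschemeι ≫ PicF.XTproj (j ≫ f) T := by
      rw [show (Y.1.subschemeι ≫ u T).toImage ≫ (Y.1.map (u T)).subschemeι ≫ PicF.XTproj f T =
        ((Y.1.subschemeι ≫ u T).toImage ≫ (Y.1.subschemeι ≫ u T).imageι) ≫ PicF.XTproj f T from
          (Category.assoc _ _ _).symm, Scheme.Hom.toImage_imageι, Category.assoc, hproj]
    obtain ⟨h1, h2⟩ := Y.2
    rw [← e2] at h1 h2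
    exact ⟨(MorphismProperty.cancel_left_of_respectsIso @IsProper _ _).1 h1,
      (MorphismProperty.cancel_left_of_respectsIso @Flat _ _).1 h2⟩⟩
  obtain ⟨g, hg, huniq⟩ := hH2 T Y'
  rw [hilbPull_eq] at hg
  have hgr : Set.range g.left ⊆ (H₀ : Set H.left) := by
    rintro _ ⟨t, rfl⟩ ⟨z, hz, hzt⟩
    have sq1 : IsPullback (PicF.XTmap f g) (PicF.XTproj f T) (PicF.XTproj f H) g.left := by
      refine IsPullback.of_right ?_ (pullback.lift_snd _ _ _) (IsPullback.of_hasPullback f H.hom).flip.flip
      rw [show PicF.XTmap f g ≫ pullback.fst f H.hom = pullback.fst f T.hom from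
        (pullback.lift_fst _ _ _).trans (Category.comp_id _), Over.w g]
      exact IsPullback.of_hasPullback f T.hom
    obtain ⟨q, hq, -⟩ := Scheme.exists_preimage_of_isPullback sq1 (Z.1.subschemeι z) t hzt
    have hq1 : q ∈ Set.range (Y.1.map (u T)).subschemeι := by
      rw [← (show Z.1.comap (PicF.XTmap f g) = Y.1.map (u T) from hg), Scheme.IdealSheafData.range_subschemeι,
        Scheme.IdealSheafData.support_comap]
      show PicF.XTmap f g q ∈ Z.1.support
      rw [hq, ← SetLike.mem_coe, ← Scheme.IdealSheafData.range_subschemeι]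
      exact ⟨z, rfl⟩
    obtain ⟨w, hw⟩ := hq1
    obtain ⟨w', rfl⟩ := (Y.1.subschemeι ≫ u T).toImage.surjective w
    have hqu : q ∈ Set.range (u T) := ⟨Y.1.subschemeι w', by
      rw [← hw]; exact congr($((Y.1.subschemeι ≫ u T).toImage_imageι) w').symm⟩
    rw [hrange] at hqu
    refine hz ?_
    have : pullback.fst f H.hom (PicF.XTmap f g q) = pullback.fst f T.hom q :=
      congr($(show PicF.XTmap f g ≫ pullback.fst f H.hom = pullback.fst f T.hom from (pullback.lift_fst _ _ _).trans (Category.comp_id _)) q)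
    show pullback.fst f H.hom (Z.1.subschemeι z) ∈ _
    rw [← hq, this]; exact hqu
  have key : ∀ g' : T ⟶ H₀', FGA.hilbPull (j ≫ f) g' (W₀.comap (u H₀')) = Y.1 ↔ g' ≫ incl = g := fun g' => by
    have hW : FGA.hilbPull (j ≫ f) g' (W₀.comap (u H₀')) =
        (Z.1.comap (PicF.XTmap f (g' ≫ incl))).comap (u T) := by
      rw [hilbPull_eq]
      simp only [W₀, ← Scheme.IdealSheafData.comap_comp]
      congr 1
      apply pullback.hom_ext <;> simp [PicF.XTmap, u, pullback.map]
    rw [hW]
    constructor
    · intro hh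
      refine huniq _ ?_
      show FGA.hilbPull f (g' ≫ incl) Z.1 = _
      rw [hilbPull_eq]
      show _ = Y.1.map (u T)
      rw [← hh, map_comap_of_subset (u T) _ (hsub T (g' ≫ incl) ?_)]
      rintro _ ⟨t, rfl⟩
      exact (g'.left t).2
    · intro hh
      rw [hh, show Z.1.comap (PicF.XTmap f g) = Y.1.map (u T) from hg, comap_map_of_isClosedImmersion]
  let l := IsOpenImmersion.lift H₀.ι g.left (hgr.trans H₀.range_ι.symm.subset)
  have hl : l ≫ H₀.ι = g.left := IsOpenImmersion.lift_fac _ _ _
  let g₀ : T ⟶ H₀' := Over.homMk l (by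
    show l ≫ H₀.ι ≫ H.hom = _
    rw [← Category.assoc, hl]; exact Over.w g)
  refine ⟨g₀, (key g₀).2 (Over.OverMorphism.ext hl), fun g' hg' => ?_⟩
  have := congrArg CommaMorphism.left ((key g').1 hg')
  exact Over.OverMorphism.ext ((cancel_mono H₀.ι).1 (this.trans hl.symm))

end Groth.Agent.S17082
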