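import Groth.Statements.S17083
import Groth.Agent.Lib.Ideal.BlowUp

set_option autoImplicit false
universe u
open CategoryTheory CategoryTheory.Limits AlgebraicGeometry
open MorSch

namespace Groth.Agent.S17083

theorem of_cover {X : Scheme.{u}} {I : X.IdealSheafData}
    (h : ∀ x, ∃ W : X.Opens, x ∈ W ∧ BlowUp.IsEffCartierIdeal (I.comap W.ι)) :
    BlowUp.IsEffCartierIdeal I := by
  intro x
  obtain ⟨W, hx, hW⟩ := h x
  obtain ⟨U, hxU, f, hf, he⟩ := hW ⟨x, hx⟩
  let V : X.affineOpens := ⟨W.ι ''ᵁ U.1, U.2.image_of_isOpenImmersion _⟩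
  have hle : U.1 ≤ W.ι ⁻¹ᵁ V.1 := fun y hy => ⟨y, hy, rfl⟩
  have hid := Lib.Ideal.Comap.ideal_comap W.ι I V U hle
  rw [he] at hid
  let φ := W.ι.appLE V.1 U.1 hle
  have : IsIso φ := by
    have e : φ = (W.ι.appIso U.1).hom := (W.ι.appIso_hom' U.1).symm
    rw [e]; infer_instance
  let e : Γ(X, V.1) ≃+* Γ(W, U.1) := (asIso φ).commRingCatIsoToRingEquiv
  refine ⟨V, ⟨⟨x, hx⟩, hxU, rfl⟩, e.symm f, Lib.Ideal.EffCartier.mem_nonZeroDivisors_of_eq_zero fun b hb => ?_, ?_⟩
  · exact e.injective <| by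
      rw [map_zero]
      exact (mul_left_mem_nonZeroDivisors_eq_zero_iff hf).mp (by simpa using congrArg e hb)
  have : Ideal.map e.symm.toRingHom (Ideal.span {f}) =
      Ideal.map e.symm.toRingHom (Ideal.map e.toRingHom (I.ideal V)) :=
    congrArg (Ideal.map e.symm.toRingHom) hid
  rw [Ideal.map_map, RingEquiv.toRingHom_eq_coe, RingEquiv.toRingHom_eq_coe,
    RingEquiv.symm_comp, Ideal.map_id, Ideal.map_span, Set.image_singleton] at this
  exact this.symm


/-- The closed immersion constructed in its proof, as follows. Let X be a scheme, I₁ and I₂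
quasi-coherent ideal sheaves on X with I₁ + I₂ = O_X, so that they cut out disjoint closed
subschemes Z₁ and Z₂, let σ : B → X be a blow-up of X in the ideal I₁ ∩ I₂ of Z₁ ∪ Z₂, and let σ₁ :
B₁ → X and σ₂ : B₂ → X be blow-ups of X in Z₁ and in Z₂ (blow-up in the sense of the universal
property: the inverse image ideal is effective Cartier, finally so). Then there is a morphism ι : B
→ B₁ ×_X B₂ over X which is a closed immersion; the components B → B_i are necessarily the unique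
X-morphisms given by the universal properties. (Published for X a projective space over an
algebraically closed field, Z₂ a closed point and Z₁ a finite set of closed points not containing
it, and iterated there to embed the blow-up at r distinct points as a closed subscheme of the fibre
product over X of the r blow-ups at single points.) -/
theorem result
    {X B B₁ B₂ : Scheme.{u}} (I₁ I₂ : X.IdealSheafData) (hdisj : I₁ ⊔ I₂ = ⊤)
    (σ : B ⟶ X) (hσ : BlowUp.IsBlowUp σ (I₁ ⊓ I₂))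
    (σ₁ : B₁ ⟶ X) (hσ₁ : BlowUp.IsBlowUp σ₁ I₁) (σ₂ : B₂ ⟶ X) (hσ₂ : BlowUp.IsBlowUp σ₂ I₂) :
    ∃ ι : B ⟶ pullback σ₁ σ₂, IsClosedImmersion ι ∧ ι ≫ pullback.fst σ₁ σ₂ ≫ σ₁ = σ := by
  have hI : I₁ ⊓ I₂ = I₁ * I₂ := by
    refine Scheme.IdealSheafData.ext (funext fun U => ?_)
    have : I₁.ideal U ⊔ I₂.ideal U = ⊤ := by
      have := congrArg (fun I : X.IdealSheafData => I.ideal U) hdisj
      simpa using this
    simp [Ideal.mul_eq_inf_of_coprime this]
  have hs : ∀ x : X, x ∉ I₁.support ∨ x ∉ I₂.support := by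
    intro x
    by_contra hh
    push Not at hh
    obtain ⟨U, hU, hxU, -⟩ := exists_isAffineOpen_mem_and_subset (show x ∈ (⊤ : X.Opens) from trivial)
    have h1 := (Scheme.IdealSheafData.mem_support_iff_of_mem (U := ⟨U, hU⟩) hxU).mp hh.1
    have h2 := (Scheme.IdealSheafData.mem_support_iff_of_mem (U := ⟨U, hU⟩) hxU).mp hh.2
    have := congrArg (fun I : X.IdealSheafData => I.ideal ⟨U, hU⟩) hdisj
    simp only [Scheme.IdealSheafData.ideal_sup, Scheme.IdealSheafData.ideal_top, Pi.sup_apply,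
      Pi.top_apply] at this
    have hone : (1 : Γ(X, U)) ∈ I₁.ideal ⟨U, hU⟩ ⊔ I₂.ideal ⟨U, hU⟩ := this ▸ Submodule.mem_top
    obtain ⟨a, ha, b, hb, hab⟩ := Submodule.mem_sup.mp hone
    rw [Scheme.mem_zeroLocus_iff] at h1 h2
    have hx1 : x ∈ X.basicOpen (a + b) := by rw [hab, X.basicOpen_of_isUnit isUnit_one]; exact hxU
    exact ((X.basicOpen_add_le a b) hx1).elim (h1 a ha) (h2 b hb)
  let P := pullback σ₁ σ₂
  have hP : BlowUp.IsBlowUp (pullback.fst σ₁ σ₂) (I₂.comap σ₁) := by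
    refine ⟨?_, fun Y k hk => ?_⟩
    · rw [← Scheme.IdealSheafData.comap_comp]
      refine of_cover fun x => ?_
      rcases hs ((pullback.fst σ₁ σ₂ ≫ σ₁) x) with hx | hx
      · let U : X.Opens := I₁.support.compl
        let V : B₂.Opens := σ₂ ⁻¹ᵁ U
        have hxV : x ∈ pullback.snd σ₁ σ₂ ⁻¹ᵁ V := by
          show (pullback.snd σ₁ σ₂ ≫ σ₂) x ∈ U
          rw [← pullback.condition]; exact hx
        refine ⟨_, hxV, ?_⟩
        have sV : IsPullback ((pullback.snd σ₁ σ₂ ⁻¹ᵁ V).ι ≫ pullback.fst σ₁ σ₂)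
            (pullback.snd σ₁ σ₂ ∣_ V) σ₁ (V.ι ≫ σ₂) :=
          (isPullback_morphismRestrict _ V).flip.paste_horiz (IsPullback.of_hasPullback σ₁ σ₂)
        have hv : σ₂ ∣_ U ≫ U.ι = V.ι ≫ σ₂ := morphismRestrict_ι σ₂ U
        let l := (isPullback_morphismRestrict σ₁ U).flip.lift
          ((pullback.snd σ₁ σ₂ ⁻¹ᵁ V).ι ≫ pullback.fst σ₁ σ₂) (pullback.snd σ₁ σ₂ ∣_ V ≫ σ₂ ∣_ U)
          (by rw [sV.w, Category.assoc, hv])
        have sl : IsPullback l (pullback.snd σ₁ σ₂ ∣_ V) (σ₁ ∣_ U) (σ₂ ∣_ U) :=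
          IsPullback.of_right (by rw [IsPullback.lift_fst, hv]; exact sV)
            (IsPullback.lift_snd _ _ _ _) (isPullback_morphismRestrict σ₁ U).flip
        have := Lib.Ideal.BlowUp.isIso_off_center hσ₁
        have : Flat (pullback.snd σ₁ σ₂ ∣_ V) :=
          MorphismProperty.of_isPullback sl (inferInstanceAs (Flat (σ₁ ∣_ U)))
        rw [← Scheme.IdealSheafData.comap_comp, pullback.condition, ← Category.assoc,
          ← morphismRestrict_ι, Category.assoc, Scheme.IdealSheafData.comap_comp,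
          Scheme.IdealSheafData.comap_comp]
        exact Lib.Ideal.EffCartier.isEffCartier_comap_of_flat _
          (Lib.Ideal.EffCartier.isEffCartier_comap_of_flat _ hσ₂.1)
      · refine ⟨(pullback.fst σ₁ σ₂ ≫ σ₁) ⁻¹ᵁ I₂.support.compl, hx, ?_⟩
        rw [← Scheme.IdealSheafData.comap_comp]
        exact Lib.Ideal.EffCartier.isEffCartier_comap_of_disjoint _ fun y => y.2
    · rw [← Scheme.IdealSheafData.comap_comp] at hk
      obtain ⟨h, hh, huniq⟩ := hσ₂.2 Y (k ≫ σ₁) hk
      refine ⟨pullback.lift k h hh.symm, pullback.lift_fst _ _ _, fun l hl => ?_⟩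
      simp only at hl
      refine pullback.hom_ext (by rw [pullback.lift_fst, hl]) ?_
      rw [pullback.lift_snd]
      exact huniq _ (by simp only [Category.assoc, ← pullback.condition]; rw [← Category.assoc, hl])
  have hb := Lib.Ideal.BlowUp.isBlowUp_comp_mul hσ₁ hP
  rw [← hI] at hb
  obtain ⟨a, ha, -⟩ := hb.2 B σ hσ.1
  obtain ⟨b, hb', -⟩ := hσ.2 _ _ hb.1
  have e1 : a ≫ b = 𝟙 B :=
    (hσ.2 B σ hσ.1).unique (by simp only [Category.assoc]; rw [hb', ha]) (Category.id_comp σ)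
  have e2 : b ≫ a = 𝟙 _ :=
    (hb.2 _ _ hb.1).unique (by simp only [Category.assoc]; rw [ha, hb']) (Category.id_comp _)
  have : IsIso a := ⟨b, e1, e2⟩
  exact ⟨a, inferInstance, ha⟩

end Groth.Agent.S17083
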