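import Groth.Statements.S17084
import Mathlib.AlgebraicGeometry.Limits
import Mathlib.AlgebraicGeometry.PullbackCarrier

set_option autoImplicit false
universe u
open CategoryTheory CategoryTheory.Limits AlgebraicGeometry
open MorSch

set_option backward.isDefEq.respectTransparency false

namespace Groth.Agent.S17084

/-- Let (X_i)_{i ∈ ι} be a finite family of schemes over S with structure morphisms g_i : X_i → S, let Y
→ S be a scheme over S and T an S-scheme. Then for every family of S-morphisms a_i : T ×_S X_i → Y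
there is a unique S-morphism b : T ×_S (∐_i X_i) → Y whose restriction along each T ×_S X_i → T ×_S
(∐_i X_i) is a_i. In other words the canonical map Mor_S(∐_i X_i, Y) → ∏_i Mor_S(X_i, Y) of functors
on S-schemes is an isomorphism. -/
theorem result
    {S Y : Scheme.{u}} {ι : Type u} [Finite ι] (X : ι → Scheme.{u}) (g : ∀ i, X i ⟶ S)
    (gY : Y ⟶ S) (T : Over S) (a : ∀ i, (Flatn.morS (g i) gY).obj (Opposite.op T)) :
    ∃! b : (Flatn.morS (Sigma.desc g) gY).obj (Opposite.op T),
      ∀ i, pullback.map T.hom (g i) T.hom (Sigma.desc g) (𝟙 T.left) (Sigma.ι X i) (𝟙 S)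
          ((Category.comp_id _).trans (Category.id_comp _).symm)
          ((Category.comp_id _).trans (Sigma.ι_desc g i).symm) ≫ b.left = (a i).left := by
  let m : ∀ i, pullback T.hom (g i) ⟶ pullback T.hom (Sigma.desc g) := fun i =>
    pullback.map T.hom (g i) T.hom (Sigma.desc g) (𝟙 T.left) (Sigma.ι X i) (𝟙 S)
      ((Category.comp_id _).trans (Category.id_comp _).symm)
      ((Category.comp_id _).trans (Sigma.ι_desc g i).symm)
  have hm1 : ∀ i, m i ≫ pullback.fst _ _ = pullback.fst _ _ := fun i =>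
    (pullback.lift_fst _ _ _).trans (Category.comp_id _)
  have hm2 : ∀ i, m i ≫ pullback.snd _ _ = pullback.snd _ _ ≫ Sigma.ι X i := fun i => pullback.lift_snd _ _ _
  have hpb : ∀ i, IsPullback (pullback.snd T.hom (g i)) (m i) (Sigma.ι X i) (pullback.snd T.hom (Sigma.desc g)) := fun i => by
    refine (IsPullback.of_right ?_ (hm2 i) (IsPullback.of_hasPullback T.hom (Sigma.desc g))).flip
    rw [Sigma.ι_desc, hm1]
    exact IsPullback.of_hasPullback T.hom (g i)
  haveI : ∀ i, IsOpenImmersion (m i) := fun i => MorphismProperty.of_isPullback (hpb i) inferInstance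
  have hcov : ∀ x : ↥(pullback T.hom (Sigma.desc g)), ∃ i, x ∈ Set.range (m i) := fun x => by
    obtain ⟨⟨i, y⟩, hy⟩ := (sigmaMk X).surjective (pullback.snd T.hom (Sigma.desc g) x)
    rw [sigmaMk_mk] at hy
    obtain ⟨z, -, hz⟩ := Scheme.exists_preimage_of_isPullback (hpb i) y x hy
    exact ⟨i, z, hz⟩
  choose p hp using hcov
  let 𝒰 : (pullback T.hom (Sigma.desc g)).OpenCover :=
    (pullback T.hom (Sigma.desc g)).openCoverOfIsOpenCover (fun i => (m i).opensRange)
      (TopologicalSpace.IsOpenCover.mk (top_le_iff.mp fun x _ => TopologicalSpace.Opens.mem_iSup.mpr ⟨p x, hp x⟩))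
  let e : ∀ i, ((m i).opensRange : Scheme.{u}) ⟶ pullback T.hom (g i) := fun i =>
    IsOpenImmersion.lift (m i) (m i).opensRange.ι (Scheme.Opens.range_ι _).subset
  have he : ∀ i, e i ≫ m i = (m i).opensRange.ι := fun i => IsOpenImmersion.lift_fac _ _ _
  have hcompat : ∀ i j, pullback.fst (𝒰.f i) (𝒰.f j) ≫ e i ≫ (a i).left =
      pullback.snd (𝒰.f i) (𝒰.f j) ≫ e j ≫ (a j).left := by
    intro (i : ι) (j : ι)
    by_cases hij : i = j
    · subst hij
      rw [show pullback.fst (𝒰.f i) (𝒰.f i) = pullback.snd (𝒰.f i) (𝒰.f i) from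
        (cancel_mono (𝒰.f i)).mp pullback.condition]
    · haveI : IsEmpty ↥(pullback (𝒰.f i) (𝒰.f j)) := by
        refine isEmpty_of_commSq_sigmaι_of_ne (g := X) (a := pullback.fst (𝒰.f i) (𝒰.f j) ≫ e i ≫ pullback.snd _ _)
          (b := pullback.snd (𝒰.f i) (𝒰.f j) ≫ e j ≫ pullback.snd _ _) ⟨?_⟩ hij
        simp only [Category.assoc, ← hm2]
        rw [reassoc_of% he i, reassoc_of% he j]
        exact pullback.condition_assoc _
      exact (isInitialOfIsEmpty).hom_ext _ _
  let b₀ : pullback T.hom (Sigma.desc g) ⟶ Y := 𝒰.glueMorphisms (fun i => e i ≫ (a i).left) hcompat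
  have hb₀ : ∀ i, m i ≫ b₀ = (a i).left := fun i => by
    let d : pullback T.hom (g i) ⟶ ((m i).opensRange : Scheme.{u}) :=
      IsOpenImmersion.lift (m i).opensRange.ι (m i) ((Scheme.Opens.range_ι _).trans (Scheme.Hom.coe_opensRange _)).symm.subset
    have hd : d ≫ (m i).opensRange.ι = m i := IsOpenImmersion.lift_fac _ _ _
    have hde : d ≫ e i = 𝟙 _ := by rw [← cancel_mono (m i), Category.assoc, he, hd, Category.id_comp]
    have h0 : (m i).opensRange.ι ≫ b₀ = e i ≫ (a i).left := 𝒰.ι_glueMorphisms _ hcompat i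
    rw [← hd, Category.assoc, h0, reassoc_of% hde]
  have hext : ∀ b b' : pullback T.hom (Sigma.desc g) ⟶ Y, (∀ i, m i ≫ b = m i ≫ b') → b = b' := fun b b' h =>
    𝒰.hom_ext _ _ fun i => by
      change (m i).opensRange.ι ≫ b = (m i).opensRange.ι ≫ b'
      rw [← he i, Category.assoc, Category.assoc, h i]
  have hw : b₀ ≫ gY = pullback.snd T.hom (Sigma.desc g) ≫ Sigma.desc g := by
    refine 𝒰.hom_ext _ _ fun i => ?_
    change (m i).opensRange.ι ≫ b₀ ≫ gY = (m i).opensRange.ι ≫ pullback.snd T.hom (Sigma.desc g) ≫ Sigma.desc g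
    rw [← he i]
    simp only [Category.assoc]
    rw [reassoc_of% hb₀ i, reassoc_of% hm2 i, Sigma.ι_desc]
    exact congrArg (e i ≫ ·) (Over.w (a i))
  exact ⟨Over.homMk b₀ hw, hb₀, fun b hb => Over.OverMorphism.ext
    (hext b.left b₀ fun i => (hb i).trans (hb₀ i).symm)⟩

end Groth.Agent.S17084
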