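import Groth.Statements.S7629
import Groth.Agent.H75.Birat.RatMap
import Groth.Agent.Lib.SmoothCurve.Curve
-- import your own Groth.Agent.* helpers here

set_option autoImplicit false
universe u
open CategoryTheory CategoryTheory.Limits AlgebraicGeometry
open Variety

namespace Groth.Agent.S7629

/-- (2) ⇒ (3): let X and Y be varieties over a field k (integral, separated, of finite type) and suppose
the function fields k(X) and k(Y) are isomorphic as k-algebras. Then there are nonempty open
subschemes U ⊆ X and V ⊆ Y which are isomorphic as schemes over k. -/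
theorem result (k : Type u) [Field k] (X : Scheme.{u}) [X.Over (Spec (CommRingCat.of k))] [IsIntegral X] [IsSeparated (X ↘ (Spec (CommRingCat.of k)))] [LocallyOfFiniteType (X ↘ (Spec (CommRingCat.of k)))] [QuasiCompact (X ↘ (Spec (CommRingCat.of k)))]
    (Y : Scheme.{u}) [Y.Over (Spec (CommRingCat.of k))] [IsIntegral Y] [IsSeparated (Y ↘ (Spec (CommRingCat.of k)))] [LocallyOfFiniteType (Y ↘ (Spec (CommRingCat.of k)))] [QuasiCompact (Y ↘ (Spec (CommRingCat.of k)))]
    (e : X.functionField ≅ Y.functionField)
    (he : e.hom.hom.comp (Curv2.stalkMap k X (genericPoint X)) = Curv2.stalkMap k Y (genericPoint Y)) :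
    ∃ (U : X.Opens) (V : Y.Opens), (U : Set ↥X).Nonempty ∧
      ∃ φ : (U : Scheme.{u}) ≅ (V : Scheme.{u}), φ.hom ≫ V.ι ≫ (Y ↘ (Spec (CommRingCat.of k))) = U.ι ≫ (X ↘ (Spec (CommRingCat.of k))) := by
  have key : Scheme.BirationalOver (X ↘ Spec (CommRingCat.of k)) (Y ↘ Spec (CommRingCat.of k)) := by
    haveI : Subsingleton (Spec (CommRingCat.of k)) := inferInstanceAs (Subsingleton (PrimeSpectrum k))
    have hs : (X ↘ Spec (CommRingCat.of k)) (genericPoint X) =
        (Y ↘ Spec (CommRingCat.of k)) (genericPoint Y) := Subsingleton.elim _ _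
    refine Groth.Agent.H75.Birat.birationalOver_of_stalkIso _ _ hs e ?_
      (Or.inr ⟨inferInstance, inferInstance, inferInstance, inferInstance⟩)
    refine (Groth.Agent.H75.Birat.stalk_comm_iff _ _ _ _ hs e.hom).mpr ?_
    rw [Groth.Agent.Lib.SmoothCurve.Curve.fromSpecStalk_comp,
      Groth.Agent.Lib.SmoothCurve.Curve.fromSpecStalk_comp]
    refine (Spec.map_comp _ _).symm.trans (congrArg Spec.map (CommRingCat.hom_ext ?_))
    exact he
  obtain ⟨p, hp⟩ := key
  exact ⟨p.source, p.target, p.dense_source.nonempty, p.iso, hp⟩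

end Groth.Agent.S7629
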