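import Groth.Statements.S17085
import Groth.Agent.S7629
import Groth.Agent.Lib.CurveFF.Morphism
import Groth.Agent.Lib.CurveFF.Hyp
import Groth.Agent.Lib.CurveFF.MapOfField
import Groth.Agent.Lib.CurveFF.FieldExt
import Groth.Agent.Lib.ProjSpace.Dim
import Mathlib.FieldTheory.RatFunc.Luroth
import Mathlib.FieldTheory.RatFunc.AsPolynomial
-- import your own Groth.Agent.* helpers here

set_option autoImplicit false
universe u
open CategoryTheory CategoryTheory.Limits AlgebraicGeometry
open RatCurve

namespace Groth.Agent.S17085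
open Groth.Agent.Lib
open Groth.Agent.H34.SplitP1
attribute [local instance] Curv2.stalkAlgebra

/-- Let k be an algebraically closed field and C ⊆ P^n_k a closed subscheme which is an integral scheme
of dimension one (a projective curve). Then C is rational — some nonempty open subscheme of C is
isomorphic over k to an open subscheme of the projective line P^1_k — if and only if C is the
scheme-theoretic image of some k-morphism f : P^1_k → P^n_k, i.e. the ideal sheaf of C in P^n_k is
the kernel ideal sheaf of f. -/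
theorem result
    {k : Type u} [Field k] [IsAlgClosed k] {n : ℕ} (C : Scheme.{u})
    (i : C ⟶ CohB1.ProjSpace n k) [IsClosedImmersion i] [IsIntegral C]
    (hdim : topologicalKrullDim C = 1) :
    (∃ (U : C.Opens) (V : (CohB1.ProjSpace 1 k).Opens) (e : (↑U : Scheme.{u}) ≅ ↑V),
        Nonempty U ∧
          e.hom ≫ V.ι ≫ CohB1.ProjSpace.toSpec 1 k = U.ι ≫ i ≫ CohB1.ProjSpace.toSpec n k) ↔
      ∃ f : CohB1.ProjSpace 1 k ⟶ CohB1.ProjSpace n k,
        f ≫ CohB1.ProjSpace.toSpec n k = CohB1.ProjSpace.toSpec 1 k ∧ f.ker = i.ker := by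
  let pC : C ⟶ Spec (CommRingCat.of k) := i ≫ CohB1.ProjSpace.toSpec n k
  letI : C.Over (Spec (CommRingCat.of k)) := ⟨pC⟩
  letI : (P1 k).Over (Spec (CommRingCat.of k)) := ⟨CohB1.ProjSpace.toSpec 1 k⟩
  haveI : IsProper (C ↘ Spec (CommRingCat.of k)) :=
    inferInstanceAs (IsProper (i ≫ CohB1.ProjSpace.toSpec n k))
  haveI : IsProper (P1 k ↘ Spec (CommRingCat.of k)) :=
    inferInstanceAs (IsProper (CohB1.ProjSpace.toSpec 1 k))
  haveI : Smooth (P1 k ↘ Spec (CommRingCat.of k)) := ProjSpace.Basic.smooth_toSpec 1 k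
  have hPI : IsIntegral (P1 k) := inferInstance
  have hdP : topologicalKrullDim (P1 k) = 1 := by
    rw [ProjSpace.Dim.topologicalKrullDim_projSpace 1 k, ringKrullDim_eq_zero_of_field]; simp
  constructor
  · rintro ⟨U, V, e, hU, he⟩
    let g : (V : Scheme.{u}) ⟶ C := e.inv ≫ U.ι
    have hg2 : g ≫ (C ↘ Spec (CommRingCat.of k)) = V.ι ≫ (P1 k ↘ Spec (CommRingCat.of k)) := by
      show (e.inv ≫ U.ι) ≫ pC = _
      rw [Category.assoc, ← he, Iso.inv_hom_id_assoc]
      rfl
    obtain ⟨x₀⟩ := hU
    have hVne : (V : Set (P1 k)).Nonempty := ⟨(e.hom x₀).1, (e.hom x₀).2⟩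
    have h := CurveFF.curveHyp_of_smooth k hdP
    haveI : IsLocallyNoetherian (P1 k) :=
      LocallyOfFiniteType.isLocallyNoetherian (P1 k ↘ Spec (CommRingCat.of k))
    let cX := P1 k ↘ Spec (CommRingCat.of k)
    let cY := C ↘ Spec (CommRingCat.of k)
    let f := pullback.snd cY cX
    let s : (V : Scheme.{u}) ⟶ pullback cY cX := pullback.lift g V.ι hg2
    obtain ⟨W, hVW, s', hs', hs'', hall⟩ := H4.RatExt.exists_ext
      (fun y _ => (CurveFF.MapOfField.stalk_facts h y).2) f
      f.isClosedMap V (V.2.dense hVne) s (pullback.lift_snd _ _ _)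
    obtain rfl : W = ⊤ := top_le_iff.1 fun y _ => hall y (CurveFF.MapOfField.stalk_facts h y).1
    let m : P1 k ⟶ C := (P1 k).topIso.inv ≫ s' ≫ pullback.fst cY cX
    have hm : m ≫ cY = cX := by
      simp only [m, Category.assoc, pullback.condition]
      rw [reassoc_of% hs']
      rw [← Scheme.topIso_hom, Iso.inv_hom_id_assoc]
    have hres : V.ι ≫ m = g := by
      have h1 : V.ι ≫ (P1 k).topIso.inv = (P1 k).homOfLE hVW := by
        rw [← cancel_mono (P1 k).topIso.hom, Category.assoc, Iso.inv_hom_id, Category.comp_id,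
          Scheme.topIso_hom, Scheme.homOfLE_ι]
      simp only [m]
      rw [reassoc_of% h1, reassoc_of% hs'']
      exact pullback.lift_fst _ _ _
    have hη : m (genericPoint (P1 k)) = genericPoint C := by
      have hηU : genericPoint C ∈ U :=
        ((genericPoint_spec C).mem_open_set_iff U.2).2 (by simpa using ⟨x₀.1, x₀.2⟩)
      let y := e.hom ⟨genericPoint C, hηU⟩
      have h2 : m y.1 = genericPoint C := by
        have h3 : (V.ι ≫ m) y = g y := by rw [hres]
        refine (Scheme.Hom.comp_apply V.ι m y).symm.trans (h3.trans ?_)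
        show (e.hom ≫ e.inv ≫ U.ι) ⟨genericPoint C, hηU⟩ = genericPoint C
        rw [Iso.hom_inv_id_assoc]
        rfl
      have h4 := (genericPoint_specializes y.1).map m.continuous
      rw [h2] at h4
      exact ((genericPoint_specializes _).antisymm h4).eq.symm
    refine ⟨m ≫ i, (Category.assoc _ _ _).trans hm, ?_⟩
    have hbot : m.ker = ⊥ := by
      refine Scheme.IdealSheafData.ext (funext fun W => ?_)
      haveI : QuasiCompact m := by
        haveI : QuasiCompact (m ≫ cY) := hm ▸ inferInstance
        exact QuasiCompact.of_comp m cY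
      rw [Scheme.Hom.ker_apply, Scheme.IdealSheafData.ideal_bot, Pi.bot_apply]
      exact (RingHom.injective_iff_ker_eq_bot _).1 (CurveFF.Dominant.app_injective hη W.1)
    rw [Scheme.Hom.ker_comp, hbot, Scheme.IdealSheafData.map_bot]
  · rintro ⟨f, hfk, hker⟩
    let g := IsClosedImmersion.lift i f hker.ge
    have hgi : g ≫ i = f := IsClosedImmersion.lift_fac i f hker.ge
    have hgk : g ≫ pC = CohB1.ProjSpace.toSpec 1 k := by
      rw [← hfk, ← hgi, Category.assoc]
    have hη : g (genericPoint (P1 k)) = genericPoint C := by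
      haveI : IsProper (CohB1.ProjSpace.toSpec 1 k) := inferInstance
      haveI : QuasiCompact f := by
        haveI : QuasiCompact (f ≫ CohB1.ProjSpace.toSpec n k) := hfk ▸ inferInstance
        exact QuasiCompact.of_comp f (CohB1.ProjSpace.toSpec n k)
      have h1 : i (genericPoint C) ∈ closure (Set.range f) := by
        rw [← Scheme.Hom.support_ker, hker, Scheme.Hom.support_ker]
        exact subset_closure ⟨_, rfl⟩
      have h2 : Set.range f ⊆ closure {f (genericPoint (P1 k))} := by
        rintro _ ⟨x, rfl⟩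
        exact specializes_iff_mem_closure.1 ((genericPoint_specializes x).map f.continuous)
      have h3 : f (genericPoint (P1 k)) ⤳ i (genericPoint C) :=
        specializes_iff_mem_closure.2 (closure_minimal h2 isClosed_closure h1)
      have h4 : i (genericPoint C) ⤳ f (genericPoint (P1 k)) := by
        rw [← hgi, Scheme.Hom.comp_apply]
        exact (genericPoint_specializes _).map i.continuous
      refine i.isClosedEmbedding.injective ?_
      rw [← Scheme.Hom.comp_apply, hgi]
      exact (h3.antisymm h4).eq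
    -- the function field of the line
    obtain ⟨t, ht, htop, htc⟩ : ∃ t : (P1 k).functionField, Transcendental k t ∧
        IntermediateField.adjoin k ({t} : Set (P1 k).functionField) = ⊤ ∧
        ∀ h : genericPoint (P1 k) ∈ U k 0,
          t = ((P1 k).presheaf.germ (U k 0) (genericPoint (P1 k)) h).hom (φ k 0 Polynomial.X) := by
      have hid : (𝟙 (P1 k)) ≫ CohB1.ProjSpace.toSpec 1 k = (P1 k) ↘ Spec (CommRingCat.of k) := Category.id_comp _
      have h := Groth.Agent.Lib.CurveFF.DoubleCover.generic_mem (𝟙 (P1 k)) rfl 0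
      refine ⟨Groth.Agent.Lib.CurveFF.DoubleCover.coord (𝟙 (P1 k)) 0 h,
        Groth.Agent.Lib.CurveFF.transcendental_coord (𝟙 (P1 k)) hid rfl h, ?_, fun _ => rfl⟩
      set E := IntermediateField.adjoin k
        ({Groth.Agent.Lib.CurveFF.DoubleCover.coord (𝟙 (P1 k)) 0 h} : Set (P1 k).functionField)
      haveI : Nonempty (U k 0) := ⟨⟨_, h⟩⟩
      haveI := functionField_isFractionRing_of_isAffineOpen (P1 k) (U k 0)
        (Groth.Agent.Lib.ProjSpace.Basic.isAffineOpen_basicOpen_X (R := k) (0 : Fin 2))
      refine eq_top_iff.mpr fun z _ => ?_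
      obtain ⟨a, b, -, rfl⟩ := IsFractionRing.div_surjective (A := Γ(P1 k, U k 0)) z
      have key : ∀ a : Γ(P1 k, U k 0), algebraMap Γ(P1 k, U k 0) (P1 k).functionField a ∈ E := fun a => by
        obtain ⟨q, rfl⟩ := (φ_bijective k 0).2 a
        have h1 : algebraMap Γ(P1 k, U k 0) (P1 k).functionField (φ k 0 q) =
            Polynomial.aeval (Groth.Agent.Lib.CurveFF.DoubleCover.coord (𝟙 (P1 k)) 0 h) q :=
          Groth.Agent.Lib.CurveFF.DoubleCover.germ_chartHom (𝟙 (P1 k)) hid 0 h q
        rw [h1]
        exact IntermediateField.algebra_adjoin_le_adjoin k _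
          (Polynomial.aeval_mem_adjoin_singleton k _)
      exact E.div_mem (key a) (key b)
    let e0 : RatFunc k ≃ₐ[k] (P1 k).functionField :=
      (RatFunc.algEquivOfTranscendental t ht).trans
        ((IntermediateField.equivOfEq htop).trans IntermediateField.topEquiv)
    -- the map of function fields
    let ι : C.functionField →ₐ[k] (P1 k).functionField :=
      { toRingHom := Groth.Agent.Lib.CurveFF.FieldExt.kMap g hη
        commutes' := fun a => by
          haveI : Nonempty (⊤ : C.Opens) := ⟨⟨genericPoint C, trivial⟩⟩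
          refine (Groth.Agent.Lib.CurveFF.FieldExt.kMap_germ g hη ⊤ trivial trivial
            (Coh.toGlobal pC a)).trans ?_
          refine congrArg ((P1 k).presheaf.germ ⊤ (genericPoint (P1 k)) trivial) ?_
          show g.appTop (Coh.toGlobal pC a) = Coh.toGlobal (CohB1.ProjSpace.toSpec 1 k) a
          rw [← hgk]
          rfl }
    let E : IntermediateField k (RatFunc k) := (e0.symm.toAlgHom.comp ι).fieldRange
    let eE : C.functionField ≃ₐ[k] E := AlgEquiv.ofInjectiveField (e0.symm.toAlgHom.comp ι)
    have hE : E ≠ ⊥ := by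
      intro hE
      obtain ⟨x, hx, -⟩ := Groth.Agent.Lib.CurveFF.isFF (k := k) (X := C) hdim
      have h1 : ((eE x : E) : RatFunc k) ∈ (⊥ : IntermediateField k (RatFunc k)) := hE ▸ (eE x).2
      obtain ⟨c, hc⟩ := IntermediateField.mem_bot.mp h1
      refine hx ?_
      have h2 : x = algebraMap k C.functionField c :=
        eE.injective (Subtype.ext (by rw [← hc, AlgEquiv.commutes]; rfl))
      rw [h2]
      exact isAlgebraic_algebraMap c
    let e1 : RatFunc k ≃ₐ[k] C.functionField := (RatFunc.Luroth.algEquiv hE).trans eE.symm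
    let e2 : C.functionField ≃ₐ[k] (P1 k).functionField := e1.symm.trans e0
    obtain ⟨U, V, hU, φ', hφ⟩ := Groth.Agent.S7629.result k C (P1 k) e2.toRingEquiv.toCommRingCatIso
      (RingHom.ext fun c => e2.commutes c)
    exact ⟨U, V, φ', hU.to_subtype, hφ⟩

end Groth.Agent.S17085
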