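import Groth.Statements.S17086
import Groth.Agent.Lib.ModelFibre.StalkIdeal
import Groth.Agent.Lib.H75.REq.Extend
import Groth.Agent.Lib.ProjSpace.Basic

set_option autoImplicit false
universe u
open CategoryTheory CategoryTheory.Limits AlgebraicGeometry
open RatCurve

namespace Groth.Agent.S17086

set_option linter.style.haveILetI false

open Groth.Agent.Lib

theorem isPrincipalIdealRing_stalk (k : Type u) [Field k] (y : CohB1.ProjSpace 1 k) :
    IsPrincipalIdealRing ((CohB1.ProjSpace 1 k).presheaf.stalk y) := by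
  obtain ⟨i, p, rfl⟩ := ProjSpace.Basic.exists_mem_opensRange_chartι 1 k y
  haveI : p.asIdeal.IsPrime := p.isPrime
  let j := ProjSpace.Basic.chartι k i
  let Sp := (Spec (CommRingCat.of (MvPolynomial (Fin 1) k))).presheaf.stalk p
  letI : Algebra (MvPolynomial (Fin 1) k) Sp := StructureSheaf.stalkAlgebra (MvPolynomial (Fin 1) k) p
  haveI : IsLocalization.AtPrime Sp p.asIdeal := StructureSheaf.IsLocalization.to_stalk _ p
  haveI : IsPrincipalIdealRing Sp := ⟨fun I => by
    obtain ⟨a, ha⟩ := IsPrincipalIdealRing.principal (Ideal.under (MvPolynomial (Fin 1) k) I)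
    have e := IsLocalization.map_under (R := MvPolynomial (Fin 1) k) p.asIdeal.primeCompl Sp I
    rw [← e]
    refine ⟨algebraMap _ Sp a, ?_⟩
    rw [ha, Ideal.submodule_span_eq, Ideal.map_span, Set.image_singleton]⟩
  let ee : Sp ≃+* (CohB1.ProjSpace 1 k).presheaf.stalk (j p) :=
    (asIso (j.stalkMap p)).symm.commRingCatIsoToRingEquiv
  exact IsPrincipalIdealRing.of_surjective ee.toRingHom ee.surjective

/-- Let k be an algebraically closed field, X a closed subscheme of P^n_k, Z ⊆ X a closed subscheme and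
σ : B → X a blow-up of X along Z (the inverse image ideal of Z is effective Cartier and σ is final
with this property). Then every k-morphism f : P^1_k → X whose image is not contained in Z lifts
uniquely along σ: there is exactly one morphism g : P^1_k → B with g ≫ σ = f. Equivalently, over the
open locus of morphisms meeting X ∖ Z, the morphism Mor(P^1_k, B) → Mor(P^1_k, X) induced by σ is a
bijection on k-points. -/
theorem result
    {k : Type u} [Field k] [IsAlgClosed k] {n : ℕ} (X : Scheme.{u})
    (c : X ⟶ CohB1.ProjSpace n k) [IsClosedImmersion c]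
    (Z : Scheme.{u}) (iZ : Z ⟶ X) [IsClosedImmersion iZ]
    (B : Scheme.{u}) (σ : B ⟶ X) (hσ : BlowUp.IsBlowUp σ iZ.ker)
    (f : CohB1.ProjSpace 1 k ⟶ X)
    (hf : f ≫ c ≫ CohB1.ProjSpace.toSpec n k = CohB1.ProjSpace.toSpec 1 k)
    (hfZ : ¬ Set.range f ⊆ Set.range iZ) :
    ∃! g : CohB1.ProjSpace 1 k ⟶ B, g ≫ σ = f := by
  haveI : IsLocallyNoetherian (CohB1.ProjSpace 1 k) :=
    LocallyOfFiniteType.isLocallyNoetherian (CohB1.ProjSpace.toSpec 1 k)
  refine hσ.2 _ f (ModelFibre.StalkIdeal.isEffCartierIdeal (fun y => inferInstance) fun y => ?_)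
  haveI := isPrincipalIdealRing_stalk k y
  obtain ⟨p, hp⟩ := IsPrincipalIdealRing.principal
    (Lib.Ideal.Prime.stalkIdeal (iZ.ker.comap f) y)
  rw [Ideal.submodule_span_eq] at hp
  refine ⟨p, fun h0 => hfZ ?_, hp⟩
  rw [h0, Ideal.span_singleton_zero] at hp
  have hη : genericPoint ↥(CohB1.ProjSpace 1 k) ∈ (iZ.ker.comap f).support := by
    by_contra hη
    have h1 := ModelFibre.StalkIdeal.map_stalkSpecializes (iZ.ker.comap f)
      (genericPoint_specializes y)
    rw [hp, Ideal.map_bot, (ModelFibre.StalkIdeal.stalkIdeal_eq_top_iff _ _).mpr hη] at h1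
    exact bot_ne_top h1
  rintro _ ⟨z, rfl⟩
  have hz : z ∈ (iZ.ker.comap f).support :=
    (genericPoint_specializes z).mem_closed (iZ.ker.comap f).support.isClosed hη
  rw [Scheme.IdealSheafData.support_comap] at hz
  have hz' : f z ∈ (iZ.ker.support : Set X) := hz
  rw [Scheme.Hom.support_ker, iZ.isClosedEmbedding.isClosed_range.closure_eq] at hz'
  exact hz'

end Groth.Agent.S17086
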