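import Groth.Statements.S17088
import Mathlib.AlgebraicGeometry.Morphisms.Proper
import Mathlib.AlgebraicGeometry.Morphisms.Immersion

set_option autoImplicit false
universe u
open CategoryTheory CategoryTheory.Limits AlgebraicGeometry
open MorSch

namespace Groth.Agent.S17088

/-- Let f : X → S be a separated morphism, ι : W → X an immersion and T an S-scheme. For every closed
subscheme V of W ×_S T which is proper and flat over T — a T-point of the Hilbert functor of W over
S — the composite V → W ×_S T → X ×_S T is a closed immersion, and the map sending V to the ideal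
sheaf of this composite, from T-points of the Hilbert functor of W to ideal sheaves on X ×_S T, is
injective: an immersion induces a monomorphism of Hilbert functors. -/
theorem result
    {W X S : Scheme.{u}} (f : X ⟶ S) [IsSeparated f] (ι : W ⟶ X) [IsImmersion ι]
    (T : Over S) :
    (∀ V : FGA.HilbSet (ι ≫ f) T,
      IsClosedImmersion (V.1.subschemeι ≫ pullback.map (ι ≫ f) T.hom f T.hom ι (𝟙 T.left) (𝟙 S)
          (Category.comp_id _) ((Category.comp_id _).trans (Category.id_comp _).symm))) ∧
    Function.Injective (fun V : FGA.HilbSet (ι ≫ f) T =>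
      (V.1.subschemeι ≫ pullback.map (ι ≫ f) T.hom f T.hom ι (𝟙 T.left) (𝟙 S)
          (Category.comp_id _) ((Category.comp_id _).trans (Category.id_comp _).symm)).ker) := by
  set m := pullback.map (ι ≫ f) T.hom f T.hom ι (𝟙 T.left) (𝟙 S)
    (Category.comp_id _) ((Category.comp_id _).trans (Category.id_comp _).symm)
  have hsnd : m ≫ pullback.snd f T.hom = pullback.snd (ι ≫ f) T.hom :=
    (pullback.lift_snd _ _ _).trans (Category.comp_id _)
  have hfst : m ≫ pullback.fst f T.hom = pullback.fst (ι ≫ f) T.hom ≫ ι := pullback.lift_fst _ _ _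
  have hsq : IsPullback (pullback.fst (ι ≫ f) T.hom) m ι (pullback.fst f T.hom) :=
    ((IsPullback.paste_horiz_iff (IsPullback.of_hasPullback f T.hom).flip hfst).1
      (by rw [hsnd]; exact (IsPullback.of_hasPullback (ι ≫ f) T.hom).flip)).flip
  have : IsImmersion m := MorphismProperty.of_isPullback hsq inferInstance
  have : Mono m := inferInstance
  have hc : ∀ V : FGA.HilbSet (ι ≫ f) T, IsClosedImmersion (V.1.subschemeι ≫ m) := fun V => by
    have hp : IsProper (V.1.subschemeι ≫ PicF.XTproj (ι ≫ f) T) := V.2.1
    have e : (V.1.subschemeι ≫ m) ≫ pullback.snd f T.hom = V.1.subschemeι ≫ PicF.XTproj (ι ≫ f) T := by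
      rw [Category.assoc, hsnd]
    rw [← e] at hp
    have : IsProper (V.1.subschemeι ≫ m) := IsProper.of_comp _ (pullback.snd f T.hom)
    exact IsClosedImmersion.of_isPreimmersion _ (Scheme.Hom.isClosedMap _).isClosed_range
  refine ⟨hc, fun V V' h => Subtype.ext ?_⟩
  have key : ∀ A B : FGA.HilbSet (ι ≫ f) T, (A.1.subschemeι ≫ m).ker ≤ (B.1.subschemeι ≫ m).ker → A.1 ≤ B.1 := by
    intro A B hle
    have := hc A
    have e : IsClosedImmersion.lift _ _ hle ≫ A.1.subschemeι = B.1.subschemeι := by
      rw [← cancel_mono m, Category.assoc, IsClosedImmersion.lift_fac]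
    rw [← A.1.ker_subschemeι, ← B.1.ker_subschemeι, ← e]
    exact Scheme.Hom.le_ker_comp _ _
  exact le_antisymm (key V V' (le_of_eq h)) (key V' V (le_of_eq h.symm))

end Groth.Agent.S17088
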