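import Groth.Statements.S17089

import Groth.Agent.H1.Classical.NilpotentScheme
import Groth.Agent.H1.Classical.RadUApply
import Mathlib.GroupTheory.Nilpotent

set_option autoImplicit false
universe u
open CategoryTheory MonoidalCategory CartesianMonoidalCategory MonObj GrpObj AlgebraicGeometry
open AGF

namespace Groth.Agent.S17089

open Groth.Agent.Lib.GrpSch Groth.Agent.H1.Classical Groth.Agent.Lib.RedPts.Points Groth.Agent.H1.Classical.Scheme' Limits
open scoped commutatorElement
attribute [local instance] baseAlgebra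

/-- A stage of the iterated commutator map. -/
structure Stage {k : Type u} [Field k] (G : Over (Spec (CommRingCat.of k))) where
  W : Over (Spec (CommRingCat.of k))
  h : W ⟶ G

/-- A unipotent group is nilpotent. -/
theorem isNilpotent_of_noSubtorus {k : Type u} [Field k] (G : Over (Spec (CommRingCat.of k))) [GrpObj G]
    [IsAffine G.left] [Smooth G.hom] [ConnectedSpace G.left]
    (h : ∀ s : ↥(Spec (CommRingCat.of k)),
      Red.HasNoSubtorus (AlgebraicClosure ((Spec (CommRingCat.of k)).residueField s)) (Red.geomFibre s G)) :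
    AGF.IsNilpotentGrp G := by
  let s : ↥(Spec (CommRingCat.of k)) := IsLocalRing.closedPoint k
  obtain ⟨alg, halg, hσ⟩ := exists_geomPt_eq s
  have h1 := h s
  revert h1
  show Red.HasNoSubtorus _ (Red.bc (Red.geomPt s) G) → _
  rw [hσ]
  intro h1
  let K := AlgebraicClosure ((Spec (CommRingCat.of k)).residueField s)
  obtain ⟨ha, hs, hc⟩ := FieldDescent.bc_props (K := K) G
  haveI := ha
  haveI := hs
  haveI := hc
  refine NilpotentScheme.isNilpotentGrp_of_bc (K := K) (NilpotentScheme.nilpotent_of_unique fun T T' _ _ i i' hT hT' => ?_)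
  haveI := hT.1
  haveI := hT.2.1
  haveI := hT'.1
  haveI := hT'.2.1
  haveI : IsIso T.hom := h1 T i hT.2.2.1
  haveI : IsIso T'.hom := h1 T' i' hT'.2.2.1
  let f : T ≅ T' := Over.isoMk (asIso T.hom ≪≫ (asIso T'.hom).symm) (by simp)
  refine ⟨f, ?_⟩
  have hone : ∀ (V : Over (Spec (CommRingCat.of K))) [GrpObj V] (j : V ⟶ Red.bc (extBase k K) G) [IsMonHom j],
      IsIso V.hom → j = 1 := fun V _ j _ hV => by
    have : (𝟙 V : V ⟶ V) = 1 := Over.OverMorphism.ext ((cancel_mono V.hom).mp (by rw [Over.w, Over.w]))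
    rw [← Category.id_comp j, this, MonObj.one_comp]
  rw [hone T i inferInstance, hone T' i' inferInstance, MonObj.comp_one]

-- keep the hom-quiver instance path of the statement (see `CategoryTheory.catToReflQuiver`)
attribute [-instance] CategoryTheory.catToReflQuiver

/-- Let k be a field, U' an affine, smooth, connected k-group scheme whose geometric fibre contains no
non-trivial subtorus (a smooth connected unipotent group), i : U ⟶ U' a closed subgroup scheme which
is smooth and connected and whose inclusion is not an isomorphism, and n : N ⟶ U' the normalizer of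
U in U'. Then N is strictly larger than U: the inclusion of N does not factor through U. -/
theorem result (k : Type u) [Field k]
    (U' : Over (Spec (CommRingCat.of k))) [GrpObj U'] [IsAffine U'.left] [Smooth U'.hom] [ConnectedSpace ↥U'.left]
    (hU' : ∀ s : ↥(Spec (CommRingCat.of k)),
      Red.HasNoSubtorus (AlgebraicClosure ((Spec (CommRingCat.of k)).residueField s)) (Red.geomFibre s U'))
    (U : Over (Spec (CommRingCat.of k))) [GrpObj U] (i : U ⟶ U') [IsMonHom i] (hi : IsClosedImmersion i.left)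
    [Smooth U.hom] [ConnectedSpace ↥U.left] (hne : ¬ IsIso i.left)
    (N : Over (Spec (CommRingCat.of k))) [GrpObj N] (n : N ⟶ U') (hn : Red.IsNormalizerOf i n) :
    ¬ ∃ f : N ⟶ U, f ≫ i = n := by
  obtain ⟨c, hc⟩ := isNilpotent_of_noSubtorus U' hU'
  haveI := hi
  haveI : Mono i := Over.mono_of_mono_left i
  let s₀ : Stage U' := ⟨U', 𝟙 U'⟩
  let step : Stage U' → Stage U' := fun s => ⟨U' ⊗ s.W, ⁅snd U' s.W ≫ s.h, fst U' s.W⁆⟩
  let s : ℕ → Stage U' := fun j => step^[j] s₀
  have hs : ∀ j, s (j + 1) = step (s j) := fun j => Function.iterate_succ_apply' step j s₀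
  have comm : ∀ (j : ℕ) (T : Over (Spec (CommRingCat.of k))) (x : T ⟶ U') (t : T ⟶ (s j).W),
      lift x t ≫ (step (s j)).h = ⁅t ≫ (s j).h, x⁆ := fun j T x t => by
    simp only [step, commutatorElement_def, MonObj.comp_mul, GrpObj.comp_inv, lift_fst, lift_snd_assoc]
  have hmem : ∀ (j : ℕ), j ≤ c → ∀ (T : Over (Spec (CommRingCat.of k))) (t : T ⟶ (s j).W),
      t ≫ (s j).h ∈ Subgroup.upperCentralSeries (T ⟶ U') (c - j) := by
    intro j
    induction j with
    | zero => intro _ T t; rw [Nat.sub_zero, hc T]; exact Subgroup.mem_top _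
    | succ j ih =>
      intro hj T
      rw [hs j]
      intro t
      have h1 := ih (by omega) T (t ≫ snd U' (s j).W)
      rw [show c - j = c - (j + 1) + 1 by omega, Subgroup.mem_upperCentralSeries_succ_iff] at h1
      have h2 := h1 (t ≫ fst U' (s j).W)
      have ht : t = lift (t ≫ fst U' (s j).W) (t ≫ snd U' (s j).W) := by ext <;> simp
      rw [ht, comm]
      exact h2
  have hlast : ∃ l, l ≫ i = (s c).h := by
    have h := hmem c le_rfl _ (𝟙 _)
    rw [Nat.sub_self, Category.id_comp, Subgroup.upperCentralSeries_zero, Subgroup.mem_bot] at h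
    exact ⟨1, by rw [MonObj.one_comp i, h]⟩
  have h0 : ¬ ∃ l, l ≫ i = (s 0).h := by
    rintro ⟨l, hl⟩
    haveI : IsSplitEpi i := IsSplitEpi.mk' ⟨l, hl⟩
    haveI : IsIso i := isIso_of_mono_of_isSplitEpi i
    exact hne ((Over.forget _).mapIso (asIso i)).isIso_hom
  obtain ⟨m, hm, hm1⟩ : ∃ m, (¬ ∃ l, l ≫ i = (s m).h) ∧ ∃ l, l ≫ i = (s (m + 1)).h := by
    by_contra hcon
    have : ∀ m, ¬ ∃ l, l ≫ i = (s m).h := fun m => by
      induction m with
      | zero => exact h0
      | succ m ih => exact fun h => hcon ⟨m, ih, h⟩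
    exact this c hlast
  rw [hs m] at hm1
  obtain ⟨l, hl⟩ := hm1
  rintro ⟨f, hf⟩
  have hnz : ∀ (X' : Over (Spec (CommRingCat.of k))) (x : X' ⟶ (s m).W) (h : X' ⟶ U),
      (∃ h' : X' ⟶ U, (x ≫ (s m).h) * (h ≫ i) * (x ≫ (s m).h)⁻¹ = h' ≫ i) ∧
      (∃ h' : X' ⟶ U, (x ≫ (s m).h)⁻¹ * (h ≫ i) * (x ≫ (s m).h) = h' ≫ i) := by
    intro X' x h
    have key : ∀ y : X' ⟶ U', (lift y x ≫ l) ≫ i = ⁅x ≫ (s m).h, y⁆ := fun y => by
      rw [Category.assoc, hl, comm]
    refine ⟨⟨(lift (h ≫ i) x ≫ l) * h, ?_⟩,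
      ⟨(lift ((x ≫ (s m).h)⁻¹ * (h ≫ i) * (x ≫ (s m).h)) x ≫ l)⁻¹ * h, ?_⟩⟩
    · rw [MonObj.mul_comp _ _ i, key, commutatorElement_def]
      group
    · rw [MonObj.mul_comp _ _ i, GrpObj.inv_comp _ i, key, commutatorElement_def]
      group
  obtain ⟨z, hz⟩ := (hn.2.2 _ _).2 hnz
  exact hm ⟨z ≫ f, by rw [Category.assoc, hf, hz]⟩

end Groth.Agent.S17089
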