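import Groth.Statements.S17090
import Groth.Agent.Lib.H11CodimOne.Alg
import Groth.Agent.H1.Classical.FieldDescent
import Groth.Agent.Lib.SpecSub.Basic
import Groth.Agent.H56.DimBaseChange
-- import your own Groth.Agent.* helpers here

set_option autoImplicit false
universe u
open CategoryTheory MonoidalCategory CartesianMonoidalCategory MonObj GrpObj AlgebraicGeometry
open AGF

namespace Groth.Agent.S17090

open MonoidalCategory CartesianMonoidalCategory MonObj GrpObj Groth.Agent.Lib.RedPts

/-- The particular case of codimension one: let k be a field, U' an affine, smooth, connected k-group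
scheme whose geometric fibre contains no non-trivial subtorus (a smooth connected unipotent group)
and i : U ⟶ U' a closed subgroup scheme which is smooth and connected. If dim U' = dim U + 1
(dimensions of the underlying topological spaces), then U is a normal subgroup of U'. -/
theorem result (k : Type u) [Field k]
    (U' : Over (Spec (CommRingCat.of k))) [GrpObj U'] [IsAffine U'.left] [Smooth U'.hom] [ConnectedSpace ↥U'.left]
    (hU' : ∀ s : ↥(Spec (CommRingCat.of k)),
      Red.HasNoSubtorus (AlgebraicClosure ((Spec (CommRingCat.of k)).residueField s)) (Red.geomFibre s U'))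
    (U : Over (Spec (CommRingCat.of k))) [GrpObj U] (i : U ⟶ U') [IsMonHom i] (hi : IsClosedImmersion i.left)
    [Smooth U.hom] [ConnectedSpace ↥U.left]
    (d : ℕ) (hd : topologicalKrullDim ↥U.left = (d : WithBot ℕ∞))
    (hd' : topologicalKrullDim ↥U'.left = ((d + 1 : ℕ) : WithBot ℕ∞)) :
    AlgGrp.IsNormalHom i := by
  haveI := hi
  let s : Spec (CommRingCat.of k) := IsLocalRing.closedPoint k
  obtain ⟨alg, halg, hσ⟩ := H1.Classical.Scheme'.exists_geomPt_eq s
  have hno := hU' s
  revert hno
  show Red.HasNoSubtorus _ (Red.bc (Red.geomPt s) U') → _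
  rw [hσ]
  intro hno
  let K := AlgebraicClosure ((Spec (CommRingCat.of k)).residueField s)
  let σ := Groth.Agent.Lib.GrpSch.extBase k K
  haveI : IsAffine U.left := isAffine_of_isAffineHom i.left
  obtain ⟨h1, h2, h3⟩ := H1.Classical.FieldDescent.bc_props (K := K) U'
  obtain ⟨h4, h5, h6⟩ := H1.Classical.FieldDescent.bc_props (K := K) U
  haveI := h1
  haveI := h2
  haveI := h3
  haveI := h5
  haveI := h6
  haveI : IsClosedImmersion ((Over.pullback σ).map i).left :=
    MorphismProperty.of_isPullback (P := @IsClosedImmersion)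
      (Groth.Agent.Lib.GrpSch.isPullback_bc_map σ i).flip hi
  haveI : IsMonHom ((Over.pullback σ).map i : Red.bc σ U ⟶ Red.bc σ U') := inferInstance
  have hdim : ∀ (X : Over (Spec (CommRingCat.of k))) [LocallyOfFiniteType X.hom],
      topologicalKrullDim ↥(Red.bc σ X).left = topologicalKrullDim ↥X.left := fun X _ =>
    H56.DimBaseChange.topologicalKrullDim_baseChange σ X.hom (Red.bc σ X).hom _
      (Groth.Agent.Lib.GrpSch.isPullback_bc _ X)
  have hN := Lib.H11CodimOne.Alg.isNormalHom hno ((Over.pullback σ).map i : Red.bc σ U ⟶ Red.bc σ U') d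
    ((hdim U).trans hd) ((hdim U').trans hd')
  haveI : Mono i := Over.mono_of_mono_left i
  let C := U' ⊗ U
  let Φ : C ⟶ U' := fst U' U * (snd U' U ≫ i) * (fst U' U)⁻¹
  let π : (Over.map σ).obj (Red.bc σ C) ⟶ C := BC.down σ (𝟙 _)
  obtain ⟨y, hy⟩ := hN _ (BC.up σ (π ≫ fst U' U)) (BC.up σ (π ≫ snd U' U))
  obtain ⟨f, hf⟩ := H1.Classical.FieldDescent.exists_factor_of_bc i Φ y (BC.down_injective (by
    rw [← hy, BC.down_mul, BC.down_mul, BC.down_inv, BC.down_map, BC.down_up, BC.down_up]
    have e : BC.down σ ((Over.pullback σ).map Φ) = π ≫ Φ := by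
      rw [← BC.down_map, Category.id_comp]
    rw [e]
    simp only [Φ, MonObj.comp_mul, GrpObj.comp_inv, Category.assoc]))
  intro X g n
  refine ⟨lift g n ≫ f, ?_⟩
  rw [Category.assoc, hf]
  simp [Φ, MonObj.comp_mul, GrpObj.comp_inv]

end Groth.Agent.S17090
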