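import Groth.Statements.S17095
import Groth.Agent.H66.TorusGen.Centre

set_option autoImplicit false
universe u
open CategoryTheory MonoidalCategory CartesianMonoidalCategory MonObj GrpObj AlgebraicGeometry
open AGF

namespace Groth.Agent.S17095

/-- Let k be a separably closed field, G a reductive k-group scheme and z : Z ⟶ G its centre. Then Z is
the scheme-theoretic intersection of the maximal k-tori of G: for every k-scheme X and every
X-valued point g of G, g factors through Z if and only if g factors through the inclusion of every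
maximal torus of G. -/
theorem result (k : Type u) [Field k] [IsSepClosed k]
    (G : Over (Spec (CommRingCat.of k))) [GrpObj G] (hG : Red.IsReductive G)
    (Z : Over (Spec (CommRingCat.of k))) [GrpObj Z] (z : Z ⟶ G) (hz : Red.IsCentre z)
    (X : Over (Spec (CommRingCat.of k))) (g : X ⟶ G) :
    (∃ c : X ⟶ Z, c ≫ z = g) ↔
      ∀ (T : Over (Spec (CommRingCat.of k))) [GrpObj T] (iT : T ⟶ G), Red.IsMaximalTorus iT → ∃ t : X ⟶ T, t ≫ iT = g := by
  obtain ⟨haff, hsm, hconn⟩ := Groth.Agent.H1.Classical.CentralTorusRed.reductive_props hG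
  haveI := haff
  obtain ⟨A, _, _, e, he⟩ := Groth.Agent.H1.Hopf.exists_iso G
  haveI := he
  haveI : IsMonHom e.inv := inferInstance
  refine ⟨?_, fun h => ?_⟩
  · rintro ⟨c, rfl⟩ T _ iT hT
    exact Groth.Agent.H1.Classical.CentralizerRed.exists_factor_maxTorus hG hT (c ≫ z) fun X' x y => by
      have h1 := (hz.2.2 X (c ≫ z)).mp ⟨c, rfl⟩ X' x y
      simpa only [Category.comp_id] using h1
  · refine (hz.2.2 X g).mpr fun X' x y => ?_
    rw [Category.comp_id]
    have hA := Groth.Agent.H1.Classical.CentralTorusRed.isReductive_congr e hG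
    have h1 := Groth.Agent.H66.TorusGen.central_of_forall hA (g ≫ e.hom) (fun T _ iT hT => by
      obtain ⟨t, ht⟩ := h T (iT ≫ e.inv) (Groth.Agent.Lib.SmWeil.CartanAux.isMaximalTorus_congr e.symm (Iso.refl T)
        ‹IsMonHom e.inv› (inferInstanceAs (IsMonHom (𝟙 T))) (Category.id_comp _).symm hT)
      exact ⟨t, by rw [← cancel_mono e.inv, Category.assoc, ht, Category.assoc, e.hom_inv_id, Category.comp_id]⟩)
      X' x (y ≫ e.hom)
    rw [← cancel_mono e.hom]
    simpa only [MonObj.mul_comp, Category.assoc] using h1

end Groth.Agent.S17095
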