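import Groth.Statements.S17098
import Groth.Agent.H1.Classical.CentralTorusRed

set_option autoImplicit false
universe u
open CategoryTheory MonoidalCategory CartesianMonoidalCategory MonObj GrpObj AlgebraicGeometry
open AGF Groth.Agent.H1.Classical Groth.Agent.H1.Classical.Scheme' TensorProduct
attribute [local instance] Groth.Agent.Lib.RedPts.Points.baseAlgebra

namespace Groth.Agent.S17098

/-- Let k be a field and G a reductive k-group scheme (affine, smooth, with connected reductive
geometric fibre). If G is perfect, i.e. every homomorphism from G to a commutative k-group scheme is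
trivial, then G is semisimple. (The published equivalence of the three conditions 'the geometric
radical is trivial', 'reductive with finite centre', 'reductive with perfect identity component' is
asserted for smooth affine groups that need not be connected; the orthogonal group O_2 in
characteristic different from 2 has finite centre and unipotent radical 1 while its identity
component SO_2 is a non-trivial torus, so the equivalence holds only for connected G, where the
other implications are the finite-centre criterion and the perfectness of semisimple groups.) -/
theorem result (k : Type u) [Field k]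
    (G : Over (Spec (CommRingCat.of k))) [GrpObj G] (hG : Red.IsReductive G)
    (hperf : ∀ (H : Over (Spec (CommRingCat.of k))) [GrpObj H] [IsCommMonObj H] (f : G ⟶ H) [IsMonHom f], f = toUnit G ≫ η[H]) :
    Red.IsSemisimple G := by
  obtain ⟨haff, hsm, hconn⟩ := CentralTorusRed.reductive_props hG
  haveI := haff
  haveI := hsm
  haveI := hconn
  obtain ⟨A, _, _, e, he⟩ := Groth.Agent.H1.Hopf.exists_iso G
  haveI := he
  haveI : IsMonHom e.inv := inferInstance
  haveI : IsMonHom e.symm.hom := inferInstanceAs (IsMonHom e.inv)
  haveI : IsIso e.inv.left := ((Over.forget _).mapIso e).isIso_inv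
  haveI : IsIso e.hom.left := ((Over.forget _).mapIso e).isIso_hom
  haveI : Smooth (GA k A).hom := by rw [← Over.w e.inv]; infer_instance
  haveI : Algebra.FiniteType k A :=
    Groth.Agent.H1.Hopf.finiteType_of_locallyOfFiniteType (show LocallyOfFiniteType (GA k A).hom from inferInstance)
  haveI : ConnectedSpace (GA k A).left := e.hom.left.surjective.connectedSpace e.hom.left.continuous
  refine CentralTorusRed.isSemisimple_congr e.symm
    (CentralTorusRed.isSemisimple_of_finite (CentralTorusRed.isReductive_congr e hG) fun K _ _ _ _ _ S _ hS hc => ?_)
  have hfin := CentralTorus.finite_of_tor (S := (S : Set (HopfPts.Pt K (K ⊗[k] A)))) hS hc {1}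
    (fun g hg => ⟨1, Finset.mem_singleton_self 1, by rwa [inv_one, _root_.one_mul]⟩) _
    fun f hf => CentralTorus.sub_counit_mem (e.inv ≫ e.hom) (fun H _ _ _ _ f _ => by
      rw [e.inv_hom_id, Category.id_comp, show f = e.inv ≫ (e.hom ≫ f) by rw [e.inv_hom_id_assoc],
        hperf H (e.hom ≫ f)]
      rw [← Category.assoc, toUnit_unique (e.inv ≫ toUnit G) (toUnit _)]) hf
  refine (hfin.image fun x => CharDescent.ext (WithConv.toConv x)).subset fun X hX =>
    ⟨(CharDescent.res X).ofConv, ⟨?_, fun a ha => ?_⟩, CharDescent.ext_res X⟩
  · show CharDescent.ext (CharDescent.res X) ∈ S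
    rwa [CharDescent.ext_res]
  · rw [RingHom.mem_ker, e.inv_hom_id] at ha
    change (Scheme.ΓSpecIso (CommRingCat.of A)).inv a = 0 at ha
    have h0 : a = 0 := by
      simpa using congrArg (Scheme.ΓSpecIso (CommRingCat.of A)).hom ha
    rw [h0, RingHom.mem_ker, map_zero]

end Groth.Agent.S17098
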