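import Groth.Statements.S17099
import Groth.Agent.Lib.CentW.Reductive
import Groth.Agent.Lib.RedPts.BC
import Groth.Agent.Lib.RedPts.Gm
import Groth.Agent.Lib.Tori.DS
import Mathlib.Algebra.DualNumber
import Mathlib.Algebra.Polynomial.Taylor

set_option autoImplicit false
universe u
open CategoryTheory MonoidalCategory CartesianMonoidalCategory MonObj GrpObj AlgebraicGeometry
open AGF

namespace Groth.Agent.S17099

namespace Aux

open Polynomial Groth.Agent.Lib.RedPts Groth.Agent.Lib.Tori.BaseChange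

/-- In characteristic `p` a nonconstant truncated polynomial has no multiplicative derivative relation. -/
theorem coeff_eq_zero_of_derivative {K : Type u} [Field K] (p : ℕ) [Fact p.Prime] [CharP K p] (P : K[X])
    (a : K) (h0 : P.coeff 0 = 1) (hd : ∀ i < p, (derivative P).coeff i = a * P.coeff i) :
    ∀ i, 0 < i → i < p → P.coeff i = 0 := by
  have hp := (Fact.out : p.Prime)
  have hne : ∀ i, 0 < i → i < p → (i : K) ≠ 0 := fun i hi hip h =>
    Nat.not_lt.2 (Nat.le_of_dvd hi ((CharP.cast_eq_zero_iff K p i).1 h)) hip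
  have ha : a = 0 := by
    by_contra ha
    have : ∀ j, j < p → P.coeff (p - 1 - j) = 0 := by
      intro j
      induction j with
      | zero =>
        intro _
        have h := hd (p - 1) (by have := hp.pos; omega)
        rw [Polynomial.coeff_derivative, ← Nat.cast_add_one, show p - 1 + 1 = p by have := hp.pos; omega,
          CharP.cast_eq_zero, mul_zero] at h
        simpa using (mul_eq_zero.1 h.symm).resolve_left ha
      | succ j ih =>
        intro hj
        have h := hd (p - 1 - (j + 1)) (by omega)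
        rw [Polynomial.coeff_derivative, show p - 1 - (j + 1) + 1 = p - 1 - j by omega, ih (by omega),
          zero_mul] at h
        exact (mul_eq_zero.1 h.symm).resolve_left ha
    have h := this (p - 1) (by have := hp.pos; omega)
    rw [Nat.sub_self, h0] at h
    exact one_ne_zero h
  intro i hi hip
  obtain ⟨j, rfl⟩ : ∃ j, i = j + 1 := ⟨i - 1, by omega⟩
  have h := hd j (by omega)
  rw [Polynomial.coeff_derivative, ha, zero_mul, ← Nat.cast_add_one] at h
  exact (mul_eq_zero.1 h).resolve_right (hne _ hi hip)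

theorem snd_eq {B : Type u} [CommRing B] (a b d : B)
    (h : (TrivSqZeroExt.inl a : DualNumber B) + TrivSqZeroExt.inl b * DualNumber.eps =
      TrivSqZeroExt.inl a * (TrivSqZeroExt.inl (1 : B) + TrivSqZeroExt.inl d * DualNumber.eps)) :
    b = d * a := by
  have := congrArg TrivSqZeroExt.snd h
  simpa [DualNumber.snd_mul, mul_comm] using this

variable {k K : Type u} [Field k] [Field K] [Algebra k K]

variable (k K) in
/-- `Spec K → Spec k` -/
noncomputable abbrev aK : Spec (CommRingCat.of K) ⟶ Spec (CommRingCat.of k) :=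
  Spec.map (CommRingCat.ofHom (algebraMap k K))

/-- `Spec R` over `Spec k`. -/
noncomputable abbrev T (k : Type u) [CommRing k] (R : Type u) [CommRing R] [Algebra k R] :
    Over (Spec (CommRingCat.of k)) :=
  (Spec (CommRingCat.of R)).asOver (Spec (CommRingCat.of k))

variable (k K) in
/-- identity of `Spec R` between the two structures -/
noncomputable def theta (R : Type u) [CommRing R] [Algebra k R] [Algebra K R] [IsScalarTower k K R] :
    (Over.map (aK k K)).obj (T K R) ⟶ T k R :=
  Over.homMk (𝟙 _) (by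
    show 𝟙 _ ≫ Spec.map _ = Spec.map _ ≫ Spec.map _
    rw [Category.id_comp, ← Spec.map_comp, ← CommRingCat.ofHom_comp, ← IsScalarTower.algebraMap_eq])

instance (R : Type u) [CommRing R] [Algebra k R] [Algebra K R] [IsScalarTower k K R] :
    Epi (theta k K R) :=
  haveI : Epi (theta k K R).left := inferInstanceAs (Epi (𝟙 _))
  Over.epi_of_epi_left _

variable {Z : Over (Spec (CommRingCat.of k))} [GrpObj Z] {M : Type} [AddCommGroup M]
  (e : Grp.mk (Red.bc (aK k K) Z) ≅ Grp.mk (Red.DS (Spec (CommRingCat.of K)) M))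

/-- a point of `Z` as a point of the split group -/
noncomputable def spPt (R : Type u) [CommRing R] [Algebra k R] [Algebra K R] [IsScalarTower k K R]
    (x : T k R ⟶ Z) : T K R ⟶ Red.DS (Spec (CommRingCat.of K)) M :=
  BC.up (aK k K) (theta k K R ≫ x) ≫ (overIso e).hom

/-- a point of the split base change as a character -/
noncomputable def chi (R : Type u) [CommRing R] [Algebra k R] [Algebra K R] [IsScalarTower k K R]
    (x : T k R ⟶ Z) (m : M) : R :=
  (Scheme.ΓSpecIso (CommRingCat.of R)).commRingCatIsoToRingEquiv (Gm.dsFn (spPt e R x) m)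

theorem isMonHom_overIso : IsMonHom (overIso e).hom :=
  inferInstanceAs (IsMonHom e.hom.hom.hom)

theorem spPt_mul (R : Type u) [CommRing R] [Algebra k R] [Algebra K R] [IsScalarTower k K R]
    (x y : T k R ⟶ Z) : spPt e R (x * y) = spPt e R x * spPt e R y := by
  rw [spPt, MonObj.comp_mul, BC.up_mul]
  exact @MonObj.mul_comp _ _ _ _ _ _ _ _ _ _ _ (isMonHom_overIso e)

theorem spPt_one (R : Type u) [CommRing R] [Algebra k R] [Algebra K R] [IsScalarTower k K R] :
    spPt e R (1 : T k R ⟶ Z) = 1 := by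
  have h1 : BC.up (aK k K) (1 : (Over.map (aK k K)).obj (T K R) ⟶ Z) = 1 :=
    map_one (BC.downMulEquiv (aK k K) (T K R) Z).symm
  rw [spPt, MonObj.comp_one, h1]
  exact @MonObj.one_comp _ _ _ _ _ _ _ _ _ (isMonHom_overIso e)

theorem chi_mul (R : Type u) [CommRing R] [Algebra k R] [Algebra K R] [IsScalarTower k K R]
    (x y : T k R ⟶ Z) (m : M) : chi e R (x * y) m = chi e R x m * chi e R y m :=
  (congrArg (fun z => (Scheme.ΓSpecIso (CommRingCat.of R)).commRingCatIsoToRingEquiv z)
    ((congrArg (fun z => Gm.dsFn z m) (spPt_mul e R x y)).trans (Gm.dsFn_mul _ _ _))).trans (map_mul _ _ _)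

theorem chi_one (R : Type u) [CommRing R] [Algebra k R] [Algebra K R] [IsScalarTower k K R]
    (m : M) : chi e R (1 : T k R ⟶ Z) m = 1 :=
  (congrArg (fun z => (Scheme.ΓSpecIso (CommRingCat.of R)).commRingCatIsoToRingEquiv z)
    ((congrArg (fun z => Gm.dsFn z m) (spPt_one e R)).trans (Gm.dsFn_one _))).trans (map_one _)

theorem eq_one_of_chi (R : Type u) [CommRing R] [Algebra k R] [Algebra K R] [IsScalarTower k K R]
    (x : T k R ⟶ Z) (h : ∀ m, chi e R x m = 1) : x = 1 := by
  have h2 : spPt e R x = spPt e R 1 :=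
    Gm.dsFn_ext fun m => (Scheme.ΓSpecIso (CommRingCat.of R)).commRingCatIsoToRingEquiv.injective
      ((h m).trans (chi_one e R m).symm)
  rw [spPt, spPt, cancel_mono] at h2
  exact (cancel_epi (theta k K R)).1 ((Equiv.injective _) h2)

theorem chi_nat {R R' : Type u} [CommRing R] [Algebra k R] [Algebra K R] [IsScalarTower k K R]
    [CommRing R'] [Algebra k R'] [Algebra K R'] [IsScalarTower k K R'] (h : R →ₐ[K] R')
    (x : T k R ⟶ Z) (m : M) :
    chi e R' ((Spec.map (CommRingCat.ofHom (h.restrictScalars k).toRingHom)).asOver _ ≫ x) m =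
      h (chi e R x m) := by
  set hK : T K R' ⟶ T K R := (Spec.map (CommRingCat.ofHom h.toRingHom)).asOver _ with hhK
  set hk : T k R' ⟶ T k R :=
    (Spec.map (CommRingCat.ofHom (h.restrictScalars k).toRingHom)).asOver _ with hhk
  have h1 : theta k K R' ≫ hk = (Over.map (aK k K)).map hK ≫ theta k K R := by
    ext
    show 𝟙 _ ≫ Spec.map _ = Spec.map _ ≫ 𝟙 _
    simp
  have h2 : BC.up (aK k K) (theta k K R' ≫ hk ≫ x) = hK ≫ BC.up (aK k K) (theta k K R ≫ x) := by
    apply BC.down_injective (f := (aK k K))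
    rw [BC.down_up, BC.down_comp, BC.down_up, ← Category.assoc, h1, Category.assoc]
  rw [chi, chi, spPt, spPt, h2, Category.assoc, Gm.dsFn_comp]
  have h3 := Scheme.ΓSpecIso_naturality (CommRingCat.ofHom h.toRingHom)
  exact congr($h3 (Gm.dsFn (BC.up (aK k K) (theta k K R ≫ x) ≫ (overIso e).hom) m))

variable (p : ℕ) [Fact p.Prime] [CharP k p]

variable (k) in
/-- points of `α_p` -/
noncomputable def pa (R : Type u) [CommRing R] [Algebra k R] (b : R) (hb : b ^ p = 0) :
    T k R ⟶ T k (AlphaP.A p k) :=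
  Spec.mapMulEquiv (WithConv.toConv (AlphaP.lift p k b hb))

theorem pa_mul (R : Type u) [CommRing R] [Algebra k R] (b c : R) (hb : b ^ p = 0) (hc : c ^ p = 0)
    (hbc : (b + c) ^ p = 0) : pa k p R b hb * pa k p R c hc = pa k p R (b + c) hbc := by
  rw [pa, pa, pa, ← map_mul]
  congr 1
  apply WithConv.ofConv_injective
  apply AlphaP.algHom_ext
  rw [AlgHom.convMul_apply, AlphaP.comul_x]
  simp

theorem pa_zero (R : Type u) [CommRing R] [Algebra k R] (h : (0 : R) ^ p = 0) :
    pa k p R 0 h = 1 := by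
  rw [pa, ← map_one (Spec.mapMulEquiv (R := k) (S := AlphaP.A p k) (T := R))]
  congr 1
  apply WithConv.ofConv_injective
  apply AlphaP.algHom_ext
  simp [AlgHom.convOne_def]

theorem pa_comp {R R' : Type u} [CommRing R] [Algebra k R] [CommRing R'] [Algebra k R']
    (h : R →ₐ[k] R') (b : R) (hb : b ^ p = 0) (hb' : h b ^ p = 0) :
    (Spec.map (CommRingCat.ofHom h.toRingHom)).asOver _ ≫ pa k p R b hb = pa k p R' (h b) hb' := by
  have h1 : h.comp (AlphaP.lift p k b hb) = AlphaP.lift p k (h b) hb' :=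
    AlphaP.algHom_ext (by simp)
  ext
  show Spec.map _ ≫ Spec.map _ = Spec.map _
  rw [← Spec.map_comp, ← CommRingCat.ofHom_comp]
  congr 2
  exact congrArg AlgHom.toRingHom h1

include e in
theorem not_mono_alpha [CharP K p] (φ : T k (AlphaP.A p k) ⟶ Z) [IsMonHom φ] : ¬ Mono φ := by
  intro hmono
  have hp := (Fact.out : p.Prime)
  letI : Algebra k (AlphaP.A p K) := ((algebraMap K (AlphaP.A p K)).comp (algebraMap k K)).toAlgebra
  haveI : IsScalarTower k K (AlphaP.A p K) := IsScalarTower.of_algebraMap_eq fun _ => rfl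
  set R₀ := AlphaP.A p K with hR₀
  set x₀ : R₀ := AlphaP.x p K with hx₀
  have hx : x₀ ^ p = 0 := AlphaP.x_pow p K
  suffices h1 : ∀ m, chi e R₀ (pa k p R₀ x₀ hx ≫ φ) m = 1 by
    have h2 : pa k p R₀ x₀ hx ≫ φ = pa k p R₀ (0 : R₀) (zero_pow hp.ne_zero) ≫ φ := by
      rw [eq_one_of_chi e R₀ _ h1, pa_zero, MonObj.one_comp]
    have h3 := Spec.mapMulEquiv.injective (hmono.right_cancellation _ _ h2)
    have h4 : x₀ = 0 := by
      simpa using congrArg (fun f : WithConv (AlphaP.A p k →ₐ[k] R₀) => WithConv.ofConv f (AlphaP.x p k)) h3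
    rw [hx₀, ← AlphaP.mk_X] at h4
    have h5 : (X : K[X]) ^ p ∣ X := AdjoinRoot.mk_eq_zero.1 h4
    have h6 := X_pow_dvd_iff.1 h5 1 hp.one_lt
    simp at h6
  intro m
  obtain ⟨P, hP⟩ := AlphaP.mk_surjective p K (chi e R₀ (pa k p R₀ x₀ hx ≫ φ) m)
  have hU : ∀ (R : Type u) [CommRing R] [Algebra k R] [Algebra K R] [IsScalarTower k K R] (b : R)
      (hb : b ^ p = 0), chi e R (pa k p R b hb ≫ φ) m = aeval b P := by
    intro R _ _ _ _ b hb
    set h : R₀ →ₐ[K] R := AlphaP.lift p K b hb with hh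
    have e1 : h x₀ = b := AlphaP.lift_x _ _
    have hb' : (h.restrictScalars k) x₀ ^ p = 0 := by simpa [e1] using hb
    have e2 : pa k p R b hb = pa k p R ((h.restrictScalars k) x₀) hb' := by
      congr 1
      exact e1.symm
    rw [e2, ← pa_comp p (h.restrictScalars k) x₀ hx hb', Category.assoc, chi_nat, ← hP,
      ← AlphaP.aeval_x, ← Polynomial.aeval_algHom_apply, ← hx₀, e1]
  have h0 : P.coeff 0 = 1 := by
    have h := hU K 0 (zero_pow hp.ne_zero)
    rw [pa_zero, MonObj.one_comp, chi_one] at h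
    rw [coeff_zero_eq_aeval_zero]
    exact h.symm
  let R₂ := DualNumber R₀
  let x₂ : R₂ := TrivSqZeroExt.inl x₀
  let ε : R₂ := DualNumber.eps
  have hε : ε ^ 2 = 0 := by rw [pow_two]; exact DualNumber.eps_mul_eps
  have hx₂ : x₂ ^ p = 0 := by
    show (TrivSqZeroExt.inlHom R₀ R₀ x₀) ^ p = 0
    rw [← map_pow, hx, map_zero]
  have hεp : ε ^ p = 0 := pow_eq_zero_of_le hp.two_le hε
  have hsum : (x₂ + ε) ^ p = 0 := AlphaP.add_pow_eq_zero p k (Commute.all _ _) hx₂ hεp
  have heq : aeval (x₂ + ε) P = aeval x₂ P * aeval ε P := by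
    rw [← hU R₂ x₂ hx₂, ← hU R₂ ε hεp, ← hU R₂ (x₂ + ε) hsum, ← pa_mul p R₂ x₂ ε hx₂ hεp hsum,
      MonObj.mul_comp, chi_mul]
  have hε0 : aeval ε P = aeval (0 : R₂) P + aeval (0 : R₂) (derivative P) * ε := by
    conv_lhs => rw [← zero_add ε]
    exact aeval_add_of_sq_eq_zero P 0 ε hε
  have hinl : ∀ Q : K[X], aeval x₂ Q = TrivSqZeroExt.inl (aeval x₀ Q) := fun Q =>
    aeval_algHom_apply (TrivSqZeroExt.inlAlgHom K R₀ R₀) x₀ Q
  have hconst : ∀ Q : K[X], aeval (0 : R₂) Q = TrivSqZeroExt.inl (algebraMap K R₀ (Q.coeff 0)) :=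
    fun Q => by
      rw [← coeff_zero_eq_aeval_zero' Q]
      rfl
  rw [aeval_add_of_sq_eq_zero P x₂ ε hε, hε0, hinl, hinl, hconst, hconst, h0, map_one] at heq
  have hsnd := snd_eq _ _ _ heq
  have hmk : AlphaP.mk p K (derivative P - C ((derivative P).coeff 0) * P) = 0 := by
    rw [← AlphaP.aeval_x, map_sub, map_mul, aeval_C, sub_eq_zero, ← hx₀, hsnd]
  have hd : ∀ i < p, (derivative P).coeff i = (derivative P).coeff 0 * P.coeff i := fun i hi => by
    have := X_pow_dvd_iff.1 (AdjoinRoot.mk_eq_zero.1 hmk) i hi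
    rw [coeff_sub, coeff_C_mul, sub_eq_zero] at this
    exact this
  rw [← hP, ← map_one (AlphaP.mk p K), ← sub_eq_zero, ← map_sub]
  refine AdjoinRoot.mk_eq_zero.2 (X_pow_dvd_iff.2 fun i hi => ?_)
  rw [coeff_sub, coeff_one]
  rcases Nat.eq_zero_or_pos i with rfl | hi0
  · simp [h0]
  · simp [coeff_eq_zero_of_derivative p P _ h0 hd i hi0 hi, hi0.ne']

variable (k) in
/-- points of the constant group -/
noncomputable def pc (K : Type u) [Field K] [Algebra k K] (g : Multiplicative (ZMod p)) :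
    T k K ⟶ T k (ConstGrp.F k (Multiplicative (ZMod p))) :=
  Spec.mapMulEquiv (WithConv.toConv ((Algebra.ofId k K).comp (ConstGrp.ev k g)))

theorem pc_mul (g h : Multiplicative (ZMod p)) : pc k p K g * pc k p K h = pc k p K (g * h) := by
  rw [pc, pc, pc, ← map_mul]
  congr 1
  apply WithConv.ofConv_injective
  apply ConstGrp.algHom_ext
  intro c
  rw [AlgHom.convMul_apply, ConstGrp.comul_e]
  simp only [map_sum, Algebra.TensorProduct.map_tmul, Algebra.TensorProduct.lmul'_apply_tmul]
  rw [Finset.sum_eq_single g]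
  · simp [ConstGrp.e_apply, inv_mul_eq_iff_eq_mul, eq_inv_mul_iff_mul_eq]
  · intro b _ hb
    simp [ConstGrp.e_apply, Ne.symm hb]
  · simp

include e in
theorem not_mono_const [CharP K p] (ψ : T k (ConstGrp.F k (Multiplicative (ZMod p))) ⟶ Z) [IsMonHom ψ] :
    ¬ Mono ψ := by
  intro hmono
  have hpow : ∀ (g : Multiplicative (ZMod p)) (n : ℕ), pc k p K g ^ (n + 1) = pc k p K (g ^ (n + 1)) := by
    intro g n
    induction n with
    | zero => simp
    | succ n ih => rw [pow_succ, ih, pc_mul, ← pow_succ]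
  set g₀ : Multiplicative (ZMod p) := Multiplicative.ofAdd 1 with hg₀
  have hp1 : p - 1 + 1 = p := by have := (Fact.out : p.Prime).pos; omega
  have hone : pc k p K 1 = 1 := by
    have h := pc_mul (k := k) (K := K) p 1 1
    rw [_root_.mul_one] at h
    exact mul_eq_left.1 h
  have h1 : pc k p K g₀ ^ p = 1 := by
    have h := hpow g₀ (p - 1)
    rw [hp1] at h
    rw [h, show g₀ ^ p = 1 from Multiplicative.toAdd.injective (by simp [hg₀]), hone]
  have h2 : pc k p K g₀ ≫ ψ = 1 := by
    refine eq_one_of_chi e K _ fun m => frobenius_inj K p ?_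
    rw [frobenius_def, frobenius_def, one_pow]
    have hpow' : ∀ n : ℕ, chi e K (pc k p K g₀ ≫ ψ) m ^ n = chi e K ((pc k p K g₀ ≫ ψ) ^ n) m := by
      intro n
      induction n with
      | zero => rw [pow_zero, pow_zero, chi_one]
      | succ n ih => rw [pow_succ, pow_succ, chi_mul, ih]
    rw [hpow', ← MonObj.pow_comp, h1, MonObj.one_comp, chi_one]
  have h3 : pc k p K g₀ ≫ ψ = pc k p K 1 ≫ ψ := by rw [h2, hone, MonObj.one_comp]
  have h4 := Spec.mapMulEquiv.injective (hmono.right_cancellation _ _ h3)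
  have h5 := congrArg
    (fun f : WithConv (ConstGrp.F k (Multiplicative (ZMod p)) →ₐ[k] K) => WithConv.ofConv f (ConstGrp.e k g₀)) h4
  have hne : (1 : Multiplicative (ZMod p)) ≠ g₀ := fun h => by
    have := congrArg Multiplicative.toAdd h
    simp [hg₀] at this
  simp [ConstGrp.e_apply, hne] at h5

end Aux

/-- Let p be a prime, k a field of characteristic p, G a reductive k-group scheme (affine, smooth,
connected reductive geometric fibre) and z : Z ⟶ G its scheme-theoretic centre. Then Z contains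
neither α_p nor Z/pZ as a subgroup scheme: no homomorphism of k-group schemes from α_p (the spectrum
of k[X]/(X^p) with X primitive) to Z is a monomorphism, and no homomorphism from the constant
k-group scheme of the cyclic group of order p to Z is a monomorphism. (Stated over every field of
characteristic p; applied over an algebraic closure of k to the base change of G, whose centre is
the base change of Z, this is the published assertion about the geometric centre.) -/
theorem result (p : ℕ) [Fact p.Prime]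
    (k : Type u) [Field k] [CharP k p]
    (G : Over (Spec (CommRingCat.of k))) [GrpObj G] (hG : Red.IsReductive G)
    (Z : Over (Spec (CommRingCat.of k))) [GrpObj Z] (z : Z ⟶ G) (hz : Red.IsCentre z) :
    (∀ (φ : (Spec (CommRingCat.of (AlphaP.A p k))).asOver (Spec (CommRingCat.of k)) ⟶ Z), IsMonHom φ → ¬ Mono φ.left) ∧
      (∀ (ψ : (Spec (CommRingCat.of (ConstGrp.F k (Multiplicative (ZMod p))))).asOver (Spec (CommRingCat.of k)) ⟶ Z),
        IsMonHom ψ → ¬ Mono ψ.left) := by
  obtain ⟨Z', gZ', j, hj, -, hZ'⟩ := Groth.Agent.Lib.CentW.exists_centre_closed hG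
  haveI := hj.1
  haveI := hj.2.1
  haveI := hz.1
  haveI := hz.2.1
  obtain ⟨z₁, hz₁⟩ := (hj.2.2 Z z).2 ((hz.2.2 Z z).1 ⟨𝟙 Z, Category.id_comp z⟩)
  haveI : Mono (z₁ ≫ j) := by rw [hz₁]; infer_instance
  haveI : Mono z₁ := mono_of_mono z₁ j
  haveI : IsMonHom z₁ :=
    { one_hom := by rw [← cancel_mono j, Category.assoc, hz₁, IsMonHom.one_hom, IsMonHom.one_hom]
      mul_hom := by
        rw [← cancel_mono j, Category.assoc, hz₁, Category.assoc, IsMonHom.mul_hom j,
          IsMonHom.mul_hom z, ← Category.assoc, MonoidalCategory.tensorHom_comp_tensorHom, hz₁] }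
  obtain ⟨S', f, -, hsurj, -, hloc⟩ := hZ'
  obtain ⟨s', -⟩ := hsurj.surj (IsLocalRing.closedPoint k : Spec (CommRingCat.of k))
  obtain ⟨U, hs', M, iM, -, ⟨e⟩⟩ := hloc s'
  let x : (U : Scheme.{u}) := ⟨s', hs'⟩
  let K : Type u := (U : Scheme.{u}).residueField x
  let a₀ : Spec (CommRingCat.of K) ⟶ (U : Scheme.{u}) := (U : Scheme.{u}).fromSpecResidueField x
  letI : Algebra k K := (Spec.preimage (a₀ ≫ U.ι ≫ f)).hom.toAlgebra
  haveI : CharP K p := charP_of_injective_algebraMap (algebraMap k K).injective p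
  have ha : a₀ ≫ U.ι ≫ f = Spec.map (CommRingCat.ofHom (algebraMap k K)) := by
    simp [RingHom.algebraMap_toAlgebra]
  let e' := Groth.Agent.Lib.Tori.BaseChange.bcCongr ha.symm Z' ≪≫
    Groth.Agent.Lib.Tori.BaseChange.bcComp a₀ (U.ι ≫ f) Z' ≪≫
    Groth.Agent.Lib.Tori.BaseChange.bcMapIso a₀ e ≪≫ Groth.Agent.Lib.Tori.DS.dsBC M a₀
  refine ⟨fun φ hφ hm => ?_, fun ψ hψ hm => ?_⟩
  · haveI := hφ
    haveI : Mono φ := Over.mono_of_mono_left φ
    exact Aux.not_mono_alpha e' p (φ ≫ z₁) inferInstance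
  · haveI := hψ
    haveI : Mono ψ := Over.mono_of_mono_left ψ
    exact Aux.not_mono_const e' p (ψ ≫ z₁) inferInstance

end Groth.Agent.S17099
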