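import Groth.Statements.S1712
import Groth.Agent.Lib.DMod.DepthLocal
import Groth.Agent.Lib.DMod.SkCriterion

set_option autoImplicit false
universe u
open CategoryTheory
attribute [local instance] HasDerivedCategory.standard
open Dual

namespace Groth.Agent.S1712

open Groth.Agent.Lib.DMod

/-- Let A be a Noetherian local ring with a normalized dualizing complex ω, M a finite A-module and E^j
the A-module of maps M → ω[-j] in D(A). A prime p is in the support of one of E^0, …, E^i if and
only if the depth of M_p over A_p plus the dimension of A/p is at most i. -/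
theorem result (A : Type u) [CommRing A] [IsLocalRing A] [IsNoetherianRing A] (ω : Dual.D A) (hω : Dual.IsDualizing A ω) (hn : Dual.IsNormalized A ω) (M : Type u) [AddCommGroup M] [Module A M] [Module.Finite A M] (i : ℕ) (p : PrimeSpectrum A) : (∃ j : ℕ, j ≤ i ∧ p ∈ Module.support A (Dual.inD A M ⟶ ω⟦(-(j : ℤ))⟧)) ↔ ((LocCoh.depth (Localization.AtPrime p.asIdeal) (LocalizedModule p.asIdeal.primeCompl M) : ℕ∞) : WithBot ℕ∞) + ringKrullDim (A ⧸ p.asIdeal) ≤ (i : WithBot ℕ∞) := by
  by_cases hp : p ∈ Module.support A M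
  · obtain ⟨n, d, h1, -, -, htop, -, hrange⟩ := SkCriterion.exists_depth_dim hω p M hp
    rw [h1, LocalCase.ringKrullDim_quotient_eq_neg_deg hω hn p]
    have hle := LocalCase.deg_nonpos hω hn p
    have hcast : ((n : ℕ∞) : WithBot ℕ∞) + (((-Degree.deg hω p).toNat : ℕ) : WithBot ℕ∞) ≤ (i : WithBot ℕ∞) ↔
        n + (-Degree.deg hω p).toNat ≤ i := by exact_mod_cast Iff.rfl
    rw [hcast]
    constructor
    · rintro ⟨j, hj, hjp⟩
      have := hrange _ hjp
      lia
    · intro h
      refine ⟨(-(Degree.deg hω p - n)).toNat, by lia, ?_⟩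
      rw [show (-(((-(Degree.deg hω p - n)).toNat : ℕ) : ℤ)) = Degree.deg hω p - n by lia]
      exact htop
  · have : Subsingleton (LocalizedModule p.asIdeal.primeCompl M) := Module.notMem_support_iff.1 hp
    rw [SkCriterion.depth_of_subsingleton, LocalCase.ringKrullDim_quotient_eq_neg_deg hω hn p]
    refine ⟨fun ⟨j, _, hj⟩ => absurd hj (Degree.notMem_support_hom_of_outside hω p M _
      (Or.inr fun q hq hqM => absurd (Module.mem_support_mono hq hqM) hp)), fun h => absurd h ?_⟩
    have : ∀ z : ℕ, ((⊤ : ℕ∞) : WithBot ℕ∞) + (z : WithBot ℕ∞) = ((⊤ : ℕ∞) : WithBot ℕ∞) := fun z => by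
      rw [show (z : WithBot ℕ∞) = ((z : ℕ∞) : WithBot ℕ∞) from rfl, ← WithBot.coe_add, top_add]
    rw [this, show (i : WithBot ℕ∞) = ((i : ℕ∞) : WithBot ℕ∞) from rfl, WithBot.coe_le_coe]
    simp

end Groth.Agent.S1712
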