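import Groth.Statements.S17120
import Groth.Agent.H25.DivLift.Main

set_option autoImplicit false
universe u
open CategoryTheory CategoryTheory.Limits AlgebraicGeometry
open Lift

namespace Groth.Agent.S17120

/-- Let p be a prime, S~ a scheme flat over Z/p² with reduction S = S~ ×_{Z/p²} F_p (i_S : S → S~ the
cartesian closed immersion), S noetherian, and f : X → S a smooth morphism with X noetherian; let
D_1, …, D_r be quasi-coherent ideal sheaves on X forming a strict normal crossing divisor relative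
to S. Let X~ be a lifting of X to S~ (a flat g : X~ → S~ with j : X → X~ cartesian over i_S) and
D~_1, …, D~_r closed subschemes of X~, given by quasi-coherent ideal sheaves, with D~_m ×_{S~} S =
D_m, i.e. the ideal of D~_m pulled back along j is that of D_m. Then for each m the subscheme D~_m
is flat over S~ — so that it is a lifting of D_m — if and only if its ideal sheaf is an invertible
O_{X~}-module, i.e. D~_m is an effective Cartier divisor in X~. (The published lemma adds a third
equivalent condition describing the liftings by étale coordinates.) -/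
theorem result (p : ℕ) [Fact p.Prime]
    (Sl : Scheme.{u}) (gS : Sl ⟶ Spec (CommRingCat.of (ULift.{u} (ZMod (p ^ 2))))) [Flat gS]
    (S : Scheme.{u}) (iS : S ⟶ Sl) (fS : S ⟶ Spec (CommRingCat.of (ULift.{u} (ZMod p))))
    (hS : IsPullback iS fS gS (Spec.map (CommRingCat.ofHom
      ((ZMod.castHom (dvd_pow_self p two_ne_zero) (ULift.{u} (ZMod p))).comp
        (ULift.ringEquiv : ULift.{u} (ZMod (p ^ 2)) ≃+* ZMod (p ^ 2)).toRingHom))))
    [IsNoetherian S]
    (X : Scheme.{u}) (f : X ⟶ S) [Smooth f] [IsNoetherian X]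
    {r : ℕ} (D : Fin r → X.IdealSheafData) (hD : LogNCD.IsNCD D f)
    (Xl : Scheme.{u}) (g : Xl ⟶ Sl) [Flat g] (j : X ⟶ Xl) (hX : IsPullback j f g iS)
    (Dl : Fin r → Xl.IdealSheafData) (hDl : ∀ m, (Dl m).comap j = D m) (m : Fin r) :
    Flat ((Dl m).subschemeι ≫ g) ↔ PicF.IsInvertible (ClSub.idealMod (Dl m)) := by
  have hp : 0 < p := (Fact.out : p.Prime).pos
  have : NeZero (p ^ 2) := ⟨by positivity⟩
  let red : ULift.{u} (ZMod (p ^ 2)) →+* ULift.{u} (ZMod p) :=
    (ZMod.castHom (dvd_pow_self p two_ne_zero) (ULift.{u} (ZMod p))).comp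
      (ULift.ringEquiv : ULift.{u} (ZMod (p ^ 2)) ≃+* ZMod (p ^ 2)).toRingHom
  have hrep : ∀ a : ULift.{u} (ZMod (p ^ 2)), ∃ N : ℕ, a = (N : ULift.{u} (ZMod (p ^ 2))) := fun a =>
    ⟨a.down.val, ULift.ext _ _ (by rw [ULift.down_natCast, ZMod.natCast_val, ZMod.cast_id])⟩
  have hzero : ∀ N : ℕ, (N : ULift.{u} (ZMod (p ^ 2))) = 0 ↔ p ^ 2 ∣ N := fun N => by
    rw [← ZMod.natCast_eq_zero_iff]
    exact ⟨fun h => by simpa using congrArg ULift.down h, fun h => ULift.ext _ _ (by simpa using h)⟩
  have hzero' : ∀ N : ℕ, (N : ULift.{u} (ZMod p)) = 0 ↔ p ∣ N := fun N => by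
    rw [← ZMod.natCast_eq_zero_iff]
    exact ⟨fun h => by simpa using congrArg ULift.down h, fun h => ULift.ext _ _ (by simpa using h)⟩
  have hker : RingHom.ker red = Ideal.span {(p : ULift.{u} (ZMod (p ^ 2)))} := by
    ext a
    obtain ⟨N, rfl⟩ := hrep a
    rw [RingHom.mem_ker, map_natCast, hzero', Ideal.mem_span_singleton']
    constructor
    · rintro ⟨c, rfl⟩
      exact ⟨c, by rw [Nat.cast_mul, mul_comm]⟩
    · rintro ⟨b, hb⟩
      have := congrArg red hb
      rw [map_mul, map_natCast, map_natCast, (hzero' p).2 dvd_rfl, mul_zero] at this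
      exact (hzero' N).1 this.symm
  have hann : ∀ a : ULift.{u} (ZMod (p ^ 2)), (p : ULift.{u} (ZMod (p ^ 2))) * a = 0 →
      ∃ b, a = (p : ULift.{u} (ZMod (p ^ 2))) * b := fun a ha => by
    obtain ⟨N, rfl⟩ := hrep a
    rw [← Nat.cast_mul, hzero, pow_two] at ha
    obtain ⟨c, rfl⟩ := (Nat.mul_dvd_mul_iff_left hp).1 ha
    exact ⟨c, by rw [Nat.cast_mul]⟩
  have hred : Function.Surjective red := fun a =>
    ⟨(a.down.val : ℕ), by
      rw [map_natCast]
      exact ULift.ext _ _ (by rw [ULift.down_natCast, ZMod.natCast_val, ZMod.cast_id])⟩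
  refine Groth.Agent.H25.DivLift.Main.flat_iff_isInvertible red hred hker
    (by rw [← Nat.cast_mul, hzero, pow_two]) hann hS hX (Dl m) ?_ ?_
  · rw [hDl]; exact Groth.Agent.H25.DivLift.Main.isEffCartierIdeal f D hD m
  · rw [hDl]; exact Groth.Agent.H25.DivLift.Main.flat_component f D hD m

end Groth.Agent.S17120
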