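import Groth.Statements.S17130
import Groth.Agent.H25.DivLift.Exist

set_option autoImplicit false
universe u
open CategoryTheory CategoryTheory.Limits AlgebraicGeometry
open Lift

namespace Groth.Agent.S17130

/-- Let p be a prime, S~ a scheme flat over Z/p² with reduction S = S~ ×_{Z/p²} F_p (i : S → S~ the
cartesian closed immersion), S noetherian, f : X → S smooth with X noetherian, and D_1, …, D_r
quasi-coherent ideal sheaves on X forming a strict normal crossing divisor relative to S. Then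
locally in the Zariski topology the pair (X, D) lifts to S~: every point of X has an open
neighbourhood U with a flat g : U~ → S~ and j : U → U~ cartesian over i, together with closed
subschemes D~_1, …, D~_r of U~ (quasi-coherent ideals), flat over S~, whose ideals pull back along j
to the restrictions of the D_m to U. -/
theorem result (p : ℕ) [Fact p.Prime]
    (Sl : Scheme.{u}) (gS : Sl ⟶ Spec (CommRingCat.of (ULift.{u} (ZMod (p ^ 2))))) [Flat gS]
    (S : Scheme.{u}) (iS : S ⟶ Sl) (fS : S ⟶ Spec (CommRingCat.of (ULift.{u} (ZMod p))))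
    (hS : IsPullback iS fS gS (Spec.map (CommRingCat.ofHom
      ((ZMod.castHom (dvd_pow_self p two_ne_zero) (ULift.{u} (ZMod p))).comp
        (ULift.ringEquiv : ULift.{u} (ZMod (p ^ 2)) ≃+* ZMod (p ^ 2)).toRingHom))))
    [IsNoetherian S]
    (X : Scheme.{u}) (f : X ⟶ S) [Smooth f] [IsNoetherian X]
    {r : ℕ} (D : Fin r → X.IdealSheafData) (hD : LogNCD.IsNCD D f) (x : X) :
    ∃ U : X.Opens, x ∈ U ∧ ∃ (Ul : Scheme.{u}) (g : Ul ⟶ Sl) (j : (U : Scheme.{u}) ⟶ Ul),
      Flat g ∧ IsPullback j (U.ι ≫ f) g iS ∧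
        ∃ Dl : Fin r → Ul.IdealSheafData, ∀ m, (Dl m).comap j = (D m).comap U.ι ∧ Flat ((Dl m).subschemeι ≫ g) := by
  have hp : 0 < p := (Fact.out : p.Prime).pos
  have : NeZero (p ^ 2) := ⟨by positivity⟩
  let red : ULift.{u} (ZMod (p ^ 2)) →+* ULift.{u} (ZMod p) :=
    (ZMod.castHom (dvd_pow_self p two_ne_zero) (ULift.{u} (ZMod p))).comp
      (ULift.ringEquiv : ULift.{u} (ZMod (p ^ 2)) ≃+* ZMod (p ^ 2)).toRingHom
  have hred : Function.Surjective red := fun a =>
    ⟨(a.down.val : ℕ), by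
      rw [map_natCast]
      exact ULift.ext _ _ (by rw [ULift.down_natCast, ZMod.natCast_val, ZMod.cast_id])⟩
  have hrep : ∀ a : ULift.{u} (ZMod (p ^ 2)), ∃ N : ℕ, a = (N : ULift.{u} (ZMod (p ^ 2))) := fun a =>
    ⟨a.down.val, ULift.ext _ _ (by rw [ULift.down_natCast, ZMod.natCast_val, ZMod.cast_id])⟩
  have hzero : ∀ N : ℕ, (N : ULift.{u} (ZMod (p ^ 2))) = 0 ↔ p ^ 2 ∣ N := fun N => by
    rw [← ZMod.natCast_eq_zero_iff]
    exact ⟨fun h => by simpa using congrArg ULift.down h, fun h => ULift.ext _ _ (by simpa using h)⟩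
  have hzero' : ∀ N : ℕ, (N : ULift.{u} (ZMod p)) = 0 ↔ p ∣ N := fun N => by
    rw [← ZMod.natCast_eq_zero_iff]
    exact ⟨fun h => by simpa using congrArg ULift.down h, fun h => ULift.ext _ _ (by simpa using h)⟩
  have hker : RingHom.ker red = Ideal.span {(p : ULift.{u} (ZMod (p ^ 2)))} := by
    ext a
    obtain ⟨N, rfl⟩ := hrep a
    rw [RingHom.mem_ker, map_natCast, hzero', Ideal.mem_span_singleton']
    constructor
    · rintro ⟨c, rfl⟩
      exact ⟨c, by rw [Nat.cast_mul, mul_comm]⟩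
    · rintro ⟨b, hb⟩
      have := congrArg red hb
      rw [map_mul, map_natCast, map_natCast, (hzero' p).2 dvd_rfl, mul_zero] at this
      exact (hzero' N).1 this.symm
  have hp2 : (p : ULift.{u} (ZMod (p ^ 2))) ^ 2 = 0 := by rw [← Nat.cast_pow, hzero]
  haveI : IsClosedImmersion iS :=
    Groth.Agent.H25.DivLift.Main.isClosedImmersion_of_isPullback red hred hS
  haveI : Surjective iS := ⟨Groth.Agent.H25.DivLift.Main.surjective_of_isPullback (q := (p : ULift.{u} (ZMod (p ^ 2)))) red hred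
    hker ⟨2, hp2⟩ hS⟩
  exact Groth.Agent.H25.DivLift.Exist.exists_lift iS f D hD x

end Groth.Agent.S17130
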