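import Groth.Statements.S17139
import Groth.Agent.Lib.Isoc.Slope
-- import your own Groth.Agent.* helpers here

set_option autoImplicit false
universe u v
open Isoc

namespace Groth.Agent.S17139

/-- Let k be a perfect field of characteristic p, a ∈ ℤ, and (N, F) a non-zero σ^a-F-isocrystal over k
of height h, with b an L-basis of N indexed by Fin h and d the p-adic order of the determinant
coefficient of F in the basis b. If M is a W(k)-lattice in N and r ∈ ℤ, s > 0 satisfy F^s(M) = p^r ·
M, then the first Newton slope λ₁(N, F) equals r/s, and r · h = s · d. (The published statement adds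
that F^h(M) = p^d · M for the same lattice M; that clause is not established by the published proof
and fails when gcd(r, s) ≠ 1 — for a = 0, N = L², M = W², F with matrix rows (p, 1), (0, p) and p
odd one has F^p(M) = p^p · M, h = d = 2, but F²(M) ≠ p² · M — so it is omitted here; the converse
direction is a separate statement.) -/
theorem result (p : ℕ) [Fact p.Prime] (k : Type u) [Field k] [CharP k p] [PerfectRing k p] (a : ℤ)
    (N : Type v) [AddCommGroup N] [Module (WittVector p k) N] [Module (FractionRing (WittVector p k)) N]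
    [IsScalarTower (WittVector p k) (FractionRing (WittVector p k)) N]
    [Nontrivial N] (F : N →ₛₗ[Isoc.frob p k a] N) (hF : Isoc.IsIsoc F)
    (h : ℕ) (b : Module.Basis (Fin h) (FractionRing (WittVector p k)) N)
    (d : ℤ) (hd : Isoc.IsOrdP (Isoc.detCoeff b F) d)
    (M : Submodule (WittVector p k) N) (hM : M.IsLattice (FractionRing (WittVector p k)))
    (r : ℤ) (s : ℕ) (hs : 0 < s) (hFM : Isoc.latImg F s M = Isoc.pPow r M) :
    Isoc.IsFirstSlope F ((r : ℝ) / s) ∧ r * h = s * d := by
  have hτ := Groth.Agent.Lib.Isoc.Order.good_frob (p := p) (k := k) a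
  have heq := (Groth.Agent.Lib.Isoc.Det.mul_le_of_latImg_le b hτ hd hM hFM.le).2.2 hFM
  refine ⟨?_, heq⟩
  obtain ⟨lam, hlam⟩ := Groth.Agent.Lib.Isoc.Slope.exists_isFirstSlope hτ hF
  have h1 := Groth.Agent.Lib.Isoc.Slope.le_slope_of_latImg_le hτ hF hlam hM hs hFM.le
  obtain ⟨o, ho, hl⟩ := Groth.Agent.Lib.Isoc.Slope.exists_seq_of_isFirstSlope hτ hF hlam hM
  suffices lam ≤ (r : ℝ) / s by rwa [le_antisymm h1 this]
  have hh : (0 : ℝ) < h := by
    have := hF.finite
    have : 0 < Module.finrank (FractionRing (WittVector p k)) N := Module.finrank_pos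
    rw [Module.finrank_eq_card_basis b, Fintype.card_fin] at this
    exact_mod_cast this
  have hs' : (0 : ℝ) < s := by exact_mod_cast hs
  have hrd : (r : ℝ) * h = s * d := by exact_mod_cast heq
  refine le_of_tendsto hl (Filter.eventually_atTop.2 ⟨1, fun n hn => ?_⟩)
  have h2 : ((o n * h : ℤ) : ℝ) ≤ ((n * d : ℤ) : ℝ) := by
    exact_mod_cast (Groth.Agent.Lib.Isoc.Det.mul_le_of_latImg_le b hτ hd hM (ho n).1).1
  push_cast at h2
  rw [div_le_div_iff₀ (by exact_mod_cast hn) hs']
  refine le_of_mul_le_mul_right ?_ hh
  calc (o n : ℝ) * s * h = (o n * h) * s := by ring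
    _ ≤ n * d * s := mul_le_mul_of_nonneg_right h2 hs'.le
    _ = r * n * h := by linear_combination -(n : ℝ) * hrd

end Groth.Agent.S17139
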