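import Groth.Statements.S1714
import Groth.Agent.Lib.DMod.FlatDegree
import Groth.Agent.Lib.DMod.LBC
import Groth.Agent.Lib.RGamma.AnnihilatorThm
import Groth.Agent.S1779
import Mathlib.RingTheory.AdicCompletion.AsTensorProduct

set_option autoImplicit false
universe u
open CategoryTheory
attribute [local instance] HasDerivedCategory.standard
open LocCoh

namespace Groth.Agent.S1714

/-- Let A be a Noetherian ring with a dualizing complex, I an ideal, M a finite A-module, A' and M' the
I-adic completions. Let p' ⊆ q' be primes of A' with I A' ⊆ q', lying over the primes p ⊆ q of A.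
Then the depth of M'_{p'} over A'_{p'} is at least the depth of M_p over A_p, and depth(M'_{p'})
plus the dimension of the interval of primes [p', q'] equals depth(M_p) plus the dimension of [p,
q]. -/
theorem result (A : Type u) [CommRing A] [IsNoetherianRing A] (hA : ∃ ω : Dual.D A, Dual.IsDualizing A ω) (I : Ideal A) (M : Type u) [AddCommGroup M] [Module A M] [Module.Finite A M] (p' q' : PrimeSpectrum (AdicCompletion I A)) (hpq : p' ≤ q') (hq : Ideal.map (algebraMap A (AdicCompletion I A)) I ≤ q'.asIdeal) : LocCoh.depth (Localization.AtPrime (p'.asIdeal.comap (algebraMap A (AdicCompletion I A)))) (LocalizedModule (p'.asIdeal.comap (algebraMap A (AdicCompletion I A))).primeCompl M) ≤ LocCoh.depth (Localization.AtPrime p'.asIdeal) (LocalizedModule p'.asIdeal.primeCompl (AdicCompletion I M)) ∧ ((LocCoh.depth (Localization.AtPrime p'.asIdeal) (LocalizedModule p'.asIdeal.primeCompl (AdicCompletion I M)) : ℕ∞) : WithBot ℕ∞) + Order.krullDim (Set.Icc p' q') = ((LocCoh.depth (Localization.AtPrime (p'.asIdeal.comap (algebraMap A (AdicCompletion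 I A)))) (LocalizedModule (p'.asIdeal.comap (algebraMap A (AdicCompletion I A))).primeCompl M) : ℕ∞) : WithBot ℕ∞) + Order.krullDim (Set.Icc ((PrimeSpectrum.comap (algebraMap A (AdicCompletion I A))) p') ((PrimeSpectrum.comap (algebraMap A (AdicCompletion I A))) q')) := by
  open Groth.Agent.Lib in
  obtain ⟨ω, hω⟩ := hA
  have := AdicCompletion.flat_of_isNoetherian (R := A) I
  have := Groth.Agent.Lib.Excellent.CompletionNoetherian.isNoetherianRing_adicCompletion I
  let B := AdicCompletion I A
  have : DRing.HasLBaseChange (algebraMap A B) :=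
    Groth.Agent.Lib.DR.BaseChangeU.hasLBaseChange _
  have hω' : Dual.IsDualizing B ((Groth.Agent.Lib.DMod.FlatHom.L A B).obj ω) :=
    Groth.Agent.Lib.DMod.LBC.isDualizing_of_iso
      ((Groth.Agent.Lib.DMod.FlatHom.isoLBaseChange A B).app ω) (Groth.Agent.S1779.result A I ω hω)
  let e : (TensorProduct A B M) ≃ₗ[B] AdicCompletion I M :=
    LinearEquiv.ofBijective (AdicCompletion.ofTensorProduct I M)
      (AdicCompletion.ofTensorProductEquivOfFiniteNoetherian I M).bijective
  let p := PrimeSpectrum.comap (algebraMap A B) p'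
  let q := PrimeSpectrum.comap (algebraMap A B) q'
  have hle : p ≤ q := Ideal.comap_mono hpq
  have hd : LocCoh.depth (Localization.AtPrime p'.asIdeal)
        (LocalizedModule p'.asIdeal.primeCompl (AdicCompletion I M)) =
      LocCoh.depth (Localization.AtPrime p'.asIdeal)
        (LocalizedModule p'.asIdeal.primeCompl (TensorProduct A B M)) := by
    let f := IsLocalizedModule.mapEquiv p'.asIdeal.primeCompl
      (LocalizedModule.mkLinearMap p'.asIdeal.primeCompl (AdicCompletion I M))
      (LocalizedModule.mkLinearMap p'.asIdeal.primeCompl (TensorProduct A B M))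
      (Localization.AtPrime p'.asIdeal) e.symm
    exact Groth.Agent.Lib.Depth.Basic.depth_congr f
  rw [hd, Groth.Agent.Lib.RGamma.AnnihilatorThm.krullDim_Icc hω' hpq,
    Groth.Agent.Lib.RGamma.AnnihilatorThm.krullDim_Icc hω hle]
  have hqI : I ≤ q.asIdeal := Ideal.map_le_iff_le_comap.1 hq
  have hdegq : Groth.Agent.Lib.DMod.Degree.deg hω' q' = Groth.Agent.Lib.DMod.Degree.deg hω q := by
    refine Groth.Agent.Lib.DMod.FlatDegree.deg_eq_of_map_eq hω hω' q'
      (le_antisymm Ideal.map_comap_le fun x hx => ?_)
    obtain ⟨a, ha⟩ := Ideal.Quotient.mk_surjective (AdicCompletion.evalOneₐ I x)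
    have hxa : x - algebraMap A B a ∈ I.map (algebraMap A B) := by
      rw [← AdicCompletion.ker_evalOneₐ_eq_map I (Ideal.fg_of_isNoetherianRing I),
        RingHom.mem_ker, map_sub, sub_eq_zero]
      exact ha.symm.trans (RingHom.congr_fun (AdicCompletion.evalOneₐ_comp_algebraMap_eq_mk I) a).symm
    have haq : a ∈ q.asIdeal := by
      have := sub_mem hx (hq hxa)
      rwa [sub_sub_cancel] at this
    rw [← sub_add_cancel x (algebraMap A B a)]
    exact add_mem (Ideal.map_mono hqI hxa) (Ideal.mem_map_of_mem _ haq)
  have hdegp := Groth.Agent.Lib.DMod.FlatDegree.deg_comap_le hω hω' p'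
  have hdp := Groth.Agent.Lib.DMod.Degree.deg_le hω' hpq
  have hdq := Groth.Agent.Lib.DMod.Degree.deg_le hω hle
  by_cases hM : p ∈ Module.support A M
  · obtain ⟨n, m, hn, hm, hnm⟩ :=
      Groth.Agent.Lib.DMod.FlatDegree.depth_eq hω hω' p' M hM
    rw [show LocCoh.depth (Localization.AtPrime (p'.asIdeal.comap (algebraMap A B)))
      (LocalizedModule (p'.asIdeal.comap (algebraMap A B)).primeCompl M) = n from hn, hm]
    have hnm' : (m : ℤ) - n = Groth.Agent.Lib.DMod.Degree.deg hω' p' -
        Groth.Agent.Lib.DMod.Degree.deg hω p := hnm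
    have hdegp' : Groth.Agent.Lib.DMod.Degree.deg hω p ≤
        Groth.Agent.Lib.DMod.Degree.deg hω' p' := hdegp
    refine ⟨by exact_mod_cast (show n ≤ m by omega), ?_⟩
    norm_cast
    omega
  · have h1 : Subsingleton (LocalizedModule p.asIdeal.primeCompl M) :=
      Module.notMem_support_iff.1 hM
    have h2 : Subsingleton (LocalizedModule p'.asIdeal.primeCompl (TensorProduct A B M)) := by
      refine Module.notMem_support_iff.1 fun h => hM ?_
      rw [Module.mem_support_iff'] at h ⊢
      obtain ⟨z, hz⟩ := h
      by_contra hc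
      push Not at hc
      suffices h' : ∃ t : A, t ∉ p.asIdeal ∧ t • z = 0 by
        obtain ⟨t, ht, h0⟩ := h'
        exact hz (algebraMap A B t) ht (by rw [algebraMap_smul, h0])
      clear hz
      induction z using TensorProduct.induction_on with
      | zero => exact ⟨1, p.isPrime.one_notMem, smul_zero _⟩
      | tmul b m =>
        obtain ⟨t, ht, ht'⟩ := hc m
        exact ⟨t, ht, by rw [← TensorProduct.tmul_smul, ht', TensorProduct.tmul_zero]⟩
      | add x y hx hy =>
        obtain ⟨s, hs, hsx⟩ := hx
        obtain ⟨t, ht, hty⟩ := hy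
        exact ⟨s * t, p.isPrime.mul_notMem hs ht, by
          rw [smul_add, mul_comm, mul_smul, hsx, smul_zero, zero_add, mul_comm, mul_smul, hty,
            smul_zero]⟩
    have htop : ∀ (R : Type u) [CommRing R] [IsLocalRing R] (N : Type u) [AddCommGroup N]
        [Module R N] [Subsingleton N], LocCoh.depth R N = ⊤ := fun R _ _ N _ _ _ => by
      rw [LocCoh.depth, LocCoh.idealDepth, if_pos (Subsingleton.elim _ _)]
    rw [htop (Localization.AtPrime p'.asIdeal), @htop (Localization.AtPrime (p'.asIdeal.comap
      (algebraMap A B))) _ _ (LocalizedModule (p'.asIdeal.comap (algebraMap A B)).primeCompl M) _ _ h1]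
    exact ⟨le_rfl, rfl⟩

end Groth.Agent.S1714
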