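import Groth.Statements.S17144
import Groth.Agent.Lib.Isoc.Slope
-- import your own Groth.Agent.* helpers here

set_option autoImplicit false
universe u v
open Isoc

namespace Groth.Agent.S17144

/-- Let k be a perfect field of characteristic p, a ∈ ℤ, W = W(k) with fraction field L, and (N, F) a
σ^a-F-isocrystal over k (N finite-dimensional over L, F a bijective σ^a-semilinear endomorphism) of
height h = dim_L N. If there is a W-lattice M in N with F^(h+1)(M) ⊆ p^(-1) · M, then (N, F) is
effective, i.e. there is a W-lattice M'' in N with F(M'') ⊆ M''. -/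
theorem result (p : ℕ) [Fact p.Prime] (k : Type u) [Field k] [CharP k p] [PerfectRing k p] (a : ℤ)
    (N : Type v) [AddCommGroup N] [Module (WittVector p k) N] [Module (FractionRing (WittVector p k)) N]
    [IsScalarTower (WittVector p k) (FractionRing (WittVector p k)) N]
    (F : N →ₛₗ[Isoc.frob p k a] N) (hF : Isoc.IsIsoc F) (h : ℕ) (hh : Module.finrank (FractionRing (WittVector p k)) N = h)
    (M : Submodule (WittVector p k) N) (hM : M.IsLattice (FractionRing (WittVector p k)))
    (hFM : Isoc.latImg F (h + 1) M ≤ Isoc.pPow (-1) M) : Isoc.IsEffective F := by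
  have hτ := Groth.Agent.Lib.Isoc.Order.good_frob (p := p) (k := k) a
  have := hF.finite
  rcases subsingleton_or_nontrivial N with hN | hN
  · exact ⟨M, hM, fun x _ => by rw [Subsingleton.elim x 0]; exact zero_mem _⟩
  obtain ⟨lam, hlam⟩ := Groth.Agent.Lib.Isoc.Slope.exists_isFirstSlope hτ hF
  have h1 := Groth.Agent.Lib.Isoc.Slope.le_slope_of_latImg_le hτ hF hlam hM (Nat.succ_pos h) hFM
  obtain ⟨r, s, hs, hsh, hrs⟩ := Groth.Agent.Lib.Isoc.Slope.exists_rat_eq_slope hτ hF hlam
  rw [hh] at hsh
  refine Groth.Agent.Lib.Isoc.Slope.exists_stable_of_slope_nonneg hτ hF hlam ?_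
  by_contra hneg
  have hs' : (0 : ℝ) < s := by exact_mod_cast hs
  have hr : r ≤ -1 := by
    by_contra hr
    exact hneg (hrs ▸ div_nonneg (by exact_mod_cast (show 0 ≤ r by omega)) hs'.le)
  have hr' : (r : ℝ) ≤ -1 := by exact_mod_cast hr
  rw [hrs, div_le_div_iff₀ (by positivity) hs'] at h1
  have hsh' : (s : ℝ) ≤ h := by exact_mod_cast hsh
  push_cast at h1
  nlinarith

end Groth.Agent.S17144
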