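import Groth.Statements.S1715
import Groth.Agent.Lib.DMod.DepthDegree
import Mathlib.RingTheory.Ideal.MinimalPrime.Noetherian
import Mathlib.Data.Int.Interval

set_option autoImplicit false
universe u
open CategoryTheory
attribute [local instance] HasDerivedCategory.standard
open LocCoh

namespace Groth.Agent.S1715

/-- For an affine scheme: let A be a Noetherian ring with a dualizing complex and M a finite A-module
satisfying Serre's condition (S_k). Then there are only finitely many primes p such that M_p has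
depth exactly k while its support has dimension greater than k. (The source states this for coherent
modules on a Noetherian scheme with a dualizing complex.) -/
theorem result (A : Type u) [CommRing A] [IsNoetherianRing A] (hA : ∃ ω : Dual.D A, Dual.IsDualizing A ω) (M : Type u) [AddCommGroup M] [Module A M] [Module.Finite A M] (k : ℕ) (hM : LocCoh.HasSk k A M) : Set.Finite {p : PrimeSpectrum A | LocCoh.depth (Localization.AtPrime p.asIdeal) (LocalizedModule p.asIdeal.primeCompl M) = k ∧ (k : WithBot ℕ∞) < Module.supportDim (Localization.AtPrime p.asIdeal) (LocalizedModule p.asIdeal.primeCompl M)} := by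
  classical
  obtain ⟨ω, hω⟩ := hA
  open Groth.Agent.Lib.DMod in
  obtain ⟨lo, hi, hlo⟩ := Degree.exists_le_deg hω
  let R : Finset (Ideal A) :=
    (Ideal.finite_minimalPrimes_of_isNoetherianRing A (Module.annihilator A M)).toFinset
  let B : ℤ → Finset (Ideal A) := fun j => R.filter fun r => ∃ h : r.IsPrime,
    Groth.Agent.Lib.DMod.Degree.deg hω ⟨r, h⟩ < j
  let I : ℤ → Ideal A := fun j =>
    Module.annihilator A (Dual.inD A M ⟶ ω⟦j⟧) ⊔ ∏ r ∈ B j, r
  have hfin : ((⋃ j ∈ Finset.Icc (lo - k) (hi - k),
      PrimeSpectrum.asIdeal ⁻¹' (I j).minimalPrimes : Set (PrimeSpectrum A))).Finite :=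
    (Finset.Icc (lo - (k : ℤ)) (hi - k)).finite_toSet.biUnion fun j _ =>
      (Ideal.finite_minimalPrimes_of_isNoetherianRing A (I j)).preimage
        fun p _ q _ h => PrimeSpectrum.ext h
  refine hfin.subset fun p hp => ?_
  obtain ⟨hdep, hdim⟩ := hp
  have hpM : p ∈ Module.support A M := by
    by_contra hc
    have : Subsingleton (LocalizedModule p.asIdeal.primeCompl M) := Module.notMem_support_iff.1 hc
    rw [Module.supportDim_eq_bot_of_subsingleton] at hdim
    exact not_lt_bot hdim
  open Groth.Agent.Lib.DMod in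
  obtain ⟨n, hn, hmem, -⟩ := DepthDegree.depth_eq hω p M hpM
  obtain rfl : n = k := by
    rw [hdep] at hn
    exact_mod_cast hn.symm
  have hpd := hlo p
  refine Set.mem_iUnion₂.2 ⟨Groth.Agent.Lib.DMod.Degree.deg hω p - n,
    Finset.mem_Icc.2 ⟨by omega, by omega⟩, ?_⟩
  generalize hj : Groth.Agent.Lib.DMod.Degree.deg hω p - n = j at hmem ⊢
  open Groth.Agent.Lib.DMod in
  obtain ⟨q₀, hq₀p, hq₀, hq₀min⟩ := DimDegree.exists_min_deg hω p M hpM
  open Groth.Agent.Lib.DMod in
  rw [DimDegree.supportDim_localized_eq hω p q₀ M hq₀p hq₀ hq₀min] at hdim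
  norm_cast at hdim
  refine ⟨⟨p.isPrime, sup_le (Module.annihilator_le_of_mem_support hmem) ?_⟩, fun Q hQ hQp => ?_⟩
  · obtain ⟨r, hr, hrq⟩ := Ideal.exists_minimalPrimes_le (J := q₀.asIdeal)
      (Module.annihilator_le_of_mem_support hq₀)
    have : r.IsPrime := hr.1.1
    have hd : Groth.Agent.Lib.DMod.Degree.deg hω ⟨r, hr.1.1⟩ ≤
        Groth.Agent.Lib.DMod.Degree.deg hω q₀ := Groth.Agent.Lib.DMod.Degree.deg_le hω hrq
    refine (Ideal.prod_le_inf.trans (Finset.inf_le (f := fun r => r) (b := r) ?_)).trans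
      (hrq.trans hq₀p)
    exact Finset.mem_filter.2 ⟨(Set.Finite.mem_toFinset _).2 hr, hr.1.1, by omega⟩
  · rcases hQp.eq_or_lt with h | h
    · exact h.ge
    · exfalso
      let q : PrimeSpectrum A := ⟨Q, hQ.1⟩
      have hqj : q ∈ Module.support A (Dual.inD A M ⟶ ω⟦j⟧) := by
        have := Groth.Agent.Lib.DMod.Degree.finite_hom hω M j
        rw [Module.support_eq_zeroLocus, PrimeSpectrum.mem_zeroLocus]
        exact (le_sup_left (b := ∏ r ∈ B j, r)).trans hQ.2
      obtain ⟨r, hrB, hrQ⟩ := (Ideal.IsPrime.prod_le hQ.1).1 (le_sup_right.trans hQ.2)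
      obtain ⟨hrR, hrp, hrd⟩ := Finset.mem_filter.1 hrB
      have hr := (Set.Finite.mem_toFinset _).1 hrR
      have hrM : (⟨r, hrp⟩ : PrimeSpectrum A) ∈ Module.support A M := by
        rw [Module.support_eq_zeroLocus, PrimeSpectrum.mem_zeroLocus]
        exact hr.1.2
      have hqM : q ∈ Module.support A M := Module.mem_support_mono (show _ ≤ q from hrQ) hrM
      have hlt := Groth.Agent.Lib.DMod.Degree.deg_lt hω (show q < p from h)
      open Groth.Agent.Lib.DMod in
      obtain ⟨m, hm, -, hmax⟩ := DepthDegree.depth_eq hω q M hqM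
      have hjm : ¬ (Groth.Agent.Lib.DMod.Degree.deg hω q - m < j) := fun h' => hmax j h' hqj
      open Groth.Agent.Lib.DMod in
      obtain ⟨q₁, hq₁q, hq₁, hq₁min⟩ := DimDegree.exists_min_deg hω q M hqM
      have hS := @hM Q hQ.1
      have := hQ.1
      open Groth.Agent.Lib.DMod in
      rw [show LocCoh.depth (Localization.AtPrime Q) (LocalizedModule Q.primeCompl M) = m from hm,
        show Module.supportDim (Localization.AtPrime Q) (LocalizedModule Q.primeCompl M) = _ from
          DimDegree.supportDim_localized_eq hω q q₁ M hq₁q hq₁ hq₁min] at hS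
      have h1 := hq₁min _ hrM (show _ ≤ q from hrQ)
      rcases min_le_iff.1 hS with h2 | h2
      · norm_cast at h2; omega
      · norm_cast at h2; omega

end Groth.Agent.S1715
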