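import Groth.Statements.S17157
import Groth.Agent.Lib.Isoc.Order
import Mathlib.FieldTheory.Finite.Basic
import Mathlib.LinearAlgebra.FiniteDimensional.Lemmas
-- import your own Groth.Agent.* helpers here

set_option autoImplicit false
universe u
open Isoc

namespace Groth.Agent.S17157

/-- Let k be a finite field of characteristic p, W = W(k), L its fraction field with Frobenius σ, and
let U be the σ-semilinear endomorphism of L² = (Fin 2 → L) determined by U(e₀) = e₀ and U(e₁) = e₀ +
e₁ on the standard basis. Then (L², U) is an F-isocrystal in which the sub-isocrystal L · e₀ admits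
no U-stable complementary L-subspace; in particular the category of F-isocrystals over a finite
field is not semisimple. (Over an algebraically closed field a complement exists.) -/
theorem result
    (p : ℕ) [Fact p.Prime] (k : Type u) [Field k] [CharP k p] [PerfectRing k p] [Finite k]
    (U : (Fin 2 → (FractionRing (WittVector p k))) →ₛₗ[Isoc.frob p k 1] (Fin 2 → (FractionRing (WittVector p k))))
    (hU0 : U (Pi.single 0 1) = Pi.single 0 1)
    (hU1 : U (Pi.single 1 1) = Pi.single 0 1 + Pi.single 1 1)
    (Q : Submodule (FractionRing (WittVector p k)) (Fin 2 → (FractionRing (WittVector p k)))) (hQ : ∀ x ∈ Q, U x ∈ Q) :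
    ¬ IsCompl (Submodule.span (FractionRing (WittVector p k)) {(Pi.single 0 1 : Fin 2 → (FractionRing (WittVector p k)))}) Q := by
  intro hc
  have := Fintype.ofFinite k
  have := hc
  obtain ⟨a, ha, v, hv, hav⟩ := Submodule.mem_sup.1
    (hc.sup_eq_top.ge (Submodule.mem_top : (Pi.single 1 1 : Fin 2 → (FractionRing (WittVector p k))) ∈ (⊤ : Submodule (FractionRing (WittVector p k)) (Fin 2 → (FractionRing (WittVector p k))))))
  obtain ⟨c, rfl⟩ := Submodule.mem_span_singleton.1 ha
  have hv' : v = Pi.single 1 1 - c • Pi.single 0 1 := eq_sub_of_add_eq' hav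
  have hUv : U v = (Pi.single 0 1 + Pi.single 1 1) - (Isoc.frob p k 1) c • Pi.single 0 1 := by
    rw [hv', map_sub, map_smulₛₗ, hU1, hU0]
  have hmem : ((1 : (FractionRing (WittVector p k))) - (Isoc.frob p k 1) c + c) • (Pi.single 0 1 : Fin 2 → (FractionRing (WittVector p k))) ∈
      Submodule.span (FractionRing (WittVector p k)) {(Pi.single 0 1 : Fin 2 → (FractionRing (WittVector p k)))} ⊓ Q := by
    refine ⟨Submodule.smul_mem _ _ (Submodule.mem_span_singleton_self _), ?_⟩
    have h1 := Q.sub_mem (hQ v hv) hv
    rw [hUv, hv'] at h1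
    rw [SetLike.mem_coe]
    convert h1 using 1
    simp only [add_smul, sub_smul, one_smul]
    abel
  rw [hc.inf_eq_bot, Submodule.mem_bot, smul_eq_zero] at hmem
  have hx : (Isoc.frob p k 1) c = c + 1 := by
    rcases hmem with h | h
    · linear_combination -h
    · have := congrFun h 0
      simp at this
  have hiter : ∀ n : ℕ, (⇑(Isoc.frob p k 1))^[n] c = c + n := by
    intro n
    induction n with
    | zero => simp
    | succ n ih =>
      rw [Function.iterate_succ_apply', ih, map_add, map_natCast, hx]
      push_cast; ring
  obtain ⟨f, hfp, hcard⟩ := FiniteField.card k p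
  have hid : (Isoc.frob p k 1) ^ (f : ℕ) = RingHom.id (FractionRing (WittVector p k)) := by
    refine IsLocalization.ringHom_ext (nonZeroDivisors (WittVector p k)) (RingHom.ext fun w => ?_)
    simp only [RingHom.comp_apply, RingHom.id_apply]
    have key : ∀ n : ℕ, ((Isoc.frob p k 1) ^ n) (algebraMap (WittVector p k) (FractionRing (WittVector p k)) w) =
        algebraMap (WittVector p k) (FractionRing (WittVector p k)) ((⇑(WittVector.frobenius : WittVector p k →+* WittVector p k))^[n] w) := by
      intro n
      induction n with
      | zero => rfl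
      | succ n ih =>
        rw [pow_succ', RingHom.coe_mul, Function.comp_apply, ih, Function.iterate_succ_apply',
          Isoc.frob_algebraMap, zpow_one]
        rfl
    rw [key]
    refine congrArg _ (WittVector.ext fun i => ?_)
    rw [WittVector.iterate_frobenius_coeff, ← hcard, FiniteField.pow_card]
  have h1 := hiter f
  rw [← RingHom.coe_pow, hid, RingHom.id_apply] at h1
  have h2 : ((f : ℕ) : (FractionRing (WittVector p k))) = 0 := left_eq_add.1 h1
  have h3 : ((f : ℕ) : WittVector p k) = 0 := Groth.Agent.Lib.Isoc.Order.algebraMap_injective (by rw [map_natCast, map_zero]; exact h2)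
  obtain ⟨t, m, hm, hft⟩ := Nat.exists_eq_pow_mul_and_not_dvd f.pos.ne' p (Fact.out : p.Prime).ne_one
  rw [hft, Nat.cast_mul, Nat.cast_pow, mul_eq_zero] at h3
  rcases h3 with h3 | h3
  · exact WittVector.p_nonzero p k (pow_eq_zero_iff'.1 h3).1
  · have h4 := congrArg (fun w : WittVector p k => WittVector.constantCoeff w) h3
    simp only [map_natCast, map_zero] at h4
    exact hm ((CharP.cast_eq_zero_iff k p m).1 h4)

end Groth.Agent.S17157
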