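import Groth.Statements.S17171
import Mathlib

set_option autoImplicit false
open QSymFn

namespace Groth.Agent.S17171

lemma map_fin_sum {ℓ : ℕ} {β : Type*} (g : Fin ℓ → β) (a : Fin ℓ → ℕ) :
    Finsupp.mapDomain g (Finsupp.equivFunOnFinite.symm a) = ∑ t, Finsupp.single (g t) (a t) := by
  conv_lhs => rw [← Finsupp.univ_sum_single (Finsupp.equivFunOnFinite.symm a)]
  rw [Finsupp.mapDomain_finsetSum]
  simp

lemma degree_mapDomain {α β : Type*} (g : α → β) (e : α →₀ ℕ) : (Finsupp.mapDomain g e).degree = e.degree := by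
  induction e using Finsupp.induction_linear with
  | zero => simp
  | add a b ha hb => simp [Finsupp.mapDomain_add, ha, hb]
  | single a b => simp

/-- The ring QSym of quasisymmetric functions over ℤ, with its restriction maps to the polynomial rings
in finitely many ordered variables, is the limit of the diagram S ↦ ℤ[α_s : s ∈ S] over finite
ordered sets S and order-preserving injections (an injection φ : S → T acting by α_t ↦ α_s when t =
φ s and α_t ↦ 0 otherwise), the limit being taken in graded rings. Stated here on degree-d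
components, with the variables indexed by ℕ in place of the positive integers and the finite ordered
sets taken to be the Fin n: (a) if F is a formal power series over ℤ in variables indexed by ℕ which
is quasisymmetric (for strictly increasing i, j : Fin ℓ → ℕ and positive exponents a, the
coefficients of ∏ x_{i t}^{a t} and ∏ x_{j t}^{a t} agree) and all of whose monomials have degree d,
then its restrictions to the initial segments Fin n ⊂ ℕ are compatible with every order embedding
Fin n ↪o Fin m; (b) every family of degree-d homogeneous polynomials f n ∈ ℤ[x_s : s ∈ Fin n],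
compatible with all order embeddings Fin n ↪o Fin m in this sense, is the family of restrictions of
exactly one such quasisymmetric F of degree d. -/
theorem result (d : ℕ) :
    (∀ F : MvPowerSeries ℕ ℤ,
      (∀ (ℓ : ℕ) (i j : Fin ℓ → ℕ) (a : Fin ℓ → ℕ), StrictMono i → StrictMono j → (∀ t, 0 < a t) →
        MvPowerSeries.coeff (∑ t : Fin ℓ, Finsupp.single (i t) (a t)) F =
          MvPowerSeries.coeff (∑ t : Fin ℓ, Finsupp.single (j t) (a t)) F) →
      (∀ e : ℕ →₀ ℕ, MvPowerSeries.coeff e F ≠ 0 → e.degree = d) →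
      ∀ (n m : ℕ) (φ : Fin n ↪o Fin m) (e : Fin n →₀ ℕ),
        MvPowerSeries.coeff (Finsupp.mapDomain Fin.val e) F =
          MvPowerSeries.coeff (Finsupp.mapDomain Fin.val (Finsupp.mapDomain φ e)) F) ∧
    (∀ f : (n : ℕ) → MvPolynomial (Fin n) ℤ,
      (∀ n, (f n).IsHomogeneous d) →
      (∀ (n m : ℕ) (φ : Fin n ↪o Fin m) (e : Fin n →₀ ℕ),
        MvPolynomial.coeff e (f n) = MvPolynomial.coeff (Finsupp.mapDomain φ e) (f m)) →
      ∃! F : MvPowerSeries ℕ ℤ,
        (∀ (ℓ : ℕ) (i j : Fin ℓ → ℕ) (a : Fin ℓ → ℕ), StrictMono i → StrictMono j → (∀ t, 0 < a t) →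
          MvPowerSeries.coeff (∑ t : Fin ℓ, Finsupp.single (i t) (a t)) F =
            MvPowerSeries.coeff (∑ t : Fin ℓ, Finsupp.single (j t) (a t)) F) ∧
        (∀ e : ℕ →₀ ℕ, MvPowerSeries.coeff e F ≠ 0 → e.degree = d) ∧
        (∀ (n : ℕ) (e : Fin n →₀ ℕ),
          MvPowerSeries.coeff (Finsupp.mapDomain Fin.val e) F = MvPolynomial.coeff e (f n))) := by
  classical
  refine ⟨fun F hF _ n m φ e => ?_, fun f hf hcompat => ?_⟩
  · let o := e.support.orderEmbOfFin rfl
    have he : e = Finsupp.mapDomain o (Finsupp.equivFunOnFinite.symm fun t => e (o t)) := by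
      rw [map_fin_sum]
      conv_lhs => rw [← Finsupp.sum_single e, Finsupp.sum]
      refine (Finset.sum_bij (fun t _ => o t) (fun t _ => e.support.orderEmbOfFin_mem rfl t)
        (fun a _ b _ h => o.injective h) (fun x hx => ?_) (fun _ _ => rfl)).symm
      have : x ∈ Set.range o := by rw [Finset.range_orderEmbOfFin]; exact hx
      obtain ⟨t, ht⟩ := this
      exact ⟨t, Finset.mem_univ _, ht⟩
    rw [he, ← Finsupp.mapDomain_comp, ← Finsupp.mapDomain_comp, ← Finsupp.mapDomain_comp, map_fin_sum, map_fin_sum]
    refine hF e.support.card _ _ _ ?_ ?_ fun t => ?_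
    · exact Fin.val_strictMono.comp o.strictMono
    · exact (Fin.val_strictMono.comp φ.strictMono).comp o.strictMono
    · exact Nat.pos_of_ne_zero (Finsupp.mem_support_iff.mp (e.support.orderEmbOfFin_mem rfl t))
  · have hcast : ∀ (n N : ℕ) (h : n ≤ N) (e : Fin n →₀ ℕ),
        Finsupp.mapDomain Fin.val (Finsupp.mapDomain (Fin.castLEOrderEmb h) e) = Finsupp.mapDomain Fin.val e := by
      intro n N h e
      rw [← Finsupp.mapDomain_comp]
      rfl
    have huniq : ∀ (n m : ℕ) (e : Fin n →₀ ℕ) (e' : Fin m →₀ ℕ),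
        Finsupp.mapDomain Fin.val e = Finsupp.mapDomain Fin.val e' → MvPolynomial.coeff e (f n) = MvPolynomial.coeff e' (f m) := by
      intro n m e e' h
      rw [hcompat n (max n m) (Fin.castLEOrderEmb (le_max_left n m)) e, hcompat m (max n m) (Fin.castLEOrderEmb (le_max_right n m)) e']
      congr 1
      apply Finsupp.mapDomain_injective Fin.val_injective
      rw [hcast, hcast, h]
    have hex : ∀ e : ℕ →₀ ℕ, ∃ (n : ℕ) (e' : Fin n →₀ ℕ), Finsupp.mapDomain Fin.val e' = e := by
      intro e
      refine ⟨e.support.sup id + 1, e.comapDomain Fin.val Fin.val_injective.injOn,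
        Finsupp.mapDomain_comapDomain _ Fin.val_injective _ fun x hx => ?_⟩
      exact ⟨⟨x, Nat.lt_succ_of_le (Finset.le_sup (f := id) hx)⟩, rfl⟩
    choose N E hE using hex
    let F : MvPowerSeries ℕ ℤ := fun e => MvPolynomial.coeff (E e) (f (N e))
    have hFc : ∀ (n : ℕ) (e : Fin n →₀ ℕ),
        MvPowerSeries.coeff (Finsupp.mapDomain Fin.val e) F = MvPolynomial.coeff e (f n) := by
      intro n e
      rw [MvPowerSeries.coeff_apply]
      exact huniq _ _ _ _ (hE _)
    refine ⟨F, ⟨fun ℓ i j a hi hj ha => ?_, fun e he => ?_, hFc⟩, fun G hG => ?_⟩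
    · have key : ∀ i : Fin ℓ → ℕ, StrictMono i → MvPowerSeries.coeff (∑ t, Finsupp.single (i t) (a t)) F
          = MvPolynomial.coeff (Finsupp.equivFunOnFinite.symm a) (f ℓ) := by
        intro i hi
        let n := Finset.univ.sup i + 1
        let i' : Fin ℓ ↪o Fin n := OrderEmbedding.ofStrictMono
          (fun t => ⟨i t, Nat.lt_succ_of_le (Finset.le_sup (f := i) (Finset.mem_univ t))⟩) (fun x y h => hi h)
        rw [hcompat ℓ n i' _, ← hFc n, ← Finsupp.mapDomain_comp, map_fin_sum]
        rfl
      rw [key i hi, key j hj]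
    · rw [← hE e, degree_mapDomain]
      rw [← hE e, hFc] at he
      have h2 := hf (N e) he
      rw [Finsupp.degree_eq_weight_one]
      exact h2
    · refine MvPowerSeries.ext fun e => ?_
      rw [← hE e, hG.2.2, hFc]

end Groth.Agent.S17171
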