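import Groth.Statements.S17173

import Groth.Agent.Lib.LabGraph.BI
import Mathlib.Algebra.BigOperators.Ring.Finset
import Mathlib.Data.Int.LeastGreatest
import Mathlib.Data.Fintype.Lattice

set_option autoImplicit false
universe u
open LabGraph

namespace Groth.Agent.S17173

open LabGraph in
/-- Let Γ be the weighted dual graph of a quasistable curve X of genus g ≥ 3 over an algebraically
closed field (vertices the irreducible components C_v with weight the geometric genus, one edge per
node, a loop for a node on a single component): Γ is connected, every weight-zero vertex without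
loop is joined to the other vertices by at least two edges, and no edge joins two exceptional
vertices (weight zero, no loop, exactly two edges to other vertices). Let d be a multidegree of any
total degree D (the combinatorial section fixes an arbitrary integer d; g ≥ 3 is the paper's
standing assumption). Then the degree class of d contains a representative satisfying the Basic
Inequality: there is a multidegree d', differing from d by the twist of some integer vertex
labelling (the multidegree of a divisor Σ φ_v C_v on the total space of a regular smoothing), such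
that for every set Y of vertices 2·|(2g - 2)·d'_Y - D·canDeg Y| ≤ cut Y·(2g - 2), where canDeg Y = 2
g_Y - 2 + cut Y is the degree of the dualizing sheaf on the subcurve Y and cut Y the number of nodes
where Y meets the rest of X. -/
theorem result {V E : Type u} [Fintype V] [Fintype E]
    [DecidableEq V] [DecidableEq E] (ends : E → V × V) (w : V → ℕ) (hX : IsQuasistableGraph ends w)
    (hg : 3 ≤ genus ends w) (d : V → ℤ) :
    ∃ d' : V → ℤ, TwistEquiv ends d' d ∧ SatisfiesBI ends w d' := by
  open LabGraph Lib.LabGraph.BI in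
  obtain ⟨⟨hne, hconn⟩, -⟩ := hX.1
  obtain ⟨v₀⟩ := hne
  have hG : 1 ≤ canDeg ends w Finset.univ := by rw [canDeg_univ]; omega
  set G := canDeg ends w Finset.univ
  set D := ∑ v, d v
  let b : V → ℤ := fun v => G * d v - D * canDeg ends w {v}
  have hcan : ∀ Y : Finset V, ∑ v ∈ Y, canDeg ends w {v} = canDeg ends w Y := fun Y => by
    simp [canDeg]
  have hb : ∀ Y : Finset V, ∑ v ∈ Y, b v = G * (∑ v ∈ Y, d v) - D * canDeg ends w Y := fun Y => by
    simp only [b, Finset.sum_sub_distrib, ← Finset.mul_sum, hcan]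
  have hb0 : ∑ v, b v = 0 := by rw [hb]; ring
  let δ : (V → ℤ) → E → ℤ := fun φ e => φ (ends e).1 - φ (ends e).2
  let S : (V → ℤ) → ℤ := fun φ => ∑ e, |δ φ e|
  have hS : ∀ v, ∃ L : ℤ, 0 ≤ L ∧ ∀ φ : V → ℤ, |φ v - φ v₀| ≤ L * S φ := by
    intro v
    induction hconn v₀ v with
    | refl => exact ⟨0, le_rfl, fun φ => by simp⟩
    | @tail u v _ huv ih =>
      obtain ⟨L, hL, hLφ⟩ := ih
      refine ⟨L + 1, by linarith, fun φ => ?_⟩
      obtain ⟨e, he⟩ := huv
      have h1 : |δ φ e| ≤ S φ :=
        Finset.single_le_sum (fun i _ => abs_nonneg (δ φ i)) (Finset.mem_univ e)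
      have h2 : |φ v - φ u| = |δ φ e| := by
        rcases he with he | he
        · simp only [δ, he]; exact abs_sub_comm _ _
        · simp only [δ, he]
      have h3 := abs_sub_le (φ v) (φ u) (φ v₀)
      have h4 := hLφ φ
      rw [add_mul, one_mul]
      linarith
  choose L hL0 hL using hS
  let B : ℤ := ∑ v, |b v| * L v
  let Ψ : (V → ℤ) → ℤ := fun φ => G * (∑ e, δ φ e ^ 2) - 2 * ∑ v, b v * φ v
  have hbdd : ∀ φ, -(G * Fintype.card E * B ^ 2) ≤ Ψ φ := by
    intro φ
    have h1 : ∑ v, b v * φ v ≤ B * S φ := by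
      calc ∑ v, b v * φ v = ∑ v, b v * (φ v - φ v₀) := by
            simp only [mul_sub, Finset.sum_sub_distrib, ← Finset.sum_mul, hb0, zero_mul, sub_zero]
        _ ≤ ∑ v, |b v| * L v * S φ := by
            refine Finset.sum_le_sum fun v _ => (le_abs_self _).trans ?_
            rw [abs_mul, mul_assoc]
            exact mul_le_mul_of_nonneg_left (hL v φ) (abs_nonneg _)
        _ = B * S φ := by rw [Finset.sum_mul]
    have h2 : 2 * B * S φ - Fintype.card E * B ^ 2 ≤ ∑ e, δ φ e ^ 2 := by
      have : ∑ e : E, (2 * B * |δ φ e| - B ^ 2) ≤ ∑ e, δ φ e ^ 2 :=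
        Finset.sum_le_sum fun e _ => by nlinarith [sq_nonneg (|δ φ e| - B), sq_abs (δ φ e)]
      rwa [Finset.sum_sub_distrib, ← Finset.mul_sum, Finset.sum_const, Finset.card_univ,
        nsmul_eq_mul] at this
    have h3 := mul_le_mul_of_nonneg_left h2 (by linarith : 0 ≤ G)
    have h4 : (0 : ℤ) ≤ B * S φ := mul_nonneg
      (Finset.sum_nonneg fun v _ => mul_nonneg (abs_nonneg _) (hL0 v))
      (Finset.sum_nonneg fun e _ => abs_nonneg _)
    have h5 := mul_le_mul_of_nonneg_right hG h4
    simp only [Ψ]
    nlinarith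
  obtain ⟨m, ⟨φ, hφ⟩, hmin⟩ := Int.exists_least_of_bdd
    (P := fun z => ∃ φ, Ψ φ = z) ⟨_, fun z ⟨φ, hφ⟩ => hφ ▸ hbdd φ⟩ ⟨_, 0, rfl⟩
  have key : ∀ (Y : Finset V) (c : ℤ), c ^ 2 = 1 →
      2 * c * ((∑ v ∈ Y, b v) + G * ∑ v ∈ Y, twist ends φ v) ≤ (cut ends Y : ℤ) * G := by
    intro Y c hc
    have h := hmin _ ⟨fun v => φ v + c * ind Y v, rfl⟩
    have h1 : ∑ e, δ (fun v => φ v + c * ind Y v) e ^ 2 =
        (∑ e, δ φ e ^ 2) - 2 * c * (∑ v ∈ Y, twist ends φ v) + cut ends Y := by
      rw [sum_twist, cut_eq_sum, Finset.mul_sum, ← Finset.sum_sub_distrib,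
        ← Finset.sum_add_distrib]
      refine Finset.sum_congr rfl fun e _ => ?_
      have habs : |ind Y (ends e).1 - ind Y (ends e).2| = (ind Y (ends e).1 - ind Y (ends e).2) ^ 2 := by
        simp only [ind]; split_ifs <;> norm_num
      rw [habs]
      simp only [δ]
      linear_combination (ind Y (ends e).1 - ind Y (ends e).2) ^ 2 * hc
    have h2 : ∑ v, b v * (φ v + c * ind Y v) = (∑ v, b v * φ v) + c * ∑ v ∈ Y, b v := by
      simp only [mul_add, Finset.sum_add_distrib, Finset.mul_sum]
      congr 1
      rw [← Finset.sum_subset (Finset.subset_univ Y) (f := fun v => b v * (c * ind Y v))]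
      · exact Finset.sum_congr rfl fun v hv => by simp [ind, hv]; ring
      · exact fun v _ hv => by simp [ind, hv]
    rw [← hφ] at h
    simp only [Ψ, h1, h2] at h
    linarith
  refine ⟨fun v => d v + twist ends φ v, ⟨φ, fun v => add_sub_cancel_left _ _⟩, fun Y => ?_⟩
  have hsum : ∑ v : V, (d v + twist ends φ v) = D := by
    rw [Finset.sum_add_distrib, sum_twist_univ, add_zero]
  have h1 := key Y 1 (one_pow 2)
  have h2 := key Y (-1) (by norm_num)
  rw [hb] at h1 h2
  show 2 * |G * (∑ v ∈ Y, (d v + twist ends φ v)) -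
    (∑ v : V, (d v + twist ends φ v)) * canDeg ends w Y| ≤ _
  rw [hsum, Finset.sum_add_distrib, show (2 : ℤ) * |G * ((∑ v ∈ Y, d v) + ∑ v ∈ Y, twist ends φ v)
    - D * canDeg ends w Y| = |2 * (G * ((∑ v ∈ Y, d v) + ∑ v ∈ Y, twist ends φ v)
    - D * canDeg ends w Y)| by rw [abs_mul]; norm_num]
  exact abs_le.2 ⟨by linarith, by linarith⟩


end Groth.Agent.S17173
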