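import Groth.Statements.S17174

import Groth.Agent.Lib.LabGraph.BI
import Mathlib.Algebra.BigOperators.Ring.Finset
import Mathlib.Data.Int.LeastGreatest
import Mathlib.Data.Fintype.Lattice

set_option autoImplicit false
universe u
open LabGraph

namespace Groth.Agent.S17174

open LabGraph in
/-- Let Γ be the weighted dual graph of a Deligne–Mumford semistable curve X of genus g ≥ 3 over an
algebraically closed field (connected; every weight-zero vertex without loop is joined to the other
vertices by at least two edges), and let d, d' be two multidegrees of the same (arbitrary) total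
degree D (g ≥ 3 being the paper's standing assumption) which both satisfy the Basic Inequality and
lie in the same degree class (d - d' is a twist). Then d - d' can be written in normal form: there
is a labelling h of the vertices by natural numbers taking exactly the values 0, 1, …, q, with d -
d' equal to the twist of h (that is, d - d' = Σ_v h(v)·c_v with c_v the multidegree of O(C_v)), such
that for distinct levels i ≠ j in {0, …, q} the subcurves on h⁻¹(i) and h⁻¹(j) meet (some edge joins
the two levels) exactly when |i - j| = 1. -/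
theorem result {V E : Type u} [Fintype V] [Fintype E]
    [DecidableEq V] [DecidableEq E] (ends : E → V × V) (w : V → ℕ) (hX : IsSemistableGraph ends w)
    (hg : 3 ≤ genus ends w) (d d' : V → ℤ)
    (hBI : SatisfiesBI ends w d) (hBI' : SatisfiesBI ends w d') (heq : TwistEquiv ends d d') :
    ∃ (q : ℕ) (h : V → ℕ), (∀ v : V, h v ≤ q) ∧ (∀ i : ℕ, i ≤ q → ∃ v : V, h v = i) ∧
      (∀ v : V, d v - d' v = twist ends (fun u => (h u : ℤ)) v) ∧
      (∀ i j : ℕ, i ≤ q → j ≤ q → i ≠ j →
        ((∃ e : E, (h (ends e).1 = i ∧ h (ends e).2 = j) ∨ (h (ends e).1 = j ∧ h (ends e).2 = i)) ↔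
          (i + 1 = j ∨ j + 1 = i))) := by
  open LabGraph Lib.LabGraph.BI in
  obtain ⟨⟨hne, hconn⟩, -⟩ := hX
  have hG : 1 ≤ canDeg ends w Finset.univ := by rw [canDeg_univ]; omega
  obtain ⟨φ, hφ⟩ := heq
  obtain ⟨vm, hvm⟩ := Finite.exists_min φ
  let h : V → ℕ := fun v => (φ v - φ vm).toNat
  have hh : ∀ v, (h v : ℤ) = φ v - φ vm := fun v => Int.toNat_of_nonneg (sub_nonneg.2 (hvm v))
  obtain ⟨vM, hvM⟩ := Finite.exists_max h
  have htw : ∀ v, d v - d' v = twist ends (fun u => (h u : ℤ)) v := by
    intro v
    rw [hφ v]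
    simp only [twist, hh]
    refine Finset.sum_congr rfl fun e _ => ?_
    split_ifs <;> ring
  have hD : ∑ v, d v = ∑ v, d' v := by
    rw [← sub_eq_zero, ← Finset.sum_sub_distrib, Finset.sum_congr rfl fun v _ => hφ v, sum_twist_univ]
  -- no edge jumps by more than one
  have hjump : ∀ e, h (ends e).1 ≤ h (ends e).2 + 1 ∧ h (ends e).2 ≤ h (ends e).1 + 1 := by
    intro e₀
    by_contra hc
    let i := min (h (ends e₀).1) (h (ends e₀).2) + 1
    let Y : Finset V := Finset.univ.filter fun v => i ≤ h v
    have hmem : ∀ v, ind Y v = if i ≤ h v then 1 else 0 := fun v => by simp [ind, Y]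
    have hlt : (cut ends Y : ℤ) < -(∑ v ∈ Y, (d v - d' v)) := by
      rw [Finset.sum_congr rfl fun v _ => htw v, sum_twist, cut_eq_sum, ← Finset.sum_neg_distrib]
      refine Finset.sum_lt_sum (fun e _ => ?_) ⟨e₀, Finset.mem_univ _, ?_⟩
      · simp only [hmem]
        split_ifs with h1 h2 h2 <;> norm_num <;> omega
      · simp only [hmem, i] at hc ⊢
        split_ifs with h1 h2 h2 <;> norm_num <;> omega
    have h1 := abs_le.1 (le_of_eq rfl : |canDeg ends w Finset.univ * (∑ v ∈ Y, d v) -
      (∑ v, d v) * canDeg ends w Y| ≤ _)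
    have h2 := abs_le.1 (le_of_eq rfl : |canDeg ends w Finset.univ * (∑ v ∈ Y, d' v) -
      (∑ v, d' v) * canDeg ends w Y| ≤ _)
    have h3 := hBI Y
    have h4 := hBI' Y
    rw [Finset.sum_sub_distrib, neg_sub] at hlt
    have h5 := mul_lt_mul_of_pos_right hlt (by linarith : (0 : ℤ) < canDeg ends w Finset.univ)
    rw [hD] at h1 h3
    nlinarith [h1.1, h2.2]
  -- crossing edges
  have hcross : ∀ i, i < h vM → ∃ e, (h (ends e).1 = i ∧ h (ends e).2 = i + 1) ∨
      (h (ends e).1 = i + 1 ∧ h (ends e).2 = i) := by
    intro i hi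
    have hm0 : h vm = 0 := by simp [h]
    by_contra hc
    push Not at hc
    have : ∀ v, Relation.ReflTransGen (Adj ends) vm v → h v ≤ i := by
      intro v hv
      induction hv with
      | refl => omega
      | @tail a b _ hab ih =>
        obtain ⟨e, he⟩ := hab
        have hj := hjump e
        have hc' := hc e
        rcases he with he | he <;> simp only [he] at hj hc' <;> omega
    exact absurd (this vM (hconn vm vM)) (by omega)
  refine ⟨h vM, h, hvM, fun i hi => ?_, htw, fun i j hi hj hij => ⟨?_, ?_⟩⟩
  · rcases hi.lt_or_eq with hi | rfl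
    · obtain ⟨e, he | he⟩ := hcross i hi
      exacts [⟨_, he.1⟩, ⟨_, he.2⟩]
    · exact ⟨vM, rfl⟩
  · rintro ⟨e, he⟩
    have := hjump e
    omega
  · rintro (rfl | rfl)
    · obtain ⟨e, he⟩ := hcross i (by omega)
      exact ⟨e, by omega⟩
    · obtain ⟨e, he⟩ := hcross j (by omega)
      exact ⟨e, by omega⟩


end Groth.Agent.S17174
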