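import Groth.Statements.S17176
import Mathlib.RingTheory.Int.Basic

set_option autoImplicit false
open Curves

namespace Groth.Agent.S17176

/-- Fix integers g ≥ 3 and d. For a complete subcurve Y of arithmetic genus g_Y of a nodal curve of
genus g, meeting the rest of the curve in k points, the lower extreme of the Basic Inequality for
line bundles of degree d is m = d(2g_Y - 2 + k)/(2g - 2) - k/2, which is an integer exactly when 2(g
- 1) divides d(2g_Y - 2 + k) - k(g - 1). Then gcd(d - g + 1, 2g - 2) = 1 if and only if m is not an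
integer for all integers g_Y, k with 0 < g_Y < g - 1, k ≥ 1 and k + 2g_Y - 2 < 2g - 2. (The row
makes explicit the bound 2g_Y - 2 + k < 2g - 2, which is automatic for subcurves of stable curves
and is satisfied by every subcurve to which the source applies the lemma; the source leaves the
ambient curve's class implicit.) -/
theorem result (g d : ℤ) (hg : 3 ≤ g) :
    Int.gcd (d - g + 1) (2 * g - 2) = 1 ↔
      ∀ gY k : ℤ, 0 < gY → gY < g - 1 → 1 ≤ k → k + 2 * gY - 2 < 2 * g - 2 →
        ¬ (2 * (g - 1) ∣ d * (2 * gY - 2 + k) - k * (g - 1)) := by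
  have hkey : ∀ gY k : ℤ, d * (2 * gY - 2 + k) - k * (g - 1) =
      (d - g + 1) * (2 * gY - 2 + k) + (2 * g - 2) * (gY - 1) := fun gY k => by ring
  have hdvd : ∀ gY k : ℤ, 2 * (g - 1) ∣ d * (2 * gY - 2 + k) - k * (g - 1) ↔
      2 * g - 2 ∣ (d - g + 1) * (2 * gY - 2 + k) := fun gY k => by
    rw [show 2 * (g - 1) = 2 * g - 2 by ring, hkey, dvd_add_left (dvd_mul_right _ _)]
  constructor
  · intro h gY k hgY _ hk hlt hd
    rw [hdvd] at hd
    have := Int.le_of_dvd (by omega) (Int.dvd_of_dvd_mul_right_of_gcd_one hd (by rw [Int.gcd_comm]; exact h))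
    omega
  · intro h
    by_contra hc
    set c := Int.gcd (d - g + 1) (2 * g - 2)
    have hc0 : c ≠ 0 := fun h0 => by
      have := (Int.gcd_eq_zero_iff.mp h0).2
      omega
    obtain ⟨j, hj⟩ : (c : ℤ) ∣ 2 * g - 2 := Int.gcd_dvd_right _ _
    obtain ⟨i, hi⟩ : (c : ℤ) ∣ d - g + 1 := Int.gcd_dvd_left _ _
    have hc2 : (2 : ℤ) ≤ c := by omega
    have hjpos : 0 < j := by nlinarith
    have hjlt : j < 2 * g - 2 := by nlinarith
    refine h 1 j one_pos (by omega) (by omega) (by omega) ((hdvd 1 j).mpr ⟨i, ?_⟩)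
    rw [hi, hj]; ring

end Groth.Agent.S17176
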