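import Groth.Statements.S17177
import Groth.Agent.Lib.NodalNormal.Generic
import Groth.Agent.Lib.NodalNormal.Dual
import Groth.Agent.H63.SectionOmega
import Groth.Agent.Lib.ArtinFun.HomFinite
import Groth.Agent.Lib.KVec.Pull
import Groth.Agent.Lib.EulerSeq.Map
import Groth.Agent.Lib.ProjSpace.IsBundle
import Groth.Agent.Lib.CohDelta.KBC.Descend
import Groth.Agent.Lib.Kaehler.Exists

set_option autoImplicit false
universe u
open CategoryTheory CategoryTheory.Limits AlgebraicGeometry
attribute [local instance] HasDerivedCategory.standard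
open Curves

namespace Groth.Agent.S17177

open Groth.Agent Groth.Agent.Lib

/-- Let k be an algebraically closed field, r ≥ 1, and X ⊆ P^r_k a closed subscheme, cut out by a
quasi-coherent ideal sheaf I, which is a connected nodal curve: reduced, connected, of dimension
one, with at-worst-nodal singularities over k. Suppose H^1(X, O_X(1)) = 0, O_X(1) being the
pull-back of O(1). Let N = Hom_{O_X}(I/I², O_X) be the normal sheaf (the sheaf Hom, assumed to exist
as the right adjoint of tensoring with the conormal sheaf I/I²). Then H^1(X, N) = 0. (In the paper X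
is a curve of degree d ≥ 20(g - 1) and genus g ≥ 3 whose Hilbert point is semistable, for which
H^1(X, O_X(1)) = 0 holds, and the vanishing is used to conclude that the Hilbert scheme is
nonsingular of dimension r(r + 2) + 4g - 3 at the point of X; that deduction, through the
identification of the tangent space with H^0(X, N) and Riemann–Roch, is not part of this row.) -/
theorem result
    (k : Type u) [Field k] [IsAlgClosed k] (r : ℕ) (hr : 1 ≤ r)
    (I₀ : (CohB1.ProjSpace r k).IdealSheafData) [I₀.subscheme.Over (Spec (CommRingCat.of k))]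
    (hX : I₀.subscheme ↘ Spec (CommRingCat.of k) = I₀.subschemeι ≫ (CohB1.ProjSpace r k ↘ Spec (CommRingCat.of k)))
    [IsReduced I₀.subscheme] [ConnectedSpace I₀.subscheme] (hdim : topologicalKrullDim I₀.subscheme = 1)
    (hnod : Curv2.AtWorstNodal k I₀.subscheme)
    (h1 : Subsingleton (Coh.HH I₀.subscheme
      ((Scheme.Modules.pullback I₀.subschemeι).obj (Twist.twistProjSpace r k 1)) 1))
    [DCoh.HasSheafHom (Omega.conormal I₀.subschemeι)] :
    Subsingleton (Coh.HH I₀.subscheme
      ((DCoh.sheafHom (Omega.conormal I₀.subschemeι)).obj (Coh.structureModule I₀.subscheme)) 1) :=  by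
  let P := CohB1.ProjSpace r k
  let π : P ⟶ Spec (CommRingCat.of k) := CohB1.ProjSpace.toSpec r k
  let ι : I₀.subscheme ⟶ P := I₀.subschemeι
  have hcomp : ι ≫ π = I₀.subscheme ↘ Spec (CommRingCat.of k) := hX.symm
  haveI : IsProper (ι ≫ π) := inferInstance
  haveI : IsProper (I₀.subscheme ↘ Spec (CommRingCat.of k)) := hcomp ▸ inferInstance
  haveI : IsLocallyNoetherian P := LocallyOfFiniteType.isLocallyNoetherian π
  obtain ⟨Ω, d, hd⟩ := Kaehler.Exists.exists_isUniversal (f := π)
  obtain ⟨q, hPB⟩ := ProjSpace.IsBundle.exists_isProjBundle r k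
  haveI := hPB.epi
  have hfree : FlatMod.IsFinLocFree (FlatMod.freeMod (Spec (CommRingCat.of k)) (r + 1)) :=
    TensorMod.LocFree.of_rank (TensorMod.LocFree.isFinLocFree_freeMod _ _)
  obtain ⟨eΩ⟩ := EulerSeq.Map.nonempty_iso (q := q) d (TensorMod.QCohInv.isQCoh_of_isFinLocFree hfree)
    (fun x => EulerSeq.Map.exists_frame hPB hfree x) hd hPB
  let O1 := Twist.twistProjSpace r k 1
  obtain ⟨φ, hφ⟩ := H63.SectionOmega.exists_conormalDiff ι d
  let c : CohB1.tensorMod (Omega.conormal ι) ((Scheme.Modules.pullback ι).obj O1) ⟶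
      (Scheme.Modules.pullback ι).obj ((Scheme.Modules.pullback π).obj
        (FlatMod.freeMod (Spec (CommRingCat.of k)) (r + 1))) :=
    TensorMod.Basic.tmap φ (𝟙 _) ≫ (TensorMod.Pullback.pullbackTensorIso ι Ω O1).inv ≫
      (Scheme.Modules.pullback ι).map (eΩ.hom ≫ kernel.ι q)
  let eO : (Scheme.Modules.pullback ι).obj ((Scheme.Modules.pullback π).obj
      (Coh.structureModule (Spec (CommRingCat.of k)))) ≅ Coh.structureModule I₀.subscheme :=
    (Scheme.Modules.pullback ι).mapIso (PicLoc.pullbackStructureIso π) ≪≫
      PicLoc.pullbackStructureIso ι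
  let F : (Spec (CommRingCat.of k)).Modules ⥤ I₀.subscheme.Modules :=
    Scheme.Modules.pullback π ⋙ Scheme.Modules.pullback ι
  haveI : F.Additive := inferInstance
  let f : Fin (r + 1) → (Spec (CommRingCat.of k)).Modules := fun _ => Coh.structureModule _
  let p₀ : ∀ j, (∐ f) ⟶ f j := fun j => Sigma.desc fun i => if h : i = j then eqToHom (congrArg f h) else 0
  have htot : ∑ j, p₀ j ≫ Sigma.ι f j = 𝟙 (∐ f) := Sigma.hom_ext _ _ fun i => by
    rw [Preadditive.comp_sum, Category.comp_id, Finset.sum_eq_single i]
    · simp [p₀]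
    · intro b _ hb; simp [p₀, Ne.symm hb]
    · simp
  have hdim' : topologicalKrullDim I₀.subscheme ≤ 1 := hdim.le
  refine NodalNormal.Dual.subsingleton_h1_dual k hdim'
    (T := (Scheme.Modules.pullback ι).obj O1) (ArtinFun.HomFinite.isCoh_conormal ι)
    (TensorMod.LocFree.isInvertible_of_rank_one (TensorMod.LocFree.rank_pullback ι hPB.invertible)) h1
    (fun j => F.map (p₀ j) ≫ eO.hom) (fun j => eO.inv ≫ F.map (Sigma.ι f j)) ?_ c ?_
  · refine Eq.trans ?_ ((congrArg F.map htot).trans (F.map_id _))
    rw [F.map_sum]
    exact Finset.sum_congr rfl fun j _ => by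
      rw [Category.assoc, Iso.hom_inv_id_assoc, F.map_comp]
  · intro η hη
    have h3 : Function.Injective (Modules.StalkModule.stalkMapₗ φ η) :=
      NodalNormal.Generic.injective_conormalDiff ι π hd hφ hη
    have hF : IsField (I₀.subscheme.presheaf.stalk η) :=
      ModelFibre.MaxPoint.isField_stalk fun y hy => Flat55.GenericPoints.eq_of_specializes hη hy
    letI := hF.toField
    have h4 : Function.Injective
        (Modules.StalkModule.stalkMapₗ (TensorMod.Basic.tmap φ (𝟙 ((Scheme.Modules.pullback ι).obj O1))) η) := by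
      intro u v huv
      let t := RefHull.Tensor.tStalk (Omega.conormal ι) ((Scheme.Modules.pullback ι).obj O1) η
      apply t.injective
      apply Module.Flat.rTensor_preserves_injective_linearMap (M := ((Scheme.Modules.pullback ι).obj O1).presheaf.stalk η) _ h3
      have key : ∀ w, LinearMap.rTensor _ (Modules.StalkModule.stalkMapₗ φ η) (t w) =
          RefHull.Tensor.tStalk _ _ η (Modules.StalkModule.stalkMapₗ (TensorMod.Basic.tmap φ (𝟙 _)) η w) := by
        intro w
        obtain ⟨z, rfl⟩ := t.symm.surjective w
        rw [LinearEquiv.apply_symm_apply]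
        induction z using TensorProduct.induction_on with
        | zero => simp
        | tmul a b =>
          refine Eq.trans ?_ (congrArg _ (HomSheaf.Basic.stalkMap_tmap φ (𝟙 _) η a b).symm)
          rw [LinearMap.rTensor_tmul]
          have hb : _root_.RefHull.stalkMapₗ (𝟙 ((Scheme.Modules.pullback ι).obj O1)) η b = b :=
            LinearMap.congr_fun (Modules.StalkModule.stalkMapₗ_id η) b
          rw [hb]
          exact ((RefHull.Tensor.tStalk _ _ η).apply_symm_apply _).symm
        | add a b ha hb => simp only [map_add, ha, hb]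
      rw [key, key, huv]
    have hS : (ShortComplex.mk (kernel.ι q) q (kernel.condition q)).ShortExact :=
      { exact := ShortComplex.exact_kernel q }
    have hpb := KVec.Pull.shortExact_pullback ι hS
      (TensorMod.LocFree.of_rank hPB.invertible)
    haveI : Mono ((Scheme.Modules.pullback ι).map (kernel.ι q)) := hpb.mono_f
    haveI : Mono ((TensorMod.Pullback.pullbackTensorIso ι Ω O1).inv ≫
        (Scheme.Modules.pullback ι).map (eΩ.hom ≫ kernel.ι q)) := by
      rw [Functor.map_comp]; infer_instance
    have h5 := (Modules.StalkModule.mono_iff_stalkMapₗ_injective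
      ((TensorMod.Pullback.pullbackTensorIso ι Ω O1).inv ≫
        (Scheme.Modules.pullback ι).map (eΩ.hom ≫ kernel.ι q))).1 inferInstance η
    show Function.Injective (Modules.StalkModule.stalkMapₗ (_ ≫ _) η)
    rw [Modules.StalkModule.stalkMapₗ_comp]
    exact h5.comp h4

end Groth.Agent.S17177
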