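import Groth.Statements.S17178
import Groth.Agent.Lib.QCoh.Pushforward
import Groth.Agent.Lib.QCoh.Closure
import Groth.Agent.Lib.CohBasics.Closure
import Groth.Agent.Lib.QCoh.Stalk

set_option autoImplicit false
universe u
open CategoryTheory CategoryTheory.Limits AlgebraicGeometry
open Curves

namespace Groth.Agent.S17178

open Opposite TopologicalSpace Groth.Agent.Lib Groth.Agent.Lib.Modules.StalkModule

section

variable {X : Scheme.{u}}

theorem zero_of_germ {F : X.Modules} (U : X.Opens) (s : Γ(F, U))
    (h : ∀ (x : X) (hx : x ∈ U), F.presheaf.germ U x hx s = 0) : s = 0 :=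
  TopCat.Presheaf.section_ext (⟨F.presheaf, F.isSheaf⟩ : TopCat.Sheaf AddCommGrpCat.{u} X) U s 0
    fun x hx => (h x hx).trans (map_zero _).symm

/-- In a space all of whose components are one dimensional, a non-closed point has no generisation. -/
theorem eq_of_specializes
    (hequi : ∀ Z ∈ irreducibleComponents (X : Type u), topologicalKrullDim Z = 1)
    {x y : X} (hyx : y ⤳ x) (hx : ¬ IsClosed ({x} : Set X)) : y = x := by
  by_contra hne
  obtain ⟨z, hz, hzx⟩ : ∃ z, z ∈ closure ({x} : Set X) ∧ z ≠ x := by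
    by_contra hall
    refine hx (closure_eq_iff_isClosed.mp (subset_antisymm (fun w hw => ?_) subset_closure))
    by_contra hw'
    exact hall ⟨w, hw, hw'⟩
  have hxz : x ⤳ z := specializes_iff_mem_closure.mpr hz
  let Z := irreducibleComponent y
  have hyZ : y ∈ Z := mem_irreducibleComponent
  have hxZ : x ∈ Z := hyx.mem_closed isClosed_irreducibleComponent hyZ
  have hzZ : z ∈ Z := hxz.mem_closed isClosed_irreducibleComponent hxZ
  let C : Z → TopologicalSpace.IrreducibleCloseds Z := fun w =>
    ⟨closure {w}, isIrreducible_singleton.closure, isClosed_closure⟩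
  have hlt : ∀ a b : Z, (b : X) ⤳ (a : X) → (a : X) ≠ b → C a < C b := fun a b h hab => by
    refine lt_of_le_not_ge (show closure ({a} : Set Z) ⊆ closure {b} from
      closure_minimal (Set.singleton_subset_iff.mpr (specializes_iff_mem_closure.mp
        ((subtype_specializes_iff _ _).mpr h))) isClosed_closure) fun hle => ?_
    have h' : (a : X) ⤳ (b : X) := (subtype_specializes_iff _ _).mp
      (specializes_iff_mem_closure.mpr (hle (subset_closure (Set.mem_singleton b))))
    exact hab (h'.antisymm h).eq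
  let s : LTSeries (TopologicalSpace.IrreducibleCloseds Z) :=
    ⟨2, ![C ⟨z, hzZ⟩, C ⟨x, hxZ⟩, C ⟨y, hyZ⟩], fun i => by
      fin_cases i
      · exact hlt ⟨z, hzZ⟩ ⟨x, hxZ⟩ hxz hzx
      · exact hlt ⟨x, hxZ⟩ ⟨y, hyZ⟩ hyx (Ne.symm hne)⟩
  have h3 : ((2 : ℕ) : WithBot ℕ∞) ≤ topologicalKrullDim Z := Order.LTSeries.length_le_krullDim s
  rw [hequi Z (irreducibleComponent_mem_irreducibleComponents y)] at h3
  exact absurd h3 (by decide)

/-- A function vanishing at a point without generisations of a reduced scheme has zero germ. -/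
theorem germ_eq_zero_of_generic [IsReduced X] {x : X} (hmax : ∀ y : X, y ⤳ x → y = x)
    {U : X.Opens} (hx : x ∈ U) (f : Γ(X, U)) (hf : x ∉ X.basicOpen f) :
    X.presheaf.germ U x hx f = 0 := by
  have hnu : ¬ IsUnit (X.presheaf.germ U x hx f) := fun h =>
    hf ((RingedSpace.mem_basicOpen _ f x hx).mpr h)
  refine (IsNilpotent.eq_zero ?_)
  rw [← mem_nilradical, nilradical_eq_sInf, Ideal.mem_sInf]
  intro P hP
  let q : ↥(Spec (X.presheaf.stalk x)) := (⟨P, hP⟩ : PrimeSpectrum _)
  have hq : X.fromSpecStalk x q = x :=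
    hmax _ (show X.fromSpecStalk x q ∈ {y | y ⤳ x} from
      (Scheme.range_fromSpecStalk (X := X) (x := x)).le (Set.mem_range_self q))
  have hq' : q = IsLocalRing.closedPoint (X.presheaf.stalk x) :=
    (X.fromSpecStalk x).isEmbedding.injective (hq.trans Scheme.fromSpecStalk_closedPoint.symm)
  have : P = IsLocalRing.maximalIdeal (X.presheaf.stalk x) := congrArg PrimeSpectrum.asIdeal hq'
  rw [this]
  exact hnu

/-- If a pure one-dimensional coherent module has a section whose germs vanish away from a closed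
point, then the germ at that point vanishes too. -/
theorem germ_eq_zero_of_isolated [IsNoetherian X] {J : X.Modules} (hJc : Coh.IsCoh J)
    (hJp : ShStab.IsPure X J 1) {x : X} (hxc : IsClosed ({x} : Set X)) {W : X.Opens} (hx : x ∈ W)
    (m : Γ(J, W)) (hm : ∀ (y : X) (hy : y ∈ W), y ≠ x → J.presheaf.germ W y hy m = 0) :
    J.presheaf.germ W x hx m = 0 := by
  haveI := hJc.1
  let V : X.Opens := ⟨({x} : Set X)ᶜ, hxc.isOpen_compl⟩
  haveI : ((Scheme.Modules.restrictFunctor V.ι).obj J).IsQuasicoherent := inferInstance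
  haveI : ((Scheme.Modules.pushforward V.ι).obj
      ((Scheme.Modules.restrictFunctor V.ι).obj J)).IsQuasicoherent :=
    QCoh.Pushforward.isQCoh_pushforward V.ι (M := (Scheme.Modules.restrictFunctor V.ι).obj J)
  let η : J ⟶ (Scheme.Modules.pushforward V.ι).obj
      ((Scheme.Modules.restrictFunctor V.ι).obj J) :=
    (Scheme.Modules.restrictAdjunction V.ι).unit.app J
  have hK : Coh.IsCoh (kernel η) := CohBasics.Closure.isCoh_kernel η hJc inferInstance
  have hsupp : CohB1.support (kernel η) ⊆ {x} := fun y hy => by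
    by_contra hyx
    refine hy (subsingleton_of_forall_eq 0 fun v => ?_)
    obtain ⟨W₀, hyW₀, k₀, rfl⟩ := TopCat.Presheaf.exists_germ_eq (kernel η).presheaf v
    have hy' : y ∈ V.ι ''ᵁ (V.ι ⁻¹ᵁ W₀) := ⟨⟨y, hyx⟩, hyW₀, rfl⟩
    refine (mono_iff_stalkMapₗ_injective (kernel.ι η)).mp inferInstance y ?_
    rw [map_zero, stalkMapₗ_germ,
      ← TopCat.Presheaf.germ_res_apply J.presheaf (homOfLE (V.ι.image_preimage_le W₀)) y hy',
      show J.presheaf.map (homOfLE (V.ι.image_preimage_le W₀)).op ((kernel.ι η).app W₀ k₀) =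
        η.app W₀ ((kernel.ι η).app W₀ k₀) from rfl,
      ← ConcreteCategory.comp_apply ((kernel.ι η).app W₀) (η.app W₀),
      ← Scheme.Modules.Hom.comp_app, kernel.condition]
    exact map_zero _
  obtain ⟨k, hk⟩ := QCoh.Closure.sections_exact
    (S := ShortComplex.mk (kernel.ι η) η (kernel.condition η)) (ShortComplex.exact_kernel η) W m (by
      refine zero_of_germ (F := (Scheme.Modules.restrictFunctor V.ι).obj J) (V.ι ⁻¹ᵁ W) _ ?_
      intro y hy
      have hy' : (y.1 : X) ∈ V.ι ''ᵁ (V.ι ⁻¹ᵁ W) := ⟨y, hy, rfl⟩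
      have hz : J.presheaf.map (homOfLE (V.ι.image_preimage_le W)).op m = 0 := by
        refine zero_of_germ _ _ fun z hz => ?_
        rw [TopCat.Presheaf.germ_res_apply]
        refine hm z _ ?_
        obtain ⟨z', -, rfl⟩ := hz
        exact z'.2
      show ((Scheme.Modules.restrictFunctor V.ι).obj J).presheaf.germ _ y hy
        (J.presheaf.map (homOfLE (V.ι.image_preimage_le W)).op m) = 0
      rw [hz]
      exact map_zero _)
  by_contra hne
  have hnz : ¬ IsZero (kernel η) := fun h0 => hne (by
    have h0' : kernel.ι η = 0 := h0.eq_of_src _ _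
    rw [← hk]
    show J.presheaf.germ W x hx ((kernel.ι η).app W k) = 0
    rw [show (kernel.ι η).app W k = (0 : kernel η ⟶ J).app W k from by rw [h0']]
    exact map_zero _)
  have hd := hJp (kernel η) (kernel.ι η) inferInstance hK hnz
  haveI : Subsingleton (CohB1.support (kernel η)) :=
    ⟨fun a b => Subtype.ext ((hsupp a.2).trans (hsupp b.2).symm)⟩
  have := hd.symm.trans_le (topologicalKrullDim_zero_of_discreteTopology _)
  exact absurd this (by decide)

theorem main [IsReduced X] [IsNoetherian X]
    (hequi : ∀ Z ∈ irreducibleComponents (X : Type u), topologicalKrullDim Z = 1)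
    (J : X.Modules) (hJc : Coh.IsCoh J) (hJp : ShStab.IsPure X J 1)
    (U : X.Opens) (f : Γ(X, U))
    (hf : ∀ x : X, x ∈ U → x ∈ CohB1.support J → x ∉ X.basicOpen f)
    (x : X) (hx : x ∈ U) (t : J.presheaf.stalk x) : (X.presheaf.germ U x hx f) • t = 0 := by
  have hgen : ∀ (y : X) (hy : y ∈ U), ¬ IsClosed ({y} : Set X) → ∀ v : J.presheaf.stalk y,
      (X.presheaf.germ U y hy f) • v = 0 := fun y hy hc v => by
    by_cases hs : y ∈ CohB1.support J
    · rw [germ_eq_zero_of_generic (fun w hw => eq_of_specializes hequi hw hc) hy f (hf y hy hs),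
        zero_smul]
    · haveI : Subsingleton (J.presheaf.stalk y) := by simpa [CohB1.support] using hs
      exact Subsingleton.elim _ _
  by_cases hxc : IsClosed ({x} : Set X)
  swap
  · exact hgen x hx hxc t
  obtain ⟨W₁, hxW₁, s₁, rfl⟩ := TopCat.Presheaf.exists_germ_eq J.presheaf t
  let W : X.Opens := U ⊓ W₁
  have hxW : x ∈ W := ⟨hx, hxW₁⟩
  let m : Γ(J, W) := X.presheaf.map (homOfLE inf_le_left : W ⟶ U).op f •
    (show Γ(J, W) from J.presheaf.map (homOfLE inf_le_right : W ⟶ W₁).op s₁)
  have hgm : ∀ (y : X) (hy : y ∈ W), J.presheaf.germ W y hy m =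
      X.presheaf.germ U y hy.1 f • J.presheaf.germ W₁ y hy.2 s₁ := fun y hy => by
    show J.presheaf.germ W y hy (X.presheaf.map (homOfLE inf_le_left : W ⟶ U).op f •
      (show Γ(J, W) from J.presheaf.map (homOfLE inf_le_right : W ⟶ W₁).op s₁)) = _
    rw [germ_smul, TopCat.Presheaf.germ_res_apply, TopCat.Presheaf.germ_res_apply]
  -- the locus of non-vanishing of `m`
  let S : Set X := {y | ∃ hy : y ∈ W, J.presheaf.germ W y hy m ≠ 0}
  have hSopen : IsOpen ((W : Set X) ∩ Sᶜ) := isOpen_iff_forall_mem_open.mpr fun y hy => by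
    have h0 : J.presheaf.germ W y hy.1 m = J.presheaf.germ W y hy.1 0 := by
      rw [map_zero]
      by_contra hne
      exact hy.2 ⟨hy.1, hne⟩
    obtain ⟨W', hyW', i, i', hW'⟩ := TopCat.Presheaf.germ_eq J.presheaf y hy.1 hy.1 m 0 h0
    rw [map_zero] at hW'
    refine ⟨W', fun z hz => ⟨i.le hz, ?_⟩, W'.2, hyW'⟩
    rintro ⟨hzW, hne⟩
    refine hne ?_
    rw [← TopCat.Presheaf.germ_res_apply J.presheaf i z hz m, hW']
    exact map_zero _
  have hSclosed : ∀ y ∈ S, IsClosed ({y} : Set X) := fun y ⟨hy, hne⟩ => by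
    by_contra hc
    exact hne ((hgm y hy).trans (hgen y hy.1 hc _))
  have hSfin : S.Finite := by
    obtain ⟨T, hTf, hTc, hTi, hT⟩ :=
      NoetherianSpace.exists_finite_set_isClosed_irreducible hSopen.isClosed_compl
    have hsub : S ⊆ (fun g : X => g) '' {g | ∃ Y, ∃ h : Y ∈ T, g = (hTi Y h).genericPoint} :=
      fun y hy => by
        obtain ⟨hyW, hne⟩ := hy
        have hyT : y ∈ ⋃₀ T := hT ▸ (fun h => h.2 ⟨hyW, hne⟩)
        obtain ⟨Y, hY, hyY⟩ := hyT
        have hg := (hTi Y hY).isGenericPoint_genericPoint (hTc Y hY)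
        have hgW : (hTi Y hY).genericPoint ∈ W :=
          (hg.specializes hyY).mem_open W.2 hyW
        have hgS : (hTi Y hY).genericPoint ∈ S := by
          by_contra hns
          exact (hT.symm ▸ (⟨Y, hY, hg.mem⟩ : (hTi Y hY).genericPoint ∈ ⋃₀ T) :
            (hTi Y hY).genericPoint ∈ ((W : Set X) ∩ Sᶜ)ᶜ) ⟨hgW, hns⟩
        refine ⟨_, ⟨Y, hY, rfl⟩, ?_⟩
        exact ((hg.specializes hyY).mem_closed (hSclosed _ hgS) rfl).symm
    refine Set.Finite.subset (Set.Finite.image _ ?_) hsub
    refine (hTf.dependent_image fun Y h => (hTi Y h).genericPoint).subset ?_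
    rintro g ⟨Y, h, rfl⟩
    exact ⟨Y, h, rfl⟩
  have hDc : IsClosed (S \ {x}) := by
    rw [← Set.biUnion_of_singleton (S \ {x})]
    exact (hSfin.subset Set.sdiff_subset).isClosed_biUnion fun y hy => hSclosed y hy.1
  let W' : X.Opens := W ⊓ ⟨(S \ {x})ᶜ, hDc.isOpen_compl⟩
  have hxW' : x ∈ W' := ⟨hxW, fun h => h.2 rfl⟩
  have h := germ_eq_zero_of_isolated hJc hJp hxc hxW'
    (J.presheaf.map (homOfLE inf_le_left : W' ⟶ W).op m) fun y hy hyx => by
      rw [TopCat.Presheaf.germ_res_apply]
      by_contra hne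
      exact hy.2 ⟨⟨hy.1, hne⟩, hyx⟩
  rw [TopCat.Presheaf.germ_res_apply] at h
  exact (hgm x hxW).symm.trans h

end

/-- Let k be an algebraically closed field and X a nodal curve over k: proper over k, reduced,
connected, every irreducible component of dimension one, with at-worst-nodal singularities. Let J be
a coherent O_X-module which is pure of dimension one (every nonzero coherent submodule has
one-dimensional support), for instance a pure quotient with one-dimensional support of a rank-one
torsion-free sheaf. Let U be an open subset and f a function on U vanishing at every point of U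
lying in the support Y of J. Then f acts as zero on J over U: for every x ∈ U the germ of f at x
annihilates the stalk J_x. In other words the ideal sheaf of the reduced subcurve Y annihilates J,
so J is an O_Y-module; this is the first assertion in the proof that every such quotient q : I → J
of a rank-one torsion-free I factors through the torsion-free restriction of I to Y, the remaining
assertion (that the induced map is an isomorphism) not being part of this row. -/
theorem result
    (k : Type u) [Field k] [IsAlgClosed k] (X : Scheme.{u}) [X.Over (Spec (CommRingCat.of k))]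
    [IsProper (X ↘ Spec (CommRingCat.of k))] [IsReduced X] [ConnectedSpace X]
    (hequi : ∀ Z ∈ irreducibleComponents (X : Type u), topologicalKrullDim Z = 1)
    (hX : Curv2.AtWorstNodal k X)
    (J : X.Modules) (hJc : Coh.IsCoh J) (hJp : ShStab.IsPure X J 1)
    (U : X.Opens) (f : X.presheaf.obj (Opposite.op U))
    (hf : ∀ x : X, x ∈ U → x ∈ CohB1.support J → x ∉ X.basicOpen f)
    (x : X) (hx : x ∈ U) (t : J.presheaf.stalk x) :
    (X.presheaf.germ U x hx f) • t = 0 := by
  haveI := LocallyOfFiniteType.isLocallyNoetherian (X ↘ Spec (CommRingCat.of k))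
  haveI : CompactSpace X := QuasiCompact.compactSpace_of_compactSpace (X ↘ Spec (CommRingCat.of k))
  haveI : IsNoetherian X := { }
  exact main hequi J hJc hJp U f hf x hx t

end Groth.Agent.S17178
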