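import Groth.Statements.S17179

import Groth.Agent.Lib.LabGraph.BI
import Mathlib.Tactic.LinearCombination
import Mathlib.Tactic.NormNum
import Mathlib.Algebra.Order.Ring.Abs

set_option autoImplicit false
universe u
open LabGraph

namespace Groth.Agent.S17179

open LabGraph in
/-- Let Γ be the weighted dual graph of a Deligne–Mumford semistable curve X of genus g ≥ 3 (connected;
every weight-zero vertex without loop joined to the other vertices by at least two edges), d a
multidegree of total degree D satisfying the Basic Inequality, and Z a set of vertices whose degree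
equals the upper extreme M_Z of the inequality, that is 2((2g - 2)·d_Z - D·canDeg Z) = cut Z·(2g -
2). Then d + z again satisfies the Basic Inequality, where z, the multidegree of O(Z) on the total
space of a regular smoothing, is the twist of the indicator function of Z (it lowers the degree on Z
by cut Z and raises it on each outside vertex by its number of edges to Z). -/
theorem result {V E : Type u} [Fintype V] [Fintype E]
    [DecidableEq V] [DecidableEq E] (ends : E → V × V) (w : V → ℕ) (hX : IsSemistableGraph ends w)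
    (hg : 3 ≤ genus ends w) (d : V → ℤ) (hBI : SatisfiesBI ends w d) (Z : Finset V)
    (hZ : 2 * (canDeg ends w Finset.univ * (∑ v ∈ Z, d v) - (∑ v : V, d v) * canDeg ends w Z) =
      (cut ends Z : ℤ) * canDeg ends w Finset.univ) :
    SatisfiesBI ends w (fun v => d v + twist ends (fun u => if u ∈ Z then 1 else 0) v) := by
  have hG : 0 ≤ LabGraph.canDeg ends w Finset.univ := by
    rw [Lib.LabGraph.BI.canDeg_univ]; omega
  set G := LabGraph.canDeg ends w Finset.univ
  set D := ∑ v, d v
  let t := LabGraph.twist ends (fun u => if u ∈ Z then (1 : ℤ) else 0)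
  let f : Finset V → ℤ := fun Y => G * (∑ v ∈ Y, d v) - D * LabGraph.canDeg ends w Y
  have hmod : ∀ Y Y' : Finset V, f (Y ∪ Y') + f (Y ∩ Y') = f Y + f Y' := fun Y Y' => by
    have h1 := Finset.sum_union_inter (s₁ := Y) (s₂ := Y') (f := d)
    have h2 := Finset.sum_union_inter (s₁ := Y) (s₂ := Y')
      (f := fun v => 2 * (w v : ℤ) - 2 + (LabGraph.endCount ends Finset.univ v : ℤ))
    simp only [f, LabGraph.canDeg]
    linear_combination G * h1 - D * h2
  have hup : ∀ Y, 2 * f Y ≤ (LabGraph.cut ends Y : ℤ) * G :=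
    fun Y => le_trans (mul_le_mul_of_nonneg_left (le_abs_self _) (by norm_num)) (hBI Y)
  have hlo : ∀ Y, -(2 * f Y) ≤ (LabGraph.cut ends Y : ℤ) * G :=
    fun Y => le_trans (by rw [← mul_neg]; exact mul_le_mul_of_nonneg_left (neg_le_abs _) (by norm_num)) (hBI Y)
  have hZ' : 2 * f Z = (LabGraph.cut ends Z : ℤ) * G := hZ
  intro Y
  have hsum : ∑ v : V, (d v + t v) = D := by
    rw [Finset.sum_add_distrib, Lib.LabGraph.BI.sum_twist_univ, add_zero]
  show 2 * |G * (∑ v ∈ Y, (d v + t v)) - (∑ v : V, (d v + t v)) * LabGraph.canDeg ends w Y| ≤ _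
  rw [hsum, Finset.sum_add_distrib, show G * ((∑ v ∈ Y, d v) + ∑ v ∈ Y, t v) -
    D * LabGraph.canDeg ends w Y = f Y + G * (∑ v ∈ Y, t v) by simp only [f]; ring]
  -- the edge-wise inequalities
  have hA : (LabGraph.cut ends (Y ∪ Z) : ℤ) + LabGraph.cut ends (Y ∩ Z) - LabGraph.cut ends Z
      + 2 * (∑ v ∈ Y, t v) ≤ LabGraph.cut ends Y := by
    simp only [t, Lib.LabGraph.BI.cut_eq_sum, Lib.LabGraph.BI.sum_twist, Finset.mul_sum,
      ← Finset.sum_add_distrib, ← Finset.sum_sub_distrib]
    refine Finset.sum_le_sum fun e _ => ?_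
    by_cases h1 : (ends e).1 ∈ Y <;> by_cases h2 : (ends e).2 ∈ Y <;>
      by_cases h3 : (ends e).1 ∈ Z <;> by_cases h4 : (ends e).2 ∈ Z <;>
      simp [Lib.LabGraph.BI.ind, h1, h2, h3, h4]
  have hB : (LabGraph.cut ends (Y \ Z) : ℤ) + LabGraph.cut ends (Z \ Y) - LabGraph.cut ends Z
      - 2 * (∑ v ∈ Y, t v) ≤ LabGraph.cut ends Y := by
    simp only [t, Lib.LabGraph.BI.cut_eq_sum, Lib.LabGraph.BI.sum_twist, Finset.mul_sum,
      ← Finset.sum_add_distrib, ← Finset.sum_sub_distrib]
    refine Finset.sum_le_sum fun e _ => ?_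
    by_cases h1 : (ends e).1 ∈ Y <;> by_cases h2 : (ends e).2 ∈ Y <;>
      by_cases h3 : (ends e).1 ∈ Z <;> by_cases h4 : (ends e).2 ∈ Z <;>
      simp [Lib.LabGraph.BI.ind, h1, h2, h3, h4]
  have hA' := mul_le_mul_of_nonneg_right hA hG
  have hB' := mul_le_mul_of_nonneg_right hB hG
  have e1 := hmod Y Z
  have e2 : f (Y \ Z) + f (Y ∩ Z) = f Y := by
    have := hmod (Y \ Z) (Y ∩ Z)
    rw [Finset.sdiff_union_inter, show (Y \ Z) ∩ (Y ∩ Z) = ∅ by ext; simp +contextual] at this
    simp only [f, LabGraph.canDeg, Finset.sum_empty, mul_zero, sub_zero, add_zero] at this ⊢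
    linarith
  have e3 : f (Z \ Y) + f (Y ∩ Z) = f Z := by
    have := hmod (Z \ Y) (Y ∩ Z)
    rw [Finset.inter_comm Y Z, Finset.sdiff_union_inter,
      show (Z \ Y) ∩ (Z ∩ Y) = ∅ by ext; simp +contextual] at this
    rw [Finset.inter_comm Y Z]
    simp only [f, LabGraph.canDeg, Finset.sum_empty, mul_zero, sub_zero, add_zero] at this ⊢
    linarith
  have u1 := hup (Y ∪ Z)
  have u2 := hup (Y ∩ Z)
  have l1 := hlo (Y \ Z)
  have u3 := hup (Z \ Y)
  rw [show (2 : ℤ) * |f Y + G * (∑ v ∈ Y, t v)| = |2 * (f Y + G * (∑ v ∈ Y, t v))| by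
    rw [abs_mul]; norm_num]
  exact abs_le.2 ⟨by linarith, by linarith⟩


end Groth.Agent.S17179
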