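import Groth.Statements.S17181
import Mathlib.AlgebraicGeometry.Geometrically.Irreducible
import Mathlib.AlgebraicGeometry.Morphisms.UniversallyOpen

set_option autoImplicit false
universe u
open CategoryTheory.Limits
open CategoryTheory CategoryTheory.Limits AlgebraicGeometry
open FBase

namespace Groth.Agent.S17181

/-- Let k be a field, C an irreducible k-scheme which is geometrically irreducible over k, and f : X → C
a flat k-morphism locally of finite type with X irreducible. If the generic fibre of f is
geometrically irreducible over the residue field of the generic point of C, then X is geometrically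
irreducible over k. (The published setting is a regular proper surface mapping onto a smooth
projective geometrically irreducible curve with smooth projective geometrically irreducible generic
fibre; the printed argument uses only the hypotheses kept here.) -/
theorem result (k : Type u) [Field k]
    (X C : Scheme.{u}) [X.Over (Spec (CommRingCat.of k))] [C.Over (Spec (CommRingCat.of k))]
    (f : X ⟶ C) [f.IsOver (Spec (CommRingCat.of k))] [IrreducibleSpace X] [IrreducibleSpace C]
    [GeometricallyIrreducible (C ↘ Spec (CommRingCat.of k))] [Flat f] [LocallyOfFiniteType f]
    [GeometricallyIrreducible (f.fiberToSpecResidueField (genericPoint C))] :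
    GeometricallyIrreducible (X ↘ Spec (CommRingCat.of k)) := by
  let S := Spec (CommRingCat.of k)
  refine ⟨geometrically_iff_of_isClosedUnderIsomorphisms.mpr fun K _ y => ?_⟩
  let h := pullback.fst (C ↘ S) y
  have hCK : IrreducibleSpace ↥(pullback (C ↘ S) y) :=
    pullback_of_geometrically GeometricallyIrreducible.geometrically_irreducibleSpace K y
  have : Flat h := inferInstance
  let π := pullback.snd f h
  let η' := genericPoint ↥(pullback (C ↘ S) y)
  have hη : h η' = genericPoint C := by
    obtain ⟨z, hz, hzη⟩ := Flat.generalizingMap h (genericPoint_specializes (h η'))
    have : z = η' := (hz.antisymm (genericPoint_specializes z)).eq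
    rw [← this]
    exact hzη
  have hgi : GeometricallyIrreducible (f.fiberToSpecResidueField (h η')) := by rw [hη]; assumption
  have hfib : IrreducibleSpace ↥(π.fiber η') := by
    have := pullback_of_geometrically hgi.geometrically_irreducibleSpace
      ((pullback (C ↘ S) y).residueField η') (Spec.map (h.residueFieldMap η'))
    let e : π.fiber η' ≅ pullback (f.fiberToSpecResidueField (h η')) (Spec.map (h.residueFieldMap η')) :=
      pullbackLeftPullbackSndIso f h _ ≪≫
        pullback.congrHom rfl (Scheme.Hom.SpecMap_residueFieldMap_fromSpecResidueField h η').symm ≪≫
        (pullbackLeftPullbackSndIso f _ _).symm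
    exact e.hom.homeomorph.irreducibleSpace_iff.mpr this
  have : IrreducibleSpace ↥(pullback f h) := by
    rw [irreducibleSpace_def]
    have hirr := (IrreducibleSpace.isIrreducible_univ ↥(π.fiber η')).image (π.fiberι η') (π.fiberι η').continuous.continuousOn
    convert hirr.closure
    symm
    rw [Set.top_eq_univ, Set.eq_univ_iff_forall]
    intro z
    obtain ⟨w, hw, hwη⟩ := Flat.generalizingMap π (genericPoint_specializes (π z))
    refine hw.mem_closed isClosed_closure (subset_closure ?_)
    rw [Set.image_univ, π.range_fiberι]
    exact hwη
  let e2 : pullback f h ≅ pullback (X ↘ S) y :=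
    pullbackRightPullbackFstIso (C ↘ S) y f ≪≫ pullback.congrHom (comp_over f S) rfl
  exact e2.hom.homeomorph.irreducibleSpace_iff.mp this

end Groth.Agent.S17181
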