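import Groth.Statements.S17184
import Groth.Agent.Lib.StCurv.Smooth

set_option autoImplicit false
set_option backward.isDefEq.respectTransparency false
set_option backward.isDefEq.respectTransparency.types false
universe u
open CurvSt

namespace Groth.Agent.S17184

open CategoryTheory AlgebraicGeometry in
/-- Let S be a scheme and consider the category over schemes over S whose objects over T are the
families of curves over T (an algebraic space X over S together with a proper, flat, finitely
presented morphism X → T all of whose fibres have dimension at most one; no marked sections) with
cartesian squares as morphisms. Assume this category is an algebraic stack for the fppf topology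
(the algebraicity of the stack of curves). Then the families whose structure morphism is smooth
(read etale locally on scheme charts) form an open substack, and so do the families whose structure
morphism is smooth of relative dimension one (read the same way): each condition is closed under
isomorphism, the full subcategory on it is an fppf algebraic stack and its inclusion is
representable by open immersions. In the source a family lies in such a substack if and only if its
classifying morphism factors through it; here the substacks are defined by the membership
conditions, so these equivalences are built in. The source works over the spectrum of the integers;
over a base scheme S the statement is its base change. -/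
theorem result (S : Scheme.{u})
    (hC : AlgSt.IsAlgStack Scheme.fppfPrecoverage (CurvSt.Curves S 0)) :
    AlgSt.IsOpenSubstack (CurvSt.Curves S 0) (fun A => AlgSp.LocP @Smooth A.obj.f) Scheme.fppfPrecoverage ∧
      AlgSt.IsOpenSubstack (CurvSt.Curves S 0)
        (fun A => AlgSp.LocP (fun _ _ h => SmoothOfRelativeDimension 1 h) A.obj.f) Scheme.fppfPrecoverage := by
  exact ⟨Groth.Agent.Lib.StCurv.isOpenSubstack_locP hC Groth.Agent.Lib.StCurv.smoothCond_good
      Groth.Agent.Lib.StCurv.smoothCond_tgtInv
      (fun f _ => Groth.Agent.Lib.StCurv.smooth_iff_forall f),
    Groth.Agent.Lib.StCurv.isOpenSubstack_locP hC (Groth.Agent.Lib.StCurv.smoothDimCond_good 1)
      (Groth.Agent.Lib.StCurv.smoothDimCond_tgtInv 1)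
      (fun f _ => Groth.Agent.Lib.StCurv.smoothOfRelativeDimension_iff 1 f)⟩

end Groth.Agent.S17184
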