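import Groth.Statements.S1719
import Groth.Agent.Lib.DMod.LocalCase

set_option autoImplicit false
universe u
open CategoryTheory
attribute [local instance] HasDerivedCategory.standard
open Dual

namespace Groth.Agent.S1719

open Groth.Agent.Lib.DMod

theorem mem_support_HD_iff {A : Type u} [CommRing A] [IsNoetherianRing A] {ω : Dual.D A}
    (hω : Dual.IsDualizing A ω) (p : PrimeSpectrum A)
    (hp : p.asIdeal ∈ minimalPrimes A) (i : ℤ) :
    p ∈ Module.support A (Dual.HD A ω i) ↔ i = Degree.deg hω p := by
  have hmin : ∀ q : PrimeSpectrum A, q ≤ p → q = p := fun q hq =>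
    PrimeSpectrum.ext (le_antisymm hq (hp.2 ⟨q.isPrime, bot_le⟩ hq))
  rw [← (Basic.homUnitShiftEquiv ω i).support_eq]
  constructor
  · intro h
    by_contra hne
    refine HomSupp.notMem_support_hom_of_primes p _ A (fun q hq _ => ?_) h
    obtain rfl := hmin q hq
    exact Degree.notMem_support_of_ne_deg hω q hne
  · rintro rfl
    refine Degree.mem_support_hom_of_isolated hω p A ?_ fun q hq _ => hmin q hq
    rw [Module.support_eq_zeroLocus]
    simp [Module.annihilator_eq_bot.mpr inferInstance]

/-- Let A be a Noetherian local ring with a normalized dualizing complex ω and p a minimal prime of A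
with dim(A/p) = e. Then the cohomology module H^i(ω) localized at p is nonzero if and only if i =
−e. -/
theorem result (A : Type u) [CommRing A] [IsLocalRing A] [IsNoetherianRing A] (ω : Dual.D A) (hω : Dual.IsDualizing A ω) (hn : Dual.IsNormalized A ω) (p : Ideal A) (hp : p ∈ minimalPrimes A) (e : ℕ) (he : ringKrullDim (A ⧸ p) = e) (i : ℤ) : Nontrivial (LocalizedModule (Ideal.primeCompl p (hp := hp.1.1)) (Dual.HD A ω i)) ↔ i = -(e : ℤ) := by
  have h := LocalCase.ringKrullDim_quotient_eq_neg_deg hω hn ⟨p, hp.1.1⟩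
  have h' := LocalCase.deg_nonpos hω hn ⟨p, hp.1.1⟩
  rw [show (⟨p, hp.1.1⟩ : PrimeSpectrum A).asIdeal = p from rfl, he] at h
  have h'' : e = (-Degree.deg hω ⟨p, hp.1.1⟩).toNat := by exact_mod_cast h
  refine Iff.trans ⟨Module.mem_support_iff (p := ⟨p, hp.1.1⟩).2, Module.mem_support_iff.1⟩
    ((mem_support_HD_iff hω ⟨p, hp.1.1⟩ hp i).trans ?_)
  lia

end Groth.Agent.S1719
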