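import Groth.Statements.S1720
import Groth.Agent.Lib.LCFin.CdDualizing
import Groth.Agent.Lib.LCFin.Connected

set_option autoImplicit false
universe u
open CategoryTheory
attribute [local instance] HasDerivedCategory.standard
open LocCoh

namespace Groth.Agent.S1720

/-- Let A be a Noetherian local ring with a normalized dualizing complex ω and I an ideal. If the
degree-0 local cohomology of ω with support in I is zero, then the cohomological dimension of I is
less than dim A: for every A-module M, H^i_I(M) = 0 for all i ≥ dim A. -/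
theorem result (A : Type u) [CommRing A] [IsLocalRing A] [IsNoetherianRing A] (ω : Dual.D A) (hω : Dual.IsDualizing A ω) (hn : Dual.IsNormalized A ω) (I : Ideal A) (h0 : Subsingleton (Dual2.HDI A I ω 0)) (M : Type u) [AddCommGroup M] [Module A M] (i : ℕ) (hi : ringKrullDim A ≤ (i : WithBot ℕ∞)) : Subsingleton (LocCoh.H I i M) := by
  obtain ⟨n, hd⟩ := Lib.LCFin.Connected.exists_dim_eq (⊥ : Ideal A) bot_ne_top
  replace hd : ringKrullDim A = n := (ringKrullDim_eq_of_ringEquiv (RingEquiv.quotientBot A)).symm.trans hd
  have hcd : LocCoh.CdLE A I n := Lib.LCFin.Cd.cdLE_of_ringKrullDim I n hd.le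
  have hni : n ≤ i := by rw [hd] at hi; exact_mod_cast hi
  rcases hni.eq_or_lt with rfl | hlt
  · obtain ⟨e⟩ := Lib.LCFin.Top.nonempty_equiv_tensor (M := M) hcd
    have := Lib.LCFin.CdDualizing.subsingleton_H hω hn I h0 hd
    exact e.toEquiv.subsingleton
  · exact hcd M i hlt

end Groth.Agent.S1720
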