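import Groth.Statements.S1721
import Groth.Agent.Lib.DMod.PolyExist
import Groth.Agent.Lib.DMod.DimDegree

set_option autoImplicit false
universe u
open CategoryTheory
attribute [local instance] HasDerivedCategory.standard
open Dual

namespace Groth.Agent.S1721

/-- A Noetherian ring admitting a dualizing complex is universally catenary. (Finiteness of the
dimension is a separate, earlier result.) -/
theorem result (A : Type u) [CommRing A] [IsNoetherianRing A] (ω : Dual.D A) (hω : Dual.IsDualizing A ω) : CAlg.IsUniversallyCatenary A := by
  refine ⟨inferInstance, fun S _ _ _ => ?_⟩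
  obtain ⟨_, ω', hω'⟩ := Groth.Agent.Lib.DMod.PolyExist.exists_finiteType hω S
  refine ⟨fun p q hpq => ⟨(Groth.Agent.Lib.DMod.Degree.deg hω' q -
    Groth.Agent.Lib.DMod.Degree.deg hω' p).toNat, fun s hs hs' => ?_⟩, fun s t h h' hs ht => ?_⟩
  · have := Groth.Agent.Lib.DMod.DimDegree.head_deg_add_length_le hω' s
    rw [hs, hs'] at this
    lia
  · have e : ∀ r : LTSeries (PrimeSpectrum S), (∀ i : Fin r.length, r (Fin.castSucc i) ⋖ r (Fin.succ i)) →
        Groth.Agent.Lib.DMod.Degree.deg hω' r.last =
          Groth.Agent.Lib.DMod.Degree.deg hω' r.head + r.length := by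
      intro r hr
      have : ∀ i : ℕ, ∀ hi : i < r.length + 1, Groth.Agent.Lib.DMod.Degree.deg hω' (r ⟨i, hi⟩) =
          Groth.Agent.Lib.DMod.Degree.deg hω' r.head + i := by
        intro i
        induction i with
        | zero => intro hi; simp [RelSeries.head]
        | succ i ih =>
          intro hi
          have h1 := Groth.Agent.Lib.DMod.DimDegree.deg_covBy hω' (hr ⟨i, by lia⟩)
          have h2 := ih (by lia)
          simp only [Fin.castSucc_mk, Fin.succ_mk] at h1
          rw [h1, h2]
          push_cast
          ring
      exact this r.length (by lia)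
    have h1 := e s hs
    have h2 := e t ht
    rw [h', h, h2] at h1
    lia

end Groth.Agent.S1721
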