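import Groth.Statements.S17210
import Groth.Agent.Lib.LocAcyc9.FlatRed
import Groth.Agent.Lib.EtSite.LocZeroAcyc
-- import your own Groth.Agent.* helpers here

set_option autoImplicit false
universe u
open CategoryTheory CategoryTheory.Limits AlgebraicGeometry Opposite
open EtAcyc

namespace Groth.Agent.S17210

/-- Let S be a Noetherian scheme and f : X → S a morphism of finite type. There is a dense open U of S
such that for every morphism b : S' → S whose image lies in U and every cartesian square exhibiting
f' : X' → S' as the base change of f, all Milnor fibres of f' are nonempty and connected: for every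
point x' of X', all strict henselizations R of the local ring of S' at f' x' and R' of the local
ring of X' at x' with a compatible local homomorphism R → R', and every geometric point of Spec R
with values in a separably closed field algebraic over the residue field of a point of Spec R, the
fibre of Spec R' → Spec R at that geometric point is nonempty and connected. (Equivalently: for
every finite set E the constant sheaf E on X_U is universally locally acyclic for X_U → U, local
acyclicity of a sheaf of sets meaning that its sections over each strict localization map
bijectively to its sections over every Milnor fibre. The published statement asserts the conclusion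
for f itself rather than for its restriction over U, one dense open U serving both for this and for
the companion statement on principal covers of the Milnor fibres; in the unrestricted form it fails,
for instance for the inclusion of a closed point in the affine line over a field, whose Milnor fibre
over the generic point is empty; this row states it over U, which is what the proof gives.) -/
theorem result {X S : Scheme.{u}} (f : X ⟶ S) [IsNoetherian S]
    [LocallyOfFiniteType f] [QuasiCompact f] :
    ∃ U : S.Opens, Dense (U : Set S) ∧
      ∀ ⦃X' S' : Scheme.{u}⦄ (b : S' ⟶ S), Set.range b.base ⊆ (U : Set S) →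
        ∀ (f' : X' ⟶ S') (b' : X' ⟶ X), IsPullback b' f' f b →
          EtAcyc.OnStrictLocalizations f' (fun _ _ h => EtAcyc.GeomFibresAcyclicN Set.univ 0 h) := by
  obtain ⟨U, hU, h⟩ := Groth.Agent.Lib.LocAcyc9.exists_dense_open f
    Groth.Agent.Lib.LocAcyc9.flatRedAcyclic
  refine ⟨U, hU, fun X' S' b hb f' b' sq => ?_⟩
  intro x RY RX _ _ _ _ _ _ _ _ _ _ _ _ hc y Ω _ _ _ _
  have h0 := h b hb f' b' sq x RY RX hc
  let F := AlgebraicClosure Ω
  let s := EtAcyc.geomPt (Spec (CommRingCat.of RY)) y Ω
  let π := Spec.map (CommRingCat.ofHom (algebraMap Ω F))
  let m' := Spec.map (CommRingCat.ofHom (algebraMap RY RX))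
  haveI := Groth.Agent.Lib.EtSite.ZeroAcycFibre.connectedSpace_fibre (A := RY) (B := RX) h0 F (π ≫ s)
  haveI : Surjective π := ⟨fun z => ⟨default, Subsingleton.elim _ _⟩⟩
  let m : pullback m' (π ≫ s) ⟶ pullback m' s :=
    pullback.lift (pullback.fst _ _) (pullback.snd _ _ ≫ π) (by rw [Category.assoc]; exact pullback.condition)
  have sqm : IsPullback m (pullback.snd m' (π ≫ s)) (pullback.snd m' s) π := by
    refine IsPullback.of_right ?_ (pullback.lift_snd _ _ _) (IsPullback.of_hasPullback m' s)
    rw [pullback.lift_fst]
    exact IsPullback.of_hasPullback m' (π ≫ s)
  have hm : Surjective m := MorphismProperty.of_isPullback sqm.flip ‹Surjective π›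
  have hconn := hm.surj.connectedSpace m.continuous
  exact ⟨hconn.toNonempty, hconn, fun ℓ _ _ q h1 h2 => absurd (h1.trans h2) (by simp)⟩

end Groth.Agent.S17210
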