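import Groth.Statements.S17217
import Groth.Agent.Lib.LocAcyc9.FlatRed
import Groth.Agent.Lib.LocAcyc9.StrictMap
-- import your own Groth.Agent.* helpers here

set_option autoImplicit false
open CategoryTheory CategoryTheory.Limits AlgebraicGeometry
universe u
open Pi1

namespace Groth.Agent.S17217

/-- Let S be a Noetherian scheme and a : X → S a morphism of finite type. There is a dense open U of S
with the following property. Let c : Z → S have image in U, let G be a finite group whose order is
invertible in the residue fields of Z, let g : Y → Z be quasi-compact and quasi-separated, let p :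
Z' → Z, q : Z' → X exhibit Z' as Z ×_S X, let z' be a point of Z' and R, R' strict henselizations of
the local rings of Z at p z' and of Z' at z' with a compatible local homomorphism R → R'; write Y_R
= Y ×_Z Spec R and Y_{R'} = Y_R ×_{Spec R} Spec R' (their sets of isomorphism classes of principal
G-covers are the stalks of R^1 g_* G at the geometric point of Z given by R and of R^1 g'_* G at the
geometric point of Z' given by R', g' : Y ×_Z Z' → Z' the base change). Then two principal G-covers
of Y_R whose pullbacks to Y_{R'} are G-equivariantly isomorphic are G-equivariantly isomorphic.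
(Stalkwise injectivity, on isomorphism classes, in the statement that the base change 1-morphism p^*
g_* Tors(G) → g'_* p'^* Tors(G) is an equivalence.) -/
theorem result {X S : Scheme.{u}} (a : X ⟶ S) [IsNoetherian S]
    [LocallyOfFiniteType a] [QuasiCompact a] :
    ∃ U : S.Opens, Dense (U : Set S) ∧
      ∀ ⦃Y Z Z' : Scheme.{u}⦄ (c : Z ⟶ S), Set.range c.base ⊆ (U : Set S) →
      ∀ (G : Type) [Group G] [Finite G], (∀ z : Z, IsUnit ((Nat.card G : ℕ) : Z.residueField z)) →
      ∀ (g : Y ⟶ Z) [QuasiCompact g] [QuasiSeparated g] (p : Z' ⟶ Z) (q : Z' ⟶ X), IsPullback p q c a →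
      ∀ (z' : Z') (R : Type u) [CommRing R] [IsLocalRing R] [Algebra (Z.presheaf.stalk (p.base z')) R]
        [IsLocalHom (algebraMap (Z.presheaf.stalk (p.base z')) R)]
        [Hensel.IsStrictHenselization (Z.presheaf.stalk (p.base z')) R]
        (R' : Type u) [CommRing R'] [IsLocalRing R'] [Algebra (Z'.presheaf.stalk z') R']
        [IsLocalHom (algebraMap (Z'.presheaf.stalk z') R')] [Hensel.IsStrictHenselization (Z'.presheaf.stalk z') R']
        [Algebra R R'],
        (algebraMap R R').comp (algebraMap (Z.presheaf.stalk (p.base z')) R) =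
          (algebraMap (Z'.presheaf.stalk z') R').comp (p.stalkMap z').hom →
      letI σ := Hens2.specOf Z (p.base z') R
      letI m : Spec (CommRingCat.of R') ⟶ Spec (CommRingCat.of R) := Spec.map (CommRingCat.ofHom (algebraMap R R'))
      letI gR := pullback.snd g σ
      letI kb := pullback.fst gR m
      ∀ (P Q : FEt.Cat (pullback g σ)) (ρ : G →* Aut P) (τ : G →* Aut Q),
        SGA1t.IsPrincipal G P ρ → SGA1t.IsPrincipal G Q τ →
        (∃ e' : (FEt.restrict kb).obj P ≅ (FEt.restrict kb).obj Q,
          ∀ x : G, (FEt.restrict kb).map (ρ x).hom ≫ e'.hom = e'.hom ≫ (FEt.restrict kb).map (τ x).hom) →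
        ∃ e : P ≅ Q, ∀ x : G, (ρ x).hom ≫ e.hom = e.hom ≫ (τ x).hom := by
  obtain ⟨U, hU, h⟩ := Groth.Agent.Lib.LocAcyc9.exists_dense_open a
    Groth.Agent.Lib.LocAcyc9.flatRedAcyclic
  refine ⟨U, hU, fun Y Z Z' c hc G _ _ _ g _ _ p q hpq z' R _ _ _ _ _ R' _ _ _ _ _ _ hcomp => ?_⟩
  intro P Q ρ τ _ _ he'
  have hp : EtAcyc.IsULocZeroAcyclic p := fun X₁ Y₁ g₁ b' b sq => by
    refine h (b ≫ c) (fun s hs => ?_) g₁ (b' ≫ q) (sq.paste_horiz hpq.flip)
    obtain ⟨z, rfl⟩ := hs
    exact hc ⟨b.base z, rfl⟩
  obtain ⟨e', he'⟩ := he'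
  let m : Spec (CommRingCat.of R') ⟶ Spec (CommRingCat.of R) :=
    Spec.map (CommRingCat.ofHom (algebraMap R R'))
  let gR := pullback.snd g (Hens2.specOf Z (p.base z') R)
  let kb := pullback.fst gR m
  have hgen : (topologically GeneralizingMap).universally kb :=
    MorphismProperty.pullback_fst _ _
      (Groth.Agent.Lib.LocAcyc9.universally_generalizing_strictMap hp z' R R' hcomp)
  obtain ⟨hfull, hfaith⟩ := Groth.Agent.Lib.LocAcyc9.full_and_faithful_of_generalizing kb hgen
    fun Ω _ _ s => by
      haveI : ConnectedSpace ↥(pullback m (s ≫ gR)) :=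
        Groth.Agent.Lib.LocAcyc9.connectedSpace_fibre_strictMap hp z' R R' hcomp Ω (s ≫ gR)
      have sq : IsPullback (pullback.fst kb s ≫ pullback.snd gR m) (pullback.snd kb s) m (s ≫ gR) :=
        (IsPullback.of_hasPullback kb s).paste_horiz (IsPullback.of_hasPullback gR m).flip
      exact sq.isoPullback.hom.homeomorph.connectedSpace_iff.2 inferInstance
  refine ⟨(FEt.restrict kb).preimageIso e', fun x => (FEt.restrict kb).map_injective ?_⟩
  simp only [Functor.map_comp, Functor.preimageIso_hom, Functor.map_preimage]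
  exact he' x

end Groth.Agent.S17217
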