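import Groth.Statements.S17218
import Groth.Agent.Lib.KVec.ChiCap
import Groth.Agent.Lib.KVec.PushFBC
import Groth.Agent.S2332
open Groth.Agent Groth.Agent.Lib

set_option autoImplicit false
set_option linter.style.haveILetI false
universe u
open IntSh

namespace Groth.Agent.S17218

open CategoryTheory CategoryTheory.Limits AlgebraicGeometry in
/-- Let π : X → Y be a projective morphism of Noetherian schemes with X and Y connected, F a coherent
O_X-module flat over Y whose support meets every fibre of π in dimension d, and assume that π is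
flat or that Y carries an ample invertible module; K^•(X) and K^•(Y) are given through λ-ring models
and π_*^F : K^•(X) → K^•(Y) denotes the push-forward on bundle classes twisted by F. Then the
augmentation ε (the rank) of π_*^F(x) is zero for every x in F^{d+1} K^•(X); hence the relative
intersection number x ↦ ε(π_*^F(x)) is a homomorphism on F^d K^•(X) vanishing on F^{d+1} K^•(X).
(The source lets X be an arbitrary Noetherian scheme; X is taken connected here so that K^•(X) has a
λ-ring model with integer-valued rank.) -/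
theorem result
    {X Y : Scheme.{u}} [IsNoetherian X] [IsNoetherian Y] [ConnectedSpace X] [ConnectedSpace Y] (π : X ⟶ Y)
    (hπ : RelProj.IsProjective π) [HasInjectiveResolutions X.Modules]
    (F : X.Modules) (hF : Coh.IsCoh F) (hFf : FlatMod.IsFlatOver π F)
    (d : ℕ) (hd : ∀ y : Y, topologicalKrullDim ↥(CohB1.support F ∩ π.base ⁻¹' {y}) = d)
    (hAB : Flat π ∨ ∃ H : Y.Modules, CohB1.IsAmple H)
    (KX : Type u) [CommRing KX] [LambdaRing.LambdaOps KX] (PX : LambdaRing.PosStructure KX)
    (φX : SGA6.Kvb X →+ KX) (hKX : KRR.IsModel X KX PX φX)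
    (KY : Type u) [CommRing KY] [LambdaRing.LambdaOps KY] (PY : LambdaRing.PosStructure KY)
    (φY : SGA6.Kvb Y →+ KY) (hKY : KRR.IsModel Y KY PY φY)
    (g : KX →+ KY) (hg : KDet.IsPushF π F φX φY g)
    (x : KX) (hx : x ∈ LambdaRing.gammaFiltration PX (d + 1)) :
    PY.aug (g x) = 0 := by
  have hs : KVec.RelGen.Setup π F d := ⟨hπ, hF, hFf, fun y => (hd y).le, hAB⟩
  haveI : IsProper π := (Groth.Agent.S4418.result π hπ).2
  obtain ⟨-, -, L, hL⟩ := (Groth.Agent.S4418.result π hπ).1
  obtain ⟨y⟩ := (inferInstance : Nonempty Y)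
  letI : (π.fiber y).Over (Spec (CommRingCat.of (Y.residueField y))) := ⟨π.fiberToSpecResidueField y⟩
  haveI : IsProper ((π.fiber y) ↘ Spec (CommRingCat.of (Y.residueField y))) :=
    MorphismProperty.pullback_snd _ _ inferInstance
  haveI : IsNoetherian (π.fiber y) := Curves.GlobalSections.isNoetherian_of_proper (Y.residueField y) _
  have hA : CohB1.IsAmple ((Scheme.Modules.pullback (π.fiberι y)).obj L) :=
    (Ample.RelAmple.isRelAmple_iff_isAmple (π.fiberToSpecResidueField y)).1
      (Groth.Agent.S2332.result π (Y.fromSpecResidueField y) L hL)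
  obtain ⟨D, hD⟩ := Snapper.DimBound.exists_dim_bound (Y.residueField y) (π.fiber y)
  have hG : Coh.IsCoh ((Scheme.Modules.pullback (π.fiberι y)).obj F) := Cyc.FP.Stalk.isCoh_pullback _ hF
  have hsupp : topologicalKrullDim ↥(CohB1.support ((Scheme.Modules.pullback (π.fiberι y)).obj F)) ≤
      (d : WithBot ℕ∞) := by
    haveI : SheafOfModules.IsFiniteType (R := X.ringCatSheaf) F := hF.2
    rw [Modules.SupportOps.support_pullback]
    refine le_trans ?_ (hd y).le
    have hmaps : ∀ z : ↥(⇑(π.fiberι y) ⁻¹' CohB1.support F),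
        π.fiberι y z.1 ∈ CohB1.support F ∩ π.base ⁻¹' {y} := fun z =>
      ⟨z.2, by
        have := Set.mem_range_self (f := ⇑(π.fiberι y)) z.1
        rw [Scheme.Hom.range_fiberι] at this
        exact this⟩
    exact ((((π.fiberι y).isEmbedding.comp Topology.IsEmbedding.subtypeVal)).codRestrict _ hmaps).isInducing.topologicalKrullDim_le
  obtain ⟨a, rfl⟩ := hKX.bijective.2 x
  have h0 := KVec.ChiCap.chiHom_eq_zero (Y.residueField y) (π.fiberι y) D hKX hA hD hG hsupp hx
  have key : (PY.aug.toAddMonoidHom.comp (g.comp φX)) =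
      KVec.ChiCap.chiHom (Y.residueField y) (π.fiberι y) D hD hG := KVec.RelGen.hom_ext hs fun E hE hA' => by
    have hM := KVec.RelShift.isCoh_tensor hF hE
    have hMf := KVec.RelShift.isFlatOver_tensor π hFf hE
    obtain ⟨r, hr⟩ := KAugNil98.Main.exists_rank hA'.2
    rw [KVec.ChiCap.chiHom_cl _ _ D hD hG hE]
    show PY.aug (g (φX (KRR.cl X E))) = _
    rw [hg E hE hA'.1 hA'.2]
    refine (hKY.aug_cl r _ hr).trans ?_
    haveI := hM.1
    haveI : (CohB1.tensorMod F E).IsQuasicoherent := hM.1
    have hP := ZarCoh.FP.isFP_of_isCoh _ hM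
    obtain ⟨e₀⟩ := ExchangeFP29.Main.nonempty_zeroIso π (CohB1.tensorMod F E)
    have hrk : ∀ p, CohIII.fiberRank π (CohB1.tensorMod F E) p y = if p = 0 then r else 0 := fun p => by
      refine ExchangeFP29.Locus.fiberRank_eq_of_locFree π _ hP hMf (fun p => if p = 0 then r else 0) (fun p => ?_) p y
      by_cases hp : p = 0
      · subst hp
        exact fun z => let ⟨U, hz, ⟨e⟩⟩ := hr z
          ⟨U, hz, ⟨(Scheme.Modules.restrictFunctor U.ι).mapIso e₀ ≪≫ e⟩⟩
      · simp only [if_neg hp]
        exact ExchangeFP29.LocusD.rank_zero_of_isZero (hA'.1 p (Nat.pos_of_ne_zero hp))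
    refine Eq.trans ?_ (Snapper.Chi.eulerCharLE_of_iso (TensorMod.Pullback.pullbackTensorIso (π.fiberι y) F E) D)
    symm
    unfold FGA.eulerCharLE
    have hfr : ∀ p, Module.finrank (Y.residueField y) (Coh.HH (π.fiber y)
        ((Scheme.Modules.pullback (π.fiberι y)).obj (CohB1.tensorMod F E)) p) = if p = 0 then r else 0 := hrk
    simp_rw [hfr]
    rw [Finset.sum_range_succ']
    simp
  exact (DFunLike.congr_fun key a).trans h0

end Groth.Agent.S17218
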