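import Groth.Statements.S17226
import Groth.Agent.H70.DetTwist2

set_option autoImplicit false
universe u
open IntSh

namespace Groth.Agent.S17226

open CategoryTheory CategoryTheory.Limits AlgebraicGeometry in
/-- Let Y be a normal separated Noetherian integral scheme, π : X → Y a proper surjective morphism with
X Noetherian and connected, K^•(X) given through a λ-ring model acting on K_•(X) = K_0(Coh X), and
π_* : K_•(X) → K_•(Y) the proper push-forward, det-hat : K_•(Y) → Ref¹(Y) the determinant
homomorphism and rk_Y : K_•(Y) → ℤ the length at the generic point. Fix d ≥ 0, ξ in the subgroup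
K_π^{(d)}(X) (generated by classes of coherent modules whose support meets the fibres over points y
with dim O_{Y,y} ≤ 1 in dimension at most d), x in F^d K^•(X), and an invertible O_Y-module M with
inverse M'. Then the intersection sheaf of x · δ(π^*M), where δ(π^*M) = 1 − [π^*M'] represents
c^1(π^*M), is the i-th power of M in Ref¹(Y) with i = rk_Y(π_*(x · ξ)) the relative intersection
number: det-hat(π_*((x · (1 − [π^*M'])) · ξ)) = i • [M]. The rank-one reflexivity of M, needed to
name its class in Ref¹(Y), is carried as a hypothesis. (X is taken connected so that K^•(X) has a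
λ-ring model; the source allows any Noetherian X.) -/
theorem result
    {X Y : Scheme.{u}} [IsNoetherian X] [IsNoetherian Y] [IsIntegral Y] [Y.IsSeparated] [ConnectedSpace X]
    (hYn : Pi1.IsNormalScheme Y) (π : X ⟶ Y) [IsProper π] [Surjective π] [HasInjectiveResolutions X.Modules]
    (d : ℕ)
    (KX : Type u) [CommRing KX] [LambdaRing.LambdaOps KX] (PX : LambdaRing.PosStructure KX)
    (φX : SGA6.Kvb X →+ KX) (hKX : KRR.IsModel X KX PX φX)
    (μ : KX →+ SGA6.Kcoh X →+ SGA6.Kcoh X) (hμ : KDet.IsCap φX μ)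
    (N : ℕ) (gc : SGA6.Kcoh X →+ SGA6.Kcoh Y) (hgc : KRR.IsPushCoh π N gc)
    [RefFun.Law Y] (dh : SGA6.Kcoh Y →+ Additive (RefFun.Ref1Set Y)) (hdh : KDet.IsDetHat Y dh)
    (ξ : SGA6.Kcoh X) (hξ : ξ ∈ KDet.Kpi π d)
    (M M' : Y.Modules) (hM : PicF.IsInvertible M) (hM' : PicF.IsInvertible M') (hMM' : ClSub.IsInverseOf M M')
    (hM1 : RefHull.IsRef1 M)
    (x : KX) (hx : x ∈ LambdaRing.gammaFiltration PX d) :
    ∀ rk : SGA6.Kcoh Y →+ ℤ,
      (∀ G' : Y.Modules, Coh.IsCoh G' → rk (KDet.clc Y G') =
        ((Module.length (Y.presheaf.stalk (genericPoint Y)) (G'.presheaf.stalk (genericPoint Y))).toNat : ℤ)) →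
      dh (gc (μ (x * (1 - φX (KRR.cl X ((Scheme.Modules.pullback π).obj M')))) ξ)) =
        (rk (gc (μ x ξ))) • Additive.ofMul (RefFun.cls M hM1) := by
  intro rk hrk
  have hM'1 : RefHull.IsRef1 M' := Lib.RefHull.DivTwist.isRef1_of_isInvertible hM'
  have hM'f : FlatMod.IsFinLocFree M' :=
    Lib.TensorMod.LocFree.of_rank (Lib.TensorMod.LocFree.of_isInvertible hM')
  obtain ⟨τ, hτ⟩ := H70.DetTwist.exists_tau hM'f
  have hE := Lib.TensorMod.LocFree.isFinLocFree_pullback π hM'f
  set e := φX (KRR.cl X ((Scheme.Modules.pullback π).obj M'))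
  have key : ∀ η, gc (μ e η) = τ (gc η) := by
    have h : gc.comp (μ e) = τ.comp gc :=
      Lib.KRes.KSub.hom_ext (P := fun M : X.Modules => Coh.IsCoh M) fun F hF => by
        show gc (μ e (KDet.clc X F)) = τ (gc (KDet.clc X F))
        rw [hμ.map_cl _ F hE hF]
        exact H70.DetTwist.push_twist π N gc hgc hM'f τ hτ hF
    exact fun η => DFunLike.congr_fun h η
  have hsplit : μ (x * (1 - e)) ξ = μ x ξ - μ e (μ x ξ) := by
    rw [mul_sub, mul_one, map_sub, AddMonoidHom.sub_apply, mul_comm x e, hμ.mul_smul]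
  have hinv : Additive.ofMul (RefFun.cls M' hM'1) = - Additive.ofMul (RefFun.cls M hM1) := by
    rw [← ofMul_inv]
    refine congrArg Additive.ofMul (eq_inv_of_mul_eq_one_right ?_)
    apply Subtype.ext
    rw [RefFun.cls_mul_cls_val, RefFun.one_val]
    obtain ⟨i⟩ := hMM'
    have hT : PicF.IsInvertible (CohB1.tensorMod M M') :=
      Lib.TensorMod.LocFree.isInvertible_of_rank_one (by
        simpa using Lib.TensorMod.LocFree.rank_tensorMod (Lib.TensorMod.LocFree.of_isInvertible hM)
          (Lib.TensorMod.LocFree.of_isInvertible hM'))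
    haveI : IsIso (RefHull.bidualMap (CohB1.tensorMod M M')) :=
      (Lib.RefHull.DivTwist.isRef1_of_isInvertible hT).2.1
    exact Lib.RefHull.Group.cl_eq_of_iso ⟨(asIso (RefHull.bidualMap (CohB1.tensorMod M M'))).symm ≪≫ i⟩
  rw [hsplit, map_sub, key, map_sub,
    H70.DetTwist.dh_twist hYn hdh hM' hM'1 τ hτ rk hrk, hinv, smul_neg]
  abel

end Groth.Agent.S17226
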