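import Groth.Statements.S1723
import Groth.Agent.Lib.DMod.GorFibreApply
import Groth.Agent.Lib.Excellent.CompletionNoetherian
import Mathlib.RingTheory.AdicCompletion.LocalRing

set_option autoImplicit false
universe u
open CategoryTheory
attribute [local instance] HasDerivedCategory.standard
open Dual

namespace Groth.Agent.S1723

/-- If a Noetherian local ring A has a dualizing complex, then each of its formal fibres is a Gorenstein
ring: for every prime p the ring A^ ⊗_A κ(p) (completion at the maximal ideal, tensored with the
residue field of p) is a Gorenstein ring. -/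
theorem result (A : Type u) [CommRing A] [IsLocalRing A] [IsNoetherianRing A] (ω : Dual.D A) (hω : Dual.IsDualizing A ω) (p : PrimeSpectrum A) : LocCoh.IsGorensteinRing (EGA4.formalFibre A p.asIdeal) := by
  have : IsNoetherianRing (EGA4.Cpl A) :=
    Groth.Agent.Lib.Excellent.CompletionNoetherian.isNoetherianRing_adicCompletion _
  have := Groth.Agent.Lib.DR.BaseChangeU.hasLBaseChange (algebraMap A (EGA4.Cpl A))
  have := Groth.Agent.Lib.Excellent.FibreNoetherian.isNoetherianRing_fibre
    (IsLocalRing.maximalIdeal A) p.asIdeal
  exact Groth.Agent.Lib.DMod.GorFibreApply.gorenstein_fibre_of_isDualizing hω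
    (Groth.Agent.Lib.DMod.LBC.isDualizing_of_iso
      ((Groth.Agent.Lib.DMod.FlatHom.isoLBaseChange A (EGA4.Cpl A)).app ω)
      (Groth.Agent.Lib.DMod.LBC.isDualizing_of_unramified
        (AdicCompletion.maximalIdeal_eq_map (R := A)).symm hω)) p.asIdeal

end Groth.Agent.S1723
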