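import Groth.Statements.S17234
import Groth.Agent.Lib.KVec.RelGen
import Groth.Agent.Lib.TensorMod.LocFree
import Groth.Agent.Lib.TensorMod.Invertible
import Groth.Agent.Lib.RDer.Connecting
open Groth.Agent Groth.Agent.Lib

set_option autoImplicit false
universe u
open IntSh

namespace Groth.Agent.S17234


section Aux
open CategoryTheory CategoryTheory.Limits AlgebraicGeometry
open Groth.Agent.Lib.KVec.RelResolve Groth.Agent.Lib.KVec.RelGen Groth.Agent.Lib.KVec.RelShift

variable {X Y : Scheme.{u}} [IsNoetherian X] [IsNoetherian Y] {π : X ⟶ Y} [IsProper π] [HasInjectiveResolutions X.Modules]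

/-- Vanishing passes to retracts of the twisting bundle. -/
theorem acyc_retract {F V E A : X.Modules} (hF : Coh.IsCoh F) (hFf : FlatMod.IsFlatOver π F)
    (hE : FlatMod.IsFinLocFree E) (hA : FlatMod.IsFinLocFree A) (i : A ⟶ V) (r : V ⟶ A) (hir : i ≫ r = 𝟙 A)
    (h : Acyc π (CohB1.tensorMod F V) E) : Acyc π F (CohB1.tensorMod E A) := by
  refine acyc_of_vanish π hF hFf (TensorMod.LocFree.isFinLocFree_tensorMod hE hA) fun p hp => ?_
  let Φ : X.Modules ⥤ Y.Modules :=
    Modules.DualAdj.tensorL F ⋙ TensorMod.Basic.tensorBy E ⋙ Coh.Rpush π p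
  have hz : IsZero (Φ.obj V) := h.1 p hp
  have hid : Φ.map i ≫ Φ.map r = 𝟙 _ := by rw [← Φ.map_comp, hir, Φ.map_id]
  have hzA : IsZero (Φ.obj A) := by
    rw [IsZero.iff_id_eq_zero, ← hid, hz.eq_of_tgt (Φ.map i) 0, zero_comp]
  exact hzA.of_iso ((Coh.Rpush π p).mapIso
    (TensorMod.Basic.tensorIso (Iso.refl F) (TensorMod.Basic.comm E A) ≪≫
      (TensorMod.Basic.assoc F A E).symm))

/-- The class relation attached to a regular section. -/
theorem key {d : ℕ} {F M₀ : X.Modules} (hs : KVec.RelGen.Setup π F d) (hM₀ : FlatMod.IsFinLocFree M₀)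
    (s : M₀ ⟶ Coh.structureModule X) (hreg : Mono (((DCoh.tensorBi (X := X)).obj F).map s))
    (hBf : FlatMod.IsFlatOver π (cokernel (((DCoh.tensorBi (X := X)).obj F).map s)))
    {KX : Type u} [CommRing KX] [LambdaRing.LambdaOps KX] {PX : LambdaRing.PosStructure KX}
    {φX : SGA6.Kvb X →+ KX} (hKX : KRR.IsModel X KX PX φX)
    {KY : Type u} [CommRing KY] {φY : SGA6.Kvb Y →+ KY}
    {g g₁ : KX →+ KY} (hg : KDet.IsPushF π F φX φY g)
    (hg₁ : KDet.IsPushF π (cokernel (((DCoh.tensorBi (X := X)).obj F).map s)) φX φY g₁) (x : KX) :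
    g ((1 - φX (KRR.cl X M₀)) * x) = g₁ x := by
  obtain ⟨t, rfl⟩ := hKX.bijective.2 x
  have hO : FlatMod.IsFinLocFree (Coh.structureModule X) :=
    TensorMod.LocFree.of_iso (TensorMod.LocFree.freeModOneIso X)
      (TensorMod.LocFree.of_rank (TensorMod.LocFree.isFinLocFree_freeMod X 1))
  have hV : FlatMod.IsFinLocFree (Coh.structureModule X ⊞ M₀) :=
    TensorMod.LocFree.of_iso (biprod.isoCoprod _ _).symm (TensorMod.LocFree.isFinLocFree_biprod hO hM₀)
  have hVc := Perfect.Coherent.isCoh_of_isFinLocFree hV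
  have hs' : KVec.RelGen.Setup π (CohB1.tensorMod F (Coh.structureModule X ⊞ M₀)) d :=
    ⟨hs.proj, isCoh_tensor hs.coh hV, isFlatOver_tensor π hs.flat hV, fun y => by
      haveI : SheafOfModules.IsFiniteType (R := X.ringCatSheaf) F := hs.coh.2
      haveI := hVc.2
      refine le_trans (Topology.IsInducing.topologicalKrullDim_le
        (Topology.IsEmbedding.inclusion ?_).isInducing) (hs.dim y)
      rintro z ⟨hz, hzy⟩
      rw [Modules.SupportOps.support_tensorMod] at hz
      exact ⟨hz.1, hzy⟩, hs.hAB⟩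
  let L : SGA6.Kvb X →+ KY := g.comp ((AddMonoidHom.mulLeft (1 - φX (KRR.cl X M₀))).comp φX)
  have h : L = g₁.comp φX := KVec.RelGen.hom_ext hs' fun E hE hA => by
    show g ((1 - φX (KRR.cl X M₀)) * φX (KRR.cl X E)) = g₁ (φX (KRR.cl X E))
    have hAO : Acyc π F (CohB1.tensorMod E (Coh.structureModule X)) :=
      acyc_retract hs.coh hs.flat hE hO biprod.inl biprod.fst (by simp) hA
    have hAM : Acyc π F (CohB1.tensorMod E M₀) :=
      acyc_retract hs.coh hs.flat hE hM₀ biprod.inr biprod.snd (by simp) hA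
    let φ := ((DCoh.tensorBi (X := X)).obj F).map s
    haveI : Mono φ := hreg
    have hdb := Modules.DualBasis.hasDBases_of_isFinLocFree hE
    haveI := Modules.DualAdj.tensorL_preservesHomology hdb
    haveI := Functor.preservesFiniteLimits_of_preservesHomology (Modules.DualAdj.tensorL E)
    haveI := Functor.preservesFiniteColimits_of_preservesHomology (Modules.DualAdj.tensorL E)
    let T₀ : ShortComplex X.Modules := ShortComplex.mk φ (cokernel.π φ) (cokernel.condition φ)
    have hT₀ : T₀.ShortExact :=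
      { exact := T₀.exact_of_g_is_cokernel (cokernelIsCokernel φ)
        mono_f := (inferInstance : Mono φ)
        epi_g := (inferInstance : Epi (cokernel.π φ)) }
    let T := T₀.map (Modules.DualAdj.tensorL E)
    have hT : T.ShortExact := hT₀.map_of_exact _
    let e₁ : CohB1.tensorMod F (CohB1.tensorMod E M₀) ≅ T.X₁ :=
      TensorMod.Basic.tensorIso (Iso.refl F) (TensorMod.Basic.comm E M₀) ≪≫
        (TensorMod.Basic.assoc F M₀ E).symm ≪≫ TensorMod.Basic.comm _ E
    let e₂ : CohB1.tensorMod F (CohB1.tensorMod E (Coh.structureModule X)) ≅ T.X₂ :=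
      TensorMod.Basic.tensorIso (Iso.refl F) (TensorMod.Basic.comm E _) ≪≫
        (TensorMod.Basic.assoc F _ E).symm ≪≫ TensorMod.Basic.comm _ E
    let e₃ : CohB1.tensorMod (cokernel φ) E ≅ T.X₃ := TensorMod.Basic.comm _ E
    have z₁ : ∀ p, 0 < p → IsZero ((Coh.Rpush π p).obj T.X₁) :=
      fun p hp => (hAM.1 p hp).of_iso ((Coh.Rpush π p).mapIso e₁.symm)
    have z₂ : ∀ p, 0 < p → IsZero ((Coh.Rpush π p).obj T.X₂) :=
      fun p hp => (hAO.1 p hp).of_iso ((Coh.Rpush π p).mapIso e₂.symm)
    haveI := DerivedOX.Grothendieck.enoughInjectives_modules X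
    obtain ⟨Δ⟩ := RDer.Connecting.nonempty_derivedLES (Scheme.Modules.pushforward π)
    have z₃ : ∀ p, 0 < p → IsZero ((Coh.Rpush π p).obj T.X₃) := fun p hp => by
      have := (Δ.exact₃ T hT p (p + 1) rfl).isZero_of_both_zeros
      exact this ((z₂ p hp).eq_of_src _ _) ((z₁ (p + 1) (by omega)).eq_of_tgt _ _)
    have hc₀ : Coh.IsCoh (CohB1.tensorMod F M₀) := isCoh_tensor hs.coh hM₀
    have hFB : Coh.IsCoh (cokernel φ) :=
      CohBasics.Closure.isCoh_cokernel _ hc₀.1 (isCoh_tensor hs.coh hO)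
    have hAB₁ : Acyc π (cokernel φ) E := acyc_of_vanish π hFB hBf hE
      fun p hp => (z₃ p hp).of_iso ((Coh.Rpush π p).mapIso e₃)
    haveI : PreservesLimitsOfSize.{0, 0} (Scheme.Modules.pushforward π) :=
      (Scheme.Modules.pullbackPushforwardAdjunction π).rightAdjoint_preservesLimits
    haveI : PreservesFiniteLimits (Scheme.Modules.pushforward π) :=
      PreservesLimitsOfSize.preservesFiniteLimits _
    have hP : (T.map (Scheme.Modules.pushforward π)).ShortExact := by
      haveI := hT.mono_f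
      haveI h0 : Epi (((Scheme.Modules.pushforward π).rightDerived 0).map T.g) :=
        (Δ.exact₃ T hT 0 1 rfl).epi_f ((z₁ 1 one_pos).eq_of_tgt _ _)
      exact
        { exact := hT.exact.map_of_mono_of_preservesKernel _ hT.mono_f inferInstance
          mono_f := inferInstanceAs (Mono ((Scheme.Modules.pushforward π).map T.f))
          epi_g := ((MorphismProperty.epimorphisms _).arrow_mk_iso_iff
            (Arrow.isoMk (((Scheme.Modules.pushforward π).rightDerivedZeroIsoSelf).app _)
              (((Scheme.Modules.pushforward π).rightDerivedZeroIsoSelf).app _)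
              (((Scheme.Modules.pushforward π).rightDerivedZeroIsoSelf).hom.naturality _).symm)).1 h0 }
    have f₁ := TensorMod.LocFree.of_iso ((Coh.push π).mapIso e₁) hAM.2
    have f₂ := TensorMod.LocFree.of_iso ((Coh.push π).mapIso e₂) hAO.2
    have f₃ := TensorMod.LocFree.of_iso ((Coh.push π).mapIso e₃) hAB₁.2
    have hr : KRR.cl Y ((Coh.push π).obj T.X₂) =
        KRR.cl Y ((Coh.push π).obj T.X₁) + KRR.cl Y ((Coh.push π).obj T.X₃) :=
      KRes.KSub.rel (P := KRR.vbP Y) hP f₁ f₂ f₃
    have hEM := TensorMod.LocFree.isFinLocFree_tensorMod hE hM₀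
    have hEO := TensorMod.LocFree.isFinLocFree_tensorMod hE hO
    have g1 : g (φX (KRR.cl X M₀) * φX (KRR.cl X E)) = φY (KRR.cl Y ((Coh.push π).obj T.X₁)) := by
      rw [mul_comm, hKX.map_mul _ _ hE hM₀]
      refine (hg _ hEM hAM.1 hAM.2).trans ?_
      exact congrArg φY (KAugNil98.Main.cl_iso ((Coh.push π).mapIso e₁) hAM.2)
    have g2 : g (φX (KRR.cl X E)) = φY (KRR.cl Y ((Coh.push π).obj T.X₂)) := by
      rw [← mul_one (φX (KRR.cl X E)), ← hKX.map_one, hKX.map_mul _ _ hE hO]
      refine (hg _ hEO hAO.1 hAO.2).trans ?_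
      exact congrArg φY (KAugNil98.Main.cl_iso ((Coh.push π).mapIso e₂) hAO.2)
    have g3 : g₁ (φX (KRR.cl X E)) = φY (KRR.cl Y ((Coh.push π).obj T.X₃)) :=
      (hg₁ E hE hAB₁.1 hAB₁.2).trans
        (congrArg φY (KAugNil98.Main.cl_iso ((Coh.push π).mapIso e₃) hAB₁.2))
    rw [sub_mul, one_mul, map_sub, g1, g2, g3, hr, map_add, add_sub_cancel_left]
  exact DFunLike.congr_fun h t

end Aux

open CategoryTheory CategoryTheory.Limits AlgebraicGeometry in
/-- Let π : X → Y be a projective morphism of Noetherian schemes with X and Y connected, F a coherent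
O_X-module flat over Y whose support meets every fibre of π in dimension d, and assume that π is
flat or that Y carries an ample invertible module; K^•(X) and K^•(Y) are given through λ-ring models
and π_*^F : K^•(X) → K^•(Y) denotes the push-forward on bundle classes twisted by F, and det :
K^•(Y) → Pic(Y) is the determinant. Let L_0, …, L_d be invertible O_X-modules with inverses M_0, …,
M_d, and let s : M_0 → O_X be the dual of an F-regular section σ of L_0, regularity meaning that F ⊗
s : F ⊗ M_0 → F ⊗ O_X is injective; let F_B denote its cokernel, which is F ⊗ O_B for the zero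
scheme B of σ, and assume F_B flat over Y. Then the intersection sheaf I_{F/Y}(L_0, …, L_d) = det
π_*^F(∏_{i} (1 − [M_i])) equals I_{F ⊗ O_B/Y}(L_1|_B, …, L_d|_B), computed here as det
π_*^{F_B}(∏_{i ≥ 1} (1 − [M_i])) with the push-forward on bundle classes twisted by the O_X-module
F_B. (The source lets X be an arbitrary Noetherian scheme; X is taken connected here so that K^•(X)
has a λ-ring model with integer-valued rank.) -/
theorem result
    {X Y : Scheme.{u}} [IsNoetherian X] [IsNoetherian Y] [ConnectedSpace X] [ConnectedSpace Y] (π : X ⟶ Y)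
    (hπ : RelProj.IsProjective π) [HasInjectiveResolutions X.Modules]
    (F : X.Modules) (hF : Coh.IsCoh F) (hFf : FlatMod.IsFlatOver π F)
    (d : ℕ) (hd : ∀ y : Y, topologicalKrullDim ↥(CohB1.support F ∩ π.base ⁻¹' {y}) = d)
    (hAB : Flat π ∨ ∃ H : Y.Modules, CohB1.IsAmple H)
    (KX : Type u) [CommRing KX] [LambdaRing.LambdaOps KX] (PX : LambdaRing.PosStructure KX)
    (φX : SGA6.Kvb X →+ KX) (hKX : KRR.IsModel X KX PX φX)
    (KY : Type u) [CommRing KY] [LambdaRing.LambdaOps KY] (PY : LambdaRing.PosStructure KY)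
    (φY : SGA6.Kvb Y →+ KY) (hKY : KRR.IsModel Y KY PY φY)
    (g : KX →+ KY) (hg : KDet.IsPushF π F φX φY g)
    [PicGrp.Law Y] (dt : KY →+ Additive (PicLoc.PicSet Y)) (hdt : KDet.IsDet φY dt)
    (L M : Fin (d + 1) → X.Modules) (hL : ∀ i, PicF.IsInvertible (L i)) (hM : ∀ i, PicF.IsInvertible (M i))
    (hLM : ∀ i, ClSub.IsInverseOf (L i) (M i))
    (s : M 0 ⟶ Coh.structureModule X) (hreg : Mono (((DCoh.tensorBi (X := X)).obj F).map s))
    (hBf : FlatMod.IsFlatOver π (cokernel (((DCoh.tensorBi (X := X)).obj F).map s)))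
    (g₁ : KX →+ KY) (hg₁ : KDet.IsPushF π (cokernel (((DCoh.tensorBi (X := X)).obj F).map s)) φX φY g₁) :
    dt (g (KDet.delta φX M)) = dt (g₁ (KDet.delta φX (Fin.tail M))) := by
  haveI : IsProper π := (Groth.Agent.S4418.result π hπ).2
  have hs : KVec.RelGen.Setup π F d := ⟨hπ, hF, hFf, fun y => (hd y).le, hAB⟩
  refine congrArg dt ?_
  simp only [KDet.delta, Fin.prod_univ_succ, Fin.tail]
  exact key hs (TensorMod.LocFree.of_rank (TensorMod.LocFree.of_isInvertible (hM 0))) s hreg hBf hKX hg hg₁ _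

end Groth.Agent.S17234
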