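import Groth.Statements.S17236
import Groth.Agent.Lib.IntSh43.Vanish
import Groth.Agent.Lib.IntSh43.Acyclic
import Groth.Agent.Lib.KVec.KcohNil
import Groth.Agent.Lib.Cyc.CH.SubLine
set_option linter.style.haveILetI false

set_option autoImplicit false
universe u
open IntSh

namespace Groth.Agent.S17236

open CategoryTheory CategoryTheory.Limits AlgebraicGeometry in
/-- Let Y be a normal separated Noetherian integral scheme, π : X → Y a proper surjective morphism with
X Noetherian and connected, K^•(X) given through a λ-ring model acting on K_•(X) = K_0(Coh X), and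
π_* : K_•(X) → K_•(Y) the proper push-forward, det-hat : K_•(Y) → Ref¹(Y) the determinant
homomorphism. Fix d ≥ 0; let F be a coherent O_X-module whose support meets the fibre over every
point y with dim O_{Y,y} ≤ 1 in dimension at most d, E' a locally free O_X-module of rank d + 1 and
s : E' → O_X a cosection, the dual of a section σ of the rank-(d+1) bundle E = E'^∨, with Koszul
complex K(E', s); assume σ is F-regular, i.e. F ⊗ K(E', s) is exact in all positive degrees, and let
F_V = coker(F ⊗ E' → F ⊗ O_X) be F ⊗ O_V for the zero scheme V of σ. Then, with λ_{-1}[E'] = Σ_i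
(−1)^i [Λ^i E'] representing the top Chern class c^{d+1}(E) in F^{d+1} K^•(X): (i) the intersection
sheaf det-hat(π_*(λ_{-1}[E'] · [F])) equals det-hat[π_* F_V] in Ref¹(Y) — the class of O_Y(D) for D
the codimension-one part of the push-forward of the cycle of F_V; and (ii) [π_* F_V] − π_*[F_V] lies
in the second step of the coniveau filtration of K_•(Y), the higher direct images of F_V being
supported in codimension ≥ 2. (X is taken connected so that K^•(X) has a λ-ring model; the source
allows any Noetherian X.) -/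
theorem result
    {X Y : Scheme.{u}} [IsNoetherian X] [IsNoetherian Y] [IsIntegral Y] [Y.IsSeparated] [ConnectedSpace X]
    (hYn : Pi1.IsNormalScheme Y) (π : X ⟶ Y) [IsProper π] [Surjective π] [HasInjectiveResolutions X.Modules]
    (d : ℕ)
    (KX : Type u) [CommRing KX] [LambdaRing.LambdaOps KX] (PX : LambdaRing.PosStructure KX)
    (φX : SGA6.Kvb X →+ KX) (hKX : KRR.IsModel X KX PX φX)
    (μ : KX →+ SGA6.Kcoh X →+ SGA6.Kcoh X) (hμ : KDet.IsCap φX μ)
    (N : ℕ) (gc : SGA6.Kcoh X →+ SGA6.Kcoh Y) (hgc : KRR.IsPushCoh π N gc)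
    [RefFun.Law Y] (dh : SGA6.Kcoh Y →+ Additive (RefFun.Ref1Set Y)) (hdh : KDet.IsDetHat Y dh)
    (F : X.Modules) (hF : KDet.CohPi π d F)
    (E' : X.Modules) (hE' : FlatMod.IsFinLocFreeOfRank (d + 1) E')
    (s : E' ⟶ Coh.structureModule X) (C : KoszSh.Cx E' s)
    (hreg : ∀ q : ℕ, 1 ≤ q →
      IsZero (((((DCoh.tensorBi (X := X)).obj F).mapHomologicalComplex (ComplexShape.down ℕ)).obj C.K).homology q)) :
    dh (gc (μ (KRR.lamAlt PX (φX (KRR.cl X E'))) (KDet.clc X F))) =
        dh (KDet.clc Y ((Coh.push π).obj (cokernel (((DCoh.tensorBi (X := X)).obj F).map (C.K.d 1 0))))) ∧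
      KDet.clc Y ((Coh.push π).obj (cokernel (((DCoh.tensorBi (X := X)).obj F).map (C.K.d 1 0)))) -
          gc (KDet.clc X (cokernel (((DCoh.tensorBi (X := X)).obj F).map (C.K.d 1 0)))) ∈ KDet.coniv Y 2 := by
  classical
  haveI := hE'
  have hFc : Coh.IsCoh F := hF.1
  haveI := hFc.1
  haveI := hFc.2
  let G := (DCoh.tensorBi (X := X)).obj F
  let K' := (G.mapHomologicalComplex (ComplexShape.down ℕ)).obj C.K
  have hr := fun q => Lib.KVec.ExtRank.rank_extPow hE' (C.isExtPow q)
  have hlf := fun q => Lib.TensorMod.LocFree.of_rank (hr q)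
  have hK' : ∀ q, Coh.IsCoh (K'.X q) := fun q =>
    Lib.CohBasics.Closure.isCoh_of_iso (Lib.TensorMod.Basic.comm (C.K.X q) F)
      (Lib.KVec.KcohNil.isCoh_tensor (hlf q) hFc)
  let Q := cokernel (((DCoh.tensorBi (X := X)).obj F).map (C.K.d 1 0))
  have hQ : Coh.IsCoh Q := Lib.CohBasics.Closure.isCoh_cokernel _ (hK' 1).1 (hK' 0)
  -- step 1: the cap product is the class of the cokernel
  have h1 : μ (KRR.lamAlt PX (φX (KRR.cl X E'))) (KDet.clc X F) = KDet.clc X Q := by
    have he := Lib.IntSh43.Vanish.euler K' hK' (fun q => hreg (q + 1) (by omega)) (d + 2)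
    have hz : IsZero (C.K.X (d + 2)) := by
      have := hr (d + 2)
      rw [Nat.choose_eq_zero_of_lt (by omega)] at this
      exact Lib.Cyc.CH.isZero_of_rank_zero this
    have hzK : IsZero (K'.X (d + 2)) := G.map_isZero hz
    have hz2 : KDet.clc X (cokernel (K'.d (d + 2 + 1) (d + 2))) = 0 :=
      Lib.KRes.KSub.clSub_zero (IsZero.of_epi (cokernel.π _) hzK)
        (Lib.CohBasics.Closure.isCoh_cokernel _ (hK' _).1 (hK' _))
    rw [hz2, smul_zero, add_zero] at he
    refine Eq.trans ?_ he
    rw [KRR.lamAlt, hKX.aug_cl (d + 1) E' hE', Int.toNat_natCast, map_sum, AddMonoidHom.finsetSum_apply]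
    refine Finset.sum_congr rfl fun q _ => ?_
    rw [hKX.map_lam q E' (C.K.X q) (Lib.TensorMod.LocFree.of_rank hE') (hlf q) (C.isExtPow q),
      show ((-1 : KX) ^ q * φX (KRR.cl X (C.K.X q))) = (-1 : ℤ) ^ q • φX (KRR.cl X (C.K.X q)) by
        simp [zsmul_eq_mul], map_zsmul, AddMonoidHom.smul_apply, hμ.map_cl _ F (hlf q) hFc]
    congr 1
    exact Lib.KVec.KcohNil.c_iso (Lib.TensorMod.Basic.comm (C.K.X q) F)
      (Lib.KVec.KcohNil.isCoh_tensor (hlf q) hFc)
  -- step 2: over codimension ≤ 1 the zero scheme has finite fibres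
  have hsub : ∀ x ∈ CohB1.support Q, x ∈ CohB1.support F := fun x hx hF0 => hx <| by
    haveI : Subsingleton (F.presheaf.stalk x) := hF0
    haveI : Subsingleton ((K'.X 0).presheaf.stalk x) :=
      (Lib.DerivedOX.TensorSheaf.tensorStalk x F (C.K.X 0)).toEquiv.subsingleton
    haveI : Subsingleton ((Lib.Modules.Stalk.stalkFunctor X x).obj (G.obj (C.K.X 0))) := ‹Subsingleton ((K'.X 0).presheaf.stalk x)›
    exact ((Lib.Modules.Stalk.epi_iff_stalk_surjective (cokernel.π (G.map (C.K.d 1 0)))).1 inferInstance x).subsingleton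
  have hkey : ∀ y : Y, ringKrullDim (Y.presheaf.stalk y) ≤ 1 → ∀ a b : X, a ∈ CohB1.support Q →
      b ∈ CohB1.support Q → π.base a = y → π.base b = y → a ⤳ b → a = b := by
    intro y hy a b ha hb _ hby hab
    by_contra hne
    subst hby
    haveI := Lib.IntSh43.Acyclic.finite_stalk_of_isCoh hFc b
    have h2 := Lib.IntSh43.Acyclic.succ_le_supportDim C F hE' hFc hreg ha (hsub a ha)
    have h3 := Lib.IntSh43.StalkDim.supportDim_add_one_le F hab hne (hsub b hb)
    have h4 := Lib.IntSh43.StalkDim.supportDim_le_fibre π F b hy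
    have h5 := (add_le_add h2 (le_refl (1 : WithBot ℕ∞))).trans
      (h3.trans (h4.trans (add_le_add (hF.2 _ hy) le_rfl)))
    have : d + 1 + 1 ≤ d + 1 := by exact_mod_cast h5
    omega
  have hmem := Lib.IntSh43.Vanish.push_sub_mem_coniv π hgc hQ hkey
  refine ⟨?_, hmem⟩
  rw [h1]
  have := hdh.map_coniv_two _ hmem
  rw [map_sub, sub_eq_zero] at this
  exact this.symm

end Groth.Agent.S17236
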