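import Groth.Statements.S17238
import Groth.Agent.S17218
import Groth.Agent.Lib.KVec.PushFBC
import Groth.Agent.Lib.KVec.Pull
import Groth.Agent.Lib.KVec.ExtPowPull
import Groth.Agent.Lib.ExchangeFP29.PBK.Dual
import Groth.Agent.Lib.Modules.ExtPowTwist
import Groth.Agent.Lib.Lambda.ExtFil
import Groth.Agent.Lib.Ample.Pow
open Groth.Agent Groth.Agent.Lib

set_option autoImplicit false
universe u
open IntSh

namespace Groth.Agent.S17238


section Aux
open CategoryTheory CategoryTheory.Limits AlgebraicGeometry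

variable {X : Scheme.{u}} {K : Type u} [CommRing K] [LambdaRing.LambdaOps K]
  {PK : LambdaRing.PosStructure K} {φ : SGA6.Kvb X →+ K}

theorem cl_pow (hK : KRR.IsModel X K PK φ) {L : X.Modules} (hL : PicF.IsInvertible L) :
    ∀ i : ℕ, φ (KRR.cl X L) ^ i = φ (KRR.cl X (CohB1.tensorPow L i))
  | 0 => by rw [pow_zero]; exact hK.map_one.symm
  | i + 1 => by
    rw [pow_succ, cl_pow hK hL i, hK.map_mul _ _
      (TensorMod.LocFree.of_rank (TensorMod.LocFree.of_isInvertible (TensorMod.Invertible.isInvertible_tensorPow hL i)))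
      (TensorMod.LocFree.of_rank (TensorMod.LocFree.of_isInvertible hL))]
    rfl

/-- `∑ (-1)^(i+1) i c_(n-i)` in terms of `γ^(n-1)`. -/
theorem weighted_sum (PK' : LambdaRing.PosStructure K) (e : K) (d : ℕ)
    (he : ∀ i : ℕ, d + 1 < i → LambdaRing.LambdaOps.lam i e = 0) :
    ∑ i ∈ Finset.range (d + 2), (-1 : K) ^ (i + 1) * (i : K) * LambdaRing.LambdaOps.lam (d + 1 - i) e =
      LambdaRing.gamma d (e - ((d + 1 : ℕ) : K)) := by
  rw [Lambda.gamma_sub_natCast_of_rank (Lambda.lineLike_one_of_pos PK') e (d + 1) he d,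
    ← Finset.sum_range_reflect]
  refine Finset.sum_congr rfl fun j hj => ?_
  rw [Finset.mem_range] at hj
  rw [show d + 2 - 1 - j = d + 1 - j by omega, show d + 1 - (d + 1 - j) = j by omega]
  split_ifs with h
  · rw [show d + 1 - j = (d - j) + 1 by omega, Nat.choose_succ_self_right]
    push_cast
    ring
  · obtain rfl : j = d + 1 := by omega
    simp

end Aux

open CategoryTheory CategoryTheory.Limits AlgebraicGeometry in
/-- Let π : X → Y be a projective morphism of Noetherian schemes with X and Y connected, F a coherent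
O_X-module flat over Y whose support meets every fibre of π in dimension d, and assume that π is
flat or that Y carries an ample invertible module; K^•(X) and K^•(Y) are given through λ-ring models
and π_*^F : K^•(X) → K^•(Y) denotes the push-forward on bundle classes twisted by F, det : K^• → Pic
the determinant on Y and on P. Let G be a finite locally free O_Y-module, E a locally free
O_X-module of rank d + 1 with a surjection π^*G → E, q : P → Y the projective bundle of the dual G^∨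
with its universal invertible quotient q^*G^∨ → O(1) and an inverse O(−1) of O(1), and P_X = X ×_Y P
with projections p_1, p_2 (P and P_X Noetherian and connected, with their λ-ring models, the
pull-backs q^*, p_1^*, p_2^* and the push-forward p_{2*}^{p_1^*F} on bundle classes twisted by
p_1^*F). The zero scheme V of the tautological section of p_1^*E ⊗ p_2^*O(1) has class
λ_{-1}(p_1^*[E^∨] · p_2^*[O(−1)]) in K^•(P_X), and the claim is: det_P p_{2*}^{p_1^*F} of that class
equals, in Pic(P) written additively, q^* det_Y π_*^F(c^{d+1}(E)) + ε(π_*^F(c^d(E))) • [O(1)], where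
E^∨ is the dual module, the top Chern class c^{d+1}(E) is represented by λ_{-1}[E^∨] = Σ_i (−1)^i
[Λ^i E^∨] (the class of the Koszul complex of E, which is the representative the printed computation
produces), c^d(E) is represented by γ^d([E] − (d+1)) (its relative intersection number ε(π_*^F(·))
does not depend on the representative), and pulling back classes along q is multiplicative (carried
as a hypothesis). (X, P, P_X are taken connected so that λ-ring models exist.) -/
theorem result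
    {X Y : Scheme.{u}} [IsNoetherian X] [IsNoetherian Y] [ConnectedSpace X] [ConnectedSpace Y] (π : X ⟶ Y)
    (hπ : RelProj.IsProjective π) [HasInjectiveResolutions X.Modules]
    (F : X.Modules) (hF : Coh.IsCoh F) (hFf : FlatMod.IsFlatOver π F)
    (d : ℕ) (hd : ∀ y : Y, topologicalKrullDim ↥(CohB1.support F ∩ π.base ⁻¹' {y}) = d)
    (hAB : Flat π ∨ ∃ H : Y.Modules, CohB1.IsAmple H)
    (KX : Type u) [CommRing KX] [LambdaRing.LambdaOps KX] (PX : LambdaRing.PosStructure KX)
    (φX : SGA6.Kvb X →+ KX) (hKX : KRR.IsModel X KX PX φX)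
    (KY : Type u) [CommRing KY] [LambdaRing.LambdaOps KY] (PY : LambdaRing.PosStructure KY)
    (φY : SGA6.Kvb Y →+ KY) (hKY : KRR.IsModel Y KY PY φY)
    (g : KX →+ KY) (hg : KDet.IsPushF π F φX φY g)
    [PicGrp.Law Y] (dt : KY →+ Additive (PicLoc.PicSet Y)) (hdt : KDet.IsDet φY dt)
    (G : Y.Modules) (hG : FlatMod.IsFinLocFree G)
    (E : X.Modules) (hE : FlatMod.IsFinLocFreeOfRank (d + 1) E)
    (qE : (Scheme.Modules.pullback π).obj G ⟶ E) [Epi qE]
    {P XP : Scheme.{u}} [IsNoetherian P] [ConnectedSpace P] [IsNoetherian XP] [ConnectedSpace XP]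
    (q : P ⟶ Y) (O1 : P.Modules) (u : (Scheme.Modules.pullback q).obj (RefHull.dual G) ⟶ O1)
    (hPB : KRR.IsProjBundle q (RefHull.dual G) O1 u) (hO1 : PicF.IsInvertible O1)
    (Om : P.Modules) (hOm : PicF.IsInvertible Om) (hOOm : ClSub.IsInverseOf O1 Om)
    (p₁ : XP ⟶ X) (p₂ : XP ⟶ P) (hsq : IsPullback p₁ p₂ π q) [HasInjectiveResolutions XP.Modules]
    (KP : Type u) [CommRing KP] [LambdaRing.LambdaOps KP] (PP : LambdaRing.PosStructure KP)
    (φP : SGA6.Kvb P →+ KP) (hKP : KRR.IsModel P KP PP φP)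
    (KPX : Type u) [CommRing KPX] [LambdaRing.LambdaOps KPX] (PPX : LambdaRing.PosStructure KPX)
    (φPX : SGA6.Kvb XP →+ KPX) (hKPX : KRR.IsModel XP KPX PPX φPX)
    (pp₁ : KX →+ KPX) (hpp₁ : KRR.IsPull p₁ φX φPX pp₁)
    (pp₂ : KP →+ KPX) (hpp₂ : KRR.IsPull p₂ φP φPX pp₂)
    (g₂ : KPX →+ KP) (hg₂ : KDet.IsPushF p₂ ((Scheme.Modules.pullback p₁).obj F) φPX φP g₂)
    [PicGrp.Law P] (dtP : KP →+ Additive (PicLoc.PicSet P)) (hdtP : KDet.IsDet φP dtP)
    (hmul : PicGrp.PullMul q) :
    dtP (g₂ (KRR.lamAlt PPX (pp₁ (φX (KRR.cl X (RefHull.dual E))) * pp₂ (φP (KRR.cl P Om))))) =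
      Additive.ofMul (PicGrp.pullHom q hmul (Additive.toMul
          (dt (g (KRR.lamAlt PX (φX (KRR.cl X (RefHull.dual E)))))))) +
        (PY.aug (g (LambdaRing.gamma d (φX (KRR.cl X E) - ((d + 1 : ℕ) : KX))))) •
          Additive.ofMul (PicGrp.cls O1 hO1) := by
  haveI : IsProper π := (Groth.Agent.S4418.result π hπ).2
  haveI : IsProper p₂ := MorphismProperty.of_isPullback hsq inferInstance
  have hs : KVec.RelGen.Setup π F d := ⟨hπ, hF, hFf, fun y => (hd y).le, hAB⟩
  obtain ⟨pb, hpb⟩ := KVec.Pull.exists_pull q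
  let pY : KY →+ KP := (φP.comp pb).comp (AddEquiv.ofBijective φY hKY.bijective).symm.toAddMonoidHom
  have hpY : KRR.IsPull q φY φP pY := fun E hE =>
    (congrArg (fun z => φP (pb z)) ((AddEquiv.ofBijective φY hKY.bijective).symm_apply_apply _)).trans
      (congrArg φP (hpb E hE))
  let O : Additive (PicLoc.PicSet P) := Additive.ofMul (PicGrp.cls O1 hO1)
  let pull : Additive (PicLoc.PicSet Y) →+ Additive (PicLoc.PicSet P) :=
    MonoidHom.toAdditive (PicGrp.pullHom q hmul)
  have hdpull : ∀ z, dtP (pY z) = pull (dt z) := fun z => by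
    obtain ⟨t, rfl⟩ := hKY.bijective.2 z
    have h : dtP.comp (pY.comp φY) = pull.comp (dt.comp φY) :=
      KRes.KSub.hom_ext (P := KRR.vbP Y) fun V hV => by
        show dtP (pY (φY (KRR.cl Y V))) = pull (dt (φY (KRR.cl Y V)))
        rw [hpY V hV]
        exact (congrArg Additive.ofMul (KVec.PushFBC.dt_pull hmul hdt hdtP hV)).symm
    exact DFunLike.congr_fun h t
  have hapull : ∀ z, PP.aug (pY z) = PY.aug z := fun z => by
    obtain ⟨t, rfl⟩ := hKY.bijective.2 z
    have h : PP.aug.toAddMonoidHom.comp (pY.comp φY) = PY.aug.toAddMonoidHom.comp φY :=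
      KRes.KSub.hom_ext (P := KRR.vbP Y) fun V hV => by
        obtain ⟨n, hn⟩ := KAugNil98.Main.exists_rank hV
        show PP.aug (pY (φY (KRR.cl Y V))) = PY.aug (φY (KRR.cl Y V))
        rw [hpY V hV, hKY.aug_cl n V hn]
        exact hKP.aug_cl n _ (TensorMod.LocFree.rank_pullback q hn)
    exact DFunLike.congr_fun h t
  set b := φP (KRR.cl P Om) with hb
  have hOr := TensorMod.LocFree.of_isInvertible hOm
  have haugb : PP.aug b = 1 := hKP.aug_cl 1 _ hOr
  have htw : ∀ (z : KP) (i : ℕ), dtP (z * b ^ i) = dtP z - (i : ℤ) • PP.aug z • O := by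
    intro z i
    induction i with
    | zero => simp
    | succ i ih =>
      have h := KVec.PushF.dt_twist hdtP hKP hO1 hOm hOOm (z * b ^ i)
      rw [mul_sub, mul_one, map_sub, map_mul PP.aug, map_pow PP.aug, haugb, one_pow, mul_one, sub_eq_iff_eq_add] at h
      rw [pow_succ, ← mul_assoc, show dtP (z * b ^ i * b) = dtP (z * b ^ i) - PP.aug z • O from
        eq_sub_of_add_eq' h.symm, ih, Nat.cast_succ, add_smul, one_smul]
      abel
  set e := φX (KRR.cl X E) with he
  obtain ⟨hdr, hld⟩ := ExchangeFP29.PBK.Dual.lam_dual hKX (n := d + 1) (Nat.le_add_left 1 d) hE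
  set a := φX (KRR.cl X (RefHull.dual E)) with ha
  let A' := (Scheme.Modules.pullback p₁).obj (RefHull.dual E)
  let L' := (Scheme.Modules.pullback p₂).obj Om
  have hA' : FlatMod.IsFinLocFreeOfRank (d + 1) A' := TensorMod.LocFree.rank_pullback p₁ hdr
  have hL'r : FlatMod.IsFinLocFreeOfRank 1 L' := TensorMod.LocFree.rank_pullback p₂ hOr
  have hL' : PicF.IsInvertible L' := TensorMod.LocFree.isInvertible_of_rank_one hL'r
  have hAL : FlatMod.IsFinLocFreeOfRank (d + 1) (CohB1.tensorMod A' L') := by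
    have := TensorMod.LocFree.rank_tensorMod hA' hL'r
    rwa [mul_one] at this
  have hprod : pp₁ a * pp₂ b = φPX (KRR.cl XP (CohB1.tensorMod A' L')) := by
    rw [ha, hb, hpp₁ _ (TensorMod.LocFree.of_rank hdr), hpp₂ _ (TensorMod.LocFree.of_rank hOr)]
    exact hKPX.map_mul _ _ (TensorMod.LocFree.of_rank hA') (TensorMod.LocFree.of_rank hL'r)
  have hlam : ∀ i, LambdaRing.LambdaOps.lam i (pp₁ a * pp₂ b) =
      pp₁ (LambdaRing.LambdaOps.lam i a) * pp₂ (b ^ i) := fun i => by
    haveI := (Perfect.Coherent.isCoh_of_isFinLocFree (TensorMod.LocFree.of_rank hdr)).1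
    haveI := (Perfect.Coherent.isCoh_of_isFinLocFree (TensorMod.LocFree.of_rank hA')).1
    haveI := (Perfect.Coherent.isCoh_of_isFinLocFree (TensorMod.LocFree.of_rank hAL)).1
    obtain ⟨Λ, hΛ⟩ := FundLocal.ExtPowExists.exists_isExtPow (E := RefHull.dual E) i
    obtain ⟨N, hN⟩ := FundLocal.ExtPowExists.exists_isExtPow (E := A') i
    obtain ⟨M, hM⟩ := FundLocal.ExtPowExists.exists_isExtPow (E := CohB1.tensorMod A' L') i
    have hΛf := TensorMod.LocFree.of_rank (KVec.ExtRank.rank_extPow hdr hΛ)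
    have hMf := TensorMod.LocFree.of_rank (KVec.ExtRank.rank_extPow hAL hM)
    obtain ⟨j⟩ := KVec.ExtPowPull.nonempty_iso_pullback p₁ (TensorMod.LocFree.of_rank hdr) hΛ hN
    have hOi := TensorMod.LocFree.of_rank (TensorMod.LocFree.of_isInvertible
      (TensorMod.Invertible.isInvertible_tensorPow hOm i))
    rw [hprod, hKPX.map_lam i _ M (TensorMod.LocFree.of_rank hAL) hMf hM, ha,
      hKX.map_lam i _ Λ (TensorMod.LocFree.of_rank hdr) hΛf hΛ, hpp₁ _ hΛf, hb, cl_pow hKP hOm i,
      hpp₂ _ hOi, hKPX.map_mul _ _ (TensorMod.LocFree.isFinLocFree_pullback p₁ hΛf)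
        (TensorMod.LocFree.isFinLocFree_pullback p₂ hOi)]
    obtain ⟨φN, hN'⟩ := hN
    obtain ⟨φM, hM'⟩ := hM
    obtain ⟨k⟩ := Modules.ExtPowTwist.nonempty_iso φM hM' φN hN' hL'
    exact congrArg φPX (KAugNil98.Main.cl_iso
      (k ≪≫ TensorMod.Basic.tensorIso j.symm (Ample.Pow.pullbackPow p₂ Om i).symm) hMf)
  have hterm : ∀ i, dtP (g₂ ((-1 : KPX) ^ i * LambdaRing.LambdaOps.lam i (pp₁ a * pp₂ b))) =
      pull (dt (g ((-1 : KX) ^ i * LambdaRing.LambdaOps.lam i a))) +
        PY.aug (g ((-1 : KX) ^ (i + 1) * (i : KX) * LambdaRing.LambdaOps.lam i a)) • O := fun i => by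
    have h1 : ∀ {R : Type u} [CommRing R] (x : R), (-1 : R) ^ i * x = ((-1) ^ i : ℤ) • x := by
      intro R _ x; simp [zsmul_eq_mul]
    have h2 : (-1 : KX) ^ (i + 1) * (i : KX) * LambdaRing.LambdaOps.lam i a =
        ((-1) ^ (i + 1) * i : ℤ) • LambdaRing.LambdaOps.lam i a := by simp [zsmul_eq_mul]
    rw [h1, h1, h2, hlam, map_zsmul, map_zsmul, map_zsmul, map_zsmul, map_zsmul, map_zsmul, map_zsmul,
      KVec.PushFBC.pushF_pull hsq hs hKX hKPX hKP hg hg₂ hpp₁ hpY hpp₂, htw, hdpull, hapull,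
      smul_sub, ← mul_smul, ← mul_smul, smul_eq_mul, sub_eq_add_neg, ← neg_smul]
    congr 2
    ring
  have haug : PPX.aug (pp₁ a * pp₂ b) = ((d + 1 : ℕ) : ℤ) := by rw [hprod]; exact hKPX.aug_cl _ _ hAL
  have hauga : PX.aug a = ((d + 1 : ℕ) : ℤ) := hKX.aug_cl _ _ hdr
  have hpos : e ∈ PX.pos := (hKX.mem_pos_iff _).2 ⟨d + 1, E, Nat.succ_pos d, hE, rfl⟩
  have hauge : PX.aug e = ((d + 1 : ℕ) : ℤ) := hKX.aug_cl _ _ hE
  have hvan : ∀ i : ℕ, d + 1 < i → LambdaRing.LambdaOps.lam i e = 0 :=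
    fun i hi => PX.lam_eq_zero e hpos i (by rw [hauge]; exact_mod_cast hi)
  set γ := LambdaRing.gamma d (e - ((d + 1 : ℕ) : KX)) with hγ
  set S := ∑ i ∈ Finset.range (d + 2), (-1 : KX) ^ (i + 1) * (i : KX) * LambdaRing.LambdaOps.lam i a with hS
  set Dd := LambdaRing.LambdaOps.lam (d + 1) e
  set D' := LambdaRing.LambdaOps.lam (d + 1) a
  have hDD : D' * Dd = 1 := by
    have h := hld (d + 1) le_rfl
    rwa [Nat.sub_self, LambdaRing.LambdaOps.lam_zero] at h
  have hSD : S * Dd = γ := by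
    rw [hS, Finset.sum_mul, hγ, ← weighted_sum PX e d hvan]
    refine Finset.sum_congr rfl fun i hi => ?_
    rw [Finset.mem_range] at hi
    rw [mul_assoc, hld i (by omega)]
  have hS' : S = γ + γ * (D' - 1) := by
    calc S = S * (D' * Dd) := by rw [hDD, mul_one]
      _ = (S * Dd) * D' := by ring
      _ = γ + γ * (D' - 1) := by rw [hSD]; ring
  have hD1 : PX.aug (D' - 1) = 0 := by
    haveI := (Perfect.Coherent.isCoh_of_isFinLocFree (TensorMod.LocFree.of_rank hdr)).1
    obtain ⟨Λ, hΛ⟩ := FundLocal.ExtPowExists.exists_isExtPow (E := RefHull.dual E) (d + 1)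
    have hΛr := KVec.ExtRank.rank_extPow hdr hΛ
    rw [map_sub, map_one, show D' = φX (KRR.cl X Λ) from
      hKX.map_lam _ _ Λ (TensorMod.LocFree.of_rank hdr) (TensorMod.LocFree.of_rank hΛr) hΛ,
      hKX.aug_cl _ _ hΛr, Nat.choose_self]
    simp
  have hmem : γ * (D' - 1) ∈ LambdaRing.gammaFiltration PX (d + 1) :=
    Lambda.mul_mem_gammaFiltration (Lambda.gamma_mem_gammaFiltration (by rw [map_sub, map_natCast, hauge, sub_self]) d)
      (Lambda.mem_gammaFiltration_one hD1)
  have h0 := Groth.Agent.S17218.result π hπ F hF hFf d hd hAB KX PX φX hKX KY PY φY hKY g hg _ hmem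
  have hS0 : PY.aug (g S) = PY.aug (g γ) := by rw [hS', map_add, map_add, h0, add_zero]
  show dtP (g₂ (KRR.lamAlt PPX (pp₁ a * pp₂ b))) = pull (dt (g (KRR.lamAlt PX a))) + PY.aug (g γ) • O
  rw [← hS0]
  simp only [hS, KRR.lamAlt, haug, hauga, Int.toNat_natCast, show d + 1 + 1 = d + 2 from rfl, map_sum, hterm, Finset.sum_add_distrib,
    Finset.sum_smul]

end Groth.Agent.S17238
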