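import Groth.Statements.S17239
import Groth.Agent.Lib.ExchangeFP29.PBK.Segre

set_option autoImplicit false
universe u
open IntSh

namespace Groth.Agent.S17239

open CategoryTheory CategoryTheory.Limits AlgebraicGeometry in
/-- Let Y be a connected Noetherian scheme, E a locally free O_Y-module of rank r with dual module E^∨,
and π : X → Y a projective bundle of E, i.e. X = P(E) with universal invertible quotient π^*E → O(1)
(X Noetherian and connected, π projective and flat); let O(−1) be an inverse of O(1). With λ-ring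
models of K^•(X) and K^•(Y), the γ-operations of K^•(Y) and the push-forward π_* on bundle classes
(twisted by O_X), writing δ(O(1)) = 1 − [O(−1)]: for every i ≥ 0, Σ_{k=0}^{r} γ^{r−k}([E^∨] − r) ·
π_*(δ(O(1))^{i+k}) = 0 in K^•(Y); consequently π_*(δ(O(1))^{r+i−1}) represents the i-th Segre class
of E. (X is taken connected, which it is for r ≥ 1 and Y connected.) -/
theorem result
    {X Y : Scheme.{u}} [IsNoetherian X] [IsNoetherian Y] [ConnectedSpace X] [ConnectedSpace Y] (π : X ⟶ Y)
    (hπ : RelProj.IsProjective π) [Flat π] [HasInjectiveResolutions X.Modules]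
    (r : ℕ) (E : Y.Modules) (hE : FlatMod.IsFinLocFreeOfRank r E)
    (O1 : X.Modules) (q : (Scheme.Modules.pullback π).obj E ⟶ O1) (hP : KRR.IsProjBundle π E O1 q)
    (Om : X.Modules) (hOm : PicF.IsInvertible Om) (hOOm : ClSub.IsInverseOf O1 Om)
    (KX : Type u) [CommRing KX] [LambdaRing.LambdaOps KX] (PX : LambdaRing.PosStructure KX)
    (φX : SGA6.Kvb X →+ KX) (hKX : KRR.IsModel X KX PX φX)
    (KY : Type u) [CommRing KY] [LambdaRing.LambdaOps KY] (PY : LambdaRing.PosStructure KY)
    (φY : SGA6.Kvb Y →+ KY) (hKY : KRR.IsModel Y KY PY φY)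
    (g : KX →+ KY) (hg : KDet.IsPushF π (Coh.structureModule X) φX φY g) (i : ℕ) :
    ∑ k ∈ Finset.range (r + 1),
        LambdaRing.gamma (r - k) (φY (KRR.cl Y (RefHull.dual E)) - (r : KY)) * g ((1 - φX (KRR.cl X Om)) ^ (i + k)) = 0 := by
  rcases r with _ | r
  · haveI := Groth.Agent.Lib.Cyc.CH.BdlUniq.isEmpty hP hE
    exact isEmptyElim (Classical.arbitrary X)
  obtain ⟨h, hh, -, -, -⟩ := Groth.Agent.Lib.ExchangeFP29.PBK.Split.exists_pullHom π hKY hKX
  obtain ⟨c⟩ := hOOm
  have hOmf := Groth.Agent.Lib.TensorMod.LocFree.of_rank (Groth.Agent.Lib.TensorMod.LocFree.of_isInvertible hOm)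
  have hO1f := Groth.Agent.Lib.TensorMod.LocFree.of_rank hP.invertible
  have ht : φX (KRR.cl X Om) * φX (KRR.cl X O1) = 1 := by
    rw [mul_comm, hKX.map_mul _ _ hO1f hOmf, ← hKX.map_one]
    exact congrArg φX (Groth.Agent.Lib.KAugNil98.Main.cl_iso c
      (Groth.Agent.Lib.TensorMod.LocFree.isFinLocFree_tensorMod hO1f hOmf))
  exact Groth.Agent.Lib.ExchangeFP29.PBK.Segre.push_segre hP hE hKX hKY h hh hg ht i

end Groth.Agent.S17239
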