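import Groth.Statements.S17240
import Groth.Agent.Lib.IntSh43.DetNorm
import Groth.Agent.Lib.Flat55.FlatEquidim
import Groth.Agent.Lib.KAugNil98.Main
import Groth.Agent.Lib.ZarCoh.Morph
import Groth.Agent.Lib.KVec.RelVanish
import Groth.Agent.Lib.KVec.Model
import Groth.Agent.Lib.PicSpread53.Main
import Groth.Agent.S4418
set_option linter.style.haveILetI false

set_option autoImplicit false
universe u
open IntSh

namespace Groth.Agent.S17240

open CategoryTheory CategoryTheory.Limits AlgebraicGeometry in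
/-- Let π : X → Y be a projective flat morphism of Noetherian schemes with X and Y connected, of
relative dimension d = 0 (every fibre has Krull dimension 0, so π is finite flat), take λ-ring
models of K^•(X) and K^•(Y), the push-forward π_* = π_*^{O_X} on bundle classes and the determinant
det : K^•(Y) → Pic(Y), and let L be an invertible O_X-module with inverse M. Then the intersection
sheaf I_{X/Y}(L) = det π_*(δ(L)), δ(L) = 1 − [M], is the norm of L: in Pic(Y) written additively it
equals det[π_*O_X] − det[π_*M] and also det[π_*L] − det[π_*O_X], the direct images π_*O_X, π_*L,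
π_*M being finite locally free. (X is taken connected so that K^•(X) has a λ-ring model; the source
allows any X.) -/
theorem result
    {X Y : Scheme.{u}} [IsNoetherian X] [IsNoetherian Y] [ConnectedSpace X] [ConnectedSpace Y] (π : X ⟶ Y)
    (hπ : RelProj.IsProjective π) [Flat π] [HasInjectiveResolutions X.Modules]
    (hd : ∀ y : Y, topologicalKrullDim (↥(π.fiber y) : Type u) = 0)
    (KX : Type u) [CommRing KX] [LambdaRing.LambdaOps KX] (PX : LambdaRing.PosStructure KX)
    (φX : SGA6.Kvb X →+ KX) (hKX : KRR.IsModel X KX PX φX)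
    (KY : Type u) [CommRing KY] [LambdaRing.LambdaOps KY] (PY : LambdaRing.PosStructure KY)
    (φY : SGA6.Kvb Y →+ KY) (hKY : KRR.IsModel Y KY PY φY)
    (g : KX →+ KY) (hg : KDet.IsPushF π (Coh.structureModule X) φX φY g)
    [PicGrp.Law Y] (dt : KY →+ Additive (PicLoc.PicSet Y)) (hdt : KDet.IsDet φY dt)
    (L M : X.Modules) (hL : PicF.IsInvertible L) (hM : PicF.IsInvertible M) (hLM : ClSub.IsInverseOf L M) :
    dt (g (1 - φX (KRR.cl X M))) =
        dt (φY (KRR.cl Y ((Coh.push π).obj (Coh.structureModule X)))) - dt (φY (KRR.cl Y ((Coh.push π).obj M))) ∧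
      dt (g (1 - φX (KRR.cl X M))) =
        dt (φY (KRR.cl Y ((Coh.push π).obj L))) - dt (φY (KRR.cl Y ((Coh.push π).obj (Coh.structureModule X)))) := by
  classical
  haveI : IsProper π := (Groth.Agent.S4418.result π hπ).2
  haveI : IsFinite π := by
    haveI : LocallyQuasiFinite π := Lib.Flat55.FlatEquidim.locallyQuasiFinite_of_fibreDimAt_le_zero π fun x => by
      refine (Lib.FibreDim.Basic.fibreDimAt_le_topologicalKrullDim π rfl).trans ?_
      rw [hd, Nat.cast_zero]
    exact IsFinite.of_isProper_of_locallyQuasiFinite _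
  haveI : LocallyOfFinitePresentation π := inferInstance
  have hlf : ∀ {E : X.Modules}, FlatMod.IsFinLocFree E →
      FlatMod.IsFinLocFree ((Coh.push π).obj E) := fun hE => Lib.ResDescend36.Proj.isFinLocFree_pushforward π hE
  have hOX : FlatMod.IsFinLocFree (Coh.structureModule X) := Lib.ExtFilt.Lambda.isFinLocFree_structure
  have hgE : ∀ {E : X.Modules}, FlatMod.IsFinLocFree E →
      g (φX (KRR.cl X E)) = φY (KRR.cl Y ((Coh.push π).obj E)) := by
    intro E hE
    let i : ((DCoh.tensorBi (X := X)).obj (Coh.structureModule X)).obj E ≅ E :=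
      Lib.TensorMod.Basic.leftUnit E
    have hT := Lib.TensorMod.LocFree.of_iso i.symm hE
    haveI := Lib.Modules.AffineSections.isQCoh_of_isFinLocFree hT
    rw [hg E hE (fun p hp => ?_) (hlf hT)]
    · exact congrArg φY (Lib.KAugNil98.Main.cl_iso ((Coh.push π).mapIso i) (hlf hT))
    · obtain ⟨q, rfl⟩ : ∃ q, p = q + 1 := ⟨p - 1, by omega⟩
      exact Lib.KVec.RelVanish.isZero_Rpush_of_RpushAb π (Lib.ZarCoh.Morph.isZero_RpushAb π _ q)
  have hLf := Lib.TensorMod.LocFree.of_rank (Lib.TensorMod.LocFree.of_isInvertible hL)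
  have hMf := Lib.TensorMod.LocFree.of_rank (Lib.TensorMod.LocFree.of_isInvertible hM)
  have h1 : dt (g (1 - φX (KRR.cl X M))) =
      dt (φY (KRR.cl Y ((Coh.push π).obj (Coh.structureModule X)))) - dt (φY (KRR.cl Y ((Coh.push π).obj M))) := by
    rw [← hKX.map_one, map_sub, map_sub, hgE hOX, hgE hMf]
  refine ⟨h1, h1.trans ?_⟩
  obtain ⟨θ⟩ := hLM
  obtain ⟨r, hr⟩ := Lib.KAugNil98.Main.exists_rank (hlf hOX)
  have hsum : ∀ {A B : Y.Modules}, FlatMod.IsFinLocFree A → FlatMod.IsFinLocFree B →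
      FlatMod.IsFinLocFree (A ⊞ B) ∧ φY (KRR.cl Y (A ⊞ B)) = φY (KRR.cl Y A) + φY (KRR.cl Y B) := by
    intro A B hA hB
    obtain ⟨h, h', -⟩ := Lib.KVec.Model.cl_biprod hA hB
    exact ⟨h, by rw [h', map_add]⟩
  have hrk : ∀ {A : Y.Modules} {n : ℕ}, FlatMod.IsFinLocFreeOfRank n A → PY.aug (φY (KRR.cl Y A)) = n :=
    fun h => hKY.aug_cl _ _ h
  have hOO := hsum (hlf hOX) (hlf hOX)
  have hLM' := hsum (hlf hLf) (hlf hMf)
  obtain ⟨n₁, hn₁⟩ := Lib.KAugNil98.Main.exists_rank hOO.1
  obtain ⟨n₂, hn₂⟩ := Lib.KAugNil98.Main.exists_rank hLM'.1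
  have hpr : ∀ {N : X.Modules}, PicF.IsInvertible N → FlatMod.IsFinLocFreeOfRank r ((Coh.push π).obj N) :=
    fun {N} hN => Lib.IntSh43.DetNorm.rank_push π hN hr
  have he1 : n₁ = r + r := by
    have := hrk hn₁
    rw [hOO.2, map_add, hrk hr] at this
    exact_mod_cast this.symm
  have he2 : n₂ = r + r := by
    have := hrk hn₂
    rw [hLM'.2, map_add, hrk (hpr hL), hrk (hpr hM)] at this
    exact_mod_cast this.symm
  subst he1 he2
  haveI := Lib.Modules.AffineSections.isQCoh_of_isFinLocFree hOO.1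
  haveI := Lib.Modules.AffineSections.isQCoh_of_isFinLocFree hLM'.1
  obtain ⟨D, hD⟩ := Lib.FundLocal.ExtPowExists.exists_isExtPow
    (E := (Coh.push π).obj (Coh.structureModule X) ⊞ (Coh.push π).obj (Coh.structureModule X)) (r + r)
  obtain ⟨D', hD'⟩ := Lib.FundLocal.ExtPowExists.exists_isExtPow
    (E := (Coh.push π).obj L ⊞ (Coh.push π).obj M) (r + r)
  have hiD : PicF.IsInvertible D := Lib.PicSpread53.isInvertible_of_rank_one
    (by simpa using Lib.KVec.ExtRank.rank_extPow hn₁ hD)
  have hiD' : PicF.IsInvertible D' := Lib.PicSpread53.isInvertible_of_rank_one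
    (by simpa using Lib.KVec.ExtRank.rank_extPow hn₂ hD')
  have hkey : dt (φY (KRR.cl Y ((Coh.push π).obj (Coh.structureModule X) ⊞ (Coh.push π).obj (Coh.structureModule X)))) =
      dt (φY (KRR.cl Y ((Coh.push π).obj L ⊞ (Coh.push π).obj M))) := by
    rw [hdt _ _ D hiD hn₁ hD, hdt _ _ D' hiD' hn₂ hD']
    exact congrArg Additive.ofMul ((PicGrp.cls_eq_cls_iff hiD hiD').2
      (Lib.IntSh43.DetNorm.nonempty_iso π θ hL hM rfl hr hD hD'))
  rw [hOO.2, hLM'.2, map_add, map_add] at hkey
  rw [sub_eq_sub_iff_add_eq_add, hkey]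

end Groth.Agent.S17240
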