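import Groth.Statements.S17247
import Groth.Agent.Lib.FunFld.SmallGenus
-- import your own Groth.Agent.* helpers here

set_option autoImplicit false
open FunFld

namespace Groth.Agent.S17247
open Groth.Agent.Lib.FunFld Groth.Agent.Lib.FunFld.SmallGenus Groth.Agent.Lib.FunFld.Degree

/-- Let `K/k` be a function field of one variable of genus one over an algebraically closed field `k` of
characteristic zero (an elliptic curve `E`), `A` a place, and `g ≥ 3` an odd integer. Inside
`H⁰(O_E((2g-2)A)) = L((2g-2)A)` consider `V = L(gA)` (dimension `g`) and any hyperplane `V₁` of it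
containing `L((g-2)A)`: `L((g-2)A) ⊆ V₁ ⊆ L(gA)`, `dim V₁ = g - 1`. Vanishing orders are those of
sections of `O_E((2g-2)A)`: a member `f` vanishes to order at least `n` at a place `Q` when `f ∈
L((2g-2)A - nQ)`, and the weight of `V₁` at `Q` is `∑_{n=1}^{2g-2} dim (V₁ ∩ L((2g-2)A - nQ)) - (g-1
choose 2)` (the sum of the `g - 1` vanishing orders minus `0 + 1 + ⋯ + (g-2)`). Then the weight of
`V₁` at every place `Q ≠ A` is at most `2`. (The published statement is for a smooth elliptic curve
over the complex numbers and allows every odd positive `g`; for `g = 1` the inclusion `O(gA) ⊆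
O((2g-2)A)` it uses fails, so `g ≥ 3` here.) -/
theorem result
    (k K : Type*) [Field k] [IsAlgClosed k] [CharZero k] [Field K] [Algebra k K]
    (hK : FunFld.IsFunctionField k K) (hg1 : FunFld.genus k K = 1)
    (g : ℕ) (hodd : Odd g) (h3 : 3 ≤ g) (A : FunFld.Place k K)
    (V₁ : Submodule k K) (hlo : FunFld.L (Finsupp.single A ((g : ℤ) - 2)) ≤ V₁)
    (hhi : V₁ ≤ FunFld.L (Finsupp.single A (g : ℤ))) (hdim : Module.finrank k ↥V₁ + 1 = g)
    (Q : FunFld.Place k K) (hQ : Q ≠ A) :
    (∑ n ∈ Finset.range (2 * g - 2), Module.finrank k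
        ↥(V₁ ⊓ FunFld.L (Finsupp.single A (2 * (g : ℤ) - 2) - Finsupp.single Q ((n : ℤ) + 1)))) ≤
      (g - 1).choose 2 + 2 := by
  classical
  obtain ⟨m, rfl⟩ : ∃ m, g = m + 3 := ⟨g - 3, by omega⟩
  have hg0 : 0 < FunFld.genus k K := by omega
  set d : ℕ → ℕ := fun n => Module.finrank k ↥(V₁ ⊓ FunFld.L
    (Finsupp.single A ((m : ℤ) + 3) - Finsupp.single Q ((n : ℤ) + 1))) with hd
  have := finiteDimensional_L hK (Finsupp.single A ((m + 3 : ℕ) : ℤ))
  have hV₁ : FiniteDimensional k ↥V₁ := Submodule.finiteDimensional_of_le hhi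
  push_cast at hlo hhi
  rw [show (m : ℤ) + 3 - 2 = m + 1 by ring] at hlo
  -- sections of `O((2g-2)A)` in `V₁` vanish at `Q` as functions do
  have hsame : ∀ n : ℕ, V₁ ⊓ FunFld.L (Finsupp.single A (2 * ((m + 3 : ℕ) : ℤ) - 2) -
        Finsupp.single Q ((n : ℤ) + 1)) =
      V₁ ⊓ FunFld.L (Finsupp.single A ((m : ℤ) + 3) - Finsupp.single Q ((n : ℤ) + 1)) := by
    intro n
    apply le_antisymm
    · intro f hf
      refine ⟨hf.1, fun R => ?_⟩
      rcases eq_or_ne R Q with rfl | hR
      · simpa [Finsupp.single_eq_of_ne hQ] using hf.2 R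
      · simpa [Finsupp.single_eq_of_ne hR] using hhi hf.1 R
    · refine inf_le_inf_left _ (L_mono (sub_le_sub_right (Finsupp.le_def.mpr fun R => ?_) _))
      rcases eq_or_ne R A with rfl | hR
      · simp only [Finsupp.single_eq_same]; push_cast; omega
      · simp [Finsupp.single_eq_of_ne hR]
  rw [Finset.sum_congr rfl fun n _ => (LinearEquiv.ofEq _ _ (hsame n)).finrank_eq]
  change ∑ n ∈ Finset.range (2 * (m + 3) - 2), d n ≤ _
  -- the basic bound `dim V₁ ⊓ L(gA - nQ) + 1 ≤ g - n` when `L((g-2)A - nQ)` is of dimension `≤ g-2-n`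
  have hfull : ∀ n : ℤ, (FunFld.ell (Finsupp.single A ((m : ℤ) + 1) - Finsupp.single Q n) : ℤ) ≤ m + 1 - n →
      1 ≤ (m : ℤ) + 3 - n →
      (Module.finrank k ↥(V₁ ⊓ FunFld.L (Finsupp.single A ((m : ℤ) + 3) - Finsupp.single Q n)) : ℤ) ≤
        m + 2 - n ∨ n < 0 := by
    intro n hn hn'
    rcases lt_or_ge n 0 with hneg | hnn
    · exact Or.inr hneg
    refine Or.inl ?_
    by_contra hlt
    have h1 : (FunFld.ell (Finsupp.single A ((m : ℤ) + 3) - Finsupp.single Q n) : ℤ) = m + 3 - n := by
      rw [ell_genus_one hK hg1 (by rw [deg_sub, deg_single' hK, deg_single' hK]; omega),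
        deg_sub, deg_single' hK, deg_single' hK]
    set B := FunFld.L (Finsupp.single A ((m : ℤ) + 3) - Finsupp.single Q n)
    set W := FunFld.L (Finsupp.single A ((m : ℤ) + 1))
    have := finiteDimensional_L hK (Finsupp.single A ((m : ℤ) + 3) - Finsupp.single Q n)
    have := finiteDimensional_L hK (Finsupp.single A ((m : ℤ) + 1))
    have hmono : Module.finrank k ↥(V₁ ⊓ B) ≤ Module.finrank k ↥B :=
      Submodule.finrank_mono inf_le_right
    have hB : B ≤ V₁ := by
      have := Submodule.eq_of_le_of_finrank_le (inf_le_right : V₁ ⊓ B ≤ B)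
        (by change FunFld.ell _ ≤ _; omega)
      exact this ▸ inf_le_left
    have hint : W ⊓ B ≤ FunFld.L (Finsupp.single A ((m : ℤ) + 1) - Finsupp.single Q n) := by
      rintro f ⟨hf1, hf2⟩ R
      rcases eq_or_ne R Q with rfl | hR
      · simpa [Finsupp.single_eq_of_ne hQ] using hf2 R
      · simpa [Finsupp.single_eq_of_ne hR] using hf1 R
    have := finiteDimensional_L hK (Finsupp.single A ((m : ℤ) + 1) - Finsupp.single Q n)
    have h2 := Submodule.finrank_mono hint
    have h3 := Submodule.finrank_sup_add_finrank_inf_eq W B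
    have h4 := Submodule.finrank_mono (sup_le hlo hB)
    have h5 : (Module.finrank k ↥W : ℤ) = m + 1 := by
      change (FunFld.ell _ : ℤ) = _
      rw [ell_genus_one hK hg1 (by rw [deg_single' hK]; omega), deg_single' hK]
    change ((Module.finrank k ↥B : ℕ) : ℤ) = _ at h1
    unfold FunFld.ell at hn
    omega
  -- small `n`
  have hsmall : ∀ n < m, d n ≤ m + 1 - n := by
    intro n hn
    rcases hfull ((n : ℤ) + 1) (le_of_eq (by
      rw [ell_genus_one hK hg1 (by rw [deg_sub, deg_single' hK, deg_single' hK]; omega),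
        deg_sub, deg_single' hK, deg_single' hK])) (by omega) with h | h
    · simp only [hd]; omega
    · omega
  -- the last three
  have hle : ∀ n, d n ≤ FunFld.ell (Finsupp.single A ((m : ℤ) + 3) - Finsupp.single Q ((n : ℤ) + 1)) := by
    intro n
    have := finiteDimensional_L hK (Finsupp.single A ((m : ℤ) + 3) - Finsupp.single Q ((n : ℤ) + 1))
    exact Submodule.finrank_mono inf_le_right
  have ha : d m ≤ 2 ∧ d (m + 1) ≤ 1 ∧ d (m + 2) ≤ 1 := by
    refine ⟨(hle m).trans ?_, (hle (m + 1)).trans ?_, (hle (m + 2)).trans ?_⟩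
    · have := ell_genus_one hK hg1 (D := Finsupp.single A ((m : ℤ) + 3) - Finsupp.single Q ((m : ℤ) + 1))
        (by rw [deg_sub, deg_single' hK, deg_single' hK]; omega)
      rw [deg_sub, deg_single' hK, deg_single' hK] at this
      omega
    · have := ell_genus_one hK hg1
        (D := Finsupp.single A ((m : ℤ) + 3) - Finsupp.single Q (((m + 1 : ℕ) : ℤ) + 1))
        (by rw [deg_sub, deg_single' hK, deg_single' hK]; omega)
      rw [deg_sub, deg_single' hK, deg_single' hK] at this
      omega
    · exact ell_deg_zero_le hK (by rw [deg_sub, deg_single' hK, deg_single' hK]; omega)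
  have hthree : d m + d (m + 1) + d (m + 2) ≤ 3 := by
    by_contra hlt
    -- `(g-2)A ~ (g-2)Q`
    have h1 : 0 < FunFld.ell (Finsupp.single A ((m : ℤ) + 1) - Finsupp.single Q ((m : ℤ) + 1)) := by
      by_contra h0
      rcases hfull ((m : ℤ) + 1) (by omega) (by omega) with h | h
      · simp only [hd] at hlt ha; omega
      · omega
    -- `gA ~ gQ`
    have h2 : 0 < FunFld.ell (Finsupp.single A ((m : ℤ) + 3) - Finsupp.single Q (((m + 2 : ℕ) : ℤ) + 1)) :=
      lt_of_lt_of_le (by omega) (hle (m + 2))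
    obtain ⟨x, hx, hxe⟩ := exists_div_of_deg_zero hK h1 (by rw [deg_sub, deg_single' hK, deg_single' hK]; omega)
    obtain ⟨y, hy, hye⟩ := exists_div_of_deg_zero hK h2 (by rw [deg_sub, deg_single' hK, deg_single' hK]; omega)
    obtain ⟨t, ht⟩ : ∃ t : ℕ, m = 2 * t := by
      obtain ⟨t, ht⟩ := hodd; exact ⟨t - 1, by omega⟩
    -- `A - Q = ((t+1)(g-2) - t g)(A - Q)`
    have hz : (Finsupp.single A 1 : FunFld.Divisor k K) =
        Finsupp.single Q 1 + FunFld.div k (x ^ (t + 1) / y ^ t) := by
      refine Finsupp.ext fun R => ?_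
      have e1 := DFunLike.congr_fun hxe R
      have e2 := DFunLike.congr_fun hye R
      simp only [Finsupp.sub_apply, Finsupp.add_apply, div_apply hK] at e1 e2 ⊢
      rw [Place.ord_div R (pow_ne_zero _ hx) (pow_ne_zero _ hy), Place.ord_pow, Place.ord_pow, ← e1, ← e2]
      subst ht
      rcases eq_or_ne R A with rfl | hR
      · simp only [Finsupp.single_eq_same, Finsupp.single_eq_of_ne hQ.symm]; push_cast; ring
      rcases eq_or_ne R Q with rfl | hR'
      · simp only [Finsupp.single_eq_same, Finsupp.single_eq_of_ne hR]; push_cast; ring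
      · simp [Finsupp.single_eq_of_ne hR, Finsupp.single_eq_of_ne hR']
    exact hQ (eq_of_single_equiv hK hg0 (div_ne_zero (pow_ne_zero _ hx) (pow_ne_zero _ hy)) hz).symm
  -- beyond `g` nothing
  have hbig : ∀ n, m + 3 ≤ n → d n = 0 := by
    intro n hn
    have := hle n
    rw [Weil.ell_eq_zero_of_deg_neg hK (by rw [deg_sub, deg_single' hK, deg_single' hK]; omega)] at this
    omega
  have hsum : ∀ j : ℕ, (∑ n ∈ Finset.range j, (j + 1 - n)) + 1 = (j + 2).choose 2 := by
    intro j
    induction j with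
    | zero => simp
    | succ j ih =>
      rw [Finset.sum_range_succ', Nat.choose_succ_succ' (j + 2) 1, Nat.choose_one_right, ← ih]
      simp only [Nat.add_sub_add_right]
      omega
  have hs : ∑ n ∈ Finset.range (2 * (m + 3) - 2), d n = ∑ n ∈ Finset.range (m + 3), d n :=
    (Finset.sum_subset (Finset.range_subset_range.mpr (by omega)) fun n _ hn => hbig n (by simpa using hn)).symm
  rw [hs, Finset.sum_range_succ, Finset.sum_range_succ, Finset.sum_range_succ,
    show m + 3 - 1 = m + 2 by omega]
  have := Finset.sum_le_sum fun n hn => hsmall n (Finset.mem_range.mp hn)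
  have := hsum m
  omega

end Groth.Agent.S17247
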