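import Groth.Statements.S17248
import Groth.Agent.Lib.FunFld.SmallGenus
-- import your own Groth.Agent.* helpers here

set_option autoImplicit false
open FunFld

namespace Groth.Agent.S17248
open Groth.Agent.Lib.FunFld Groth.Agent.Lib.FunFld.SmallGenus Groth.Agent.Lib.FunFld.Degree

/-- Let `K/k` be a function field of one variable of genus one over an algebraically closed field `k` of
characteristic zero (an elliptic curve `E`), `A` a place, and `g ≥ 3` an integer. Inside
`H⁰(O_E((2g-2)A)) = L((2g-2)A)` consider `V = L(gA)` (dimension `g`) and any hyperplane `V₁` of it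
containing `L((g-2)A)`: `L((g-2)A) ⊆ V₁ ⊆ L(gA)`, `dim V₁ = g - 1`. Vanishing orders are those of
sections of `O_E((2g-2)A)`: a member `f` vanishes to order at least `n` at a place `Q` when `f ∈
L((2g-2)A - nQ)`, and the weight of `V₁` at `Q` is `∑_{n=1}^{2g-2} dim (V₁ ∩ L((2g-2)A - nQ)) - (g-1
choose 2)` (the sum of the `g - 1` vanishing orders minus `0 + 1 + ⋯ + (g-2)`). Then the weight of
`V₁` at `A` is `(g-1)² + ε` with `ε ∈ {0, 1}`. (The published statement is for a smooth elliptic
curve over the complex numbers and `g` odd positive; `g ≥ 3` here since the ambient inclusion needs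
it; this row does not assume `g` odd.) -/
theorem result
    (k K : Type*) [Field k] [IsAlgClosed k] [CharZero k] [Field K] [Algebra k K]
    (hK : FunFld.IsFunctionField k K) (hg1 : FunFld.genus k K = 1)
    (g : ℕ) (h3 : 3 ≤ g) (A : FunFld.Place k K)
    (V₁ : Submodule k K) (hlo : FunFld.L (Finsupp.single A ((g : ℤ) - 2)) ≤ V₁)
    (hhi : V₁ ≤ FunFld.L (Finsupp.single A (g : ℤ))) (hdim : Module.finrank k ↥V₁ + 1 = g) :
    ∃ ε : ℕ, ε ≤ 1 ∧
      (∑ n ∈ Finset.range (2 * g - 2), Module.finrank k
        ↥(V₁ ⊓ FunFld.L (Finsupp.single A (2 * (g : ℤ) - 2) - Finsupp.single A ((n : ℤ) + 1)))) =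
      (g - 1).choose 2 + (g - 1) ^ 2 + ε := by
  classical
  obtain ⟨m, rfl⟩ : ∃ m, g = m + 3 := ⟨g - 3, by omega⟩
  push_cast at hlo hhi
  rw [show (m : ℤ) + 3 - 2 = m + 1 by ring] at hlo
  have hfinL := finiteDimensional_L hK (Finsupp.single A ((m : ℤ) + 3))
  have hV₁ : FiniteDimensional k ↥V₁ := Submodule.finiteDimensional_of_le hhi
  set e : ℕ → ℕ := fun j => Module.finrank k ↥(V₁ ⊓ FunFld.L (Finsupp.single A (j : ℤ))) with he
  have hmono : ∀ {i j : ℤ}, i ≤ j →
      FunFld.L (Finsupp.single A i) ≤ FunFld.L (Finsupp.single A j) := fun h =>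
    L_mono (Finsupp.le_def.mpr fun R => by
      rcases eq_or_ne R A with rfl | hR
      · simpa using h
      · simp [Finsupp.single_eq_of_ne hR])
  -- small `j`: all of `L(jA)`
  have hsmall : ∀ j : ℕ, j ≤ m + 1 → e j = if j = 0 then 1 else j := by
    intro j hj
    rw [he]
    simp only
    rw [inf_eq_right.mpr ((hmono (by omega : (j : ℤ) ≤ (m : ℤ) + 1)).trans hlo)]
    split_ifs with h0
    · subst h0
      rw [Nat.cast_zero, Finsupp.single_zero]
      exact ell_zero hK
    · have := ell_genus_one hK hg1 (D := Finsupp.single A (j : ℤ)) (by rw [deg_single' hK]; omega)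
      rw [deg_single' hK] at this
      unfold FunFld.ell at this
      omega
  -- large `j`: all of `V₁`
  have hlarge : ∀ j : ℕ, m + 3 ≤ j → e j = m + 2 := by
    intro j hj
    rw [he]
    simp only
    rw [inf_eq_left.mpr (hhi.trans (hmono (by omega)))]
    omega
  have hmid : m + 1 ≤ e (m + 2) ∧ e (m + 2) ≤ m + 2 := by
    have h := hsmall (m + 1) le_rfl
    rw [if_neg (by omega)] at h
    constructor
    · rw [← h]
      have : FiniteDimensional k ↥(V₁ ⊓ FunFld.L (Finsupp.single A ((m + 2 : ℕ) : ℤ))) :=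
        Submodule.finiteDimensional_of_le inf_le_left
      exact Submodule.finrank_mono (inf_le_inf_left _ (hmono (by omega)))
    · have h2 : e (m + 2) ≤ Module.finrank k ↥V₁ := Submodule.finrank_mono inf_le_left
      omega
  refine ⟨e (m + 2) - (m + 1), by omega, ?_⟩
  have hrw : ∀ n ∈ Finset.range (2 * (m + 3) - 2),
      Module.finrank k ↥(V₁ ⊓ FunFld.L (Finsupp.single A (2 * ((m + 3 : ℕ) : ℤ) - 2) -
        Finsupp.single A ((n : ℤ) + 1))) = e (2 * (m + 3) - 2 - 1 - n) := by
    intro n hn
    rw [Finset.mem_range] at hn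
    simp only [he]
    rw [← Finsupp.single_sub,
      show 2 * ((m + 3 : ℕ) : ℤ) - 2 - ((n : ℤ) + 1) = ((2 * (m + 3) - 2 - 1 - n : ℕ) : ℤ) by omega]
  rw [Finset.sum_congr rfl hrw, Finset.sum_range_reflect e,
    show 2 * (m + 3) - 2 = (m + 2) + 1 + (m + 1) by omega, Finset.sum_range_add,
    Finset.sum_range_succ,
    Finset.sum_congr rfl (fun i _ => hlarge ((m + 2) + 1 + i) (by omega)), Finset.sum_const,
    Finset.card_range, smul_eq_mul, Finset.sum_range_succ' e (m + 1), hsmall 0 (by omega), if_pos rfl,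
    Finset.sum_congr rfl (fun i hi => (hsmall (i + 1) (by
      rw [Finset.mem_range] at hi; omega)).trans (if_neg (by omega)))]
  have hg : ∀ j : ℕ, ∑ i ∈ Finset.range j, (i + 1) = (j + 1).choose 2 := by
    intro j
    induction j with
    | zero => simp
    | succ j ih =>
      rw [Finset.sum_range_succ, Nat.choose_succ_succ' (j + 1) 1, Nat.choose_one_right, ih]
      simp only [Nat.reduceAdd]
      omega
  rw [hg, show m + 1 + 1 = m + 2 from rfl, show m + 3 - 1 = m + 2 by omega, show (m + 2) ^ 2 = (m + 1) * (m + 2) + (m + 2) by ring]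
  omega

end Groth.Agent.S17248
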