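import Groth.Statements.S17249
import Groth.Agent.Lib.FunFld.SmallGenus
-- import your own Groth.Agent.* helpers here

set_option autoImplicit false
open FunFld

namespace Groth.Agent.S17249
open Groth.Agent.Lib.FunFld Groth.Agent.Lib.FunFld.SmallGenus Groth.Agent.Lib.FunFld.Degree

/-- Let `K/k` be a function field of one variable of genus two over an algebraically closed field `k` of
characteristic zero (a smooth curve `X` of genus `2`), `C` a canonical divisor, `A` a place with
`ℓ(2A) = 1` (not a Weierstrass point), and `P`, `Q` places with `Q ≠ A`. Then `ℓ(C + 2A - P - 3Q) =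
1` and `ℓ(C + 2A - P - Q) = 2` do not both hold: the two-dimensional complete system `H⁰(ω_X(2A -
P))` (of degree `3`) has no point `Q ≠ A` of weight three. (The published statement concerns a
general pointed curve `(X, A)` of genus two over the complex numbers and a point `P` of `X`; this
row assumes only `ℓ(2A) = 1`.) -/
theorem result
    (k K : Type*) [Field k] [IsAlgClosed k] [CharZero k] [Field K] [Algebra k K]
    (hK : FunFld.IsFunctionField k K) (hg : FunFld.genus k K = 2)
    (C : FunFld.Divisor k K) (hC : FunFld.IsCanonical k K C)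
    (A P Q : FunFld.Place k K) (hA : Module.finrank k ↥(FunFld.L (Finsupp.single A (2 : ℤ))) = 1) (hQ : Q ≠ A) :
    ¬ (Module.finrank k ↥(FunFld.L (C + Finsupp.single A (2 : ℤ) - Finsupp.single P (1 : ℤ) - Finsupp.single Q (3 : ℤ))) = 1 ∧
       Module.finrank k ↥(FunFld.L (C + Finsupp.single A (2 : ℤ) - Finsupp.single P (1 : ℤ) - Finsupp.single Q (1 : ℤ))) = 2) := by
  classical
  rintro ⟨-, h2⟩
  set E : FunFld.Divisor k K :=
    C + Finsupp.single A (2 : ℤ) - Finsupp.single P (1 : ℤ) - Finsupp.single Q (1 : ℤ) with hE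
  have hdeg : E.deg = 2 := by
    simp only [hE, deg_add, deg_sub, deg_single' hK, Weil.deg_canonical hK hC, hg]; norm_num
  have hEc : FunFld.IsCanonical k K E :=
    (Weil.isCanonical_iff hK E).mpr ⟨by rw [hg]; exact h2, by rw [hg, hdeg]; norm_num⟩
  obtain ⟨x, hx, hxe⟩ := Weil.exists_eq_add_div hK hC hEc
  have he : (Finsupp.single P (1 : ℤ) + Finsupp.single Q 1 : FunFld.Divisor k K) =
      Finsupp.single A 2 + FunFld.div k x⁻¹ := by
    rw [div_inv hK, show FunFld.div k x = E - C by rw [hxe]; abel, hE]; abel
  have := eq_of_ell_le_one hK (D := Finsupp.single A (2 : ℤ)) hA.le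
    (Finsupp.single_nonneg.mpr (by norm_num))
    (add_nonneg (Finsupp.single_nonneg.mpr zero_le_one) (Finsupp.single_nonneg.mpr zero_le_one))
    (inv_ne_zero hx) he
  have := DFunLike.congr_fun this Q
  simp only [Finsupp.add_apply, Finsupp.single_eq_same, Finsupp.single_eq_of_ne hQ] at this
  have h0 : (0 : ℤ) ≤ Finsupp.single P (1 : ℤ) Q :=
    Finsupp.le_def.mp (Finsupp.single_nonneg.mpr zero_le_one) Q
  omega

end Groth.Agent.S17249
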