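import Groth.Statements.S17250
import Groth.Agent.Lib.FunFld.SmallGenus
-- import your own Groth.Agent.* helpers here

set_option autoImplicit false
open FunFld

namespace Groth.Agent.S17250
open Groth.Agent.Lib.FunFld Groth.Agent.Lib.FunFld.SmallGenus Groth.Agent.Lib.FunFld.Degree

/-- Let `K/k` be a function field of one variable of genus two over an algebraically closed field `k` of
characteristic zero (a smooth curve `X` of genus `2`), `C` a canonical divisor, `A` a place with
`ℓ(2A) = 1`, and `P`, `Q` places different from `A`. Then `ℓ(C + 3A - P - 4Q) = 1` and `ℓ(C + 3A - P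
- 2Q) = 2` do not both hold (the three-dimensional complete system `H⁰(ω_X(3A - P))`, of degree `4`,
has no point `Q ≠ A` with two independent sections vanishing to order at least `2` there and one
vanishing to order at least `4`). (The published statement concerns a general pointed curve `(X, A)`
of genus two over the complex numbers and a point `P ≠ A`; this row assumes `ℓ(2A) = 1` in place of
generality.) -/
theorem result
    (k K : Type*) [Field k] [IsAlgClosed k] [CharZero k] [Field K] [Algebra k K]
    (hK : FunFld.IsFunctionField k K) (hg : FunFld.genus k K = 2)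
    (C : FunFld.Divisor k K) (hC : FunFld.IsCanonical k K C)
    (A P Q : FunFld.Place k K) (hA : Module.finrank k ↥(FunFld.L (Finsupp.single A (2 : ℤ))) = 1) (hP : P ≠ A) (hQ : Q ≠ A) :
    ¬ (Module.finrank k ↥(FunFld.L (C + Finsupp.single A (3 : ℤ) - Finsupp.single P (1 : ℤ) - Finsupp.single Q (4 : ℤ))) = 1 ∧
       Module.finrank k ↥(FunFld.L (C + Finsupp.single A (3 : ℤ) - Finsupp.single P (1 : ℤ) - Finsupp.single Q (2 : ℤ))) = 2) := by
  classical
  rintro ⟨h1, h2⟩
  set E : FunFld.Divisor k K :=
    C + Finsupp.single A (3 : ℤ) - Finsupp.single P (1 : ℤ) - Finsupp.single Q (2 : ℤ) with hE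
  have hdeg : E.deg = 2 := by
    simp only [hE, deg_add, deg_sub, deg_single' hK, Weil.deg_canonical hK hC, hg]; norm_num
  have hEc : FunFld.IsCanonical k K E :=
    (Weil.isCanonical_iff hK E).mpr ⟨by rw [hg]; exact h2, by rw [hg, hdeg]; norm_num⟩
  obtain ⟨x, hx, hxe⟩ := Weil.exists_eq_add_div hK hC hEc
  have e1 : C + Finsupp.single A (3 : ℤ) - Finsupp.single P (1 : ℤ) - Finsupp.single Q (4 : ℤ) =
      E - Finsupp.single Q 2 := by
    rw [hE, show (4 : ℤ) = 2 + 2 by norm_num, Finsupp.single_add]; abel
  rw [e1] at h1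
  obtain ⟨y, hy, hye⟩ := exists_div_of_deg_zero hK (E := E - Finsupp.single Q 2)
    (by unfold FunFld.ell; omega) (by rw [deg_sub, hdeg, deg_single' hK]; norm_num)
  -- `2Q` is canonical
  have h2Q : FunFld.ell (Finsupp.single Q (2 : ℤ)) = 2 := by
    have : E + FunFld.div k y⁻¹ = Finsupp.single Q 2 := by rw [div_inv hK, ← hye]; abel
    rw [← this, Riemann.ell_add_div hK E (inv_ne_zero hy)]
    exact h2
  -- `3A ~ P + 2Q`
  set F : FunFld.Divisor k K := Finsupp.single P (1 : ℤ) + Finsupp.single Q 2 with hF
  have hFA : (Finsupp.single A (3 : ℤ) : FunFld.Divisor k K) = F + FunFld.div k x := by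
    rw [show FunFld.div k x = E - C by rw [hxe]; abel, hE, hF]; abel
  have hF2 : (FunFld.ell F : ℤ) = 2 := by
    rw [Weil.ell_eq_of_deg_ge hK (by rw [hF, deg_add, deg_single' hK, deg_single' hK, hg]; norm_num),
      hF, deg_add, deg_single' hK, deg_single' hK, hg]; norm_num
  have := finiteDimensional_L hK F
  have hle : FunFld.L (Finsupp.single Q (2 : ℤ)) ≤ FunFld.L F :=
    L_mono (le_add_of_nonneg_left (Finsupp.single_nonneg.mpr zero_le_one))
  have hLeq := Submodule.eq_of_le_of_finrank_eq hle (by
    change FunFld.ell (Finsupp.single Q (2 : ℤ)) = FunFld.ell F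
    omega)
  have hxm : x ∈ FunFld.L (Finsupp.single Q (2 : ℤ)) := by
    rw [hLeq, mem_L_iff_div hK, add_comm, ← hFA]
    exact Or.inr (Finsupp.single_nonneg.mpr (by norm_num))
  have h0 := Finsupp.le_def.mp (((mem_L_iff_div hK).mp hxm).resolve_left hx) P
  have h3 := DFunLike.congr_fun hFA P
  simp only [hF, Finsupp.add_apply, Finsupp.coe_zero, Pi.zero_apply, Finsupp.single_eq_same,
    Finsupp.single_eq_of_ne hP] at h0 h3
  omega

end Groth.Agent.S17250
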