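import Groth.Statements.S17251
import Groth.Agent.Lib.FunFld.SmallGenus
-- import your own Groth.Agent.* helpers here

set_option autoImplicit false
open FunFld

namespace Groth.Agent.S17251
open Groth.Agent.Lib.FunFld Groth.Agent.Lib.FunFld.SmallGenus Groth.Agent.Lib.FunFld.Degree

/-- Let `K/k` be a function field of one variable of genus two over an algebraically closed field `k` of
characteristic zero (a smooth curve `Y` of genus `2`), `C` a canonical divisor, `B` a place with
`ℓ(2B) = 1` (not a Weierstrass point) and `Q ≠ B` a place. Then `ℓ(C + B - 2Q) = 1` and `ℓ(C + 3B -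
4Q) = 1` do not both hold: the complete systems `H⁰(ω_Y(B))` (dimension `2`, degree `3`) and
`H⁰(ω_Y(3B))` (dimension `4`, degree `5`) have no ramification point in common on `Y` minus `B`.
(The published statement concerns a general pointed curve `(Y, B)` of genus two over the complex
numbers; this row assumes only `ℓ(2B) = 1`.) -/
theorem result
    (k K : Type*) [Field k] [IsAlgClosed k] [CharZero k] [Field K] [Algebra k K]
    (hK : FunFld.IsFunctionField k K) (hg : FunFld.genus k K = 2)
    (C : FunFld.Divisor k K) (hC : FunFld.IsCanonical k K C)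
    (B Q : FunFld.Place k K) (hB : Module.finrank k ↥(FunFld.L (Finsupp.single B (2 : ℤ))) = 1) (hQ : Q ≠ B) :
    ¬ (Module.finrank k ↥(FunFld.L (C + Finsupp.single B (1 : ℤ) - Finsupp.single Q (2 : ℤ))) = 1 ∧
       Module.finrank k ↥(FunFld.L (C + Finsupp.single B (3 : ℤ) - Finsupp.single Q (4 : ℤ))) = 1) := by
  classical
  rintro ⟨h1, h2⟩
  have hdC := Weil.deg_canonical hK hC
  rw [hg] at hdC
  obtain ⟨T, x, hx, hT⟩ := exists_place_of_deg_one hK
    (E := Finsupp.single Q (2 : ℤ) - Finsupp.single B 1) (by
      have := Weil.riemann_roch hK hC (C + Finsupp.single B (1 : ℤ) - Finsupp.single Q (2 : ℤ))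
      rw [show C - (C + Finsupp.single B (1 : ℤ) - Finsupp.single Q (2 : ℤ)) =
          Finsupp.single Q (2 : ℤ) - Finsupp.single B 1 by abel] at this
      simp only [deg_add, deg_sub, deg_single' hK, hg, hdC] at this
      unfold FunFld.ell at this ⊢
      omega)
    (by simp only [deg_sub, deg_single' hK]; norm_num)
  -- `B + T ~ 2Q` is canonical
  have hBT : 2 ≤ FunFld.ell (Finsupp.single B (1 : ℤ) + Finsupp.single T 1) := by
    by_contra hlt
    have h := eq_of_ell_le_one hK (D := Finsupp.single B (1 : ℤ) + Finsupp.single T 1) (by omega)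
      (add_nonneg (Finsupp.single_nonneg.mpr zero_le_one) (Finsupp.single_nonneg.mpr zero_le_one))
      (D' := Finsupp.single Q (2 : ℤ)) (Finsupp.single_nonneg.mpr (by norm_num)) hx
      (by rw [add_assoc, ← hT]; abel)
    have := DFunLike.congr_fun h B
    simp only [Finsupp.add_apply, Finsupp.single_eq_same, Finsupp.single_eq_of_ne hQ.symm] at this
    have h0 : (0 : ℤ) ≤ Finsupp.single T (1 : ℤ) B :=
      Finsupp.le_def.mp (Finsupp.single_nonneg.mpr zero_le_one) B
    omega
  have hcan : FunFld.IsCanonical k K (Finsupp.single Q (2 : ℤ)) := by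
    have he : (Finsupp.single Q (2 : ℤ) : FunFld.Divisor k K) =
        Finsupp.single B (1 : ℤ) + Finsupp.single T 1 + FunFld.div k x := by
      rw [add_assoc, ← hT]; abel
    have hell : FunFld.ell (Finsupp.single Q (2 : ℤ)) =
        FunFld.ell (Finsupp.single B (1 : ℤ) + Finsupp.single T 1) := by
      rw [he, Riemann.ell_add_div hK _ hx]
    refine (Weil.isCanonical_iff hK _).mpr ⟨?_, by rw [deg_single' hK, hg]; norm_num⟩
    have := Weil.riemann_roch hK hC (Finsupp.single Q (2 : ℤ))
    have h3 : (C - Finsupp.single Q (2 : ℤ)).deg = 0 := by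
      rw [deg_sub, deg_single' hK, hdC]; norm_num
    have := ell_deg_zero_le hK h3
    rw [deg_single' hK] at *
    omega
  obtain ⟨w, hw, hwe⟩ := Weil.exists_eq_add_div hK hC hcan
  obtain ⟨S, y, hy, hS⟩ := exists_place_of_deg_one hK
    (E := C + Finsupp.single B (3 : ℤ) - Finsupp.single Q (4 : ℤ))
    (by unfold FunFld.ell; omega)
    (by simp only [deg_add, deg_sub, deg_single' hK, hdC]; norm_num)
  -- `2B ~ T + S`
  have he : (Finsupp.single T (1 : ℤ) + Finsupp.single S 1 : FunFld.Divisor k K) =
      Finsupp.single B 2 + FunFld.div k (x * (w * y))⁻¹ := by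
    rw [show (4 : ℤ) = 2 + 2 by norm_num, Finsupp.single_add] at hS
    rw [show (3 : ℤ) = 2 + 1 by norm_num, Finsupp.single_add, hwe] at hS
    rw [hwe] at hT
    rw [div_inv hK, div_mul hK hx (mul_ne_zero hw hy), div_mul hK hw hy]
    linear_combination (norm := abel) -hT - hS
  have h := eq_of_ell_le_one hK (D := Finsupp.single B (2 : ℤ)) hB.le
    (Finsupp.single_nonneg.mpr (by norm_num))
    (add_nonneg (Finsupp.single_nonneg.mpr zero_le_one) (Finsupp.single_nonneg.mpr zero_le_one))
    (inv_ne_zero (mul_ne_zero hx (mul_ne_zero hw hy))) he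
  have hTB : T = B := by
    by_contra hne
    have := DFunLike.congr_fun h T
    simp only [Finsupp.add_apply, Finsupp.single_eq_same, Finsupp.single_eq_of_ne hne] at this
    have h0 : (0 : ℤ) ≤ Finsupp.single S (1 : ℤ) T :=
      Finsupp.le_def.mp (Finsupp.single_nonneg.mpr zero_le_one) T
    omega
  subst hTB
  have := eq_of_ell_le_one hK (D := Finsupp.single T (2 : ℤ)) hB.le
    (Finsupp.single_nonneg.mpr (by norm_num)) (D' := Finsupp.single Q (2 : ℤ))
    (Finsupp.single_nonneg.mpr (by norm_num)) hx
    (by rw [show (2 : ℤ) = 1 + 1 by norm_num, Finsupp.single_add, Finsupp.single_add]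
        rw [show (2 : ℤ) = 1 + 1 by norm_num, Finsupp.single_add] at hT
        linear_combination (norm := abel) hT)
  exact hQ (Finsupp.single_left_injective two_ne_zero this)

end Groth.Agent.S17251
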