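import Groth.Statements.S17252
import Groth.Agent.H2.Rigid.MulEtale

set_option autoImplicit false
universe u
open CategoryTheory CategoryTheory.Limits MonoidalCategory CartesianMonoidalCategory MonObj GrpObj AlgebraicGeometry
open AbSch

namespace Groth.Agent.S17252

/-- Let S be a scheme, A an abelian scheme over S (an S-group scheme whose structure morphism is smooth
and proper with geometrically connected fibres) and m an integer whose image in Γ(S, O_S) is a unit.
Then multiplication by m, the m-th power [m] of the identity in the group of S-endomorphisms of A,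
is surjective locally for the étale topology: for every S-scheme T and every α ∈ A(T) there are an
étale surjective S-morphism φ : T′ → T and β ∈ A(T′) with [m] ∘ β = α ∘ φ. With A[m] the kernel of
[m], this is the exactness on the right of the Kummer sequence 0 → A[m] → A → A → 0 of étale
sheaves; in particular it holds for every étale S-scheme T, the case expressing exactness on the
small étale site of S, and it is stated here for all S-schemes T. -/
theorem result {S : Scheme.{u}} (A : Over S) [GrpObj A]
    [Smooth A.hom] [IsProper A.hom] [GeometricallyConnected A.hom]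
    (m : ℤ) (hm : IsUnit (m : Γ(S, ⊤))) (T : Over S) (α : T ⟶ A) :
    ∃ (T' : Over S) (φ : T' ⟶ T) (β : T' ⟶ A),
      Etale φ.left ∧ Surjective φ.left ∧ β ≫ (𝟙 A ^ m) = φ ≫ α := by
  haveI := Groth.Agent.H2.Rigid.geometricallyReduced_of_smooth A.hom
  haveI := Groth.Agent.S7785.result A
  haveI := Groth.Agent.H2.Rigid.etale_zpow A m hm
  haveI := Groth.Agent.H2.Rigid.surjective_zpow A m hm
  refine ⟨Over.mk (Limits.pullback.snd (𝟙 A ^ m : A ⟶ A).left α.left ≫ T.hom),
    Over.homMk (Limits.pullback.snd _ _) rfl,
    Over.homMk (Limits.pullback.fst _ _) ?_, ?_, ?_, ?_⟩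
  · show Limits.pullback.fst (𝟙 A ^ m : A ⟶ A).left α.left ≫ A.hom = _
    calc _ = Limits.pullback.fst (𝟙 A ^ m : A ⟶ A).left α.left ≫ (𝟙 A ^ m : A ⟶ A).left ≫ A.hom := by
          rw [Over.w]
      _ = Limits.pullback.snd _ _ ≫ α.left ≫ A.hom := Limits.pullback.condition_assoc _
      _ = _ := by rw [Over.w α]; rfl
  · exact inferInstanceAs (Etale (Limits.pullback.snd (𝟙 A ^ m : A ⟶ A).left α.left))
  · exact inferInstanceAs (Surjective (Limits.pullback.snd (𝟙 A ^ m : A ⟶ A).left α.left))
  · ext1
    exact Limits.pullback.condition

end Groth.Agent.S17252
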