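import Groth.Statements.S17253
import Groth.Agent.H4.AbSchMul
-- import your own Groth.Agent.* helpers here

set_option autoImplicit false
universe u
open CategoryTheory CategoryTheory.Limits MonoidalCategory CartesianMonoidalCategory MonObj GrpObj AlgebraicGeometry
open AbVar

namespace Groth.Agent.S17253

/-- Let k be a field and A, B abelian varieties over k (smooth proper k-group schemes with geometrically
connected fibres), f : A → B a homomorphism, g : B → A an isogeny (a homomorphism which is finite,
flat and surjective) and d a nonzero integer with g ∘ f = [d]_A, the d-th power of the identity in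
the group of endomorphisms of A. Then f is an isogeny as well — finite, flat and surjective — and f
∘ g = [d]_B. -/
theorem result (k : Type u) [Field k]
    (A B : Over (Spec (CommRingCat.of k)))
    [GrpObj A] [Smooth A.hom] [IsProper A.hom] [GeometricallyConnected A.hom]
    [GrpObj B] [Smooth B.hom] [IsProper B.hom] [GeometricallyConnected B.hom]
    (f : A ⟶ B) [IsMonHom f] (g : B ⟶ A) [IsMonHom g] [IsFinite g.left] [Flat g.left] [Surjective g.left]
    (d : ℤ) (hd : d ≠ 0) (h : f ≫ g = 𝟙 A ^ d) :
    IsFinite f.left ∧ Flat f.left ∧ Surjective f.left ∧ g ≫ f = 𝟙 B ^ d := by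
  haveI := Groth.Agent.H4.GeomInt.geometricallyIntegral A
  haveI := Groth.Agent.H4.GeomInt.geometricallyIntegral B
  haveI : IsIntegral A.left := GeometricallyIntegral.isIntegral_of_subsingleton A.hom
  haveI : IsIntegral B.left := GeometricallyIntegral.isIntegral_of_subsingleton B.hom
  haveI := isCommMonObj_of_isProper_of_geometricallyIntegral A
  obtain ⟨hA1, -, -⟩ := Groth.Agent.H4.MulIso.int A hd
  haveI hfin : IsFinite f.left := by
    haveI : IsFinite (f.left ≫ g.left) := by rw [← Over.comp_left, h]; exact hA1
    exact IsFinite.of_comp f.left g.left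
  have hdim : topologicalKrullDim B.left ≤ topologicalKrullDim A.left := by
    have h1 := Groth.Agent.Lib.VarDim.Fibre.pdim_eq_add B.hom A.hom g.left (Over.w g)
      (genericPoint B.left)
    have h3 : Groth.Agent.Lib.VarDim.Basic.tdAt g.left (genericPoint B.left) = 0 := by
      have h' := (Groth.Agent.Lib.VarDim.Fibre.topologicalKrullDim_fibre_le_iff g.left
        (g.left (genericPoint B.left)) 0).1 ?_ _ rfl
      · exact_mod_cast le_antisymm h' (by exact_mod_cast Nat.zero_le _)
      · haveI := (g.left.finite_preimage_singleton (g.left (genericPoint B.left))).to_subtype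
        haveI : DiscreteTopology ↥(g.left ⁻¹' {g.left (genericPoint B.left)}) :=
          g.left.isDiscrete_preimage_singleton _ |>.1
        exact topologicalKrullDim_zero_of_discreteTopology _
    rw [h3, add_zero] at h1
    rw [Groth.Agent.Lib.VarDim.Basic.topologicalKrullDim_irreducibleSpace B.hom, h1]
    exact Groth.Agent.Lib.VarDim.Basic.pdim_le_topologicalKrullDim_scheme A.hom _
  haveI hsurj : Surjective f.left := Groth.Agent.H4.IsogenyDim.surjective_of_finite f hdim
  have hflat : Flat f.left := by
    haveI : GeometricallyReduced B.hom :=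
      Groth.Agent.Lib.GrpSch.geometricallyReduced_of_smooth_field B.hom
    exact Groth.Agent.H2.FlatHom.Field.flat_of_geometricallyReduced f
  haveI : Epi f.left := Flat.epi_of_flat_of_surjective f.left
  haveI : Epi f := Over.epi_of_epi_left f
  refine ⟨hfin, hflat, hsurj, ?_⟩
  rw [← cancel_epi f, ← Category.assoc, h, Groth.Agent.H4.AbSchMul.zpow_id_comp,
    Groth.Agent.H4.AbSchMul.comp_zpow_id]

end Groth.Agent.S17253
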