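import Groth.Statements.S17259
import Mathlib.RingTheory.Ideal.Quotient.Operations

set_option autoImplicit false
open CAlg

namespace Groth.Agent.S17259

/-- Let A, B, C be rings, f : B → A and g : B → C ring homomorphisms, and φ : A → B a homomorphism of
additive groups such that the sequence A → B → C → 0 (maps φ, g) is exact and f ∘ φ is
multiplication by a central element a of A which is not a zero divisor. Then the projection p : A →
A/(a) composed with f factors through g as a ring homomorphism q : C → A/(a), the homomorphism (f,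
g) : B → A × C is injective, and its image is the fibre product of A and C over A/(a) along p and q;
thus (f, g) is a ring isomorphism from B onto that fibre product. (The two-sidedness of the ideal
generated by a, automatic for a central element, is carried as an instance hypothesis.) -/
theorem result {A B C : Type*} [Ring A] [Ring B] [Ring C]
    (f : B →+* A) (g : B →+* C) (φ : A →+ B) (a : A)
    (hc : ∀ x : A, Commute a x) (ha : a ∈ nonZeroDivisors A)
    (hex : Function.Exact φ g) (hg : Function.Surjective g)
    (hφ : ∀ x : A, f (φ x) = a * x)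
    [(Ideal.span ({a} : Set A)).IsTwoSided] :
    ∃ q : C →+* A ⧸ Ideal.span ({a} : Set A),
      q.comp g = (Ideal.Quotient.mk (Ideal.span ({a} : Set A))).comp f ∧
      Function.Injective (f.prod g) ∧
      (f.prod g).range = (Ideal.Quotient.mk (Ideal.span ({a} : Set A))).pullback q := by
  have hinjq : ∀ c : C, ∀ b b' : B, g b = c → g b' = c →
      Ideal.Quotient.mk (Ideal.span ({a} : Set A)) (f b) = Ideal.Quotient.mk (Ideal.span ({a} : Set A)) (f b') := by
    intro c b b' hb hb'
    rw [Ideal.Quotient.eq, ← map_sub]
    obtain ⟨x, hx⟩ := (hex (b - b')).mp (by rw [map_sub, hb, hb', sub_self])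
    rw [← hx, hφ, (hc x).eq]
    exact Ideal.mul_mem_left _ x (Ideal.mem_span_singleton_self a)
  choose sec hsec using hg
  let q : C →+* A ⧸ Ideal.span ({a} : Set A) :=
    { toFun := fun c => Ideal.Quotient.mk _ (f (sec c))
      map_one' := by rw [hinjq 1 (sec 1) 1 (hsec 1) (map_one g), map_one, map_one]
      map_mul' := fun x y => by
        rw [hinjq (x * y) (sec (x * y)) (sec x * sec y) (hsec _) (by rw [map_mul, hsec, hsec]),
          map_mul, map_mul]
      map_zero' := by rw [hinjq 0 (sec 0) 0 (hsec 0) (map_zero g), map_zero, map_zero]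
      map_add' := fun x y => by
        rw [hinjq (x + y) (sec (x + y)) (sec x + sec y) (hsec _) (by rw [map_add, hsec, hsec]),
          map_add, map_add] }
  refine ⟨q, RingHom.ext fun b => hinjq (g b) _ b (hsec _) rfl, ?_, ?_⟩
  · rw [injective_iff_map_eq_zero]
    intro b hb
    obtain ⟨h1, h2⟩ := Prod.ext_iff.mp hb
    obtain ⟨x, rfl⟩ := (hex b).mp h2
    have h1' : f (φ x) = 0 := h1
    rw [hφ] at h1'
    have h1'' : x * a = 0 := (hc x).eq ▸ h1'
    rw [(mul_right_mem_nonZeroDivisors_eq_zero_iff ha).mp h1'', map_zero]
  · ext ⟨x, c⟩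
    constructor
    · rintro ⟨b, hb⟩
      obtain ⟨rfl, rfl⟩ : f b = x ∧ g b = c := Prod.ext_iff.mp hb
      exact (hinjq (g b) _ b (hsec _) rfl).symm
    · intro h
      have h' : x - f (sec c) ∈ Ideal.span ({a} : Set A) := Ideal.Quotient.eq.mp h
      obtain ⟨y, hy⟩ := Ideal.mem_span_singleton'.mp h'
      refine ⟨sec c + φ y, Prod.ext ?_ ?_⟩
      · show f (sec c + φ y) = x
        rw [map_add, hφ, (hc y).eq, hy, add_sub_cancel]
      · show g (sec c + φ y) = c
        rw [map_add, (hex (φ y)).mpr ⟨y, rfl⟩, add_zero, hsec]

end Groth.Agent.S17259
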