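import Groth.Statements.S17275
import Groth.Agent.Lib.CurveBundle.FrobPull

set_option autoImplicit false
universe u
open CategoryTheory CategoryTheory.Limits AlgebraicGeometry
open VBCurve

namespace Groth.Agent.S17275

/-- Let p be a prime, k an algebraically closed field whose characteristic is p, and X an integral
curve, smooth and proper over k (of dimension one), with absolute Frobenius F : X → X. For every
finite locally free O_X-module E and every invertible O_X-module L there are natural numbers M and N
such that dim_k H⁰(X, (Fⁿ)^*E ⊗ L) ≤ M·pⁿ for all n ≥ N, where (Fⁿ)^* is the n-fold iterate of the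
module pullback along F. (This is the bound established inside the printed proof for vector bundles
on the auxiliary curve, in the case where that curve is a scheme; the printed lemma itself concerns
sheaves on a two-dimensional Deligne–Mumford stack.) -/
theorem result (p : ℕ) [Fact p.Prime]
    (k : Type u) [Field k] [IsAlgClosed k] [CharP k p]
    (X : Scheme.{u}) [X.Over (Spec (CommRingCat.of k))] [IsIntegral X]
    [IsProper (X ↘ Spec (CommRingCat.of k))] [Smooth (X ↘ Spec (CommRingCat.of k))]
    (hdim : topologicalKrullDim X = 1) [FrobSch.IsCharP X p]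
    (E : X.Modules) (hE : FlatMod.IsFinLocFree E) (L : X.Modules) (hL : PicF.IsInvertible L) :
    ∃ M N : ℕ, ∀ n : ℕ, N ≤ n →
      Module.finrank k (Coh.HH X (CohB1.tensorMod
        (((Scheme.Modules.pullback (FrobSch.frob X p)).obj)^[n] E) L) 0) ≤ M * p ^ n := by
  open Groth.Agent.Lib Groth.Agent.Lib.CurveBundle in
    haveI := CurveBundle.Ctx.ofIntegral k hdim
    obtain ⟨I, hI, hJ, hJd⟩ := Point.exists_point k hdim
    obtain ⟨hEc, hET⟩ : Coh.IsCoh E ∧ TorSh.IsTorsionFree E :=
      ⟨Coherent.isCoh hE, Coherent.isTorsionFree hE⟩
    rw [(SlopeLine.line (k := k) hJ).2.2.2] at hJd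
    obtain ⟨M, hM⟩ := FrobPull.exists_h0_le p k hI hJ hJd (Degree.rank_gr k hEc hET) hL
    exact ⟨M, 0, fun n _ => hM n⟩


end Groth.Agent.S17275
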