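import Groth.Statements.S17277
import Groth.Agent.H84.SectionGrowth
import Groth.Agent.Lib.SurfInt.Effective
-- import your own Groth.Agent.* helpers here

set_option autoImplicit false
set_option linter.style.haveILetI false
universe u
open CategoryTheory CategoryTheory.Limits AlgebraicGeometry TopologicalSpace
open Variety

namespace Groth.Agent.S17277

open Groth.Agent Groth.Agent.Lib
open Groth.Agent.Lib.PosLin.SectionBound (h0 h0_congr)

/-- Let X be a proper scheme over a field k of dimension d and L an invertible O_X-module that is big: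
there is a real constant c > 0 with dim_k H^0(X, L^{⊗n}) > c·n^d for all sufficiently large n. Then
for every closed subscheme Z ⊆ X of dimension < d, with quasi-coherent ideal sheaf I_Z, there is an
integer m > 0 with H^0(X, I_Z ⊗ L^{⊗m}) ≠ 0. -/
theorem result (k : Type u) [Field k] (X : Scheme.{u})
    [X.Over (Spec (CommRingCat.of k))] [IsProper (X ↘ (Spec (CommRingCat.of k)))]
    (d : ℕ) (hdim : topologicalKrullDim X = d) (L : X.Modules) (hL : PicF.IsInvertible L)
    (hbig : ∃ c : ℝ, 0 < c ∧ ∀ᶠ n : ℕ in Filter.atTop,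
      c * (n : ℝ) ^ d < (Module.finrank k (Coh.HH X (CohB1.tensorPow L n) 0) : ℝ))
    (Z : X.IdealSheafData) (hZ : topologicalKrullDim (Z.support : Set X) < d) :
    ∃ m : ℕ, 0 < m ∧
      Nontrivial (Coh.HH X (CohB1.tensorMod (ClSub.idealMod Z) (CohB1.tensorPow L m)) 0) := by
  haveI := Groth.Agent.Lib.Curves.GlobalSections.isNoetherian_of_proper k X
  by_contra hno
  push Not at hno
  obtain ⟨c, hc, hev⟩ := hbig
  let T : TopologicalSpace.Closeds X := Z.support
  have hQ : Devissage.Basic.CohIn (T : Set X) (ClSub.quotMod Z) := ⟨SurfInt.Effective.isCoh_quotMod Z, by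
    intro x hx
    by_contra hxT
    refine hx (Groth.Agent.Lib.PushClosed.Unit.subsingleton_stalk_push Z.subschemeι _ ?_)
    rw [Scheme.IdealSheafData.range_subschemeι]
    exact hxT⟩
  have hle : ∀ n : ℕ, 0 < n → Module.finrank k (Coh.HH X (CohB1.tensorPow L n) 0) ≤
      h0 k X (CohB1.tensorMod (CohB1.tensorPow L n) (ClSub.quotMod Z)) := fun n hn => by
    have hM := Lib.TensorMod.Invertible.isInvertible_tensorPow hL n
    have hI : Coh.IsCoh (ClSub.idealMod Z) :=
      CohBasics.Closure.isCoh_kernel _ (Snapper.Twist.isCoh_structureModule X)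
        (SurfInt.Effective.isCoh_quotMod Z).1
    have h1 := PosLin.CohBound.hd_mid_le (k := k)
      (Snapper.Twist.twistSeq_shortExact hM (Lib.ClSub.Quot.idealSeq_shortExact Z))
      (Snapper.Twist.isCoh_twist hM hI) (Snapper.Twist.isCoh_twist hM (Snapper.Twist.isCoh_structureModule X))
      (Snapper.Twist.isCoh_twist hM (SurfInt.Effective.isCoh_quotMod Z)) 0
    have h2 : h0 k X (CohB1.tensorMod (CohB1.tensorPow L n) (ClSub.idealMod Z)) = 0 := by
      rw [h0_congr (Lib.TensorMod.Basic.comm _ _)]
      haveI := hno n hn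
      exact Module.finrank_zero_of_subsingleton
    have h3 : h0 k X (CohB1.tensorMod (CohB1.tensorPow L n) (Coh.structureModule X)) =
        Module.finrank k (Coh.HH X (CohB1.tensorPow L n) 0) :=
      h0_congr (Lib.TensorMod.Basic.rightUnit _)
    change h0 k X (CohB1.tensorMod (CohB1.tensorPow L n) (Coh.structureModule X)) ≤
      h0 k X (CohB1.tensorMod (CohB1.tensorPow L n) (ClSub.idealMod Z)) +
      h0 k X (CohB1.tensorMod (CohB1.tensorPow L n) (ClSub.quotMod Z)) at h1
    rw [h2, h3, zero_add] at h1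
    exact h1
  have hpd : ∀ y ∈ T, VarDim.Basic.pdim (X ↘ Spec (CommRingCat.of k)) y < d := fun y hy => by
    have h1 := VarDim.Basic.pdim_le_topologicalKrullDim (X ↘ Spec (CommRingCat.of k))
      Z.support.isClosed.isLocallyClosed hy
    exact_mod_cast h1.trans_lt hZ
  obtain ⟨N, hN⟩ := Filter.eventually_atTop.1 hev
  cases d with
  | zero =>
    have hz : IsZero (ClSub.quotMod Z) := Lib.Modules.Support.support_eq_empty_iff.1
      (Set.eq_empty_iff_forall_notMem.2 fun y hy => Nat.not_lt_zero _ (hpd y (hQ.2 hy)))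
    have hzero : h0 k X (CohB1.tensorMod (CohB1.tensorPow L (N + 1)) (ClSub.quotMod Z)) = 0 := by
      have hz' : IsZero (CohB1.tensorMod (CohB1.tensorPow L (N + 1)) (ClSub.quotMod Z)) := by
        rw [← Lib.Modules.Support.support_eq_empty_iff,
          Snapper.Twist.support_twist (Lib.TensorMod.Invertible.isInvertible_tensorPow hL _),
          Lib.Modules.Support.support_eq_empty_iff.2 hz]
      haveI := PosLin.CohBound.subsingleton_HH_isZero (k := k) hz' 0
      exact Module.finrank_zero_of_subsingleton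
    have h1 := hN (N + 1) (by omega)
    have h2 := hle (N + 1) (by omega)
    rw [hzero, Nat.le_zero] at h2
    rw [h2, pow_zero, mul_one, Nat.cast_zero] at h1
    exact absurd h1 (not_lt.2 hc.le)
  | succ r =>
    obtain ⟨K, hK⟩ := H84.SectionGrowth.exists_bound (k := k) (r := r) hL T
      (fun y hy => Nat.lt_succ_iff.1 (hpd y hy)) _ hQ
    obtain ⟨M, hM⟩ := exists_nat_gt (((K * 2 ^ r : ℕ) : ℝ) / c)
    let n := max N (max M 1)
    have hn1 : 1 ≤ n := (le_max_right M 1).trans (le_max_right _ _)
    have h1 := hN n (le_max_left _ _)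
    have h2 : Module.finrank k (Coh.HH X (CohB1.tensorPow L n) 0) ≤ K * 2 ^ r * n ^ r :=
      ((hle n hn1).trans (hK n)).trans (by
        rw [mul_assoc, ← mul_pow]
        exact Nat.mul_le_mul_left K (Nat.pow_le_pow_left (by omega) r))
    have h3 : ((K * 2 ^ r : ℕ) : ℝ) < c * n := by
      rw [div_lt_iff₀ hc, mul_comm (M : ℝ) c] at hM
      exact hM.trans_le (mul_le_mul_of_nonneg_left
        (by exact_mod_cast (le_max_left M 1).trans (le_max_right N (max M 1))) hc.le)
    have h4 : ((Module.finrank k (Coh.HH X (CohB1.tensorPow L n) 0) : ℕ) : ℝ) ≤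
        ((K * 2 ^ r : ℕ) : ℝ) * (n : ℝ) ^ r := by exact_mod_cast h2
    have h5 : (0 : ℝ) < (n : ℝ) ^ r := pow_pos (by exact_mod_cast hn1) r
    have h6 := (mul_lt_mul_of_pos_right h3 h5)
    rw [mul_assoc, ← pow_succ'] at h6
    exact absurd h1 (not_lt.2 (h4.trans h6.le))

end Groth.Agent.S17277
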