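import Groth.Statements.S17278
import Groth.Agent.Lib.PosLin.Volume

set_option autoImplicit false
universe u
open CategoryTheory CategoryTheory.Limits AlgebraicGeometry TopologicalSpace
open Variety

namespace Groth.Agent.S17278

/-- Let X be a projective variety over a field k (an integral scheme, proper over k, carrying an ample
invertible module A₀) of dimension d, and L an invertible O_X-module. Then L is big, meaning that
for some real c > 0 one has dim_k H^0(X, L^{⊗n}) > c·n^d for all sufficiently large n, if and only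
if for every ample invertible O_X-module A, with a tensor inverse A' (A' ⊗ A ≅ O_X), there is an
integer m > 0 with H^0(X, A' ⊗ L^{⊗m}) ≠ 0. -/
theorem result (k : Type u) [Field k]
    (X : Scheme.{u}) [X.Over (Spec (CommRingCat.of k))] [IsProper (X ↘ (Spec (CommRingCat.of k)))] [IsIntegral X]
    (A₀ : X.Modules) (hA₀ : CohB1.IsAmple A₀)
    (d : ℕ) (hdim : topologicalKrullDim X = d) (L : X.Modules) (hL : PicF.IsInvertible L) :
    (∃ c : ℝ, 0 < c ∧ ∀ᶠ n : ℕ in Filter.atTop,
        c * (n : ℝ) ^ d < (Module.finrank k (Coh.HH X (CohB1.tensorPow L n) 0) : ℝ)) ↔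
      ∀ (A A' : X.Modules), CohB1.IsAmple A → ClSub.IsInverseOf A' A →
        ∃ m : ℕ, 0 < m ∧ Nontrivial (Coh.HH X (CohB1.tensorMod A' (CohB1.tensorPow L m)) 0) := by
  haveI := Lib.Curves.GlobalSections.isNoetherian_of_proper k X
  have hcongr : ∀ {A A' : X.Modules} (m : ℕ), CohB1.IsAmple A →
      (CohB1.tensorMod A' A ≅ Coh.structureModule X) →
      (CohB1.tensorMod A' (CohB1.tensorPow L m) ≅
        CohB1.tensorMod (Lib.TensorMod.Dual.dual A) (CohB1.tensorPow L m)) := fun m hA e =>
    Lib.TensorMod.Basic.tensorIso (Lib.PosLin.Volume.inverseIso hA.1 e) (Iso.refl _)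
  constructor
  · rintro ⟨c, hc, hev⟩ A A' hA ⟨e⟩
    obtain ⟨m₁, hb⟩ := Filter.eventually_atTop.1 hev
    obtain ⟨a, -, hg⟩ := Lib.PosLin.Volume.exists_nat_bound hc fun m hm => (hb m hm).le
    obtain ⟨m, hm, hs⟩ := Lib.PosLin.Kodaira.exists_sections (k := k) hdim hA₀ hL
      (Lib.PosLin.Kodaira.unbdd_of_growth (k := k) (ν := 1) (μ₀ := m₁) (a := a) one_pos
        fun μ hμ => by rw [one_mul]; exact hg μ hμ) hA.1
    refine ⟨m, hm, Module.nontrivial_of_finrank_pos (R := k) ?_⟩
    exact hs.trans_eq (Lib.PosLin.SectionBound.h0_congr (hcongr m hA e)).symm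
  · intro h
    obtain ⟨a, m₀, ha, hg⟩ := Lib.PosLin.Kodaira.growth (k := k) hdim hA₀ hL fun E hE => by
      obtain ⟨m, hm, hn⟩ := h E (Lib.TensorMod.Dual.dual E) hE
        ⟨Lib.TensorMod.Basic.comm _ E ≪≫ Lib.TensorMod.Invertible.tensorDualIso hE.1⟩
      refine ⟨m, hm, ?_⟩
      haveI : FiniteDimensional k (Coh.HH X (CohB1.tensorMod (Lib.TensorMod.Dual.dual E)
          (CohB1.tensorPow L m)) 0) :=
        Lib.Snapper.Finite.cohFinite k X _ (Lib.Snapper.Twist.isCoh_twist
          (Lib.TensorMod.Invertible.isInvertible_dual hE.1)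
          (Lib.Ample.GG.isCoh_of_isInvertible
            (Lib.TensorMod.Invertible.isInvertible_tensorPow hL m))) 0
      haveI := hn
      exact Module.finrank_pos
    obtain ⟨c, hc, hb⟩ := Lib.PosLin.Volume.exists_real_bound ha hg
    refine ⟨c / 2, half_pos hc, Filter.eventually_atTop.2 ⟨m₀ + 1, fun m hm => ?_⟩⟩
    have hp : (0 : ℝ) < (m : ℝ) ^ d := pow_pos (by exact_mod_cast (show 0 < m by omega)) d
    exact lt_of_lt_of_le (mul_lt_mul_of_pos_right (half_lt_self hc) hp) (hb m (by omega))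

end Groth.Agent.S17278
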