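import Groth.Statements.S17279
import Groth.Agent.H97.NefBundle
import Groth.Agent.Lib.Cyc.CH.BdlExists
import Groth.Agent.S5733
-- import your own Groth.Agent.* helpers here

set_option autoImplicit false
universe u
open CategoryTheory CategoryTheory.Limits AlgebraicGeometry TopologicalSpace
open Variety

namespace Groth.Agent.S17279

/-- (i) ⇔ (iii), Barton–Kleiman criterion; scheme case: let X be a proper scheme over a field k and E a
finite locally free O_X-module. Then E is nef, meaning that the fundamental invertible module O(1)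
of the projective bundle P(E) = Proj(Sym E) is nef (χ(O_C ⊗ O(1)) - χ(O_C) ≥ 0 for every integral
closed subscheme C ⊆ P(E) of dimension one; here P(E) → X is given by any relative-Proj data of the
graded symmetric algebra of E together with its O(1)), if and only if for every regular projective
curve C over k (integral, proper over k, of dimension one, all local rings regular), every
k-morphism f : C → X and every invertible quotient f^*E → M, one has deg M = χ(M) - χ(O_C) ≥ 0. (The
source states this for proper algebraic spaces over k; this is the case of schemes.) -/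
theorem result (k : Type u) [Field k] (X : Scheme.{u})
    [X.Over (Spec (CommRingCat.of k))] [IsProper (X ↘ (Spec (CommRingCat.of k)))] (E : X.Modules) (hE : FlatMod.IsFinLocFree E) :
    (∀ (𝒮 : RelProj.QCGrAlg X) (j : E ⟶ 𝒮.toModule) (P : Scheme.{u}) (p : P ⟶ X)
        (chart : ∀ (U : X.Opens) (hU : IsAffineOpen U),
          (((p ⁻¹ᵁ U : P.Opens) : Scheme.{u}) ≅ Proj (𝒮.deg U hU)))
        (O1 : P.Modules)
        (lam : ∀ (U : X.Opens) (hU : IsAffineOpen U),
          O1 ⟶ (Scheme.Modules.pushforward (RelProj.emb p chart U hU)).obj (GrTwist.twist (𝒮.deg U hU) 1)),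
        RelProj.IsGrSymAlg E 𝒮 j → RelProj.IsRelProj 𝒮 p chart → RelProj.IsRelTwist 𝒮 p chart 1 O1 lam →
        ∀ C : P.IdealSheafData, IsIntegral C.subscheme → topologicalKrullDim (C.support : Set P) = 1 →
          0 ≤ @Curv2.euler k _ P ⟨p ≫ (X ↘ (Spec (CommRingCat.of k)))⟩ (CohB1.tensorMod (ClSub.quotMod C) O1) -
              @Curv2.euler k _ P ⟨p ≫ (X ↘ (Spec (CommRingCat.of k)))⟩ (ClSub.quotMod C)) ↔
    (∀ (C : Scheme.{u}) [C.Over (Spec (CommRingCat.of k))] [IsProper (C ↘ (Spec (CommRingCat.of k)))] [IsIntegral C],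
      topologicalKrullDim C = 1 → (∀ x : C, IsRegularLocalRing (C.presheaf.stalk x)) →
      ∀ (f : C ⟶ X), f ≫ (X ↘ (Spec (CommRingCat.of k))) = C ↘ (Spec (CommRingCat.of k)) →
      ∀ (M : C.Modules), PicF.IsInvertible M →
      ∀ (q : (Scheme.Modules.pullback f).obj E ⟶ M), Epi q → 0 ≤ Curv2.deg k C M 1) := by
  have hq : Coh.IsQCoh E := Groth.Agent.Lib.TensorMod.QCohInv.isQCoh_of_isFinLocFree hE
  haveI : E.IsQuasicoherent := hq
  -- properties of any relative Proj of `Sym E`
  have key : ∀ (B : Groth.Agent.Lib.SymAlg.PE.Tw X) (j : E ⟶ B.alg.toModule) (hj : RelProj.IsGrSymAlg E B.alg j),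
      IsProper B.p ∧ PicF.IsInvertible B.O1 ∧
        Epi (((Scheme.Modules.pullbackPushforwardAdjunction B.p).homEquiv E B.O1).symm
          (Groth.Agent.Lib.SymAlg.PE.Tw.Gens.ofSym B hq hj).canon) := fun B j hj =>
    ⟨Groth.Agent.Lib.HProj.Proper.isProper_of_isProjective
      ⟨B.alg, B.P, B.p, B.chart, Iso.refl _, B.gen,
        Groth.Agent.Lib.Cyc.CH.BdlExists.isFTDeg_one hq hj hE, B.hP, Category.id_comp _⟩,
      B.isInvertible,
      Groth.Agent.S5732.result E hq B.alg j hj B.p B.chart B.hP B.O1 B.lam B.hO _ fun U hU e y => by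
        erw [(Groth.Agent.Lib.SymAlg.PE.Tw.Gens.ofSym B hq hj).canon_app hU e]
        exact (B.val_sec ((Groth.Agent.Lib.SymAlg.PE.Tw.Gens.ofSym B hq hj).mem U hU e) y).trans
          (Localization.mk_one_eq_algebraMap _).symm.symm⟩
  constructor
  · intro h C _ _ _ hC _ f hf M hM q hepi
    haveI := hepi
    have hj := Groth.Agent.Lib.SymAlg.Exists.isGrSymAlg E
    let B : Groth.Agent.Lib.SymAlg.PE.Tw X := Groth.Agent.Lib.SymAlg.PE.Tw.ofAlg
      (Groth.Agent.Lib.SymAlg.Exists.grAlg E) (Groth.Agent.Lib.SymAlg.Gen.isGenDegOne hj hq)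
    obtain ⟨hp, hO, -⟩ := key B _ hj
    haveI := hp
    letI : B.P.Over (Spec (CommRingCat.of k)) := ⟨B.p ≫ (X ↘ Spec (CommRingCat.of k))⟩
    haveI : IsProper (B.P ↘ Spec (CommRingCat.of k)) :=
      inferInstanceAs (IsProper (B.p ≫ (X ↘ Spec (CommRingCat.of k))))
    have hnef : Groth.Agent.H97.NefBC.NefCl k B.O1 := h B.alg _ B.P B.p B.chart B.O1 B.lam hj B.hP B.hO
    obtain ⟨r, ⟨hr, e, -⟩, -⟩ := Groth.Agent.Lib.SymAlg.PE.existsUnique_map (B := B) hq hj f hM q
    have hd := Groth.Agent.H97.NefBundle.deg_nonneg_of_nefCl (k := k) hC r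
      ((reassoc_of% hr) _ |>.trans hf) hO hnef
    unfold Curv2.deg at hd ⊢
    rw [Groth.Agent.Lib.Curves.Euler.euler_eq_of_iso (k := k) e] at hd
    exact hd
  · intro h 𝒮 j P p chart O1 lam hj hP hO1
    let B : Groth.Agent.Lib.SymAlg.PE.Tw X :=
      ⟨𝒮, Groth.Agent.Lib.SymAlg.Gen.isGenDegOne hj hq, P, p, chart, hP, O1, lam, hO1⟩
    obtain ⟨hp, hO, hep⟩ := key B j hj
    haveI : IsProper p := hp
    haveI := hep
    letI : P.Over (Spec (CommRingCat.of k)) := ⟨p ≫ (X ↘ Spec (CommRingCat.of k))⟩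
    haveI : IsProper (P ↘ Spec (CommRingCat.of k)) :=
      inferInstanceAs (IsProper (p ≫ (X ↘ Spec (CommRingCat.of k))))
    exact Groth.Agent.H97.NefBundle.nefCl_quotient (k := k) h p rfl (O1 := B.O1) hO
      (((Scheme.Modules.pullbackPushforwardAdjunction B.p).homEquiv E B.O1).symm
        (Groth.Agent.Lib.SymAlg.PE.Tw.Gens.ofSym B hq hj).canon)

end Groth.Agent.S17279
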