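import Groth.Statements.S1728
import Groth.Agent.Lib.InjHull.Basic
-- import your own Groth.Agent.* helpers here

set_option autoImplicit false
universe u
open InjHull

namespace Groth.Agent.S1728

/-- Let I be an injective R-module and E a submodule of I. Then E is an injective module if and only if
every submodule E' of I containing E, such that every nonzero submodule of E' meets E nontrivially,
is equal to E. -/
theorem result (R : Type u) [CommRing R] (I : Type u) [AddCommGroup I] [Module R I] [Module.Injective R I] (E : Submodule R I) : Module.Injective R E ↔ ∀ E' : Submodule R I, E ≤ E' → (∀ N : Submodule R I, N ≤ E' → N ≠ ⊥ → N ⊓ E ≠ ⊥) → E' = E := by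
  constructor
  · intro hE E' hle hess
    obtain ⟨C, hC⟩ := Groth.Agent.Lib.InjHull.Basic.exists_isCompl_range E.subtype E.injective_subtype hE
    rw [Submodule.range_subtype] at hC
    have hb : E' ⊓ C = ⊥ := by
      by_contra hne
      refine hess (E' ⊓ C) inf_le_left hne ?_
      rw [inf_assoc, hC.symm.inf_eq_bot, inf_bot_eq]
    refine le_antisymm ?_ hle
    intro x hx
    obtain ⟨e, he, c, hc, rfl⟩ := Submodule.mem_sup.mp
      (show x ∈ E ⊔ C by rw [hC.sup_eq_top]; trivial)
    have : c ∈ E' ⊓ C := ⟨by simpa using sub_mem hx (hle he), hc⟩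
    rw [hb, Submodule.mem_bot] at this
    simpa [this] using he
  · intro h
    refine Groth.Agent.Lib.InjHull.Basic.injective_of_no_essential ‹_› E fun E' hle hess => h E' hle ?_
    intro N hN hN0
    obtain ⟨x, hx, hx0⟩ := Submodule.exists_mem_ne_zero_of_ne_bot hN0
    obtain ⟨r, hr0, hr⟩ := hess x (hN hx) hx0
    intro hb
    have : r • x ∈ N ⊓ E := ⟨N.smul_mem r hx, hr⟩
    rw [hb] at this
    exact hr0 this


end Groth.Agent.S1728
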