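import Groth.Statements.S17281
import Groth.Agent.Lib.CurveBundle.Vanishing
import Groth.Agent.Lib.CurveBundle.RankTwoExt

set_option autoImplicit false
universe u
open CategoryTheory CategoryTheory.Limits AlgebraicGeometry TopologicalSpace
open Curves

namespace Groth.Agent.S17281

open Groth.Agent.Lib CurveBundle Degree TensorMod.Basic TensorMod.Dual

/-- Fix an algebraically closed field k and a regular projective curve C over it (integral, proper over
k, of dimension one, all local rings regular) of genus g = dim_k H^1(C, O_C), E a finite locally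
free O_C-module that is nef in the curve-test sense (for every regular projective curve C' over k,
every k-morphism f : C' → C and every invertible quotient M of f^*E, deg M = χ(M) - χ(O_{C'}) ≥ 0),
and H an invertible O_C-module with deg H = χ(H) - χ(O_C) ≥ 2g. Then E ⊗ H is generated by its
global sections. -/
theorem result (k : Type u) [Field k] [IsAlgClosed k]
    (X : Scheme.{u}) [X.Over (Spec (CommRingCat.of k))] [IsProper (X ↘ (Spec (CommRingCat.of k)))] [IsIntegral X]
    (hdim : topologicalKrullDim X = 1) (hreg : ∀ x : X, IsRegularLocalRing (X.presheaf.stalk x))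
    (E : X.Modules) (hE : FlatMod.IsFinLocFree E)
    (hnef : ∀ (C : Scheme.{u}) [C.Over (Spec (CommRingCat.of k))] [IsProper (C ↘ (Spec (CommRingCat.of k)))] [IsIntegral C],
      topologicalKrullDim C = 1 → (∀ x : C, IsRegularLocalRing (C.presheaf.stalk x)) →
      ∀ (f : C ⟶ X), f ≫ (X ↘ (Spec (CommRingCat.of k))) = C ↘ (Spec (CommRingCat.of k)) →
      ∀ (M : C.Modules), PicF.IsInvertible M →
      ∀ (q : (Scheme.Modules.pullback f).obj E ⟶ M), Epi q → 0 ≤ Curv2.deg k C M 1)
    (H : X.Modules) (hH : PicF.IsInvertible H)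
    (hdeg : 2 * (Curv2.genus k X : ℤ) ≤ Curv2.deg k X H 1) :
    Curv2.IsGloballyGenerated (CohB1.tensorMod E H) := by
  have hC := RankTwoExt.curveCtx_of_regular (k := k) hdim hreg
  have := hC.locNoeth
  have h0 := Curves.GlobalSections.finrank_h0_structure k (X := X)
  obtain ⟨A, hA, hA1⟩ := Vanishing.exists_pos_ctx (k := k) hdim
  obtain ⟨r, hr⟩ : ∃ r, FlatMod.IsFinLocFreeOfRank r E :=
    ⟨_, rank_gr k (Coherent.isCoh hE) (Coherent.isTorsionFree hE)⟩
  have hEH : FlatMod.IsFinLocFreeOfRank r (CohB1.tensorMod E H) := by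
    simpa using TensorMod.LocFree.rank_tensorMod hr (TensorMod.LocFree.of_isInvertible hH)
  refine Vanishing.globallyGenerated_ctx (k := k) hdim hEH fun J hJ hJd => ?_
  have hHJ := TensorMod.Invertible.isInvertible_tensorMod hH hJ
  have hb : FlatMod.IsFinLocFreeOfRank r (CohB1.tensorMod (CohB1.tensorMod E H) J) := by
    simpa using TensorMod.LocFree.rank_tensorMod hEH (TensorMod.LocFree.of_isInvertible hJ)
  refine LineQuot.subsingleton_h1 hA (by omega) h0 hb fun M p _ hM => ?_
  obtain ⟨M₁, q₁, hq₁, hM₁, hd₁⟩ := Vanishing.exists_untwist (k := k) hJ p hM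
  obtain ⟨M₂, q₂, hq₂, hM₂, hd₂⟩ := Vanishing.exists_untwist (k := k) hH q₁ hM₁
  haveI := hq₂
  have hge := hnef X hdim hreg (𝟙 X) (Category.id_comp _) M₂ hM₂
    ((Scheme.Modules.pullbackId X).hom.app E ≫ q₂) inferInstance
  rw [← dg_eq_deg k (TensorMod.LocFree.of_isInvertible hM₂)] at hge
  rw [← dg_eq_deg k (TensorMod.LocFree.of_isInvertible hJ)] at hJd
  rw [← dg_eq_deg k (TensorMod.LocFree.of_isInvertible hH)] at hdeg
  omega


end Groth.Agent.S17281
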