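import Groth.Statements.S17282
import Groth.Agent.H97.NefExt
import Groth.Agent.Lib.CurveBundle.RankTwoExt

set_option autoImplicit false
set_option linter.style.haveILetI false
universe u
open CategoryTheory CategoryTheory.Limits AlgebraicGeometry TopologicalSpace
open Variety
open Groth.Agent.Lib Groth.Agent.H97

namespace Groth.Agent.S17282

/-- Scheme case, curve-test form of nefness: let X be a proper scheme over a field k and E, E' finite
locally free O_X-modules, both nef in the curve-test sense: for every regular projective curve C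
over k (integral, proper over k, of dimension one, all local rings regular), every k-morphism f : C
→ X and every invertible quotient M of the pulled-back module, deg M = χ(M) - χ(O_C) ≥ 0. Then E ⊗
E', the tensor powers E^{⊗n} (n ≥ 0) and the exterior powers Λ^n E (any module that is
affine-locally the n-th exterior power of E, compatibly with restrictions) are nef in the same
sense. (The source states this for proper algebraic spaces, with nefness of O(1) on P(E), and also
for the symmetric and divided powers, which are not stated here; on proper schemes the two senses of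
nef agree by the Barton–Kleiman criterion.) -/
theorem result (k : Type u) [Field k] (X : Scheme.{u})
    [X.Over (Spec (CommRingCat.of k))] [IsProper (X ↘ (Spec (CommRingCat.of k)))]
    (E E' : X.Modules) (hE : FlatMod.IsFinLocFree E) (hE' : FlatMod.IsFinLocFree E')
    (hnef : ∀ (C : Scheme.{u}) [C.Over (Spec (CommRingCat.of k))] [IsProper (C ↘ (Spec (CommRingCat.of k)))] [IsIntegral C],
      topologicalKrullDim C = 1 → (∀ x : C, IsRegularLocalRing (C.presheaf.stalk x)) →
      ∀ (f : C ⟶ X), f ≫ (X ↘ (Spec (CommRingCat.of k))) = C ↘ (Spec (CommRingCat.of k)) →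
      ∀ (M : C.Modules), PicF.IsInvertible M →
      ∀ (q : (Scheme.Modules.pullback f).obj E ⟶ M), Epi q → 0 ≤ Curv2.deg k C M 1)
    (hnef' : ∀ (C : Scheme.{u}) [C.Over (Spec (CommRingCat.of k))] [IsProper (C ↘ (Spec (CommRingCat.of k)))] [IsIntegral C],
      topologicalKrullDim C = 1 → (∀ x : C, IsRegularLocalRing (C.presheaf.stalk x)) →
      ∀ (f : C ⟶ X), f ≫ (X ↘ (Spec (CommRingCat.of k))) = C ↘ (Spec (CommRingCat.of k)) →
      ∀ (M : C.Modules), PicF.IsInvertible M →
      ∀ (q : (Scheme.Modules.pullback f).obj E' ⟶ M), Epi q → 0 ≤ Curv2.deg k C M 1) :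
    (∀ (C : Scheme.{u}) [C.Over (Spec (CommRingCat.of k))] [IsProper (C ↘ (Spec (CommRingCat.of k)))] [IsIntegral C],
      topologicalKrullDim C = 1 → (∀ x : C, IsRegularLocalRing (C.presheaf.stalk x)) →
      ∀ (f : C ⟶ X), f ≫ (X ↘ (Spec (CommRingCat.of k))) = C ↘ (Spec (CommRingCat.of k)) →
      ∀ (M : C.Modules), PicF.IsInvertible M →
      ∀ (q : (Scheme.Modules.pullback f).obj (CohB1.tensorMod E E') ⟶ M), Epi q → 0 ≤ Curv2.deg k C M 1) ∧
    (∀ n : ℕ, ∀ (C : Scheme.{u}) [C.Over (Spec (CommRingCat.of k))] [IsProper (C ↘ (Spec (CommRingCat.of k)))] [IsIntegral C],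
        topologicalKrullDim C = 1 → (∀ x : C, IsRegularLocalRing (C.presheaf.stalk x)) →
        ∀ (f : C ⟶ X), f ≫ (X ↘ (Spec (CommRingCat.of k))) = C ↘ (Spec (CommRingCat.of k)) →
        ∀ (M : C.Modules), PicF.IsInvertible M →
        ∀ (q : (Scheme.Modules.pullback f).obj (CohB1.tensorPow E n) ⟶ M), Epi q → 0 ≤ Curv2.deg k C M 1) ∧
    (∀ (n : ℕ) (Λ : X.Modules), ExtPow.IsExtPow n E Λ →
      ∀ (C : Scheme.{u}) [C.Over (Spec (CommRingCat.of k))] [IsProper (C ↘ (Spec (CommRingCat.of k)))] [IsIntegral C],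
        topologicalKrullDim C = 1 → (∀ x : C, IsRegularLocalRing (C.presheaf.stalk x)) →
        ∀ (f : C ⟶ X), f ≫ (X ↘ (Spec (CommRingCat.of k))) = C ↘ (Spec (CommRingCat.of k)) →
        ∀ (M : C.Modules), PicF.IsInvertible M →
        ∀ (q : (Scheme.Modules.pullback f).obj Λ ⟶ M), Epi q → 0 ≤ Curv2.deg k C M 1) := by
  refine ⟨NefTensor.nefTest_tensor hE hE' hnef hnef', fun n => (NefTensor.nefTest_tensorPow hE hnef n).2, ?_⟩
  intro n Λ hΛ C _ _ _ hdim hreg f hf M hM q hq
  haveI := hq
  haveI hC : CurveBundle.Degree.CurveCtx k C := CurveBundle.RankTwoExt.curveCtx_of_regular hdim hreg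
  have hEC : FlatMod.IsFinLocFree ((Scheme.Modules.pullback f).obj E) :=
    TensorMod.LocFree.isFinLocFree_pullback f hE
  haveI : ((Scheme.Modules.pullback f).obj E).IsQuasicoherent := TensorMod.QCohInv.isQCoh_of_isFinLocFree hEC
  obtain ⟨L', hL'⟩ := FundLocal.ExtPowExists.exists_isExtPow ((Scheme.Modules.pullback f).obj E) n
  obtain ⟨e⟩ := KVec.ExtPowPull.nonempty_iso_pullback f hE hΛ hL'
  exact NefExt.nefTest_extPow hEC (NefTensor.nefTest_quotient f hf hnef (𝟙 _)) n L' hL' C hdim hreg (𝟙 C)
    (Category.id_comp _) M hM ((Scheme.Modules.pullbackId C).hom.app _ ≫ e.inv ≫ q) inferInstance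

end Groth.Agent.S17282
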