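import Groth.Statements.S17285
import Groth.Agent.H84.SectionGrowth
-- import your own Groth.Agent.* helpers here

set_option autoImplicit false
set_option linter.style.haveILetI false
universe u
open CategoryTheory CategoryTheory.Limits AlgebraicGeometry TopologicalSpace
open Variety

namespace Groth.Agent.S17285

open Groth.Agent Groth.Agent.Lib Groth.Agent.Lib.Snapper
open Groth.Agent.Lib.Modules.StalkModule (stalkMapₗ stalkMapₗ_germ stalkMapₗ_comp stalkMapₗ_zero)
open Groth.Agent.Lib.PosLin.SectionBound (h0 h0_congr h0_le_of_mono)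
open Groth.Agent.Lib.TensorMod.Basic (tmap comm tensorIso rightUnit)

theorem genericPoints_eq (T : Scheme.{u}) [IsIntegral T] : genericPoints T = {genericPoint T} := by
  ext t
  simp only [genericPoints, Set.mem_setOf_eq, irreducibleComponents_eq_singleton,
    Set.mem_singleton_iff]
  exact ⟨fun h => IsGenericPoint.eq h (genericPoint_spec T), fun h => h ▸ (genericPoint_spec T)⟩

section

variable {X Y : Scheme.{u}} [IsIntegral X] [IsIntegral Y] (f : Y ⟶ X)

/-- The cokernel of `O → f_* O` vanishes at the generic point. -/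
theorem notMem_support_coker (hf : RadPt.IsBirational f) :
    genericPoint X ∉ CohB1.support (cokernel (ClSub.unitToPush f)) := by
  have hη : f (genericPoint Y) = genericPoint X := by
    have h := hf.1.mapsTo (show genericPoint Y ∈ genericPoints Y by rw [genericPoints_eq]; rfl)
    rwa [genericPoints_eq, Set.mem_singleton_iff] at h
  have hres := (hf.2 _ (show genericPoint X ∈ genericPoints X by rw [genericPoints_eq]; rfl)).2 _ hη
  have hst : Function.Surjective (f.stalkMap (genericPoint Y)).hom := fun s => by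
    obtain ⟨a, ha⟩ := hres.2 (Y.residue _ s)
    obtain ⟨t, rfl⟩ := Scheme.residue_surjective X (f (genericPoint Y)) a
    refine ⟨t, (RingHom.injective (Y.residue (genericPoint Y)).hom) ?_⟩
    exact (congr($(Scheme.residue_residueFieldMap f (genericPoint Y)) t)).symm.trans ha
  rw [Modules.Support.not_mem_support_iff]
  refine subsingleton_of_forall_eq 0 fun v => ?_
  obtain ⟨w, rfl⟩ := (Modules.StalkModule.epi_iff_stalkMapₗ_surjective
    (cokernel.π (ClSub.unitToPush f))).mp inferInstance (genericPoint X) v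
  obtain ⟨V, hV, a, rfl⟩ := TopCat.Presheaf.exists_germ_eq _ w
  have hYV : genericPoint Y ∈ f ⁻¹ᵁ V := by show f (genericPoint Y) ∈ V; rw [hη]; exact hV
  obtain ⟨t, ht⟩ := hst (Y.presheaf.germ (f ⁻¹ᵁ V) (genericPoint Y) hYV a)
  obtain ⟨V', hV', b, rfl⟩ := TopCat.Presheaf.exists_germ_eq X.presheaf t
  have hW : genericPoint X ∈ V' ⊓ V := ⟨hη ▸ hV', hV⟩
  have hYW : genericPoint Y ∈ f ⁻¹ᵁ (V' ⊓ V) := by show f (genericPoint Y) ∈ V' ⊓ V; rw [hη]; exact hW
  haveI : Nonempty (f ⁻¹ᵁ (V' ⊓ V) : Y.Opens) := ⟨⟨_, hYW⟩⟩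
  let b' := X.presheaf.map (homOfLE (inf_le_left : V' ⊓ V ≤ V')).op b
  have key : f.app (V' ⊓ V) b' =
      Y.presheaf.map (homOfLE (f.preimage_mono (inf_le_right : V' ⊓ V ≤ V))).op a := by
    refine germ_injective_of_isIntegral Y (genericPoint Y) (hx := hYW) ?_
    refine Eq.trans ?_ (TopCat.Presheaf.germ_res_apply Y.presheaf
      (homOfLE (f.preimage_mono (inf_le_right : V' ⊓ V ≤ V))) (genericPoint Y) hYW a).symm
    refine Eq.trans ?_ ht
    erw [← Scheme.Hom.germ_stalkMap_apply f (V' ⊓ V) (genericPoint Y) hYW b']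
    exact congrArg (f.stalkMap (genericPoint Y)).hom
      (TopCat.Presheaf.germ_res_apply X.presheaf (homOfLE (inf_le_left : V' ⊓ V ≤ V')) _ hYW b)
  let F := (Scheme.Modules.pushforward f).obj (Coh.structureModule Y)
  have h2 : F.presheaf.germ V (genericPoint X) hV a =
      stalkMapₗ (ClSub.unitToPush f) (genericPoint X)
        ((Coh.structureModule X).presheaf.germ (V' ⊓ V) (genericPoint X) hW b') := by
    refine Eq.trans ?_ (stalkMapₗ_germ (ClSub.unitToPush f) hW b').symm
    refine (TopCat.Presheaf.germ_res_apply F.presheaf (homOfLE (inf_le_right : V' ⊓ V ≤ V)) _ hW a).symm.trans ?_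
    exact congrArg (F.presheaf.germ (V' ⊓ V) (genericPoint X) hW) key.symm
  refine (congrArg _ h2).trans ?_
  rw [← LinearMap.comp_apply, ← stalkMapₗ_comp, cokernel.condition, stalkMapₗ_zero]
  rfl

end

/-- Let X and Y be proper varieties over a field k (integral schemes, proper over k) of the same
dimension d, f : Y → X a birational k-morphism (generic point to generic point, with a single point
in that fibre and the same residue field there), and L an invertible O_X-module. Then L is big,
meaning that some real c > 0 has dim_k H^0(X, L^{⊗n}) > c·n^d for all sufficiently large n, if and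
only if f^*L is big on Y in the same sense. (The source states this for birational morphisms of
proper schemes over k; it is stated here for integral X and Y, the case in which the printed
argument's injectivity of O_X → f_*O_Y holds.) -/
theorem result (k : Type u) [Field k] (X Y : Scheme.{u})
    [X.Over (Spec (CommRingCat.of k))] [IsProper (X ↘ (Spec (CommRingCat.of k)))] [IsIntegral X]
    [Y.Over (Spec (CommRingCat.of k))] [IsProper (Y ↘ (Spec (CommRingCat.of k)))] [IsIntegral Y]
    (f : Y ⟶ X) (hf : f ≫ (X ↘ (Spec (CommRingCat.of k))) = Y ↘ (Spec (CommRingCat.of k))) (hbir : RadPt.IsBirational f)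
    (d : ℕ) (hdimX : topologicalKrullDim X = d) (hdimY : topologicalKrullDim Y = d)
    (L : X.Modules) (hL : PicF.IsInvertible L) :
    (∃ c : ℝ, 0 < c ∧ ∀ᶠ n : ℕ in Filter.atTop,
        c * (n : ℝ) ^ d < (Module.finrank k (Coh.HH X (CohB1.tensorPow L n) 0) : ℝ)) ↔
      (∃ c : ℝ, 0 < c ∧ ∀ᶠ n : ℕ in Filter.atTop,
        c * (n : ℝ) ^ d < (Module.finrank k (Coh.HH Y (CohB1.tensorPow ((Scheme.Modules.pullback f).obj L) n) 0) : ℝ)) := by
  haveI := Lib.Curves.GlobalSections.isNoetherian_of_proper k X
  haveI := Lib.Curves.GlobalSections.isNoetherian_of_proper k Y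
  haveI : IsProper (f ≫ (X ↘ Spec (CommRingCat.of k))) := hf.symm ▸ inferInstance
  haveI : IsProper f := IsProper.of_comp f (X ↘ Spec (CommRingCat.of k))
  have hη : f (genericPoint Y) = genericPoint X := by
    have h := hbir.1.mapsTo (show genericPoint Y ∈ genericPoints Y by rw [genericPoints_eq]; rfl)
    rwa [genericPoints_eq, Set.mem_singleton_iff] at h
  haveI := H84.SectionGrowth.mono_unitToPush f hη
  let S := ShortComplex.mk (ClSub.unitToPush f) (cokernel.π (ClSub.unitToPush f)) (cokernel.condition _)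
  have hS : S.ShortExact := Devissage.Basic.exists_ses_mono _
  have hO := Twist.isCoh_structureModule X
  have hP : Coh.IsCoh ((Coh.push f).obj (Coh.structureModule Y)) :=
    Cyc.PP.Push.isCoh_push (p := f) (Twist.isCoh_structureModule Y)
  have hQ : Coh.IsCoh (cokernel (ClSub.unitToPush f)) := CohBasics.Closure.isCoh_cokernel _ hO.1 hP
  let A : ℕ → ℕ := fun n => Module.finrank k (Coh.HH X (CohB1.tensorPow L n) 0)
  let B : ℕ → ℕ := fun n => Module.finrank k (Coh.HH Y (CohB1.tensorPow ((Scheme.Modules.pullback f).obj L) n) 0)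
  let C : ℕ → ℕ := fun n => h0 k X (CohB1.tensorMod (CohB1.tensorPow L n) (cokernel (ClSub.unitToPush f)))
  have hB : ∀ n, h0 k X (CohB1.tensorMod (CohB1.tensorPow L n)
      ((Coh.push f).obj (Coh.structureModule Y))) = B n := fun n => by
    have hM := Lib.TensorMod.Invertible.isInvertible_tensorPow hL n
    have e : CohB1.tensorMod (CohB1.tensorPow L n) ((Coh.push f).obj (Coh.structureModule Y)) ≅
        (Coh.push f).obj (CohB1.tensorMod ((TensorMod.Pullback.pb f).obj (CohB1.tensorPow L n))
          (Coh.structureModule Y)) :=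
      (Modules.ProjFormula.projIso f (Modules.DualBasis.hasDBases_of_isFinLocFree
          (TensorMod.LocFree.of_rank (TensorMod.LocFree.of_isInvertible hM)))).app
          (Coh.structureModule Y)
    rw [h0_congr e, H84.SectionGrowth.finrank_push_zero f hf]
    exact h0_congr (rightUnit _ ≪≫ Ample.Pow.pullbackPow f L n)
  have hA : ∀ n, h0 k X (CohB1.tensorMod (CohB1.tensorPow L n) (Coh.structureModule X)) = A n :=
    fun n => h0_congr (rightUnit _)
  have hAB : ∀ n, A n ≤ B n := fun n => by
    have hM := Lib.TensorMod.Invertible.isInvertible_tensorPow hL n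
    haveI : Mono (tmap (𝟙 (CohB1.tensorPow L n)) (ClSub.unitToPush f)) :=
      (Twist.twistSeq_shortExact hM hS).mono_f
    rw [← hA n, ← hB n]
    exact h0_le_of_mono (k := k) (Twist.isCoh_twist hM hP)
      (tmap (𝟙 (CohB1.tensorPow L n)) (ClSub.unitToPush f))
  have hBAC : ∀ n, B n ≤ A n + C n := fun n => by
    have hM := Lib.TensorMod.Invertible.isInvertible_tensorPow hL n
    rw [← hA n, ← hB n]
    exact PosLin.CohBound.hd_mid_le (k := k) (Twist.twistSeq_shortExact hM hS)
      (Twist.isCoh_twist hM hO) (Twist.isCoh_twist hM hP) (Twist.isCoh_twist hM hQ) 0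
  haveI := hQ.2
  let T : Closeds X := ⟨CohB1.support (cokernel (ClSub.unitToPush f)), Modules.Support.isClosed_support _⟩
  have hT : ∀ y ∈ T, VarDim.Basic.pdim (X ↘ Spec (CommRingCat.of k)) y < d := fun y hy => by
    have hne : genericPoint X ≠ y := fun h => notMem_support_coker f hbir (h ▸ hy)
    have h1 := VarDim.Basic.pdim_lt (X ↘ Spec (CommRingCat.of k))
      ((genericPoint_spec X).specializes (Set.mem_univ y)) hne
    have h2 := VarDim.Basic.topologicalKrullDim_irreducibleSpace (X ↘ Spec (CommRingCat.of k))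
    rw [hdimX] at h2
    have h3 : d = VarDim.Basic.pdim (X ↘ Spec (CommRingCat.of k)) (genericPoint X) := by exact_mod_cast h2
    omega
  refine ⟨fun ⟨c, hc, hev⟩ => ⟨c, hc, hev.mono fun n hn => hn.trans_le ?_⟩, fun ⟨c, hc, hev⟩ => ?_⟩
  · exact_mod_cast hAB n
  cases d with
  | zero =>
    refine ⟨c, hc, hev.mono fun n hn => hn.trans_le ?_⟩
    have hz : IsZero (CohB1.tensorMod (CohB1.tensorPow L n) (cokernel (ClSub.unitToPush f))) := by
      rw [← Modules.Support.support_eq_empty_iff,
        Twist.support_twist (Lib.TensorMod.Invertible.isInvertible_tensorPow hL n)]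
      exact Set.eq_empty_iff_forall_notMem.2 fun y hy => Nat.not_lt_zero _ (hT y hy)
    haveI := PosLin.CohBound.subsingleton_HH_isZero (k := k) hz 0
    have h0' : C n = 0 := Module.finrank_zero_of_subsingleton
    have h1 := hBAC n
    rw [h0', add_zero] at h1
    exact_mod_cast h1
  | succ r =>
    obtain ⟨K, hK⟩ := H84.SectionGrowth.exists_bound (k := k) (r := r) hL T
      (fun y hy => Nat.lt_succ_iff.1 (hT y hy)) _ ⟨hQ, subset_rfl⟩
    obtain ⟨M, hM⟩ := exists_nat_gt (((K * 2 ^ r : ℕ) : ℝ) / (c / 2))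
    refine ⟨c / 2, half_pos hc, ?_⟩
    filter_upwards [hev, Filter.eventually_ge_atTop (max M 1)] with n hn hnM
    have hn1 : 1 ≤ n := (le_max_right M 1).trans hnM
    have hCn : C n ≤ K * 2 ^ r * n ^ r := (hK n).trans (by
      rw [mul_assoc, ← mul_pow]
      exact Nat.mul_le_mul_left K (Nat.pow_le_pow_left (by omega) r))
    have h3 : ((K * 2 ^ r : ℕ) : ℝ) < (c / 2) * n := by
      rw [div_lt_iff₀ (half_pos hc), mul_comm (M : ℝ) (c / 2)] at hM
      exact hM.trans_le (mul_le_mul_of_nonneg_left
        (by exact_mod_cast (le_max_left M 1).trans hnM) (half_pos hc).le)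
    have h4 : (C n : ℝ) ≤ ((K * 2 ^ r : ℕ) : ℝ) * (n : ℝ) ^ r := by exact_mod_cast hCn
    have h5 : (0 : ℝ) < (n : ℝ) ^ r := pow_pos (by exact_mod_cast hn1) r
    have h6 := mul_lt_mul_of_pos_right h3 h5
    rw [mul_assoc, ← pow_succ'] at h6
    have h7 : (B n : ℝ) ≤ (A n : ℝ) + (C n : ℝ) := by exact_mod_cast hBAC n
    change c * (n : ℝ) ^ (r + 1) < (B n : ℝ) at hn
    change c / 2 * (n : ℝ) ^ (r + 1) < (A n : ℝ)
    linarith

end Groth.Agent.S17285
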