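import Groth.Statements.S8262
import Groth.Agent.H81.RelProj.Map

set_option autoImplicit false
universe u
open CategoryTheory CategoryTheory.Limits AlgebraicGeometry Opposite TopologicalSpace
open scoped HomogeneousIdeal
open EGA2

namespace Groth.Agent.S8262

/-- The morphism of relative homogeneous spectra induced by a graded homomorphism, in the case where it
is everywhere defined: let φ : 𝒜 → ℬ be a graded homomorphism of quasi-coherent positively graded
O_Y-algebras such that over every affine open U the irrelevant ideal of ℬ(U) lies in the ideal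
generated by the image of that of 𝒜(U) (a condition stronger than the published one, which only asks
that the induced rational map be everywhere defined). Then there is a unique morphism h : Proj(ℬ) →
Proj(𝒜) that over each affine open U of Y is, under the charts, the morphism Proj ℬ(U) → Proj 𝒜(U)
induced by φ(U); and such an h is a Y-morphism. -/
theorem result {Y PA PB : Scheme.{u}} {𝒜 ℬ : RelProj.QCGrAlg Y}
    (φ : 𝒜.toQCAlg ⟶ ℬ.toQCAlg) (hφ : RelProj.IsGradedHom φ)
    (hirr : ∀ (U : Y.Opens) (hU : IsAffineOpen U),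
      (ℬ.deg U hU)₊ ≤ ((𝒜.deg U hU)₊).map (RelProj.gradedHomAt φ hφ U hU))
    (pA : PA ⟶ Y) (pB : PB ⟶ Y)
    (chartA : ∀ (U : Y.Opens) (hU : IsAffineOpen U), (((pA ⁻¹ᵁ U : PA.Opens) : Scheme.{u}) ≅ Proj (𝒜.deg U hU)))
    (chartB : ∀ (U : Y.Opens) (hU : IsAffineOpen U), (((pB ⁻¹ᵁ U : PB.Opens) : Scheme.{u}) ≅ Proj (ℬ.deg U hU)))
    (hA : RelProj.IsRelProj 𝒜 pA chartA) (hB : RelProj.IsRelProj ℬ pB chartB) :
    (∃! h : PB ⟶ PA, RelProj.IsRelProjMap φ hφ hirr chartA chartB h) ∧
      ∀ h : PB ⟶ PA, RelProj.IsRelProjMap φ hφ hirr chartA chartB h → h ≫ pA = pB := by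
  exact H81.RelProj.Map.existsUnique φ hφ hirr hA hB

end Groth.Agent.S8262
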