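import Groth.Statements.S17289
import Groth.Agent.S8262
import Groth.Agent.S8263
import Groth.Agent.S8287
import Groth.Agent.S9815
import Groth.Agent.Lib.SymAlg.Exists
import Groth.Agent.Lib.SymAlg.Gen
import Groth.Agent.Lib.QCoh.Closure
import Groth.Agent.Lib.TensorMod.QCohInv
import Groth.Agent.H81.RelProj.RelTwist
import Groth.Agent.H81.RelProj.Exists
import Groth.Agent.Lib.Ample.Pow

set_option linter.style.haveILetI false

set_option autoImplicit false
universe u
open CategoryTheory CategoryTheory.Limits AlgebraicGeometry TopologicalSpace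
open Variety Opposite

namespace Groth.Agent.S17289

/-- Suppose X is a proper scheme over a field k, and E, F are finite locally free O_X-modules with E → F
surjective. Assume E is ample, meaning that the fundamental module O(1) of the projective bundle
P(E) = Proj(Sym E) → X is ample (for any relative-Proj data of the graded symmetric algebra of E
with its O(1)); then F is ample in the same sense. (The source states this for proper algebraic
spaces over k, together with the analogous assertion for nef modules; this is the ample assertion in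
the case of schemes.) -/
theorem result (k : Type u) [Field k] (X : Scheme.{u})
    [X.Over (Spec (CommRingCat.of k))] [IsProper (X ↘ (Spec (CommRingCat.of k)))] (E F : X.Modules)
    (hE : FlatMod.IsFinLocFree E) (hF : FlatMod.IsFinLocFree F) (φ : E ⟶ F) [Epi φ]
    (hample : ∀ (𝒮 : RelProj.QCGrAlg X) (j : E ⟶ 𝒮.toModule) (P : Scheme.{u}) (p : P ⟶ X)
        (chart : ∀ (U : X.Opens) (hU : IsAffineOpen U),
          (((p ⁻¹ᵁ U : P.Opens) : Scheme.{u}) ≅ Proj (𝒮.deg U hU)))
        (O1 : P.Modules)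
        (lam : ∀ (U : X.Opens) (hU : IsAffineOpen U),
          O1 ⟶ (Scheme.Modules.pushforward (RelProj.emb p chart U hU)).obj (GrTwist.twist (𝒮.deg U hU) 1)),
        RelProj.IsGrSymAlg E 𝒮 j → RelProj.IsRelProj 𝒮 p chart → RelProj.IsRelTwist 𝒮 p chart 1 O1 lam →
        CohB1.IsAmple O1) :
    ∀ (𝒮 : RelProj.QCGrAlg X) (j : F ⟶ 𝒮.toModule) (P : Scheme.{u}) (p : P ⟶ X)
      (chart : ∀ (U : X.Opens) (hU : IsAffineOpen U),
        (((p ⁻¹ᵁ U : P.Opens) : Scheme.{u}) ≅ Proj (𝒮.deg U hU)))
      (O1 : P.Modules)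
      (lam : ∀ (U : X.Opens) (hU : IsAffineOpen U),
        O1 ⟶ (Scheme.Modules.pushforward (RelProj.emb p chart U hU)).obj (GrTwist.twist (𝒮.deg U hU) 1)),
      RelProj.IsGrSymAlg F 𝒮 j → RelProj.IsRelProj 𝒮 p chart → RelProj.IsRelTwist 𝒮 p chart 1 O1 lam →
      CohB1.IsAmple O1 := by
  classical
  have hEq : Coh.IsQCoh E := Groth.Agent.Lib.TensorMod.QCohInv.isQCoh_of_isFinLocFree hE
  have hFq : Coh.IsQCoh F := Groth.Agent.Lib.TensorMod.QCohInv.isQCoh_of_isFinLocFree hF
  haveI : E.IsQuasicoherent := hEq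
  haveI : F.IsQuasicoherent := hFq
  intro 𝒮F jF PB pB chartB O1B lamB hjF hB hLB
  let 𝒮E : RelProj.QCGrAlg X := Groth.Agent.Lib.SymAlg.Exists.grAlg E
  let jE : E ⟶ 𝒮E.toModule := Groth.Agent.Lib.SymAlg.Exists.jmap E
  have hjE : RelProj.IsGrSymAlg E 𝒮E jE := Groth.Agent.Lib.SymAlg.Exists.isGrSymAlg E
  let pA := (Groth.Agent.H81.RelProj.Exists.glueData 𝒮E).toBase
  let chartA := Groth.Agent.H81.RelProj.Exists.chart 𝒮E
  have hA : RelProj.IsRelProj 𝒮E pA chartA := Groth.Agent.H81.RelProj.Exists.isRelProj 𝒮E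
  obtain ⟨O1A, lamA, hLA⟩ := Groth.Agent.H81.RelProj.RelTwist.exists_isRelTwist hA 1
  have hampA := hample 𝒮E jE _ pA chartA O1A lamA hjE hA hLA
  obtain ⟨ψ, hψ, -⟩ := hjE.1 𝒮F.toQCAlg (φ ≫ jF)
  have hψj : ∀ (U : X.Opens) (e : Γ(E, U)), (ψ.hom.app (op U)).hom (jE.app U e) = jF.app U (φ.app U e) :=
    fun U e => congr($(hψ).app U e)
  have hstr : ∀ (U : X.Opens) (r : Γ(X, U)),
      (ψ.hom.app (op U)).hom ((𝒮E.str.app (op U)).hom r) = (𝒮F.str.app (op U)).hom r := fun U r =>
    congr($(ψ.comm).app (op U) r)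
  have hgenE := fun (U : X.Opens) (hU : IsAffineOpen U) => Groth.Agent.Lib.SymAlg.Gen.adj_eq_top' hjE hEq hU
  have hgraded : RelProj.IsGradedHom ψ := by
    intro U hU d x hx
    have key : ∀ y : 𝒮E.presheaf.obj (op U), ∀ i, (ψ.hom.app (op U)).hom
        (DirectSum.decompose (𝒮E.deg U hU) y i : 𝒮E.presheaf.obj (op U)) ∈ 𝒮F.deg U hU i := by
      intro y
      have hy : y ∈ Groth.Agent.Lib.QCAlgSub.Basic.adj 𝒮E.toQCAlg jE U := by rw [hgenE U hU]; trivial
      induction hy using Subring.closure_induction with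
      | mem z hz =>
        intro i
        obtain ⟨k, hzk, hfz⟩ : ∃ k, z ∈ 𝒮E.deg U hU k ∧ (ψ.hom.app (op U)).hom z ∈ 𝒮F.deg U hU k := by
          rcases hz with ⟨r, rfl⟩ | ⟨e, rfl⟩
          · exact ⟨0, 𝒮E.str_mem U hU r, by
              change (ψ.hom.app (op U)).hom ((𝒮E.str.app (op U)).hom r) ∈ _
              rw [hstr]; exact 𝒮F.str_mem U hU r⟩
          · exact ⟨1, hjE.2 U hU e, by
              change (ψ.hom.app (op U)).hom (jE.app U e) ∈ _
              rw [hψj]; exact hjF.2 U hU _⟩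
        by_cases h : k = i
        · subst h; rw [DirectSum.decompose_of_mem_same _ hzk]; exact hfz
        · rw [DirectSum.decompose_of_mem_ne _ hzk h, map_zero]; exact zero_mem _
      | zero => intro i; rw [DirectSum.decompose_zero]; simp
      | one =>
        intro i
        have h1 : (1 : 𝒮E.presheaf.obj (op U)) ∈ 𝒮E.deg U hU 0 := SetLike.GradedOne.one_mem
        by_cases h : 0 = i
        · subst h; rw [DirectSum.decompose_of_mem_same _ h1, map_one]; exact SetLike.GradedOne.one_mem
        · rw [DirectSum.decompose_of_mem_ne _ h1 h, map_zero]; exact zero_mem _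
      | add a b _ _ ha hb =>
        intro i
        rw [DirectSum.decompose_add, DirectSum.add_apply, AddSubgroup.coe_add, map_add]
        exact add_mem (ha i) (hb i)
      | neg a _ ha =>
        intro i
        rw [DirectSum.decompose_neg, DFinsupp.neg_apply, AddSubgroup.coe_neg, map_neg]
        exact neg_mem (ha i)
      | mul a b _ _ ha hb =>
        intro i
        rw [DirectSum.decompose_mul, DirectSum.coe_mul_apply, map_sum]
        refine sum_mem fun p hp => ?_
        rw [map_mul, ← (Finset.mem_filter.1 hp).2]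
        exact SetLike.mul_mem_graded (ha p.1) (hb p.2)
    have := key x d
    rwa [DirectSum.decompose_of_mem_same _ hx] at this
  have hsurj : ∀ (U : X.Opens) (hU : IsAffineOpen U), Function.Surjective (ψ.hom.app (op U)).hom := by
    intro U hU z
    suffices ⊤ ≤ (ψ.hom.app (op U)).hom.range from this (Subring.mem_top z)
    rw [← Groth.Agent.Lib.SymAlg.Gen.adj_eq_top' hjF hFq hU]
    refine Subring.closure_le.2 ?_
    rintro _ (⟨r, rfl⟩ | ⟨f, rfl⟩)
    · exact ⟨_, hstr U r⟩
    · obtain ⟨e, rfl⟩ := Groth.Agent.Lib.QCoh.Closure.sections_surjective_of_epi φ hU f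
      exact ⟨_, hψj U e⟩
  have hirr : ∀ (U : X.Opens) (hU : IsAffineOpen U),
      HomogeneousIdeal.irrelevant (𝒮F.deg U hU) ≤
        (HomogeneousIdeal.irrelevant (𝒮E.deg U hU)).map (RelProj.gradedHomAt ψ hgraded U hU) := by
    intro U hU
    refine (HomogeneousIdeal.irrelevant_le _).2 fun i hi b hb => ?_
    obtain ⟨a, ha⟩ := hsurj U hU b
    have hab : RelProj.gradedHomAt ψ hgraded U hU (DirectSum.decompose (𝒮E.deg U hU) a i : 𝒮E.presheaf.obj (op U)) = b := by
      refine (Groth.Agent.H81.RelProj.TildeLocal.decompose_map (ℳ := 𝒮E.deg U hU) (𝒩 := 𝒮F.deg U hU)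
        (ψ.hom.app (op U)).hom (fun k m hm => hgraded U hU k m hm) a i).trans ?_
      rw [ha, DirectSum.decompose_of_mem_same (𝒮F.deg U hU) hb]
    rw [← hab]
    exact Ideal.mem_map_of_mem _ (HomogeneousIdeal.mem_irrelevant_of_mem _ hi (SetLike.coe_mem _))
  obtain ⟨⟨h, hh, -⟩, -⟩ := Groth.Agent.S8262.result ψ hgraded hirr pA pB chartA chartB hA hB
  haveI : IsClosedImmersion h :=
    Groth.Agent.S8263.result ψ hgraded hsurj hirr pA pB chartA chartB hA hB h hh
  obtain ⟨e⟩ := Groth.Agent.S8287.result ψ hgraded (Groth.Agent.Lib.SymAlg.Gen.isGenDegOne hjE hEq) hsurj hirr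
    pA pB chartA chartB hA hB h hh 1 O1A lamA hLA O1B lamB hLB
  haveI := hampA.2.1
  haveI : CompactSpace PB := h.isClosedEmbedding.compactSpace
  exact Groth.Agent.Lib.Ample.Pow.isAmple_of_iso e
    (Groth.Agent.S9815.result h h.isClosedEmbedding.isEmbedding O1A hampA)

end Groth.Agent.S17289
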