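import Groth.Statements.S1729
import Mathlib.RingTheory.LocalRing.Module
import Mathlib.RingTheory.TensorProduct.Free

set_option autoImplicit false
universe u
open Dual2

namespace Groth.Agent.S1729

/-- Over a local ring, every finite module M admits a projective cover: a surjection from a projective
module P onto M such that no proper submodule of P maps onto M. -/
theorem result (R : Type u) [CommRing R] [IsLocalRing R] (M : Type u) [AddCommGroup M] [Module R M] [Module.Finite R M] : ∃ (P : Type u) (_ : AddCommGroup P) (_ : Module R P) (f : P →ₗ[R] M), Dual2.IsProjectiveCover f := by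

  let k := IsLocalRing.ResidueField R
  let bk := Module.finBasis k (TensorProduct R k M)
  have hsurj : Function.Surjective (TensorProduct.mk R k M 1) :=
    TensorProduct.mk_surjective _ _ _ Ideal.Quotient.mk_surjective
  choose v hv using fun i => hsurj (bk i)
  let n := Module.finrank k (TensorProduct R k M)
  have hspan : Submodule.span R (Set.range v) = ⊤ :=
    IsLocalRing.span_eq_top_of_tmul_eq_basis (R := R) v bk hv
  let f : (Fin n → R) →ₗ[R] M := Fintype.linearCombination R v
  have hfs : Function.Surjective f := by
    rw [← LinearMap.range_eq_top, Fintype.range_linearCombination, hspan]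
  refine ⟨Fin n → R, inferInstance, inferInstance, f, inferInstance, hfs, fun N hN => ?_⟩
  refine top_le_iff.mp (Submodule.le_of_le_smul_of_le_jacobson_bot Module.Finite.fg_top
    (IsLocalRing.maximalIdeal_le_jacobson ⊥) fun x _ => ?_)
  obtain ⟨y, hy, hyx⟩ : f x ∈ Submodule.map f N := by rw [hN]; trivial
  refine Submodule.mem_sup.mpr ⟨y, hy, x - y, ?_, by abel⟩
  have h0 : f (x - y) = 0 := by rw [map_sub, hyx, sub_self]
  generalize x - y = z at h0 ⊢
  have hz : ∑ i, z i • bk i = 0 := by
    have h1 := congrArg (TensorProduct.mk R k M 1) h0
    simpa [f, Fintype.linearCombination_apply, hv] using h1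
  have hmem : ∀ i, z i ∈ IsLocalRing.maximalIdeal R := fun i => by
    have h2 : ∑ i, (IsLocalRing.residue R (z i)) • bk i = 0 := by
      simpa [IsScalarTower.algebraMap_smul, ← IsLocalRing.ResidueField.algebraMap_eq] using hz
    exact Ideal.Quotient.eq_zero_iff_mem.mp (Fintype.linearIndependent_iff.mp bk.linearIndependent _ h2 i)
  rw [show z = ∑ i, z i • (Pi.single i (1 : R) : Fin n → R) from (pi_eq_sum_univ' z)]
  exact Submodule.sum_mem _ fun i _ => Submodule.smul_mem_smul (hmem i) trivial

end Groth.Agent.S1729
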