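import Groth.Statements.S17290
import Groth.Agent.H97.NefBundle
import Groth.Agent.Lib.Cyc.CH.BdlExists
-- import your own Groth.Agent.* helpers here

set_option autoImplicit false
universe u
open CategoryTheory CategoryTheory.Limits AlgebraicGeometry TopologicalSpace
open Variety

namespace Groth.Agent.S17290

/-- Scheme case, curve-test form of nefness: let X be a proper scheme over a field k, E a finite locally
free O_X-module, k'/k a field extension, X' = X ×_k Spec k' and E' the pullback of E to X'. Then E
is nef over k in the curve-test sense (for every regular projective curve C over k — integral,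
proper over k, of dimension one, all local rings regular — every k-morphism f : C → X and every
invertible quotient f^*E → M, deg M = χ(M) - χ(O_C) ≥ 0) if and only if E' is nef over k' in the
same sense (test curves being regular projective curves over k' with k'-morphisms to X'). (The
published statement asserts that E is nef if and only if its pullback is nef for every field
extension k' of k, and its converse is the case k' = k; this row states the equivalence for one
given extension k', so its converse, that nefness over k' implies nefness over k, is stronger than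
the published one. The source states this for proper algebraic spaces with nefness of O(1) on P(E);
on proper schemes the two senses of nef agree by the Barton–Kleiman criterion.) -/
theorem result (k : Type u) [Field k] (X : Scheme.{u})
    [X.Over (Spec (CommRingCat.of k))] [IsProper (X ↘ (Spec (CommRingCat.of k)))] (E : X.Modules) (hE : FlatMod.IsFinLocFree E)
    (k' : Type u) [Field k'] [Algebra k k'] :
    (∀ (C : Scheme.{u}) [C.Over (Spec (CommRingCat.of k))] [IsProper (C ↘ (Spec (CommRingCat.of k)))] [IsIntegral C],
      topologicalKrullDim C = 1 → (∀ x : C, IsRegularLocalRing (C.presheaf.stalk x)) →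
      ∀ (f : C ⟶ X), f ≫ (X ↘ (Spec (CommRingCat.of k))) = C ↘ (Spec (CommRingCat.of k)) →
      ∀ (M : C.Modules), PicF.IsInvertible M →
      ∀ (q : (Scheme.Modules.pullback f).obj E ⟶ M), Epi q → 0 ≤ Curv2.deg k C M 1) ↔
    (∀ (C' : Scheme.{u}) [C'.Over (Spec (CommRingCat.of k'))] [IsProper (C' ↘ (Spec (CommRingCat.of k')))] [IsIntegral C'],
      topologicalKrullDim C' = 1 → (∀ x : C', IsRegularLocalRing (C'.presheaf.stalk x)) →
      ∀ (g : C' ⟶ (Curv2.bc k X k')), g ≫ Curv2.bcSnd k X k' = C' ↘ (Spec (CommRingCat.of k')) →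
      ∀ (M : C'.Modules), PicF.IsInvertible M →
      ∀ (q : (Scheme.Modules.pullback g).obj ((Scheme.Modules.pullback (Curv2.bcFst k X k')).obj E) ⟶ M), Epi q → 0 ≤ Curv2.deg k' C' M 1) := by
  letI : (Curv2.bc k X k').Over (Spec (CommRingCat.of k')) := ⟨Curv2.bcSnd k X k'⟩
  have hsq : IsPullback (Curv2.bcFst k X k') (Curv2.bc k X k' ↘ Spec (CommRingCat.of k'))
      (X ↘ Spec (CommRingCat.of k)) (Spec.map (CommRingCat.ofHom (algebraMap k k'))) :=
    IsPullback.of_hasPullback _ _
  haveI := Groth.Agent.H97.NefBC.isProper_sq hsq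
  constructor
  · intro h C' _ _ _ hC _ g hg M hM q hq
    obtain ⟨P, p, O1, u, hPB, hp, -⟩ := Groth.Agent.Lib.Cyc.CH.BdlExists.exists_proper E hE
    haveI := hp
    haveI := hPB.epi
    letI : P.Over (Spec (CommRingCat.of k)) := ⟨p ≫ (X ↘ Spec (CommRingCat.of k))⟩
    haveI : IsProper (P ↘ Spec (CommRingCat.of k)) :=
      inferInstanceAs (IsProper (p ≫ (X ↘ Spec (CommRingCat.of k))))
    have hO := Groth.Agent.Lib.TensorMod.LocFree.isInvertible_of_rank_one hPB.invertible
    have hnef := Groth.Agent.H97.NefBundle.nefCl_quotient (k := k) h p rfl hO u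
    let P' := pullback p (Curv2.bcFst k X k')
    letI : P'.Over (Spec (CommRingCat.of k')) :=
      ⟨pullback.snd p (Curv2.bcFst k X k') ≫ (Curv2.bc k X k' ↘ Spec (CommRingCat.of k'))⟩
    haveI : IsProper (P' ↘ Spec (CommRingCat.of k')) :=
      inferInstanceAs (IsProper (pullback.snd p (Curv2.bcFst k X k') ≫ (Curv2.bc k X k' ↘ Spec (CommRingCat.of k'))))
    have hsqP : IsPullback (pullback.fst p (Curv2.bcFst k X k')) (P' ↘ Spec (CommRingCat.of k'))
        (P ↘ Spec (CommRingCat.of k)) (Spec.map (CommRingCat.ofHom (algebraMap k k'))) :=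
      (IsPullback.of_hasPullback p (Curv2.bcFst k X k')).paste_vert hsq
    have hnef' := Groth.Agent.H97.NefBC.nefCl_baseChange hsqP hO hnef
    haveI := hq
    obtain ⟨r, ⟨hr, e, -⟩, -⟩ := hPB.univ C' (g ≫ Curv2.bcFst k X k') M
      (Groth.Agent.Lib.TensorMod.LocFree.of_isInvertible hM)
      (((Scheme.Modules.pullbackComp g (Curv2.bcFst k X k')).app E).inv ≫ q) inferInstance
    let h' : C' ⟶ P' := pullback.lift r g hr
    have hh' : h' ≫ (P' ↘ Spec (CommRingCat.of k')) = C' ↘ Spec (CommRingCat.of k') :=
      (pullback.lift_snd_assoc _ _ _ _).trans hg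
    have hd := Groth.Agent.H97.NefBundle.deg_nonneg_of_nefCl (k := k') hC h' hh'
      (PicLoc.isInvertible_pullback _ hO) hnef'
    have e' : (Scheme.Modules.pullback h').obj
        ((Scheme.Modules.pullback (pullback.fst p (Curv2.bcFst k X k'))).obj O1) ≅ M :=
      (Scheme.Modules.pullbackComp h' (pullback.fst p (Curv2.bcFst k X k'))).app O1 ≪≫
        (Scheme.Modules.pullbackCongr (pullback.lift_fst r g hr)).app O1 ≪≫ e
    unfold Curv2.deg at hd ⊢
    rw [Groth.Agent.Lib.Curves.Euler.euler_eq_of_iso (k := k') e'] at hd
    exact hd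
  · intro h C _ _ _ hC _ f hf M hM q hq
    haveI := hq
    haveI := Groth.Agent.Lib.Curves.GlobalSections.isNoetherian_of_proper k C
    let C' := pullback f (Curv2.bcFst k X k')
    letI : C'.Over (Spec (CommRingCat.of k')) :=
      ⟨pullback.snd f (Curv2.bcFst k X k') ≫ (Curv2.bc k X k' ↘ Spec (CommRingCat.of k'))⟩
    have hsqC : IsPullback (pullback.fst f (Curv2.bcFst k X k')) (C' ↘ Spec (CommRingCat.of k'))
        (C ↘ Spec (CommRingCat.of k)) (Spec.map (CommRingCat.ofHom (algebraMap k k'))) := by
      rw [← hf]
      exact (IsPullback.of_hasPullback f (Curv2.bcFst k X k')).paste_vert hsq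
    haveI := Groth.Agent.H97.NefBC.isProper_sq hsqC
    have hC' : topologicalKrullDim C' = 1 :=
      (Groth.Agent.H56.DimBaseChange.topologicalKrullDim_baseChange _ _ _ _ hsqC).trans hC
    haveI : (Scheme.Modules.pullback (pullback.fst f (Curv2.bcFst k X k'))).PreservesEpimorphisms :=
      Functor.preservesEpimorphisms_of_adjunction (Scheme.Modules.pullbackPushforwardAdjunction _)
    haveI : Epi ((Scheme.Modules.pullback (pullback.fst f (Curv2.bcFst k X k'))).map q) := Functor.map_epi _ q
    let e : (Scheme.Modules.pullback (pullback.fst f (Curv2.bcFst k X k'))).obj ((Scheme.Modules.pullback f).obj E) ≅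
        (Scheme.Modules.pullback (pullback.snd f (Curv2.bcFst k X k'))).obj
          ((Scheme.Modules.pullback (Curv2.bcFst k X k')).obj E) :=
      (Scheme.Modules.pullbackComp _ f).app E ≪≫ (Scheme.Modules.pullbackCongr pullback.condition).app E ≪≫
        ((Scheme.Modules.pullbackComp _ (Curv2.bcFst k X k')).app E).symm
    have hd := Groth.Agent.S17284.result k' (Curv2.bc k X k') _ (Groth.Agent.Lib.TensorMod.LocFree.isFinLocFree_pullback _ hE) h C' hC'
      (pullback.snd f (Curv2.bcFst k X k')) rfl _
      (PicLoc.isInvertible_pullback (pullback.fst f (Curv2.bcFst k X k')) hM)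
      (e.inv ≫ (Scheme.Modules.pullback (pullback.fst f (Curv2.bcFst k X k'))).map q) inferInstance
    unfold Curv2.deg at hd ⊢
    rw [← Groth.Agent.Lib.Curves.Euler.euler_eq_of_iso (k := k')
        (PicLoc.pullbackStructureIso (pullback.fst f (Curv2.bcFst k X k'))),
      Groth.Agent.Lib.IntTheory.BaseChange.euler hsqC (Groth.Agent.Lib.Ample.GG.isCoh_of_isInvertible hM),
      Groth.Agent.Lib.IntTheory.BaseChange.euler hsqC (Groth.Agent.Lib.Snapper.Twist.isCoh_structureModule C)] at hd
    exact hd

end Groth.Agent.S17290
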