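import Groth.Statements.S17292
import Groth.Agent.S0054
import Groth.Agent.S9815
import Groth.Agent.S4418
import Groth.Agent.S5729
import Groth.Agent.Lib.QAffVA.Main
import Groth.Agent.H81.RelProj.TwistInv
import Groth.Agent.Lib.SymAlg.Gen
import Groth.Agent.Lib.Perfect.Coherent
import Groth.Agent.Lib.Ample.Pow
-- import your own Groth.Agent.* helpers here

set_option autoImplicit false
universe u
open CategoryTheory CategoryTheory.Limits AlgebraicGeometry TopologicalSpace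
open Variety

namespace Groth.Agent.S17292

open Groth.Agent.Lib Groth.Agent.Lib.H70 Groth.Agent.H81.RelProj Opposite in
/-- Base change of a projective bundle to any given model. -/
theorem bc_given {Y Y' : Scheme.{u}} (ψ : Y' ⟶ Y) {E : Y.Modules} [E.IsQuasicoherent] {𝒮 : RelProj.QCGrAlg Y}
    {j : E ⟶ 𝒮.toModule} (hj : RelProj.IsGrSymAlg E 𝒮 j) {P : Scheme.{u}} {p : P ⟶ Y}
    {chart : ∀ (U : Y.Opens) (hU : IsAffineOpen U), (((p ⁻¹ᵁ U : P.Opens) : Scheme.{u}) ≅ Proj (𝒮.deg U hU))}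
    (hP : RelProj.IsRelProj 𝒮 p chart) {O1 : P.Modules}
    {lam : ∀ (U : Y.Opens) (hU : IsAffineOpen U),
      O1 ⟶ (Scheme.Modules.pushforward (RelProj.emb p chart U hU)).obj (GrTwist.twist (𝒮.deg U hU) 1)}
    (hO : RelProj.IsRelTwist 𝒮 p chart 1 O1 lam)
    {𝒯 : RelProj.QCGrAlg Y'} {jT : (Scheme.Modules.pullback ψ).obj E ⟶ 𝒯.toModule}
    (hT : RelProj.IsGrSymAlg ((Scheme.Modules.pullback ψ).obj E) 𝒯 jT) {P' : Scheme.{u}} {p' : P' ⟶ Y'}
    {chart' : ∀ (U : Y'.Opens) (hU : IsAffineOpen U), (((p' ⁻¹ᵁ U : P'.Opens) : Scheme.{u}) ≅ Proj (𝒯.deg U hU))}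
    (hP' : RelProj.IsRelProj 𝒯 p' chart') {O1' : P'.Modules}
    {lam' : ∀ (U : Y'.Opens) (hU : IsAffineOpen U),
      O1' ⟶ (Scheme.Modules.pushforward (RelProj.emb p' chart' U hU)).obj (GrTwist.twist (𝒯.deg U hU) 1)}
    (hO' : RelProj.IsRelTwist 𝒯 p' chart' 1 O1' lam') :
    ∃ g : P' ⟶ P, IsPullback g p' p ψ ∧ Nonempty ((Scheme.Modules.pullback g).obj O1 ≅ O1') := by
  obtain ⟨u, hu₁, hu₂⟩ := SymBC.exists_u hj ψ (𝒯 := 𝒯) (jT := jT)
  let φ : ∀ (U : Y.Opens) (hU : IsAffineOpen U) (U' : Y'.Opens) (hU' : IsAffineOpen U') (_ : U' ≤ ψ ⁻¹ᵁ U),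
      𝒮.deg U hU →+*ᵍ 𝒯.deg U' hU' := fun U hU U' hU' hle =>
    { toRingHom := (SymBC.comp ψ u U U' hle).hom
      map_mem := fun {d x} hx => SymBC.comp_mem hj ψ hT hu₁ hu₂ U hU U' hU' hle d x hx }
  have hirr : ∀ (U : Y.Opens) (hU : IsAffineOpen U) (U' : Y'.Opens) (hU' : IsAffineOpen U') (hle : U' ≤ ψ ⁻¹ᵁ U),
      HomogeneousIdeal.irrelevant (𝒯.deg U' hU') ≤
        (HomogeneousIdeal.irrelevant (𝒮.deg U hU)).map (φ U hU U' hU' hle) := fun U hU U' hU' hle =>
    SymBC.irrelevant_le hj ψ hT hu₂ U hU U' hU' hle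
  have hpo := SymBC.isPushout hj ψ hT hu₁ hu₂
  obtain ⟨g, hg⟩ := BundleBC.exists_glue (φ := φ) (fun _ _ _ _ _ => rfl) hirr hP hP'
  exact ⟨g, BaseChange.isPullback ψ (φ := φ) (fun _ _ _ _ _ => rfl) hpo hirr hP hP' hg,
    Groth.Agent.S8335.result ψ 𝒮 𝒯 u hu₁ φ (fun _ _ _ _ _ => rfl) hpo hirr p chart hP _ _
      hP' g hg 1 O1 lam hO O1' lam' hO'⟩

/-- Let Y be a Noetherian scheme, f : X → Y a proper morphism of schemes and E a finite locally free
O_X-module. Then the set of points y of Y such that the restriction E_y of E to the fibre X_y is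
ample — meaning that the fundamental module O(1) of the projective bundle P(E_y) = Proj(Sym E_y) →
X_y is ample, for any relative-Proj data of the graded symmetric algebra of E_y with its O(1) — is
open in Y: if E_y is ample then E_{y'} is ample for every y' in some open neighbourhood of y. (The
source allows X to be an algebraic space proper over Y; this is the case of schemes.) -/
theorem result (X Y : Scheme.{u}) [IsNoetherian Y] (f : X ⟶ Y) [IsProper f]
    (E : X.Modules) (hE : FlatMod.IsFinLocFree E) :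
    IsOpen {y : Y | ∀ (𝒮 : RelProj.QCGrAlg (f.fiber y)) (j : ((Scheme.Modules.pullback (f.fiberι y)).obj E) ⟶ 𝒮.toModule) (P : Scheme.{u}) (p : P ⟶ (f.fiber y))
        (chart : ∀ (U : (f.fiber y).Opens) (hU : IsAffineOpen U),
          (((p ⁻¹ᵁ U : P.Opens) : Scheme.{u}) ≅ Proj (𝒮.deg U hU)))
        (O1 : P.Modules)
        (lam : ∀ (U : (f.fiber y).Opens) (hU : IsAffineOpen U),
          O1 ⟶ (Scheme.Modules.pushforward (RelProj.emb p chart U hU)).obj (GrTwist.twist (𝒮.deg U hU) 1)),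
        RelProj.IsGrSymAlg ((Scheme.Modules.pullback (f.fiberι y)).obj E) 𝒮 j → RelProj.IsRelProj 𝒮 p chart → RelProj.IsRelTwist 𝒮 p chart 1 O1 lam →
        CohB1.IsAmple O1} := by
  classical
  have hEq : Coh.IsQCoh E := Groth.Agent.Lib.TensorMod.QCohInv.isQCoh_of_isFinLocFree hE
  haveI : E.IsQuasicoherent := hEq
  have hFT : CohB1.IsFT E := (Groth.Agent.Lib.Perfect.Coherent.isCoh_of_isFinLocFree hE).2
  let 𝒮 : RelProj.QCGrAlg X := Groth.Agent.Lib.SymAlg.Exists.grAlg E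
  let jE : E ⟶ 𝒮.toModule := Groth.Agent.Lib.SymAlg.Exists.jmap E
  have hj : RelProj.IsGrSymAlg E 𝒮 jE := Groth.Agent.Lib.SymAlg.Exists.isGrSymAlg E
  let p := (Groth.Agent.H81.RelProj.Exists.glueData 𝒮).toBase
  let chart := Groth.Agent.H81.RelProj.Exists.chart 𝒮
  have hP : RelProj.IsRelProj 𝒮 p chart := Groth.Agent.H81.RelProj.Exists.isRelProj 𝒮
  obtain ⟨O1, lam, hO⟩ := Groth.Agent.H81.RelProj.RelTwist.exists_isRelTwist hP 1
  have hinv : PicF.IsInvertible O1 :=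
    Groth.Agent.H81.RelProj.TwistInv.isInvertible (Groth.Agent.Lib.SymAlg.Gen.isGenDegOne hj hEq) hO
  haveI : IsProper p := (Groth.Agent.S4418.result p ((Groth.Agent.S5729.result p).2
    ⟨E, 𝒮, jE, _, p, chart, 𝟙 _, hEq, hFT, hj, hP, inferInstance, Category.id_comp _⟩)).2
  rw [isOpen_iff_forall_mem_open]
  intro y hy
  let ψ := f.fiberι y
  let 𝒯 := Groth.Agent.Lib.SymAlg.Exists.grAlg ((Scheme.Modules.pullback ψ).obj E)
  have hEy : Coh.IsQCoh ((Scheme.Modules.pullback ψ).obj E) := inferInstance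
  haveI : ((Scheme.Modules.pullback ψ).obj E).IsQuasicoherent := hEy
  have hT := Groth.Agent.Lib.SymAlg.Exists.isGrSymAlg ((Scheme.Modules.pullback ψ).obj E)
  have hP' := Groth.Agent.H81.RelProj.Exists.isRelProj 𝒯
  obtain ⟨O1', lam', hO'⟩ := Groth.Agent.H81.RelProj.RelTwist.exists_isRelTwist hP' 1
  obtain ⟨g, hg, ⟨e⟩⟩ := bc_given ψ hj hP hO hT hP' hO'
  have hamp' := hy 𝒯 _ _ _ _ O1' lam' hT hP' hO'
  have hsq : IsPullback g ((Groth.Agent.H81.RelProj.Exists.glueData 𝒯).toBase ≫ f.fiberToSpecResidueField y)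
      (p ≫ f) (Y.fromSpecResidueField y) := hg.paste_vert (IsPullback.of_hasPullback f (Y.fromSpecResidueField y))
  let i := (IsPullback.of_hasPullback (p ≫ f) (Y.fromSpecResidueField y)).isoIsPullback _ _ hsq
  have hi : i.hom ≫ g = (p ≫ f).fiberι y := IsPullback.isoIsPullback_hom_fst _ _ _ _
  have hamp : CohB1.IsAmple ((Scheme.Modules.pullback ((p ≫ f).fiberι y)).obj O1) := by
    refine Groth.Agent.Lib.Ample.Pow.isAmple_of_iso
      ((Scheme.Modules.pullback i.hom).mapIso e.symm ≪≫ (Scheme.Modules.pullbackComp i.hom g).app O1 ≪≫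
        (Scheme.Modules.pullbackCongr hi).app O1) ?_
    haveI := hamp'.2.1
    haveI : CompactSpace ↥((p ≫ f).fiber y) := i.hom.homeomorph.symm.compactSpace
    exact Groth.Agent.S9815.result i.hom i.hom.homeomorph.isEmbedding O1' hamp'
  obtain ⟨V, hyV, hV⟩ := Groth.Agent.S0054.result (p ≫ f) O1 hinv y hamp
  obtain ⟨W, hW, hyW, hWV⟩ := exists_isAffineOpen_mem_and_subset (X := Y) (x := y) (U := V) hyV
  refine ⟨W, fun z hz 𝒰 jU Q q chartQ O1Q lamQ hjQ hQ hOQ => ?_, W.2, hyW⟩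
  obtain ⟨g, hg, ⟨e⟩⟩ := bc_given (f.fiberι z) hj hP hO hjQ hQ hOQ
  have hsq : IsPullback g (q ≫ f.fiberToSpecResidueField z) (p ≫ f) (Y.fromSpecResidueField z) :=
    hg.paste_vert (IsPullback.of_hasPullback f (Y.fromSpecResidueField z))
  haveI : IsPreimmersion g := MorphismProperty.of_isPullback (P := @IsPreimmersion) hsq.flip inferInstance
  have hr : Set.range g ⊆ Set.range ((p ≫ f) ⁻¹ᵁ W).ι := by
    rw [Scheme.Opens.range_ι]
    rintro _ ⟨a, rfl⟩
    show (p ≫ f) (g a) ∈ W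
    rw [← Scheme.Hom.comp_apply, hsq.w, Scheme.Hom.comp_apply]
    rw [Scheme.fromSpecResidueField_apply]
    exact hz
  let l := IsOpenImmersion.lift ((p ≫ f) ⁻¹ᵁ W).ι g hr
  have hl : l ≫ ((p ≫ f) ⁻¹ᵁ W).ι = g := IsOpenImmersion.lift_fac _ _ _
  haveI : IsPreimmersion (l ≫ ((p ≫ f) ⁻¹ᵁ W).ι) := hl.symm ▸ inferInstance
  haveI : IsPreimmersion l := IsPreimmersion.of_comp l ((p ≫ f) ⁻¹ᵁ W).ι
  haveI : IsProper q := MorphismProperty.of_isPullback (P := @IsProper) hg inferInstance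
  haveI : CompactSpace Q := by
    haveI : QuasiCompact (q ≫ f.fiberToSpecResidueField z) :=
      MorphismProperty.of_isPullback (P := @QuasiCompact) hsq inferInstance
    exact (quasiCompact_iff_compactSpace (q ≫ f.fiberToSpecResidueField z)).1 inferInstance
  refine Groth.Agent.Lib.Ample.Pow.isAmple_of_iso
    ((Scheme.Modules.pullback l).mapIso ((Scheme.Modules.restrictFunctorIsoPullback ((p ≫ f) ⁻¹ᵁ W).ι).app O1) ≪≫
      (Scheme.Modules.pullbackComp l ((p ≫ f) ⁻¹ᵁ W).ι).app O1 ≪≫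
      (Scheme.Modules.pullbackCongr hl).app O1 ≪≫ e) ?_
  exact Groth.Agent.S9815.result l l.isEmbedding _ (hV W hWV hW)

end Groth.Agent.S17292
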