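import Groth.Statements.S1730


set_option autoImplicit false
universe u
open Dual2

namespace Groth.Agent.S1730

/-- If f : P → M and f' : P' → M are two projective covers of an R-module M, then there is an
isomorphism P ≃ P' compatible with the maps to M. -/
theorem result (R : Type u) [CommRing R] (M P P' : Type u) [AddCommGroup M] [Module R M] [AddCommGroup P] [Module R P] [AddCommGroup P'] [Module R P'] (f : P →ₗ[R] M) (f' : P' →ₗ[R] M) (hf : Dual2.IsProjectiveCover f) (hf' : Dual2.IsProjectiveCover f') : ∃ e : P ≃ₗ[R] P', f' ∘ₗ e.toLinearMap = f := by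

  have := hf.projective
  obtain ⟨g, hg⟩ := Module.projective_lifting_property f' f hf'.surjective
  have hgs : Function.Surjective g := by
    rw [← LinearMap.range_eq_top]
    refine hf'.essential _ ?_
    rw [← LinearMap.range_comp, hg, LinearMap.range_eq_top]
    exact hf.surjective
  have := hf'.projective
  obtain ⟨s, hs⟩ := Module.projective_lifting_property g (LinearMap.id) hgs
  have hfs : f ∘ₗ s = f' := by rw [← hg, LinearMap.comp_assoc, hs, LinearMap.comp_id]
  have hss : Function.Surjective s := by
    rw [← LinearMap.range_eq_top]
    refine hf.essential _ ?_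
    rw [← LinearMap.range_comp, hfs, LinearMap.range_eq_top]
    exact hf'.surjective
  have hgi : Function.Injective g := by
    intro a b hab
    obtain ⟨a', rfl⟩ := hss a
    obtain ⟨b', rfl⟩ := hss b
    have h1 : ∀ x, g (s x) = x := fun x => LinearMap.congr_fun hs x
    rw [h1, h1] at hab
    rw [hab]
  exact ⟨LinearEquiv.ofBijective g ⟨hgi, hgs⟩, hg⟩

end Groth.Agent.S1730
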