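import Groth.Statements.S17306
import Groth.Agent.H54.CMAffine
import Groth.Agent.H54.CMMor
import Groth.Agent.H54.CMField
import Groth.Agent.Lib.Unram.StalkTower
import Groth.Agent.Lib.GorenMor.BaseChange

set_option autoImplicit false
universe u
open CurvSt

namespace Groth.Agent.S17306

open CategoryTheory AlgebraicGeometry in
/-- Let X be a proper scheme of dimension at most 1 over a field k, and Spec k → S a point of the base.
The classifying object of X in the stack of curves over S lies in the Cohen–Macaulay open substack —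
by definition of that substack: the morphism of sheaves h_X → h_{Spec k} induced by X → Spec k is,
in every etale chart diagram, a morphism of schemes flat with Cohen–Macaulay fibre local rings at
every point — if and only if X is Cohen–Macaulay, i.e. all local rings of X are Cohen–Macaulay local
rings. -/
theorem result (S : Scheme.{u}) (k : Type u) [Field k] (t : Spec (CommRingCat.of k) ⟶ S)
    (X : Scheme.{u}) (p : X ⟶ Spec (CommRingCat.of k)) [IsProper p] (hdim : topologicalKrullDim ↥X ≤ 1) :
    AlgSp.LocP (fun _ _ g => ∀ x, MoreMor.IsCMAt g x) ((AlgSp.yon S).map (Over.homMk p rfl : Over.mk (p ≫ t) ⟶ Over.mk t)) ↔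
      ∀ x : ↥X, LocCoh.IsCohenMacaulayLocalRing (X.presheaf.stalk x) := by

  constructor
  · intro h x
    exact (Groth.Agent.H54.CMField.isCMAt_iff_stalk p x).1 (AlgSp.locP_yon_map h x)
  intro hp U V a b h ha hb w
  obtain ⟨a₀, rfl⟩ := (AlgSp.yon S).map_surjective a
  obtain ⟨b₀, rfl⟩ := (AlgSp.yon S).map_surjective b
  haveI : Etale a₀.left := (AlgSp.repWith_yon_map_iff _ _).1 ha
  haveI : Etale b₀.left := (AlgSp.repWith_yon_map_iff _ _).1 hb
  have e : a₀.left ≫ p = h.left ≫ b₀.left := by
    have := congrArg (fun m => CommaMorphism.left m) ((AlgSp.yon S).map_injective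
      (((AlgSp.yon S).map_comp _ _).trans (w.trans ((AlgSp.yon S).map_comp _ _).symm)))
    exact this
  intro u
  have h1 := Groth.Agent.H54.CMMor.isCMAt_comp a₀.left p u
    (Groth.Agent.Lib.GorenMor.BaseChange.isLocallyNoetherian_fiber _)
    (Groth.Agent.H54.CMAffine.isCMAt_of_smooth a₀.left u)
    ((Groth.Agent.H54.CMField.isCMAt_iff_stalk p _).2 (hp _))
  rw [e] at h1
  exact (Groth.Agent.H54.CMMor.isCMAt_of_comp h.left b₀.left u h1
    (Groth.Agent.Lib.Unram.StalkTower.flat_stalkMap_of_unramified h.left b₀.left u
      (FormallyUnramified.stalkMap b₀.left (h.left u)) h1.1)).1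

end Groth.Agent.S17306
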