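import Groth.Statements.S1731
import Groth.Agent.Lib.TorExt36.Vanish

set_option autoImplicit false
universe u
open CategoryTheory
open scoped TensorProduct
attribute [local instance] HasDerivedCategory.standard
open LocCoh

namespace Groth.Agent.S1731

/-- Statement for modules: let A → B be a flat ring map and I a finitely generated ideal of A such that
A → B/IB is surjective with kernel I (so A/I ≅ B/IB). If M is an I-power torsion A-module, then for
every A-module N and every integer i the group of maps M → N[i] in D(A) is isomorphic to the group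
of maps B ⊗_A M → (B ⊗_A N)[i] in D(B). (Only the existence of an isomorphism is asserted; the
published statement shows that the base-change map is one.) -/
theorem result (A B : Type u) [CommRing A] [CommRing B] [Algebra A B] [Module.Flat A B] (I : Ideal A) (hI : I.FG) (hs : Function.Surjective ((Ideal.Quotient.mk (I.map (algebraMap A B))).comp (algebraMap A B))) (hk : RingHom.ker ((Ideal.Quotient.mk (I.map (algebraMap A B))).comp (algebraMap A B)) = I) (M N : Type u) [AddCommGroup M] [Module A M] [AddCommGroup N] [Module A N] (hM : LocCoh.IsPowerTorsion I M) (i : ℤ) : Nonempty ((Dual.inD A M ⟶ (Dual.inD A N)⟦i⟧) ≃+ (Dual.inD B (B ⊗[A] M) ⟶ (Dual.inD B (B ⊗[A] N))⟦i⟧)) := by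
  obtain ⟨h⟩ : Nonempty (Function.Bijective ((Groth.Agent.Lib.DMod.FlatHom.L A B).mapAddHom :
      ((Dual.inD A M)⟦-i⟧ ⟶ Dual.inD A N) →+ _)) := by
    refine ⟨?_⟩
    have h := (((Groth.Agent.Lib.DMod.FlatHom.adj A B).homEquiv _ _).symm.bijective).comp
      (Groth.Agent.Lib.TorExt36.Vanish.bijective_η hs hk hI M N hM (-i))
    refine Groth.Agent.Lib.DMod.FlatHom.bij_congr h fun f => ?_
    exact (congrArg _ (Groth.Agent.Lib.TorExt36.Vanish.comp_η (B := B) f)).trans
      (Equiv.symm_apply_apply _ _)
  exact ⟨(Groth.Agent.Lib.DMod.Cones.homNeg (Dual.inD A M) (Dual.inD A N) i).symm.toAddEquiv.trans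
    ((AddEquiv.ofBijective _ h).trans
      ((Linear.homCongr B
          (((Groth.Agent.Lib.DMod.FlatHom.L A B).commShiftIso (-i)).app (Dual.inD A M) ≪≫
            (shiftFunctor (Dual.D B) (-i)).mapIso Groth.Agent.Lib.DR.FlatBC.mapInD)
          Groth.Agent.Lib.DR.FlatBC.mapInD).toAddEquiv.trans
        (Groth.Agent.Lib.DMod.Cones.homNeg (Dual.inD B (B ⊗[A] M)) (Dual.inD B (B ⊗[A] N))
          i).toAddEquiv))⟩

end Groth.Agent.S1731
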