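import Groth.Statements.S17313
import Groth.Agent.H14.GenFam.QAff
import Groth.Agent.H14.GenFam.Reduce

set_option autoImplicit false
set_option backward.isDefEq.respectTransparency false
set_option backward.isDefEq.respectTransparency.types false
universe u
open CategoryTheory CategoryTheory.Limits AlgebraicGeometry
open ResProp

namespace Groth.Agent.S17313

/-- Let `f : 𝒳 → 𝒴` be a quasi-compact and quasi-separated morphism of algebraic stacks over a scheme
`S` (fppf topology; diagonals representable, separated and quasi-compact, the text's standing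
convention) that is representable by algebraic spaces and quasi-affine. Then the structure sheaf of
`𝒳` is a generating family relative to `f`: for every object of `𝒴` whose scheme is affine, a
morphism of quasi-coherent modules on the category of `𝒳` over that object which kills every
morphism from the structure sheaf is zero. (Quasi-compactness and quasi-separatedness of `f`, the
text's standing hypothesis for relative generating families, already follow from `f` being
quasi-affine; they are carried here as explicit hypotheses.) -/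
theorem result (S : Scheme.{u}) (𝒳 𝒴 : AlgSt.Cat S)
    (h𝒳 : AlgSt.IsAlgStack Scheme.fppfPrecoverage 𝒳) (h𝒴 : AlgSt.IsAlgStack Scheme.fppfPrecoverage 𝒴)
    (hΔ𝒳 : AlgSt.RepByAlgSpWith (AlgSp.IsSeparatedMor ⊓ AlgSp.IsQuasiCompactMor) (FibCat.diag (FibCat.toSelf 𝒳)))
    (hΔ𝒴 : AlgSt.RepByAlgSpWith (AlgSp.IsSeparatedMor ⊓ AlgSp.IsQuasiCompactMor) (FibCat.diag (FibCat.toSelf 𝒴)))
    (f : 𝒳 ⥤ᵇ 𝒴) (hfqc : AlgSt.IsQuasiCompactMor Scheme.fppfPrecoverage f) (hfqs : AlgSt.IsQuasiSeparatedMor f)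
    (hf : AlgSt.RepByAlgSpWith AlgSp.IsQuasiAffineMor f) :
    StMod.IsRelGenFam f (fun _ : PUnit.{u + 1} => StMod.OQ 𝒳) := by
  intro η hη
  have hX := h𝒳.isStack.1
  have hY := h𝒴.isStack.1
  obtain ⟨κ, -⟩ := Lib.AlgStack.Yoneda.exists_fromObj_iso hY (rfl : 𝒴.p.obj η = 𝒴.p.obj η)
  let y := Lib.AlgStack.Yoneda.fromObj hY (rfl : 𝒴.p.obj η = 𝒴.p.obj η)
  obtain ⟨F, e, he, hP⟩ := hf (𝒴.p.obj η) y
  obtain ⟨W, i, fst, hsq, hW⟩ := hP (Z := 𝒴.p.obj η) hη (𝟙 _)
  haveI : IsAffine (𝒴.p.obj η).left := hη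
  haveI : IsIso ((AlgSp.yon S).map (𝟙 (𝒴.p.obj η))) := inferInstance
  have hfst : IsIso fst := hsq.isIso_fst_of_isIso
  have hVc := H14.Chart.Basic.isAlgStack_overCat (𝒴.p.obj η)
  have hP2 := H14.Chart.Basic.isAlgStack_fp h𝒴 hVc h𝒳 y f
  have h1 := Lib.AlgStack.BasedBasic.IsEquivOver.comp (Lib.AlgStack.Rep.isEquivOver_ofOverCat W)
    (Lib.AlgStack.BasedBasic.IsEquivOver.comp (Lib.AlgStack.Space.isEquivOver_ofSpMap fst)
      (Lib.AlgStack.BasedBasic.IsEquivOver.comp he (Lib.AlgStack.FibProd.isEquivOver_swap y f)))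
  have hE := ((H14.GenFam.isEqv_of_isEquivOver h1 (Lib.AlgStack.Yoneda.isFibGrpd_overCat W)
    (Lib.AlgStack.FibProd.isFibGrpd_fp hX (Lib.AlgStack.Yoneda.isFibGrpd_overCat _) hY)).comp
      (H14.GenFam.isEqv_fpToFib hX hY f y)).comp (H14.GenFam.isEqv_mapFun f hX κ.hom)
  exact hE.isGenFam_of_source
    (E' := fun _ : PUnit.{u + 1} => StMod.OQ (FibCat.overCat W))
    (fun _ => (StMod.comapFunctor _).mapIso (StMod.comapOIso (StMod.fibFst f η)) ≪≫ StMod.comapOIso _)
    (H14.GenFam.isGenFam_overCat W i)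

end Groth.Agent.S17313
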