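import Groth.Statements.S17315
import Groth.Agent.H14.GenFam.Local

set_option autoImplicit false
set_option backward.isDefEq.respectTransparency false
set_option backward.isDefEq.respectTransparency.types false
universe u
open CategoryTheory CategoryTheory.Limits AlgebraicGeometry
open ResProp

namespace Groth.Agent.S17315

/-- Let `f : 𝒳 → 𝒴` be a quasi-compact and quasi-separated morphism of algebraic stacks over a scheme
`S` (fppf topology; diagonals representable, separated and quasi-compact, the text's standing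
convention), `E` a family of quasi-coherent modules of finite presentation on `𝒳`, and `y a : (Sch/T
a) → 𝒴` a family of morphisms from affine schemes `T a`, each representable by algebraic spaces and
flat, and jointly surjective on points of `𝒴`. If for every `a` the family `E` pulled back to the
fibre product `𝒳 ×_𝒴 T a` is a generating family (a morphism of quasi-coherent modules on it killed
by every morphism from a member is zero), then `E` is generating relative to `f`: the same holds
over every object of `𝒴` with affine scheme. -/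
theorem result (S : Scheme.{u}) (𝒳 𝒴 : AlgSt.Cat S)
    (h𝒳 : AlgSt.IsAlgStack Scheme.fppfPrecoverage 𝒳) (h𝒴 : AlgSt.IsAlgStack Scheme.fppfPrecoverage 𝒴)
    (hΔ𝒳 : AlgSt.RepByAlgSpWith (AlgSp.IsSeparatedMor ⊓ AlgSp.IsQuasiCompactMor) (FibCat.diag (FibCat.toSelf 𝒳)))
    (hΔ𝒴 : AlgSt.RepByAlgSpWith (AlgSp.IsSeparatedMor ⊓ AlgSp.IsQuasiCompactMor) (FibCat.diag (FibCat.toSelf 𝒴)))
    (f : 𝒳 ⥤ᵇ 𝒴) (hfqc : AlgSt.IsQuasiCompactMor Scheme.fppfPrecoverage f) (hfqs : AlgSt.IsQuasiSeparatedMor f)
    {ι : Type u} (E : ι → StMod.QCoh 𝒳) (hE : ∀ i, (E i).obj.IsFinPres)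
    {A : Type u} (T : A → Over S) (hT : ∀ a, IsAffine (T a).left)
    (y : ∀ a, FibCat.overCat (T a) ⥤ᵇ 𝒴) (hfl : ∀ a, AlgSt.RepByAlgSpWith (AlgSp.LocP @Flat) (y a))
    (hsurj : ∀ p : AlgSt.Points 𝒴, ∃ (a : A) (t : (T a).left), AlgSt.Points.ofChart (y a) t = p)
    (hgen : ∀ a, StMod.IsGenFam (fun i => (StMod.comapQ (FibCat.fpFst f (y a))).obj (E i))) :
    StMod.IsRelGenFam f E := by
  have hX := h𝒳.isStack.1
  have hY := h𝒴.isStack.1
  refine Groth.Agent.H14.GenFam.isRelGenFam_of_local f E h𝒳 h𝒴 hfqc hfqs hE fun η hη v => ?_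
  obtain ⟨a, t, ht⟩ := hsurj (Groth.Agent.H14.GenFam.ptOf hY η v)
  obtain ⟨ω, c, c', hω, hfl, hv⟩ := Groth.Agent.H14.GenFam.exists_lift_at hY (Q := @Flat)
    (fun g hg => by have := hg; infer_instance) (hfl a) η v t ht.symm
  exact ⟨ω, c, hω, hfl, hv, Groth.Agent.H14.GenFam.isGenFam_of_hom f E hX hY c' hω
    (Groth.Agent.H14.GenFam.isAffine_obj (hT a) (y a))
    (Groth.Agent.H14.GenFam.isGenFam_of_fp f E hX hY (y a) (hgen a))⟩

end Groth.Agent.S17315
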