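import Groth.Statements.S1732
import Groth.Agent.Lib.InjHull.Derivations
import Groth.Agent.Lib.FSAdic.PowerSeries
import Mathlib.RingTheory.MvPowerSeries.Inverse
-- import your own Groth.Agent.* helpers here

set_option autoImplicit false
universe u
open LocCoh

namespace Groth.Agent.S1732

/-- Let k be a field of characteristic zero, d ≥ 1, A = k[[x_1, …, x_d]] with maximal ideal m, and E an
injective hull of the residue field of A. Let M be an m-power torsion A-module equipped with
additive maps D_1, …, D_d such that D_i(f z) = θ_i(f) z + f D_i(z), where θ_i is the k-derivation of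
A with θ_i(x_j) = δ_ij (the partial derivative in x_i). Then M is, up to isomorphism, a direct sum
of copies of E. -/
theorem result (k : Type u) [Field k] [CharZero k] (d : ℕ) (hd : 1 ≤ d) (E : Type u) [AddCommGroup E] [Module (MvPowerSeries (Fin d) k) E] (e : IsLocalRing.ResidueField (MvPowerSeries (Fin d) k) →ₗ[MvPowerSeries (Fin d) k] E) (he : InjHull.IsInjectiveHull e) (θ : Fin d → Derivation k (MvPowerSeries (Fin d) k) (MvPowerSeries (Fin d) k)) (hθ : ∀ i j : Fin d, θ i (MvPowerSeries.X j) = if i = j then 1 else 0) (M : Type u) [AddCommGroup M] [Module (MvPowerSeries (Fin d) k) M] (hM : LocCoh.IsPowerTorsion (IsLocalRing.maximalIdeal (MvPowerSeries (Fin d) k)) M) (D : Fin d → M →+ M) (hD : ∀ (i : Fin d) (f : MvPowerSeries (Fin d) k) (z : M), D i (f • z) = θ i f • z + f • D i z) : ∃ J : Type u, Nonempty (M ≃ₗ[MvPowerSeries (Fin d) k] (J →₀ E)) := by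
  classical
  have hm : IsLocalRing.maximalIdeal (MvPowerSeries (Fin d) k) =
      Ideal.span (Set.range (MvPowerSeries.X : Fin d → MvPowerSeries (Fin d) k)) := by
    refine le_antisymm (fun f hf => ?_) (Ideal.span_le.2 ?_)
    · rw [IsLocalRing.mem_maximalIdeal, mem_nonunits_iff, MvPowerSeries.isUnit_iff_constantCoeff,
        isUnit_iff_ne_zero, not_not] at hf
      have h := Groth.Agent.Lib.FSAdic.PowerSeries.sub_truncTotal_mem f 1
      rw [pow_one, show MvPowerSeries.truncTotal 1 f = 0 from MvPolynomial.ext _ _ fun x => by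
        rw [MvPolynomial.coeff_zero]
        by_cases hx : x.degree < 1
        · rw [MvPowerSeries.coeff_truncTotal _ hx, show x = 0 from (Finsupp.degree_eq_zero_iff x).1 (by omega),
            MvPowerSeries.coeff_zero_eq_constantCoeff_apply, hf]
        · exact MvPowerSeries.coeff_truncTotal_eq_zero _ (not_lt.1 hx)] at h
      simpa using h
    · rintro _ ⟨i, rfl⟩
      rw [SetLike.mem_coe, IsLocalRing.mem_maximalIdeal, mem_nonunits_iff,
        MvPowerSeries.isUnit_iff_constantCoeff]
      simp
  refine Groth.Agent.Lib.InjHull.Derivations.exists_equiv (X := MvPowerSeries.X) (D := D) (fun i j z => ?_)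
    hm (fun n hn => ?_) e he hM
  · rw [hD, hθ, ite_smul, one_smul, zero_smul]
  · rw [MvPowerSeries.isUnit_iff_constantCoeff, map_natCast]
    exact isUnit_iff_ne_zero.2 (Nat.cast_ne_zero.2 hn)


end Groth.Agent.S1732
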