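import Groth.Statements.S17324
import Mathlib

set_option autoImplicit false
universe u v
open CAlg

namespace Groth.Agent.S17324

/-- (i) ⟺ (ii): let k be an algebraically closed field, A a commutative k-algebra which is
finite-dimensional as a k-vector space and is a local ring with maximal ideal m, and a_1, …, a_m ∈
m. Then A is generated as a k-algebra by a_1, …, a_m if and only if m is generated as an ideal by
a_1, …, a_m. (The printed lemma has a third equivalent condition, that the images of the a_i span
m/m²; its equivalence with (ii) is Nakayama's lemma.) -/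
theorem result (k : Type u) [Field k] [IsAlgClosed k]
    (A : Type v) [CommRing A] [Algebra k A] [Module.Finite k A] [IsLocalRing A]
    (m : ℕ) (a : Fin m → A) (ha : ∀ i, a i ∈ IsLocalRing.maximalIdeal A) :
    Algebra.adjoin k (Set.range a) = ⊤ ↔ Ideal.span (Set.range a) = IsLocalRing.maximalIdeal A := by
  haveI : IsArtinianRing A := IsArtinianRing.of_finite k A
  have hres : ∀ x : A, ∃ c : k, x - algebraMap k A c ∈ IsLocalRing.maximalIdeal A := by
    intro x
    haveI : Module.Finite k (IsLocalRing.ResidueField A) :=
      Module.Finite.of_surjective (IsScalarTower.toAlgHom k A (IsLocalRing.ResidueField A)).toLinearMap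
        IsLocalRing.residue_surjective
    haveI : Algebra.IsIntegral k (IsLocalRing.ResidueField A) := Algebra.IsIntegral.of_finite _ _
    obtain ⟨c, hc⟩ := (IsAlgClosed.algebraMap_bijective_of_isIntegral (k := k) (K := IsLocalRing.ResidueField A)).2 (IsLocalRing.residue A x)
    refine ⟨c, ?_⟩
    rw [← IsLocalRing.residue_eq_zero_iff, map_sub, ← hc, sub_eq_zero]
    exact (IsScalarTower.algebraMap_apply k A (IsLocalRing.ResidueField A) c).trans rfl
  constructor
  · intro h
    apply le_antisymm (Ideal.span_le.mpr (by rintro _ ⟨i, rfl⟩; exact ha i))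
    intro x hx
    have key : ∀ y ∈ Algebra.adjoin k (Set.range a), ∃ c : k, y - algebraMap k A c ∈ Ideal.span (Set.range a) := by
      intro y hy
      induction hy using Algebra.adjoin_induction with
      | mem z hz => exact ⟨0, by simpa using Ideal.subset_span hz⟩
      | algebraMap c => exact ⟨c, by simp⟩
      | add y z _ _ hy hz =>
        obtain ⟨c, hc⟩ := hy
        obtain ⟨d, hd⟩ := hz
        exact ⟨c + d, by rw [map_add, add_sub_add_comm]; exact add_mem hc hd⟩
      | mul y z _ _ hy hz =>
        obtain ⟨c, hc⟩ := hy
        obtain ⟨d, hd⟩ := hz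
        refine ⟨c * d, ?_⟩
        rw [map_mul, show y * z - algebraMap k A c * algebraMap k A d =
          (y - algebraMap k A c) * z + algebraMap k A c * (z - algebraMap k A d) by ring]
        exact add_mem (Ideal.mul_mem_right _ _ hc) (Ideal.mul_mem_left _ _ hd)
    obtain ⟨c, hc⟩ := key x (h ▸ Algebra.mem_top)
    have hle : Ideal.span (Set.range a) ≤ IsLocalRing.maximalIdeal A :=
      Ideal.span_le.mpr (by rintro _ ⟨i, rfl⟩; exact ha i)
    have hc0 : c = 0 := by
      by_contra hc0
      have := sub_mem hx (hle hc)
      rw [sub_sub_cancel] at this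
      exact (IsLocalRing.mem_maximalIdeal _).mp this ((Ne.isUnit hc0).map (algebraMap k A))
    simpa [hc0] using hc
  · intro h
    obtain ⟨N, hN⟩ : IsNilpotent (IsLocalRing.maximalIdeal A) := by
      rw [← IsLocalRing.jacobson_eq_maximalIdeal ⊥ bot_ne_top]
      exact IsArtinianRing.isNilpotent_jacobson_bot
    have key : ∀ j : ℕ, ∀ x : A, ∃ s ∈ Algebra.adjoin k (Set.range a), x - s ∈ (IsLocalRing.maximalIdeal A) ^ j := by
      intro j
      induction j with
      | zero => exact fun x => ⟨0, zero_mem _, by simp⟩
      | succ j ih =>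
        intro x
        obtain ⟨c, hc⟩ := hres x
        rw [← h, Ideal.mem_span_range_iff_exists_fun] at hc
        obtain ⟨b, hb⟩ := hc
        choose s hs hs' using fun i => ih (b i)
        refine ⟨algebraMap k A c + ∑ i, s i * a i, add_mem (Subalgebra.algebraMap_mem _ c)
          (sum_mem fun i _ => mul_mem (hs i) (Algebra.subset_adjoin ⟨i, rfl⟩)), ?_⟩
        rw [show x - (algebraMap k A c + ∑ i, s i * a i) = ∑ i, (b i - s i) * a i by
          rw [← sub_sub, ← hb]; simp [sub_mul, Finset.sum_sub_distrib]]
        exact sum_mem fun i _ => by rw [pow_succ]; exact Ideal.mul_mem_mul (hs' i) (ha i)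
    rw [eq_top_iff]
    intro x _
    obtain ⟨s, hs, hxs⟩ := key N x
    rw [hN, Submodule.zero_eq_bot, Ideal.mem_bot, sub_eq_zero] at hxs
    exact hxs ▸ hs

end Groth.Agent.S17324
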