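import Groth.Statements.S17325
import Mathlib.LinearAlgebra.FiniteDimensional.Basic
import Mathlib.Algebra.CharP.Lemmas
import Mathlib.Algebra.CharP.Algebra
import Mathlib.FieldTheory.IsAlgClosed.Basic

set_option autoImplicit false
universe u v
open LieAlg

namespace Groth.Agent.S17325

/-- Let k be an algebraically closed field of characteristic p > 0, V a finite-dimensional k-vector
space and g a nonzero k-linear subspace of End_k(V) closed under the p-th power map u ↦ u^p. Then g
contains a nonzero u with u^p = c u for some c ∈ k, i.e. a line k u closed under p-th powers. (The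
published lemma concerns an abstract nonzero finite-dimensional restricted Lie algebra; this row
concerns subspaces of End_k(V) closed under p-th powers, a class that contains every restricted Lie
subalgebra of gl(V).) -/
theorem result (k : Type u) [Field k] [IsAlgClosed k]
    (p : ℕ) [Fact p.Prime] [CharP k p] (V : Type v) [AddCommGroup V] [Module k V] [FiniteDimensional k V]
    (g : Submodule k (Module.End k V)) (hg : ∀ u ∈ g, u ^ p ∈ g) (hne : g ≠ ⊥) :
    ∃ u ∈ g, u ≠ 0 ∧ ∃ c : k, u ^ p = c • u := by
  classical
  obtain ⟨u, hu, hu0⟩ := (Submodule.ne_bot_iff g).mp hne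
  set e : ℕ → Module.End k V := fun i => u ^ p ^ i with he
  have heg : ∀ i, e i ∈ g := fun i => by
    induction i with
    | zero => simpa [he] using hu
    | succ i ih => simp only [he]; rw [pow_succ, pow_mul]; exact hg _ ih
  have hes : ∀ i, e i ^ p = e (i + 1) := fun i => by simp only [he]; rw [← pow_mul, ← pow_succ]
  by_cases hnil : ∃ i, e i = 0
  · obtain ⟨n, hn, hn1⟩ : ∃ n, e n ≠ 0 ∧ e (n + 1) = 0 := by
      by_contra hcon
      push Not at hcon
      obtain ⟨i, hi⟩ := hnil
      have : ∀ j, e j ≠ 0 := fun j => by
        induction j with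
        | zero => simpa [he] using hu0
        | succ j ih => exact hcon j ih
      exact this i hi
    exact ⟨e n, heg n, hn, 0, by rw [hes, hn1, zero_smul]⟩
  push Not at hnil
  -- the first linear relation among the iterates
  have hdep : ∃ n, e n ∈ Submodule.span k (e '' Set.Iio n) := by
    by_contra hcon
    push Not at hcon
    have hli : ∀ n, LinearIndependent k (fun i : Fin n => e i) := fun n => by
      induction n with
      | zero => exact linearIndependent_empty_type
      | succ n ih =>
        rw [linearIndependent_fin_succ']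
        refine ⟨ih, fun hmem => hcon n ?_⟩
        refine Submodule.span_mono ?_ hmem
        rintro _ ⟨i, rfl⟩
        exact ⟨i.1, i.2, rfl⟩
    have := (hli (Module.finrank k (Module.End k V) + 1)).fintype_card_le_finrank
    simp at this
  set n := Nat.find hdep with hn
  have hmin : ∀ m < n, e m ∉ Submodule.span k (e '' Set.Iio m) := fun m hm => Nat.find_min hdep hm
  have hli : ∀ m, m ≤ n → LinearIndependent k (fun i : Fin m => e i) := fun m => by
    induction m with
    | zero => exact fun _ => linearIndependent_empty_type
    | succ m ih =>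
      intro hm
      rw [linearIndependent_fin_succ']
      refine ⟨ih (by omega), fun hmem => hmin m (by omega) ?_⟩
      refine Submodule.span_mono ?_ hmem
      rintro _ ⟨i, rfl⟩
      exact ⟨i.1, i.2, rfl⟩
  obtain ⟨a, ha⟩ : ∃ a : ℕ → k, e n = ∑ i ∈ Finset.range n, a i • e i := by
    have h1 := Nat.find_spec hdep
    rw [← hn, show (Set.Iio n) = (↑(Finset.range n) : Set ℕ) by ext; simp] at h1
    obtain ⟨a, ha⟩ := (Submodule.mem_span_image_finset_iff_exists_fun k).mp h1
    exact ⟨fun i => if h : i ∈ Finset.range n then a ⟨i, h⟩ else 0, by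
      rw [← ha, ← Finset.sum_coe_sort (Finset.range n)]; exact Finset.sum_congr rfl fun i _ => by simp⟩
  obtain ⟨m, hm⟩ : ∃ m, n = m + 1 := ⟨n - 1, by
    rcases Nat.eq_zero_or_pos n with h | h
    · exfalso; rw [h, Finset.sum_range_zero] at ha; exact hnil 0 ha
    · omega⟩
  -- the polynomial equation for the last coefficient
  let Q : ℕ → Polynomial k := fun i =>
    Nat.rec (Polynomial.C (a 0) * Polynomial.X ^ p) (fun j q => q ^ p + Polynomial.C (a (j + 1)) * Polynomial.X ^ p) i
  have hQ1 : ∀ i, (Q i).coeff 0 = 0 ∧ (Q i).coeff 1 = 0 := by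
    intro i
    have hX : Polynomial.X ^ 2 ∣ (Polynomial.X : Polynomial k) ^ p := pow_dvd_pow _ (Fact.out : p.Prime).two_le
    have hdvd : Polynomial.X ^ 2 ∣ Q i := by
      induction i with
      | zero => exact hX.mul_left _
      | succ i ih => exact dvd_add (ih.trans (dvd_pow_self _ (Fact.out : p.Prime).ne_zero)) (hX.mul_left _)
    obtain ⟨w, hw⟩ := hdvd
    rw [hw, mul_comm]
    exact ⟨by rw [Polynomial.coeff_mul_X_pow']; simp, by rw [Polynomial.coeff_mul_X_pow']; simp⟩
  have hQ0 : ∀ i, Q i = 0 → ∀ j ≤ i, a j = 0 := by
    intro i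
    induction i with
    | zero =>
      intro h j hj
      obtain rfl : j = 0 := by omega
      have := congrArg (fun q : Polynomial k => q.coeff p) h
      simpa [Q, Polynomial.coeff_C_mul] using this
    | succ i ih =>
      intro h j hj
      have h1 : (Q i) ^ p + Polynomial.C (a (i + 1)) * Polynomial.X ^ p = 0 := h
      have hai : a (i + 1) = 0 := by
        obtain ⟨w, hw⟩ : Polynomial.X ^ 2 ∣ Q i := Polynomial.X_pow_dvd_iff.mpr fun d hd => by
          interval_cases d
          · exact (hQ1 i).1
          · exact (hQ1 i).2
        have h2 := congrArg (fun q : Polynomial k => q.coeff p) h1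
        simp only [hw, mul_pow, ← pow_mul, Polynomial.coeff_add, Polynomial.coeff_C_mul, Polynomial.coeff_zero,
          Polynomial.coeff_X_pow_self, mul_one] at h2
        rwa [mul_comm _ (w ^ p), Polynomial.coeff_mul_X_pow', if_neg (by have := (Fact.out : p.Prime).pos; omega),
          zero_add] at h2
      rcases eq_or_lt_of_le hj with rfl | hj'
      · exact hai
      · rw [hai, map_zero, zero_mul, add_zero] at h1
        exact ih (eq_zero_of_pow_eq_zero h1) j (by omega)
  have hQne : Q m ≠ 0 := fun h => by
    refine hnil n ?_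
    rw [ha]
    exact Finset.sum_eq_zero fun i hi => by
      rw [hQ0 m h i (by have := Finset.mem_range.mp hi; omega), zero_smul]
  obtain ⟨t, ht0, ht⟩ : ∃ t, t ≠ 0 ∧ (Q m).eval t = t := by
    obtain ⟨w, hw⟩ : Polynomial.X ∣ Q m - Polynomial.X := Polynomial.X_dvd_iff.mpr (by simp [(hQ1 m).1])
    have hw0 : w.coeff 0 = -1 := by
      have := congrArg (fun q : Polynomial k => q.coeff 1) hw
      simp only [Polynomial.coeff_sub, (hQ1 m).2, Polynomial.coeff_X_one, Polynomial.coeff_X_mul] at this
      rw [← this]; ring
    have hdeg : w.degree ≠ 0 := by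
      intro hd
      rw [Polynomial.eq_C_of_degree_eq_zero hd, hw0, map_neg, map_one, mul_neg, mul_one, sub_eq_neg_self] at hw
      exact hQne hw
    obtain ⟨t, ht⟩ := IsAlgClosed.exists_root w hdeg
    refine ⟨t, fun h => ?_, ?_⟩
    · rw [h, Polynomial.IsRoot, ← Polynomial.coeff_zero_eq_eval_zero, hw0] at ht
      exact one_ne_zero (neg_eq_zero.mp ht)
    · have := congrArg (Polynomial.eval t) hw
      rw [Polynomial.eval_sub, Polynomial.eval_mul, Polynomial.eval_X, show w.eval t = 0 from ht, mul_zero, sub_eq_zero] at this
      exact this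
  let x : ℕ → k := fun i => (Q i).eval t
  set v : Module.End k V := ∑ i ∈ Finset.range n, x i • e i with hv
  refine ⟨v, Submodule.sum_mem _ fun i _ => g.smul_mem _ (heg i), fun hv0 => ?_, 1, ?_⟩
  · have h1 := Fintype.linearIndependent_iff.mp (hli n le_rfl) (fun i => x i) (by
      rw [← hv0, hv, Finset.sum_range]) ⟨m, by omega⟩
    exact ht0 (by rw [← ht]; exact h1)
  · rw [one_smul]
    haveI : Nontrivial (Module.End k V) := ⟨⟨u, 0, hu0⟩⟩
    haveI : CharP (Module.End k V) p := charP_of_injective_algebraMap (algebraMap k (Module.End k V)).injective p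
    have hsum : ∀ (l : ℕ) (c : ℕ → k), (∑ i ∈ Finset.range l, c i • e i) ^ p = ∑ i ∈ Finset.range l, c i ^ p • e (i + 1) := by
      intro l c
      induction l with
      | zero => simp [zero_pow (Fact.out : p.Prime).ne_zero]
      | succ l ih =>
        rw [Finset.sum_range_succ, Finset.sum_range_succ, add_pow_char_of_commute p, ih, smul_pow, hes]
        exact Commute.sum_left _ _ _ fun i _ => ((Commute.pow_pow_self u _ _).smul_left _).smul_right _
    rw [hv, hsum n x]
    clear_value n
    subst hm
    rw [Finset.sum_range_succ, ha, show x m = t from ht, Finset.smul_sum, Finset.sum_range_succ' (fun i => t ^ p • a i • e i) m,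
      Finset.sum_range_succ' (fun i => x i • e i) m, ← add_assoc, ← Finset.sum_add_distrib]
    congr 1
    · refine Finset.sum_congr rfl fun i _ => ?_
      rw [smul_smul, ← add_smul]
      congr 1
      simp only [x]
      show _ = ((Q i) ^ p + Polynomial.C (a (i + 1)) * Polynomial.X ^ p).eval t
      rw [Polynomial.eval_add, Polynomial.eval_pow, Polynomial.eval_mul, Polynomial.eval_C, Polynomial.eval_pow, Polynomial.eval_X]; ring
    · rw [smul_smul]
      congr 1
      simp only [x]
      show _ = (Polynomial.C (a 0) * Polynomial.X ^ p).eval t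
      rw [Polynomial.eval_mul, Polynomial.eval_C, Polynomial.eval_pow, Polynomial.eval_X]; ring

end Groth.Agent.S17325
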