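import Groth.Statements.S17326
import Mathlib

set_option autoImplicit false
universe u v
open CAlg

namespace Groth.Agent.S17326

/-- Let k be an algebraically closed field of characteristic p > 0, A a commutative k-algebra which is
finite-dimensional as a k-vector space (a finite k-scheme X), and n ≥ 1. The n-th iterated relative
Frobenius morphism X → X^(p^n) is an isomorphism if and only if X is reduced; on rings: the map a ↦
a^(p^n) of A to itself (which is the ring homomorphism underlying the relative Frobenius, the twist
A^(p^n) having the same underlying ring as A) is bijective if and only if A is reduced. -/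
theorem result (k : Type u) [Field k] [IsAlgClosed k]
    (p : ℕ) [Fact p.Prime] [CharP k p] (A : Type v) [CommRing A] [Algebra k A] [Module.Finite k A]
    (n : ℕ) (hn : 1 ≤ n) :
    Function.Bijective (fun a : A => a ^ p ^ n) ↔ IsReduced A := by
  have hq : 1 < p ^ n := one_lt_pow₀ (Fact.out : p.Prime).one_lt (by omega)
  constructor
  · intro h
    rw [isReduced_iff_pow_one_lt (p ^ n) hq]
    intro x hx
    exact h.1 (by simp [hx, zero_pow (by omega : p ^ n ≠ 0)])
  · intro hred
    rcases subsingleton_or_nontrivial A with hA | hA
    · exact ⟨fun a b _ => Subsingleton.elim a b, fun b => ⟨b, Subsingleton.elim _ _⟩⟩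
    haveI : CharP A p := charP_of_injective_algebraMap' k p
    haveI : ExpChar A p := ExpChar.prime Fact.out
    have hinj : Function.Injective (fun a : A => a ^ p ^ n) := iterateFrobenius_inj A p n
    refine ⟨hinj, ?_⟩
    let b := Module.finBasis k A
    have hroot : ∀ c : k, ∃ d : k, d ^ p ^ n = c := fun c =>
      IsAlgClosed.exists_pow_nat_eq c (by omega)
    choose r hr using hroot
    have hli : LinearIndependent k (fun i => b i ^ p ^ n) := by
      rw [Fintype.linearIndependent_iff]
      intro g hg i
      have h0 : (∑ j, r (g j) • b j) ^ p ^ n = 0 := by
        rw [sum_pow_char_pow]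
        simp only [smul_pow, hr]
        exact hg
      have := Fintype.linearIndependent_iff.mp b.linearIndependent _
        (hinj (by simpa [zero_pow (by omega : p ^ n ≠ 0)] using h0)) i
      rw [← hr (g i), this, zero_pow (by omega : p ^ n ≠ 0)]
    intro a
    have hspan := hli.span_eq_top_of_card_eq_finrank' (by simp)
    obtain ⟨c, hc⟩ := (Submodule.mem_span_range_iff_exists_fun k).mp
      (hspan.symm ▸ Submodule.mem_top : a ∈ Submodule.span k (Set.range fun i => b i ^ p ^ n))
    refine ⟨∑ j, r (c j) • b j, ?_⟩
    simp only [sum_pow_char_pow, smul_pow, hr]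
    exact hc

end Groth.Agent.S17326
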