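import Groth.Statements.S17327
import Groth.Agent.Lib.OT67.Points

set_option autoImplicit false
universe u v
open Hopf

namespace Groth.Agent.S17327

/-- Let k be an algebraically closed field of characteristic p > 0, A a commutative Hopf algebra over k
which is finite-dimensional as a k-vector space (a finite group scheme G = Spec A), I the
augmentation ideal (kernel of the counit) and n ≥ 1. The n-th Frobenius kernel G_n is the closed
subgroup scheme cut out by the ideal generated by the p^n-th powers f^(p^n), f ∈ I; it is trivial,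
i.e. that ideal equals I, if and only if G is reduced. -/
theorem result (k : Type u) [Field k] [IsAlgClosed k]
    (p : ℕ) [Fact p.Prime] [CharP k p] (A : Type v) [CommRing A] [HopfAlgebra k A] [Module.Finite k A]
    (n : ℕ) (hn : 1 ≤ n) :
    Ideal.span ((fun f : A => f ^ p ^ n) '' (RingHom.ker (Bialgebra.counitAlgHom k A) : Set A)) =
      RingHom.ker (Bialgebra.counitAlgHom k A) ↔ IsReduced A := by
  classical
  open Groth.Agent.Lib.OT67 in
  constructor
  · intro h
    by_contra hred
    refine aug_sq_ne_of_not_isReduced (k := k) hred (le_antisymm (Ideal.pow_le_self (by norm_num)) ?_)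
    show aug k A ≤ aug k A ^ 2
    rw [show (aug k A : Ideal A) = RingHom.ker (Bialgebra.counitAlgHom k A) from rfl]
    nth_rewrite 1 [← h]
    rw [Ideal.span_le]
    rintro _ ⟨f, hf, rfl⟩
    have h2 : 2 ≤ p ^ n := (Fact.out : p.Prime).two_le.trans (Nat.le_self_pow (by omega) p)
    exact Ideal.pow_le_pow_right h2 (Ideal.pow_mem_pow hf _)
  · intro hred
    haveI := hred
    refine le_antisymm (Ideal.span_le.2 ?_) fun f hf => ?_
    · rintro _ ⟨f, hf, rfl⟩
      exact Ideal.pow_mem_of_mem _ hf _ (pow_pos (Fact.out : p.Prime).pos n)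
    obtain ⟨m, hm⟩ : ∃ m, p ^ n = m + 2 := ⟨p ^ n - 2, by
      have := (Fact.out : p.Prime).two_le.trans (Nat.le_self_pow (show n ≠ 0 by omega) p); omega⟩
    have key : f ^ p ^ n * (Groth.Agent.Lib.OT67.gelfand (k := k) (A := A)).symm
        (fun g => ((g.ofConv f)⁻¹) ^ (m + 1)) = f := by
      apply (Groth.Agent.Lib.OT67.gelfand (k := k) (A := A)).injective
      funext g
      rw [map_mul, map_pow, AlgEquiv.apply_symm_apply, Pi.mul_apply, Pi.pow_apply,
        Groth.Agent.Lib.OT67.gelfand_apply, hm]
      by_cases h0 : g.ofConv f = 0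
      · rw [h0]; simp
      · rw [show m + 2 = (m + 1) + 1 from rfl, pow_succ', mul_assoc, ← mul_pow, mul_inv_cancel₀ h0, one_pow, mul_one]
    rw [← key]
    exact Ideal.mul_mem_right _ _ (Ideal.subset_span ⟨f, hf, rfl⟩)

end Groth.Agent.S17327
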