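import Groth.Statements.S17328
import Groth.Agent.Lib.OT67.Height1

set_option autoImplicit false
universe u v
open Hopf

namespace Groth.Agent.S17328

/-- Let k be an algebraically closed field of characteristic p > 0 and A a commutative Hopf algebra over
k, finite-dimensional as a k-vector space, with augmentation ideal I (kernel of the counit), such
that f^p = 0 for every f ∈ I (the finite group scheme G = Spec A is infinitesimal of height at most
one: A is then a local ring with maximal ideal I). Then the order of G is dim_k A = p^n where n =
dim_k I/I² is the dimension of the Lie algebra of G. -/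
theorem result (k : Type u) [Field k] [IsAlgClosed k]
    (p : ℕ) [Fact p.Prime] [CharP k p] (A : Type v) [CommRing A] [HopfAlgebra k A] [Module.Finite k A]
    (h1 : ∀ f : A, Bialgebra.counitAlgHom k A f = 0 → f ^ p = 0) :
    Module.finrank k A = p ^ Module.finrank k (RingHom.ker (Bialgebra.counitAlgHom k A)).Cotangent := by
  open Groth.Agent.Lib.OT67 in
  obtain ⟨x, d, S, hgen⟩ := exists_sys (k := k) (A := A)
  obtain ⟨b, -⟩ := monomial_basis p S hgen fun a ha => h1 a ha
  rw [Module.finrank_eq_card_basis b, Fintype.card_fun, Fintype.card_fin, Fintype.card_fin]

end Groth.Agent.S17328
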