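import Groth.Statements.S17329
import Groth.Agent.Lib.OT67.FinQuotRank

set_option autoImplicit false
set_option synthInstance.maxHeartbeats 100000
set_option linter.style.haveILetI false
universe u v
open scoped TensorProduct
open Hopf Groth.Agent.Lib.OT67

namespace Groth.Agent.S17329

/-- Let k be an algebraically closed field, A a commutative Hopf algebra over k which is
finite-dimensional as a k-vector space (a finite group scheme G = Spec A), and I a Hopf ideal of A
(a subgroup scheme H = Spec (A/I) of G, of order dim_k (A/I)). Let B ⊆ A be the k-subalgebra of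
functions invariant under right multiplication by H: the equaliser of the two algebra maps A → A ⊗
(A/I), a ↦ (id ⊗ π)(Δ a) and a ↦ a ⊗ 1, so that Spec B is the quotient G/H. Then the quotient
morphism G → G/H is finite locally free of rank |H|: A is a free B-module of rank dim_k (A/I) (B
being a finite product of local rings, locally free of constant rank is the same as free of that
rank). -/
theorem result (k : Type u) [Field k] [IsAlgClosed k]
    (A : Type v) [CommRing A] [HopfAlgebra k A] [Module.Finite k A] (I : Ideal A) [I.IsHopfIdeal k] :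
    Module.Free
        ↥(AlgHom.equalizer
          ((Algebra.TensorProduct.map (AlgHom.id k A) (Ideal.Quotient.mkₐ k I)).comp (Bialgebra.comulAlgHom k A))
          (Algebra.TensorProduct.includeLeft : A →ₐ[k] A ⊗[k] (A ⧸ I))) A ∧
      Module.finrank
        ↥(AlgHom.equalizer
          ((Algebra.TensorProduct.map (AlgHom.id k A) (Ideal.Quotient.mkₐ k I)).comp (Bialgebra.comulAlgHom k A))
          (Algebra.TensorProduct.includeLeft : A →ₐ[k] A ⊗[k] (A ⧸ I))) A =
        Module.finrank k (A ⧸ I) := by
  haveI : Module.Projective k (A ⧸ I) := inferInstance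
  let B := FinQuot.inv (R := k) I
  haveI : Module.Finite B A := FinQuot.finite (R := k) I
  haveI : Module.Projective B A := FinQuot.projective (R := k) I
  haveI : Nontrivial A := (Bialgebra.counitAlgHom k A).toRingHom.domain_nontrivial
  haveI : Nontrivial B := (B.val).toRingHom.domain_nontrivial
  haveI : IsArtinianRing B := IsArtinianRing.of_finite k B
  have hrk : ∀ P : MaximalSpectrum B, Module.finrank (B ⧸ P.1) ((B ⧸ P.1) ⊗[B] A) = Module.finrank k (A ⧸ I) := by
    intro P
    haveI := P.2
    letI : Field (B ⧸ P.1) := Ideal.Quotient.field P.1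
    let p : PrimeSpectrum (B ⧸ P.1) := ⟨⊥, Ideal.isPrime_bot⟩
    haveI : Module.Free (B ⧸ P.1) ((B ⧸ P.1) ⊗[B] A) := Module.Free.of_divisionRing _ _
    have h1 : Module.rankAtStalk (R := B ⧸ P.1) ((B ⧸ P.1) ⊗[B] A) p =
        Module.finrank (B ⧸ P.1) ((B ⧸ P.1) ⊗[B] A) := by
      rw [Module.rankAtStalk_eq_finrank_of_free]; rfl
    rw [← h1, Module.rankAtStalk_baseChange, FinQuot.rankAtStalk_inv, Module.rankAtStalk_eq_finrank_of_free]
    rfl
  haveI hfree : Module.Free B A := Module.free_of_flat_of_finrank_eq B A _ hrk
  refine ⟨hfree, ?_⟩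
  have hne : Nonempty (PrimeSpectrum B) := inferInstance
  obtain ⟨Q⟩ := hne
  have h2 := FinQuot.rankAtStalk_inv (R := k) I Q
  rw [Module.rankAtStalk_eq_finrank_of_free, Module.rankAtStalk_eq_finrank_of_free] at h2
  exact h2

end Groth.Agent.S17329
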