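import Groth.Statements.S17330
import Groth.Agent.Lib.OT67.OneParam
import Groth.Agent.Lib.OT67.Points
import Groth.Prelude.Def_AlphaP
import Mathlib

set_option autoImplicit false
universe u v
open Hopf

namespace Groth.Agent.S17330

/-- Let k be an algebraically closed field of characteristic p > 0 and A a commutative Hopf algebra over
k, finite-dimensional as a k-vector space and not reduced (a non-reduced finite group scheme G =
Spec A). Then G contains a subgroup scheme isomorphic to μ_p or to α_p: there is a surjective
bialgebra homomorphism from A onto the group algebra of the cyclic group of order p (the Hopf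
algebra of μ_p, group elements group-like) or onto k[X]/(X^p) with X primitive (the Hopf algebra of
α_p). -/
theorem result (k : Type u) [Field k] [IsAlgClosed k]
    (p : ℕ) [Fact p.Prime] [CharP k p] (A : Type v) [CommRing A] [HopfAlgebra k A] [Module.Finite k A]
    (hA : ¬ IsReduced A) :
    (∃ f : A →ₐc[k] MonoidAlgebra k (Multiplicative (ZMod p)), Function.Surjective f) ∨
      (∃ f : A →ₐc[k] AlphaP.A p k, Function.Surjective f) := by
  classical
  open Groth.Agent.Lib.OT67 in
  obtain ⟨xs, ds, S, hgen⟩ := exists_sys (k := k) (A := A)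
  revert xs ds
  generalize Module.finrank k (Groth.Agent.Lib.OT67.aug k A).Cotangent = r
  intro xs ds S hgen
  obtain ⟨i₀⟩ : Nonempty (Fin r) := by
    rw [← not_isEmpty_iff]
    intro hr
    refine Groth.Agent.Lib.OT67.aug_sq_ne_of_not_isReduced (k := k) hA
      (le_antisymm (Ideal.pow_le_self (by norm_num)) fun a ha => ?_)
    simpa using hgen a ha
  have hd : Groth.Agent.Lib.OT67.IsDer (WithConv.toConv (ds i₀)) := S.hd i₀
  have hd0 : WithConv.toConv (ds i₀) ≠ 0 := fun h => by
    have h1 := congrArg (fun φ : WithConv (A →ₗ[k] k) => φ.ofConv (xs i₀)) h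
    simp [S.hdx] at h1
  obtain ⟨w, hw, hw0, hwp⟩ := Groth.Agent.Lib.OT67.exists_line p hd hd0
  rcases hwp with hwp | hwp
  · -- the additive case
    refine Or.inr ?_
    let b := AlphaP.basis p k
    have h2 := (Fact.out : p.Prime).two_le
    let δ : WithConv (AlphaP.A p k →ₗ[k] k) := WithConv.toConv (b.coord ⟨1, h2⟩)
    have hδ : ∀ j, δ.ofConv (AlphaP.x p k ^ j) = if j = 1 then 1 else 0 := by
      intro j
      by_cases hj : j < p
      · rw [show AlphaP.x p k ^ j = b ⟨j, hj⟩ by simp [b]]
        simp [δ, Finsupp.single_apply, eq_comm]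
      · rw [AlphaP.x_pow_of_le p k (not_lt.1 hj), map_zero, if_neg (by omega)]
    have hεx : ∀ j, Bialgebra.counitAlgHom k (AlphaP.A p k) (AlphaP.x p k ^ j) = if j = 0 then 1 else 0 := by
      intro j
      rw [map_pow, Bialgebra.counitAlgHom_apply, AlphaP.counit_x]
      rcases eq_or_ne j 0 with rfl | hj
      · simp
      · rw [zero_pow hj, if_neg hj]
    have hder : Groth.Agent.Lib.OT67.IsDer δ := Groth.Agent.Lib.OT67.IsDer.of_basis b fun i j => by
      rw [AlphaP.basis_apply, AlphaP.basis_apply, ← pow_add, hδ, hδ, hδ, hεx, hεx]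
      split_ifs <;> first | ring1 | (exfalso; omega)
    have hδx : δ.ofConv (AlphaP.x p k) = 1 := by simpa using hδ 1
    have hδ0 : δ ≠ 0 := fun h => by simp [h] at hδx
    have hδp : δ ^ p = 0 := by
      refine WithConv.ofConv_injective (b.ext fun i => ?_)
      rw [AlphaP.basis_apply, WithConv.ofConv_zero, LinearMap.zero_apply]
      obtain ⟨i, hi⟩ := i
      have hder' := hder.pow_char p
      induction i with
      | zero => rw [pow_zero]; exact hder'.one
      | succ i ih =>
        rw [pow_succ, hder', ih (by omega), mul_zero, add_zero]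
        rw [show (δ ^ p).ofConv (AlphaP.x p k) = 0 from ?_, mul_zero]
        rw [show δ ^ p = δ ^ (p - 1) * δ by rw [← pow_succ, Nat.sub_add_cancel (by omega)], LinearMap.convMul_def]
        simp only [WithConv.ofConv_toConv, LinearMap.comp_apply, AlphaP.comul_x, map_add, TensorProduct.map_tmul,
          LinearMap.mul'_apply, hder.one, hder.pow_one_eq_zero (show p - 1 ≠ 0 by omega), mul_zero, zero_mul, add_zero]
    exact Groth.Agent.Lib.OT67.exists_bialgHom_of_der p (AlphaP.finrank_eq p k) hder hδ0 (c := 0)
      (by rw [hδp, zero_smul]) hw hw0 (by rw [hwp, zero_smul])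
  · -- the multiplicative case
    refine Or.inl ?_
    let G := Multiplicative (ZMod p)
    let b := MonoidAlgebra.basis G k
    let c : ZMod p →+* k := ZMod.castHom (dvd_refl p) k
    let δ : WithConv (MonoidAlgebra k G →ₗ[k] k) :=
      WithConv.toConv (b.constr k fun g => c (Multiplicative.toAdd g))
    have hδ : ∀ g, δ.ofConv (MonoidAlgebra.single g 1) = c (Multiplicative.toAdd g) := fun g => by
      rw [← MonoidAlgebra.basis_apply]
      exact b.constr_basis k _ g
    have hder : Groth.Agent.Lib.OT67.IsDer δ := Groth.Agent.Lib.OT67.IsDer.of_basis b fun i j => by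
      rw [MonoidAlgebra.basis_apply, MonoidAlgebra.basis_apply, MonoidAlgebra.single_mul_single, mul_one, hδ, hδ, hδ,
        toAdd_mul, map_add]
      simp [add_comm]
    have hpow : ∀ (n : ℕ) g, (δ ^ n).ofConv (MonoidAlgebra.single g 1) = c (Multiplicative.toAdd g) ^ n := by
      intro n g
      induction n with
      | zero => simp [LinearMap.convOne_def]
      | succ n ih =>
        rw [pow_succ, LinearMap.convMul_def, pow_succ]
        simp only [WithConv.ofConv_toConv, LinearMap.comp_apply, MonoidAlgebra.comul_single, CommSemiring.comul_apply,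
          TensorProduct.map_tmul, LinearMap.mul'_apply, MonoidAlgebra.lsingle_apply, ih, hδ]
    have hδp : δ ^ p = (1 : k) • δ := by
      rw [one_smul]
      refine WithConv.ofConv_injective (b.ext fun g => ?_)
      rw [MonoidAlgebra.basis_apply, hpow, hδ, ← map_pow, ZMod.pow_card]
    have hδ0 : δ ≠ 0 := fun h => by
      have h1 := hδ (Multiplicative.ofAdd 1)
      rw [h, toAdd_ofAdd, map_one c] at h1
      simp at h1
    exact Groth.Agent.Lib.OT67.exists_bialgHom_of_der p
      (by rw [Module.finrank_eq_card_basis b, Fintype.card_multiplicative, ZMod.card]) hder hδ0 hδp hw hw0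
      (by rw [hwp, one_smul])

end Groth.Agent.S17330
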