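import Groth.Statements.S18475
import Groth.Agent.Lib.OT67.Classify

set_option autoImplicit false
universe u
open OortTate

namespace Groth.Agent.S18475

/-- Let p be a prime, R a commutative ring containing u with u(p − 1) = 1, and χ a homomorphism from the
units of ℤ/p to the units of R such that χ(m) − 1 is a unit for every m ≠ 1 (the situation of an
algebra over the subring Λ_p of the p-adic integers generated by the Teichmüller values and 1/(p(p −
1)), with χ the Teichmüller character, which is the published setting); assume moreover χ(m) ≡ m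
modulo pR for every m. Let A and A' be commutative and cocommutative Hopf algebras over R, finitely
generated and projective as R-modules of rank p at every prime (group schemes G, G' of order p over
Spec R), with dual Hopf algebras A^D = Hom_R(A, R) and A'^D (the Cartier duals; for a unit m of ℤ/p
the power map [m] acts on all four algebras). Suppose the χ-eigenspaces of the augmentation ideals
are free of rank one with chosen generators: I_1(A) = R·x and I_1(A^D) = R·ξ with ξ(x) = 1, and
similarly I_1(A') = R·x', I_1(A'^D) = R·ξ' with ξ'(x') = 1 (this is the case of a local base R);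
write x^p = α x, ξ^p = β ξ, x'^p = α' x', ξ'^p = β' ξ' with α, β, α', β' ∈ R. If there is a unit v
of R with α' = v^{p−1} α and β' = v^{−(p−1)} β, then A and A' are isomorphic as bialgebras over R,
i.e. G ≅ G'. (This is the injectivity of the classification map G ↦ (I_1, a, b) in the case where
the invertible module I_1 is free, the case the copy spells out; the general statement compares
triples consisting of an invertible module with two maps.) The published argument obtains
commutativity and p-torsion of G over a locally Noetherian base; this row allows any commutative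
ring R, over which both still hold. -/
theorem result
    (p : ℕ) [Fact p.Prime] (R : Type u) [CommRing R] (u : R) (hu : u * ((p - 1 : ℕ) : R) = 1)
    (χ : (ZMod p)ˣ →* Rˣ) (hχ : ∀ m : (ZMod p)ˣ, m ≠ 1 → IsUnit ((χ m : R) - 1))
    (hχp : ∀ m : (ZMod p)ˣ, ((χ m : Rˣ) : R) - (((m : ZMod p).val : ℕ) : R) ∈ Ideal.span ({(p : R)} : Set R))
    (A : Type u) [CommRing A] [HopfAlgebra R A] [Coalgebra.IsCocomm R A] [Module.Finite R A]
    [Module.Projective R A] (hrk : ∀ q : PrimeSpectrum R, Module.rankAtStalk A q = p)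
    (A' : Type u) [CommRing A'] [HopfAlgebra R A'] [Coalgebra.IsCocomm R A'] [Module.Finite R A']
    [Module.Projective R A'] (hrk' : ∀ q : PrimeSpectrum R, Module.rankAtStalk A' q = p)
    (x : A) (hx : Submodule.span R {x} = OortTate.eigenAug R A p χ 1)
    (ξ : CartDual.D R A) (hξ : Submodule.span R {ξ} = OortTate.eigenAug R (CartDual.D R A) p χ 1)
    (hxξ : CartDual.toDual R A ξ x = 1)
    (x' : A') (hx' : Submodule.span R {x'} = OortTate.eigenAug R A' p χ 1)
    (ξ' : CartDual.D R A') (hξ' : Submodule.span R {ξ'} = OortTate.eigenAug R (CartDual.D R A') p χ 1)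
    (hxξ' : CartDual.toDual R A' ξ' x' = 1)
    (α β α' β' : R) (hα : x ^ p = α • x) (hβ : ξ ^ p = β • ξ) (hα' : x' ^ p = α' • x')
    (hβ' : ξ' ^ p = β' • ξ')
    (v : Rˣ) (hαv : α' = ((v ^ (p - 1) : Rˣ) : R) * α) (hβv : β' = ((v⁻¹ ^ (p - 1) : Rˣ) : R) * β) :
    Nonempty (A ≃ₐc[R] A') := by
  open Groth.Agent.Lib.OT67 in
  classical
  have h2 := (Fact.out : p.Prime).two_le
  let I := OortTate.eigenAug R A p χ 1
  let I' := OortTate.eigenAug R A' p χ 1
  have hxI : x ∈ I := hx.le (Submodule.mem_span_singleton_self x)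
  have hx'I : x' ∈ I' := hx'.le (Submodule.mem_span_singleton_self x')
  have hxξ1 : ξ.ofConv x = 1 := hxξ
  have hxξ1' : ξ'.ofConv x' = 1 := hxξ'
  have hcoord : ∀ z ∈ I, z = ξ.ofConv z • x := fun z hz => by
    obtain ⟨r, rfl⟩ := Submodule.mem_span_singleton.1 (hx.ge hz)
    rw [map_smul, hxξ1, smul_eq_mul, mul_one]
  have hcoord' : ∀ z ∈ I', z = ξ'.ofConv z • x' := fun z hz => by
    obtain ⟨r, rfl⟩ := Submodule.mem_span_singleton.1 (hx'.ge hz)
    rw [map_smul, hxξ1', smul_eq_mul, mul_one]
  have hw : ((v⁻¹ : Rˣ) : R) * (v : R) = 1 := by rw [← Units.val_mul, inv_mul_cancel, Units.val_one]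
  have hwp : ((v⁻¹ : Rˣ) : R) ^ p = ((v⁻¹ : Rˣ) : R) * ((v⁻¹ : Rˣ) : R) ^ (p - 1) := by
    rw [← pow_succ', Nat.sub_add_cancel (by omega)]
  have hwv : ((v⁻¹ : Rˣ) : R) ^ (p - 1) * ((v ^ (p - 1) : Rˣ) : R) = 1 := by
    rw [Units.val_pow_eq_pow_val, ← mul_pow, hw, one_pow]
  let θ : I ≃ₗ[R] I' :=
    { toFun := fun z => ⟨(ξ.ofConv (z : A) * ((v⁻¹ : Rˣ) : R)) • x', Submodule.smul_mem _ _ hx'I⟩
      map_add' := fun a b => Subtype.ext (by simp [add_mul, add_smul])
      map_smul' := fun r a => Subtype.ext (by simp [mul_assoc, smul_smul])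
      invFun := fun z => ⟨(ξ'.ofConv (z : A') * (v : R)) • x, Submodule.smul_mem _ _ hxI⟩
      left_inv := fun z => Subtype.ext (by
        show (ξ'.ofConv ((ξ.ofConv (z : A) * ((v⁻¹ : Rˣ) : R)) • x') * (v : R)) • x = (z : A)
        rw [map_smul, hxξ1', smul_eq_mul, mul_one, mul_assoc, hw, mul_one]
        exact (hcoord _ z.2).symm)
      right_inv := fun z => Subtype.ext (by
        show (ξ.ofConv ((ξ'.ofConv (z : A') * (v : R)) • x) * ((v⁻¹ : Rˣ) : R)) • x' = (z : A')
        rw [map_smul, hxξ1, smul_eq_mul, mul_one, mul_assoc, mul_comm (v : R), hw, mul_one]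
        exact (hcoord' _ z.2).symm) }
  refine nonempty_bialgEquiv p hu hχ hχp hrk hrk' θ (fun f g hg => ?_) (fun φ φ' ψ ψ' hφ hψ hψ' z => ?_)
  · show (ξ.ofConv (g : A) * ((v⁻¹ : Rˣ) : R)) • x' = ∏ i, (ξ.ofConv (f i : A) * ((v⁻¹ : Rˣ) : R)) • x'
    have hg' : (g : A) = (∏ i, ξ.ofConv (f i : A)) • x ^ p := by
      rw [hg, Finset.prod_congr rfl fun i _ => hcoord _ (f i).2, Finset.prod_smul, Finset.prod_const,
        Finset.card_univ, Fintype.card_fin]
    rw [hg', hα, Finset.prod_smul, Finset.prod_const, Finset.card_univ, Fintype.card_fin, hα', smul_smul, smul_smul,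
      map_smul, hxξ1, smul_eq_mul, mul_one, Finset.prod_mul_distrib, Finset.prod_const, Finset.card_univ,
      Fintype.card_fin, hαv, hwp]
    congr 1
    linear_combination (-((∏ i, ξ.ofConv (f i : A)) * α * ((v⁻¹ : Rˣ) : R))) * hwv
  · have hξI : ξ ∈ OortTate.eigenAug R (CartDual.D R A) p χ 1 := hξ.le (Submodule.mem_span_singleton_self ξ)
    have hD : ∀ F ∈ OortTate.eigenAug R (CartDual.D R A) p χ 1, F = F.ofConv x • ξ := fun F hF => by
      obtain ⟨r, rfl⟩ := Submodule.mem_span_singleton.1 (hξ.ge hF)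
      rw [WithConv.ofConv_smul, LinearMap.smul_apply, hxξ1, smul_eq_mul, mul_one]
    have hD' : ∀ F ∈ OortTate.eigenAug R (CartDual.D R A') p χ 1, F = F.ofConv x' • ξ' := fun F hF => by
      obtain ⟨r, rfl⟩ := Submodule.mem_span_singleton.1 (hξ'.ge hF)
      rw [WithConv.ofConv_smul, LinearMap.smul_apply, hxξ1', smul_eq_mul, mul_one]
    have hφx : ∀ i, (φ i : CartDual.D R A).ofConv x = ((v⁻¹ : Rˣ) : R) * (φ' i : CartDual.D R A').ofConv x' := by
      intro i
      have h := hφ i ⟨x, hxI⟩
      change (φ i : CartDual.D R A).ofConv x =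
        (φ' i : CartDual.D R A').ofConv ((ξ.ofConv x * ((v⁻¹ : Rˣ) : R)) • x') at h
      rw [h, map_smul, hxξ1, one_mul, smul_eq_mul]
    have e1 : (ψ : CartDual.D R A) = (∏ i, (φ i : CartDual.D R A).ofConv x) • β • ξ := by
      rw [hψ, Finset.prod_congr rfl fun i _ => hD _ (φ i).2, Finset.prod_smul, Finset.prod_const,
        Finset.card_univ, Fintype.card_fin, hβ]
    have e2 : (ψ' : CartDual.D R A') = (∏ i, (φ' i : CartDual.D R A').ofConv x') • β' • ξ' := by
      rw [hψ', Finset.prod_congr rfl fun i _ => hD' _ (φ' i).2, Finset.prod_smul, Finset.prod_const,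
        Finset.card_univ, Fintype.card_fin, hβ']
    show (ψ : CartDual.D R A).ofConv (z : A) =
      (ψ' : CartDual.D R A').ofConv ((ξ.ofConv (z : A) * ((v⁻¹ : Rˣ) : R)) • x')
    rw [e1, e2]
    simp only [WithConv.ofConv_smul, LinearMap.smul_apply, map_smul, hxξ1', smul_eq_mul, mul_one, hφx,
      Finset.prod_mul_distrib, Finset.prod_const, Finset.card_univ, Fintype.card_fin, hβv, hwp,
      Units.val_pow_eq_pow_val]
    ring

end Groth.Agent.S18475
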