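import Groth.Statements.S17331
import Groth.Agent.Lib.OT67.Pairing
import Groth.Agent.S18475
import Groth.Agent.S15897
import Groth.Agent.S16069
import Groth.Agent.S16071
import Groth.Prelude.Def_CartDual2
-- import your own Groth.Agent.* helpers here

set_option autoImplicit false
universe u v
open Hopf

namespace Groth.Agent.S17331

open TensorProduct WithConv

theorem cocomm_of_generator {k : Type u} [Field k] [IsAlgClosed k] {A : Type u} [CommRing A] [HopfAlgebra k A]
    [Module.Finite k A] {p : ℕ} [Fact p.Prime] (hrk : Module.finrank k A = p) : Coalgebra.IsCocomm k A := by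
  obtain ⟨θ, hθ⟩ := Groth.Agent.Lib.OT67.exists_generator (k := k) (A := A) hrk
  refine Groth.Agent.S15897.result k A fun x y => ?_
  have key : ∀ a b : WithConv (A →ₗ[k] k), a * b = b * a := by
    intro a b
    have ha : a ∈ Submodule.span k (Set.range fun n : Fin p => θ ^ (n : ℕ)) := hθ ▸ Submodule.mem_top
    have hb : b ∈ Submodule.span k (Set.range fun n : Fin p => θ ^ (n : ℕ)) := hθ ▸ Submodule.mem_top
    induction ha using Submodule.span_induction with
    | mem a ha =>
      induction hb using Submodule.span_induction with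
      | mem b hb =>
        obtain ⟨m, rfl⟩ := ha; obtain ⟨n, rfl⟩ := hb
        exact (Commute.pow_pow_self θ _ _).eq
      | zero => rw [mul_zero, zero_mul]
      | add b c _ _ hb hc => rw [mul_add, add_mul, hb, hc]
      | smul r b _ hb => rw [mul_smul_comm, smul_mul_assoc, hb]
    | zero => rw [mul_zero, zero_mul]
    | add a c _ _ ha hc => rw [mul_add, add_mul, ha, hc]
    | smul r a _ ha => rw [mul_smul_comm, smul_mul_assoc, ha]
  exact key x y

theorem reduced_case {k : Type u} [Field k] [IsAlgClosed k] {A : Type u} [CommRing A] [HopfAlgebra k A]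
    [Module.Finite k A] [IsReduced A] {ℓ : ℕ} [Fact ℓ.Prime] (hrk : Module.finrank k A = ℓ) :
    Nonempty (A ≃ₐc[k] ConstGrp.F k (Multiplicative (ZMod ℓ))) := by
  classical
  obtain ⟨e⟩ := Groth.Agent.Lib.OT67.exists_cyclic (k := k) (A := A) hrk
  let Φ : A →ₐ[k] ConstGrp.F k (Multiplicative (ZMod ℓ)) := AlgHom.pi fun g => (e g).ofConv
  have hinj : Function.Injective Φ := fun a b h => by
    apply (Groth.Agent.Lib.OT67.gelfand (k := k) (A := A)).injective
    funext f
    rw [Groth.Agent.Lib.OT67.gelfand_apply, Groth.Agent.Lib.OT67.gelfand_apply, ← e.apply_symm_apply f]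
    exact congrFun h (e.symm f)
  have hbij : Function.Bijective Φ := ⟨hinj, fun w => by
    obtain ⟨a, ha⟩ := (Groth.Agent.Lib.OT67.gelfand (k := k) (A := A)).surjective fun f => w (e.symm f)
    refine ⟨a, funext fun g => ?_⟩
    show (e g).ofConv a = w g
    rw [← Groth.Agent.Lib.OT67.gelfand_apply, ha]
    exact congrArg w (e.symm_apply_apply g)⟩
  have hz : ∀ z : TensorProduct k (ConstGrp.F k (Multiplicative (ZMod ℓ))) (ConstGrp.F k (Multiplicative (ZMod ℓ))),
      z = ∑ a : Multiplicative (ZMod ℓ), ∑ b : Multiplicative (ZMod ℓ), ConstGrp.pair k (Multiplicative (ZMod ℓ)) z (a, b) • TensorProduct.tmul k (ConstGrp.e k a) (ConstGrp.e k b) := by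
    intro z
    induction z using TensorProduct.induction_on with
    | zero => simp
    | add p q hp hq =>
      conv_lhs => rw [hp, hq]
      simp only [map_add, ConstGrp.add_apply, add_smul, Finset.sum_add_distrib]
    | tmul f f' =>
      conv_lhs => rw [ConstGrp.eq_sum_smul_e f, ConstGrp.eq_sum_smul_e f', TensorProduct.sum_tmul]
      refine Finset.sum_congr rfl fun a _ => ?_
      rw [TensorProduct.tmul_sum]
      refine Finset.sum_congr rfl fun b _ => ?_
      rw [TensorProduct.tmul_smul, ← TensorProduct.smul_tmul', smul_smul, ConstGrp.pair_tmul, mul_comm]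
  refine ⟨BialgEquiv.ofAlgEquiv (AlgEquiv.ofBijective Φ hbij) (AlgHom.ext fun a => ?_) (AlgHom.ext fun a => ?_)⟩
  · show (e 1).ofConv a = Coalgebra.counit (R := k) a
    rw [map_one]; rfl
  · show Algebra.TensorProduct.map Φ Φ (Coalgebra.comul (R := k) a) = Coalgebra.comul (R := k) (Φ a)
    rw [hz (Algebra.TensorProduct.map Φ Φ (Coalgebra.comul (R := k) a)), hz (Coalgebra.comul (R := k) (Φ a))]
    refine Finset.sum_congr rfl fun g _ => Finset.sum_congr rfl fun h _ => ?_
    congr 1
    rw [ConstGrp.pair_comul]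
    show _ = (e (g * h)).ofConv a
    rw [map_mul, AlgHom.convMul_apply]
    induction Coalgebra.comul (R := k) a using TensorProduct.induction_on with
    | zero => simp
    | add x y hx hy => simp only [map_add, ConstGrp.add_apply, hx, hy]
    | tmul x y => rw [Algebra.TensorProduct.map_tmul, ConstGrp.pair_tmul]; simp [Φ]; rfl

theorem exists_data {k : Type u} [Field k] [IsAlgClosed k] {p : ℕ} [Fact p.Prime] [CharP k p]
    {A : Type u} [CommRing A] [HopfAlgebra k A] [Coalgebra.IsCocomm k A] [Module.Finite k A]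
    (hrk : Module.finrank k A = p) (h : ¬IsReduced A) (hD : ¬IsReduced (CartDual.D k A))
    {u : k} (hu : u * ((p - 1 : ℕ) : k) = 1) {χ : (ZMod p)ˣ →* kˣ}
    (hχ : ∀ m : (ZMod p)ˣ, m ≠ 1 → IsUnit ((χ m : k) - 1))
    (hχp : ∀ m : (ZMod p)ˣ, ((χ m : kˣ) : k) - (((m : ZMod p).val : ℕ) : k) ∈ Ideal.span ({(p : k)} : Set k)) :
    ∃ (x : A) (ξ : CartDual.D k A), Submodule.span k {x} = OortTate.eigenAug k A p χ 1 ∧
      Submodule.span k {ξ} = OortTate.eigenAug k (CartDual.D k A) p χ 1 ∧
      CartDual.toDual k A ξ x = 1 ∧ x ^ p = 0 ∧ ξ ^ p = 0 := by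
  have hr : ∀ q : PrimeSpectrum k, Module.rankAtStalk A q = p := fun q => by
    rw [Module.rankAtStalk_eq_finrank_of_free, ← hrk]; rfl
  haveI : Module.Free k (OortTate.eigenAug k A p χ 1) := Module.Free.of_divisionRing k _
  have h1 := Groth.Agent.Lib.OT67.eigen_rank_one p hu hχ hχp hr 1 ⊥
  rw [Module.rankAtStalk_eq_finrank_of_free] at h1
  haveI := Module.nontrivial_of_finrank_eq_succ (n := 0) h1
  obtain ⟨x, hx0⟩ := exists_ne (0 : OortTate.eigenAug k A p χ 1)
  have hx : ∀ z ∈ OortTate.eigenAug k A p χ 1, ∃ c : k, c • (x : A) = z := fun z hz => by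
    obtain ⟨c, hc⟩ := exists_smul_eq_of_finrank_eq_one h1 hx0 ⟨z, hz⟩
    exact ⟨c, congrArg Subtype.val hc⟩
  have hx0' : (x : A) ≠ 0 := fun e => hx0 (Subtype.ext e)
  obtain ⟨ψ, hψ⟩ := LinearMap.exists_extend (LinearEquiv.toSpanNonzeroSingleton k A (x : A) hx0').symm.toLinearMap
  have hψx : ψ (x : A) = 1 := by
    have := LinearMap.congr_fun hψ ⟨x, Submodule.mem_span_singleton_self _⟩
    rw [LinearMap.comp_apply, Submodule.subtype_apply] at this
    rw [this, LinearEquiv.coe_coe, LinearEquiv.symm_apply_eq, LinearEquiv.toSpanNonzeroSingleton_one]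
  let ξ : CartDual.D k A := WithConv.toConv (ψ ∘ₗ Groth.Agent.Lib.OT67.P p u χ 1)
  have hξ : ξ ∈ OortTate.eigenAug k (CartDual.D k A) p χ 1 := Groth.Agent.Lib.OT67.comp_P_mem p hu hr 1 ψ
  have hξx : ξ.ofConv (x : A) = 1 := by
    show ψ (Groth.Agent.Lib.OT67.P p u χ 1 (x : A)) = 1
    rw [Groth.Agent.Lib.OT67.P_of_mem p hu x.2, hψx]
  refine ⟨x, ξ, le_antisymm ((Submodule.span_singleton_le_iff_mem _ _).2 x.2)
      (fun z hz => Submodule.mem_span_singleton.2 (hx z hz)),
    le_antisymm ((Submodule.span_singleton_le_iff_mem _ _).2 hξ) (fun G hG => ?_), hξx, ?_, ?_⟩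
  · refine Submodule.mem_span_singleton.2 ⟨G.ofConv (x : A), ?_⟩
    refine Groth.Agent.Lib.OT67.dual_ext p hu hr (Submodule.smul_mem _ _ hξ) hG fun z hz => ?_
    obtain ⟨c, rfl⟩ := hx z hz
    simp only [WithConv.ofConv_smul, LinearMap.smul_apply, map_smul, hξx, smul_eq_mul]
    ring
  · obtain ⟨-, -, -, -, -, hp0⟩ := Groth.Agent.Lib.OT67.exists_structure (Fact.out : p.Prime) hrk h
    exact hp0 _ ((Groth.Agent.Lib.OT67.mem_eigenAug p).1 x.2).1
  · have hrkD : Module.finrank k (CartDual.D k A) = p := by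
      rw [(CartDual.toDual k A).finrank_eq, Subspace.dual_finrank_eq, hrk]
    obtain ⟨-, -, -, -, -, hp0⟩ :=
      Groth.Agent.Lib.OT67.exists_structure (A := CartDual.D k A) (Fact.out : p.Prime) hrkD hD
    exact hp0 _ ((Groth.Agent.Lib.OT67.mem_eigenAug p).1 hξ).1

theorem nonreduced_case {k : Type u} [Field k] [IsAlgClosed k] {p : ℕ} [Fact p.Prime] [CharP k p]
    {A : Type u} [CommRing A] [HopfAlgebra k A] [Module.Finite k A]
    (hrk : Module.finrank k A = p) (h : ¬IsReduced A) :
    Nonempty (A ≃ₐc[k] MonoidAlgebra k (Multiplicative (ZMod p))) ∨ Nonempty (A ≃ₐc[k] AlphaP.A p k) := by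
  classical
  haveI := cocomm_of_generator (k := k) (A := A) hrk
  have hrkD : Module.finrank k (CartDual.D k A) = p := by
    rw [(CartDual.toDual k A).finrank_eq, Subspace.dual_finrank_eq, hrk]
  by_cases hD : IsReduced (CartDual.D k A)
  · left
    obtain ⟨eD⟩ := reduced_case (k := k) (A := CartDual.D k A) hrkD
    obtain ⟨e, -⟩ := Groth.Agent.S16069.result k (Multiplicative (ZMod p))
    let f : A →ₐc[k] MonoidAlgebra k (Multiplicative (ZMod p)) :=
      (e : CartDual.D k (ConstGrp.F k (Multiplicative (ZMod p))) →ₐc[k] MonoidAlgebra k (Multiplicative (ZMod p))).comp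
        ((CartDual.transpose k (eD.symm : ConstGrp.F k (Multiplicative (ZMod p)) →ₐc[k] CartDual.D k A)).comp
          (CartDual.eval k A))
    have hinj : Function.Injective f := fun a b hab => by
      have hab' : CartDual.transpose k (eD.symm : ConstGrp.F k (Multiplicative (ZMod p)) →ₐc[k] CartDual.D k A)
          (CartDual.eval k A a) =
          CartDual.transpose k (eD.symm : ConstGrp.F k (Multiplicative (ZMod p)) →ₐc[k] CartDual.D k A)
          (CartDual.eval k A b) := e.injective hab
      refine Module.eval_apply_injective k (LinearMap.ext fun φ => ?_)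
      have h2 := congrArg (fun t : CartDual.D k (ConstGrp.F k (Multiplicative (ZMod p))) =>
        t.ofConv (eD (WithConv.toConv φ))) hab'
      change (eD.symm (eD (WithConv.toConv φ))).ofConv a = (eD.symm (eD (WithConv.toConv φ))).ofConv b at h2
      rwa [eD.symm_apply_apply] at h2
    have hdim : Module.finrank k A = Module.finrank k (MonoidAlgebra k (Multiplicative (ZMod p))) := by
      rw [hrk, Module.finrank_eq_card_basis (MonoidAlgebra.basis _ k), Fintype.card_multiplicative, ZMod.card]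
    exact ⟨BialgEquiv.ofBijective f ⟨hinj,
      (LinearMap.injective_iff_surjective_of_finrank_eq_finrank hdim (f := (f : A →ₗ[k] _))).1 hinj⟩⟩
  · right
    let u : k := -1
    have hu : u * ((p - 1 : ℕ) : k) = 1 := by
      rw [Nat.cast_sub (Fact.out : p.Prime).one_le, CharP.cast_eq_zero, Nat.cast_one, zero_sub, neg_mul_neg, one_mul]
    let c : ZMod p →+* k := ZMod.castHom (dvd_refl p) k
    let χ : (ZMod p)ˣ →* kˣ := Units.map (c : ZMod p →* k)
    have hχv : ∀ m : (ZMod p)ˣ, ((χ m : kˣ) : k) = c (m : ZMod p) := fun m => rfl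
    have hχ : ∀ m : (ZMod p)ˣ, m ≠ 1 → IsUnit ((χ m : k) - 1) := fun m hm => by
      refine IsUnit.mk0 _ (sub_ne_zero.2 fun e => hm ?_)
      rw [hχv, ← map_one c] at e
      exact Units.ext (c.injective e)
    have hχp : ∀ m : (ZMod p)ˣ, ((χ m : kˣ) : k) - (((m : ZMod p).val : ℕ) : k) ∈ Ideal.span ({(p : k)} : Set k) :=
      fun m => by rw [hχv, ZMod.natCast_val, ZMod.castHom_apply, sub_self]; exact zero_mem _
    have hα : ¬IsReduced (AlphaP.A p k) := fun hr => by
      have hb := (AlphaP.basis p k).ne_zero ⟨1, (Fact.out : p.Prime).one_lt⟩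
      rw [AlphaP.basis_apply, pow_one] at hb
      exact hb (IsNilpotent.eq_zero ⟨p, AlphaP.x_pow p k⟩)
    obtain ⟨eα, -⟩ := Groth.Agent.S16071.result p k
    have hαD : ¬IsReduced (CartDual.D k (AlphaP.A p k)) := fun hr =>
      hα (isReduced_of_injective eα.symm eα.symm.injective)
    obtain ⟨x, ξ, hx, hξ, hxξ, hxp, hξp⟩ := exists_data hrk h hD hu hχ hχp
    obtain ⟨x', ξ', hx', hξ', hxξ', hxp', hξp'⟩ := exists_data (AlphaP.finrank_eq p k) hα hαD hu hχ hχp
    exact Groth.Agent.S18475.result p k u hu χ hχ hχp A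
      (fun q => by rw [Module.rankAtStalk_eq_finrank_of_free, ← hrk]; rfl) (AlphaP.A p k)
      (fun q => by rw [Module.rankAtStalk_eq_finrank_of_free]; exact AlphaP.finrank_eq p k)
      x hx ξ hξ hxξ x' hx' ξ' hξ' hxξ' 0 0 0 0 (by rw [hxp, zero_smul]) (by rw [hξp, zero_smul])
      (by rw [hxp', zero_smul]) (by rw [hξp', zero_smul]) 1 (by rw [mul_zero]) (by rw [mul_zero])

/-- Let k be an algebraically closed field of characteristic p > 0, ℓ a prime, and A a commutative Hopf
algebra over k of dimension ℓ as a k-vector space (a finite group scheme G of prime order ℓ). If ℓ ≠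
p then G ≅ ℤ/ℓ: A is isomorphic as a bialgebra to the algebra of k-valued functions on the cyclic
group of order ℓ. If ℓ = p then G is isomorphic to ℤ/p, μ_p or α_p: A is isomorphic as a bialgebra
to the algebra of functions on the cyclic group of order p, to its group algebra (group elements
group-like), or to k[X]/(X^p) with X primitive. -/
theorem result (k : Type u) [Field k] [IsAlgClosed k]
    (p : ℕ) [Fact p.Prime] [CharP k p] (A : Type v) [CommRing A] [HopfAlgebra k A]
    (ℓ : ℕ) [Fact ℓ.Prime] (hA : Module.finrank k A = ℓ) :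
    (ℓ ≠ p → Nonempty (A ≃ₐc[k] ConstGrp.F k (Multiplicative (ZMod ℓ)))) ∧
      (ℓ = p → Nonempty (A ≃ₐc[k] ConstGrp.F k (Multiplicative (ZMod p))) ∨
        Nonempty (A ≃ₐc[k] MonoidAlgebra k (Multiplicative (ZMod p))) ∨
        Nonempty (A ≃ₐc[k] AlphaP.A p k)) := by
  classical
  haveI : Module.Finite k A := Module.finite_of_finrank_pos (hA ▸ (Fact.out : ℓ.Prime).pos)
  haveI : Small.{u} A := small_of_injective (Module.finBasis k A).equivFun.injective
  let e : Shrink.{u} A ≃ₐ[k] A := Shrink.algEquiv k A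
  letI : HopfAlgebra k (Shrink.{u} A) := Groth.Agent.Lib.HopfTransfer.hopfAlgebra e
  haveI : Module.Finite k (Shrink.{u} A) := Module.Finite.equiv e.toLinearEquiv.symm
  let E : Shrink.{u} A ≃ₐc[k] A := Groth.Agent.Lib.HopfTransfer.bialgEquiv e
  have hA' : Module.finrank k (Shrink.{u} A) = ℓ := e.toLinearEquiv.finrank_eq.trans hA
  refine ⟨fun hne => ?_, fun heq => ?_⟩
  · haveI : IsReduced (Shrink.{u} A) := by
      by_contra h
      obtain ⟨hc, -⟩ := Groth.Agent.Lib.OT67.exists_structure (Fact.out : ℓ.Prime) hA' h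
      exact hne (CharP.eq k hc ‹CharP k p›)
    obtain ⟨f⟩ := reduced_case hA'
    exact ⟨E.symm.trans f⟩
  · subst heq
    by_cases h : IsReduced (Shrink.{u} A)
    · obtain ⟨f⟩ := reduced_case hA'
      exact Or.inl ⟨E.symm.trans f⟩
    · right
      rcases nonreduced_case (p := ℓ) hA' h with hf | hf
      · exact Or.inl (hf.elim fun f => ⟨E.symm.trans f⟩)
      · exact Or.inr (hf.elim fun f => ⟨E.symm.trans f⟩)

end Groth.Agent.S17331
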