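import Groth.Statements.S17332
import Mathlib.Algebra.Algebra.Pi
import Mathlib.Algebra.BigOperators.Pi
import Mathlib.Algebra.GroupWithZero.Idempotent

set_option autoImplicit false
universe u v w
open CAlg

namespace Groth.Agent.S17332

/-- Let k be a field, E and F finite sets, and O(E), O(F) the k-algebras of k-valued functions with
pointwise operations. Then every k-algebra homomorphism u : O(F) → O(E) is pull-back along a unique
map φ : E → F, i.e. u(g) = g ∘ φ for all g. (In the source k is algebraically closed; the printed
argument only uses that k is a field.) -/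
theorem result (k : Type u) [Field k] (E : Type v) [Finite E]
    (F : Type w) [Finite F] (u : (F → k) →ₐ[k] (E → k)) :
    ∃! φ : E → F, ∀ g : F → k, u g = g ∘ φ := by
  classical
  have key : ∀ χ : (F → k) →ₐ[k] k, ∃ x : F, ∀ g : F → k, χ g = g x := by
    intro χ
    have : Fintype F := Fintype.ofFinite F
    obtain ⟨x, -, hx⟩ : ∃ x ∈ Finset.univ, χ (Pi.single x 1) ≠ 0 := by
      apply Finset.exists_ne_zero_of_sum_ne_zero
      rw [← map_sum, Finset.univ_sum_single, ← Pi.one_def, map_one]
      exact one_ne_zero
    have hx1 : χ (Pi.single x 1) = 1 := by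
      have hid : IsIdempotentElem (χ (Pi.single x 1)) := by
        rw [IsIdempotentElem, ← map_mul, ← Pi.single_mul, one_mul]
      exact (IsIdempotentElem.iff_eq_zero_or_one (G₀ := k) |>.mp hid).resolve_left hx
    refine ⟨x, fun g => ?_⟩
    have h : g * Pi.single x (1 : k) = g x • Pi.single x (1 : k) := by
      ext j
      rcases eq_or_ne j x with rfl | hj
      · simp
      · simp [hj]
    have h2 := congrArg χ h
    rw [map_mul, map_smul, hx1, mul_one, smul_eq_mul, mul_one] at h2
    exact h2
  choose φ hφ using fun e : E => key ((Pi.evalAlgHom k (fun _ : E => k) e).comp u)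
  refine ⟨φ, fun g => funext fun e => hφ e g, fun ψ hψ => funext fun e => ?_⟩
  have h1 := congrFun (hψ (Pi.single (φ e) 1)) e
  have h2 := hφ e (Pi.single (φ e) 1)
  simp only [AlgHom.coe_comp, Function.comp_apply, Pi.evalAlgHom_apply] at h2
  rw [h2, Function.comp_apply, Pi.single_eq_same] at h1
  by_contra hne
  rw [Pi.single_eq_of_ne hne] at h1
  exact one_ne_zero h1

end Groth.Agent.S17332
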