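import Groth.Statements.S17333
import Mathlib.RingTheory.Derivation.Basic

set_option autoImplicit false
universe u v w
open CAlg

namespace Groth.Agent.S17333

/-- Let k be a field and A = B × C a decomposable commutative k-algebra. Then the natural map Der(B) ×
Der(C) → Der(A) is bijective: every k-derivation D : A → A is (b, c) ↦ (D₁ b, D₂ c) for a unique
pair of k-derivations D₁ : B → B, D₂ : C → C. Compatibility with brackets is not stated. (The
published statement takes k algebraically closed; this row takes any field.) -/
theorem result (k : Type u) [Field k] (B : Type v) [CommRing B] [Algebra k B]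
    (C : Type w) [CommRing C] [Algebra k C] (D : Derivation k (B × C) (B × C)) :
    ∃! P : Derivation k B B × Derivation k C C, ∀ (b : B) (c : C), D (b, c) = (P.1 b, P.2 c) := by
  have he : D (1, 0) = 0 ∧ D (0, 1) = 0 := by
    have h10 : D (1, 0) = 0 := by
      have h := D.leibniz (1, 0) (1, 0)
      rw [Prod.mk_mul_mk, one_mul, zero_mul] at h
      generalize D ((1, 0) : B × C) = z at h ⊢
      obtain ⟨a, c⟩ := z
      simp only [smul_eq_mul, Prod.mk_mul_mk, Prod.mk_add_mk, one_mul, zero_mul, add_zero, Prod.mk.injEq] at h
      rcases h with ⟨h1, h2⟩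
      simp [h2, left_eq_add.mp h1]
    refine ⟨h10, ?_⟩
    have h := D.map_one_eq_zero
    rw [show (1 : B × C) = (1, 0) + (0, 1) by rw [Prod.mk_add_mk, add_zero, zero_add]; rfl, map_add, h10, zero_add] at h
    exact h
  have hb : ∀ b : B, (D (b, 0)).2 = 0 := by
    intro b
    have h := D.leibniz ((1, 0) : B × C) (b, 0)
    rw [Prod.mk_mul_mk, one_mul, zero_mul, he.1, smul_zero, add_zero] at h
    rw [h]; simp
  have hc : ∀ c : C, (D (0, c)).1 = 0 := by
    intro c
    have h := D.leibniz ((0, 1) : B × C) (0, c)
    rw [Prod.mk_mul_mk, one_mul, zero_mul, he.2, smul_zero, add_zero] at h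
    rw [h]; simp
  let P₁ : Derivation k B B := Derivation.mk'
    { toFun := fun b => (D (b, 0)).1
      map_add' := fun x y => by rw [← Prod.fst_add, ← map_add, Prod.mk_add_mk, add_zero]
      map_smul' := fun r x => by
        rw [RingHom.id_apply, ← Prod.smul_fst, ← D.map_smul, Prod.smul_mk, smul_zero] }
    (fun x y => by
      have h := congrArg Prod.fst (D.leibniz ((x, 0) : B × C) (y, 0))
      simpa using h)
  let P₂ : Derivation k C C := Derivation.mk'
    { toFun := fun c => (D (0, c)).2
      map_add' := fun x y => by rw [← Prod.snd_add, ← map_add, Prod.mk_add_mk, add_zero]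
      map_smul' := fun r x => by
        rw [RingHom.id_apply, ← Prod.smul_snd, ← D.map_smul, Prod.smul_mk, smul_zero] }
    (fun x y => by
      have h := congrArg Prod.snd (D.leibniz ((0, x) : B × C) (0, y))
      simpa using h)
  have hsplit : ∀ (b : B) (c : C), D (b, c) = D (b, 0) + D (0, c) := fun b c => by
    rw [← map_add, Prod.mk_add_mk, add_zero, zero_add]
  refine ⟨(P₁, P₂), fun b c => ?_, fun P hP => ?_⟩
  · rw [hsplit]
    ext
    · rw [Prod.fst_add, hc, add_zero]; rfl
    · rw [Prod.snd_add, hb, zero_add]; rfl
  · refine Prod.ext (Derivation.ext fun b => ?_) (Derivation.ext fun c => ?_)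
    · show P.1 b = (D (b, 0)).1
      rw [hP]
    · show P.2 c = (D (0, c)).2
      rw [hP]

end Groth.Agent.S17333
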