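import Groth.Statements.S17334
import Mathlib

set_option autoImplicit false
universe u v
open CAlg

namespace Groth.Agent.S17334

/-- Let k be a field and A a nonzero commutative k-algebra which is finite-dimensional as a k-vector
space. Then A is indecomposable (no decomposition as a product of two nonzero rings, i.e. no
idempotent other than 0 and 1) if and only if A is a local ring. (In the source k is algebraically
closed and the lemma adds that the maximal ideal is then the nilradical, is nilpotent, and has
residue field k; the equivalence itself uses only that k is a field, and the zero algebra is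
excluded here explicitly.) -/
theorem result (k : Type u) [Field k]
    (A : Type v) [CommRing A] [Algebra k A] [Module.Finite k A] [Nontrivial A] :
    (∀ e : A, IsIdempotentElem e → e = 0 ∨ e = 1) ↔ IsLocalRing A := by
  haveI : IsArtinianRing A := IsArtinianRing.of_finite k A
  refine ⟨fun h => ?_, fun hA e he => ?_⟩
  · have key : ∀ x : A, IsUnit x ∨ IsNilpotent x := by
      intro x
      obtain ⟨n, y, hy⟩ := IsArtinian.exists_pow_succ_smul_dvd (R := A) (M := A) x (1 : A)
      have hy' : x ^ n = x ^ (n + 1) * y := by
        have := hy
        simpa [smul_eq_mul, pow_succ] using this.symm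
      have hstab : ∀ j : ℕ, x ^ n = x ^ (n + j) * y ^ j := by
        intro j
        induction j with
        | zero => simp
        | succ j ih =>
          calc x ^ n = x ^ (n + j) * y ^ j := ih
            _ = x ^ n * (x ^ j * y ^ j) := by ring
            _ = (x ^ (n + 1) * y) * (x ^ j * y ^ j) := by rw [← hy']
            _ = x ^ (n + (j + 1)) * y ^ (j + 1) := by ring
      have h2 := hstab n
      rcases h (x ^ n * y ^ n) (by
        show x ^ n * y ^ n * (x ^ n * y ^ n) = x ^ n * y ^ n
        calc _ = x ^ (n + n) * y ^ n * y ^ n := by ring
          _ = x ^ n * y ^ n := by rw [← h2]) with h0 | h0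
      · refine Or.inr ⟨n, ?_⟩
        calc x ^ n = x ^ n * (x ^ n * y ^ n) := by rw [← mul_assoc, ← pow_add, ← h2]
          _ = 0 := by rw [h0, mul_zero]
      · rcases Nat.eq_zero_or_pos n with rfl | hn
        · left
          exact IsUnit.of_mul_eq_one y (by simpa using hy'.symm)
        · left
          have h3 : IsUnit (x ^ n) := IsUnit.of_mul_eq_one _ h0
          exact (isUnit_pow_iff hn.ne').mp h3
    refine IsLocalRing.of_nonunits_add fun a b ha hb => ?_
    have hna := (key a).resolve_left ha
    have hnb := (key b).resolve_left hb
    exact fun hu => (hu.ne_zero) (by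
      obtain ⟨m, hm⟩ := (Commute.all a b).isNilpotent_add hna hnb
      exact absurd ((hu.pow m)) (by rw [hm]; exact not_isUnit_zero))
  · rcases IsLocalRing.isUnit_or_isUnit_one_sub_self e with hu | hu
    · right
      exact hu.mul_left_cancel (by rw [mul_one]; exact he)
    · left
      exact hu.mul_left_cancel (by rw [mul_zero, sub_mul, one_mul, show e * e = e from he, sub_self])

end Groth.Agent.S17334
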