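import Groth.Statements.S17338
import Groth.Prelude.Def_CartDual
import Groth.Agent.H68.RestrictedHopf
import Mathlib.LinearAlgebra.Dimension.Free
import Mathlib.LinearAlgebra.FreeModule.Basic
import Mathlib.LinearAlgebra.Basis.VectorSpace
import Mathlib.LinearAlgebra.Dual.Lemmas
-- import your own Groth.Agent.* helpers here

set_option autoImplicit false
universe u v
open Hopf

namespace Groth.Agent.S17338

section
open TensorProduct Groth.Agent.H68.RestrictedHopf

variable {k : Type u} [Field k] {p : ℕ} [Fact p.Prime] [CharP k p]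
variable {L : Type u} [LieRing L] [LieAlgebra k L] {n : ℕ} (b : Module.Basis (Fin n) k L)
  (φ : PLie.PMap k p L)

/-- the coordinate ring -/
abbrev A' := CartDual.D k (uL b φ)

lemma conv_mul (f g : A' b φ) (a : uL b φ) :
    (f * g) a = CartDual.ev₂ k (uL b φ) (f ⊗ₜ g) (comulHom b φ a) := by
  rw [CartDual.ev₂_tmul_eq', LinearMap.convMul_def]
  rfl

/-- translation by an element of `L` -/
noncomputable def trans (x : L) : A' b φ →ₗ[k] A' b φ :=
  (CartDual.toDual k (uL b φ)).symm.toLinearMap ∘ₗ
    (LinearMap.mulRight k (j b φ x)).dualMap ∘ₗ (CartDual.toDual k (uL b φ)).toLinearMap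

lemma trans_apply (x : L) (f : A' b φ) (a : uL b φ) : trans b φ x f a = f (a * j b φ x) := rfl

lemma trans_leibniz (x : L) (f g : A' b φ) :
    trans b φ x (f * g) = f • trans b φ x g + g • trans b φ x f := by
  rw [smul_eq_mul, smul_eq_mul, mul_comm g]
  apply WithConv.ext; apply LinearMap.ext; intro a
  change trans b φ x (f * g) a = (f * trans b φ x g) a + (trans b φ x f * g) a
  rw [trans_apply, conv_mul, conv_mul, conv_mul, map_mul, comulHom_j]
  generalize comulHom b φ a = t
  induction t using TensorProduct.induction_on with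
  | zero => simp
  | add t t' h h' => simp only [add_mul, map_add, h, h']; abel
  | tmul a₁ a₂ => simp [mul_add, trans_apply]; ring

/-- the invariant derivation attached to `x` -/
noncomputable def der : L →ₗ[k] Derivation k (A' b φ) (A' b φ) where
  toFun x := Derivation.mk' (trans b φ x) (trans_leibniz b φ x)
  map_add' x y := by
    ext f a
    change f (a * j b φ (x + y)) = f (a * j b φ x) + f (a * j b φ y)
    rw [map_add, mul_add, CartDual.coe_apply, map_add]
  map_smul' c x := by
    ext f a
    change f (a * j b φ (c • x)) = c • f (a * j b φ x)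
    rw [map_smul, mul_smul_comm, CartDual.coe_apply, map_smul]

lemma der_apply (x : L) (f : A' b φ) (a : uL b φ) : der b φ x f a = f (a * j b φ x) := rfl

lemma der_iterate (x : L) : ∀ (m : ℕ) (f : A' b φ) (a : uL b φ),
    (((der b φ x).toLinearMap ^ m) f) a = f (a * j b φ x ^ m)
  | 0, f, a => by simp
  | m + 1, f, a => by
    rw [pow_succ', Module.End.mul_apply]
    change der b φ x (((der b φ x).toLinearMap ^ m) f) a = _
    rw [der_apply, der_iterate x m, mul_assoc, ← pow_succ']

lemma pow_p_eq_zero (f : A' b φ) (hf : f 1 = 0) : f ^ p = 0 := by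
  have h0 : ∀ x : L, der b φ x (f ^ p) = 0 := by
    intro x
    rw [Derivation.leibniz_pow, ← Nat.cast_smul_eq_nsmul k, CharP.cast_eq_zero, zero_smul]
  have h1 : ∀ a c : uL b φ, (f ^ p) (c * a) = (f ^ p) c * counitHom b φ a := by
    intro a
    induction a using u_induction b φ with
    | halg r =>
      intro c
      rw [AlgHom.commutes, Algebra.algebraMap_eq_smul_one, mul_smul_comm, mul_one,
        CartDual.coe_apply, map_smul, Algebra.algebraMap_self, RingHom.id_apply, smul_eq_mul,
        mul_comm]
    | hj x =>
      intro c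
      rw [← der_apply, h0 x, counitHom_j, mul_zero]
      rfl
    | hmul a a' ha ha' =>
      intro c
      rw [← mul_assoc, ha', ha, map_mul, mul_assoc]
    | hadd a a' ha ha' =>
      intro c
      rw [mul_add, CartDual.coe_apply, map_add, map_add, mul_add, ← ha, ← ha']
  apply WithConv.ext; apply LinearMap.ext; intro a
  have h2 : (f ^ p) 1 = 0 := by
    have := map_pow (Bialgebra.counitAlgHom k (A' b φ)) f p
    change (f ^ p) 1 = (f 1) ^ p at this
    rw [this, hf, zero_pow (Fact.out : p.Prime).ne_zero]
  have := h1 a 1
  rw [one_mul, h2, zero_mul] at this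
  exact this

lemma der_leftInvariant (x : L) :
    CoalgebraStruct.comul (R := k) (A := A' b φ) ∘ₗ (der b φ x).toLinearMap =
      LinearMap.lTensor (A' b φ) (der b φ x).toLinearMap ∘ₗ
        CoalgebraStruct.comul (R := k) (A := A' b φ) := by
  apply LinearMap.ext; intro f
  apply (CartDual.ev₂ k (uL b φ)).injective
  apply TensorProduct.ext'
  intro a c
  have h : ∀ y : A' b φ ⊗[k] A' b φ,
      CartDual.ev₂ k (uL b φ) (LinearMap.lTensor (A' b φ) (der b φ x).toLinearMap y) (a ⊗ₜ c) =
        CartDual.ev₂ k (uL b φ) y (a ⊗ₜ (c * j b φ x)) := by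
    intro y
    induction y using TensorProduct.induction_on with
    | zero => simp
    | add y y' hy hy' => simp only [map_add, LinearMap.add_apply, hy, hy']
    | tmul g g' => simp [LinearMap.lTensor_tmul, der_apply]
  rw [LinearMap.comp_apply, LinearMap.comp_apply, h, CartDual.comul_def, CartDual.ev₂_comul_tmul,
    CartDual.ev₂_comul_tmul, ← mul_assoc]
  rfl

lemma exists_of_leftInvariant (D : Derivation k (A' b φ) (A' b φ))
    (hD : CoalgebraStruct.comul (R := k) (A := A' b φ) ∘ₗ D.toLinearMap =
      LinearMap.lTensor (A' b φ) D.toLinearMap ∘ₗ CoalgebraStruct.comul (R := k) (A := A' b φ)) :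
    ∃ x, der b φ x = D := by
  let δ : Module.Dual k (Module.Dual k (uL b φ)) :=
    CartDual.counit k (uL b φ) ∘ₗ D.toLinearMap ∘ₗ (CartDual.toDual k (uL b φ)).symm.toLinearMap
  let w : uL b φ := (Module.evalEquiv k (uL b φ)).symm δ
  have hw : ∀ g : A' b φ, g w = D g 1 := fun g => by
    change (CartDual.toDual k (uL b φ) g) w = _
    rw [Module.apply_evalEquiv_symm_apply]
    rfl
  have hDg : ∀ (g : A' b φ) (a : uL b φ), D g a = g (a * w) := by
    intro g a
    have h : ∀ y : A' b φ ⊗[k] A' b φ,
        CartDual.ev₂ k (uL b φ) (LinearMap.lTensor (A' b φ) D.toLinearMap y) (a ⊗ₜ 1) =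
          CartDual.ev₂ k (uL b φ) y (a ⊗ₜ w) := by
      intro y
      induction y using TensorProduct.induction_on with
      | zero => simp
      | add y y' hy hy' => simp only [map_add, LinearMap.add_apply, hy, hy']
      | tmul g₁ g₂ => simp [LinearMap.lTensor_tmul, hw]
    have := congrArg (fun T => CartDual.ev₂ k (uL b φ) (T g) (a ⊗ₜ (1 : uL b φ))) hD
    simp only [LinearMap.comp_apply, h, CartDual.comul_def, CartDual.ev₂_comul_tmul, mul_one] at this
    exact this
  have hprim : comulHom b φ w = w ⊗ₜ 1 + 1 ⊗ₜ w := by
    rw [← sub_eq_zero, ← Module.forall_dual_apply_eq_zero_iff k]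
    intro F
    obtain ⟨y, rfl⟩ := (CartDual.ev₂ k (uL b φ)).surjective F
    induction y using TensorProduct.induction_on with
    | zero => simp
    | add y y' hy hy' => simp only [map_add, LinearMap.add_apply, hy, hy', add_zero]
    | tmul g g' =>
      rw [map_sub, ← conv_mul, hw, D.leibniz, map_add, CartDual.ev₂_tmul, CartDual.ev₂_tmul, hw, hw]
      have h1 : ∀ s t : A' b φ, (s • t) 1 = s 1 * t 1 := fun s t =>
        CartDual.counit_mul' k (uL b φ) s t
      rw [CartDual.coe_apply, WithConv.ofConv_add, LinearMap.add_apply, ← CartDual.coe_apply,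
        ← CartDual.coe_apply, h1, h1]
      ring
  obtain ⟨x, hx⟩ := primitive_mem b φ w hprim
  refine ⟨x, ?_⟩
  ext g a
  rw [der_apply, hDg, hx]

end

open Groth.Agent.H68.RestrictedHopf in
/-- Let k be an algebraically closed field of characteristic p > 0 and (L, x ↦ x^[p]) a
finite-dimensional restricted Lie algebra over k. Then L is the Lie algebra of an infinitesimal
group scheme of height at most one: there are a commutative Hopf algebra A over k,
finite-dimensional as a k-vector space, with f^p = 0 for every f in the augmentation ideal, and an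
injective k-linear map e from L to the k-derivations of A whose image is exactly the set of
left-invariant derivations (those D with Δ ∘ D = (id ⊗ D) ∘ Δ), such that e takes brackets to
commutators of derivations and x^[p] to the p-th power of e(x) as an endomorphism of A. (The
assignment G ↦ Lie(G) is moreover fully faithful on height ≤ 1 groups; that half is not stated
here.) -/
theorem result (k : Type u) [Field k]
    [IsAlgClosed k] (p : ℕ) [Fact p.Prime] [CharP k p]
    (L : Type u) [LieRing L] [LieAlgebra k L] [Module.Finite k L] (φ : PLie.PMap k p L) :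
    ∃ (A : Type u) (_ : CommRing A) (_ : HopfAlgebra k A), Module.Finite k A ∧
      (∀ f : A, Bialgebra.counitAlgHom k A f = 0 → f ^ p = 0) ∧
      ∃ e : L →ₗ[k] Derivation k A A, Function.Injective e ∧
        Set.range e = {D : Derivation k A A | CoalgebraStruct.comul (R := k) (A := A) ∘ₗ D.toLinearMap =
          LinearMap.lTensor A D.toLinearMap ∘ₗ CoalgebraStruct.comul (R := k) (A := A)} ∧
        (∀ x y : L, e ⁅x, y⁆ = ⁅e x, e y⁆) ∧
        (∀ x : L, (e (φ x)).toLinearMap = (e x).toLinearMap ^ p) := by
  let b := Module.finBasis k L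
  refine ⟨A' b φ, inferInstance, inferInstance, inferInstance,
    fun f hf => pow_p_eq_zero b φ f hf, der b φ, ?_, ?_, ?_, ?_⟩
  · rw [injective_iff_map_eq_zero]
    intro x hx
    apply j_injective b φ
    rw [map_zero, ← Module.forall_dual_apply_eq_zero_iff k]
    intro F
    have := congrArg (fun D : Derivation k (A' b φ) (A' b φ) => D (WithConv.toConv F) 1) hx
    simpa [der_apply] using this
  · ext D
    exact ⟨by rintro ⟨x, rfl⟩; exact der_leftInvariant b φ x,
      fun hD => exists_of_leftInvariant b φ D hD⟩
  · intro x y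
    ext f a
    rw [Derivation.commutator_apply]
    change f (a * j b φ ⁅x, y⁆) = f (a * j b φ x * j b φ y) - f (a * j b φ y * j b φ x)
    rw [j_lie, mul_sub, ← mul_assoc, ← mul_assoc, CartDual.coe_apply, map_sub]
  · intro x
    apply LinearMap.ext; intro f
    apply WithConv.ext; apply LinearMap.ext; intro a
    change der b φ (φ x) f a = (((der b φ x).toLinearMap ^ p) f) a
    rw [der_iterate, der_apply, j_pow]

end Groth.Agent.S17338
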