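import Groth.Statements.S17342
import Groth.Agent.S19737
import Groth.Agent.S7928
import Groth.Agent.Lib.SurfRR.Regular
import Groth.Agent.Lib.SurfFactor85.Iso
import Groth.Agent.Lib.SurfInt.Mul
import Groth.Agent.Lib.CartierDescent.Stalk
import Groth.Agent.Lib.Flat55.CurveNormalizationBC
import Groth.Agent.Lib.RelDiv.Diff
import Groth.Agent.Lib.ModelFibre.IdealPull
-- import your own Groth.Agent.* helpers here

set_option autoImplicit false
set_option linter.style.haveILetI false
set_option maxHeartbeats 1000000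
universe u
open CategoryTheory CategoryTheory.Limits AlgebraicGeometry
open LocPos

namespace Groth.Agent.S17342

open Groth.Agent.Lib Groth.Agent.Lib.ModelFibre Groth.Agent.Lib.SurfInt TopologicalSpace
open Groth.Agent.Lib.Ideal.Prime (stalkIdeal)

noncomputable local instance picLawInst (Z : Scheme.{u}) : PicGrp.Law Z := TensorMod.Invertible.law Z

/-- A dominant birational morphism of integral schemes is injective on local rings. -/
theorem stalkMap_injective {X Y : Scheme.{u}} [IsIntegral X] [IsIntegral Y] (f : Y ⟶ X)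
    (Ω : X.Opens) [IsIso (f ∣_ Ω)] (hη : f (genericPoint Y) ∈ Ω) (p : Y) :
    Function.Injective (f.stalkMap p).hom := by
  rw [injective_iff_map_eq_zero]
  intro a ha
  obtain ⟨U, hU, s, rfl⟩ := X.presheaf.exists_germ_eq a
  rw [Scheme.Hom.germ_stalkMap_apply] at ha
  have hpU : p ∈ f ⁻¹ᵁ U := hU
  have h1 : f.app U s = 0 :=
    germ_injective_of_isIntegral (X := Y) p hpU (ha.trans (map_zero _).symm)
  have hgU : genericPoint Y ∈ f ⁻¹ᵁ U := ((genericPoint_spec Y).mem_open_set_iff (f ⁻¹ᵁ U).2).2 ⟨p, trivial, hpU⟩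
  haveI := SurfFactor85.Iso.isIso_stalkMap_of_restrict f Ω (genericPoint Y) hη
  have h2 : X.presheaf.germ U (f (genericPoint Y)) hgU s = 0 := by
    apply (ConcreteCategory.bijective_of_isIso (f.stalkMap (genericPoint Y))).1
    rw [map_zero]
    refine (Scheme.Hom.germ_stalkMap_apply f U (genericPoint Y) hgU s).trans ?_
    rw [h1, map_zero]
  have h3 : s = 0 := germ_injective_of_isIntegral (X := X) _ hgU (h2.trans (map_zero _).symm)
  rw [h3, map_zero]

theorem comap_le {X Y : Scheme.{u}} (f : Y ⟶ X) {A B : X.IdealSheafData} (h : A ≤ B) :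
    A.comap f ≤ B.comap f :=
  Scheme.IdealSheafData.le_map_iff_comap_le.1 (h.trans (Scheme.IdealSheafData.le_map_comap B f))

variable {k : Type u} [Field k] {X Y : Scheme.{u}} [IsIntegral X] [IsIntegral Y]
  [AlgebraicGeometry.IsNoetherian X] [AlgebraicGeometry.IsNoetherian Y]

/-- The pull-back of an effective Cartier divisor along a birational morphism. -/
theorem comap_cartier (hregY : ∀ p : Y, IsRegularLocalRing (Y.presheaf.stalk p)) (f : Y ⟶ X)
    (Ω : X.Opens) [IsIso (f ∣_ Ω)] (hη : f (genericPoint Y) ∈ Ω) (hfm : PicGrp.PullMul f)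
    {C : X.IdealSheafData} (hC : BlowUp.IsEffCartierIdeal C) :
    ∃ hD : BlowUp.IsEffCartierIdeal (C.comap f),
      PicGrp.cls _ (ClSub.Cartier.isInvertible_idealMod hD) =
        PicGrp.pullHom f hfm (PicGrp.cls _ (ClSub.Cartier.isInvertible_idealMod hC)) := by
  have hdom : ∀ p : Y, IsDomain (Y.presheaf.stalk p) := fun p =>
    have := hregY p
    Regular.Quotient.isDomain _
  have hD : BlowUp.IsEffCartierIdeal (C.comap f) := StalkIdeal.isEffCartierIdeal hdom fun p => by
    obtain ⟨U, hU, s, hs, hsI⟩ := hC (f p)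
    refine ⟨(f.stalkMap p).hom (X.presheaf.germ U.1 (f p) hU s), ?_, ?_⟩
    · exact (map_ne_zero_iff _ (stalkMap_injective f Ω hη p)).2
        (nonZeroDivisors.ne_zero (Ideal.EffCartier.germ_mem_nonZeroDivisors U.2 hs (f p) hU))
    · rw [CartierDescent.stalkIdeal_comap, Ideal.Prime.stalkIdeal_eq _ U hU, hsI,
        _root_.Ideal.map_span, Set.image_singleton, _root_.Ideal.map_span, Set.image_singleton]
  refine ⟨hD, ?_⟩
  obtain ⟨e⟩ := IdealPull.nonempty_pullback_idealMod f (I := C) hC fun U s hs _ p hp => by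
    haveI := hdom p
    refine mem_nonZeroDivisors_of_ne_zero ?_
    rw [← Scheme.Hom.germ_stalkMap_apply f U.1 p hp s]
    exact (map_ne_zero_iff _ (stalkMap_injective f Ω hη p)).2
      (nonZeroDivisors.ne_zero (Ideal.EffCartier.germ_mem_nonZeroDivisors U.2 hs (f p) hp))
  rw [PicGrp.pullHom_cls]
  exact (PicGrp.cls_eq_cls_iff _ _).2 ⟨e.symm⟩

omit [IsIntegral X] [IsIntegral Y] in
theorem cls_mul {A B : Y.IdealSheafData} (hA : BlowUp.IsEffCartierIdeal A)
    (hB : BlowUp.IsEffCartierIdeal B) (hAB : BlowUp.IsEffCartierIdeal (A * B)) :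
    PicGrp.cls _ (ClSub.Cartier.isInvertible_idealMod hAB) =
      PicGrp.cls _ (ClSub.Cartier.isInvertible_idealMod hA) *
        PicGrp.cls _ (ClSub.Cartier.isInvertible_idealMod hB) := by
  obtain ⟨e⟩ := Mul.nonempty_idealMod_mul hA B
  exact ((PicGrp.cls_eq_cls_iff _ (TensorMod.Invertible.isInvertible_tensorMod
    (ClSub.Cartier.isInvertible_idealMod hA) (ClSub.Cartier.isInvertible_idealMod hB))).2 ⟨e.symm⟩).trans
    (Subtype.ext (PicGrp.cls_mul_cls_val _ _).symm)

/-- The multiplicity is read off the inverse image on the blow-up. -/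
theorem mem_pow_of_comap_le {X Y : Scheme.{u}} [IsLocallyNoetherian X] {x : X} (hx : IsClosed ({x} : Set X))
    [IsRegularLocalRing (X.presheaf.stalk x)] (hd : ringKrullDim (X.presheaf.stalk x) = 2)
    (π : Y ⟶ X) (hπ : BlowUp.IsBlowUp π (Scheme.IdealSheafData.vanishingIdeal ⟨{x}, hx⟩))
    {C : X.IdealSheafData} (hC : BlowUp.IsEffCartierIdeal C) (m : ℕ)
    (hle : C.comap π ≤ (BlowUp.exceptional π (Scheme.IdealSheafData.vanishingIdeal ⟨{x}, hx⟩)) ^ m) :
    stalkIdeal C x ≤ IsLocalRing.maximalIdeal (X.presheaf.stalk x) ^ m := by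
  classical
  obtain ⟨U, hU, s, hs, hsI⟩ := hC x
  set a := X.presheaf.germ U.1 x hU s with ha
  have hCa : stalkIdeal C x = _root_.Ideal.span {a} := by
    rw [Ideal.Prime.stalkIdeal_eq _ U hU, hsI, _root_.Ideal.map_span, Set.image_singleton]
  rw [hCa, _root_.Ideal.span_singleton_le_iff_mem]
  by_contra ham
  have hex : ∃ n, a ∉ IsLocalRing.maximalIdeal (X.presheaf.stalk x) ^ n := ⟨m, ham⟩
  obtain ⟨μ, hμ⟩ : ∃ μ, Nat.find hex = μ + 1 := ⟨Nat.find hex - 1, by
    have : Nat.find hex ≠ 0 := fun h0 => by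
      have h1 := Nat.find_spec hex
      rw [h0, pow_zero, _root_.Ideal.one_eq_top] at h1
      exact h1 trivial
    omega⟩
  have hμ2 : a ∉ IsLocalRing.maximalIdeal (X.presheaf.stalk x) ^ (μ + 1) := hμ ▸ Nat.find_spec hex
  have hμ1 : a ∈ IsLocalRing.maximalIdeal (X.presheaf.stalk x) ^ μ :=
    not_not.1 (Nat.find_min hex (by omega))
  have hμm : μ + 1 ≤ m := hμ ▸ Nat.find_min' hex ham
  set j := X.fromSpecStalk x
  haveI : Flat j := Unram.BaseChangeNhd.flat_fromSpecStalk x
  have hb := Ideal.BlowUp.isBlowUp_flat_baseChange j hπ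
  rw [Flat55.ContractionUniversal.comap_vanishingIdeal_stalk] at hb
  refine (Groth.Agent.S7928.result _ hd (pullback.fst j π) hb a μ hμ1 hμ2).2.1 ?_
  have hCj : Curv2.idealSheaf (X.presheaf.stalk x) (_root_.Ideal.span {a}) = C.comap j := by
    refine Scheme.IdealSheafData.ext_of_isAffine ?_
    have h1 := CartierDescent.topIdeal_comap_fromSpecStalk C x
    rw [hCa] at h1
    rw [← h1]
    unfold Curv2.idealSheaf CartierDescent.topIdeal
    rw [_root_.Ideal.map_map, ← CommRingCat.hom_comp]
    erw [Iso.hom_inv_id, CommRingCat.hom_id, _root_.Ideal.map_id]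
    exact Scheme.IdealSheafData.equivOfIsAffine.right_inv _
  have h2 := comap_le (pullback.snd j π) hle
  rw [← Scheme.IdealSheafData.comap_comp, ← pullback.condition, Scheme.IdealSheafData.comap_comp, ← hCj,
    Ideal.Comap.comap_pow] at h2
  refine h2.trans ?_
  rw [BlowUp.exceptional, BlowUp.exceptional, ← Scheme.IdealSheafData.comap_comp, ← pullback.condition,
    Scheme.IdealSheafData.comap_comp, Flat55.ContractionUniversal.comap_vanishingIdeal_stalk]
  intro V
  simp only [Scheme.IdealSheafData.ideal_pow, Pi.pow_apply]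
  exact _root_.Ideal.pow_le_pow_right hμm


/-- Let k be an algebraically closed field of characteristic zero, X a smooth projective surface over k
(irreducible, proper, smooth of dimension 2, with an ample invertible module), L a nef invertible
O_X-module, x a closed point with ideal sheaf m_x and f : Y → X a blow-up of X at x over k, with
exceptional ideal I_E = m_x · O_Y. For a real number ε ≥ 0 the following are equivalent: (a) the
ℝ-divisor class f^*L − ε E is nef, i.e. deg(f^*L|_{C'}) + ε · deg(I_E|_{C'}) ≥ 0 for every integral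
one-dimensional closed subscheme C' ⊆ Y, degrees being χ(M|_{C'}) − χ(O_{C'}); (b) for every
integral one-dimensional closed subscheme C ⊆ X passing through x and every n such that the stalk at
x of the ideal of C is contained in the n-th power of the maximal ideal of O_{X,x} (that is,
mult_x(C) ≥ n), one has ε · n ≤ deg(L|_C). In other words the Seshadri constant of L at x, the
supremum of the ε with f^*L − εE nef, is the infimum of (L·C)/mult_x(C) over the integral curves C
through x. -/
theorem result (k : Type u) [Field k] [IsAlgClosed k] [CharZero k]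
    (X : Scheme.{u}) [X.Over (Spec (CommRingCat.of k))] [IsProper (X ↘ (Spec (CommRingCat.of k)))]
    [Smooth (X ↘ (Spec (CommRingCat.of k)))] [IrreducibleSpace X] (hdim : topologicalKrullDim X = 2)
    (H : X.Modules) (hH : CohB1.IsAmple H)
    (L : X.Modules) (hL : PicF.IsInvertible L)
    (hnef : (∀ (C : Scheme.{u}) (i : C ⟶ X) [IsClosedImmersion i], IsIntegral C → topologicalKrullDim C = 1 →
      0 ≤ Pic13.curveDeg k (i ≫ (X ↘ (Spec (CommRingCat.of k)))) ((Scheme.Modules.pullback i).obj L)))
    (x : X) (hx : IsClosed ({x} : Set X))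
    (Y : Scheme.{u}) [Y.Over (Spec (CommRingCat.of k))] (f : Y ⟶ X) (hf : f ≫ (X ↘ (Spec (CommRingCat.of k))) = Y ↘ (Spec (CommRingCat.of k)))
    (hbl : BlowUp.IsBlowUp f (W4c2seshadripos.pointIdeal x hx))
    (ε : ℝ) (hε : 0 ≤ ε) :
    (∀ (C : Scheme.{u}) (i : C ⟶ Y) [IsClosedImmersion i], IsIntegral C → topologicalKrullDim C = 1 →
      (0 : ℝ) ≤ (Pic13.curveDeg k (i ≫ (Y ↘ (Spec (CommRingCat.of k))))
          ((Scheme.Modules.pullback i).obj ((Scheme.Modules.pullback f).obj L)) : ℝ) +
        ε * (Pic13.curveDeg k (i ≫ (Y ↘ (Spec (CommRingCat.of k))))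
          ((Scheme.Modules.pullback i).obj
            (ClSub.idealMod (BlowUp.exceptional f (W4c2seshadripos.pointIdeal x hx)))) : ℝ)) ↔
    (∀ (C : Scheme.{u}) (j : C ⟶ X) [IsClosedImmersion j], IsIntegral C → topologicalKrullDim C = 1 →
      x ∈ Set.range (fun c : C => j.base c) → ∀ n : ℕ,
        (∀ (V : X.affineOpens) (hxV : x ∈ (V : X.Opens)),
          (j.ker.ideal V).map (X.presheaf.germ V x hxV).hom ≤ (IsLocalRing.maximalIdeal (X.presheaf.stalk x)) ^ n) →
        ε * (n : ℝ) ≤ (Pic13.curveDeg k (j ≫ (X ↘ (Spec (CommRingCat.of k)))) ((Scheme.Modules.pullback j).obj L) : ℝ)) := by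
  classical
  let sX := X ↘ Spec (CommRingCat.of k)
  haveI : AlgebraicGeometry.IsReduced X := Lib.Flat55.CurveNormalizationBC.isReduced_of_smooth sX
  haveI : IsIntegral X := isIntegral_of_irreducibleSpace_of_isReduced _
  haveI := Lib.Curves.GlobalSections.isNoetherian_of_proper k X
  have hreg : ∀ p : X, IsRegularLocalRing (X.presheaf.stalk p) := NegDef.regular_of_smooth (k := k)
  haveI := hreg x
  have hbl' : BlowUp.IsBlowUp f (Scheme.IdealSheafData.vanishingIdeal ⟨{x}, hx⟩) := hbl
  haveI : IsProper f := PointBlow96.isProper_blowUp hx hbl'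
  haveI : IsProper (Y ↘ Spec (CommRingCat.of k)) := PointBlow96.isProper_X k hx hf hbl'
  haveI := Lib.Curves.GlobalSections.isNoetherian_of_proper k Y
  haveI : IsIntegral Y := PointBlow96.isIntegral_X k hdim hx hf hbl'
  have hdimY : topologicalKrullDim Y = 2 := PointBlow96.dim_X k hdim hx hf hbl'
  have hxd : ringKrullDim (X.presheaf.stalk x) = 2 := PointBlow96.stalk_dim hdim hx sX
  have hgen := PointBlow96.ne_genericPoint (x := x) hxd
  set J := Scheme.IdealSheafData.vanishingIdeal (⟨{x}, hx⟩ : Closeds X) with hJ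
  set E := BlowUp.exceptional f J with hE
  set Ω : X.Opens := ⟨{x}ᶜ, hx.isOpen_compl⟩ with hΩ
  haveI : IsIso (f ∣_ Ω) := by
    have h := Lib.Ideal.BlowUp.isIso_off_center hbl'
    have e : (Scheme.IdealSheafData.vanishingIdeal ⟨{x}, hx⟩).support.compl = Ω :=
      Opens.ext (congrArg compl (Lib.Flat55.ContractionUniversal.support_vanishingIdeal_point x hx))
    rwa [e] at h
  have hregY : ∀ p : Y, IsRegularLocalRing (Y.presheaf.stalk p) := fun p => by
    by_cases hp : f p = x
    · exact SurfFactor85.Iso.isRegularLocalRing_blowUp_stalk f x hx hxd hbl' p hp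
    · haveI := SurfFactor85.Iso.isIso_stalkMap_of_restrict f Ω p hp
      haveI := hreg (f p)
      exact IsRegularLocalRing.of_ringEquiv
        (RingEquiv.ofBijective (f.stalkMap p).hom (ConcreteCategory.bijective_of_isIso _))
  haveI := Lib.SurfRR.Regular.smoothOfRelativeDimension_two (k := k) hdimY hregY
  haveI : Smooth (Y ↘ Spec (CommRingCat.of k)) := SmoothOfRelativeDimension.smooth 2 _
  let g : ((f ⁻¹ᵁ Ω : Y.Opens) : Scheme.{u}) ⟶ X := (f ∣_ Ω) ≫ Ω.ι
  have hg : ∀ z, g z = f z.1 := fun z => congr($(morphismRestrict_ι f Ω) z)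
  have hηΩ : f (genericPoint Y) ∈ Ω := by
    let z := inv (f ∣_ Ω) ⟨genericPoint X, hgen⟩
    have : (genericPoint Y) ∈ f ⁻¹ᵁ Ω :=
      ((genericPoint_spec Y).mem_open_set_iff (f ⁻¹ᵁ Ω).2).2 ⟨z.1, trivial, z.2⟩
    exact this
  obtain ⟨-, K, hK, eE, -⟩ := SurfFactor85.Seq.isExcCurve f x hx hxd hbl'
  haveI : Nonempty E.subscheme := ⟨eE.hom (genericPoint (CohB1.ProjSpace 1 K))⟩
  haveI : IsIntegral E.subscheme := isIntegral_of_isOpenImmersion eE.inv
  have hfm : PicGrp.PullMul f := TensorMod.Pullback.pullMul f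
  have hEc : BlowUp.IsEffCartierIdeal E := hbl'.1
  set q := PicGrp.cls _ (ClSub.Cartier.isInvertible_idealMod hEc) with hq
  set l := PicGrp.cls L hL with hl
  have hdimZ : ∀ Z ∈ irreducibleComponents (X : Type u), topologicalKrullDim Z = 2 := fun Z hZ => by
    rw [irreducibleComponents_eq_singleton, Set.mem_singleton_iff] at hZ
    subst hZ
    rw [(Homeomorph.Set.univ (X : Type u)).isHomeomorph.topologicalKrullDim_eq, hdim]
  have pp : ∀ a b, S19737.I2 k (PicGrp.pullHom f hfm a) (PicGrp.pullHom f hfm b) = S19737.I2 k a b := fun a b => by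
    obtain ⟨A, hA, rfl⟩ := PicGrp.exists_eq_cls a
    obtain ⟨B, hB, rfl⟩ := PicGrp.exists_eq_cls b
    rw [PicGrp.pullHom_cls, PicGrp.pullHom_cls, S19737.I2_cls, S19737.I2_cls]
    exact PointBlow96.General.intNum_pullback_pullback hdimZ hreg hx hf hbl' hA hB
  have pe : ∀ a, S19737.I2 k (PicGrp.pullHom f hfm a) q = 0 := fun a => by
    obtain ⟨A, hA, rfl⟩ := PicGrp.exists_eq_cls a
    rw [PicGrp.pullHom_cls, hq, S19737.I2_cls]
    exact PointBlow96.General.intNum_pullback_exceptional hdimZ hreg hx hf hbl' hA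
  have ee : S19737.I2 k q q = -1 := by
    rw [hq, S19737.I2_cls]
    refine (PointBlow96.General.intNum_exceptional_self hdimZ hreg hx hf hbl').trans ?_
    rw [Lib.Curves.NormGenus.finrank_residueField k X hx]
    rfl
  -- degrees on curves as intersection numbers
  have degY : ∀ (A : Scheme.{u}) (i : A ⟶ Y) [IsClosedImmersion i], IsIntegral A → topologicalKrullDim A = 1 →
      IsIntegral i.ker.subscheme ∧ topologicalKrullDim (i.ker.support : Set Y) = 1 ∧
      ∀ hI : BlowUp.IsEffCartierIdeal i.ker, ∀ M : Y.Modules, ∀ hM : PicF.IsInvertible M,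
      Pic13.curveDeg k (i ≫ (Y ↘ Spec (CommRingCat.of k))) ((Scheme.Modules.pullback i).obj M) =
        - S19737.I2 k (PicGrp.cls _ (ClSub.Cartier.isInvertible_idealMod hI)) (PicGrp.cls M hM) :=
    fun A i _ hA hd => deg_ker hdimY i hA hd
  have degX : ∀ (A : Scheme.{u}) (i : A ⟶ X) [IsClosedImmersion i], IsIntegral A → topologicalKrullDim A = 1 →
      IsIntegral i.ker.subscheme ∧ topologicalKrullDim (i.ker.support : Set X) = 1 ∧
      ∀ hI : BlowUp.IsEffCartierIdeal i.ker, ∀ M : X.Modules, ∀ hM : PicF.IsInvertible M,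
      Pic13.curveDeg k (i ≫ (X ↘ Spec (CommRingCat.of k))) ((Scheme.Modules.pullback i).obj M) =
        - S19737.I2 k (PicGrp.cls _ (ClSub.Cartier.isInvertible_idealMod hI)) (PicGrp.cls M hM) :=
    fun A i _ hA hd => deg_ker hdim i hA hd
  let φ : PicLoc.PicSet Y → ℝ := fun c =>
    -(S19737.I2 k c (PicGrp.pullHom f hfm l) : ℝ) - ε * (S19737.I2 k c q : ℝ)
  have φmul : ∀ a b, φ (a * b) = φ a + φ b := fun a b => by
    simp only [φ, S19737.I2_mul_left hdimY a b, Int.cast_add]; ring
  have φE : ∀ n : ℕ, φ (q ^ n) = n * ε := fun n => by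
    simp only [φ]
    rw [← zpow_natCast, S19737.I2_zpow_left hdimY, S19737.I2_zpow_left hdimY, S19737.I2_comm q, pe, ee]
    push_cast
    ring
  have φpull : ∀ c, φ (PicGrp.pullHom f hfm c) = -(S19737.I2 k c l : ℝ) := fun c => by
    simp only [φ]
    rw [pp, pe]
    push_cast
    ring
  -- the condition on the blow-up in terms of `φ`
  have hφ : ∀ (A : Scheme.{u}) (i : A ⟶ Y) [IsClosedImmersion i], IsIntegral A → topologicalKrullDim A = 1 →
      ∀ hI : BlowUp.IsEffCartierIdeal i.ker,
      ((Pic13.curveDeg k (i ≫ (Y ↘ Spec (CommRingCat.of k)))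
          ((Scheme.Modules.pullback i).obj ((Scheme.Modules.pullback f).obj L)) : ℝ) +
        ε * (Pic13.curveDeg k (i ≫ (Y ↘ Spec (CommRingCat.of k)))
          ((Scheme.Modules.pullback i).obj (_root_.ClSub.idealMod E)) : ℝ)) =
      φ (PicGrp.cls _ (ClSub.Cartier.isInvertible_idealMod hI)) := fun A i _ hA hd hI => by
    rw [(degY A i hA hd).2.2 hI _ (PicLoc.isInvertible_pullback f hL),
      (degY A i hA hd).2.2 hI _ (ClSub.Cartier.isInvertible_idealMod hEc)]
    simp only [φ, hl, hq, PicGrp.pullHom_cls]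
    push_cast
    ring
  constructor
  · intro h C j _ hC hCd hxC n hn
    obtain ⟨hCi, hCsd, hCdeg⟩ := degX C j hC hCd
    haveI := hCi
    have hCc : BlowUp.IsEffCartierIdeal j.ker := Curve.isEffCartier sX hdim hreg j.ker hCsd
    obtain ⟨hD, hDcls⟩ := comap_cartier hregY f Ω hηΩ hfm hCc
    have hCn : j.ker ≤ J ^ n := Pencil.le_of_stalkIdeal_le fun p => by
      rw [StalkIdeal.stalkIdeal_pow]
      by_cases hp : p = x
      · subst hp
        obtain ⟨U, hU, hpU, -⟩ := exists_isAffineOpen_mem_and_subset (show p ∈ (⊤ : X.Opens) from trivial)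
        rw [Ideal.Prime.stalkIdeal_eq _ ⟨U, hU⟩ hpU, SurfFactor85.Main.stalkIdeal_vanishingIdeal_self]
        exact hn ⟨U, hU⟩ hpU
      · have : stalkIdeal J p = ⊤ := by
          rw [StalkIdeal.stalkIdeal_eq_top_iff]
          intro h'
          rw [← SetLike.mem_coe, Scheme.IdealSheafData.coe_support_vanishingIdeal] at h'
          exact hp h'
        rw [this, _root_.Ideal.top_pow]
        exact le_top
    have hle : j.ker.comap f ≤ E ^ n := (comap_le f hCn).trans (Ideal.Comap.comap_pow f J n).le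
    have hEn := Ideal.EffCartier.isEffCartier_pow hEc n
    obtain ⟨R, hR⟩ : ∃ R, E ^ n * R = j.ker.comap f := ⟨_, RelDiv.Diff.mul_colon hEn hle⟩
    have hRc : BlowUp.IsEffCartierIdeal R := Ideal.EffCartier.isEffCartier_factor_right (hR.symm ▸ hD)
    have hpos : ∀ hRc : BlowUp.IsEffCartierIdeal R, 0 ≤ φ (PicGrp.cls _ (ClSub.Cartier.isInvertible_idealMod hRc)) :=
      Mul.induction (Y ↘ Spec (CommRingCat.of k)) hdimY hregY
        (P := fun G => ∀ hG : BlowUp.IsEffCartierIdeal G, 0 ≤ φ (PicGrp.cls _ (ClSub.Cartier.isInvertible_idealMod hG)))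
        (fun hG => by
          rw [VertPic.cls_congr (show (⊤ : Y.IdealSheafData) = E ^ 0 by
              rw [pow_zero, Scheme.IdealSheafData.one_eq_top]) _
            (ClSub.Cartier.isInvertible_idealMod (Ideal.EffCartier.isEffCartier_pow hEc 0)),
            VertPic.cls_pow_ideal hEc, φE]
          simp)
        (fun C' hC'i G hC'd hG ih hCG => by
          haveI := hC'i
          have hC'c : BlowUp.IsEffCartierIdeal C' :=
            Curve.isEffCartier (Y ↘ Spec (CommRingCat.of k)) hdimY hregY C' hC'd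
          have hYd : topologicalKrullDim C'.subscheme = 1 := (Surface.dim_subscheme C').trans hC'd
          have hk : BlowUp.IsEffCartierIdeal C'.subschemeι.ker := by
            rw [Scheme.IdealSheafData.ker_subschemeι]; exact hC'c
          have h0 := le_of_le_of_eq (h C'.subscheme C'.subschemeι hC'i hYd)
            (hφ C'.subscheme C'.subschemeι hC'i hYd hk)
          rw [VertPic.cls_congr (Scheme.IdealSheafData.ker_subschemeι C') _ (ClSub.Cartier.isInvertible_idealMod hC'c)] at h0
          rw [cls_mul hC'c hG hCG, φmul]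
          exact add_nonneg h0 (ih hG)) hRc
    have h1 : φ (PicGrp.cls _ (ClSub.Cartier.isInvertible_idealMod hD)) =
        n * ε + φ (PicGrp.cls _ (ClSub.Cartier.isInvertible_idealMod hRc)) := by
      rw [VertPic.cls_congr hR.symm _ (ClSub.Cartier.isInvertible_idealMod (hR.symm ▸ hD)),
        cls_mul hEn hRc (hR.symm ▸ hD), VertPic.cls_pow_ideal hEc, φmul, φE]
    rw [hDcls, φpull] at h1
    rw [hCdeg hCc L hL, ← hl]
    push_cast
    linarith [hpos hRc]
  · intro h C i _ hC hCd
    obtain ⟨hC'i, hC'd, -⟩ := degY C i hC hCd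
    haveI := hC'i
    haveI := hC
    have hC'c : BlowUp.IsEffCartierIdeal i.ker :=
      Curve.isEffCartier (Y ↘ Spec (CommRingCat.of k)) hdimY hregY i.ker hC'd
    refine le_of_le_of_eq ?_ (hφ C i hC hCd hC'c).symm
    have hprin : ∀ {G : Y.IdealSheafData}, BlowUp.IsEffCartierIdeal G → ∀ p,
        ∃ c : Y.presheaf.stalk p, c ≠ 0 ∧ stalkIdeal G p = _root_.Ideal.span {c} := fun hG p => by
      obtain ⟨U, hU, t, ht, htI⟩ := hG p
      haveI := hregY p
      haveI := Regular.Quotient.isDomain (Y.presheaf.stalk p)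
      exact ⟨_, nonZeroDivisors.ne_zero (Ideal.EffCartier.germ_mem_nonZeroDivisors U.2 ht p hU),
        by rw [Ideal.Prime.stalkIdeal_eq _ U hU, htI, _root_.Ideal.map_span, Set.image_singleton]⟩
    have hEk : BlowUp.IsEffCartierIdeal E.subschemeι.ker := by
      rw [Scheme.IdealSheafData.ker_subschemeι]; exact hEc
    have hEsupp : ∀ p, p ∈ Set.range E.subschemeι ↔ f p = x := fun p => by
      rw [Scheme.IdealSheafData.range_subschemeι, hE, Scheme.IdealSheafData.support_comap,
        Closeds.coe_preimage, hJ, Scheme.IdealSheafData.coe_support_vanishingIdeal]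
      rfl
    let ζ := i (genericPoint C)
    by_cases hζ : f ζ = x
    · obtain ⟨b, hb⟩ := S7929.eq_pow hregY E.subschemeι hEk i.ker (hprin hC'c) (by
        rw [Scheme.Hom.support_ker, i.isClosedEmbedding.isClosed_range.closure_eq]
        rintro _ ⟨w, rfl⟩
        have hcl : IsClosed (Set.range E.subschemeι) := E.subschemeι.isClosedEmbedding.isClosed_range
        exact ((genericPoint_specializes w).map i.continuous).mem_closed hcl ((hEsupp ζ).2 hζ))
      rw [Scheme.IdealSheafData.ker_subschemeι] at hb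
      rw [VertPic.cls_congr hb _ (ClSub.Cartier.isInvertible_idealMod (Ideal.EffCartier.isEffCartier_pow hEc b)),
        VertPic.cls_pow_ideal hEc, φE]
      positivity
    -- the image curve
    set η := f ζ with hη
    let C₀ := IntMult.ptIdeal η
    have hC₀supp : (C₀.support : Set X) = closure ({η} : Set X) := rfl
    haveI : AlgebraicGeometry.IsReduced C₀.subscheme := H75.RedSub.isReduced_vanishingIdeal _
    obtain ⟨z₀, hz₀⟩ : η ∈ Set.range C₀.subschemeι := by
      rw [Devissage.Closure.range_ptIdeal η]; exact subset_closure rfl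
    have hcl₀ : closure {z₀} = (Set.univ : Set C₀.subscheme) := by
      rw [C₀.subschemeι.isClosedEmbedding.isInducing.closure_eq_preimage_closure_image, Set.image_singleton, hz₀,
        ← Devissage.Closure.range_ptIdeal η, Set.preimage_range]
    haveI : IrreducibleSpace C₀.subscheme :=
      { isPreirreducible_univ := hcl₀ ▸ isIrreducible_singleton.closure.2
        toNonempty := ⟨z₀⟩ }
    haveI hC₀i : IsIntegral C₀.subscheme := isIntegral_of_irreducibleSpace_of_isReduced _
    have hgen₀ : C₀.subschemeι (genericPoint C₀.subscheme) = η := by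
      have h0 : IsGenericPoint z₀ (Set.univ : Set C₀.subscheme) := hcl₀
      rw [(genericPoint_spec C₀.subscheme).eq h0, hz₀]
    let sY := Y ↘ Spec (CommRingCat.of k)
    have hiclosed := i.isClosedEmbedding
    have hζnc : ¬ IsClosed ({ζ} : Set Y) := fun hc => by
      have h1 : VarDim.Basic.pdim sY ζ = 0 := (VarDim.Basic.pdim_eq_zero_iff sY ζ).2 hc
      have h2 := VarDim.Basic.topologicalKrullDim_isGenericPoint sY (T := Set.range i) (ξ := ζ) (by
        have := (genericPoint_spec C).image i.continuous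
        rwa [Set.image_univ, hiclosed.isClosed_range.closure_eq] at this)
      rw [h1, ← (hiclosed.toHomeomorph).isHomeomorph.topologicalKrullDim_eq, hCd] at h2
      exact absurd h2 (by decide)
    have hG : ∀ a b : ((f ⁻¹ᵁ Ω : Y.Opens) : Scheme.{u}), f a.1 ⤳ f b.1 → a.1 ⤳ b.1 := fun a b h' => by
      rw [← hg, ← hg] at h'
      exact ((g.isOpenEmbedding.isInducing.specializes_iff).1 h').map (f ⁻¹ᵁ Ω).ι.continuous
    have hGinj : ∀ a b : ((f ⁻¹ᵁ Ω : Y.Opens) : Scheme.{u}), f a.1 = f b.1 → a.1 = b.1 := fun a b h' => by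
      rw [← hg, ← hg] at h'
      exact congrArg Subtype.val (g.isOpenEmbedding.injective h')
    have hspec : ∀ p, f p ≠ x → η ⤳ f p → ζ ⤳ p := fun p hp hsp => hG ⟨ζ, hζ⟩ ⟨p, hp⟩ hsp
    have hηnc : ¬ IsClosed ({η} : Set X) := fun hc => hζnc (by
      rw [isClosed_iff_clusterPt] at *
      intro p hp
      have hsp : ζ ⤳ p := specializes_iff_mem_closure.2 (mem_closure_iff_clusterPt.2 hp)
      have hfp : f p ∈ ({η} : Set X) := hc _ (mem_closure_iff_clusterPt.1
        (specializes_iff_mem_closure.1 (hsp.map f.continuous)))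
      have hpx : f p ≠ x := by rw [Set.mem_singleton_iff.1 hfp]; exact hζ
      exact hGinj ⟨p, hpx⟩ ⟨ζ, hζ⟩ (Set.mem_singleton_iff.1 hfp))
    have hηgen : η ≠ genericPoint X := fun he => by
      have h1 : ζ = genericPoint Y := by
        have h2 : ζ ⤳ genericPoint Y := hspec _ hηΩ (he ▸ genericPoint_specializes _)
        exact (h2.antisymm (genericPoint_specializes ζ)).eq
      have h3 : Set.range i = Set.univ := Set.eq_univ_of_forall fun p =>
        ((genericPoint_specializes p : genericPoint Y ⤳ p)).mem_closed hiclosed.isClosed_range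
          (h1 ▸ ⟨_, rfl⟩)
      have h4 := (hiclosed.toHomeomorph).isHomeomorph.topologicalKrullDim_eq
      rw [hCd, h3, (Homeomorph.Set.univ (Y : Type u)).isHomeomorph.topologicalKrullDim_eq, hdimY] at h4
      exact absurd h4 (by decide)
    have hC₀d : topologicalKrullDim (C₀.support : Set X) = 1 := by
      rw [hC₀supp, VarDim.Basic.topologicalKrullDim_isGenericPoint sX
        (show IsGenericPoint η (closure ({η} : Set X)) from rfl)]
      have h0 : VarDim.Basic.pdim sX η ≠ 0 := fun h0 => hηnc ((VarDim.Basic.pdim_eq_zero_iff sX η).1 h0)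
      have h2 : VarDim.Basic.pdim sX η < 2 := by
        by_contra hge
        exact hηgen (Curve.eq_genericPoint_of_two_le sX hdim (not_lt.mp hge))
      rw [show VarDim.Basic.pdim sX η = 1 by omega]
      rfl
    have hdim₀ : topologicalKrullDim C₀.subscheme = 1 := (Surface.dim_subscheme C₀).trans hC₀d
    have hC₀c : BlowUp.IsEffCartierIdeal C₀ := Curve.isEffCartier sX hdim hreg C₀ hC₀d
    have hC₀k : BlowUp.IsEffCartierIdeal C₀.subschemeι.ker := by
      rw [Scheme.IdealSheafData.ker_subschemeι]; exact hC₀c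
    obtain ⟨hD, hDcls⟩ := comap_cartier hregY f Ω hηΩ hfm hC₀c
    have hle : C₀.comap f ≤ i.ker := by
      rw [PointExc74.ker_eq i, ← Scheme.IdealSheafData.le_support_iff_le_vanishingIdeal, ← SetLike.coe_subset_coe,
        Scheme.IdealSheafData.support_comap, Closeds.coe_preimage, hC₀supp]
      rintro _ ⟨w, rfl⟩
      exact specializes_iff_mem_closure.1 (((genericPoint_specializes w).map i.continuous).map f.continuous)
    obtain ⟨R, hR⟩ : ∃ R, i.ker * R = C₀.comap f := ⟨_, RelDiv.Diff.mul_colon hC'c hle⟩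
    have hRc : BlowUp.IsEffCartierIdeal R := Ideal.EffCartier.isEffCartier_factor_right (hR.symm ▸ hD)
    obtain ⟨b, hb⟩ := S7929.eq_pow hregY E.subschemeι hEk R (hprin hRc) (fun p hp => by
      by_contra hpE
      rw [hEsupp] at hpE
      refine absurd hp ((StalkIdeal.stalkIdeal_eq_top_iff R p).1 ?_)
      have hsR : stalkIdeal (C₀.comap f) p = stalkIdeal i.ker p * stalkIdeal R p := by
        rw [← StalkIdeal.stalkIdeal_mul, hR]
      haveI := hregY p
      haveI := Regular.Quotient.isDomain (Y.presheaf.stalk p)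
      haveI := SurfFactor85.Iso.isIso_stalkMap_of_restrict f Ω p hpE
      let φp := RingEquiv.ofBijective (f.stalkMap p).hom (ConcreteCategory.bijective_of_isIso _)
      have hDp : stalkIdeal (C₀.comap f) p = (stalkIdeal C₀ (f p)).map (φp : _ →+* _) :=
        CartierDescent.stalkIdeal_comap f C₀ p
      have hpD : p ∈ (C₀.comap f).support := by
        by_contra hpD
        rw [← StalkIdeal.stalkIdeal_eq_top_iff, hsR] at hpD
        exact (StalkIdeal.stalkIdeal_eq_top_iff R p).1 (top_le_iff.1 (hpD.ge.trans _root_.Ideal.mul_le_right)) hp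
      have hηp : η ⤳ f p := by
        rw [← SetLike.mem_coe, Scheme.IdealSheafData.support_comap, Closeds.coe_preimage, hC₀supp] at hpD
        exact specializes_iff_mem_closure.2 hpD
      obtain ⟨hP, -⟩ := StalkIdeal.stalkIdeal_ker C₀.subschemeι (f p) (by rw [hgen₀]; exact hηp)
      rw [Scheme.IdealSheafData.ker_subschemeι] at hP
      haveI := hP
      have hDprime : (stalkIdeal (C₀.comap f) p).IsPrime := hDp ▸ _root_.Ideal.map_isPrime_of_equiv φp
      obtain ⟨d, hd0, hd⟩ := hprin hD p
      obtain ⟨c, -, hc⟩ := hprin hC'c p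
      obtain ⟨r, -, hr⟩ := hprin hRc p
      have hcu : ¬ IsUnit c := by
        intro hu
        have h1 : p ∈ i.ker.support := by
          rw [← SetLike.mem_coe, Scheme.Hom.support_ker, hiclosed.isClosed_range.closure_eq]
          exact (hspec p hpE hηp).mem_closed hiclosed.isClosed_range ⟨_, rfl⟩
        exact (StalkIdeal.stalkIdeal_eq_top_iff i.ker p).1
          (by rw [hc]; exact _root_.Ideal.span_singleton_eq_top.2 hu) h1
      have hprime : Prime d := (_root_.Ideal.span_singleton_prime hd0).1 (hd ▸ hDprime)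
      rw [hd, hc, hr, _root_.Ideal.span_singleton_mul_span_singleton,
        _root_.Ideal.span_singleton_eq_span_singleton] at hsR
      rw [hr, _root_.Ideal.span_singleton_eq_top]
      exact ((hsR.irreducible hprime.irreducible).isUnit_or_isUnit rfl).resolve_left hcu)
    rw [Scheme.IdealSheafData.ker_subschemeι] at hb
    subst hb
    have h1 : φ (PicGrp.cls _ (ClSub.Cartier.isInvertible_idealMod hD)) =
        φ (PicGrp.cls _ (ClSub.Cartier.isInvertible_idealMod hC'c)) + b * ε := by
      rw [VertPic.cls_congr hR.symm _ (ClSub.Cartier.isInvertible_idealMod (hR.symm ▸ hD)),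
        cls_mul hC'c hRc (hR.symm ▸ hD), VertPic.cls_pow_ideal hEc, φmul, φE]
    rw [hDcls, φpull] at h1
    have hdeg₀ : (Pic13.curveDeg k (C₀.subschemeι ≫ (X ↘ Spec (CommRingCat.of k)))
        ((Scheme.Modules.pullback C₀.subschemeι).obj L) : ℝ) =
        - (S19737.I2 k (PicGrp.cls _ (ClSub.Cartier.isInvertible_idealMod hC₀c)) l : ℝ) := by
      rw [(degX _ C₀.subschemeι hC₀i hdim₀).2.2 hC₀k L hL,
        VertPic.cls_congr (Scheme.IdealSheafData.ker_subschemeι C₀) _ (ClSub.Cartier.isInvertible_idealMod hC₀c)]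
      push_cast
      rfl
    by_cases hxC : x ∈ Set.range C₀.subschemeι
    · have hpow : C₀.comap f ≤ E ^ b := hR ▸ fun U => by
        rw [Scheme.IdealSheafData.ideal_mul, Pi.mul_apply]
        exact _root_.Ideal.mul_le_right
      have h2 := mem_pow_of_comap_le hx hxd f hbl' hC₀c b hpow
      have h3 := h C₀.subscheme C₀.subschemeι hC₀i hdim₀ hxC b fun V hxV => by
        rw [← Ideal.Prime.stalkIdeal_eq _ V hxV, Scheme.IdealSheafData.ker_subschemeι]
        exact h2
      linarith
    · have hb0 : b = 0 := by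
        by_contra hb0
        refine hxC ?_
        let w := eE.hom (genericPoint (CohB1.ProjSpace 1 K))
        have hw : E.subschemeι w ∈ (C₀.comap f).support := by
          by_contra hn
          rw [← StalkIdeal.stalkIdeal_eq_top_iff, ← hR, StalkIdeal.stalkIdeal_mul, StalkIdeal.stalkIdeal_pow] at hn
          have h5 : stalkIdeal E (E.subschemeι w) = ⊤ := top_le_iff.1
            (hn.ge.trans (_root_.Ideal.mul_le_right.trans (_root_.Ideal.pow_le_self hb0)))
          refine (StalkIdeal.stalkIdeal_eq_top_iff E _).1 h5 ?_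
          rw [← SetLike.mem_coe, ← Scheme.IdealSheafData.range_subschemeι]
          exact ⟨w, rfl⟩
        rw [← SetLike.mem_coe, Scheme.IdealSheafData.support_comap, Closeds.coe_preimage, hC₀supp] at hw
        rw [Devissage.Closure.range_ptIdeal η, ← (hEsupp _).1 ⟨w, rfl⟩]
        exact hw
      subst hb0
      have h4 := hnef C₀.subscheme C₀.subschemeι hC₀i hdim₀
      have h4' : (0 : ℝ) ≤ ((Pic13.curveDeg k (C₀.subschemeι ≫ (X ↘ Spec (CommRingCat.of k)))
          ((Scheme.Modules.pullback C₀.subschemeι).obj L) : ℤ) : ℝ) := Int.cast_nonneg h4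
      simp only [Nat.cast_zero, zero_mul, add_zero] at h1
      linarith
where
  deg_ker {k : Type u} [Field k] [IsAlgClosed k] {X : Scheme.{u}} [X.Over (Spec (CommRingCat.of k))] [IsIntegral X]
      [IsNoetherian X] [IsProper (X ↘ Spec (CommRingCat.of k))] [Smooth (X ↘ Spec (CommRingCat.of k))]
      (hdim : topologicalKrullDim X = 2) {A : Scheme.{u}} (i : A ⟶ X) [IsClosedImmersion i]
      (hA : IsIntegral A) (hAd : topologicalKrullDim A = 1) :
      IsIntegral i.ker.subscheme ∧ topologicalKrullDim (i.ker.support : Set X) = 1 ∧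
      ∀ hI : BlowUp.IsEffCartierIdeal i.ker, ∀ M : X.Modules, ∀ hM : PicF.IsInvertible M,
      Pic13.curveDeg k (i ≫ (X ↘ Spec (CommRingCat.of k))) ((Scheme.Modules.pullback i).obj M) =
        - S19737.I2 k (PicGrp.cls _ (ClSub.Cartier.isInvertible_idealMod hI)) (PicGrp.cls M hM) := by
    haveI := hA
    haveI : IsIntegral i.image :=
      haveI : Nonempty i.image := ⟨i.toImage (Classical.arbitrary A)⟩
      isIntegral_of_isOpenImmersion (CategoryTheory.inv i.toImage)
    have hsupp : topologicalKrullDim (i.ker.support : Set X) = 1 := by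
      rw [← Surface.dim_subscheme, ← hAd]
      exact (IsHomeomorph.topologicalKrullDim_eq _
        (Scheme.homeoOfIso (asIso i.toImage)).isHomeomorph).symm
    refine ⟨‹IsIntegral i.image›, hsupp, fun hI L hL => ?_⟩
    have hI' := ClSub.Cartier.isInvertible_idealMod hI
    rw [S19737.I2_cls]
    letI : A.Over (Spec (CommRingCat.of k)) := ⟨i ≫ (X ↘ Spec (CommRingCat.of k))⟩
    letI : i.image.Over (Spec (CommRingCat.of k)) := Surface.overSub (k := k) i.ker
    haveI : IsLocallyNoetherian A := LocallyOfFiniteType.isLocallyNoetherian i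
    haveI : CompactSpace A := QuasiCompact.compactSpace_of_compactSpace i
    haveI : IsNoetherian A := ⟨⟩
    rw [Surface.intNum_ideal_eq_neg_deg (Snapper.Finite.cohFinite k X) (d := 2) hdim.le hI' hL, neg_neg,
      ← PushIso.deg_pullback i.toImage (k := k)
        (show i.toImage ≫ i.imageι ≫ (X ↘ Spec (CommRingCat.of k)) = _ by
          rw [i.toImage_imageι_assoc]; rfl)
        (PicLoc.isInvertible_pullback i.imageι hL)]
    have he := Curves.Euler.euler_eq_of_iso (k := k)
      ((Scheme.Modules.pullbackComp i.toImage i.imageι).app L ≪≫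
        (Scheme.Modules.pullbackCongr i.toImage_imageι).app L)
    unfold Pic13.curveDeg Curv2.deg
    rw [show Curv2.euler k A ((Scheme.Modules.pullback i.toImage).obj
        ((Scheme.Modules.pullback i.imageι).obj L)) = _ from he,
      Snapper.Chi.euler_eq_eulerCharLE (d := 1) hAd.le, Snapper.Chi.euler_eq_eulerCharLE (d := 1) hAd.le]
    push_cast
    ring

end Groth.Agent.S17342
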