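import Groth.Statements.S17344
import Groth.Agent.Lib.Jets27.Colength
import Groth.Agent.Lib.SurfInt.Bound
import Groth.Agent.Lib.SurfInt.Mul
import Groth.Agent.Lib.SurfInt.Hodge
import Groth.Agent.Lib.Snapper.Finite
import Groth.Agent.Lib.DepthTwist.Zero
-- import your own Groth.Agent.* helpers here

set_option autoImplicit false
set_option linter.style.haveILetI false
universe u
open CategoryTheory CategoryTheory.Limits AlgebraicGeometry
open AdjLin

namespace Groth.Agent.S17344

/-- Let k be an algebraically closed field of characteristic zero, X a smooth projective surface over k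
(irreducible, proper, smooth of dimension 2, with an ample invertible module), L an ample invertible
O_X-module with tensor inverse L⁻¹, and Z a finite set of closed points of X such that the
self-intersection number (L²), the alternating sum of Euler characteristics attached to two copies
of L⁻¹, exceeds 4 · #Z. Then for every sufficiently large m there is a non-zero global section of
(⋂_{z ∈ Z} m_z^(2m+1)) ⊗ L^{⊗m}: a divisor in the linear series of L^{⊗m} with multiplicity greater
than 2m at every point of Z. (In the source L is the ample determinant of a globally generated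
rank-2 bundle E and Z the reduced zero set of a section of E, so that (L²) = c_1(E)² and #Z =
c_2(E); the assertion is the dimension count under c_1(E)² > 4 c_2(E).) -/
theorem result (k : Type u) [Field k] [IsAlgClosed k] [CharZero k]
    (X : Scheme.{u}) [X.Over (Spec (CommRingCat.of k))] [IsProper (X ↘ (Spec (CommRingCat.of k)))]
    [Smooth (X ↘ (Spec (CommRingCat.of k)))] [IrreducibleSpace X] (hdim : topologicalKrullDim X = 2)
    (H : X.Modules) (hH : CohB1.IsAmple H)
    (L Linv : X.Modules) (hL : CohB1.IsAmple L) (hLinv : ClSub.IsInverseOf Linv L)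
    (Z : Finset X) (hZ : ∀ z ∈ Z, IsClosed ({z} : Set X))
    (hsq : 4 * (Z.card : ℤ) < FGA.intNum k X 2 (fun _ : Fin 2 => Linv) (Coh.structureModule X)) :
    ∃ m₀ : ℕ, ∀ m : ℕ, m₀ ≤ m →
      Nontrivial (Coh.HH X (CohB1.tensorMod
        (ClSub.idealMod (⨅ z : ↥Z, (W4c2seshadripos.pointIdeal (z : X) (hZ z z.2)) ^ (2 * m + 1)))
        (CohB1.tensorPow L m)) 0) := by
  have hreg : ∀ x : X, IsRegularLocalRing (X.presheaf.stalk x) :=
    fun x => Groth.Agent.Lib.Cyc.SmoothReg.isRegularLocalRing_stalk (X ↘ (Spec (CommRingCat.of k))) x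
  haveI : IsNoetherian X := Groth.Agent.Lib.Curves.GlobalSections.isNoetherian_of_proper k X
  haveI : ∀ x : X, _root_.IsReduced (X.presheaf.stalk x) := fun x => by
    haveI := hreg x
    haveI := Groth.Agent.Lib.Regular.Quotient.isDomain (X.presheaf.stalk x)
    infer_instance
  haveI : IsReduced X := isReduced_of_isReduced_stalk X
  haveI : IsIntegral X := isIntegral_of_irreducibleSpace_of_isReduced X
  have hfin := Groth.Agent.Lib.Snapper.Finite.cohFinite k X
  have hLi : PicF.IsInvertible L := hL.1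
  obtain ⟨hLinvI, ⟨e⟩⟩ : PicF.IsInvertible Linv ∧ Nonempty (CohB1.tensorMod L Linv ≅ Coh.structureModule X) :=
    ⟨Groth.Agent.Lib.TensorMod.TensorInv.isInvertible_of_tensor_iso hLinv.some,
      ⟨Groth.Agent.Lib.TensorMod.Basic.comm _ _ ≪≫ hLinv.some⟩⟩
  set a := FGA.intNum k X 2 ![L, L] (Coh.structureModule X) with ha
  have hsq' : 4 * (Z.card : ℤ) < a := by
    have hO := Groth.Agent.Lib.Snapper.Twist.isCoh_structureModule X
    have h1 := Groth.Agent.Lib.Snapper.IntNum.intNum_pair_inverse (k := k) hfin hdim.le hLi hLinvI e hLinvI hO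
    have h2 := Groth.Agent.Lib.Snapper.IntNum.intNum_pair_inverse (k := k) hfin hdim.le hLi hLinvI e hLi hO
    rw [Groth.Agent.Lib.Snapper.IntNum.intNum_pair_comm L Linv] at h1
    have h3 : (fun _ : Fin 2 => Linv) = ![Linv, Linv] := by ext i; fin_cases i <;> rfl
    rw [h3] at hsq
    omega
  obtain ⟨n₀, hn₀⟩ := Groth.Agent.Lib.SurfInt.AmpleVanish.exists_subsingleton (k := k) hL
    (Groth.Agent.Lib.Snapper.Twist.isCoh_structureModule X)
  set χL := FGA.eulerCharLE k X L 2 with hχL
  set χO := FGA.eulerCharLE k X (Coh.structureModule X) 2 with hχO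
  refine ⟨n₀ + a.natAbs + 2 * χL.natAbs + 2 * χO.natAbs + 6 * Z.card + 2 * Z.card + 1, fun m hm => ?_⟩
  obtain ⟨n, rfl⟩ : ∃ n, m = n + 1 := ⟨m - 1, by omega⟩
  set M := CohB1.tensorPow L (n + 1) with hMdef
  have hM : PicF.IsInvertible M := Groth.Agent.Lib.TensorMod.Invertible.isInvertible_tensorPow hLi _
  -- the dimension of the sections of `M`
  have hM0 : FGA.eulerCharLE k X M 2 = (Module.finrank k (Coh.HH X M 0) : ℤ) := by
    have hv : ∀ i : ℕ, 0 < i → Subsingleton (Coh.HH X M i) := fun i hi => by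
      obtain ⟨q, rfl⟩ : ∃ q, i = q + 1 := ⟨i - 1, by omega⟩
      haveI := hn₀ (n + 1) (by omega) q
      exact (Groth.Agent.Lib.Curves.LES.isoK k (Groth.Agent.Lib.TensorMod.Basic.leftUnit M).symm (q + 1)).toEquiv.subsingleton
    unfold FGA.eulerCharLE
    rw [Finset.sum_eq_single 0]
    · simp
    · intro i _ hi
      haveI := hv i (Nat.pos_of_ne_zero hi)
      simp [Module.finrank_zero_of_subsingleton]
    · simp
  have hchi := Groth.Agent.Lib.SurfInt.Hodge.two_mul_chi_pow (k := k) hfin hdim hLi n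
  rw [← hMdef, hM0, ← ha, ← hχL, ← hχO] at hchi
  -- the ideal
  set N := 2 * (n + 1) + 1 with hN
  set J := ⨅ z : ↥Z, (W4c2seshadripos.pointIdeal (z : X) (hZ z z.2)) ^ N with hJdef
  let P : ↥Z → X.IdealSheafData := fun z => (W4c2seshadripos.pointIdeal (z : X) (hZ z z.2)) ^ N
  have hP : ∀ (z : ↥Z) (y : X), y ≠ (z : X) → Groth.Agent.Lib.Ideal.Prime.stalkIdeal (P z) y = ⊤ := by
    intro z y hy
    rw [Groth.Agent.Lib.ModelFibre.StalkIdeal.stalkIdeal_eq_top_iff]
    show y ∉ (((W4c2seshadripos.pointIdeal (z : X) (hZ z z.2)) ^ N).support : Set X)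
    rw [hN, Scheme.IdealSheafData.support_pow_succ]
    show y ∉ ((Scheme.IdealSheafData.vanishingIdeal (X := X) ⟨{(z : X)}, hZ z z.2⟩).support : Set X)
    rw [Scheme.IdealSheafData.coe_support_vanishingIdeal]
    exact hy
  have hprod : ∀ (y : X) (I : Ideal (X.presheaf.stalk y)),
      (∀ z : ↥Z, (z : X) = y → I ≤ Groth.Agent.Lib.Ideal.Prime.stalkIdeal (P z) y) →
      I ≤ Groth.Agent.Lib.Ideal.Prime.stalkIdeal J y := by
    classical
    intro y I hI
    have hle : ∏ z : ↥Z, P z ≤ J := le_iInf fun z => by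
      rw [← Finset.mul_prod_erase Finset.univ P (Finset.mem_univ z)]
      intro U
      simp only [Scheme.IdealSheafData.ideal_mul, Pi.mul_apply]
      exact Ideal.mul_le_left
    refine le_trans ?_ (Groth.Agent.Lib.SurfInt.Seq.stalkIdeal_mono hle y)
    have hs : ∀ s : Finset ↥Z, (∀ z ∈ s, (z : X) ≠ y) →
        Groth.Agent.Lib.Ideal.Prime.stalkIdeal (∏ z ∈ s, P z) y = ⊤ := by
      intro s
      induction s using Finset.induction_on with
      | empty =>
        intro _
        rw [Finset.prod_empty]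
        exact Groth.Agent.Lib.DepthTwist.Zero.stalkIdeal_top y
      | insert z s hz ih =>
        intro h
        rw [Finset.prod_insert hz, Groth.Agent.Lib.SurfInt.Mul.stalkIdeal_mul,
          hP z y (Ne.symm (h z (Finset.mem_insert_self z s))),
          ih fun w hw => h w (Finset.mem_insert_of_mem hw), Ideal.top_mul]
    by_cases hy : ∃ z : ↥Z, (z : X) = y
    · obtain ⟨z, hzy⟩ := hy
      rw [← Finset.mul_prod_erase Finset.univ P (Finset.mem_univ z),
        Groth.Agent.Lib.SurfInt.Mul.stalkIdeal_mul, hs _ fun w hw hwy =>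
          (Finset.mem_erase.1 hw).1 (Subtype.ext (hwy.trans hzy.symm)), Ideal.mul_top]
      exact hI z hzy
    · rw [hs _ fun w _ hwy => hy ⟨w, hwy⟩]
      exact le_top
  set Q := CohB1.tensorMod M (ClSub.quotMod J) with hQ
  have hQ0 : ∀ y : X, y ∉ Z → Subsingleton (Q.presheaf.stalk y) := fun y hy => by
    obtain ⟨eq⟩ := Groth.Agent.Lib.Snapper.Twist.exists_stalkEquiv_twist hM (ClSub.quotMod J) y
    have : Subsingleton ((ClSub.quotMod J).presheaf.stalk y) := by
      refine subsingleton_of_forall_eq 0 fun v => ?_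
      obtain ⟨r, rfl⟩ := Groth.Agent.Lib.SurfInt.Stalk.quotStalk_surjective J y v
      rw [← LinearMap.mem_ker, Groth.Agent.Lib.SurfInt.Stalk.ker_quotStalk]
      exact hprod y ⊤ (fun z hzy => absurd (hzy ▸ z.2) hy) trivial
    exact eq.toEquiv.subsingleton
  have hst : ∀ z ∈ Z, letI := Groth.Agent.Lib.CurveFF.SkySections.stalkMod (k := k) Q z
      Module.Finite k (Q.presheaf.stalk z) ∧ Module.finrank k (Q.presheaf.stalk z) * 2 ≤ N * (N + 1) := by
    intro z hz
    refine Groth.Agent.Lib.Jets27.Colength.finrank_stalk_le k hdim.le hreg (hZ z hz) J N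
      (hprod z _ ?_) hM
    rintro w rfl
    exact le_of_eq (by
      show _ = Groth.Agent.Lib.Ideal.Prime.stalkIdeal ((W4c2seshadripos.pointIdeal (w : X) _) ^ N) _
      rw [Groth.Agent.Lib.SurfInt.JPow.stalkIdeal_pow]
      congr 1
      exact (Groth.Agent.Lib.SurfFactor85.Main.stalkIdeal_vanishingIdeal_self _ _).symm)
  have hQn : Module.finrank k (Coh.HH X Q 0) * 2 ≤ Z.card * (N * (N + 1)) := by
    rw [Groth.Agent.Lib.CurveFF.SkySections.finrank_h0 Q Z hZ hQ0 (fun z hz => (hst z hz).1),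
      Finset.sum_mul]
    exact (Finset.sum_le_sum fun z hz => (hst z hz).2).trans (by simp)
  -- compare
  have hS := Groth.Agent.Lib.Snapper.Twist.twistSeq_shortExact hM
    (Groth.Agent.Lib.ClSub.Quot.idealSeq_shortExact J)
  by_contra hnt
  rw [not_nontrivial_iff_subsingleton] at hnt
  haveI hsub : Subsingleton (Coh.HH X (CohB1.tensorMod M (ClSub.idealMod J)) 0) :=
    (Groth.Agent.Lib.Curves.LES.isoK k
      (Groth.Agent.Lib.TensorMod.Basic.comm M (ClSub.idealMod J)) 0).toEquiv.subsingleton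
  haveI : FiniteDimensional k (Coh.HH X Q 0) :=
    hfin _ (Groth.Agent.Lib.Snapper.Twist.isCoh_twist hM
      (Groth.Agent.Lib.SurfInt.Effective.isCoh_quotMod J)) 0
  have hinj : Function.Injective (Groth.Agent.Lib.Curves.LES.mapK k
      (Groth.Agent.Lib.Snapper.Twist.twistSeq M (Groth.Agent.Lib.ClSub.Quot.idealSeq J)).g 0) := by
    rw [injective_iff_map_eq_zero]
    intro v hv
    obtain ⟨w, rfl⟩ := (Groth.Agent.Lib.Curves.LES.exactK₂ k hS 0 v).1 hv
    exact (congrArg _ (@Subsingleton.elim _ hsub w 0)).trans (map_zero _)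
  have hMQ : Module.finrank k (Coh.HH X M 0) ≤ Module.finrank k (Coh.HH X Q 0) := by
    rw [← (Groth.Agent.Lib.Curves.LES.isoK k (Groth.Agent.Lib.TensorMod.Basic.rightUnit M) 0).finrank_eq]
    exact LinearMap.finrank_le_finrank_of_injective hinj
  have h1 : ((Module.finrank k (Coh.HH X M 0) : ℕ) : ℤ) * 2 ≤ (Z.card : ℤ) * ((N : ℤ) * ((N : ℤ) + 1)) := by
    exact_mod_cast (Nat.mul_le_mul_right 2 hMQ).trans hQn
  have hb : a + 2 * |χL| + 2 * |χO| + 8 * (Z.card : ℤ) + 1 ≤ ((n + 1 : ℕ) : ℤ) := by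
    rw [Int.abs_eq_natAbs, Int.abs_eq_natAbs]; omega
  have hNz : (N : ℤ) = 2 * ((n : ℤ) + 1) + 1 := by rw [hN]; push_cast; ring
  rw [hNz] at h1
  push_cast at hchi hb
  have hn : (0 : ℤ) ≤ n := Int.natCast_nonneg n
  have hz : (0 : ℤ) ≤ Z.card := Int.natCast_nonneg _
  nlinarith [mul_le_mul_of_nonneg_right hb (show (0 : ℤ) ≤ (n : ℤ) + 1 by omega),
    mul_le_mul_of_nonneg_right (neg_abs_le χL) (show (0 : ℤ) ≤ (n : ℤ) + 1 by omega),
    mul_le_mul_of_nonneg_right (le_abs_self χO) hn,
    mul_le_mul_of_nonneg_right (show 4 * (Z.card : ℤ) + 1 ≤ a by omega) (mul_nonneg (show (0:ℤ) ≤ (n:ℤ) + 1 by omega) (show (0:ℤ) ≤ (n:ℤ) + 1 by omega)),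
    abs_nonneg χL, abs_nonneg χO, mul_nonneg hz hn]

end Groth.Agent.S17344
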