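import Groth.Statements.S17346
import Groth.Agent.S11345
import Groth.Agent.Lib.PointBlow96.General
import Groth.Agent.Lib.SurfRR.Proper
import Groth.Agent.Lib.SurfRR.Duality
import Groth.Agent.Lib.SurfFactor85.Iso
import Groth.Agent.Lib.Flat55.CurveNormalizationBC
import Groth.Agent.Lib.ModelFibre.StalkIdeal
import Groth.Agent.Lib.Modules.ProjFormula

set_option autoImplicit false
universe u
open CategoryTheory CategoryTheory.Limits AlgebraicGeometry
open AdjLin

namespace Groth.Agent.S17346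

open Groth.Agent.Lib Groth.Agent.Lib.Modules
open Groth.Agent.Lib.PointBlow96 (ptI Good nu)
open Groth.Agent.Lib.TensorMod.Pullback (pb)
open Groth.Agent.Lib.TensorMod.Basic (tmap comm assoc tensorIso leftUnit rightUnit)
open Groth.Agent.Lib.TensorMod.Gen (IsGen)
open Groth.Agent.Lib.Ideal.Prime (stalkIdeal)
open Groth.Agent.Lib.SurfInt.Stalk (act act_tens)
open Opposite

section Algebra

open IsLocalRing

theorem exists_form {A : Type u} [CommRing A] (a₀ a₁ : A) : ∀ (n : ℕ) {f : A},
    f ∈ Ideal.span {a₀, a₁} ^ n → ∃ c : ℕ → A, f = ∑ i ∈ Finset.range (n + 1), c i * a₀ ^ (n - i) * a₁ ^ i := by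
  intro n
  induction n with
  | zero => exact fun {f} _ => ⟨fun _ => f, by simp⟩
  | succ n ih =>
    intro f hf
    rw [pow_succ] at hf
    refine Submodule.mul_induction_on hf (fun x hx y hy => ?_) ?_
    · obtain ⟨c, rfl⟩ := ih hx
      obtain ⟨p, q, rfl⟩ := Ideal.mem_span_pair.1 hy
      refine ⟨fun i => (if i ≤ n then p * c i else 0) + (if i = 0 then 0 else q * c (i - 1)), ?_⟩
      simp only [add_mul]
      rw [mul_add, Finset.sum_add_distrib, Finset.sum_range_succ _ (n + 1),
        Finset.sum_range_succ' (fun i => (if i = 0 then 0 else q * c (i - 1)) * a₀ ^ (n + 1 - i) * a₁ ^ i) (n + 1)]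
      simp only [if_neg (show ¬ n + 1 ≤ n by omega), zero_mul, add_zero, Nat.add_sub_cancel,
        Nat.add_sub_add_right, Nat.succ_ne_zero, if_false, if_true]
      rw [Finset.sum_mul, Finset.sum_mul]
      congr 1
      · refine Finset.sum_congr rfl fun i hi => ?_
        have hi : i ≤ n := Nat.lt_succ_iff.1 (Finset.mem_range.1 hi)
        rw [if_pos hi, show n + 1 - i = n - i + 1 by omega]
        ring
      · exact Finset.sum_congr rfl fun i _ => by ring
    · rintro x y ⟨c, rfl⟩ ⟨d, rfl⟩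
      exact ⟨fun i => c i + d i, by simp [add_mul, Finset.sum_add_distrib]⟩

theorem mem_pow_of_forall {A : Type u} [CommRing A] [IsRegularLocalRing A] (hA : ringKrullDim A = 2)
    [Infinite (ResidueField A)] (b : ℕ) {f : A}
    (H : ∀ γ₁ γ₂ : A, Ideal.span {γ₁, γ₂} = maximalIdeal A → f ∈ Ideal.span {γ₁} ^ b ⊔ Ideal.span {γ₂}) :
    f ∈ maximalIdeal A ^ b := by
  obtain ⟨a, ha, -⟩ := PointBlow85.exists_params A hA
  have hpair : Ideal.span {a 0, a 1} = maximalIdeal A := by
    rw [← ha]; congr 1; ext z; simp [Fin.exists_fin_two, eq_comm]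
  suffices h : ∀ n ≤ b, f ∈ maximalIdeal A ^ n from h b le_rfl
  intro n
  induction n with
  | zero => intro _; simp
  | succ n ih =>
    intro hn
    obtain ⟨c, hc⟩ := exists_form (a 0) (a 1) n (hpair ▸ ih (by omega))
    have hev : ∀ t : A, ∑ i ∈ Finset.range (n + 1), residue A (c i) * residue A t ^ i = 0 := by
      intro t
      have hspan : Ideal.span {a 0, a 1 - t * a 0} = maximalIdeal A := by
        rw [← hpair, show a 1 - t * a 0 = a 1 + (-t) * a 0 by ring, Ideal.span_pair_add_mul_left]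
      obtain ⟨hdom, hnot⟩ := PointBlow96.pair_spec hA hspan
      set Q := Ideal.span {a 1 - t * a 0}
      haveI := hdom
      obtain ⟨u, hu, v, hv, huv⟩ := Submodule.mem_sup.1 (H _ _ hspan)
      rw [Ideal.span_singleton_pow] at hu
      obtain ⟨w, rfl⟩ := Ideal.mem_span_singleton'.1 hu
      let π := Ideal.Quotient.mk Q
      have h1 : π (a 1) = π t * π (a 0) := by
        rw [← map_mul, Ideal.Quotient.eq]; exact Ideal.mem_span_singleton_self _
      have h2 : π f = π (∑ i ∈ Finset.range (n + 1), c i * t ^ i) * π (a 0) ^ n := by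
        rw [hc, map_sum, map_sum, Finset.sum_mul]
        refine Finset.sum_congr rfl fun i hi => ?_
        have hi : i ≤ n := Nat.lt_succ_iff.1 (Finset.mem_range.1 hi)
        simp only [map_mul, map_pow, h1]
        conv_rhs => rw [show n = n - i + i by omega, pow_add]
        ring
      have h3 : π f = π w * π (a 0) ^ b := by
        rw [← huv, map_add, (Ideal.Quotient.eq_zero_iff_mem).2 hv, add_zero, map_mul, map_pow]
      rw [h3, show b = b - n + n by omega, pow_add, ← mul_assoc] at h2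
      have h4 := mul_right_cancel₀ (pow_ne_zero n fun h0 => hnot (Ideal.Quotient.eq_zero_iff_mem.1 h0)) h2
      rw [← map_pow, ← map_mul, Ideal.Quotient.eq] at h4
      have hQ : Q ≤ maximalIdeal A := by
        rw [← hspan]; exact Ideal.span_mono (by simp)
      have hres := (residue_eq_zero_iff _).2 (hQ h4)
      rw [map_sub, map_mul, map_pow, (residue_eq_zero_iff (a 0)).2 (hpair ▸ Ideal.subset_span (by simp)),
        zero_pow (by omega), mul_zero, zero_sub, neg_eq_zero, map_sum] at hres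
      simpa only [map_mul, map_pow] using hres
    have hp : (∑ i ∈ Finset.range (n + 1), Polynomial.C (residue A (c i)) * Polynomial.X ^ i) = 0 := by
      refine Polynomial.funext fun r => ?_
      obtain ⟨t, rfl⟩ := residue_surjective r
      simpa [Polynomial.eval_finset_sum] using hev t
    rw [hc]
    refine Ideal.sum_mem _ fun i hi => ?_
    have hi' : i ≤ n := Nat.lt_succ_iff.1 (Finset.mem_range.1 hi)
    have h0 : residue A (c i) = 0 := by
      have h := congrArg (fun p => Polynomial.coeff p i) hp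
      simp only [Polynomial.finset_sum_coeff, Polynomial.coeff_C_mul_X_pow, Polynomial.coeff_zero] at h
      rwa [Finset.sum_ite_eq, if_pos hi] at h
    rw [show n + 1 = 1 + (n - i) + i by omega, pow_add, pow_add, pow_one]
    exact Ideal.mul_mem_mul (Ideal.mul_mem_mul ((residue_eq_zero_iff _).1 h0)
      (Ideal.pow_mem_pow (hpair ▸ Ideal.subset_span (by simp)) _))
      (Ideal.pow_mem_pow (hpair ▸ Ideal.subset_span (by simp)) _)

end Algebra

section Vanishing

variable {Y X : Scheme.{u}} {I : Y.IdealSheafData} {σ : X ⟶ Y}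

theorem subsingleton_twist (hσ : BlowUp.IsBlowUp σ I) {W : Y.Opens} (hW : Good I W)
    {P : X.Modules} (hP : PicF.IsInvertible P) (e : Γ(P, σ ⁻¹ᵁ W)) (he : IsGen P (σ ⁻¹ᵁ W) e) (b q : ℕ)
    [(CohB1.tensorMod (_root_.ClSub.idealMod (BlowUp.exceptional σ I ^ b)) P).IsQuasicoherent] :
    Subsingleton (CohTop.HU (Coh.toAb (CohB1.tensorMod (_root_.ClSub.idealMod (BlowUp.exceptional σ I ^ b)) P))
      (q + 1) (σ ⁻¹ᵁ W)) := by
  obtain ⟨hWa, g₁, g₂, hg⟩ := hW
  obtain ⟨U, V, hU, hV, hUV, hcov, hdec, -⟩ := PointBlow96.exists_cover hσ hWa g₁ g₂ hg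
  set J := BlowUp.exceptional σ I ^ b with hJ
  set M := CohB1.tensorMod (_root_.ClSub.idealMod J) P with hM
  rw [← hcov]
  haveI : ∀ n, Subsingleton (CohTop.HU (Coh.toAb M) (n + 1) U) := fun n =>
    ZarCoh.Affine.HU_subsingleton M hU n
  haveI : ∀ n, Subsingleton (CohTop.HU (Coh.toAb M) (n + 1) V) := fun n =>
    ZarCoh.Affine.HU_subsingleton M hV n
  haveI : ∀ n, Subsingleton (CohTop.HU (Coh.toAb M) (n + 1) (U ⊓ V)) := fun n =>
    ZarCoh.Affine.HU_subsingleton M hUV n
  match q with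
  | q + 1 =>
    refine subsingleton_of_forall_eq 0 fun c => ?_
    obtain ⟨w, rfl⟩ := Cech.MV.exists_δ_eq (Coh.toAb M) U V (q + 1) c (Subsingleton.elim _ _)
      (Subsingleton.elim _ _)
    rw [Subsingleton.elim w 0, map_zero]
  | 0 =>
    refine CohDelta.TwoAff.subsingleton_HU_one_sup (Coh.toAb M) U V fun z => ?_
    have hUW : U ≤ σ ⁻¹ᵁ W := le_sup_left.trans hcov.le
    have hVW : V ≤ σ ⁻¹ᵁ W := le_sup_right.trans hcov.le
    have hIW : U ⊓ V ≤ σ ⁻¹ᵁ W := inf_le_left.trans hUW
    let ι := _root_.ClSub.idealModι J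
    let π := _root_.ClSub.toSubscheme J
    let A : M ⟶ P := act ι P
    haveI : Mono A := by
      haveI : Mono (tmap ι (𝟙 P)) := (CurveBundle.Twist.shortExact hP (ClSub.Quot.idealSeq_shortExact J)).mono_f
      change Mono (tmap ι (𝟙 P) ≫ (leftUnit P).hom)
      infer_instance
    have hinj : ∀ T, Function.Injective (A.app T) := (Modules.Stalk.mono_iff_app_injective A).1 inferInstance
    obtain ⟨a, ha⟩ : ∃ a : Γ(X, U ⊓ V), a • TensorMod.Dual.rs P hIW e = A.app (U ⊓ V) z := (he _ hIW).2 _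
    have claim : ∀ (T : X.Opens) (hT : T ≤ σ ⁻¹ᵁ W) (w : Γ(M, T)) (a : Γ(X, T)),
        a • TensorMod.Dual.rs P hT e = A.app T w → π.app T a = 0 := by
      intro T hT w
      refine TensorSec.induction_on (U := σ ⁻¹ᵁ W)
        (P := fun T hT w => ∀ a : Γ(X, T), a • TensorMod.Dual.rs P hT e = A.app T w → π.app T a = 0)
        ?_ ?_ ?_ ?_ T hT w
      · intro T hT w hloc a ha
        refine TensorSec.section_ext (_root_.ClSub.quotMod J) _ _ fun y hy => ?_
        obtain ⟨T', hT', hyT', h⟩ := hloc y hy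
        refine ⟨T', hT', hyT', ?_⟩
        have h1 := h (X.presheaf.map (homOfLE hT').op a) (by
          rw [TensorSec.app_rs, ← ha]
          exact ((Scheme.Modules.map_smul _ _ _ _).trans (congrArg _ (TensorMod.Dual.rs_rs P hT hT' e))).symm)
        rw [TensorSec.rs_zero]
        exact ((TensorSec.app_rs π hT' (show Γ(Coh.structureModule X, T) from a)).symm).trans h1
      · intro T hT a ha
        rw [map_zero] at ha
        have : a = 0 := (he T hT).1 (ha.trans (zero_smul Γ(X, T) _).symm)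
        rw [this]; exact map_zero _
      · intro T hT w₁ w₂ h₁ h₂ a ha
        obtain ⟨a₁, ha₁⟩ := (he T hT).2 (A.app T w₁)
        obtain ⟨a₂, ha₂⟩ := (he T hT).2 (A.app T w₂)
        have : a = a₁ + a₂ := (he T hT).1 (by
          simp only at ha₁ ha₂ ⊢
          rw [ha, map_add, add_smul, ha₁, ha₂])
        rw [this]
        exact (map_add (π.app T).hom a₁ a₂).trans (by erw [h₁ a₁ ha₁, h₂ a₂ ha₂]; exact add_zero _)
      · intro T hT m n a ha
        obtain ⟨c, hc⟩ := (he T hT).2 n
        rw [act_tens, ← hc] at ha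
        have h1 : a = (show Γ(X, T) from ι.app T m) * c :=
          (he T hT).1 (ha.trans (mul_smul (show Γ(X, T) from ι.app T m) c _).symm)
        rw [h1, mul_comm]
        refine (Scheme.Modules.Hom.app_smul π c (ι.app T m)).trans ?_
        have h2 : π.app T (ι.app T m) = 0 := ClSub.Sections.app_kernel_ι_app (_root_.ClSub.toSubscheme J) T m
        rw [h2, smul_zero]
    have haJ : a ∈ J.ideal ⟨U ⊓ V, hUV⟩ :=
      (PointBlow96.toSubscheme_app_eq_zero_iff J hUV a).1 (claim _ hIW z a ha)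
    set rU := (X.presheaf.map (homOfLE (inf_le_left : U ⊓ V ≤ U)).op).hom
    set rV := (X.presheaf.map (homOfLE (inf_le_right : U ⊓ V ≤ V)).op).hom
    obtain ⟨x, hx, y, hy, hxy⟩ : ∃ x ∈ J.ideal ⟨U, hU⟩, ∃ y ∈ J.ideal ⟨V, hV⟩, rU x + rV y = a := by
      have key : ∀ z ∈ J.ideal ⟨U ⊓ V, hUV⟩, ∀ r : Γ(X, U ⊓ V), ∃ a ∈ J.ideal ⟨U, hU⟩,
          ∃ c ∈ J.ideal ⟨V, hV⟩, rU a + rV c = r * z := by
        intro z hz
        rw [hJ, PointBlow96.exc_pow_ideal hWa b _ hUV hIW, Ideal.map] at hz
        induction hz using Submodule.span_induction with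
        | mem z hz =>
          intro r
          obtain ⟨w, hw, rfl⟩ := hz
          obtain ⟨x, y, rfl⟩ := hdec r
          refine ⟨x * σ.appLE W U hUW w, Ideal.mul_mem_left _ _ ?_,
            y * σ.appLE W V hVW w, Ideal.mul_mem_left _ _ ?_, ?_⟩
          · rw [PointBlow96.exc_pow_ideal hWa b _ hU hUW]; exact Ideal.mem_map_of_mem _ hw
          · rw [PointBlow96.exc_pow_ideal hWa b _ hV hVW]; exact Ideal.mem_map_of_mem _ hw
          · rw [map_mul, map_mul, add_mul]
            change _ * (σ.appLE W U hUW ≫ X.presheaf.map _) w +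
              _ * (σ.appLE W V hVW ≫ X.presheaf.map _) w = _
            rw [Scheme.Hom.appLE_map, Scheme.Hom.appLE_map]
        | zero =>
          exact fun r => ⟨0, Ideal.zero_mem _, 0, Ideal.zero_mem _, by simp⟩
        | add z w _ _ hz hw =>
          intro r
          obtain ⟨a, ha, c, hc, e⟩ := hz r
          obtain ⟨a', ha', c', hc', e'⟩ := hw r
          exact ⟨a + a', Ideal.add_mem _ ha ha', c + c', Ideal.add_mem _ hc hc',
            by rw [map_add, map_add, mul_add, ← e, ← e']; ring⟩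
        | smul s z _ hz =>
          intro r
          rw [smul_eq_mul, ← mul_assoc]
          exact hz (r * s)
      simpa using key _ haJ 1
    obtain ⟨mx, hmx⟩ := (ClSub.Sections.mem_range_idealModι_app_affine_iff J ⟨U, hU⟩ x).2 hx
    obtain ⟨my, hmy⟩ := (ClSub.Sections.mem_range_idealModι_app_affine_iff J ⟨V, hV⟩ y).2 hy
    refine ⟨TensorSec.tens mx (TensorMod.Dual.rs P hUW e), TensorSec.tens my (TensorMod.Dual.rs P hVW e), ?_⟩
    apply hinj
    change A.app _ (TensorMod.Dual.rs M inf_le_left _ + TensorMod.Dual.rs M inf_le_right _) = _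
    refine (map_add (A.app (U ⊓ V)).hom _ _).trans ?_
    erw [TensorSec.app_rs, TensorSec.app_rs, act_tens, act_tens, hmx, hmy]
    change P.presheaf.map _ (x • _) + P.presheaf.map _ (y • _) = _
    rw [Scheme.Modules.map_smul, Scheme.Modules.map_smul, ← ha, ← hxy, add_smul]
    congr 2 <;> exact TensorMod.Dual.rs_rs P _ _ e

end Vanishing

section Kernel

variable {X : Scheme.{u}}

theorem app_eq_zero_iff {B : X.Modules} (φ : Coh.structureModule X ⟶ B) {U : X.Opens}
    (s : Γ(Coh.structureModule X, U)) : φ.app U s = 0 ↔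
      ∀ (y : X) (hy : y ∈ U), StalkModule.stalkMapₗ φ y ((Coh.structureModule X).presheaf.germ U y hy s) = 0 := by
  refine ⟨fun h y hy => ?_, fun h => Modules.Support.eq_zero_of_germ_eq_zero _ fun y hy _ => ?_⟩
  · rw [StalkModule.stalkMapₗ_germ]; exact (congrArg _ h).trans (map_zero _)
  · have h1 := h y hy
    rwa [StalkModule.stalkMapₗ_germ] at h1

theorem nonempty_kernel_iso {O A B : X.Modules} (φ : O ⟶ A) (ψ : O ⟶ B)
    (h : ∀ (U : X.Opens) (s : Γ(O, U)), φ.app U s = 0 ↔ ψ.app U s = 0) :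
    Nonempty (kernel φ ≅ kernel ψ) := by
  have h1 : kernel.ι φ ≫ ψ = 0 := Scheme.Modules.hom_ext _ _ fun U => by
    ext m
    exact (h U _).1 (ClSub.Sections.app_kernel_ι_app φ U m)
  have h2 : kernel.ι ψ ≫ φ = 0 := Scheme.Modules.hom_ext _ _ fun U => by
    ext m
    exact (h U _).2 (ClSub.Sections.app_kernel_ι_app ψ U m)
  exact ⟨⟨kernel.lift ψ (kernel.ι φ) h1, kernel.lift φ (kernel.ι ψ) h2,
    by rw [← cancel_mono (kernel.ι φ)]; simp, by rw [← cancel_mono (kernel.ι ψ)]; simp⟩⟩

end Kernel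

/-- `σ_* I_E^b = m_x^b`. -/
theorem nonempty_push_ideal {k : Type u} [Field k] [IsAlgClosed k] {Y X : Scheme.{u}}
    [Y.Over (Spec (CommRingCat.of k))] [IsProper (Y ↘ Spec (CommRingCat.of k))]
    [X.Over (Spec (CommRingCat.of k))] [IsProper (X ↘ Spec (CommRingCat.of k))] [IsIntegral Y]
    (hdim : topologicalKrullDim Y = 2) (hreg : ∀ y : Y, IsRegularLocalRing (Y.presheaf.stalk y))
    {x : Y} (hx : IsClosed ({x} : Set Y)) {σ : X ⟶ Y}
    (hσk : σ ≫ (Y ↘ Spec (CommRingCat.of k)) = X ↘ Spec (CommRingCat.of k))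
    (hσ : BlowUp.IsBlowUp σ (ptI hx)) (b : ℕ) (hb : b ≠ 0) :
    Nonempty (_root_.ClSub.idealMod (ptI hx ^ b) ≅
      (Coh.push σ).obj (_root_.ClSub.idealMod (BlowUp.exceptional σ (ptI hx) ^ b))) := by
  haveI := Curves.GlobalSections.isNoetherian_of_proper k Y
  haveI := hreg x
  have hd := PointBlow96.stalk_dim hdim hx (Y ↘ Spec (CommRingCat.of k))
  haveI := PointBlow96.isIso_unit k hdim hreg hx hσk hσ
  letI := Curv2.resAlgebra k Y x
  haveI : Infinite (IsLocalRing.ResidueField (Y.presheaf.stalk x)) :=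
    Infinite.of_injective (algebraMap k (Y.residueField x)) (RingHom.injective _)
  set J := BlowUp.exceptional σ (ptI hx) ^ b with hJ
  obtain ⟨-, hsupp⟩ := PointBlow96.push_quot_coh (k := k) hx hd hσ hσk b
  have hsupp2 : CohB1.support (_root_.ClSub.quotMod (ptI hx ^ b)) ⊆ {x} := by
    rw [ClSub.Quot.support_quotMod, Scheme.IdealSheafData.support_pow _ _ hb,
      Scheme.IdealSheafData.coe_support_vanishingIdeal]
    exact le_rfl
  have hst : stalkIdeal (ptI hx ^ b) x = IsLocalRing.maximalIdeal (Y.presheaf.stalk x) ^ b := by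
    rw [ModelFibre.StalkIdeal.stalkIdeal_pow, SurfFactor85.Main.stalkIdeal_vanishingIdeal_self]
  have key : ∀ (U : Y.Opens) (s : Γ(Coh.structureModule Y, U)),
      (_root_.ClSub.toSubscheme (ptI hx ^ b)).app U s = 0 ↔ (nu σ J).app U s = 0 := by
    intro U s
    rw [app_eq_zero_iff, app_eq_zero_iff]
    refine forall₂_congr fun y hy => ?_
    by_cases hyx : y = x
    swap
    · haveI : Subsingleton ((_root_.ClSub.quotMod (ptI hx ^ b)).presheaf.stalk y) :=
        not_not.1 fun h => hyx (hsupp2 h)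
      haveI : Subsingleton (((Scheme.Modules.pushforward σ).obj (_root_.ClSub.quotMod J)).presheaf.stalk y) :=
        not_not.1 fun h => hyx (hsupp hb h)
      exact ⟨fun _ => Subsingleton.elim _ _, fun _ => Subsingleton.elim _ _⟩
    · subst hyx
      have h1 : StalkModule.stalkMapₗ (_root_.ClSub.toSubscheme (ptI hx ^ b)) y
          ((Coh.structureModule Y).presheaf.germ U y hy s) = 0 ↔
          Y.presheaf.germ U y hy s ∈ IsLocalRing.maximalIdeal (Y.presheaf.stalk y) ^ b := by
        rw [← hst, ← SurfInt.Stalk.ker_quotStalk, LinearMap.mem_ker]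
        rw [show SurfInt.Stalk.quotStalk (ptI hx ^ b) y (Y.presheaf.germ U y hy s) =
          StalkModule.stalkMapₗ (_root_.ClSub.toSubscheme (ptI hx ^ b)) y
            ((Coh.structureModule Y).presheaf.germ U y hy s) from
          congrArg _ ((LinearEquiv.symm_apply_eq _).2 (SurfInt.Stalk.oStalk_germ hy s).symm)]
      rw [h1]
      exact ⟨PointBlow96.nu_germ_eq_zero hx hd hσ b hy s, fun h => mem_pow_of_forall hd b
        fun γ₁ γ₂ hγ => PointBlow96.mem_of_nu_germ_eq_zero hx hd hσ b hy s h hγ⟩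
  obtain ⟨e⟩ := nonempty_kernel_iso _ _ key
  exact ⟨e ≪≫ kernelIsIsoComp (_root_.ClSub.unitToPush σ) _ ≪≫
    (PreservesKernel.iso (Scheme.Modules.pushforward σ) (_root_.ClSub.toSubscheme J)).symm⟩

/-- Let k be an algebraically closed field of characteristic zero, X a smooth projective surface over k
(irreducible, proper, smooth of dimension 2, with an ample invertible module), ω_X a second exterior
power of Ω_{X/k}, L an invertible O_X-module, x a closed point with ideal sheaf m_x, r > 0 an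
integer, f : Y → X a blow-up of X at x over k with exceptional ideal I_E = m_x · O_Y, and ω_Y a
second exterior power of Ω_{Y/k}. Then for every i the k-vector spaces H^i(X, m_x^r ⊗ (L ⊗ ω_X)) and
H^i(Y, I_E^(r+1) ⊗ (f^*L ⊗ ω_Y)) have the same dimension; in divisor notation H^i(X, O_X(K_X + L) ⊗
m_x^r) ≅ H^i(Y, O_Y(K_Y + f^*L − (r+1)E)). (The published statement gives isomorphisms of these
cohomology groups; this row states only that their dimensions agree.) -/
theorem result (k : Type u) [Field k] [IsAlgClosed k] [CharZero k]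
    (X : Scheme.{u}) [X.Over (Spec (CommRingCat.of k))] [IsProper (X ↘ (Spec (CommRingCat.of k)))]
    [Smooth (X ↘ (Spec (CommRingCat.of k)))] [IrreducibleSpace X] (hdim : topologicalKrullDim X = 2)
    (H : X.Modules) (hH : CohB1.IsAmple H)
    (ωX : X.Modules) (hωX : ExtPow.IsExtPow 2 (Omega.sheaf (X ↘ (Spec (CommRingCat.of k)))) ωX)
    (L : X.Modules) (hL : PicF.IsInvertible L)
    (x : X) (hx : IsClosed ({x} : Set X)) (r : ℕ) (hr : 0 < r)
    (Y : Scheme.{u}) [Y.Over (Spec (CommRingCat.of k))] (f : Y ⟶ X) (hf : f ≫ (X ↘ (Spec (CommRingCat.of k))) = Y ↘ (Spec (CommRingCat.of k)))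
    (hbl : BlowUp.IsBlowUp f (W4c2seshadripos.pointIdeal x hx))
    (ωY : Y.Modules) (hωY : ExtPow.IsExtPow 2 (Omega.sheaf (Y ↘ (Spec (CommRingCat.of k)))) ωY) (i : ℕ) :
    Module.finrank k (Coh.HH X (CohB1.tensorMod (ClSub.idealMod ((W4c2seshadripos.pointIdeal x hx) ^ r))
        (CohB1.tensorMod L ωX)) i) =
      Module.finrank k (Coh.HH Y (CohB1.tensorMod
        (ClSub.idealMod ((BlowUp.exceptional f (W4c2seshadripos.pointIdeal x hx)) ^ (r + 1)))
        (CohB1.tensorMod ((Scheme.Modules.pullback f).obj L) ωY)) i) := by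
  classical
  let sX := X ↘ Spec (CommRingCat.of k)
  haveI : AlgebraicGeometry.IsReduced X := Flat55.CurveNormalizationBC.isReduced_of_smooth sX
  haveI : IsIntegral X := isIntegral_of_irreducibleSpace_of_isReduced _
  haveI := Curves.GlobalSections.isNoetherian_of_proper k X
  have hreg : ∀ p : X, IsRegularLocalRing (X.presheaf.stalk p) := SurfInt.NegDef.regular_of_smooth (k := k)
  haveI := hreg x
  have hbl' : BlowUp.IsBlowUp f (ptI hx) := hbl
  haveI : IsProper f := PointBlow96.isProper_blowUp hx hbl'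
  haveI : IsProper (Y ↘ Spec (CommRingCat.of k)) := PointBlow96.isProper_X k hx hf hbl'
  haveI := Curves.GlobalSections.isNoetherian_of_proper k Y
  haveI : IsIntegral Y := PointBlow96.isIntegral_X k hdim hx hf hbl'
  have hdimY : topologicalKrullDim Y = 2 := PointBlow96.dim_X k hdim hx hf hbl'
  have hxd : ringKrullDim (X.presheaf.stalk x) = 2 := PointBlow96.stalk_dim hdim hx sX
  set Ω : X.Opens := ⟨{x}ᶜ, hx.isOpen_compl⟩ with hΩ
  haveI : IsIso (f ∣_ Ω) := by
    have h := Ideal.BlowUp.isIso_off_center hbl'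
    have e : (ptI hx).support.compl = Ω :=
      TopologicalSpace.Opens.ext (congrArg compl (Flat55.ContractionUniversal.support_vanishingIdeal_point x hx))
    rwa [e] at h
  have hregY : ∀ p : Y, IsRegularLocalRing (Y.presheaf.stalk p) := fun p => by
    by_cases hp : f p = x
    · exact SurfFactor85.Iso.isRegularLocalRing_blowUp_stalk f x hx hxd hbl' p hp
    · haveI := SurfFactor85.Iso.isIso_stalkMap_of_restrict f Ω p hp
      haveI := hreg (f p)
      exact IsRegularLocalRing.of_ringEquiv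
        (RingEquiv.ofBijective (f.stalkMap p).hom (ConcreteCategory.bijective_of_isIso _))
  haveI := SurfRR.Regular.smoothOfRelativeDimension_two (k := k) hdimY hregY
  haveI : Smooth (Y ↘ Spec (CommRingCat.of k)) := SmoothOfRelativeDimension.smooth 2 _
  obtain ⟨n₁, ι₁, hc₁, hι₁⟩ := SurfRR.Proper.exists_embedding (k := k) (X := X) hdim
  obtain ⟨n₂, ι₂, hc₂, hι₂⟩ := SurfRR.Proper.exists_embedding (k := k) (X := Y) hdimY
  obtain ⟨⟨eω⟩, -⟩ := Groth.Agent.S11345.result k X hdim hreg ⟨n₁, ι₁, hc₁, hι₁⟩ ωX hωX x hx Y f hbl' hdimY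
    hregY ⟨n₂, ι₂, hc₂, hι₂.trans hf.symm⟩ ωY (hf ▸ hωY)
  have hωXi : PicF.IsInvertible ωX := SurfRR.Duality.isInvertible_canonical (k := k) hdim hωX
  set E := BlowUp.exceptional f (ptI hx)
  set N := CohB1.tensorMod L ωX
  have hN : PicF.IsInvertible N := TensorMod.Invertible.isInvertible_tensorMod hL hωXi
  have hPN : PicF.IsInvertible ((pb f).obj N) := PicLoc.isInvertible_pullback f hN
  set M := CohB1.tensorMod (_root_.ClSub.idealMod (E ^ r)) ((pb f).obj N)
  have hEc : BlowUp.IsEffCartierIdeal E := hbl'.1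
  have hEr := SurfInt.Effective.isInvertible_idealMod (Ideal.EffCartier.isEffCartier_pow hEc r)
  haveI : M.IsQuasicoherent :=
    TensorMod.QCohInv.isQCoh_of_isInvertible (TensorMod.Invertible.isInvertible_tensorMod hEr hPN)
  -- the target
  obtain ⟨em⟩ := SurfInt.Mul.nonempty_idealMod_mul (Ideal.EffCartier.isEffCartier_pow hEc r) E
  have hpm : Nonempty ((pb f).obj N ≅ CohB1.tensorMod ((pb f).obj L) ((pb f).obj ωX)) :=
    ⟨TensorMod.Pullback.pullbackTensorIso f L ωX⟩
  obtain ⟨ep⟩ := hpm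
  let eT : CohB1.tensorMod (_root_.ClSub.idealMod (E ^ (r + 1))) (CohB1.tensorMod ((pb f).obj L) ωY) ≅ M :=
    tensorIso (eqToIso (by rw [pow_succ]) ≪≫ em.symm) (Iso.refl _) ≪≫ assoc _ _ _ ≪≫
      tensorIso (Iso.refl _) ((assoc _ _ _).symm ≪≫ tensorIso (comm _ _) (Iso.refl _) ≪≫ assoc _ _ _ ≪≫
        tensorIso (Iso.refl _) (comm _ _ ≪≫ eω) ≪≫ ep.symm)
  -- projection formula
  obtain ⟨eI⟩ := nonempty_push_ideal hdim hreg hx hf hbl' r hr.ne'
  have hdb := Modules.DualBasis.hasDBases_of_isFinLocFree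
    (TensorMod.LocFree.of_rank (TensorMod.LocFree.of_isInvertible hN))
  let eS : CohB1.tensorMod (_root_.ClSub.idealMod (ptI hx ^ r)) N ≅ (Coh.push f).obj M :=
    tensorIso eI (Iso.refl N) ≪≫ comm _ _ ≪≫ (Modules.ProjFormula.projIso f hdb).app _ ≪≫
      (Coh.push f).mapIso (comm _ _)
  -- cohomology of the direct image
  let B : Set (TopologicalSpace.Opens X) := {W | Good (ptI hx) W ∧ ∃ e : Γ(N, W), IsGen N W e}
  have hB : TopologicalSpace.Opens.IsBasis B := by
    rw [TopologicalSpace.Opens.isBasis_iff_nbhd]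
    intro O y hy
    obtain ⟨V, e, hyV, he⟩ := TensorMod.Gen.isInvertible_iff.1 hN y
    obtain ⟨W, hW, hyW, hle⟩ := PointBlow96.exists_good hx hxd y (O := O ⊓ V) ⟨hy, hyV⟩
    exact ⟨W, ⟨hW, _, he.res (hle.trans inf_le_right)⟩, hyW, hle.trans inf_le_left⟩
  have hv : ∀ W ∈ B, ∀ q, Subsingleton (CohTop.HU (Coh.toAb M) (q + 1) ((TopologicalSpace.Opens.map f.base).obj W)) := by
    rintro W ⟨hW, e, he⟩ q
    exact subsingleton_twist hbl' hW hPN _ (Ample.GenLocus.isGen_unitSec f he) r q
  let E' : Coh.HH X ((Coh.push f).obj M) i ≃ₗ[k] Coh.HH Y M i :=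
    { ZarCoh.PushH.pushEquiv f.base hB (Coh.toAb M) hv i with
      map_smul' := fun a y => ZarCoh.Morph.pushH_smul f M i _ _ (ZarCoh.Linear.toGlobal_comp f hf a) y }
  exact ((Curves.LES.isoK k eS i).finrank_eq.trans E'.finrank_eq).trans (Curves.LES.isoK k eT i).finrank_eq.symm

end Groth.Agent.S17346
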