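import Groth.Statements.S17348
import Groth.Agent.S17342
import Groth.Agent.Lib.Jets27.BaseChange
import Groth.Agent.Lib.Ample.GenLocus
-- import your own Groth.Agent.* helpers here

set_option autoImplicit false
set_option linter.style.haveILetI false
set_option maxHeartbeats 1000000
universe u
open CategoryTheory CategoryTheory.Limits AlgebraicGeometry
open LocPos

namespace Groth.Agent.S17348

open Groth.Agent.Lib Groth.Agent.Lib.ModelFibre Groth.Agent.Lib.SurfInt TopologicalSpace
open Groth.Agent.Lib.Ideal.Prime (stalkIdeal)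
open Groth.Agent.S17342 (comap_cartier comap_le cls_mul)

noncomputable local instance picLawInst (Z : Scheme.{u}) : PicGrp.Law Z := TensorMod.Invertible.law Z

/-- Separation of `s`-jets gives a section of multiplicity `≥ s` which does not vanish on a given curve. -/
theorem exists_section {X : Scheme.{u}} [IsIntegral X] [IsLocallyNoetherian X] {x : X} (hx : IsClosed ({x} : Set X))
    [IsRegularLocalRing (X.presheaf.stalk x)] (hd : ringKrullDim (X.presheaf.stalk x) = 2)
    {M : X.Modules} (hM : PicF.IsInvertible M) (s : ℕ) (hjets : W4c2seshadripos.SeparatesJets M x hx s)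
    {C : X.IdealSheafData} (hC : BlowUp.IsEffCartierIdeal C) (hP : (stalkIdeal C x).IsPrime) :
    ∃ σ : Coh.structureModule X ⟶ M, σ ≠ 0 ∧
      stalkIdeal (PicF2.zeroScheme M σ) x ≤ IsLocalRing.maximalIdeal (X.presheaf.stalk x) ^ s ∧
      ¬ PicF2.zeroScheme M σ ≤ C := by
  classical
  obtain ⟨F, hxF, -⟩ := H95.ZeroSch.exists_frame hM (show x ∈ (⊤ : X.Opens) from trivial)
  have hmap : ∀ n : ℕ, ((W4c2seshadripos.pointIdeal x hx).ideal F.V ^ n).map (X.presheaf.germ F.V.1 x hxF).hom =
      IsLocalRing.maximalIdeal (X.presheaf.stalk x) ^ n := fun n => by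
    rw [_root_.Ideal.map_pow, ← Ideal.Prime.stalkIdeal_eq _ F.V hxF, W4c2seshadripos.pointIdeal,
      SurfFactor85.Main.stalkIdeal_vanishingIdeal_self]
  obtain ⟨a, ha, hna⟩ : ∃ a ∈ (W4c2seshadripos.pointIdeal x hx).ideal F.V ^ s,
      X.presheaf.germ F.V.1 x hxF a ∉ stalkIdeal C x ⊔ IsLocalRing.maximalIdeal (X.presheaf.stalk x) ^ (s + 1) := by
    by_contra hcon
    push Not at hcon
    have h1 : IsLocalRing.maximalIdeal (X.presheaf.stalk x) ^ s ≤
        stalkIdeal C x ⊔ IsLocalRing.maximalIdeal (X.presheaf.stalk x) ^ (s + 1) := by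
      rw [← hmap s, _root_.Ideal.map_le_iff_le_comap]
      exact fun a ha => hcon a ha
    have h2 : IsLocalRing.maximalIdeal (X.presheaf.stalk x) ^ s ≤ stalkIdeal C x :=
      Submodule.le_of_le_smul_of_le_jacobson_bot (IsNoetherian.noetherian _)
        (IsLocalRing.maximalIdeal_le_jacobson _) (by rwa [smul_eq_mul, ← pow_succ'])
    have h3 : stalkIdeal C x = IsLocalRing.maximalIdeal (X.presheaf.stalk x) :=
      le_antisymm (IsLocalRing.le_maximalIdeal hP.ne_top) (by
        rcases Nat.eq_zero_or_pos s with rfl | hs0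
        · rw [pow_zero, _root_.Ideal.one_eq_top] at h2
          exact absurd (top_le_iff.1 h2) hP.ne_top
        · exact hP.le_of_pow_le h2)
    obtain ⟨U, hU, t, -, htI⟩ := hC x
    rw [Ideal.Prime.stalkIdeal_eq _ U hU, htI, _root_.Ideal.map_span, Set.image_singleton] at h3
    exact PointBlow96.maximalIdeal_ne_span_singleton hd _ h3.symm
  obtain ⟨s₀, hs₀⟩ := (Jets27.BaseChange.separatesJets_iff (Ample.GG.isCoh_of_isInvertible hM) hx s F.V hxF).1
    hjets (a • F.e)
  obtain ⟨σ, hσ⟩ := Ample.GenLocus.exists_hom_of_sec s₀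
  set c := H95.ZeroSch.coord F (H95.ZeroSch.sv σ F.V.1) with hc
  have hinj : ∀ r : Γ(X, F.V.1), r • F.e = 0 → r = 0 := fun r hr =>
    (F.he F.V.1 le_rfl).1 (by simpa using hr)
  have hsub : ∀ y ∈ ((W4c2seshadripos.pointIdeal x hx).ideal F.V ^ (s + 1)) • (⊤ : Submodule Γ(X, F.V.1) Γ(M, F.V.1)),
      ∃ r ∈ (W4c2seshadripos.pointIdeal x hx).ideal F.V ^ (s + 1), y = r • F.e := fun y hy => by
    induction hy using Submodule.smul_induction_on' with
    | smul r hr z _ => exact ⟨r * H95.ZeroSch.coord F z, Ideal.mul_mem_right _ _ hr, by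
        rw [mul_smul, H95.ZeroSch.coord_smul]⟩
    | add y _ z _ hy' hz' =>
      obtain ⟨r, hr, rfl⟩ := hy'
      obtain ⟨r', hr', rfl⟩ := hz'
      exact ⟨r + r', add_mem hr hr', (add_smul _ _ _).symm⟩
  obtain ⟨r, hr, hrs⟩ := hsub _ hs₀
  have hval : H95.ZeroSch.sv σ F.V.1 = c • F.e := (H95.ZeroSch.coord_smul F _).symm
  have hcar : c = a + r := by
    have h1 : TensorMod.Dual.rs M (le_top : F.V.1 ≤ ⊤) s₀ = H95.ZeroSch.sv σ F.V.1 := by
      rw [← hσ]; exact Ample.GenLocus.rs_sv σ _
    rw [← sub_eq_zero]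
    refine hinj _ ?_
    rw [sub_smul, add_smul, ← hval, ← h1, ← sub_sub]
    exact sub_eq_zero.2 hrs
  have hσ0 : σ ≠ 0 := fun h0 => hna (by
    have hc0 : c = 0 := hinj _ (by rw [← hval, h0]; rfl)
    rw [hcar, add_eq_zero_iff_eq_neg] at hc0
    rw [hc0, map_neg, neg_mem_iff]
    exact Submodule.mem_sup_right (hmap (s + 1) ▸ _root_.Ideal.mem_map_of_mem _ hr))
  have hD : stalkIdeal (PicF2.zeroScheme M σ) x = _root_.Ideal.span {X.presheaf.germ F.V.1 x hxF c} := by
    rw [Ideal.Prime.stalkIdeal_eq _ F.V hxF, H95.ZeroSch.zeroScheme_ideal_eq hM σ hσ0 F, _root_.Ideal.map_span,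
      Set.image_singleton]
  refine ⟨σ, hσ0, ?_, fun hle => hna ?_⟩
  · rw [hD, _root_.Ideal.span_singleton_le_iff_mem, hcar, map_add]
    exact add_mem (hmap s ▸ _root_.Ideal.mem_map_of_mem _ ha)
      (_root_.Ideal.pow_le_pow_right (Nat.le_succ s) (hmap (s + 1) ▸ _root_.Ideal.mem_map_of_mem _ hr))
  · have h1 : X.presheaf.germ F.V.1 x hxF c ∈ stalkIdeal C x := by
      have h2 : stalkIdeal (PicF2.zeroScheme M σ) x ≤ stalkIdeal C x := by
        rw [Ideal.Prime.stalkIdeal_eq _ F.V hxF, Ideal.Prime.stalkIdeal_eq _ F.V hxF]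
        exact _root_.Ideal.map_mono (hle F.V)
      exact h2 (hD ▸ _root_.Ideal.mem_span_singleton_self _)
    have h3 : X.presheaf.germ F.V.1 x hxF a = X.presheaf.germ F.V.1 x hxF c - X.presheaf.germ F.V.1 x hxF r := by
      rw [hcar, map_add, add_sub_cancel_right]
    rw [h3]
    exact sub_mem (Submodule.mem_sup_left h1)
      (Submodule.mem_sup_right (hmap (s + 1) ▸ _root_.Ideal.mem_map_of_mem _ hr))


/-- Let k be an algebraically closed field of characteristic zero, X a smooth projective surface over k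
(irreducible, proper, smooth of dimension 2, with an ample invertible module), ω a second exterior
power of Ω_{X/k}, A an ample invertible O_X-module, x a closed point with ideal sheaf m_x, f : Y → X
a blow-up of X at x over k with exceptional ideal I_E, and ε > 0 a real number. Suppose there is s₀
such that for all s ≥ s₀ and every natural number r with r · ε > s + 2, the module A^{⊗r} ⊗ ω
separates s-jets at x (H^0(X, A^{⊗r} ⊗ ω) → H^0(X, (A^{⊗r} ⊗ ω) ⊗ O_X/m_x^(s+1)) is surjective).
Then the Seshadri constant of A at x is at least ε: the class f^*A − ε E is nef, deg(f^*A|_{C'}) + ε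
· deg(I_E|_{C'}) ≥ 0 for every integral one-dimensional closed subscheme C' ⊆ Y. -/
theorem result (k : Type u) [Field k] [IsAlgClosed k] [CharZero k]
    (X : Scheme.{u}) [X.Over (Spec (CommRingCat.of k))] [IsProper (X ↘ (Spec (CommRingCat.of k)))]
    [Smooth (X ↘ (Spec (CommRingCat.of k)))] [IrreducibleSpace X] (hdim : topologicalKrullDim X = 2)
    (H : X.Modules) (hH : CohB1.IsAmple H)
    (ω : X.Modules) (hω : ExtPow.IsExtPow 2 (Omega.sheaf (X ↘ (Spec (CommRingCat.of k)))) ω)
    (A : X.Modules) (hA : CohB1.IsAmple A)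
    (x : X) (hx : IsClosed ({x} : Set X))
    (Y : Scheme.{u}) [Y.Over (Spec (CommRingCat.of k))] (f : Y ⟶ X) (hf : f ≫ (X ↘ (Spec (CommRingCat.of k))) = Y ↘ (Spec (CommRingCat.of k)))
    (hbl : BlowUp.IsBlowUp f (W4c2seshadripos.pointIdeal x hx))
    (ε : ℝ) (hε : 0 < ε)
    (hjets : ∃ s₀ : ℕ, ∀ s : ℕ, s₀ ≤ s → ∀ r : ℕ, ((s : ℝ) + 2) < (r : ℝ) * ε →
      W4c2seshadripos.SeparatesJets (CohB1.tensorMod (CohB1.tensorPow A r) ω) x hx s) :
    (∀ (C : Scheme.{u}) (i : C ⟶ Y) [IsClosedImmersion i], IsIntegral C → topologicalKrullDim C = 1 →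
      (0 : ℝ) ≤ (Pic13.curveDeg k (i ≫ (Y ↘ (Spec (CommRingCat.of k))))
          ((Scheme.Modules.pullback i).obj ((Scheme.Modules.pullback f).obj A)) : ℝ) +
        ε * (Pic13.curveDeg k (i ≫ (Y ↘ (Spec (CommRingCat.of k))))
          ((Scheme.Modules.pullback i).obj
            (ClSub.idealMod (BlowUp.exceptional f (W4c2seshadripos.pointIdeal x hx)))) : ℝ)) := by
  classical
  let sX := X ↘ Spec (CommRingCat.of k)
  haveI : AlgebraicGeometry.IsReduced X := Lib.Flat55.CurveNormalizationBC.isReduced_of_smooth sX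
  haveI : IsIntegral X := isIntegral_of_irreducibleSpace_of_isReduced _
  haveI := Lib.Curves.GlobalSections.isNoetherian_of_proper k X
  have hreg : ∀ p : X, IsRegularLocalRing (X.presheaf.stalk p) := NegDef.regular_of_smooth (k := k)
  haveI := hreg x
  have hbl' : BlowUp.IsBlowUp f (Scheme.IdealSheafData.vanishingIdeal ⟨{x}, hx⟩) := hbl
  haveI : IsProper f := PointBlow96.isProper_blowUp hx hbl'
  haveI : IsProper (Y ↘ Spec (CommRingCat.of k)) := PointBlow96.isProper_X k hx hf hbl'
  haveI := Lib.Curves.GlobalSections.isNoetherian_of_proper k Y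
  haveI : IsIntegral Y := PointBlow96.isIntegral_X k hdim hx hf hbl'
  have hdimY : topologicalKrullDim Y = 2 := PointBlow96.dim_X k hdim hx hf hbl'
  have hxd : ringKrullDim (X.presheaf.stalk x) = 2 := PointBlow96.stalk_dim hdim hx sX
  have hgen := PointBlow96.ne_genericPoint (x := x) hxd
  set J := Scheme.IdealSheafData.vanishingIdeal (⟨{x}, hx⟩ : Closeds X) with hJ
  set E := BlowUp.exceptional f J with hE
  set Ω : X.Opens := ⟨{x}ᶜ, hx.isOpen_compl⟩ with hΩ
  haveI : IsIso (f ∣_ Ω) := by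
    have h := Lib.Ideal.BlowUp.isIso_off_center hbl'
    have e : (Scheme.IdealSheafData.vanishingIdeal ⟨{x}, hx⟩).support.compl = Ω :=
      Opens.ext (congrArg compl (Lib.Flat55.ContractionUniversal.support_vanishingIdeal_point x hx))
    rwa [e] at h
  have hregY : ∀ p : Y, IsRegularLocalRing (Y.presheaf.stalk p) := fun p => by
    by_cases hp : f p = x
    · exact SurfFactor85.Iso.isRegularLocalRing_blowUp_stalk f x hx hxd hbl' p hp
    · haveI := SurfFactor85.Iso.isIso_stalkMap_of_restrict f Ω p hp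
      haveI := hreg (f p)
      exact IsRegularLocalRing.of_ringEquiv
        (RingEquiv.ofBijective (f.stalkMap p).hom (ConcreteCategory.bijective_of_isIso _))
  haveI := Lib.SurfRR.Regular.smoothOfRelativeDimension_two (k := k) hdimY hregY
  haveI : Smooth (Y ↘ Spec (CommRingCat.of k)) := SmoothOfRelativeDimension.smooth 2 _
  let g : ((f ⁻¹ᵁ Ω : Y.Opens) : Scheme.{u}) ⟶ X := (f ∣_ Ω) ≫ Ω.ι
  have hg : ∀ z, g z = f z.1 := fun z => congr($(morphismRestrict_ι f Ω) z)
  have hηΩ : f (genericPoint Y) ∈ Ω := by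
    let z := inv (f ∣_ Ω) ⟨genericPoint X, hgen⟩
    have : (genericPoint Y) ∈ f ⁻¹ᵁ Ω :=
      ((genericPoint_spec Y).mem_open_set_iff (f ⁻¹ᵁ Ω).2).2 ⟨z.1, trivial, z.2⟩
    exact this
  obtain ⟨-, K, hK, eE, -⟩ := SurfFactor85.Seq.isExcCurve f x hx hxd hbl'
  haveI : Nonempty E.subscheme := ⟨eE.hom (genericPoint (CohB1.ProjSpace 1 K))⟩
  haveI : IsIntegral E.subscheme := isIntegral_of_isOpenImmersion eE.inv
  have hfm : PicGrp.PullMul f := TensorMod.Pullback.pullMul f
  have hEc : BlowUp.IsEffCartierIdeal E := hbl'.1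
  set q := PicGrp.cls _ (ClSub.Cartier.isInvertible_idealMod hEc) with hq
  set l := PicGrp.cls A hA.1 with hl
  have hdimZ : ∀ Z ∈ irreducibleComponents (X : Type u), topologicalKrullDim Z = 2 := fun Z hZ => by
    rw [irreducibleComponents_eq_singleton, Set.mem_singleton_iff] at hZ
    subst hZ
    rw [(Homeomorph.Set.univ (X : Type u)).isHomeomorph.topologicalKrullDim_eq, hdim]
  have pp : ∀ a b, S19737.I2 k (PicGrp.pullHom f hfm a) (PicGrp.pullHom f hfm b) = S19737.I2 k a b := fun a b => by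
    obtain ⟨A', hA', rfl⟩ := PicGrp.exists_eq_cls a
    obtain ⟨B, hB, rfl⟩ := PicGrp.exists_eq_cls b
    rw [PicGrp.pullHom_cls, PicGrp.pullHom_cls, S19737.I2_cls, S19737.I2_cls]
    exact PointBlow96.General.intNum_pullback_pullback hdimZ hreg hx hf hbl' hA' hB
  have pe : ∀ a, S19737.I2 k (PicGrp.pullHom f hfm a) q = 0 := fun a => by
    obtain ⟨A', hA', rfl⟩ := PicGrp.exists_eq_cls a
    rw [PicGrp.pullHom_cls, hq, S19737.I2_cls]
    exact PointBlow96.General.intNum_pullback_exceptional hdimZ hreg hx hf hbl' hA'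
  have ee : S19737.I2 k q q = -1 := by
    rw [hq, S19737.I2_cls]
    refine (PointBlow96.General.intNum_exceptional_self hdimZ hreg hx hf hbl').trans ?_
    rw [Lib.Curves.NormGenus.finrank_residueField k X hx]
    rfl
  -- degrees on curves as intersection numbers
  have degY : ∀ (Z : Scheme.{u}) (i : Z ⟶ Y) [IsClosedImmersion i], IsIntegral Z → topologicalKrullDim Z = 1 →
      IsIntegral i.ker.subscheme ∧ topologicalKrullDim (i.ker.support : Set Y) = 1 ∧
      ∀ hI : BlowUp.IsEffCartierIdeal i.ker, ∀ M : Y.Modules, ∀ hM : PicF.IsInvertible M,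
      Pic13.curveDeg k (i ≫ (Y ↘ Spec (CommRingCat.of k))) ((Scheme.Modules.pullback i).obj M) =
        - S19737.I2 k (PicGrp.cls _ (ClSub.Cartier.isInvertible_idealMod hI)) (PicGrp.cls M hM) :=
    fun Z i _ hZ hd => S17342.result.deg_ker hdimY i hZ hd
  have degX : ∀ (Z : Scheme.{u}) (i : Z ⟶ X) [IsClosedImmersion i], IsIntegral Z → topologicalKrullDim Z = 1 →
      IsIntegral i.ker.subscheme ∧ topologicalKrullDim (i.ker.support : Set X) = 1 ∧
      ∀ hI : BlowUp.IsEffCartierIdeal i.ker, ∀ M : X.Modules, ∀ hM : PicF.IsInvertible M,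
      Pic13.curveDeg k (i ≫ (X ↘ Spec (CommRingCat.of k))) ((Scheme.Modules.pullback i).obj M) =
        - S19737.I2 k (PicGrp.cls _ (ClSub.Cartier.isInvertible_idealMod hI)) (PicGrp.cls M hM) :=
    fun Z i _ hZ hd => S17342.result.deg_ker hdim i hZ hd
  let φ : PicLoc.PicSet Y → ℝ := fun c =>
    -(S19737.I2 k c (PicGrp.pullHom f hfm l) : ℝ) - ε * (S19737.I2 k c q : ℝ)
  have φmul : ∀ a b, φ (a * b) = φ a + φ b := fun a b => by
    simp only [φ, S19737.I2_mul_left hdimY a b, Int.cast_add]; ring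
  have φE : ∀ n : ℕ, φ (q ^ n) = n * ε := fun n => by
    simp only [φ]
    rw [← zpow_natCast, S19737.I2_zpow_left hdimY, S19737.I2_zpow_left hdimY, S19737.I2_comm q, pe, ee]
    push_cast
    ring
  have φpull : ∀ c, φ (PicGrp.pullHom f hfm c) = -(S19737.I2 k c l : ℝ) := fun c => by
    simp only [φ]
    rw [pp, pe]
    push_cast
    ring
  -- the condition on the blow-up in terms of `φ`
  have hφ : ∀ (Z : Scheme.{u}) (i : Z ⟶ Y) [IsClosedImmersion i], IsIntegral Z → topologicalKrullDim Z = 1 →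
      ∀ hI : BlowUp.IsEffCartierIdeal i.ker,
      ((Pic13.curveDeg k (i ≫ (Y ↘ Spec (CommRingCat.of k)))
          ((Scheme.Modules.pullback i).obj ((Scheme.Modules.pullback f).obj A)) : ℝ) +
        ε * (Pic13.curveDeg k (i ≫ (Y ↘ Spec (CommRingCat.of k)))
          ((Scheme.Modules.pullback i).obj (_root_.ClSub.idealMod E)) : ℝ)) =
      φ (PicGrp.cls _ (ClSub.Cartier.isInvertible_idealMod hI)) := fun Z i _ hZ hd hI => by
    rw [(degY Z i hZ hd).2.2 hI _ (PicLoc.isInvertible_pullback f hA.1),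
      (degY Z i hZ hd).2.2 hI _ (ClSub.Cartier.isInvertible_idealMod hEc)]
    simp only [φ, hl, hq, PicGrp.pullHom_cls]
    push_cast
    ring
  intro C i _ hC hCd
  obtain ⟨hC'i, hC'd, -⟩ := degY C i hC hCd
  haveI := hC'i
  haveI := hC
  have hC'c : BlowUp.IsEffCartierIdeal i.ker :=
    Curve.isEffCartier (Y ↘ Spec (CommRingCat.of k)) hdimY hregY i.ker hC'd
  refine le_of_le_of_eq ?_ (hφ C i hC hCd hC'c).symm
  have hprin : ∀ {G : Y.IdealSheafData}, BlowUp.IsEffCartierIdeal G → ∀ p,
      ∃ c : Y.presheaf.stalk p, c ≠ 0 ∧ stalkIdeal G p = _root_.Ideal.span {c} := fun hG p => by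
    obtain ⟨U, hU, t, ht, htI⟩ := hG p
    haveI := hregY p
    haveI := Regular.Quotient.isDomain (Y.presheaf.stalk p)
    exact ⟨_, nonZeroDivisors.ne_zero (Ideal.EffCartier.germ_mem_nonZeroDivisors U.2 ht p hU),
      by rw [Ideal.Prime.stalkIdeal_eq _ U hU, htI, _root_.Ideal.map_span, Set.image_singleton]⟩
  have hEk : BlowUp.IsEffCartierIdeal E.subschemeι.ker := by
    rw [Scheme.IdealSheafData.ker_subschemeι]; exact hEc
  have hEsupp : ∀ p, p ∈ Set.range E.subschemeι ↔ f p = x := fun p => by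
    rw [Scheme.IdealSheafData.range_subschemeι, hE, Scheme.IdealSheafData.support_comap,
      Closeds.coe_preimage, hJ, Scheme.IdealSheafData.coe_support_vanishingIdeal]
    rfl
  let ζ := i (genericPoint C)
  by_cases hζ : f ζ = x
  · obtain ⟨b, hb⟩ := S7929.eq_pow hregY E.subschemeι hEk i.ker (hprin hC'c) (by
      rw [Scheme.Hom.support_ker, i.isClosedEmbedding.isClosed_range.closure_eq]
      rintro _ ⟨w, rfl⟩
      have hcl : IsClosed (Set.range E.subschemeι) := E.subschemeι.isClosedEmbedding.isClosed_range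
      exact ((genericPoint_specializes w).map i.continuous).mem_closed hcl ((hEsupp ζ).2 hζ))
    rw [Scheme.IdealSheafData.ker_subschemeι] at hb
    rw [VertPic.cls_congr hb _ (ClSub.Cartier.isInvertible_idealMod (Ideal.EffCartier.isEffCartier_pow hEc b)),
      VertPic.cls_pow_ideal hEc, φE]
    positivity
  -- the image curve
  set η := f ζ with hη
  let C₀ := IntMult.ptIdeal η
  have hC₀supp : (C₀.support : Set X) = closure ({η} : Set X) := rfl
  haveI : AlgebraicGeometry.IsReduced C₀.subscheme := H75.RedSub.isReduced_vanishingIdeal _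
  obtain ⟨z₀, hz₀⟩ : η ∈ Set.range C₀.subschemeι := by
    rw [Devissage.Closure.range_ptIdeal η]; exact subset_closure rfl
  have hcl₀ : closure {z₀} = (Set.univ : Set C₀.subscheme) := by
    rw [C₀.subschemeι.isClosedEmbedding.isInducing.closure_eq_preimage_closure_image, Set.image_singleton, hz₀,
      ← Devissage.Closure.range_ptIdeal η, Set.preimage_range]
  haveI : IrreducibleSpace C₀.subscheme :=
    { isPreirreducible_univ := hcl₀ ▸ isIrreducible_singleton.closure.2
      toNonempty := ⟨z₀⟩ }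
  haveI hC₀i : IsIntegral C₀.subscheme := isIntegral_of_irreducibleSpace_of_isReduced _
  have hgen₀ : C₀.subschemeι (genericPoint C₀.subscheme) = η := by
    have h0 : IsGenericPoint z₀ (Set.univ : Set C₀.subscheme) := hcl₀
    rw [(genericPoint_spec C₀.subscheme).eq h0, hz₀]
  let sY := Y ↘ Spec (CommRingCat.of k)
  have hiclosed := i.isClosedEmbedding
  have hζnc : ¬ IsClosed ({ζ} : Set Y) := fun hc => by
    have h1 : VarDim.Basic.pdim sY ζ = 0 := (VarDim.Basic.pdim_eq_zero_iff sY ζ).2 hc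
    have h2 := VarDim.Basic.topologicalKrullDim_isGenericPoint sY (T := Set.range i) (ξ := ζ) (by
      have := (genericPoint_spec C).image i.continuous
      rwa [Set.image_univ, hiclosed.isClosed_range.closure_eq] at this)
    rw [h1, ← (hiclosed.toHomeomorph).isHomeomorph.topologicalKrullDim_eq, hCd] at h2
    exact absurd h2 (by decide)
  have hG : ∀ a b : ((f ⁻¹ᵁ Ω : Y.Opens) : Scheme.{u}), f a.1 ⤳ f b.1 → a.1 ⤳ b.1 := fun a b h' => by
    rw [← hg, ← hg] at h'
    exact ((g.isOpenEmbedding.isInducing.specializes_iff).1 h').map (f ⁻¹ᵁ Ω).ι.continuous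
  have hGinj : ∀ a b : ((f ⁻¹ᵁ Ω : Y.Opens) : Scheme.{u}), f a.1 = f b.1 → a.1 = b.1 := fun a b h' => by
    rw [← hg, ← hg] at h'
    exact congrArg Subtype.val (g.isOpenEmbedding.injective h')
  have hspec : ∀ p, f p ≠ x → η ⤳ f p → ζ ⤳ p := fun p hp hsp => hG ⟨ζ, hζ⟩ ⟨p, hp⟩ hsp
  have hηnc : ¬ IsClosed ({η} : Set X) := fun hc => hζnc (by
    rw [isClosed_iff_clusterPt] at *
    intro p hp
    have hsp : ζ ⤳ p := specializes_iff_mem_closure.2 (mem_closure_iff_clusterPt.2 hp)
    have hfp : f p ∈ ({η} : Set X) := hc _ (mem_closure_iff_clusterPt.1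
      (specializes_iff_mem_closure.1 (hsp.map f.continuous)))
    have hpx : f p ≠ x := by rw [Set.mem_singleton_iff.1 hfp]; exact hζ
    exact hGinj ⟨p, hpx⟩ ⟨ζ, hζ⟩ (Set.mem_singleton_iff.1 hfp))
  have hηgen : η ≠ genericPoint X := fun he => by
    have h1 : ζ = genericPoint Y := by
      have h2 : ζ ⤳ genericPoint Y := hspec _ hηΩ (he ▸ genericPoint_specializes _)
      exact (h2.antisymm (genericPoint_specializes ζ)).eq
    have h3 : Set.range i = Set.univ := Set.eq_univ_of_forall fun p =>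
      ((genericPoint_specializes p : genericPoint Y ⤳ p)).mem_closed hiclosed.isClosed_range
        (h1 ▸ ⟨_, rfl⟩)
    have h4 := (hiclosed.toHomeomorph).isHomeomorph.topologicalKrullDim_eq
    rw [hCd, h3, (Homeomorph.Set.univ (Y : Type u)).isHomeomorph.topologicalKrullDim_eq, hdimY] at h4
    exact absurd h4 (by decide)
  have hC₀d : topologicalKrullDim (C₀.support : Set X) = 1 := by
    rw [hC₀supp, VarDim.Basic.topologicalKrullDim_isGenericPoint sX
      (show IsGenericPoint η (closure ({η} : Set X)) from rfl)]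
    have h0 : VarDim.Basic.pdim sX η ≠ 0 := fun h0 => hηnc ((VarDim.Basic.pdim_eq_zero_iff sX η).1 h0)
    have h2 : VarDim.Basic.pdim sX η < 2 := by
      by_contra hge
      exact hηgen (Curve.eq_genericPoint_of_two_le sX hdim (not_lt.mp hge))
    rw [show VarDim.Basic.pdim sX η = 1 by omega]
    rfl
  have hdim₀ : topologicalKrullDim C₀.subscheme = 1 := (Surface.dim_subscheme C₀).trans hC₀d
  have hC₀c : BlowUp.IsEffCartierIdeal C₀ := Curve.isEffCartier sX hdim hreg C₀ hC₀d
  have hC₀k : BlowUp.IsEffCartierIdeal C₀.subschemeι.ker := by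
    rw [Scheme.IdealSheafData.ker_subschemeι]; exact hC₀c
  obtain ⟨hD, hDcls⟩ := comap_cartier hregY f Ω hηΩ hfm hC₀c
  have hle : C₀.comap f ≤ i.ker := by
    rw [PointExc74.ker_eq i, ← Scheme.IdealSheafData.le_support_iff_le_vanishingIdeal, ← SetLike.coe_subset_coe,
      Scheme.IdealSheafData.support_comap, Closeds.coe_preimage, hC₀supp]
    rintro _ ⟨w, rfl⟩
    exact specializes_iff_mem_closure.1 (((genericPoint_specializes w).map i.continuous).map f.continuous)
  obtain ⟨R, hR⟩ : ∃ R, i.ker * R = C₀.comap f := ⟨_, RelDiv.Diff.mul_colon hC'c hle⟩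
  have hRc : BlowUp.IsEffCartierIdeal R := Ideal.EffCartier.isEffCartier_factor_right (hR.symm ▸ hD)
  obtain ⟨b, hb⟩ := S7929.eq_pow hregY E.subschemeι hEk R (hprin hRc) (fun p hp => by
    by_contra hpE
    rw [hEsupp] at hpE
    refine absurd hp ((StalkIdeal.stalkIdeal_eq_top_iff R p).1 ?_)
    have hsR : stalkIdeal (C₀.comap f) p = stalkIdeal i.ker p * stalkIdeal R p := by
      rw [← StalkIdeal.stalkIdeal_mul, hR]
    haveI := hregY p
    haveI := Regular.Quotient.isDomain (Y.presheaf.stalk p)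
    haveI := SurfFactor85.Iso.isIso_stalkMap_of_restrict f Ω p hpE
    let φp := RingEquiv.ofBijective (f.stalkMap p).hom (ConcreteCategory.bijective_of_isIso _)
    have hDp : stalkIdeal (C₀.comap f) p = (stalkIdeal C₀ (f p)).map (φp : _ →+* _) :=
      CartierDescent.stalkIdeal_comap f C₀ p
    have hpD : p ∈ (C₀.comap f).support := by
      by_contra hpD
      rw [← StalkIdeal.stalkIdeal_eq_top_iff, hsR] at hpD
      exact (StalkIdeal.stalkIdeal_eq_top_iff R p).1 (top_le_iff.1 (hpD.ge.trans _root_.Ideal.mul_le_right)) hp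
    have hηp : η ⤳ f p := by
      rw [← SetLike.mem_coe, Scheme.IdealSheafData.support_comap, Closeds.coe_preimage, hC₀supp] at hpD
      exact specializes_iff_mem_closure.2 hpD
    obtain ⟨hP, -⟩ := StalkIdeal.stalkIdeal_ker C₀.subschemeι (f p) (by rw [hgen₀]; exact hηp)
    rw [Scheme.IdealSheafData.ker_subschemeι] at hP
    haveI := hP
    have hDprime : (stalkIdeal (C₀.comap f) p).IsPrime := hDp ▸ _root_.Ideal.map_isPrime_of_equiv φp
    obtain ⟨d, hd0, hd⟩ := hprin hD p
    obtain ⟨c, -, hc⟩ := hprin hC'c p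
    obtain ⟨r, -, hr⟩ := hprin hRc p
    have hcu : ¬ IsUnit c := by
      intro hu
      have h1 : p ∈ i.ker.support := by
        rw [← SetLike.mem_coe, Scheme.Hom.support_ker, hiclosed.isClosed_range.closure_eq]
        exact (hspec p hpE hηp).mem_closed hiclosed.isClosed_range ⟨_, rfl⟩
      exact (StalkIdeal.stalkIdeal_eq_top_iff i.ker p).1
        (by rw [hc]; exact _root_.Ideal.span_singleton_eq_top.2 hu) h1
    have hprime : Prime d := (_root_.Ideal.span_singleton_prime hd0).1 (hd ▸ hDprime)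
    rw [hd, hc, hr, _root_.Ideal.span_singleton_mul_span_singleton,
      _root_.Ideal.span_singleton_eq_span_singleton] at hsR
    rw [hr, _root_.Ideal.span_singleton_eq_top]
    exact ((hsR.irreducible hprime.irreducible).isUnit_or_isUnit rfl).resolve_left hcu)
  rw [Scheme.IdealSheafData.ker_subschemeι] at hb
  subst hb
  have h1 : φ (PicGrp.cls _ (ClSub.Cartier.isInvertible_idealMod hD)) =
      φ (PicGrp.cls _ (ClSub.Cartier.isInvertible_idealMod hC'c)) + b * ε := by
    rw [VertPic.cls_congr hR.symm _ (ClSub.Cartier.isInvertible_idealMod (hR.symm ▸ hD)),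
      cls_mul hC'c hRc (hR.symm ▸ hD), VertPic.cls_pow_ideal hEc, φmul, φE]
  rw [hDcls, φpull] at h1
  have hdeg₀ : (Pic13.curveDeg k (C₀.subschemeι ≫ (X ↘ Spec (CommRingCat.of k)))
      ((Scheme.Modules.pullback C₀.subschemeι).obj A) : ℝ) =
      - (S19737.I2 k (PicGrp.cls _ (ClSub.Cartier.isInvertible_idealMod hC₀c)) l : ℝ) := by
    rw [(degX _ C₀.subschemeι hC₀i hdim₀).2.2 hC₀k A hA.1,
      VertPic.cls_congr (Scheme.IdealSheafData.ker_subschemeι C₀) _ (ClSub.Cartier.isInvertible_idealMod hC₀c)]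
    push_cast
    rfl
  have hAneg := Surface.intNum_ample_neg (Snapper.Finite.cohFinite k X) hdim hreg C₀ hC₀d hA
  rw [Snapper.IntNum.intNum_pair_comm, ← S19737.I2_cls hA.1 (ClSub.Cartier.isInvertible_idealMod hC₀c), ← hl,
    S19737.I2_comm] at hAneg
  have hAneg' : (S19737.I2 k (PicGrp.cls _ (ClSub.Cartier.isInvertible_idealMod hC₀c)) l : ℝ) < 0 := by
    exact_mod_cast hAneg
  by_cases hxC : x ∈ Set.range C₀.subschemeι
  · obtain ⟨s₀, hs₀⟩ := hjets
    haveI : SmoothOfRelativeDimension 2 sX := Lib.SurfRR.Regular.smoothOfRelativeDimension_two (k := k) hdim hreg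
    have hω' : PicF.IsInvertible ω := Lib.SurfRR.Regular.isInvertible_canonical hω
    set c := PicGrp.cls _ (ClSub.Cartier.isInvertible_idealMod hC₀c) with hc
    set c' := PicGrp.cls _ (ClSub.Cartier.isInvertible_idealMod hC'c) with hc'
    set w := PicGrp.cls ω hω' with hw
    have hcq : S19737.I2 k q c' = b := by
      have h1 : PicGrp.pullHom f hfm c = c' * q ^ b := by
        rw [← hDcls, VertPic.cls_congr hR.symm _ (ClSub.Cartier.isInvertible_idealMod (hR.symm ▸ hD)),
          cls_mul hC'c hRc (hR.symm ▸ hD), VertPic.cls_pow_ideal hEc]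
      have h2 := pe c
      rw [h1, S19737.I2_mul_left hdimY, ← zpow_natCast, S19737.I2_zpow_left hdimY, ee, S19737.I2_comm] at h2
      omega
    have key : ∀ s : ℕ, s₀ ≤ s → ∀ r : ℕ, ((s : ℝ) + 2) < (r : ℝ) * ε →
        (s : ℤ) * b ≤ -((r : ℤ) * S19737.I2 k c l) - S19737.I2 k c w := by
      intro s hs r hr
      have hAr := TensorMod.Invertible.isInvertible_tensorPow hA.1 r
      have hM := TensorMod.Invertible.isInvertible_tensorMod hAr hω'
      have hηx : C₀.subschemeι (genericPoint C₀.subscheme) ⤳ x := by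
        obtain ⟨z, hz⟩ := hxC
        exact hz ▸ (genericPoint_specializes z).map C₀.subschemeι.continuous
      have hPx : (stalkIdeal C₀ x).IsPrime := by
        have := (StalkIdeal.stalkIdeal_ker C₀.subschemeι x hηx).1
        rwa [Scheme.IdealSheafData.ker_subschemeι] at this
      obtain ⟨σ, hσ0, hσx, hσC⟩ := exists_section hx hxd hM s (hs₀ s hs r hr) hC₀c hPx
      set D₀ := PicF2.zeroScheme _ σ
      obtain ⟨hD₀, hDinv, -, -⟩ := Div.divisor_spec hM σ hσ0
      have hd₀ : PicGrp.cls _ (ClSub.Cartier.isInvertible_idealMod hD₀) = (l ^ r * w)⁻¹ := by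
        refine eq_inv_of_mul_eq_one_right ?_
        have h1 := (PicGrp.cls_mul_cls_eq_one_iff hM (ClSub.Cartier.isInvertible_idealMod hD₀)).2 hDinv
        rw [show PicGrp.cls _ hM = l ^ r * w from by
          rw [hl, hw, VertPic.cls_tensor hAr hω', VertPic.cls_pow hA.1]] at h1
        exact h1
      have hηD : η ∉ D₀.support := fun hη' => hσC (by
        have h1 : (closure ({η} : Set X)) ⊆ D₀.support :=
          D₀.support.isClosed.closure_subset_iff.2 (Set.singleton_subset_iff.2 hη')
        show D₀ ≤ Scheme.IdealSheafData.vanishingIdeal ⟨closure {η}, isClosed_closure⟩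
        rw [← Scheme.IdealSheafData.le_support_iff_le_vanishingIdeal]
        exact h1)
      obtain ⟨hDf, hDfcls⟩ := comap_cartier hregY f Ω hηΩ hfm hD₀
      have hDn : D₀ ≤ J ^ s := Pencil.le_of_stalkIdeal_le fun p => by
        rw [StalkIdeal.stalkIdeal_pow]
        by_cases hp : p = x
        · subst hp
          rw [SurfFactor85.Main.stalkIdeal_vanishingIdeal_self]
          exact hσx
        · have : stalkIdeal J p = ⊤ := by
            rw [StalkIdeal.stalkIdeal_eq_top_iff]
            intro h'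
            rw [← SetLike.mem_coe, Scheme.IdealSheafData.coe_support_vanishingIdeal] at h'
            exact hp h'
          rw [this, _root_.Ideal.top_pow]
          exact le_top
      have hle' : D₀.comap f ≤ E ^ s := (comap_le f hDn).trans (Ideal.Comap.comap_pow f J s).le
      have hEs := Ideal.EffCartier.isEffCartier_pow hEc s
      obtain ⟨R', hR'⟩ : ∃ R', E ^ s * R' = D₀.comap f := ⟨_, RelDiv.Diff.mul_colon hEs hle'⟩
      have hR'c : BlowUp.IsEffCartierIdeal R' := Ideal.EffCartier.isEffCartier_factor_right (hR'.symm ▸ hDf)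
      have hR'le : D₀.comap f ≤ R' := hR' ▸ fun U => by
        rw [Scheme.IdealSheafData.ideal_mul, Pi.mul_apply]
        exact _root_.Ideal.mul_le_right
      have hnn := Surface.intNum_nonneg (Snapper.Finite.cohFinite k Y) hdimY hregY i.ker hC'd hR'c (fun hsub => by
        have h1 : ζ ∈ (R'.support : Set Y) := hsub (by
          rw [Scheme.Hom.support_ker, hiclosed.isClosed_range.closure_eq]; exact ⟨_, rfl⟩)
        have h2 : ζ ∈ ((D₀.comap f).support : Set Y) := Scheme.IdealSheafData.support_antitone hR'le h1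
        rw [Scheme.IdealSheafData.support_comap, Closeds.coe_preimage] at h2
        exact hηD h2)
      rw [← S19737.I2_cls (ClSub.Cartier.isInvertible_idealMod hC'c) (ClSub.Cartier.isInvertible_idealMod hR'c),
        ← hc', S19737.I2_comm] at hnn
      have h1 : PicGrp.pullHom f hfm ((l ^ r * w)⁻¹) =
          q ^ s * PicGrp.cls _ (ClSub.Cartier.isInvertible_idealMod hR'c) := by
        rw [← hd₀, ← hDfcls, VertPic.cls_congr hR'.symm _ (ClSub.Cartier.isInvertible_idealMod (hR'.symm ▸ hDf)),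
          cls_mul hEs hR'c (hR'.symm ▸ hDf), VertPic.cls_pow_ideal hEc]
      have h2 : S19737.I2 k (PicGrp.pullHom f hfm ((l ^ r * w)⁻¹)) c' =
          S19737.I2 k ((l ^ r * w)⁻¹) c := by
        have hcc : c' = PicGrp.pullHom f hfm c * (q ^ b)⁻¹ := by
          rw [← hDcls, VertPic.cls_congr hR.symm _ (ClSub.Cartier.isInvertible_idealMod (hR.symm ▸ hD)),
            cls_mul hC'c hRc (hR.symm ▸ hD), VertPic.cls_pow_ideal hEc, mul_inv_cancel_right]
        rw [hcc, S19737.I2_comm, S19737.I2_mul_left hdimY, pp, ← zpow_natCast q, ← zpow_neg,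
          S19737.I2_zpow_left hdimY, S19737.I2_comm q, pe, mul_zero, add_zero, S19737.I2_comm]
      rw [h1, S19737.I2_mul_left hdimY, ← zpow_natCast q, S19737.I2_zpow_left hdimY, hcq,
        ← zpow_neg_one, S19737.I2_zpow_left hdim, S19737.I2_mul_left hdim, ← zpow_natCast l,
        S19737.I2_zpow_left hdim, S19737.I2_comm l c, S19737.I2_comm w c] at h2
      linarith
    set al : ℝ := -((S19737.I2 k c l : ℤ) : ℝ) with hal
    set aw : ℝ := -((S19737.I2 k c w : ℤ) : ℝ) with haw
    have hbound : (b : ℝ) * ε ≤ al := by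
      by_contra hlt
      obtain ⟨s₁, hs₁⟩ := exists_nat_gt (((2 + ε) * al + ε * aw) / ((b : ℝ) * ε - al))
      let s := max s₀ s₁
      let r := ⌊((s : ℝ) + 2) / ε⌋₊ + 1
      have hr1 : ((s : ℝ) + 2) / ε < r := by
        simp only [r, Nat.cast_add, Nat.cast_one]; exact Nat.lt_floor_add_one _
      have hr2 : (r : ℝ) ≤ ((s : ℝ) + 2) / ε + 1 := by
        simp only [r, Nat.cast_add, Nat.cast_one]
        linarith [Nat.floor_le (show (0 : ℝ) ≤ ((s : ℝ) + 2) / ε by positivity)]
      have hk : ((s : ℤ) : ℝ) * (b : ℤ) ≤ ((-((r : ℤ) * S19737.I2 k c l) - S19737.I2 k c w : ℤ) : ℝ) := by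
        exact_mod_cast key s (le_max_left _ _) r ((div_lt_iff₀ hε).1 hr1)
      push_cast at hk
      have hk2 : (s : ℝ) * b ≤ (((s : ℝ) + 2) / ε + 1) * al + aw := by
        have : (r : ℝ) * al ≤ (((s : ℝ) + 2) / ε + 1) * al := mul_le_mul_of_nonneg_right hr2 (by linarith)
        simp only [hal, haw] at this ⊢
        linarith
      have hk3 : (s : ℝ) * b * ε ≤ ((s : ℝ) + 2 + ε) * al + ε * aw := by
        have h' := mul_le_mul_of_nonneg_right hk2 hε.le
        field_simp at h'
        linarith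
      have hs' : (s₁ : ℝ) ≤ s := by exact_mod_cast le_max_right s₀ s₁
      rw [div_lt_iff₀ (by linarith)] at hs₁
      nlinarith [mul_le_mul_of_nonneg_right hs' (show (0 : ℝ) ≤ (b : ℝ) * ε - al by linarith)]
    linarith
  · have hb0 : b = 0 := by
      by_contra hb0
      refine hxC ?_
      let w := eE.hom (genericPoint (CohB1.ProjSpace 1 K))
      have hw : E.subschemeι w ∈ (C₀.comap f).support := by
        by_contra hn
        rw [← StalkIdeal.stalkIdeal_eq_top_iff, ← hR, StalkIdeal.stalkIdeal_mul, StalkIdeal.stalkIdeal_pow] at hn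
        have h5 : stalkIdeal E (E.subschemeι w) = ⊤ := top_le_iff.1
          (hn.ge.trans (_root_.Ideal.mul_le_right.trans (_root_.Ideal.pow_le_self hb0)))
        refine (StalkIdeal.stalkIdeal_eq_top_iff E _).1 h5 ?_
        rw [← SetLike.mem_coe, ← Scheme.IdealSheafData.range_subschemeι]
        exact ⟨w, rfl⟩
      rw [← SetLike.mem_coe, Scheme.IdealSheafData.support_comap, Closeds.coe_preimage, hC₀supp] at hw
      rw [Devissage.Closure.range_ptIdeal η, ← (hEsupp _).1 ⟨w, rfl⟩]
      exact hw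
    subst hb0
    simp only [Nat.cast_zero, zero_mul, add_zero] at h1
    linarith


end Groth.Agent.S17348
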