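import Groth.Statements.S17351
import Groth.Agent.H18.ExtIdeal
import Groth.Agent.H68.EquidimStalk
import Groth.Agent.Lib.Cyc.SmoothReg
import Groth.Agent.Lib.Cyc.TorPD

set_option autoImplicit false
universe u
open CategoryTheory CategoryTheory.Limits AlgebraicGeometry
open AdjLin

namespace Groth.Agent.S17351

/-- Let k be an algebraically closed field of characteristic zero and X a smooth projective surface over
k (irreducible, proper, smooth of dimension 2, with an ample invertible module); let M be an
invertible O_X-module, Z ⊆ X a closed subscheme whose underlying set is finite, with quasi-coherent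
ideal I_Z regarded as an O_X-module, and let 0 → M → F → I_Z → 0 be a short exact sequence of
O_X-modules (an extension of L ⊗ I_Z by O_X in the source, here tensored with M = L⁻¹). Then F is
not finite locally free if and only if there exist an ideal sheaf I' strictly containing I_Z (a
proper closed subscheme Z' of Z, the empty one allowed), a short exact sequence 0 → M → F' → I' → 0
and a morphism g : F → F' which is compatible with the two maps from M and, on the quotients, with
the inclusion I_Z → I' (the unique map commuting with the inclusions into O_X); in other words the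
extension class of F is the pull-back of an extension of I' by M. -/
theorem result (k : Type u) [Field k] [IsAlgClosed k] [CharZero k]
    (X : Scheme.{u}) [X.Over (Spec (CommRingCat.of k))] [IsProper (X ↘ (Spec (CommRingCat.of k)))]
    [Smooth (X ↘ (Spec (CommRingCat.of k)))] [IrreducibleSpace X] (hdim : topologicalKrullDim X = 2)
    (H : X.Modules) (hH : CohB1.IsAmple H)
    (M : X.Modules) (hM : PicF.IsInvertible M)
    (IZ : X.IdealSheafData) (hZ : (IZ.support : Set X).Finite)
    (F : X.Modules) (a : M ⟶ F) (b : F ⟶ ClSub.idealMod IZ) (w : a ≫ b = 0)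
    (hex : (ShortComplex.mk a b w).ShortExact) :
    ¬ FlatMod.IsFinLocFree F ↔
      ∃ (I' : X.IdealSheafData) (F' : X.Modules) (a' : M ⟶ F') (b' : F' ⟶ ClSub.idealMod I') (w' : a' ≫ b' = 0)
        (φ : ClSub.idealMod IZ ⟶ ClSub.idealMod I') (g : F ⟶ F'),
        IZ < I' ∧ (ShortComplex.mk a' b' w').ShortExact ∧ φ ≫ ClSub.idealModι I' = ClSub.idealModι IZ ∧
          a ≫ g = a' ∧ g ≫ b' = b ≫ φ := by
  have hreg : ∀ x : X, IsRegularLocalRing (X.presheaf.stalk x) :=
    fun x => Groth.Agent.Lib.Cyc.SmoothReg.isRegularLocalRing_stalk (X ↘ (Spec (CommRingCat.of k))) x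
  haveI : LocallyOfFiniteType (X ↘ (Spec (CommRingCat.of k))) := inferInstance
  haveI : IsLocallyNoetherian X := LocallyOfFiniteType.isLocallyNoetherian (X ↘ (Spec (CommRingCat.of k)))
  haveI : ∀ x : X, _root_.IsReduced (X.presheaf.stalk x) := fun x => by
    haveI := hreg x
    haveI := Groth.Agent.Lib.Regular.Quotient.isDomain (X.presheaf.stalk x)
    infer_instance
  haveI : IsReduced X := isReduced_of_isReduced_stalk X
  haveI : IsIntegral X := isIntegral_of_irreducibleSpace_of_isReduced X
  have hd : ∀ x : X, ringKrullDim (X.presheaf.stalk x) ≤ 2 := fun x =>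
    (Groth.Agent.Lib.Cyc.TorPD.ringKrullDim_stalk_le x).trans hdim.le
  have hirr : irreducibleComponents (X : Type u) = {Set.univ} := by
    rw [irreducibleComponents_eq_singleton]
  refine Groth.Agent.H18.ExtIdeal.main hreg hd M hM IZ (fun y hy hmem => ?_) F a b w hex
  haveI : JacobsonSpace X := LocallyOfFiniteType.jacobsonSpace (X ↘ (Spec (CommRingCat.of k)))
  have hsub : closure ({y} : Set X) ⊆ (IZ.support : Set X) :=
    IZ.support.isClosed.closure_subset_iff.2 (Set.singleton_subset_iff.2 hmem)
  have hcl : IsClosed ({y} : Set X) := by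
    have h1 := JacobsonSpace.closure_inter_closedPoints (X := X) (Z := closure ({y} : Set X)) isClosed_closure
    have h2 : IsClosed (closure ({y} : Set X) ∩ closedPoints X) := by
      rw [← Set.biUnion_of_singleton (closure ({y} : Set X) ∩ closedPoints X)]
      exact ((hZ.subset hsub).subset Set.inter_subset_left).isClosed_biUnion fun z hz => hz.2
    rw [h2.closure_eq] at h1
    exact (h1.symm.subset (subset_closure rfl)).2
  obtain ⟨a', t, ha, ht, hat⟩ := Groth.Agent.H68.EquidimStalk.exists_nat_eq (X ↘ (Spec (CommRingCat.of k))) y 2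
    (fun Z hZ' => by
      rw [hirr] at hZ'
      rw [Set.mem_singleton_iff.1 hZ']
      exact ((Homeomorph.Set.univ (X : Type u)).isHomeomorph.topologicalKrullDim_eq).trans hdim)
  have h0 := Groth.Agent.Lib.Cyc.FieldDim.fdelta_of_isClosed (X ↘ (Spec (CommRingCat.of k))) y hcl
  have h1 := Groth.Agent.Lib.Cyc.FieldDim.trdegAt_eq_fdelta (X ↘ (Spec (CommRingCat.of k))) y
  rw [ht, h0] at h1
  have ht0 : t = 0 := by exact_mod_cast h1
  rw [ha] at hy
  have : a' ≤ 1 := by exact_mod_cast hy
  omega

end Groth.Agent.S17351
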