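import Groth.Statements.S17355
import Groth.Agent.Lib.AzInvInner
import Groth.Agent.Lib.AzInvBC

set_option autoImplicit false
universe u v w
open scoped TensorProduct
open AzInv

namespace Groth.Agent.S17355

/-- Let `R` be a commutative ring with an involution `lam` whose fixed ring is exactly `S`, assume that
units have square roots locally for the etale topology of `S` (every unit of an etale `S`-algebra
becomes a square in some etale faithfully flat extension), and let `A` be an Azumaya `R`-algebra of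
degree `n ≥ 1` with a `lam`-involution `t`. Then every `R`-algebra automorphism `ψ` of `A` that
commutes with `t` is, locally for the etale topology of `S`, conjugation by a unitary element: there
are an etale faithfully flat `S`-algebra `S'` and a unit `u` of `S' ⊗_S A` with `(id ⊗ t)(u) * u =
1` such that `id ⊗ ψ` is `x ↦ u x u⁻¹` (the map from the unitary group to the automorphism sheaf of
`(A, t)` is an epimorphism). This row states the surjectivity part only; the published statement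
also identifies the kernel of the map from the unitary group as the group of norm-one elements of
`R` (the units `r` of `R` with `lam r * r = 1`), so that the projective unitary group of `(A, t)` is
its automorphism sheaf. (The source states this for an exact quotient of a locally ringed topos with
involution; the row is the affine case `Spec R → Spec S`, with etale coverings of `Spec S` replaced
by a single etale faithfully flat `S`-algebra.) -/
theorem result (S : Type u) (R : Type v) [CommRing S] [CommRing R] [Algebra S R]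
    (lam : R ≃ₐ[S] R) (hlam : ∀ r, lam (lam r) = r) (hfix : RInv.IsFixedRing S R lam.toRingEquiv)
    (hsq : ∀ (S₁ : Type u) [CommRing S₁] [Algebra S S₁] [Algebra.Etale S S₁] (x : S₁ˣ),
      ∃ (S₂ : Type u) (_ : CommRing S₂) (_ : Algebra S₁ S₂) (_ : Algebra.Etale S₁ S₂)
        (_ : Module.FaithfullyFlat S₁ S₂) (y : S₂), y * y = algebraMap S₁ S₂ ↑x)
    (A : Type w) [Ring A] [Algebra S A] [Algebra R A] [IsScalarTower S R A]
    (n : ℕ) (hn : 0 < n) (hA : AzInv.IsAzumayaDeg R A n) (t : AzInv.LamInv R A lam)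
    (ψ : A ≃ₐ[R] A) (hψ : AzInv.IsInvHom t t ψ) :
    ∃ (S' : Type u) (_ : CommRing S') (_ : Algebra S S') (_ : Algebra.Etale S S')
      (_ : Module.FaithfullyFlat S S') (u : (S' ⊗[S] A)ˣ),
      t.bc S lam S' (↑u : S' ⊗[S] A) * ↑u = 1 ∧
        ∀ x : S' ⊗[S] A,
          Algebra.TensorProduct.congr (AlgEquiv.refl : S' ≃ₐ[S'] S') (ψ.restrictScalars S) x =
            ↑u * x * ↑u⁻¹ := by
  have := hA.1
  obtain ⟨S₁, _, _, _, _, u, hu⟩ := Groth.Agent.Lib.AzInvInner.exists_cover_inner lam hlam hfix ψ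
  let Ψ := Algebra.TensorProduct.congr (AlgEquiv.refl : S₁ ≃ₐ[S₁] S₁) (ψ.restrictScalars S)
  let T := t.bc S lam S₁
  have hΨT : ∀ x, T (Ψ x) = Ψ (T x) := fun x => by
    induction x using TensorProduct.induction_on with
    | zero => simp
    | add x y hx hy => simp only [map_add, hx, hy]
    | tmul s a =>
      simp only [T, Ψ, Algebra.TensorProduct.congr_apply, Algebra.TensorProduct.map_tmul, AzInv.LamInv.bc_tmul]
      exact congr_arg (s ⊗ₜ[S] ·) (hψ a).symm
  let z : S₁ ⊗[S] A := T ↑u * ↑u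
  have hTu : T ↑u⁻¹ * T ↑u = 1 ∧ T ↑u * T ↑u⁻¹ = 1 := by
    constructor <;> rw [← Groth.Agent.Lib.AzInvBC.bc_mul] <;> simp [Groth.Agent.Lib.AzInvBC.bc_one]
  have hzc : ∀ x, x * z = z * x := fun x => by
    have h1 := hΨT (T x)
    simp only [T, Groth.Agent.Lib.AzInvBC.bc_invol, Ψ, hu, Groth.Agent.Lib.AzInvBC.bc_mul] at h1
    -- h1 : t(u⁻¹) * x * t u = u * x * u⁻¹
    have h2 := congr_arg (fun w => T ↑u * w * (↑u : S₁ ⊗[S] A)) h1
    simp only [mul_assoc, Units.inv_mul, mul_one] at h2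
    rw [← mul_assoc (T ↑u) (T ↑u⁻¹), hTu.2, one_mul, ← mul_assoc (T ↑u)] at h2
    exact h2
  obtain ⟨r, hr⟩ := Groth.Agent.Lib.AzInvBC.exists_of_commute (R := R) S₁ z (fun a => hzc _)
  let L := Algebra.TensorProduct.congr (AlgEquiv.refl : S₁ ≃ₐ[S] S₁) lam
  have hfix₁ := Groth.Agent.Lib.RInvQuad.isFixedRing_baseChange lam S₁ hfix hlam (Or.inl inferInstance)
  have hLr : L r = r := Groth.Agent.Lib.AzInvBC.incl_injective R A S₁ (by
    rw [← Groth.Agent.Lib.AzInvBC.bc_incl lam S₁ t r, hr]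
    simp only [z, T, Groth.Agent.Lib.AzInvBC.bc_mul, Groth.Agent.Lib.AzInvBC.bc_invol])
  obtain ⟨s, rfl⟩ := (hfix₁.2 r).1 hLr
  have hzu : IsUnit z := (Units.isUnit ⟨T ↑u, T ↑u⁻¹, hTu.2, hTu.1⟩).mul u.isUnit
  have hsu : IsUnit s := Groth.Agent.Lib.RInvQuad.isUnit_of_isUnit_algebraMap hfix₁
    (Groth.Agent.Lib.AzInvBC.isUnit_of_isUnit_incl (R := R) (A := A) S₁ (hr.symm ▸ hzu))
  obtain ⟨S₂, _, _, _, _, y, hy⟩ := hsq S₁ hsu.unit
  let _ : Algebra S S₂ := ((algebraMap S₁ S₂).comp (algebraMap S S₁)).toAlgebra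
  have : IsScalarTower S S₁ S₂ := IsScalarTower.of_algebraMap_eq fun _ => rfl
  have : Algebra.Etale S S₂ := Algebra.Etale.comp S S₁ S₂
  have : Module.FaithfullyFlat S S₂ := Module.FaithfullyFlat.trans S S₁ S₂
  have hyu : IsUnit y := isUnit_of_mul_isUnit_left (hy ▸ hsu.unit.isUnit.map (algebraMap S₁ S₂))
  let θ : S₁ ⊗[S] A →ₐ[S] S₂ ⊗[S] A :=
    Algebra.TensorProduct.map (IsScalarTower.toAlgHom S S₁ S₂) (AlgHom.id S A)
  have hθT : ∀ x, t.bc S lam S₂ (θ x) = θ (T x) := fun x => by
    induction x using TensorProduct.induction_on with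
    | zero => simp
    | add x y hx hy => simp only [map_add, hx, hy]
    | tmul s a => simp [θ, T]
  let c : (S₂ ⊗[S] A)ˣ := Units.map (algebraMap S₂ (S₂ ⊗[S] A)).toMonoidHom hyu.unit⁻¹
  let u' : (S₂ ⊗[S] A)ˣ := c * Units.map θ.toRingHom.toMonoidHom u
  refine ⟨S₂, inferInstance, inferInstance, inferInstance, inferInstance, u', ?_, fun x => ?_⟩
  · change t.bc S lam S₂ (algebraMap S₂ _ _ * θ ↑u) * (algebraMap S₂ _ _ * θ ↑u) = 1
    rw [← Algebra.smul_def, map_smul, hθT, smul_mul_assoc, mul_smul_comm, smul_smul, ← map_mul, ← show _ = T ↑u * ↑u from hr]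
    have hs : θ (Groth.Agent.Lib.AzInvBC.incl R A S₁ (algebraMap S₁ _ s)) = algebraMap S₂ _ (y * y) := by
      rw [hy]
      simp [θ, Algebra.TensorProduct.algebraMap_apply]
    rw [hs, Algebra.smul_def, ← map_mul]
    rw [show ((hyu.unit⁻¹ : S₂ˣ) : S₂) * ((hyu.unit⁻¹ : S₂ˣ) : S₂) * (y * y) = 1 by
      rw [mul_mul_mul_comm, IsUnit.val_inv_mul, one_mul], map_one]
  · have hc : ∀ w : S₂ ⊗[S] A, (c : S₂ ⊗[S] A) * w = w * c := fun w => Algebra.commutes _ _
    rw [Units.eq_mul_inv_iff_mul_eq]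
    change _ * ((c : S₂ ⊗[S] A) * θ ↑u) = (c : S₂ ⊗[S] A) * θ ↑u * x
    rw [← mul_assoc, ← hc, mul_assoc, mul_assoc]
    congr 1
    induction x using TensorProduct.induction_on with
    | zero => simp
    | add x y hx hy => rw [map_add, add_mul, hx, hy, mul_add]
    | tmul s₂ a =>
      have e := congr_arg θ ((Units.eq_mul_inv_iff_mul_eq u).1 (hu ((1 : S₁) ⊗ₜ[S] a)))
      simp only [map_mul] at e
      rw [show θ ((1 : S₁) ⊗ₜ[S] a) = (1 : S₂) ⊗ₜ[S] a by simp [θ]] at e
      have hsplit : ∀ b : A, s₂ ⊗ₜ[S] b = algebraMap S₂ (S₂ ⊗[S] A) s₂ * (1 : S₂) ⊗ₜ[S] b := fun b => by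
        simp [Algebra.TensorProduct.algebraMap_apply]
      rw [hsplit a, map_mul, AlgEquiv.commutes, mul_assoc, ← mul_assoc (θ ↑u), ← Algebra.commutes, mul_assoc, ← e]
      congr 2
      simp [θ]

end Groth.Agent.S17355
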