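import Groth.Statements.S17363
import Groth.Agent.Lib.RInvSqrtCover

set_option autoImplicit false
universe u v
open scoped TensorProduct
open RInv

set_option maxHeartbeats 800000

namespace Groth.Agent.S17363

/-- Let `A` be a commutative ring with an involution `lam` whose fixed ring `B` is local; assume that
`lam` is the identity modulo the Jacobson radical of `A`, that `2` is a unit of `A`, and that `h` is
an invertible `2 × 2` matrix over `A` with `h = -(lam h)ᵀ` whose entries are congruent modulo the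
Jacobson radical to those of the matrix with rows `(0, 1)`, `(-1, 0)`. Then there are units `s, t`
of `B`, finitely many elements `f_i` of `B' = B[X, Y]/(X² - s, Y² - t)` (`B` with square roots of
`s` and `t` adjoined) that generate the unit ideal, and for every `i` an invertible `2 × 2` matrix
`v` over `B'_{f_i} ⊗_B A` (that is, `A` with the two square roots adjoined, localised at `f_i`;
`lam` extends so as to fix the square roots) such that `(lam v)ᵀ h v` is the matrix with rows `(0,
1)`, `(-1, 0)`. (The published statement writes the congruence with the plain transpose `vᵀ h v`,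
which fails in general: for a field `k` of characteristic not `2`, the ring `A` of formal power
series in `y` over `k`, with `B` its subring of series in `y²`, `lam y = -y` and `h` with rows `(y,
1)`, `(-1, y)`, satisfies every hypothesis, while `vᵀ h v` equal to the matrix with rows `(0, 1)`,
`(-1, 0)` would, added to its transpose, give `2y · vᵀ v = 0` and hence `det v = 0` over a nonzero
ring in which `y` is not a zero divisor. The proof computes the Gram matrix of the hermitian form
`(a, b) ↦ (lam a)ᵀ h b` in a new basis, which is `(lam v)ᵀ h v`, and that is what is stated here.) -/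
theorem result (B : Type u) (A : Type v) [CommRing B] [CommRing A]
    [Algebra B A] (lam : A ≃ₐ[B] A) (hlam : ∀ a, lam (lam a) = a) (hB : RInv.IsFixedRing B A lam.toRingEquiv)
    [IsLocalRing B] (hid : ∀ a : A, lam a - a ∈ Ring.jacobson A) (h2 : IsUnit (2 : A))
    (h : Matrix (Fin 2) (Fin 2) A) (hh : IsUnit h) (herm : -(h.map lam).transpose = h)
    (hJ : ∀ i j : Fin 2, h i j - Matrix.of ![![(0 : A), 1], ![-1, 0]] i j ∈ Ring.jacobson A) :
    ∃ (s t : Bˣ) (r : ℕ) (f : Fin r → (MvPolynomial (Fin 2) B ⧸ Ideal.span ({MvPolynomial.X 0 ^ 2 - MvPolynomial.C (s : B), MvPolynomial.X 1 ^ 2 - MvPolynomial.C (t : B)} : Set (MvPolynomial (Fin 2) B)))),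
      Ideal.span (Set.range f) = ⊤ ∧
      ∀ i : Fin r, ∃ v : Matrix (Fin 2) (Fin 2) (Localization.Away (f i) ⊗[B] A), IsUnit v ∧
        (v.map (Algebra.TensorProduct.congr (AlgEquiv.refl : Localization.Away (f i) ≃ₐ[Localization.Away (f i)] Localization.Away (f i)) lam)).transpose * h.map (Algebra.TensorProduct.includeRight : A →ₐ[B] Localization.Away (f i) ⊗[B] A) * v
          = (Matrix.of ![![(0 : A), 1], ![-1, 0]]).map (Algebra.TensorProduct.includeRight : A →ₐ[B] Localization.Away (f i) ⊗[B] A) := by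
  have hlam' : Function.Involutive lam.toRingEquiv := hlam
  have := Groth.Agent.Lib.RInvQuad.isLocalRing_of_forall_mem hlam' hB hid
  rw [← Ideal.jacobson_bot, IsLocalRing.jacobson_eq_maximalIdeal ⊥ bot_ne_top] at hid hJ
  have hH : ∀ i j, lam (h j i) = -h i j := fun i j => by
    have := congr_fun₂ herm i j
    simp only [Matrix.neg_apply, Matrix.transpose_apply, Matrix.map_apply] at this
    rw [← this, neg_neg]
  have haM : h 0 0 ∈ IsLocalRing.maximalIdeal A := by simpa using hJ 0 0
  have hb : IsUnit (h 0 1) := IsLocalRing.notMem_maximalIdeal.1 fun hc => by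
    have h1 := (IsLocalRing.maximalIdeal A).sub_mem hc (by simpa using hJ 0 1 : h 0 1 - 1 ∈ IsLocalRing.maximalIdeal A)
    rw [sub_sub_cancel] at h1
    exact (IsLocalRing.maximalIdeal.isMaximal A).ne_top ((Ideal.eq_top_iff_one _).2 h1)
  obtain ⟨b', hb'⟩ := hb.exists_left_inv
  obtain ⟨s, hs⟩ := Groth.Agent.Lib.RInvQuad.exists_of_fixed hB (x := h 0 0 * (b' * lam b' * h 1 1)) (by
    change lam _ = _
    simp only [map_mul, hH 0 0, hH 1 1, hlam b']; ring)
  have hsu : IsUnit (1 + s) := by
    refine Groth.Agent.Lib.RInvQuad.isUnit_of_isUnit_algebraMap hB ?_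
    rw [map_add, map_one, hs, add_comm]
    refine IsLocalRing.notMem_maximalIdeal.1 fun hc => ?_
    have h1 := (IsLocalRing.maximalIdeal A).sub_mem hc (Ideal.mul_mem_right (b' * lam b' * h 1 1) _ haM)
    rw [add_sub_cancel_left] at h1
    exact (IsLocalRing.maximalIdeal.isMaximal A).ne_top ((Ideal.eq_top_iff_one _).2 h1)
  have h2B : IsUnit (2 : B) := Groth.Agent.Lib.RInvQuad.isUnit_of_isUnit_algebraMap hB (by rw [map_ofNat]; exact h2)
  let Q := MvPolynomial (Fin 2) B ⧸ Ideal.span ({MvPolynomial.X 0 ^ 2 - MvPolynomial.C (hsu.unit : B),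
    MvPolynomial.X 1 ^ 2 - MvPolynomial.C (hsu.unit : B)} : Set (MvPolynomial (Fin 2) B))
  let x0 : Q := Ideal.Quotient.mk _ (MvPolynomial.X 0)
  have hx0 : x0 * x0 = algebraMap B Q (1 + s) := by
    change Ideal.Quotient.mk _ _ * Ideal.Quotient.mk _ _ = Ideal.Quotient.mk _ (MvPolynomial.C (1 + s))
    rw [← map_mul, Ideal.Quotient.eq, ← pow_two]
    exact Ideal.subset_span (by simp)
  let f : Fin 2 → Q := ![1 + x0, 1 - x0]
  refine ⟨hsu.unit, hsu.unit, 2, f, ?_, fun i => ?_⟩
  · rw [Ideal.eq_top_iff_one]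
    obtain ⟨c, hc⟩ := h2B.exists_left_inv
    have h1 : algebraMap B Q c * (f 0 + f 1) = 1 := by
      rw [show f 0 + f 1 = algebraMap B Q 2 by simp [f, map_ofNat]; ring, ← map_mul, hc, map_one]
    rw [← h1]
    exact Ideal.mul_mem_left _ _ (Ideal.add_mem _ (Ideal.subset_span ⟨0, rfl⟩) (Ideal.subset_span ⟨1, rfl⟩))
  let L := Localization.Away (f i)
  let C := L ⊗[B] A
  let lamC : C ≃+* C := (Algebra.TensorProduct.congr (AlgEquiv.refl : L ≃ₐ[L] L) lam).toRingEquiv
  let ι : A →ₐ[B] C := Algebra.TensorProduct.includeRight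
  have hl : ∀ a, lamC (ι a) = ι (lam a) := fun a => rfl
  have hlq : ∀ x : L, lamC (x ⊗ₜ[B] (1 : A)) = x ⊗ₜ[B] (1 : A) := fun x => by
    change x ⊗ₜ[B] lam 1 = _
    rw [map_one]
  have hlamC : Function.Involutive lamC := fun x => by
    induction x using TensorProduct.induction_on with
    | zero => simp
    | tmul x a => change x ⊗ₜ[B] lam (lam a) = _; rw [hlam]
    | add x y hx hy => rw [map_add, map_add, hx, hy]
  obtain ⟨σ, hσ, hfi⟩ : ∃ σ : Q, σ * σ = algebraMap B Q (1 + s) ∧ f i = 1 + σ := by
    fin_cases i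
    · exact ⟨x0, hx0, rfl⟩
    · exact ⟨-x0, by linear_combination hx0, by simp [f, sub_eq_add_neg]⟩
  obtain ⟨g0, hg0⟩ := (IsLocalization.Away.algebraMap_isUnit (S := L) (f i)).exists_left_inv
  obtain ⟨i2, hi2⟩ := h2.exists_left_inv
  have hli : lam i2 = i2 := by
    have := congr_arg lam hi2
    rw [map_mul, map_one, map_ofNat] at this
    exact h2.mul_right_cancel (this.trans hi2.symm)
  obtain ⟨c, hc⟩ := hsu.exists_left_inv
  let y : C := algebraMap Q L σ ⊗ₜ[B] (1 : A)
  have hyy : y * y = ι (algebraMap B A (1 + s)) := by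
    change _ = (1 : L) ⊗ₜ[B] algebraMap B A (1 + s)
    rw [Algebra.TensorProduct.tmul_mul_tmul, one_mul, ← map_mul, hσ, ← IsScalarTower.algebraMap_apply B Q L,
      Algebra.TensorProduct.tmul_one_eq_one_tmul]
  obtain ⟨v, w, hvw, hwv, hv⟩ := Groth.Agent.Lib.RInvSqrtCover.cong_block (lamT := lamC) hlamC (H := h.map ι)
    (fun i j => by rw [Matrix.map_apply, Matrix.map_apply, hl, hH, map_neg])
    (b' := ι b') (by rw [Matrix.map_apply, ← map_mul, hb', map_one])
    (y := y) (g := g0 ⊗ₜ[B] (1 : A)) (z := y * ι (algebraMap B A c)) (i2 := ι i2)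
    (by rw [hyy, map_add, map_one, map_add, map_one, hs, Matrix.map_apply, Matrix.map_apply, hl]; simp only [map_mul])
    (hlq _)
    (by
      have e : algebraMap Q L (f i) = 1 + algebraMap Q L σ := (congr_arg (algebraMap Q L) hfi).trans (by rw [map_add, map_one])
      rw [show (1 : C) + y = algebraMap Q L (f i) ⊗ₜ[B] (1 : A) by rw [e, TensorProduct.add_tmul]; rfl]
      rw [Algebra.TensorProduct.tmul_mul_tmul, hg0, one_mul]; rfl)
    (hlq _)
    (by rw [mul_right_comm, hyy, ← map_mul, ← map_mul, mul_comm, hc, map_one, map_one])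
    (by rw [map_mul, hlq, hl, AlgEquiv.commutes])
    (by rw [← map_ofNat ι 2, ← map_mul, hi2, map_one]) (by rw [hl, hli])
  refine ⟨v, ⟨⟨v, w, hvw, hwv⟩, rfl⟩, ?_⟩
  refine hv.trans ?_
  ext a b
  fin_cases a <;> fin_cases b <;>
    first
      | exact (map_zero ι).symm
      | exact (map_one ι).symm
      | exact ((map_neg ι 1).trans (congrArg Neg.neg (map_one ι))).symm

end Groth.Agent.S17363
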