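import Groth.Statements.S17364
import Groth.Agent.Lib.RInvSpreadSqrt

set_option autoImplicit false
universe u v
open scoped TensorProduct
open RInv

set_option maxHeartbeats 4000000

namespace Groth.Agent.S17364

/-- Let `A` be a commutative ring with an involution `lam` whose fixed ring is `B`, let `ε = ±1`, and
let `h, h'` be invertible `n × n` matrices over `A` with `h = ε (lam h)ᵀ` and `h' = ε (lam h')ᵀ`.
Let `p` be a prime of `B` and suppose there are units `s_1, …, s_l` of the local ring `B_p`,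
elements `f_1, …, f_r` of `B_p[X_1, …, X_l]/(X_k² - s_k)` (square roots of the `s_k` adjoined)
generating the unit ideal, and for each `i` an invertible matrix `v` over `C ⊗_B A` for the
localisation `C` of that ring at `f_i` (any `B`-algebra with the universal property of that
localisation) (`lam` extended so as to fix the square roots and `B_p`) with `(lam v)ᵀ h v = h'`.
Then there is `b ∉ p` in `B` such that the same kind of data exists with `B_p` replaced by `B_b`:
units of `B_b`, a finite family generating the unit ideal of `B_b[X_1, …, X_l]/(X_k² - s_k)`, and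
invertible matrices over the corresponding localisations tensored with `A` congruating `h` to `h'`. -/
theorem result (B : Type u) (A : Type v) [CommRing B] [CommRing A]
    [Algebra B A] (lam : A ≃ₐ[B] A) (hlam : ∀ a, lam (lam a) = a) (hB : RInv.IsFixedRing B A lam.toRingEquiv)
    (n : ℕ) (ε : A) (hε : ε = 1 ∨ ε = -1) (h h' : Matrix (Fin n) (Fin n) A) (hh : IsUnit h) (hh' : IsUnit h')
    (herm : ε • (h.map lam).transpose = h) (herm' : ε • (h'.map lam).transpose = h')
    (p : Ideal B) [p.IsPrime]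
    (hdata : (∃ (l : ℕ) (s : Fin l → (Localization.AtPrime p)ˣ) (r : ℕ) (f : Fin r → (MvPolynomial (Fin l) (Localization.AtPrime p) ⧸ Ideal.span (Set.range fun k : Fin l => MvPolynomial.X k ^ 2 - MvPolynomial.C (s k : Localization.AtPrime p)))),
        Ideal.span (Set.range f) = ⊤ ∧
        ∀ (i : Fin r) (C : Type u) [CommRing C] [Algebra B C]
          [Algebra (MvPolynomial (Fin l) (Localization.AtPrime p) ⧸ Ideal.span (Set.range fun k : Fin l => MvPolynomial.X k ^ 2 - MvPolynomial.C (s k : Localization.AtPrime p))) C]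
          [IsScalarTower B (MvPolynomial (Fin l) (Localization.AtPrime p) ⧸ Ideal.span (Set.range fun k : Fin l => MvPolynomial.X k ^ 2 - MvPolynomial.C (s k : Localization.AtPrime p))) C]
          [IsLocalization.Away (f i) C],
          ∃ v : Matrix (Fin n) (Fin n) (C ⊗[B] A), IsUnit v ∧
            (v.map (Algebra.TensorProduct.congr (AlgEquiv.refl : C ≃ₐ[C] C) lam)).transpose * h.map (Algebra.TensorProduct.includeRight : A →ₐ[B] C ⊗[B] A) * v = h'.map (Algebra.TensorProduct.includeRight : A →ₐ[B] C ⊗[B] A))) :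
    ∃ b : B, b ∉ p ∧
      (∃ (l : ℕ) (s : Fin l → (Localization.Away b)ˣ) (r : ℕ) (f : Fin r → (MvPolynomial (Fin l) (Localization.Away b) ⧸ Ideal.span (Set.range fun k : Fin l => MvPolynomial.X k ^ 2 - MvPolynomial.C (s k : Localization.Away b)))),
        Ideal.span (Set.range f) = ⊤ ∧
        ∀ (i : Fin r) (C : Type u) [CommRing C] [Algebra B C]
          [Algebra (MvPolynomial (Fin l) (Localization.Away b) ⧸ Ideal.span (Set.range fun k : Fin l => MvPolynomial.X k ^ 2 - MvPolynomial.C (s k : Localization.Away b))) C]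
          [IsScalarTower B (MvPolynomial (Fin l) (Localization.Away b) ⧸ Ideal.span (Set.range fun k : Fin l => MvPolynomial.X k ^ 2 - MvPolynomial.C (s k : Localization.Away b))) C]
          [IsLocalization.Away (f i) C],
          ∃ v : Matrix (Fin n) (Fin n) (C ⊗[B] A), IsUnit v ∧
            (v.map (Algebra.TensorProduct.congr (AlgEquiv.refl : C ≃ₐ[C] C) lam)).transpose * h.map (Algebra.TensorProduct.includeRight : A →ₐ[B] C ⊗[B] A) * v = h'.map (Algebra.TensorProduct.includeRight : A →ₐ[B] C ⊗[B] A)) := by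
  classical
  obtain ⟨l, s, r, f, hspan, hv⟩ := hdata
  let M := p.primeCompl
  let Bp := Localization.AtPrime p
  choose ac hac using fun k => IsLocalization.surj M ((s k : Bp))
  let a : Fin l → B := fun k => (ac k).1
  let c : Fin l → B := fun k => ((ac k).2 : B)
  have hcM : ∀ k, c k ∈ M := fun k => (ac k).2.2
  have haM : ∀ k, a k ∈ M := fun k => by
    have hu : IsUnit (algebraMap B Bp (a k)) := by
      rw [← hac k]; exact (s k).isUnit.mul (IsLocalization.map_units Bp (ac k).2)
    exact (IsLocalization.AtPrime.isUnit_to_map_iff Bp p (a k)).1 hu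
  choose g hg using fun i => Ideal.Quotient.mk_surjective (f i)
  choose F d hdM hF using fun i => Groth.Agent.Lib.RInvSpreadSqrt.exists_num M Bp (g i)
  let Q' := MvPolynomial (Fin l) B ⧸ Ideal.span (Set.range fun k : Fin l =>
    MvPolynomial.C (c k) * MvPolynomial.X k ^ 2 - MvPolynomial.C (a k))
  let x : Fin l → Q' := fun k => Ideal.Quotient.mk _ (MvPolynomial.X k)
  let F' : Fin r → Q' := fun i => Ideal.Quotient.mk _ (F i)
  have hxQ : ∀ k, algebraMap B Q' (c k) * x k ^ 2 = algebraMap B Q' (a k) := fun k => by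
    change Ideal.Quotient.mk _ (MvPolynomial.C (c k)) * Ideal.Quotient.mk _ (MvPolynomial.X k) ^ 2 =
      Ideal.Quotient.mk _ (MvPolynomial.C (a k))
    rw [← map_pow, ← map_mul, Ideal.Quotient.eq]
    exact Ideal.subset_span ⟨k, rfl⟩
  have haev : ∀ {X : Type u} [CommRing X] [Algebra B X] (τ : Q' →ₐ[B] X) (G : MvPolynomial (Fin l) B),
      MvPolynomial.aeval (fun k => τ (x k)) G = τ (Ideal.Quotient.mk _ G) := fun τ G => by
    have h1 : (MvPolynomial.aeval fun k => τ (x k) : MvPolynomial (Fin l) B →ₐ[B] _) =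
        τ.comp (Ideal.Quotient.mkₐ B _) := MvPolynomial.algHom_ext fun k => by simp [x]; rfl
    exact AlgHom.congr_fun h1 G
  have hom : ∀ {X : Type u} [CommRing X] [Algebra B X] (τ : Q' →ₐ[B] X), (∀ m : M, IsUnit (algebraMap B X m)) →
      ∃ ψ : (MvPolynomial (Fin l) Bp ⧸ Ideal.span (Set.range fun k : Fin l => MvPolynomial.X k ^ 2 - MvPolynomial.C (s k : Bp))) →ₐ[B] X,
        ∀ i, ψ (f i) * algebraMap B X (d i) = τ (F' i) := by
    intro X _ _ τ hM
    obtain ⟨ψ, hψ⟩ := Groth.Agent.Lib.RInvSpreadSqrt.exists_hom M Bp (fun k => (s k : Bp)) hM (fun k => τ (x k)) fun k => by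
      refine (hM (ac k).2).mul_left_cancel ?_
      have h1 := congrArg τ (hxQ k)
      rw [map_mul, map_pow, AlgHom.commutes, AlgHom.commutes] at h1
      refine h1.trans ?_
      rw [← IsLocalization.lift_eq (S := Bp) hM (a k), ← hac k, map_mul, IsLocalization.lift_eq hM, mul_comm]
    refine ⟨ψ, fun i => ?_⟩
    have h2 := hψ (F i)
    rw [hF, map_mul, map_mul, hg i, haev] at h2
    rw [show τ (F' i) = _ from h2.symm, mul_comm, ← ψ.commutes]
    rfl
  -- the `F i` generate the unit ideal after inverting an element outside `p`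
  obtain ⟨e, heM, hes⟩ : ∃ e ∈ M, algebraMap B Q' e ∈ Ideal.span (Set.range F') := by
    let N := Algebra.algebraMapSubmonoid Q' M
    obtain ⟨Sp, _, _, _, _, hN⟩ : ∃ (Sp : Type u) (_ : CommRing Sp) (_ : Algebra Q' Sp) (_ : Algebra B Sp)
        (_ : IsScalarTower B Q' Sp), IsLocalization N Sp :=
      ⟨Localization N, inferInstance, inferInstance, inferInstance, inferInstance, inferInstance⟩
    obtain ⟨ψ, hψ⟩ := hom (X := Sp) (IsScalarTower.toAlgHom B Q' Sp) fun m => by
      rw [IsScalarTower.algebraMap_apply B Q' Sp]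
      exact IsLocalization.map_units Sp ⟨algebraMap B Q' m, Algebra.mem_algebraMapSubmonoid_of_mem m⟩
    have h1 : (Ideal.span (Set.range F')).map (algebraMap Q' Sp) = ⊤ := by
      refine top_le_iff.1 ?_
      rw [← Ideal.map_top ψ.toRingHom, ← hspan, Ideal.map_span, Ideal.span_le]
      rintro _ ⟨_, ⟨i, rfl⟩, rfl⟩
      have hu : IsUnit (algebraMap B Sp (d i)) := by
        rw [IsScalarTower.algebraMap_apply B Q' Sp]
        exact IsLocalization.map_units Sp ⟨algebraMap B Q' (d i), Algebra.mem_algebraMapSubmonoid_of_mem ⟨d i, hdM i⟩⟩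
      obtain ⟨u, hu⟩ := hu.exists_left_inv
      have : ψ (f i) = u * algebraMap Q' Sp (F' i) := by
        rw [show algebraMap Q' Sp (F' i) = _ from (hψ i).symm]
        have h3 : algebraMap B Sp (d i) * u = 1 := (mul_comm _ _).trans hu
        calc ψ (f i) = ψ (f i) * 1 := (mul_one _).symm
          _ = ψ (f i) * (algebraMap B Sp (d i) * u) := congrArg _ h3.symm
          _ = ψ (f i) * algebraMap B Sp (d i) * u := (mul_assoc _ _ _).symm
          _ = u * (ψ (f i) * algebraMap B Sp (d i)) := mul_comm _ _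
      change ψ (f i) ∈ _
      rw [this]
      exact Ideal.mul_mem_left _ _ (Ideal.mem_map_of_mem _ (Ideal.subset_span ⟨i, rfl⟩))
    by_contra hcon
    push Not at hcon
    refine (IsLocalization.map_algebraMap_ne_top_iff_disjoint N Sp _).2 ?_ h1
    rw [Set.disjoint_left]
    rintro _ ⟨e, he, rfl⟩
    exact hcon e he
  -- the congruences descend
  have key : ∀ i, ∃ b ∈ M, ∀ (C'' : Type u) [CommRing C''] [Algebra B C''] (τ : Q' →ₐ[B] C''),
      IsUnit (τ (F' i)) → IsUnit (algebraMap B C'' b) →
      ∃ v : Matrix (Fin n) (Fin n) (C'' ⊗[B] A), IsUnit v ∧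
        (v.map (Groth.Agent.Lib.RInvSpreadSqrt.lamC lam C'')).transpose *
            h.map (Algebra.TensorProduct.includeRight : A →ₐ[B] C'' ⊗[B] A) * v
          = h'.map (Algebra.TensorProduct.includeRight : A →ₐ[B] C'' ⊗[B] A) := by
    intro i
    let C' := Localization.Away (F' i)
    let N := Algebra.algebraMapSubmonoid C' M
    let D := Localization N
    let θ : C' →ₐ[B] D := IsScalarTower.toAlgHom B C' D
    have hMD : ∀ m : M, IsUnit (algebraMap B D m) := fun m => by
      rw [IsScalarTower.algebraMap_apply B C' D]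
      exact IsLocalization.map_units D ⟨algebraMap B C' m, Algebra.mem_algebraMapSubmonoid_of_mem m⟩
    obtain ⟨ψ, hψ⟩ := hom (θ.comp (IsScalarTower.toAlgHom B Q' C')) hMD
    have hfu : IsUnit (ψ (f i)) := by
      refine isUnit_of_mul_isUnit_left (y := algebraMap B D (d i)) ?_
      rw [hψ]
      exact (IsLocalization.Away.algebraMap_isUnit (S := C') (F' i)).map θ
    let σ := IsLocalization.Away.liftAlgHom (S := Localization.Away (f i)) (f i) (f := ψ) hfu
    obtain ⟨v, hvu, hve⟩ := hv i (Localization.Away (f i))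
    have hJ : ∀ k : Matrix (Fin n) (Fin n) A, Groth.Agent.Lib.RInvSpreadSqrt.Mθ σ
        (k.map (Algebra.TensorProduct.includeRight : A →ₐ[B] Localization.Away (f i) ⊗[B] A)) =
        k.map (Algebra.TensorProduct.includeRight : A →ₐ[B] D ⊗[B] A) := fun k => by
      ext a b; simp
    have hL : Groth.Agent.Lib.RInvSpreadSqrt.Mθ σ (v.map (Groth.Agent.Lib.RInvSpreadSqrt.lamC lam _)).transpose =
        ((Groth.Agent.Lib.RInvSpreadSqrt.Mθ σ v).map (Groth.Agent.Lib.RInvSpreadSqrt.lamC lam D)).transpose := by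
      ext a b; exact Groth.Agent.Lib.RInvSpreadSqrt.Θ_lamC lam σ (v b a)
    have hloc : IsLocalizedModule M θ.toLinearMap := isLocalizedModule_iff_isLocalization.2 inferInstance
    obtain ⟨b, hbM, hb⟩ := Groth.Agent.Lib.RInvSpreadSqrt.exists_scalar M lam h h' C' D θ _
      (hvu.map (Groth.Agent.Lib.RInvSpreadSqrt.Mθ σ)) (by
        have := congrArg (Groth.Agent.Lib.RInvSpreadSqrt.Mθ σ) hve
        rw [map_mul, map_mul, hL, hJ, hJ] at this
        exact this)
    exact ⟨b, hbM, fun C'' _ _ τ hF hbu => hb C'' (IsLocalization.Away.liftAlgHom (S := C') (F' i) (f := τ) hF) hbu⟩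
  choose bb hbbM hbb using key
  let b := (∏ k, a k) * (∏ k, c k) * (∏ i, bb i) * e
  have hbM : b ∈ M := M.mul_mem (M.mul_mem (M.mul_mem (prod_mem fun k _ => haM k) (prod_mem fun k _ => hcM k))
    (prod_mem fun i _ => hbbM i)) heM
  let Bb := Localization.Away b
  have hbu : IsUnit (algebraMap B Bb b) := IsLocalization.Away.algebraMap_isUnit b
  have hdiv : ∀ {y : B}, y ∣ b → IsUnit (algebraMap B Bb y) := fun {y} hy =>
    isUnit_of_dvd_unit (map_dvd (algebraMap B Bb) hy) hbu
  have hda : ∀ k, a k ∣ b := fun k =>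
    (((Finset.dvd_prod_of_mem a (Finset.mem_univ k)).mul_right _).mul_right _).mul_right _
  have hdc : ∀ k, c k ∣ b := fun k =>
    (((Finset.dvd_prod_of_mem c (Finset.mem_univ k)).mul_left _).mul_right _).mul_right _
  have hdb : ∀ i, bb i ∣ b := fun i =>
    ((Finset.dvd_prod_of_mem bb (Finset.mem_univ i)).mul_left _).mul_right _
  let s' : Fin l → Bbˣ := fun k => (hdiv (hda k)).unit * (hdiv (hdc k)).unit⁻¹
  let Qb := MvPolynomial (Fin l) Bb ⧸ Ideal.span (Set.range fun k : Fin l => MvPolynomial.X k ^ 2 - MvPolynomial.C (s' k : Bb))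
  let π₀ : MvPolynomial (Fin l) B →ₐ[B] Qb := MvPolynomial.aeval fun k => (Ideal.Quotient.mk _ (MvPolynomial.X k) : Qb)
  let π : Q' →ₐ[B] Qb := Ideal.Quotient.liftₐ _ π₀ fun q hq => by
    refine RingHom.mem_ker.1 (Ideal.span_le.2 ?_ hq)
    rintro _ ⟨k, rfl⟩
    change π₀ _ = 0
    simp only [π₀, map_sub, map_mul, map_pow, MvPolynomial.aeval_C, MvPolynomial.aeval_X]
    change Ideal.Quotient.mk _ (MvPolynomial.C (algebraMap B Bb (c k))) * Ideal.Quotient.mk _ (MvPolynomial.X k) ^ 2
      - Ideal.Quotient.mk _ (MvPolynomial.C (algebraMap B Bb (a k))) = 0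
    rw [← map_pow, ← map_mul, ← map_sub, Ideal.Quotient.eq_zero_iff_mem]
    have : algebraMap B Bb (a k) = algebraMap B Bb (c k) * (s' k : Bb) := by
      change _ = _ * (((hdiv (hda k)).unit : Bb) * (((hdiv (hdc k)).unit⁻¹ : Bbˣ) : Bb))
      rw [IsUnit.unit_spec, mul_left_comm, IsUnit.mul_val_inv, mul_one]
    rw [this, map_mul, ← mul_sub]
    exact Ideal.mul_mem_left _ _ (Ideal.subset_span ⟨k, rfl⟩)
  refine ⟨b, hbM, l, s', r, fun i => π (F' i), ?_, fun i C _ _ _ _ hloc => ?_⟩
  · refine Ideal.eq_top_of_isUnit_mem _ ?_ ((hdiv (Dvd.intro_left _ rfl : e ∣ b)).map (algebraMap Bb Qb))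
    have := Ideal.mem_map_of_mem π.toRingHom hes
    rw [Ideal.map_span, ← Set.range_comp] at this
    change π (algebraMap B Q' e) ∈ _ at this
    rw [π.commutes] at this
    exact this
  · have : IsLocalization.Away (π (F' i)) C := hloc
    exact hbb i C ((IsScalarTower.toAlgHom B Qb C).comp π) (IsLocalization.Away.algebraMap_isUnit (S := C) (π (F' i))) (by
      rw [IsScalarTower.algebraMap_apply B Qb C]
      exact ((hdiv (hdb i)).map (algebraMap Bb Qb)).map (algebraMap Qb C))

end Groth.Agent.S17364
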