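import Groth.Statements.S17366
import Groth.Agent.H26.FreeCrit
import Groth.Agent.H26.BigOpen
import Groth.Agent.Lib.ParaF.Pair
import Groth.Agent.Lib.ZarCoh.FP


set_option autoImplicit false
universe u
open CategoryTheory CategoryTheory.Limits AlgebraicGeometry TopologicalSpace
open CInt

namespace Groth.Agent.S17366

theorem le_one_of_not_two_le {d : WithBot ℕ∞} (h : ¬ 2 ≤ d) : d ≤ 1 := by
  rw [not_le] at h
  induction d using WithBot.recBotCoe with
  | bot => exact bot_le
  | coe d =>
    have h' : d < 2 := WithBot.coe_lt_coe.mp h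
    exact WithBot.coe_le_coe.mpr (ENat.lt_add_one_iff (ENat.one_ne_top) |>.mp (h'.trans_eq (by norm_num)))

/-- Let k be an algebraically closed field, X a smooth proper k-scheme admitting an ample invertible
sheaf, and S a locally Noetherian k-scheme. Let E be a coherent module on S ×_k X, flat over S,
whose restriction to every fibre {s} × X is torsion-free, let F be a finite locally free module on S
×_k X, and let U be the largest open subset of S ×_k X over which E is finite locally free. Then
every homomorphism E|_U ⟶ F|_U is the restriction of a unique homomorphism E ⟶ F. (The published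
statement also asserts the compatibility of this extension with base change along morphisms S' ⟶ S;
that clause is not restated here.) -/
theorem result
    (k : Type u) [Field k] [IsAlgClosed k] (S X : Scheme.{u})
    (b : S ⟶ Spec (CommRingCat.of k)) (a : X ⟶ Spec (CommRingCat.of k))
    [IsLocallyNoetherian S] [Smooth a] [IsProper a]
    (hproj : ∃ H : X.Modules, CohB1.IsAmple H)
    (E F : (pullback b a).Modules) (hEcoh : Coh.IsCoh E)
    (hEfl : FlatMod.IsFlatOver (pullback.fst b a) E)
    (hEtf : ∀ s : ↥S, TorSh.IsTorsionFree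
      ((Scheme.Modules.pullback ((pullback.fst b a).fiberι s)).obj E))
    (hF : FlatMod.IsFinLocFree F)
    (U : (pullback b a).Opens)
    (hU : ∀ x : ↥(pullback b a), x ∈ U ↔
      ∃ (V : (pullback b a).Opens) (n : ℕ), x ∈ V ∧ Nonempty (E.restrict V.ι ≅ FlatMod.freeMod (↑V) n))
    (ψ : E.restrict U.ι ⟶ F.restrict U.ι) :
    ∃! φ : E ⟶ F, (Scheme.Modules.restrictFunctor U.ι).map φ = ψ := by
  have hsm : Smooth (pullback.fst b a) := MorphismProperty.pullback_fst (P := @Smooth) b a inferInstance
  have : IsLocallyNoetherian (pullback b a) :=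
    LocallyOfFiniteType.isLocallyNoetherian (pullback.fst b a)
  have hfp := Groth.Agent.Lib.ZarCoh.FP.isFP_of_isCoh E hEcoh
  have hbig : ∀ x : ↥(pullback b a), x ∉ U →
      (2 : WithBot ℕ∞) ≤ ringKrullDim ↑(CInt.fiberStalk (pullback.fst b a) x) := by
    intro x hx
    by_contra h
    apply hx
    obtain ⟨V, n, hxV, he⟩ := Groth.Agent.H26.FreeCrit.exists_free_nhd (pullback.fst b a) E hfp hEfl
      hEtf x (le_one_of_not_two_le h)
    exact (hU x).mpr ⟨V, n, hxV, he⟩
  exact (Groth.Agent.Lib.ParaF.ResBij.restrict_map_bijective U.ι E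
    ((Scheme.Opens.opensRange_ι U).symm ▸ Groth.Agent.Lib.ParaF.Pair.resBij_of_isFinLocFree
      (Groth.Agent.H26.BigOpen.bijective_restrict (pullback.fst b a) U hbig) hF)).existsUnique ψ

end Groth.Agent.S17366
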