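import Groth.Statements.S1737
import Groth.Agent.Lib.Depth.Assoc
import Mathlib.RingTheory.Ideal.AssociatedPrime.Localization
-- import your own Groth.Agent.* helpers here

set_option autoImplicit false
universe u
open LocCoh

namespace Groth.Agent.S1737

/-- Let A be a Noetherian ring, T ⊆ Spec A stable under specialization and M a finite A-module. There
are a finite A-module M' and a surjection M → M' which is bijective after localizing at every prime
outside T and such that M'_p has depth ≥ 1 over A_p for every p in T. (The source states this for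
coherent modules on a Noetherian scheme, with uniqueness.) -/
theorem result (A : Type u) [CommRing A] [IsNoetherianRing A] (T : Set (PrimeSpectrum A)) (hT : StableUnderSpecialization T) (M : Type u) [AddCommGroup M] [Module A M] [Module.Finite A M] : ∃ (M' : Type u) (_ : AddCommGroup M') (_ : Module A M') (_ : Module.Finite A M') (f : M →ₗ[A] M'), Function.Surjective f ∧ (∀ p : PrimeSpectrum A, p ∉ T → Function.Bijective (LocalizedModule.map p.asIdeal.primeCompl f)) ∧ ∀ p : PrimeSpectrum A, p ∈ T → 1 ≤ LocCoh.depth (Localization.AtPrime p.asIdeal) (LocalizedModule p.asIdeal.primeCompl M') := by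
  classical
  let N : Submodule A M :=
    { carrier := {x | ∀ p : PrimeSpectrum A, (Submodule.span A {x}).annihilator ≤ p.asIdeal → p ∈ T}
      zero_mem' := fun p hp => absurd ((Ideal.eq_top_iff_one _).2 (hp (by
        rw [Submodule.mem_annihilator_span_singleton, smul_zero]))) p.2.ne_top
      add_mem' := fun {x y} hx hy p hp => by
        have hle : (Submodule.span A {x}).annihilator * (Submodule.span A {y}).annihilator ≤
            (Submodule.span A {x + y}).annihilator := Ideal.mul_le.2 fun c hc d hd => by
          rw [Submodule.mem_annihilator_span_singleton] at hc hd ⊢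
          rw [smul_add, mul_comm c d, mul_smul, hc, smul_zero, zero_add, mul_comm d c, mul_smul, hd,
            smul_zero]
        rcases p.2.mul_le.1 (hle.trans hp) with h | h
        · exact hx p h
        · exact hy p h
      smul_mem' := fun c x hx p hp => hx p (le_trans (fun r hr => by
        rw [Submodule.mem_annihilator_span_singleton] at hr ⊢
        rw [smul_comm, hr, smul_zero]) hp) }
  refine ⟨M ⧸ N, inferInstance, inferInstance, inferInstance, N.mkQ, N.mkQ_surjective, fun p hp => ?_,
    fun p hp => ?_⟩
  · refine ⟨(injective_iff_map_eq_zero _).2 fun z hz => ?_, LocalizedModule.map_surjective _ _ N.mkQ_surjective⟩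
    induction z using LocalizedModule.induction_on with
    | h m s =>
      rw [LocalizedModule.map_mk, ← LocalizedModule.zero_mk (1 : p.asIdeal.primeCompl),
        LocalizedModule.mk_eq] at hz
      obtain ⟨⟨c, hc⟩, hcm⟩ := hz
      simp only [one_smul, smul_zero, Submonoid.smul_def] at hcm
      rw [← map_smul, Submodule.mkQ_apply, Submodule.Quotient.mk_eq_zero] at hcm
      obtain ⟨d, hd, hdp⟩ := SetLike.not_le_iff_exists.1 fun h => hp (hcm p h)
      rw [Submodule.mem_annihilator_span_singleton] at hd
      rw [← LocalizedModule.zero_mk (1 : p.asIdeal.primeCompl), LocalizedModule.mk_eq]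
      refine ⟨⟨d * c, p.asIdeal.primeCompl.mul_mem hdp hc⟩, ?_⟩
      simp only [one_smul, smul_zero, Submonoid.smul_def]
      rw [mul_smul, hd]
  · rw [ENat.one_le_iff_ne_zero]
    intro h0
    rcases subsingleton_or_nontrivial (LocalizedModule p.asIdeal.primeCompl (M ⧸ N)) with hs | hs
    · rw [LocCoh.depth, Lib.Depth.Basic.idealDepth_subsingleton] at h0
      exact ENat.top_ne_zero h0
    have hass := (Lib.Depth.Assoc.depth_eq_zero_iff _).1 h0
    have hp' : p.asIdeal ∈ associatedPrimes A (M ⧸ N) := by
      have h1 := Module.associatedPrimes.comap_mem_associatedPrimes_of_mem_associatedPrimes_of_isLocalizedModule_of_fg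
        p.asIdeal.primeCompl (LocalizedModule.mkLinearMap p.asIdeal.primeCompl (M ⧸ N))
        (IsLocalRing.maximalIdeal (Localization.AtPrime p.asIdeal)) hass (IsNoetherian.noetherian _)
      rwa [show (IsLocalRing.maximalIdeal (Localization.AtPrime p.asIdeal)).comap
        (algebraMap A (Localization.AtPrime p.asIdeal)) = p.asIdeal from
          Localization.AtPrime.under_maximalIdeal] at h1
    obtain ⟨hprime, x, hx⟩ := (isAssociatedPrime_iff (I := p.asIdeal)).1 hp'
    obtain ⟨m, rfl⟩ := Submodule.Quotient.mk_surjective N x
    refine hprime.ne_top ((Ideal.eq_top_iff_one _).2 ?_)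
    rw [hx, Submodule.mem_colon_singleton, one_smul, Submodule.mem_bot, Submodule.Quotient.mk_eq_zero]
    intro q hq
    obtain ⟨k, s, hs'⟩ := Submodule.fg_iff_exists_fin_generating_family.1 (IsNoetherian.noetherian p.asIdeal)
    have hmem : ∀ j, s j • m ∈ N := fun j => by
      have : s j ∈ p.asIdeal := hs' ▸ Submodule.subset_span ⟨j, rfl⟩
      rw [hx, Submodule.mem_colon_singleton, Submodule.mem_bot, ← Submodule.Quotient.mk_smul,
        Submodule.Quotient.mk_eq_zero] at this
      exact this
    by_cases hall : ∀ j, s j ∈ q.asIdeal
    · refine hT (show p ⤳ q from (PrimeSpectrum.le_iff_specializes p q).1 ?_) hp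
      show p.asIdeal ≤ q.asIdeal
      rw [← hs', Submodule.span_le]
      rintro _ ⟨j, rfl⟩
      exact hall j
    · push Not at hall
      obtain ⟨j, hj⟩ := hall
      refine hmem j q fun r hr => ?_
      rw [Submodule.mem_annihilator_span_singleton] at hr
      exact (q.2.mem_or_mem (hq (show r * s j ∈ (Submodule.span A {m}).annihilator by
        rw [Submodule.mem_annihilator_span_singleton, mul_smul, hr]))).resolve_right hj


end Groth.Agent.S1737
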