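import Groth.Statements.S17373
import Groth.Agent.Lib.Nakai.UnifAbs

set_option autoImplicit false
universe u
open CategoryTheory CategoryTheory.Limits AlgebraicGeometry
open Variety

namespace Groth.Agent.S17373

/-- Let X be a geometrically integral scheme proper over a field k and L an ample invertible module on
X. Then there is an integer m₀ such that for all m ≥ m₀ and every numerically trivial invertible
module N (degree zero on every integral closed one-dimensional subscheme), H^0(X, L^m ⊗ N) has the
same k-dimension as H^0(X, L^m), and that dimension is positive. (The published statement is for a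
big divisor D and asserts that every invertible module numerically equivalent to O(mD) comes from an
effective divisor for m large; its argument reduces to ample D and establishes exactly the equality
of dimensions stated here.) -/
theorem result (k : Type u) [Field k] (X : Scheme.{u})
    [X.Over (Spec (CommRingCat.of k))] [IsIntegral X] [GeometricallyIntegral (X ↘ Spec (CommRingCat.of k))]
    [IsProper (X ↘ Spec (CommRingCat.of k))]
    (L : X.Modules) (hL : CohB1.IsAmple L) :
    ∃ m₀ : ℕ, ∀ m : ℕ, m₀ ≤ m → ∀ N : X.Modules, PicF.IsInvertible N → Pic13.IsNumEquivZero k X N →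
      Module.finrank k (Coh.HH X (CohB1.tensorMod (CohB1.tensorPow L m) N) 0) =
          Module.finrank k (Coh.HH X (CohB1.tensorPow L m) 0) ∧
        0 < Module.finrank k (Coh.HH X (CohB1.tensorPow L m) 0) := by
  haveI := Groth.Agent.Lib.Curves.GlobalSections.isNoetherian_of_proper k X
  obtain ⟨d, hd⟩ : ∃ d : ℕ, topologicalKrullDim X = d :=
    ⟨_, Groth.Agent.Lib.VarDim.Basic.topologicalKrullDim_irreducibleSpace (X ↘ Spec (CommRingCat.of k))⟩
  obtain ⟨a, m₁, -, hg⟩ := Groth.Agent.Lib.PosLin.SectionBound.exists_growth (k := k) hd hL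
  obtain ⟨m₀, hm₀⟩ := Groth.Agent.Lib.Nakai.UnifAbs.exists_h0_eq k hL
    (Groth.Agent.Lib.Snapper.Twist.isCoh_structureModule X)
  refine ⟨max m₀ (m₁ + 1), fun m hm N hN hNum => ⟨?_, ?_⟩⟩
  · have h := hm₀ m (le_trans (le_max_left _ _) hm) N (Groth.Agent.Lib.Nakai.UnifAbs.nta_of_num k hN hNum)
    have e1 := (Groth.Agent.Lib.Curves.LES.isoK k (Groth.Agent.Lib.TensorMod.Basic.tensorIso (Iso.refl N)
      (Groth.Agent.Lib.TensorMod.Basic.rightUnit (CohB1.tensorPow L m)) ≪≫
      Groth.Agent.Lib.TensorMod.Basic.comm _ _) 0).finrank_eq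
    have e2 := (Groth.Agent.Lib.Curves.LES.isoK k
      (Groth.Agent.Lib.TensorMod.Basic.rightUnit (CohB1.tensorPow L m)) 0).finrank_eq
    exact e1.symm.trans (h.trans e2)
  · have h := hg m (le_trans (Nat.le_succ _) (le_trans (le_max_right _ _) hm))
    rcases Nat.eq_zero_or_pos (Module.finrank k (Coh.HH X (CohB1.tensorPow L m) 0)) with h0 | h0
    · change m ^ d ≤ a * Module.finrank k (Coh.HH X (CohB1.tensorPow L m) 0) at h
      rw [h0, Nat.mul_zero] at h
      have : 0 < m ^ d := pow_pos (by have := le_trans (le_max_right _ _) hm; omega) d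
      omega
    · exact h0

end Groth.Agent.S17373
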