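import Groth.Statements.S17374
import Groth.Agent.Lib.Nakai.VolNum

set_option autoImplicit false
universe u
open CategoryTheory CategoryTheory.Limits AlgebraicGeometry
open scoped ENNReal
open Variety

namespace Groth.Agent.S17374

/-- Let X be a geometrically integral scheme of dimension d, proper over a field k and admitting an
ample invertible module, and let L, N be invertible modules on X with N numerically trivial (degree
zero on every integral closed one-dimensional subscheme). Then the upper limits of dim_k H^0(X, (L ⊗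
N)^m) / m^d and of dim_k H^0(X, L^m) / m^d as m → ∞, taken in the extended non-negative reals,
agree; that is, the volume of an invertible module depends only on its numerical equivalence class. -/
theorem result (k : Type u) [Field k] (X : Scheme.{u})
    [X.Over (Spec (CommRingCat.of k))] [IsIntegral X] [GeometricallyIntegral (X ↘ Spec (CommRingCat.of k))]
    [IsProper (X ↘ Spec (CommRingCat.of k))]
    (hproj : ∃ A : X.Modules, CohB1.IsAmple A) (d : ℕ) (hd : topologicalKrullDim X = d)
    (L N : X.Modules) (hL : PicF.IsInvertible L) (hN : PicF.IsInvertible N) (hNum : Pic13.IsNumEquivZero k X N) :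
    Filter.limsup (fun m : ℕ => (Module.finrank k (Coh.HH X (CohB1.tensorPow (CohB1.tensorMod L N) m) 0) : ℝ≥0∞) /
        (m : ℝ≥0∞) ^ d) Filter.atTop =
      Filter.limsup (fun m : ℕ => (Module.finrank k (Coh.HH X (CohB1.tensorPow L m) 0) : ℝ≥0∞) /
        (m : ℝ≥0∞) ^ d) Filter.atTop := by
  obtain ⟨A, hA⟩ := hproj
  have hN' := Groth.Agent.Lib.TensorMod.Invertible.isInvertible_dual hN
  have hLN := Groth.Agent.Lib.TensorMod.Invertible.isInvertible_tensorMod hL hN
  have h1 := Groth.Agent.Lib.Nakai.VolNum.limsup_le (k := k) hd hA hL hN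
    (Groth.Agent.Lib.Nakai.VolNum.nef_dual (k := k) hd.le hN hNum)
  have hnef : Groth.Agent.Lib.Nakai.Kleiman.Nef k d
      (Groth.Agent.Lib.TensorMod.Dual.dual (Groth.Agent.Lib.TensorMod.Dual.dual N)) := by
    intro z hz
    have h0 := Groth.Agent.Lib.Nakai.NefConv.nef_of_curves (k := k) (N := d) hd.le hN
      (fun Y i _ hY hY1 => (hNum Y i hY hY1).ge) z hz
    have e := Groth.Agent.Lib.PosLin.Volume.inverseIso hN'
      (Groth.Agent.Lib.TensorMod.Invertible.tensorDualIso hN)
    simp only [Groth.Agent.Lib.Nakai.Cut.ip, List.length_singleton] at h0 ⊢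
    rwa [Groth.Agent.Lib.Snapper.IntNum.sym_cons_iso e] at h0
  have h2 := Groth.Agent.Lib.Nakai.VolNum.limsup_le (k := k) hd hA hLN hN' hnef
  refine le_antisymm h1 (le_trans (le_of_eq ?_) h2)
  refine congrArg (fun f => Filter.limsup f Filter.atTop) (funext fun m => ?_)
  exact congrArg (fun r : ℕ => (r : ℝ≥0∞) / (m : ℝ≥0∞) ^ d)
    (Groth.Agent.Lib.PosLin.SectionBound.h0_congr (k := k) (Groth.Agent.Lib.Ample.Pow.powIso
      (Groth.Agent.Lib.TensorMod.Basic.assoc L N _ ≪≫
        Groth.Agent.Lib.TensorMod.Basic.tensorIso (Iso.refl L)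
          (Groth.Agent.Lib.TensorMod.Invertible.tensorDualIso hN) ≪≫
        Groth.Agent.Lib.TensorMod.Basic.rightUnit L).symm m))

end Groth.Agent.S17374
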