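import Groth.Statements.S17375
import Groth.Agent.Lib.GenFinite96.Basic
import Groth.Agent.Lib.GenFinite96.Rank
-- import your own Groth.Agent.* helpers here

set_option autoImplicit false
set_option linter.style.haveILetI false
universe u
open CategoryTheory CategoryTheory.Limits AlgebraicGeometry Asymptotics
open Variety

namespace Groth.Agent.S17375

/-- Let X and Y be geometrically integral schemes proper over a field k, each admitting an ample
invertible module, with X of dimension d, and let f : Y → X be a k-morphism which is dominant and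
generically finite of degree n ≥ 1: f maps the generic point of Y to the generic point of X and the
induced extension of function fields has finite degree n. Then for every invertible module L on X
the difference dim_k H^0(Y, (f^*L)^m) − n · dim_k H^0(X, L^m) is O(m^(d−1)) as m → ∞ (so the volume
of f^*L is n times that of L). -/
theorem result (k : Type u) [Field k] (X Y : Scheme.{u})
    [X.Over (Spec (CommRingCat.of k))] [Y.Over (Spec (CommRingCat.of k))] [IsIntegral X] [IsIntegral Y]
    [GeometricallyIntegral (X ↘ Spec (CommRingCat.of k))] [GeometricallyIntegral (Y ↘ Spec (CommRingCat.of k))]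
    [IsProper (X ↘ Spec (CommRingCat.of k))] [IsProper (Y ↘ Spec (CommRingCat.of k))]
    (hXproj : ∃ A : X.Modules, CohB1.IsAmple A) (hYproj : ∃ B : Y.Modules, CohB1.IsAmple B)
    (d : ℕ) (hd : topologicalKrullDim X = d)
    (f : Y ⟶ X) (hf : f ≫ (X ↘ Spec (CommRingCat.of k)) = Y ↘ Spec (CommRingCat.of k))
    (hdom : f.base (genericPoint Y) = genericPoint X) (n : ℕ) (hn : f.residueDegree (genericPoint Y) = n) (hn0 : 0 < n)
    (L : X.Modules) (hL : PicF.IsInvertible L) :
    (fun m : ℕ => (Module.finrank k (Coh.HH Y (CohB1.tensorPow ((Scheme.Modules.pullback f).obj L) m) 0) : ℝ) -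
        n * Module.finrank k (Coh.HH X (CohB1.tensorPow L m) 0)) =O[Filter.atTop]
      (fun m : ℕ => (m : ℝ) ^ (d - 1)) := by
  obtain ⟨A, hA⟩ := hXproj
  obtain ⟨B, hB⟩ := hYproj
  haveI : IsProper (f ≫ (X ↘ Spec (CommRingCat.of k))) := hf ▸ inferInstance
  haveI : IsProper f := IsProper.of_comp f (X ↘ Spec (CommRingCat.of k))
  obtain ⟨G, hG, hr, K, -, hK⟩ := Lib.GenFinite96.exists_near (k := k) f hf hA hB hL hd hdom hn hn0.ne' 0
  obtain ⟨K', -, hK'⟩ := Lib.GenFinite96.Rank.exists_bound_rank (k := k) hd hA hL hG hr 0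
  refine Asymptotics.IsBigO.of_bound (((K + K') * 2 ^ (d - 1) : ℕ) : ℝ) ?_
  filter_upwards [Filter.eventually_ge_atTop 1] with m hm
  rw [Real.norm_eq_abs, Real.norm_of_nonneg (by positivity)]
  obtain ⟨h1, h2⟩ := hK m
  obtain ⟨h3, h4⟩ := hK' m
  have hE : (K + K') * (m + 1) ^ (d - 1) ≤ (K + K') * 2 ^ (d - 1) * m ^ (d - 1) := by
    refine le_of_le_of_eq (Nat.mul_le_mul_left _ (Nat.pow_le_pow_left (show m + 1 ≤ 2 * m by omega) _)) ?_
    rw [mul_pow, mul_assoc]
  have e : (K + K') * (m + 1) ^ (d - 1) = K * (m + 1) ^ (d - 1) + K' * (m + 1) ^ (d - 1) := Nat.add_mul _ _ _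
  have g1 : Module.finrank k (Coh.HH Y (CohB1.tensorPow ((Scheme.Modules.pullback f).obj L) m) 0) ≤
      n * Module.finrank k (Coh.HH X (CohB1.tensorPow L m) 0) + (K + K') * 2 ^ (d - 1) * m ^ (d - 1) := by
    calc _ ≤ _ := h1
      _ ≤ _ := Nat.add_le_add_right h3 _
      _ ≤ _ := by rw [Nat.add_assoc, Nat.add_comm (K' * _), ← e]; exact Nat.add_le_add_left hE _
  have g2 : n * Module.finrank k (Coh.HH X (CohB1.tensorPow L m) 0) ≤
      Module.finrank k (Coh.HH Y (CohB1.tensorPow ((Scheme.Modules.pullback f).obj L) m) 0) +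
        (K + K') * 2 ^ (d - 1) * m ^ (d - 1) := by
    calc _ ≤ _ := h4
      _ ≤ _ := Nat.add_le_add_right h2 _
      _ ≤ _ := by rw [Nat.add_assoc, ← e]; exact Nat.add_le_add_left hE _
  rify at g1 g2
  rw [abs_le]
  push_cast
  constructor <;> linarith


end Groth.Agent.S17375
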