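import Groth.Statements.S4808
import Groth.Agent.H26.BirationalZMT


set_option autoImplicit false
universe u
open CategoryTheory AlgebraicGeometry
open Lim8

namespace Groth.Agent.S4808

/-- Let Y' and Y be integral schemes, Y normal (every local ring of Y is integrally closed), and u : Y'
⟶ Y a finite morphism which is birational: u maps the generic point of Y' to the generic point of Y
and the stalk map of u at the generic point of Y', which is the induced homomorphism of function
fields, is an isomorphism. Then u is an isomorphism. -/
theorem result {Y' Y : Scheme.{u}} [IsIntegral Y'] [IsIntegral Y]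
    (hN : ∀ y : Y, IsIntegrallyClosed (Y.presheaf.stalk y)) (u : Y' ⟶ Y) [IsFinite u]
    (hgen : u (genericPoint Y') = genericPoint Y)
    (hbir : IsIso (u.stalkMap (genericPoint Y'))) : IsIso u := by
  have := Groth.Agent.H26.BirationalZMT.isOpenImmersion u hgen hbir hN
  have hclopen : IsClopen (Set.range u) :=
    ⟨u.isClosedMap.isClosed_range, u.isOpenEmbedding.isOpen_range⟩
  have : Surjective u := ⟨Set.range_eq_univ.mp (hclopen.eq_univ (Set.range_nonempty _))⟩
  have : Epi u.base := (TopCat.epi_iff_surjective _).mpr u.surjective
  exact IsOpenImmersion.isIso u

end Groth.Agent.S4808
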