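import Groth.Statements.S17377
import Groth.Agent.S4808
import Groth.Agent.Lib.Ideal.EffCartier
import Mathlib.AlgebraicGeometry.Morphisms.FlatMono
import Mathlib.AlgebraicGeometry.Morphisms.Etale
-- import your own Groth.Agent.* helpers here

set_option autoImplicit false
set_option linter.style.haveILetI false
universe u
open CategoryTheory CategoryTheory.Limits AlgebraicGeometry
open Variety

namespace Groth.Agent.S17377

/-- An open subscheme piece of a closed subscheme has the same ideal away from the rest. -/
theorem ideal_ker_comp_eq {Z P Y : Scheme.{u}} (e : Z ⟶ P) (j : P ⟶ Y) [IsOpenImmersion e] [QuasiCompact j]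
    [QuasiCompact (e ≫ j)] (U : Y.affineOpens) (h : j ⁻¹ᵁ U.1 ≤ e.opensRange) :
    (e ≫ j).ker.ideal U = j.ker.ideal U := by
  haveI : IsIso (e.app (j ⁻¹ᵁ U.1)) := e.isIso_app _ h
  ext a
  simp only [Scheme.Hom.ker_apply, RingHom.mem_ker, Scheme.Hom.comp_app, CommRingCat.hom_comp, RingHom.comp_apply]
  exact map_eq_zero_iff _ (ConcreteCategory.bijective_of_isIso (e.app (j ⁻¹ᵁ U.1))).1


/-- Let X and Y be integral normal schemes locally of finite type over a field k and f : Y → X a finite
étale k-morphism; let D ⊆ X be a closed subscheme which is an effective Cartier divisor and is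
integral and normal as a scheme, and E ⊆ Y an integral closed subscheme mapping to D by a surjective
morphism g compatible with the inclusions whose residue-field extension at the generic point of E
has degree 1 (so E is a prime divisor of Y over D with the same function field: D splits in Y at the
level of Weil divisors). Then g is an isomorphism and E is an effective Cartier divisor on Y; in
particular D is the image of the relative Cartier divisor E (D is c-split). (The source works with
projective, geometrically normal and geometrically integral X, Y of dimension at least 2 and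
geometrically normal, geometrically integral D; those hypotheses only serve base change to extension
fields and are dropped here.) -/
theorem result (k : Type u) [Field k] (X Y : Scheme.{u})
    [X.Over (Spec (CommRingCat.of k))] [Y.Over (Spec (CommRingCat.of k))]
    [LocallyOfFiniteType (X ↘ Spec (CommRingCat.of k))] [LocallyOfFiniteType (Y ↘ Spec (CommRingCat.of k))]
    [IsIntegral X] [IsIntegral Y] (hX : Pi1.IsNormalScheme X) (hY : Pi1.IsNormalScheme Y)
    (f : Y ⟶ X) (hf : f ≫ (X ↘ Spec (CommRingCat.of k)) = Y ↘ Spec (CommRingCat.of k)) [IsFinite f] [Etale f]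
    (D : X.IdealSheafData) (hD : FGA.IsEffCartier D) [IsIntegral D.subscheme] (hDn : Pi1.IsNormalScheme D.subscheme)
    (E : Y.IdealSheafData) [IsIntegral E.subscheme]
    (g : (E.subscheme : Scheme.{u}) ⟶ D.subscheme) (hg : g ≫ D.subschemeι = E.subschemeι ≫ f)
    (hsurj : Function.Surjective g.base) (hdeg : g.residueDegree (genericPoint E.subscheme) = 1) :
    IsIso g ∧ FGA.IsEffCartier E := by
  classical
  haveI : IsLocallyNoetherian X := LocallyOfFiniteType.isLocallyNoetherian (X ↘ Spec (CommRingCat.of k))
  haveI : IsFinite (g ≫ D.subschemeι) := by rw [hg]; infer_instance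
  haveI : IsFinite g := IsFinite.of_comp g D.subschemeι
  -- the generic point goes to the generic point
  have hgen : g (genericPoint E.subscheme) = genericPoint D.subscheme := by
    refine IsGenericPoint.eq ?_ (genericPoint_spec D.subscheme)
    have h := (genericPoint_spec E.subscheme).image g.continuous
    rwa [Set.image_univ, hsurj.range_eq, closure_univ] at h
  have hbir : IsIso (g.stalkMap (genericPoint E.subscheme)) := by
    let A := D.subscheme.presheaf.stalk (g (genericPoint E.subscheme))
    let B := E.subscheme.presheaf.stalk (genericPoint E.subscheme)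
    have hA : IsField A := by
      have : ∀ x, x = genericPoint D.subscheme → IsField (D.subscheme.presheaf.stalk x) := by
        rintro x rfl
        exact @Field.toIsField D.subscheme.functionField inferInstance
      exact this _ hgen
    letI : Field A := hA.toField
    have hB : IsField B := (inferInstance : Field E.subscheme.functionField).toIsField
    let := (g.residueFieldMap (genericPoint E.subscheme)).hom.toAlgebra
    have hsurjr : Function.Surjective (g.residueFieldMap (genericPoint E.subscheme)).hom := by
      have h1 : Module.finrank (D.subscheme.residueField (g (genericPoint E.subscheme)))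
          (E.subscheme.residueField (genericPoint E.subscheme)) = 1 := hdeg
      haveI : Module.Finite (D.subscheme.residueField (g (genericPoint E.subscheme)))
          (E.subscheme.residueField (genericPoint E.subscheme)) := Module.finite_of_finrank_eq_succ h1
      exact (bijective_algebraMap_of_linearEquiv
        (LinearEquiv.ofFinrankEq _ _ ((Module.finrank_self _).trans h1.symm))).2
    haveI : Function.Bijective (g.stalkMap (genericPoint E.subscheme)).hom → IsIso (g.stalkMap (genericPoint E.subscheme)) :=
      fun h => (ConcreteCategory.isIso_iff_bijective _).2 h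
    refine this ⟨(g.stalkMap (genericPoint E.subscheme)).hom.injective, fun b => ?_⟩
    obtain ⟨r, hr⟩ := hsurjr (E.subscheme.residue _ b)
    obtain ⟨a, rfl⟩ := D.subscheme.residue_surjective _ r
    refine ⟨a, ?_⟩
    have hker : Function.Injective (E.subscheme.residue (genericPoint E.subscheme)).hom := by
      letI : Field B := hB.toField
      exact RingHom.injective _
    refine hker ?_
    rw [← hr]
    exact (congrArg (fun φ => φ.hom a) (Scheme.residue_residueFieldMap g (genericPoint E.subscheme))).symm
  haveI hiso : IsIso g := Groth.Agent.S4808.result (fun y => (hDn y).2) g hgen hbir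
  refine ⟨hiso, ?_⟩
  -- `E` is open and closed in the inverse image of `D`
  let j : pullback f D.subschemeι ⟶ Y := pullback.fst f D.subschemeι
  let e : E.subscheme ⟶ pullback f D.subschemeι := pullback.lift E.subschemeι g hg.symm
  have hej : e ≫ j = E.subschemeι := pullback.lift_fst _ _ _
  haveI : Etale (e ≫ pullback.snd f D.subschemeι) := by
    rw [pullback.lift_snd]; infer_instance
  haveI : Etale e := Etale.of_comp e (pullback.snd f D.subschemeι)
  haveI : IsClosedImmersion (e ≫ j) := by rw [hej]; infer_instance
  haveI : IsClosedImmersion e := IsClosedImmersion.of_comp e j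
  haveI : IsOpenImmersion e := IsOpenImmersion.of_flat_of_mono e
  have hrest : IsClosed (j '' (Set.range e)ᶜ) :=
    j.isClosedEmbedding.isClosedMap _ e.isOpenEmbedding.isOpen_range.isClosed_compl
  -- the inverse image of `D` is effective Cartier
  have hC : BlowUp.IsEffCartierIdeal (D.comap f) := by
    refine Lib.Ideal.EffCartier.isEffCartier_comap f hD fun U s hs _ y hy => ?_
    apply mem_nonZeroDivisors_of_ne_zero
    have hs0 : X.presheaf.germ U.1 (f y) hy s ≠ 0 := by
      haveI : Nonempty U.1 := ⟨⟨_, hy⟩⟩
      exact fun h => nonZeroDivisors.ne_zero hs (germ_injective_of_isIntegral X (f y) hy (h.trans (map_zero _).symm))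
    have hfl : (f.stalkMap y).hom.Flat := Flat.stalkMap f y
    letI := (f.stalkMap y).hom.toAlgebra
    haveI : Module.Flat (X.presheaf.stalk (f y)) (Y.presheaf.stalk y) := hfl
    haveI : IsLocalHom (algebraMap (X.presheaf.stalk (f y)) (Y.presheaf.stalk y)) :=
      inferInstanceAs (IsLocalHom (f.stalkMap y).hom)
    haveI : Module.FaithfullyFlat (X.presheaf.stalk (f y)) (Y.presheaf.stalk y) :=
      Module.FaithfullyFlat.of_flat_of_isLocalHom
    refine fun h => hs0 (FaithfulSMul.algebraMap_injective (X.presheaf.stalk (f y)) (Y.presheaf.stalk y) ?_)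
    rw [map_zero]
    exact (Scheme.Hom.germ_stalkMap_apply f U.1 y hy s).trans h
  intro y
  by_cases hy : y ∈ Set.range E.subschemeι
  · obtain ⟨z, rfl⟩ := hy
    have hz : E.subschemeι z ∈ (⟨_, hrest.isOpen_compl⟩ : Y.Opens) := by
      rintro ⟨p, hp, hpe⟩
      refine hp ⟨z, ?_⟩
      apply j.isClosedEmbedding.injective
      rw [hpe, ← hej]
      rfl
    obtain ⟨U, hzU, hUW, a, ha, he⟩ := Lib.Ideal.EffCartier.exists_gen hC (E.subschemeι z) hz
    refine ⟨U, hzU, a, ha, ?_⟩
    rw [← he]
    have hle : j ⁻¹ᵁ U.1 ≤ e.opensRange := fun p hp => by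
      by_contra hpe
      exact hUW hp ⟨p, hpe, rfl⟩
    calc E.ideal U = (E.subschemeι).ker.ideal U := by rw [Scheme.IdealSheafData.ker_subschemeι]
      _ = (e ≫ j).ker.ideal U := by rw [hej]
      _ = j.ker.ideal U := ideal_ker_comp_eq e j U hle
      _ = (D.comap f).ideal U := rfl
  · rw [Scheme.IdealSheafData.range_subschemeι] at hy
    obtain ⟨U, hU, hyU, hUE⟩ := exists_isAffineOpen_mem_and_subset
      (show y ∈ (⟨(E.support : Set Y)ᶜ, E.support.isClosed.isOpen_compl⟩ : Y.Opens) from hy)
    refine ⟨⟨U, hU⟩, hyU, 1, Submonoid.one_mem _, ?_⟩
    rw [Ideal.span_singleton_one]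
    conv_lhs => rw [← Scheme.IdealSheafData.ker_subschemeι E, Scheme.Hom.ker_apply]
    have hbot : E.subschemeι ⁻¹ᵁ U = ⊥ := by
      ext x
      simp only [TopologicalSpace.Opens.coe_bot, Set.mem_empty_iff_false, iff_false]
      exact fun hx => hUE hx (E.range_subschemeι.subset ⟨x, rfl⟩)
    haveI : Subsingleton Γ(E.subscheme, E.subschemeι ⁻¹ᵁ U) := by
      rw [hbot]; infer_instance
    exact eq_top_iff.2 fun a _ => RingHom.mem_ker.2 (Subsingleton.elim _ _)


end Groth.Agent.S17377
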