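import Groth.Statements.S17380
import Groth.Agent.Lib.Nakai.UnifAbs

set_option autoImplicit false
universe u
open CategoryTheory CategoryTheory.Limits AlgebraicGeometry
open scoped ENNReal
open Variety

namespace Groth.Agent.S17380

/-- Let X be a geometrically integral scheme of dimension d, proper over a field k and admitting an
ample invertible module, and L an invertible module on X which is big, i.e. the lower limit of dim_k
H^0(X, L^m)/m^d as m → ∞ is positive. Then some power L^a, a > 0, is such that H^0(X, L^(aj) ⊗ N) ≠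
0 for every j > 0 and every numerically trivial invertible module N (degree zero on every integral
closed one-dimensional subscheme); in other words every invertible module numerically equivalent to
L^(aj) comes from an effective divisor. (The published statement asserts this for all sufficiently
large powers of L; its printed reduction to an ample module yields one power a and its multiples,
which is what is stated.) -/
theorem result (k : Type u) [Field k] (X : Scheme.{u})
    [X.Over (Spec (CommRingCat.of k))] [IsIntegral X] [GeometricallyIntegral (X ↘ Spec (CommRingCat.of k))]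
    [IsProper (X ↘ Spec (CommRingCat.of k))] (hproj : ∃ A : X.Modules, CohB1.IsAmple A)
    (d : ℕ) (hd : topologicalKrullDim X = d) (L : X.Modules) (hL : PicF.IsInvertible L)
    (hbig : 0 < Filter.liminf (fun m : ℕ => (Module.finrank k (Coh.HH X (CohB1.tensorPow L m) 0) : ℝ≥0∞) /
        (m : ℝ≥0∞) ^ d) Filter.atTop) :
    ∃ a : ℕ, 0 < a ∧ ∀ j : ℕ, 0 < j → ∀ N : X.Modules, PicF.IsInvertible N → Pic13.IsNumEquivZero k X N →
      0 < Module.finrank k (Coh.HH X (CohB1.tensorMod (CohB1.tensorPow L (a * j)) N) 0) := by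
  obtain ⟨A, hA⟩ := hproj
  haveI := Groth.Agent.Lib.Curves.GlobalSections.isNoetherian_of_proper k X
  have hu := Groth.Agent.Lib.PosLin.Volume.exists_large_of_limsup_pos
    (h := fun m => Module.finrank k (Coh.HH X (CohB1.tensorPow L m) 0)) (d := d)
    (hbig.trans_le Filter.liminf_le_limsup)
  obtain ⟨a₁, m₁, -, hg⟩ := Groth.Agent.Lib.PosLin.SectionBound.exists_growth (k := k) hd hA
  obtain ⟨m₀, hm₀⟩ := Groth.Agent.Lib.Nakai.UnifAbs.exists_h0_eq k hA
    (Groth.Agent.Lib.Snapper.Twist.isCoh_structureModule X)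
  set c := max m₀ (m₁ + 1) with hc
  have hc₀ : 0 < c := lt_of_lt_of_le (Nat.succ_pos m₁) (le_max_right _ _)
  have hH1 := Groth.Agent.Lib.TensorMod.Invertible.isInvertible_tensorPow hA.1 c
  obtain ⟨ν, hν, hsec⟩ := Groth.Agent.Lib.PosLin.Kodaira.exists_sections (k := k) hd hA hL hu hH1
  refine ⟨ν, hν, fun j hj N hN hNum => ?_⟩
  set E := CohB1.tensorMod (Groth.Agent.Lib.TensorMod.Dual.dual (CohB1.tensorPow A c)) (CohB1.tensorPow L ν)
  have hE : PicF.IsInvertible E := Groth.Agent.Lib.TensorMod.Invertible.isInvertible_tensorMod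
    (Groth.Agent.Lib.TensorMod.Invertible.isInvertible_dual hH1)
    (Groth.Agent.Lib.TensorMod.Invertible.isInvertible_tensorPow hL ν)
  obtain ⟨s, hs⟩ := Groth.Agent.Lib.PosLin.Kodaira.exists_section (k := k) hsec
  have hcj : c ≤ c * j := Nat.le_mul_of_pos_right c hj
  have h1 : 0 < Module.finrank k (Coh.HH X (CohB1.tensorMod (CohB1.tensorPow A (c * j)) N) 0) := by
    have h := hm₀ (c * j) (le_trans (le_max_left _ _) hcj) N
      (Groth.Agent.Lib.Nakai.UnifAbs.nta_of_num k hN hNum)
    have e1 := (Groth.Agent.Lib.Curves.LES.isoK k (Groth.Agent.Lib.TensorMod.Basic.tensorIso (Iso.refl N)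
      (Groth.Agent.Lib.TensorMod.Basic.rightUnit (CohB1.tensorPow A (c * j))) ≪≫
      Groth.Agent.Lib.TensorMod.Basic.comm _ _) 0).finrank_eq
    have e2 := (Groth.Agent.Lib.Curves.LES.isoK k
      (Groth.Agent.Lib.TensorMod.Basic.rightUnit (CohB1.tensorPow A (c * j))) 0).finrank_eq
    rw [← e1, h, e2]
    have h' := hg (c * j) (le_trans (Nat.le_succ _) (le_trans (le_max_right _ _) hcj))
    rcases Nat.eq_zero_or_pos (Module.finrank k (Coh.HH X (CohB1.tensorPow A (c * j)) 0)) with h0 | h0
    · change (c * j) ^ d ≤ a₁ * Module.finrank k (Coh.HH X (CohB1.tensorPow A (c * j)) 0) at h'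
      rw [h0, Nat.mul_zero] at h'
      have : 0 < (c * j) ^ d := pow_pos (Nat.mul_pos hc₀ hj) d
      omega
    · exact h0
  obtain ⟨s₁, hs₁⟩ := Groth.Agent.Lib.PosLin.Kodaira.exists_section (k := k)
    (M := CohB1.tensorMod (CohB1.tensorPow A (c * j)) N) h1
  -- `E^j` has a nonzero section
  have hEj : 0 < Module.finrank k (Coh.HH X (CohB1.tensorPow E j) 0) := by
    clear hcj h1 s₁ hs₁
    induction j, (show 1 ≤ j from hj) using Nat.le_induction with
    | base =>
      have e : CohB1.tensorPow E 1 ≅ E := Groth.Agent.Lib.TensorMod.Basic.leftUnit E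
      rw [(Groth.Agent.Lib.Curves.LES.isoK k e 0).finrank_eq]
      exact hsec
    | succ j hj' ihj =>
      exact lt_of_lt_of_le (ihj (by omega)) (Groth.Agent.Lib.PosLin.SectionBound.h0_le_twist_invertible (k := k)
        (Groth.Agent.Lib.TensorMod.Invertible.isInvertible_tensorPow hE j) hE s hs)
  obtain ⟨s₂, hs₂⟩ := Groth.Agent.Lib.PosLin.Kodaira.exists_section (k := k) (M := CohB1.tensorPow E j) hEj
  have h3 := Groth.Agent.Lib.PosLin.SectionBound.h0_le_twist_invertible (k := k)
    (Groth.Agent.Lib.TensorMod.Invertible.isInvertible_tensorMod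
      (Groth.Agent.Lib.TensorMod.Invertible.isInvertible_tensorPow hA.1 (c * j)) hN)
    (Groth.Agent.Lib.TensorMod.Invertible.isInvertible_tensorPow hE j) s₂ hs₂
  have e3 := (Groth.Agent.Lib.Curves.LES.isoK k
    (show CohB1.tensorMod (CohB1.tensorMod (CohB1.tensorPow A (c * j)) N) (CohB1.tensorPow E j) ≅
        CohB1.tensorMod (CohB1.tensorPow L (ν * j)) N from
      Groth.Agent.Lib.TensorMod.Basic.assoc _ _ _ ≪≫
        Groth.Agent.Lib.TensorMod.Basic.tensorIso (Iso.refl _) (Groth.Agent.Lib.TensorMod.Basic.comm _ _) ≪≫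
        (Groth.Agent.Lib.TensorMod.Basic.assoc _ _ _).symm ≪≫
        Groth.Agent.Lib.TensorMod.Basic.tensorIso
          (Groth.Agent.Lib.TensorMod.Basic.tensorIso (Groth.Agent.Lib.Ample.Pow.powMul A c j).symm
              (Iso.refl _) ≪≫ (Groth.Agent.Lib.Ample.Pow.powTensor _ _ j).symm ≪≫
            Groth.Agent.Lib.Ample.Pow.powIso
              ((Groth.Agent.Lib.TensorMod.Basic.assoc _ _ _).symm ≪≫
                Groth.Agent.Lib.TensorMod.Basic.tensorIso
                  (Groth.Agent.Lib.TensorMod.Invertible.tensorDualIso hH1) (Iso.refl _) ≪≫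
                Groth.Agent.Lib.TensorMod.Basic.leftUnit _) j ≪≫
            Groth.Agent.Lib.Ample.Pow.powMul L ν j)
          (Iso.refl _)) 0).finrank_eq
  exact lt_of_lt_of_le h1 (h3.trans e3.le)

end Groth.Agent.S17380
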