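import Groth.Statements.S17386
import Groth.Agent.H22.StrictTransform.Closed
import Groth.Agent.H22.StrictTransform.Disjoint
import Groth.Agent.S8853

set_option autoImplicit false
universe u
open BlowUp

namespace Groth.Agent.S17386

open AlgebraicGeometry CategoryTheory Limits in
/-- Let X be any scheme, J_1, …, J_n quasi-coherent ideals on X with closed subschemes Y_i, and b : X' →
X a blowing up of X in the ideal J_1 + ⋯ + J_n of the intersection of the Y_i. For each i let b_i' :
Y_i' → Y_i be a blowing up of Y_i in the inverse image of J_1 + ⋯ + J_n and k_i : Y_i' → X' the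
morphism with k_i ≫ b = b_i' ≫ (Y_i → X), so that the image of k_i is the strict transform of Y_i.
Then the strict transforms have empty common intersection: no point of X' lies in the image of every
k_i. -/
theorem result
    {X X' : Scheme.{u}} {n : ℕ} (𝓙 : Fin n → X.IdealSheafData) (b : X' ⟶ X)
    (hb : BlowUp.IsBlowUp b (⨆ i, 𝓙 i))
    (Y' : Fin n → Scheme.{u}) (b' : ∀ i, Y' i ⟶ (𝓙 i).subscheme)
    (hb' : ∀ i, BlowUp.IsBlowUp (b' i) ((⨆ j, 𝓙 j).comap (𝓙 i).subschemeι))
    (k : ∀ i, Y' i ⟶ X') (hk : ∀ i, k i ≫ b = b' i ≫ (𝓙 i).subschemeι) :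
    (⋂ i, Set.range (fun y => k i y)) = (∅ : Set X') := by
  refine Set.eq_empty_iff_forall_notMem.2 fun x hx => ?_
  refine (Set.ext_iff.1 (Groth.Agent.H22.StrictTransform.iInter_closure_eq_empty 𝓙 b hb.1) x).1
    (Set.mem_iInter.2 fun i => ?_)
  obtain ⟨y, rfl⟩ := Set.mem_iInter.1 hx i
  set E := ((⨆ j, 𝓙 j).comap (𝓙 i).subschemeι).comap (b' i) with hEdef
  have hE : BlowUp.IsEffCartierIdeal E := (hb' i).1
  haveI : IsAffineHom (Groth.Agent.H22.StrictTransform.off E).ι :=
    Groth.Agent.S8853.result E fun x _ => by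
      obtain ⟨U, hxU, f, -, hf⟩ := hE x
      exact ⟨U, hxU, f, hf⟩
  have hd : y ∈ closure (Set.range (Groth.Agent.H22.StrictTransform.off E).ι) := by
    rw [← Scheme.Hom.support_ker, Groth.Agent.H22.StrictTransform.ker_ι_off_eq_bot hE]
    simp
  rw [Scheme.Opens.range_ι] at hd
  refine map_mem_closure (k i).continuous hd fun w hw => ?_
  have hbk : b (k i w) = (𝓙 i).subschemeι (b' i w) := by
    rw [← Scheme.Hom.comp_apply, hk i, Scheme.Hom.comp_apply]
  rw [Set.mem_preimage, hbk]
  refine ⟨?_, fun h => hw ?_⟩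
  · rw [← (𝓙 i).range_subschemeι]; exact ⟨_, rfl⟩
  · rw [SetLike.mem_coe, hEdef, ← Scheme.IdealSheafData.comap_comp,
      Scheme.IdealSheafData.support_comap]
    exact h

end Groth.Agent.S17386
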