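import Groth.Statements.S17391
import Groth.Agent.Lib.BlowLemma85.Eval

set_option autoImplicit false
universe u
open BlowUp

namespace Groth.Agent.S17391

open Groth.Agent.Lib.BlowLemma85.Eval Groth.Agent.Lib.Ideal.Comap
  Groth.Agent.Lib.Ideal.EffCartier

open AlgebraicGeometry CategoryTheory Limits in
/-- Let X and Z be schemes, p : Z → X a morphism, U ⊆ V ⊆ X open subschemes, and f : Y → Z a
quasi-compact immersion whose composite with p lands in U. Let I₁ be a quasi-coherent ideal on X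
whose support contains V ∖ U and is disjoint from U, and I₂ a quasi-coherent ideal whose support
lies in supp(I₁) ∖ V. Assume that the closed subscheme p⁻¹(V(I₁²)) ∩ Ȳ of Z, where Ȳ is the
scheme-theoretic image of f, is contained in p⁻¹(V(I₂)) as a closed subscheme: the inverse image
ideal of I₂ on Z lies in the sum of the inverse image ideal of I₁² and the kernel ideal of f. Then
for every blowing up q : X' → X of X in I₁ + I₂, writing Z' = Z ×_X X' → X' and Y' = Y ×_Z Z' → Z'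
for the base changes, the closure in Z' of the image of Y' is disjoint from the preimage in Z' of
the closure in X' of q⁻¹(V ∖ U). (The blowing up is an isomorphism over V, since the support of I₁ +
I₂ is that of I₂ and lies in X ∖ V; the point is that the closure of q⁻¹(V ∖ U) in X', which may
reach over X ∖ V, still misses the closure of Y'.) -/
theorem result
    {X Y Z X' : Scheme.{u}} (p : Z ⟶ X) (U V : X.Opens) (hUV : U ≤ V)
    (f : Y ⟶ Z) [IsImmersion f] [QuasiCompact f] (hY : Set.range (fun y => p (f y)) ⊆ (U : Set X))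
    (𝓘₁ 𝓘₂ : X.IdealSheafData)
    (h₁ : (V : Set X) \ (U : Set X) ⊆ (𝓘₁.support : Set X)) (h₁' : Disjoint (𝓘₁.support : Set X) (U : Set X))
    (h₂ : (𝓘₂.support : Set X) ⊆ (𝓘₁.support : Set X) \ (V : Set X))
    (hincl : 𝓘₂.comap p ≤ (𝓘₁ * 𝓘₁).comap p ⊔ f.ker)
    (q : X' ⟶ X) (hq : BlowUp.IsBlowUp q (𝓘₁ ⊔ 𝓘₂)) :
    Disjoint (closure (Set.range (fun y => (pullback.snd f (pullback.fst p q)) y)))
      ((fun z => (pullback.snd p q) z) ⁻¹'
        closure ((fun x' => q x') ⁻¹' ((V : Set X) \ (U : Set X)))) := by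
  rw [Set.disjoint_left]
  intro z hz hzc
  have hzc' : pullback.snd p q z ∈ closure ((fun x' => q x') ⁻¹' ((V : Set X) \ (U : Set X))) := hzc
  clear hzc
  set x' := pullback.snd p q z with hx'
  -- charts
  obtain ⟨A, hA, hxA, -⟩ := exists_isAffineOpen_mem_and_subset
    (show q x' ∈ (⊤ : X.Opens) from trivial)
  obtain ⟨W, hxW, hWA, e, he, hgen⟩ := exists_gen hq.1 x' (W := q ⁻¹ᵁ A) hxA
  have hzA : pullback.fst p q z ∈ p ⁻¹ᵁ A := by
    change p (pullback.fst p q z) ∈ A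
    rw [← Scheme.Hom.comp_apply, pullback.condition, Scheme.Hom.comp_apply]
    exact hxA
  obtain ⟨Wz, hWz, hzWz, hWzA⟩ := exists_isAffineOpen_mem_and_subset hzA
  obtain ⟨W', hW', hzW', hW'le⟩ := exists_isAffineOpen_mem_and_subset
    (show z ∈ pullback.snd p q ⁻¹ᵁ W.1 ⊓ pullback.fst p q ⁻¹ᵁ Wz from ⟨hxW, hzWz⟩)
  have eS : W' ≤ pullback.snd p q ⁻¹ᵁ W.1 := fun w hw => (hW'le hw).1
  have eF : W' ≤ pullback.fst p q ⁻¹ᵁ Wz := fun w hw => (hW'le hw).2
  set φ := (q.appLE A W.1 hWA).hom with hφ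
  set σ := ((pullback.snd p q).appLE W.1 W' eS).hom with hσ
  set π := ((pullback.fst p q).appLE Wz W' eF).hom with hπ
  set ψ := (p.appLE A Wz hWzA).hom with hψ
  have hcomm : σ.comp φ = π.comp ψ := by
    rw [hσ, hφ, hπ, hψ, ← CommRingCat.hom_comp, ← CommRingCat.hom_comp,
      Scheme.Hom.appLE_comp_appLE, Scheme.Hom.appLE_comp_appLE]
    simp only [pullback.condition]
  set J₁ := Ideal.map φ (𝓘₁.ideal ⟨A, hA⟩) with hJ₁
  set J₂ := Ideal.map φ (𝓘₂.ideal ⟨A, hA⟩) with hJ₂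
  have hJ : Ideal.span {e} = J₁ ⊔ J₂ := by
    rw [← hgen, ideal_comap q _ ⟨A, hA⟩ W hWA, hJ₁, hJ₂, hφ]
    simp only [Scheme.IdealSheafData.ideal_sup, Pi.sup_apply, Ideal.map_sup]
  set K₁ : Ideal Γ(X', W.1) := Submodule.comap (LinearMap.mulLeft Γ(X', W.1) e) J₁ with hK₁
  set K₂ : Ideal Γ(X', W.1) := Submodule.comap (LinearMap.mulLeft Γ(X', W.1) e) J₂ with hK₂
  have hdiv : ∀ (J : Ideal Γ(X', W.1)), J ≤ Ideal.span {e} →
      J ≤ Ideal.span {e} * (Submodule.comap (LinearMap.mulLeft Γ(X', W.1) e) J : Ideal Γ(X', W.1)) := by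
    intro J hle a ha
    obtain ⟨c, hc⟩ := Ideal.mem_span_singleton'.mp (hle ha)
    rw [← hc, mul_comm c e]
    refine Ideal.mul_mem_mul (Ideal.mem_span_singleton_self e) ?_
    change e * c ∈ J
    rw [mul_comm, hc]
    exact ha
  obtain ⟨k₁, hk₁, k₂, hk₂, h12⟩ : ∃ k₁ ∈ K₁, ∃ k₂ ∈ K₂, k₁ + k₂ = 1 := by
    obtain ⟨a, ha, b, hb, hab⟩ := Submodule.mem_sup.mp (hJ ▸ Ideal.mem_span_singleton_self e)
    obtain ⟨c, hc⟩ := Ideal.mem_span_singleton'.mp (hJ ▸ (le_sup_left : J₁ ≤ J₁ ⊔ J₂) ha : a ∈ Ideal.span {e})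
    obtain ⟨d, hd⟩ := Ideal.mem_span_singleton'.mp (hJ ▸ (le_sup_right : J₂ ≤ J₁ ⊔ J₂) hb : b ∈ Ideal.span {e})
    refine ⟨c, ?_, d, ?_, ?_⟩
    · change e * c ∈ J₁
      rw [mul_comm, hc]
      exact ha
    · change e * d ∈ J₂
      rw [mul_comm, hd]
      exact hb
    · refine (mul_cancel_left_mem_nonZeroDivisors he).mp ?_
      rw [mul_one, mul_add, mul_comm e c, mul_comm e d, hc, hd, hab]
  -- `K₁` vanishes at `x'`
  have hK₁x : K₁ ≤ vanishIdeal W.1 x' hxW := by
    intro g hg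
    refine mem_vanishIdeal_of_closure hxW hzc' fun t ht htW => ?_
    have htA : q t ∈ A := hWA htW
    have hev : ∀ a ∈ 𝓘₁.ideal ⟨A, hA⟩, φ a ∈ vanishIdeal W.1 t htW := fun a ha =>
      (appLE_mem_vanishIdeal q hWA t htW a).mpr ((mem_support_iff (U := ⟨A, hA⟩) htA).mp (h₁ ht) ha)
    have hJ₁t : J₁ ≤ vanishIdeal W.1 t htW := Ideal.map_le_iff_le_comap.mpr hev
    rcases (vanishIdeal_isPrime htW).mem_or_mem (hJ₁t hg : e * g ∈ vanishIdeal W.1 t htW) with he' | hg'
    · exfalso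
      have hsup : J₁ ⊔ J₂ ≤ vanishIdeal W.1 t htW := by
        rw [← hJ, Ideal.span_singleton_le_iff_mem]
        exact he'
      have h2 : q t ∈ 𝓘₂.support := by
        refine (mem_support_iff (U := ⟨A, hA⟩) htA).mpr fun b hb => ?_
        exact (appLE_mem_vanishIdeal q hWA t htW b).mp
          (hsup (le_sup_right (a := J₁) (Ideal.mem_map_of_mem φ hb)))
      exact (h₂ h2).2 ht.1
    · exact hg'
  -- the inclusion of ideals on the chart of `pullback p q`
  have hinclW : 𝓘₂.ideal ⟨A, hA⟩ ≤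
      Ideal.comap ψ (((𝓘₁ * 𝓘₁).comap p ⊔ f.ker).ideal ⟨Wz, hWz⟩) := by
    refine Ideal.map_le_iff_le_comap.mp ?_
    rw [hψ, ← ideal_comap p 𝓘₂ ⟨A, hA⟩ ⟨Wz, hWz⟩ hWzA]
    exact hincl _
  have hmem : σ (e * k₂) ∈ Ideal.span {σ e * σ e} * (Ideal.map σ K₁ * Ideal.map σ K₁) ⊔
      Ideal.map π (f.ker.ideal ⟨Wz, hWz⟩) := by
    have h1 : Ideal.map σ J₂ ≤ Ideal.map σ J₁ * Ideal.map σ J₁ ⊔ Ideal.map π (f.ker.ideal ⟨Wz, hWz⟩) := by
      rw [hJ₂, hJ₁, Ideal.map_map, Ideal.map_map, hcomm, ← Ideal.map_map, ← Ideal.map_map,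
        ← Ideal.map_mul, ← Ideal.map_mul, ← Ideal.map_sup]
      refine Ideal.map_mono ((Ideal.map_le_iff_le_comap.mpr hinclW).trans (le_of_eq ?_))
      rw [Scheme.IdealSheafData.ideal_sup, Pi.sup_apply, ideal_comap p _ ⟨A, hA⟩ ⟨Wz, hWz⟩ hWzA,
        Scheme.IdealSheafData.ideal_mul, Pi.mul_apply]
    refine SetLike.le_def.mp ?_ (h1 (Ideal.mem_map_of_mem σ hk₂))
    refine sup_le_sup_right ?_ _
    have h2 : Ideal.map σ J₁ ≤ Ideal.span {σ e} * Ideal.map σ K₁ := by
      rw [← Set.image_singleton, ← Ideal.map_span, ← Ideal.map_mul]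
      exact Ideal.map_mono (hdiv J₁ (le_sup_left.trans hJ.ge))
    refine (Ideal.mul_mono h2 h2).trans (le_of_eq ?_)
    rw [mul_mul_mul_comm, Ideal.span_singleton_mul_span_singleton]
  obtain ⟨a, ha, d, hd, had⟩ := Submodule.mem_sup.mp hmem
  obtain ⟨c, hc, rfl⟩ := Ideal.mem_span_singleton_mul.mp ha
  set h := σ k₂ - σ e * c with hh
  have hhz : z ∈ (pullback p q).basicOpen h := by
    by_contra hcon
    have hcon' : h ∈ vanishIdeal W' z hzW' := (mem_vanishIdeal hzW').mpr hcon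
    have hσK : Ideal.map σ K₁ ≤ vanishIdeal W' z hzW' := by
      refine Ideal.map_le_iff_le_comap.mpr fun g hg => ?_
      exact (appLE_mem_vanishIdeal (pullback.snd p q) eS z hzW' g).mpr (hK₁x hg)
    have hec : σ e * c ∈ vanishIdeal W' z hzW' :=
      Ideal.mul_mem_left _ _ (hσK (Ideal.mul_le_left hc))
    have hk2 : σ k₂ ∈ vanishIdeal W' z hzW' := by
      have := Ideal.add_mem _ hcon' hec
      rwa [hh, sub_add_cancel] at this
    have h1 : σ 1 ∈ vanishIdeal W' z hzW' := by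
      rw [← h12, map_add]
      exact Ideal.add_mem _ (hσK (Ideal.mem_map_of_mem σ hk₁)) hk2
    rw [map_one] at h1
    exact (vanishIdeal_isPrime hzW').ne_top ((Ideal.eq_top_iff_one _).mpr h1)
  obtain ⟨_, hyh, y, rfl⟩ := mem_closure_iff.mp hz _ ((pullback p q).basicOpen h).isOpen hhz
  set w := pullback.snd f (pullback.fst p q) y with hw
  have hwW' : w ∈ W' := (pullback p q).basicOpen_le h hyh
  have hfy : f (pullback.fst f (pullback.fst p q) y) = pullback.fst p q w := by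
    rw [hw, ← Scheme.Hom.comp_apply, ← Scheme.Hom.comp_apply, pullback.condition]
  have hd' : d ∈ vanishIdeal W' w hwW' := by
    refine (Ideal.map_le_iff_le_comap.mpr ?_) hd
    intro g hg
    refine (appLE_mem_vanishIdeal (pullback.fst p q) eF w hwW' g).mpr ?_
    rw [vanishIdeal_congr hfy.symm]
    exact ker_ideal_le_vanishIdeal f ⟨Wz, hWz⟩ _ _ hg
  have he' : σ e ∉ vanishIdeal W' w hwW' := by
    intro hcon
    have hew : e ∈ vanishIdeal W.1 (pullback.snd p q w) (eS hwW') :=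
      (appLE_mem_vanishIdeal (pullback.snd p q) eS w hwW' e).mp hcon
    have hwA : q (pullback.snd p q w) ∈ A := hWA (eS hwW')
    have h1 : q (pullback.snd p q w) ∈ 𝓘₁.support := by
      refine (mem_support_iff (U := ⟨A, hA⟩) hwA).mpr fun b hb => ?_
      refine (appLE_mem_vanishIdeal q hWA _ (eS hwW') b).mp ?_
      have hsup : J₁ ⊔ J₂ ≤ vanishIdeal W.1 (pullback.snd p q w) (eS hwW') := by
        rw [← hJ, Ideal.span_singleton_le_iff_mem]
        exact hew
      exact hsup (le_sup_left (b := J₂) (Ideal.mem_map_of_mem φ hb))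
    refine Set.disjoint_left.mp h₁' h1 ?_
    have : q (pullback.snd p q w) = p (f (pullback.fst f (pullback.fst p q) y)) := by
      rw [hfy, ← Scheme.Hom.comp_apply (pullback.snd p q) q w,
        ← Scheme.Hom.comp_apply (pullback.fst p q) p w, pullback.condition]
    rw [this]
    exact hY ⟨_, rfl⟩
  have heh : σ e * h ∈ vanishIdeal W' w hwW' := by
    have : σ e * h = d := by
      rw [hh, mul_sub, ← map_mul, ← had]
      ring
    rw [this]
    exact hd'
  rcases (vanishIdeal_isPrime hwW').mem_or_mem heh with h1 | h1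
  · exact he' h1
  · exact (mem_vanishIdeal hwW').mp h1 hyh

end Groth.Agent.S17391
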