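import Groth.Statements.S17393
import Groth.Agent.Lib.Ideal.EffCartier

set_option autoImplicit false
universe u
open BlowUp

namespace Groth.Agent.S17393

open AlgebraicGeometry CategoryTheory Limits in
/-- Let X be any scheme, I and I' quasi-coherent ideals on X (of closed subschemes Y and Y'), b : X' → X
a blowing up of X in I + I' (the ideal of Y ∩ Y'), b' : Ỹ → Y a blowing up of Y = V(I) in the
inverse image of I + I' and k : Ỹ → X' the morphism with k ≫ b = b' ≫ (Y → X), whose image is the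
strict transform of Y. For an affine open V of X, a section s of I over V, and an affine open V' ⊆
b⁻¹(V) of X' which meets the image of k, the ideal of the inverse image ideal sheaf (I + I')·O_X' on
V' is not the principal ideal generated by the pullback of s. Equivalently the strict transform of Y
does not meet the open locus U(s) where s generates the (invertible) inverse image ideal; since the
U(s) for s ranging over local sections of I and of I' cover X', the strict transform of Y lies in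
the union of the U(s) with s a local section of I'. -/
theorem result
    {X X' Yt : Scheme.{u}} (𝓘 𝓘' : X.IdealSheafData) (b : X' ⟶ X) (hb : BlowUp.IsBlowUp b (𝓘 ⊔ 𝓘'))
    (b' : Yt ⟶ 𝓘.subscheme) (hb' : BlowUp.IsBlowUp b' ((𝓘 ⊔ 𝓘').comap 𝓘.subschemeι))
    (k : Yt ⟶ X') (hk : k ≫ b = b' ≫ 𝓘.subschemeι)
    (V : X.affineOpens) (s : Γ(X, V.1)) (hs : s ∈ 𝓘.ideal V)
    (V' : X'.affineOpens) (hV' : V'.1 ≤ b ⁻¹ᵁ V.1)
    (hmeet : (Set.range (fun y => k y) ∩ (V'.1 : Set X')).Nonempty) :
    ((𝓘 ⊔ 𝓘').comap b).ideal V' ≠ Ideal.span {(b.appLE V.1 V'.1 hV').hom s} := by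
  obtain ⟨-, ⟨y, rfl⟩, hyV'⟩ := hmeet
  intro hspan
  set J := (𝓘 ⊔ 𝓘').comap 𝓘.subschemeι with hJ
  -- the inverse image of the generator on a chart of the strict transform
  obtain ⟨W, hyW, hWle, g, hg, hgen⟩ := Groth.Agent.Lib.Ideal.EffCartier.exists_gen hb'.1 y
    (W := k ⁻¹ᵁ V'.1) hyV'
  have hcomap : ((𝓘 ⊔ 𝓘').comap b).comap k = J.comap b' := by
    rw [hJ, ← Scheme.IdealSheafData.comap_comp, ← Scheme.IdealSheafData.comap_comp, hk]
  have hWV : W.1 ≤ (b' ≫ 𝓘.subschemeι) ⁻¹ᵁ V.1 := by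
    rw [← hk]
    exact fun z hz => hV' (hWle hz)
  have hzero : (k.appLE V'.1 W.1 hWle).hom ((b.appLE V.1 V'.1 hV').hom s) = 0 := by
    rw [← RingHom.comp_apply, ← CommRingCat.hom_comp, Scheme.Hom.appLE_comp_appLE]
    have h1 : (k ≫ b).appLE V.1 W.1 (fun z hz => hV' (hWle hz)) =
        𝓘.subschemeι.app V.1 ≫ b'.appLE (𝓘.subschemeι ⁻¹ᵁ V.1) W.1 hWV := by
      rw [← Scheme.Hom.comp_appLE]
      congr 1
    rw [h1, CommRingCat.hom_comp, RingHom.comp_apply]
    have h0 : 𝓘.subschemeι.app V.1 s = 0 :=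
      Scheme.Hom.ideal_ker_le 𝓘.subschemeι V
        ((congrArg (fun I : X.IdealSheafData => I.ideal V) (Scheme.IdealSheafData.ker_subschemeι 𝓘)).symm ▸ hs)
    exact (congrArg _ h0).trans (map_zero _)
  have hW : (J.comap b').ideal W = ⊥ := by
    rw [← hcomap, Groth.Agent.Lib.Ideal.Comap.ideal_comap k _ V' W hWle, hspan, Ideal.map_span,
      Set.image_singleton, hzero, Ideal.span_singleton_eq_bot]
  rw [hW] at hgen
  have hg0 : g = 0 := Ideal.span_singleton_eq_bot.mp hgen.symm
  have h01 : (0 : Γ(Yt, W.1)) = 1 := by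
    have := (mem_nonZeroDivisors_iff.mp (hg0 ▸ hg)).1 1 (zero_mul 1)
    exact this.symm
  have := Yt.basicOpen_of_isUnit (U := W.1) (f := (0 : Γ(Yt, W.1))) (h01 ▸ isUnit_one)
  rw [Scheme.basicOpen_zero] at this
  exact (this ▸ hyW : y ∈ (⊥ : Yt.Opens))

end Groth.Agent.S17393
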