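import Groth.Statements.S17399
import Groth.Agent.H95.CycCover.Glue

set_option autoImplicit false
universe u
open CycCov

namespace Groth.Agent.S17399

open CategoryTheory AlgebraicGeometry in
/-- For X integral and smooth over an algebraically closed field k, L an invertible module, N ≥ 1
invertible in k, D_1, …, D_r a strict normal crossing divisor on X with multiplicities α_j, s a
global section of the N-th tensor power of L whose divisor of zeros is D = Σ α_j D_j, and π : Y → X
with its root datum the normalised cyclic N-th-root cover of X defined by s, write Δ_j for the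
reduced preimage of D_j. Then π^*D = Σ_j (N·α_j / gcd(N, α_j)) Δ_j. This is an equality of divisors
on the normal scheme Y; it is stated here as an equality of ideals over the affine opens V of Y
lying over an open W of X through each point of which at most one component D_j passes (there Y is
regular and Δ_j is Cartier): the pull-back of ∏ 𝓘_{D_j}^{α_j} agrees on V with ∏_j
rad(π^*𝓘_{D_j})^{N α_j / gcd(N, α_j)}. (Where two components meet the ideal-theoretic equality fails
although the divisors agree.) (The published claim allows any effective divisor on a manifold; it is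
stated here for components forming a strict normal crossing divisor.) -/
theorem result {k : Type u} [Field k] [IsAlgClosed k] {X Y : Scheme.{u}}
    (f : X ⟶ Spec (CommRingCat.of k)) [Smooth f] [IsIntegral X]
    (L : X.Modules) (hL : PicF.IsInvertible L) (N : ℕ) (hN : 0 < N) (hNk : (N : k) ≠ 0)
    {r : ℕ} (D : Fin r → X.IdealSheafData) (α : Fin r → ℕ) (hD : LogNCD.IsNCD D f)
    (s : Coh.structureModule X ⟶ CohB1.tensorPow L N) (hs : CycCov.IsZeroDiv (CohB1.tensorPow L N) s (CycCov.divIdeal D α))
    (π : Y ⟶ X) (R : CycCov.Root L N s π) (hR : CycCov.IsCover R)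
    (W : X.Opens) (hW : ∀ x ∈ W, ∀ j j' : Fin r, x ∈ (D j).support → x ∈ (D j').support → j = j')
    (V : Y.affineOpens) (hV : V.1 ≤ π ⁻¹ᵁ W) :
    ((CycCov.divIdeal D α).comap π).ideal V = (∏ j : Fin r, ((D j).comap π).radical ^ (N * α j / Nat.gcd N (α j))).ideal V := by
  refine Groth.Agent.H95.CycCover.Glue.ideal_eq_of_cover V fun y hy => ?_
  obtain ⟨T, hyT, hT⟩ := Groth.Agent.H95.CycCover.Glue.exists_uniformizer f R D α hN hNk hR hL hD hs y
    (fun j j' => hW (π y) (hV hy) j j')
  obtain ⟨U, hU, hxU, -⟩ := exists_isAffineOpen_mem_and_subset (X := X) (x := π y) (U := ⊤) trivial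
  obtain ⟨T', hT', hyT', hle⟩ := exists_isAffineOpen_mem_and_subset (X := Y) (x := y)
    (U := T.1 ⊓ π ⁻¹ᵁ U) ⟨hyT, hxU⟩
  have hleT : (⟨T', hT'⟩ : Y.affineOpens) ≤ T := hle.trans inf_le_left
  have hj : ∀ j, ((D j).comap π).ideal ⟨T', hT'⟩ =
      ((D j).comap π).radical.ideal ⟨T', hT'⟩ ^ (N / Nat.gcd N (α j)) := by
    intro j
    rw [← ((D j).comap π).map_ideal (U := ⟨T', hT'⟩) (V := T) hleT,
      ← ((D j).comap π).radical.map_ideal (U := ⟨T', hT'⟩) (V := T) hleT, ← Ideal.map_pow,
      Scheme.IdealSheafData.radical_ideal]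
    exact congrArg _ (hT j)
  refine ⟨⟨T', hT'⟩, hyT', ?_⟩
  rw [show (∏ j : Fin r, ((D j).comap π).radical ^ (N * α j / Nat.gcd N (α j))) = CycCov.divIdeal
      (fun j => ((D j).comap π).radical) (fun j => N * α j / Nat.gcd N (α j)) from rfl,
    Groth.Agent.H95.CycCover.Base.divIdeal_ideal,
    Groth.Agent.Lib.Ideal.Comap.ideal_comap π (CycCov.divIdeal D α) ⟨U, hU⟩ ⟨T', hT'⟩
      (hle.trans inf_le_right),
    Groth.Agent.H95.CycCover.Base.divIdeal_ideal, ← Ideal.mapHom_apply, map_prod]
  refine Finset.prod_congr rfl fun j _ => ?_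
  rw [map_pow, Ideal.mapHom_apply,
    ← Groth.Agent.Lib.Ideal.Comap.ideal_comap π (D j) ⟨U, hU⟩ ⟨T', hT'⟩ (hle.trans inf_le_right),
    hj j, ← pow_mul, Nat.div_mul_right_comm (Nat.gcd_dvd_left N (α j)) (α j)]

end Groth.Agent.S17399
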