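import Groth.Statements.S17403
import Groth.Agent.H81.CycIrred.Geom

set_option autoImplicit false
universe u
open CycCov

namespace Groth.Agent.S17403

open CategoryTheory AlgebraicGeometry Opposite in
/-- For X integral and smooth over an algebraically closed field k, L an invertible module, N ≥ 1
invertible in k, D_1, …, D_r a strict normal crossing divisor on X with multiplicities α_j, s a
global section of the N-th tensor power of L whose divisor of zeros is D = Σ α_j D_j, and π : Y → X
with its root datum the normalised cyclic N-th-root cover of X defined by s, the scheme Y fails to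
be irreducible exactly when, for some divisor μ > 1 of N, s is the μ-th power of a global section s'
of the (N/μ)-th tensor power of L; the power relation is stated frame by frame: on every affine open
with a frame e of L, if s = a · e^{⊗N} and s' = b · e^{⊗(N/μ)} then a = b^μ. (The published claim
allows any effective divisor on a manifold; it is stated here for components forming a strict normal
crossing divisor.) -/
theorem result {k : Type u} [Field k] [IsAlgClosed k] {X Y : Scheme.{u}}
    (f : X ⟶ Spec (CommRingCat.of k)) [Smooth f] [IsIntegral X]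
    (L : X.Modules) (hL : PicF.IsInvertible L) (N : ℕ) (hN : 0 < N) (hNk : (N : k) ≠ 0)
    {r : ℕ} (D : Fin r → X.IdealSheafData) (α : Fin r → ℕ) (hD : LogNCD.IsNCD D f)
    (s : Coh.structureModule X ⟶ CohB1.tensorPow L N) (hs : CycCov.IsZeroDiv (CohB1.tensorPow L N) s (CycCov.divIdeal D α))
    (π : Y ⟶ X) (R : CycCov.Root L N s π) (hR : CycCov.IsCover R) :
    ¬ IrreducibleSpace Y ↔
      ∃ μ : ℕ, 1 < μ ∧ μ ∣ N ∧ ∃ s' : Coh.structureModule X ⟶ CohB1.tensorPow L (N / μ),
        ∀ (U : X.affineOpens) (e : L.val.obj (op U.1)), CycCov.IsGen L U.1 e →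
          ∀ a b : Γ(X, U.1), SecTwist.val s U.1 = a • CycCov.lpow L U.1 e N →
            SecTwist.val s' U.1 = b • CycCov.lpow L U.1 e (N / μ) → a = b ^ μ := by
  classical
  open H81.CycIrred Groth.Agent.Lib.TensorMod.Gen Groth.Agent.Lib.TensorMod.Dual Groth.Agent.H95.CycCover in
  obtain ⟨W, hW, hW', hchart⟩ := hR.2.2
  obtain ⟨x, hxW⟩ := hW.nonempty
  obtain ⟨V, g, hxV, hg⟩ := Groth.Agent.Lib.TensorMod.Gen.isInvertible_iff.1 hL x
  obtain ⟨U0, hU0, hxU0, hle⟩ := exists_isAffineOpen_mem_and_subset (X := X) (x := x) (U := W ⊓ V) ⟨hxW, hxV⟩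
  have hUV : U0 ≤ V := fun y hy => (hle hy).2
  have hUW : U0 ≤ W := fun y hy => (hle hy).1
  haveI : Nonempty U0 := ⟨⟨x, hxU0⟩⟩
  have hg0 := hg.res hUV
  obtain ⟨a0, ha0⟩ := Groth.Agent.H95.CycCover.Frames.exists_phi s hg0
  have hiff := H81.CycIrred.Geom.irreducibleSpace_iff R hL hN hR hchart ⟨U0, hU0⟩ hUW hg0 a0 ha0
  rw [hiff]
  constructor
  · intro hnd
    obtain ⟨ζ, hζ⟩ := H81.CycIrred.Geom.exists_primitiveRoot (N := N) f hNk
    have hinj := X.germToFunctionField_injective U0
    have hni : ¬ Irreducible (Polynomial.X ^ N - Polynomial.C (X.germToFunctionField U0 a0)) := fun hirr => hnd <| by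
      refine H81.CycIrred.Alg.isDomain_adjoinRoot (B := Γ(X, U0)) (K := X.functionField) hinj
        (Polynomial.monic_X_pow_sub_C a0 hN.ne') ?_
      rw [Polynomial.map_sub, Polynomial.map_pow, Polynomial.map_X, Polynomial.map_C]
      exact hirr
    obtain ⟨μ, hμ1, hdvd, z, hz⟩ := H81.CycIrred.Alg.exists_root_of_not_irreducible hN hζ _ hni
    refine ⟨μ, hμ1, hdvd, ?_⟩
    have hμ0 : 0 < μ := by omega
    obtain ⟨β, hβ⟩ := H81.CycIrred.Geom.exists_root f (U := ⟨U0, hU0⟩) hμ0 hz
    obtain ⟨m, rfl⟩ : ∃ m, N = m * μ := ⟨N / μ, (Nat.div_mul_cancel hdvd).symm⟩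
    rw [Nat.mul_div_cancel m hμ0]
    exact H81.CycIrred.Geom.exists_section f hμ0 hL ⟨U0, hU0⟩ hg0 a0 β ha0
      (hinj (by rw [map_pow]; exact (congrArg (· ^ μ) hβ).trans hz))
  · rintro ⟨μ, hμ1, hdvd, s', hs'⟩
    obtain ⟨b, hb⟩ := Groth.Agent.H95.CycCover.Frames.exists_phi s' hg0
    have h := hs' ⟨U0, hU0⟩ _ (Groth.Agent.H95.CycCover.Frames.cycIsGen hg0) a0 b ha0 hb
    have hm : 0 < N / μ := Nat.div_pos (Nat.le_of_dvd hN hdvd) (by omega)
    have h2 := H81.CycIrred.Alg.not_isDomain_adjoinRoot (B := Γ(X, U0)) hm hμ1 b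
    rw [Nat.div_mul_cancel hdvd, ← h] at h2
    exact h2

end Groth.Agent.S17403
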