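import Groth.Statements.S17404
import Groth.Agent.H12.CycOmega.Main
import Groth.Agent.Lib.GrassGen.ExtPowFree
-- import your own Groth.Agent.* helpers here

set_option autoImplicit false
universe u
open CycCov

namespace Groth.Agent.S17404

open CategoryTheory AlgebraicGeometry Opposite in
theorem isExtPow_congr {X : Scheme.{u}} {i : ℕ} {E E' L : X.Modules} (e : E' ≅ E) (hL : ExtPow.IsExtPow i E L) :
    ExtPow.IsExtPow i E' L := by
  obtain ⟨φ, hφ⟩ := hL
  let eU : ∀ U : X.affineOpens, E.val.obj (op U.1) ≃ₗ[Γ(X, U.1)] E'.val.obj (op U.1) := fun U =>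
    LinearEquiv.ofLinear (e.inv.val.app (op U.1)).hom (e.hom.val.app (op U.1)).hom
      (LinearMap.ext fun x => congrArg (fun q : E' ⟶ E' => q.val.app (op U.1) x) e.hom_inv_id)
      (LinearMap.ext fun x => congrArg (fun q : E ⟶ E => q.val.app (op U.1) x) e.inv_hom_id)
  let m : ∀ U : X.affineOpens, ↥(⋀[Γ(X, U.1)]^i (E.val.obj (op U.1))) ≃ₗ[Γ(X, U.1)] ↥(⋀[Γ(X, U.1)]^i (E'.val.obj (op U.1))) := fun U =>
    LinearEquiv.ofLinear (exteriorPower.map i (eU U).toLinearMap) (exteriorPower.map i (eU U).symm.toLinearMap)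
      (by rw [← exteriorPower.map_comp, LinearEquiv.comp_symm, exteriorPower.map_id])
      (by rw [← exteriorPower.map_comp, LinearEquiv.symm_comp, exteriorPower.map_id])
  refine ⟨fun U => (φ U).trans (m U), fun U V h v => ?_⟩
  have hm : ∀ (W : X.affineOpens) (w : Fin i → E'.val.obj (op W.1)),
      (m W).symm (exteriorPower.ιMulti _ i w) = exteriorPower.ιMulti _ i fun j => (eU W).symm (w j) :=
    fun W w => exteriorPower.map_apply_ιMulti _ _
  simp only [LinearEquiv.trans_symm, LinearEquiv.trans_apply, hm]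
  rw [hφ U V h]
  congr 2
  funext j
  exact (PresheafOfModules.naturality_apply e.hom.val (homOfLE h).op (v j)).symm

attribute [-instance] CategoryTheory.catToReflQuiver in
open CategoryTheory AlgebraicGeometry in
/-- For X integral and smooth over an algebraically closed field k, L an invertible module, N ≥ 1
invertible in k, D_1, …, D_r a strict normal crossing divisor on X with multiplicities α_j, s a
global section of the N-th tensor power of L whose divisor of zeros is D = Σ α_j D_j, and π : Y → X
with its root datum the normalised cyclic N-th-root cover of X defined by s, assume every α_j > 0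
and the D_j pairwise disjoint (the reduced divisor of D is non-singular). Let (Ω'_X, d_X) and (Ω'_Y,
d_Y) be universal receptacles for the differentials of X and of Y over k, Λ_X the pinned module
Ω¹_X(log D) and Λ_Y the pinned module Ω¹_Y(log π^*D) along the reduced preimages of the D_j (assumed
to form a strict normal crossing divisor on Y), and Ω^b_X(log D), Ω^b_Y(log π^*D) chosen b-th
exterior powers. Then π^*Ω^b_X(log D) = Ω^b_Y(log π^*D), stated after push-forward: π_*Ω^b_Y(log
π^*D) is isomorphic to Ω^b_X(log D) ⊗ π_*O_Y (existence of an isomorphism of O_X-modules only; the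
canonical comparison map is not named here). (The published claim allows any effective divisor on a
manifold; it is stated here for components forming a strict normal crossing divisor.) -/
theorem result {k : Type u} [Field k] [IsAlgClosed k] {X Y : Scheme.{u}}
    (f : X ⟶ Spec (CommRingCat.of k)) [Smooth f] [IsIntegral X]
    (L : X.Modules) (hL : PicF.IsInvertible L) (N : ℕ) (hN : 0 < N) (hNk : (N : k) ≠ 0)
    {r : ℕ} (D : Fin r → X.IdealSheafData) (α : Fin r → ℕ) (hD : LogNCD.IsNCD D f)
    (s : Coh.structureModule X ⟶ CohB1.tensorPow L N) (hs : CycCov.IsZeroDiv (CohB1.tensorPow L N) s (CycCov.divIdeal D α))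
    (π : Y ⟶ X) (R : CycCov.Root L N s π) (hR : CycCov.IsCover R)
    (hα : ∀ j : Fin r, 0 < α j) (hdisj : ∀ (x : X) (j j' : Fin r), x ∈ (D j).support → x ∈ (D j').support → j = j')
    {ΩX : X.Modules} (dX : OmegaSh.Der f ΩX) (hdX : OmegaSh.IsUniversal dX) (ΛX : LogNCD.LogMod dX D)
    {ΩY : Y.Modules} (dY : OmegaSh.Der (π ≫ f) ΩY) (hdY : OmegaSh.IsUniversal dY)
    (hΔ : LogNCD.IsNCD (fun j : Fin r => ((D j).comap π).radical) (π ≫ f))
    (ΛY : LogNCD.LogMod dY (fun j : Fin r => ((D j).comap π).radical))
    (b : ℕ) (LbX : X.Modules) (hLbX : ExtPow.IsExtPow b ΛX.L LbX) (LbY : Y.Modules) (hLbY : ExtPow.IsExtPow b ΛY.L LbY) :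
    Nonempty ((Scheme.Modules.pushforward π).obj LbY ≅
      CohB1.tensorMod LbX ((Scheme.Modules.pushforward π).obj (Coh.structureModule Y))) := by
  haveI := hR.1
  obtain ⟨hfree, ⟨e⟩⟩ := H12.CycOmega.nonempty_iso f R D α ΛX ΛY hR hL hN hNk hD hs hα hdisj hdX hdY
  obtain ⟨i₁⟩ := Lib.KVec.ExtPowPull.nonempty_iso_pullback π hfree hLbX (isExtPow_congr e hLbY)
  have hLX := Lib.GrassGen.ExtPowFree.isFinLocFree hfree hLbX
  haveI := Lib.Modules.ProjFormula.isIso_theta π (Lib.Modules.DualBasis.hasDBases_of_isFinLocFree hLX) (Coh.structureModule Y)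
  exact ⟨((Scheme.Modules.pushforward π).mapIso (i₁.symm ≪≫ (Lib.TensorMod.Basic.rightUnit _).symm)) ≪≫
    (asIso (Lib.Modules.ProjFormula.theta π LbX (Coh.structureModule Y))).symm⟩

end Groth.Agent.S17404
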