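import Groth.Statements.S17410


set_option autoImplicit false
universe u
open Prym5

namespace Groth.Agent.S17410

open Polynomial TensorProduct

theorem integral_iff {A : Type u} [CommRing A] [IsDomain A] (h : A[X]) (S : Submonoid A) :
    Algebra.IsIntegral (Localization S) (Localization (Algebra.algebraMapSubmonoid (AdjoinRoot h) S))
      ↔ IsUnit (algebraMap A (Localization S) h.leadingCoeff) := by
  classical
  set T := Localization S
  set BS := Localization (Algebra.algebraMapSubmonoid (AdjoinRoot h) S)
  set r : BS := algebraMap (AdjoinRoot h) BS (AdjoinRoot.root h)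
  have hroot : aeval r (h.map (algebraMap A T)) = 0 := by
    rw [aeval_map_algebraMap, aeval_algebraMap_apply]
    rw [show aeval (AdjoinRoot.root h) h = 0 from by rw [AdjoinRoot.aeval_eq, AdjoinRoot.mk_self], map_zero]
  constructor
  · intro hint
    by_cases h0 : (0 : A) ∈ S
    · haveI : Subsingleton T := IsLocalization.subsingleton (S := T) (M := S) h0
      exact isUnit_of_subsingleton _
    have hS : S ≤ nonZeroDivisors A := le_nonZeroDivisors_of_noZeroDivisors h0
    haveI : IsDomain T := IsLocalization.isDomain_localization hS
    have hinj : Function.Injective (algebraMap A T) := IsLocalization.injective _ hS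
    obtain ⟨g, hg, hg0⟩ := hint.isIntegral r
    set hT := h.map (algebraMap A T)
    let ψ : AdjoinRoot h →+* AdjoinRoot hT := AdjoinRoot.map (algebraMap A T) h hT dvd_rfl
    have hψ : ∀ m : Algebra.algebraMapSubmonoid (AdjoinRoot h) S, IsUnit (ψ m) := by
      rintro ⟨m, s, hs, rfl⟩
      have : ψ (algebraMap A (AdjoinRoot h) s) = AdjoinRoot.of hT (algebraMap A T s) := by
        simp [ψ]
      rw [this]
      exact (IsLocalization.map_units T (⟨s, hs⟩ : S)).map _
    let Φ : BS →+* AdjoinRoot hT := IsLocalization.lift hψ
    have hΦT : Φ.comp (algebraMap T BS) = AdjoinRoot.of hT := by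
      apply IsLocalization.ringHom_ext S
      ext a
      simp only [RingHom.comp_apply]
      rw [← IsScalarTower.algebraMap_apply A T BS,
        IsScalarTower.algebraMap_apply A (AdjoinRoot h) BS, IsLocalization.lift_eq]
      simp [ψ]
    have hr : Φ r = AdjoinRoot.root hT := by
      simp [Φ, r, ψ]
    have h1 := congrArg Φ hg0
    rw [Polynomial.hom_eval₂, hΦT, hr, map_zero] at h1
    have h2 : hT ∣ g := by
      rw [← AdjoinRoot.mk_eq_zero, ← AdjoinRoot.aeval_eq, Polynomial.aeval_def]
      simpa [AdjoinRoot.algebraMap_eq] using h1
    obtain ⟨k, hk⟩ := h2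
    have h3 : hT.leadingCoeff * k.leadingCoeff = 1 := by
      rw [← leadingCoeff_mul, ← hk, hg.leadingCoeff]
    have h4 : hT.leadingCoeff = algebraMap A T h.leadingCoeff :=
      leadingCoeff_map_of_injective hinj h
    rw [← h4]
    exact IsUnit.of_mul_eq_one _ h3
  · intro hu
    have hrint : IsIntegral T r := by
      by_cases hn : Subsingleton T
      · exact ⟨1, monic_one, by
          have : Subsingleton BS := (algebraMap T BS).codomain_trivial
          exact Subsingleton.elim _ _⟩
      obtain ⟨u, hu'⟩ := hu
      refine ⟨C (↑u⁻¹ : T) * h.map (algebraMap A T), ?_, ?_⟩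
      · have hne : algebraMap A T h.leadingCoeff ≠ 0 := by
          haveI := not_subsingleton_iff_nontrivial.mp hn
          rw [← hu']
          exact u.ne_zero
        show leadingCoeff _ = 1
        haveI := not_subsingleton_iff_nontrivial.mp hn
        rw [leadingCoeff_mul', leadingCoeff_C, leadingCoeff_map_of_leadingCoeff_ne_zero _ hne,
          ← hu', Units.inv_mul]
        rw [leadingCoeff_C, leadingCoeff_map_of_leadingCoeff_ne_zero _ hne, ← hu', Units.inv_mul]
        exact one_ne_zero
      · show aeval r _ = 0
        rw [map_mul, hroot, mul_zero]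
    refine ⟨fun x => ?_⟩
    obtain ⟨b, ⟨m, s, hs, rfl⟩, rfl⟩ :=
      IsLocalization.exists_mk'_eq (Algebra.algebraMapSubmonoid (AdjoinRoot h) S) x
    obtain ⟨p, rfl⟩ := AdjoinRoot.mk_surjective b
    have hb : IsIntegral T (algebraMap (AdjoinRoot h) BS (AdjoinRoot.mk h p)) := by
      have e : algebraMap (AdjoinRoot h) BS (AdjoinRoot.mk h p) = aeval r (p.map (algebraMap A T)) := by
        rw [aeval_map_algebraMap, aeval_algebraMap_apply, AdjoinRoot.aeval_eq]
      rw [e]
      exact Algebra.adjoin_le (S := integralClosure T BS) (Set.singleton_subset_iff.mpr hrint)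
        (aeval_mem_adjoin_singleton T r)
    have e2 : IsLocalization.mk' BS (AdjoinRoot.mk h p)
        (⟨algebraMap A (AdjoinRoot h) s, s, hs, rfl⟩ : Algebra.algebraMapSubmonoid (AdjoinRoot h) S) =
        algebraMap T BS (IsLocalization.mk' T (1 : A) ⟨s, hs⟩) *
          algebraMap (AdjoinRoot h) BS (AdjoinRoot.mk h p) := by
      rw [IsLocalization.mk'_eq_iff_eq_mul]
      have : algebraMap T BS (IsLocalization.mk' T (1 : A) ⟨s, hs⟩) *
          algebraMap (AdjoinRoot h) BS (algebraMap A (AdjoinRoot h) s) = 1 := by
        rw [← IsScalarTower.algebraMap_apply A (AdjoinRoot h) BS,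
          IsScalarTower.algebraMap_apply A T BS, ← map_mul, IsLocalization.mk'_spec]
        simp
      rw [mul_comm (algebraMap T BS _), mul_assoc, this, mul_one]
    rw [e2]
    exact isIntegral_algebraMap.mul hb

theorem finrank_eq {A : Type u} [CommRing A] [IsDomain A] (h : A[X]) (hd : h.natDegree = 2)
    (h0 : h ≠ 0) :
    Module.finrank (FractionRing A) (FractionRing A ⊗[A] AdjoinRoot h) = 2 := by
  let F := FractionRing A
  let e1 := AdjoinRoot.tensorAlgEquiv (R := A) (T := F) h _ rfl
  let e2 := AdjoinRoot.mapAlgEquiv (R := F) (Algebra.TensorProduct.rid A F F)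
    (h.map (Algebra.TensorProduct.includeRight (R := A) (A := F) (B := A)).toRingHom)
    (h.map (algebraMap A F)) (by
      apply Associated.of_eq
      rw [Polynomial.map_map]
      congr 1
      ext a
      simp [Algebra.smul_def])
  rw [(e1.trans e2).toLinearEquiv.finrank_eq]
  refine finrank_quotient_span_eq_natDegree.trans ?_
  rw [natDegree_map_eq_of_injective (IsFractionRing.injective A F), hd]

/-- Over a perfect field K of characteristic different from 2 and 3, let h be an irreducible polynomial
of degree 2 in the variable z with coefficients in K[x, y] and A = K[x, y][z]/(h). For every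
multiplicative subset S of K[x, y], the localisation S⁻¹A is integral over S⁻¹K[x, y] if and only if
the leading coefficient of h is invertible in S⁻¹K[x, y]; and K(x, y) ⊗ A is a K(x, y)-vector space
of dimension 2. (Geometrically: for a quartic surface with an ordinary double point, written u₂ x₃²
+ 2 u₃ x₃ + u₄ = 0 with the node at (0:0:0:1), the projection from the node restricted to a standard
affine chart of the plane is given by such an algebra A with leading coefficient the dehomogenised
u₂, so the projection is finite of degree two exactly over the locus u₂ ≠ 0. Stated for any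
irreducible h of degree 2, which is all the argument uses.) -/
theorem result (K : Type u) [Field K]
    [PerfectField K] (h2 : (2 : K) ≠ 0) (h3 : (3 : K) ≠ 0)
    (h : Polynomial (MvPolynomial (Fin 2) K)) (hirr : Irreducible h) (hdeg : h.natDegree = 2)
    (S : Submonoid (MvPolynomial (Fin 2) K)) :
    (Algebra.IsIntegral (Localization S) (Localization (Algebra.algebraMapSubmonoid (AdjoinRoot h) S))
        ↔ IsUnit (algebraMap (MvPolynomial (Fin 2) K) (Localization S) h.leadingCoeff))
      ∧ Module.finrank (FractionRing (MvPolynomial (Fin 2) K))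
          (TensorProduct (MvPolynomial (Fin 2) K) (FractionRing (MvPolynomial (Fin 2) K)) (AdjoinRoot h)) = 2 :=  by
  refine ⟨?_, ?_⟩
  · exact integral_iff h S
  · exact finrank_eq h hdeg hirr.ne_zero

end Groth.Agent.S17410
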