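import Groth.Statements.S17412
import Groth.Agent.Lib.CurveFF.NondegSections
import Groth.Agent.Lib.CurveFF.SmoothBC
import Groth.Agent.Lib.CurveFF.Hyp
import Groth.Agent.Lib.Curves.BaseChange
import Groth.Agent.Lib.Curves.GlobalSections
import Groth.Agent.Lib.Kaehler.Basic
import Groth.Agent.Lib.Kaehler.BaseChange
import Groth.Agent.Lib.Kaehler.DOmega
import Groth.Agent.Lib.TensorMod.QCohInv
-- import your own Groth.Agent.* helpers here

set_option autoImplicit false
universe u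
open CategoryTheory CategoryTheory.Limits AlgebraicGeometry
open Prym5

namespace Groth.Agent.S17412
open Groth.Agent.Lib Opposite

/-- Let k be an algebraically closed field of characteristic zero, g ≥ 3, and X₁, X₂ smooth proper
integral curves of genus g over k. Suppose each X_j is canonically embedded: i_j : X_j → P^{g-1}_k
is a closed immersion over k, the pullback i_j^* O(1) is isomorphic to the sheaf of differentials of
X_j over k, and X_j lies in no hyperplane (the restriction map from the global sections of O(1) to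
those of i_j^* O(1) is injective). Then X₁ and X₂ are isomorphic over k exactly when they are
projectively equivalent: there are a k-automorphism σ of P^{g-1}_k and an isomorphism ψ : X₁ ≅ X₂
with i₁ ≫ σ = ψ ≫ i₂. (Projective equivalence is expressed through k-automorphisms of the scheme
P^{g-1}_k; that these are exactly the projective linear transformations is classical and not
restated.) -/
theorem result (k : Type u) [Field k] [IsAlgClosed k]
    [CharZero k] (g : ℕ) (hg : 3 ≤ g)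
    (X₁ X₂ : Scheme.{u}) [X₁.Over (Spec (CommRingCat.of k))] [X₂.Over (Spec (CommRingCat.of k))]
    [AlgebraicGeometry.IsIntegral X₁] [AlgebraicGeometry.IsIntegral X₂]
    [IsProper (X₁ ↘ Spec (CommRingCat.of k))] [IsProper (X₂ ↘ Spec (CommRingCat.of k))]
    [Smooth (X₁ ↘ Spec (CommRingCat.of k))] [Smooth (X₂ ↘ Spec (CommRingCat.of k))]
    (hd₁ : topologicalKrullDim X₁ = 1) (hd₂ : topologicalKrullDim X₂ = 1)
    (hg₁ : Curv2.genus k X₁ = g) (hg₂ : Curv2.genus k X₂ = g)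
    (i₁ : X₁ ⟶ CohB1.ProjSpace (g - 1) k) (i₂ : X₂ ⟶ CohB1.ProjSpace (g - 1) k)
    [IsClosedImmersion i₁] [IsClosedImmersion i₂]
    (hi₁ : i₁ ≫ CohB1.ProjSpace.toSpec (g - 1) k = X₁ ↘ Spec (CommRingCat.of k))
    (hi₂ : i₂ ≫ CohB1.ProjSpace.toSpec (g - 1) k = X₂ ↘ Spec (CommRingCat.of k))
    (e₁ : (Scheme.Modules.pullback i₁).obj (Twist.twistProjSpace (g - 1) k 1)
      ≅ Omega.sheaf (X₁ ↘ Spec (CommRingCat.of k)))
    (e₂ : (Scheme.Modules.pullback i₂).obj (Twist.twistProjSpace (g - 1) k 1)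
      ≅ Omega.sheaf (X₂ ↘ Spec (CommRingCat.of k)))
    (hnd₁ : Function.Injective
      (((Scheme.Modules.pullbackPushforwardAdjunction i₁).unit.app (Twist.twistProjSpace (g - 1) k 1)).app ⊤))
    (hnd₂ : Function.Injective
      (((Scheme.Modules.pullbackPushforwardAdjunction i₂).unit.app (Twist.twistProjSpace (g - 1) k 1)).app ⊤)) :
    (∃ φ : X₁ ≅ X₂, φ.hom ≫ (X₂ ↘ Spec (CommRingCat.of k)) = X₁ ↘ Spec (CommRingCat.of k)) ↔
      ∃ (σ : CohB1.ProjSpace (g - 1) k ≅ CohB1.ProjSpace (g - 1) k) (ψ : X₁ ≅ X₂),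
        σ.hom ≫ CohB1.ProjSpace.toSpec (g - 1) k = CohB1.ProjSpace.toSpec (g - 1) k ∧
        i₁ ≫ σ.hom = ψ.hom ≫ i₂ := by
  classical
  constructor
  swap
  · rintro ⟨σ, ψ, hσ, hψ⟩
    refine ⟨ψ, ?_⟩
    rw [← hi₁, ← hi₂, ← Category.assoc, ← hψ, Category.assoc, hσ]
  rintro ⟨φ, hφ⟩
  let n := g - 1
  let O1 := Twist.twistProjSpace n k 1
  have h01 := Curves.GlobalSections.finrank_h0_structure k X₁
  obtain ⟨hΩ, -⟩ := CurveFF.SmoothBC.omega_facts (k := k) hd₁ h01
  rw [hg₁] at hΩ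
  let L₁ := (Scheme.Modules.pullback i₁).obj O1
  let L₂ := (Scheme.Modules.pullback i₂).obj O1
  let L₁₂ := (Scheme.Modules.pullback φ.hom).obj L₂
  have hpb : IsPullback φ.hom (X₁ ↘ Spec (CommRingCat.of k)) (X₂ ↘ Spec (CommRingCat.of k))
      (Spec.map (CommRingCat.ofHom (algebraMap k k))) := by
    haveI : IsIso (Spec.map (CommRingCat.ofHom (algebraMap k k))) := by
      rw [show CommRingCat.ofHom (algebraMap k k) = 𝟙 _ from rfl, Spec.map_id]; infer_instance
    refine IsPullback.of_horiz_isIso ⟨?_⟩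
    rw [hφ, show CommRingCat.ofHom (algebraMap k k) = 𝟙 _ from rfl, Spec.map_id, Category.comp_id]
  have hpb' : IsPullback φ.hom (X₁ ↘ Spec (CommRingCat.of k)) (X₂ ↘ Spec (CommRingCat.of k)) (𝟙 _) :=
    IsPullback.of_horiz_isIso ⟨by rw [hφ, Category.comp_id]⟩
  obtain ⟨cc, hcc, -⟩ := Kaehler.Basic.existsUnique_diffCompat (h := φ.hom)
    (b := 𝟙 _) (f := X₂ ↘ Spec (CommRingCat.of k)) (f' := X₁ ↘ Spec (CommRingCat.of k)) hpb'.w.symm
    (Kaehler.DOmega.isUniversal_dOmega _) (OmegaSh.dOmega (X₁ ↘ Spec (CommRingCat.of k)))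
  let w := @asIso _ _ _ _ cc (Kaehler.BaseChange.isIso_of_isPullback hpb'
    (Kaehler.DOmega.isUniversal_dOmega _) (Kaehler.DOmega.isUniversal_dOmega _) cc hcc)
  let θ : L₁₂ ≅ L₁ := (Scheme.Modules.pullback φ.hom).mapIso e₂ ≪≫ w ≪≫ e₁.symm
  -- bases
  letI := Curves.GlobalSections.secModule k L₁
  letI := Curves.GlobalSections.secModule k L₂
  letI := Curves.GlobalSections.secModule k L₁₂
  have hinv : PicF.IsInvertible O1 :=
    ProjTilde.Invertible.twist_isInvertible_of_cover (fun y => by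
      obtain ⟨c, hc⟩ := ProjMor.Main.cover (ProjMor.Poly.lin_mem n k) (ProjMor.Poly.adjoin_lin n k) y
      exact ⟨c, c.2, hc⟩) 1
  let s₁ : Fin (n + 1) → (L₁.val.obj (op ⊤) : Type u) := fun j => ProjUP.pullSec i₁ O1 (ProjUP.coord n k j)
  let s₂' : Fin (n + 1) → (L₂.val.obj (op ⊤) : Type u) := fun j => ProjUP.pullSec i₂ O1 (ProjUP.coord n k j)
  let appθ : (L₁₂.val.obj (op ⊤) : Type u) →ₗ[k] (L₁.val.obj (op ⊤) : Type u) :=
    { toFun := fun v => θ.hom.app ⊤ v
      map_add' := fun v v' => map_add _ v v'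
      map_smul' := fun a v => Scheme.Modules.Hom.app_smul θ.hom _ v }
  let s₂ : Fin (n + 1) → (L₁.val.obj (op ⊤) : Type u) := fun j =>
    appθ (ProjUP.pullSec φ.hom L₂ (s₂' j))
  have hn : g = n + 1 := by omega
  have hdim₁ : Module.finrank k (L₁.val.obj (op ⊤) : Type u) = n + 1 := by
    rw [← (Curves.GlobalSections.h0Linear k L₁).finrank_eq, ← hn, ← hΩ]
    exact Curves.Euler.hdim_eq_of_iso e₁ 0
  have h02 := Curves.GlobalSections.finrank_h0_structure k X₂
  obtain ⟨hΩ₂, -⟩ := CurveFF.SmoothBC.omega_facts (k := k) hd₂ h02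
  rw [hg₂] at hΩ₂
  have hdim₂ : Module.finrank k (L₂.val.obj (op ⊤) : Type u) = n + 1 := by
    rw [← (Curves.GlobalSections.h0Linear k L₂).finrank_eq, ← hn, ← hΩ₂]
    exact Curves.Euler.hdim_eq_of_iso e₂ 0
  have hli₁ : LinearIndependent k s₁ :=
    CurveFF.NondegSections.linearIndependent_pullSec i₁ hi₁ hnd₁
  have hli₂' : LinearIndependent k s₂' :=
    CurveFF.NondegSections.linearIndependent_pullSec i₂ hi₂ hnd₂
  have hsp₂' : Submodule.span k (Set.range s₂') = ⊤ :=
    hli₂'.span_eq_top_of_card_eq_finrank (by rw [hdim₂, Fintype.card_fin])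
  have hsp₂ : Submodule.span k (Set.range s₂) = ⊤ := by
    haveI := Curves.GlobalSections.isNoetherian_of_proper k X₂
    haveI := TensorMod.QCohInv.isQCoh_of_isInvertible (PicLoc.isInvertible_pullback i₂ hinv)
    have h := Curves.BaseChange.span_pullSec_of_span hpb L₂ s₂' hsp₂'
    have hsurj : Function.Surjective appθ := fun v =>
      ⟨θ.inv.app ⊤ v, congr(($(θ.inv_hom_id)).app ⊤ v)⟩
    have h2 := congrArg (Submodule.map appθ) h
    rw [Submodule.map_span, Submodule.map_top, LinearMap.range_eq_top.2 hsurj, ← Set.range_comp] at h2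
    exact h2
  have hc : Fintype.card (Fin (n + 1)) = Module.finrank k (L₁.val.obj (op ⊤) : Type u) := by
    rw [hdim₁, Fintype.card_fin]
  let b₁ := basisOfLinearIndependentOfCardEqFinrank hli₁ hc
  let b₂ := basisOfTopLeSpanOfCardEqFinrank s₂ hsp₂.ge hc
  have hb₁ : ⇑b₁ = s₁ := coe_basisOfLinearIndependentOfCardEqFinrank hli₁ hc
  have hb₂ : ⇑b₂ = s₂ := coe_basisOfTopLeSpanOfCardEqFinrank s₂ hsp₂.ge hc
  obtain ⟨σ, hσ, hσM⟩ := ProjMor.LinSub.exists_sub_iso (n := n)
    (b₁.toMatrix_mul_toMatrix_flip b₂) (b₂.toMatrix_mul_toMatrix_flip b₁)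
  refine ⟨σ, φ, hσ, ?_⟩
  have hA : ProjMor.LinSub.IsBy (i₁ ≫ σ.hom) L₁ s₂ := by
    have h := (ProjMor.LinSub.isBy_self i₁).comp_sub hσM
    have e : ProjMor.LinSub.sub (i₁ ≫ CohB1.ProjSpace.toSpec n k) (b₁.toMatrix b₂) (L := L₁)
        (fun i => ProjUP.pullSec i₁ O1 (ProjUP.coord n k i)) = s₂ := by
      funext j
      rw [hi₁]
      refine Eq.trans ?_ ((b₁.sum_toMatrix_smul_self b₂ j).trans (congrFun hb₂ j))
      refine Finset.sum_congr rfl fun i _ => ?_
      rw [congrFun hb₁ i]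
      rfl
    exact e ▸ h
  have hB : ProjMor.LinSub.IsBy (φ.hom ≫ i₂) L₁ s₂ :=
    ((ProjMor.LinSub.isBy_self i₂).comp φ.hom).map θ fun j => rfl
  refine hA.eq ?_ hB
  rw [Category.assoc, hσ, Category.assoc, hi₂, hφ, hi₁]

end Groth.Agent.S17412
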