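import Groth.Statements.S17426
import Groth.Agent.H69.CounitStage
import Groth.Agent.Lib.Lim.Basic
-- import your own Groth.Agent.* helpers here

set_option autoImplicit false
universe u
open CategoryTheory AlgebraicGeometry
open Lim

namespace Groth.Agent.S17426
open CategoryTheory CategoryTheory.Limits
set_option backward.isDefEq.respectTransparency false

/-- Let S = lim S_i be a cofiltered limit of schemes with affine transition morphisms, with S_{i₀} a
quasi-compact quasi-separated stage; let X₀ and Y₀ be schemes of finite presentation over S_{i₀}, f₀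
: X₀ → Y₀ an S_{i₀}-morphism and L₀ an invertible O_{X₀}-module. Let f : X → Y be the base change of
f₀ along S → S_{i₀} and L the pullback of L₀ to X (base changes are expressed by pullback squares).
Call an invertible module generated relative to a morphism when the counit of the
pullback–pushforward adjunction, f^*f_*L → L, is an epimorphism. If L is generated relative to f,
then there is an index j over i₀ such that for every index k over j and every base change f_k : X_k
→ Y_k of f₀ along S_k → S_{i₀}, the pullback L_k of L₀ to X_k is generated relative to f_k. (Stated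
for X₀, Y₀ of finite presentation over the quasi-compact quasi-separated stage, the setting in which
all the schemes involved are quasi-compact and quasi-separated; the semi-ample variant of the
source, some positive tensor power generated, is not restated.) -/
theorem result {I : Type u} [SmallCategory I] [IsCofiltered I]
    (D : I ⥤ Scheme.{u}) (c : Limits.Cone D) (hc : Limits.IsLimit c)
    [∀ (i j : I) (u : i ⟶ j), IsAffineHom (D.map u)] (i₀ : I) [CompactSpace (D.obj i₀)] [QuasiSeparatedSpace (D.obj i₀)]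
    {X₀ Y₀ : Scheme.{u}} (f₀ : X₀ ⟶ Y₀) (g₀ : Y₀ ⟶ D.obj i₀)
    [LocallyOfFinitePresentation g₀] [QuasiCompact g₀] [QuasiSeparated g₀]
    [LocallyOfFinitePresentation (f₀ ≫ g₀)] [QuasiCompact (f₀ ≫ g₀)] [QuasiSeparated (f₀ ≫ g₀)]
    (L₀ : X₀.Modules) (hL₀ : PicF.IsInvertible L₀)
    {X Y : Scheme.{u}} (f : X ⟶ Y) (g : Y ⟶ c.pt) (qY : Y ⟶ Y₀) (qX : X ⟶ X₀)
    (hY : IsPullback qY g g₀ (c.π.app i₀)) (hX : IsPullback qX f f₀ qY)
    (hgen : Epi ((Scheme.Modules.pullbackPushforwardAdjunction f).counit.app ((Scheme.Modules.pullback qX).obj L₀))) :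
    ∃ (j : I) (φ : j ⟶ i₀), ∀ (k : I) (ψ : k ⟶ j) (Xk Yk : Scheme.{u}) (fk : Xk ⟶ Yk) (gk : Yk ⟶ D.obj k)
      (pY : Yk ⟶ Y₀) (pX : Xk ⟶ X₀), IsPullback pY gk g₀ (D.map (ψ ≫ φ)) → IsPullback pX fk f₀ pY →
        Epi ((Scheme.Modules.pullbackPushforwardAdjunction fk).counit.app ((Scheme.Modules.pullback pX).obj L₀)) := by
  haveI : ∀ {a b : I} (g : a ⟶ b), IsAffineHom (D.map g) := fun g => inferInstance
  haveI : CompactSpace Y₀ := QuasiCompact.compactSpace_of_compactSpace g₀
  haveI : QuasiSeparatedSpace Y₀ := quasiSeparatedSpace_of_quasiSeparated g₀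
  haveI : QuasiCompact f₀ := QuasiCompact.of_comp f₀ g₀
  haveI : QuasiSeparated f₀ := QuasiSeparated.of_comp f₀ g₀
  let D' := Groth.Agent.Lib.Lim.Basic.bcDiagram D g₀
  let c' := Groth.Agent.Lib.Lim.Basic.bcCone hY.w
  have hc' : IsLimit c' := Groth.Agent.Lib.Lim.Basic.isLimitBcCone hc hY
  haveI : ∀ {a b : Over i₀} (g : a ⟶ b), IsAffineHom (D'.map g) := fun g =>
    Groth.Agent.Lib.Lim.Basic.bcDiagram_map_prop D g₀ @IsAffineHom (fun g => inferInstance) g
  let o : Over i₀ := Over.mk (𝟙 i₀)
  let e : D'.obj o ⟶ Y₀ := pullback.fst g₀ (D.map (𝟙 i₀))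
  haveI : CompactSpace (D'.obj o) := Groth.Agent.Lib.Lim.Basic.compactSpace_bcDiagram D g₀ o
  haveI : QuasiSeparatedSpace (D'.obj o) := Groth.Agent.Lib.Lim.Basic.quasiSeparatedSpace_bcDiagram D g₀ o
  let π : Y ⟶ D'.obj o := c'.π.app o
  have hπe : π ≫ e = qY := Groth.Agent.Lib.Lim.Basic.bcCone_π_fst hY.w o
  let q : X ⟶ pullback f₀ e := pullback.lift qX (f ≫ π) (by rw [Category.assoc, hπe, hX.w])
  have hq : IsPullback q f (pullback.snd f₀ e) (c'.π.app o) := by
    refine IsPullback.of_right ?_ (pullback.lift_snd _ _ _) (IsPullback.of_hasPullback f₀ e)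
    show IsPullback (q ≫ pullback.fst f₀ e) f f₀ (π ≫ e)
    rw [pullback.lift_fst, hπe]
    exact hX
  have hgen' : ∀ x, Groth.Agent.H69.CounitStage.GenRel f
      ((Scheme.Modules.pullback q).obj ((Scheme.Modules.pullback (pullback.fst f₀ e)).obj L₀)) x := fun x =>
    Groth.Agent.H69.CounitStage.GenRel.of_iso
      ((Scheme.Modules.pullbackCongr (pullback.lift_fst _ _ _).symm).app L₀ ≪≫
        ((Scheme.Modules.pullbackComp q (pullback.fst f₀ e)).app L₀).symm)
      (Groth.Agent.Lib.Ample.CounitGen.exists_gen_section f (PicLoc.isInvertible_pullback qX hL₀) hgen x)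
  obtain ⟨j, ψ, hj⟩ := Groth.Agent.H69.CounitStage.exists_stage D' c' hc' o (pullback.snd f₀ e)
    ((Scheme.Modules.pullback (pullback.fst f₀ e)).obj L₀) (PicLoc.isInvertible_pullback _ hL₀) f q hq hgen'
  refine ⟨j.left, j.hom, fun k φ Xk Yk fk gk pY pX hYk hXk => ?_⟩
  refine Groth.Agent.H69.CounitStage.epi_counit fk fun z => ?_
  let t : Yk ⟶ D'.obj j := pullback.lift pY (gk ≫ D.map φ) (by rw [hYk.w, D.map_comp, Category.assoc])
  have ht : t ≫ D'.map ψ ≫ e = pY := by
    show t ≫ D'.map ψ ≫ pullback.fst g₀ (D.map o.hom) = pY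
    rw [Groth.Agent.Lib.Lim.Basic.bcDiagram_map_fst]
    exact pullback.lift_fst _ _ _
  let s : Xk ⟶ pullback f₀ e := pullback.lift pX (fk ≫ t ≫ D'.map ψ) (by
    rw [Category.assoc, Category.assoc, ht, hXk.w])
  let p : Xk ⟶ pullback (pullback.snd f₀ e) (D'.map ψ) := pullback.lift s (fk ≫ t) (by
    rw [pullback.lift_snd, Category.assoc])
  refine Groth.Agent.H69.CounitStage.GenRel.of_iso
    ((Scheme.Modules.pullbackComp p _).app _ ≪≫
      (Scheme.Modules.pullbackCongr (pullback.lift_fst _ _ _)).app _ ≪≫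
      (Scheme.Modules.pullbackComp s _).app L₀ ≪≫
      (Scheme.Modules.pullbackCongr (pullback.lift_fst _ _ _)).app L₀)
    (Groth.Agent.H69.CounitStage.GenRel.pullback (f' := fk) p t (pullback.lift_snd _ _ _).symm (hj (p z)))


end Groth.Agent.S17426
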