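import Groth.Statements.S17428
import Mathlib.RingTheory.AdicCompletion.AsTensorProduct
import Mathlib.RingTheory.RegularLocalRing.Defs
import Mathlib.RingTheory.Finiteness.Ideal
-- import your own Groth.Agent.* helpers here

set_option autoImplicit false
universe u
open FrobAlg

namespace Groth.Agent.S17428

/-- Let p be a prime, A a regular local ring of characteristic p whose absolute Frobenius a ↦ a^p is a
finite ring homomorphism, I an ideal of A and Â the I-adic completion of A. Then Spec Â → Spec A is
relatively perfect: the relative Frobenius Â ⊗_{A,Frob} A → Â, b ⊗ a ↦ b^p a, is bijective. (Â is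
also flat over A since A is Noetherian, so the morphism is flat and relatively perfect. The instance
hypothesis that Â has characteristic p holds as soon as I ≠ A.) -/
theorem result (p : ℕ) [Fact p.Prime]
    (A : Type u) [CommRing A] [IsRegularLocalRing A] [CharP A p] (hF : (frobenius A p).Finite)
    (I : Ideal A) [CharP (AdicCompletion I A) p] :
    Function.Bijective (FrobAlg.relFrob p A (AdicCompletion I A)) := by
  classical
  have hfin : Module.Finite A (FrobAlg.Twist p A) := hF
  have : IsNoetherianRing A := inferInstance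
  have hIrad : I ≤ (I.map (frobenius A p)).radical := fun a ha =>
    ⟨p, by simpa [frobenius_def] using Ideal.mem_map_of_mem (frobenius A p) ha⟩
  obtain ⟨c, hc⟩ := Ideal.exists_pow_le_of_le_radical_of_fg hIrad (IsNoetherian.noetherian I)
  have hc' : I ^ (c + 1) ≤ I.map (frobenius A p) := (Ideal.pow_le_pow_right (Nat.le_succ c)).trans hc
  let j : FrobAlg.Twist p A →+* A := ((FrobAlg.toTwist p A).symm : FrobAlg.Twist p A ≃+* A)
  have hjs : ∀ (a : A) (t : FrobAlg.Twist p A), j (a • t) = a ^ p * j t := fun a t => rfl
  have hjle : ∀ (n : ℕ) (t : FrobAlg.Twist p A),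
      t ∈ (I ^ n • ⊤ : Submodule A (FrobAlg.Twist p A)) → j t ∈ (I ^ n).map (frobenius A p) := by
    intro n t ht
    refine Submodule.smul_induction_on ht (fun a ha t _ => ?_) (fun x y hx hy => by rw [map_add]; exact add_mem hx hy)
    rw [hjs]
    exact Ideal.mul_mem_right _ _ (Ideal.mem_map_of_mem (frobenius A p) ha)
  have hjge : ∀ (n : ℕ) (a : A), a ∈ (I ^ n).map (frobenius A p) →
      FrobAlg.toTwist p A a ∈ (I ^ n • ⊤ : Submodule A (FrobAlg.Twist p A)) := by
    intro n a ha
    refine Submodule.span_induction ?_ ?_ (fun x y _ _ hx hy => by rw [map_add]; exact add_mem hx hy) ?_ ha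
    · rintro _ ⟨b, hb, rfl⟩
      have := Submodule.smul_mem_smul hb (Submodule.mem_top (R := A) (x := (1 : FrobAlg.Twist p A)))
      rwa [show b • (1 : FrobAlg.Twist p A) = FrobAlg.toTwist p A (frobenius A p b) by
        rw [Algebra.smul_def, mul_one]; rfl] at this
    · rw [map_zero]; exact zero_mem _
    · intro r x _ hx
      rw [smul_eq_mul, map_mul]
      refine Submodule.smul_induction_on hx (fun b hb t _ => ?_) (fun u v hu hv => by rw [mul_add]; exact add_mem hu hv)
      rw [mul_smul_comm]
      exact Submodule.smul_mem_smul hb Submodule.mem_top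
  have hmapI : ∀ n, (I ^ n).map (frobenius A p) ≤ I ^ n := by
    intro n
    rw [Ideal.map_le_iff_le_comap]
    intro a ha
    rw [Ideal.mem_comap, frobenius_def]
    exact Ideal.pow_mem_of_mem _ ha p (Fact.out : p.Prime).pos
  have hcn : ∀ n, I ^ ((c + 1) * n) ≤ (I ^ n).map (frobenius A p) := fun n => by
    rw [pow_mul, Ideal.map_pow]
    exact Ideal.pow_right_mono hc' n
  have key : ∀ (z : FrobAlg.BaseChange p A (AdicCompletion I A)) (n : ℕ), ∃ t : FrobAlg.Twist p A,
      Submodule.Quotient.mk t = (AdicCompletion.ofTensorProduct I (FrobAlg.Twist p A) z).val n ∧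
      AdicCompletion.evalₐ I n (FrobAlg.relFrob p A (AdicCompletion I A) z) = Ideal.Quotient.mk (I ^ n) (j t) := by
    intro z n
    induction z using TensorProduct.induction_on with
    | zero => exact ⟨0, by simp, by simp⟩
    | add x y hx hy =>
      obtain ⟨s, hs, hs'⟩ := hx
      obtain ⟨t, ht, ht'⟩ := hy
      exact ⟨s + t, by rw [Submodule.Quotient.mk_add, hs, ht, map_add]; rfl,
        by rw [map_add, map_add, hs', ht', map_add, map_add]⟩
    | tmul x a =>
      induction x using AdicCompletion.induction_on with
      | h x =>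
        refine ⟨x.val n • a, ?_, ?_⟩
        · rw [AdicCompletion.ofTensorProduct_tmul]
          rfl
        · have e : FrobAlg.relFrob p A (AdicCompletion I A) (AdicCompletion.mk I A x ⊗ₜ[A] a) =
              AdicCompletion.mk I A x ^ p * algebraMap A (AdicCompletion I A) (j a) := by
            simp [FrobAlg.relFrob, FrobAlg.frobHom, FrobAlg.inclHom, j, frobenius_def]
          rw [e, map_mul, map_pow, AdicCompletion.evalₐ_mk, AlgHom.commutes, hjs, map_mul, map_pow]
          rfl
  constructor
  · rw [injective_iff_map_eq_zero]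
    intro z hz
    apply (AdicCompletion.ofTensorProduct_bijective_of_finite_of_isNoetherian I (M := FrobAlg.Twist p A)).1
    rw [map_zero]
    refine Subtype.ext (funext fun n => ?_)
    obtain ⟨t, ht, ht'⟩ := key z ((c + 1) * n)
    rw [hz, map_zero, eq_comm, Ideal.Quotient.eq_zero_iff_mem] at ht'
    have hn : n ≤ (c + 1) * n := Nat.le_mul_of_pos_left n (Nat.succ_pos c)
    rw [← (AdicCompletion.ofTensorProduct I (FrobAlg.Twist p A) z).property hn, ← ht]
    exact (Submodule.Quotient.mk_eq_zero _).2 (hjge n _ (hcn n ht'))
  · intro y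
    induction y using AdicCompletion.induction_on with
    | h y =>
      have hy : AdicCompletion.IsAdicCauchy I (FrobAlg.Twist p A) (fun n => FrobAlg.toTwist p A (y.val ((c + 1) * n))) := by
        intro m n hmn
        rw [SModEq.sub_mem, ← map_sub]
        refine hjge m _ (hcn m ?_)
        have := SModEq.sub_mem.1 (y.property (Nat.mul_le_mul_left (c + 1) hmn))
        simpa [smul_eq_mul, Ideal.mul_top] using this
      obtain ⟨z, hz⟩ := (AdicCompletion.ofTensorProduct_bijective_of_finite_of_isNoetherian I
        (M := FrobAlg.Twist p A)).2 (AdicCompletion.mk I _ ⟨_, hy⟩)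
      refine ⟨z, AdicCompletion.ext_evalₐ fun n => ?_⟩
      obtain ⟨t, ht, ht'⟩ := key z n
      rw [hz] at ht
      rw [ht', AdicCompletion.evalₐ_mk, Ideal.Quotient.eq]
      have h1 := hmapI n (hjle n _ ((Submodule.Quotient.eq _).1 ht))
      rw [map_sub] at h1
      have h2 := SModEq.sub_mem.1 (y.property (Nat.le_mul_of_pos_left n (Nat.succ_pos c)))
      rw [smul_eq_mul, Ideal.mul_top] at h2
      rw [show j t - y.val n = (j t - y.val ((c + 1) * n)) - (y.val n - y.val ((c + 1) * n)) by ring]
      exact sub_mem h1 h2

end Groth.Agent.S17428
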