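import Groth.Statements.S17429
import Groth.Agent.H24.KaehlerFlat.Regular
import Groth.Agent.H24.KaehlerFlat.Weakly
import Groth.Agent.Lib.LCFin.Cd
import Groth.Agent.Lib.LocalCoh.Nonvanishing

set_option autoImplicit false
universe u
open LocCoh

namespace Groth.Agent.S17429

/-- Let p be a prime, A a regular local ring of characteristic p, t_1, …, t_r an A-regular sequence such
that A/(t_1, …, t_r) is again a regular local ring (a regular closed immersion Z ↪ X = Spec A of
codimension r with Z regular and non-empty), and I = (t_1, …, t_r). Then for every i and every j ≠ r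
the local cohomology module H^j_I(Ω^i_A) vanishes, where Ω^i_A is the i-th exterior power over A of
the module of Kähler differentials of A over ℤ (the same module as over the prime field). (Module
form, for X local, of the vanishing of the local cohomology sheaves H^j_Z(X, Ω^i_X), j ≠ r; the same
vanishing holds more generally for the de Rham–Witt sheaves W_mΩ^i_X and their quotients by
dV^{m-1}Ω^{i-1}_X on the étale site of a regular F_p-scheme, a form not stated here.) -/
theorem result (p : ℕ) [Fact p.Prime]
    (A : Type u) [CommRing A] [IsRegularLocalRing A] [CharP A p]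
    (ts : List A) (hreg : RingTheory.Sequence.IsRegular A ts)
    (hZ : IsRegularLocalRing (A ⧸ Ideal.ofList ts))
    (i j : ℕ) (hj : j ≠ ts.length) :
    Subsingleton (LocCoh.H (Ideal.ofList ts) j
      ↥(ExteriorAlgebra.exteriorPower A i (KaehlerDifferential ℤ A))) := by
  haveI : IsRegularRing A := inferInstance
  haveI : Module.Flat A (KaehlerDifferential ℤ A) := Groth.Agent.H24.KaehlerFlat.flat_kaehler_of_charP p A
  haveI : Module.Flat A ↥(ExteriorAlgebra.exteriorPower A i (KaehlerDifferential ℤ A)) :=
    Groth.Agent.H24.KaehlerFlat.flat_exteriorPower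
  rcases lt_or_gt_of_ne hj with hlt | hgt
  · exact Groth.Agent.Lib.LocalCoh.weaklyRegular_lc_subsingleton (Ideal.ofList ts)
      (M := ModuleCat.of A ↥(ExteriorAlgebra.exteriorPower A i (KaehlerDifferential ℤ A)))
      (Groth.Agent.H24.KaehlerFlat.isWeaklyRegular_of_flat _ hreg.toIsWeaklyRegular)
      (fun r hr => Ideal.subset_span hr) hlt
  · classical
    have hcd := Groth.Agent.Lib.LCFin.Cd.cdLE_card (R := A) ts.toFinset
    have hI : Ideal.span ((ts.toFinset : Finset A) : Set A) = Ideal.ofList ts := by
      simp [Ideal.ofList, List.coe_toFinset]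
    rw [hI] at hcd
    exact hcd _ j (lt_of_le_of_lt (List.toFinset_card_le ts) hgt)

end Groth.Agent.S17429
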