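import Groth.Statements.S17436
import Groth.Agent.Lib.DefoDual.Basic
import Groth.Agent.Lib.QCoh.Closure

set_option autoImplicit false
universe u
open CategoryTheory AlgebraicGeometry
open DefoSh

namespace Groth.Agent.S17436

open CategoryTheory.Limits Groth.Agent.Lib.DefoDual.Basic
open Groth.Agent.Lib Groth.Agent.Lib.DefoDual.Basic


/-- Let k be a field, X a scheme over k with a receptacle of differentials (Ω′, δ) over k, Ω′
quasi-coherent, and E a finite locally free O_X-module with a connection ∇ : E → E ⊗ Ω′. Let D be a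
first-order deformation of E (over k[ε]) with reduction π : D.sheaf → E, let ι : E → D.sheaf be
multiplication by ε (π ≫ ι = ε), and let c₀ be a deformation of ∇ over D (a connection on D.sheaf
commuting with k[ε] and reducing to ∇ along π). Then the deformations c of ∇ over D correspond
bijectively to the O_X-linear maps φ : E → E ⊗ Ω′ (the global sections of End(E) ⊗ Ω′ for a vector
bundle), the bijection Φ being pinned by c − c₀ = π ≫ Φ(c) ≫ (ι ⊗ 1). The printed statement is the
case of the trivial deformation E ⊕ εE; its clause on connections with fixed determinant is not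
stated. The published statement is for a curve with its sheaf of differentials; this row takes any
scheme over k with any quasi-coherent receptacle of differentials, which the printed computation
does not use. -/
theorem result (k : Type u) [Field k] (X : Scheme.{u})
    [X.Over (Spec (CommRingCat.of k))] (Ω' : X.Modules) (δ : OmegaSh.Der (X ↘ Spec (CommRingCat.of k)) Ω')
    (hΩ' : Coh.IsQCoh Ω') (E : X.Modules) (hE : FlatMod.IsFinLocFree E)
    (nabla : Coh.toAb E ⟶ Coh.toAb (CohB1.tensorMod E Ω')) (hn : ConnSh.IsConn δ E nabla)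
    (D : DefoSh.Defo E (ArtFun.Art.dual k k)) (ι : E ⟶ D.sheaf)
    (hι : D.π ≫ ι = D.act (DualNumber.eps : DualNumber k)) (c₀ : DefoSh.DefoConn δ nabla D) :
    ∃ Φ : DefoSh.DefoConn δ nabla D ≃ (E ⟶ CohB1.tensorMod E Ω'),
      ∀ c : DefoSh.DefoConn δ nabla D,
        c.conn - c₀.conn = (SheafOfModules.toSheaf X.ringCatSheaf).map (D.π ≫ Φ c ≫ KoszTw.tensorMap ι (𝟙 Ω')) := by
  have hι' : IsEps D ι := hι
  haveI := epi_π D
  haveI := mono_tm_ι hι' Ω' hE
  have key : ∀ c : DefoSh.DefoConn δ nabla D, ∃ φ : E ⟶ CohB1.tensorMod E Ω',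
      c.conn - c₀.conn = ab (D.π ≫ φ ≫ tm Ω' ι) := by
    intro c
    obtain ⟨ψ, hψ⟩ := exists_linear_diff c.isConn c₀.isConn
    have hπ : ψ ≫ tm Ω' D.π = 0 := by
      refine ab_injective ?_
      rw [ab_comp, ab_zero, hψ, Preadditive.sub_comp,
        ← (isHorizontal_iff _ _ _).mp c.π_horizontal, ← (isHorizontal_iff _ _ _).mp c₀.π_horizontal,
        sub_self]
    have hε : actM D eps ≫ ψ = ψ ≫ tm Ω' (actM D eps) := by
      refine ab_injective ?_
      rw [ab_comp, ab_comp, hψ, Preadditive.comp_sub,
        Preadditive.sub_comp, ← (isHorizontal_iff _ _ _).mp (c.act_horizontal eps),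
        ← (isHorizontal_iff _ _ _).mp (c₀.act_horizontal eps)]
    have hε0 : ι ≫ ψ = 0 := by
      rw [← cancel_epi D.π, ← Category.assoc, hι', hε, ← hι', tm_comp, ← Category.assoc, hπ,
        zero_comp, comp_zero]
    obtain ⟨g, hg⟩ := lift_tm hι' Ω' hE ψ hπ
    have hg0 : ι ≫ g = 0 := by
      rw [← cancel_mono (tm Ω' ι), Category.assoc, hg, hε0, zero_comp]
    obtain ⟨φ, hφ⟩ := desc_π hι' g hg0
    exact ⟨φ, by rw [← Category.assoc, hφ, hg, hψ]⟩
  choose Φ hΦ using key
  have hbij : Function.Bijective Φ := by
    constructor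
    · intro c c' h
      have e : c.conn - c₀.conn = c'.conn - c₀.conn := by rw [hΦ, hΦ, h]
      obtain ⟨a, _, _, _⟩ := c
      obtain ⟨a', _, _, _⟩ := c'
      obtain rfl : a = a' := sub_left_inj.mp e
      rfl
    · intro φ
      let c : DefoSh.DefoConn δ nabla D :=
        { conn := c₀.conn + ab (D.π ≫ φ ≫ tm Ω' ι)
          isConn := isConn_add c₀.isConn _
          act_horizontal := fun a => by
            rw [isHorizontal_iff]
            rw [Preadditive.comp_add, Preadditive.add_comp,
              (isHorizontal_iff _ _ _).mp (c₀.act_horizontal a)]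
            congr 1
            rw [← ab_comp, ← ab_comp]
            congr 1
            show actM D a ≫ D.π ≫ φ ≫ tm Ω' ι = (D.π ≫ φ ≫ tm Ω' ι) ≫ tm Ω' (actM D a)
            rw [← Category.assoc (actM D a), act_π hι', Category.assoc, Category.assoc, ← tm_comp,
              ι_act hι', tm_smul, Linear.comp_smul, Linear.comp_smul, Linear.smul_comp]
          π_horizontal := by
            rw [isHorizontal_iff, Preadditive.add_comp,
              (isHorizontal_iff _ _ _).mp c₀.π_horizontal]
            have h0 : ab (D.π ≫ φ ≫ tm Ω' ι) ≫ ab (tm Ω' D.π) = 0 := by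
              rw [← ab_comp, Category.assoc, Category.assoc, tm_ι_π hι', comp_zero,
                comp_zero, ab_zero]
            rw [h0, add_zero] }
      refine ⟨c, ?_⟩
      have h := hΦ c
      rw [add_sub_cancel_left] at h
      have h' := ab_injective h
      rw [cancel_epi, cancel_mono] at h'
      exact h'.symm
  exact ⟨Equiv.ofBijective Φ hbij, fun c => hΦ c⟩

end Groth.Agent.S17436
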