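import Groth.Statements.S17437
import Groth.Agent.Lib.DefoDual.Basic
import Groth.Agent.Lib.QCoh.Closure

set_option autoImplicit false
universe u
open CategoryTheory AlgebraicGeometry
open DefoSh

namespace Groth.Agent.S17437

open CategoryTheory.Limits Groth.Agent.Lib.DefoDual.Basic
open Groth.Agent.Lib Groth.Agent.Lib.DefoDual.Basic


/-- Let k be a field, X a scheme over k with a receptacle of differentials (Ω′, δ) over k, Ω′
quasi-coherent, and E a finite locally free O_X-module with a connection ∇ : E → E ⊗ Ω′. Let D be a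
first-order deformation of E with reduction π : D.sheaf → E and let ι : E → D.sheaf be
multiplication by ε (π ≫ ι = ε). Two deformations c and c′ of ∇ over D are transport equivalent —
some automorphism of D inducing the identity of E carries c to c′ — if and only if there is a global
endomorphism S of E with c′ − c = π ≫ (∇ ≫ (S ⊗ 1) − S ≫ ∇) ≫ (ι ⊗ 1); the middle map is minus the
covariant derivative of S for the connection induced on End(E), so together with the bijection
between deformations of ∇ over D and Hom(E, E ⊗ Ω′) this identifies transport classes with H⁰(End(E)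
⊗ Ω′) modulo the derivatives of global endomorphisms. The printed statement is the case of the
trivial deformation. The published statement is for a curve with its sheaf of differentials; this
row takes any scheme over k with any quasi-coherent receptacle of differentials, which the printed
computation does not use. -/
theorem result (k : Type u) [Field k] (X : Scheme.{u})
    [X.Over (Spec (CommRingCat.of k))] (Ω' : X.Modules) (δ : OmegaSh.Der (X ↘ Spec (CommRingCat.of k)) Ω')
    (hΩ' : Coh.IsQCoh Ω') (E : X.Modules) (hE : FlatMod.IsFinLocFree E)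
    (nabla : Coh.toAb E ⟶ Coh.toAb (CohB1.tensorMod E Ω')) (hn : ConnSh.IsConn δ E nabla)
    (D : DefoSh.Defo E (ArtFun.Art.dual k k)) (ι : E ⟶ D.sheaf)
    (hι : D.π ≫ ι = D.act (DualNumber.eps : DualNumber k)) (c c' : DefoSh.DefoConn δ nabla D) :
    DefoSh.DefoConn.Transport c c' ↔ ∃ S : E ⟶ E,
      c'.conn - c.conn = (SheafOfModules.toSheaf X.ringCatSheaf).map D.π ≫
        (nabla ≫ (SheafOfModules.toSheaf X.ringCatSheaf).map (KoszTw.tensorMap S (𝟙 Ω')) - (SheafOfModules.toSheaf X.ringCatSheaf).map S ≫ nabla) ≫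
          (SheafOfModules.toSheaf X.ringCatSheaf).map (KoszTw.tensorMap ι (𝟙 Ω')) := by
  have hι' : IsEps D ι := hι
  haveI := epi_π D
  haveI := mono_tm_ι hι' Ω' hE
  haveI : Epi (ab D.π) := Lib.QCoh.Closure.epi_toSheaf_map D.π
  have hπc := (isHorizontal_iff _ _ _).mp c.π_horizontal
  have hιc : ab ι ≫ c'.conn = nabla ≫ ab (tm Ω' ι) := by
    rw [← cancel_epi (ab D.π), ← Category.assoc, ← Category.assoc,
      (isHorizontal_iff _ _ _).mp c'.π_horizontal]
    have h := (isHorizontal_iff _ _ _).mp (c'.act_horizontal eps)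
    have h' : ab (D.π ≫ ι) ≫ c'.conn = c'.conn ≫ ab (tm Ω' (D.π ≫ ι)) := by
      rw [hι']
      exact h
    rw [tm_comp, ab_comp, ab_comp] at h'
    rw [Category.assoc (c'.conn)]
    exact h'
  have calcu : ∀ (S : E ⟶ E) (f : D.sheaf ⟶ D.sheaf), f = 𝟙 _ + D.π ≫ S ≫ ι →
      (ConnSh.IsHorizontal c.conn c'.conn f ↔ c'.conn - c.conn = ab D.π ≫
        (nabla ≫ ab (tm Ω' S) - ab S ≫ nabla) ≫ ab (tm Ω' ι)) := by
    intro S f hf
    rw [isHorizontal_iff, hf, tm_add, tm_id, tm_comp, tm_comp]
    simp only [ab_add, ab_id, ab_comp,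
      Preadditive.add_comp, Preadditive.comp_add, Preadditive.sub_comp, Preadditive.comp_sub,
      Category.assoc, Category.id_comp, Category.comp_id]
    rw [hιc]
    have e1 : c.conn ≫ ab (tm Ω' D.π) ≫ ab (tm Ω' S) ≫ ab (tm Ω' ι) =
        ab D.π ≫ nabla ≫ ab (tm Ω' S) ≫ ab (tm Ω' ι) := by
      rw [← Category.assoc (c.conn), ← hπc, Category.assoc]
    rw [e1]
    constructor
    · intro h
      linear_combination (norm := abel) h
    · intro h
      linear_combination (norm := abel) h
  constructor
  · rintro ⟨e, he⟩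
    have hε : actM D eps ≫ e.iso.hom = e.iso.hom ≫ actM D eps := e.act_hom eps
    have h1 : (e.iso.hom - 𝟙 _) ≫ D.π = 0 := by
      rw [Preadditive.sub_comp, e.hom_π, Category.id_comp, sub_self]
    haveI := (shortExact hι').mono_f
    obtain ⟨T, hT⟩ := (shortExact hι').exact.lift' (e.iso.hom - 𝟙 _) h1
    change T ≫ ι = _ at hT
    have hT0 : ι ≫ T = 0 := by
      rw [← cancel_mono ι, ← cancel_epi D.π, Category.assoc, hT, ← Category.assoc, hι',
        Preadditive.comp_sub, hε, Category.comp_id, zero_comp, comp_zero]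
      have : (e.iso.hom - 𝟙 _) ≫ actM D eps = 0 := by
        rw [← hι', ← Category.assoc, h1, zero_comp]
      rwa [Preadditive.sub_comp, Category.id_comp] at this
    obtain ⟨S, hS⟩ := desc_π hι' T hT0
    refine ⟨S, (calcu S e.iso.hom ?_).mp he⟩
    rw [← Category.assoc, hS, hT, add_sub_cancel]
  · rintro ⟨S, hS⟩
    have hn : ∀ A B : E ⟶ E, (D.π ≫ A ≫ ι) ≫ (D.π ≫ B ≫ ι) = 0 := by
      intro A B
      simp only [Category.assoc, reassoc_of% (ι_π hι'), zero_comp, comp_zero]
    let e : D.sheaf ≅ D.sheaf :=
      { hom := 𝟙 _ + D.π ≫ S ≫ ι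
        inv := 𝟙 _ - D.π ≫ S ≫ ι
        hom_inv_id := by
          simp only [Preadditive.add_comp, Preadditive.comp_sub, Category.id_comp, Category.comp_id, hn]
          abel
        inv_hom_id := by
          simp only [Preadditive.sub_comp, Preadditive.comp_add, Category.id_comp, Category.comp_id, hn]
          abel }
    refine ⟨⟨e, fun a => ?_, ?_⟩, (calcu S e.hom rfl).mpr hS⟩
    · show actM D a ≫ (𝟙 _ + D.π ≫ S ≫ ι) = (𝟙 _ + D.π ≫ S ≫ ι) ≫ actM D a
      rw [Preadditive.comp_add, Preadditive.add_comp, Category.comp_id, Category.id_comp,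
        ← Category.assoc (actM D a), act_π hι', Category.assoc, Category.assoc, ι_act hι',
        Linear.comp_smul, Linear.comp_smul, Linear.smul_comp]
    · show (𝟙 _ + D.π ≫ S ≫ ι) ≫ D.π = D.π
      rw [Preadditive.add_comp, Category.id_comp, Category.assoc, Category.assoc, ι_π hι',
        comp_zero, comp_zero, add_zero]

end Groth.Agent.S17437
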