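import Groth.Statements.S17438
import Groth.Agent.Lib.DefoDual.FirstOrder
import Groth.Agent.Lib.DefoDual.Cech1
import Groth.Agent.Lib.SqZeroLift.ExtVanish
import Groth.Agent.H18.Sec.HomIso
import Groth.Agent.Lib.HomFP.QCoh
import Groth.Agent.Lib.TensorMod.FPConv
import Groth.Agent.Lib.ZarCoh.Affine
import Groth.Agent.Lib.Modules.AffineSections
-- import your own Groth.Agent.* helpers here

set_option autoImplicit false
universe u
open CategoryTheory AlgebraicGeometry
open DefoSh

namespace Groth.Agent.S17438

/-- Let k be a field, X a scheme over k, U₀ and U₁ two affine opens covering X, and E an O_X-module free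
of the same finite rank n on U₀ and on U₁ (a vector bundle given by one transition matrix). Then the
isomorphism classes of deformations of E over the dual numbers k[ε] (O_X-modules with a k[ε]-action,
flat stalkwise, with reduction identified with E) are in bijection with the first Čech cohomology
group of the cover (U₀, U₁) with coefficients in the sheaf End(E), by a bijection taking the class
of the trivial deformation E ⊕ εE to 0 (existence of such a bijection only: the cocycle attached to
a deformation depends on chosen trivializations over U₀ and U₁). The assertion on deformations with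
fixed determinant is not stated. The published statement is for a curve and uses the sheaf
cohomology H¹(C, End(E)); this row takes any scheme over k covered by two affine opens on which E is
free, as the printed proof uses, and the Čech cohomology of that cover. -/
theorem result (k : Type u) [Field k] (X : Scheme.{u})
    [X.Over (Spec (CommRingCat.of k))] (U : ULift.{u} (Fin 2) → X.Opens)
    (hU : ∀ i, IsAffineOpen (U i)) (hcov : ⨆ i, U i = ⊤) (E : X.Modules) (n : ℕ)
    (hfree : ∀ i, Nonempty (E.restrict (U i).ι ≅ FlatMod.freeMod ↑(U i) n)) :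
    ∃ e : DefoSh.FirstOrder k E ≃ ↑(CohB1.cechH U (RefHull.homSh E E) 1),
      e (DefoSh.Defo.trivDual k E).cl = 0 := by
  letI : HasExt.{u} X.Modules := inferInstance
  haveI := Groth.Agent.Lib.SqZeroLift.ExtVanish.hasSheafHom' E
  have hE : FlatMod.IsFinLocFree E := fun x => by
    have hx : x ∈ (⨆ i, U i : X.Opens) := hcov ▸ trivial
    obtain ⟨i, hi⟩ := TopologicalSpace.Opens.mem_iSup.mp hx
    exact ⟨U i, n, hi, hfree i⟩
  obtain ⟨eh⟩ := Groth.Agent.H18.Sec.HomIso.nonempty_iso E E
  haveI : (RefHull.homSh E E).IsQuasicoherent :=
    Groth.Agent.Lib.HomFP.isQCoh_homSh_of_isFP (Groth.Agent.Lib.TensorMod.FPConv.isFP_of_isFinLocFree hE)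
      (Groth.Agent.Lib.Modules.AffineSections.isQCoh_of_isFinLocFree hE)
  obtain ⟨c⟩ := Groth.Agent.Lib.DefoDual.Cech1.nonempty_cechH_one_addEquiv_H U hcov (Coh.toAb (RefHull.homSh E E))
    (fun i => Groth.Agent.Lib.ZarCoh.Affine.HU_subsingleton _ (hU i) 0)
  obtain ⟨e, he, -⟩ := Groth.Agent.Lib.DefoDual.FirstOrder.exists_equiv (k := k) (E := E)
  let g : Abelian.Ext.{u} E E 1 ≃+ ↑(CohB1.cechH U (RefHull.homSh E E) 1) :=
    ((Groth.Agent.Lib.ExtHH.SheafHom.extLinearEquiv k hE E 1).toAddEquiv.trans
      (((Sheaf.functorH (Opens.grothendieckTopology X) 1).mapIso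
        ((SheafOfModules.toSheaf X.ringCatSheaf).mapIso eh)).addCommGroupIsoToAddEquiv)).trans c.symm
  exact ⟨e.trans g.toEquiv, (congrArg g he).trans (map_zero g)⟩

end Groth.Agent.S17438
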