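import Groth.Statements.S17439
import Groth.Agent.Lib.DefoDual.Basic

set_option autoImplicit false
universe u
open CategoryTheory AlgebraicGeometry
open DefoSh

namespace Groth.Agent.S17439

open CategoryTheory.Limits Groth.Agent.Lib Groth.Agent.Lib.DefoDual.Basic


/-- Let k be a field, X a scheme over k with a receptacle of differentials (Ω′, δ) over k, Ω′
quasi-coherent, and E a finite locally free O_X-module with a connection ∇ : E → E ⊗ Ω′. Then ∇ has
at least one deformation over the trivial first-order deformation E ⊕ εE of E (a connection on E ⊕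
εE commuting with k[ε] and reducing to ∇), so the set of deformations of ∇ over the trivial
deformation (the set that corresponds to H⁰(End(E) ⊗ Ω′)) is not empty. The published statement is
for a curve with its sheaf of differentials; this row takes any scheme over k with any
quasi-coherent receptacle of differentials, which the printed computation does not use. -/
theorem result (k : Type u) [Field k] (X : Scheme.{u})
    [X.Over (Spec (CommRingCat.of k))] (Ω' : X.Modules) (δ : OmegaSh.Der (X ↘ Spec (CommRingCat.of k)) Ω')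
    (hΩ' : Coh.IsQCoh Ω') (E : X.Modules) (hE : FlatMod.IsFinLocFree E)
    (nabla : Coh.toAb E ⟶ Coh.toAb (CohB1.tensorMod E Ω')) (hn : ConnSh.IsConn δ E nabla) :
    Nonempty (DefoSh.DefoConn δ nabla (DefoSh.Defo.trivDual k E)) := by
  have hδ : ∀ (U : X.Opens) (r : k),
      δ.app U (X.presheaf.map (homOfLE (le_top : U ≤ ⊤)).op
        (Coh.toGlobal (X ↘ Spec (CommRingCat.of k)) r)) = 0 := by
    intro U r
    have h0 : δ.d (X := Opposite.op (⊤ : X.Opens))
        (Coh.toGlobal (X ↘ Spec (CommRingCat.of k)) r) = 0 :=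
      δ.d_app (X := Opposite.op (⊤ : (Spec (CommRingCat.of k)).Opens))
        ((Scheme.ΓSpecIso (CommRingCat.of k)).inv r)
    rw [OmegaSh.Der.app_apply, δ.d_map, h0]
    exact map_zero _
  have hscal : ∀ r : k, ab (r • 𝟙 E) ≫ nabla = nabla ≫ ab (tm Ω' (r • 𝟙 E)) := by
    intro r
    rw [← isHorizontal_iff]
    intro U e
    show ConnSh.secApp nabla U ((r • 𝟙 E : E ⟶ E).app U e) = (tm Ω' (r • 𝟙 E)).app U (ConnSh.secApp nabla U e)
    rw [tm_smul_id]
    erw [KLin.smul_app_apply, KLin.smul_app_apply]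
    refine (hn U _ e).trans ?_
    rw [hδ U r]
    have hz : SecTwist.tmul E Ω' U e 0 = 0 := Modules.TensorSec.tens_zero_right (M := E) (N := Ω') e
    exact (congrArg (_ + ·) hz).trans (add_zero _)
  let cc : Coh.toAb (E ⊞ E) ⟶ Coh.toAb (CohB1.tensorMod (E ⊞ E) Ω') :=
    ab (biprod.fst : E ⊞ E ⟶ E) ≫ nabla ≫ ab (tm Ω' biprod.inl) +
      ab (biprod.snd : E ⊞ E ⟶ E) ≫ nabla ≫ ab (tm Ω' biprod.inr)
  refine ⟨{ conn := cc, isConn := ?_, act_horizontal := fun a => ?_, π_horizontal := ?_ }⟩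
  · intro U t (e : (E ⊞ E).val.obj (Opposite.op U))
    have hsec : ∀ x, ConnSh.secApp cc U x =
        (tm Ω' (biprod.inl : E ⟶ E ⊞ E)).app U (ConnSh.secApp nabla U ((biprod.fst : E ⊞ E ⟶ E).app U x)) +
          (tm Ω' (biprod.inr : E ⟶ E ⊞ E)).app U (ConnSh.secApp nabla U ((biprod.snd : E ⊞ E ⟶ E).app U x)) :=
      fun _ => rfl
    have key : ∀ (i : E ⟶ E ⊞ E) (p : E ⊞ E ⟶ E),
        (tm Ω' i).app U (ConnSh.secApp nabla U (p.app U (t • e))) =
          t • (tm Ω' i).app U (ConnSh.secApp nabla U (p.app U e)) +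
            Modules.TensorSec.tens (M := E ⊞ E) (N := Ω') ((p ≫ i).app U e) (δ.app U t) := by
      intro i p
      erw [Scheme.Modules.Hom.app_smul, hn U t, map_add, Scheme.Modules.Hom.app_smul]
      congr 1
      rw [tm, ← KoszTw.tensorBi_map_app, DerivedOX.PullTensor.tensorBi_map_app]
      exact (Modules.TensorSec.tmap_tens i (𝟙 Ω') _ _).trans rfl
    erw [hsec, hsec, key, key, smul_add]
    rw [add_add_add_comm]
    congr 1
    have htot : (((biprod.fst : E ⊞ E ⟶ E) ≫ biprod.inl).app U e +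
        ((biprod.snd : E ⊞ E ⟶ E) ≫ biprod.inr).app U e : Γ(E ⊞ E, U)) = e :=
      congr(($(biprod.total (X := E) (Y := E))).app U e)
    conv_rhs => rw [← htot]
    exact (Modules.TensorSec.tens_add_left _ _ _).symm
  · rw [isHorizontal_iff]
    have hact : ∀ b : DualNumber k, ((DefoSh.Defo.trivDual k E).act b : E ⊞ E ⟶ E ⊞ E) =
        b.fst • 𝟙 (E ⊞ E) + b.snd • ((biprod.fst : E ⊞ E ⟶ E) ≫ biprod.inr) := DefoSh.dualAct_hom E
    change ab ((DefoSh.Defo.trivDual k E).act a : E ⊞ E ⟶ E ⊞ E) ≫ cc =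
      cc ≫ ab (tm Ω' ((DefoSh.Defo.trivDual k E).act a : E ⊞ E ⟶ E ⊞ E))
    suffices key : ∀ r s : k, ab (r • 𝟙 (E ⊞ E) + s • ((biprod.fst : E ⊞ E ⟶ E) ≫ biprod.inr)) ≫ cc =
        cc ≫ ab (tm Ω' (r • 𝟙 (E ⊞ E) + s • ((biprod.fst : E ⊞ E ⟶ E) ≫ biprod.inr))) by
      rw [hact]; exact key _ _
    intro r₀ s₀
    have hs : ∀ (r : k) (p : E ⊞ E ⟶ E) (i : E ⟶ E ⊞ E),
        ab (r • 𝟙 (E ⊞ E)) ≫ ab p ≫ nabla ≫ ab (tm Ω' i) =
          ab p ≫ nabla ≫ ab (tm Ω' i) ≫ ab (tm Ω' (r • 𝟙 (E ⊞ E))) := by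
      intro r p i
      rw [← Category.assoc, ← ab_comp, Linear.smul_comp, Category.id_comp,
        show r • p = p ≫ (r • 𝟙 E) by rw [Linear.comp_smul, Category.comp_id], ab_comp,
        Category.assoc, reassoc_of% (hscal r), ← ab_comp, ← ab_comp, ← tm_comp, ← tm_comp,
        Linear.smul_comp, Linear.comp_smul, Category.id_comp, Category.comp_id]
    have h1 : ab ((biprod.fst : E ⊞ E ⟶ E) ≫ biprod.inr) ≫ cc =
        cc ≫ ab (tm Ω' ((biprod.fst : E ⊞ E ⟶ E) ≫ biprod.inr)) := by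
      simp only [cc, Preadditive.comp_add, Preadditive.add_comp, Category.assoc, ← ab_comp,
        ← tm_comp, biprod.inl_fst_assoc, biprod.inr_fst_assoc, tm_zero, ab_zero, comp_zero,
        Category.comp_id, zero_comp]
      rw [← Category.assoc (ab _) (ab _), ← ab_comp, ← Category.assoc (ab _) (ab _), ← ab_comp]
      simp only [Category.assoc, biprod.inr_fst, biprod.inr_snd, comp_zero, ab_zero, zero_comp,
        Category.comp_id, zero_add, add_zero]
    have h2 : ∀ r : k, ab (r • 𝟙 (E ⊞ E)) ≫ cc = cc ≫ ab (tm Ω' (r • 𝟙 (E ⊞ E))) := fun r => by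
      rw [Preadditive.comp_add, Preadditive.add_comp, hs, hs]
      simp only [cc, Category.assoc]
    have h3 : ab (s₀ • ((biprod.fst : E ⊞ E ⟶ E) ≫ biprod.inr)) ≫ cc =
        cc ≫ ab (tm Ω' (s₀ • ((biprod.fst : E ⊞ E ⟶ E) ≫ biprod.inr))) := by
      rw [show s₀ • ((biprod.fst : E ⊞ E ⟶ E) ≫ biprod.inr) =
        (s₀ • 𝟙 (E ⊞ E)) ≫ ((biprod.fst : E ⊞ E ⟶ E) ≫ biprod.inr) by
          rw [Linear.smul_comp, Category.id_comp]]
      rw [ab_comp (f := s₀ • 𝟙 (E ⊞ E)), tm_comp (f := s₀ • 𝟙 (E ⊞ E)), ab_comp (f := tm Ω' (s₀ • 𝟙 (E ⊞ E))), Category.assoc, h1,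
        reassoc_of% (h2 _)]
    rw [ab_add, tm_add, ab_add]
    exact (Preadditive.add_comp _ _ _ _ _ _).trans
      ((congrArg₂ (· + ·) (h2 r₀) h3).trans (Preadditive.comp_add _ _ _ _ _ _).symm)
  · rw [isHorizontal_iff]
    change ab (biprod.fst : E ⊞ E ⟶ E) ≫ nabla = cc ≫ ab (tm Ω' (biprod.fst : E ⊞ E ⟶ E))
    simp only [cc, Preadditive.add_comp, Category.assoc, ← ab_comp, ← tm_comp, biprod.inl_fst,
      biprod.inr_fst, tm_id, ab_id, tm_zero, ab_zero, Category.comp_id, comp_zero, add_zero]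

end Groth.Agent.S17439
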