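import Groth.Statements.S17440
import Groth.Agent.Lib.DefoDual.FirstOrder
import Groth.Agent.Lib.Modules.Free
-- import your own Groth.Agent.* helpers here

set_option autoImplicit false
universe u
open CategoryTheory AlgebraicGeometry
open DefoSh

namespace Groth.Agent.S17440

open CategoryTheory.Limits Groth.Agent.Lib Groth.Agent.Lib.DefoDual.Basic

/-- Scalars commute with morphisms of restrictions. -/
theorem scalar_comm {k : Type u} [Field k] {X Y : Scheme.{u}} [X.Over (Spec (CommRingCat.of k))]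
    (f : Y ⟶ X) [IsOpenImmersion f] {M N : X.Modules} (g : M.restrict f ⟶ N.restrict f) (c : k) :
    (Scheme.Modules.restrictFunctor f).map (c • 𝟙 M) ≫ g =
      g ≫ (Scheme.Modules.restrictFunctor f).map (c • 𝟙 N) := by
  refine Scheme.Modules.hom_ext _ _ fun V => ConcreteCategory.ext_apply fun s => ?_
  let r : Γ(X, f ''ᵁ V) := X.presheaf.map (homOfLE (le_top : f ''ᵁ V ≤ ⊤)).op
    (Coh.toGlobal (X ↘ Spec (CommRingCat.of k)) c)
  have hM : ∀ (L : X.Modules) (t : Γ(L, f ''ᵁ V)), (c • 𝟙 L).app (f ''ᵁ V) t = r • t :=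
    fun L t => KLin.smul_app_apply c (𝟙 L) _ t
  have hr : ∀ (L : X.Modules) (t : Γ(L, f ''ᵁ V)),
      (show Γ(L.restrict f, V) from r • t) = (f.appIso V).hom r • (show Γ(L.restrict f, V) from t) := fun L t => by
    refine congrArg (fun r' : Γ(X, f ''ᵁ V) => r' • t) ?_
    exact (ConcreteCategory.congr_hom (f.appIso V).hom_inv_id r).symm
  show g.app V ((c • 𝟙 M).app (f ''ᵁ V) s) = (c • 𝟙 N).app (f ''ᵁ V) (g.app V s)
  rw [hM, hM]
  refine (congrArg (g.app V) (hr M s)).trans ?_
  rw [Scheme.Modules.Hom.app_smul]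
  exact (hr N (g.app V s)).symm

/-- Let k be a field, X a scheme over k, E a finite locally free O_X-module and D a first-order
deformation of E, with reduction π : D.sheaf → E. Then D is locally trivial: every point of X has an
open neighbourhood U together with an isomorphism of O_U-modules between the restrictions to U of
D.sheaf and of E ⊕ εE which commutes with the actions of k[ε] and with the reductions to E. In
particular the deformed module is again a vector bundle over the dual numbers. -/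
theorem result (k : Type u) [Field k] (X : Scheme.{u})
    [X.Over (Spec (CommRingCat.of k))] (E : X.Modules) (hE : FlatMod.IsFinLocFree E)
    (D : DefoSh.Defo E (ArtFun.Art.dual k k)) (x : X) :
    ∃ (U : X.Opens) (e : D.sheaf.restrict U.ι ≅ (DefoSh.Defo.trivDual k E).sheaf.restrict U.ι), x ∈ U ∧
      e.hom ≫ (Scheme.Modules.restrictFunctor U.ι).map (DefoSh.Defo.trivDual k E).π =
        (Scheme.Modules.restrictFunctor U.ι).map D.π ∧
      ∀ a : ArtFun.Art.dual k k, (Scheme.Modules.restrictFunctor U.ι).map (D.act a) ≫ e.hom =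
        e.hom ≫ (Scheme.Modules.restrictFunctor U.ι).map ((DefoSh.Defo.trivDual k E).act a) := by
  obtain ⟨W, n, hxW, ⟨eW⟩⟩ := hE x
  haveI := epi_π D
  obtain ⟨W₁, hW₁, hlift⟩ := Groth.Agent.Lib.Modules.Free.exists_lift
    ((Scheme.Modules.restrictFunctor W.ι).map D.π) eW.inv (⟨x, hxW⟩ : W)
  let U : X.Opens := W.ι ''ᵁ W₁
  have hUW : U ≤ W := W.ι_image_le W₁
  have hf : X.homOfLE hUW ''ᵁ ⊤ ≤ W₁ := by
    rintro a ⟨b, -, rfl⟩
    have heq : W.ι (X.homOfLE hUW b) = U.ι b :=
      (Scheme.Hom.comp_apply (X.homOfLE hUW) W.ι b).symm.trans (by rw [X.homOfLE_ι])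
    obtain ⟨c, hc, hc'⟩ := (b.2 : (U.ι b : X) ∈ W.ι ''ᵁ W₁)
    have hc2 : c = X.homOfLE hUW b := W.ι.isOpenEmbedding.injective (hc'.trans heq.symm)
    exact hc2 ▸ hc
  obtain ⟨ψ, hψ⟩ := hlift (X.homOfLE hUW) hf
  let η := Scheme.Modules.restrictFunctorCongr (X.homOfLE_ι hUW).symm ≪≫
    Scheme.Modules.restrictFunctorComp (X.homOfLE hUW) W.ι
  let R := Scheme.Modules.restrictFunctor U.ι
  let σ : R.obj E ⟶ R.obj D.sheaf :=
    η.hom.app E ≫ (Scheme.Modules.restrictFunctor (X.homOfLE hUW)).map eW.hom ≫ ψ ≫ η.inv.app D.sheaf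
  have hσ : σ ≫ R.map D.π = 𝟙 _ := by
    have h1 : η.inv.app D.sheaf ≫ R.map D.π = (Scheme.Modules.restrictFunctor (X.homOfLE hUW)).map
        ((Scheme.Modules.restrictFunctor W.ι).map D.π) ≫ η.inv.app E := (η.inv.naturality D.π).symm
    simp only [σ, Category.assoc]
    rw [h1, reassoc_of% hψ, ← Functor.map_comp_assoc, eW.hom_inv_id]
    simp
    rfl
  obtain ⟨ι, hι⟩ := DefoDual.FirstOrder.exists_isEps D
  let S := seq hι
  have hS : S.ShortExact := shortExact hι
  let T := DefoSh.Defo.trivDual k E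
  haveI : Mono (R.map ι) := (hS.map_of_exact R).mono_f
  let sp : (S.map R).Splitting := ShortComplex.Splitting.ofExactOfSection (S.map R)
    (hS.map_of_exact R).exact σ hσ (hS.map_of_exact R).mono_f
  let r : R.obj D.sheaf ⟶ R.obj E := sp.r
  have hr : R.map ι ≫ r = 𝟙 (R.obj E) := sp.f_r
  have hid : r ≫ R.map ι + R.map D.π ≫ σ = 𝟙 (R.obj D.sheaf) := sp.id
  have hσr : σ ≫ r = 0 := sp.s_r
  have hιπ : R.map ι ≫ R.map D.π = 0 := (S.map R).zero
  let e : R.obj D.sheaf ≅ R.obj (E ⊞ E) :=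
    { hom := R.map D.π ≫ R.map (biprod.inl : E ⟶ E ⊞ E) + r ≫ R.map (biprod.inr : E ⟶ E ⊞ E)
      inv := R.map (biprod.fst : E ⊞ E ⟶ E) ≫ σ + R.map (biprod.snd : E ⊞ E ⟶ E) ≫ R.map ι
      hom_inv_id := by
        simp only [Preadditive.add_comp, Preadditive.comp_add, Category.assoc, ← Functor.map_comp_assoc,
          biprod.inl_fst, biprod.inl_snd, biprod.inr_fst, biprod.inr_snd, Functor.map_zero, Functor.map_id,
          zero_comp, comp_zero, Category.id_comp, add_zero, zero_add]
        rw [add_comm]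
        exact hid
      inv_hom_id := by
        simp only [Preadditive.add_comp, Preadditive.comp_add, Category.assoc, reassoc_of% hσ,
          reassoc_of% hσr, reassoc_of% hr, reassoc_of% hιπ, zero_comp, comp_zero, add_zero, zero_add]
        rw [← R.map_comp, ← R.map_comp, ← R.map_add, biprod.total]
        exact R.map_id _ }
  have hπ : e.hom ≫ R.map T.π = R.map D.π := by
    show _ ≫ R.map (biprod.fst : E ⊞ E ⟶ E) = _
    simp only [e, Preadditive.add_comp, Category.assoc, ← R.map_comp, biprod.inl_fst, biprod.inr_fst]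
    simp
  refine ⟨U, e, ⟨⟨x, hxW⟩, hW₁, rfl⟩, hπ, fun a => ?_⟩
  have hT : (T.act a : E ⊞ E ⟶ E ⊞ E) = TrivSqZeroExt.fst (a : DualNumber k) • 𝟙 (E ⊞ E) +
      (TrivSqZeroExt.snd (a : DualNumber k) • 𝟙 (E ⊞ E)) ≫ ((biprod.fst : E ⊞ E ⟶ E) ≫ biprod.inr) := by
    refine (DefoSh.dualAct_hom E a).trans ?_
    rw [Linear.smul_comp, Category.id_comp]
    rfl
  have hD : (D.act a : D.sheaf ⟶ D.sheaf) = TrivSqZeroExt.fst (a : DualNumber k) • 𝟙 D.sheaf +
      (TrivSqZeroExt.snd (a : DualNumber k) • 𝟙 D.sheaf) ≫ (D.π ≫ ι) := by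
    rw [Linear.smul_comp, Category.id_comp, hι]
    exact act_add_smul D a
  have hε : R.map (D.π ≫ ι) ≫ e.hom = e.hom ≫ R.map ((biprod.fst : E ⊞ E ⟶ E) ≫ biprod.inr) := by
    simp only [e, Preadditive.add_comp, Preadditive.comp_add, Functor.map_comp, Category.assoc,
      reassoc_of% hιπ, reassoc_of% hr]
    simp only [← Functor.map_comp_assoc, biprod.inl_fst, biprod.inr_fst, Functor.map_zero, Functor.map_id,
      zero_comp, comp_zero, Category.id_comp, Category.comp_id, add_zero, zero_add]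
  clear_value e
  show R.map (D.act a) ≫ e.hom = e.hom ≫ R.map (T.act a)
  rw [hD, hT]
  generalize TrivSqZeroExt.fst (a : DualNumber k) = c₁
  generalize TrivSqZeroExt.snd (a : DualNumber k) = c₂
  erw [R.map_add, R.map_add]
  rw [Preadditive.add_comp, Preadditive.comp_add]
  congr 1
  · exact scalar_comm U.ι e.hom c₁
  · rw [R.map_comp, Category.assoc, hε, ← Category.assoc]
    refine (congrArg (· ≫ _) (scalar_comm U.ι e.hom c₂)).trans ?_
    rw [Category.assoc, ← R.map_comp]
    rfl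

end Groth.Agent.S17440
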