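import Groth.Statements.S17441
import Groth.Agent.Lib.Modules.Stalk
import Mathlib.RingTheory.Flat.Equalizer
import Mathlib.LinearAlgebra.TensorProduct.Quotient
import Mathlib.RingTheory.Artinian.Ring

set_option autoImplicit false
universe u
open CategoryTheory AlgebraicGeometry
open DefoSh

namespace Groth.Agent.S17441

open TensorProduct in
theorem bijective_of {A : Type u} [CommRing A] [IsLocalRing A] [IsArtinianRing A] {M N : Type u}
    [AddCommGroup M] [Module A M] [AddCommGroup N] [Module A N] [Module.Flat A N] (φ : M →ₗ[A] N)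
    (hs : ∀ w : N, ∃ v : M, w - φ v ∈ IsLocalRing.maximalIdeal A • (⊤ : Submodule A N))
    (hk : ∀ v : M, φ v = 0 → v ∈ IsLocalRing.maximalIdeal A • (⊤ : Submodule A M)) :
    Function.Bijective φ := by
  set m := IsLocalRing.maximalIdeal A
  obtain ⟨n, hn⟩ := IsArtinianRing.isNilpotent_jacobson_bot (R := A)
  rw [IsLocalRing.jacobson_eq_maximalIdeal ⊥ bot_ne_top] at hn
  have nil : ∀ (P : Type u) [AddCommGroup P] [Module A P] (Q : Submodule A P),
      (⊤ : Submodule A P) ≤ Q ⊔ m • ⊤ → Q = ⊤ := by
    intro P _ _ Q hQ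
    have : ∀ i, (⊤ : Submodule A P) ≤ Q ⊔ m ^ i • ⊤ := by
      intro i
      induction i with
      | zero => simp
      | succ i ih =>
        refine ih.trans (sup_le le_sup_left ?_)
        refine (Submodule.smul_mono le_rfl hQ).trans ?_
        rw [Submodule.smul_sup, ← Submodule.mul_smul, ← pow_succ]
        exact sup_le_sup_right Submodule.smul_le_right _
    refine top_le_iff.mp ((this n).trans ?_)
    rw [hn, Ideal.zero_eq_bot, Submodule.bot_smul, sup_bot_eq]
  have hsurj : Function.Surjective φ := by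
    rw [← LinearMap.range_eq_top]
    refine nil N _ fun w _ => ?_
    obtain ⟨v, hv⟩ := hs w
    rw [← add_sub_cancel (φ v) w]
    exact Submodule.add_mem_sup (LinearMap.mem_range_self φ v) hv
  refine ⟨LinearMap.ker_eq_bot.mp ?_, hsurj⟩
  let K := LinearMap.ker φ
  have h1 : (⊤ : Submodule A K) ≤ ⊥ ⊔ m • ⊤ := by
    intro x _
    rw [bot_sup_eq]
    have hinj := LinearMap.lTensor_injective_of_exact_of_flat φ hsurj K.subtype K.subtype_injective
      φ.exact_subtype_ker_map (A ⧸ m)
    have hx : (Ideal.Quotient.mk m 1) ⊗ₜ[A] x = (0 : (A ⧸ m) ⊗[A] K) := by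
      apply hinj
      rw [LinearMap.lTensor_tmul, map_zero, ← (quotTensorEquivQuotSMul M m).map_eq_zero_iff,
        quotTensorEquivQuotSMul_mk_tmul, one_smul, Submodule.Quotient.mk_eq_zero]
      exact hk x.1 x.2
    rw [← (quotTensorEquivQuotSMul K m).map_eq_zero_iff, quotTensorEquivQuotSMul_mk_tmul,
      one_smul, Submodule.Quotient.mk_eq_zero] at hx
    exact hx
  have h2 := nil K ⊥ h1
  rw [eq_bot_iff]
  intro v hv
  have : (⟨v, hv⟩ : K) ∈ (⊥ : Submodule A K) := h2 ▸ Submodule.mem_top
  exact Submodule.mem_bot A |>.mpr (congrArg Subtype.val ((Submodule.mem_bot A).mp this))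


/-- Let k be a field, X a scheme over k, E an O_X-module and A a local Artinian k-algebra with residue
field k. If D and D′ are deformations of E over A (O_X-modules with an action of A, flat over A
stalkwise, with reductions π, π′ to E whose stalkwise kernels are m_A times the stalk), then every
O_X-linear map φ : D.sheaf → D′.sheaf that commutes with the actions of A and satisfies φ ≫ π′ = π
is an isomorphism. The printed remark is the first-order case A = k[ε]; this row states it for every
local Artinian k-algebra A with residue field k. -/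
theorem result (k : Type u) [Field k] (X : Scheme.{u})
    [X.Over (Spec (CommRingCat.of k))] (E : X.Modules) (A : ArtFun.Art k k)
    (D D' : DefoSh.Defo E A) (φ : D.sheaf ⟶ D'.sheaf)
    (hact : ∀ a : A, D.act a ≫ φ = φ ≫ D'.act a) (hπ : φ ≫ D'.π = D.π) :
    IsIso φ := by
  rw [Groth.Agent.Lib.Modules.Stalk.isIso_iff_stalk_bijective]
  intro p
  letI := DefoSh.stalkModule D.sheaf D.act.toRingHom p
  letI := DefoSh.stalkModule D'.sheaf D'.act.toRingHom p
  let φₗ : ↑(D.sheaf.presheaf.stalk p) →ₗ[A] ↑(D'.sheaf.presheaf.stalk p) :=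
    { toFun := RefHull.stalkMapₗ φ p
      map_add' := map_add _
      map_smul' := fun a v => by
        show RefHull.stalkMapₗ φ p (RefHull.stalkMapₗ (D.act a) p v) =
          RefHull.stalkMapₗ (D'.act a) p (RefHull.stalkMapₗ φ p v)
        rw [← DefoSh.stalkMapₗ_comp_apply, ← DefoSh.stalkMapₗ_comp_apply, hact] }
  haveI := D'.flat p
  have hπp : ∀ v, RefHull.stalkMapₗ D'.π p (φₗ v) = RefHull.stalkMapₗ D.π p v := fun v => by
    rw [← hπ]; exact (DefoSh.stalkMapₗ_comp_apply p φ D'.π v).symm
  exact bijective_of (A := A) φₗ (fun w => by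
    obtain ⟨v, hv⟩ := D.surj p (RefHull.stalkMapₗ D'.π p w)
    exact ⟨v, D'.ker_le p (w - φₗ v) (by rw [map_sub, hπp, hv, sub_self])⟩)
    (fun v hv => D.ker_le p v (by rw [← hπp, hv, map_zero]))

end Groth.Agent.S17441
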