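import Groth.Statements.S17442
import Groth.Agent.H4.PicZero.Poincare
import Groth.Agent.H4.PicZero.CubeBase
import Groth.Agent.H4.GeomInt
-- import your own Groth.Agent.* helpers here

set_option autoImplicit false
universe u
open CategoryTheory CategoryTheory.Limits MonoidalCategory CartesianMonoidalCategory MonObj GrpObj AlgebraicGeometry
open AbVar

namespace Groth.Agent.S17442

/-- Let k be a field, A an abelian variety over k (a proper smooth k-group scheme with geometrically
connected fibres), (A^t, φ) a given dual abelian variety of A for the fppf topology with A^t itself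
an abelian variety, and P an invertible module on A ×_k A^t whose class is a Poincaré class (it lies
in Pic⁰ fibrewise over A^t, corresponds to the identity of A^t under φ, and is rigidified along the
unit section of A). For a natural number n write [n] for the n-th power of the identity in the group
of endomorphisms of A, resp. of A^t. Then the pull back of P along id_A × [n] and the pull back of P
along [n] × id_{A^t} both have the same isomorphism class as the n-th tensor power of P. (The
published statement covers every integer n; only n ≥ 0 is stated here.) -/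
theorem result (k : Type u) [Field k]
    (A At : Over (Spec (CommRingCat.of k))) [GrpObj A] [IsProper A.hom] [Smooth A.hom] [GeometricallyConnected A.hom]
    [GrpObj At] [IsProper At.hom] [Smooth At.hom] [GeometricallyConnected At.hom]
    (φ : ∀ T : Over (Spec (CommRingCat.of k)), PicF.Cl (PicF.XT A.hom T) → (T ⟶ At))
    (hφ : AbDual.IsDualAV Scheme.fppfPrecoverage A At φ)
    (P : (PicF.XT A.hom At).Modules) (hP : PicF.IsInvertible P)
    (hξ : AbDual.IsPoincareCl A At φ (PicF.cl P)) (n : ℕ) :
    PicF.cl ((Scheme.Modules.pullback (PicF.XTmap A.hom (𝟙 At ^ n))).obj P) = PicF.cl (CohB1.tensorPow P n) ∧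
      PicF.cl ((Scheme.Modules.pullback (AbDual.bcMap (𝟙 A ^ n) At)).obj P) = PicF.cl (CohB1.tensorPow P n) := by
  letI : ∀ Y : Scheme.{u}, PicGrp.Law Y := fun Y => Groth.Agent.Lib.TensorMod.Invertible.law Y
  haveI := Groth.Agent.H4.GeomInt.geometricallyIntegral A
  haveI := Groth.Agent.H4.GeomInt.geometricallyIntegral At
  let a : PicLoc.PicSet (A ⊗ At).left := PicGrp.cls (P : (A ⊗ At).left.Modules) hP
  have hξ' : AbDual.IsPoincareCl A At φ a.1 := hξ
  have hone : ∀ {V : Over (Spec (CommRingCat.of k))} (x : V ⟶ A),
      Groth.Agent.H3.PicCalc.ph (lift x (1 : V ⟶ At)) a = 1 := fun x =>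
    Groth.Agent.H4.PicZero.poincare_one_right hφ hξ' x
  have hid : Groth.Agent.H3.PicCalc.ph (lift (fst A At) (snd A At)) a = a := by
    rw [lift_fst_snd]
    exact Groth.Agent.H3.PicCalc.ph_id a
  have hleft : ∀ m : ℕ, Groth.Agent.H3.PicCalc.ph (lift (fst A At ^ m) (snd A At)) a = a ^ m := by
    intro m
    induction m with
    | zero => rw [pow_zero, pow_zero]; exact Groth.Agent.H4.PicZero.poincare_one_left hξ' _
    | succ m ih => rw [pow_succ, pow_succ, Groth.Agent.H4.PicZero.poincare_mul_left hφ hξ', ih, hid]
  have hright : ∀ m : ℕ, Groth.Agent.H3.PicCalc.ph (lift (fst A At) (snd A At ^ m)) a = a ^ m := by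
    intro m
    induction m with
    | zero => rw [pow_zero, pow_zero]; exact hone _
    | succ m ih => rw [pow_succ, pow_succ, Groth.Agent.H4.PicZero.poincare_mul_right hφ hξ', ih, hid]
  constructor
  · rw [Groth.Agent.H4.PicZero.XTmap_eq]
    refine (Groth.Agent.H3.PicCalc.cl_pullback (A ◁ (𝟙 At ^ n)) (a := a) rfl).trans ?_
    refine Eq.trans ?_ (Groth.Agent.H4.PicZero.cl_tensorPow (a := a) rfl n).symm
    rw [← hright n]
    refine congrArg (fun m => (Groth.Agent.H3.PicCalc.ph m a).1) ?_
    apply CartesianMonoidalCategory.hom_ext <;> simp [MonObj.comp_pow]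
  · rw [Groth.Agent.H4.PicZero.bcMap_eq]
    refine (Groth.Agent.H3.PicCalc.cl_pullback ((𝟙 A ^ n) ▷ At) (a := a) rfl).trans ?_
    refine Eq.trans ?_ (Groth.Agent.H4.PicZero.cl_tensorPow (a := a) rfl n).symm
    rw [← hleft n]
    refine congrArg (fun m => (Groth.Agent.H3.PicCalc.ph m a).1) ?_
    apply CartesianMonoidalCategory.hom_ext <;> simp [MonObj.comp_pow]

end Groth.Agent.S17442
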