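import Groth.Statements.S17443
import Groth.Agent.Lib.H3.RigidDescent
import Groth.Agent.H4.PicZero.Family
import Groth.Agent.H4.GeomInt
import Groth.Agent.Lib.FibreDeg.Basic
-- import your own Groth.Agent.* helpers here

set_option autoImplicit false
universe u
open CategoryTheory CategoryTheory.Limits MonoidalCategory CartesianMonoidalCategory MonObj GrpObj AlgebraicGeometry
open AbVar

namespace Groth.Agent.S17443

/-- Let k be a field, A an abelian variety over k (a proper smooth k-group scheme with geometrically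
connected fibres), (A^t, φ) a given dual abelian variety of A for the fppf topology with A^t itself
an abelian variety, and P an invertible module on A ×_k A^t whose class is a Poincaré class (it lies
in Pic⁰ fibrewise over A^t, corresponds to the identity of A^t under φ, and is rigidified along the
unit section of A). Write [-1] for the inverse of the identity in the group of endomorphisms of A,
resp. of A^t (the inversion). Then the pull back of P along id_A × [-1] and the pull back of P along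
[-1] × id_{A^t} are both inverse to P: their tensor products with P have the class of the structure
sheaf. (This is the case n = -1 of the published statement, which asserts (id_A × [n])^*P ≅ P^{⊗n} ≅
([n] × id_{A^t})^*P for every integer n; together with the case n ≥ 0 it yields every integer n.) -/
theorem result (k : Type u) [Field k]
    (A At : Over (Spec (CommRingCat.of k))) [GrpObj A] [IsProper A.hom] [Smooth A.hom] [GeometricallyConnected A.hom]
    [GrpObj At] [IsProper At.hom] [Smooth At.hom] [GeometricallyConnected At.hom]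
    (φ : ∀ T : Over (Spec (CommRingCat.of k)), PicF.Cl (PicF.XT A.hom T) → (T ⟶ At))
    (hφ : AbDual.IsDualAV Scheme.fppfPrecoverage A At φ)
    (P : (PicF.XT A.hom At).Modules) (hP : PicF.IsInvertible P)
    (hξ : AbDual.IsPoincareCl A At φ (PicF.cl P)) :
    PicF.IsTrivialCl (PicF.cl (CohB1.tensorMod ((Scheme.Modules.pullback (PicF.XTmap A.hom (𝟙 At)⁻¹)).obj P) P)) ∧
      PicF.IsTrivialCl (PicF.cl (CohB1.tensorMod ((Scheme.Modules.pullback (AbDual.bcMap (𝟙 A)⁻¹ At)).obj P) P)) := by
  letI : ∀ Y : Scheme.{u}, PicGrp.Law Y := Groth.Agent.Lib.TensorMod.Invertible.law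
  haveI : GeometricallyIntegral A.hom := Groth.Agent.H4.GeomInt.geometricallyIntegral A
  haveI : Flat A.hom := inferInstance
  haveI : IsLocallyNoetherian At.left := LocallyOfFiniteType.isLocallyNoetherian At.hom
  obtain ⟨h0, hid, hrig⟩ := hξ
  let c : PicLoc.PicSet (A ⊗ At).left := PicGrp.cls P hP
  have hrig' : Groth.Agent.H3.PicCalc.ph (lift (1 : At ⟶ A) (𝟙 At)) c = 1 := by
    apply Subtype.ext
    rw [Groth.Agent.H3.PicCalc.ph_val, PicGrp.one_val]
    have e : PicF.secT A.hom η[A].left (Over.w η[A]) At = (lift (1 : At ⟶ A) (𝟙 At)).left := by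
      apply pullback.hom_ext
      · refine (pullback.lift_fst _ _ _).trans ?_
        show _ = ((lift (1 : At ⟶ A) (𝟙 At)) ≫ fst A At).left
        rw [lift_fst, Hom.one_def]
        rfl
      · refine (pullback.lift_snd _ _ _).trans ?_
        show _ = ((lift (1 : At ⟶ A) (𝟙 At)) ≫ snd A At).left
        rw [lift_snd]
        rfl
    rw [← e]
    exact hrig
  -- inversion on `A`
  let c'' := Groth.Agent.H3.PicCalc.ph ((𝟙 A)⁻¹ ▷ At) c
  have hc'' : c'' * c = 1 := by
    have h := Groth.Agent.H4.PicZero.ph_lift_mul (c := c) h0 (fst A At)⁻¹ (fst A At) (snd A At)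
    rw [inv_mul_cancel, lift_fst_snd, Groth.Agent.H3.PicCalc.ph_id] at h
    have e1 : lift (1 : A ⊗ At ⟶ A) (snd A At) = snd A At ≫ lift (1 : At ⟶ A) (𝟙 At) := by
      rw [comp_lift, MonObj.comp_one, Category.comp_id]
    have e2 : ((𝟙 A)⁻¹ ▷ At) = lift (fst A At)⁻¹ (snd A At) := by
      apply CartesianMonoidalCategory.hom_ext
      · rw [whiskerRight_fst, lift_fst, GrpObj.comp_inv, Category.comp_id]
      · rw [whiskerRight_snd, lift_snd]
    rw [e1, Groth.Agent.H3.PicCalc.ph_comp, hrig', map_one, _root_.one_mul] at h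
    exact (congrArg (· * c) (congrArg (fun g => Groth.Agent.H3.PicCalc.ph g c) e2)).trans h.symm
  -- inversion on `At`
  let c' := Groth.Agent.H3.PicCalc.ph (A ◁ (𝟙 At)⁻¹) c
  have hc' : c' * c = 1 := by
    have hrd : Groth.Agent.H3.PicCalc.ph (lift (1 : At ⟶ A) (𝟙 At)) (c' * c) = 1 := by
      have e : lift (1 : At ⟶ A) (𝟙 At) ≫ (A ◁ (𝟙 At)⁻¹) =
          (𝟙 At)⁻¹ ≫ lift (1 : At ⟶ A) (𝟙 At) := by
        apply CartesianMonoidalCategory.hom_ext
        · simp
        · simp
      rw [map_mul, ← Groth.Agent.H3.PicCalc.ph_comp, e, Groth.Agent.H3.PicCalc.ph_comp, hrig',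
        map_one, _root_.one_mul]
    have p' : AbDual.IsPicZeroCl A.hom At c'.1 := Groth.Agent.H4.PicZero.isPicZeroCl_ph
      (𝟙 At)⁻¹ _ (whiskerLeft_snd _ _) h0
    have p'' : AbDual.IsPicZeroCl A.hom At c''.1 := Groth.Agent.H4.PicZero.isPicZeroCl_ph
      (𝟙 At) ((𝟙 A)⁻¹ ▷ At) (by rw [Category.comp_id, whiskerRight_snd]) h0
    have p1 : AbDual.IsPicZeroCl A.hom At (1 : PicLoc.PicSet (A ⊗ At).left).1 := by
      have := Groth.Agent.H4.PicZero.isPicZeroCl_ph (X := A) (X' := A) (T := At) (T' := At) (𝟙 At)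
        (lift (1 : A ⊗ At ⟶ A) (snd A At)) (by rw [Category.comp_id, lift_snd]) (a := c) h0
      rwa [show lift (1 : A ⊗ At ⟶ A) (snd A At) = snd A At ≫ lift (1 : At ⟶ A) (𝟙 At) by
        rw [comp_lift, MonObj.comp_one, Category.comp_id], Groth.Agent.H3.PicCalc.ph_comp, hrig',
        map_one] at this
    have hmul : ∀ a b : PicLoc.PicSet (A ⊗ At).left, AbDual.IsPicZeroCl A.hom At a.1 →
        AbDual.IsPicZeroCl A.hom At b.1 → φ At (a * b).1 = φ At a.1 * φ At b.1 := by
      intro a b ha hb
      obtain ⟨L, hL, rfl⟩ := PicGrp.exists_eq_cls a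
      obtain ⟨M, hM, rfl⟩ := PicGrp.exists_eq_cls b
      rw [PicGrp.cls_val] at ha hb
      have h := hφ.mul At L M ha hb
      rw [Groth.Agent.H3.PicCalc.cl_tensor (Y := (A ⊗ At).left) (a := PicGrp.cls L hL)
        (b := PicGrp.cls M hM) rfl rfl] at h
      exact h
    have hone : φ At (1 : PicLoc.PicSet (A ⊗ At).left).1 = 1 := by
      have h := hmul 1 1 p1 p1
      rw [_root_.one_mul] at h
      exact left_eq_mul.1 h
    have e'' : φ At c''.1 = φ At c'.1 := by
      have h := hmul c'' c p'' h0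
      rw [hc'', hone, show φ At c.1 = 𝟙 At from hid] at h
      have h2 : φ At c'.1 = (𝟙 At)⁻¹ ≫ φ At c.1 := by
        rw [← hφ.relPic.natural At At (𝟙 At)⁻¹ c.1 h0, Groth.Agent.H4.PicZero.XTmap_eq]
        rfl
      rw [h2, show φ At c.1 = 𝟙 At from hid, Category.comp_id]
      exact eq_inv_of_mul_eq_one_left h.symm
    obtain ⟨R, hR, hloc⟩ := hφ.relPic.locallyInjective At _ _ p'' p' e''
    refine Groth.Agent.Lib.H3.RigidDescent.eq_one_of_locally _ hrd hR fun U v hv => ?_
    let g : A ⊗ AbDual.ovr At v ⟶ A ⊗ At := A ◁ AbDual.ovrHom At v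
    have h1 : Groth.Agent.H3.PicCalc.ph g c'' = Groth.Agent.H3.PicCalc.ph g c' := by
      apply Subtype.ext
      rw [Groth.Agent.H3.PicCalc.ph_val, Groth.Agent.H3.PicCalc.ph_val, ← Groth.Agent.H4.PicZero.XTmap_eq]
      exact hloc v hv
    have h2 : Groth.Agent.H3.PicCalc.ph g (c' * c) = 1 := by
      rw [map_mul, ← h1, ← map_mul, hc'', map_one]
    rw [Groth.Agent.H4.PicZero.XTmap_eq, ← Groth.Agent.H3.PicCalc.ph_val]
    exact congrArg Subtype.val h2
  refine ⟨?_, ?_⟩
  · refine (Groth.Agent.H3.PicCalc.cl_tensor (Y := (A ⊗ At).left) (a := c') (b := c) ?_ rfl).trans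
      ((congrArg Subtype.val hc').trans PicGrp.one_val)
    rw [Groth.Agent.H4.PicZero.XTmap_eq]
    exact Groth.Agent.H3.PicCalc.cl_pullback (A ◁ (𝟙 At)⁻¹) rfl
  · refine (Groth.Agent.H3.PicCalc.cl_tensor (Y := (A ⊗ At).left) (a := c'') (b := c) ?_ rfl).trans
      ((congrArg Subtype.val hc'').trans PicGrp.one_val)
    rw [Groth.Agent.H4.PicZero.bcMap_eq]
    exact Groth.Agent.H3.PicCalc.cl_pullback ((𝟙 A)⁻¹ ▷ At) rfl

end Groth.Agent.S17443
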