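import Groth.Statements.S17449
import Groth.Agent.H34.Stein.FlatCount
import Groth.Agent.H46.GeomSpread.Fibre
-- import your own Groth.Agent.* helpers here

set_option autoImplicit false
universe u
open CategoryTheory CategoryTheory.Limits AlgebraicGeometry
open Stein

namespace Groth.Agent.S17449

/-- Let S be a Noetherian scheme and f : X → S a proper, flat and surjective morphism. Suppose that for
every generic point η of an irreducible component of S the fibre of f at η is geometrically
connected and smooth over the residue field κ(η). Then every fibre of f is geometrically connected. -/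
theorem result {X S : Scheme.{u}}
    (f : X ⟶ S) [IsProper f] [Flat f] [Surjective f] [IsNoetherian S]
    (h : ∀ (Z : Set ↑S) (η : ↑S), Z ∈ irreducibleComponents ↑S → IsGenericPoint η Z →
      GeometricallyConnected (f.fiberToSpecResidueField η) ∧ Smooth (f.fiberToSpecResidueField η)) :
    GeometricallyConnected f := by
  have : LocallyOfFinitePresentation f := LocallyOfFinitePresentation.iff_locallyOfFiniteType.2 inferInstance
  rw [GeometricallyConnected.iff_geometricallyConnected_fiber]
  intro y
  rw [Groth.Agent.H46.GeomSpread.geometricallyConnected_iff_count]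
  refine le_antisymm ?_ (Order.one_le_iff_ne_zero.2 ?_)
  · let Z := irreducibleComponent y
    obtain ⟨η, hη⟩ := QuasiSober.sober (isIrreducible_irreducibleComponent (x := y))
      isClosed_irreducibleComponent
    have h1 := (Groth.Agent.H46.GeomSpread.geometricallyConnected_iff_count f η).1
      (h Z η (irreducibleComponent_mem_irreducibleComponents y) hη).1
    by_contra hlt
    obtain ⟨O, hO, hOo, hyO⟩ := eventually_nhds_iff.1
      (Groth.Agent.H34.Stein.lowerSemicontinuous f y 1 (not_le.1 hlt))
    exact (hO η ((hη.specializes mem_irreducibleComponent).mem_open hOo hyO)).ne h1.symm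
  · intro h0
    have hnon : Nonempty ↥(f.fiber y) := by
      obtain ⟨x, hx⟩ := f.surjective y
      exact ⟨(f.fiberHomeo y).symm ⟨x, hx⟩⟩
    have : Nonempty ↥(MoreMor.geomFiber f y) := by
      obtain ⟨x⟩ := hnon
      obtain ⟨w, -⟩ := (pullback.fst (f.fiberToSpecResidueField y) (Spec.map (CommRingCat.ofHom
        (algebraMap (S.residueField y) (SeparableClosure (S.residueField y)))))).surjective x
      exact ⟨w⟩
    rw [MoreMor.nGeomConnComp, ENat.card_eq_zero_iff_empty] at h0
    exact h0.false (ConnectedComponents.mk (Classical.arbitrary _))

end Groth.Agent.S17449
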