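import Groth.Statements.S1745
import Groth.Agent.H80.InjUnram

set_option autoImplicit false
set_option backward.isDefEq.respectTransparency false
universe u
open scoped TensorProduct
open InjHull

namespace Groth.Agent.S1745

/-- Let A → B be a flat homomorphism of Noetherian rings such that for every prime q of B with
contraction p, the ideal p B_q equals the maximal ideal q B_q of B_q (for instance an étale map).
Then for every injective A-module I the B-module B ⊗_A I is injective. -/
theorem result (A B : Type u) [CommRing A] [CommRing B] [Algebra A B] [IsNoetherianRing A] [IsNoetherianRing B] [Module.Flat A B] (h : ∀ q : PrimeSpectrum B, Ideal.map (algebraMap B (Localization.AtPrime q.asIdeal)) ((q.asIdeal.comap (algebraMap A B)).map (algebraMap A B)) = IsLocalRing.maximalIdeal (Localization.AtPrime q.asIdeal)) (I : Type u) [AddCommGroup I] [Module A I] [Module.Injective A I] : Module.Injective B (B ⊗[A] I) := by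
  refine Groth.Agent.H80.InjUnram.injective_baseChange (A := A) (B := B) I fun q hq r hr => ?_
  have h1 : algebraMap B (Localization.AtPrime q) r ∈
      ((q.comap (algebraMap A B)).map (algebraMap A B)).map (algebraMap B (Localization.AtPrime q)) := by
    rw [h ⟨q, hq⟩, ← Localization.AtPrime.map_eq_maximalIdeal]
    exact Ideal.mem_map_of_mem _ hr
  obtain ⟨s, hs, hsr⟩ := (IsLocalization.algebraMap_mem_map_algebraMap_iff q.primeCompl _ _ _).mp h1
  exact ⟨s, hs, hsr⟩

end Groth.Agent.S1745
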