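import Groth.Statements.S17450

import Groth.Agent.Lib.SemiAbExt.Sub
import Groth.Agent.H4.PrimePowDense
import Groth.Agent.H4.HomImage
import Groth.Agent.Lib.SemiAbIsog.CompDim

set_option autoImplicit false
universe u
open CategoryTheory MonoidalCategory CartesianMonoidalCategory MonObj GrpObj AlgebraicGeometry CategoryTheory.Limits
open AlgGrp

open Limits MonoidalCategory CartesianMonoidalCategory MonObj

namespace Groth.Agent.S17450

open Groth.Agent.Lib Groth.Agent.Lib.GrpQ Groth.Agent.Lib.RedPts

section Aux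

variable {F : Type u} [Field F] [IsAlgClosed F] {G : Over (Spec (CommRingCat.of F))} [GrpObj G]

/-- A torus with no `ℓ`-torsion is trivial on points. -/
theorem torus_eq_one (hT : Red.IsTorus G) (ℓ : ℕ) (hℓ : ℓ.Prime)
    (htors : ∀ (Y : Over (Spec (CommRingCat.of F))) (h : Y ⟶ G), h ^ ℓ = 1 → h = 1) :
    (𝟙 G : G ⟶ G) = 1 := by
  obtain ⟨r, ⟨g⟩⟩ := H52.TorusRigid.exists_split G hT
  let e := Tori.BaseChange.overIso g
  have : IsMonHom e.hom := by rw [Tori.BaseChange.overIso_hom]; infer_instance
  have : IsMonHom e.inv := inferInstance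
  rcases Nat.eq_zero_or_pos r with rfl | hr
  · rw [← cancel_mono e.hom]
    exact Gm.dsFn_ext fun m => by rw [Subsingleton.elim m 0, Gm.dsFn_zero, Gm.dsFn_zero]
  · exfalso
    let φ : (Fin r → ℤ) →+ ZMod ℓ :=
      (Int.castAddHom (ZMod ℓ)).comp (Pi.evalAddMonoidHom (fun _ : Fin r => ℤ) ⟨0, hr⟩)
    let x := Red.DSmap (Spec (CommRingCat.of F)) φ
    have hx : x ^ ℓ = 1 := Gm.dsFn_ext fun m => by
      rw [Gm.dsFn_pow, ← Gm.dsFn_nsmul, Gm.dsFn_one]
      rw [← Category.id_comp x, Gm.dsFn_DSmap, map_nsmul]
      simp [Gm.dsFn_zero]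
    have h1 : x ≫ e.inv = 1 := htors _ _ (by rw [← MonObj.pow_comp, hx, MonObj.one_comp])
    have hx1 : x = 1 := by
      rw [← cancel_mono e.inv, h1, MonObj.one_comp]
    have h2 := congrArg (fun z => Gm.dsFn z (Pi.single ⟨0, hr⟩ 1)) hx1
    simp only [Gm.dsFn_one] at h2
    rw [← Category.id_comp x, Gm.dsFn_DSmap] at h2
    have hφ : φ (Pi.single ⟨0, hr⟩ 1) = 1 := by simp [φ]
    rw [hφ] at h2
    -- the tautological character is not trivial
    let χ₀ : Multiplicative (ZMod ℓ) →* MonoidAlgebra F (Multiplicative (ZMod ℓ)) := MonoidAlgebra.of _ _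
    let X : Over (Spec (CommRingCat.of F)) := Over.mk (Spec.map (CommRingCat.ofHom
      (algebraMap F (MonoidAlgebra F (Multiplicative (ZMod ℓ))))))
    let χ : Multiplicative (ZMod ℓ) →* Γ(X.left, ⊤) :=
      (Scheme.ΓSpecIso _).inv.hom.toMonoidHom.comp χ₀
    have h3 := congrArg (Gm.dsPt (X := X) χ).left.appTop h2
    rw [← Gm.dsFn_comp, Category.comp_id, Gm.dsFn_dsPt] at h3
    replace h3 := h3.trans (map_one _)
    have h4 : χ₀ (Multiplicative.ofAdd 1) = 1 := by
      apply (Scheme.ΓSpecIso (CommRingCat.of (MonoidAlgebra F (Multiplicative (ZMod ℓ))))).commRingCatIsoToRingEquiv.symm.injective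
      exact h3.trans (map_one _).symm
    have : Fact (1 < ℓ) := ⟨hℓ.one_lt⟩
    have h5 : (Multiplicative.ofAdd (1 : ZMod ℓ)) = 1 :=
      MonoidAlgebra.of_injective (R := F) (h4.trans (map_one _).symm)
    exact one_ne_zero (α := ZMod ℓ) (Multiplicative.ofAdd.injective h5)

/-- A semi-abelian variety with no `ℓ`-torsion is trivial. -/
theorem isIso_one_of_tors [LocallyOfFiniteType G.hom] [QuasiCompact G.hom] (hG : SemiAbExt.IsSA G)
    (ℓ : ℕ) (hℓ : ℓ.Prime) (htors : ∀ (Y : Over (Spec (CommRingCat.of F))) (h : Y ⟶ G), h ^ ℓ = 1 → h = 1) :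
    (𝟙 G : G ⟶ G) = 1 := by
  obtain ⟨hGs, hGc, hGm⟩ := hG.props
  obtain ⟨T, _, i, A, _, q, hi, hci, hT, hq, hqs, hqf, hK, hp, hsm, hcA⟩ := hG
  have : Mono i := Over.mono_of_mono_left i
  have hTt : (𝟙 T : T ⟶ T) = 1 := torus_eq_one hT ℓ hℓ fun Y h hh => by
    rw [← cancel_mono i, MonObj.one_comp]
    exact htors Y _ (by rw [← MonObj.pow_comp, hh, MonObj.one_comp])
  have hmono : Mono q := ⟨fun {Y} a b hab => by
    obtain ⟨t, ht⟩ := (mem_kernel hK (a * b⁻¹)).2 (by rw [MonObj.mul_comp, GrpObj.inv_comp, hab, mul_inv_cancel])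
    have ht1 : t = 1 := by rw [← Category.comp_id t, hTt, MonObj.comp_one]
    rw [ht1, MonObj.one_comp] at ht
    exact mul_inv_eq_one.1 ht.symm⟩
  have : LocallyOfFiniteType A.hom := inferInstance
  have : LocallyOfFinitePresentation q.left := SemiAbExt.lfp_of_hom q
  have : Mono q.left := inferInstance
  have : IsOpenImmersion q.left := IsOpenImmersion.of_flat_of_mono q.left
  have : Epi q.left.base := (TopCat.epi_iff_surjective _).2 q.left.surjective
  have : IsIso q.left := IsOpenImmersion.isIso q.left
  have : IsIso ((Over.forget _).map q) := this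
  have : IsIso q := isIso_of_reflects_iso q (Over.forget _)
  have : IsMonHom (inv q) := inferInstanceAs (IsMonHom (asIso q).inv)
  have htA : ∀ (Y : Over (Spec (CommRingCat.of F))) (h : Y ⟶ A), h ^ ℓ = 1 → h = 1 := fun Y h hh => by
    have := htors Y (h ≫ inv q) (by rw [← MonObj.pow_comp, hh, MonObj.one_comp])
    rw [← cancel_mono (inv q), this, MonObj.one_comp]
  have hpow : ∀ (m : ℕ) (Y : Over (Spec (CommRingCat.of F))) (h : Y ⟶ A), h ^ (ℓ ^ m) = 1 → h = 1 := by
    intro m
    induction m with
    | zero => intro Y h hh; simpa using hh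
    | succ m ih => intro Y h hh; rw [pow_succ, pow_mul] at hh; exact ih Y h (htA _ _ hh)
  have : GeometricallyReduced A.hom := GrpSch.geometricallyReduced_of_smooth_field A.hom
  have : GeometricallyIntegral A.hom := H4.HomImage.geometricallyIntegral_of_connected A
  have : IsClosedImmersion η[A].left := GrpSch.isClosedImmersion_η A
  have hc : IsIso η[A].left := H4.PrimePowDense.isIso_of_factor A ℓ hℓ η[A].left fun m _ => by
    let P := pullback η[A].left ((𝟙 A ^ (ℓ ^ m)).left)
    let Y : Over (Spec (CommRingCat.of F)) := Over.mk (pullback.snd η[A].left ((𝟙 A ^ (ℓ ^ m)).left) ≫ A.hom)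
    let x : Y ⟶ A := Over.homMk (pullback.snd η[A].left ((𝟙 A ^ (ℓ ^ m)).left)) rfl
    have hfst : pullback.fst η[A].left ((𝟙 A ^ (ℓ ^ m)).left) = (toUnit Y).left := by
      have h1 := congrArg (fun z => z ≫ A.hom) (pullback.condition (f := η[A].left) (g := (𝟙 A ^ (ℓ ^ m)).left))
      simp only [Category.assoc, Over.w] at h1
      exact ((Category.comp_id _).symm.trans h1).trans ((Over.w (toUnit Y)).symm.trans (Category.comp_id _))
    have hx : x ^ (ℓ ^ m) = 1 := by
      rw [show x ^ (ℓ ^ m) = x ≫ (𝟙 A ^ (ℓ ^ m)) by rw [MonObj.comp_pow, Category.comp_id], Hom.one_def]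
      ext1
      rw [Over.comp_left, Over.comp_left, ← hfst]
      exact pullback.condition.symm
    refine ⟨(toUnit Y).left, ?_⟩
    have h2 : x.left = (1 : Y ⟶ A).left := congrArg (fun z : Y ⟶ A => z.left) (hpow m Y x hx)
    rw [Hom.one_def, Over.comp_left] at h2
    exact h2.symm
  have : IsIso ((Over.forget _).map η[A]) := hc
  have : IsIso η[A] := isIso_of_reflects_iso η[A] (Over.forget _)
  rw [← cancel_mono q, Category.id_comp, MonObj.one_comp, ← cancel_mono (inv η[A])]
  exact toUnit_unique _ _

end Aux

-- keep the hom-quiver instance path of the statement (see `CategoryTheory.catToReflQuiver`)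
attribute [-instance] CategoryTheory.catToReflQuiver Magnet.monObj_bc

/-- Let k be a field with algebraic closure K and G a semi-abelian variety over k, that is, a smooth
connected commutative k-group scheme of finite type whose base change to K is an extension of an
abelian variety by a torus (there are a closed subgroup scheme T of G_K which is a torus and a flat
surjective homomorphism from G_K onto a proper smooth connected K-group scheme with kernel T). Let H
be a closed subgroup scheme of G and ℓ a prime number such that the ℓ-torsion subgroup scheme H[ℓ]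
is trivial: every point h of H with values in any k-scheme satisfying h^ℓ = 1 is the unit. Then H is
finite over k. -/
theorem result (k : Type u) [Field k]
    (G : Over (Spec (CommRingCat.of k))) [GrpObj G] [IsCommMonObj G] [Smooth G.hom] [QuasiCompact G.hom]
    [ConnectedSpace ↥G.left]
    (hK : (∃ (T : Over (Spec (CommRingCat.of (AlgebraicClosure k)))) (_ : GrpObj T) (i : T ⟶ Red.bc (Spec.map (CommRingCat.ofHom (algebraMap k (AlgebraicClosure k)))) G) (A : Over (Spec (CommRingCat.of (AlgebraicClosure k)))) (_ : GrpObj A) (q : Red.bc (Spec.map (CommRingCat.ofHom (algebraMap k (AlgebraicClosure k)))) G ⟶ A),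
        IsMonHom i ∧ IsClosedImmersion i.left ∧ Red.IsTorus T ∧ IsMonHom q ∧ Surjective q.left ∧ Flat q.left ∧
        AlgGrp.IsKernel i q ∧ IsProper A.hom ∧ Smooth A.hom ∧ ConnectedSpace ↥A.left))
    (H : Over (Spec (CommRingCat.of k))) [GrpObj H] (j : H ⟶ G) [IsMonHom j] [IsClosedImmersion j.left]
    (ℓ : ℕ) (hℓ : ℓ.Prime)
    (htors : ∀ (Y : Over (Spec (CommRingCat.of k))) (h : Y ⟶ H), h ^ ℓ = 1 → h = 1) :
    IsFinite H.hom := by
  let K := AlgebraicClosure k
  let b := Spec.map (CommRingCat.ofHom (algebraMap k K))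
  let HK := Red.bc b H
  let GK := Red.bc b G
  let jK : HK ⟶ GK := (Over.pullback b).map j
  have : IsClosedImmersion jK.left := GrpSch.bc_map_left_of (P := @IsClosedImmersion) b j ‹_›
  have : LocallyOfFiniteType GK.hom := GrpSch.bc_hom_of (P := @LocallyOfFiniteType) b G inferInstance
  have : QuasiCompact GK.hom := GrpSch.bc_hom_of (P := @QuasiCompact) b G inferInstance
  have : LocallyOfFiniteType HK.hom := by rw [← Over.w jK]; infer_instance
  have : QuasiCompact HK.hom := by rw [← Over.w jK]; infer_instance
  have : Mono jK := Over.mono_of_mono_left jK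
  have htK : ∀ (Y : Over (Spec (CommRingCat.of K))) (h : Y ⟶ HK), h ^ ℓ = 1 → h = 1 := fun Y h hh => by
    let E := (Over.mapPullbackAdj b).homEquiv Y H
    have key : ∀ (a c : Y ⟶ HK), E.symm (a * c) = E.symm a * E.symm c := fun a c => by
      apply E.injective
      rw [Equiv.apply_symm_apply, (Over.mapPullbackAdj b).homEquiv_unit, Functor.map_mul, MonObj.comp_mul,
        ← (Over.mapPullbackAdj b).homEquiv_unit, ← (Over.mapPullbackAdj b).homEquiv_unit]
      show a * c = E (E.symm a) * E (E.symm c)
      rw [Equiv.apply_symm_apply, Equiv.apply_symm_apply]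
    have h1 : E.symm 1 = 1 := by
      have := key 1 1
      rw [_root_.one_mul] at this
      exact mul_eq_left.1 this.symm
    have hp : ∀ n : ℕ, E.symm (h ^ n) = (E.symm h) ^ n := fun n => by
      induction n with
      | zero => rw [pow_zero, pow_zero, h1]
      | succ n ih => rw [pow_succ, key, ih, pow_succ]
    apply E.symm.injective
    rw [h1]
    exact htors _ _ (by rw [← hp, hh, h1])
  obtain ⟨C, _, c, hc, hco, hcc, hCconn, hrange⟩ := IsogLaw.exists_component HK
  have : LocallyOfFiniteType C.hom := by rw [← Over.w c]; infer_instance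
  have : QuasiCompact C.hom := by rw [← Over.w c]; infer_instance
  obtain ⟨R, _, m, hm, hmc, hms, hmr⟩ := TorsorNorm.exists_reduced_subgroup_perfect C
  have : LocallyOfFiniteType R.hom := by rw [← Over.w m]; infer_instance
  have : QuasiCompact R.hom := by rw [← Over.w m]; infer_instance
  have : GeometricallyReduced R.hom := H52.FBase.GeomRedSch.geometricallyReduced_of_perfectField _
  have : Smooth R.hom := H4.HomImage.smooth_of_geometricallyReduced R
  have : ConnectedSpace R.left :=
    ((m.left.isClosedEmbedding.isEmbedding.toHomeomorphOfSurjective m.left.surjective).symm.surjective).connectedSpace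
      ((m.left.isClosedEmbedding.isEmbedding.toHomeomorphOfSurjective m.left.surjective).symm.continuous)
  let a : R ⟶ GK := m ≫ c ≫ jK
  have : IsClosedImmersion a.left := by
    show IsClosedImmersion (m ≫ c ≫ jK).left
    rw [Over.comp_left, Over.comp_left]; infer_instance
  have hmono : Mono (m ≫ c) := by
    have : Mono m := Over.mono_of_mono_left m
    have : Mono c := Over.mono_of_mono_left c
    infer_instance
  have hR : SemiAbExt.IsSA R := SemiAbExt.IsSA.sub (G := GK) a hK
  have hR1 : (𝟙 R : R ⟶ R) = 1 := isIso_one_of_tors hR ℓ hℓ fun Y h hh => by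
    rw [← cancel_mono (m ≫ c), MonObj.one_comp]
    exact htK Y _ (by rw [← MonObj.pow_comp, hh, MonObj.one_comp])
  have hsub : Subsingleton ↥(connectedComponent (η[HK].left (IsLocalRing.closedPoint K))) := by
    have key : ∀ z : ↥(connectedComponent (η[HK].left (IsLocalRing.closedPoint K))),
        (z : HK.left) = η[HK].left (IsLocalRing.closedPoint K) := by
      rintro ⟨z, hz⟩
      rw [← hrange] at hz
      obtain ⟨z', rfl⟩ := hz
      obtain ⟨z'', rfl⟩ := m.left.surjective z'
      have h1 : (m ≫ c) = toUnit R ≫ η[HK] := by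
        rw [← Category.id_comp (m ≫ c), hR1, MonObj.one_comp, Hom.one_def]
      refine Eq.trans (show c.left (m.left z'') = (m ≫ c).left z'' from rfl) ?_
      rw [h1, Over.comp_left, Scheme.Hom.comp_apply]
      exact congrArg _ (Subsingleton.elim (α := Spec (CommRingCat.of K)) _ _)
    exact ⟨fun x y => Subtype.ext (by rw [key x, key y])⟩
  have : IsLocallyNoetherian HK.left := LocallyOfFiniteType.isLocallyNoetherian HK.hom
  have hdim : topologicalKrullDim HK.left ≤ 0 :=
    (SemiAbIsog.CompDim.dim_le_component HK).trans (by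
      have : Subsingleton (TopologicalSpace.IrreducibleCloseds ↥(connectedComponent (η[HK].left (IsLocalRing.closedPoint K)))) :=
        ⟨fun U V => TopologicalSpace.IrreducibleCloseds.ext
          ((Set.subsingleton_of_subsingleton).eq_singleton_of_mem U.isIrreducible.nonempty.choose_spec |>.trans
            ((Set.subsingleton_of_subsingleton).eq_singleton_of_mem (Subsingleton.elim V.isIrreducible.nonempty.choose U.isIrreducible.nonempty.choose ▸ V.isIrreducible.nonempty.choose_spec)).symm)⟩
      exact Order.krullDim_nonpos_of_subsingleton)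
  have := IsLocallyArtinian.of_topologicalKrullDim_le_zero hdim
  have : CompactSpace HK.left := QuasiCompact.compactSpace_of_compactSpace HK.hom
  have : Finite HK.left := finite_of_compact_of_discrete
  have : LocallyQuasiFinite HK.hom := locallyQuasiFinite_iff_finite_preimage_singleton.mpr fun _ => Set.toFinite _
  exact GrpSch.of_bc_hom k K (P := @IsFinite) H (IsFinite.of_locallyQuasiFinite HK.hom)

end Groth.Agent.S17450
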