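import Groth.Statements.S17453
import Groth.Agent.Lib.SemiAbExt.Sub
import Groth.Agent.Lib.SemiAbExt.Extension
import Groth.Agent.Lib.MTExt.Kernel

set_option autoImplicit false
universe u
open CategoryTheory MonoidalCategory CartesianMonoidalCategory MonObj GrpObj AlgebraicGeometry CategoryTheory.Limits
open AlgGrp

set_option backward.isDefEq.respectTransparency false
set_option linter.style.haveILetI false
set_option maxHeartbeats 800000
namespace Groth.Agent.S17453

/-- Let k be a field with algebraic closure K and 1 → G' → G → G'' → 1 a short exact sequence of smooth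
connected k-group schemes of finite type: G' → G is a homomorphism and a closed immersion, G → G''
is a flat surjective homomorphism, and G' is its kernel. Say that such a group is semi-abelian when
its base change to K, modulo a suitable torus, is an abelian variety (there are a closed subgroup
scheme of the base change which is a torus and a flat surjective homomorphism onto a proper smooth
connected K-group scheme with that kernel); commutativity is not assumed, it follows. Then G is
semi-abelian exactly when both G' and G'' are semi-abelian. -/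
theorem result (k : Type u) [Field k]
    (G' G G'' : Over (Spec (CommRingCat.of k))) [GrpObj G'] [GrpObj G] [GrpObj G'']
    [Smooth G'.hom] [QuasiCompact G'.hom] [ConnectedSpace ↥G'.left]
    [Smooth G.hom] [QuasiCompact G.hom] [ConnectedSpace ↥G.left]
    [Smooth G''.hom] [QuasiCompact G''.hom] [ConnectedSpace ↥G''.left]
    (j : G' ⟶ G) [IsMonHom j] [IsClosedImmersion j.left]
    (p : G ⟶ G'') [IsMonHom p] [Surjective p.left] [Flat p.left] (hex : AlgGrp.IsKernel j p) :
    (∃ (T : Over (Spec (CommRingCat.of (AlgebraicClosure k)))) (_ : GrpObj T) (i : T ⟶ Red.bc (Spec.map (CommRingCat.ofHom (algebraMap k (AlgebraicClosure k)))) G) (A : Over (Spec (CommRingCat.of (AlgebraicClosure k)))) (_ : GrpObj A) (q : Red.bc (Spec.map (CommRingCat.ofHom (algebraMap k (AlgebraicClosure k)))) G ⟶ A),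
        IsMonHom i ∧ IsClosedImmersion i.left ∧ Red.IsTorus T ∧ IsMonHom q ∧ Surjective q.left ∧ Flat q.left ∧
        AlgGrp.IsKernel i q ∧ IsProper A.hom ∧ Smooth A.hom ∧ ConnectedSpace ↥A.left) ↔
    ((∃ (T : Over (Spec (CommRingCat.of (AlgebraicClosure k)))) (_ : GrpObj T) (i : T ⟶ Red.bc (Spec.map (CommRingCat.ofHom (algebraMap k (AlgebraicClosure k)))) G') (A : Over (Spec (CommRingCat.of (AlgebraicClosure k)))) (_ : GrpObj A) (q : Red.bc (Spec.map (CommRingCat.ofHom (algebraMap k (AlgebraicClosure k)))) G' ⟶ A),
        IsMonHom i ∧ IsClosedImmersion i.left ∧ Red.IsTorus T ∧ IsMonHom q ∧ Surjective q.left ∧ Flat q.left ∧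
        AlgGrp.IsKernel i q ∧ IsProper A.hom ∧ Smooth A.hom ∧ ConnectedSpace ↥A.left) ∧
     (∃ (T : Over (Spec (CommRingCat.of (AlgebraicClosure k)))) (_ : GrpObj T) (i : T ⟶ Red.bc (Spec.map (CommRingCat.ofHom (algebraMap k (AlgebraicClosure k)))) G'') (A : Over (Spec (CommRingCat.of (AlgebraicClosure k)))) (_ : GrpObj A) (q : Red.bc (Spec.map (CommRingCat.ofHom (algebraMap k (AlgebraicClosure k)))) G'' ⟶ A),
        IsMonHom i ∧ IsClosedImmersion i.left ∧ Red.IsTorus T ∧ IsMonHom q ∧ Surjective q.left ∧ Flat q.left ∧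
        AlgGrp.IsKernel i q ∧ IsProper A.hom ∧ Smooth A.hom ∧ ConnectedSpace ↥A.left)) := by
  let e := Groth.Agent.Lib.GrpSch.extBase k (AlgebraicClosure k)
  have hbs : ∀ (X : Over (Spec (CommRingCat.of k))) [GrpObj X] [Smooth X.hom] [QuasiCompact X.hom] [ConnectedSpace X.left],
      Smooth (Red.bc e X).hom ∧ QuasiCompact (Red.bc e X).hom ∧ ConnectedSpace (Red.bc e X).left := by
    intro X _ _ _ _
    haveI := Groth.Agent.Lib.GrpSch.geometricallyReduced_of_smooth_field X.hom
    haveI : GeometricallyIntegral X.hom := Groth.Agent.H4.HomImage.geometricallyIntegral_of_connected X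
    haveI : IsIntegral (Red.bc e X).left := inferInstanceAs (IsIntegral (pullback X.hom e))
    exact ⟨inferInstanceAs (Smooth (pullback.snd X.hom e)), inferInstanceAs (QuasiCompact (pullback.snd X.hom e)),
      inferInstance⟩
  obtain ⟨h1, h2, h3⟩ := hbs G'
  obtain ⟨h4, h5, h6⟩ := hbs G
  obtain ⟨h7, h8, h9⟩ := hbs G''
  haveI := h1; haveI := h2; haveI := h3; haveI := h4; haveI := h5; haveI := h6; haveI := h7; haveI := h8; haveI := h9
  haveI : IsClosedImmersion ((Over.pullback e).map j).left :=
    Groth.Agent.Lib.GrpSch.bc_map_left_of (P := @IsClosedImmersion) e j inferInstance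
  haveI : Surjective ((Over.pullback e).map p).left :=
    Groth.Agent.Lib.GrpSch.bc_map_left_of (P := @Surjective) e p inferInstance
  haveI : Flat ((Over.pullback e).map p).left :=
    Groth.Agent.Lib.GrpSch.bc_map_left_of (P := @Flat) e p inferInstance
  haveI : IsMonHom ((Over.pullback e).map j) := Groth.Agent.Lib.GrpSch.isMonHom_bc_map e j
  haveI : IsMonHom ((Over.pullback e).map p) := Groth.Agent.Lib.GrpSch.isMonHom_bc_map e p
  have hK := Groth.Agent.Lib.MTExt.isKernel_bc hex e
  haveI : LocallyOfFiniteType (Red.bc e G).hom := inferInstance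
  haveI : LocallyOfFiniteType (Red.bc e G'').hom := inferInstance
  constructor
  · intro hG
    exact ⟨Groth.Agent.Lib.SemiAbExt.IsSA.sub ((Over.pullback e).map j) hG,
      Groth.Agent.Lib.SemiAbExt.IsSA.image (S := Red.bc e G) hG ((Over.pullback e).map p)⟩
  · rintro ⟨hG', hG''⟩
    haveI : IsCommMonObj (Red.bc e G) :=
      Groth.Agent.Lib.SemiAbExt.isCommMonObj_ext ((Over.pullback e).map j) ((Over.pullback e).map p) hK hG' hG''
    exact Groth.Agent.Lib.SemiAbExt.IsSA.ext' ((Over.pullback e).map j) ((Over.pullback e).map p) hK hG' hG''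

end Groth.Agent.S17453
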