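import Groth.Statements.S17454
import Groth.Agent.Lib.SemiAbIsog.Image

set_option autoImplicit false
universe u
open CategoryTheory MonoidalCategory CartesianMonoidalCategory MonObj GrpObj AlgebraicGeometry CategoryTheory.Limits
open AlgGrp

set_option backward.isDefEq.respectTransparency false
set_option linter.style.haveILetI false
set_option maxHeartbeats 800000
open GrpObj CategoryTheory.Limits Groth.Agent.Lib Groth.Agent.Lib.SemiAbIsog.Image
namespace Groth.Agent.S17454

/-- Let k be a perfect field and f : G' → G a surjective homomorphism of smooth connected k-group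
schemes of finite type. Let N' → G' and N → G be Chevalley decompositions: normal closed subgroup
schemes which are smooth, connected and affine, kernels of flat surjective homomorphisms q' : G' →
A' and q : G → A onto proper smooth connected k-group schemes. Then f maps N' onto N: there is a
homomorphism g : N' → N, compatible with f and the two inclusions, whose underlying map is
surjective; and f induces a homomorphism A' → A compatible with q' and q whose underlying map is
surjective. (The isogeny refinement of the published statement is not stated.) -/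
theorem result (k : Type u) [Field k] [PerfectField k]
    (G' G : Over (Spec (CommRingCat.of k))) [GrpObj G'] [GrpObj G]
    [Smooth G'.hom] [QuasiCompact G'.hom] [ConnectedSpace ↥G'.left]
    [Smooth G.hom] [QuasiCompact G.hom] [ConnectedSpace ↥G.left]
    (f : G' ⟶ G) [IsMonHom f] [Surjective f.left]
    (N' : Over (Spec (CommRingCat.of k))) [GrpObj N'] (i' : N' ⟶ G') [IsMonHom i'] [IsClosedImmersion i'.left]
    [Smooth N'.hom] [ConnectedSpace ↥N'.left] [IsAffine N'.left] (hn' : AlgGrp.IsNormalHom i')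
    (A' : Over (Spec (CommRingCat.of k))) [GrpObj A'] (q' : G' ⟶ A') [IsMonHom q'] [Surjective q'.left] [Flat q'.left]
    [IsProper A'.hom] [Smooth A'.hom] [ConnectedSpace ↥A'.left] (hk' : AlgGrp.IsKernel i' q')
    (N : Over (Spec (CommRingCat.of k))) [GrpObj N] (i : N ⟶ G) [IsMonHom i] [IsClosedImmersion i.left]
    [Smooth N.hom] [ConnectedSpace ↥N.left] [IsAffine N.left] (hn : AlgGrp.IsNormalHom i)
    (A : Over (Spec (CommRingCat.of k))) [GrpObj A] (q : G ⟶ A) [IsMonHom q] [Surjective q.left] [Flat q.left]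
    [IsProper A.hom] [Smooth A.hom] [ConnectedSpace ↥A.left] (hk : AlgGrp.IsKernel i q) :
    (∃ g : N' ⟶ N, IsMonHom g ∧ g ≫ i = i' ≫ f ∧ Surjective g.left) ∧
      (∃ h : A' ⟶ A, IsMonHom h ∧ q' ≫ h = f ≫ q ∧ Surjective h.left) := by
  haveI : IsSeparated G.hom := GrpSch.isSeparated_of_field G
  haveI : Mono i := Over.mono_of_mono_left i
  haveI : Mono i' := Over.mono_of_mono_left i'
  haveI : QuasiCompact N.hom := inferInstance
  haveI : QuasiCompact N'.hom := inferInstance
  have h0 : i' ≫ f ≫ q = 1 := eq_one_of_affine_proper (i' ≫ f ≫ q)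
  obtain ⟨g, hg⟩ : ∃ g : N' ⟶ N, g ≫ i = i' ≫ f :=
    ⟨hk.lift (i' ≫ f) (toUnit N') (by rw [Category.assoc, h0, Hom.one_def]), hk.lift_fst _ _ _⟩
  haveI hgm : IsMonHom g := GrpQ.DomFlat.isMonHom_of_comp_mono g i (by rw [hg]; infer_instance)
  haveI : LocallyOfFinitePresentation q'.left :=
    Flat55.FibreTransfer.locallyOfFinitePresentation_of_comp (g := A'.hom)
      (by rw [Over.w q']; infer_instance) inferInstance
  obtain ⟨h, hh⟩ := H87.CentralExt.exists_desc q' (f ≫ q) fun W x y hxy => by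
    have h1 : (x * y⁻¹) ≫ q' = toUnit W ≫ η[A'] := by
      rw [← Hom.one_def, MonObj.mul_comp, GrpObj.inv_comp, hxy, mul_inv_cancel]
    have h2 : hk'.lift (x * y⁻¹) (toUnit W) h1 ≫ i' ≫ f ≫ q = 1 := by rw [h0, MonObj.comp_one]
    rw [← Category.assoc, hk'.lift_fst, MonObj.mul_comp, GrpObj.inv_comp, mul_inv_eq_one] at h2
    exact h2
  haveI hhm : IsMonHom h := isMonHom_desc q' (f ≫ q) h hh
  haveI hhs : Surjective h.left := by
    haveI : Surjective (q'.left ≫ h.left) := by rw [← Over.comp_left, hh, Over.comp_left]; infer_instance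
    exact Surjective.of_comp q'.left h.left
  refine ⟨⟨g, hgm, hg, ?_⟩, ⟨h, hhm, hh, hhs⟩⟩
  obtain ⟨C, _, p, c, hpm, hcm, hpc, hcc, hps, hpf, hplf, hCs, hCc, hCq⟩ := exists_image_smooth g
  haveI := hpm; haveI := hcm; haveI := hcc; haveI := hps; haveI := hpf; haveI := hplf; haveI := hCs; haveI := hCq
  haveI : Mono c := Over.mono_of_mono_left c
  haveI : Flat f.left := GrpQ.flat_of_surjective_of_smooth f
  haveI : LocallyOfFinitePresentation f.left :=
    Flat55.FibreTransfer.locallyOfFinitePresentation_of_comp (g := G.hom)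
      (by rw [Over.w f]; infer_instance) inferInstance
  have hnc : AlgGrp.IsNormalHom c := by
    intro T x y
    obtain ⟨X1, e1, y', hy, _, _, _⟩ := GrpQ.ThirdIso.exists_lift p y
    obtain ⟨X2, e2, x', hx, _, _, _⟩ := GrpQ.ThirdIso.exists_lift f (e1 ≫ x ≫ i)
    haveI := H87.CentralExt.epi_of_cover e1
    haveI := H87.CentralExt.epi_of_cover e2
    obtain ⟨z, hz⟩ := hn' X2 x' (e2 ≫ y')
    have hzc : (e2 ≫ e1) ≫ (x * (y ≫ c) * x⁻¹) = (z ≫ p) ≫ c := by
      rw [← cancel_mono i, Category.assoc (z ≫ p), Category.assoc z, reassoc_of% hpc, hg, ← Category.assoc z, ← hz,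
        Category.assoc _ _ i, MonObj.mul_comp, MonObj.mul_comp, GrpObj.inv_comp, MonObj.comp_mul, MonObj.comp_mul,
        GrpObj.comp_inv, MonObj.mul_comp, MonObj.mul_comp, GrpObj.inv_comp, hx, Category.assoc, Category.assoc,
        Category.assoc, Category.assoc, ← hg, ← hpc]
      simp only [Category.assoc, reassoc_of% hy]
    obtain ⟨w, hw⟩ := H87.CentralExt.exists_desc e1 (y' ≫ p) (fun W a b hab => by rw [hy, reassoc_of% hab])
    haveI : Surjective (e2 ≫ e1).left := by rw [Over.comp_left]; infer_instance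
    haveI : Flat (e2 ≫ e1).left := by rw [Over.comp_left]; infer_instance
    haveI : LocallyOfFinitePresentation (e2 ≫ e1).left := by rw [Over.comp_left]; infer_instance
    obtain ⟨v, hv⟩ := H87.CentralExt.exists_desc (e2 ≫ e1) (z ≫ p) fun W a b hab => by
      rw [← cancel_mono c, Category.assoc, Category.assoc b, ← hzc, ← Category.assoc, hab, Category.assoc]
    refine ⟨v, ?_⟩
    haveI := H87.CentralExt.epi_of_cover (e2 ≫ e1)
    rw [← cancel_epi (e2 ≫ e1), hzc, ← Category.assoc (e2 ≫ e1) v, hv]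
  obtain ⟨Q, _, π, hπm, hπf, hπs, hπp, hkπ, hQsep, -, hQsm⟩ := Groth.Agent.S3030.result k C N c hnc
  haveI := hπm; haveI := hπf; haveI := hπs; haveI := hπp; haveI := hQsep
  haveI : Smooth Q.hom := hQsm inferInstance
  haveI : QuasiCompact Q.hom := by
    haveI : CompactSpace N.left := QuasiCompact.compactSpace_of_compactSpace N.hom
    haveI : CompactSpace Q.left := π.left.surjective.compactSpace π.left.continuous
    rw [quasiCompact_iff_compactSpace]; infer_instance
  haveI : IsAffine Q.left := (Groth.Agent.S7983.result k N Q π).1 inferInstance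
  haveI : ConnectedSpace Q.left := π.left.surjective.connectedSpace π.left.continuous
  haveI : IsSeparated A.hom := inferInstance
  haveI : IsSeparated A'.hom := inferInstance
  obtain ⟨P, _, j, hjm, hjc, hkP, -⟩ := GrpQ.exists_kernel (f ≫ q)
  haveI := hjm; haveI := hjc
  haveI : Mono j := Over.mono_of_mono_left j
  obtain ⟨R, _, r, hrm, hrc, hkR, -⟩ := GrpQ.exists_kernel h
  haveI := hrm; haveI := hrc
  haveI : Mono r := Over.mono_of_mono_left r
  obtain ⟨a, ha⟩ : ∃ a : P ⟶ N, a ≫ i = j ≫ f :=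
    ⟨hk.lift (j ≫ f) (toUnit P) (by rw [Category.assoc, hkP.w]), hk.lift_fst _ _ _⟩
  obtain ⟨b, hb⟩ : ∃ b : P ⟶ R, b ≫ r = j ≫ q' :=
    ⟨hkR.lift (j ≫ q') (toUnit P) (by rw [Category.assoc, hh, hkP.w]), hkR.lift_fst _ _ _⟩
  haveI : IsMonHom a := GrpQ.DomFlat.isMonHom_of_comp_mono a i (by rw [ha]; infer_instance)
  -- `a ≫ π` factors through `b`
  obtain ⟨X1, e1, x1, hx1, hf1, hs1, hl1⟩ := GrpQ.ThirdIso.exists_lift q' r
  haveI := hf1; haveI := hs1; haveI := hl1
  obtain ⟨y1, hy1⟩ : ∃ y1 : X1 ⟶ P, y1 ≫ j = x1 := by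
    refine ⟨hkP.lift x1 (toUnit X1) ?_, hkP.lift_fst _ _ _⟩
    rw [← hh, ← Category.assoc, hx1, Category.assoc, hkR.w, ← Category.assoc, toUnit_unique (e1 ≫ toUnit R) (toUnit X1)]
  have hkey : ∀ (W : Over (Spec (CommRingCat.of k))) (x y : W ⟶ P), x ≫ b = y ≫ b → x ≫ a ≫ π = y ≫ a ≫ π := by
    intro W x y hxy
    have h1 : ((x * y⁻¹) ≫ j) ≫ q' = toUnit W ≫ η[A'] := by
      have h2 := congrArg (· ≫ r) hxy
      simp only [Category.assoc, hb] at h2
      rw [← Hom.one_def, Category.assoc, MonObj.mul_comp, GrpObj.inv_comp, h2, mul_inv_cancel]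
    have h3 : (x * y⁻¹) ≫ a = (hk'.lift _ (toUnit W) h1 ≫ p) ≫ c := by
      rw [← cancel_mono i, Category.assoc, ha, Category.assoc _ c, Category.assoc _ p, reassoc_of% hpc, hg,
        ← Category.assoc, ← Category.assoc _ i' f, hk'.lift_fst]
    have h4 := congrArg (· ≫ π) h3
    simp only [Category.assoc, hkπ.w] at h4
    rw [← Category.assoc, ← Hom.one_def, MonObj.comp_one, MonObj.comp_one] at h4
    rw [MonObj.mul_comp, GrpObj.inv_comp, MonObj.mul_comp, GrpObj.inv_comp, mul_inv_eq_one, Category.assoc,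
      Category.assoc] at h4
    exact h4
  obtain ⟨θ, hθ⟩ := H87.CentralExt.exists_desc e1 (y1 ≫ a ≫ π) fun W s t hst => by
    rw [← Category.assoc, ← Category.assoc t]
    refine hkey W _ _ ?_
    rw [← cancel_mono r]
    simp only [Category.assoc, hb, reassoc_of% hy1, hx1]
    exact (reassoc_of% hst) r
  haveI : Surjective θ.left := by
    obtain ⟨X2, e2, u, hu, _, hs2, _⟩ := GrpQ.ThirdIso.exists_lift π (𝟙 Q)
    obtain ⟨X3, e3, x, hx, _, hs3, _⟩ := GrpQ.ThirdIso.exists_lift f (u ≫ i)
    obtain ⟨y, hy⟩ : ∃ y : X3 ⟶ P, y ≫ j = x := by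
      refine ⟨hkP.lift x (toUnit X3) ?_, hkP.lift_fst _ _ _⟩
      rw [← Category.assoc, hx, Category.assoc, Category.assoc, hk.w, ← Category.assoc u, ← Category.assoc,
        toUnit_unique (e3 ≫ u ≫ toUnit N) (toUnit X3)]
    have hya : y ≫ a = e3 ≫ u := by rw [← cancel_mono i, Category.assoc, ha, reassoc_of% hy, hx, Category.assoc]
    obtain ⟨X4, e4, z, hz, _, hs4, _⟩ := GrpQ.ThirdIso.exists_lift e1 (y ≫ b)
    have hfin : z ≫ e1 ≫ θ = (e4 ≫ e3) ≫ e2 := by
      rw [hθ, ← Category.assoc, hkey X4 (z ≫ y1) (e4 ≫ y) ?_, Category.assoc, ← Category.assoc y, hya,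
        Category.assoc, Category.assoc, hu, Category.comp_id]
      rw [← cancel_mono r]
      simp only [Category.assoc, hb, reassoc_of% hy1, hx1]
      rw [← hb]
      exact (reassoc_of% hz) r
    haveI : Surjective ((z ≫ e1).left ≫ θ.left) := by
      rw [← Over.comp_left, Category.assoc, hfin, Over.comp_left, Over.comp_left]; infer_instance
    exact Surjective.of_comp (z ≫ e1).left θ.left
  haveI : IsProper R.hom := by rw [← Over.w r]; infer_instance
  haveI : UniversallyClosed Q.hom := by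
    haveI : UniversallyClosed (θ.left ≫ Q.hom) := by rw [Over.w θ]; infer_instance
    exact UniversallyClosed.of_comp_surjective θ.left Q.hom
  haveI : IsProper Q.hom := ⟨⟩
  haveI : IsFinite Q.hom := IsFinite.iff_isProper_and_isAffineHom.mpr ⟨inferInstance, inferInstance⟩
  have hπ1 : π = 1 := by rw [← Category.comp_id π, id_eq_one (G := Q), MonObj.comp_one]
  have hs : hkπ.lift (𝟙 N) (toUnit N) (by rw [Category.id_comp, hπ1, Hom.one_def]) ≫ c = 𝟙 N := hkπ.lift_fst _ _ _
  haveI : IsSplitEpi c := ⟨⟨_, hs⟩⟩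
  haveI : IsIso c := isIso_of_mono_of_isSplitEpi c
  haveI : IsIso c.left := ((Over.forget _).mapIso (asIso c)).isIso_hom
  rw [← hpc, Over.comp_left]
  infer_instance

end Groth.Agent.S17454
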