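import Groth.Statements.S17456
import Groth.Agent.Lib.TorsDeg6.Basic
import Groth.Agent.Lib.MTExt.Torsion
import Groth.Agent.Lib.GrpQ.Kernel
import Groth.Agent.Lib.GrpQ.MonoClosed
import Groth.Agent.Lib.GrpSch.Basic
import Groth.Agent.Lib.FinLocFreeRank.Basic
import Groth.Agent.H63.AVDegree
import Groth.Agent.H2.Rigid.GeomIrred
import Mathlib.AlgebraicGeometry.Morphisms.LocalFlatDescent
import Mathlib.AlgebraicGeometry.Group.Abelian

set_option autoImplicit false
set_option linter.style.haveILetI false
universe u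
open CategoryTheory MonoidalCategory CartesianMonoidalCategory MonObj GrpObj AlgebraicGeometry CategoryTheory.Limits
open AlgGrp

namespace Groth.Agent.S17456

/-- Let k be a field and G a smooth connected commutative k-group scheme of finite type which is an
extension of an abelian variety B of dimension a by a torus T of dimension t: T → G is a
homomorphism and a closed immersion with T a torus, G → B is a flat surjective homomorphism onto a
proper smooth connected k-group scheme, and T is its kernel. Then for every integer N ≥ 1, the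
characteristic of k being allowed to divide N, the N-torsion subgroup scheme G[N] (the kernel of
multiplication by N on G) is finite locally free over Spec k of degree N^(t + 2a). (In the source G
is the identity component of the special fibre of the Néron model of an abelian variety with
semistable reduction, which is such an extension.) -/
theorem result (k : Type u) [Field k]
    (G T B : Over (Spec (CommRingCat.of k))) [GrpObj G] [IsCommMonObj G] [GrpObj T] [GrpObj B]
    [Smooth G.hom] [QuasiCompact G.hom] [ConnectedSpace ↥G.left]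
    (i : T ⟶ G) [IsMonHom i] [IsClosedImmersion i.left] (hT : Red.IsTorus T)
    (q : G ⟶ B) [IsMonHom q] [Surjective q.left] [Flat q.left] (hk : AlgGrp.IsKernel i q)
    [IsProper B.hom] [Smooth B.hom] [ConnectedSpace ↥B.left]
    (t a : ℕ) (ht : topologicalKrullDim ↥T.left = t) (ha : topologicalKrullDim ↥B.left = a)
    (N : ℕ) (hN : 0 < N)
    (K : Over (Spec (CommRingCat.of k))) [GrpObj K] (κ : K ⟶ G) [IsMonHom κ]
    (hK : AlgGrp.IsKernel κ ((𝟙 G) ^ N)) :
    Mor2.IsFinLocFreeOfDeg (N ^ (t + 2 * a)) K.hom := by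
  classical
  haveI : IsSeparated G.hom := Groth.Agent.Lib.GrpSch.isSeparated_of_field G
  haveI : Mono i := Groth.Agent.Lib.MTExt.mono_of_kernel hk
  haveI : IsCommMonObj T := (isCommMonObj_iff_isMulCommutative (M := T)).mpr fun X => ⟨⟨fun x y => (cancel_mono i).1 (by
    rw [MonObj.mul_comp, MonObj.mul_comp, mul_comm])⟩⟩
  haveI hTaff : IsAffineHom T.hom := Groth.Agent.Lib.Tori.Basic.isAffineHom_of_isTorus hT
  haveI := Groth.Agent.Lib.Tori.Basic.smooth_of_isTorus hT
  haveI : QuasiCompact q.left := Groth.Agent.Lib.GrpQ.quasiCompact_left q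
  haveI : GeometricallyConnected B.hom :=
    Groth.Agent.Lib.GrpSch.geometricallyConnected_of_rationalPoint B.hom η[B].left (Over.w η[B])
  haveI : GeometricallyIntegral B.hom := Groth.Agent.H2.Rigid.GeomIrred.geometricallyIntegral_of_smooth B.hom
  haveI : IsCommMonObj B := isCommMonObj_of_isProper_of_geometricallyIntegral B
  -- the power maps
  let pT : T ⟶ T := (𝟙 T) ^ N
  let pB : B ⟶ B := (𝟙 B) ^ N
  haveI : IsMonHom pT := Groth.Agent.Lib.ImgMT.isMonHom_powN (fun X a b => mul_comm a b) N
  haveI : IsMonHom pB := Groth.Agent.Lib.ImgMT.isMonHom_powN (fun X a b => mul_comm a b) N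
  obtain ⟨hTff, hTs, hTq⟩ := Groth.Agent.Lib.ImgMT.isCov_powN_torus hT hN
  haveI : Flat pT.left := hTff
  haveI : Surjective pT.left := hTs
  haveI : QuasiCompact pT.left := hTq
  haveI hTfin : IsFinite pT.left :=
    Groth.Agent.Lib.MTExt.isFinite_pow (Groth.Agent.Lib.SemiAbIsog.Basic.isMultTypeFT_of_isTorus hT) hN
  obtain ⟨hBfin, hBfl, -⟩ := Groth.Agent.H4.MulIso.nat B hN
  haveI : IsFinite pB.left := hBfin
  haveI : Flat pB.left := hBfl
  haveI : IsSeparated B.hom := inferInstance
  haveI : IsSeparated T.hom := inferInstance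
  obtain ⟨KT, gKT, κT, hκT, -, hkT, -⟩ := Groth.Agent.Lib.GrpQ.exists_kernel pT
  obtain ⟨KB, gKB, κB, hκB, -, hkB, -⟩ := Groth.Agent.Lib.GrpQ.exists_kernel pB
  haveI := hκT; haveI := hκB
  haveI : Mono κT := Groth.Agent.Lib.GrpQ.kernel_mono hkT
  haveI : Mono κB := Groth.Agent.Lib.GrpQ.kernel_mono hkB
  haveI : Mono κ := Groth.Agent.Lib.MTExt.mono_of_kernel hK
  have sqT : IsPullback KT.hom κT.left η[T].left pT.left := by
    have h1 : IsPullback (toUnit KT).left κT.left η[T].left pT.left := (hkT.map (Over.forget _)).flip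
    have h2 : (toUnit KT).left = KT.hom := (Category.comp_id _).symm.trans (Over.w (toUnit KT))
    rwa [h2] at h1
  have sqB : IsPullback KB.hom κB.left η[B].left pB.left := by
    have h1 : IsPullback (toUnit KB).left κB.left η[B].left pB.left := (hkB.map (Over.forget _)).flip
    have h2 : (toUnit KB).left = KB.hom := (Category.comp_id _).symm.trans (Over.w (toUnit KB))
    rwa [h2] at h1
  haveI : IsFinite KT.hom := MorphismProperty.of_isPullback (P := @IsFinite) sqT.flip hTfin
  haveI : Flat KT.hom := MorphismProperty.of_isPullback (P := @Flat) sqT.flip hTff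
  haveI : IsFinite KB.hom := MorphismProperty.of_isPullback (P := @IsFinite) sqB.flip hBfin
  haveI : Flat KB.hom := MorphismProperty.of_isPullback (P := @Flat) sqB.flip hBfl
  have hKTdeg : ∀ s, KT.hom.finrank s = N ^ t := fun s =>
    (Scheme.Hom.finrank_of_isPullback _ _ _ _ sqT.flip s).trans
      (Groth.Agent.Lib.TorsDeg6.finrank_powN_torus hT ht hN _)
  have hKBdeg : ∀ s, KB.hom.finrank s = N ^ (2 * a) := fun s => by
    refine (Scheme.Hom.finrank_of_isPullback _ _ _ _ sqB.flip s).trans ?_
    have h := Groth.Agent.H63.AVDegree.finrank_zpow B ha (d := (N : ℤ)) (by exact_mod_cast hN.ne') (η[B].left s)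
    rw [zpow_natCast, Int.natAbs_natCast] at h
    exact h
  -- `K` is finite
  haveI hKfin : IsFinite K.hom := by
    haveI h := Groth.Agent.Lib.MTExt.isFinite_kerMap hk (fun X a b => mul_comm a b) N hTfin hBfin
    rw [Groth.Agent.Lib.MTExt.kerMap_eq_fst] at h
    have sq : IsPullback K.hom κ.left η[G].left ((𝟙 G) ^ N : G ⟶ G).left := by
      have h1 : IsPullback (toUnit K).left κ.left η[G].left ((𝟙 G) ^ N : G ⟶ G).left := (hK.map (Over.forget _)).flip
      have h2 : (toUnit K).left = K.hom := (Category.comp_id _).symm.trans (Over.w (toUnit K))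
      rwa [h2] at h1
    haveI : IsFinite (pullback.fst η[G].left ((𝟙 G) ^ N : G ⟶ G).left) := h
    rw [← sq.isoPullback_hom_fst]
    exact inferInstanceAs (IsFinite (sq.isoPullback.hom ≫ pullback.fst η[G].left ((𝟙 G) ^ N : G ⟶ G).left))
  have hκN : κ ^ N = 1 := by
    have h := Groth.Agent.Lib.MTExt.comp_kernel hK (𝟙 K)
    rwa [Category.id_comp, MonObj.comp_pow, Category.comp_id] at h
  have hκTN : κT ^ N = 1 := by
    have h := Groth.Agent.Lib.MTExt.comp_kernel hkT (𝟙 KT)
    rwa [Category.id_comp, MonObj.comp_pow, Category.comp_id] at h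
  have hκBN : κB ^ N = 1 := by
    have h := Groth.Agent.Lib.MTExt.comp_kernel hkB (𝟙 KB)
    rwa [Category.id_comp, MonObj.comp_pow, Category.comp_id] at h
  have hiq : i ≫ q = 1 := by
    have h := Groth.Agent.Lib.MTExt.comp_kernel hk (𝟙 T)
    rwa [Category.id_comp] at h
  -- `ρ : K ⟶ B[N]` and `T[N] ⟶ K`
  obtain ⟨ρ, hρ⟩ := Groth.Agent.Lib.MTExt.exists_lift hkB (κ ≫ q) (by
    rw [MonObj.comp_pow, Category.comp_id, ← MonObj.pow_comp, hκN, MonObj.one_comp])
  obtain ⟨iT, hiT⟩ := Groth.Agent.Lib.MTExt.exists_lift hK (κT ≫ i) (by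
    rw [MonObj.comp_pow, Category.comp_id, ← MonObj.pow_comp, hκTN, MonObj.one_comp])
  -- a cover of `B[N]` along which `ρ` has a section
  let Y : Over (Spec (CommRingCat.of k)) := pullback κB q
  let c₁ : Y ⟶ KB := pullback.fst κB q
  let g : Y ⟶ G := pullback.snd κB q
  have hg : g ≫ q = c₁ ≫ κB := pullback.condition.symm
  have hY : IsPullback g.left c₁.left q.left κB.left :=
    ((IsPullback.of_hasPullback κB q).map (Over.forget _)).flip
  obtain ⟨t₀, ht₀⟩ := Groth.Agent.Lib.MTExt.exists_lift hk (g ^ N) (by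
    rw [MonObj.pow_comp, hg, ← MonObj.comp_pow, hκBN, MonObj.comp_one])
  let Z : Over (Spec (CommRingCat.of k)) := pullback t₀ pT
  let d₁ : Z ⟶ Y := pullback.fst t₀ pT
  let τ : Z ⟶ T := pullback.snd t₀ pT
  have hτ : τ ^ N = d₁ ≫ t₀ := by
    have h : d₁ ≫ t₀ = τ ≫ pT := pullback.condition
    rw [h, MonObj.comp_pow, Category.comp_id]
  have hZ : IsPullback τ.left d₁.left pT.left t₀.left :=
    ((IsPullback.of_hasPullback t₀ pT).map (Over.forget _)).flip
  haveI : Flat c₁.left := MorphismProperty.of_isPullback (P := @Flat) hY ‹_›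
  haveI : Surjective c₁.left := MorphismProperty.of_isPullback (P := @Surjective) hY ‹_›
  haveI : QuasiCompact c₁.left := MorphismProperty.of_isPullback (P := @QuasiCompact) hY ‹_›
  haveI : Flat d₁.left := MorphismProperty.of_isPullback (P := @Flat) hZ hTff
  haveI : Surjective d₁.left := MorphismProperty.of_isPullback (P := @Surjective) hZ hTs
  haveI : QuasiCompact d₁.left := MorphismProperty.of_isPullback (P := @QuasiCompact) hZ hTq
  let c : Z ⟶ KB := d₁ ≫ c₁
  obtain ⟨σ, hσ⟩ := Groth.Agent.Lib.MTExt.exists_lift hK ((d₁ ≫ g) / (τ ≫ i)) (by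
    rw [MonObj.comp_pow, Category.comp_id, div_pow, ← MonObj.comp_pow, ← MonObj.pow_comp, ← ht₀, hτ,
      Category.assoc, div_self'])
  have hσρ : σ ≫ ρ = c := by
    rw [← cancel_mono κB, Category.assoc, hρ, reassoc_of% hσ, GrpObj.div_comp, Category.assoc, hg,
      Category.assoc, hiq, MonObj.comp_one, div_one, Category.assoc]
  -- the torsor property
  have hpb : IsPullback ((fst KT Z ≫ iT) * (snd KT Z ≫ σ)) (snd KT Z) ρ c := by
    have w : ((fst KT Z ≫ iT) * (snd KT Z ≫ σ)) ≫ ρ = snd KT Z ≫ c := by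
      rw [← cancel_mono κB, ← hσρ, Category.assoc, Category.assoc, Category.assoc, hρ, ← Category.assoc _ κ,
        MonObj.mul_comp, MonObj.mul_comp, Category.assoc, Category.assoc, Category.assoc, Category.assoc,
        reassoc_of% hiT, hiq, MonObj.comp_one, MonObj.comp_one, _root_.one_mul]
    have hl : ∀ z : PullbackCone ρ c, ∃ m : z.pt ⟶ KT, m ≫ iT = z.fst / (z.snd ≫ σ) := fun z => by
      obtain ⟨s, hs⟩ := Groth.Agent.Lib.MTExt.exists_lift hk ((z.fst / (z.snd ≫ σ)) ≫ κ) (by
        have e : z.fst ≫ κ ≫ q = (z.snd ≫ σ) ≫ κ ≫ q := by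
          rw [← hρ, ← Category.assoc, z.condition, Category.assoc z.snd σ, reassoc_of% hσρ, Category.assoc]
        rw [Category.assoc, ← Category.assoc _ κ q, GrpObj.div_comp, GrpObj.div_comp, Category.assoc, e,
          ← Category.assoc _ κ q, div_self'])
      obtain ⟨m, hm⟩ := Groth.Agent.Lib.MTExt.exists_lift hkT s (by
        rw [← cancel_mono i, MonObj.comp_pow, Category.comp_id, MonObj.one_comp, MonObj.pow_comp, hs,
          ← MonObj.comp_pow, hκN, MonObj.comp_one])
      exact ⟨m, by rw [← cancel_mono κ, Category.assoc, hiT, reassoc_of% hm, hs]⟩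
    choose m hm using hl
    refine ⟨⟨w⟩, ⟨PullbackCone.IsLimit.mk w (fun z => lift (m z) z.snd) (fun z => ?_) (fun z => lift_snd _ _)
      (fun z x h1 h2 => ?_)⟩⟩
    · rw [MonObj.comp_mul, lift_fst_assoc, lift_snd_assoc, hm, div_mul_cancel]
    · apply CartesianMonoidalCategory.hom_ext
      · haveI : Mono iT := by
          haveI : Mono (iT ≫ κ) := by rw [hiT]; infer_instance
          exact mono_of_mono iT κ
        rw [lift_fst, ← cancel_mono iT, hm, ← h1, ← h2, MonObj.comp_mul, Category.assoc, Category.assoc,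
          mul_div_cancel_right]
      · rw [lift_snd, h2]
  haveI : IsFinite ρ.left := by
    haveI : IsFinite (ρ.left ≫ KB.hom) := by rw [Over.w]; infer_instance
    exact IsFinite.of_comp _ KB.hom
  haveI : Surjective c.left := by rw [Over.comp_left]; infer_instance
  haveI : Flat c.left := by rw [Over.comp_left]; infer_instance
  haveI : QuasiCompact c.left := by rw [Over.comp_left]; infer_instance
  have hsq := hpb.map (Over.forget _)
  haveI : Flat ρ.left := by
    refine MorphismProperty.of_isPullback_of_descendsAlong (P := @Flat) (Q := @Surjective ⊓ @Flat ⊓ @QuasiCompact)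
      hsq.flip ⟨⟨‹_›, ‹_›⟩, ‹_›⟩ ?_
    exact Groth.Agent.Lib.GrpSch.snd_left_of (P := @Flat) Z ‹Flat KT.hom›
  have hρdeg : ∀ y, ρ.left.finrank y = N ^ t := fun y => by
    obtain ⟨z, rfl⟩ := c.left.surjective y
    refine (Scheme.Hom.finrank_of_isPullback _ _ ρ.left c.left hsq z).symm.trans ?_
    exact (Scheme.Hom.finrank_pullback_snd KT.hom Z.hom z).trans (hKTdeg _)
  haveI : Flat K.hom := Groth.Agent.Lib.GrpSch.flat_of_isField (Field.toIsField k) _
  refine ⟨⟨hKfin, inferInstance, inferInstance⟩, fun s => ?_⟩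
  have h := Groth.Agent.Lib.FinLocFreeRank.finrank_comp ρ.left KB.hom (N ^ t) hρdeg s
  rw [Over.w ρ] at h
  rw [h, hKBdeg, ← pow_add]

end Groth.Agent.S17456
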