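import Groth.Statements.S17459
import Groth.Agent.Lib.NeronIsog.Basic
import Groth.Agent.Lib.QFAffine.Over

set_option autoImplicit false
universe u
open CategoryTheory CategoryTheory.Limits AlgebraicGeometry MonObj
open SGA7
open CategoryTheory.MonoidalCategory CartesianMonoidalCategory
open scoped CategoryTheory.Obj

namespace Groth.Agent.S17459

/-- Let R be a discrete valuation ring with fraction field K, let N and N' be group schemes over Spec R
which are Néron models of their generic fibres A = N_K and B = N'_K, abelian varieties (proper and
geometrically integral) of the same dimension, and let u : N → N' be a homomorphism (the extension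
of u_K : A → B). If the homomorphism induced by u on the special fibres is locally quasi-finite — as
it is when it restricts to an isogeny between the identity components, the printed hypothesis, which
also forces dim A = dim B — then u_K is an isogeny: its underlying map is surjective and its kernel
is finite. -/
theorem result (R K : Type u) [CommRing R] [IsDomain R]
    [IsDiscreteValuationRing R] [Field K] [Algebra R K] [IsFractionRing R K]
    (N N' : Over (Spec (CommRingCat.of R))) [GrpObj N] [GrpObj N']
    (hN : SGA7.IsNeron R K N) (hN' : SGA7.IsNeron R K N')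
    [IsProper ((SGA7.genFib R K).obj N).hom] [GeometricallyIntegral ((SGA7.genFib R K).obj N).hom]
    [IsProper ((SGA7.genFib R K).obj N').hom] [GeometricallyIntegral ((SGA7.genFib R K).obj N').hom]
    (hdim : topologicalKrullDim ↥((SGA7.genFib R K).obj N).left = topologicalKrullDim ↥((SGA7.genFib R K).obj N').left)
    (u : N ⟶ N') [IsMonHom u]
    [LocallyQuasiFinite (SGA7.fibreHom (IsLocalRing.closedPoint R) u).left] :
    SGA7.IsIsogenyOver ((SGA7.genFib R K).map u) := by
  obtain ⟨hNs, hNsep, hNqc, -⟩ := hN
  obtain ⟨hN's, hN'sep, hN'qc, -⟩ := hN'
  have : LocallyOfFiniteType (u.left ≫ N'.hom) := by rw [Over.w u]; infer_instance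
  have : LocallyOfFiniteType u.left := locallyOfFiniteType_of_comp u.left N'.hom
  have hG : ∀ s, LocallyOfFiniteType (N.hom.fiberToSpecResidueField s) := fun s =>
    inferInstanceAs (LocallyOfFiniteType (pullback.snd N.hom ((Spec (CommRingCat.of R)).fromSpecResidueField s)))
  have hP := Lib.ActSep.pointwiseBC_locallyQuasiFinite.{u}
  have hq : LocallyQuasiFinite u.left := by
    rw [Lib.ActSep.iff_forall_map u hP hG]
    intro s
    rw [Lib.ActSep.map_iff_mem u hP hG]
    have hcl : η[N].left (IsLocalRing.closedPoint R) ∈ Lib.ActSep.nhdLocus @LocallyQuasiFinite u.left :=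
      (Lib.ActSep.map_iff_mem u hP hG _).1 ‹_›
    exact ((IsLocalRing.specializes_closedPoint s).map η[N].left.continuous).mem_open
      (Lib.ActSep.isOpen_nhdLocus _ _) hcl
  let A := (SGA7.genFib R K).obj N
  let B := (SGA7.genFib R K).obj N'
  let uK : A ⟶ B := (SGA7.genFib R K).map u
  have : LocallyQuasiFinite uK.left :=
    Lib.GrpSch.bc_map_left_of (P := @LocallyQuasiFinite) (Spec.map (CommRingCat.ofHom (algebraMap R K))) u hq
  have : IsProper (uK.left ≫ B.hom) := by rw [Over.w uK]; infer_instance
  have : IsProper uK.left := IsProper.of_comp uK.left B.hom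
  have : IsReduced B.left := by
    have := GeometricallyIntegral.isIntegral_of_subsingleton (f := B.hom)
    infer_instance
  have : Flat uK.left := Lib.NeronIsog.flat_of_dim_eq (k := K) uK hdim
  refine ⟨⟨fun y => ?_⟩, fun M i hM => ?_⟩
  · have := GeometricallyIntegral.isIntegral_of_subsingleton (f := B.hom)
    have : IsLocallyNoetherian B.left := LocallyOfFiniteType.isLocallyNoetherian B.hom
    have hc : IsClopen (Set.range uK.left) :=
      ⟨uK.left.isClosedMap.isClosed_range, uK.left.isOpenMap.isOpen_range⟩
    exact (hc.eq_univ ⟨_, η[A].left (IsLocalRing.closedPoint K), rfl⟩).ge (Set.mem_univ y)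
  · have hker : IsPullback i.left (toUnit M).left uK.left η[B].left := (hM.map (Over.forget _) :)
    have : IsClosedImmersion η[B].left := by
      have : IsClosedImmersion (η[B].left ≫ B.hom) := by
        rw [Over.w η[B]]
        exact (inferInstanceAs (IsClosedImmersion (𝟙 (Spec (CommRingCat.of K)))))
      exact IsClosedImmersion.of_comp _ B.hom
    have hi : IsClosedImmersion i.left := MorphismProperty.of_isPullback hker.flip ‹IsClosedImmersion η[B].left›
    have : IsProper M.hom := by rw [← Over.w i]; infer_instance
    have : LocallyQuasiFinite M.hom := by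
      rw [← Over.w (toUnit M)]
      have : LocallyQuasiFinite (toUnit M).left := MorphismProperty.of_isPullback hker ‹LocallyQuasiFinite uK.left›
      exact MorphismProperty.comp_mem _ _ _ this (inferInstanceAs (LocallyQuasiFinite (𝟙 _)))
    exact IsFinite.of_isProper_of_locallyQuasiFinite M.hom

end Groth.Agent.S17459
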