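import Groth.Statements.S1746
import Groth.Agent.Lib.DMod.Devissage

set_option autoImplicit false
universe u
open CategoryTheory
attribute [local instance] HasDerivedCategory.standard
open Dual

namespace Groth.Agent.S1746

open Groth.Agent.Lib.DMod

/-- Let A be a Noetherian ring and K, L objects of D(A) all of whose cohomology modules are finite
A-modules, with L of finite injective dimension. Then for every integer i the A-module of maps K →
L[i] in D(A) (the i-th cohomology of RHom(K, L)) is a finite A-module. -/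
theorem result (A : Type u) [CommRing A] [IsNoetherianRing A] (K L : Dual.D A) (hK : ∀ i : ℤ, Module.Finite A (Dual.HD A K i)) (hL : ∀ i : ℤ, Module.Finite A (Dual.HD A L i)) (hLi : DRing.HasFiniteInjDim A L) (i : ℤ) : Module.Finite A (K ⟶ L⟦i⟧) := by
  obtain ⟨c, d, E, hE, hinj, ⟨e⟩⟩ := hLi
  have hGE : E.IsStrictlyGE c := (CochainComplex.isStrictlyGE_iff E c).2 fun j hj => hE j (Or.inl hj)
  have hLE : E.IsStrictlyLE d := (CochainComplex.isStrictlyLE_iff E d).2 fun j hj => hE j (Or.inr hj)
  have : ∀ j, CategoryTheory.Injective (E.X j) := fun j =>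
    (Module.injective_iff_injective_object A (E.X j)).1 (hinj j)
  have hLb : ∀ j, j < c ∨ d < j → Subsingleton (Dual.HD A L j) := by
    intro j hj
    have : Subsingleton (Dual.HD A (DerivedCategory.Q.obj E) j) := by
      rcases hj with hj | hj
      · exact Basic.subsingleton_HD_of_isGE _ c hj
      · exact Basic.subsingleton_HD_of_isLE _ d hj
    exact (Basic.HDCongr e j).symm.toEquiv.subsingleton
  have hLib : ∀ j, j < c - i ∨ d - i < j → Subsingleton (Dual.HD A (L⟦i⟧) j) := by
    intro j hj
    have := hLb (i + j) (by lia)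
    exact (Basic.HDShift L i j (i + j) rfl).toEquiv.subsingleton
  have hLif : ∀ j, Module.Finite A (Dual.HD A (L⟦i⟧) j) := fun j =>
    have := hL (i + j)
    Module.Finite.equiv (Basic.HDShift L i j (i + j) rfl).symm
  obtain ⟨T, hT, hT₂, hT₁, hT₃, h₁, h₃⟩ := Devissage.exists_trunc K (d - i)
  subst hT₂
  refine Basic.finite_hom_from_obj₂ hT _ ?_ ?_
  · refine Devissage.finite_hom_of_isLE T.obj₁ _ (d - i) (c - i) (d - i)
      (fun j hj => Basic.subsingleton_HD_of_isLE _ (d - i) hj) (fun j => ?_) hLib hLif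
    by_cases hj : j ≤ d - i
    · obtain ⟨f⟩ := h₁ j hj
      have := hK j
      exact Module.Finite.equiv f.symm
    · have := Basic.subsingleton_HD_of_isLE T.obj₁ (d - i) (i := j) (by lia)
      exact Module.Finite.of_finite
  · have : ((T.obj₃)⟦-i⟧).IsGE (d + 1) :=
      DerivedCategory.TStructure.t.isGE_shift T.obj₃ (d - i + 1) (-i) (d + 1) (by lia)
    have hs : Subsingleton ((T.obj₃)⟦-i⟧ ⟶ DerivedCategory.Q.obj E) :=
      Gen.subsingleton_hom_of_isGE_of_injective _ E c d (d + 1) (by lia)
    have hs' : Subsingleton ((T.obj₃)⟦-i⟧ ⟶ (𝟭 (Dual.D A)).obj L) :=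
      (Linear.homCongr A (Iso.refl _) e.symm).toEquiv.subsingleton
    have : Subsingleton (T.obj₃ ⟶ L⟦i⟧) :=
      ((Basic.homShiftEquiv T.obj₃ (L⟦i⟧) (-i)).trans
          (Linear.homCongr A (Iso.refl _)
            ((shiftFunctorCompIsoId (Dual.D A) i (-i) (by lia)).app L))).toEquiv.subsingleton
    exact Module.Finite.of_finite

end Groth.Agent.S1746
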