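import Groth.Statements.S17464
import Groth.Agent.H2.TorusHom.GaTorus
import Mathlib.AlgebraicGeometry.Sites.Fpqc

set_option autoImplicit false
universe u
open CategoryTheory MonoidalCategory CartesianMonoidalCategory MonObj GrpObj AlgebraicGeometry CategoryTheory.Limits
open AlgGrp

namespace Groth.Agent.S17464

/-- Let k be an algebraically closed field, T a k-torus and U a smooth connected affine k-group scheme
of finite type with a composition series whose successive quotients are additive groups: closed
subgroup schemes U_0 → U_1 → … → U_n = U (homomorphisms which are closed immersions, U_i ↦ U_{i+1}),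
with U_0 the trivial group, U_n identified with U by an isomorphism of group schemes, and each U_i
the kernel of a flat surjective homomorphism from U_{i+1} onto the additive group. Then every
homomorphism from U to T is the trivial one. (The published statement is over an arbitrary field for
a torus and a smooth connected unipotent group, unipotent meaning that such a composition series
exists over an algebraic closure; this row states the case of an algebraically closed base field.
The companion assertion, that homomorphisms from T to U are trivial, is an existing statement about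
groups of multiplicative type.) -/
theorem result (k : Type u) [Field k] [IsAlgClosed k]
    (T U : Over (Spec (CommRingCat.of k))) [GrpObj T] [GrpObj U] (hT : Red.IsTorus T)
    [Smooth U.hom] [QuasiCompact U.hom] [ConnectedSpace ↥U.left] [IsAffine U.left]
    (n : ℕ) (Us : Fin (n + 1) → Over (Spec (CommRingCat.of k))) [∀ i, GrpObj (Us i)]
    (h0 : Red.IsTrivialGrp (Us 0))
    (e : Us (Fin.last n) ≅ U) [IsMonHom e.hom]
    (incl : ∀ i : Fin n, Us i.castSucc ⟶ Us i.succ) [∀ i, IsMonHom (incl i)]
    [∀ i, IsClosedImmersion (incl i).left]
    (quot : ∀ i : Fin n, Us i.succ ⟶ Red.Ga (Spec (CommRingCat.of k))) [∀ i, IsMonHom (quot i)]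
    [∀ i, Surjective (quot i).left] [∀ i, Flat (quot i).left]
    (hker : ∀ i : Fin n, AlgGrp.IsKernel (incl i) (quot i))
    (f : U ⟶ T) [IsMonHom f] :
    f = 1 := by
  have key : ∀ i : Fin (n + 1), ∀ (j : Us i ⟶ U), IsMonHom j → IsClosedImmersion j.left → j ≫ f = 1 := by
    intro i
    induction i using Fin.induction with
    | zero =>
      intro j _ _
      haveI : IsIso (Us 0).hom := h0
      have h1 : 𝟙 (Us 0) = 1 := Over.OverMorphism.ext ((cancel_mono (Us 0).hom).1 (by simp))
      rw [← Category.id_comp (j ≫ f), h1, MonObj.one_comp]
    | succ i ih =>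
      intro j hι hcl
      have hg0 : incl i ≫ j ≫ f = 1 := by
        rw [← Category.assoc]
        exact ih (incl i ≫ j) inferInstance
          (by rw [Over.comp_left]; exact inferInstance)
      let g : Us i.succ ⟶ T := j ≫ f
      haveI : QuasiCompact (quot i).left := by
        haveI : IsAffine (Us i.succ).left := isAffine_of_isAffineHom j.left
        have : QuasiCompact ((quot i).left ≫ (Red.Ga (Spec (CommRingCat.of k))).hom) := by
          rw [Over.w]; exact (quasiCompact_iff_compactSpace _).mpr inferInstance
        haveI : IsAffineHom Red.GaZ.{u}.hom :=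
          inferInstanceAs (IsAffineHom (Spec.map _))
        haveI : IsAffineHom (Red.Ga (Spec (CommRingCat.of k))).hom :=
          MorphismProperty.of_isPullback (IsPullback.of_hasPullback _ _) ‹IsAffineHom Red.GaZ.{u}.hom›
        exact QuasiCompact.of_comp (quot i).left (Red.Ga (Spec (CommRingCat.of k))).hom
      have hcompat : ∀ {Z : Scheme.{u}} (z₁ z₂ : Z ⟶ (Us i.succ).left),
          z₁ ≫ (quot i).left = z₂ ≫ (quot i).left → z₁ ≫ g.left = z₂ ≫ g.left := by
        intro Z z₁ z₂ hz
        let W : Over (Spec (CommRingCat.of k)) := Over.mk (z₁ ≫ (Us i.succ).hom)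
        let a : W ⟶ Us i.succ := Over.homMk z₁ rfl
        let b : W ⟶ Us i.succ := Over.homMk z₂ (by
          change z₂ ≫ _ = z₁ ≫ _
          rw [← Over.w (quot i), ← Category.assoc, ← hz, Category.assoc])
        have hab : a ≫ quot i = b ≫ quot i := Over.OverMorphism.ext hz
        have hd : (a * b⁻¹) ≫ quot i = toUnit W ≫ η[Red.Ga (Spec (CommRingCat.of k))] := by
          exact (MonObj.mul_comp a b⁻¹ (quot i)).trans (((congrArg (a ≫ quot i * ·) (GrpObj.inv_comp b (quot i))).trans
            (mul_inv_eq_one.2 hab)).trans Hom.one_def)
        have hy : (a * b⁻¹) ≫ g = 1 := by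
          rw [← (hker i).lift_fst (a * b⁻¹) (toUnit W) hd, Category.assoc, hg0, MonObj.comp_one]
        rw [MonObj.mul_comp, GrpObj.inv_comp, mul_inv_eq_one] at hy
        exact congr(($hy).left)
      let u : (Red.Ga (Spec (CommRingCat.of k))).left ⟶ T.left :=
        EffectiveEpi.desc (quot i).left g.left hcompat
      have hu : (quot i).left ≫ u = g.left := EffectiveEpi.fac _ _ _
      let g' : Red.Ga (Spec (CommRingCat.of k)) ⟶ T := Over.homMk u (by
        rw [← cancel_epi (quot i).left, ← Category.assoc, hu, Over.w, Over.w])
      have hfac : quot i ≫ g' = g := Over.OverMorphism.ext hu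
      have hg' : (1 : 𝟙_ _ ⟶ Red.Ga (Spec (CommRingCat.of k))) ≫ g' = 1 := by
        rw [← MonObj.one_comp (X := 𝟙_ _) (quot i), Category.assoc, hfac, MonObj.one_comp]
      change g = 1
      rw [← hfac, H2.TorusHom.ga_torus_eq_one T hT g' hg', MonObj.comp_one]
  haveI : IsIso e.hom.left := inferInstanceAs (IsIso ((Over.forget _).map e.hom))
  have h := key (Fin.last n) e.hom inferInstance inferInstance
  rw [← Category.id_comp f, ← e.inv_hom_id, Category.assoc, h, MonObj.comp_one]

end Groth.Agent.S17464
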