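import Groth.Statements.S17465
import Groth.Agent.Lib.IsogLaw.TorusIff
import Groth.Agent.Lib.GrpQ.Kernel

set_option autoImplicit false
universe u
open CategoryTheory MonoidalCategory CartesianMonoidalCategory MonObj GrpObj AlgebraicGeometry CategoryTheory.Limits
open AlgGrp

set_option backward.isDefEq.respectTransparency false
set_option linter.style.haveILetI false

namespace Groth.Agent.S17465

/-- Let k be a field and f : G' → G an isogeny, i.e. a surjective homomorphism with finite kernel,
between smooth connected commutative affine k-group schemes of finite type. Then G' is a torus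
exactly when G is one. (The published sentence draws this conclusion after treating surjective
homomorphisms and isogenies together; for a surjective homomorphism with positive-dimensional kernel
only the implication from G' to G survives — the projection of the product of the multiplicative and
the additive group onto the multiplicative group is surjective with a non-torus source — so the
equivalence is stated for isogenies, the case the dimension count in the printed proof covers. The
companion clause about unipotence is not stated.) -/
theorem result (k : Type u) [Field k]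
    (G' G : Over (Spec (CommRingCat.of k))) [GrpObj G'] [GrpObj G] [IsCommMonObj G'] [IsCommMonObj G]
    [Smooth G'.hom] [QuasiCompact G'.hom] [ConnectedSpace ↥G'.left] [IsAffine G'.left]
    [Smooth G.hom] [QuasiCompact G.hom] [ConnectedSpace ↥G.left] [IsAffine G.left]
    (f : G' ⟶ G) [IsMonHom f] (hf : SGA7.IsIsogenyOver f) :
    Red.IsTorus G' ↔ Red.IsTorus G := by
  haveI : IsSeparated G.hom := inferInstance
  haveI : Surjective f.left := hf.1
  haveI : Flat f.left := Groth.Agent.Lib.GrpQ.flat_of_surjective_of_smooth f
  haveI : QuasiCompact f.left := inferInstance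
  obtain ⟨N, _, i, _, _, hker, _⟩ := Groth.Agent.Lib.GrpQ.exists_kernel f
  haveI : IsFinite N.hom := hf.2 N i hker
  haveI : IsFinite f.left := Groth.Agent.Lib.IsogLaw.isFinite_of_kernel f hker
  let K := AlgebraicClosure k
  let b := Groth.Agent.Lib.GrpSch.extBase k K
  obtain ⟨g1, g2, g3⟩ := Groth.Agent.H1.Classical.FieldDescent.bc_props (K := K) G'
  obtain ⟨g4, g5, g6⟩ := Groth.Agent.H1.Classical.FieldDescent.bc_props (K := K) G
  haveI : Surjective ((Over.pullback b).map f).left :=
    Groth.Agent.Lib.GrpSch.bc_map_left_of (P := @Surjective) _ f ‹_›
  haveI : IsFinite ((Over.pullback b).map f).left :=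
    Groth.Agent.Lib.GrpSch.bc_map_left_of (P := @IsFinite) _ f ‹_›
  obtain ⟨h1, h2⟩ := Groth.Agent.Lib.IsogLaw.exists_mono_torus_iff ((Over.pullback b).map f)
  constructor
  · intro h
    obtain ⟨T, _, e, he, hT⟩ := h1 (Groth.Agent.Lib.Tori.Basic.isTorus_bc h b)
    haveI := he
    exact Groth.Agent.Lib.IsogLaw.isTorus_of_bc e e.inv hT
  · intro h
    obtain ⟨T, _, e, he, hT⟩ := h2 (Groth.Agent.Lib.Tori.Basic.isTorus_bc h b)
    haveI := he
    exact Groth.Agent.Lib.IsogLaw.isTorus_of_bc e e.inv hT

end Groth.Agent.S17465
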