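import Groth.Statements.S17466
import Mathlib
-- import your own Groth.Agent.* helpers here

set_option autoImplicit false
universe u v
open BigOperators
open NRGIT

namespace Groth.Agent.S17466


section
variable {R : Type u} {A : Type v} [CommRing R] [CommRing A] [Algebra R A] (𝒜 : ℕ → Submodule R A) [GradedAlgebra 𝒜]

theorem pow_one_le (s : ℕ) : 𝒜 1 ^ s ≤ 𝒜 s := by
  induction s with
  | zero => rw [pow_zero, Submodule.one_le]; exact SetLike.one_mem_graded 𝒜
  | succ s ih =>
    rw [pow_succ, Submodule.mul_le]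
    intro a ha b hb
    exact SetLike.mul_mem_graded (ih ha) hb

theorem monomial_mem {n : ℕ} (σ : Fin n → A) (hσ : ∀ i, σ i ∈ 𝒜 1) (s L : ℕ) (E : Fin n → ℕ) (hE : ∑ i, E i = s * L) :
    ∏ i, σ i ^ E i ∈ 𝒜 s ^ L := by
  have h1 : ∀ t : Finset (Fin n), ∏ i ∈ t, σ i ^ E i ∈ 𝒜 1 ^ (∑ i ∈ t, E i) := by
    intro t
    induction t using Finset.induction_on with
    | empty => rw [Finset.prod_empty, Finset.sum_empty, pow_zero, Submodule.one_eq_span]; exact Submodule.subset_span rfl
    | insert b t hb ih =>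
      rw [Finset.prod_insert hb, Finset.sum_insert hb, pow_add]
      exact Submodule.mul_mem_mul (Submodule.pow_mem_pow _ (hσ b) _) ih
  have h2 := h1 Finset.univ
  rw [hE, pow_mul] at h2
  exact pow_le_pow_left' (pow_one_le 𝒜 s) L h2

theorem pow_le_graded (s N : ℕ) : 𝒜 s ^ N ≤ 𝒜 (N * s) := by
  induction N with
  | zero => rw [pow_zero, Submodule.one_le, zero_mul]; exact SetLike.one_mem_graded 𝒜
  | succ N ih =>
    rw [pow_succ, Submodule.mul_le]
    intro a ha b hb
    rw [show (N + 1) * s = N * s + s by ring]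
    exact SetLike.mul_mem_graded (ih ha) hb

/-- Elements of `A₀ · A_s^N`. -/
def Q (s N : ℕ) : Submodule R A := 𝒜 0 * 𝒜 s ^ N

theorem Q_mul (s N M : ℕ) {a b : A} (ha : a ∈ Q 𝒜 s N) (hb : b ∈ 𝒜 s ^ M) : a * b ∈ Q 𝒜 s (N + M) := by
  rw [Q, pow_add, ← mul_assoc]
  exact Submodule.mul_mem_mul ha hb

theorem Q_mul_Q (s N M : ℕ) {a b : A} (ha : a ∈ Q 𝒜 s N) (hb : b ∈ Q 𝒜 s M) : a * b ∈ Q 𝒜 s (N + M) := by
  have h00 : 𝒜 0 * 𝒜 0 ≤ 𝒜 0 := Submodule.mul_le.mpr fun a ha b hb => by
    simpa using SetLike.mul_mem_graded ha hb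
  have : a * b ∈ (𝒜 0 * 𝒜 0) * (𝒜 s ^ (N + M)) := by
    rw [pow_add, mul_mul_mul_comm]
    exact Submodule.mul_mem_mul ha hb
  exact (Submodule.mul_le.mpr fun u hu v hv => Submodule.mul_mem_mul (h00 hu) hv) this

theorem exists_rep (s : ℕ) {x : A} (hxs : x ∈ 𝒜 1) (hgen : Algebra.adjoin (𝒜 0)
      {z : HomogeneousLocalization.Away 𝒜 x |
        ∃ f ∈ 𝒜 s, z.val = Localization.mk f ⟨x ^ s, Submonoid.pow_mem _ (Submonoid.mem_powers x) s⟩} = ⊤)
    (z : HomogeneousLocalization.Away 𝒜 x) :
    ∃ N : ℕ, ∃ b ∈ Q 𝒜 s N, z.val = Localization.mk b ⟨x ^ (s * N), pow_mem (Submonoid.mem_powers x) _⟩ := by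
  have hs' : ∀ N, x ^ (s * N) ∈ 𝒜 s ^ N := fun N => by
    rw [pow_mul]; exact Submodule.pow_mem_pow _ (pow_one_le 𝒜 s (Submodule.pow_mem_pow _ hxs s)) N
  have hz : z ∈ Algebra.adjoin (𝒜 0) _ := hgen ▸ Algebra.mem_top
  induction hz using Algebra.adjoin_induction with
  | mem z hz =>
    obtain ⟨f, hf, hzf⟩ := hz
    refine ⟨1, f, ?_, ?_⟩
    · rw [Q, pow_one, ← one_mul f]; exact Submodule.mul_mem_mul (SetLike.one_mem_graded 𝒜) hf
    · rw [hzf]; congr 1; exact Subtype.ext (by simp)
  | algebraMap r =>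
    refine ⟨0, r, ?_, ?_⟩
    · rw [Q, pow_zero, mul_one]; exact r.2
    · rw [HomogeneousLocalization.algebraMap_eq]
      show (HomogeneousLocalization.mk _).val = _
      rw [HomogeneousLocalization.val_mk]
      congr 1
      exact Subtype.ext (by simp)
  | add z w _ _ hz hw =>
    obtain ⟨N, b, hb, h1⟩ := hz
    obtain ⟨M, c, hc, h2⟩ := hw
    refine ⟨N + M, x ^ (s * N) * c + x ^ (s * M) * b, add_mem ?_ ?_, ?_⟩
    · rw [mul_comm, add_comm N M]; exact Q_mul 𝒜 s M N hc (hs' N)
    · rw [mul_comm]; exact Q_mul 𝒜 s N M hb (hs' M)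
    · rw [HomogeneousLocalization.val_add, h1, h2, Localization.add_mk]
      congr 1
      exact Subtype.ext (by simp [mul_add, pow_add])
  | mul z w _ _ hz hw =>
    obtain ⟨N, b, hb, h1⟩ := hz
    obtain ⟨M, c, hc, h2⟩ := hw
    refine ⟨N + M, b * c, Q_mul_Q 𝒜 s N M hb hc, ?_⟩
    rw [HomogeneousLocalization.val_mul, h1, h2, Localization.mk_mul]
    congr 1
    exact Subtype.ext (by simp [mul_add, pow_add])

theorem mk_mem_adjoin (s : ℕ) {y : A} (hy : y ∈ 𝒜 s) : ∀ N : ℕ, ∀ b ∈ Q 𝒜 s N,
    ∃ z ∈ Algebra.adjoin (𝒜 0) {z : HomogeneousLocalization.Away 𝒜 y | ∃ f ∈ 𝒜 s, z.val = Localization.mk f ⟨y, Submonoid.mem_powers _⟩},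
      z.val = Localization.mk b ⟨y ^ N, pow_mem (Submonoid.mem_powers y) _⟩ := by
  intro N
  induction N with
  | zero =>
    intro b hb
    rw [Q, pow_zero, mul_one] at hb
    refine ⟨algebraMap (𝒜 0) _ ⟨b, hb⟩, Subalgebra.algebraMap_mem _ _, ?_⟩
    rw [HomogeneousLocalization.algebraMap_eq]
    show (HomogeneousLocalization.mk _).val = _
    rw [HomogeneousLocalization.val_mk]
    congr 1
    exact Subtype.ext (by simp)
  | succ N ih =>
    intro b hb
    rw [Q, pow_succ, ← mul_assoc] at hb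
    induction hb using Submodule.mul_induction_on' with
    | mem_mul_mem c hc f hf =>
      obtain ⟨z, hz, hzv⟩ := ih c hc
      refine ⟨z * HomogeneousLocalization.Away.mk 𝒜 hy 1 f (by rwa [one_smul]),
        mul_mem hz (Algebra.subset_adjoin ⟨f, hf, ?_⟩), ?_⟩
      · rw [HomogeneousLocalization.Away.val_mk]; congr 1; exact Subtype.ext (by simp)
      · rw [HomogeneousLocalization.val_mul, hzv, HomogeneousLocalization.Away.val_mk, Localization.mk_mul]
        congr 1
        exact Subtype.ext (by simp [pow_succ])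
    | add c _ d _ h1 h2 =>
      obtain ⟨z, hz, hzv⟩ := h1
      obtain ⟨w, hw, hwv⟩ := h2
      refine ⟨z + w, add_mem hz hw, ?_⟩
      rw [HomogeneousLocalization.val_add, hzv, hwv, Localization.add_mk_self]

end


/-- Let A be a commutative algebra graded by the natural numbers, let σ_1, …, σ_n be homogeneous
elements of degree 1 and let s ≥ 1 be an integer such that, for every i, the degree-zero homogeneous
localisation of A away from σ_i is generated over A_0 by the fractions f / σ_i ^ s with f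
homogeneous of degree s. Then for every exponent vector K = (k_1, …, k_n) with k_1 + ⋯ + k_n = s,
the degree-zero homogeneous localisation of A away from the monomial σ^K = ∏ σ_i ^ (k_i) is
generated over A_0 by the fractions f / σ^K with f homogeneous of degree s. (Equivalently: the
natural map from the degree-zero localisation of the symmetric algebra on A_s, taken away from σ^K
viewed as an element of degree one, to the degree-zero localisation of A away from σ^K is
surjective. The published lemma concerns the algebra of invariant sections of the powers of a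
linearised line bundle on an irreducible projective scheme over a field, with the σ_i a basis of a
weight space of sections, and concludes a closed immersion of a quotient into an open piece of a
projective space; this row keeps only the graded-algebra step, for any commutative graded algebra,
with the base field replaced by A_0, which generates nothing new since a / 1 = a σ^s / σ^s for a of
degree zero.) -/
theorem result
    {R : Type u} {A : Type v} [CommRing R] [CommRing A] [Algebra R A]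
    (𝒜 : ℕ → Submodule R A) [GradedAlgebra 𝒜]
    {n : ℕ} (σ : Fin n → A) (hσ : ∀ i, σ i ∈ 𝒜 1) {s : ℕ} (hs : 0 < s)
    (hgen : ∀ i, Algebra.adjoin (𝒜 0)
      {z : HomogeneousLocalization.Away 𝒜 (σ i) |
        ∃ f ∈ 𝒜 s, z.val = Localization.mk f ⟨σ i ^ s, Submonoid.pow_mem _ (Submonoid.mem_powers (σ i)) s⟩} = ⊤)
    (K : Fin n → ℕ) (hK : ∑ i, K i = s) :
    Algebra.adjoin (𝒜 0)
      {z : HomogeneousLocalization.Away 𝒜 (∏ i, σ i ^ K i) |
        ∃ f ∈ 𝒜 s, z.val = Localization.mk f ⟨∏ i, σ i ^ K i, Submonoid.mem_powers _⟩} = ⊤ := by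
  classical
  obtain ⟨i, hi⟩ : ∃ i, 0 < K i := by
    by_contra h
    push_neg at h
    have : ∑ i, K i = 0 := Finset.sum_eq_zero fun i _ => Nat.le_zero.mp (h i)
    omega
  set y : A := ∏ j, σ j ^ K j with hy
  have hys : y ∈ 𝒜 s := by
    have := monomial_mem 𝒜 σ hσ s 1 K (by rw [hK, mul_one])
    rwa [pow_one] at this
  rw [eq_top_iff]
  intro z _
  obtain ⟨m, a, ha, rfl⟩ := HomogeneousLocalization.Away.mk_surjective 𝒜 hys z
  obtain ⟨N, b, hb, hzb⟩ := exists_rep 𝒜 s (hσ i) (hgen i)
    (HomogeneousLocalization.Away.mk 𝒜 (hσ i) (m * s) a (by simpa using ha))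
  rw [HomogeneousLocalization.Away.val_mk, Localization.mk_eq_mk_iff, Localization.r_iff_exists] at hzb
  obtain ⟨⟨_, t, rfl⟩, ht⟩ := hzb
  simp only at ht
  -- `σ i ^ (s * M) * a ∈ Q (m + M)`
  set M := t + N with hMdef
  have hkey : σ i ^ (s * M) * a ∈ Q 𝒜 s (m + M) := by
    obtain ⟨s', rfl⟩ : ∃ s', s = s' + 1 := ⟨s - 1, by omega⟩
    have e : σ i ^ ((s' + 1) * M) * a = b * σ i ^ ((s' + 1) * (m + t)) := by
      have := congrArg (σ i ^ (s' * t) * ·) ht
      calc σ i ^ ((s' + 1) * M) * a = σ i ^ (s' * t) * (σ i ^ t * (σ i ^ ((s' + 1) * N) * a)) := by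
              rw [hMdef]; ring
        _ = σ i ^ (s' * t) * (σ i ^ t * (σ i ^ (m * (s' + 1)) * b)) := this
        _ = _ := by ring
    rw [e, show m + M = N + (m + t) by omega]
    refine Q_mul 𝒜 _ N _ hb ?_
    rw [pow_mul]
    exact Submodule.pow_mem_pow _ (pow_one_le 𝒜 _ (Submodule.pow_mem_pow _ (hσ i) _)) _
  -- clear denominators on `y`
  have hle : s * M ≤ K i * (s * M) := Nat.le_mul_of_pos_left _ hi
  set E : Fin n → ℕ := fun j => if j = i then K i * (s * M) - s * M else K j * (s * M) with hE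
  have hEprod : y ^ (s * M) = σ i ^ (s * M) * ∏ j, σ j ^ E j := by
    rw [hy, ← Finset.prod_pow, ← Finset.mul_prod_erase _ _ (Finset.mem_univ i),
      ← Finset.mul_prod_erase _ (fun j => σ j ^ E j) (Finset.mem_univ i), ← mul_assoc]
    congr 1
    · simp only [hE, if_true, ← pow_mul, ← pow_add]
      congr 1; omega
    · refine Finset.prod_congr rfl fun j hj => ?_
      rw [← pow_mul, hE]
      simp [(Finset.mem_erase.mp hj).1]
  have hEsum : ∑ j, E j = s * (s * M - M) := by
    have h1 : ∑ j, K j * (s * M) = s * (s * M) := by rw [← Finset.sum_mul, hK]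
    rw [← Finset.add_sum_erase _ _ (Finset.mem_univ i)] at h1
    rw [← Finset.add_sum_erase _ E (Finset.mem_univ i),
      Finset.sum_congr rfl (g := fun j => K j * (s * M)) (fun j hj => by simp [hE, (Finset.mem_erase.mp hj).1])]
    simp only [hE, if_true]
    rw [Nat.mul_sub]
    omega
  have hmem : y ^ (s * M) * a ∈ Q 𝒜 s (m + s * M) := by
    have hMle : M ≤ s * M := Nat.le_mul_of_pos_left _ hs
    rw [hEprod, show m + s * M = (m + M) + (s * M - M) by omega, mul_right_comm]
    exact Q_mul 𝒜 s _ _ hkey (monomial_mem 𝒜 σ hσ s _ E hEsum)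
  obtain ⟨w, hw, hwv⟩ := mk_mem_adjoin 𝒜 s hys _ _ hmem
  convert hw using 1
  apply HomogeneousLocalization.val_injective
  rw [hwv, HomogeneousLocalization.Away.val_mk, Localization.mk_eq_mk_iff, Localization.r_iff_exists]
  refine ⟨1, ?_⟩
  simp only [OneMemClass.coe_one, one_mul]
  ring

end Groth.Agent.S17466
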