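import Groth.Statements.S17467
import Groth.Agent.H52.FBase.GeomRed
import Groth.Agent.Lib.RefHull.NormalAlg
import Groth.Agent.Lib.Flat55.RegularAlteration

set_option autoImplicit false
set_option linter.style.haveILetI false
universe u
open CategoryTheory AlgebraicGeometry
open Variety

namespace Groth.Agent.S17467

open scoped TensorProduct in
/-- Algebraic core: a function constant on rational fibres lies in the smaller field. -/
theorem mem_range_of_const (k A B F L : Type u) [Field k] [IsAlgClosed k] [CommRing A] [CommRing B]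
    [Algebra k A] [Algebra k B] [Algebra A B] [IsScalarTower k A B] [Algebra.FiniteType k B]
    [Field F] [CharZero F] [Field L] [Algebra A F] [Algebra B L] [Algebra F L] [Algebra A L]
    [IsScalarTower A B L] [IsScalarTower A F L] (s : B)
    (hs : ∀ x₁ x₂ : B →ₐ[k] k, (∀ a : A, x₁ (algebraMap A B a) = x₂ (algebraMap A B a)) → x₁ s = x₂ s) :
    algebraMap B L s ∈ (algebraMap F L).range := by
  classical
  haveI : Algebra.FiniteType k (B ⊗[A] B) := by
    haveI : Algebra.FiniteType A B := Algebra.FiniteType.of_restrictScalars_finiteType k A B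
    exact Algebra.FiniteType.trans (S := B) inferInstance inferInstance
  haveI : IsJacobsonRing (B ⊗[A] B) := isJacobsonRing_of_finiteType (A := k)
  have hδ : IsNilpotent (s ⊗ₜ[A] (1 : B) - (1 : B) ⊗ₜ[A] s) := by
    rw [← mem_nilradical, nilradical, Ideal.radical_eq_jacobson, Ideal.jacobson, Ideal.mem_sInf]
    rintro m ⟨-, hm⟩
    haveI : m.IsMaximal := hm
    haveI : Algebra.FiniteType k ((B ⊗[A] B) ⧸ m) :=
      .of_surjective (Ideal.Quotient.mkₐ k m) Ideal.Quotient.mk_surjective
    let _ := Ideal.Quotient.field m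
    haveI : Module.Finite k ((B ⊗[A] B) ⧸ m) := finite_of_finite_type_of_isJacobsonRing k _
    let π : (B ⊗[A] B) →ₐ[k] k :=
      (AlgEquiv.ofBijective (Algebra.ofId k ((B ⊗[A] B) ⧸ m))
        IsAlgClosed.algebraMap_bijective_of_isIntegral).symm.toAlgHom.comp (Ideal.Quotient.mkₐ k m)
    have h := hs (π.comp ((Algebra.TensorProduct.includeLeft : B →ₐ[A] B ⊗[A] B).restrictScalars k))
      (π.comp ((Algebra.TensorProduct.includeRight : B →ₐ[A] B ⊗[A] B).restrictScalars k))
      (fun a => congrArg π (Algebra.TensorProduct.tmul_one_eq_one_tmul a))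
    have h' : π (s ⊗ₜ[A] (1 : B) - (1 : B) ⊗ₜ[A] s) = 0 := by
      rw [map_sub]; exact sub_eq_zero.2 h
    exact Ideal.Quotient.eq_zero_iff_mem.1
      ((AlgEquiv.ofBijective (Algebra.ofId k ((B ⊗[A] B) ⧸ m))
        IsAlgClosed.algebraMap_bijective_of_isIntegral).symm.map_eq_zero_iff.1 h')
  let Φ : B ⊗[A] B →ₐ[A] L ⊗[F] L :=
    Algebra.TensorProduct.lift
      (((Algebra.TensorProduct.includeLeft : L →ₐ[F] L ⊗[F] L).restrictScalars A).comp (IsScalarTower.toAlgHom A B L))
      (((Algebra.TensorProduct.includeRight : L →ₐ[F] L ⊗[F] L).restrictScalars A).comp (IsScalarTower.toAlgHom A B L))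
      (fun _ _ => Commute.all _ _)
  haveI : Algebra.IsGeometricallyReduced F L :=
    Groth.Agent.H52.FBase.GeomRed.isGeometricallyReduced_of_perfectField
  haveI : _root_.IsReduced (L ⊗[F] L) := Groth.Agent.H52.FBase.GeomRed.isReduced_tensor
  have h0 : algebraMap B L s ⊗ₜ[F] (1 : L) = (1 : L) ⊗ₜ[F] algebraMap B L s := by
    have := (hδ.map Φ).eq_zero
    simpa [Φ, sub_eq_zero] using this
  by_contra hne
  obtain ⟨lam, hlam, hlam0⟩ := Submodule.exists_dual_map_eq_bot_of_notMem
    (p := (Submodule.span F {(1 : L)})) (x := algebraMap B L s) (fun h => by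
      obtain ⟨c, hc⟩ := Submodule.mem_span_singleton.1 h
      exact hne ⟨c, by rw [← hc, Algebra.smul_def, mul_one]⟩) inferInstance
  have h1 : lam (1 : L) = 0 := by
    have : lam 1 ∈ Submodule.map lam (Submodule.span F {(1 : L)}) :=
      ⟨1, Submodule.subset_span rfl, rfl⟩
    rwa [hlam0, Submodule.mem_bot] at this
  have := congrArg (TensorProduct.lift ((LinearMap.lsmul F L).comp lam)) h0
  simp only [TensorProduct.lift.tmul, LinearMap.comp_apply, LinearMap.lsmul_apply, h1, zero_smul] at this
  exact hlam ((smul_eq_zero.1 this).resolve_right one_ne_zero)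

/-- Functions constant on rational fibres are defined downstairs, generically. -/
theorem exists_rational (k : Type u) [Field k] [IsAlgClosed k] [CharZero k] {X Y : Scheme.{u}}
    [IsIntegral X] [IsIntegral Y] (gX : X ⟶ Spec (CommRingCat.of k)) (gY : Y ⟶ Spec (CommRingCat.of k))
    [LocallyOfFiniteType gX] (f : X ⟶ Y) (hf : f ≫ gY = gX)
    (hη : f (genericPoint X) = genericPoint Y) (s : Γ(X, ⊤))
    (hs : ∀ x₁ x₂ : Spec (CommRingCat.of k) ⟶ X, x₁ ≫ gX = 𝟙 _ → x₂ ≫ gX = 𝟙 _ →
      x₁ ≫ f = x₂ ≫ f → x₁.appTop.hom s = x₂.appTop.hom s) :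
    ∃ r : Y.functionField,
      (f.stalkMap (genericPoint X)).hom ((Y.presheaf.stalkSpecializes (specializes_of_eq hη)).hom r) =
        X.presheaf.germ ⊤ (genericPoint X) trivial s := by
  subst hf
  obtain ⟨_, ⟨V, hV, rfl⟩, hηV, -⟩ :=
    Y.isBasis_affineOpens.exists_subset_of_mem_open (Set.mem_univ (genericPoint Y)) isOpen_univ
  obtain ⟨_, ⟨U, hU, rfl⟩, hηU, hUV⟩ :=
    X.isBasis_affineOpens.exists_subset_of_mem_open
      (show genericPoint X ∈ (f ⁻¹ᵁ V : X.Opens) from show f _ ∈ V from hη ▸ hηV) (f ⁻¹ᵁ V).2
  haveI : Nonempty (U : Scheme.{u}) := ⟨⟨_, hηU⟩⟩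
  haveI : Nonempty (V : Scheme.{u}) := ⟨⟨_, hηV⟩⟩
  have hU : IsAffineOpen U := hU
  have hV : IsAffineOpen V := hV
  let gU := hU.fromSpec ≫ f ≫ gY
  haveI : IsOpenImmersion hU.fromSpec := hU.isOpenImmersion_fromSpec
  haveI : LocallyOfFiniteType gU := inferInstanceAs (LocallyOfFiniteType (hU.fromSpec ≫ f ≫ gY))
  let gV := hV.fromSpec ≫ gY
  let φA := Spec.preimage gV
  let φB := Spec.preimage gU
  let ψ := f.appLE V U hUV
  have hψ : Spec.map ψ ≫ hV.fromSpec = hU.fromSpec ≫ f :=
    IsAffineOpen.SpecMap_appLE_fromSpec f hV hU hUV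
  have hφ : φA ≫ ψ = φB := by
    apply Spec.map_injective
    rw [Spec.map_comp, Spec.map_preimage, Spec.map_preimage]
    exact (Category.assoc _ _ _).symm.trans (by rw [hψ, Category.assoc])
  letI : Algebra k Γ(Y, V) := φA.hom.toAlgebra
  letI : Algebra k Γ(X, U) := φB.hom.toAlgebra
  letI : Algebra Γ(Y, V) Γ(X, U) := ψ.hom.toAlgebra
  haveI : IsScalarTower k Γ(Y, V) Γ(X, U) := .of_algebraMap_eq fun c =>
    (ConcreteCategory.congr_hom hφ c).symm
  haveI : Algebra.FiniteType k Γ(X, U) := by
    have : LocallyOfFiniteType (Spec.map φB) := by rw [Spec.map_preimage]; infer_instance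
    exact (HasRingHomProperty.Spec_iff (P := @LocallyOfFiniteType)).1 this
  let φK : Y.functionField →+* X.functionField :=
    (f.stalkMap (genericPoint X)).hom.comp (Y.presheaf.stalkSpecializes (specializes_of_eq hη)).hom
  letI : Algebra Y.functionField X.functionField := φK.toAlgebra
  letI : Algebra Γ(Y, V) Y.functionField := (Y.germToFunctionField V).hom.toAlgebra
  letI : Algebra Γ(X, U) X.functionField := (X.germToFunctionField U).hom.toAlgebra
  letI : Algebra Γ(Y, V) X.functionField := ((X.germToFunctionField U).hom.comp ψ.hom).toAlgebra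
  haveI : IsScalarTower Γ(Y, V) Γ(X, U) X.functionField := .of_algebraMap_eq fun _ => rfl
  haveI : IsScalarTower Γ(Y, V) Y.functionField X.functionField := .of_algebraMap_eq fun a => by
    show X.presheaf.germ U (genericPoint X) hηU (ψ a) = (f.stalkMap (genericPoint X))
      ((Y.presheaf.stalkSpecializes (specializes_of_eq hη)) (Y.presheaf.germ V (genericPoint Y) hηV a))
    rw [← CategoryTheory.comp_apply (Y.presheaf.germ V (genericPoint Y) hηV),
      TopCat.Presheaf.germ_stalkSpecializes, Scheme.Hom.germ_stalkMap_apply]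
    exact X.presheaf.germ_res_apply (homOfLE hUV) (genericPoint X) hηU (f.app V a)
  haveI : CharZero Y.functionField :=
    charZero_of_injective_ringHom ((Y.germToFunctionField V).hom.comp φA.hom).injective
  let sU : Γ(X, U) := X.presheaf.map (homOfLE le_top).op s
  obtain ⟨r, hr⟩ := mem_range_of_const k Γ(Y, V) Γ(X, U) Y.functionField X.functionField sU (by
    intro x₁ x₂ hx
    have hpt : ∀ x : Γ(X, U) →ₐ[k] k,
        (Spec.map (CommRingCat.ofHom x.toRingHom) ≫ hU.fromSpec) ≫ f ≫ gY = 𝟙 _ := fun x => by
      rw [Category.assoc, show hU.fromSpec ≫ f ≫ gY = Spec.map φB from (Spec.map_preimage _).symm,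
        ← Spec.map_comp, ← Spec.map_id]
      exact congrArg Spec.map (CommRingCat.hom_ext (RingHom.ext fun c => x.commutes c))
    have hev : ∀ x : Γ(X, U) →ₐ[k] k,
        (Spec.map (CommRingCat.ofHom x.toRingHom) ≫ hU.fromSpec).appTop.hom s =
          (Scheme.ΓSpecIso (CommRingCat.of k)).inv (x sU) := fun x => by
      show (Spec.map (CommRingCat.ofHom x.toRingHom)).appTop.hom (hU.fromSpec.appTop.hom s) = _
      have h1 : hU.fromSpec.appTop.hom s = (Scheme.ΓSpecIso Γ(X, U)).inv sU := by
        show hU.fromSpec.app ⊤ s = _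
        rw [IsAffineOpen.fromSpec_app_of_le hU ⊤ le_top]
        show ((Spec Γ(X, U)).presheaf.map (𝟙 _)).hom _ = _
        rw [CategoryTheory.Functor.map_id]
        rfl
      rw [h1]
      exact (ConcreteCategory.congr_hom
        (Scheme.ΓSpecIso_inv_naturality (CommRingCat.ofHom x.toRingHom)) sU).symm
    have := hs _ _ (hpt x₁) (hpt x₂) (by
      rw [Category.assoc, Category.assoc, ← hψ, ← Spec.map_comp_assoc, ← Spec.map_comp_assoc]
      congr 2
      exact CommRingCat.hom_ext (RingHom.ext hx))
    rw [hev, hev] at this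
    exact (ConcreteCategory.bijective_of_isIso (Scheme.ΓSpecIso (CommRingCat.of k)).inv).1 this)
  exact ⟨r, hr.trans (X.presheaf.germ_res_apply _ _ hηU s)⟩

/-- A rational function with regular surjective pullback on a normal scheme is regular. -/
theorem regular_of_pullback {X Y : Scheme.{u}} [IsIntegral X] [IsIntegral Y] [IsLocallyNoetherian Y]
    (hY : ∀ y : Y, IsIntegrallyClosed (Y.presheaf.stalk y)) (f : X ⟶ Y)
    (hsurj : Function.Surjective f) (hη : f (genericPoint X) = genericPoint Y) (s : Γ(X, ⊤))
    (r : Y.functionField)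
    (hr : (f.stalkMap (genericPoint X)).hom
        ((Y.presheaf.stalkSpecializes (specializes_of_eq hη)).hom r) =
          X.presheaf.germ ⊤ (genericPoint X) trivial s) (y : Y) :
    r ∈ (algebraMap (Y.presheaf.stalk y) Y.functionField).range := by
  obtain ⟨_, ⟨V, hV, rfl⟩, hyV, -⟩ :=
    Y.isBasis_affineOpens.exists_subset_of_mem_open (Set.mem_univ y) isOpen_univ
  have hV : IsAffineOpen V := hV
  haveI : IsOpenImmersion hV.fromSpec := hV.isOpenImmersion_fromSpec
  haveI : Nonempty (V : Scheme.{u}) := ⟨⟨y, hyV⟩⟩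
  haveI := IsLocallyNoetherian.component_noetherian (X := Y) ⟨V, hV⟩
  haveI : IsFractionRing Γ(Y, V) Y.functionField := functionField_isFractionRing_of_isAffineOpen Y V hV
  haveI : IsIntegrallyClosed Γ(Y, V) := by
    refine IsIntegrallyClosed.of_localization_maximal fun p _ _ => ?_
    have hp : hV.primeIdealOf ⟨hV.fromSpec ⟨p, inferInstance⟩, by
        rw [← SetLike.mem_coe, ← hV.range_fromSpec]; exact ⟨_, rfl⟩⟩ = ⟨p, inferInstance⟩ :=
      hV.fromSpec.isEmbedding.injective (hV.fromSpec_primeIdealOf _)
    let v : V := ⟨hV.fromSpec ⟨p, inferInstance⟩, by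
        rw [← SetLike.mem_coe, ← hV.range_fromSpec]; exact ⟨_, rfl⟩⟩
    letI := Y.presheaf.algebra_section_stalk v
    haveI := hV.isLocalization_stalk v
    haveI := hY v.1
    have e := IsLocalization.algEquiv (hV.primeIdealOf v).asIdeal.primeCompl
      (Localization.AtPrime (hV.primeIdealOf v).asIdeal) (Y.presheaf.stalk v.1)
    have h1 : IsIntegrallyClosed (Localization.AtPrime (hV.primeIdealOf v).asIdeal) :=
      IsIntegrallyClosed.of_equiv e.symm.toRingEquiv
    have h2 : ∀ (q : Ideal Γ(Y, V)) [q.IsPrime], q = p →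
        IsIntegrallyClosed (Localization.AtPrime q) → IsIntegrallyClosed (Localization.AtPrime p) := by
      rintro q _ rfl h; exact h
    exact h2 _ (congrArg PrimeSpectrum.asIdeal hp) h1
  obtain ⟨a, rfl⟩ := Groth.Agent.Lib.RefHull.NormalAlg.mem_range_of_forall_height_one
    (R := Γ(Y, V)) r (fun p hp hp1 => by
      haveI := hp
      let v : V := ⟨hV.fromSpec ⟨p, inferInstance⟩, by
          rw [← SetLike.mem_coe, ← hV.range_fromSpec]; exact ⟨_, rfl⟩⟩
      have hvp : hV.primeIdealOf v = ⟨p, inferInstance⟩ :=
        hV.fromSpec.isEmbedding.injective (hV.fromSpec_primeIdealOf v)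
      letI := Y.presheaf.algebra_section_stalk v
      haveI := hV.isLocalization_stalk v
      haveI := hY v.1
      have hdim : ringKrullDim (Y.presheaf.stalk v.1) = 1 := by
        rw [IsLocalization.AtPrime.ringKrullDim_eq_height (hV.primeIdealOf v).asIdeal, hvp, hp1]
        rfl
      haveI : Ring.KrullDimLE 1 (Y.presheaf.stalk v.1) := Ring.krullDimLE_iff.2 hdim.le
      haveI : IsDiscreteValuationRing (Y.presheaf.stalk v.1) := by
        refine ((IsDiscreteValuationRing.TFAE (Y.presheaf.stalk v.1) ?_).out 0 3).2 ?_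
        · intro hF
          rw [ringKrullDim_eq_zero_of_isField hF] at hdim
          exact zero_ne_one hdim
        · refine ⟨hY v.1, IsLocalRing.maximalIdeal _, ⟨?_, inferInstance⟩, fun q hq => ?_⟩
          · intro hb
            have hF := (IsLocalRing.isField_iff_maximalIdeal_eq).2 hb
            rw [ringKrullDim_eq_zero_of_isField hF] at hdim
            exact zero_ne_one hdim
          · exact IsLocalRing.eq_maximalIdeal ((Ring.krullDimLE_one_iff_of_noZeroDivisors.1
              inferInstance) q hq.1 hq.2)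
      obtain ⟨t, ht⟩ : r ∈ (algebraMap (Y.presheaf.stalk v.1) Y.functionField).range := by
        rcases ValuationRing.isInteger_or_isInteger (Y.presheaf.stalk v.1) r with ⟨t, ht⟩ | ⟨t, ht⟩
        · exact ⟨t, ht⟩
        by_cases hu : IsUnit t
        · obtain ⟨t, rfl⟩ := hu
          exact ⟨(t⁻¹ : _ˣ), by rw [map_units_inv, ht, inv_inv]⟩
        by_cases hr0 : r = 0
        · exact ⟨0, by rw [hr0, map_zero]⟩
        exfalso
        obtain ⟨x, hx⟩ := hsurj v.1
        have hsp := genericPoint_specializes x
        let t' : Y.presheaf.stalk (f x) := (Y.presheaf.stalkSpecializes (specializes_of_eq hx)).hom t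
        have ht'u : ¬ IsUnit t' := fun h => hu (by
          have := h.map (Y.presheaf.stalkSpecializes (specializes_of_eq hx.symm)).hom
          rwa [show (Y.presheaf.stalkSpecializes (specializes_of_eq hx.symm)).hom t' = t from by
            rw [← CategoryTheory.comp_apply, TopCat.Presheaf.stalkSpecializes_comp,
              TopCat.Presheaf.stalkSpecializes_refl]; rfl] at this)
        have key : algebraMap (X.presheaf.stalk x) X.functionField ((f.stalkMap x).hom t') =
            (f.stalkMap (genericPoint X)).hom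
              ((Y.presheaf.stalkSpecializes (specializes_of_eq hη)).hom r⁻¹) := by
          rw [← ht]
          show (X.presheaf.stalkSpecializes hsp).hom ((f.stalkMap x).hom t') = _
          refine (ConcreteCategory.congr_hom (f.stalkSpecializes_stalkMap (genericPoint X) x hsp) t').symm.trans ?_
          refine congrArg (f.stalkMap (genericPoint X)).hom ?_
          show (Y.presheaf.stalkSpecializes _ ≫ Y.presheaf.stalkSpecializes _).hom t =
            (Y.presheaf.stalkSpecializes _ ≫ Y.presheaf.stalkSpecializes _).hom t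
          rw [TopCat.Presheaf.stalkSpecializes_comp, TopCat.Presheaf.stalkSpecializes_comp]
        have h1 : IsUnit ((f.stalkMap x).hom t') := by
          refine IsUnit.of_mul_eq_one (X.presheaf.germ ⊤ x trivial s)
            (IsFractionRing.injective (X.presheaf.stalk x) X.functionField ?_)
          rw [map_mul, key, map_one,
            show algebraMap (X.presheaf.stalk x) X.functionField (X.presheaf.germ ⊤ x trivial s) =
              X.presheaf.germ ⊤ (genericPoint X) trivial s from
              ConcreteCategory.congr_hom (X.presheaf.germ_stalkSpecializes (U := (⊤ : X.Opens)) trivial hsp) s,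
            ← hr, ← map_mul, ← map_mul, inv_mul_cancel₀ hr0, map_one, map_one]
        exact ht'u (IsUnit.of_map (f.stalkMap x).hom _ h1)
      obtain ⟨⟨a, b⟩, hab⟩ := IsLocalization.surj (hV.primeIdealOf v).asIdeal.primeCompl t
      have hvp' : (hV.primeIdealOf v).asIdeal = p := congrArg PrimeSpectrum.asIdeal hvp
      refine ⟨a, b.1, fun hb => b.2 ((SetLike.ext_iff.1 hvp' b.1).2 hb), ?_⟩
      have hgerm : ∀ c : Γ(Y, V), algebraMap (Y.presheaf.stalk v.1) Y.functionField
          (algebraMap Γ(Y, V) (Y.presheaf.stalk v.1) c) = algebraMap Γ(Y, V) Y.functionField c := fun c =>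
        ConcreteCategory.congr_hom (Y.presheaf.germ_stalkSpecializes v.2 (genericPoint_specializes v.1)) c
      rw [← ht, ← hgerm, ← hgerm, ← hab, map_mul, mul_comm])
  exact ⟨Y.presheaf.germ V y hyV a,
    ConcreteCategory.congr_hom (Y.presheaf.germ_stalkSpecializes hyV (genericPoint_specializes y)) a⟩

/-- Let k be an algebraically closed field of characteristic zero, X and Y integral separated schemes of
finite type over k with Y normal, and f : X → Y a k-morphism surjective on points. A global function
s on X which takes equal values at any two k-rational points of X having the same image under f is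
the pull-back of a global function on Y. (The published statement is phrased for set-theoretic
sections of a vector bundle on Y whose pull-back along f is a regular section; that form reduces to
the present one locally on Y, and the present one is the case of the trivial line bundle.) -/
theorem result
    (k : Type u) [Field k] [IsAlgClosed k] [CharZero k]
    (X Y : Over (Spec (CommRingCat.of k)))
    [AlgebraicGeometry.IsIntegral X.left] [AlgebraicGeometry.IsIntegral Y.left]
    [LocallyOfFiniteType X.hom] [QuasiCompact X.hom] [IsSeparated X.hom]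
    [LocallyOfFiniteType Y.hom] [QuasiCompact Y.hom] [IsSeparated Y.hom]
    (hY : Pi1.IsNormalScheme Y.left)
    (f : X ⟶ Y) (hf : Function.Surjective f.left.base)
    (s : Γ(X.left, ⊤))
    (hs : ∀ x₁ x₂ : Spec (CommRingCat.of k) ⟶ X.left,
      x₁ ≫ X.hom = 𝟙 _ → x₂ ≫ X.hom = 𝟙 _ → x₁ ≫ f.left = x₂ ≫ f.left →
        x₁.appTop.hom s = x₂.appTop.hom s) :
    ∃ r : Γ(Y.left, ⊤), f.left.appTop.hom r = s := by
  haveI : IsLocallyNoetherian Y.left := LocallyOfFiniteType.isLocallyNoetherian Y.hom
  have hη : f.left (genericPoint X.left) = genericPoint Y.left := by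
    obtain ⟨x, hx⟩ := hf (genericPoint Y.left)
    refine (Specializes.antisymm (genericPoint_specializes _) ?_).eq.symm
    rw [← hx]
    exact (genericPoint_specializes x).map f.left.continuous
  obtain ⟨r, hr⟩ := exists_rational k X.hom Y.hom f.left (Over.w f) hη s hs
  obtain ⟨t, ht⟩ := Groth.Agent.Lib.Flat55.RegularAlteration.exists_global r
    (regular_of_pullback (fun y => (hY y).2) f.left hf hη s r hr)
  refine ⟨t, germ_injective_of_isIntegral X.left (U := ⊤) (genericPoint X.left) trivial ?_⟩
  refine Eq.trans ?_ hr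
  rw [← ht]
  refine (f.left.germ_stalkMap_apply ⊤ (genericPoint X.left) trivial t).symm.trans ?_
  refine congrArg (f.left.stalkMap (genericPoint X.left)).hom ?_
  exact (ConcreteCategory.congr_hom (Y.left.presheaf.germ_stalkSpecializes (U := ⊤) trivial (specializes_of_eq hη)) t).symm

end Groth.Agent.S17467
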