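import Groth.Statements.S17468
import Mathlib.Algebra.Lie.Sl2
import Mathlib.Algebra.Lie.Weights.Basic
import Mathlib.LinearAlgebra.Trace
import Mathlib.Algebra.DirectSum.LinearMap
import Mathlib.Data.Nat.Choose.Cast
-- import your own Groth.Agent.* helpers here

set_option autoImplicit false
universe u v w
open LieRep

namespace Groth.Agent.S17468

theorem sum_sq {k : Type u} [Field k] [CharZero k] (a : k) (d : ℕ) :
    3 * ∑ i ∈ Finset.range d, (a - 2 * (i : k)) ^ 2 =
      3 * d * a ^ 2 - 6 * a * (d * (d - 1)) + 2 * (d * (d - 1) * (2 * d - 1)) := by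
  induction d with
  | zero => simp
  | succ d ih => rw [Finset.sum_range_succ, mul_add, ih]; push_cast; ring

theorem choose_three {k : Type u} [Field k] [CharZero k] (d : ℕ) :
    6 * (((d + 1).choose 3 : ℕ) : k) = (d + 1) * d * (d - 1) := by
  induction d with
  | zero => simp [Nat.choose_eq_zero_of_lt]
  | succ d ih =>
    rw [show d + 1 + 1 = (d + 1) + 1 from rfl, Nat.choose_succ_succ, Nat.cast_add, mul_add, ih,
      Nat.cast_choose_two]
    push_cast
    ring

theorem trace_irreducible {k : Type u} [Field k] [IsAlgClosed k] [CharZero k]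
    {L : Type v} [LieRing L] [LieAlgebra k L] {h e f : L} (t : IsSl2Triple h e f)
    (hspan : t.toLieSubalgebra k = ⊤) (M : Type w) [AddCommGroup M] [Module k M] [LieRingModule L M]
    [LieModule k L M] [FiniteDimensional k M] [LieModule.IsIrreducible k L M] :
    LinearMap.trace k M ((LieModule.toEnd k L M h) ^ 2) =
      2 * (((Module.finrank k M + 1).choose 3 : ℕ) : k) := by
  haveI : Nontrivial M := (LieSubmodule.nontrivial_iff k L M).1 inferInstance
  obtain ⟨μ, m, -, P⟩ := IsSl2Triple.exists_hasPrimitiveVectorWith (R := k) (M := M) t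
  obtain ⟨n, hn⟩ := P.exists_nat
  set v : Fin (n + 1) → M := fun i => (LieModule.toEnd k L M f ^ (i : ℕ)) m with hv
  have hev : ∀ i : Fin (n + 1), (LieModule.toEnd k L M h).HasEigenvector (μ - 2 * (i : ℕ)) (v i) := fun i =>
    ⟨Module.End.mem_eigenspace_iff.2 (P.lie_h_pow_toEnd_f i),
      P.pow_toEnd_f_ne_zero_of_eq_nat hn (Nat.lt_succ_iff.1 i.2)⟩
  have hli : LinearIndependent k v := Module.End.eigenvectors_linearIndependent' _ _
    (fun i j hij => Fin.ext (by simpa using hij)) v hev
  have hmem : ∀ i : ℕ, (LieModule.toEnd k L M f ^ i) m ∈ Submodule.span k (Set.range v) := by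
    intro i
    by_cases hi : i < n + 1
    · exact Submodule.subset_span ⟨⟨i, hi⟩, rfl⟩
    · obtain ⟨j, rfl⟩ : ∃ j, i = j + (n + 1) := ⟨i - (n + 1), by omega⟩
      rw [pow_add, Module.End.mul_apply, P.pow_toEnd_f_eq_zero_of_eq_nat hn, map_zero]
      exact zero_mem _
  have hinv : ∀ x : L, ∀ w ∈ Submodule.span k (Set.range v), ⁅x, w⁆ ∈ Submodule.span k (Set.range v) := by
    intro x
    have hx : x ∈ t.toLieSubalgebra k := by rw [hspan]; trivial
    obtain ⟨c₁, c₂, c₃, rfl⟩ := IsSl2Triple.mem_toLieSubalgebra_iff.1 hx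
    intro w hw
    induction hw using Submodule.span_induction with
    | zero => rw [lie_zero]; exact zero_mem _
    | add a b _ _ ha hb => rw [lie_add]; exact add_mem ha hb
    | smul c a _ ha => rw [lie_smul]; exact Submodule.smul_mem _ c ha
    | mem a ha =>
      obtain ⟨i, rfl⟩ := ha
      simp only [hv, add_lie, smul_lie, t.lie_e_f]
      refine add_mem (add_mem (Submodule.smul_mem _ _ ?_) (Submodule.smul_mem _ _ ?_))
        (Submodule.smul_mem _ _ ?_)
      · obtain ⟨_ | j, hj⟩ := i
        · simp [P.lie_e]
        · rw [P.lie_e_pow_succ_toEnd_f]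
          exact Submodule.smul_mem _ _ (hmem j)
      · rw [P.lie_f_pow_toEnd_f]
        exact hmem _
      · rw [P.lie_h_pow_toEnd_f]
        exact Submodule.smul_mem _ _ (hmem _)
  let N : LieSubmodule k L M := { Submodule.span k (Set.range v) with lie_mem := fun {x w} hw => hinv x w hw }
  have hN : N = ⊤ := (eq_bot_or_eq_top N).resolve_left fun hb => by
    have h0 : v 0 ∈ N := Submodule.subset_span ⟨0, rfl⟩
    rw [hb, LieSubmodule.mem_bot] at h0
    exact (hev 0).2 h0
  have hsp : ⊤ ≤ Submodule.span k (Set.range v) := fun w _ => (hN ▸ LieSubmodule.mem_top w : w ∈ N)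
  let b := Module.Basis.mk hli hsp
  have hfin : Module.finrank k M = n + 1 := by
    rw [Module.finrank_eq_card_basis b, Fintype.card_fin]
  have hdiag : ∀ i, b.repr (((LieModule.toEnd k L M h) ^ 2) (b i)) i = (μ - 2 * (i : ℕ)) ^ 2 := fun i => by
    rw [Module.Basis.mk_apply, (hev i).pow_apply 2, map_smul, ← Module.Basis.mk_apply hli hsp i,
      Finsupp.smul_apply, Module.Basis.repr_self, Finsupp.single_eq_same, smul_eq_mul, mul_one]
  rw [LinearMap.trace_eq_matrix_trace k b, Matrix.trace, hfin]
  simp only [Matrix.diag_apply, LinearMap.toMatrix_apply, hdiag]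
  rw [Fin.sum_univ_eq_sum_range (fun i : ℕ => (μ - 2 * (i : k)) ^ 2)]
  refine mul_left_cancel₀ (show (3 : k) ≠ 0 by norm_num) ?_
  have h3 := choose_three (k := k) (n + 1)
  rw [sum_sq, hn]
  push_cast at h3 ⊢
  linear_combination -h3

/-- Let k be an algebraically closed field of characteristic zero, L a Lie algebra over k spanned by an
sl_2-triple (h, e, f), and V a finite-dimensional L-module written as an internal direct sum of
finitely many irreducible Lie submodules V_i. Then the trace on V of the square of the action of h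
is 2 Σ_i C(dim V_i + 1, 3). (The published statement concerns a finite-dimensional representation V
of a simple Lie algebra restricted to the copy of sl_2 attached to the highest root θ, with h the
coroot θ^∨; there Σ_i C(dim V_i + 1, 3) is the index of V, and the trace is the sum over the weights
λ of V, with multiplicity, of ⟨λ, θ^∨⟩².) -/
theorem result
    (k : Type u) [Field k] [IsAlgClosed k] [CharZero k]
    (L : Type v) [LieRing L] [LieAlgebra k L]
    (h e f : L) (t : IsSl2Triple h e f) (hspan : t.toLieSubalgebra k = ⊤)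
    (V : Type w) [AddCommGroup V] [Module k V] [LieRingModule L V] [LieModule k L V]
    [FiniteDimensional k V]
    (ι : Type) [Fintype ι] [DecidableEq ι] (W : ι → LieSubmodule k L V)
    (hW : DirectSum.IsInternal fun i => (W i).toSubmodule)
    (hirr : ∀ i, LieModule.IsIrreducible k L (W i)) :
    LinearMap.trace k V ((LieModule.toEnd k L V h) ^ 2) =
      2 * ∑ i, (((Module.finrank k (W i) + 1).choose 3 : ℕ) : k) := by
  rw [LinearMap.trace_eq_sum_trace_restrict hW (f := (LieModule.toEnd k L V h) ^ 2) fun i x hx => ?_]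
  · rw [Finset.mul_sum]
    refine Finset.sum_congr rfl fun i _ => ?_
    haveI := hirr i
    refine Eq.trans ?_ (trace_irreducible t hspan (W i))
    congr 1
  · simp only [pow_two, Module.End.mul_apply, LieModule.toEnd_apply_apply]
    exact (W i).lie_mem ((W i).lie_mem hx)

end Groth.Agent.S17468
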