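import Groth.Statements.S17469
-- import your own Groth.Agent.* helpers here

set_option autoImplicit false
universe u
open CategoryTheory AlgebraicGeometry
open Variety

namespace Groth.Agent.S17469

/-- Let X be a locally Noetherian integral scheme all of whose local rings are integrally closed domains
and U an open subset of X. A section of O_X over U that is integral over the ring of global sections
of X, the latter acting through restriction, is itself the restriction of a global section. (The
published lemma is stated for an irreducible normal variety and for the graded ring of sections over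
U of all non-negative powers of a line bundle, integral over the corresponding ring of sections over
X; for the trivial line bundle its homogeneous components are the present statement, which is made
here for any locally Noetherian normal integral scheme.) -/
theorem result
    (X : Scheme.{u}) [AlgebraicGeometry.IsIntegral X] [IsLocallyNoetherian X]
    (hX : Pi1.IsNormalScheme X) (U : X.Opens) (b : Γ(X, U))
    (hb : (X.presheaf.map (homOfLE le_top : U ⟶ ⊤).op).hom.IsIntegralElem b) :
    b ∈ Set.range (X.presheaf.map (homOfLE le_top : U ⟶ ⊤).op).hom := by
  classical
  let res : Γ(X, ⊤) →+* Γ(X, U) := (X.presheaf.map (homOfLE le_top : U ⟶ ⊤).op).hom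
  by_cases hU : (U : Set X).Nonempty
  · obtain ⟨u, hu⟩ := hU
    have hη : genericPoint X ∈ U := (genericPoint_specializes u).mem_open U.isOpen hu
    let b' : X.functionField := X.presheaf.germ U (genericPoint X) hη b
    -- `b'` lies in every local ring
    have key : ∀ x : X, ∃ (W : X.Opens) (_ : x ∈ W) (t : Γ(X, W)), ∀ hW : genericPoint X ∈ W,
        X.presheaf.germ W (genericPoint X) hW t = b' := by
      intro x
      have hint : IsIntegral (X.presheaf.stalk x) b' := by
        obtain ⟨p, hp, hpb⟩ := hb
        refine ⟨p.map (X.presheaf.germ ⊤ x trivial).hom, hp.map _, ?_⟩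
        rw [Polynomial.eval₂_map]
        have e : (algebraMap (X.presheaf.stalk x) X.functionField).comp
            (X.presheaf.germ ⊤ x trivial).hom =
            (X.presheaf.germ U (genericPoint X) hη).hom.comp res := by
          ext a
          show X.presheaf.stalkSpecializes (genericPoint_specializes x)
            (X.presheaf.germ ⊤ x trivial a) = _
          erw [TopCat.Presheaf.germ_stalkSpecializes_apply]
          exact (TopCat.Presheaf.germ_res_apply X.presheaf _ _ _ _).symm
        rw [e, ← Polynomial.hom_eval₂]
        exact (congrArg _ hpb).trans (map_zero _)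
      haveI := (hX x).1
      haveI := (hX x).2
      obtain ⟨y, hy⟩ := IsIntegrallyClosed.algebraMap_eq_of_integral
        (K := X.functionField) hint
      obtain ⟨W, hxW, t, ht⟩ := X.presheaf.germ_exist y
      refine ⟨W, hxW, t, fun hW => ?_⟩
      rw [← hy, ← ht]
      show _ = X.presheaf.stalkSpecializes (genericPoint_specializes x) (X.presheaf.germ W x hxW t)
      erw [TopCat.Presheaf.germ_stalkSpecializes_apply]
    choose W hxW t ht using key
    have inj : ∀ (V : X.Opens) (a c : Γ(X, V)), (∀ hV : genericPoint X ∈ V,
        X.presheaf.germ V (genericPoint X) hV a = X.presheaf.germ V (genericPoint X) hV c) → a = c := by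
      intro V a c h
      by_cases hV : (V : Set X).Nonempty
      · obtain ⟨v, hv⟩ := hV
        have hηV : genericPoint X ∈ V := (genericPoint_specializes v).mem_open V.isOpen hv
        haveI : Nonempty V := ⟨⟨v, hv⟩⟩
        exact germ_injective_of_isIntegral X (genericPoint X) hηV (h hηV)
      · have : V = ⊥ := TopologicalSpace.Opens.ext (by
          rw [Set.not_nonempty_iff_eq_empty] at hV; simp [hV])
        subst this
        exact Subsingleton.elim _ _
    obtain ⟨s, hs, -⟩ := X.sheaf.existsUnique_gluing' W ⊤ (fun i => homOfLE le_top)
      (fun x _ => TopologicalSpace.Opens.mem_iSup.2 ⟨x, hxW x⟩) t (fun i j => inj _ _ _ fun hV => by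
        erw [TopCat.Presheaf.germ_res_apply, TopCat.Presheaf.germ_res_apply]
        rw [ht i hV.1, ht j hV.2])
    refine ⟨s, inj U _ _ fun hV => ?_⟩
    have hηW : genericPoint X ∈ W u := (genericPoint_specializes u).mem_open (W u).isOpen (hxW u)
    have h2 : X.presheaf.germ (W u) (genericPoint X) hηW
        (X.presheaf.map (homOfLE (le_top : W u ≤ ⊤)).op s) = b' := by
      rw [show X.presheaf.map (homOfLE (le_top : W u ≤ ⊤)).op s = t u from hs u]
      exact ht u hηW
    erw [TopCat.Presheaf.germ_res_apply] at h2 ⊢
    exact h2
  · have : U = ⊥ := TopologicalSpace.Opens.ext (by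
      rw [Set.not_nonempty_iff_eq_empty] at hU; simp [hU])
    subst this
    exact ⟨0, Subsingleton.elim _ _⟩


end Groth.Agent.S17469
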