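import Groth.Statements.S17471
import Groth.Agent.Lib.RootDatum.Basic
import Groth.Agent.H84.BaseBridge
import Mathlib.LinearAlgebra.RootSystem.Base

set_option autoImplicit false
universe u v w x
open RootCh

namespace Groth.Agent.S17471

open Groth.Agent.Lib.RootDatum Groth.Agent.Lib.RootDatum.Basic in
lemma main {ι R M N : Type*} [Field R] [LinearOrder R] [IsStrictOrderedRing R]
    [AddCommGroup M] [Module R M] [AddCommGroup N] [Module R N] [Fintype ι]
    (P : RootPairing ι R M N) [P.IsCrystallographic] [P.IsReduced]
    (b : P.Base) (θ : ι) (hθ : b.IsPos θ)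
    (hmax : ∀ i : ι, b.IsPos i → P.root θ + P.root i ∉ Set.range P.root) :
    ∑ i ∈ Finset.univ.filter (fun i => 0 < b.height i), P.pairing i θ ^ 2 =
      2 + ∑ i ∈ Finset.univ.filter (fun i => 0 < b.height i), P.pairing i θ := by
  classical
  have key : ∀ i, b.IsPos i → i ≠ θ → pz P i θ = 0 ∨ pz P i θ = 1 := by
    intro i hi hne
    have h0 : 0 ≤ pz P i θ := by
      by_contra hlt
      rw [not_le] at hlt
      have hne' : P.root i ≠ -P.root θ := fun e => by
        have e1 : i = negIdx P θ := P.root.injective (by rw [root_negIdx, e])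
        rw [e1] at hi
        exact (RootPairing.Base.IsPos.neg_iff_not b θ).mp hi hθ
      obtain ⟨l, hl⟩ := add_mem P hlt hne'
      exact hmax i hi ⟨l, by rw [hl, add_comm]⟩
    have h1 : pz P i θ ≤ 1 := by
      by_contra hgt
      rw [not_le] at hgt
      obtain ⟨m, hm⟩ := sub_mem P (show 0 < pz P i θ by lia) hne
      by_cases hmp : b.IsPos m
      · exact hmax m hmp ⟨i, by rw [hm]; abel⟩
      have hγ : b.IsPos (negIdx P m) := (RootPairing.Base.IsPos.neg_iff_not b m).mpr hmp
      -- `i - 2 θ` is a root
      obtain ⟨l, hl⟩ : ∃ l, P.root l = P.root m - P.root θ := by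
        rcases (show pz P i θ = 2 ∨ 3 ≤ pz P i θ by lia) with h | h
        · refine ⟨P.reflectionPerm θ i, ?_⟩
          rw [root_reflectionPerm_eq, h, hm, two_zsmul]; abel
        · have hm' : pz P m θ = pz P i θ - 2 := by
            have := pz_add P (show P.root i = P.root m + P.root θ by rw [hm]; abel) θ
            rw [pz_self] at this; lia
          exact sub_mem P (show 0 < pz P m θ by lia) fun e => hmp (e ▸ hθ)
      exact hmax _ hγ ⟨negIdx P l, by rw [root_negIdx, root_negIdx, hl]; abel⟩
    lia
  have hsum : ∑ i ∈ Finset.univ.filter (fun i => 0 < b.height i),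
      (P.pairing i θ ^ 2 - P.pairing i θ) = 2 := by
    have hθm : θ ∈ Finset.univ.filter (fun i => 0 < b.height i) :=
      Finset.mem_filter.mpr ⟨Finset.mem_univ _, hθ⟩
    rw [Finset.sum_eq_single_of_mem θ hθm]
    · rw [P.pairing_same]; norm_num
    · intro i hi hne
      rw [← cast_pz P i θ]
      rcases key i (Finset.mem_filter.mp hi).2 hne with h | h <;> rw [h] <;> simp
  rw [Finset.sum_sub_distrib] at hsum
  linarith

/-- Let Φ be a finite, reduced, crystallographic, irreducible root system with a base, and θ a positive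
root such that θ + β is a root for no positive root β (so θ is the highest root). Then Σ_{β>0} ⟨β,
θ^∨⟩² = 2 + Σ_{β>0} ⟨β, θ^∨⟩ = 2(1 + ⟨ρ, θ^∨⟩), ρ being half the sum of the positive roots; in the
source the left side is the index of the adjoint representation obtained from its formal character,
and 1 + ⟨ρ, θ^∨⟩ is the dual Coxeter number. -/
theorem result
    {ι : Type u} {R : Type v} {M : Type w} {N : Type x}
    [Field R] [LinearOrder R] [IsStrictOrderedRing R]
    [AddCommGroup M] [Module R M] [AddCommGroup N] [Module R N] [Fintype ι]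
    (P : RootPairing ι R M N) [P.IsRootSystem] [P.IsCrystallographic] [P.IsReduced]
    [P.IsIrreducible] (b : P.Base) (θ : ι) (hθ : b.IsPos θ)
    (hmax : ∀ i : ι, b.IsPos i → P.root θ + P.root i ∉ Set.range P.root) :
    ∑ i ∈ Finset.univ.filter (fun i => 0 < b.height i), P.pairing i θ ^ 2 =
      2 + ∑ i ∈ Finset.univ.filter (fun i => 0 < b.height i), P.pairing i θ := by
  exact main P b θ hθ hmax

end Groth.Agent.S17471
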