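import Groth.Statements.S17473

import Groth.Agent.Lib.GrpSch.Blanchard

set_option autoImplicit false
universe u
open CategoryTheory MonoidalCategory CartesianMonoidalCategory MonObj GrpObj AlgebraicGeometry CategoryTheory.Limits
open AlgGrp

open CategoryTheory CategoryTheory.Limits MonoidalCategory CartesianMonoidalCategory MonObj AlgebraicGeometry

namespace Groth.Agent.S17473

/-- Let k be a field, G a k-group scheme locally of finite type, X and Y separated k-schemes, f : X → Y
a proper k-morphism such that O_Y → f_*O_X is an isomorphism (on sections over every open subset of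
Y), and a an action of G on X. The following are equivalent: (i) some action of G on Y makes f
equivariant; (ii) X ×_Y X is stable under G acting diagonally on X × X, i.e. for every k-scheme T,
every T-point g of G and all T-points x₁, x₂ of X with f x₁ = f x₂ one has f (g · x₁) = f (g · x₂);
(iii) the underlying map of the composite G × X → X → Y is constant on the topological fibres of G ×
X → G × Y. (The published text works over an algebraically closed field; any field is allowed here.) -/
theorem result (k : Type u) [Field k]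
    (G X Y : Over (Spec (CommRingCat.of k))) [GrpObj G] [LocallyOfFiniteType G.hom]
    [IsSeparated X.hom] [IsSeparated Y.hom]
    (f : X ⟶ Y) [IsProper f.left] (hf : ∀ U : Y.left.Opens, IsIso (f.left.app U))
    (a : AlgGrp.Action G X) :
    [∃ b : AlgGrp.Action G Y, (G ◁ f) ≫ b.act = a.act ≫ f,
      ∀ (T : Over (Spec (CommRingCat.of k))) (g : T ⟶ G) (x₁ x₂ : T ⟶ X),
        x₁ ≫ f = x₂ ≫ f → lift g x₁ ≫ a.act ≫ f = lift g x₂ ≫ a.act ≫ f,
      ∀ p q : ↥(G ⊗ X).left, (G ◁ f).left.base p = (G ◁ f).left.base q →
        (a.act ≫ f).left.base p = (a.act ≫ f).left.base q].TFAE := by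
  have hp : Groth.Agent.H2.Rigid.Push f.left := fun U =>
    haveI := hf U
    ConcreteCategory.bijective_of_isIso (f.left.app U)
  tfae_have 1 → 2 := by
    rintro ⟨b, hb⟩ T g x₁ x₂ h
    rw [← hb, ← Category.assoc, ← Category.assoc, lift_whiskerLeft, lift_whiskerLeft, h]
  tfae_have 2 → 3 := by
    intro h p q hpq
    obtain ⟨z, hz1, hz2⟩ := Scheme.Pullback.exists_preimage_pullback p q hpq
    let T : Over (Spec (CommRingCat.of k)) :=
      Over.mk (pullback.fst (G ◁ f).left (G ◁ f).left ≫ (G ⊗ X).hom)
    let u₁ : T ⟶ G ⊗ X := Over.homMk (pullback.fst (G ◁ f).left (G ◁ f).left) rfl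
    let u₂ : T ⟶ G ⊗ X := Over.homMk (pullback.snd (G ◁ f).left (G ◁ f).left) (by
      change pullback.snd _ _ ≫ _ = pullback.fst _ _ ≫ _
      rw [← Over.w (G ◁ f), ← Category.assoc, ← Category.assoc, pullback.condition])
    have hu : u₁ ≫ (G ◁ f) = u₂ ≫ (G ◁ f) := Over.OverMorphism.ext pullback.condition
    have hu1 : u₁ ≫ fst G X = u₂ ≫ fst G X := by simpa using congr($hu ≫ fst G Y)
    have hu2 : (u₁ ≫ snd G X) ≫ f = (u₂ ≫ snd G X) ≫ f := by simpa using congr($hu ≫ snd G Y)
    have := h T (u₁ ≫ fst G X) _ _ hu2
    conv_rhs at this => rw [hu1]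
    simp only [← Category.assoc, ← comp_lift, lift_fst_snd, Category.comp_id] at this
    have e := congr(($this).left z)
    simp only [Category.assoc] at e
    simp only [Over.comp_left, Scheme.Hom.comp_apply] at e ⊢
    rwa [show u₁.left z = p from hz1, show u₂.left z = q from hz2] at e
  tfae_have 3 → 1 := by
    intro h
    obtain ⟨b, hb, -⟩ := Groth.Agent.Lib.GrpSch.Blanchard.existsUnique_action a f hp
      (Set.eq_univ_of_forall fun t => Groth.Agent.H2.Rigid.mem_constSet.2 fun x x' hx hx' =>
        h x x' (hx.trans hx'.symm))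
    exact ⟨b, hb⟩
  tfae_finish

end Groth.Agent.S17473
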