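import Groth.Statements.S17474
import Groth.Agent.H52.PicZeroChar

set_option autoImplicit false
universe u
open CategoryTheory MonoidalCategory CartesianMonoidalCategory MonObj GrpObj AlgebraicGeometry CategoryTheory.Limits
open AlgGrp

namespace Groth.Agent.S17474

/-- Over an algebraically closed field k, let X be a projective variety (an integral k-scheme admitting
a closed immersion into some projective space over k) and let a connected k-group scheme of finite
type G act on X. For a k-point g of G write t_g : X → X, x ↦ g · x. Then for every invertible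
O_X-module L and every invertible M with L ⊗ M ≅ O_X (an inverse of L), the invertible module
t_g^*(L) ⊗ M is algebraically equivalent to zero. Equivalently, the neutral component of the
automorphism group scheme of X acts trivially on the Néron–Severi group of X. -/
theorem result (k : Type u) [Field k] [IsAlgClosed k]
    (G X : Over (Spec (CommRingCat.of k))) [GrpObj G] [LocallyOfFiniteType G.hom] [QuasiCompact G.hom]
    [ConnectedSpace ↥G.left] [IsIntegral X.left] (hX : RelProj.IsHProjective X.hom)
    (a : AlgGrp.Action G X) (g : 𝟙_ (Over (Spec (CommRingCat.of k))) ⟶ G)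
    (L M : X.left.Modules) (hL : PicF.IsInvertible L) (hM : PicF.IsInvertible M)
    (hLM : Nonempty (CohB1.tensorMod L M ≅ Coh.structureModule X.left)) :
    @Pic13.IsAlgEquivZero k _ X.left ⟨X.hom⟩
      (CohB1.tensorMod ((Scheme.Modules.pullback (lift (toUnit X ≫ g) (𝟙 X) ≫ a.act).left).obj L) M) := by
  letI : ∀ Y : Scheme.{u}, PicGrp.Law Y := Groth.Agent.Lib.TensorMod.Invertible.law
  open Groth.Agent.H3 in
  exact by
    let ℓ := PicGrp.cls L hL
    have hm : PicGrp.cls M hM = ℓ⁻¹ :=
      eq_inv_of_mul_eq_one_right ((PicCalc.iso_iff (PicCalc.cl_tensor (a := ℓ) (b := PicGrp.cls M hM) rfl rfl)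
        (b := (1 : PicLoc.PicSet X.left)) PicGrp.one_val.symm).mp hLM)
    have hT := Groth.Agent.Lib.TensorMod.Invertible.isInvertible_tensorMod
      (PicLoc.isInvertible_pullback (lift (toUnit X ≫ g) (𝟙 X) ≫ a.act).left hL) hM
    let c : PicLoc.PicSet (X ⊗ G).left :=
      PicCalc.ph (lift (snd X G) (fst X G) ≫ a.act) ℓ * (PicCalc.ph (fst X G) ℓ)⁻¹
    refine Groth.Agent.H52.PicZeroChar.isAlgEquivZero_of_family c g η[G] _ hT ?_ ?_
    · have e : lift (𝟙 X) (toUnit X ≫ g) ≫ lift (snd X G) (fst X G) = lift (toUnit X ≫ g) (𝟙 X) := by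
        rw [comp_lift, lift_snd, lift_fst]
      have h1 : PicGrp.cls _ hT = PicCalc.ph (lift (toUnit X ≫ g) (𝟙 X) ≫ a.act) ℓ * ℓ⁻¹ := by
        rw [← hm]
        exact Subtype.ext (PicCalc.cl_tensor (PicCalc.cl_pullback _ (a := ℓ) rfl) (b := PicGrp.cls M hM) rfl)
      rw [h1]
      simp only [c, map_mul, map_inv, ← PicCalc.ph_comp, ← Category.assoc, e, lift_fst, PicCalc.ph_id]
    · have e : lift (𝟙 X) (toUnit X ≫ η[G]) ≫ lift (snd X G) (fst X G) ≫ a.act = 𝟙 X := by
        have e1 : lift (𝟙 X) (toUnit X ≫ η[G]) ≫ lift (snd X G) (fst X G) =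
            lift (toUnit X) (𝟙 X) ≫ (η[G] ▷ X) := by
          ext : 1 <;> simp
        rw [reassoc_of% e1, a.one_act]
        exact lift_leftUnitor_hom _ _
      simp only [c, map_mul, map_inv, ← PicCalc.ph_comp, e, lift_fst, PicCalc.ph_id, mul_inv_cancel]

end Groth.Agent.S17474
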