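import Groth.Statements.S17476
import Groth.Agent.H15.Codim2.Hartogs

set_option autoImplicit false
universe u
open CategoryTheory AlgebraicGeometry Opposite
open Coh

namespace Groth.Agent.S17476

/-- Let R be a Noetherian ring, Z = Spec R, M a finitely generated R-module with associated
quasi-coherent sheaf M~ (so that Hom_R(M, R) = Hom_Z(M~, O_Z)), and Z₀ ⊆ Z an open subscheme. (1) If
the restriction of functions Γ(Z, O_Z) → Γ(Z₀, O_Z) is injective, then the restriction map Hom_Z(M~,
O_Z) → Hom_{Z₀}(M~|Z₀, O_{Z₀}) is injective. (2) If R is an integrally closed domain and the closed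
complement of Z₀ has codimension at least 2 (every prime ideal outside Z₀ has height at least 2),
then that restriction map is bijective. (The published first assertion assumes only that Z₀ is
dense; for R = k[x,y]/(x², xy), M = R and Z₀ the locus y ≠ 0, which is dense, multiplication by x is
a nonzero element of Hom_R(M, R) restricting to zero, so schematic density is what is needed and
what the printed argument uses. The published second assertion is for a normal irreducible affine
variety; any Noetherian integrally closed domain is allowed here.) -/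
theorem result (R : Type u) [CommRing R] [IsNoetherianRing R]
    (M : ModuleCat.{u} (CommRingCat.of R)) [Module.Finite R M] (U : (Spec (CommRingCat.of R)).Opens) :
    (Function.Injective ((Spec (CommRingCat.of R)).presheaf.map (homOfLE (le_top : U ≤ ⊤)).op) →
      Function.Injective (fun φ : AlgebraicGeometry.tilde M ⟶ Coh.structureModule (Spec (CommRingCat.of R)) =>
        (Scheme.Modules.restrictFunctor U.ι).map φ)) ∧
    (IsDomain R → IsIntegrallyClosed R → (∀ p : PrimeSpectrum R, p ∉ U → (2 : ℕ∞) ≤ p.asIdeal.height) →
      Function.Bijective (fun φ : AlgebraicGeometry.tilde M ⟶ Coh.structureModule (Spec (CommRingCat.of R)) =>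
        (Scheme.Modules.restrictFunctor U.ι).map φ)) := by
  let S := Spec (CommRingCat.of R)
  let adj := Scheme.Modules.restrictAdjunction U.ι
  let O := Coh.structureModule S
  let η := adj.unit.app O
  have hmap : ∀ φ : AlgebraicGeometry.tilde M ⟶ O,
      adj.homEquiv _ _ ((Scheme.Modules.restrictFunctor U.ι).map φ) = φ ≫ η := fun φ => by
    rw [Adjunction.homEquiv_unit]
    exact (adj.unit.naturality φ).symm
  refine ⟨fun hinj φ ψ h => ?_, fun hd hic hU => ?_⟩
  · have h1 : φ ≫ η = ψ ≫ η := by rw [← hmap, ← hmap]; exact congrArg _ h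
    refine (AlgebraicGeometry.tilde.adjunction.homEquiv M _).injective ?_
    have h3 : ∀ (W : S.Opens), W = U → Function.Injective (S.presheaf.map (homOfLE (le_top (a := W))).op) := by
      rintro W rfl; exact hinj
    have hW : U.ι ''ᵁ (U.ι ⁻¹ᵁ (⊤ : S.Opens)) = U := by
      rw [Scheme.Hom.image_preimage_eq_opensRange_inf, Scheme.Opens.opensRange_ι, inf_top_eq]
    have h2 : φ.app ⊤ = ψ.app ⊤ := ConcreteCategory.hom_ext _ _ fun m =>
      h3 _ hW (congrArg (fun f => Scheme.Modules.Hom.app f ⊤ m) h1)
    refine ModuleCat.hom_ext (LinearMap.ext fun m => ?_)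
    exact ConcreteCategory.congr_hom h2 _
  · haveI := hd
    haveI := hic
    let e : ∀ x : PrimeSpectrum R, (S.presheaf.stalk x) ≃+* Localization.AtPrime x.asIdeal := fun x =>
      (AlgebraicGeometry.Spec.stalkIso (CommRingCat.of R) x).commRingCatIsoToRingEquiv
    have hnorm : ∀ x : PrimeSpectrum R, IsDomain (S.presheaf.stalk x) ∧ IsIntegrallyClosed (S.presheaf.stalk x) := fun x => by
      haveI := IsLocalization.isDomain_localization (R := R) (Ideal.primeCompl_le_nonZeroDivisors x.asIdeal)
      haveI : IsIntegrallyClosed (Localization.AtPrime x.asIdeal) :=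
        isIntegrallyClosed_of_isLocalization (Localization.AtPrime x.asIdeal) x.asIdeal.primeCompl (Ideal.primeCompl_le_nonZeroDivisors _)
      exact ⟨(e x).injective.isDomain (e x).toRingHom, IsIntegrallyClosed.of_equiv (e x).symm⟩
    have hht : ∀ x : PrimeSpectrum R, ringKrullDim (S.presheaf.stalk x) = x.asIdeal.height := fun x => by
      rw [ringKrullDim_eq_of_ringEquiv (e x),
        IsLocalization.AtPrime.ringKrullDim_eq_height x.asIdeal]
    have hS : Pi1.IsNormalScheme S := fun x => hnorm x
    have hU' : ∀ x : S, ringKrullDim (S.presheaf.stalk x) ≤ 1 → x ∈ U := fun x hx => by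
      by_contra hxU
      have h1 : (x : PrimeSpectrum R).asIdeal.height ≤ 1 :=
        WithBot.coe_le_coe.mp ((hht x).symm.trans_le hx)
      exact absurd ((hU x hxU).trans h1) (by decide)
    haveI : IsIso η := Groth.Agent.H15.Codim2.Hartogs.isIso_unit hS O
      (Groth.Agent.Lib.TensorMod.QCohInv.isQCoh_structureModule S)
      (Groth.Agent.Lib.TensorMod.FPConv.isFlat_of_isFinLocFree
        (Groth.Agent.Lib.TensorMod.LocFree.of_rank (Groth.Agent.Lib.TensorMod.LocFree.of_isInvertible
          (Groth.Agent.Lib.ParaF.Pair.isInvertible_structureModule S)))) U hU'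
    have he : (fun φ : AlgebraicGeometry.tilde M ⟶ O => (Scheme.Modules.restrictFunctor U.ι).map φ) =
        (adj.homEquiv _ _).symm ∘ ((asIso η).homToEquiv (Z := AlgebraicGeometry.tilde M)) := by
      funext φ
      exact ((adj.homEquiv _ _).eq_symm_apply).2 (hmap φ)
    exact he ▸ (Equiv.bijective _).comp (Equiv.bijective _)

end Groth.Agent.S17476
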