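import Groth.Statements.S17480
import Groth.Agent.H60.NormAff.Basic

set_option autoImplicit false
universe u
open CategoryTheory MonoidalCategory CartesianMonoidalCategory MonObj GrpObj AlgebraicGeometry CategoryTheory.Limits
open AlgGrp

namespace Groth.Agent.S17480

/-- Over an algebraically closed field k, let G be a connected linear algebraic group (a smooth, affine,
connected k-group scheme), i : H → G a closed subgroup scheme (not necessarily reduced), j : H⁰ → H
its neutral component (an open subgroup scheme which is connected), and n : N → G the normaliser of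
H⁰ in G. Let Q₁ = G/H and Q₂ = G/N be the quotients (G-actions with base points o₁, o₂ whose orbit
maps are flat and surjective, with G × H ≅ G ×_{Q₁} G and likewise for N), and let f : Q₁ → Q₂ be
the morphism under which the orbit map of o₁ composes to the orbit map of o₂ (it exists since H ⊆
N). Then f is an affine morphism. -/
theorem result (k : Type u) [Field k] [IsAlgClosed k]
    (G H H₀ N Q₁ Q₂ : Over (Spec (CommRingCat.of k))) [GrpObj G] [GrpObj H] [GrpObj H₀] [GrpObj N]
    [IsAffine G.left] [Smooth G.hom] [ConnectedSpace ↥G.left]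
    (i : H ⟶ G) [IsMonHom i] (hi : IsClosedImmersion i.left)
    (j : H₀ ⟶ H) [IsMonHom j] (hj : IsOpenImmersion j.left) [ConnectedSpace ↥H₀.left]
    (n : N ⟶ G) (hN : Red.IsNormalizerOf (j ≫ i) n)
    (a₁ : AlgGrp.Action G Q₁) (o₁ : 𝟙_ (Over (Spec (CommRingCat.of k))) ⟶ Q₁) (hQ₁ : AGF.IsQuotient i Q₁ a₁ o₁)
    (a₂ : AlgGrp.Action G Q₂) (o₂ : 𝟙_ (Over (Spec (CommRingCat.of k))) ⟶ Q₂) (hQ₂ : AGF.IsQuotient n Q₂ a₂ o₂)
    (f : Q₁ ⟶ Q₂) (hf : a₁.orbitMap o₁ ≫ f = a₂.orbitMap o₂) :
    IsAffineHom f.left := by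
  haveI := hi
  haveI := hj
  haveI : LocallyOfFiniteType G.hom := inferInstance
  haveI : QuasiCompact G.hom := inferInstance
  haveI : Mono i := Over.mono_of_mono_left i
  haveI : IsAffine H.left := isAffine_of_isAffineHom i.left
  haveI : LocallyOfFiniteType H.hom := by rw [← Over.w i]; infer_instance
  haveI : QuasiCompact H.hom := inferInstance
  haveI hjc : IsClosedImmersion j.left := Groth.Agent.H60.NormAff.isClosedImmersion_sub j
  haveI : Mono j := Over.mono_of_mono_left j
  haveI : IsAffine H₀.left := isAffine_of_isAffineHom j.left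
  haveI : LocallyOfFiniteType H₀.hom := Groth.Agent.H60.NormAff.lft_sub j
  haveI : QuasiCompact H₀.hom := inferInstance
  haveI hji : IsClosedImmersion (j ≫ i).left := by rw [Over.comp_left]; infer_instance
  haveI : IsLocallyNoetherian G.left := LocallyOfFiniteType.isLocallyNoetherian G.hom
  haveI : LocallyOfFinitePresentation G.hom := LocallyOfFinitePresentation.iff_locallyOfFiniteType.2 inferInstance
  haveI : LocallyOfFinitePresentation (j ≫ i).left := LocallyOfFinitePresentation.iff_locallyOfFiniteType.2 inferInstance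
  obtain ⟨N', gN', n', hn', -, hN'⟩ := Groth.Agent.Lib.ActSep.GenericTransporter.exists_normalizer
    (Groth.Agent.H60.NormAff.isEssentiallyFree_of_field H₀.hom) (j ≫ i)
  haveI := hN.1
  haveI := hN.2.1
  haveI := hN'.2.1
  obtain ⟨v, hv⟩ := (hN'.2.2 N n).2 ((hN.2.2 N n).1 ⟨𝟙 N, Category.id_comp n⟩)
  obtain ⟨v', hv'⟩ := (hN.2.2 N' n').2 ((hN'.2.2 N' n').1 ⟨𝟙 N', Category.id_comp n'⟩)
  haveI : IsIso v := ⟨v', by rw [← cancel_mono n, Category.assoc, hv', hv, Category.id_comp],
    by rw [← cancel_mono n', Category.assoc, hv, hv', Category.id_comp]⟩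
  haveI : IsIso v.left := ((Over.forget _).mapIso (asIso v)).isIso_hom
  haveI hnc : IsClosedImmersion n.left := by rw [← hv, Over.comp_left]; infer_instance
  haveI : IsAffine N.left := isAffine_of_isAffineHom n.left
  haveI : LocallyOfFiniteType N.hom := by rw [← Over.w n]; infer_instance
  haveI : QuasiCompact N.hom := inferInstance
  obtain ⟨e, he⟩ := (hN.2.2 H i).2 (fun X' x h => by
    refine ⟨?_, ?_⟩
    · obtain ⟨h', hh⟩ := Groth.Agent.H60.NormAff.conj_mem j x h
      refine ⟨h', ?_⟩
      rw [← Category.assoc h' j i, ← hh, MonObj.mul_comp, MonObj.mul_comp, GrpObj.inv_comp, Category.assoc]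
    · obtain ⟨h', hh⟩ := Groth.Agent.H60.NormAff.conj_mem j x⁻¹ h
      refine ⟨h', ?_⟩
      rw [← Category.assoc h' j i, ← hh]
      simp only [MonObj.mul_comp, GrpObj.inv_comp,
        _root_.inv_inv, Category.assoc])
  haveI : IsMonHom e := by
    refine ⟨?_, ?_⟩
    · rw [← cancel_mono n, Category.assoc, he, IsMonHom.one_hom, IsMonHom.one_hom]
    · rw [← cancel_mono n, Category.assoc, he, IsMonHom.mul_hom, Category.assoc, IsMonHom.mul_hom,
        ← Category.assoc, tensorHom_comp_tensorHom, he]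
  haveI : IsClosedImmersion e.left := by
    haveI : IsClosedImmersion (e.left ≫ n.left) := by rw [← Over.comp_left, he]; infer_instance
    exact IsClosedImmersion.of_comp e.left n.left
  haveI : Mono e := Over.mono_of_mono_left e
  haveI hje : IsClosedImmersion (j ≫ e).left := by rw [Over.comp_left]; infer_instance
  have hnorm : AlgGrp.IsNormalHom (j ≫ e) := fun T g h => by
    obtain ⟨h', hh⟩ := ((hN.2.2 T (g ≫ n)).1 ⟨g, rfl⟩ T (𝟙 T) h).1
    refine ⟨h', ?_⟩
    rw [← cancel_mono n, MonObj.mul_comp, MonObj.mul_comp, GrpObj.inv_comp]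
    simp only [Category.id_comp] at hh
    simp only [Category.assoc, he]
    exact hh
  obtain ⟨M, gM, q, hqm, hMa, hMl, hqf, hqs, hker⟩ := Groth.Agent.S3278.result k N H₀ (j ≫ e) hnorm
  haveI := hqm; haveI := hMa; haveI := hMl; haveI := hqf; haveI := hqs
  let aM : AlgGrp.Action N M := Groth.Agent.Lib.GrpSch.actionMk ((q ▷ M) ≫ μ[M])
    (fun T x => by
      rw [lift_whiskerRight_assoc, ← Hom.mul_def, MonObj.one_comp, _root_.one_mul])
    (fun T g h x => by
      rw [lift_whiskerRight_assoc, lift_whiskerRight_assoc, lift_whiskerRight_assoc, ← Hom.mul_def, ← Hom.mul_def,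
        ← Hom.mul_def, MonObj.mul_comp, _root_.mul_assoc])
  have horb : aM.orbitMap (1 : 𝟙_ _ ⟶ M) = q := by
    show lift (𝟙 N) (toUnit N ≫ 1) ≫ (q ▷ M) ≫ μ[M] = q
    rw [lift_whiskerRight_assoc, ← Hom.mul_def, MonObj.comp_one, _root_.mul_one, Category.id_comp]
  have hMq : AGF.IsQuotient (j ≫ e) M aM 1 := by
    refine ⟨hMl, ?_, ?_, ?_⟩ <;> rw [horb]
    · exact hqf
    · exact hqs
    · exact Groth.Agent.Lib.GrpQ.FfMono.isPullback_pair_kernel q hker
  obtain ⟨Y, b, y, hY, hYqc⟩ := Groth.Agent.Lib.Homog.exists_quotient_affine N H e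
  haveI := hYqc; haveI := hY.1
  have hcM := Groth.Agent.Lib.Homog.isCover_of_isQuotient hMq
  obtain ⟨π, hπ⟩ := Groth.Agent.Lib.GrpQ.exists_desc hcM (b.orbitMap y) fun Z u w huw => by
    obtain ⟨h, rfl⟩ := Groth.Agent.Lib.Homog.exists_rel hMq.2.2.2 u w huw
    have hje := Groth.Agent.Lib.Homog.comp_orbit_of_quotient hY.2.2.2
    rw [← Category.assoc h j e, Groth.Agent.Lib.GrpSch.mul_orbit, Category.assoc (h ≫ j), hje,
      Groth.Agent.Lib.GrpSch.comp_orbit, ← Category.assoc (h ≫ j), toUnit_unique ((h ≫ j) ≫ toUnit H) (toUnit Z)]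
  obtain ⟨F, c, z, hF, -⟩ := Groth.Agent.Lib.Homog.exists_quotient_affine H H₀ j
  haveI := Groth.Agent.H60.NormAff.isFinite_quotient j hF
  haveI : IsFinite π.left := Groth.Agent.Lib.Homog.prop_of_fibre @IsFinite rfl hMq hY hF hπ inferInstance
  haveI : Surjective π.left := by
    haveI : Surjective ((aM.orbitMap 1).left ≫ π.left) := by rw [← Over.comp_left, hπ]; exact hY.2.2.1
    exact Surjective.of_comp (aM.orbitMap 1).left π.left
  haveI : IsLocallyNoetherian Y.left := LocallyOfFiniteType.isLocallyNoetherian Y.hom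
  haveI : CompactSpace Y.left := QuasiCompact.compactSpace_of_compactSpace Y.hom
  haveI : IsNoetherian Y.left := ⟨⟩
  haveI : IsAffine Y.left := Groth.Agent.H54.ChevNoeth.isAffine_of_finite_surjective π.left
  exact Groth.Agent.Lib.Homog.prop_of_fibre @IsAffineHom he hQ₁ hQ₂ hY hf inferInstance

end Groth.Agent.S17480
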