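import Groth.Statements.S17482
import Groth.Agent.H90.ConnFun
import Groth.Agent.Lib.ClSub.Quot
import Groth.Agent.Lib.ProjSpace.Basic

open Groth.Agent.H90.ConnFun Groth.Agent.Lib.Curves.LES Groth.Agent.Lib.ClSub.Quot

set_option autoImplicit false
universe u
open CategoryTheory CategoryTheory.Limits AlgebraicGeometry
open Surf

namespace Groth.Agent.S17482

/-- Let k be an algebraically closed field of characteristic zero and X a smooth projective surface over
k (an integral scheme of dimension two with all local rings regular, admitting a closed immersion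
into some P^n_k over k) such that H^1(X, O_X) = 0. Let D be a nonempty closed subscheme of X, given
by a quasi-coherent ideal sheaf whose associated O_X-module I_D is invertible (a nonzero effective
divisor). If H^1(X, I_D) = 0, then D is connected. (The published statement is for rational
surfaces; this row assumes only H^1(X, O_X) = 0. Since H^1(X, I_D) depends only on the isomorphism
class of I_D, the same holds for every effective divisor linearly equivalent to D.) -/
theorem result
    (k : Type u) [Field k] [IsAlgClosed k] [CharZero k]
    (X : Scheme.{u}) [X.Over (Spec (CommRingCat.of k))] [AlgebraicGeometry.IsIntegral X]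
    (hdim : topologicalKrullDim X = 2) (hreg : ∀ x : X, IsRegularLocalRing (X.presheaf.stalk x))
    (hproj : ∃ (n : ℕ) (ι : X ⟶ CohB1.ProjSpace n k), IsClosedImmersion ι ∧
      ι ≫ CohB1.ProjSpace.toSpec n k = (X ↘ (Spec (CommRingCat.of k))))
    (hH1 : Subsingleton (Coh.HH X (Coh.structureModule X) 1))
    (D : X.IdealSheafData) (hD : PicF.IsInvertible (ClSub.idealMod D)) (hne : Nonempty ↥D.subscheme)
    (hvan : Subsingleton (Coh.HH X (ClSub.idealMod D) 1)) :
    ConnectedSpace ↥D.subscheme := by
  obtain ⟨n, ι, hι, hιc⟩ := hproj
  haveI : IsProper (X ↘ Spec (CommRingCat.of k)) := by rw [← hιc]; infer_instance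
  have hs := idealSeq_shortExact D
  have hsurj : Function.Surjective (mapK k (idealSeq D).g 0) := fun z =>
    (exactK₃ k hs 0 1 rfl z).1 (@Subsingleton.elim _ hvan _ _)
  have hsurj' : Function.Surjective (D.subschemeι.app ⊤) := (mapK_zero_surjective_iff _).1 hsurj
  have hF : IsField Γ(X, ⊤) := isField_of_universallyClosed k (X ↘ Spec (CommRingCat.of k))
  letI := hF.toField
  haveI : Nontrivial Γ(D.subscheme, D.subschemeι ⁻¹ᵁ ⊤) := by
    haveI : Nonempty (D.subschemeι ⁻¹ᵁ ⊤ : D.subscheme.Opens) :=
      ⟨⟨Classical.arbitrary _, trivial⟩⟩
    infer_instance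
  have := preconnectedSpace_of_idempotents (Z := D.subscheme) fun e he => by
    obtain ⟨a, rfl⟩ := hsurj' e
    have ha : IsIdempotentElem a := (D.subschemeι.app ⊤).hom.injective
      (((D.subschemeι.app ⊤).hom.map_mul a a).trans he)
    rcases IsIdempotentElem.iff_eq_zero_or_one.1 ha with rfl | rfl
    · exact Or.inl (D.subschemeι.app ⊤).hom.map_zero
    · exact Or.inr (D.subschemeι.app ⊤).hom.map_one
  exact { toPreconnectedSpace := this, toNonempty := hne }

end Groth.Agent.S17482
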