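import Groth.Statements.S17486
import Groth.Agent.H56.AmpNhd.Nhd
import Groth.Agent.Lib.FittSheaf.Gen
import Groth.Agent.Lib.TensorMod.LocFree
import Groth.Agent.Lib.CohDelta.IndExt.QCoh
import Groth.Agent.Lib.QCoh.Closure
-- import your own Groth.Agent.* helpers here

set_option autoImplicit false
universe u
open CategoryTheory CategoryTheory.Limits AlgebraicGeometry
open Coherent

namespace Groth.Agent.S17486

open CategoryTheory CategoryTheory.Limits AlgebraicGeometry Groth.Agent Groth.Agent.Lib in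
/-- Fewer generators than the corank of the diagonal block are impossible. -/
theorem rank_bound {Y : Scheme.{u}} {A B : Y.Modules} (a b r : ℕ) (hA : FlatMod.IsFinLocFreeOfRank a A)
    (hB : FlatMod.IsFinLocFreeOfRank b B) (φ : A ⟶ B) (x : Y)
    (g : Fin r → (cokernel φ).presheaf.stalk x)
    (hg : Submodule.span (Y.presheaf.stalk x) (Set.range g) = ⊤) : b ≤ r + a := by
  obtain ⟨U, hxU, ⟨iA⟩⟩ := hA x
  obtain ⟨V, hxV, ⟨iB⟩⟩ := hB x
  obtain ⟨hfA, hrA⟩ := FittSheaf.stalk_of_free A iA hxU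
  obtain ⟨hfB, hrB⟩ := FittSheaf.stalk_of_free B iB hxV
  haveI := hfA; haveI := hfB
  haveI : SheafOfModules.IsFiniteType (R := Y.ringCatSheaf) A :=
    CohDelta.IndExt.QCoh.isFT_of_isFP (TensorMod.FPConv.isFP_of_isFinLocFree (TensorMod.LocFree.of_rank hA))
  haveI := Modules.GenStalk.finite_stalk A x
  let S := ShortComplex.mk φ (cokernel.π φ) (cokernel.condition φ)
  have hS : S.Exact := ShortComplex.exact_cokernel φ
  have hx := (ShortComplex.moduleCat_exact_iff _).1 (hS.map (Modules.StalkModule.stalkModFunctor Y x))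
  have hsurj := (Modules.StalkModule.epi_iff_stalkMapₗ_surjective (cokernel.π φ)).1 inferInstance x
  choose v hv using fun i => hsurj (g i)
  let T := (Fintype.linearCombination (Y.presheaf.stalk x) v).coprod (Modules.StalkModule.stalkMapₗ φ x)
  have hT : LinearMap.range T = ⊤ := by
    rw [eq_top_iff]
    intro w _
    obtain ⟨c, hc⟩ := (Submodule.mem_span_range_iff_exists_fun _).1
      (hg.ge (show Modules.StalkModule.stalkMapₗ (cokernel.π φ) x w ∈ ⊤ from trivial))
    obtain ⟨y, hy⟩ := hx (w - Fintype.linearCombination (Y.presheaf.stalk x) v c) (by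
      show Modules.StalkModule.stalkMapₗ (cokernel.π φ) x _ = 0
      rw [map_sub, Fintype.linearCombination_apply, map_sum, ← hc, sub_eq_zero]
      exact Finset.sum_congr rfl fun i _ => by rw [map_smul, hv i])
    refine ⟨(c, y), ?_⟩
    show Fintype.linearCombination (Y.presheaf.stalk x) v c + Modules.StalkModule.stalkMapₗ φ x y = w
    rw [show Modules.StalkModule.stalkMapₗ φ x y = w - Fintype.linearCombination (Y.presheaf.stalk x) v c from hy]
    abel
  have h := LinearMap.finrank_range_le T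
  rw [hT, finrank_top, Module.finrank_prod, Module.finrank_fin_fun, hrA, hrB] at h
  exact h

/-- Let k be an algebraically closed field of characteristic zero and Y a smooth projective variety over
k (an integral scheme, smooth over k, with a closed immersion into some P^n_k over k). Let A = A₁ ⊕
A₂ and B = B₁ ⊕ B₂ be finite locally free O_Y-modules with A_i of rank a_i ≥ 1 and B_j of rank b_j ≥
1, a₁ + a₂ ≤ b₁ + b₂, such that the sheaves Hom(A₁, B₁), Hom(A₁, B₂), Hom(A₂, B₂) (right adjoints of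
A_i ⊗ -, whose existence is the stated instance hypothesis; it holds) are globally generated while
every morphism A₂ → B₁ is zero (the sheaf Hom(A₂, B₁) has no nonzero global section). For φ : A → B
let Z(φ) ⊆ Y be the closed set where φ drops rank, i.e. where the rank of φ on fibres is less than
a₁ + a₂: the zero set of the (b₁ + b₂ - a₁ - a₂)-th Fitting ideal sheaf of the cokernel of φ
(locally generated by the maximal minors of φ). If b₂ < a₂, then every φ : A → B drops rank at every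
point of Y, i.e. Z(φ) = Y. -/
theorem result
    (k : Type u) [Field k] [IsAlgClosed k] [CharZero k]
    (Y : Scheme.{u}) [Y.Over (Spec (CommRingCat.of k))] [AlgebraicGeometry.IsIntegral Y]
    [Smooth (Y ↘ Spec (CommRingCat.of k))]
    (hproj : ∃ (N : ℕ) (ι : Y ⟶ CohB1.ProjSpace N k), IsClosedImmersion ι ∧
      ι ≫ CohB1.ProjSpace.toSpec N k = (Y ↘ (Spec (CommRingCat.of k))))
    (A₁ A₂ B₁ B₂ : Y.Modules) (a₁ a₂ b₁ b₂ : ℕ)
    (hA₁ : FlatMod.IsFinLocFreeOfRank a₁ A₁) (hA₂ : FlatMod.IsFinLocFreeOfRank a₂ A₂)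
    (hB₁ : FlatMod.IsFinLocFreeOfRank b₁ B₁) (hB₂ : FlatMod.IsFinLocFreeOfRank b₂ B₂)
    (ha₁ : 1 ≤ a₁) (ha₂ : 1 ≤ a₂) (hb₁ : 1 ≤ b₁) (hb₂ : 1 ≤ b₂) (hab : a₁ + a₂ ≤ b₁ + b₂)
    [DCoh.HasSheafHom A₁] [DCoh.HasSheafHom A₂]
    (h₁₁ : Curv2.IsGloballyGenerated ((DCoh.sheafHom A₁).obj B₁))
    (h₁₂ : Curv2.IsGloballyGenerated ((DCoh.sheafHom A₁).obj B₂))
    (h₂₂ : Curv2.IsGloballyGenerated ((DCoh.sheafHom A₂).obj B₂))
    (h₂₁ : ∀ ψ : A₂ ⟶ B₁, ψ = 0) (hlt : b₂ < a₂) (φ : (A₁ ⊞ A₂) ⟶ (B₁ ⊞ B₂)) :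
    (((Fitt.sheafIdeal (cokernel φ) (b₁ + b₂ - (a₁ + a₂))).support : TopologicalSpace.Closeds Y) : Set Y) = Set.univ := by
  open CategoryTheory CategoryTheory.Limits Groth.Agent Groth.Agent.Lib in
  have hA : FlatMod.IsFinLocFree (A₁ ⊞ A₂) := TensorMod.LocFree.of_iso (biprod.isoCoprod A₁ A₂).symm
    (TensorMod.LocFree.isFinLocFree_biprod (TensorMod.LocFree.of_rank hA₁) (TensorMod.LocFree.of_rank hA₂))
  have hB : FlatMod.IsFinLocFree (B₁ ⊞ B₂) := TensorMod.LocFree.of_iso (biprod.isoCoprod B₁ B₂).symm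
    (TensorMod.LocFree.isFinLocFree_biprod (TensorMod.LocFree.of_rank hB₁) (TensorMod.LocFree.of_rank hB₂))
  haveI : (A₁ ⊞ A₂).IsQuasicoherent := TensorMod.QCohInv.isQCoh_of_isFinLocFree hA
  haveI : (B₁ ⊞ B₂).IsQuasicoherent := TensorMod.QCohInv.isQCoh_of_isFinLocFree hB
  haveI : (cokernel φ).IsQuasicoherent := QCoh.Closure.isQCoh_cokernel φ
  let F : Y.Modules := cokernel φ
  haveI : SheafOfModules.IsFiniteType (R := Y.ringCatSheaf) F :=
    CohDelta.IndExt.QCoh.isFT_of_isFP (H56.AmpNhd.isFP_cokernel φ hA hB)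
  haveI : F.IsQuasicoherent := ‹(cokernel φ).IsQuasicoherent›
  refine Set.eq_univ_iff_forall.2 fun x => ?_
  by_contra hx
  obtain ⟨U, hxU, π, hπ⟩ := (FittSheaf.exists_epi_iff F x _).2 hx
  obtain ⟨g, hg⟩ := FittSheaf.exists_stalk_generators F π hxU
  let φ' : A₁ ⟶ B₁ := biprod.inl ≫ φ ≫ biprod.fst
  have he : φ ≫ biprod.fst = biprod.fst ≫ φ' := by
    apply biprod.hom_ext'
    · simp [φ']
    · simpa using h₂₁ (biprod.inr ≫ φ ≫ biprod.fst)
  let c : cokernel φ ⟶ cokernel φ' := cokernel.desc φ (biprod.fst ≫ cokernel.π φ') (by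
    rw [← Category.assoc, he, Category.assoc, cokernel.condition, comp_zero])
  haveI : Epi c := epi_of_epi_fac (cokernel.π_desc φ _ _)
  have hc := (Modules.StalkModule.epi_iff_stalkMapₗ_surjective c).1 inferInstance x
  have := rank_bound a₁ b₁ _ hA₁ hB₁ φ' x (fun i => Modules.StalkModule.stalkMapₗ c x (g i)) (by
    rw [show (fun i => Modules.StalkModule.stalkMapₗ c x (g i)) = Modules.StalkModule.stalkMapₗ c x ∘ g from rfl,
      Set.range_comp, Submodule.span_image, hg, Submodule.map_top, LinearMap.range_eq_top.2 hc])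
  omega

end Groth.Agent.S17486
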