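import Groth.Statements.S17498
import Groth.Agent.Lib.SymSplit.Classes

set_option autoImplicit false
universe u
open RelQuot

namespace Groth.Agent.S17498

open CategoryTheory CategoryTheory.Limits AlgebraicGeometry in
/-- Let k be an algebraically closed field of characteristic zero, Y a scheme of finite type over k, and
f : X → Y, f′ : X′ → Y morphisms of finite type. For every n ≥ 0 let (S_n, q_n, g_n) be an n-th
symmetric power of X over Y (q_n : X ×_Y ⋯ ×_Y X → S_n a quotient of the n-fold fibre power by the
symmetric group permuting the factors: affine, invariant, with the sections of S_n the invariant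
sections; g_n : S_n → Y its structure map, of finite type; for n = 0 this forces S_0 ≅ Y), and
likewise (S′_n, q′_n, g′_n) for X′ over Y and (T_n, Q_n, h_n) for the disjoint union X ⊔ X′ over Y
(structure map f on X and f′ on X′). Then the relative motivic zeta functions multiply: in the ring
of power series with coefficients in the Grothendieck ring of finite-type Y-schemes (multiplication
given by fibre product over Y), the series with n-th coefficient [T_n → Y] equals the product of the
series with n-th coefficients [S_n → Y] and [S′_n → Y]. The published proposition asserts that the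
motivic zeta function defines a pre-lambda structure on the whole Grothendieck ring; this row states
the multiplicativity on disjoint unions, which is the part established there, and it does not assume
f, f′ quasi-projective (that hypothesis only serves the existence of the symmetric powers, which are
taken as data here). -/
theorem result
    (k : Type u) [Field k] [IsAlgClosed k] [CharZero k] {X X' Y : Scheme.{u}}
    (pY : Y ⟶ Spec (CommRingCat.of k)) [LocallyOfFiniteType pY] [QuasiCompact pY]
    (f : X ⟶ Y) [LocallyOfFiniteType f] [QuasiCompact f]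
    (f' : X' ⟶ Y) [LocallyOfFiniteType f'] [QuasiCompact f']
    (Sy : ℕ → Scheme.{u}) (q : ∀ n, SymProd.fibPow f n ⟶ Sy n) (g : ∀ n, Sy n ⟶ Y)
    (hS : ∀ n, SymProd.IsSymProd f n (q n) (g n))
    [∀ n, LocallyOfFiniteType (g n)] [∀ n, QuasiCompact (g n)]
    (Sy' : ℕ → Scheme.{u}) (q' : ∀ n, SymProd.fibPow f' n ⟶ Sy' n) (g' : ∀ n, Sy' n ⟶ Y)
    (hS' : ∀ n, SymProd.IsSymProd f' n (q' n) (g' n))
    [∀ n, LocallyOfFiniteType (g' n)] [∀ n, QuasiCompact (g' n)]
    (T : ℕ → Scheme.{u}) (Q : ∀ n, SymProd.fibPow (coprod.desc f f') n ⟶ T n) (h : ∀ n, T n ⟶ Y)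
    (hT : ∀ n, SymProd.IsSymProd (coprod.desc f f') n (Q n) (h n))
    [∀ n, LocallyOfFiniteType (h n)] [∀ n, QuasiCompact (h n)] :
    PowerSeries.mk (fun n => K0Var.cl (h n)) =
      PowerSeries.mk (fun n => K0Var.cl (g n)) * PowerSeries.mk (fun n => K0Var.cl (g' n)) := by
  have hY := Groth.Agent.Lib.SymSplit.Quot.Inv.of_field pY
  ext n
  rw [PowerSeries.coeff_mk, PowerSeries.coeff_mul,
    Finset.Nat.sum_antidiagonal_eq_sum_range_succ
      (fun a b => PowerSeries.coeff a (PowerSeries.mk fun i => K0Var.cl (g i)) *
        PowerSeries.coeff b (PowerSeries.mk fun i => K0Var.cl (g' i))) n]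
  let V : ℕ → (T n).Opens := fun a => Groth.Agent.Lib.SymSplit.Piece.piece f f' (hT n) a
  have hc : ∀ a, IsClosed (V a : Set (T n)) := fun a =>
    Groth.Agent.Lib.SymSplit.Piece.isClosed_piece f f' (hT n) a
  haveI := fun a => Groth.Agent.Lib.SymSplit.Classes.isClosedImmersion_ι (V a) (hc a)
  haveI := Groth.Agent.Lib.SymSplit.Classes.isClosedImmersion_ι (⊤ : (T n).Opens) isClosed_univ
  have hsum := Groth.Agent.Lib.SymSplit.Classes.cl_eq_sum (h n) V hc
    (fun a b hab t ha hb => Groth.Agent.Lib.SymSplit.Piece.piece_disjoint f f' (hT n) hab t ha hb)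
    (n + 1) ⊤ isClosed_univ (Set.ext fun t => by
      obtain ⟨a, ha, hta⟩ := Groth.Agent.Lib.SymSplit.Piece.piece_cover f f' (hT n) t
      exact ⟨fun _ => Set.mem_iUnion₂.mpr ⟨a, Finset.mem_range.mpr (by omega), hta⟩, fun _ => trivial⟩)
  have htop : K0Var.cl ((⊤ : (T n).Opens).ι ≫ h n) = K0Var.cl (h n) :=
    K0Var.cl_congr _ _ (Scheme.topIso (T n)) (by simp)
  rw [← htop, hsum]
  refine Finset.sum_congr rfl fun a ha => ?_
  rw [PowerSeries.coeff_mk, PowerSeries.coeff_mk, ← K0Var.cl_mul]
  have hn : a + (n - a) = n := Nat.add_sub_cancel' (Nat.lt_succ_iff.mp (Finset.mem_range.mp ha))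
  clear hsum htop
  revert hn
  generalize n - a = b
  rintro rfl
  obtain ⟨e, he⟩ := Groth.Agent.Lib.SymSplit.Piece.exists_iso f f' (hT (a + b)) hY (hS a) (hS' b)
  exact K0Var.cl_congr _ _ e he

end Groth.Agent.S17498
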