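import Groth.Statements.S17499


set_option autoImplicit false
universe u
open RelQuot

namespace Groth.Agent.S17499

open CategoryTheory CategoryTheory.Limits AlgebraicGeometry in
/-- Let k be an algebraically closed field of characteristic zero, X, Y and F schemes of finite type
over k, and f : X → Y a morphism over k which is a Zariski locally trivial fibration with fibre F:
every point of Y has an open neighbourhood U together with an isomorphism from f⁻¹(U) to U ×_k F
whose composite with the first projection is the restriction of f. Then in the Grothendieck ring of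
k-schemes of finite type the class of X equals [Y] · [F]. The published statement is for varieties;
it is stated here for schemes of finite type over k, which present the same ring. -/
theorem result
    (k : Type u) [Field k] [IsAlgClosed k] [CharZero k] {X Y F : Scheme.{u}}
    (pY : Y ⟶ Spec (CommRingCat.of k)) [LocallyOfFiniteType pY] [QuasiCompact pY]
    (pF : F ⟶ Spec (CommRingCat.of k)) [LocallyOfFiniteType pF] [QuasiCompact pF]
    (f : X ⟶ Y) [LocallyOfFiniteType f] [QuasiCompact f]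
    (hf : ∀ y : Y, ∃ (U : Y.Opens) (e : (f ⁻¹ᵁ U).toScheme ≅ pullback (U.ι ≫ pY) pF),
      y ∈ U ∧ e.hom ≫ pullback.fst (U.ι ≫ pY) pF = f ∣_ U) :
    K0Var.cl (f ≫ pY) = K0Var.cl pY * K0Var.cl pF := by
  have : IsLocallyNoetherian Y := LocallyOfFiniteType.isLocallyNoetherian pY
  have : CompactSpace Y := QuasiCompact.compactSpace_of_compactSpace pY
  have : IsNoetherian Y := {}
  suffices key : ∀ (C : TopologicalSpace.Closeds Y) (Z E : Scheme.{u}) (i : Z ⟶ Y) [IsClosedImmersion i]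
      (g : E ⟶ Z) (h : E ⟶ X) [LocallyOfFiniteType g] [QuasiCompact g],
      IsPullback h g f i → Set.range i = C →
        K0Var.cl (g ≫ i ≫ pY) = K0Var.cl (i ≫ pY) * K0Var.cl pF by
    have := key ⊤ Y X (𝟙 Y) f (𝟙 X) (IsPullback.id_horiz f)
      (Set.eq_univ_of_forall fun y => ⟨y, rfl⟩)
    simpa using this
  intro C
  induction C using WellFoundedLT.induction with
  | _ C ih =>
  intro Z E i _ g h _ _ sq hC
  have : IsLocallyNoetherian Z := LocallyOfFiniteType.isLocallyNoetherian (i ≫ pY)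
  rcases isEmpty_or_nonempty Z with hZ | ⟨⟨z⟩⟩
  · have : IsEmpty E := Function.isEmpty g
    rw [K0Var.cl_eq_gen_cl, K0Var.cl_eq_gen_cl (i ≫ pY), K0Var.Gen.cl_eq_zero_of_isEmpty,
      K0Var.Gen.cl_eq_zero_of_isEmpty ⟨Z, i ≫ pY⟩, zero_mul]
  obtain ⟨U, e, hz, he⟩ := hf (i z)
  let V : Z.Opens := i ⁻¹ᵁ U
  let W : Z.IdealSheafData := Scheme.IdealSheafData.vanishingIdeal
    ⟨(V : Set Z)ᶜ, V.isOpen.isClosed_compl⟩
  have hW : Set.range W.subschemeι = (V : Set Z)ᶜ := by
    rw [Scheme.IdealSheafData.range_subschemeι, Scheme.IdealSheafData.coe_support_vanishingIdeal]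
    rfl
  let gV : (g ⁻¹ᵁ V).toScheme ⟶ V.toScheme := g ∣_ V
  let gW := pullback.snd g W.subschemeι
  have sW : IsPullback (pullback.fst g W.subschemeι) gW g W.subschemeι :=
    .of_hasPullback g W.subschemeι
  let D : TopologicalSpace.Closeds Y :=
    ⟨Set.range (W.subschemeι ≫ i), (W.subschemeι ≫ i).isClosedEmbedding.isClosed_range⟩
  have hD : D < C := by
    have h1 : (D : Set Y) = i '' (V : Set Z)ᶜ := by
      rw [← hW, ← Set.range_comp]; rfl
    refine lt_of_le_of_ne (fun y hy => ?_) fun e' => ?_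
    · show y ∈ (C : Set Y)
      rw [← hC]
      change y ∈ (D : Set Y) at hy
      rw [h1] at hy
      exact Set.image_subset_range _ _ hy
    · have : i z ∈ (D : Set Y) := by rw [e', ← hC]; exact ⟨z, rfl⟩
      rw [h1] at this
      obtain ⟨z', hz', hzz⟩ := this
      exact hz' (i.isEmbedding.injective hzz ▸ hz)
  have h2 := ih D hD _ _ (W.subschemeι ≫ i) gW (pullback.fst g W.subschemeι ≫ h)
    (sW.paste_horiz sq) rfl
  -- the piece over `V` is trivial
  let v : V.toScheme ⟶ U.toScheme := i ∣_ U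
  have hv : v ≫ U.ι = V.ι ≫ i := morphismRestrict_ι i U
  have sV : IsPullback ((g ⁻¹ᵁ V).ι ≫ h) gV f (V.ι ≫ i) :=
    (isPullback_morphismRestrict g V).flip.paste_horiz sq
  obtain ⟨l, hl, hl'⟩ : ∃ l : (g ⁻¹ᵁ V).toScheme ⟶ (f ⁻¹ᵁ U).toScheme,
      l ≫ (f ⁻¹ᵁ U).ι = (g ⁻¹ᵁ V).ι ≫ h ∧ l ≫ f ∣_ U = gV ≫ v :=
    ⟨(isPullback_morphismRestrict f U).flip.lift ((g ⁻¹ᵁ V).ι ≫ h) (gV ≫ v)
      (by rw [sV.w, Category.assoc, hv]),
      IsPullback.lift_fst _ _ _ _, IsPullback.lift_snd _ _ _ _⟩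
  have sl : IsPullback l gV (f ∣_ U) v :=
    IsPullback.of_right (by rw [hl, hv]; exact sV) hl' (isPullback_morphismRestrict f U).flip
  have sU : IsPullback (e.hom ≫ pullback.snd (U.ι ≫ pY) pF) (f ∣_ U) pF (U.ι ≫ pY) :=
    (IsPullback.of_hasPullback (U.ι ≫ pY) pF).flip.of_iso e.symm (Iso.refl _) (Iso.refl _)
      (Iso.refl _) (by simp) (by simp [← he]) (by simp) (by simp)
  have sF := (sl.paste_horiz sU).flip
  have h3 : K0Var.cl ((gV ≫ (v ≫ U.ι ≫ pY))) = K0Var.cl (v ≫ U.ι ≫ pY) * K0Var.cl pF := by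
    rw [← K0Var.cl_mul]
    exact K0Var.cl_congr _ _ sF.isoPullback (by rw [← Category.assoc, sF.isoPullback_hom_fst])
  -- cut and paste
  have rV : Set.range V.ι = (V : Set Z) := V.range_ι
  have : IsLocallyNoetherian E := LocallyOfFiniteType.isLocallyNoetherian (g ≫ i ≫ pY)
  rw [K0Var.cl_scissor (i ≫ pY) W.subschemeι V.ι (by rw [hW, rV]),
    K0Var.cl_scissor (g ≫ i ≫ pY) (pullback.fst g W.subschemeι) (g ⁻¹ᵁ V).ι
      (by rw [Scheme.Pullback.range_fst, hW, Scheme.Opens.range_ι]; rfl)]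
  simp only [reassoc_of% hv, Category.assoc] at h3 h2
  have a1 : pullback.fst g W.subschemeι ≫ g ≫ i ≫ pY = gW ≫ W.subschemeι ≫ i ≫ pY := by
    simp only [gW, pullback.condition_assoc]
  have a2 : (g ⁻¹ᵁ V).ι ≫ g ≫ i ≫ pY = gV ≫ V.ι ≫ i ≫ pY := by
    simp only [gV, morphismRestrict_ι_assoc]
  simp only [a1, a2, h2, h3, add_mul]

end Groth.Agent.S17499
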