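import Groth.Statements.S1750
import Groth.Agent.Lib.InjHull.Recognize
import Mathlib.LinearAlgebra.TensorProduct.Tower
-- import your own Groth.Agent.* helpers here

set_option autoImplicit false
universe u
open InjHull

namespace Groth.Agent.S1750

/-- Let R → S be a flat local homomorphism of Noetherian local rings with m_R S = m_S inducing a
bijection on residue fields. If κ_S → E is an injective hull of the residue field of S over S, then
E regarded as an R-module is an injective hull of the residue field of R (for a suitable R-linear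
map κ_R → E). -/
theorem result (R S : Type u) [CommRing R] [CommRing S] [IsLocalRing R] [IsLocalRing S] [IsNoetherianRing R] [IsNoetherianRing S] [Algebra R S] [IsLocalHom (algebraMap R S)] [Module.Flat R S] (hm : (IsLocalRing.maximalIdeal R).map (algebraMap R S) = IsLocalRing.maximalIdeal S) (hk : Function.Bijective (IsLocalRing.ResidueField.map (algebraMap R S))) (E : Type u) [AddCommGroup E] [Module S E] [Module R E] [IsScalarTower R S E] (f : IsLocalRing.ResidueField S →ₗ[S] E) (hf : InjHull.IsInjectiveHull f) : ∃ g : IsLocalRing.ResidueField R →ₗ[R] E, InjHull.IsInjectiveHull g := by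
  classical
  have hE := hf.isInjective
  have hinj : Module.Injective R E := by
    refine ⟨fun P Q _ _ _ _ i hi φ => ?_⟩
    obtain ⟨ψ, hψ⟩ := hE.out (i.baseChange S)
      (by rw [LinearMap.baseChange_eq_ltensor]; exact Module.Flat.lTensor_preserves_injective_linearMap i hi)
      (φ.liftBaseChange S)
    refine ⟨(ψ.restrictScalars R) ∘ₗ (TensorProduct.mk R S Q 1), fun p => ?_⟩
    show ψ ((1 : S) ⊗ₜ[R] i p) = φ p
    rw [← LinearMap.baseChange_tmul, hψ, LinearMap.liftBaseChange_tmul, one_smul]
  let ρ : IsLocalRing.ResidueField R →ₗ[R] E :=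
    (f.restrictScalars R) ∘ₗ
      { toFun := IsLocalRing.ResidueField.map (algebraMap R S)
        map_add' := map_add _
        map_smul' := fun r x => by
          obtain ⟨x, rfl⟩ := Ideal.Quotient.mk_surjective x
          show IsLocalRing.ResidueField.map (algebraMap R S) (IsLocalRing.residue R (r * x)) = _
          rw [IsLocalRing.ResidueField.map_residue, map_mul, map_mul]
          show _ = r • IsLocalRing.ResidueField.map (algebraMap R S) (IsLocalRing.residue R x)
          rw [IsLocalRing.ResidueField.map_residue, Algebra.smul_def]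
          rfl }
  refine ⟨ρ, ⟨Groth.Agent.Lib.InjHull.Recognize.isEssentialInj_of_socle_le
    (a := IsLocalRing.maximalIdeal R) (hf.injective.comp hk.1) ?_ ?_, hinj⟩⟩
  · intro x
    obtain ⟨k, hkk⟩ := Groth.Agent.Lib.InjHull.Matlis.isPowerTorsion
      (m := IsLocalRing.maximalIdeal S) hf.toIsEssentialInj x
    refine ⟨k, fun a ha => ?_⟩
    rw [← algebraMap_smul S a x]
    exact hkk _ (hm ▸ Ideal.map_pow (algebraMap R S) _ k ▸ Ideal.mem_map_of_mem _ ha)
  · intro x hx
    have hker : IsLocalRing.maximalIdeal S ≤ LinearMap.ker (LinearMap.toSpanSingleton S E x) := by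
      rw [← hm, Ideal.map_le_iff_le_comap]
      intro a ha
      show algebraMap R S a • x = 0
      rw [algebraMap_smul]
      exact (Submodule.mem_torsionBySet_iff _ _).mp hx ⟨a, ha⟩
    have hx' : x ∈ LocCoh.torsionBy (IsLocalRing.maximalIdeal S) E :=
      (Submodule.mem_torsionBySet_iff _ _).mpr fun a => hker a.2
    obtain ⟨c, hc⟩ := (Groth.Agent.Lib.InjHull.Matlis.torsionBy_eq_range
      (m := IsLocalRing.maximalIdeal S) hf.toIsEssentialInj).le hx'
    obtain ⟨d, hd⟩ := hk.2 c
    exact ⟨d, (congrArg f hd).trans hc⟩


end Groth.Agent.S1750
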