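import Groth.Statements.S17500
import Mathlib.RingTheory.Flat.EquationalCriterion
import Mathlib.RingTheory.Flat.Tensor
import Mathlib.RingTheory.ZMod
-- import your own Groth.Agent.* helpers here

set_option autoImplicit false
universe u
open TorsMod

namespace Groth.Agent.S17500

/-- Let p be a prime number, n a natural number and H a module over ℤ/p^nℤ. Then H is flat over ℤ/p^nℤ
if and only if, for every i with 0 ≤ i ≤ n, the kernel of multiplication by p^i on H coincides with
the image of multiplication by p^(n-i) on H. (The published item is phrased for an fppf sheaf of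
ℤ/p^nℤ-modules on a scheme; this is the case of a single module, which is the case the argument
treats.) -/
theorem result (p n : ℕ) [Fact p.Prime]
    (H : Type u) [AddCommGroup H] [Module (ZMod (p ^ n)) H] :
    Module.Flat (ZMod (p ^ n)) H ↔
      ∀ i : ℕ, i ≤ n →
        LinearMap.ker ((p ^ i : ZMod (p ^ n)) • (LinearMap.id : H →ₗ[ZMod (p ^ n)] H)) =
          LinearMap.range ((p ^ (n - i) : ZMod (p ^ n)) • (LinearMap.id : H →ₗ[ZMod (p ^ n)] H)) := by
  have hp := (Fact.out : p.Prime)
  have key : ∀ i, i ≤ n → ∀ a : ZMod (p ^ n), (p : ZMod (p ^ n)) ^ i * a = 0 → ∃ c, a = (p : ZMod (p ^ n)) ^ (n - i) * c := by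
    intro i hi a ha
    haveI : NeZero (p ^ n) := ⟨pow_ne_zero _ hp.ne_zero⟩
    rw [← ZMod.natCast_zmod_val a, ← Nat.cast_pow, ← Nat.cast_mul, ZMod.natCast_eq_zero_iff] at ha
    obtain ⟨c, hc⟩ : p ^ (n - i) ∣ a.val := Nat.dvd_of_mul_dvd_mul_left (pow_pos hp.pos i)
      (by rwa [← pow_add, Nat.add_sub_cancel' hi])
    exact ⟨c, by rw [← ZMod.natCast_zmod_val a, hc, Nat.cast_mul, Nat.cast_pow]⟩
  have hzero : ∀ i, i ≤ n → (p : ZMod (p ^ n)) ^ i * (p : ZMod (p ^ n)) ^ (n - i) = 0 := fun i hi => by
    rw [← pow_add, Nat.add_sub_cancel' hi, ← Nat.cast_pow, ZMod.natCast_self]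
  constructor
  · intro hf i hi
    refine le_antisymm (fun x hx => ?_) ?_
    · simp only [LinearMap.mem_ker, LinearMap.smul_apply, LinearMap.id_apply] at hx
      obtain ⟨κ, a, y, hxy, ha⟩ := Module.Flat.isTrivialRelation_of_sum_smul_eq_zero
        (f := fun _ : Fin 1 => (p : ZMod (p ^ n)) ^ i) (x := fun _ => x) (by simpa using hx)
      choose c hc using fun j => key i hi (a 0 j) (by simpa using ha j)
      refine ⟨∑ j, c j • y j, ?_⟩
      rw [LinearMap.smul_apply, LinearMap.id_apply, Finset.smul_sum]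
      exact (Finset.sum_congr rfl fun j _ => by rw [hc, mul_smul]).trans (hxy 0).symm
    · rintro _ ⟨y, rfl⟩
      simp only [LinearMap.mem_ker, LinearMap.smul_apply, LinearMap.id_apply, smul_smul, hzero i hi, zero_smul]
  · intro h
    rw [Module.Flat.iff_lift_lsmul_comp_subtype_injective]
    intro I _
    obtain ⟨i, hi, hI⟩ : ∃ i, i ≤ n ∧ I = Ideal.span {(p : ZMod (p ^ n)) ^ i} := by
      let q := Int.castRingHom (ZMod (p ^ n))
      have hq : Function.Surjective q := ZMod.intCast_surjective
      obtain ⟨d, hd⟩ := IsPrincipalIdealRing.principal (I.comap q)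
      have hd' : I.comap q = Ideal.span {d} := hd
      have h1 : ((p ^ n : ℕ) : ℤ) ∈ I.comap q := by
        rw [Ideal.mem_comap, map_natCast, ZMod.natCast_self]; exact zero_mem _
      rw [hd', Ideal.mem_span_singleton] at h1
      obtain ⟨i, hi, hdi⟩ := (Nat.dvd_prime_pow hp).1 (Int.natAbs_dvd_natAbs.2 h1 |>.trans (by rw [Int.natAbs_natCast]))
      refine ⟨i, hi, ?_⟩
      rw [← Ideal.map_comap_of_surjective q hq I, hd', ← Ideal.span_singleton_eq_span_singleton.2 (Int.associated_natAbs d).symm, hdi, Ideal.map_span, Set.image_singleton, map_natCast, Nat.cast_pow]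
    subst hI
    set g : Ideal.span {(p : ZMod (p ^ n)) ^ i} := ⟨_, Ideal.mem_span_singleton_self _⟩ with hg
    have hgen : ∀ t : TensorProduct (ZMod (p ^ n)) ↥(Ideal.span {(p : ZMod (p ^ n)) ^ i}) H, ∃ x, t = TensorProduct.tmul _ g x := by
      intro t
      induction t using TensorProduct.induction_on with
      | zero => exact ⟨0, by simp⟩
      | tmul a x =>
        obtain ⟨b, hb⟩ := Ideal.mem_span_singleton'.1 a.2
        refine ⟨b • x, ?_⟩
        rw [show a = b • g from Subtype.ext hb.symm, TensorProduct.smul_tmul]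
      | add s t hs ht =>
        obtain ⟨x, rfl⟩ := hs
        obtain ⟨y, rfl⟩ := ht
        exact ⟨x + y, (TensorProduct.tmul_add _ _ _).symm⟩
    refine (injective_iff_map_eq_zero _).2 fun t ht => ?_
    obtain ⟨x, rfl⟩ := hgen t
    have hx : x ∈ LinearMap.ker ((p ^ i : ZMod (p ^ n)) • (LinearMap.id : H →ₗ[ZMod (p ^ n)] H)) := by
      simpa [g] using ht
    rw [h i hi] at hx
    obtain ⟨y, rfl⟩ := hx
    rw [LinearMap.smul_apply, LinearMap.id_apply, ← TensorProduct.smul_tmul,
      show ((p : ZMod (p ^ n)) ^ (n - i)) • g = 0 from Subtype.ext (by rw [SetLike.val_smul, smul_eq_mul, mul_comm]; exact hzero i hi), TensorProduct.zero_tmul]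

end Groth.Agent.S17500
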