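import Groth.Statements.S17504
import Groth.Agent.H48.QAmpleTwist

set_option autoImplicit false
universe u
open CategoryTheory CategoryTheory.Limits MonoidalCategory CartesianMonoidalCategory MonObj GrpObj AlgebraicGeometry
open AbVar

namespace Groth.Agent.S17504

/-- Let X be an abelian variety over a field k (a proper, geometrically integral k-group scheme), let L₁
and L₂ be invertible O_X-modules and M an O_X-module isomorphic to L₁ ⊗ L₂. Suppose that the
cohomology of L₁ is concentrated in degree i₁: H^j(X, L₁) = 0 for j ≠ i₁ and H^i₁(X, L₁) ≠ 0, that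
likewise the cohomology of L₂ is concentrated in degree i₂, and that of M in degree i, each non-zero
in that degree (all three line bundles non-degenerate, with indices i₁, i₂, i). Then i ≤ i₁ + i₂. (A
line bundle on an abelian variety is non-degenerate with index i exactly when its cohomology
vanishes outside degree i and is non-zero in degree i; this is how non-degeneracy and the index are
expressed here.) -/
theorem result
    (k : Type u) [Field k] (X : Over (Spec (CommRingCat.of k))) [GrpObj X] [IsProper X.hom] [GeometricallyIntegral X.hom]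
    (L₁ L₂ M : X.left.Modules) (hL₁ : PicF.IsInvertible L₁) (hL₂ : PicF.IsInvertible L₂)
    (hM : Nonempty (M ≅ CohB1.tensorMod L₁ L₂)) (i₁ i₂ i : ℕ)
    (h₁ : ∀ j : ℕ, j ≠ i₁ → Subsingleton (Coh.HH X.left L₁ j)) (h₁' : Nontrivial (Coh.HH X.left L₁ i₁))
    (h₂ : ∀ j : ℕ, j ≠ i₂ → Subsingleton (Coh.HH X.left L₂ j)) (h₂' : Nontrivial (Coh.HH X.left L₂ i₂))
    (h : ∀ j : ℕ, j ≠ i → Subsingleton (Coh.HH X.left M j)) (h' : Nontrivial (Coh.HH X.left M i)) :
    i ≤ i₁ + i₂ := by
  letI : ∀ Y : Scheme.{u}, PicGrp.Law Y := Groth.Agent.Lib.TensorMod.Invertible.law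
  haveI := Groth.Agent.H63.AVBaseChange.isProper_bc (AlgebraicClosure k) X
  haveI := Groth.Agent.H63.AVBaseChange.geometricallyIntegral_bc (AlgebraicClosure k) X
  haveI := Groth.Agent.H52.BaseToClosure.smooth_bc X
  obtain ⟨e⟩ := hM
  have hMi : PicF.IsInvertible M := Groth.Agent.Lib.TensorMod.Invertible.isInvertible_of_iso e.symm
    (Groth.Agent.Lib.TensorMod.Invertible.isInvertible_tensorMod hL₁ hL₂)
  let π := Groth.Agent.H52.BaseToClosure.proj X
  letI : (Groth.Agent.H63.AVBaseChange.bc (AlgebraicClosure k) X).left.Over (Spec (CommRingCat.of (AlgebraicClosure k))) := ⟨(Groth.Agent.H63.AVBaseChange.bc (AlgebraicClosure k) X).hom⟩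
  haveI : IsProper ((Groth.Agent.H63.AVBaseChange.bc (AlgebraicClosure k) X).left ↘ Spec (CommRingCat.of (AlgebraicClosure k))) :=
    Groth.Agent.H63.AVBaseChange.isProper_bc (AlgebraicClosure k) X
  obtain ⟨g, hg⟩ := Groth.Agent.H52.BaseToClosure.exists_dim X
  have hgA := Groth.Agent.H63.AVBaseChange.topologicalKrullDim_bc (AlgebraicClosure k) X hg
  have c₁ := (Groth.Agent.H52.BaseToClosure.conc_iff X hL₁ i₁).1 ⟨h₁, h₁'⟩
  have c₂ := (Groth.Agent.H52.BaseToClosure.conc_iff X hL₂ i₂).1 ⟨h₂, h₂'⟩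
  have c := (Groth.Agent.H52.BaseToClosure.conc_iff X hMi i).1 ⟨h, h'⟩
  have l₁ := PicLoc.isInvertible_pullback π hL₁
  have l₂ := PicLoc.isInvertible_pullback π hL₂
  have lM := PicLoc.isInvertible_pullback π hMi
  obtain ⟨H, hH⟩ := Groth.Agent.H63.AVProjective.exists_isAmple (Groth.Agent.H63.AVBaseChange.bc (AlgebraicClosure k) X)
  have eH := Groth.Agent.Lib.TensorMod.Invertible.tensorDualIso hH.1
  by_contra hlt
  obtain ⟨n₀, hn⟩ := Groth.Agent.H48.QAmpleBox.tensor_vanish (k := AlgebraicClosure k) hH eH l₁ l₂ i₁ i₂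
    (Groth.Agent.H48.QAmpleTwist.twist_vanish hgA l₁ c₁ hH eH)
    (Groth.Agent.H48.QAmpleTwist.twist_vanish hgA l₂ c₂ hH eH) i (not_le.1 hlt)
  obtain ⟨-, hne⟩ := Groth.Agent.H52.PowIndex.pow_index _ lM
    (Groth.Agent.H52.BaseToClosure.nondeg_of_conc _ lM i c) (n₀ + 1) n₀.succ_pos i c.2
  haveI := hne
  refine not_subsingleton (Coh.HH (Groth.Agent.H63.AVBaseChange.bc (AlgebraicClosure k) X).left (CohB1.tensorPow ((Scheme.Modules.pullback π).obj M) (n₀ + 1)) i) ?_
  exact Groth.Agent.Lib.ProjKoszul.Chase.subsingleton_of_iso (AlgebraicClosure k)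
    (Groth.Agent.Lib.Ample.Pow.powIso ((Scheme.Modules.pullback π).mapIso e ≪≫
      Groth.Agent.Lib.TensorMod.Pullback.pullbackTensorIso π L₁ L₂) (n₀ + 1)).symm
    (hn (n₀ + 1) n₀.le_succ)

end Groth.Agent.S17504
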