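import Groth.Statements.S17510
import Groth.Agent.H52.HilbertDescent

set_option autoImplicit false
universe u
open CategoryTheory CategoryTheory.Limits MonoidalCategory CartesianMonoidalCategory MonObj GrpObj AlgebraicGeometry
open AbVar

namespace Groth.Agent.S17510

/-- Let X be an abelian variety over a field k (a proper, geometrically integral k-group scheme), let L
be an invertible O_X-module with H^j(X, L) = 0 for j ≠ i and H^i(X, L) ≠ 0, H an ample invertible
O_X-module, and M an O_X-module isomorphic to L ⊗ H with H^j(X, M) = 0 for j ≠ i' and H^{i'}(X, M) ≠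
0 (so L and L ⊗ H are non-degenerate with indices i and i'). Let Φ be a polynomial with rational
coefficients such that Φ(n) = χ(X, L ⊗ H^{⊗ n}) for every natural number n, and suppose Φ has
exactly one real root τ in the interval [0, 1], with τ ≠ 1. Then i ≤ i' + μ, where μ is the
multiplicity of τ as a root of Φ. (Non-degeneracy with index i is expressed by the equivalent
condition that the cohomology is concentrated in degree i and non-zero there.) -/
theorem result
    (k : Type u) [Field k] (X : Over (Spec (CommRingCat.of k))) [GrpObj X] [IsProper X.hom] [GeometricallyIntegral X.hom]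
    (L H M : X.left.Modules) (hL : PicF.IsInvertible L) (hH : CohB1.IsAmple H)
    (hM : Nonempty (M ≅ CohB1.tensorMod L H)) (i i' : ℕ)
    (hvan : ∀ j : ℕ, j ≠ i → Subsingleton (Coh.HH X.left L j)) (hne : Nontrivial (Coh.HH X.left L i))
    (hvan' : ∀ j : ℕ, j ≠ i' → Subsingleton (Coh.HH X.left M j)) (hne' : Nontrivial (Coh.HH X.left M i'))
    (Φ : Polynomial ℚ)
    (hΦ : ∀ n : ℕ, Φ.eval (n : ℚ) =
      (@Curv2.euler k _ X.left ⟨X.hom⟩ (CohB1.tensorMod L (CohB1.tensorPow H n)) : ℚ))
    (τ : ℝ) (hτ0 : 0 ≤ τ) (hτ1 : τ < 1) (hτ : (Φ.map (algebraMap ℚ ℝ)).eval τ = 0)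
    (huniq : ∀ t : ℝ, 0 ≤ t → t ≤ 1 → (Φ.map (algebraMap ℚ ℝ)).eval t = 0 → t = τ) :
    i ≤ i' + (Φ.map (algebraMap ℚ ℝ)).rootMultiplicity τ := by
  haveI := Groth.Agent.H63.AVBaseChange.isProper_bc (AlgebraicClosure k) X
  haveI := Groth.Agent.H63.AVBaseChange.geometricallyIntegral_bc (AlgebraicClosure k) X
  haveI := Groth.Agent.H52.BaseToClosure.smooth_bc X
  obtain ⟨g, D⟩ := Groth.Agent.H52.HilbertDescent.exists_data X hL hH hΦ
  have hc := (Groth.Agent.H52.BaseToClosure.conc_iff X hL i).1 ⟨hvan, hne⟩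
  obtain ⟨eM⟩ := hM
  have hLH := Groth.Agent.Lib.TensorMod.Invertible.isInvertible_tensorMod hL hH.1
  have hc' := Groth.Agent.H52.BaseToClosure.conc_of_iso
    (Groth.Agent.H52.HilbertDescent.oneIso X (Iso.refl _))
    ((Groth.Agent.H52.BaseToClosure.conc_iff X hLH i').1
      (Groth.Agent.H52.BaseToClosure.conc_of_iso eM ⟨hvan', hne'⟩))
  obtain ⟨h0, h0ne⟩ := Groth.Agent.H52.HilbertRoots.J_zero D hc
  obtain ⟨h1, h1ne⟩ := Groth.Agent.H52.HilbertRoots.J_nat D (n := 1) hc'
  rw [Nat.cast_one] at h1 h1ne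
  have hτpos : 0 < τ := hτ0.lt_of_ne fun h => h0ne (h ▸ hτ)
  refine Groth.Agent.H52.HilbertJump.jump_le D (τ := τ) (eta := min τ (1 - τ)) (lt_min hτpos (sub_pos.2 hτ1))
    (min_le_left _ _) ?_ ?_ (Groth.Agent.H52.HilbertRoots.ne_zero D hc)
  · intro s h1' h2'
    exact Groth.Agent.H52.HilbertJump.J_interval D le_rfl (by linarith [min_le_left τ (1 - τ)])
      (fun y hy hy' hy0 => absurd (huniq y hy (by linarith) hy0) (by linarith [hy'])) h0
  · intro t h1' h2'
    have ht1 : t ≤ 1 := by linarith [min_le_right τ (1 - τ)]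
    obtain ⟨j, -, hj⟩ := Groth.Agent.H52.HilbertJump.exists_J D (x := t) (by linarith)
      (fun h => absurd (huniq t (by linarith) ht1 h) (by linarith))
    have := Groth.Agent.H52.HilbertJump.J_interval D (by linarith) ht1
      (fun y hy hy' hy0 => absurd (huniq y (by linarith) hy' hy0) (by linarith)) hj
    rwa [Groth.Agent.H52.HilbertJump.J_unique D zero_le_one h1 this]

end Groth.Agent.S17510
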