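import Groth.Statements.S17511
import Groth.Agent.H52.RelAcyclic
import Groth.Agent.Lib.Cube.FamCx
import Groth.Agent.Lib.Ample.GG
import Groth.Agent.Lib.Cube.SemiCont

set_option autoImplicit false
universe u
open CategoryTheory CategoryTheory.Limits MonoidalCategory CartesianMonoidalCategory MonObj GrpObj AlgebraicGeometry
open AbVar

namespace Groth.Agent.S17511

/-- In an algebraic family of line bundles the index cannot jump locally. Let X be an abelian variety
over a field k (a proper, geometrically integral k-group scheme), let T be a locally Noetherian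
k-scheme, M an invertible module on X ×_k T, and for each point t of T let M_t be the pull-back of M
to the fibre X ×_k Spec k(t). Suppose every M_t is non-degenerate, with index idx(t): H^j(X ×_k Spec
k(t), M_t) = 0 for j ≠ idx(t) and H^{idx(t)} ≠ 0. Then t ↦ idx(t) is a locally constant function on
T. (Non-degeneracy with index i is expressed by the equivalent condition that the cohomology is
concentrated in degree i and non-zero there.) -/
theorem result
    (k : Type u) [Field k] (X : Over (Spec (CommRingCat.of k))) [GrpObj X] [IsProper X.hom] [GeometricallyIntegral X.hom]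
    (T : Over (Spec (CommRingCat.of k))) [IsLocallyNoetherian T.left]
    (M : (X ⊗ T).left.Modules) (hM : PicF.IsInvertible M)
    (idx : ↥T.left → ℕ)
    (hidx : ∀ t : ↥T.left,
      (∀ j : ℕ, j ≠ idx t →
        Subsingleton (Coh.HH (pullback (snd X T).left (T.left.fromSpecResidueField t))
          ((Scheme.Modules.pullback (pullback.fst (snd X T).left (T.left.fromSpecResidueField t))).obj M) j)) ∧
      Nontrivial (Coh.HH (pullback (snd X T).left (T.left.fromSpecResidueField t))
          ((Scheme.Modules.pullback (pullback.fst (snd X T).left (T.left.fromSpecResidueField t))).obj M) (idx t))) :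
    IsLocallyConstant idx := by
  let f := (snd X T).left
  haveI : Flat X.hom := inferInstance
  haveI : IsProper f := inferInstanceAs (IsProper (pullback.snd X.hom T.hom))
  haveI : Flat f := inferInstanceAs (Flat (pullback.snd X.hom T.hom))
  haveI : LocallyOfFiniteType f := inferInstance
  haveI : IsLocallyNoetherian (X ⊗ T).left := LocallyOfFiniteType.isLocallyNoetherian f
  have hcoh := Groth.Agent.Lib.Ample.GG.isCoh_of_isInvertible hM
  have hfl := Groth.Agent.Lib.Cube.FamCx.isFlatOver_of_isInvertible f hM
  have hid : ∀ (t : T.left) (j : ℕ), idx t ≠ j → CohIII.fiberRank f M j t = 0 := fun t j hj => by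
    haveI : Subsingleton (CohIII.fiberH f M t j) := (hidx t).1 j (Ne.symm hj)
    exact Module.finrank_zero_of_subsingleton
  have hnz : ∀ t : T.left, CohIII.fiberRank f M (idx t) t ≠ 0 := fun t h => by
    haveI := Groth.Agent.H52.RelAcyclic.subsingleton_fiberH f M hcoh t (idx t) h
    haveI : Nontrivial (CohIII.fiberH f M t (idx t)) := (hidx t).2
    exact false_of_nontrivial_of_subsingleton (CohIII.fiberH f M t (idx t))
  rw [IsLocallyConstant.iff_eventually_eq]
  intro t₀
  obtain ⟨V, _, P, hy, hP, h⟩ := ZarCoh.Exchange.Grauert.exists_local f M hcoh hfl t₀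
  obtain ⟨b, hb⟩ := hP.bdd
  -- high degrees do not occur
  have hhigh : ∀ j : ℕ, -(j : ℤ) < b → ∀ x, CohIII.dRank P (-(j : ℤ)) x = 0 := fun j hj x => by
    rw [Groth.Agent.Lib.Cube.SemiCont.dRank_eq P _ (-(j : ℤ) - 1) (by omega) x]
    haveI := ModuleCat.subsingleton_of_isZero (hb _ hj)
    haveI : Subsingleton (Groth.Agent.Lib.FlatCx.Basic.Q P (-(j : ℤ))) :=
      (Submodule.mkQ_surjective _).subsingleton
    exact Module.finrank_zero_of_subsingleton
  obtain ⟨x₀, hx₀⟩ := ZarCoh.Exchange.Grauert.exists_preimage V t₀ hy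
  let i := idx t₀
  let O : Set (PrimeSpectrum (ZarCoh.Exchange.Local.AV V)) :=
    ⋂ j ∈ (Finset.range ((-b).toNat + 1)).filter (· ≠ i), {x | CohIII.dRank P (-(j : ℤ)) x = 0}
  have hO : IsOpen O := isOpen_biInter_finset fun j _ => by
    convert (Groth.Agent.Lib.FlatCx.DRank.upperSemicontinuous_dRank P hP.fin (-(j : ℤ))).isOpen_preimage 1 using 1
    ext x
    exact Nat.lt_one_iff.symm
  have hx0O : x₀ ∈ O := by
    simp only [O, Set.mem_iInter, Finset.mem_filter]
    rintro j ⟨-, hj⟩
    show CohIII.dRank P _ x₀ = 0
    rw [← (h j).2 x₀, hx₀]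
    exact hid t₀ j (Ne.symm hj)
  have ho := (ZarCoh.Exchange.LocalRep.k V).isOpenEmbedding
  rw [← hx₀, ← ho.map_nhds_eq x₀, Filter.eventually_map]
  filter_upwards [hO.mem_nhds hx0O] with x hx
  rw [hx₀]
  by_contra hne
  have hj : -(idx (ZarCoh.Exchange.LocalRep.k V x) : ℤ) < b ∨
      idx (ZarCoh.Exchange.LocalRep.k V x) < (-b).toNat + 1 := by omega
  apply hnz (ZarCoh.Exchange.LocalRep.k V x)
  rw [(h _).2 x]
  rcases hj with hj | hj
  · exact hhigh _ hj x
  · exact Set.mem_iInter₂.mp hx _ (Finset.mem_filter.mpr ⟨Finset.mem_range.mpr hj, hne⟩)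

end Groth.Agent.S17511
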