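import Groth.Statements.S17512
import Mathlib.LinearAlgebra.LinearIndependent.Basic
import Mathlib.LinearAlgebra.Dimension.Finite
import Mathlib.LinearAlgebra.Dimension.Constructions
import Mathlib.GroupTheory.Index

set_option autoImplicit false
universe u
open ThetaRep

namespace Groth.Agent.S17512

/-- For the group of k-points of a non-degenerate theta group with constant K, let k be an algebraically
closed field and Γ a group given with an injective homomorphism ι from kˣ onto the centre of Γ such
that K = Γ/ι(kˣ) is finite and commutative (all commutators lie in ι(kˣ)) of order prime to the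
characteristic exponent of k — the group of k-points of a non-degenerate theta group 1 → G_m → G → K
→ 1 with rank(K) prime to char(k). Subgroups of K correspond to subgroups H of Γ containing ι(kˣ);
such an H is totally isotropic for the commutator pairing exactly when it is commutative, and its
orthogonal corresponds to the centralizer of H. For a subgroup H ⊇ ι(kˣ) the following are
equivalent: (i) H is commutative and maximal among commutative subgroups of Γ; (ii) H is commutative
and [H : ι(kˣ)]² = [Γ : ι(kˣ)]; (iii) H is its own centralizer. (The published lemma is for an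
arbitrary non-degenerate theta group scheme, where (iii) ⇔ (ii) ⇒ (i) always and (i) ⇒ (iii) needs k
algebraically closed; this row is the case of the group of k-points with K constant.) -/
theorem result
    (k : Type u) [Field k] [IsAlgClosed k]
    (Γ : Type u) [Group Γ] (ι : kˣ →* Γ) (hι : Function.Injective ι)
    (hcent : ι.range = Subgroup.center Γ) (hcomm : commutator Γ ≤ ι.range)
    [Finite (Γ ⧸ ι.range)] (hcop : (Nat.card (Γ ⧸ ι.range)).Coprime (ringExpChar k))
    (H : Subgroup Γ) (hH : ι.range ≤ H) :
    List.TFAE [
      IsMulCommutative H ∧ ∀ H' : Subgroup Γ, IsMulCommutative H' → H ≤ H' → H' = H,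
      IsMulCommutative H ∧ (ι.range.relIndex H) ^ 2 = ι.range.index,
      H = Subgroup.centralizer (H : Set Γ)] := by
  classical
  set Z := ι.range with hZ
  have hZc : ∀ z ∈ Z, ∀ g : Γ, g * z = z * g := fun z hz g => Subgroup.mem_center_iff.mp (hcent ▸ hz) g
  have hbr : ∀ g h : Γ, ∃ c : kˣ, ι c = g * h * g⁻¹ * h⁻¹ := fun g h =>
    hcomm (by rw [commutator_def]; exact Subgroup.commutator_mem_commutator (Subgroup.mem_top g) (Subgroup.mem_top h))
  choose e he using hbr
  have hzι : ∀ (c : kˣ) (g : Γ), g * ι c = ι c * g := fun c g => hZc _ ⟨c, rfl⟩ g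
  have hmove : ∀ g h, g * h = ι (e g h) * h * g := fun g h => by rw [he]; group
  have he_l : ∀ g g' h, e (g * g') h = e g h * e g' h := fun g g' h => hι (by
    rw [map_mul, he]
    calc g * g' * h * (g * g')⁻¹ * h⁻¹ = g * (g' * h * g'⁻¹ * h⁻¹) * (h * g⁻¹ * h⁻¹) := by group
      _ = g * ι (e g' h) * (h * g⁻¹ * h⁻¹) := by rw [he]
      _ = ι (e g' h) * (g * h * g⁻¹ * h⁻¹) := by rw [hzι]; group
      _ = ι (e g h) * ι (e g' h) := by rw [← he g h, hzι])
  have he_s : ∀ g h, e h g = (e g h)⁻¹ := fun g h => hι (by rw [map_inv, he, he]; group)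
  have he_r : ∀ g h h', e g (h * h') = e g h * e g h' := fun g h h' => by
    rw [he_s (h * h') g, he_l, mul_inv, ← he_s, ← he_s]
  have he_one : ∀ g h, e g h = 1 ↔ g * h = h * g := fun g h => by
    constructor
    · intro h1; rw [hmove g h, h1, map_one, one_mul]
    · intro h1; exact hι (by rw [map_one, he, h1]; group)
  -- characters of a finite group
  have hchar : ∀ (A : Type u) (_ : Group A) (_ : Finite A), Finite (A →* kˣ) ∧ Nat.card (A →* kˣ) ≤ Nat.card A := by
    intro A _ _
    cases nonempty_fintype A
    have hinj : Function.Injective fun f : A →* kˣ => (Units.coeHom k).comp f := fun f g hfg =>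
      MonoidHom.ext fun a => Units.ext (DFunLike.congr_fun hfg a)
    have hli := (linearIndependent_monoidHom A k).comp _ hinj
    haveI : Finite (A →* kˣ) := hli.finite
    cases nonempty_fintype (A →* kˣ)
    refine ⟨inferInstance, ?_⟩
    have h1 := hli.fintype_card_le_finrank
    rw [Module.finrank_fintype_fun_eq_card] at h1
    rwa [Nat.card_eq_fintype_card, Nat.card_eq_fintype_card]
  -- duality between a subgroup and its centralizer
  haveI hZn : Z.Normal := hcent ▸ inferInstance
  haveI : Z.FiniteIndex := Subgroup.finiteIndex_iff_finite_quotient.mpr inferInstance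
  have hdual : ∀ K : Subgroup Γ, Z ≤ K → (Subgroup.centralizer (K : Set Γ)).index = Z.relIndex K := by
    intro K hK
    set C := Subgroup.centralizer (K : Set Γ) with hC
    have hZC : Z ≤ C := fun z hz => Subgroup.mem_centralizer_iff.mpr fun g _ => hZc z hz g
    haveI : C.FiniteIndex := Subgroup.finiteIndex_of_le hZC
    haveI hCn : C.Normal := Subgroup.Normal.mk fun c hc g => by
      have h1 : g * c * g⁻¹ = ι (e g c) * c := by rw [he]; group
      rw [h1]
      exact C.mul_mem (hZC ⟨_, rfl⟩) hc
    let ψ : Γ →* (K ⧸ Z.subgroupOf K) →* kˣ :=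
      MonoidHom.mk' (fun g => QuotientGroup.lift (Z.subgroupOf K) (MonoidHom.mk' (fun x : K => e g x) fun x y => he_r g x y)
        (fun x hx => (he_one g x).mpr (hZc _ hx g)))
        fun g g' => MonoidHom.ext fun q => by
          obtain ⟨x, rfl⟩ := QuotientGroup.mk_surjective q
          exact he_l g g' x
    have hkerψ : ψ.ker = C := by
      ext g
      rw [MonoidHom.mem_ker, hC, Subgroup.mem_centralizer_iff]
      constructor
      · intro h x hx
        have h1 := DFunLike.congr_fun h (QuotientGroup.mk (s := Z.subgroupOf K) ⟨x, hx⟩)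
        exact ((he_one g x).mp h1).symm
      · intro h
        refine MonoidHom.ext fun q => ?_
        obtain ⟨x, rfl⟩ := QuotientGroup.mk_surjective q
        exact (he_one g x).mpr (h x x.2).symm
    haveI : Finite (K ⧸ Z.subgroupOf K) := Subgroup.finiteIndex_iff_finite_quotient.mp inferInstance
    obtain ⟨hf1, hc1⟩ := hchar (K ⧸ Z.subgroupOf K) inferInstance inferInstance
    let φ : K →* (Γ ⧸ C) →* kˣ :=
      MonoidHom.mk' (fun x => QuotientGroup.lift C (MonoidHom.mk' (fun g => e g x) fun a b => he_l a b x)
        (fun g hg => (he_one g x).mpr (Subgroup.mem_centralizer_iff.mp hg x x.2).symm))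
        fun x y => MonoidHom.ext fun q => by
          obtain ⟨g, rfl⟩ := QuotientGroup.mk_surjective q
          exact he_r g x y
    have hkerφ : φ.ker = Z.subgroupOf K := by
      ext x
      rw [MonoidHom.mem_ker, Subgroup.mem_subgroupOf]
      constructor
      · intro h
        rw [hcent, Subgroup.mem_center_iff]
        intro g
        have h1 := DFunLike.congr_fun h (QuotientGroup.mk (s := C) g)
        exact (he_one g x).mp h1
      · intro h
        refine MonoidHom.ext fun q => ?_
        obtain ⟨g, rfl⟩ := QuotientGroup.mk_surjective q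
        exact (he_one g x).mpr (hZc _ h g)
    haveI : Finite (Γ ⧸ C) := Subgroup.finiteIndex_iff_finite_quotient.mp inferInstance
    obtain ⟨hf2, hc2⟩ := hchar (Γ ⧸ C) inferInstance inferInstance
    apply le_antisymm
    · calc C.index = Nat.card ψ.range := by rw [← hkerψ, Subgroup.index_ker]
        _ ≤ Nat.card ((K ⧸ Z.subgroupOf K) →* kˣ) := Finite.card_subtype_le _
        _ ≤ Nat.card (K ⧸ Z.subgroupOf K) := hc1
        _ = Z.relIndex K := rfl
    · calc Z.relIndex K = (φ.ker).index := by rw [hkerφ]; rfl
        _ = Nat.card φ.range := Subgroup.index_ker φ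
        _ ≤ Nat.card ((Γ ⧸ C) →* kˣ) := Finite.card_subtype_le _
        _ ≤ Nat.card (Γ ⧸ C) := hc2
        _ = C.index := rfl
  have hcommiff : IsMulCommutative H ↔ H ≤ Subgroup.centralizer (H : Set Γ) :=
    Subgroup.le_centralizer_iff_isMulCommutative.symm
  haveI : H.FiniteIndex := Subgroup.finiteIndex_of_le hH
  haveI : (Subgroup.centralizer (H : Set Γ)).FiniteIndex :=
    Subgroup.finiteIndex_of_le (H := Z) fun z hz => Subgroup.mem_centralizer_iff.mpr fun g _ => hZc z hz g
  have hmul := Subgroup.relIndex_mul_index hH
  tfae_have 3 → 2 := by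
    intro h3
    refine ⟨hcommiff.mpr h3.le, ?_⟩
    have := hdual H hH
    rw [← h3] at this
    rw [pow_two]
    conv_rhs => rw [← hmul, this]
  tfae_have 2 → 3 := by
    rintro ⟨hc, h2⟩
    have hle := hcommiff.mp hc
    refine le_antisymm hle ?_
    have hpos : 0 < Z.relIndex H := Nat.pos_of_ne_zero fun h0 =>
      Subgroup.FiniteIndex.index_ne_zero (H := Z) (by rw [← hmul, h0, zero_mul])
    have h4 : H.index = Z.relIndex H := Nat.eq_of_mul_eq_mul_left hpos (hmul.trans (by rw [← h2, pow_two]))
    have h5 := Subgroup.relIndex_mul_index hle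
    rw [hdual H hH, h4] at h5
    exact Subgroup.relIndex_eq_one.mp ((mul_eq_right₀ hpos.ne').mp h5)
  tfae_have 3 → 1 := by
    intro h3
    refine ⟨hcommiff.mpr h3.le, fun H' hH' hle => le_antisymm ?_ hle⟩
    rw [h3]
    exact (Subgroup.le_centralizer_iff_isMulCommutative.mpr hH').trans (Subgroup.centralizer_le hle)
  tfae_have 1 → 3 := by
    rintro ⟨hc, hmax⟩
    refine le_antisymm (hcommiff.mp hc) fun g hg => ?_
    have hk : ∀ a ∈ insert g (H : Set Γ), ∀ b ∈ insert g (H : Set Γ), a * b = b * a := by
      intro a ha b hb
      rcases ha with rfl | ha <;> rcases hb with rfl | hb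
      · rfl
      · exact (Subgroup.mem_centralizer_iff.mp hg b hb).symm
      · exact Subgroup.mem_centralizer_iff.mp hg a ha
      · exact Subgroup.mem_centralizer_iff.mp (hcommiff.mp hc hb) a ha
    have h1 := hmax (Subgroup.closure (insert g (H : Set Γ))) (Subgroup.isMulCommutative_closure hk)
      (fun x hx => Subgroup.subset_closure (Set.mem_insert_of_mem _ hx))
    rw [← h1]
    exact Subgroup.subset_closure (Set.mem_insert g _)
  tfae_finish

end Groth.Agent.S17512
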