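import Groth.Statements.S17513
import Groth.Agent.H63.MatrixEnd

set_option autoImplicit false
universe u
open CategoryTheory CategoryTheory.Limits MonoidalCategory CartesianMonoidalCategory MonObj GrpObj AlgebraicGeometry
open AbVar

namespace Groth.Agent.S17513

/-- Let X be an abelian variety over a field k (a proper, geometrically integral, commutative k-group
scheme) whose underlying space has Krull dimension g, let r be a natural number and α an r × r
matrix with integer entries. Write X^r for the r-fold product of X over k and [α]_X : X^r → X^r for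
the homomorphism (x_1, …, x_r) ↦ (Σ_j α_{1j} x_j, …, Σ_j α_{rj} x_j), i.e. the map whose i-th
component is the product, in the commutative group of maps X^r → X, of the powers pr_j^{α_{ij}}. If
det α ≠ 0 then [α]_X is finite and flat of constant degree |det α|^{2g} = det(α)^{2g}. (The
published statement covers det α = 0 too, with the convention that a non-finite homomorphism has
degree 0; that case says only that [α]_X is not finite and is not part of this row.) -/
theorem result
    (k : Type u) [Field k] (X : Over (Spec (CommRingCat.of k))) [GrpObj X] [IsCommMonObj X]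
    [IsProper X.hom] [GeometricallyIntegral X.hom]
    (g : ℕ) (hg : topologicalKrullDim ↥X.left = g)
    (r : ℕ) (α : Matrix (Fin r) (Fin r) ℤ) (hα : α.det ≠ 0)
    (φ : (∏ᶜ fun _ : Fin r => X) ⟶ (∏ᶜ fun _ : Fin r => X))
    (hφ : φ = Pi.lift (fun i => ∏ j : Fin r, (Pi.π (fun _ : Fin r => X) j) ^ (α i j))) :
    IsFinite φ.left ∧ Flat φ.left ∧
      ∀ y : ↥(∏ᶜ fun _ : Fin r => X).left, Scheme.Hom.finrank φ.left y = α.det.natAbs ^ (2 * g) := by
  obtain ⟨P, _, _, hP1, hP2, hP3, π, hπ, hbij⟩ := H63.MatrixEnd.exists_power X hg r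
  haveI := hP1
  haveI := hP2
  haveI : ∀ i, IsMonHom (π i) := hπ
  haveI : AlgebraicGeometry.IsIntegral P.left := GeometricallyIntegral.isIntegral_of_subsingleton P.hom
  let Q := ∏ᶜ fun _ : Fin r => X
  obtain ⟨b, hb⟩ := (hbij Q).2 fun i => CategoryTheory.Limits.Pi.π (fun _ : Fin r => X) i
  let a : P ⟶ Q := CategoryTheory.Limits.Pi.lift π
  have hb' : ∀ i, b ≫ π i = CategoryTheory.Limits.Pi.π (fun _ : Fin r => X) i := fun i => congrFun hb i
  have ha : ∀ i, a ≫ CategoryTheory.Limits.Pi.π (fun _ : Fin r => X) i = π i := fun i =>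
    CategoryTheory.Limits.Pi.lift_π π i
  let e : P ≅ Q :=
    { hom := a
      inv := b
      hom_inv_id := (hbij P).1 (funext fun i => by
        show (a ≫ b) ≫ π i = 𝟙 P ≫ π i
        rw [Category.assoc, hb', ha, Category.id_comp])
      inv_hom_id := CategoryTheory.Limits.Pi.hom_ext _ _ fun i => by
        rw [Category.assoc, ha, hb', Category.id_comp] }
  have hψ : ∀ i, (e.hom ≫ φ ≫ e.inv) ≫ π i = ∏ j, π j ^ α i j := fun i => by
    show (a ≫ φ ≫ b) ≫ π i = _
    rw [Category.assoc, Category.assoc, hb', hφ, CategoryTheory.Limits.Pi.lift_π]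
    let cp : (Q ⟶ X) →* (P ⟶ X) :=
      { toFun := fun h => a ≫ h, map_one' := MonObj.comp_one _, map_mul' := fun u v => MonObj.comp_mul _ u v }
    show cp _ = _
    rw [map_prod]
    refine Finset.prod_congr rfl fun j _ => ?_
    show a ≫ (CategoryTheory.Limits.Pi.π (fun _ : Fin r => X) j ^ α i j) = _
    rw [GrpObj.comp_zpow, ha]
  obtain ⟨-, h1, h2, h3⟩ := H63.MatrixEnd.deg_matrix P hP3 π hbij α hα (e.hom ≫ φ ≫ e.inv) hψ
  have hφe : φ = e.inv ≫ (e.hom ≫ φ ≫ e.inv) ≫ e.hom := by simp
  haveI : IsIso e.inv.left := ((Over.forget _).mapIso e).isIso_inv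
  haveI : IsIso e.hom.left := ((Over.forget _).mapIso e).isIso_hom
  haveI := h1
  haveI := h2
  have hl : φ.left = e.inv.left ≫ (e.hom ≫ φ ≫ e.inv).left ≫ e.hom.left := by
    conv_lhs => rw [hφe]
    rw [Over.comp_left, Over.comp_left]
  rw [hl]
  refine ⟨inferInstance, inferInstance, fun y => ?_⟩
  rw [← Category.assoc]
  obtain ⟨z, rfl⟩ := e.hom.left.homeomorph.surjective y
  have hpb : IsPullback (𝟙 Q.left) (e.inv.left ≫ (e.hom ≫ φ ≫ e.inv).left)
      ((e.inv.left ≫ (e.hom ≫ φ ≫ e.inv).left) ≫ e.hom.left) e.hom.left :=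
    IsPullback.of_horiz_isIso ⟨by simp⟩
  show Scheme.Hom.finrank ((e.inv.left ≫ (e.hom ≫ φ ≫ e.inv).left) ≫ e.hom.left) (e.hom.left z) = _
  rw [← Scheme.Hom.finrank_of_isPullback _ _ _ _ hpb, Scheme.Hom.finrank_comp_left_of_isIso, h3]

end Groth.Agent.S17513
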