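import Groth.Statements.S17514
import Groth.Agent.H4.AVPoints
import Groth.Agent.H4.TateCoker
-- import your own Groth.Agent.* helpers here

set_option autoImplicit false
universe u
open CategoryTheory CategoryTheory.Limits MonoidalCategory CartesianMonoidalCategory MonObj GrpObj AlgebraicGeometry
open AbVar

namespace Groth.Agent.S17514

/-- Let k be a field with algebraic closure k̄, ℓ a prime number invertible in k, X and Y abelian
varieties over k (proper, geometrically integral, commutative k-group schemes), f : X → Y an isogeny
(a homomorphism which is finite and surjective) and i : N → X its kernel (the square formed by i, f,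
the unit of Y and the structure map of N is cartesian). Let T_ℓ denote the Tate module formed with
k̄-valued points and T_ℓ f : T_ℓ X → T_ℓ Y the induced ℤ_ℓ-linear map. Then T_ℓ f is injective and
its cokernel is isomorphic, as a group, to the ℓ-primary part of the finite group N(k̄) of k̄-valued
points of N (existence of an isomorphism; the published sequence 0 → T_ℓ X → T_ℓ Y → N_ℓ(k_s) → 0 is
moreover Galois-equivariant with a specific connecting map, and uses points over a separable
closure, which for ℓ-power torsion gives the same groups). -/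
theorem result
    (k : Type u) [Field k] (ℓ : ℕ) [Fact ℓ.Prime] (hℓ : (ℓ : k) ≠ 0)
    (X Y : Over (Spec (CommRingCat.of k)))
    [GrpObj X] [IsCommMonObj X] [IsProper X.hom] [GeometricallyIntegral X.hom]
    [GrpObj Y] [IsCommMonObj Y] [IsProper Y.hom] [GeometricallyIntegral Y.hom]
    (f : X ⟶ Y) [IsMonHom f] [IsFinite f.left] [Surjective f.left]
    (N : Over (Spec (CommRingCat.of k))) [GrpObj N] [IsCommMonObj N] (i : N ⟶ X) [IsMonHom i]
    (hN : AlgGrp.IsKernel i f) :
    Function.Injective (AbDual.tateMapₗ (l := ℓ)
        (T := Over.mk (Spec.map (CommRingCat.ofHom (algebraMap k (AlgebraicClosure k))))) f) ∧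
      Nonempty ((AbDual.TateMod Y ℓ (Over.mk (Spec.map (CommRingCat.ofHom (algebraMap k (AlgebraicClosure k))))) ⧸
          LinearMap.range (AbDual.tateMapₗ (l := ℓ)
            (T := Over.mk (Spec.map (CommRingCat.ofHom (algebraMap k (AlgebraicClosure k))))) f)) ≃+
        Additive ↥(CommGroup.primaryComponent
          (Over.mk (Spec.map (CommRingCat.ofHom (algebraMap k (AlgebraicClosure k)))) ⟶ N) ℓ)) := by
  haveI : Mono i := by
    refine ⟨fun {Z} a c hac => hN.hom_ext hac ?_⟩
    exact toUnit_unique _ _
  have hif : ∀ x : Over.mk (Spec.map (CommRingCat.ofHom (algebraMap k (AlgebraicClosure k)))) ⟶ X,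
      x ≫ f = 1 ↔ ∃ w, w ≫ i = x := by
    intro x
    constructor
    · intro hx
      exact ⟨hN.lift x (toUnit _) (by rw [hx]; exact (Hom.one_def).trans rfl), hN.lift_fst _ _ _⟩
    · rintro ⟨w, rfl⟩
      rw [Category.assoc, hN.w, ← Category.assoc, toUnit_unique (w ≫ toUnit N) (toUnit _)]
      exact Hom.one_def.symm
  haveI : Finite (Over.mk (Spec.map (CommRingCat.ofHom (algebraMap k (AlgebraicClosure k)))) ⟶ N) := by
    have h1 := Groth.Agent.H4.AVPoints.finite_fibre
      (Spec.map (CommRingCat.ofHom (algebraMap k (AlgebraicClosure k)))) f 1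
    haveI := h1.to_subtype
    exact Finite.of_injective
      (β := {x : Over.mk (Spec.map (CommRingCat.ofHom (algebraMap k (AlgebraicClosure k)))) ⟶ X | x ≫ f = 1})
      (fun w => ⟨w ≫ i, (hif _).2 ⟨w, rfl⟩⟩)
      fun a c h => (cancel_mono i).1 (congrArg Subtype.val h)
  exact Groth.Agent.H4.TateCoker.exists_coker _ ℓ f i hif
    (Groth.Agent.H4.AVPoints.exists_lift _ f) (fun y => Groth.Agent.H4.AVPoints.exists_root _ hℓ y)

end Groth.Agent.S17514
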