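import Groth.Statements.S17515
import Groth.Agent.H4.KerDual.SymmDescend
-- import your own Groth.Agent.* helpers here

set_option autoImplicit false
set_option linter.style.haveILetI false
universe u
open CategoryTheory CategoryTheory.Limits MonoidalCategory CartesianMonoidalCategory MonObj GrpObj AlgebraicGeometry
open AbVar Groth.Agent Groth.Agent.H3 Groth.Agent.H4 Groth.Agent.H4.PicZero Groth.Agent.Lib Groth.Agent.Lib.H3
noncomputable local instance s17515Law (Y : Scheme.{u}) : PicGrp.Law Y := Groth.Agent.Lib.TensorMod.Invertible.law Y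

namespace Groth.Agent.S17515

/-- A symmetric homomorphism to the dual comes from a line bundle after passing to an algebraically
closed field. Let X be an abelian variety over a field k (a proper, geometrically integral,
commutative k-group scheme) and (X^t, φ) a given dual abelian variety for the fppf topology, X^t
itself an abelian variety, with Poincaré class ξ on X ×_k X^t; suppose moreover that (X, φ') is
given as the dual of X^t in such a way that the swap of ξ to X^t ×_k X is its Poincaré class (this
identifies X with its double dual, the biduality map becoming the identity). Let λ : X → X^t be a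
homomorphism which is symmetric: λ is its own transpose with respect to φ and φ'. Then for every
algebraically closed field Ω and every k-point t : Spec Ω → Spec k there is an invertible module L
on the base change X_Ω such that the base change λ_Ω : X_Ω → X^t_Ω is the homomorphism φ_L attached
to L through the base-changed dual data (there is an invertible module N on X_Ω × X_Ω with N ⊗
pr_1^*L ⊗ pr_2^*L ≅ m^*L whose class is sent to λ_Ω). (The published item also gives a finite
separable extension of k over which such an L exists; that refinement is not part of this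
statement.) -/
theorem result
    (k : Type u) [Field k] (X Xt : Over (Spec (CommRingCat.of k)))
    [GrpObj X] [IsCommMonObj X] [IsProper X.hom] [GeometricallyIntegral X.hom]
    [GrpObj Xt] [IsCommMonObj Xt] [IsProper Xt.hom] [GeometricallyIntegral Xt.hom]
    (φ : AgPol.DualMap X Xt) (hφ : AbDual.IsDualAV Scheme.fppfPrecoverage X Xt φ)
    (φ' : AgPol.DualMap Xt X) (hφ' : AbDual.IsDualAV Scheme.fppfPrecoverage Xt X φ')
    (ξ : PicF.Cl (PicF.XT X.hom Xt)) (hξ : AbDual.IsPoincareCl X Xt φ ξ)
    (hξ' : AbDual.IsPoincareCl Xt X φ' (PicF.pullCl (pullbackSymmetry Xt.hom X.hom).hom ξ))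
    (lam : X ⟶ Xt) [IsMonHom lam] (hsymm : AbDual.IsTranspose lam φ φ' lam)
    (Ω : Type u) [Field Ω] [IsAlgClosed Ω] (t : Spec (CommRingCat.of Ω) ⟶ Spec (CommRingCat.of k)) :
    ∃ L : (Red.bc t X).left.Modules, PicF.IsInvertible L ∧
      AgPol.IsLambda (Red.bc t X) (Red.bc t Xt) (AgPol.bcDual t X Xt φ) L ((Over.pullback t).map lam) := by
  haveI : Smooth X.hom := by
    letI : GrpObj (Over.mk X.hom) := (show GrpObj X from inferInstance); exact smooth_of_grpObj X.hom
  haveI : Smooth Xt.hom := by
    letI : GrpObj (Over.mk Xt.hom) := (show GrpObj Xt from inferInstance); exact smooth_of_grpObj Xt.hom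
  haveI : GeometricallyConnected X.hom := H2.Rigid.GeomIrred.geometricallyConnected X.hom
  haveI : GeometricallyConnected Xt.hom := H2.Rigid.GeomIrred.geometricallyConnected Xt.hom
  haveI : IsLocallyNoetherian X.left := LocallyOfFiniteType.isLocallyNoetherian X.hom
  obtain ⟨x, hxv, hx0, hxr, hxφ⟩ := PhiInj.exists_poincare hφ hξ
  let c : PicLoc.PicSet (X ⊗ X).left := PicCalc.ph (X ◁ lam) x
  have hs0 : PicCalc.ph (β_ X X).hom c = c := by
    have e : (PicCalc.ph (β_ X X).hom c).1 =
        PicF.pullCl (AbDual.bcMap lam X) (PicF.pullCl (pullbackSymmetry Xt.hom X.hom).hom ξ) := by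
      rw [bcMap_eq, PhiInj.symm_eq, ← PicLoc.pullCl_comp, ← hxv, ← Over.comp_left,
        BraidedCategory.braiding_naturality_left, Over.comp_left, PicLoc.pullCl_comp]
      rfl
    have hz := isPicZeroCl_bcMap lam hξ'.1
    refine PhiInj.eq_of_phi_eq hφ (by rw [e]; exact hz) (isPicZeroCl_ph lam _ (whiskerLeft_snd _ _) hx0) ?_ ?_ ?_
    · show PicCalc.ph _ (PicCalc.ph _ c) = 1
      rw [← PicCalc.ph_comp, show lift (1 : X ⟶ X) (𝟙 X) ≫ (β_ X X).hom = lift (𝟙 X) (1 : X ⟶ X) from by
        apply CartesianMonoidalCategory.hom_ext <;> simp]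
      exact KerDual.graph_one_right hφ hx0 hxr hxφ lam (𝟙 X)
    · rw [PhiInj.rig_ph, hxr, map_one]
    · rw [e, hsymm X _ hξ'.1, hξ'.2.1, hxφ, Category.id_comp]
  have hs : ∀ {V : Over (Spec (CommRingCat.of k))} (p q : V ⟶ X),
      PicCalc.ph (lift p q) c = PicCalc.ph (lift q p) c := fun p q => by
    conv_lhs => rw [← hs0, ← PicCalc.ph_comp]
    congr 2
    apply CartesianMonoidalCategory.hom_ext <;> simp
  let A' := Red.bc t X
  let At' := Red.bc t Xt
  haveI : IsProper A'.hom := inferInstanceAs (IsProper (pullback.snd X.hom t))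
  haveI : Smooth A'.hom := inferInstanceAs (Smooth (pullback.snd X.hom t))
  haveI : GeometricallyConnected A'.hom := inferInstanceAs (GeometricallyConnected (pullback.snd X.hom t))
  haveI : IsProper At'.hom := inferInstanceAs (IsProper (pullback.snd Xt.hom t))
  haveI : Smooth At'.hom := inferInstanceAs (Smooth (pullback.snd Xt.hom t))
  haveI : GeometricallyConnected At'.hom := inferInstanceAs (GeometricallyConnected (pullback.snd Xt.hom t))
  haveI := H2.Rigid.GeomIrred.geometricallyIntegral_of_smooth A'.hom
  haveI := H2.Rigid.GeomIrred.geometricallyIntegral_of_smooth At'.hom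
  haveI := isCommMonObj_of_isProper_of_geometricallyIntegral A'
  haveI := isCommMonObj_of_isProper_of_geometricallyIntegral At'
  haveI : IsMonHom ((Over.pullback t).map lam) := inferInstance
  obtain ⟨x', hx'v, hx'0, hx'r, hx'φ⟩ :=
    PhiInj.exists_poincare (KerDual.isDualAV_bc t hφ) (KerDual.isPoincareCl_bc t hφ hξ)
  refine KerDual.exists_isLambda_of_symm (KerDual.isDualAV_bc t hφ) hx'0 hx'r hx'φ
    ((Over.pullback t).map lam) fun {V} p q => ?_
  have key : ∀ (a b : V ⟶ A') (a₀ b₀ : KerDual.res t V ⟶ X),
      a₀.left = a.left ≫ pullback.fst X.hom t → b₀.left = b.left ≫ pullback.fst X.hom t →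
      (PicCalc.ph (lift a b) (PicCalc.ph (A' ◁ (Over.pullback t).map lam) x')).1 =
        (PicCalc.ph (lift a₀ b₀) c).1 := by
    intro a b a₀ b₀ ha hb
    show _ = (PicCalc.ph (lift a₀ b₀) (PicCalc.ph (X ◁ lam) x)).1
    rw [← PicCalc.ph_comp, lift_whiskerLeft, ← PicCalc.ph_comp, lift_whiskerLeft, PicCalc.ph_val, PicCalc.ph_val,
      hx'v, hxv, ← PicLoc.pullCl_comp]
    congr 1
    rw [KerDual.bcProd]
    apply pullback.hom_ext
    · refine Eq.trans ?_ (congrArg Over.Hom.left (lift_fst a₀ (b₀ ≫ lam))).symm
      rw [ha, Category.assoc, Category.assoc, PicF.XTmap, pullback.lift_fst, Category.comp_id, AgPol.bcXTIso]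
      erw [pullbackLeftPullbackSndIso_hom_fst]
      rw [← Category.assoc]
      exact congrArg (· ≫ pullback.fst X.hom t) (congrArg Over.Hom.left (lift_fst a (b ≫ (Over.pullback t).map lam)))
    · refine Eq.trans ?_ (congrArg Over.Hom.left (lift_snd a₀ (b₀ ≫ lam))).symm
      rw [Category.assoc, Category.assoc, PicF.XTmap, pullback.lift_snd, AgPol.bcXTIso]
      erw [pullbackLeftPullbackSndIso_hom_snd_assoc]
      rw [← Category.assoc]
      refine (congrArg (· ≫ pullback.fst Xt.hom t)
        (congrArg Over.Hom.left (lift_snd a (b ≫ (Over.pullback t).map lam)))).trans ?_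
      show (b.left ≫ ((Over.pullback t).map lam).left) ≫ pullback.fst Xt.hom t = b₀.left ≫ lam.left
      rw [Category.assoc, show ((Over.pullback t).map lam).left ≫ pullback.fst Xt.hom t =
        pullback.fst X.hom t ≫ lam.left from pullback.lift_fst _ _ _, hb, Category.assoc]
  let down : (V ⟶ A') → (KerDual.res t V ⟶ X) := fun a => Over.homMk (a.left ≫ pullback.fst X.hom t) (by
    show (a.left ≫ pullback.fst X.hom t) ≫ X.hom = V.hom ≫ t
    rw [Category.assoc, pullback.condition, ← Category.assoc]
    exact congrArg (· ≫ t) (Over.w a))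
  apply Subtype.ext
  rw [key p q (down p) (down q) rfl rfl, key q p (down q) (down p) rfl rfl, hs]

end Groth.Agent.S17515
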