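import Groth.Statements.S17516
import Groth.Agent.H4.KerDual.PullPol
-- import your own Groth.Agent.* helpers here

set_option autoImplicit false
universe u
open CategoryTheory CategoryTheory.Limits MonoidalCategory CartesianMonoidalCategory MonObj GrpObj AlgebraicGeometry
open AbVar

namespace Groth.Agent.S17516

/-- Let X and Y be abelian varieties over a field k (proper, geometrically integral, commutative k-group
schemes) with given dual abelian varieties (X^t, φ_X) and (Y^t, φ_Y) for the fppf topology, let f :
X → Y be an isogeny — a homomorphism which is finite, flat and surjective — of constant degree d,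
with transpose f^t : Y^t → X^t, and let λ : Y → Y^t be a polarization of Y (a homomorphism whose
base change to every algebraically closed field is the homomorphism φ_M attached to some ample
invertible module M) which is finite and flat of constant degree e. Then f^*λ := f^t ∘ λ ∘ f : X →
X^t is a polarization of X, and it is finite and flat of constant degree d² · e = deg(f)² · deg(λ). -/
theorem result
    (k : Type u) [Field k] (X Xt Y Yt : Over (Spec (CommRingCat.of k)))
    [GrpObj X] [IsCommMonObj X] [IsProper X.hom] [GeometricallyIntegral X.hom] [GrpObj Xt] [IsCommMonObj Xt] [IsProper Xt.hom] [GeometricallyIntegral Xt.hom]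
    [GrpObj Y] [IsCommMonObj Y] [IsProper Y.hom] [GeometricallyIntegral Y.hom] [GrpObj Yt] [IsCommMonObj Yt] [IsProper Yt.hom] [GeometricallyIntegral Yt.hom]
    (φX : AgPol.DualMap X Xt) (hX : AbDual.IsDualAV Scheme.fppfPrecoverage X Xt φX)
    (φY : AgPol.DualMap Y Yt) (hY : AbDual.IsDualAV Scheme.fppfPrecoverage Y Yt φY)
    (f : X ⟶ Y) [IsMonHom f] [IsFinite f.left] [Flat f.left] [Surjective f.left]
    (d : ℕ) (hd : ∀ y : ↥Y.left, Scheme.Hom.finrank f.left y = d)
    (ft : Yt ⟶ Xt) (hft : AbDual.IsTranspose f φX φY ft)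
    (lam : Y ⟶ Yt) (hlam : AgPol.IsPolarization Y Yt φY lam)
    [IsFinite lam.left] [Flat lam.left] (e : ℕ) (he : ∀ y : ↥Yt.left, Scheme.Hom.finrank lam.left y = e) :
    AgPol.IsPolarization X Xt φX (f ≫ lam ≫ ft) ∧ IsFinite (f ≫ lam ≫ ft).left ∧ Flat (f ≫ lam ≫ ft).left ∧
      ∀ x : ↥Xt.left, Scheme.Hom.finrank (f ≫ lam ≫ ft).left x = d ^ 2 * e := by
  haveI : Smooth X.hom := by
    letI : GrpObj (Over.mk X.hom) := (show GrpObj X from inferInstance); exact smooth_of_grpObj X.hom
  haveI : Smooth Y.hom := by
    letI : GrpObj (Over.mk Y.hom) := (show GrpObj Y from inferInstance); exact smooth_of_grpObj Y.hom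
  haveI : Smooth Xt.hom := by
    letI : GrpObj (Over.mk Xt.hom) := (show GrpObj Xt from inferInstance); exact smooth_of_grpObj Xt.hom
  haveI : Smooth Yt.hom := by
    letI : GrpObj (Over.mk Yt.hom) := (show GrpObj Yt from inferInstance); exact smooth_of_grpObj Yt.hom
  haveI : IsIntegral X.left := GeometricallyIntegral.isIntegral_of_subsingleton X.hom
  haveI : IsIntegral Y.left := GeometricallyIntegral.isIntegral_of_subsingleton Y.hom
  haveI : IsIntegral Xt.left := GeometricallyIntegral.isIntegral_of_subsingleton Xt.hom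
  haveI : IsIntegral Yt.left := GeometricallyIntegral.isIntegral_of_subsingleton Yt.hom
  haveI : GeometricallyConnected X.hom :=
    Groth.Agent.Lib.GrpSch.geometricallyConnected_of_rationalPoint X.hom η[X].left (Over.w η[X])
  haveI : GeometricallyConnected Y.hom :=
    Groth.Agent.Lib.GrpSch.geometricallyConnected_of_rationalPoint Y.hom η[Y].left (Over.w η[Y])
  haveI : GeometricallyConnected Xt.hom :=
    Groth.Agent.Lib.GrpSch.geometricallyConnected_of_rationalPoint Xt.hom η[Xt].left (Over.w η[Xt])
  haveI : GeometricallyConnected Yt.hom :=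
    Groth.Agent.Lib.GrpSch.geometricallyConnected_of_rationalPoint Yt.hom η[Yt].left (Over.w η[Yt])
  haveI : Flat X.hom := Groth.Agent.Lib.SpHomog.flat_to_field _
  haveI : IsMonHom lam := hlam.1
  haveI := Groth.Agent.H4.KerDual.isMonHom_transpose hX hY (f := f) hft
  obtain ⟨hft1, hft2, hft3, -⟩ := Groth.Agent.H4.KerDual.transpose_props hX hY (f := f) hft
  haveI := hft1
  haveI := hft2
  haveI := hft3
  haveI hfin : IsFinite (f ≫ lam ≫ ft).left := by rw [Over.comp_left, Over.comp_left]; infer_instance
  haveI hflat : Flat (f ≫ lam ≫ ft).left := by rw [Over.comp_left, Over.comp_left]; infer_instance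
  refine ⟨⟨inferInstance, fun Ω _ _ t => ?_⟩, hfin, hflat, fun x => ?_⟩
  · obtain ⟨L, hL, hlam'⟩ := hlam.2 Ω t
    haveI : IsProper (Red.bc t Y).hom := inferInstanceAs (IsProper (pullback.snd Y.hom t))
    haveI : GeometricallyConnected (Red.bc t Y).hom :=
      inferInstanceAs (GeometricallyConnected (pullback.snd Y.hom t))
    haveI : IsFinite ((Over.pullback t).map f).left :=
      Groth.Agent.Lib.GrpSch.bc_map_left_of t f (P := @IsFinite) inferInstance
    exact ⟨_, Groth.Agent.Lib.Ample.Pullback.isAmple_pullback _
      (Groth.Agent.Lib.Ample.Pullback.isQuasiAffine_of_isAffineHom _) hL,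
      Groth.Agent.H4.KerDual.isLambda_pull t hY.relPic.natural f hft
        (Groth.Agent.Lib.Ample.Pow.isAmple_iff.1 hL).1 hlam'⟩
  · haveI : IsLocallyNoetherian Y.left := LocallyOfFiniteType.isLocallyNoetherian Y.hom
    haveI : IsLocallyNoetherian Xt.left := LocallyOfFiniteType.isLocallyNoetherian Xt.hom
    haveI : IsLocallyNoetherian Yt.left := LocallyOfFiniteType.isLocallyNoetherian Yt.hom
    haveI : LocallyOfFinitePresentation (f ≫ lam ≫ ft).left := LocallyOfFinitePresentation.iff_locallyOfFiniteType.2 inferInstance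
    haveI : LocallyOfFinitePresentation f.left := LocallyOfFinitePresentation.iff_locallyOfFiniteType.2 inferInstance
    haveI : LocallyOfFinitePresentation lam.left := LocallyOfFinitePresentation.iff_locallyOfFiniteType.2 inferInstance
    obtain ⟨r, hr⟩ := Groth.Agent.H63.AVIsogeny.exists_dim (k := k) (A := X)
    obtain ⟨n, g, -, -, -, -, hg1, -, -⟩ := Groth.Agent.H4.Chow.exists_quasiInverse f
    haveI := hg1
    have hrY : topologicalKrullDim Y.left = r := by
      refine le_antisymm ?_ ?_
      · rw [← hr]
        exact (Groth.Agent.Lib.Flat55.FlatEquidim.topologicalKrullDim_le_of_quasiFinite g.left).trans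
          Topology.IsInducing.subtypeVal.topologicalKrullDim_le
      · rw [← hr]
        exact (Groth.Agent.Lib.Flat55.FlatEquidim.topologicalKrullDim_le_of_quasiFinite f.left).trans
          Topology.IsInducing.subtypeVal.topologicalKrullDim_le
    have hrXt := Groth.Agent.H4.KerDual.dim_dual hX hr
    have hrYt := Groth.Agent.H4.KerDual.dim_dual hY hrY
    haveI : IsMonHom (lam ≫ ft) := inferInstance
    rw [Groth.Agent.H4.KerDual.finrank_eq_deg (f ≫ lam ≫ ft) x,
      Groth.Agent.H63.DegreeHom.deg_comp hr hrY hrXt f (lam ≫ ft),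
      Groth.Agent.H63.DegreeHom.deg_comp hrY hrYt hrXt lam ft,
      Groth.Agent.H4.KerDual.deg_transpose hX hY hft,
      ← Groth.Agent.H4.KerDual.finrank_eq_deg lam (η[Yt].left (IsLocalRing.closedPoint k : PrimeSpectrum k)), he,
      ← Groth.Agent.H4.KerDual.finrank_eq_deg f (η[Y].left (IsLocalRing.closedPoint k : PrimeSpectrum k)), hd]
    ring

end Groth.Agent.S17516
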