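import Groth.Statements.S1752
import Groth.Agent.H23.TopDual.Main
import Groth.Agent.H23.TopDual.Rep

set_option autoImplicit false
universe u
open CategoryTheory AlgebraicGeometry
open Dual

namespace Groth.Agent.S1752

/-- For X proper over a field k with dim X = d, there exist a coherent O_X-module ω (the dualizing
module) and a k-linear map t : H^d(X, ω) → k such that for every quasi-coherent O_X-module F and
every k-linear form ψ on H^d(X, F) there is exactly one map φ : F → ω with ψ = t ∘ H^d(φ). In other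
words ω represents F ↦ Hom_k(H^d(X, F), k). -/
theorem result (k : Type u) [Field k] (X : Scheme.{u}) [X.Over (Spec (CommRingCat.of k))] [IsProper (X ↘ Spec (CommRingCat.of k))] (d : ℕ) (hd : topologicalKrullDim X = d) : ∃ (ω : X.Modules) (t : Coh.HH X ω d →ₗ[k] k), Coh.IsCoh ω ∧ ∀ (F : X.Modules), Coh.IsQCoh F → ∀ ψ : Coh.HH X F d →ₗ[k] k, ∃! φ : F ⟶ ω, ∀ x : Coh.HH X F d, ψ x = t (Sheaf.H.map ((SheafOfModules.toSheaf X.ringCatSheaf).map φ) d x) := by
  haveI : IsLocallyNoetherian X :=
    LocallyOfFiniteType.isLocallyNoetherian (X ↘ Spec (CommRingCat.of k))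
  haveI : CompactSpace X := QuasiCompact.compactSpace_of_compactSpace (X ↘ Spec (CommRingCat.of k))
  haveI : QuasiSeparatedSpace X :=
    quasiSeparatedSpace_of_quasiSeparated (X ↘ Spec (CommRingCat.of k))
  haveI : IsNoetherian X := {}
  have hv : ∀ M : X.Modules, M.IsQuasicoherent → Subsingleton (Coh.HH X M (d + 1)) := fun M _ =>
    Groth.Agent.H23.TopDual.subsingleton_HH_above d hd M
  obtain ⟨ω, hω, t, h⟩ := Groth.Agent.H23.TopDual.Rep.exists_pair k d hv
  refine ⟨ω, t, Groth.Agent.H23.TopDual.isCoh_of_pair d hd ω hω t fun F hF φ hφ => ?_,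
    fun F hF ψ => ?_⟩
  · refine (h F hF).1 (LinearMap.ext fun z => ?_)
    refine (hφ z).trans ?_
    show (0 : k) = t (Groth.Agent.Lib.Curves.LES.mapK k (0 : F ⟶ ω) d z)
    rw [Groth.Agent.H20.TopRep.mapK_zero, LinearMap.zero_apply, map_zero]
  · obtain ⟨φ, hφ⟩ := (h F hF).2 ψ
    exact ⟨φ, fun x => (LinearMap.congr_fun hφ x).symm,
      fun φ' hφ' => (h F hF).1 (LinearMap.ext fun x => (hφ' x).symm.trans (LinearMap.congr_fun hφ x).symm)⟩
end Groth.Agent.S1752
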