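import Groth.Statements.S17522
import Groth.Agent.H14.CohBC.BaseChange

set_option autoImplicit false
universe u
open CategoryTheory AlgebraicGeometry
open StMod

namespace Groth.Agent.S17522

/-- For a target that is a quasi-separated algebraic space, let `S` be a quasi-separated scheme, `𝒳` an
algebraic stack over `(Sch/S)` for the fppf topology, `M` and `M'` algebraic spaces over `S` that
are quasi-separated over `S`, `g : M' ⟶ M` a morphism of algebraic spaces over `S`, `π : 𝒳 ⟶ M` a
quasi-compact and quasi-separated morphism over `S`, and `π' : 𝒳 ×_M M' ⟶ M'` its base change (first
projection of the 2-fibre product), the 2-fibre product being assumed algebraic. If `π` is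
cohomologically affine, then so is `π'`. Here a good moduli space is a morphism to an algebraic
space along which pushforward takes surjections of quasi-coherent modules to maps surjective on
sections over every affine scheme etale over the target, and for which the canonical map from the
functions on any scheme etale over the target to the sections of the pushforward of the structure
sheaf is bijective; cohomologically affine means the first of these two conditions. (The published
statement allows the target to be any algebraic stack with quasi-affine diagonal and the new target
to be any algebraic stack; this row takes both targets to be algebraic spaces quasi-separated over a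
quasi-separated base scheme `S`.) -/
theorem result
    (S : Scheme.{u}) [QuasiSeparatedSpace S]
    (𝒳 : AlgSt.Cat S) (h𝒳 : AlgSt.IsAlgStack Scheme.fppfPrecoverage 𝒳)
    (M M' : AlgSp.Space S) (hM : AlgSp.IsQuasiSeparatedSp M.obj) (hM' : AlgSp.IsQuasiSeparatedSp M'.obj)
    (g : M'.obj ⟶ M.obj) (π : 𝒳 ⥤ᵇ AlgSt.ofSp M.obj)
    (hqc : AlgSt.IsQuasiCompactMor Scheme.fppfPrecoverage π) (hqs : AlgSt.IsQuasiSeparatedMor π)
    (h𝒳' : AlgSt.IsAlgStack Scheme.fppfPrecoverage (FibCat.fp (AlgSt.ofSpMap g) π))
    (h : StMod.IsCohAffine π) :
    StMod.IsCohAffine (FibCat.fpFst (AlgSt.ofSpMap g) π) := by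
  exact Groth.Agent.H14.CohBC.isCohAffine_bc g π h𝒳 hM hqc hqs h𝒳'.isStack.1 h

end Groth.Agent.S17522
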