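import Groth.Statements.S17525
import Groth.Agent.H66.LinRedExt
-- import your own Groth.Agent.* helpers here

set_option autoImplicit false
universe u
open HopfRep

namespace Groth.Agent.S17525

/-- Let `k` be a field and `1 → K → G → Q → 1` an exact sequence of affine group schemes of finite type
over `k`, written on coordinate rings: `AQ`, `AG`, `AK` are commutative Hopf algebras of finite type
over `k`, `φ : AQ → AG` is an injective bialgebra map (so `G → Q` is faithfully flat) and `ψ : AG →
AK` is a surjective bialgebra map (so `K` is a closed subgroup of `G`) whose kernel is the ideal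
generated by the image under `φ` of the augmentation ideal of `AQ` (so `K` is the kernel of `G →
Q`). Then `G` is linearly reductive — every finite-dimensional comodule is semisimple — if and only
if both `K` and `Q` are. -/
theorem result
    (k : Type u) [Field k]
    (AQ AG AK : Type u) [CommRing AQ] [HopfAlgebra k AQ] [Algebra.FiniteType k AQ]
    [CommRing AG] [HopfAlgebra k AG] [Algebra.FiniteType k AG]
    [CommRing AK] [HopfAlgebra k AK] [Algebra.FiniteType k AK]
    (φ : AQ →ₐc[k] AG) (hφ : Function.Injective φ)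
    (ψ : AG →ₐc[k] AK) (hψ : Function.Surjective ψ)
    (hker : RingHom.ker (ψ : AG →ₐ[k] AK) =
      Ideal.map (φ : AQ →ₐ[k] AG) (RingHom.ker (Bialgebra.counitAlgHom k AQ))) :
    HopfRep.IsLinearlyReductive k AG ↔
      HopfRep.IsLinearlyReductive k AK ∧ HopfRep.IsLinearlyReductive k AQ := by
  let S : Subalgebra k AG := (φ : AQ →ₐ[k] AG).range
  have hS : ∀ b ∈ S, CoalgebraStruct.comul (R := k) b ∈
      LinearMap.range (TensorProduct.map S.val.toLinearMap S.val.toLinearMap) :=
    (Lib.HopfTransfer.isHopfSubalgebra_range φ).1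
  have hanti : ∀ b ∈ S, HopfAlgebraStruct.antipode (R := k) b ∈ S :=
    (Lib.HopfTransfer.isHopfSubalgebra_range φ).2
  haveI := H66.ExactSeq.faithfullyFlat_subalgebra S hS hanti
  have hψφ : ∀ c : AQ, ψ (φ c) = algebraMap k AK (CoalgebraStruct.counit (R := k) c) := by
    intro c
    have h1 : φ c - algebraMap k AG (CoalgebraStruct.counit (R := k) c) ∈ RingHom.ker (ψ : AG →ₐ[k] AK) := by
      rw [hker, show φ c - algebraMap k AG (CoalgebraStruct.counit (R := k) c) =
        (φ : AQ →ₐ[k] AG) (c - algebraMap k AQ (CoalgebraStruct.counit (R := k) c)) by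
          rw [map_sub, AlgHom.commutes]; rfl]
      refine Ideal.mem_map_of_mem _ ?_
      rw [RingHom.mem_ker, map_sub, AlgHom.commutes]
      simp
    rw [RingHom.mem_ker, map_sub, AlgHom.commutes, sub_eq_zero] at h1
    exact h1
  have H : H66.LinRedExt.Seq (S := S) ψ := by
    refine ⟨hS, hanti, hψ, ?_, ?_⟩
    · rintro _ ⟨c, rfl⟩
      change ψ (φ c) = algebraMap k AK (CoalgebraStruct.counit (R := k) (φ c))
      rw [hψφ, CoalgHomClass.counit_comp_apply φ c]
    · rw [hker]
      refine Ideal.map_le_iff_le_comap.2 fun c hc => Ideal.mem_comap.2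
        (Ideal.subset_span (α := AG) (s := {a | a ∈ S ∧ CoalgebraStruct.counit (R := k) a = 0}) ⟨⟨c, rfl⟩, ?_⟩)
      exact (CoalgHomClass.counit_comp_apply φ c).trans hc
  constructor
  · intro hG
    refine ⟨H66.LinRedExt.isLinearlyReductive_kernel H (H66.Tame.hasIntegral_iff.2 hG), ?_⟩
    refine H66.LinRed.isLinearlyReductive_of_criterion fun W _ _ _ _ p hp hp1 => ?_
    letI cG := H66.Trigon.pushComod (φ : AQ →ₗc[k] AG) W
    obtain ⟨v, hv, hv0⟩ := H66.LinRed.criterion_of_isLinearlyReductive hG W inferInstance p hp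
      (LinearMap.ext fun w => by
        change p.rTensor AG ((φ : AQ →ₐ[k] AG).toLinearMap.lTensor W (HopfRep.Comod.coact (k := k) (A := AQ) w)) =
          p w ⊗ₜ[k] (1 : AG)
        rw [← LinearMap.comp_apply, LinearMap.rTensor_comp_lTensor, ← LinearMap.lTensor_comp_rTensor,
          LinearMap.comp_apply, show p.rTensor AQ (HopfRep.Comod.coact (k := k) (A := AQ) w) = p w ⊗ₜ[k] (1 : AQ) from
            LinearMap.congr_fun hp1 w, LinearMap.lTensor_tmul, AlgHom.toLinearMap_apply, map_one])
    refine ⟨v, ?_, hv0⟩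
    have hv' : (φ : AQ →ₐ[k] AG).toLinearMap.lTensor W (HopfRep.Comod.coact (k := k) (A := AQ) v) =
        (φ : AQ →ₐ[k] AG).toLinearMap.lTensor W (v ⊗ₜ[k] (1 : AQ)) := by
      rw [LinearMap.lTensor_tmul, AlgHom.toLinearMap_apply, map_one]
      exact hv
    exact Module.Flat.lTensor_preserves_injective_linearMap (M := W) (φ : AQ →ₐ[k] AG).toLinearMap hφ hv'
  · rintro ⟨hK, hQ⟩
    obtain ⟨β, hβ1, hβ⟩ := H66.Tame.hasIntegral_iff.2 hQ
    obtain ⟨r, hr⟩ := (φ : AQ →ₐ[k] AG).toLinearMap.exists_leftInverse_of_injective (LinearMap.ker_eq_bot.2 hφ)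
    have hrφ : ∀ c, r (φ c) = c := fun c => LinearMap.congr_fun hr c
    let SQ := HopfAlgebraStruct.antipode (R := k) (A := AQ)
    have hleft : ∀ c, TensorProduct.rid k AQ ((β ∘ₗ SQ).lTensor AQ (CoalgebraStruct.comul (R := k) c)) =
        β (SQ c) • (1 : AQ) := by
      intro c
      have h1 := congrArg (TensorProduct.lid k AQ) (hβ (SQ c))
      rw [TensorProduct.lid_tmul, H66.Passage.comul_antipode] at h1
      have h2 : ∀ y : TensorProduct k AQ AQ, TensorProduct.lid k AQ (β.rTensor AQ (TensorProduct.map SQ SQ (TensorProduct.comm k AQ AQ y))) =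
          SQ (TensorProduct.rid k AQ ((β ∘ₗ SQ).lTensor AQ y)) := by
        intro y
        induction y using TensorProduct.induction_on with
        | zero => simp
        | add p q hp hq => simp only [map_add, hp, hq]
        | tmul p q => simp [SQ]
      rw [h2] at h1
      have h3 := congrArg SQ h1
      rw [H66.FixedHom.antipode_antipode, map_smul] at h3
      rw [← h3, show SQ 1 = 1 from HopfAlgebra.antipode_one]
    refine H66.LinRedExt.isLinearlyReductive_middle H hK (β ∘ₗ SQ ∘ₗ r) ?_ ?_
    · rw [LinearMap.comp_apply, LinearMap.comp_apply, ← map_one φ, hrφ,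
        show SQ 1 = 1 from HopfAlgebra.antipode_one, hβ1]
    · rintro _ ⟨c, rfl⟩
      refine ⟨β (SQ c), ?_⟩
      change Lib.Comod.Basic.dact AG (β ∘ₗ SQ ∘ₗ r) (φ c) = _
      rw [Lib.Comod.Basic.dact_apply]
      change Lib.Comod.Basic.contract AG _ (CoalgebraStruct.comul (R := k) (φ c)) = _
      rw [← CoalgHomClass.map_comp_comul_apply φ c, ← map_one φ, ← map_smul, ← hleft]
      induction CoalgebraStruct.comul (R := k) c using TensorProduct.induction_on with
      | zero => simp
      | add p q hp hq => simp only [map_add, hp, hq]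
      | tmul p q => simp [hrφ]

end Groth.Agent.S17525
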