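import Groth.Statements.S17527
import Groth.Agent.H14.UB.Noeth

set_option autoImplicit false
universe u
open CategoryTheory AlgebraicGeometry
open StMod

namespace Groth.Agent.S17527

/-- Let `S` be a quasi-separated scheme, `𝒳` a Noetherian algebraic stack over `(Sch/S)` for the fppf
topology (quasi-compact, and every scheme smooth over `𝒳` locally Noetherian), `M` an algebraic
space over `S` that is quasi-separated over `S`, and `π : 𝒳 ⟶ M` a quasi-compact and quasi-separated
good moduli space. Then `M` is Noetherian: locally Noetherian (on etale charts) and quasi-compact.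
Here a good moduli space is a morphism to an algebraic space along which pushforward takes
surjections of quasi-coherent modules to maps surjective on sections over every affine scheme etale
over the target, and for which the canonical map from the functions on any scheme etale over the
target to the sections of the pushforward of the structure sheaf is bijective; cohomologically
affine means the first of these two conditions. (The published statement assumes `𝒳` quasi-separated
over a base algebraic space; this row takes `M` quasi-separated over a quasi-separated base scheme,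
the property the published proof uses.) -/
theorem result
    (S : Scheme.{u}) [QuasiSeparatedSpace S]
    (𝒳 : AlgSt.Cat S) (h𝒳 : AlgSt.IsAlgStack Scheme.fppfPrecoverage 𝒳)
    (hN : AlgSt.SmoothLocally (fun T => IsLocallyNoetherian T) 𝒳) (hq : AlgSt.IsQuasiCompact 𝒳)
    (M : AlgSp.Space S) (hM : AlgSp.IsQuasiSeparatedSp M.obj) (π : 𝒳 ⥤ᵇ AlgSt.ofSp M.obj)
    (hqc : AlgSt.IsQuasiCompactMor Scheme.fppfPrecoverage π) (hqs : AlgSt.IsQuasiSeparatedMor π)
    (h : StMod.IsGoodModuli π) :
    AlgSp.IsLocNoethSp M.obj ∧ AlgSp.IsQuasiCompactSp M.obj := by
  have hM' := Groth.Agent.H14.CohBC.compactPullbacks_of_isQuasiSeparatedSp hM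
  refine ⟨Groth.Agent.H14.UB.isLocNoethSp_goodModuli h𝒳 hM' hqc hqs h hN, ?_⟩
  have := (Groth.Agent.H14.Chart.QC.isQuasiCompact_iff h𝒳).1 hq
  have hMs := Groth.Agent.Lib.AlgStack.IsAlg.isAlgStack_ofSp M
  have := Groth.Agent.H14.Chart.Basic.compactSpace_of_surjective hMs
    (Groth.Agent.H14.UB.isSurjective_goodModuli h𝒳 hM' hqc hqs h)
  exact (Groth.Agent.Lib.AlgSpMor.QC.isQuasiCompactSp_iff M.property).2
    ((Groth.Agent.H14.Chart.QC.compactSpace_ofSp_iff M).1 this)

end Groth.Agent.S17527
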