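import Groth.Statements.S17528
import Groth.Statements.S17528
import Groth.Agent.H58LFT.GoodFT
import Groth.Agent.S17527
import Groth.Agent.H14.Chart.LocQ4
import Groth.Agent.H14.Chart.QC2
import Groth.Agent.Lib.AlgSpMor.Perm
-- import your own Groth.Agent.* helpers here


set_option autoImplicit false
set_option backward.isDefEq.respectTransparency false
set_option backward.isDefEq.respectTransparency.types false
set_option linter.style.haveILetI false
universe u
open CategoryTheory AlgebraicGeometry
open StMod

namespace Groth.Agent.S17528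

/-- Let `S` be a Noetherian scheme, `𝒳` an algebraic stack over `(Sch/S)` for the fppf topology which is
quasi-compact and locally of finite type over `S`, `M` an algebraic space over `S` that is
quasi-separated over `S`, and `π : 𝒳 ⟶ M` a quasi-compact and quasi-separated good moduli space.
Then `M` is of finite type over `S`. Here a good moduli space is a morphism to an algebraic space
along which pushforward takes surjections of quasi-coherent modules to maps surjective on sections
over every affine scheme etale over the target, and for which the canonical map from the functions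
on any scheme etale over the target to the sections of the pushforward of the structure sheaf is
bijective; cohomologically affine means the first of these two conditions. (The published statement
has a Noetherian algebraic space as base; the base is a Noetherian scheme here.) -/
theorem result
    (S : Scheme.{u}) [IsNoetherian S]
    (𝒳 : AlgSt.Cat S) (h𝒳 : AlgSt.IsAlgStack Scheme.fppfPrecoverage 𝒳)
    (hft : AlgSt.LocQ (AlgSp.LocP @LocallyOfFiniteType) (FibCat.toSelf 𝒳)) (hq : AlgSt.IsQuasiCompact 𝒳)
    (M : AlgSp.Space S) (hM : AlgSp.IsQuasiSeparatedSp M.obj) (π : 𝒳 ⥤ᵇ AlgSt.ofSp M.obj)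
    (hqc : AlgSt.IsQuasiCompactMor Scheme.fppfPrecoverage π) (hqs : AlgSt.IsQuasiSeparatedMor π)
    (h : StMod.IsGoodModuli π) :
    ∀ q : M.obj ⟶ (AlgSp.yon S).obj (Over.mk (𝟙 S)), AlgSp.IsFiniteTypeMor q := by
  intro q
  have hM' := Groth.Agent.H14.CohBC.compactPullbacks_of_isQuasiSeparatedSp hM
  have hS := Groth.Agent.H14.Chart.QC2.isAlgStack_selfOver (S := S)
  have hN : AlgSt.SmoothLocally (fun T => IsLocallyNoetherian T) 𝒳 :=
    Groth.Agent.H14.Chart.LocQ.smoothLocally_noetherian h𝒳 hS hft fun V y hy => by
      have := Groth.Agent.H14.UB.smooth_of_chart_selfOver y hy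
      exact LocallyOfFiniteType.isLocallyNoetherian V.hom
  obtain ⟨U₀, V, x₀, y, k, -, hxs, hxe, hy, hk⟩ := hft
  haveI := Groth.Agent.H14.UB.smooth_of_chart_selfOver y hy
  haveI : LocallyOfFiniteType k.left :=
    hk (𝟙 _) (𝟙 _) k (AlgSp.repWith_id _ U₀) (AlgSp.repWith_id _ V) (by simp)
  haveI : LocallyOfFiniteType U₀.hom := by rw [← Over.w k]; infer_instance
  refine ⟨?_, ?_⟩
  · intro U W a b h' ha hb hab
    haveI : LocallyOfFiniteType U.hom := by
      rw [IsZariskiLocalAtSource.iff_of_openCover (P := @LocallyOfFiniteType) U.left.affineCover]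
      intro i
      haveI : IsAffine (U.left.affineCover.X i) := inferInstance
      let ι : Over.mk (U.left.affineCover.f i ≫ U.hom) ⟶ U := Over.homMk (U.left.affineCover.f i)
      have het : Etale ι.left := inferInstanceAs (Etale (U.left.affineCover.f i))
      let E : AlgSp.EtOver M.obj :=
        AlgSp.EtOver.mk ((AlgSp.yon S).map ι ≫ a) (Groth.Agent.Lib.AlgSpace.repWith_yon_map_comp het ha)
      have hE : IsAffine E.obj.left.left := inferInstanceAs (IsAffine (U.left.affineCover.X i))
      haveI : IsNoetherianRing Γ(E.obj.left.left, ⊤) :=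
        Groth.Agent.H14.UB.isNoetherianRing_etale h𝒳 hM' hqc hqs h hN E hE
      exact Groth.Agent.H58LFT.GoodFT.lft_etale h𝒳 hM' hqc hqs h x₀ hxs hxe E hE
    haveI : LocallyOfFiniteType (h'.left ≫ W.hom) := by rw [Over.w h']; infer_instance
    exact AlgebraicGeometry.locallyOfFiniteType_of_comp h'.left W.hom
  · haveI : CompactSpace (AlgSp.Points M.obj) := (Groth.Agent.Lib.AlgSpMor.QC.isQuasiCompactSp_iff M.property).1
      (Groth.Agent.S17527.result S 𝒳 h𝒳 hN hq M hM π hqc hqs h).2
    rw [(Over.mkIdTerminal.isTerminalObj (AlgSp.yon S)).hom_ext q (Groth.Agent.Lib.AlgSpMor.Perm.toBase M.obj)]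
    exact Groth.Agent.Lib.AlgSpMor.Perm.isQuasiCompactMor_toBase M.property

end Groth.Agent.S17528
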