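import Groth.Statements.S17529
import Groth.Agent.H14.UB.Coherent
import Groth.Agent.H14.Chart.LocQ4

set_option autoImplicit false
universe u
open CategoryTheory AlgebraicGeometry
open StMod

namespace Groth.Agent.S17529

/-- Let `S` be a Noetherian scheme, `𝒳` an algebraic stack over `(Sch/S)` for the fppf topology which is
quasi-compact and locally of finite type over `S`, `M` an algebraic space over `S` that is
quasi-separated over `S`, `π : 𝒳 ⟶ M` a quasi-compact and quasi-separated good moduli space, and `F`
a quasi-coherent module on `𝒳` of finite type (a coherent module, `𝒳` being locally Noetherian).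
Then `π_* F` is coherent: over every affine scheme `E` etale over `M` its sections form a finitely
generated `Γ(E, O_E)`-module. Here a good moduli space is a morphism to an algebraic space along
which pushforward takes surjections of quasi-coherent modules to maps surjective on sections over
every affine scheme etale over the target, and for which the canonical map from the functions on any
scheme etale over the target to the sections of the pushforward of the structure sheaf is bijective;
cohomologically affine means the first of these two conditions. (The published statement has a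
Noetherian algebraic space as base; the base is a Noetherian scheme here.) -/
theorem result
    (S : Scheme.{u}) [IsNoetherian S]
    (𝒳 : AlgSt.Cat S) (h𝒳 : AlgSt.IsAlgStack Scheme.fppfPrecoverage 𝒳)
    (hft : AlgSt.LocQ (AlgSp.LocP @LocallyOfFiniteType) (FibCat.toSelf 𝒳)) (hq : AlgSt.IsQuasiCompact 𝒳)
    (M : AlgSp.Space S) (hM : AlgSp.IsQuasiSeparatedSp M.obj) (π : 𝒳 ⥤ᵇ AlgSt.ofSp M.obj)
    (hqc : AlgSt.IsQuasiCompactMor Scheme.fppfPrecoverage π) (hqs : AlgSt.IsQuasiSeparatedMor π)
    (h : StMod.IsGoodModuli π)
    (F : StMod.QCoh 𝒳) (hF : F.obj.IsFinType)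
    (E : AlgSp.EtOver M.obj) (hE : IsAffine E.obj.left.left) :
    Module.Finite Γ(StMod.sch (AlgSt.ofSp M.obj) (StMod.etaOf E), ⊤)
      (StMod.Mod.RelSect π F.obj (StMod.etaOf E)) := by
  have hS := Groth.Agent.H14.Chart.QC2.isAlgStack_selfOver (S := S)
  have hN : AlgSt.SmoothLocally (fun T => IsLocallyNoetherian T) 𝒳 :=
    Groth.Agent.H14.Chart.LocQ.smoothLocally_noetherian h𝒳 hS hft fun V y hy => by
      have := Groth.Agent.H14.UB.smooth_of_chart_selfOver y hy
      exact LocallyOfFiniteType.isLocallyNoetherian V.hom
  exact Groth.Agent.H14.UB.relSect_finite h𝒳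
    (Groth.Agent.H14.CohBC.compactPullbacks_of_isQuasiSeparatedSp hM) hqc hqs h hN F hF E hE

end Groth.Agent.S17529
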