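import Groth.Statements.S1753
import Groth.Agent.H23.Lichtenbaum.Final

set_option autoImplicit false
universe u
open CategoryTheory AlgebraicGeometry
open Dual

namespace Groth.Agent.S1753

/-- Let U be a variety over a field k (integral, separated and of finite type over k) and F a coherent
O_U-module with H^d(U, F) ≠ 0. Then dim U ≥ d, and if dim U = d then U is proper over k. -/
theorem result (k : Type u) [Field k] (U : Scheme.{u}) (f : U ⟶ Spec (CommRingCat.of k)) [IsIntegral U] [IsSeparated f] [LocallyOfFiniteType f] [QuasiCompact f] (F : U.Modules) (hF : Coh.IsCoh F) (d : ℕ) (h : Nontrivial (Coh.HH U F d)) : (d : WithBot ℕ∞) ≤ topologicalKrullDim U ∧ (topologicalKrullDim U = d → IsProper f) := by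

  haveI : IsLocallyNoetherian U := LocallyOfFiniteType.isLocallyNoetherian f
  haveI : CompactSpace U := QuasiCompact.compactSpace_of_compactSpace f
  haveI : AlgebraicGeometry.IsNoetherian U := {}
  obtain ⟨e, he⟩ := Groth.Agent.H23.Lichtenbaum.Proper.exists_dim_eq f
  refine ⟨?_, fun hd => ?_⟩
  · rw [he, Nat.cast_le]
    by_contra hlt
    haveI := Groth.Agent.H23.Lichtenbaum.GenSurj.subsingleton_HH_succ he.le F (not_le.1 hlt)
    exact not_subsingleton (Coh.HH U F d) inferInstance
  · by_contra hnp
    haveI := Groth.Agent.H23.Lichtenbaum.Final.subsingleton_HH_of_not_proper f hnp hd.le F hF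
    exact not_subsingleton (Coh.HH U F d) inferInstance
end Groth.Agent.S1753
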