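import Groth.Statements.S17532
import Groth.Agent.H14.QARes.Main
-- import your own Groth.Agent.* helpers here

set_option autoImplicit false
universe u
open CategoryTheory MonoidalCategory CartesianMonoidalCategory AlgebraicGeometry
open StMod

namespace Groth.Agent.S17532

/-- In the case of a quasi-affine `U` with the trivial line bundle, let `k` be a field, `G` an affine
group scheme of finite type over `k` (structure morphism affine, flat and locally of finite
presentation) acting on a quasi-affine `k`-scheme `U` locally of finite type over `k`, and let
`[U/G]` be the fppf quotient stack in its description by `G`-torsors that are schemes with an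
equivariant map to `U`, assumed to be an algebraic stack. Then `[U/G]` has the resolution property:
every quasi-coherent module of finite type on `[U/G]` (a coherent module) is a quotient of a locally
free module of finite type. (The published statement allows `U` quasi-projective carrying an ample
line bundle with a `G`-action; this row is its special case, singled out there, of `U` quasi-affine
with the trivial line bundle.) -/
theorem result
    (k : Type u) [Field k]
    (G : Over (Spec (CommRingCat.of k))) [GrpObj G]
    [IsAffineHom G.hom] [Flat G.hom] [LocallyOfFinitePresentation G.hom]
    (U : Over (Spec (CommRingCat.of k))) [U.left.IsQuasiAffine] [LocallyOfFiniteType U.hom]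
    (aU : AlgGrp.Action G U)
    (h𝒳 : AlgSt.IsAlgStack Scheme.fppfPrecoverage (AlgSt.QuotSt Scheme.fppfPrecoverage G aU))
    (F : StMod.QCoh (AlgSt.QuotSt Scheme.fppfPrecoverage G aU)) (hF : F.obj.IsFinType) :
    ∃ (E : StMod.QCoh (AlgSt.QuotSt Scheme.fppfPrecoverage G aU)) (q : E ⟶ F),
      E.obj.IsLocFree ∧ E.obj.IsFinType ∧ StMod.Mod.IsSurj q.hom := by
  exact Groth.Agent.H14.QARes.exists_locFree_surj k aU F hF

end Groth.Agent.S17532
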