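import Groth.Statements.S17535
import Groth.Agent.H14.UB.KPoints

set_option autoImplicit false
universe u
open CategoryTheory AlgebraicGeometry
open StMod

namespace Groth.Agent.S17535

/-- Let `k` be an algebraically closed field, `𝒳` an algebraic stack over `(Sch/Spec k)` for the fppf
topology, `M` an algebraic space over `k` that is quasi-separated over `k`, and `π : 𝒳 ⟶ M` a
quasi-compact and quasi-separated good moduli space. For `k`-points `x₁, x₂` of `𝒳` (functors
`(Sch/Spec k) ⟶ 𝒳` over `(Sch/Spec k)`), the `k`-points `π ∘ x₁` and `π ∘ x₂` of `M` coincide if and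
only if the closures in `|𝒳|` of the points defined by `x₁` and `x₂` have a common point. Here a
good moduli space is a morphism to an algebraic space along which pushforward takes surjections of
quasi-coherent modules to maps surjective on sections over every affine scheme etale over the
target, and for which the canonical map from the functions on any scheme etale over the target to
the sections of the pushforward of the structure sheaf is bijective; cohomologically affine means
the first of these two conditions. (The published statement is for geometric points over an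
arbitrary base, with closures taken in the base change of `𝒳` to the algebraically closed field;
this row is its case where the base is already that field. The published result assumes `𝒳`
quasi-separated; `M` quasi-separated, which its proof uses, is assumed instead.) -/
theorem result
    (k : Type u) [Field k] [IsAlgClosed k]
    (𝒳 : AlgSt.Cat (Spec (CommRingCat.of k))) (h𝒳 : AlgSt.IsAlgStack Scheme.fppfPrecoverage 𝒳)
    (M : AlgSp.Space (Spec (CommRingCat.of k))) (hM : AlgSp.IsQuasiSeparatedSp M.obj)
    (π : 𝒳 ⥤ᵇ AlgSt.ofSp M.obj)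
    (hqc : AlgSt.IsQuasiCompactMor Scheme.fppfPrecoverage π) (hqs : AlgSt.IsQuasiSeparatedMor π)
    (h : StMod.IsGoodModuli π)
    (x₁ x₂ : FibCat.overCat (Over.mk (𝟙 (Spec (CommRingCat.of k)))) ⥤ᵇ 𝒳)
    (t : ↥(Spec (CommRingCat.of k))) :
    BasedFunctor.comp x₁ π = BasedFunctor.comp x₂ π ↔
      (closure {AlgSt.Points.ofChart x₁ t} ∩ closure {AlgSt.Points.ofChart x₂ t}).Nonempty := by
  have hMs := Groth.Agent.Lib.AlgStack.IsAlg.isAlgStack_ofSp M
  have hd := Groth.Agent.Lib.AlgSpDecent.QS.isDecent_of_isQuasiSeparatedSp M.property hM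
  constructor
  · intro he
    refine Groth.Agent.H14.UB.closure_inter_nonempty h𝒳
      (Groth.Agent.H14.CohBC.compactPullbacks_of_isQuasiSeparatedSp hM) hqc hqs h _ _ ?_
    rw [Groth.Agent.H14.Chart.Points.map_ofChart, Groth.Agent.H14.Chart.Points.map_ofChart, he]
  · rintro ⟨c, hc₁, hc₂⟩
    have hmap : ∀ (x : FibCat.overCat (Over.mk (𝟙 (Spec (CommRingCat.of k)))) ⥤ᵇ 𝒳),
        c ∈ closure {AlgSt.Points.ofChart x t} →
        Groth.Agent.H14.Chart.UnivTop.toSp M (AlgSt.Points.map π c) =
          AlgSp.Points.ofPt (Groth.Agent.Lib.AlgStack.SpMapProp.ofPoint (BasedFunctor.comp x π)) t := fun x hx => by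
      have hcont : Continuous (fun q => Groth.Agent.H14.Chart.UnivTop.toSp M (AlgSt.Points.map π q)) :=
        (Groth.Agent.H14.Chart.UnivTop.isHomeomorph_toSp M).continuous.comp
          (Groth.Agent.H14.Chart.Basic.continuous_map hMs π)
      have h1 := image_closure_subset_closure_image hcont ⟨c, hx, rfl⟩
      rw [Set.image_singleton, Groth.Agent.H14.Chart.Points.map_ofChart,
        Groth.Agent.H14.Chart.UnivTop.toSp_ofChart, (Groth.Agent.H14.UB.isClosed_kpt hd _ t).closure_eq] at h1
      exact h1
    have := Groth.Agent.H14.UB.kpt_eq hd ((hmap x₁ hc₁).symm.trans (hmap x₂ hc₂))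
    exact Groth.Agent.H14.UB.eq_of_iso_ofSp (Groth.Agent.Lib.AlgStack.SpMapProp.isoOfPoint _ ≪≫
      eqToIso (congrArg (fun g => BasedFunctor.comp (AlgSt.ofOverCat _) (AlgSt.ofSpMap g)) this) ≪≫
      (Groth.Agent.Lib.AlgStack.SpMapProp.isoOfPoint _).symm)

end Groth.Agent.S17535
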