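import Groth.Statements.S17536
-- import your own Groth.Agent.* helpers here

set_option autoImplicit false
universe u v w
open W4c5adicflatcompl
open CAlg

namespace Groth.Agent.S17536

/-- If the A-module M is I-adically separated then so is the module of I-adically decaying functions
from a set Z to M. -/
theorem result {A : Type u} [CommRing A] (I : Ideal A) (Z : Type v)
    (M : Type w) [AddCommGroup M] [Module A M] [IsHausdorff I M] :
    IsHausdorff I (decaying I Z M) := by
  refine ⟨fun f hf => ?_⟩
  ext z
  refine IsHausdorff.haus ‹_› ((f : Z → M) z) fun n => ?_
  have hn := hf n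
  rw [SModEq.zero] at hn ⊢
  have hmem := Submodule.mem_map_of_mem (f := (LinearMap.proj z).comp (decaying I Z M).subtype) hn
  rw [Submodule.map_smul''] at hmem
  exact Submodule.smul_mono le_rfl le_top hmem

end Groth.Agent.S17536
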