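import Groth.Statements.S17537
import Groth.Agent.H22.Decaying

set_option autoImplicit false
universe u v
open CAlg

namespace Groth.Agent.S17537

/-- For a commutative ring A, an ideal I and an A-module M, the I-adic completion M^ of M is itself
I-adically complete if and only if, for every n, every element of M^ is congruent modulo I^n M^ to
the image of an element of M (the maps M/I^n M → M^/I^n M^ are surjective). -/
theorem result {A : Type u} [CommRing A] (I : Ideal A)
    (M : Type v) [AddCommGroup M] [Module A M] :
    IsAdicComplete I (AdicCompletion I M) ↔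
      ∀ (n : ℕ) (x : AdicCompletion I M), ∃ y : M,
        x - AdicCompletion.of I M y ∈ (I ^ n • ⊤ : Submodule A (AdicCompletion I M)) := by
  have hle : ∀ n (y : M), y ∈ (I ^ n • ⊤ : Submodule A M) →
      AdicCompletion.of I M y ∈ (I ^ n • ⊤ : Submodule A (AdicCompletion I M)) := fun n y hy =>
    H22.Decaying.map_mem_smul_top (φ := AdicCompletion.of I M) hy
  constructor
  · intro h n x
    rcases Nat.eq_zero_or_pos n with rfl | hn
    · refine ⟨0, ?_⟩
      have h0 : (I ^ 0 • ⊤ : Submodule A (AdicCompletion I M)) = ⊤ := by
        rw [pow_zero, Ideal.one_eq_top, Submodule.top_smul]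
      rw [h0]
      exact Submodule.mem_top
    obtain ⟨y, hy⟩ := Submodule.mkQ_surjective _ (x.val n)
    refine ⟨y, ?_⟩
    rw [← (H22.Completion.isAdicComplete_iff_ker_eval I).1 h n hn, LinearMap.mem_ker, map_sub,
      AdicCompletion.eval_of, AdicCompletion.eval_apply, hy, sub_self]
  · intro h
    rw [H22.Completion.isAdicComplete_iff_ker_eval I]
    intro n _
    refine le_antisymm (fun x hx => ?_) (AdicCompletion.pow_smul_top_le_ker_eval ..)
    obtain ⟨y, hy⟩ := h n x
    have h1 := AdicCompletion.pow_smul_top_le_ker_eval (I := I) (M := M) n hy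
    rw [LinearMap.mem_ker] at h1 hx
    rw [map_sub, hx, zero_sub, neg_eq_zero, AdicCompletion.eval_of, Submodule.mkQ_apply,
      Submodule.Quotient.mk_eq_zero] at h1
    have h2 := add_mem hy (hle n y h1)
    rwa [sub_add_cancel] at h2

end Groth.Agent.S17537
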