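import Groth.Statements.S17538
import Mathlib.RingTheory.AdicCompletion.Completeness

set_option autoImplicit false
universe u v
open CAlg

namespace Groth.Agent.S17538

/-- For a commutative ring A, an ideal I and an A-module M, the canonical map from the I-adic completion
M^ to the I-adic completion of M^ admits an A-linear retraction (it is a split injection). (That M^
is I-adically separated is standard.) -/
theorem result {A : Type u} [CommRing A] (I : Ideal A)
    (M : Type v) [AddCommGroup M] [Module A M] :
    ∃ ψ : AdicCompletion I (AdicCompletion I M) →ₗ[A] AdicCompletion I M,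
      ψ ∘ₗ AdicCompletion.of I (AdicCompletion I M) = LinearMap.id := by
  let F : ∀ n, (AdicCompletion I M ⧸ (I ^ n • ⊤ : Submodule A (AdicCompletion I M))) →ₗ[A]
      M ⧸ (I ^ n • ⊤ : Submodule A M) := fun n =>
    Submodule.liftQ _ (AdicCompletion.eval I M n) (AdicCompletion.pow_smul_top_le_ker_eval ..)
  have hF : ∀ {m n : ℕ} (hmn : m ≤ n) (y),
      AdicCompletion.transitionMap I M hmn (F n y) =
        F m (AdicCompletion.transitionMap I (AdicCompletion I M) hmn y) := by
    intro m n hmn y
    obtain ⟨y, rfl⟩ := Submodule.mkQ_surjective _ y
    exact y.property hmn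
  refine ⟨{ toFun := fun x => ⟨fun n => F n (x.val n), fun {m n} hmn => by rw [hF, x.property hmn]⟩
            map_add' := fun x y => by ext n; simp
            map_smul' := fun a x => by ext n; exact (F n).map_smul a (x.val n) }, ?_⟩
  refine LinearMap.ext fun x => ?_
  ext n
  simp [F]

end Groth.Agent.S17538
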