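import Groth.Statements.S17539
import Groth.Agent.H22.Decaying
import Mathlib.LinearAlgebra.Finsupp.LSum

set_option autoImplicit false
universe u v w
open W4c5adicflatcompl
open CAlg

namespace Groth.Agent.S17539

/-- For a commutative ring A, an ideal I, a set Z and an A-module M whose I-adic completion M^ is itself
I-adically complete, the canonical map from the I-adic completion of Z →₀ M to the functions Z → M^,
whose z-th coordinate is the completion of evaluation at z, is injective with image the I-adically
decaying functions Z → M^. (The source states bijectivity of the inverse map, from decaying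
functions to the limit of the finitely supported functions Z → M/I^n M, induced by the projections
M^ → M/I^n M; the two formulations are equivalent.) -/
theorem result {A : Type u} [CommRing A] (I : Ideal A) (Z : Type v)
    (M : Type w) [AddCommGroup M] [Module A M] [IsAdicComplete I (AdicCompletion I M)] :
    Function.Injective
        (LinearMap.pi fun z : Z =>
          (AdicCompletion.map I (Finsupp.lapply (M := M) (R := A) z)).restrictScalars A) ∧
      LinearMap.range
        (LinearMap.pi fun z : Z =>
          (AdicCompletion.map I (Finsupp.lapply (M := M) (R := A) z)).restrictScalars A) =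
        decaying I Z (AdicCompletion I M) := by
  classical
  let D := AdicCompletion I (Z →₀ M)
  let pr : Z → D →ₗ[A] AdicCompletion I M := fun z =>
    (AdicCompletion.map I (Finsupp.lapply (M := M) (R := A) z)).restrictScalars A
  have hpr : ∀ (y : D) (z : Z) (n : ℕ) (w : Z →₀ M), Submodule.Quotient.mk w = y.val n →
      (pr z y).val n = Submodule.Quotient.mk (w z) := by
    intro y z n w hw
    have h := (hw ▸ rfl : (pr z y).val n = (Finsupp.lapply (M := M) (R := A) z).reduceModIdeal (I ^ n)
      (Submodule.Quotient.mk w))
    rw [h]
    rfl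
  have hmem : ∀ (n : ℕ) (w : Z →₀ M), (∀ z, w z ∈ (I ^ n • ⊤ : Submodule A M)) →
      w ∈ (I ^ n • ⊤ : Submodule A (Z →₀ M)) := by
    intro n w hw
    rw [← Finsupp.sum_single w]
    exact Submodule.sum_mem _ fun z _ => H22.Decaying.map_mem_smul_top (φ := Finsupp.lsingle z) (hw z)
  have hker : ∀ (n : ℕ) (x : AdicCompletion I M), x.val n = 0 →
      x ∈ (I ^ n • ⊤ : Submodule A (AdicCompletion I M)) := by
    intro n x hx
    rcases Nat.eq_zero_or_pos n with rfl | hn
    · have h0 : (I ^ 0 • ⊤ : Submodule A (AdicCompletion I M)) = ⊤ := by
        rw [pow_zero, Ideal.one_eq_top, Submodule.top_smul]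
      rw [h0]
      exact Submodule.mem_top
    rw [← (H22.Completion.isAdicComplete_iff_ker_eval I).1 inferInstance n hn, LinearMap.mem_ker]
    exact hx
  refine ⟨fun y y' h => ?_, le_antisymm ?_ fun g hg => ?_⟩
  · ext n
    obtain ⟨w, hw⟩ := Submodule.mkQ_surjective _ (y.val n)
    obtain ⟨w', hw'⟩ := Submodule.mkQ_surjective _ (y'.val n)
    rw [← hw, ← hw']
    refine (Submodule.Quotient.eq _).2 (hmem n _ fun z => ?_)
    have h1 := congrArg (fun x => x.val n) (congrFun h z)
    change (pr z y).val n = (pr z y').val n at h1
    rw [hpr y z n w hw, hpr y' z n w' hw', Submodule.Quotient.eq] at h1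
    exact h1
  · rintro _ ⟨y, rfl⟩ n
    obtain ⟨w, hw⟩ := Submodule.mkQ_surjective _ (y.val n)
    refine w.support.finite_toSet.subset fun z hz => ?_
    by_contra hzs
    refine hz (hker n (pr z y) ?_)
    rw [hpr y z n w hw, Finsupp.notMem_support_iff.1 hzs, Submodule.Quotient.mk_zero]
  · choose a ha using fun (n : ℕ) (z : Z) => Submodule.mkQ_surjective _ ((g z).val n)
    let w : ℕ → (Z →₀ M) := fun n => ∑ z ∈ (hg n).toFinset, Finsupp.single z (a n z)
    have hw : ∀ n z, Submodule.Quotient.mk (w n z) = (g z).val n := by
      intro n z
      have h1 : w n z = if z ∈ (hg n).toFinset then a n z else 0 := by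
        simp [w, Finsupp.finsetSum_apply, Finsupp.single_apply]
      rw [h1]
      split_ifs with hz
      · exact ha n z
      · have h2 : g z ∈ (I ^ n • ⊤ : Submodule A (AdicCompletion I M)) :=
          not_not.1 fun h => hz ((hg n).mem_toFinset.2 h)
        have h3 := LinearMap.mem_ker.1 (AdicCompletion.pow_smul_top_le_ker_eval (I := I) (M := M) n h2)
        rw [Submodule.Quotient.mk_zero]
        exact h3.symm
    refine ⟨⟨fun n => Submodule.Quotient.mk (w n), fun {m n} hmn => ?_⟩, funext fun z => ?_⟩
    · refine (Submodule.Quotient.eq _).2 (hmem m _ fun z => ?_)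
      rw [LinearMap.id_apply, Finsupp.sub_apply, ← Submodule.Quotient.eq, hw m z,
        ← (g z).property hmn, ← hw n z]
      rfl
    · ext n
      exact (hpr _ z n (w n) rfl).trans (hw n z)

end Groth.Agent.S17539
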