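import Groth.Statements.S1754
import Groth.Agent.Lib.LCFin.FiniteH1Local
-- import your own Groth.Agent.* helpers here

set_option autoImplicit false
universe u
open LocCoh

namespace Groth.Agent.S1754

/-- Let A be a Noetherian domain and I a nonzero ideal. Suppose that for every prime q containing I and
every associated prime P of the completion B of the local ring A_q, the quotient B/P has dimension
at least 2. Then the local cohomology module H^1_I(A) is a finite A-module. (This is the affine
form, with coherence of j_*O_U for U = Spec A ∖ V(I) expressed as finiteness of H^1_I(A).) -/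
theorem result (A : Type u) [CommRing A] [IsDomain A] [IsNoetherianRing A] (I : Ideal A) (hI : I ≠ ⊥) (h : ∀ (q : PrimeSpectrum A), I ≤ q.asIdeal → ∀ P ∈ associatedPrimes (AdicCompletion (IsLocalRing.maximalIdeal (Localization.AtPrime q.asIdeal)) (Localization.AtPrime q.asIdeal)) (AdicCompletion (IsLocalRing.maximalIdeal (Localization.AtPrime q.asIdeal)) (Localization.AtPrime q.asIdeal)), (2 : WithBot ℕ∞) ≤ ringKrullDim (AdicCompletion (IsLocalRing.maximalIdeal (Localization.AtPrime q.asIdeal)) (Localization.AtPrime q.asIdeal) ⧸ P)) : Module.Finite A (LocCoh.H I 1 A) := by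
  refine Groth.Agent.Lib.LCFin.FiniteH1Local.finite_of_closedPoints I A
    ((Submodule.eq_bot_iff _).2 fun z hz => ?_) fun q _ hIq => ?_
  · obtain ⟨k, hk⟩ := hz
    obtain ⟨a, ha, ha0⟩ := Submodule.exists_mem_ne_zero_of_ne_bot hI
    exact (mul_eq_zero.1 (hk _ (Ideal.pow_mem_pow ha k) : a ^ k * z = 0)).resolve_left (pow_ne_zero k ha0)
  haveI := Groth.Agent.Lib.LCFin.FiniteH1Local.finite_H1_max (Localization.AtPrime q) _ rfl (h ⟨q, ‹_›⟩ hIq)
  exact Module.Finite.equiv (Groth.Agent.Lib.LocalCoh.lcLinearEquiv
    (IsLocalRing.maximalIdeal (Localization.AtPrime q)) 1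
    ((IsLocalizedModule.linearEquiv q.primeCompl (Algebra.linearMap A (Localization.AtPrime q))
      (LocalizedModule.mkLinearMap q.primeCompl A)).extendScalarsOfIsLocalization q.primeCompl
      (Localization.AtPrime q)))


end Groth.Agent.S1754
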