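import Groth.Statements.S17544
import Groth.Agent.H22.Decaying

set_option autoImplicit false
universe u v w
open W4c5adicflatcompl
open CAlg

namespace Groth.Agent.S17544

/-- For a Noetherian ring A which is I-adically complete, a set Z and n ≥ 0, reduction modulo I^n maps
the decaying functions Z → A onto the finitely supported functions Z → A/I^n, and its kernel, the
decaying functions with all values in I^n, equals I^n times the module of decaying functions; so
(A/I^n) ⊗ F_dec(Z, A) → F_fin(Z, A/I^n) is bijective. -/
theorem result {A : Type u} [CommRing A] [IsNoetherianRing A]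
    (I : Ideal A) [IsAdicComplete I A] (Z : Type v) (n : ℕ) :
    (∀ g : Z →₀ A ⧸ I ^ n, ∃ f : decaying I Z A,
        ∀ z, Ideal.Quotient.mk (I ^ n) ((f : Z → A) z) = g z) ∧
      ∀ f : decaying I Z A,
        f ∈ (I ^ n • ⊤ : Submodule A (decaying I Z A)) ↔ ∀ z, (f : Z → A) z ∈ I ^ n := by
  classical
  refine ⟨fun g => ?_, fun f => ?_⟩
  · choose a ha using fun z => Ideal.Quotient.mk_surjective (g z)
    let f : Z → A := fun z => if z ∈ g.support then a z else 0
    have hf : f ∈ decaying I Z A := fun m => g.support.finite_toSet.subset fun z hz => by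
      by_contra hzs
      refine hz ?_
      simp only [f, if_neg (show z ∉ g.support from hzs)]
      exact zero_mem _
    refine ⟨⟨f, hf⟩, fun z => ?_⟩
    by_cases hz : z ∈ g.support
    · simp only [f, if_pos hz, ha]
    · simp only [f, if_neg hz, map_zero, Finsupp.notMem_support_iff.1 hz]
  · rw [H22.Decaying.mem_smul_top_iff I (IsNoetherian.noetherian _) n f]
    simp only [smul_eq_mul, Ideal.mul_top]

end Groth.Agent.S17544
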