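import Groth.Statements.S17549
import Groth.Agent.H22.DecayingFree

set_option autoImplicit false
universe u
open W4c5adicflatcompl
open CAlg

namespace Groth.Agent.S17549

/-- Over a Noetherian ring A with I-adic completion Â, an A-module P is I-adically projective
(I-adically complete, and every A-linear map from P to the target of a surjection between I-adically
complete modules lifts along that surjection) exactly when P is a retract of some module of
I-adically decaying functions Z → Â: there are a set Z, an A-linear map i from P to the decaying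
functions Z → Â and an A-linear map r back with r ∘ i the identity of P. Test modules, P and Z live
in the universe of A. -/
theorem result {A : Type u} [CommRing A] [IsNoetherianRing A]
    (I : Ideal A) (P : Type u) [AddCommGroup P] [Module A P] :
    IsAdicProjective I P ↔
      ∃ (Z : Type u) (i : P →ₗ[A] decaying I Z (AdicCompletion I A))
        (r : decaying I Z (AdicCompletion I A) →ₗ[A] P), r ∘ₗ i = LinearMap.id := by
  classical
  have hI : I.FG := IsNoetherian.noetherian _
  have := AdicCompletion.isAdicComplete (M := A) hI
  constructor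
  · rintro ⟨hP, hlift⟩
    have hD := H22.Decaying.isAdicComplete I (Z := P) (M := AdicCompletion I A) hI
    obtain ⟨φ, hφ, -⟩ := H22.Decaying.existsUnique_lift I hI (id : P → P)
    obtain ⟨i, hi⟩ := hlift _ P hD hP φ (fun x => ⟨_, hφ x⟩) LinearMap.id
    exact ⟨P, i, φ, hi⟩
  · rintro ⟨Z, i, r, hri⟩
    have hD := H22.Decaying.isAdicComplete I (Z := Z) (M := AdicCompletion I A) hI
    refine ⟨H22.DecayingFree.isAdicComplete_of_retract I i r hri, fun M N _ _ _ _ hM hN φ hφ ψ => ?_⟩
    choose f hf using fun z => hφ (ψ (r (single I z (1 : AdicCompletion I A))))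
    obtain ⟨χ, hχ, -⟩ := H22.Decaying.existsUnique_lift I hI f
    have key : φ ∘ₗ χ = ψ ∘ₗ r := H22.Decaying.hom_ext I hI fun z m => LinearMap.congr_fun
      (H22.Decaying.linearMap_ext_completion I (φ := (φ ∘ₗ χ) ∘ₗ H22.Decaying.singleₗ I z)
        (ψ := (ψ ∘ₗ r) ∘ₗ H22.Decaying.singleₗ I z) (by simp [hχ, hf])) m
    exact ⟨χ ∘ₗ i, by rw [← LinearMap.comp_assoc, key, LinearMap.comp_assoc, hri, LinearMap.comp_id]⟩

end Groth.Agent.S17549
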