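import Groth.Statements.S17555
import Groth.Agent.H66.LieWt.RootExists

set_option autoImplicit false
universe u v
open CategoryTheory MonoidalCategory CartesianMonoidalCategory MonObj GrpObj AlgebraicGeometry
open LieWt

namespace Groth.Agent.S17555

/-- Let k be a field, G a reductive k-group scheme (affine, smooth, with connected reductive geometric
fibre) which is not solvable, and i : T ⟶ G a maximal torus which is split. Then the set of roots of
(G, T) is non-empty: there is a homomorphism α from T to the multiplicative group, different from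
the trivial character, whose weight space for the adjoint action of T on the Lie algebra of G over k
is not reduced to zero. -/
theorem result (k : Type u) [Field k]
    (G T : Over (Spec (CommRingCat.of k))) [GrpObj G] [GrpObj T] (hG : Red.IsReductive G) (hns : ¬ Red.IsSolvableGrp G)
    (i : T ⟶ G) (hT : Red.IsMaximalTorus i) (M : Type) [AddCommGroup M] (hM : Red.IsSplitTorusWith M T) :
    ∃ α : T ⟶ Red.Gm (Spec (CommRingCat.of k)), LieWt.IsRoot i α := by
  classical
  obtain ⟨A, _, _, _, _, r, π, e, d, he, hd, hπ, hG', hT', hπeq⟩ := Groth.Agent.H66.LieWt.exists_coords hG i hT hM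
  haveI := he
  haveI := hd
  haveI := hT.1
  obtain ⟨m, φ, hm, hφ⟩ := Groth.Agent.H66.LieWt.exists_root_of_not_comm π hG' hT' (by
    by_contra hcon
    push Not at hcon
    refine hns ⟨1, fun X => ?_⟩
    rw [derivedSeries_one, commutator_def, Subgroup.commutator_eq_bot_iff_le_centralizer]
    refine fun a _ => Subgroup.mem_centralizer_iff.mpr fun b _ => Eq.symm ?_
    rw [← cancel_mono e.hom, MonObj.mul_comp, MonObj.mul_comp]
    exact hcon X (a ≫ e.hom) (b ≫ e.hom))
  haveI : IsMonHom d.symm.hom := inferInstanceAs (IsMonHom d.inv)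
  haveI : IsMonHom e.symm.hom := inferInstanceAs (IsMonHom e.inv)
  refine ⟨d.symm.hom ≫ Groth.Agent.H66.LieWt.chM m, Groth.Agent.H66.LieWt.isRoot_congr e.symm d.symm _ i ?_
    (Groth.Agent.H66.LieWt.isRoot_of_isWtDer π hm hφ)⟩
  rw [hπeq, Iso.symm_hom, Iso.symm_hom]
  simp

end Groth.Agent.S17555
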