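import Groth.Statements.S17556
import Groth.Agent.H66.LieWt.RootDescent

set_option autoImplicit false
universe u v
open CategoryTheory MonoidalCategory CartesianMonoidalCategory MonObj GrpObj AlgebraicGeometry
open LieWt

namespace Groth.Agent.S17556

/-- Let k be a field, G a reductive k-group scheme (affine, smooth, with connected reductive geometric
fibre), i : T ⟶ G a maximal torus which is split and α a root of (G, T): a homomorphism from T to
the multiplicative group, other than the trivial character, with non-zero weight space on the Lie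
algebra of G over k. Then the inverse character α⁻¹, written −a in additive notation, is also a root
of (G, T). (A connected reductive group having a root is not solvable, so non-solvability is not
assumed separately here.) -/
theorem result (k : Type u) [Field k]
    (G T : Over (Spec (CommRingCat.of k))) [GrpObj G] [GrpObj T] (hG : Red.IsReductive G)
    (i : T ⟶ G) (hT : Red.IsMaximalTorus i) (M : Type) [AddCommGroup M] (hM : Red.IsSplitTorusWith M T)
    (α : T ⟶ Red.Gm (Spec (CommRingCat.of k))) (hα : LieWt.IsRoot i α) :
    LieWt.IsRoot i α⁻¹ := by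
  classical
  obtain ⟨A, _, _, _, _, r, π, e, d, he, hd, hπ, hG', hT', hπeq⟩ := Groth.Agent.H66.LieWt.exists_coords hG i hT hM
  haveI := he
  haveI := hd
  haveI := hT.1
  haveI := hT'.1
  obtain ⟨m, φ, hm, hαm, hφ⟩ := Groth.Agent.H66.LieWt.exists_isWtDer_of_isRoot π
    (Groth.Agent.H66.LieWt.isRoot_congr e d i _ hπeq hα)
  obtain ⟨φ', hφ'⟩ := Groth.Agent.H66.LieWt.exists_isWtDer_inv π hπ hG' hT' hm hφ
  haveI : IsMonHom d.symm.hom := inferInstanceAs (IsMonHom d.inv)
  haveI : IsMonHom e.symm.hom := inferInstanceAs (IsMonHom e.inv)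
  have hroot := Groth.Agent.H66.LieWt.isRoot_congr e.symm d.symm _ i (by
    rw [hπeq, Iso.symm_hom, Iso.symm_hom]
    simp) (Groth.Agent.H66.LieWt.isRoot_of_isWtDer π (inv_ne_one.2 hm) hφ')
  have h : d.symm.hom ≫ Groth.Agent.H66.LieWt.chM m⁻¹ = α⁻¹ := by
    rw [← Groth.Agent.H66.LieWt.chM_inv, GrpObj.comp_inv, ← hαm, Iso.symm_hom, Iso.inv_hom_id_assoc]
  rwa [h] at hroot

end Groth.Agent.S17556
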