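import Groth.Statements.S17575
import Groth.Agent.H19.Cycle.C1Gen
import Groth.Agent.H46.Equidim
import Groth.Agent.Lib.Ample.GenLocus
import Groth.Agent.Lib.Cyc.CH.Setup


set_option autoImplicit false
universe u
open CategoryTheory AlgebraicGeometry
open Bivar

namespace Groth.Agent.S17575

open Groth.Agent.H19.Cycle.C1Gen



/-- Let X be a scheme which has an ample invertible module (in particular X is quasi-compact) and whose
dimension (the topological Krull dimension, not the δ-dimension) is at most d. Then for any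
invertible modules L_0, …, L_d on X the composite c_1(L_d) ∘ ⋯ ∘ c_1(L_0) vanishes in A^{d+1}(X):
for every test scheme g : Y → X locally of finite type (with induced dimension function), every x_0
∈ CH_k(Y) and every chain x_{j+1} = c_1(L_j) ∩ x_j ∈ CH_{k−j−1}(Y), j = 0, …, d, one has x_{d+1} =
0. Here each c_1(L_j) ∈ A^1(X) is an operational class given through the binder Bivar.IsC1Class, and
consecutive weights k − (j + 1) and k − j − 1 are matched by the transport Bivar.chCast. (The
published statement takes the dimension equal to d; dimension at most d follows at once, the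
operations being additive.) Here a pair (X, δ) with Cyc.IsSetup plays the role of a scheme locally
of finite type over the base (S, δ) (X locally Noetherian with universally catenary local rings, δ a
dimension function), Cyc.DeltaCompat records that a dimension function is the induced one, and
bivariant classes are taken in the operational sense of the prelude: additive operations on the Chow
groups CH_k (k-cycles modulo rational equivalence) of all test schemes, compatible with proper
pushforward, flat pullback and the Gysin maps of zero schemes of sections of invertible modules in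
representative form (Bivar.Cl for A^p(X → Y), Bivar.OpCl for A^p(X)). -/
theorem result (X : Scheme.{u}) (δX : X → ℤ) (hX : Cyc.IsSetup X δX) (A : X.Modules) (hA : CohB1.IsAmple A) (d : ℕ) (hd : topologicalKrullDim X ≤ (d : WithBot ℕ∞)) (L : ℕ → X.Modules) (c : ℕ → Bivar.OpCl 1 X δX) (hc : ∀ j, j ≤ d → Bivar.IsC1Class (L j) (c j)) (s : Bivar.OSq X δX) (k : ℤ) (x : (j : ℕ) → ChowOps.CH s.Y s.δ (k - (j : ℤ))) (hx : ∀ j, j ≤ d → (c j).op s (k - (j : ℤ)) (x j) = Bivar.chCast s.Y s.δ (((congrArg (fun t : ℤ => k - t) (Nat.cast_succ j)).trans (sub_sub k (j : ℤ) 1).symm)) (x (j + 1))) : x (d + 1) = 0 := by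
  classical
  haveI : IsLocallyNoetherian X := hX.1
  haveI : CompactSpace X := hA.2.1
  haveI : IsNoetherian X := {}
  haveI := s.lft
  haveI : IsLocallyNoetherian s.Y := LocallyOfFiniteType.isLocallyNoetherian s.g
  have hδ : Cyc.IsDimFun s.Y s.δ :=
    (Groth.Agent.Lib.Cyc.CH.isSetup_of_deltaCompat s.g hX s.compat).2.2
  have main : ∀ j, j ≤ d + 1 → ∃ (α : AlgebraicCycle s.Y ℤ) (hα : α ∈ Cyc.Zk s.Y s.δ (k - (j : ℤ))),
      ChowOps.cl α hα = x j ∧ ∃ T : Set X, IsClosed T ∧ (∀ ξ, α ξ ≠ 0 → s.g ξ ∈ T) ∧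
        ∀ q ∈ T, ht q + (j : ℕ∞) ≤ (d : ℕ∞) := by
    intro j
    induction j with
    | zero =>
      intro _
      obtain ⟨α, hα, he⟩ := Bivar.exists_rep (x 0)
      exact ⟨α, hα, he, Set.univ, isClosed_univ, fun _ _ => trivial, fun q _ => by simpa using ht_le hd q⟩
    | succ j ih =>
      intro hj
      obtain ⟨α, hα, he, T, hT, hsupp, hh⟩ := ih (by omega)
      obtain ⟨hL, hcl⟩ := hc j (by omega)
      let G : Set X := {q ∈ T | ∀ y ∈ T, y ⤳ q → y = q}
      have hG : G.Finite := Groth.Agent.Lib.Cyc.DimFun.finite_maxPts hT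
      have hmax : ∀ p ∈ T, ∃ q ∈ G, q ⤳ p := fun p hp => by
        haveI : QuasiSober T := hT.isClosedEmbedding_subtypeVal.quasiSober
        let p' : T := ⟨p, hp⟩
        obtain ⟨q, hq, hqc⟩ := Groth.Agent.H46.Equidim.exists_generic_of_mem_irreducibleComponents
          (irreducibleComponent_mem_irreducibleComponents p')
        refine ⟨q.1, ⟨q.2, fun y hy hys => congrArg Subtype.val (hq ⟨y, hy⟩ ((subtype_specializes_iff _ _).2 hys))⟩, ?_⟩
        exact (specializes_iff_mem_closure.2 (hqc ▸ mem_irreducibleComponent : p' ∈ closure {q})).map continuous_subtype_val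
      choose U0 e0 hx0 he0 using Groth.Agent.Lib.TensorMod.Gen.isInvertible_iff.1 hL
      let C : X → Set X := fun q => ⋃ q' ∈ G \ {q}, closure {q'}
      have hC : ∀ q, IsClosed (C q) := fun q => (hG.sdiff (t := {q})).isClosed_biUnion fun _ _ => isClosed_closure
      let U : X → X.Opens := fun q => U0 q ⊓ ⟨(C q)ᶜ, (hC q).isOpen_compl⟩
      have hUmem : ∀ q ∈ G, q ∈ U q := fun q hq => ⟨hx0 q, fun h => by
        obtain ⟨q', ⟨hq', hne⟩, hm⟩ := Set.mem_iUnion₂.1 h
        exact hne (hq.2 q' hq'.1 (specializes_iff_mem_closure.2 hm))⟩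
      have huniq : ∀ q ∈ G, ∀ q' ∈ G, ∀ p ∈ T, p ∈ U q → p ∈ U q' → q = q' := by
        intro q hq q' hq' p hp h1 h2
        obtain ⟨q0, hq0, hs0⟩ := hmax p hp
        have key : ∀ r ∈ G, p ∈ U r → q0 = r := fun r _ h => by
          by_contra hne
          exact h.2 (Set.mem_iUnion₂.2 ⟨q0, ⟨hq0, hne⟩, hs0.mem_closure⟩)
        exact (key q hq h1).symm.trans (key q' hq' h2)
      have hWex : ∀ p : X, ∃ (V : X.Opens) (e : Γ(L j, V)), p ∈ V ∧ Groth.Agent.Lib.TensorMod.Gen.IsGen (L j) V e ∧
          (∀ q ∈ G, p ∈ T → p ∈ U q → U q ≤ V ∧ V ≤ U q) := fun p => by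
        by_cases h : ∃ q ∈ G, p ∈ T ∧ p ∈ U q
        · obtain ⟨q, hq, hp, hpU⟩ := h
          refine ⟨U q, _, hpU, (he0 q).res inf_le_left, fun q' hq' _ hpU' => ?_⟩
          rw [huniq q hq q' hq' p hp hpU hpU']
          exact ⟨le_rfl, le_rfl⟩
        · exact ⟨U0 p, e0 p, hx0 p, he0 p, fun q hq hp hpU => absurd ⟨q, hq, hp, hpU⟩ h⟩
      choose W e hW he' hWU using hWex
      have hL' : PicF.IsInvertible ((Scheme.Modules.pullback s.g).obj (L j)) :=
        Groth.Agent.Lib.TensorMod.Gen.isInvertible_iff.2 fun y => ⟨_, _, hx0 (s.g y), Groth.Agent.Lib.Ample.GenLocus.isGen_unitSec s.g (he0 (s.g y))⟩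
      obtain ⟨γ, hγ, hγk, hγs⟩ := exists_c1Cap_cycle s.g hδ hL' W hW e he' α hα
      have h1 := hcl s (k - (j : ℤ)) α hα _ (fun ξ => genSec_ne_zero s.g hL' (he' _) ξ (hW _)) γ hγ hγk
      have h2 := hx j (by omega)
      rw [he, h2] at h1
      refine ⟨γ, ?_, ?_, T ∩ ⋂ q ∈ G, ((U q : Set X))ᶜ, hT.inter (isClosed_biInter fun q _ => (U q).2.isClosed_compl),
        fun z hz => ?_, fun p hp => ?_⟩
      · rw [show k - ((j + 1 : ℕ) : ℤ) = k - (j : ℤ) - 1 by push_cast; ring]
        exact hγk
      · refine (Bivar.chCast s.Y s.δ _).injective (Eq.trans ?_ h1.symm)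
        rw [Bivar.chCast_cl]
      · obtain ⟨ξ, hξ, hsp, hzW⟩ := hγs z hz
        have hzT : s.g z ∈ T := (hsp.map s.g.continuous).mem_closed hT (hsupp ξ hξ)
        refine ⟨hzT, Set.mem_iInter₂.2 fun q hq hzU => hzW ?_⟩
        exact (hWU (s.g ξ) q hq (hsupp ξ hξ) ((hsp.map s.g.continuous).mem_open (U q).2 hzU)).1 hzU
      · obtain ⟨q, hq, hqp⟩ := hmax p hp.1
        have hne : q ≠ p := fun h => Set.mem_iInter₂.1 hp.2 q hq (h ▸ hUmem q hq)
        calc ht p + ((j + 1 : ℕ) : ℕ∞) = (ht p + 1) + (j : ℕ∞) := by push_cast; ring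
          _ ≤ ht q + (j : ℕ∞) := by gcongr; exact ht_add_one_le hqp hne
          _ ≤ (d : ℕ∞) := hh q hq.1
  obtain ⟨α, hα, he, T, -, hsupp, hh⟩ := main (d + 1) le_rfl
  have h0 : α = 0 := Function.locallyFinsuppWithin.ext fun ξ => by
    by_contra h
    have h1 := (le_add_left le_rfl).trans (hh _ (hsupp ξ h))
    norm_cast at h1
    omega
  subst h0
  rw [← he]
  exact Bivar.cl_zero


end Groth.Agent.S17575
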