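import Groth.Statements.S6482
import Groth.Agent.Lib.Cyc.Push

set_option autoImplicit false
universe u
open CategoryTheory AlgebraicGeometry
open CategoryTheory.Limits
open Cyc

namespace Groth.Agent.S6482

/-- Let f : Y → X be an envelope. Then f_* : Z_k(Y) → Z_k(X) is surjective, hence so is f_* : CH_k(Y) →
CH_k(X). An envelope is a proper, completely decomposed morphism (every point of the target has a
point over it with trivial residue field extension; this prelude's Cyc.IsCompletelyDecomposed). Here
a pair (X, δ) with Cyc.IsSetup plays the role of a scheme locally of finite type over the base (S,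
δ) (X locally Noetherian with universally catenary local rings, δ a dimension function), and
Cyc.DeltaCompat records that the dimension function upstairs is the induced one. -/
theorem result (X Y : Scheme.{u}) (δ : X → ℤ) (δY : Y → ℤ) (hX : Cyc.IsSetup X δ) (hY : Cyc.IsSetup Y δY) (f : Y ⟶ X) [IsProper f] (hcd : Cyc.IsCompletelyDecomposed f) (hδ : Cyc.DeltaCompat f δY δ) (k : ℤ) (α : AlgebraicCycle X ℤ) (hα : α ∈ Cyc.Zk X δ k) : ∃ β : AlgebraicCycle Y ℤ, β ∈ Cyc.Zk Y δY k ∧ AlgebraicCycle.map f δY δ β = α := by
  choose sec hsec hsurj using hcd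
  have hfin := fun x => Groth.Agent.Lib.Cyc.Residue.residueFieldMap_finite_of_surjective (sec x) (hsurj x)
  have hδ' : ∀ x, δY (sec x) = δ x := fun x => by
    have := (Groth.Agent.Lib.Cyc.Residue.trdegAt_eq_zero_iff_eq hδ (sec x)).mp
      (Groth.Agent.Lib.Cyc.Residue.trdegAt_eq_zero_of_finite (sec x) (hfin x))
    rwa [hsec] at this
  obtain ⟨β, hβ, hmap⟩ := Groth.Agent.Lib.Cyc.Push.exists_map_eq_of_section f δY δ sec hsec hδ'
    (fun x => Groth.Agent.Lib.Cyc.Residue.residueDegree_eq_one_of_surjective (sec x) (hsurj x)) α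
  refine ⟨β, fun y hy => ?_, hmap⟩
  by_contra h
  refine hy ?_
  rw [(hβ y h).1, hδ']
  by_contra h'
  exact (hβ y h).2 (hα _ h')

end Groth.Agent.S6482
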