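import Groth.Statements.S6484
import Mathlib.AlgebraicGeometry.PullbackCarrier
import Mathlib.AlgebraicGeometry.ResidueField

set_option autoImplicit false
universe u
open CategoryTheory AlgebraicGeometry
open CategoryTheory.Limits
open Cyc

namespace Groth.Agent.S6484

/-- If f : Y → X is completely decomposed (this prelude's Cyc.IsCompletelyDecomposed: over every point
of X lies a point of Y with trivial residue field extension) and g : X' → X is any morphism of
schemes, then the base change Y ×_X X' → X' is completely decomposed. Consequently the base change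
of an envelope (a proper completely decomposed morphism) is an envelope, properness being preserved
by base change. (The published envelope statement takes X′ → X between schemes locally of finite
type over a base; this row allows any g.) -/
theorem result (X X' Y : Scheme.{u}) (f : Y ⟶ X) (g : X' ⟶ X) (hcd : Cyc.IsCompletelyDecomposed f) : Cyc.IsCompletelyDecomposed (pullback.snd f g) := by
  intro x'
  obtain ⟨y, hy, hsurj⟩ := hcd (g x')
  have : IsIso (f.residueFieldMap y) :=
    (ConcreteCategory.isIso_iff_bijective _).mpr ⟨RingHom.injective _, hsurj⟩
  let φ : Y.residueField y ⟶ X'.residueField x' :=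
    inv (f.residueFieldMap y) ≫ (X.residueFieldCongr hy).hom ≫ g.residueFieldMap x'
  have hφ : (Spec.map φ ≫ Y.fromSpecResidueField y) ≫ f = X'.fromSpecResidueField x' ≫ g := by
    rw [Category.assoc, ← Scheme.Hom.SpecMap_residueFieldMap_fromSpecResidueField,
      ← Spec.map_comp_assoc]
    simp only [φ, IsIso.hom_inv_id_assoc, Spec.map_comp, Category.assoc,
      Scheme.residueFieldCongr_fromSpecResidueField,
      Scheme.Hom.SpecMap_residueFieldMap_fromSpecResidueField]
  let s := pullback.lift _ _ hφ
  obtain ⟨p, ψ, hs⟩ : ∃ p, ∃ ψ : (pullback f g).residueField p ⟶ X'.residueField x',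
      Spec.map ψ ≫ (pullback f g).fromSpecResidueField p = s :=
    ⟨_, _, (Scheme.SpecToEquivOfField (X'.residueField x') (pullback f g)).symm_apply_apply s⟩
  have h1 : Spec.map ((pullback.snd f g).residueFieldMap p ≫ ψ) ≫
      X'.fromSpecResidueField ((pullback.snd f g) p) = X'.fromSpecResidueField x' := by
    rw [Spec.map_comp, Category.assoc,
      Scheme.Hom.SpecMap_residueFieldMap_fromSpecResidueField, ← Category.assoc, hs]
    exact pullback.lift_snd _ _ _
  have hp : pullback.snd f g p = x' := by
    have := congrArg (fun m : Spec (X'.residueField x') ⟶ X' => m (IsLocalRing.closedPoint _)) h1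
    simp [Scheme.fromSpecResidueField_apply, Function.comp_def] at this
    exact this
  refine ⟨p, hp, ?_⟩
  have h2 : (pullback.snd f g).residueFieldMap p ≫ ψ = (X'.residueFieldCongr hp).hom := by
    refine Spec.map_injective ((cancel_mono (X'.fromSpecResidueField ((pullback.snd f g) p))).mp ?_)
    rw [h1, Scheme.residueFieldCongr_fromSpecResidueField]
  intro a
  refine ⟨(X'.residueFieldCongr hp).inv (ψ a), ψ.hom.injective ?_⟩
  rw [← ConcreteCategory.comp_apply, h2, ← ConcreteCategory.comp_apply, Iso.inv_hom_id]
  rfl

end Groth.Agent.S6484
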