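import Groth.Statements.S17576
import Groth.Agent.Lib.Cyc.Bivar.Sq
import Groth.Agent.S6482
import Groth.Agent.S6484

set_option autoImplicit false
universe u
open CategoryTheory AlgebraicGeometry
open Bivar

namespace Groth.Agent.S17576

/-- Let f : X → Y be locally of finite type, g : Y' → Y an envelope (a proper, completely decomposed
morphism: over every point of Y lies a point of Y' with trivial residue field extension) and X' = Y'
×_Y X. Then a bivariant class c ∈ A^p(X → Y) is determined by its restriction res(c) ∈ A^p(X' → Y'):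
two classes with the same restriction along the square (g, X') are equal. (The existence part — a
class c' on X' → Y' whose two restrictions to X' ×_X X' → Y' ×_Y Y' agree descends — is not stated
here.) Here a pair (X, δ) with Cyc.IsSetup plays the role of a scheme locally of finite type over
the base (S, δ) (X locally Noetherian with universally catenary local rings, δ a dimension
function), Cyc.DeltaCompat records that a dimension function is the induced one, and bivariant
classes are taken in the operational sense of the prelude: additive operations on the Chow groups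
CH_k (k-cycles modulo rational equivalence) of all test schemes, compatible with proper pushforward,
flat pullback and the Gysin maps of zero schemes of sections of invertible modules in representative
form (Bivar.Cl for A^p(X → Y), Bivar.OpCl for A^p(X)). -/
theorem result (X Y : Scheme.{u}) (δX : X → ℤ) (δY : Y → ℤ) (hX : Cyc.IsSetup X δX) (hY : Cyc.IsSetup Y δY) (f : X ⟶ Y) [LocallyOfFiniteType f] (hδ : Cyc.DeltaCompat f δX δY) (p : ℤ) (s₀ : Bivar.Sq f δX δY) [IsProper s₀.g] (hcd : Cyc.IsCompletelyDecomposed s₀.g) (c₁ c₂ : Bivar.Cl p f δX δY) (heq : c₁.res s₀ = c₂.res s₀) : c₁ = c₂ := by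
  refine Bivar.Cl.ext (funext fun s => funext fun k => AddMonoidHom.ext fun x => ?_)
  obtain ⟨α, hα, rfl⟩ := Bivar.exists_rep x
  have hs := Lib.Cyc.Bivar.setup_sqY hY s
  have hY₀ := Lib.Cyc.Bivar.setup_sqY hY s₀
  have hX₀ := Lib.Cyc.Bivar.setup_sqX hX s₀
  haveI := s.lft
  haveI := s₀.lft
  haveI : LocallyOfFiniteType (Limits.pullback.fst s₀.g s.g) :=
    MorphismProperty.of_isPullback (IsPullback.of_hasPullback s₀.g s.g).flip ‹LocallyOfFiniteType s.g›
  obtain ⟨δ'', hδ'', hc''⟩ := Lib.Cyc.CH.exists_setup (Limits.pullback.fst s₀.g s.g) hY₀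
  haveI : LocallyOfFiniteType (Limits.pullback.snd (Limits.pullback.fst s₀.g s.g) s₀.f') :=
    MorphismProperty.of_isPullback (IsPullback.of_hasPullback _ s₀.f')
      ‹LocallyOfFiniteType (Limits.pullback.fst s₀.g s.g)›
  obtain ⟨δ₃, hδ₃, hc₃⟩ :=
    Lib.Cyc.CH.exists_setup (Limits.pullback.snd (Limits.pullback.fst s₀.g s.g) s₀.f') hX₀
  let t : Bivar.Sq s₀.f' s₀.δX' s₀.δY' :=
    ⟨_, _, Limits.pullback.fst s₀.g s.g, Limits.pullback.fst _ s₀.f',
      Limits.pullback.snd _ s₀.f', IsPullback.of_hasPullback _ _, inferInstance, δ'', δ₃, hc'', hc₃⟩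
  let h : (s₀.paste t).Y' ⟶ s.Y' := Limits.pullback.snd s₀.g s.g
  have w₁ : h ≫ s.g = (s₀.paste t).g := Limits.pullback.condition.symm
  let h' : (s₀.paste t).X' ⟶ s.X' := s.isPullback.lift ((s₀.paste t).f' ≫ h) (s₀.paste t).g' (by
    rw [Category.assoc, w₁]
    exact (s₀.paste t).isPullback.w)
  have w₂ : h' ≫ s.f' = (s₀.paste t).f' ≫ h := s.isPullback.lift_fst _ _ _
  have w₃ : h' ≫ s.g' = (s₀.paste t).g' := s.isPullback.lift_snd _ _ _
  haveI : IsProper h' := MorphismProperty.of_isPullback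
    (Lib.Cyc.Bivar.isPullback_map s (s₀.paste t) h h' w₁ w₂ w₃).flip
    (inferInstance : IsProper (Limits.pullback.snd s₀.g s.g))
  have hch := Lib.Cyc.Bivar.compat_of_comp h w₁ s.compatY (s₀.paste t).compatY
  have hch' := Lib.Cyc.Bivar.compat_of_comp h' w₃ s.compatX (s₀.paste t).compatX
  obtain ⟨β, hβ, hmap⟩ := S6482.result s.Y' _ s.δY' δ'' hs hδ'' h
    (S6484.result Y s.Y' s₀.Y' s₀.g s.g hcd) hch k α hα
  obtain ⟨β₁, hβ₁, e₁, f₁⟩ := c₁.push s (s₀.paste t) h h' w₁ w₂ w₃ k β hβ
  obtain ⟨β₂, hβ₂, e₂, f₂⟩ := c₂.push s (s₀.paste t) h h' w₁ w₂ w₃ k β hβ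
  have hres : ChowOps.cl β₁ hβ₁ = ChowOps.cl β₂ hβ₂ :=
    e₁.symm.trans ((congrArg (fun c => Bivar.Cl.op c t k (ChowOps.cl β hβ)) heq).trans e₂)
  have hX' := Lib.Cyc.Bivar.setup_sqX hX s
  have hT' : Cyc.IsSetup (s₀.paste t).X' (s₀.paste t).δX' := hδ₃
  haveI := hX'.1
  haveI := hT'.1
  have hcl : ChowOps.cl α hα = ChowOps.cl (AlgebraicCycle.map h δ'' s.δY' β)
      (Bivar.cycMap_mem_Zk h δ'' s.δY' k hβ) :=
    Lib.Cyc.Bivar.cl_eq_of_cls (Lib.Cyc.CH.cls_congr rfl (by rw [hmap]))
  refine (congrArg (c₁.op s k) hcl).trans (f₁.trans (Eq.trans ?_ ((congrArg (c₂.op s k) hcl).trans f₂).symm))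
  refine Lib.Cyc.Bivar.cl_eq_of_cls ?_
  have key := congrArg (Lib.Cyc.CH.push hT'.2.2 hX'.2.2 h' hch')
    (congrArg (DirectSum.of (fun k => ChowOps.CH (s₀.paste t).X' (s₀.paste t).δX' k) (k - p)) hres)
  exact (Lib.Cyc.CH.push_cls hT'.2.2 hX'.2.2 h' hch' hβ₁ rfl _).symm.trans
    (key.trans (Lib.Cyc.CH.push_cls hT'.2.2 hX'.2.2 h' hch' hβ₂ rfl _))

end Groth.Agent.S17576
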