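import Groth.Statements.S17577
import Groth.Agent.Lib.Cyc.PieceCover
import Groth.Agent.Lib.Cyc.PrimeSum
import Groth.Agent.Lib.Cyc.Bivar.Sq
import Groth.Agent.Lib.Cyc.CH.Cover

set_option autoImplicit false
universe u
open CategoryTheory AlgebraicGeometry
open Bivar

namespace Groth.Agent.S17577

/-- (3) ⇒ (1): let f : X → Y be locally of finite type and c ∈ A^p(X → Y) a bivariant class. Suppose
that for every cartesian square whose test scheme Y' is integral (Y' → Y locally of finite type, X'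
= Y' ×_Y X) there is a proper birational morphism Y'' → Y' (Y'' irreducible, not necessarily
reduced, its generic point mapping to the generic point of Y' with an isomorphism of local rings
there) such that c ∩ [Y''] = 0 in CH_*(X''), where X'' = Y'' ×_Y X and [Y''] is the cycle with
coefficient 1 at the generic point of Y'' and 0 elsewhere. Then c = 0. Taking Y'' = Y' shows in
particular that c vanishes as soon as c ∩ [Y'] = 0 for every such square with Y' integral. The
squares are the prelude's Bivar.Sq (any fibre products), the second one pasted onto the first. Here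
a pair (X, δ) with Cyc.IsSetup plays the role of a scheme locally of finite type over the base (S,
δ) (X locally Noetherian with universally catenary local rings, δ a dimension function),
Cyc.DeltaCompat records that a dimension function is the induced one, and bivariant classes are
taken in the operational sense of the prelude: additive operations on the Chow groups CH_k (k-cycles
modulo rational equivalence) of all test schemes, compatible with proper pushforward, flat pullback
and the Gysin maps of zero schemes of sections of invertible modules in representative form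
(Bivar.Cl for A^p(X → Y), Bivar.OpCl for A^p(X)). -/
theorem result (X Y : Scheme.{u}) (δX : X → ℤ) (δY : Y → ℤ) (hX : Cyc.IsSetup X δX) (hY : Cyc.IsSetup Y δY) (f : X ⟶ Y) [LocallyOfFiniteType f] (hδ : Cyc.DeltaCompat f δX δY) (p : ℤ) (c : Bivar.Cl p f δX δY) (h3 : ∀ (s : Bivar.Sq f δX δY) [AlgebraicGeometry.IsIntegral s.Y'], ∃ (t : Bivar.Sq s.f' s.δX' s.δY') (_ : IrreducibleSpace t.Y') (_ : IsProper t.g), t.g (genericPoint t.Y') = genericPoint s.Y' ∧ IsIso (t.g.stalkMap (genericPoint t.Y')) ∧ ∀ (k : ℤ) (α : AlgebraicCycle t.Y' ℤ) (hα : α ∈ Cyc.Zk t.Y' t.δY' k), α (genericPoint t.Y') = 1 → (∀ y : t.Y', y ≠ genericPoint t.Y' → α y = 0) → c.op (s.paste t) k (ChowOps.cl α hα) = 0) : c = 0 := by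
  refine Bivar.Cl.ext (funext fun s => funext fun k => AddMonoidHom.ext fun x => ?_)
  obtain ⟨α, hα, rfl⟩ := Bivar.exists_rep x
  show c.op s k (ChowOps.cl α hα) = 0
  -- fundamental cycles of integral test schemes die
  have key : ∀ (σ : Bivar.Sq f δX δY) (m : ℤ) (v : AlgebraicCycle σ.Y' ℤ) (hv : v ∈ Cyc.Zk σ.Y' σ.δY' m)
      [AlgebraicGeometry.IsIntegral σ.Y'], (∀ y, y ≠ genericPoint σ.Y' → v y = 0) →
      c.op σ m (ChowOps.cl v hv) = 0 := by
    intro σ m v hv _ hsupp
    classical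
    by_cases hv0 : v (genericPoint σ.Y') = 0
    · have : v = 0 := Function.locallyFinsuppWithin.ext fun y => by
        by_cases h : y = genericPoint σ.Y'
        · subst h; simpa using hv0
        · simpa using hsupp y h
      subst this
      exact map_zero _
    obtain ⟨t, hirr, hprop, hgen, hiso, hvan⟩ := h3 σ
    haveI := hirr
    haveI := hprop
    haveI := hiso
    have hσY := Lib.Cyc.Bivar.setup_sqY hY σ
    have hσX := Lib.Cyc.Bivar.setup_sqX hX σ
    have htY := Lib.Cyc.Bivar.setup_sqY hσY t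
    have htX := Lib.Cyc.Bivar.setup_sqX hσX t
    haveI := hσY.1
    haveI := hσX.1
    haveI := htY.1
    haveI := htX.1
    haveI : IsProper t.g' := MorphismProperty.of_isPullback t.isPullback hprop
    have hres : Function.Surjective (t.g.residueFieldMap (genericPoint t.Y')).hom := by
      intro z
      obtain ⟨a, rfl⟩ := t.Y'.residue_surjective (genericPoint t.Y') z
      obtain ⟨b, rfl⟩ := (ConcreteCategory.bijective_of_isIso (t.g.stalkMap (genericPoint t.Y'))).2 a
      exact ⟨σ.Y'.residue _ b, by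
        rw [← ConcreteCategory.comp_apply, Scheme.residue_residueFieldMap, ConcreteCategory.comp_apply]⟩
    have hδ0 : t.δY' (genericPoint t.Y') = σ.δY' (genericPoint σ.Y') := by
      obtain ⟨n, hn, hn'⟩ := Lib.Cyc.Residue.exists_trdegAt t.compatY (genericPoint t.Y')
      rw [Lib.Cyc.FieldDim.trdegAt_eq_zero_of_surjective t.g _ hres] at hn
      have : n = 0 := by exact_mod_cast hn.symm
      rw [hgen] at hn'
      omega
    have hm : σ.δY' (genericPoint σ.Y') = m := by_contra fun h => hv0 (hv _ h)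
    let w : AlgebraicCycle t.Y' ℤ :=
      ⟨fun y => if y = genericPoint t.Y' then 1 else 0, Set.subset_univ _, fun z _ =>
        ⟨Set.univ, Filter.univ_mem, (Set.finite_singleton (genericPoint t.Y')).subset fun y hy => by
          by_contra h
          exact hy.2 (if_neg h)⟩⟩
    have hw : w ∈ Cyc.Zk t.Y' t.δY' m := fun y hy => if_neg fun h => hy (by rw [h, hδ0, hm])
    obtain ⟨β, hβ, e1, e2⟩ := c.push σ (σ.paste t) t.g t.g' rfl t.isPullback.w.symm rfl m w hw
    have hw0 := hvan m w hw (if_pos rfl) (fun y hy => if_neg hy)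
    rw [hw0] at e1
    have hmap : v = v (genericPoint σ.Y') • AlgebraicCycle.map t.g t.δY' σ.δY' w := by
      refine Function.locallyFinsuppWithin.ext fun y => ?_
      show v y = v (genericPoint σ.Y') * AlgebraicCycle.map t.g t.δY' σ.δY' w y
      rw [Lib.Cyc.Push.map_apply]
      by_cases hy : y = genericPoint σ.Y'
      · subst hy
        rw [finsum_mem_eq_sum_of_inter_support_eq (t := {genericPoint t.Y'}) _ ?_, Finset.sum_singleton,
          AlgebraicCycle.mapCoeff, if_pos (by rw [hgen, hδ0]),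
          Lib.Cyc.Residue.residueDegree_eq_one_of_surjective _ hres]
        · show _ = v (genericPoint σ.Y') * ((if genericPoint t.Y' = genericPoint t.Y' then (1 : ℤ) else 0) * 1)
          rw [if_pos rfl]
          simp
        · ext a
          simp only [Set.mem_inter_iff, Set.mem_preimage, Set.mem_singleton_iff, Function.mem_support,
            Finset.coe_singleton]
          refine ⟨fun ⟨_, hne⟩ => ⟨?_, hne⟩, fun ⟨ha, hne⟩ => ⟨ha ▸ hgen, hne⟩⟩
          by_contra h
          exact left_ne_zero_of_mul hne (if_neg h)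
      · rw [hsupp y hy, finsum_mem_eq_zero_of_forall_eq_zero fun a ha => ?_, mul_zero]
        rw [show w a = 0 from if_neg fun h => hy (by rw [← hgen, ← h]; exact (Eq.symm ha)), zero_mul]
    have e3 : ChowOps.cl (AlgebraicCycle.map t.g' t.δX' σ.δX' β)
        (Bivar.cycMap_mem_Zk t.g' t.δX' σ.δX' (m - p) hβ) = (0 : ChowOps.CH σ.X' σ.δX' (m - p)) := by
      refine DirectSum.of_injective (β := fun i => ChowOps.CH σ.X' σ.δX' i) (m - p) ?_
      rw [map_zero]
      refine (Lib.Cyc.CH.push_cls htX.2.2 hσX.2.2 t.g' t.compatX hβ rfl _).symm.trans ?_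
      rw [Lib.Cyc.CH.cls, ← e1]
      exact (congrArg _ (map_zero _)).trans (map_zero _)
    have e4 : ChowOps.cl v hv = v (genericPoint σ.Y') • ChowOps.cl (AlgebraicCycle.map t.g t.δY' σ.δY' w)
        (Bivar.cycMap_mem_Zk t.g t.δY' σ.δY' m hw) := by
      refine DirectSum.of_injective (β := fun i => ChowOps.CH σ.Y' σ.δY' i) m ?_
      rw [map_zsmul]
      exact (Lib.Cyc.CH.cls_congr (h' := Lib.Cyc.CH.mem_zsmul _ (Lib.Cyc.CH.map_mem t.g hw)) rfl
        (congrArg (⇑) hmap)).trans (Lib.Cyc.CH.cls_zsmul _ _)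
    rw [e4, map_zsmul]
    refine (congrArg (v (genericPoint σ.Y') • ·) (e2.trans e3)).trans (smul_zero _)
  have hsY := Lib.Cyc.Bivar.setup_sqY hY s
  have hsX := Lib.Cyc.Bivar.setup_sqX hX s
  haveI := s.lft
  haveI := hsY.1
  haveI := hsX.1
  obtain ⟨δW, hsetW, hcW⟩ := Lib.Cyc.CH.exists_setup (Lib.Cyc.PrimeSum.totalι α) hsY
  haveI : LocallyOfFiniteType (Limits.pullback.snd (Lib.Cyc.PrimeSum.totalι α) s.f') :=
    MorphismProperty.of_isPullback (IsPullback.of_hasPullback (Lib.Cyc.PrimeSum.totalι α) s.f') inferInstance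
  obtain ⟨δXW, hsetXW, hcXW⟩ :=
    Lib.Cyc.CH.exists_setup (Limits.pullback.snd (Lib.Cyc.PrimeSum.totalι α) s.f') hsX
  haveI := hsetXW.1
  haveI : IsProper (Limits.pullback.snd (Lib.Cyc.PrimeSum.totalι α) s.f') :=
    MorphismProperty.of_isPullback (IsPullback.of_hasPullback (Lib.Cyc.PrimeSum.totalι α) s.f') inferInstance
  let t₀ : Bivar.Sq s.f' s.δX' s.δY' :=
    ⟨_, _, Lib.Cyc.PrimeSum.totalι α, Limits.pullback.fst _ s.f', Limits.pullback.snd _ s.f',
      IsPullback.of_hasPullback _ _, inferInstance, δW, δXW, hcW, hcXW⟩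
  have hl := Lib.Cyc.PrimeSum.lift_mem α hα hcW
  obtain ⟨β, hβ, e1, e2⟩ := c.push s (s.paste t₀) (Lib.Cyc.PrimeSum.totalι α)
    (Limits.pullback.snd (Lib.Cyc.PrimeSum.totalι α) s.f') rfl t₀.isPullback.w.symm rfl k
    (Lib.Cyc.PrimeSum.lift α) hl
  have hpW : Lib.Cyc.PieceCover.IsPieces
      (fun η : Lib.Cyc.PrimeSum.Idx α => Limits.Sigma.ι (fun η : Lib.Cyc.PrimeSum.Idx α => Lib.Cyc.PrimeSum.cl η.1) η) :=
    ⟨fun _ => inferInstance, fun i i' h => TopologicalSpace.Opens.coe_disjoint.mpr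
      (disjoint_opensRange_sigmaι _ i i' h), fun x => by
      obtain ⟨⟨i, a⟩, rfl⟩ := (sigmaMk fun η : Lib.Cyc.PrimeSum.Idx α => Lib.Cyc.PrimeSum.cl η.1).surjective x
      exact ⟨i, a, (sigmaMk_mk (fun η : Lib.Cyc.PrimeSum.Idx α => Lib.Cyc.PrimeSum.cl η.1) i a).symm⟩⟩
  let jX : ∀ η : Lib.Cyc.PrimeSum.Idx α, Limits.pullback
      (Limits.Sigma.ι (fun η : Lib.Cyc.PrimeSum.Idx α => Lib.Cyc.PrimeSum.cl η.1) η) t₀.f' ⟶ t₀.X' :=
    fun η => Limits.pullback.snd _ _
  have hpX : Lib.Cyc.PieceCover.IsPieces jX :=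
    hpW.pullback (g := t₀.f') (g' := fun η => Limits.pullback.fst _ _)
      (fun η => (IsPullback.of_hasPullback _ t₀.f').flip)
  haveI : ∀ η, IsLocallyNoetherian (Limits.pullback
      (Limits.Sigma.ι (fun η : Lib.Cyc.PrimeSum.Idx α => Lib.Cyc.PrimeSum.cl η.1) η) t₀.f') := fun η => by
    haveI := hpX.isOpen η
    exact LocallyOfFiniteType.isLocallyNoetherian (jX η)
  have hcj : ∀ η, Cyc.DeltaCompat (jX η) (fun a => δXW (jX η a)) δXW := fun η => by
    haveI := hpX.isOpen η
    exact Lib.Cyc.CH.deltaCompat_restrict (jX η)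
  have hzero : Lib.Cyc.CH.cls δXW (k - p) β hβ = 0 := by
    refine hpX.eq_of_res hcj hsetXW.2.2 fun η => ?_
    rw [map_zero]
    haveI := hpX.isOpen η
    haveI : IsOpenImmersion (Limits.Sigma.ι (fun η : Lib.Cyc.PrimeSum.Idx α => Lib.Cyc.PrimeSum.cl η.1) η) :=
      inferInstance
    haveI : IsLocallyNoetherian (Lib.Cyc.PrimeSum.cl η.1) :=
      LocallyOfFiniteType.isLocallyNoetherian (Lib.Cyc.PrimeSum.clι η.1)
    let j := Limits.Sigma.ι (fun η : Lib.Cyc.PrimeSum.Idx α => Lib.Cyc.PrimeSum.cl η.1) η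
    let u : Bivar.Sq t₀.f' t₀.δX' t₀.δY' :=
      ⟨_, _, j, Limits.pullback.fst j t₀.f', jX η, IsPullback.of_hasPullback _ _, inferInstance,
        fun a => δW (j a), fun a => δXW (jX η a), Lib.Cyc.CH.deltaCompat_restrict j, hcj η⟩
    have hr : Cyc.HasRelDim j 0 :=
      Lib.Cyc.CH.hasRelDim_of_shift (δ := δW) j (Lib.Cyc.CH.deltaCompat_restrict j) (Lib.Cyc.CH.shift_restrict j)
    have hr' : Cyc.HasRelDim (jX η) 0 :=
      Lib.Cyc.CH.hasRelDim_of_shift (δ := δXW) (jX η) (hcj η) (Lib.Cyc.CH.shift_restrict (jX η))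
    obtain ⟨β', hβ', e1', hpull⟩ := c.pull (s.paste t₀) ((s.paste t₀).paste u) j (jX η) 0 hr hr'
      (Category.assoc _ _ _).symm u.isPullback.w.symm (Category.assoc _ _ _).symm k (Lib.Cyc.PrimeSum.lift α) hl
    obtain ⟨v, hv, ev⟩ := Lib.Cyc.CH.PullExists.exists_pullFun (δX := fun a => δW (j a)) j 0 hl
    obtain ⟨β₁, hβ₁, eβ₁, e3⟩ := hpull v (ev.trans (by rw [Nat.cast_zero])) (by rw [Nat.cast_zero]; exact hv)
    rw [key ((s.paste t₀).paste u) _ v (by rw [Nat.cast_zero]; exact hv) fun y hy => ?_] at e3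
    swap
    · rw [congrFun ev y, Lib.Cyc.CH.pullFun_restrict]
      exact (Lib.Cyc.PrimeSum.lift_ι α η y).trans (if_neg hy)
    rw [show Lib.Cyc.CH.cls δXW (k - p) β hβ = Lib.Cyc.CH.cls δXW (k - p) β' hβ' from
      congrArg (DirectSum.of (fun i => ChowOps.CH _ δXW i) (k - p)) (e1.symm.trans e1')]
    rw [hpX.res_cls hcj hsetXW.2.2 η hβ' (β := β₁) (by
        have := hβ₁
        rwa [Nat.cast_zero, add_zero] at this)
      (fun a => by rw [eβ₁, Nat.cast_zero, Lib.Cyc.CH.pullFun_restrict])]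
    refine (Lib.Cyc.CH.cls_congr (h' := hβ₁) (by simp) rfl).trans ?_
    rw [Lib.Cyc.CH.cls, ← e3, map_zero]
  have hcl : ChowOps.cl α hα = ChowOps.cl
      (AlgebraicCycle.map (Lib.Cyc.PrimeSum.totalι α) δW s.δY' (Lib.Cyc.PrimeSum.lift α))
      (Bivar.cycMap_mem_Zk (Lib.Cyc.PrimeSum.totalι α) δW s.δY' k hl) :=
    Lib.Cyc.Bivar.cl_eq_of_cls (Lib.Cyc.CH.cls_congr rfl (congrArg (⇑) (Lib.Cyc.PrimeSum.map_lift α hcW).symm))
  refine (congrArg (c.op s k) hcl).trans (e2.trans ?_)
  refine DirectSum.of_injective (β := fun i => ChowOps.CH s.X' s.δX' i) (k - p) ?_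
  rw [map_zero]
  refine (Lib.Cyc.CH.push_cls hsetXW.2.2 hsX.2.2 _ hcXW hβ rfl _).symm.trans ?_
  rw [show Lib.Cyc.CH.cls (s.paste t₀).δX' (k - p) β hβ = 0 from hzero, map_zero]

end Groth.Agent.S17577
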