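import Groth.Statements.S17579
import Groth.Agent.Lib.Cyc.Deform.WeakCl

set_option autoImplicit false
universe u
open CategoryTheory AlgebraicGeometry
open Bivar

namespace Groth.Agent.S17579

/-- Let f : X → Y be locally of finite type and suppose given a rule c assigning to every Y' → Y locally
of finite type and every k an additive map c ∩ − : CH_k(Y') → CH_{k−p}(X'), X' = Y' ×_Y X,
satisfying conditions (1) (proper pushforward) and (2) (flat pullback of fixed relative dimension)
of the definition of bivariant classes, and condition (3) (compatibility with the Gysin maps of a
triple (L, σ, i : D' → Y') and its inverse image on X') whenever the restriction of L to D' is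
trivial. Then c is a bivariant class of degree p: there is c' ∈ A^p(X → Y), compatible with the
Gysin maps of all triples, whose operations are those of c. The hypothesis is the prelude's
structure Bivar.WeakCl (fields op, push, pull as for Bivar.Cl and the Gysin clause only under a
trivialisation of i^*L). Here a pair (X, δ) with Cyc.IsSetup plays the role of a scheme locally of
finite type over the base (S, δ) (X locally Noetherian with universally catenary local rings, δ a
dimension function), Cyc.DeltaCompat records that a dimension function is the induced one, and
bivariant classes are taken in the operational sense of the prelude: additive operations on the Chow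
groups CH_k (k-cycles modulo rational equivalence) of all test schemes, compatible with proper
pushforward, flat pullback and the Gysin maps of zero schemes of sections of invertible modules in
representative form (Bivar.Cl for A^p(X → Y), Bivar.OpCl for A^p(X)). -/
theorem result (X Y : Scheme.{u}) (δX : X → ℤ) (δY : Y → ℤ) (hX : Cyc.IsSetup X δX) (hY : Cyc.IsSetup Y δY) (f : X ⟶ Y) [LocallyOfFiniteType f] (hδ : Cyc.DeltaCompat f δX δY) (p : ℤ) (c : Bivar.WeakCl p f δX δY) : ∃ c' : Bivar.Cl p f δX δY, c'.op = c.op := by
  exact ⟨{ op := c.op
           push := fun s t h _ h' _ w₁ w₂ w₃ k => c.push s t h h' w₁ w₂ w₃ k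
           pull := fun s t h _ h' _ r hr hr' w₁ w₂ w₃ k => c.pull s t h h' r hr hr' w₁ w₂ w₃ k
           gysin := fun s t i _ j _ w₁ w₂ w₃ L hL σ hσ τ hτ k =>
             Lib.Cyc.Deform.WeakCl.gys_op c s hX hY hδ t i j w₁ w₂ w₃ L hL σ hσ τ hτ k }, rfl⟩

end Groth.Agent.S17579
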