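import Groth.Statements.S17584
import Groth.Agent.Lib.FEt.NormalCover

set_option autoImplicit false
open CategoryTheory CategoryTheory.Limits AlgebraicGeometry
open PosLin

namespace Groth.Agent.S17584

/-- Let X and Y each be a projective variety over the complex numbers (an integral scheme, proper over
ℂ, with an ample invertible module), and f : X → Y an algebraic fibre space (a surjective morphism
over ℂ with O_Y → f_*O_X an isomorphism). If X is normal, then Y is normal. -/
theorem result (X : Scheme.{0}) [X.Over (Spec (CommRingCat.of ℂ))] [IsIntegral X] [IsProper (X ↘ Spec (CommRingCat.of ℂ))]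
    (HX : X.Modules) (hHX : CohB1.IsAmple HX)
    (Y : Scheme.{0}) [Y.Over (Spec (CommRingCat.of ℂ))] [IsIntegral Y] [IsProper (Y ↘ Spec (CommRingCat.of ℂ))]
    (HY : Y.Modules) (hHY : CohB1.IsAmple HY)
    (f : X ⟶ Y) (hf : f ≫ (Y ↘ Spec (CommRingCat.of ℂ)) = X ↘ Spec (CommRingCat.of ℂ)) [Surjective f]
    (hfs : IsIso (ClSub.unitToPush f))
    (hX : Pi1.IsNormalScheme X) : Pi1.IsNormalScheme Y := by
  intro y
  refine ⟨inferInstance, ?_⟩
  obtain ⟨_, ⟨V, hV, rfl⟩, hyV, -⟩ :=
    Y.isBasis_affineOpens.exists_subset_of_mem_open (Set.mem_univ y) isOpen_univ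
  obtain ⟨x, hx⟩ := f.surjective y
  haveI : Nonempty (f ⁻¹ᵁ V : X.Opens) := ⟨⟨x, show f x ∈ V from hx ▸ hyV⟩⟩
  haveI : Nonempty V := ⟨⟨y, hyV⟩⟩
  haveI := Lib.FEt.NormalCover.isIntegrallyClosed_sections hX (U := f ⁻¹ᵁ V)
  haveI := hfs
  have hb : Function.Bijective (f.app V) :=
    ConcreteCategory.bijective_of_isIso ((ClSub.unitToPush f).app V)
  haveI : IsIntegrallyClosed Γ(Y, V) :=
    IsIntegrallyClosed.of_equiv (RingEquiv.ofBijective (f.app V).hom hb).symm
  letI := TopCat.Presheaf.algebra_section_stalk Y.presheaf (⟨y, hyV⟩ : V)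
  haveI := hV.isLocalization_stalk ⟨y, hyV⟩
  exact isIntegrallyClosed_of_isLocalization (Y.presheaf.stalk y)
    (hV.primeIdealOf ⟨y, hyV⟩).asIdeal.primeCompl (Ideal.primeCompl_le_nonZeroDivisors _)

end Groth.Agent.S17584
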