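import Groth.Statements.S17585
import Groth.Agent.S1340
import Groth.Agent.H34.Stein.Finite
import Groth.Agent.H52.PushInv
import Groth.Agent.Lib.Curves.GlobalSections
import Groth.Agent.Lib.ProjMor.Poly
import Groth.Agent.Lib.ProjMor.Embed
import Groth.Agent.Lib.HProj.QuasiProj
import Groth.Agent.Lib.Ample.Pullback
import Groth.Agent.Lib.Ample.Pow
import Groth.Agent.Lib.Ample.RelAmple
import Groth.Agent.Lib.AlgSpMor.RepDescent
import Groth.Agent.H34.GlobGen
import Groth.Agent.Lib.Ample.GG

set_option autoImplicit false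
open CategoryTheory CategoryTheory.Limits AlgebraicGeometry
open PosLin

namespace Groth.Agent.S17585

open Groth.Agent Groth.Agent.Lib Groth.Agent.Lib.Ample Groth.Agent.Lib.Ample.GenLocus

universe u

/-- Finitely many sections generating at every point. -/
theorem exists_cover {X : Scheme.{u}} [CompactSpace X] {M : X.Modules} (hM : PicF.IsInvertible M)
    (hgg : Curv2.IsGloballyGenerated M) :
    ∃ (N : ℕ) (t : Fin (N + 1) → Γ(M, ⊤)), ∀ x, ∃ i, x ∈ ProjMor.Sec.locus (t i) := by
  have hcov : (Set.univ : Set X) ⊆ ⋃ m : Γ(M, ⊤), (ProjMor.Sec.locus m : Set X) := fun x _ => by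
    obtain ⟨s, hs⟩ := Ample.GG.exists_genLocus_of_genAt hM
      (show Ample.GG.GenAt M x from H34.GlobGen.gl_eq_top_of_gg hgg x)
    refine Set.mem_iUnion.2 ⟨s.app ⊤ (1 : Γ(X, ⊤)), ?_⟩
    have h : Modules.Free.unitHom M (s.app ⊤ (1 : Γ(X, ⊤))) = s :=
      Modules.Free.unitHom_ext (Modules.Free.unitHom_app_one _ _)
    show x ∈ CohB1.genLocus M (Modules.Free.unitHom M _)
    rw [h]
    exact hs
  obtain ⟨T, hT⟩ := isCompact_univ.elim_finite_subcover _ (fun m => (ProjMor.Sec.locus m).isOpen) hcov
  refine ⟨T.toList.length, Fin.cons 0 fun i => T.toList.get i, fun x => ?_⟩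
  obtain ⟨m, hm, hx⟩ := Set.mem_iUnion₂.1 (hT (Set.mem_univ x))
  obtain ⟨i, hi⟩ := List.get_of_mem (Finset.mem_toList.2 hm)
  exact ⟨i.succ, by subst hi; simpa using hx⟩

/-- An invertible module some power of which comes from the base of a fibre space, and which is
globally generated, has local generators over the base. -/
theorem exists_gens {X Y : Scheme.{u}} (φ : X ⟶ Y) [Surjective φ]
    (hf : ∀ U : Y.Opens, IsIso (φ.app U)) {M : X.Modules} (hM : PicF.IsInvertible M)
    (hgg : Curv2.IsGloballyGenerated M) {P : Y.Modules} (hP : PicF.IsInvertible P) {d : ℕ}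
    (hd : 0 < d) (e : CohB1.tensorPow M d ≅ (Scheme.Modules.pullback φ).obj P) (y : Y) :
    ∃ (W : Y.Opens) (g : Γ(M, φ ⁻¹ᵁ W)),
      y ∈ W ∧ TensorMod.Gen.IsGen M (φ ⁻¹ᵁ W) g := by
  obtain ⟨x, hx⟩ := φ.surjective y
  obtain ⟨s, hs⟩ := Ample.GG.exists_genLocus_of_genAt hM
    (show Ample.GG.GenAt M x from H34.GlobGen.gl_eq_top_of_gg hgg x)
  let adj := Scheme.Modules.pullbackPushforwardAdjunction φ
  haveI : IsIso (adj.unit.app P) := TensorMod.LocIso.isIso_unit_of_isFinLocFree φ hf (M := P)
    fun z => let ⟨V, hz, ⟨i⟩⟩ := hP z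
      ⟨V, 1, hz, ⟨i ≪≫ (Limits.coproductUniqueIso fun _ : Fin 1 => Coh.structureModule _).symm⟩⟩
  let t := (PicLoc.pullbackStructureIso φ).hom ≫ SecTwist.powHom s d ≫ e.hom
  let σ : Coh.structureModule Y ⟶ P := adj.homEquiv _ _ t ≫ inv (adj.unit.app P)
  have hσ : (Scheme.Modules.pullback φ).map σ = t := by
    refine (adj.homEquiv _ _).injective ?_
    rw [← Category.comp_id ((Scheme.Modules.pullback φ).map σ), adj.homEquiv_naturality_left,
      adj.homEquiv_id]
    simp [σ]
  have hloc : φ ⁻¹ᵁ CohB1.genLocus P σ = CohB1.genLocus M s := by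
    rw [← genLocus_pullback φ hP σ (PicLoc.pullbackStructureIso φ).symm, hσ]
    show CohB1.genLocus _ ((PicLoc.pullbackStructureIso φ).inv ≫ t) = _
    rw [Iso.inv_hom_id_assoc, genLocus_comp_iso, genLocus_powHom hM s d hd]
  refine ⟨CohB1.genLocus P σ, _, ?_, (Ample.Basis.isGen_genLocus s).res hloc.le⟩
  have : x ∈ φ ⁻¹ᵁ CohB1.genLocus P σ := hloc ▸ hs
  rw [← hx]
  exact this


/-- Let X be a projective variety over the complex numbers (an integral scheme, proper over ℂ, with an
ample invertible module) which is normal, and L a semiample invertible O_X-module: L^⊗m is globally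
generated for some m > 0. Then there exist Y, a projective variety over the complex numbers (an
integral scheme, proper over ℂ, with an ample invertible module), and an algebraic fibre space φ : X
→ Y over ℂ (surjective, with O_Y → φ_*O_X an isomorphism), such that for every m > 0 with L^⊗m
globally generated there is an ample invertible O_Y-module A with φ^*A ≅ L^⊗m. (The published
statement says more: φ is the morphism defined by the complete linear series of L^⊗m for every
sufficiently large such m, its image being Y, and the ample module with φ^*A ≅ L^⊗f, f the exponent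
of the semigroup of such m, is fixed; this row keeps the existence of the fibre space and of the
ample modules pulling back to the globally generated powers.) -/
theorem result (X : Scheme.{0}) [X.Over (Spec (CommRingCat.of ℂ))] [IsIntegral X]
    [IsProper (X ↘ Spec (CommRingCat.of ℂ))] (H : X.Modules) (hH : CohB1.IsAmple H)
    (hXn : Pi1.IsNormalScheme X)
    (L : X.Modules) (hL : PicF.IsInvertible L)
    (hsa : ∃ m : ℕ, 0 < m ∧ Curv2.IsGloballyGenerated (CohB1.tensorPow L m)) :
    ∃ (Y : Scheme.{0}) (g : Y ⟶ Spec (CommRingCat.of ℂ)) (HY : Y.Modules) (φ : X ⟶ Y),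
      IsIntegral Y ∧ IsProper g ∧ CohB1.IsAmple HY ∧
      φ ≫ g = X ↘ Spec (CommRingCat.of ℂ) ∧ Surjective φ ∧ IsIso (ClSub.unitToPush φ) ∧
      ∀ m : ℕ, 0 < m → Curv2.IsGloballyGenerated (CohB1.tensorPow L m) →
        ∃ A : Y.Modules, CohB1.IsAmple A ∧ Nonempty ((Scheme.Modules.pullback φ).obj A ≅ CohB1.tensorPow L m) := by
  classical
  haveI : IsNoetherian X := Curves.GlobalSections.isNoetherian_of_proper ℂ X
  obtain ⟨m₀, hm₀, hgg₀⟩ := hsa
  have hM₀ := TensorMod.Invertible.isInvertible_tensorPow hL m₀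
  obtain ⟨N, t, hcov⟩ := exists_cover hM₀ hgg₀
  obtain ⟨r, hr, τ, -⟩ := ProjMor.Poly.exists_map N ℂ (X ↘ Spec (CommRingCat.of ℂ)) _ hM₀ t
    (ProjMor.Embed.generatedBy_of_locus t hcov)
  haveI := ProjSpace.Basic.isProper_toSpec N ℂ
  haveI : IsProper r := by
    haveI : IsProper (r ≫ CohB1.ProjSpace.toSpec N ℂ) := by rw [hr]; infer_instance
    exact IsProper.of_comp r (CohB1.ProjSpace.toSpec N ℂ)
  haveI : IsLocallyNoetherian (CohB1.ProjSpace N ℂ) :=
    LocallyOfFiniteType.isLocallyNoetherian (CohB1.ProjSpace.toSpec N ℂ)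
  haveI := H34.Stein.isFinite_fromNormalization r
  haveI : IsProper r.toNormalization := by
    haveI : IsProper (r.toNormalization ≫ r.fromNormalization) := by
      rw [r.toNormalization_fromNormalization]; infer_instance
    exact IsProper.of_comp r.toNormalization r.fromNormalization
  have hf : ∀ U : r.normalization.Opens, IsIso (r.toNormalization.app U) := Groth.Agent.S1340.result r
  haveI : Surjective r.toNormalization := ⟨by
    rw [← Set.range_eq_univ]
    exact r.toNormalization.isClosedMap.isClosed_range.closure_eq.symm.trans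
      r.toNormalization.denseRange.closure_range⟩
  let HY := (Scheme.Modules.pullback r.fromNormalization).obj (Twist.twistProjSpace N ℂ 1)
  have hHY : CohB1.IsAmple HY := Ample.Pullback.isAmple_pullback r.fromNormalization
    (AlgSpMor.RepDescent.isQuasiAffine_of_isAffineHom r.fromNormalization)
    (HProj.QuasiProj.isAmple_twist_projSpace N ℂ)
  let e₀ : (Scheme.Modules.pullback r.toNormalization).obj HY ≅ CohB1.tensorPow L m₀ :=
    (Scheme.Modules.pullbackComp r.toNormalization r.fromNormalization).app _ ≪≫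
      (Scheme.Modules.pullbackCongr r.toNormalization_fromNormalization).app _ ≪≫ τ
  refine ⟨r.normalization, r.fromNormalization ≫ CohB1.ProjSpace.toSpec N ℂ, HY, r.toNormalization,
    inferInstance, inferInstance, hHY, ?_, inferInstance, ?_, fun m hm hgg => ?_⟩
  · rw [r.toNormalization_fromNormalization_assoc, hr]
  · exact Groth.Agent.H18.ZClos.isIso_of_basis _ fun x V hx =>
      ⟨V, hx, le_rfl, ConcreteCategory.bijective_of_isIso (r.toNormalization.app V)⟩
  have hM := TensorMod.Invertible.isInvertible_tensorPow hL m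
  have hP := TensorMod.Invertible.isInvertible_tensorPow hHY.1 m
  let e : CohB1.tensorPow (CohB1.tensorPow L m) m₀ ≅
      (Scheme.Modules.pullback r.toNormalization).obj (CohB1.tensorPow HY m) :=
    Pow.powMul L m m₀ ≪≫ eqToIso (congrArg (CohB1.tensorPow L) (Nat.mul_comm m m₀)) ≪≫
      (Pow.powMul L m₀ m).symm ≪≫ Pow.powIso e₀.symm m ≪≫ (Pow.pullbackPow r.toNormalization HY m).symm
  have hgen := fun y => exists_gens r.toNormalization hf hM hgg hP hm₀ e y
  have hf' : ∀ V : r.normalization.Opens, Function.Bijective (r.toNormalization.app V) :=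
    fun V => haveI := hf V; ConcreteCategory.bijective_of_isIso _
  have hA : PicF.IsInvertible
      ((Scheme.Modules.pushforward r.toNormalization).obj (CohB1.tensorPow L m)) :=
    H52.PushInv.isInvertible_push r.toNormalization hf' hgen
  haveI := H52.PushInv.isIso_counit r.toNormalization hf' hgen
  let A := (Scheme.Modules.pushforward r.toNormalization).obj (CohB1.tensorPow L m)
  let c : (Scheme.Modules.pullback r.toNormalization).obj A ≅ CohB1.tensorPow L m :=
    asIso ((Scheme.Modules.pullbackPushforwardAdjunction r.toNormalization).counit.app _)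
  refine ⟨A, ?_, ⟨c⟩⟩
  -- `A^{m₀} ≅ HY^m`
  let d : (Scheme.Modules.pullback r.toNormalization).obj (CohB1.tensorPow A m₀) ≅
      (Scheme.Modules.pullback r.toNormalization).obj (CohB1.tensorPow HY m) :=
    Pow.pullbackPow r.toNormalization A m₀ ≪≫ Pow.powIso c m₀ ≪≫ e
  have hu : ∀ {Q : r.normalization.Modules}, PicF.IsInvertible Q → IsIso
      ((Scheme.Modules.pullbackPushforwardAdjunction r.toNormalization).unit.app Q) := fun hQ =>
    TensorMod.LocIso.isIso_unit_of_isFinLocFree r.toNormalization hf
      fun z => let ⟨V, hz, ⟨i⟩⟩ := hQ z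
        ⟨V, 1, hz, ⟨i ≪≫ (Limits.coproductUniqueIso fun _ : Fin 1 => Coh.structureModule _).symm⟩⟩
  haveI := hu hP
  haveI := hu (TensorMod.Invertible.isInvertible_tensorPow hA m₀)
  let i : CohB1.tensorPow A m₀ ≅ CohB1.tensorPow HY m :=
    asIso ((Scheme.Modules.pullbackPushforwardAdjunction r.toNormalization).unit.app _) ≪≫
      (Scheme.Modules.pushforward r.toNormalization).mapIso d ≪≫
      (asIso ((Scheme.Modules.pullbackPushforwardAdjunction r.toNormalization).unit.app _)).symm
  exact (Pow.isAmple_tensorPow_iff hA hm₀).2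
    (Pow.isAmple_of_iso i.symm ((Pow.isAmple_tensorPow_iff hHY.1 hm).1 hHY))

end Groth.Agent.S17585
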