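import Groth.Statements.S17586
import Groth.Agent.Lib.PosLin.Volume

set_option autoImplicit false
open CategoryTheory CategoryTheory.Limits AlgebraicGeometry
open PosLin

namespace Groth.Agent.S17586

/-- Let X be a projective variety over the complex numbers (an integral scheme, proper over ℂ, with an
ample invertible module) of dimension n, and L an invertible O_X-module (the module of a Cartier
divisor D). The following two characterisations of bigness of D are equivalent: (a) for every ample
invertible O_X-module A there are m > 0 and a monomorphism A → L^⊗m (that is, mD is linearly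
equivalent to A plus an effective divisor); (b) there are a constant C > 0 and m₁ such that dim_ℂ
H^0(X, L^⊗m) ≥ C·m^n for all m ≥ m₁. (In the text both are shown equivalent to D having Iitaka
dimension n; this row states their equivalence with each other.) -/
theorem result (X : Scheme.{0}) [X.Over (Spec (CommRingCat.of ℂ))] [IsIntegral X]
    [IsProper (X ↘ Spec (CommRingCat.of ℂ))] (H : X.Modules) (hH : CohB1.IsAmple H)
    (n : ℕ) (hn : topologicalKrullDim X = n)
    (L : X.Modules) (hL : PicF.IsInvertible L) :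
    (∀ A : X.Modules, CohB1.IsAmple A → ∃ (m : ℕ) (φ : A ⟶ CohB1.tensorPow L m), 0 < m ∧ Mono φ) ↔
      ∃ C : ℝ, 0 < C ∧ ∃ m₁ : ℕ, ∀ m : ℕ, m₁ ≤ m →
        C * (m : ℝ) ^ n ≤ (Module.finrank ℂ (Coh.HH X (CohB1.tensorPow L m) 0) : ℝ) := by
  haveI := Lib.Curves.GlobalSections.isNoetherian_of_proper ℂ X
  constructor
  · intro h
    obtain ⟨a, m₀, ha, hg⟩ := Lib.PosLin.Kodaira.growth (k := ℂ) hn hH hL fun E hE => by
      obtain ⟨m, φ, hm, hφ⟩ := h E hE
      exact ⟨m, hm, Lib.PosLin.Kodaira.h0_pos_of_mono (k := ℂ) hE.1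
        (Lib.TensorMod.Invertible.isInvertible_tensorPow hL m) φ⟩
    obtain ⟨C, hC, hb⟩ := Lib.PosLin.Volume.exists_real_bound ha hg
    exact ⟨C, hC, m₀, hb⟩
  · rintro ⟨C, hC, m₁, hb⟩ A hA
    obtain ⟨a, -, hg⟩ := Lib.PosLin.Volume.exists_nat_bound hC hb
    obtain ⟨m, hm, hs⟩ := Lib.PosLin.Kodaira.exists_sections (k := ℂ) hn hH hL
      (Lib.PosLin.Kodaira.unbdd_of_growth (k := ℂ) (ν := 1) (μ₀ := m₁) (a := a) one_pos
        fun μ hμ => by rw [one_mul]; exact hg μ hμ) hA.1
    obtain ⟨φ, hφ⟩ := Lib.PosLin.Kodaira.exists_mono (k := ℂ) hA.1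
      (Lib.TensorMod.Invertible.isInvertible_tensorPow hL m) hs
    exact ⟨m, φ, hm, hφ⟩

end Groth.Agent.S17586
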