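import Groth.Statements.S17593
import Groth.Agent.Lib.Henselian.Shrink
import Groth.Agent.H19.FlatLocus.Main

set_option autoImplicit false
universe u
open Hensel

namespace Groth.Agent.S17593

/-- Suppose (A, I) is a Henselian pair, and R is an A-algebra of finite presentation for which A → R is
flat at each prime of R that contains IR. Then there is an étale R-algebra R' such that R/IR →
R'/IR' is bijective and A → R' is flat. -/
theorem result (A : Type u) [CommRing A] (I : Ideal A) [HenselianRing A I]
    (R : Type u) [CommRing R] [Algebra A R] [Algebra.FinitePresentation A R]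
    (h : ∀ (p : Ideal R) [p.IsPrime], I.map (algebraMap A R) ≤ p → Module.Flat A (Localization.AtPrime p))
    : ∃ (R' : Type u) (_ : CommRing R') (_ : Algebra R R') (_ : Algebra A R') (_ : IsScalarTower A R R'),
      Algebra.Etale R R' ∧
      Function.Bijective (Ideal.quotientMap ((I.map (algebraMap A R)).map (algebraMap R R'))
        (algebraMap R R') Ideal.le_comap_map) ∧ Module.Flat A R' := by
  refine Groth.Agent.Lib.Henselian.Shrink.exists_etale_of_forall (I.map (algebraMap A R))
    (fun R' _ _ => Module.Flat A R')
    (Groth.Agent.H19.FlatLocus.isOpen_flat_of_finitePresentation (R := A) (S := R) (M := R))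
    (fun p hp => ?_) fun g hg => ?_
  · have := h p.asIdeal hp
    exact Module.Flat.of_linearEquiv
      ((IsLocalizedModule.iso p.asIdeal.primeCompl
        (Algebra.linearMap R (Localization.AtPrime p.asIdeal))).restrictScalars A)
  · refine (Groth.Agent.H19.FlatLocus.flat_iff_killed (Submonoid.powers g)
      (Algebra.linearMap R (Localization.Away g))).mpr fun J y hy => ?_
    have hg' : g ∈ (Ideal.torsionOf R _ y).radical := by
      rw [Ideal.radical_eq_sInf, Submodule.mem_sInf]
      rintro P ⟨hP, hPp⟩
      have : Ideal.IsPrime P := hPp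
      by_contra hgP
      have hflat := hg (show (⟨P, hPp⟩ : PrimeSpectrum R) ∈ PrimeSpectrum.basicOpen g from hgP)
      obtain ⟨s, hs, hsy⟩ := (Groth.Agent.H19.FlatLocus.flat_iff_killed (Ideal.primeCompl P)
        (LocalizedModule.mkLinearMap (Ideal.primeCompl P) R)).mp hflat J y hy
      exact hs (hP hsy)
    obtain ⟨n, hn⟩ := hg'
    exact ⟨g ^ n, ⟨n, rfl⟩, hn⟩

end Groth.Agent.S17593
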