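import Groth.Statements.S1760
import Groth.Agent.Lib.Goren.Rings
import Mathlib.FieldTheory.IntermediateField.Adjoin.Algebra
import Mathlib.RingTheory.Localization.Submodule
-- import your own Groth.Agent.* helpers here

set_option autoImplicit false
universe u
open scoped TensorProduct
open Goren

namespace Groth.Agent.S1760

/-- First assertion, written for the local ring B = O_{X,x}. Let k'/k be a finitely generated field
extension, B a Noetherian local k-algebra, and q a prime of B ⊗_k k' lying over the maximal ideal of
B. Then B is Gorenstein if and only if the localization of B ⊗_k k' at q is Gorenstein. -/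
theorem result (k k' : Type u) [Field k] [Field k'] [Algebra k k'] (hfg : ∃ s : Finset k', IntermediateField.adjoin k (s : Set k') = ⊤) (B : Type u) [CommRing B] [IsLocalRing B] [IsNoetherianRing B] [Algebra k B] (q : PrimeSpectrum (B ⊗[k] k')) (hq : q.asIdeal.comap (algebraMap B (B ⊗[k] k')) = IsLocalRing.maximalIdeal B) : LocCoh.IsGorensteinLocalRing B ↔ LocCoh.IsGorensteinLocalRing (Localization.AtPrime q.asIdeal) := by
  open Groth.Agent.Lib.Goren in
  have hess : Algebra.EssFiniteType k k' := IntermediateField.fg_top_iff.mp (by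
    obtain ⟨s, hs⟩ := hfg; exact ⟨s, hs⟩)
  have : IsNoetherianRing (B ⊗[k] k') :=
    Algebra.EssFiniteType.isNoetherianRing B (B ⊗[k] k')
  set m := IsLocalRing.maximalIdeal B with hmdef
  have hfield : LocCoh.IsGorensteinRing m.ResidueField :=
    Rings.isGorensteinRing_of_isRegularRing m.ResidueField
  have hfib : LocCoh.IsGorensteinRing (m.Fiber (B ⊗[k] k')) := by
    have := Rings.isGorensteinRing_tensor_fg k k' m.ResidueField hfg
    exact Rings.isGorensteinRing_of_ringEquiv
      ((Algebra.TensorProduct.comm k k' m.ResidueField).toRingEquiv.trans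
        (Algebra.TensorProduct.cancelBaseChange k B B m.ResidueField k').toRingEquiv.symm)
  have hp : (PrimeSpectrum.comap (algebraMap B (B ⊗[k] k')) q) = ⟨m, inferInstance⟩ := PrimeSpectrum.ext hq
  let qF := PrimeSpectrum.preimageEquivFiber B (B ⊗[k] k') ⟨m, inferInstance⟩ ⟨q, hp⟩
  have hcomap : qF.asIdeal.comap (Algebra.TensorProduct.includeRight (R := B) (A := m.ResidueField)) = q.asIdeal :=
    congrArg (fun x => (Subtype.val x).asIdeal)
      ((PrimeSpectrum.preimageEquivFiber B (B ⊗[k] k') ⟨m, inferInstance⟩).symm_apply_apply ⟨q, hp⟩)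
  have key := Rings.isGorensteinLocalRing_localization_iff m qF.asIdeal
  have e : ∀ (q' : Ideal (B ⊗[k] k')) [q'.IsPrime], q' = q.asIdeal →
      (LocCoh.IsGorensteinLocalRing (Localization.AtPrime q') ↔
        LocCoh.IsGorensteinLocalRing (Localization.AtPrime q.asIdeal)) := by
    intro q' _ h
    subst h
    exact Iff.rfl
  rw [← e _ hcomap, key, and_iff_left (hfib.isGorensteinLocalRing_localization qF.asIdeal)]
  exact Flat.isGorensteinLocalRing_ringEquiv_iff
    (IsLocalization.atUnits B m.primeCompl (fun x hx => by
      exact IsLocalRing.notMem_maximalIdeal.mp hx) : B ≃ₐ[B] Localization.AtPrime m).toRingEquiv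


end Groth.Agent.S1760
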