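import Groth.Statements.S17605
import Groth.Agent.Lib.Henselian.PairUP
import Mathlib.RingTheory.Localization.Away.Basic

set_option autoImplicit false
universe u
open Hensel

namespace Groth.Agent.S17605

/-- Let A be a ring with an ideal I and let f₁, f₂ be elements of A such that D(f₂) ∩ V(I) ⊆ D(f₁) ∩
V(I) in Spec A. If H₁ is a Henselization of the pair (A_{f₁}, IA_{f₁}) and H₂ a Henselization of the
pair (A_{f₂}, IA_{f₂}), with their induced A-algebra structures, then there is exactly one A-algebra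
map H₁ → H₂. -/
theorem result (A : Type u) [CommRing A]
    (I : Ideal A) (f₁ f₂ : A)
    (h : (PrimeSpectrum.basicOpen f₂ : Set (PrimeSpectrum A)) ∩ PrimeSpectrum.zeroLocus (I : Set A) ⊆
      (PrimeSpectrum.basicOpen f₁ : Set (PrimeSpectrum A)) ∩ PrimeSpectrum.zeroLocus (I : Set A))
    (H₁ : Type u) [CommRing H₁] [Algebra (Localization.Away f₁) H₁] [Algebra A H₁]
    [IsScalarTower A (Localization.Away f₁) H₁]
    (hH₁ : Hens2.IsPairHenselization (Localization.Away f₁)
      (I.map (algebraMap A (Localization.Away f₁))) H₁)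
    (H₂ : Type u) [CommRing H₂] [Algebra (Localization.Away f₂) H₂] [Algebra A H₂]
    [IsScalarTower A (Localization.Away f₂) H₂]
    (hH₂ : Hens2.IsPairHenselization (Localization.Away f₂)
      (I.map (algebraMap A (Localization.Away f₂))) H₂) :
    Nonempty (H₁ →ₐ[A] H₂) ∧ Subsingleton (H₁ →ₐ[A] H₂) := by
  have hI : (I.map (algebraMap A (Localization.Away f₂))).map (algebraMap (Localization.Away f₂) H₂) =
      I.map (algebraMap A H₂) := by
    rw [Ideal.map_map, ← IsScalarTower.algebraMap_eq]
  have hH : HenselianRing H₂ (I.map (algebraMap A H₂)) := hI ▸ hH₂.1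
  have htop : I.map (algebraMap A (Localization.Away f₂)) ⊔
      Ideal.span {algebraMap A (Localization.Away f₂) f₁} = ⊤ := by
    by_contra hne
    obtain ⟨M, hM, hle⟩ := Ideal.exists_le_maximal _ hne
    let p : PrimeSpectrum A := ⟨M.comap (algebraMap A _), inferInstance⟩
    have h1 : p ∈ (PrimeSpectrum.basicOpen f₂ : Set (PrimeSpectrum A)) := fun hf =>
      hM.ne_top (Ideal.eq_top_of_isUnit_mem _ hf (IsLocalization.Away.algebraMap_isUnit f₂))
    have h2 : p ∈ PrimeSpectrum.zeroLocus (I : Set A) :=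
      Ideal.map_le_iff_le_comap.mp (le_sup_left.trans hle)
    exact (h ⟨h1, h2⟩).1 (le_sup_right.trans hle (Ideal.mem_span_singleton_self _))
  have hu : IsUnit (algebraMap A H₂ f₁) := by
    have h1 := Ideal.mem_map_of_mem (algebraMap (Localization.Away f₂) H₂) ((Ideal.eq_top_iff_one _).mp htop)
    rw [Ideal.map_sup, hI, map_one, Ideal.map_span, Set.image_singleton,
      ← IsScalarTower.algebraMap_apply] at h1
    obtain ⟨i, hi, c, hc, hic⟩ := Submodule.mem_sup.mp h1
    obtain ⟨c, rfl⟩ := Ideal.mem_span_singleton'.mp hc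
    have hu' : IsUnit (c * algebraMap A H₂ f₁) :=
      Groth.Agent.Lib.Henselian.Basic.isUnit_of_sub_one_mem hH.jac (by
        rw [show c * algebraMap A H₂ f₁ - 1 = -i by linear_combination hic]
        exact neg_mem hi)
    exact isUnit_of_mul_isUnit_right hu'
  let f : Localization.Away f₁ →ₐ[A] H₂ :=
    IsLocalization.Away.liftAlgHom f₁ (f := Algebra.ofId A H₂) hu
  have huniq : ∀ g : Localization.Away f₁ →ₐ[A] H₂, g = f := fun g =>
    IsLocalization.algHom_ext (Submonoid.powers f₁) (Subsingleton.elim _ _)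
  obtain ⟨g, hg, hgu⟩ := Groth.Agent.Lib.Henselian.PairUP.existsUnique_algHom hH₁ _ hH f (Groth.Agent.Lib.Henselian.PairUP.map_map_le I _)
  exact ⟨⟨g⟩, ⟨fun a b => (hgu a (huniq _)).trans (hgu b (huniq _)).symm⟩⟩

end Groth.Agent.S17605
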