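import Groth.Statements.S17606
import Groth.Agent.Lib.HensSch.FamilyDescent
import Groth.Agent.Lib.Henselian.PairUP
-- import your own Groth.Agent.* helpers here

set_option autoImplicit false
universe u
open Hensel

namespace Groth.Agent.S17606

open TensorProduct

/-- A henselization of a localization is a henselization away over the henselization. -/
theorem isHensAway {A : Type u} [CommRing A] {I : Ideal A} {H : Type u} [CommRing H] [Algebra A H]
    (hH : Hens2.IsPairHenselization A I H) (g : A) {B : Type u} [CommRing B]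
    [Algebra (Localization.Away g) B] [Algebra A B] [IsScalarTower A (Localization.Away g) B]
    (hB : Hens2.IsPairHenselization (Localization.Away g)
      (I.map (algebraMap A (Localization.Away g))) B)
    (ψ : H →ₐ[A] B) :
    _root_.HensSch.IsHensAway H (I.map (algebraMap A H)) (algebraMap A H g) B ψ.toRingHom := by
  have hI : (I.map (algebraMap A H)).map ψ.toRingHom = I.map (algebraMap A B) := by
    rw [Ideal.map_map]; congr 1; exact ψ.comp_algebraMap
  have hI' : (I.map (algebraMap A (Localization.Away g))).map (algebraMap (Localization.Away g) B) =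
      I.map (algebraMap A B) := by
    rw [Ideal.map_map, ← IsScalarTower.algebraMap_eq]
  refine ⟨?_, ?_, fun C _ J f hC hJ hu => ?_⟩
  · show IsUnit (ψ (algebraMap A H g))
    rw [ψ.commutes, IsScalarTower.algebraMap_apply A (Localization.Away g) B]
    exact (IsLocalization.Away.algebraMap_isUnit g).map _
  · rw [hI, ← hI']; exact hB.1
  · let f₀ : A →+* C := f.comp (algebraMap A H)
    let f₁ : Localization.Away g →+* C := IsLocalization.Away.lift g (show IsUnit (f₀ g) from hu)
    have hf₁ : f₁.comp (algebraMap A (Localization.Away g)) = f₀ :=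
      RingHom.ext fun a => IsLocalization.Away.lift_eq g (show IsUnit (f₀ g) from hu) a
    have hJ₀ : I.map f₀ ≤ J := by rw [← Ideal.map_map]; exact hJ
    obtain ⟨h, hh, huniq⟩ := hB.2 C J f₁ hC (by rw [Ideal.map_map, hf₁]; exact hJ₀)
    have hA : h.comp (algebraMap A B) = f₀ := by
      rw [IsScalarTower.algebraMap_eq A (Localization.Away g) B, ← RingHom.comp_assoc, hh, hf₁]
    refine ⟨h, ?_, fun h' hh' => huniq h' ?_⟩
    · refine Groth.Agent.Lib.Henselian.PairUP.ringHom_ext hH J hC ?_ ?_
      · rw [RingHom.comp_assoc, show ψ.toRingHom.comp (algebraMap A H) = algebraMap A B from ψ.comp_algebraMap]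
        exact hA
      · rw [RingHom.comp_assoc, show ψ.toRingHom.comp (algebraMap A H) = algebraMap A B from ψ.comp_algebraMap,
          hA]
        exact hJ₀
    · refine IsLocalization.ringHom_ext (Submonoid.powers g) ?_
      rw [RingHom.comp_assoc, ← IsScalarTower.algebraMap_eq, hf₁,
        show algebraMap A B = ψ.toRingHom.comp (algebraMap A H) from ψ.comp_algebraMap.symm,
        ← RingHom.comp_assoc, hh']

/-- Let A be a ring with an ideal I and let g_i (i ∈ ι) be elements of A whose images generate the unit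
ideal of A/I, so that the basic opens D(g_i) cover V(I). Let H be a Henselization of the pair (A,
I), H_i a Henselization of (A_{g_i}, IA_{g_i}) and H_{ij} a Henselization of (A_{g_i g_j}, IA_{g_i
g_j}), all with their induced A-algebra structures, and fix A-algebra maps H → H_i, H_i → H_{ij} and
H_j → H_{ij} (each is the unique such map). Then the sequence H → ∏ H_i ⇉ ∏ H_{ij} is an equalizer:
an element of H is determined by its images in the H_i, and every family (s_i) with s_i ∈ H_i whose
images in each H_{ij} agree is the image of an element of H. (This is the sheaf condition, for the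
covering of V(I) by the D(g_i), of the presheaf D(f) ∩ V(I) ↦ Henselization of (A_f, IA_f); the case
of a general basic open D(f) ∩ V(I) follows by replacing A with A_f.) -/
theorem result (A : Type u) [CommRing A] (I : Ideal A)
    (ι : Type u) (g : ι → A) (hcov : I ⊔ Ideal.span (Set.range g) = ⊤)
    (H : Type u) [CommRing H] [Algebra A H] (hH : Hens2.IsPairHenselization A I H)
    (Hi : ι → Type u) [∀ i, CommRing (Hi i)] [∀ i, Algebra (Localization.Away (g i)) (Hi i)]
    [∀ i, Algebra A (Hi i)] [∀ i, IsScalarTower A (Localization.Away (g i)) (Hi i)]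
    (hHi : ∀ i, Hens2.IsPairHenselization (Localization.Away (g i))
      (I.map (algebraMap A (Localization.Away (g i)))) (Hi i))
    (Hij : ι → ι → Type u) [∀ i j, CommRing (Hij i j)]
    [∀ i j, Algebra (Localization.Away (g i * g j)) (Hij i j)]
    [∀ i j, Algebra A (Hij i j)] [∀ i j, IsScalarTower A (Localization.Away (g i * g j)) (Hij i j)]
    (hHij : ∀ i j, Hens2.IsPairHenselization (Localization.Away (g i * g j))
      (I.map (algebraMap A (Localization.Away (g i * g j)))) (Hij i j))
    (ρ : ∀ i, H →ₐ[A] Hi i) (σ : ∀ i j, Hi i →ₐ[A] Hij i j) (τ : ∀ i j, Hi j →ₐ[A] Hij i j) :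
    (∀ x y : H, (∀ i, ρ i x = ρ i y) → x = y) ∧
    ∀ s : ∀ i, Hi i, (∀ i j, σ i j (s i) = τ i j (s j)) → ∃ x : H, ∀ i, ρ i x = s i := by
  classical
  set J := I.map (algebraMap A H) with hJ
  haveI : HenselianRing H J := hH.1
  letI : ∀ i, Algebra H (Hi i) := fun i => (ρ i).toRingHom.toAlgebra
  letI : ∀ i j, Algebra H (Hij i j) := fun i j => ((σ i j).comp (ρ i)).toRingHom.toAlgebra
  have hB : ∀ i, _root_.HensSch.IsHensAway H J (algebraMap A H (g i)) (Hi i) (algebraMap H (Hi i)) :=
    fun i => isHensAway hH (g i) (hHi i) (ρ i)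
  have hB₂ : ∀ i j, _root_.HensSch.IsHensAway H J (algebraMap A H (g i) * algebraMap A H (g j)) (Hij i j)
      (algebraMap H (Hij i j)) := fun i j => by
    rw [← map_mul]
    exact isHensAway hH (g i * g j) (hHij i j) ((σ i j).comp (ρ i))
  -- a finite subfamily covers
  obtain ⟨a, ha, b, hb, hab⟩ := Submodule.mem_sup.1
    (show (1 : A) ∈ I ⊔ Ideal.span (Set.range g) from hcov ▸ Submodule.mem_top)
  obtain ⟨T, hT, hbT⟩ := Submodule.mem_span_finite_of_mem_span hb
  obtain ⟨s₀, -, hs₀⟩ := Finset.subset_set_image_iff.1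
    (show (T : Set A) ⊆ g '' Set.univ by rwa [Set.image_univ])
  have hcov' : ∀ s : Finset ι, s₀ ⊆ s → ∀ q : Ideal H, q.IsPrime → J ≤ q →
      ∃ i : s, algebraMap A H (g i) ∉ q := by
    intro s hs q hq hJq
    by_contra h
    push Not at h
    have h1 : I ≤ q.comap (algebraMap A H) := Ideal.map_le_iff_le_comap.1 hJq
    have h2 : Ideal.span (T : Set A) ≤ q.comap (algebraMap A H) := Ideal.span_le.2 fun x hx => by
      rw [← hs₀] at hx
      simp only [Finset.coe_image, Set.mem_image, Finset.mem_coe] at hx
      obtain ⟨i, hi, rfl⟩ := hx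
      exact h ⟨i, hs hi⟩
    refine hq.ne_top (Ideal.eq_top_of_isUnit_mem _ (show algebraMap A H 1 ∈ q from ?_) (by simp))
    rw [← hab]
    exact Ideal.add_mem _ (h1 ha) (h2 hbT)
  have hinj : ∀ s : Finset ι, s₀ ⊆ s → ∀ n : H, (∀ i : s, ρ i n = 0) → n = 0 := by
    intro s hs n hn
    refine Groth.Agent.Lib.HensSch.FamilyDescent.eq_zero_of_forall (M := H) (fun i : s => algebraMap A H (g i))
      (hcov' s hs) (fun i : s => Hi i) (fun i => hB i) n fun i => ?_
    refine (TensorProduct.rid H (Hi (i : ι))).injective ?_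
    rw [TensorProduct.rid_tmul, map_zero, Algebra.smul_def, mul_one]
    exact hn i
  refine ⟨fun x y hxy => sub_eq_zero.1 (hinj s₀ subset_rfl _ fun i => by rw [map_sub, hxy, sub_self]),
    fun t ht => ?_⟩
  have hστ : ∀ i j, (τ i j).comp (ρ j) = (σ i j).comp (ρ i) := fun i j => by
    refine AlgHom.coe_ringHom_injective (Groth.Agent.Lib.Henselian.PairUP.ringHom_ext hH
      ((I.map (algebraMap A (Localization.Away (g i * g j)))).map (algebraMap _ (Hij i j))) (hHij i j).1 ?_ ?_)
    · exact ((τ i j).comp (ρ j)).comp_algebraMap.trans ((σ i j).comp (ρ i)).comp_algebraMap.symm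
    · rw [Ideal.map_map (algebraMap A (Localization.Away (g i * g j))), ← IsScalarTower.algebraMap_eq]
      exact le_of_eq (by rw [show ((τ i j).comp (ρ j) : H →+* Hij i j).comp (algebraMap A H) =
        algebraMap A (Hij i j) from ((τ i j).comp (ρ j)).comp_algebraMap])
  have glue : ∀ s : Finset ι, s₀ ⊆ s → ∃ x : H, ∀ i ∈ s, ρ i x = t i := by
    intro s hs
    let r₁ : ∀ i j : s, Hi i →ₐ[H] Hij i j := fun i j =>
      { (σ i j).toRingHom with commutes' := fun x => rfl }
    let r₂ : ∀ i j : s, Hi j →ₐ[H] Hij i j := fun i j =>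
      { (τ i j).toRingHom with commutes' := fun x => AlgHom.congr_fun (hστ i j) x }
    obtain ⟨m, hm, -⟩ := Groth.Agent.Lib.HensSch.FamilyDescent.existsUnique_glue (M := H)
      (fun i : s => algebraMap A H (g i)) (hcov' s hs) (fun i : s => Hi i) (fun i => hB i)
      (fun i j : s => Hij i j) (fun i j => hB₂ i j) r₁ r₂ (fun i => t i ⊗ₜ[H] (1 : H)) fun i j => by
        simp only [Groth.Agent.Lib.HensSch.Descent.push, LinearMap.rTensor_tmul]
        exact congrArg (· ⊗ₜ[H] (1 : H)) (ht i j)
    refine ⟨m, fun i hi => ?_⟩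
    have h := congrArg (TensorProduct.rid H (Hi i)) (hm ⟨i, hi⟩)
    rw [TensorProduct.rid_tmul, TensorProduct.rid_tmul, one_smul, Algebra.smul_def, mul_one] at h
    exact h
  obtain ⟨x, hx⟩ := glue s₀ subset_rfl
  refine ⟨x, fun i => ?_⟩
  obtain ⟨y, hy⟩ := glue (insert i s₀) (Finset.subset_insert i s₀)
  have : x = y := sub_eq_zero.1 (hinj s₀ subset_rfl _ fun j => by
    rw [map_sub, hx j j.2, hy j (Finset.mem_insert_of_mem j.2), sub_self])
  rw [this]
  exact hy i (Finset.mem_insert_self i s₀)

end Groth.Agent.S17606
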