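import Groth.Statements.S1761
import Groth.Agent.Lib.DMod.GoodUnbounded
import Groth.Agent.Lib.InjHull.Complete
import Mathlib.RingTheory.Finiteness.Small

set_option autoImplicit false
universe u
open CategoryTheory
attribute [local instance] HasDerivedCategory.standard
open Dual

namespace Groth.Agent.S1761
open Groth.Agent.Lib.DMod
open Groth.Agent.Lib
/-- For a complete local ring (where the completion on the left-hand side is the identity). Let A be a
complete Noetherian local ring with maximal ideal m, normalized dualizing complex ω and injective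
hull κ → E of the residue field. For every K in D(A) all of whose cohomology modules are finite and
every integer i, the A-module of maps K → ω[−i] in D(A) is isomorphic to Hom_A(H^i_m(K), E), where
H^i_m(K) is the direct limit of Hom(A/m^n, K[i]). -/
theorem result (A : Type u) [CommRing A] [IsLocalRing A] [IsNoetherianRing A] [IsAdicComplete (IsLocalRing.maximalIdeal A) A] (ω : Dual.D A) (hω : Dual.IsDualizing A ω) (hn : Dual.IsNormalized A ω) (E : Type u) [AddCommGroup E] [Module A E] (f : IsLocalRing.ResidueField A →ₗ[A] E) (hf : InjHull.IsInjectiveHull f) (K : Dual.D A) (hK : ∀ i : ℤ, Module.Finite A (Dual.HD A K i)) (i : ℤ) : Nonempty ((K ⟶ ω⟦(-i)⟧) ≃ₗ[A] (Dual2.HDI A (IsLocalRing.maximalIdeal A) K i →ₗ[A] E)) := by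
  obtain ⟨t⟩ := Sys.exists_trace hω hn hf
  let X := K⟦i⟧ ⟶ ω
  haveI : Module.Finite A X := GoodUnbounded.finite_hom hω (K⟦i⟧) fun j =>
    have := hK (i + j)
    Module.Finite.equiv (Basic.HDShift K i j (i + j) rfl).symm
  haveI : Small.{u} X := Module.Finite.small.{u} A X
  let sh : Shrink.{u} X ≃ₗ[A] X := Shrink.linearEquiv A X
  haveI : Module.Finite A (Shrink.{u} X) := Module.Finite.equiv sh.symm
  have hbij := LocalDuality.hdiMap_bijective t K i (GoodUnbounded.good t hω hn hf K hK i)
  let e' : Dual2.HDI A (IsLocalRing.maximalIdeal A) K i ≃ₗ[A] (Shrink.{u} X →ₗ[A] E) :=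
    (LinearEquiv.ofBijective _ hbij).trans (LinearEquiv.congrLeft E A sh.symm)
  exact ⟨(LocalDuality.shiftDualEquiv (ω := ω) K i).symm.trans (sh.symm.trans ((LinearEquiv.ofBijective _
    (InjHull.Complete.applyₗ_bijective_of_finite hf (Shrink.{u} X))).trans (LinearEquiv.congrLeft E A e'.symm)))⟩

end Groth.Agent.S1761
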