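import Groth.Statements.S17612
import Groth.Agent.Lib.Henselian.HfpCover45
-- import your own Groth.Agent.* helpers here

set_option autoImplicit false
universe u
open Hensel

namespace Groth.Agent.S17612

/-- A henselization of a localization satisfies the universal property over the base. -/
theorem isHensAway {A : Type u} [CommRing A] (I : Ideal A) {B : Type u} [CommRing B] [Algebra A B] (f : B)
    {H : Type u} [CommRing H] [Algebra (Localization.Away f) H] [Algebra B H]
    [IsScalarTower B (Localization.Away f) H]
    (hH : Hens2.IsPairHenselization (Localization.Away f) (I.map (algebraMap A (Localization.Away f))) H) :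
    _root_.HensSch.IsHensAway B (I.map (algebraMap A B)) f H (algebraMap B H) := by
  have hI : I.map (algebraMap A (Localization.Away f)) =
      (I.map (algebraMap A B)).map (algebraMap B (Localization.Away f)) := by
    rw [Ideal.map_map, ← IsScalarTower.algebraMap_eq]
  have hBH : algebraMap B H = (algebraMap (Localization.Away f) H).comp (algebraMap B (Localization.Away f)) :=
    IsScalarTower.algebraMap_eq _ _ _
  refine ⟨?_, ?_, fun D _ J g hD hJ hu => ?_⟩
  · rw [hBH]
    exact (IsLocalization.Away.algebraMap_isUnit (S := Localization.Away f) f).map (algebraMap (Localization.Away f) H)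
  · rw [hBH, ← Ideal.map_map, ← hI]
    exact hH.1
  · let g₁ : Localization.Away f →+* D := IsLocalization.Away.lift f hu
    have hg₁ : g₁.comp (algebraMap B (Localization.Away f)) = g :=
      RingHom.ext fun a => IsLocalization.Away.lift_eq f hu a
    obtain ⟨h, hh, huniq⟩ := hH.2 D J g₁ hD (by rw [hI, Ideal.map_map, hg₁]; exact hJ)
    refine ⟨h, ?_, fun h' hh' => huniq h' (IsLocalization.ringHom_ext (Submonoid.powers f) ?_)⟩
    · show h.comp (algebraMap B H) = g
      rw [hBH, ← RingHom.comp_assoc, hh, hg₁]
    · rw [hg₁, RingHom.comp_assoc, ← hBH]
      exact hh'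

/-- Let (A, I) and (B, IB) be Henselian pairs with B an A-algebra, and let f₁, …, fₙ ∈ B generate the
unit ideal of B. For each i let H_i be a Henselization of the pair (B_{f_i}, IB_{f_i}) with its
induced A-algebra structure, and assume that each H_i is, for a compatible algebra structure, a
Henselization of the pair (R_i, IR_i) for some finitely presented A-algebra R_i (that is, each A →
H_i is Henselian finitely presented). Then A → B is Henselian finitely presented: B is, for a
compatible algebra structure, a Henselization of (T, IT) for some finitely presented A-algebra T.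
(The published statement allows a finite cover by arbitrary affine opens of the affine Henselian
scheme of (B, IB); this is its case of basic opens, to which the published proof reduces.) -/
theorem result (A : Type u) [CommRing A] (I : Ideal A)
    [HenselianRing A I] (B : Type u) [CommRing B] [Algebra A B] [HenselianRing B (I.map (algebraMap A B))]
    (n : ℕ) (f : Fin n → B) (hf : Ideal.span (Set.range f) = ⊤)
    (H : Fin n → Type u) [∀ i, CommRing (H i)] [∀ i, Algebra (Localization.Away (f i)) (H i)]
    [∀ i, Algebra B (H i)] [∀ i, Algebra A (H i)] [∀ i, IsScalarTower B (Localization.Away (f i)) (H i)]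
    [∀ i, IsScalarTower A B (H i)]
    (hH : ∀ i, Hens2.IsPairHenselization (Localization.Away (f i))
      (I.map (algebraMap A (Localization.Away (f i)))) (H i))
    (R : Fin n → Type u) [∀ i, CommRing (R i)] [∀ i, Algebra A (R i)]
    [∀ i, Algebra.FinitePresentation A (R i)] [∀ i, Algebra (R i) (H i)]
    [∀ i, IsScalarTower A (R i) (H i)]
    (hR : ∀ i, Hens2.IsPairHenselization (R i) (I.map (algebraMap A (R i))) (H i)) :
    ∃ (T : Type u) (_ : CommRing T) (_ : Algebra A T) (_ : Algebra T B) (_ : IsScalarTower A T B),
      Algebra.FinitePresentation A T ∧ Hens2.IsPairHenselization T (I.map (algebraMap A T)) B := by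
  refine Groth.Agent.Lib.Henselian.HfpLimit.hfp_of_algHom_directLimit I ?_
  intro κ _ _ _ Ra _ _ _ t _ ht _ halg
  exact Groth.Agent.Lib.Henselian.HfpCover45.algHom_directLimit_of_cover I f hf H
    (fun i => isHensAway I (f i) (hH i)) R hR Ra t ht halg

end Groth.Agent.S17612
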