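import Groth.Statements.S17615
import Groth.Agent.Lib.Henselian.Shrink
import Groth.Agent.Lib.Henselian.PairUP
import Groth.Agent.H19.FlatLocus.Main
import Groth.Agent.H24.CompletionFlat
import Groth.Agent.S17593
import Mathlib.RingTheory.Flat.Localization
import Mathlib.RingTheory.Etale.Basic

set_option autoImplicit false
universe u
open Hensel

namespace Groth.Agent.S17615

open Groth.Agent.Lib.Henselian

/-- Let (A, I) be a Henselian pair and let B be a Henselization of the pair (R₀, IR₀) for a finitely
presented A-algebra R₀ (so A → B is a Henselian finitely presented map of Henselian pairs). If B is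
flat over A, then there are a finitely presented A-algebra S that is flat over A and an S-algebra
structure on B compatible with that of A for which B is a Henselization of the pair (S, IS). -/
theorem result (A : Type u) [CommRing A]
    (I : Ideal A) [HenselianRing A I]
    (R₀ : Type u) [CommRing R₀] [Algebra A R₀] [Algebra.FinitePresentation A R₀]
    (B : Type u) [CommRing B] [Algebra R₀ B] [Algebra A B] [IsScalarTower A R₀ B]
    (hB : Hens2.IsPairHenselization R₀ (I.map (algebraMap A R₀)) B) [Module.Flat A B] :
    ∃ (S : Type u) (_ : CommRing S) (_ : Algebra A S) (_ : Algebra S B) (_ : IsScalarTower A S B),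
      Algebra.FinitePresentation A S ∧ Module.Flat A S ∧
      Hens2.IsPairHenselization S (I.map (algebraMap A S)) B := by
  have hK := PairUP.quotientMap_bijective hB
  have : Module.Flat R₀ B := PairUP.flat hB
  have hflat : ∀ (p : Ideal R₀) [p.IsPrime], I.map (algebraMap A R₀) ≤ p →
      Module.Flat A (Localization.AtPrime p) := by
    intro p _ hp
    let e := RingEquiv.ofBijective _ hK
    let q := p.map (Ideal.Quotient.mk (I.map (algebraMap A R₀)))
    have hq : q.IsPrime := Ideal.map_isPrime_of_surjective Ideal.Quotient.mk_surjective (by rwa [Ideal.mk_ker])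
    let P : Ideal B := q.comap (e.symm.toRingHom.comp (Ideal.Quotient.mk _))
    have hP : P.comap (algebraMap R₀ B) = p := by
      rw [Ideal.comap_comap, RingHom.comp_assoc,
        show e.symm.toRingHom.comp ((Ideal.Quotient.mk _).comp (algebraMap R₀ B)) =
          Ideal.Quotient.mk _ from RingHom.ext fun r => e.symm_apply_apply (Ideal.Quotient.mk _ r),
        Ideal.comap_map_of_surjective _ Ideal.Quotient.mk_surjective, ← RingHom.ker_eq_comap_bot, Ideal.mk_ker,
        sup_eq_left.mpr hp]
    let : Algebra (Localization.AtPrime p) (Localization.AtPrime P) :=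
      (Localization.localRingHom p P (algebraMap R₀ B) hP.symm).toAlgebra
    have : IsScalarTower R₀ (Localization.AtPrime p) (Localization.AtPrime P) :=
      IsScalarTower.of_algebraMap_eq fun r => by
        rw [RingHom.algebraMap_toAlgebra, Localization.localRingHom_to_map,
          ← IsScalarTower.algebraMap_apply]
    have : IsScalarTower A (Localization.AtPrime p) (Localization.AtPrime P) :=
      IsScalarTower.of_algebraMap_eq fun a => by
        rw [IsScalarTower.algebraMap_apply A R₀ (Localization.AtPrime p),
          ← IsScalarTower.algebraMap_apply R₀ (Localization.AtPrime p) (Localization.AtPrime P),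
          IsScalarTower.algebraMap_apply R₀ B (Localization.AtPrime P),
          ← IsScalarTower.algebraMap_apply A R₀ B, ← IsScalarTower.algebraMap_apply]
    have : Module.Flat B (Localization.AtPrime P) := IsLocalization.flat _ P.primeCompl
    have : Module.Flat R₀ (Localization.AtPrime P) := Module.Flat.trans R₀ B _
    have : Module.Flat (Localization.AtPrime p) (Localization.AtPrime P) :=
      (Module.flat_iff_of_isLocalization (Localization.AtPrime p) p.primeCompl _).mpr ‹_›
    have : IsLocalHom (algebraMap (Localization.AtPrime p) (Localization.AtPrime P)) :=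
      Localization.isLocalHom_localRingHom p P (algebraMap R₀ B) hP.symm
    have : Module.FaithfullyFlat (Localization.AtPrime p) (Localization.AtPrime P) :=
      Module.FaithfullyFlat.of_flat_of_isLocalHom
    have : Module.Flat A (Localization.AtPrime P) := Module.Flat.trans A B _
    exact Groth.Agent.H24.CompletionFlat.flat_of_faithfullyFlat A _ (Localization.AtPrime P)
  obtain ⟨R', _, _, _, _, hR', hbij, hflat'⟩ := Groth.Agent.S17593.result A I R₀ hflat
  let H := PairHenselization.PairHenselization ((I.map (algebraMap A R₀)).map (algebraMap R₀ R'))
  let : Algebra R₀ H := ((algebraMap R' H).comp (algebraMap R₀ R')).toAlgebra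
  have : IsScalarTower R₀ R' H := IsScalarTower.of_algebraMap_eq (R := R₀) (S := R') (A := H) fun _ => rfl
  have hH := PairHenselization.isPairHenselization ((I.map (algebraMap A R₀)).map (algebraMap R₀ R'))
  let e := PairUP.algEquivOf (PairUP.of_isNbhd hbij hH) hB
  let : Algebra R' B := (e.toAlgHom.toRingHom.comp (algebraMap R' H)).toAlgebra
  have : IsScalarTower R₀ R' B := IsScalarTower.of_algebraMap_eq fun r => by
    rw [RingHom.algebraMap_toAlgebra, RingHom.comp_apply, ← IsScalarTower.algebraMap_apply R₀ R' H]
    exact (e.commutes r).symm
  have : IsScalarTower A R' B := IsScalarTower.of_algebraMap_eq fun a => by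
    rw [IsScalarTower.algebraMap_apply A R₀ R', ← IsScalarTower.algebraMap_apply R₀ R' B,
      ← IsScalarTower.algebraMap_apply A R₀ B]
  refine ⟨R', inferInstance, inferInstance, inferInstance, inferInstance,
    Algebra.FinitePresentation.trans A R₀ R', hflat', ?_⟩
  have h2 := PairUP.of_algEquiv hH (AlgEquiv.ofRingEquiv (f := e.toRingEquiv) fun _ => rfl : H ≃ₐ[R'] B)
  rwa [Ideal.map_map, ← IsScalarTower.algebraMap_eq] at h2

end Groth.Agent.S17615
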