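import Groth.Statements.S17617
import Groth.Agent.Lib.Henselian.PairUP
import Mathlib.RingTheory.Flat.FaithfullyFlat.Algebra
import Mathlib.RingTheory.LocalProperties.Exactness
import Mathlib.RingTheory.Flat.Stability
import Mathlib.RingTheory.LocalRing.Module

set_option autoImplicit false
universe u
open Hensel TensorProduct

namespace Groth.Agent.S17617

/-- Let (A, I) be a Henselian pair and let M' → M → M'' be A-linear maps with zero composite. Then M' →
M → M'' is exact if and only if for every prime ideal p of A containing I and every Henselization H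
of the pair (A_p, IA_p), the sequence H ⊗_A M' → H ⊗_A M → H ⊗_A M'' is exact. (The modules H ⊗_A M
are the stalks at p of the sheaf associated to M on the affine Henselian scheme of (A, I), and
exactness of a sequence of such sheaves is exactness at every stalk, so this is the statement that
the sequence of modules is exact exactly when the associated sequence of sheaves is.) -/
theorem result (A : Type u) [CommRing A]
    (I : Ideal A) [HenselianRing A I]
    (M' M M'' : Type u) [AddCommGroup M'] [Module A M'] [AddCommGroup M] [Module A M]
    [AddCommGroup M''] [Module A M''] (f : M' →ₗ[A] M) (g : M →ₗ[A] M'') (hfg : g.comp f = 0) :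
    Function.Exact f g ↔
    ∀ (p : Ideal A) [p.IsPrime], I ≤ p →
      ∀ (H : Type u) [CommRing H] [Algebra (Localization.AtPrime p) H] [Algebra A H]
        [IsScalarTower A (Localization.AtPrime p) H],
        Hens2.IsPairHenselization (Localization.AtPrime p)
          (I.map (algebraMap A (Localization.AtPrime p))) H →
        Function.Exact (f.baseChange H) (g.baseChange H) := by
  constructor
  · intro h p _ _ H _ _ _ _ hH
    have := Groth.Agent.Lib.Henselian.PairUP.flat hH
    have : Module.Flat A H := Module.Flat.trans A (Localization.AtPrime p) H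
    have := Module.Flat.lTensor_exact H h
    exact this
  · intro h
    refine exact_of_localized_maximal f g fun p _ => ?_
    have hIp : I ≤ p := (HenselianRing.jac (I := I)).trans (sInf_le ⟨bot_le, inferInstance⟩)
    let Ap := Localization.AtPrime p
    let H := Groth.Agent.Lib.Henselian.PairHenselization.PairHenselization (I.map (algebraMap A Ap))
    let : Algebra A H := ((algebraMap Ap H).comp (algebraMap A Ap)).toAlgebra
    have : IsScalarTower A Ap H := IsScalarTower.of_algebraMap_eq fun _ => rfl
    have hH := Groth.Agent.Lib.Henselian.PairHenselization.isPairHenselization (I.map (algebraMap A Ap))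
    have hex := h p hIp H hH
    have hflat := Groth.Agent.Lib.Henselian.PairUP.flat hH
    have hff : Module.FaithfullyFlat Ap H := by
      refine ⟨fun {M} hM htop => ?_⟩
      rw [Ideal.smul_top_eq_map, Submodule.restrictScalars_eq_top_iff] at htop
      have hM' : I.map (algebraMap A Ap) ≤ M := by
        rw [IsLocalRing.eq_maximalIdeal hM]
        refine (Ideal.map_mono hIp).trans ?_
        exact (Localization.AtPrime.map_eq_maximalIdeal (I := p)).le
      obtain ⟨hi, -⟩ := Groth.Agent.Lib.Henselian.PairUP.quotientMap_bijective hH
      obtain ⟨i, hi', hMH⟩ : ∃ r : Ap, r ∈ M ∧ algebraMap Ap H r - 1 ∈ (I.map (algebraMap A Ap)).map (algebraMap Ap H) := by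
        have key : ∀ z ∈ M.map (algebraMap Ap H), ∃ r ∈ M, z - algebraMap Ap H r ∈ (I.map (algebraMap A Ap)).map (algebraMap Ap H) := by
          intro z hz
          induction hz using Submodule.span_induction with
          | mem y hy => obtain ⟨r, hr, rfl⟩ := hy; exact ⟨r, hr, by simp⟩
          | zero => exact ⟨0, zero_mem _, by simp⟩
          | add a b _ _ ha hb =>
            obtain ⟨r, hr, hr'⟩ := ha
            obtain ⟨s, hs, hs'⟩ := hb
            exact ⟨r + s, add_mem hr hs, by rw [map_add, add_sub_add_comm]; exact add_mem hr' hs'⟩
          | smul c a _ ha =>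
            obtain ⟨r, hr, hr'⟩ := ha
            obtain ⟨q, hq⟩ := (Groth.Agent.Lib.Henselian.PairUP.quotientMap_bijective hH).2 (Ideal.Quotient.mk _ c)
            obtain ⟨s, rfl⟩ := Ideal.Quotient.mk_surjective q
            rw [Ideal.quotientMap_mk, Ideal.Quotient.eq] at hq
            refine ⟨s * r, M.mul_mem_left _ hr, ?_⟩
            rw [smul_eq_mul, map_mul, show c * a - algebraMap Ap H s * algebraMap Ap H r =
              c * (a - algebraMap Ap H r) - (algebraMap Ap H s - c) * algebraMap Ap H r by ring]
            exact sub_mem (Ideal.mul_mem_left _ _ hr') (Ideal.mul_mem_right _ _ hq)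
        obtain ⟨r, hr, hr'⟩ := key 1 (htop ▸ Submodule.mem_top)
        exact ⟨r, hr, by rw [← neg_sub]; exact neg_mem hr'⟩
      have := hi (a₁ := Ideal.Quotient.mk _ i) (a₂ := 1) (by
        rw [Ideal.quotientMap_mk, map_one, ← map_one (Ideal.Quotient.mk _), Ideal.Quotient.eq]
        exact hMH)
      rw [← map_one (Ideal.Quotient.mk _), Ideal.Quotient.eq] at this
      exact hM.ne_top ((Ideal.eq_top_iff_one _).mpr (by
        have h2 := sub_mem hi' (hM' this)
        rwa [sub_sub_cancel] at h2))
    let e : ∀ (N : Type u) [AddCommGroup N] [Module A N],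
        (H ⊗[A] N) ≃ₗ[A] (H ⊗[Ap] LocalizedModule p.primeCompl N) := fun N _ _ =>
      ((TensorProduct.AlgebraTensorModule.cancelBaseChange A Ap Ap H N).symm.restrictScalars A).trans
        ((LinearEquiv.lTensor H ((LocalizedModule.equivTensorProduct p.primeCompl N).symm)).restrictScalars A)
    have hnat : ∀ (N N' : Type u) [AddCommGroup N] [Module A N] [AddCommGroup N'] [Module A N'] (k : N →ₗ[A] N') (x : H ⊗[A] N),
        e N' (k.baseChange H x) = (LocalizedModule.map p.primeCompl k).lTensor H (e N x) := fun N N' _ _ _ _ k x => by
      induction x using TensorProduct.induction_on with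
      | zero => simp
      | tmul a b =>
        simp only [e, LinearEquiv.trans_apply, LinearEquiv.restrictScalars_apply, LinearMap.baseChange_tmul,
          TensorProduct.AlgebraTensorModule.cancelBaseChange_symm_tmul]
        show a ⊗ₜ[Ap] ((LocalizedModule.equivTensorProduct p.primeCompl N').symm (1 ⊗ₜ[A] k b)) =
          a ⊗ₜ[Ap] ((LocalizedModule.map p.primeCompl k)
            ((LocalizedModule.equivTensorProduct p.primeCompl N).symm (1 ⊗ₜ[A] b)))
        congr 1
        erw [LocalizedModule.equivTensorProduct_symm_apply_tmul_one,
          LocalizedModule.equivTensorProduct_symm_apply_tmul_one, LocalizedModule.map_mk]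
      | add a b ha hb => simp only [map_add, ha, hb]
    refine (Module.FaithfullyFlat.lTensor_exact_iff_exact Ap H _ _).mp ?_
    refine (Function.Exact.iff_of_ladder_linearEquiv (e₁ := e M') (e₂ := e M) (e₃ := e M'')
      (g₁₂ := ((LocalizedModule.map p.primeCompl f).lTensor H).restrictScalars A)
      (g₂₃ := ((LocalizedModule.map p.primeCompl g).lTensor H).restrictScalars A)
      (f₁₂ := (f.baseChange H).restrictScalars A) (f₂₃ := (g.baseChange H).restrictScalars A) ?_ ?_).mpr hex
    · exact LinearMap.ext fun x => (hnat _ _ f x).symm
    · exact LinearMap.ext fun x => (hnat _ _ g x).symm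

end Groth.Agent.S17617
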