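import Groth.Statements.S17619
import Groth.Agent.S1200
import Groth.Agent.Lib.FlatCA.WeakAss
import Groth.Agent.Lib.Pure.UI

set_option autoImplicit false
universe u
open FlatMor
open AlgebraicGeometry CategoryTheory

namespace Groth.Agent.S17619

attribute [local instance] Algebra.TensorProduct.rightAlgebra

/-- Let A be a Noetherian ring and B a smooth A-algebra whose fibres are geometrically integral, and let
u : B → A be an A-algebra retraction with kernel I (the situation reached, after a faithfully flat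
base change, in the proof that flat and pure modules are projective). Let B̂ be the I-adic
completion of B, presented as a B-algebra, compatibly an A-algebra, that is I B̂-adically complete
and for which every truncation B/I^n → B̂/I^n B̂ is bijective. Then the canonical map B → B̂ is
universally injective over A: it remains injective after tensoring over A with any A-module (modules
in the universe of A). -/
theorem result (A : Type u) [CommRing A]
    [IsNoetherianRing A] (B : Type u) [CommRing B] [Algebra A B] [Algebra.Smooth A B]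
    (hfib : FlatCA.GeomIntegralFibres A B) (u : B →ₐ[A] A)
    (Bh : Type u) [CommRing Bh] [Algebra B Bh] [Algebra A Bh] [IsScalarTower A B Bh]
    [IsAdicComplete ((RingHom.ker u).map (algebraMap B Bh)) Bh]
    (hq : ∀ n : ℕ, Function.Bijective (Ideal.quotientMap ((RingHom.ker u ^ n).map (algebraMap B Bh))
      (algebraMap B Bh) Ideal.le_comap_map)) :
    FlatCA.UnivInj A (IsScalarTower.toAlgHom A B Bh).toLinearMap := by
  haveI : IsNoetherianRing B := Algebra.FiniteType.isNoetherianRing A B
  haveI : Module.Flat A B := inferInstance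
  intro Q _ _
  refine (LinearMap.lTensor_inj_iff_rTensor_inj _ _).2 (Lib.Pure.UI.of_fp _ (fun Q _ _ hQ => ?_) Q)
  haveI := hQ
  rw [injective_iff_map_eq_zero]
  intro x hx
  by_contra hx0
  let J := RingHom.ker u
  have hmem : x ∈ ⨅ n : ℕ, J ^ n • (⊤ : Submodule B (TensorProduct A B Q)) := by
    rw [Submodule.mem_iInf]
    intro n
    let e : (B ⧸ J ^ n) ≃ₐ[A] Bh ⧸ (J ^ n).map (algebraMap B Bh) :=
      AlgEquiv.ofBijective (Ideal.quotientMapₐ _ (IsScalarTower.toAlgHom A B Bh) Ideal.le_comap_map) (hq n)
    let μ : B →ₗ[A] B ⧸ J ^ n := (Ideal.Quotient.mkₐ A (J ^ n)).toLinearMap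
    have hμ : μ = (e.symm.toLinearMap ∘ₗ (Ideal.Quotient.mkₐ A ((J ^ n).map (algebraMap B Bh))).toLinearMap) ∘ₗ
        (IsScalarTower.toAlgHom A B Bh).toLinearMap := LinearMap.ext fun b => by
      show Ideal.Quotient.mk (J ^ n) b = e.symm (Ideal.Quotient.mk _ (algebraMap B Bh b))
      rw [eq_comm, AlgEquiv.symm_apply_eq]
      rfl
    have h1 : μ.rTensor Q x = 0 := by rw [hμ, LinearMap.rTensor_comp_apply, hx, map_zero]
    obtain ⟨w, rfl⟩ := (rTensor_exact Q
      (f := ((J ^ n : Ideal B).restrictScalars A).subtype) (g := μ)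
      (fun b => ⟨fun hb => ⟨⟨b, Ideal.Quotient.eq_zero_iff_mem.1 hb⟩, rfl⟩,
        fun ⟨c, hc⟩ => hc ▸ Ideal.Quotient.eq_zero_iff_mem.2 c.2⟩)
      Ideal.Quotient.mk_surjective x).1 h1
    clear hx hx0 h1
    induction w using TensorProduct.induction_on with
    | zero => rw [map_zero]; exact zero_mem _
    | add a b ha hb => rw [map_add]; exact add_mem ha hb
    | tmul a q =>
      show (a : B) ⊗ₜ[A] q ∈ _
      rw [← mul_one (a : B), ← smul_eq_mul (a : B) 1, ← TensorProduct.smul_tmul']
      exact Submodule.smul_mem_smul a.2 trivial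
  haveI : Module.Finite B (TensorProduct A B Q) := Module.Finite.base_change A B Q
  obtain ⟨⟨r, hr⟩, hrx⟩ := (J.mem_iInf_smul_pow_eq_bot_iff x).1 hmem
  obtain ⟨q, hq', hle⟩ := exists_le_isAssociatedPrime_of_isNoetherianRing B x hx0
  have hmem' : q ∈ associatedPrimes B (TensorProduct A B Q) := hq'
  rw [S2069.result] at hmem'
  simp only [Set.mem_iUnion] at hmem'
  obtain ⟨p, hp, hqp⟩ := hmem'
  haveI : p.IsPrime := hp.1
  obtain ⟨hqprime, hlies, hass⟩ := S1200.mem_fibre B p hqp
  haveI := hqprime
  haveI := hlies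
  let q₀ : Ideal B := p.comap u.toRingHom
  haveI : q₀.IsPrime := Ideal.IsPrime.comap _
  haveI : q₀.LiesOver p := ⟨by
    show p = (p.comap u.toRingHom).comap (algebraMap A B)
    rw [Ideal.comap_comap, show u.toRingHom.comp (algebraMap A B) = algebraMap A A from u.comp_algebraMap,
      Algebra.algebraMap_self, Ideal.comap_id]⟩
  haveI hdom : IsDomain (p.Fiber B) :=
    (affine_isIntegral_iff (CommRingCat.of (p.Fiber B))).1 (hfib.geometrically_isIntegral _ _ _
      (isPullback_SpecMap_of_isPushout _ _ _ _ (CommRingCat.isPushout_tensorProduct A p.ResidueField B)).flip)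
  obtain ⟨hFp, hFq⟩ := Lib.FlatCA.WeakAss.fiberIdeal_prime p q
  obtain ⟨hq₀p, hq₀⟩ := Lib.FlatCA.WeakAss.fiberIdeal_prime p q₀
  have hbot : FlatCA.fiberIdeal p q = ⊥ := by
    obtain ⟨hpr, z, hz⟩ := hass
    let e : FlatCA.fiberMod p B B ≃ₗ[p.Fiber B] p.Fiber B :=
      TensorProduct.AlgebraTensorModule.rid B (p.Fiber B) (p.Fiber B)
    have hz0 : z ≠ 0 := by
      rintro rfl
      refine hpr.ne_top (hz.trans ?_)
      rw [Ideal.radical_eq_top, Ideal.eq_top_iff_one, Submodule.mem_colon_singleton, smul_zero]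
      exact zero_mem _
    have hcolon : Submodule.colon (⊥ : Submodule (p.Fiber B) (FlatCA.fiberMod p B B)) {z} = ⊥ := by
      refine (Submodule.eq_bot_iff _).2 fun c hc => ?_
      rw [Submodule.mem_colon_singleton, Submodule.mem_bot] at hc
      have h2 : c * e z = 0 := by rw [← smul_eq_mul, ← map_smul, hc, map_zero]
      exact (mul_eq_zero.1 h2).resolve_right fun h => hz0 (e.map_eq_zero_iff.1 h)
    rw [hz, hcolon]
    exact (Ideal.isPrime_bot : (⊥ : Ideal (p.Fiber B)).IsPrime).radical
  have hsub : q ≤ q₀ := by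
    rw [← hFq, ← hq₀, hbot]
    exact Ideal.comap_mono bot_le
  refine (inferInstance : q₀.IsPrime).ne_top ((Ideal.eq_top_iff_one _).2 ?_)
  rw [show (1 : B) = r + (1 - r) by ring]
  refine add_mem ?_ (hsub (hle ?_))
  · show u r ∈ p
    rw [RingHom.mem_ker.1 hr]
    exact zero_mem _
  · rw [Submodule.mem_colon_singleton, Submodule.mem_bot, sub_smul, one_smul]
    exact sub_eq_zero.2 hrx.symm

end Groth.Agent.S17619
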