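import Groth.Statements.S1762
import Groth.Agent.Lib.DMod.LocalCase

set_option autoImplicit false
universe u
open CategoryTheory
attribute [local instance] HasDerivedCategory.standard
open Dual

namespace Groth.Agent.S1762

open Groth.Agent.Lib.DMod

theorem mem_support_HD_iff {A : Type u} [CommRing A] [IsNoetherianRing A] {ω : Dual.D A}
    (hω : Dual.IsDualizing A ω) (p : PrimeSpectrum A)
    (hp : p.asIdeal ∈ minimalPrimes A) (i : ℤ) :
    p ∈ Module.support A (Dual.HD A ω i) ↔ i = Degree.deg hω p := by
  have hmin : ∀ q : PrimeSpectrum A, q ≤ p → q = p := fun q hq =>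
    PrimeSpectrum.ext (le_antisymm hq (hp.2 ⟨q.isPrime, bot_le⟩ hq))
  rw [← (Basic.homUnitShiftEquiv ω i).support_eq]
  constructor
  · intro h
    by_contra hne
    refine HomSupp.notMem_support_hom_of_primes p _ A (fun q hq _ => ?_) h
    obtain rfl := hmin q hq
    exact Degree.notMem_support_of_ne_deg hω q hne
  · rintro rfl
    refine Degree.mem_support_hom_of_isolated hω p A ?_ fun q hq _ => hmin q hq
    rw [Module.support_eq_zeroLocus]
    simp [Module.annihilator_eq_bot.mpr inferInstance]

/-- Let A be a Noetherian ring with a dualizing complex ω and p a minimal prime of A. Then there is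
exactly one integer i for which H^i(ω) localized at p is nonzero. -/
theorem result (A : Type u) [CommRing A] [IsNoetherianRing A] (ω : Dual.D A) (hω : Dual.IsDualizing A ω) (p : Ideal A) (hp : p ∈ minimalPrimes A) : ∃! i : ℤ, Nontrivial (LocalizedModule (Ideal.primeCompl p (hp := hp.1.1)) (Dual.HD A ω i)) := by
  refine ⟨Degree.deg hω ⟨p, hp.1.1⟩, ?_, fun i hi => ?_⟩
  · exact Module.mem_support_iff.1 ((mem_support_HD_iff hω ⟨p, hp.1.1⟩ hp _).2 rfl)
  · exact (mem_support_HD_iff hω ⟨p, hp.1.1⟩ hp i).1 (Module.mem_support_iff.2 hi)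

end Groth.Agent.S1762
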