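import Groth.Statements.S17623
import Groth.Agent.Lib.GenFinite96.Basic
import Groth.Agent.Lib.GenFinite96.Rank
-- import your own Groth.Agent.* helpers here

set_option autoImplicit false
set_option linter.style.haveILetI false
universe u
open CategoryTheory CategoryTheory.Limits AlgebraicGeometry
open Variety

namespace Groth.Agent.S17623

/-- Let X and Y be integral schemes, proper over an algebraically closed field k of characteristic zero
and each admitting an ample invertible module (stated in the source over the complex numbers), with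
X of dimension n, and let f : Y → X be a k-morphism which is dominant and generically finite of
degree d ≥ 1: f maps the generic point of Y to the generic point of X and the residue-field
extension there has finite degree d (so f is proper and surjective and Y has dimension n). Then for
every invertible O_X-module L and every i ≥ 0, ĥ^i(Y, f^*L) = d · ĥ^i(X, L), where ĥ^i(−, L) =
limsup_m dim_k H^i(−, L^{⊗m}) · n!/m^n. -/
theorem result (k : Type u) [Field k] [IsAlgClosed k] [CharZero k]
    (X Y : Scheme.{u}) [X.Over (Spec (CommRingCat.of k))] [Y.Over (Spec (CommRingCat.of k))]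
    [AlgebraicGeometry.IsIntegral X] [AlgebraicGeometry.IsIntegral Y]
    [IsProper (X ↘ Spec (CommRingCat.of k))] [IsProper (Y ↘ Spec (CommRingCat.of k))]
    (hXproj : ∃ A : X.Modules, CohB1.IsAmple A) (hYproj : ∃ B : Y.Modules, CohB1.IsAmple B)
    (n : ℕ) (hn : topologicalKrullDim X = n)
    (f : Y ⟶ X) (hf : f ≫ (X ↘ Spec (CommRingCat.of k)) = Y ↘ Spec (CommRingCat.of k))
    (hdom : f.base (genericPoint Y) = genericPoint X) (d : ℕ) (hd : f.residueDegree (genericPoint Y) = d)
    (hd0 : 1 ≤ d) (L : X.Modules) (hL : PicF.IsInvertible L) (i : ℕ) :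
    W4c5asymptcohfn.hhat k Y n i ((Scheme.Modules.pullback f).obj L) =
      (d : ℝ) * W4c5asymptcohfn.hhat k X n i L := by
  obtain ⟨A, hA⟩ := hXproj
  obtain ⟨B, hB⟩ := hYproj
  haveI : IsProper (f ≫ (X ↘ Spec (CommRingCat.of k))) := hf ▸ inferInstance
  haveI : IsProper f := IsProper.of_comp f (X ↘ Spec (CommRingCat.of k))
  obtain ⟨G, hG, hr, K, hK0, hK⟩ := Lib.GenFinite96.exists_near (k := k) f hf hA hB hL hn hdom hd (by omega) i
  have hdY := Lib.GenFinite96.dim_eq f hf hdom (by omega) hn
  obtain ⟨K₁, hK₁⟩ := Lib.PosLin.Asymp.exists_bound_dim (k := k) hn hA hL hG i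
  obtain ⟨K₂, hK₂⟩ := Lib.PosLin.Asymp.exists_bound_dim (k := k) hdY hB (PicLoc.isInvertible_pullback f hL)
    (Lib.Snapper.Twist.isCoh_structureModule Y) i
  rw [← Lib.PosLin.AsympRank.hhatF_eq_rank_mul (k := k) hn hA hL hG hr i, Lib.PosLin.Asymp.hhatF_eq,
    Lib.PosLin.Asymp.hhat_eq]
  exact Lib.PosLin.Asymp.limsup_eq_of_le hK0
    (fun m => (Lib.PosLin.CohBound.hd_congr (k := k) (Lib.TensorMod.Basic.leftUnit _).symm i).le.trans (hK₂ m))
    hK₁ (Filter.Eventually.of_forall fun m => (hK m).1) (Filter.Eventually.of_forall fun m => (hK m).2)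


end Groth.Agent.S17623
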