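import Groth.Statements.S17624
import Groth.Agent.Lib.PosLin.Asymp

set_option autoImplicit false
universe u
open CategoryTheory CategoryTheory.Limits AlgebraicGeometry
open Variety

namespace Groth.Agent.S17624

/-- Let X and Y be integral schemes, proper over an algebraically closed field k of characteristic zero
and each admitting an ample invertible module (stated in the source over the complex numbers), of
dimensions n and e with e > n, and let f : Y → X be a dominant k-morphism (so proper and
surjective). Then for every invertible O_X-module L and every i ≥ 0, ĥ^i(Y, f^*L) = 0, where ĥ^i(Y,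
M) = limsup_m dim_k H^i(Y, M^{⊗m}) · e!/m^e is normalised by the dimension e of Y. -/
theorem result (k : Type u) [Field k] [IsAlgClosed k] [CharZero k]
    (X Y : Scheme.{u}) [X.Over (Spec (CommRingCat.of k))] [Y.Over (Spec (CommRingCat.of k))]
    [AlgebraicGeometry.IsIntegral X] [AlgebraicGeometry.IsIntegral Y]
    [IsProper (X ↘ Spec (CommRingCat.of k))] [IsProper (Y ↘ Spec (CommRingCat.of k))]
    (hXproj : ∃ A : X.Modules, CohB1.IsAmple A) (hYproj : ∃ B : Y.Modules, CohB1.IsAmple B)
    (n e : ℕ) (hn : topologicalKrullDim X = n) (he : topologicalKrullDim Y = e) (hne : n < e)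
    (f : Y ⟶ X) (hf : f ≫ (X ↘ Spec (CommRingCat.of k)) = Y ↘ Spec (CommRingCat.of k))
    (hdom : f.base (genericPoint Y) = genericPoint X) (L : X.Modules) (hL : PicF.IsInvertible L) (i : ℕ) :
    W4c5asymptcohfn.hhat k Y e i ((Scheme.Modules.pullback f).obj L) = 0 := by
  obtain ⟨A, hA⟩ := hXproj
  haveI : IsProper (f ≫ (X ↘ Spec (CommRingCat.of k))) := hf ▸ inferInstance
  haveI : IsProper f := IsProper.of_comp f (X ↘ Spec (CommRingCat.of k))
  haveI := Lib.Curves.GlobalSections.isNoetherian_of_proper k Y
  obtain ⟨K, -, hK⟩ := Lib.PosLin.CohBound.exists_bound (k := k) f hA hL (n + 1)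
    (Coh.structureModule Y) (Lib.Snapper.Twist.isCoh_structureModule Y)
    (fun y _ => Nat.lt_succ_of_le (Lib.PosLin.Asymp.pdim_le_dim (k := k) hn (f y))) i
  have hb : ∀ m, Lib.PosLin.CohBound.hd k Y
      (CohB1.tensorPow ((Scheme.Modules.pullback f).obj L) m) i ≤ K * (m + 1) ^ (e - 1) := fun m => by
    rw [Lib.PosLin.CohBound.hd_congr (k := k) ((Lib.Ample.Pow.pullbackPow f L m).symm ≪≫
      (Lib.TensorMod.Basic.rightUnit _).symm) i]
    exact (hK m).trans (Nat.mul_le_mul_left _ (Nat.pow_le_pow_right m.succ_pos (by omega)))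
  rw [Lib.PosLin.Asymp.hhat_eq]
  have h0 := Lib.PosLin.Asymp.limsup_eq_of_le (n := e) (K := K) (B := K) (B' := 0) (v := fun _ => 0)
    (fun h => absurd h (by omega))
    (fun m => (hb m).trans (Nat.mul_le_mul_left _ (Nat.pow_le_pow_right m.succ_pos (by omega))))
    (fun m => by simp)
    (Filter.Eventually.of_forall fun m => by simpa using hb m)
    (Filter.Eventually.of_forall fun m => Nat.zero_le _)
  rw [h0, show Lib.PosLin.Asymp.nrm e (fun _ => 0) = fun _ => (0 : ℝ) from
    funext fun m => by simp [Lib.PosLin.Asymp.nrm]]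
  exact Filter.limsup_const 0

end Groth.Agent.S17624
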