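import Groth.Statements.S17626
import Groth.Agent.Lib.PosLin.TopVanish

set_option autoImplicit false
universe u
open CategoryTheory CategoryTheory.Limits AlgebraicGeometry
open Variety

namespace Groth.Agent.S17626

/-- Let X be an integral scheme, proper over an algebraically closed field k of characteristic zero and
admitting an ample invertible module, of dimension n ≥ 1 (stated in the source over the complex
numbers), and L an invertible O_X-module which is big, in the sense that its volume ĥ^0(X, L) =
limsup_m dim_k H^0(X, L^{⊗m}) · n!/m^n is positive. Then ĥ^n(X, L) = 0. (The published statement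
allows n = 0, where it fails: X is then a point, every L is big and ĥ^0(X, L) = 1; the printed
argument uses that L and its inverse cannot both be big, which needs n ≥ 1.) -/
theorem result (k : Type u) [Field k] [IsAlgClosed k] [CharZero k] (X : Scheme.{u})
    [X.Over (Spec (CommRingCat.of k))] [AlgebraicGeometry.IsIntegral X]
    [IsProper (X ↘ Spec (CommRingCat.of k))] (hproj : ∃ A : X.Modules, CohB1.IsAmple A)
    (n : ℕ) (hn : topologicalKrullDim X = n) (hn1 : 1 ≤ n)
    (L : X.Modules) (hL : PicF.IsInvertible L) (hbig : 0 < W4c5asymptcohfn.hhat k X n 0 L) :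
    W4c5asymptcohfn.hhat k X n n L = 0 := by
  obtain ⟨A, hA⟩ := hproj
  obtain ⟨m₀, hm₀⟩ := Lib.PosLin.TopVanish.eventually_hd_top_eq_zero (k := k) hn hn1 hA hL
    (Lib.PosLin.TopVanish.unbdd_of_hhat_pos (k := k) hbig)
  rw [Lib.PosLin.Asymp.hhat_eq]
  refine (Filter.limsup_congr (v := fun _ => (0 : ℝ)) ?_).trans (Filter.limsup_const 0)
  filter_upwards [Filter.eventually_ge_atTop m₀] with m hm
  simp [Lib.PosLin.Asymp.nrm, hm₀ m hm]

end Groth.Agent.S17626
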