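import Groth.Statements.S17630
import Groth.Agent.Lib.PosLin.CohBound

namespace Groth.Agent.S17630.Aux

universe u

open CategoryTheory CategoryTheory.Limits AlgebraicGeometry
open Groth.Agent.Lib Groth.Agent.Lib.PosLin.CohBound
open Groth.Agent.Lib.Curves.LES (mapK_injective_of_mono)

variable {k : Type u} [Field k] {X : Scheme.{u}} [X.Over (Spec (CommRingCat.of k))]
  [IsProper (X ↘ Spec (CommRingCat.of k))] (C : ℕ → X.Modules) (hC : ∀ j, Coh.IsCoh (C j))
  (d : ∀ j, C j ⟶ C (j + 1)) (hdd : ∀ j, d j ≫ d (j + 1) = 0)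
  (hex : ∀ j, (ShortComplex.mk (d j) (d (j + 1)) (hdd j)).Exact)

include k hC hdd hex

theorem exists_seq (j : ℕ) : ∃ S : ShortComplex X.Modules, S.ShortExact ∧ Coh.IsCoh S.X₁ ∧
    Coh.IsCoh S.X₂ ∧ Coh.IsCoh S.X₃ ∧ S.X₁ = kernel (d j) ∧ S.X₂ = C j ∧ S.X₃ = kernel (d (j + 1)) := by
  haveI := Curves.GlobalSections.isNoetherian_of_proper k X
  have hK : ∀ i, Coh.IsCoh (kernel (d i)) := fun i =>
    CohBasics.Closure.isCoh_kernel (d i) (hC i) (hC (i + 1)).1
  let g : C j ⟶ kernel (d (j + 1)) := kernel.lift (d (j + 1)) (d j) (hdd j)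
  have hg : g ≫ kernel.ι (d (j + 1)) = d j := kernel.lift_ι _ _ _
  haveI : Epi g := (hex j).epi_kernelLift
  have w : kernel.ι (d j) ≫ g = 0 := by
    rw [← cancel_mono (kernel.ι (d (j + 1))), Category.assoc, hg, kernel.condition, zero_comp]
  refine ⟨ShortComplex.mk (kernel.ι (d j)) g w, ShortComplex.ShortExact.mk' ?_ inferInstance
    inferInstance, hK j, hC j, hK (j + 1), rfl, rfl, rfl⟩
  refine ShortComplex.exact_of_f_is_kernel _ (KernelFork.IsLimit.ofι' _ _ fun {A} a ha => ?_)
  have h0 : a ≫ d j = 0 :=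
    ((congrArg (a ≫ ·) hg.symm).trans (Category.assoc a g _).symm).trans (by rw [ha, zero_comp])
  exact ⟨kernel.lift (d j) a h0, kernel.lift_ι _ _ _⟩

theorem ker_le : ∀ (p j : ℕ), hd k X (kernel (d j)) p ≤
    ∑ t ∈ Finset.range (p + 1), hd k X (C (j + t)) (p - t) := by
  intro p
  induction p with
  | zero =>
    intro j
    obtain ⟨S, hS, h1, h2, h3, e1, e2, e3⟩ := exists_seq (k := k) C hC d hdd hex j
    haveI := hS.mono_f
    haveI := Snapper.Finite.cohFinite k X _ h2 0
    have h := LinearMap.finrank_le_finrank_of_injective (mapK_injective_of_mono k S.f)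
    rw [e1, e2] at h
    simpa using h
  | succ p ih =>
    intro j
    obtain ⟨S, hS, h1, h2, h3, e1, e2, e3⟩ := exists_seq (k := k) C hC d hdd hex j
    have h := hd_left_le (k := k) hS h1 h2 h3 (p + 1)
    rw [e1, e2, e3, Nat.add_sub_cancel] at h
    refine h.trans ?_
    rw [Finset.sum_range_succ', Nat.sub_zero, Nat.add_zero, Nat.add_comm]
    refine Nat.add_le_add_right ((ih (j + 1)).trans (le_of_eq (Finset.sum_congr rfl fun t _ => ?_))) _
    rw [Nat.add_sub_add_right, show j + 1 + t = j + (t + 1) by omega]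

end Groth.Agent.S17630.Aux

set_option autoImplicit false
universe u
open CategoryTheory CategoryTheory.Limits AlgebraicGeometry
open Coherent

namespace Groth.Agent.S17630

/-- Let X be a scheme proper over a field k and 0 → C_0 → C_1 → C_2 → ⋯ an exact sequence of coherent
O_X-modules: the composite of consecutive maps is zero, the sequence is exact at every C_j with j ≥
1, and C_0 → C_1 is a monomorphism (the source numbers the sequence from C_{−1}; its argument and
its application use that the first map is injective). Then for every i ≥ 0, |dim_k H^i(X, C_0) −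
dim_k H^i(X, C_1)| ≤ Σ_{j=1}^{i+1} dim_k H^{i+1−j}(X, C_{j+1}) + Σ_{j=1}^{i} dim_k H^{i−j}(X,
C_{j+1}). (The published bound is 2 · Σ_{j=1}^{i+1} dim_k H^{i+1−j}(X, C_{j+1}); the argument given
yields the two sums here, and the published form fails for the sequence 0 → O(−3) → O(−1) → O_Z → 0
on the projective line, Z a subscheme of length 2, with i = 1: the left side is 2 and the published
right side is 0.) -/
theorem result (k : Type u) [Field k] (X : Scheme.{u})
    [X.Over (Spec (CommRingCat.of k))] [IsProper (X ↘ Spec (CommRingCat.of k))]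
    (C : ℕ → X.Modules) (hC : ∀ j, Coh.IsCoh (C j)) (d : ∀ j, C j ⟶ C (j + 1))
    (hd : ∀ j, d j ≫ d (j + 1) = 0) [Mono (d 0)]
    (hex : ∀ j, (ShortComplex.mk (d j) (d (j + 1)) (hd j)).Exact) (i : ℕ) :
    |(Module.finrank k (Coh.HH X (C 0) i) : ℤ) - (Module.finrank k (Coh.HH X (C 1) i) : ℤ)| ≤
      (Finset.Icc 1 (i + 1)).sum (fun j => ((Module.finrank k (Coh.HH X (C (j + 1)) (i + 1 - j))) : ℤ)) +
        (Finset.Icc 1 i).sum (fun j => ((Module.finrank k (Coh.HH X (C (j + 1)) (i - j))) : ℤ)) := by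
  haveI := Lib.Curves.GlobalSections.isNoetherian_of_proper k X
  obtain ⟨S₀, hS₀, a1, a2, a3, e1, e2, e3⟩ := Aux.exists_seq (k := k) C hC d hd hex 1
  -- `C 0` is the kernel of `d 1`
  let g : C 0 ⟶ kernel (d 1) := kernel.lift (d 1) (d 0) (hd 0)
  haveI : Epi g := (hex 0).epi_kernelLift
  haveI : Mono g := mono_of_mono_fac (kernel.lift_ι (d 1) (d 0) (hd 0))
  haveI := isIso_of_mono_of_epi g
  have e0 := (Lib.Curves.LES.isoK k (asIso g) i).finrank_eq
  have hmid := Lib.PosLin.CohBound.hd_mid_le (k := k) hS₀ a1 a2 a3 i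
  rw [e1, e2, e3] at hmid
  have hU := Aux.ker_le (k := k) C hC d hd hex
  have s1 : (Finset.Icc 1 (i + 1)).sum (fun j => ((Module.finrank k (Coh.HH X (C (j + 1)) (i + 1 - j))) : ℤ))
      = ((∑ t ∈ Finset.range (i + 1), Module.finrank k (Coh.HH X (C (2 + t)) (i - t)) : ℕ) : ℤ) := by
    push_cast
    rw [← Finset.Ico_add_one_right_eq_Icc, Finset.sum_Ico_eq_sum_range]
    refine Finset.sum_congr (by congr 1) fun t _ => ?_
    rw [show 1 + t + 1 = 2 + t by omega, show i + 1 - (1 + t) = i - t by omega]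
  have s2 : (Finset.Icc 1 i).sum (fun j => ((Module.finrank k (Coh.HH X (C (j + 1)) (i - j))) : ℤ))
      = ((∑ t ∈ Finset.range i, Module.finrank k (Coh.HH X (C (2 + t)) (i - 1 - t)) : ℕ) : ℤ) := by
    push_cast
    rw [← Finset.Ico_add_one_right_eq_Icc, Finset.sum_Ico_eq_sum_range]
    refine Finset.sum_congr (by congr 1) fun t _ => ?_
    rw [show 1 + t + 1 = 2 + t by omega, show i - (1 + t) = i - 1 - t by omega]
  have hleft : Module.finrank k (Coh.HH X (kernel (d 1)) i) ≤ Module.finrank k (Coh.HH X (C 1) i) +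
      ∑ t ∈ Finset.range i, Module.finrank k (Coh.HH X (C (2 + t)) (i - 1 - t)) := by
    cases i with
    | zero =>
      haveI := hS₀.mono_f
      haveI := Lib.Snapper.Finite.cohFinite k X _ a2 0
      have h := LinearMap.finrank_le_finrank_of_injective
        (Lib.Curves.LES.mapK_injective_of_mono k S₀.f)
      rw [e1, e2] at h
      simpa using h
    | succ i =>
      have h := Lib.PosLin.CohBound.hd_left_le (k := k) hS₀ a1 a2 a3 (i + 1)
      rw [e1, e2, e3] at h
      exact h.trans (Nat.add_le_add_left (hU i 2) _)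
  have hUi := hU i 2
  simp only [Lib.PosLin.CohBound.hd, Nat.reduceAdd] at hmid hUi
  rw [s1, s2, abs_sub_le_iff]
  constructor <;> omega

end Groth.Agent.S17630
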