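import Groth.Statements.S17631
import Groth.Agent.H84.TwistBound.Main
import Groth.Agent.H84.TwistBound.BC
import Groth.Agent.Lib.ProjMor.Conv
import Groth.Agent.Lib.ProjSpace.BaseChange
import Groth.Agent.Lib.Ample.RelAmple
import Groth.Agent.Lib.TensorMod.Pullback

set_option autoImplicit false
universe u
open CategoryTheory CategoryTheory.Limits AlgebraicGeometry
open Coherent

namespace Groth.Agent.S17631

open Groth.Agent.Lib Groth.Agent.H84.TwistBound

/-- The bound on a neighbourhood of the generic point of an irreducible closed subset of the base. -/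
theorem exists_bound_piece {T X : Scheme.{u}} [IsNoetherian T] (f : X ⟶ T) [IsProper f]
    {A : X.Modules} (hA : _root_.RelAmple.IsRelAmple f A) {F L : X.Modules} (hF : Coh.IsCoh F)
    (hL : PicF.IsInvertible L) (η : T) :
    ∃ W : T.Opens, η ∈ W ∧ ∃ K : ℕ, ∀ t ∈ W, η ⤳ t → ∀ e : ℕ,
      topologicalKrullDim ↥(f.fiber t) = e → ∀ m : ℕ, 1 ≤ m → ∀ i : ℕ,
        CohIII.fiberRank f (CohB1.tensorMod F (CohB1.tensorPow L m)) i t ≤ K * m ^ e := by
  obtain ⟨V, hV, hηV, -⟩ :=
    exists_isAffineOpen_mem_and_subset (X := T) (x := η) (U := ⊤) trivial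
  let p : Ideal Γ(T, V) := (hV.primeIdealOf ⟨η, hηV⟩).asIdeal
  haveI : p.IsPrime := (hV.primeIdealOf ⟨η, hηV⟩).isPrime
  haveI : IsNoetherianRing Γ(T, V) := IsLocallyNoetherian.component_noetherian ⟨V, hV⟩
  let q : CommRingCat.of Γ(T, V) ⟶ CommRingCat.of (Γ(T, V) ⧸ p) :=
    CommRingCat.ofHom (Ideal.Quotient.mk p)
  let B : Scheme.{u} := Spec (CommRingCat.of (Γ(T, V) ⧸ p))
  haveI : IsNoetherian B := inferInstanceAs (IsNoetherian (Spec (CommRingCat.of (Γ(T, V) ⧸ p))))
  haveI : IsClosedImmersion (Spec.map q) :=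
    IsClosedImmersion.spec_of_surjective q Ideal.Quotient.mk_surjective
  haveI : IsOpenImmersion hV.fromSpec := hV.isOpenImmersion_fromSpec
  let g : B ⟶ T := Spec.map q ≫ hV.fromSpec
  haveI : IsImmersion g := inferInstanceAs (IsImmersion (Spec.map q ≫ hV.fromSpec))
  let f' := pullback.snd f g
  let a := pullback.fst f g
  haveI : IsLocallyNoetherian (pullback f g) := LocallyOfFiniteType.isLocallyNoetherian f'
  haveI : CompactSpace ↥(pullback f g) := QuasiCompact.compactSpace_of_compactSpace f'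
  haveI : IsNoetherian (pullback f g) := {}
  haveI : IsLocallyNoetherian X := LocallyOfFiniteType.isLocallyNoetherian f
  -- an ample module on the base change
  haveI : IsImmersion a := inferInstanceAs (IsImmersion (pullback.fst f g))
  have hgV : ∀ z : B, g z ∈ V := fun z => by
    have h : g z ∈ Set.range hV.fromSpec := ⟨Spec.map q z, rfl⟩
    rwa [hV.range_fromSpec] at h
  have haV : Set.range a ⊆ Set.range (f ⁻¹ᵁ V).ι := by
    rw [Scheme.Opens.range_ι]
    rintro _ ⟨x, rfl⟩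
    have hw : f (a x) = g (f' x) :=
      congrArg (fun h : pullback f g ⟶ T => h x) pullback.condition
    show f (a x) ∈ V
    rw [hw]
    exact hgV _
  let k : pullback f g ⟶ (f ⁻¹ᵁ V : Scheme.{u}) := IsOpenImmersion.lift (f ⁻¹ᵁ V).ι a haV
  have hk : k ≫ (f ⁻¹ᵁ V).ι = a := IsOpenImmersion.lift_fac _ _ _
  haveI : IsImmersion k := by
    haveI : IsImmersion (k ≫ (f ⁻¹ᵁ V).ι) := hk ▸ ‹IsImmersion a›
    exact IsImmersion.of_comp k (f ⁻¹ᵁ V).ι
  haveI : CompactSpace ↥(f ⁻¹ᵁ V : Scheme.{u}) :=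
    haveI : IsAffine (V : Scheme.{u}) := hV
    QuasiCompact.compactSpace_of_compactSpace (f ∣_ V)
  have hA₁ : CohB1.IsAmple ((Scheme.Modules.pullback (f ⁻¹ᵁ V).ι).obj A) :=
    ((Ample.RelAmple.isRelAmple_iff f).1 hA).2 V hV
  haveI := Ample.Pullback.quasiSeparatedSpace_of_isAmple hA₁
  haveI : QuasiCompact k := inferInstance
  have hA' : CohB1.IsAmple ((Scheme.Modules.pullback k).obj
      ((Scheme.Modules.pullback (f ⁻¹ᵁ V).ι).obj A)) :=
    Ample.Pullback.isAmple_pullback k (Ample.RelAmple.isQuasiAffine_of_isImmersion k) hA₁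
  obtain ⟨U, hU, K, hK⟩ := Main.exists_bound_dim f' hA' (PicLoc.isInvertible_pullback a hL)
    (Cyc.FP.Stalk.isCoh_pullback a hF)
  obtain ⟨W, hW, hWU⟩ := g.isEmbedding.isOpen_iff.1 U.2
  -- points of the piece
  have hmem : ∀ t ∈ V, η ⤳ t → ∃ z : B, g z = t := by
    intro t htV hηt
    have hle := (AssPt.Basic.specializes_iff_primeIdealOf hV htV hηV).1 hηt
    have hz : hV.primeIdealOf ⟨t, htV⟩ ∈ Set.range (PrimeSpectrum.comap (Ideal.Quotient.mk p)) := by
      rw [range_comap_of_surjective _ _ Ideal.Quotient.mk_surjective, Ideal.mk_ker]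
      exact hle
    obtain ⟨z, hz⟩ := hz
    refine ⟨z, ?_⟩
    show hV.fromSpec (Spec.map q z) = t
    exact (congrArg hV.fromSpec hz).trans (hV.fromSpec_primeIdealOf ⟨t, htV⟩)
  obtain ⟨z₀, hz₀⟩ := hmem η hηV specializes_rfl
  have hηgen : η ⤳ g (genericPoint B) := by
    have hle : hV.primeIdealOf ⟨η, hηV⟩ ⤳ (Spec.map q (genericPoint B)) := by
      refine (PrimeSpectrum.le_iff_specializes _ _).1 ?_
      show p ≤ Ideal.comap (Ideal.Quotient.mk p) _
      exact Ideal.le_comap_of_map_le (by rw [Ideal.map_quotient_self]; exact bot_le)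
    have h := hle.map hV.fromSpec.continuous
    rwa [hV.fromSpec_primeIdealOf] at h
  have hη : η = g (genericPoint B) := by
    refine (hηgen.antisymm ?_).eq
    rw [← hz₀]
    exact (genericPoint_specializes z₀).map g.continuous
  refine ⟨V ⊓ ⟨W, hW⟩, ⟨hηV, ?_⟩, K, fun t ht hηt e he m hm i => ?_⟩
  · show η ∈ W
    rw [hη]
    exact (Set.ext_iff.1 hWU (genericPoint B)).2 hU
  obtain ⟨z, rfl⟩ := hmem t ht.1 hηt
  haveI := (Ample.GG.isCoh_of_isInvertible (TensorMod.Invertible.isInvertible_tensorPow hL m)).1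
  haveI := hF.1
  haveI : (CohB1.tensorMod F (CohB1.tensorPow L m)).IsQuasicoherent :=
    TensorMod.TensorQCoh.isQCoh_tensorMod _ _
  have h := hK z ((Set.ext_iff.1 hWU z).1 ht.2) e
    ((BC.topologicalKrullDim_fiber f g z).trans he) m hm i
  rw [← BC.fiberRank_eq f g _ z i]
  rw [Main.fiberRank_congr f' (TensorMod.Pullback.pullbackTensorIso a F (CohB1.tensorPow L m) ≪≫
    TensorMod.Basic.tensorIso (Iso.refl _) (Ample.Pow.pullbackPow a L m))]
  exact h

/-- Let T be a Noetherian scheme and f : 𝒳 → T a projective morphism, given here as a closed immersion 𝒳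
→ P^r_T followed by the projection, let F be a coherent O_𝒳-module and L an invertible O_𝒳-module.
Then there is a constant C, depending only on f, F and L, such that for every point t of T, with 𝒳_t
the fibre and e its dimension, every m ≥ 1 and every i ≥ 0, dim_{k(t)} H^i(𝒳_t, (F ⊗ L^{⊗m})|_{𝒳_t})
≤ C · m^e. -/
theorem result (T XX : Scheme.{u}) [IsNoetherian T]
    (f : XX ⟶ T) (r : ℕ) (ι : XX ⟶ CohB1.ProjSpaceOver r T) [IsClosedImmersion ι]
    (hι : ι ≫ CohB1.ProjSpaceOver.toBase r T = f)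
    (F : XX.Modules) (hF : Coh.IsCoh F) (L : XX.Modules) (hL : PicF.IsInvertible L) :
    ∃ C : ℝ, ∀ (t : T) (e : ℕ), topologicalKrullDim ↥(f.fiber t) = e →
      ∀ (m : ℕ), 1 ≤ m → ∀ i : ℕ,
        (CohIII.fiberRank f (CohB1.tensorMod F (CohB1.tensorPow L m)) i t : ℝ) ≤ C * (m : ℝ) ^ e := by
  haveI : IsProper (CohB1.ProjSpaceOver.toBase r T) := ProjSpace.BaseChange.isProper_toBase r T
  haveI : IsProper f := hι ▸ inferInstance
  have hA := ProjMor.Conv.isRelAmple_of_immersion f r ι hι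
  suffices key : ∀ Z : TopologicalSpace.Closeds T, ∃ K : ℕ, ∀ t ∈ Z, ∀ e : ℕ,
      topologicalKrullDim ↥(f.fiber t) = e → ∀ m : ℕ, 1 ≤ m → ∀ i : ℕ,
        CohIII.fiberRank f (CohB1.tensorMod F (CohB1.tensorPow L m)) i t ≤ K * m ^ e by
    obtain ⟨K, hK⟩ := key ⊤
    exact ⟨K, fun t e he m hm i => by exact_mod_cast hK t trivial e he m hm i⟩
  intro Z
  induction Z using WellFoundedLT.induction with
  | _ Z ih =>
    by_cases hZ : (Z : Set T) = ∅
    · exact ⟨0, fun t ht => absurd ht (by rw [← SetLike.mem_coe, hZ]; exact id)⟩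
    obtain ⟨x, hx⟩ := Set.nonempty_iff_ne_empty.2 hZ
    obtain ⟨η, hη, -, hmax⟩ := Ideal.Prime.exists_maximal_generization Z.isClosed hx
    obtain ⟨W, hηW, K, hK⟩ := exists_bound_piece f hA hF hL η
    -- the points of `Z` near `η` are in its closure
    have hfin := Devissage.Dim.finite_maximal Z.isClosed
    let R : Set T := ⋃ z ∈ {z : T | z ∈ Z ∧ (∀ w ∈ Z, w ⤳ z → w = z) ∧ z ≠ η}, closure {z}
    have hR : IsClosed R :=
      (hfin.subset fun z hz => ⟨hz.1, hz.2.1⟩).isClosed_biUnion fun z _ => isClosed_closure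
    let Z' : TopologicalSpace.Closeds T :=
      ⟨(Z : Set T) ∩ ((W : Set T)ᶜ ∪ R), Z.isClosed.inter (W.2.isClosed_compl.union hR)⟩
    have hlt : Z' < Z := by
      refine lt_of_le_of_ne (fun t ht => ht.1) fun heq => ?_
      have h : η ∈ Z' := heq ▸ hη
      rcases h.2 with h | h
      · exact h hηW
      · obtain ⟨z, ⟨hzZ, hzmax, hzne⟩, hzη⟩ := Set.mem_iUnion₂.1 h
        exact hzne (hmax z hzZ (specializes_iff_mem_closure.2 hzη))
    obtain ⟨K', hK'⟩ := ih Z' hlt
    refine ⟨K + K', fun t ht e he m hm i => ?_⟩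
    rw [add_mul]
    by_cases htZ' : t ∈ Z'
    · exact (hK' t htZ' e he m hm i).trans (Nat.le_add_left _ _)
    · have htW : t ∈ W := by
        by_contra h
        exact htZ' ⟨ht, Or.inl h⟩
      obtain ⟨z, hz, hzt, hzmax⟩ := Ideal.Prime.exists_maximal_generization Z.isClosed ht
      have hzη : z = η := by
        by_contra h
        exact htZ' ⟨ht, Or.inr (Set.mem_iUnion₂.2
          ⟨z, ⟨hz, hzmax, h⟩, specializes_iff_mem_closure.1 hzt⟩)⟩
      exact (hK t htW (hzη ▸ hzt) e he m hm i).trans (Nat.le_add_right _ _)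

end Groth.Agent.S17631
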