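import Groth.Statements.S17632
import Groth.Agent.S17633
-- import your own Groth.Agent.* helpers here

set_option autoImplicit false
set_option linter.style.haveILetI false
universe u
open CategoryTheory CategoryTheory.Limits AlgebraicGeometry
open Variety

namespace Groth.Agent.S17632

open Groth.Agent.Lib.TensorMod.Basic (tensorIso rightUnit leftUnit assoc comm)


/-- Let X be an integral scheme, proper over an uncountable algebraically closed field k of
characteristic zero and admitting an ample invertible module, of dimension n (stated in the source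
over the complex numbers), L an invertible O_X-module and A an ample invertible O_X-module with
inverse A', i.e. A ⊗ A' ≅ O_X. Then for every i ≥ 0, (ĥ^i(X, L^{⊗p} ⊗ A') − ĥ^i(X, L^{⊗p})) / p^n
tends to 0 as p → ∞, where ĥ^i(X, M) = limsup_m dim_k H^i(X, M^{⊗m}) · n!/m^n. -/
theorem result (k : Type u) [Field k] [IsAlgClosed k] [CharZero k] [Uncountable k] (X : Scheme.{u})
    [X.Over (Spec (CommRingCat.of k))] [AlgebraicGeometry.IsIntegral X]
    [IsProper (X ↘ Spec (CommRingCat.of k))] (hproj : ∃ A : X.Modules, CohB1.IsAmple A)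
    (n : ℕ) (hn : topologicalKrullDim X = n)
    (L : X.Modules) (hL : PicF.IsInvertible L) (A A' : X.Modules) (hA : CohB1.IsAmple A)
    (hA' : ClSub.IsInverseOf A A') (i : ℕ) :
    Filter.Tendsto (fun p : ℕ =>
        (W4c5asymptcohfn.hhat k X n i (CohB1.tensorMod (CohB1.tensorPow L p) A') -
          W4c5asymptcohfn.hhat k X n i (CohB1.tensorPow L p)) / (p : ℝ) ^ n)
      Filter.atTop (nhds 0) := by
  obtain ⟨eD⟩ : Nonempty (CohB1.tensorMod L (Lib.TensorMod.Dual.dual L) ≅ Coh.structureModule X) :=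
    ⟨Lib.TensorMod.Invertible.tensorDualIso hL⟩
  have hLs : ∀ j, PicF.IsInvertible ((![L, A] : Fin 2 → X.Modules) j) := fun j => by
    fin_cases j
    · exact hL
    · exact hA.1
  have hMs : ∀ j, ClSub.IsInverseOf ((![L, A] : Fin 2 → X.Modules) j)
      ((![Lib.TensorMod.Dual.dual L, A'] : Fin 2 → X.Modules) j) := fun j => by
    fin_cases j
    · exact ⟨eD⟩
    · exact hA'
  obtain ⟨C, hC⟩ := Groth.Agent.S17633.result k X hproj n hn 2 ![L, A] ![Lib.TensorMod.Dual.dual L, A']
    hLs hMs i
  -- the two twists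
  have hcongr : ∀ {P Q : X.Modules}, (P ≅ Q) →
      W4c5asymptcohfn.hhat k X n i P = W4c5asymptcohfn.hhat k X n i Q := fun e => by
    rw [Lib.PosLin.Asymp.hhat_eq, Lib.PosLin.Asymp.hhat_eq]
    congr 2
    funext m
    exact Lib.PosLin.CohBound.hd_congr (k := k) (Lib.Ample.Pow.powIso e m) i
  let eO : CohB1.tensorMod (CohB1.tensorPow (Lib.TensorMod.Dual.dual L) 0)
      (CohB1.tensorMod (CohB1.tensorPow A' 0) (Coh.structureModule X)) ≅ Coh.structureModule X :=
    leftUnit _ ≪≫ leftUnit _
  have h1 : ∀ p : ℕ, W4c5asymptcohfn.hhat k X n i (W4c5asymptcohfn.ztwist X (![L, A] : Fin 2 → X.Modules)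
      ![Lib.TensorMod.Dual.dual L, A'] ![(p : ℤ), -1]) =
      W4c5asymptcohfn.hhat k X n i (CohB1.tensorMod (CohB1.tensorPow L p) A') := fun p => by
    refine hcongr ?_
    unfold W4c5asymptcohfn.ztwist FGA.multiTwist
    simp only [List.finRange_succ, List.finRange_zero, List.map_cons, List.map_nil, FGA.tensorList,
      Matrix.cons_val_zero, Matrix.cons_val_one, Fin.succ_zero_eq_one]
    exact tensorIso
      (tensorIso (eqToIso (by simp)) (tensorIso (eqToIso (show CohB1.tensorPow A ((-1 : ℤ).toNat) =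
        Coh.structureModule X from rfl)) (Iso.refl _) ≪≫ leftUnit _) ≪≫ rightUnit _)
      (tensorIso (eqToIso (show CohB1.tensorPow (Lib.TensorMod.Dual.dual L) ((-(p : ℤ)).toNat) =
        Coh.structureModule X by simp; rfl)) (rightUnit _ ≪≫ leftUnit _) ≪≫ leftUnit _)
  have h2 : ∀ p : ℕ, W4c5asymptcohfn.hhat k X n i (W4c5asymptcohfn.ztwist X (![L, A] : Fin 2 → X.Modules)
      ![Lib.TensorMod.Dual.dual L, A'] ![(p : ℤ), 0]) =
      W4c5asymptcohfn.hhat k X n i (CohB1.tensorPow L p) := fun p => by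
    refine hcongr ?_
    unfold W4c5asymptcohfn.ztwist FGA.multiTwist
    simp only [List.finRange_succ, List.finRange_zero, List.map_cons, List.map_nil, FGA.tensorList,
      Matrix.cons_val_zero, Matrix.cons_val_one, Fin.succ_zero_eq_one]
    exact tensorIso
      (tensorIso (eqToIso (by simp)) (tensorIso (eqToIso (show CohB1.tensorPow A ((0 : ℤ).toNat) =
        Coh.structureModule X from rfl)) (Iso.refl _) ≪≫ leftUnit _) ≪≫ rightUnit _)
      (tensorIso (eqToIso (show CohB1.tensorPow (Lib.TensorMod.Dual.dual L) ((-(p : ℤ)).toNat) =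
        Coh.structureModule X by simp; rfl)) (rightUnit _ ≪≫ eqToIso rfl) ≪≫ leftUnit _) ≪≫ rightUnit _
  -- the estimate
  have key : ∀ p : ℕ, 1 ≤ p →
      |(W4c5asymptcohfn.hhat k X n i (CohB1.tensorMod (CohB1.tensorPow L p) A') -
          W4c5asymptcohfn.hhat k X n i (CohB1.tensorPow L p)) / (p : ℝ) ^ n| ≤
        |C| * n * (1 / (p : ℝ)) := by
    intro p hp
    have h := hC ![(p : ℤ), -1] ![(p : ℤ), 0]
    rw [h1, h2] at h
    have hp' : (1 : ℝ) ≤ p := by exact_mod_cast hp
    have hna : ‖(fun j => (((![(p : ℤ), -1] : Fin 2 → ℤ) j : ℤ) : ℝ))‖ ≤ p :=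
      (pi_norm_le_iff_of_nonneg (by linarith)).2 fun j => by fin_cases j <;> simp [hp']
    have hnb : ‖(fun j => (((![(p : ℤ), 0] : Fin 2 → ℤ) j : ℤ) : ℝ))‖ ≤ p :=
      (pi_norm_le_iff_of_nonneg (by linarith)).2 fun j => by fin_cases j <;> simp
    have hnd : ‖(fun j => (((![(p : ℤ), -1] : Fin 2 → ℤ) j - (![(p : ℤ), 0] : Fin 2 → ℤ) j : ℤ) : ℝ))‖ ≤ 1 :=
      (pi_norm_le_iff_of_nonneg zero_le_one).2 fun j => by fin_cases j <;> simp
    rw [abs_div, abs_of_pos (pow_pos (lt_of_lt_of_le one_pos hp') n), div_le_iff₀ (by positivity)]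
    refine h.trans ((mul_le_mul_of_nonneg_right (le_abs_self C) ?_).trans ?_)
    · exact Finset.sum_nonneg fun q _ => mul_nonneg (pow_nonneg (le_max_of_le_left (norm_nonneg _)) _)
        (pow_nonneg (norm_nonneg _) _)
    refine le_trans (mul_le_mul_of_nonneg_left (Finset.sum_le_sum (g := fun _ => (p : ℝ) ^ (n - 1))
      fun q hq => ?_) (abs_nonneg C)) (le_of_eq ?_)
    · refine le_trans (mul_le_of_le_one_right ?_ (pow_le_one₀ (norm_nonneg _) hnd)) ?_
      · exact pow_nonneg (le_max_of_le_left (norm_nonneg _)) _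
      · exact (pow_le_pow_left₀ (le_max_of_le_left (norm_nonneg _)) (max_le hna hnb) _).trans
          (pow_le_pow_right₀ hp' (by have := (Finset.mem_Icc.1 hq).1; omega))
    · rcases n with _ | d
      · simp
      · simp only [Finset.sum_const, Nat.card_Icc, Nat.add_sub_cancel, nsmul_eq_mul]
        rw [pow_succ]
        field_simp
  refine squeeze_zero_norm' ?_ (by simpa using (tendsto_one_div_atTop_nhds_zero_nat (𝕜 := ℝ)).const_mul (|C| * n))
  filter_upwards [Filter.eventually_ge_atTop 1] with p hp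
  rw [Real.norm_eq_abs]
  exact (key p hp).trans_eq (by rw [one_div])


end Groth.Agent.S17632
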