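import Groth.Statements.S17634
import Groth.Agent.Lib.MultiBound96.Basic
-- import your own Groth.Agent.* helpers here

set_option autoImplicit false
set_option linter.style.haveILetI false
universe u
open CategoryTheory CategoryTheory.Limits AlgebraicGeometry
open Variety

namespace Groth.Agent.S17634

open Groth.Agent.Lib.TensorMod.Basic (tensorIso rightUnit leftUnit assoc comm)

/-- Joining two families. -/
theorem exists_multiTwist_append {X : Scheme.{u}} {s t : ℕ} (L : Fin s → X.Modules) (M : Fin t → X.Modules)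
    (b : Fin s → ℕ) (c : Fin t → ℕ) :
    Nonempty (FGA.multiTwist (Fin.append L M) (Fin.append b c) ≅
      CohB1.tensorMod (FGA.multiTwist L b) (FGA.multiTwist M c)) := by
  have h : (fun i => CohB1.tensorPow (Fin.append L M i) (Fin.append b c i)) =
      Fin.append (fun i => CohB1.tensorPow (L i) (b i)) (fun i => CohB1.tensorPow (M i) (c i)) := by
    funext i
    induction i using Fin.addCases with
    | left i => simp
    | right i => simp
  obtain ⟨e⟩ := Lib.MultiBound96.exists_tensorList_append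
    ((List.finRange s).map fun i => CohB1.tensorPow (L i) (b i))
    ((List.finRange t).map fun i => CohB1.tensorPow (M i) (c i))
  exact ⟨eqToIso (by
    unfold FGA.multiTwist
    rw [h, ← List.ofFn_eq_map, List.ofFn_fin_append, List.ofFn_eq_map, List.ofFn_eq_map]) ≪≫ e⟩

/-- Sums over a concatenated family. -/
theorem sum_append {s t : ℕ} (b : Fin s → ℕ) (c : Fin t → ℕ) :
    ∑ j, Fin.append b c j = (∑ j, b j) + ∑ j, c j := by
  simp [Fin.sum_univ_add]


/-- Let X be an integral scheme, proper over an uncountable algebraically closed field k of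
characteristic zero and admitting an ample invertible module, of dimension n (stated in the source
over the complex numbers), and L_1, …, L_r invertible O_X-modules with inverses M_1, …, M_r; for a ∈
ℤ^r write L^a = ⊗_j L_j^{a_j} (negative powers through the M_j) and ‖a‖ = max_j |a_j|. Then for
every i there is a constant C with ĥ^i(X, L^a) ≤ C · ‖a‖^n for all a ∈ ℤ^r, where ĥ^i(X, L) =
limsup_m dim_k H^i(X, L^{⊗m}) · n!/m^n. (The source states the bound for all real classes in the
Néron–Severi space with any fixed norm.) -/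
theorem result (k : Type u) [Field k] [IsAlgClosed k] [CharZero k] [Uncountable k] (X : Scheme.{u})
    [X.Over (Spec (CommRingCat.of k))] [AlgebraicGeometry.IsIntegral X]
    [IsProper (X ↘ Spec (CommRingCat.of k))] (hproj : ∃ A : X.Modules, CohB1.IsAmple A)
    (n : ℕ) (hn : topologicalKrullDim X = n)
    (r : ℕ) (L M : Fin r → X.Modules) (hL : ∀ j, PicF.IsInvertible (L j))
    (hM : ∀ j, ClSub.IsInverseOf (L j) (M j)) (i : ℕ) :
    ∃ C : ℝ, ∀ a : Fin r → ℤ,
      W4c5asymptcohfn.hhat k X n i (W4c5asymptcohfn.ztwist X L M a) ≤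
        C * ‖(fun j => ((a j : ℤ) : ℝ))‖ ^ n := by
  obtain ⟨A, hA⟩ := hproj
  haveI := Lib.Curves.GlobalSections.isNoetherian_of_proper k X
  have hMi : ∀ j, PicF.IsInvertible (M j) := fun j => by
    obtain ⟨e⟩ := hM j
    exact Lib.TensorMod.Invertible.isInvertible_of_iso
      ((rightUnit _).symm ≪≫ tensorIso (Iso.refl _) e.symm ≪≫ (assoc _ _ _).symm ≪≫
        tensorIso (comm _ _ ≪≫ Lib.TensorMod.Invertible.tensorDualIso (hL j)) (Iso.refl _) ≪≫ leftUnit _)
      (Lib.TensorMod.Invertible.isInvertible_dual (hL j))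
  have hLM : ∀ j, PicF.IsInvertible (Fin.append L M j) := fun j => by
    induction j using Fin.addCases with
    | left j => rw [Fin.append_left]; exact hL j
    | right j => rw [Fin.append_right]; exact hMi j
  obtain ⟨K, -, hK⟩ := Lib.MultiBound96.exists_bound (k := k) hA hLM (n + 1) (Coh.structureModule X)
    (Lib.Snapper.Twist.isCoh_structureModule X)
    (fun x _ => Nat.lt_succ_of_le (Lib.PosLin.Asymp.pdim_le_dim (k := k) hn x)) i
  refine ⟨(K : ℝ) * n.factorial * (r : ℝ) ^ n, fun a => ?_⟩
  set S : ℕ := ∑ j, ((a j).toNat + (-(a j)).toNat) with hS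
  -- the bound on the powers
  have hu : ∀ m, Lib.PosLin.CohBound.hd k X (CohB1.tensorPow (W4c5asymptcohfn.ztwist X L M a) m) i ≤
      K * (S * m + 1) ^ n := by
    intro m
    obtain ⟨e1⟩ := Lib.MultiBound96.exists_pow_multiTwist L (fun j => (a j).toNat) m
    obtain ⟨e2⟩ := Lib.MultiBound96.exists_pow_multiTwist M (fun j => (-(a j)).toNat) m
    obtain ⟨e3⟩ := exists_multiTwist_append L M (fun j => (a j).toNat * m) (fun j => (-(a j)).toNat * m)
    have h := hK (Fin.append (fun j => (a j).toNat * m) (fun j => (-(a j)).toNat * m))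
    rw [sum_append, ← Finset.sum_mul, ← Finset.sum_mul, ← Nat.add_mul, ← Finset.sum_add_distrib,
      Nat.add_sub_cancel] at h
    exact (Lib.PosLin.CohBound.hd_congr (k := k) (Lib.Ample.Pow.powTensor _ _ m ≪≫ tensorIso e1 e2 ≪≫
      e3.symm ≪≫ (rightUnit _).symm) i).le.trans h
  -- pass to the limit
  have hlim : Filter.Tendsto (fun m : ℕ => (K : ℝ) * n.factorial * ((S : ℝ) + 1 / (m : ℝ)) ^ n) Filter.atTop
      (nhds ((K : ℝ) * n.factorial * (S : ℝ) ^ n)) := by
    have h1 := ((tendsto_one_div_atTop_nhds_zero_nat (𝕜 := ℝ)).const_add (S : ℝ)).pow n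
    rw [add_zero] at h1
    exact h1.const_mul _
  have hle : W4c5asymptcohfn.hhat k X n i (W4c5asymptcohfn.ztwist X L M a) ≤ (K : ℝ) * n.factorial * (S : ℝ) ^ n := by
    rw [Lib.PosLin.Asymp.hhat_eq, ← hlim.limsup_eq]
    refine Filter.limsup_le_limsup ?_ (Lib.PosLin.Asymp.cobounded_nrm n _) hlim.isBoundedUnder_le
    filter_upwards [Filter.eventually_ge_atTop 1] with m hm
    have hm' : (0 : ℝ) < m := Nat.cast_pos.2 hm
    unfold Lib.PosLin.Asymp.nrm
    rw [div_le_iff₀ (pow_pos hm' n), mul_assoc ((K : ℝ) * n.factorial), ← mul_pow,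
      add_mul, one_div_mul_cancel hm'.ne', mul_right_comm]
    have h : (Lib.PosLin.CohBound.hd k X (CohB1.tensorPow (W4c5asymptcohfn.ztwist X L M a) m) i : ℝ) ≤
        (K : ℝ) * ((S : ℝ) * m + 1) ^ n := by exact_mod_cast hu m
    exact mul_le_mul_of_nonneg_right h (Nat.cast_nonneg _)
  refine hle.trans ?_
  rw [mul_assoc _ ((r : ℝ) ^ n), ← mul_pow]
  refine mul_le_mul_of_nonneg_left (pow_le_pow_left₀ (Nat.cast_nonneg _) ?_ n) (by positivity)
  rw [hS, Nat.cast_sum]
  calc ∑ j, (((a j).toNat + (-(a j)).toNat : ℕ) : ℝ) ≤ ∑ _j : Fin r, ‖(fun j => ((a j : ℤ) : ℝ))‖ := by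
        refine Finset.sum_le_sum fun j _ => le_trans (le_of_eq ?_) (norm_le_pi_norm (fun j => ((a j : ℤ) : ℝ)) j)
        rw [Real.norm_eq_abs, ← Int.cast_abs, ← Int.cast_natCast]
        congr 1
        rcases le_total 0 (a j) with h | h
        · rw [abs_of_nonneg h]; omega
        · rw [abs_of_nonpos h]; omega
    _ = (r : ℝ) * ‖(fun j => ((a j : ℤ) : ℝ))‖ := by simp


end Groth.Agent.S17634
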