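import Groth.Statements.S17635
import Mathlib.Analysis.Normed.Module.Basic
import Mathlib.Tactic.Positivity
-- import your own Groth.Agent.* helpers here

set_option autoImplicit false
open Finset
open Variety

namespace Groth.Agent.S17635

/-- Let r and n be natural numbers and f : ℚ^r → ℝ a nonnegative function which is homogeneous of degree
n for positive rational scalars, f(q · v) = q^n · f(v) for q > 0; give ℚ^r the maximum norm ‖v‖ =
max_j |v_j| of its standard basis. Suppose that for every standard basis vector e_i there is a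
constant C_i with |f(v − b · e_i) − f(v)| ≤ C_i · Σ_{q=1}^{n} ‖v‖^{n−q} · b^q for all v ∈ ℚ^r and
all integers b ≥ 1. Then there is a constant C > 0 such that |f(v) − f(w)| ≤ C · Σ_{q=1}^{n}
max(‖v‖, ‖w‖)^{n−q} · ‖v − w‖^q for all v, w ∈ ℚ^r. (The source allows any norm on an r-dimensional
rational vector space with a chosen basis and argues with the maximum norm of that basis, which is
the case stated here.) -/
theorem result (r n : ℕ) (f : (Fin r → ℚ) → ℝ)
    (hf0 : ∀ v, 0 ≤ f v)
    (hhom : ∀ (q : ℚ) (v : Fin r → ℚ), 0 < q → f (q • v) = (q : ℝ) ^ n * f v)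
    (hdir : ∀ i : Fin r, ∃ Ci : ℝ, ∀ (v : Fin r → ℚ) (b : ℕ), 1 ≤ b →
      |f (v - (b : ℚ) • Pi.single i 1) - f v| ≤
        Ci * (Finset.Icc 1 n).sum (fun q => ‖(fun j => ((v j : ℚ) : ℝ))‖ ^ (n - q) * (b : ℝ) ^ q)) :
    ∃ C : ℝ, 0 < C ∧ ∀ v w : Fin r → ℚ,
      |f v - f w| ≤ C * (Finset.Icc 1 n).sum (fun q =>
        (max ‖(fun j => ((v j : ℚ) : ℝ))‖ ‖(fun j => ((w j : ℚ) : ℝ))‖) ^ (n - q) *
          ‖(fun j => ((v j - w j : ℚ) : ℝ))‖ ^ q) := by
  classical
  choose Cc hC using hdir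
  set g : (Fin r → ℚ) → (Fin r → ℝ) := fun v j => ((v j : ℚ) : ℝ) with hg
  set E : (Fin r → ℚ) → (Fin r → ℚ) → ℝ := fun v w => (Finset.Icc 1 n).sum (fun q =>
    (max ‖g v‖ ‖g w‖) ^ (n - q) * ‖g v - g w‖ ^ q) with hE
  have hgsub : ∀ v w : Fin r → ℚ, (fun j => ((v j - w j : ℚ) : ℝ)) = g v - g w := by
    intro v w; funext j; simp [hg]
  have hE0 : ∀ v w, 0 ≤ E v w := fun v w => Finset.sum_nonneg fun q _ => by positivity
  -- one step between integral vectors
  have step : ∀ (i : Fin r) (v : Fin r → ℚ) (b : ℤ) (M : ℝ) (D : ℝ), |((b : ℝ))| ≤ D → ‖g v‖ ≤ M →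
      ‖g (v + (b : ℚ) • Pi.single i 1)‖ ≤ M →
      |f (v + (b : ℚ) • Pi.single i 1) - f v| ≤
        |Cc i| * (Finset.Icc 1 n).sum (fun q => M ^ (n - q) * D ^ q) := by
    intro i v b M D hD hv hv'
    have hM : 0 ≤ M := (norm_nonneg _).trans hv
    have hD0 : 0 ≤ D := (abs_nonneg _).trans hD
    have key : ∀ (u : Fin r → ℚ) (c : ℕ), 1 ≤ c → (c : ℝ) ≤ D → ‖g u‖ ≤ M →
        |f (u - (c : ℚ) • Pi.single i 1) - f u| ≤
          |Cc i| * (Finset.Icc 1 n).sum (fun q => M ^ (n - q) * D ^ q) := fun u c hc hcD hu => by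
      refine (hC i u c hc).trans ?_
      refine (mul_le_mul_of_nonneg_right (le_abs_self _)
        (Finset.sum_nonneg fun q _ => by positivity)).trans ?_
      gcongr with q
    rcases lt_trichotomy b 0 with h | h | h
    · obtain ⟨c, rfl⟩ : ∃ c : ℕ, b = -(c : ℤ) := ⟨b.natAbs, by omega⟩
      have := key v c (by omega) (by simpa using hD) hv
      simpa [sub_eq_add_neg] using this
    · subst h
      simp only [Int.cast_zero, zero_smul, add_zero, sub_self, abs_zero]
      exact mul_nonneg (abs_nonneg _) (Finset.sum_nonneg fun q _ => by positivity)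
    · obtain ⟨c, rfl⟩ : ∃ c : ℕ, b = (c : ℤ) := ⟨b.natAbs, by omega⟩
      have := key (v + ((c : ℤ) : ℚ) • Pi.single i 1) c (by omega) (by simpa using hD) hv'
      rw [abs_sub_comm]
      simpa using this
  have hint : ∀ v w : Fin r → ℤ, |f (fun j => (v j : ℚ)) - f (fun j => (w j : ℚ))| ≤
      (∑ i, |Cc i|) * E (fun j => (v j : ℚ)) (fun j => (w j : ℚ)) := by
    intro v w
    set V : Fin r → ℚ := fun j => (v j : ℚ)
    set W : Fin r → ℚ := fun j => (w j : ℚ)
    let u : ℕ → (Fin r → ℚ) := fun k j => if (j : ℕ) < k then W j else V j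
    have hu : ∀ k, ‖g (u k)‖ ≤ max ‖g V‖ ‖g W‖ := fun k => by
      refine (pi_norm_le_iff_of_nonneg (by positivity)).2 fun j => ?_
      by_cases h : (j : ℕ) < k
      · have : g (u k) j = g W j := by simp [hg, u, h]
        rw [this]; exact (norm_le_pi_norm _ j).trans (le_max_right _ _)
      · have : g (u k) j = g V j := by simp [hg, u, h]
        rw [this]; exact (norm_le_pi_norm _ j).trans (le_max_left _ _)
    have hstep : ∀ i : Fin r, |f (u (i + 1)) - f (u i)| ≤ |Cc i| * E V W := fun i => by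
      have e : u (i + 1) = u i + ((w i - v i : ℤ) : ℚ) • Pi.single i 1 := by
        funext j
        simp only [u, Pi.add_apply, Pi.smul_apply, smul_eq_mul]
        rcases lt_trichotomy (j : ℕ) i with h | h | h
        · rw [if_pos (Nat.lt_succ_of_lt h), if_pos h, Pi.single_eq_of_ne (Fin.ne_of_val_ne h.ne)]
          simp
        · obtain rfl := Fin.ext h
          rw [if_pos (Nat.lt_succ_self _), if_neg (lt_irrefl _), Pi.single_eq_same]
          simp [V, W]
        · rw [if_neg (show ¬ (j : ℕ) < i + 1 by omega), if_neg (not_lt.2 h.le),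
            Pi.single_eq_of_ne (Fin.ne_of_val_ne h.ne')]
          simp
      rw [e]
      refine step i (u i) _ _ _ ?_ (hu _) (e ▸ hu _)
      have := norm_le_pi_norm (g V - g W) i
      simpa [hg, V, W, abs_sub_comm] using this
    have h0 : u 0 = V := funext fun j => by simp [u]
    have hr : u r = W := funext fun j => by simp [u]
    rw [← h0, ← hr, abs_sub_comm, ← Finset.sum_range_sub (fun k => f (u k)) r, h0, hr,
      Finset.sum_mul, ← Fin.sum_univ_eq_sum_range (fun k => f (u (k + 1)) - f (u k))]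
    exact (Finset.abs_sum_le_sum_abs _ _).trans (Finset.sum_le_sum fun i _ => hstep i)
  refine ⟨(∑ i, |Cc i|) + 1, by positivity, fun v w => ?_⟩
  rw [hgsub]
  let N : ℕ := (∏ j, (v j).den) * ∏ j, (w j).den
  have hN : 0 < N := Nat.mul_pos (Finset.prod_pos fun j _ => (v j).den_pos)
    (Finset.prod_pos fun j _ => (w j).den_pos)
  have hmul : ∀ (x : Fin r → ℚ), (∀ j, (x j).den ∣ N) →
      ∃ z : Fin r → ℤ, (N : ℚ) • x = fun j => (z j : ℚ) := by
    intro x hx
    choose c hc using hx
    refine ⟨fun j => (c j : ℤ) * (x j).num, funext fun j => ?_⟩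
    have hmd : x j * (x j).den = (x j).num := Rat.mul_den_eq_num _
    simp only [Pi.smul_apply, smul_eq_mul, hc j]
    push_cast
    rw [← hmd]; ring
  obtain ⟨zv, hzv⟩ := hmul v fun j =>
    Dvd.dvd.mul_right (Finset.dvd_prod_of_mem (fun j => (v j).den) (Finset.mem_univ j)) _
  obtain ⟨zw, hzw⟩ := hmul w fun j =>
    Dvd.dvd.mul_left (Finset.dvd_prod_of_mem (fun j => (w j).den) (Finset.mem_univ j)) _
  have hgN : ∀ x : Fin r → ℚ, g ((N : ℚ) • x) = (N : ℝ) • g x := fun x => by
    funext j; simp [hg]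
  have hscale : E ((N : ℚ) • v) ((N : ℚ) • w) = (N : ℝ) ^ n * E v w := by
    simp only [hE, hgN, ← smul_sub, norm_smul, Real.norm_natCast, Finset.mul_sum,
      ← mul_max_of_nonneg _ _ (Nat.cast_nonneg N : (0 : ℝ) ≤ N)]
    refine Finset.sum_congr rfl fun q hq => ?_
    have hqn : q ≤ n := (Finset.mem_Icc.1 hq).2
    rw [mul_pow, mul_pow, mul_mul_mul_comm, ← pow_add, Nat.sub_add_cancel hqn]
  have := hint zv zw
  rw [← hzv, ← hzw, hhom _ _ (by exact_mod_cast hN), hhom _ _ (by exact_mod_cast hN),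
    hscale, ← mul_sub, abs_mul, abs_of_nonneg (by positivity), Rat.cast_natCast,
    mul_left_comm] at this
  refine (le_of_mul_le_mul_left this (by positivity)).trans ?_
  exact mul_le_mul_of_nonneg_right (le_add_of_nonneg_right zero_le_one) (hE0 v w)

end Groth.Agent.S17635
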