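import Groth.Statements.S17636
import Groth.Agent.Lib.StableBase96.Basic
-- import your own Groth.Agent.* helpers here

set_option autoImplicit false
set_option linter.style.haveILetI false
universe u
open CategoryTheory CategoryTheory.Limits AlgebraicGeometry
open Variety

namespace Groth.Agent.S17636

/-- Let X be an integral scheme, smooth and proper over an algebraically closed field k of
characteristic zero and admitting an ample invertible module, of dimension n (stated in the source
over the complex numbers), and let L be an invertible O_X-module which is big — its volume ĥ^0(X, L)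
= limsup_m dim_k H^0(X, L^{⊗m}) · n!/m^n is positive — and whose stable base locus, the set of
points of X at which every global section of every L^{⊗m}, m ≥ 1, vanishes, has dimension at most d.
Then ĥ^i(X, L) = limsup_m dim_k H^i(X, L^{⊗m}) · n!/m^n = 0 for every i > d. -/
theorem result (k : Type u) [Field k] [IsAlgClosed k] [CharZero k] (X : Scheme.{u})
    [X.Over (Spec (CommRingCat.of k))] [AlgebraicGeometry.IsIntegral X]
    [IsProper (X ↘ Spec (CommRingCat.of k))] (hproj : ∃ A : X.Modules, CohB1.IsAmple A)
    (n : ℕ) (hn : topologicalKrullDim X = n)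
    [Smooth (X ↘ Spec (CommRingCat.of k))]
    (L : X.Modules) (hL : PicF.IsInvertible L) (hbig : 0 < W4c5asymptcohfn.hhat k X n 0 L)
    (d : ℕ) (hd : topologicalKrullDim ↥(W4c5asymptcohfn.stableBaseLocus X L) ≤ (d : WithBot ℕ∞))
    (i : ℕ) (hi : d < i) :
    W4c5asymptcohfn.hhat k X n i L = 0 := by
  classical
  haveI := Lib.Curves.GlobalSections.isNoetherian_of_proper k X
  obtain ⟨a, ha, hst⟩ := Lib.PosLin.BaseLocus.exists_stable hL
  have hB : W4c5asymptcohfn.stableBaseLocus X L = ((Lib.PosLin.BaseLocus.gen L a : Set X)ᶜ : Set X) := by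
    have h1 := hst 1 one_pos
    rw [Nat.one_mul] at h1
    rw [← h1]
    ext x
    simp only [W4c5asymptcohfn.stableBaseLocus, W4c5asymptcohfn.baseLocus, Set.mem_iInter,
      Set.mem_ofPred_eq, Lib.PosLin.BaseLocus.mem_gen, not_exists]
    exact ⟨fun h m hm => by obtain ⟨j, rfl⟩ : ∃ j, m = j + 1 := ⟨m - 1, by omega⟩
                            exact h j, fun h j => h (j + 1) (Nat.succ_pos j)⟩
  rw [hB] at hd
  obtain ⟨K, hK0, hK⟩ := Lib.StableBase96.exists_bound (k := k) hL ha hd (n + 1) (Coh.structureModule X)
    (Lib.Snapper.Twist.isCoh_structureModule X)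
    (fun x _ => Nat.lt_succ_of_le (Lib.PosLin.Asymp.pdim_le_dim (k := k) hn x)) i hi
  have hb : ∀ m, Lib.PosLin.CohBound.hd k X (CohB1.tensorPow L m) i ≤ K * (m + 1) ^ (n - 1) := fun m =>
    (Lib.PosLin.CohBound.hd_congr (k := k) (Lib.TensorMod.Basic.rightUnit _).symm i).le.trans
      ((hK m).trans (le_of_eq (by congr 2)))
  rw [Lib.PosLin.Asymp.hhat_eq]
  have h0 := Lib.PosLin.Asymp.limsup_eq_of_le (n := n) (K := K) (B := K) (B' := 0) (v := fun _ => 0)
    (fun h => hK0 (by omega))
    (fun m => (hb m).trans (Nat.mul_le_mul_left _ (Nat.pow_le_pow_right m.succ_pos (by omega))))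
    (fun m => by simp)
    (Filter.Eventually.of_forall fun m => by simpa using hb m)
    (Filter.Eventually.of_forall fun m => Nat.zero_le _)
  rw [h0, show Lib.PosLin.Asymp.nrm n (fun _ => 0) = fun _ => (0 : ℝ) from
    funext fun m => by simp [Lib.PosLin.Asymp.nrm]]
  exact Filter.limsup_const 0


end Groth.Agent.S17636
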