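import Groth.Statements.S17637
import Groth.Agent.Lib.Nakai.VeryAmpleGG
import Groth.Agent.Lib.Nakai.UnifAbs
import Groth.Agent.S12111

set_option autoImplicit false
universe u
open CategoryTheory CategoryTheory.Limits AlgebraicGeometry
open Variety

namespace Groth.Agent.S17637

open Groth.Agent.Lib Groth.Agent.Lib.Nakai
set_option linter.style.haveILetI false
open Groth.Agent.Lib.TensorMod.Basic (comm assoc tensorIso leftUnit rightUnit)

theorem nt_structure (k : Type u) [Field k] {X : Scheme.{u}} [X.Over (Spec (CommRingCat.of k))]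
    [IsProper (X ↘ Spec (CommRingCat.of k))] {d : ℕ} (hd : topologicalKrullDim X ≤ d) :
    NTBound.NT k d (Coh.structureModule X) := by
  refine ⟨PicLoc.isInvertible_structureModule X, fun z hz => ?_⟩
  have hO := PicLoc.isInvertible_structureModule X
  have hl : ∀ M ∈ ([] : List X.Modules), PicF.IsInvertible M := fun M hM => by simp at hM
  have hy' : Main.pd k z ≤ ([] : List X.Modules).length + 1 := by simp [hz]
  have h2 := Cut.ip_tensor (k := k) hd hO hO hl hy'
  have hs : Cut.ip k d [CohB1.tensorMod (Coh.structureModule X) (Coh.structureModule X)] z =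
      Cut.ip k d [Coh.structureModule X] z := by
    simp only [Cut.ip, List.length_singleton]
    rw [Snapper.IntNum.sym_cons_iso (leftUnit (Coh.structureModule X))]
  rw [hs] at h2
  omega

/-- Let X be an integral scheme, proper over an algebraically closed field k of characteristic zero and
admitting an ample invertible module (the published statement is over the complex numbers). Then
there is a very ample invertible O_X-module A — A ≅ i^*O(1) for an immersion i : X → P^N_k over k —
such that A ⊗ N is again very ample for every invertible O_X-module N which is numerically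
equivalent to zero. (The published statement also provides one flat family over a quasi-projective
base whose fibres include every divisor of every |A ⊗ N|; that clause is not stated here.) -/
theorem result (k : Type u) [Field k] [IsAlgClosed k] [CharZero k] (X : Scheme.{u})
    [X.Over (Spec (CommRingCat.of k))] [AlgebraicGeometry.IsIntegral X]
    [IsProper (X ↘ Spec (CommRingCat.of k))] (hproj : ∃ A : X.Modules, CohB1.IsAmple A) :
    ∃ A : X.Modules, PicF.IsInvertible A ∧
      RelAmple.IsRelVeryAmplePn (X ↘ Spec (CommRingCat.of k)) A ∧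
      ∀ N : X.Modules, PicF.IsInvertible N → Pic13.IsNumEquivZero k X N →
        RelAmple.IsRelVeryAmplePn (X ↘ Spec (CommRingCat.of k)) (CohB1.tensorMod A N) := by
  haveI := Curves.GlobalSections.isNoetherian_of_proper k X
  obtain ⟨H, hH⟩ := hproj
  obtain ⟨N₀, r, j, hN₀, hj, hjs, ⟨eN⟩⟩ := DepthTwist.Embed.exists_embedding (k := k) hH
  haveI := hj
  have hO1 : CohB1.IsAmple (UnifVan.twX j 1) :=
    Ample.Pow.isAmple_of_iso eN ((Ample.Pow.isAmple_tensorPow_iff hH.1 hN₀).mp hH)
  have hdim := UnifVan.dim_le j hjs
  have hpd : ∀ x : X, Main.pd k x < r + 1 + 1 := fun x => by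
    have h := ((Devissage.Dim.dim_closure_le isClosed_univ (Set.mem_univ x)).trans
      (Homeomorph.Set.univ X).isHomeomorph.topologicalKrullDim_eq.le).trans hdim
    rw [Cut.dim_closure (k := k) x] at h
    have h' : Main.pd k x ≤ r + 1 := by exact_mod_cast h
    omega
  have hO := PicLoc.isInvertible_structureModule X
  obtain ⟨m, hm⟩ := (UnifVan.main j hjs hO1 (r + 1 + 1) (Coh.structureModule X)
    (Ample.GG.isCoh_of_isInvertible hO) fun x _ => hpd x).1
  have hI := UnifVan.isInvertible_twX (k := k) j
  have key : ∀ L : X.Modules, NTBound.NT k (r + 1) L →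
      RelAmple.IsRelVeryAmplePn (X ↘ Spec (CommRingCat.of k))
        (CohB1.tensorMod (CohB1.tensorMod (UnifVan.twX j 1) (UnifVan.twX j m)) L) := by
    intro L hL
    have hLO := TensorMod.Invertible.isInvertible_tensorMod hL.1 hO
    have hgg := (Groth.Agent.S12111.result k r j _ (Ample.GG.isCoh_of_isInvertible hLO) m (hm L hL) m le_rfl).2
    have hv := VeryAmpleGG.isRelVeryAmplePn_tensor (q := X ↘ Spec (CommRingCat.of k)) j hjs
      (Iso.refl (UnifVan.twX j 1)) (TensorMod.Invertible.isInvertible_tensorMod hLO (hI m)) hgg
    exact ProjMor.Conv.isRelVeryAmplePn_of_iso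
      (tensorIso (Iso.refl _) (tensorIso (rightUnit L) (Iso.refl _) ≪≫ comm _ _) ≪≫ (assoc _ _ _).symm) hv
  refine ⟨CohB1.tensorMod (UnifVan.twX j 1) (UnifVan.twX j m),
    TensorMod.Invertible.isInvertible_tensorMod (hI 1) (hI m), ?_, fun N hN hnum =>
      key N (NTBound.nt_of_num hdim hN hnum)⟩
  exact ProjMor.Conv.isRelVeryAmplePn_of_iso (rightUnit _) (key _ (nt_structure k hdim))

end Groth.Agent.S17637
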