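import Groth.Statements.S17638
import Groth.Agent.Lib.Zariski96.Limits
-- import your own Groth.Agent.* helpers here

set_option autoImplicit false
set_option linter.style.haveILetI false
universe u
open CategoryTheory CategoryTheory.Limits AlgebraicGeometry
open Surf

namespace Groth.Agent.S17638

/-- Let X be an integral scheme, smooth and proper over an uncountable algebraically closed field k of
characteristic zero and admitting an ample invertible module, of dimension 2 (a smooth projective
surface; stated in the source over the complex numbers), and L an invertible O_X-module. Suppose a ≥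
1 and L^{⊗a} ≅ L_P ⊗ L_N is a Zariski decomposition: L_P is invertible and nef (degree ≥ 0 on every
integral closed curve of X); L_N ≅ ⊗_j O(N_j)^{⊗ b_j} for finitely many integral closed curves N_1,
…, N_s ⊆ X and integers b_j ≥ 1, where O(N_j) is an inverse of the ideal sheaf of N_j; the
intersection matrix (N_j · N_l) is negative definite; and (L_P · N_j) = deg(L_P|_{N_j}) = 0 for
every j. Then, with M_P and M_N inverses of L_P and L_N and intersection numbers on X computed as
alternating sums of Euler characteristics, ĥ^0(X, L) = (L_P · L_P)/a², ĥ^1(X, L) = −(L_N · L_N)/a²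
and ĥ^2(X, L) = 0, where ĥ^i(X, L) = limsup_m dim_k H^i(X, L^{⊗m}) · 2!/m². (The source states this
for any pseudo-effective real divisor class D = P_D + N_D; for an integral D a positive multiple aD
has an integral decomposition as here.) -/
theorem result (k : Type u) [Field k] [IsAlgClosed k] [CharZero k]
    [Uncountable k] (X : Scheme.{u}) [X.Over (Spec (CommRingCat.of k))] [AlgebraicGeometry.IsIntegral X]
    [IsProper (X ↘ Spec (CommRingCat.of k))] [Smooth (X ↘ Spec (CommRingCat.of k))]
    (hproj : ∃ A : X.Modules, CohB1.IsAmple A) (hX2 : topologicalKrullDim X = 2)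
    (L LP LN MP MN : X.Modules) (hL : PicF.IsInvertible L) (hLP : PicF.IsInvertible LP)
    (hLN : PicF.IsInvertible LN) (hMP : ClSub.IsInverseOf LP MP) (hMN : ClSub.IsInverseOf LN MN)
    (a : ℕ) (ha : 1 ≤ a) (hdec : Nonempty (CohB1.tensorPow L a ≅ CohB1.tensorMod LP LN))
    (hnef : ∀ (Y : Scheme.{u}) (i : Y ⟶ X) [IsClosedImmersion i], AlgebraicGeometry.IsIntegral Y →
      topologicalKrullDim Y = 1 →
        0 ≤ Pic13.curveDeg k (i ≫ (X ↘ Spec (CommRingCat.of k))) ((Scheme.Modules.pullback i).obj LP))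
    (s : ℕ) (N : Fin s → X.IdealSheafData)
    (hN : ∀ j, AlgebraicGeometry.IsIntegral (N j).subscheme ∧ topologicalKrullDim (N j).subscheme = 1)
    (O : Fin s → X.Modules) (hO : ∀ j, ClSub.IsInverseOf (ClSub.idealMod (N j)) (O j))
    (b : Fin s → ℕ) (hb : ∀ j, 1 ≤ b j) (hLNeq : Nonempty (LN ≅ FGA.multiTwist O b))
    (hneg : (-(Matrix.of fun j l : Fin s =>
      FGA.intNum k X 2 ![ClSub.idealMod (N j), ClSub.idealMod (N l)] (Coh.structureModule X))).PosDef)
    (horth : ∀ j, Pic13.curveDeg k ((N j).subschemeι ≫ (X ↘ Spec (CommRingCat.of k)))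
      ((Scheme.Modules.pullback (N j).subschemeι).obj LP) = 0) :
    W4c5asymptcohfn.hhat k X 2 0 L =
        (FGA.intNum k X 2 ![MP, MP] (Coh.structureModule X) : ℝ) / (a : ℝ) ^ 2 ∧
      W4c5asymptcohfn.hhat k X 2 1 L =
        -(FGA.intNum k X 2 ![MN, MN] (Coh.structureModule X) : ℝ) / (a : ℝ) ^ 2 ∧
      W4c5asymptcohfn.hhat k X 2 2 L = 0 := by
  obtain ⟨A₀, hA₀⟩ := hproj
  haveI := Groth.Agent.Lib.Curves.GlobalSections.isNoetherian_of_proper k X
  haveI : IsNoetherian X := inferInstance
  have hfin := Groth.Agent.Lib.Snapper.Finite.cohFinite k X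
  have hreg := Groth.Agent.Lib.SurfInt.NegDef.regular_of_smooth (k := k) (X := X)
  have hCI : ∀ C : X.IdealSheafData, AlgebraicGeometry.IsIntegral C.subscheme →
      topologicalKrullDim (C.support : Set X) = 1 → PicF.IsInvertible (ClSub.idealMod C) := fun C hC hCd =>
    haveI := hC
    Groth.Agent.Lib.SurfInt.Effective.isInvertible_idealMod
      (Groth.Agent.Lib.SurfInt.Curve.isEffCartier (X ↘ Spec (CommRingCat.of k)) hX2 hreg C hCd)
  have hNd : ∀ j, topologicalKrullDim ((N j).support : Set X) = 1 := fun j =>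
    (Groth.Agent.Lib.SurfInt.Surface.dim_subscheme (N j)).symm.trans (hN j).2
  have hnef' : ∀ C : X.IdealSheafData, AlgebraicGeometry.IsIntegral C.subscheme →
      topologicalKrullDim (C.support : Set X) = 1 →
        FGA.intNum k X 2 ![ClSub.idealMod C, LP] (Coh.structureModule X) ≤ 0 := fun C hC hCd => by
    have hd := (Groth.Agent.Lib.SurfInt.Surface.dim_subscheme C).trans hCd
    have h := hnef C.subscheme C.subschemeι hC hd
    rw [Groth.Agent.Lib.Zariski96.curveDeg_eq (k := k) hX2 C (hCI C hC hCd) hd hLP] at h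
    linarith
  have horth' : ∀ j, FGA.intNum k X 2 ![ClSub.idealMod (N j), LP] (Coh.structureModule X) = 0 := fun j => by
    have h := horth j
    rw [Groth.Agent.Lib.Zariski96.curveDeg_eq (k := k) hX2 (N j) (hCI _ (hN j).1 (hNd j)) (hN j).2 hLP] at h
    linarith
  obtain ⟨h0, h1, h2⟩ := Groth.Agent.Lib.Zariski96.hhat_zariski (k := k) hX2 hA₀ hLP hLN hdec hnef' N
    (fun j => (hN j).1) hNd O hO b hLNeq hneg horth'
  have hsq : ∀ {L' M' : X.Modules}, PicF.IsInvertible L' → ClSub.IsInverseOf L' M' →
      FGA.intNum k X 2 ![M', M'] (Coh.structureModule X) =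
        FGA.intNum k X 2 ![L', L'] (Coh.structureModule X) := by
    intro L' M' hL' hM'
    have hMi := Groth.Agent.Lib.MultiBound96.isInvertible_inverse hL' hM'
    obtain ⟨e⟩ := hM'
    have hO' := Groth.Agent.Lib.Snapper.Twist.isCoh_structureModule X
    rw [Groth.Agent.Lib.Snapper.IntNum.intNum_pair_inverse hfin hX2.le hL' hMi e hMi hO',
      Groth.Agent.Lib.Snapper.IntNum.intNum_pair_comm L' M',
      Groth.Agent.Lib.Snapper.IntNum.intNum_pair_inverse hfin hX2.le hL' hMi e hL' hO', neg_neg]
  have hn2 : topologicalKrullDim X = ((2 : ℕ) : WithBot ℕ∞) := by exact_mod_cast hX2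
  have hpow : ∀ i, W4c5asymptcohfn.hhat k X 2 i L =
      W4c5asymptcohfn.hhat k X 2 i (CohB1.tensorPow L a) / (a : ℝ) ^ 2 := fun i => by
    have ha' : (a : ℝ) ≠ 0 := Nat.cast_ne_zero.mpr (by omega)
    rw [Groth.Agent.S17621.result k X ⟨A₀, hA₀⟩ 2 hn2 L hL a ha i]
    field_simp
  refine ⟨?_, ?_, ?_⟩ <;> rw [hpow]
  · rw [h0, hsq hLP hMP]
  · rw [h1, hsq hLN hMN]
  · rw [h2, zero_div]

end Groth.Agent.S17638
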