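import Groth.Statements.S17639
import Groth.Agent.S14368
import Groth.Agent.Lib.DerivedOX.GammaZTriangle

set_option autoImplicit false
universe u
open CategoryTheory CategoryTheory.Limits AlgebraicGeometry
attribute [local instance] HasDerivedCategory.standard
open Dual3

namespace Groth.Agent.S17639

open Pretriangulated Groth.Agent.Lib.DerivedOX

/-- No map from an object vanishing on `W` to an object vanishing on `X`, when `W ∪ X` is everything. -/
theorem eq_zero_of_cover {X Y : Scheme.{u}} (j : X ⟶ Y) [IsOpenImmersion j] (W : Y.Opens)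
    (hW : (W : Set Y)ᶜ ⊆ Set.range j.base) {K D : DCoh.D Y}
    (hK : IsZero ((DCoh.restrictD W.ι).obj K)) (hD : IsZero ((DCoh.restrictD j).obj D))
    (f : K ⟶ D) : f = 0 := by
  haveI := Exists.hasRpush W.ι
  haveI := Exists.hasRpush j
  have hD' : IsZero ((DCoh.restrictD j.opensRange.ι).obj D) :=
    OpenSupport.isZero_restrictD_of_support _ _ fun i w hw => by
      obtain ⟨x, hx⟩ := w.2
      exact OpenImm.not_mem_support_of_isZero_restrict j hD i x (hx.symm ▸ hw)
  haveI := Groth.Agent.S14368.isIso_unit W.ι j.opensRange (fun y hy => by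
      have : y ∈ W := not_not.1 fun h => hy (hW h)
      exact ⟨⟨y, this⟩, rfl⟩) (OpenImm.restrictPushAdj W.ι) D hD'
  exact OpenImm.eq_zero_of_isZero_restrict W.ι hK
    (asIso ((OpenImm.restrictPushAdj W.ι).unit.app D)) f

/-- Restriction to `X` is faithful on maps out of objects vanishing on `W`. -/
theorem restrict_injective {X Y : Scheme.{u}} (j : X ⟶ Y) [IsOpenImmersion j] (W : Y.Opens)
    (hW : (W : Set Y)ᶜ ⊆ Set.range j.base) [DCoh.HasRpush j]
    (adj : DCoh.restrictD j ⊣ DCoh.Rpush j) {K M : DCoh.D Y}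
    (hK : IsZero ((DCoh.restrictD W.ι).obj K)) (f g : K ⟶ M)
    (h : (DCoh.restrictD j).map f = (DCoh.restrictD j).map g) : f = g := by
  obtain ⟨C, b, c, hT⟩ := distinguished_cocone_triangle (adj.unit.app M)
  have hc : IsIso (adj.counit.app ((DCoh.restrictD j).obj M)) :=
    @NatIso.isIso_app_of_isIso _ _ _ _ _ _ adj.counit (OpenImm.isIso_counit j adj) _
  have hC : IsZero ((DCoh.restrictD j).obj C) :=
    (Triangle.isZero₃_iff_isIso₁ _ ((DCoh.restrictD j).map_distinguished _ hT)).2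
      (by
        refine @IsIso.of_isIso_fac_right _ _ _ _ _ _ _ _ ?_ ?_ (adj.left_triangle_components M)
        · exact hc
        · exact IsIso.id _)
  have h0 : (f - g) ≫ adj.unit.app M = 0 := by
    rw [Preadditive.sub_comp, sub_eq_zero]
    exact (adj.unit.naturality f).trans ((congrArg (fun t => adj.unit.app K ≫ (DCoh.Rpush j).map t) h).trans
      (adj.unit.naturality g).symm)
  obtain ⟨s, hs⟩ := Triangle.coyoneda_exact₂ _ (inv_rot_of_distTriang _ hT) (f - g) h0
  have hs0 : s = 0 := eq_zero_of_cover j W hW hK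
    (((shiftFunctor (DCoh.D X) (-1 : ℤ)).map_isZero hC).of_iso
      (((DCoh.restrictD j).commShiftIso (-1 : ℤ)).app C)) s
  rw [hs0, zero_comp] at hs
  exact sub_eq_zero.1 hs

/-- `Hom(F, RΓ_{Z'}(M|_X)) ≅ Hom(Rj_* F, M)`. -/
theorem bijective_aux {X Y : Scheme.{u}} (j : X ⟶ Y) [IsOpenImmersion j] (W : Y.Opens)
    (hW : (W : Set Y)ᶜ ⊆ Set.range j.base) [DCoh.HasRpush j] [CxOX.HasRgammaZ W.ι]
    [CxOX.HasRgammaZ (j ⁻¹ᵁ W).ι]
    (adj : DCoh.restrictD j ⊣ DCoh.Rpush j) (M : DCoh.D Y)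
    (θ : (CxOX.RgammaZ (j ⁻¹ᵁ W).ι).obj ((DCoh.restrictD j).obj M) ⟶
      (DCoh.restrictD j).obj ((CxOX.RgammaZ W.ι).obj M))
    (hθ : θ ≫ (DCoh.restrictD j).map ((CxOX.RgammaZToId W.ι).app M) =
      (CxOX.RgammaZToId (j ⁻¹ᵁ W).ι).app ((DCoh.restrictD j).obj M))
    [IsIso (adj.unit.app ((CxOX.RgammaZ W.ι).obj M))]
    (F : DCoh.D X) (hF : CxOX.IsSuppD (j ⁻¹ᵁ W).ι F) :
    Function.Bijective (fun φ : F ⟶ (CxOX.RgammaZ (j ⁻¹ᵁ W).ι).obj ((DCoh.restrictD j).obj M) =>
      (DCoh.Rpush j).map (φ ≫ θ) ≫ inv (adj.unit.app ((CxOX.RgammaZ W.ι).obj M)) ≫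
        (CxOX.RgammaZToId W.ι).app M) := by
  haveI := Exists.hasRpush W.ι
  haveI := Exists.hasRpush (j ⁻¹ᵁ W).ι
  haveI := Exists.hasRpush (j ∣_ W)
  have hF0 := (OpenImm.isSuppD_iff (j ⁻¹ᵁ W).ι F).1 hF
  have hK : IsZero ((DCoh.restrictD W.ι).obj ((DCoh.Rpush j).obj F)) :=
    ((DCoh.Rpush (j ∣_ W)).map_isZero hF0).of_iso ((RestrictRpush.restrictD_Rpush_iso j W).app _)
  have hε : IsIso (adj.counit.app F) :=
    @NatIso.isIso_app_of_isIso _ _ _ _ _ _ adj.counit (OpenImm.isIso_counit j adj) _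
  have hA : (DCoh.restrictD j).map (inv (adj.unit.app ((CxOX.RgammaZ W.ι).obj M))) =
      adj.counit.app ((DCoh.restrictD j).obj ((CxOX.RgammaZ W.ι).obj M)) := by
    rw [Functor.map_inv]
    exact IsIso.inv_eq_of_hom_inv_id (adj.left_triangle_components _)
  -- the restriction of `Rj_* t ≫ u⁻¹ ≫ ι` is `ε ≫ t ≫ j^* ι`
  have key : ∀ t : F ⟶ (DCoh.restrictD j).obj ((CxOX.RgammaZ W.ι).obj M), (DCoh.restrictD j).map
      ((DCoh.Rpush j).map t ≫ inv (adj.unit.app ((CxOX.RgammaZ W.ι).obj M)) ≫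
        (CxOX.RgammaZToId W.ι).app M) =
      adj.counit.app F ≫ t ≫ (DCoh.restrictD j).map ((CxOX.RgammaZToId W.ι).app M) := fun t => by
    simp only [Functor.map_comp, hA]
    exact (Category.assoc _ _ _).symm.trans
      ((congrArg (· ≫ _) (adj.counit.naturality t)).trans (Category.assoc _ _ _))
  refine ⟨fun φ φ' h => ?_, fun h => ?_⟩
  · have h1 := congrArg (DCoh.restrictD j).map h
    have h2 := (cancel_epi (adj.counit.app F)).1 (((key _).symm.trans h1).trans (key _))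
    simp only [Category.assoc, hθ] at h2
    exact (GammaZTriangle.existsUnique_lift (j ⁻¹ᵁ W).ι hF0 _).unique h2 rfl
  · obtain ⟨g, hg, -⟩ := GammaZTriangle.existsUnique_lift W.ι hK h
    obtain ⟨φ, hφ, -⟩ := GammaZTriangle.existsUnique_lift (j ⁻¹ᵁ W).ι hF0
      (inv (adj.counit.app F) ≫ (DCoh.restrictD j).map g ≫
        (DCoh.restrictD j).map ((CxOX.RgammaZToId W.ι).app M))
    refine ⟨φ, restrict_injective j W hW adj hK _ _ ((key _).trans ?_)⟩
    refine (congrArg (adj.counit.app F ≫ ·)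
      ((Category.assoc _ _ _).trans ((congrArg (φ ≫ ·) hθ).trans hφ))).trans ?_
    refine (IsIso.hom_inv_id_assoc (adj.counit.app F) _).trans ?_
    exact ((DCoh.restrictD j).map_comp _ _).symm.trans (congrArg (DCoh.restrictD j).map hg)


/-- Let f : X ⟶ Y be a separated morphism of finite type of Noetherian schemes, factored as f = f̄ ∘ j
with j : X ⟶ X̄ an open immersion and f̄ : X̄ ⟶ Y proper. Let Z ⊆ Y be a closed subset with open
complement U, and Z' ⊆ X a closed subset which is proper over Y and contained in f⁻¹(Z); such a Z'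
has closed image in X̄, and it is given here as Z' = j⁻¹(X̄ ∖ W) for an open W ⊆ X̄ with X̄ ∖ W ⊆
j(X) and f⁻¹(U) ⊆ j⁻¹(W). Let Rf̄_* and Rj_* exist and preserve complexes with quasi-coherent
cohomology, let a be a right adjoint of Rf̄_* on D_qc with its adjunction (whose counit is the trace
map of f̄), let an adjunction j^* ⊣ Rj_* be given, put f^!G = (a G)|_X, and let θ : RΓ_{Z'}(j^* aG)
⟶ j^*RΓ_{j(Z')}(aG) be the comparison morphism compatible with the two maps to j^*(aG), the unit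
RΓ_{j(Z')}(aG) ⟶ Rj_* j^* RΓ_{j(Z')}(aG) being an isomorphism. Then for every F in D(O_X) with
quasi-coherent cohomology sheaves, bounded above and supported on Z', and every G in D_qc(O_Y),
bounded below with cohomology supported on Z, the map sending φ : F ⟶ RΓ_{Z'}(f^!G) to the composite
Rf̄_* Rj_* F ⟶ Rf̄_* Rj_* RΓ_{Z'}(f^!G) ⟶ Rf̄_* Rj_* j^* RΓ_{j(Z')}(aG) ⟶ Rf̄_* RΓ_{j(Z')}(aG) ⟶
Rf̄_*(aG) ⟶ G (Rf̄_*Rj_* of φ and θ, inverse of the unit, the canonical map out of RΓ, the trace) is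
a bijection from Hom(F, RΓ_{Z'} f^!G) onto Hom(Rf_* F, G), with Rf_* computed as Rf̄_* ∘ Rj_*: the
functor Rf_* is left adjoint to RΓ_{Z'} f^! on these objects. (Throughout, RΓ with support is the
total right derived functor of the sheaf of sections supported in the closed subset. The published
statement derives instead the functor of sections killed by some power of a defining ideal; on
complexes with quasi-coherent cohomology sheaves over a Noetherian scheme the two derived functors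
agree.) -/
theorem result {X Y : Scheme.{u}} [IsNoetherian X] [IsNoetherian Y]
    (f : X ⟶ Y) [IsSeparated f] [LocallyOfFiniteType f] (c : DEt.Compactification f)
    (U : Y.Opens) (W : c.Xbar.Opens) (hW : (W : Set c.Xbar)ᶜ ⊆ Set.range c.j.base) (hZ : f ⁻¹ᵁ U ≤ c.j ⁻¹ᵁ W)
    [DCoh.HasRpush c.fbar] [DCoh.HasRpush c.j] (hfbar : DCoh.RpushPreservesQCoh c.fbar) (hj : DCoh.RpushPreservesQCoh c.j)
    (a : DCoh.DQCoh Y ⥤ DCoh.DQCoh c.Xbar) (adj : DCoh.RpushQ c.fbar hfbar ⊣ a)
    (adjj : DCoh.restrictD c.j ⊣ DCoh.Rpush c.j)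
    [CxOX.HasRgammaZ W.ι] [CxOX.HasRgammaZ (c.j ⁻¹ᵁ W).ι]
    (G : DCoh.DQCoh Y) (n : ℤ) (hGn : DerivedCategory.IsGE G.obj n) (hGZ : CxOX.IsSuppD U.ι G.obj)
    (θ : (CxOX.RgammaZ (c.j ⁻¹ᵁ W).ι).obj ((Dual3.shriekC c a).obj G) ⟶
      (DCoh.restrictD c.j).obj ((CxOX.RgammaZ W.ι).obj (a.obj G).obj))
    (hθ : θ ≫ (DCoh.restrictD c.j).map ((CxOX.RgammaZToId W.ι).app (a.obj G).obj) =
      (CxOX.RgammaZToId (c.j ⁻¹ᵁ W).ι).app ((Dual3.shriekC c a).obj G))
    [IsIso (adjj.unit.app ((CxOX.RgammaZ W.ι).obj (a.obj G).obj))]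
    (F : DCoh.D X) (hF : DCoh.IsQCohD F) (m : ℤ) (hFm : DerivedCategory.IsLE F m)
    (hFZ : CxOX.IsSuppD (c.j ⁻¹ᵁ W).ι F) :
    Function.Bijective (fun φ : F ⟶ (CxOX.RgammaZ (c.j ⁻¹ᵁ W).ι).obj ((Dual3.shriekC c a).obj G) =>
      (DCoh.Rpush c.fbar).map ((DCoh.Rpush c.j).map (φ ≫ θ) ≫
          inv (adjj.unit.app ((CxOX.RgammaZ W.ι).obj (a.obj G).obj)) ≫
          (CxOX.RgammaZToId W.ι).app (a.obj G).obj) ≫
        (adj.counit.app G).hom) := by
  let K : DCoh.DQCoh c.Xbar := ⟨(DCoh.Rpush c.j).obj F, hj F hF⟩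
  have hA := Groth.Agent.S17639.bijective_aux c.j W hW adjj (a.obj G).obj θ hθ F hFZ
  have hB : Function.Bijective (fun h : K.obj ⟶ (a.obj G).obj =>
      (DCoh.Rpush c.fbar).map h ≫ (adj.counit.app G).hom) := by
    refine ⟨fun h h' e => ?_, fun g => ?_⟩
    · have := (adj.homEquiv K G).symm.injective
        (a₁ := ObjectProperty.homMk h) (a₂ := ObjectProperty.homMk h') (by
          rw [Adjunction.homEquiv_counit, Adjunction.homEquiv_counit]
          ext
          exact e)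
      exact congrArg (fun q => q.hom) this
    · refine ⟨(adj.homEquiv K G (ObjectProperty.homMk g)).hom, ?_⟩
      have := (adj.homEquiv K G).symm_apply_apply (ObjectProperty.homMk g)
      rw [Adjunction.homEquiv_counit] at this
      exact congrArg (fun q => q.hom) this
  exact hB.comp hA

end Groth.Agent.S17639
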