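import Groth.Statements.S17642
import Groth.Agent.Lib.ProjSpace.BaseChange
import Mathlib.AlgebraicGeometry.Morphisms.Immersion

set_option autoImplicit false
universe u
open CategoryTheory AlgebraicGeometry
open DerSch

namespace Groth.Agent.S17642

open Groth.Agent.Lib.ProjSpace Limits

theorem exists_immersion {X Y : Scheme.{u}} (f : X ⟶ Y) [LocallyOfFiniteType f] {U : X.Opens} (hU : IsAffineOpen U)
    {V : Y.Opens} (hV : IsAffineOpen V) (hUV : U ≤ f ⁻¹ᵁ V) :
    ∃ (n : ℕ) (j : (U : Scheme.{u}) ⟶ CohB1.ProjSpaceOver n Y),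
      IsImmersion j ∧ j ≫ CohB1.ProjSpaceOver.toBase n Y = U.ι ≫ f := by
  letI : Algebra Γ(Y, V) Γ(X, U) := (f.appLE V U hUV).hom.toAlgebra
  haveI : Algebra.FiniteType Γ(Y, V) Γ(X, U) :=
    HasRingHomProperty.appLE @LocallyOfFiniteType f inferInstance ⟨V, hV⟩ ⟨U, hU⟩ hUV
  obtain ⟨n, π, hπ⟩ := Algebra.FiniteType.iff_quotient_mvPolynomial''.1 this
  let c : Spec Γ(X, U) ⟶ Spec (CommRingCat.of (MvPolynomial (Fin n) Γ(Y, V))) :=
    Spec.map (CommRingCat.ofHom π.toRingHom)
  haveI : IsClosedImmersion c := IsClosedImmersion.spec_of_surjective _ hπ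
  haveI : IsOpenImmersion (BaseChange.overMap n hV.fromSpec) :=
    MorphismProperty.of_isPullback (P := @IsOpenImmersion) (BaseChange.isPullback_overMap n hV.fromSpec).flip
      inferInstance
  let d : Spec (CommRingCat.of (MvPolynomial (Fin n) Γ(Y, V))) ⟶ CohB1.ProjSpaceOver n Y :=
    Basic.chartι Γ(Y, V) 0 ≫ (BaseChange.overSpecIso n Γ(Y, V)).inv ≫ BaseChange.overMap n hV.fromSpec
  haveI : IsOpenImmersion d := inferInstance
  refine ⟨n, hU.isoSpec.hom ≫ c ≫ d, inferInstance, ?_⟩
  have hd : d ≫ CohB1.ProjSpaceOver.toBase n Y = Spec.map (CommRingCat.ofHom MvPolynomial.C) ≫ hV.fromSpec := by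
    simp only [d, Category.assoc, BaseChange.overMap_toBase]
    rw [BaseChange.overSpecIso_inv_toBase_assoc]
    exact Basic.chartι_toSpec_assoc _ _ _
  rw [Category.assoc, Category.assoc, hd, ← Category.assoc c, ← Spec.map_comp, ← CommRingCat.ofHom_comp]
  rw [show π.toRingHom.comp MvPolynomial.C = (f.appLE V U hUV).hom from RingHom.ext fun r => π.commutes r]
  show hU.isoSpec.hom ≫ Spec.map (f.appLE V U hUV) ≫ hV.fromSpec = _
  rw [IsAffineOpen.SpecMap_appLE_fromSpec f hV hU hUV, ← IsAffineOpen.isoSpec_inv_ι, Category.assoc,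
    Iso.hom_inv_id_assoc]

/-- Consider Noetherian schemes X and Y together with a morphism f : X ⟶ Y that is locally of finite
type. Given affine open subsets U ⊆ X and V ⊆ Y such that f(U) ⊆ V, the restriction of f to U can be
written as a composite U ⟶ W ⟶ P ⟶ Y in which the first map U ⟶ W is an open immersion, the middle
map W ⟶ P is a closed immersion, and the last map P ⟶ Y is both smooth and proper. In the published
section every morphism is taken to be separated as a standing convention; since the printed proof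
never uses this, no separatedness hypothesis appears here. -/
theorem result {X Y : Scheme.{u}}
    [IsNoetherian X] [IsNoetherian Y] (f : X ⟶ Y) [LocallyOfFiniteType f]
    (U : X.Opens) (hU : IsAffineOpen U) (V : Y.Opens) (hV : IsAffineOpen V) (hUV : U ≤ f ⁻¹ᵁ V) :
    ∃ (W P : Scheme.{u}) (g : (U : Scheme.{u}) ⟶ W) (h : W ⟶ P) (k : P ⟶ Y),
      IsOpenImmersion g ∧ IsClosedImmersion h ∧ Smooth k ∧ IsProper k ∧ g ≫ h ≫ k = U.ι ≫ f := by
  obtain ⟨n, j, hj, hjk⟩ := exists_immersion f hU hV hUV
  haveI := hj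
  haveI : IsLocallyNoetherian (CohB1.ProjSpaceOver n Y) :=
    LocallyOfFiniteType.isLocallyNoetherian (CohB1.ProjSpaceOver.toBase n Y)
  haveI : CompactSpace (U : Scheme.{u}) := isCompact_iff_compactSpace.mp hU.isCompact
  haveI : QuasiCompact j := inferInstance
  exact ⟨j.image, CohB1.ProjSpaceOver n Y, j.toImage, j.imageι, CohB1.ProjSpaceOver.toBase n Y, inferInstance,
    inferInstance, inferInstance, inferInstance, by rw [j.toImage_imageι_assoc, hjk]⟩

end Groth.Agent.S17642
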