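import Groth.Statements.S17643
import Groth.Agent.Lib.H75.TorFactor.Ring
import Groth.Agent.Lib.ProjSpace.Basic
import Mathlib.RingTheory.MvPolynomial.Localization
import Mathlib.RingTheory.Localization.LocalizationLocalization

set_option autoImplicit false
universe u
open CategoryTheory AlgebraicGeometry
attribute [local instance] HasDerivedCategory.standard
open DerSch

namespace Groth.Agent.S17643

open Groth.Agent.Lib.H75.TorFactor Groth.Agent.Lib.DR Groth.Agent.H54.PCRestrict
open Groth.Agent.Lib.DR.PseudoCoherent Groth.Agent.Lib.DR.FiniteComplex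

theorem bdd_flat_res_equiv' {X Y T : Scheme.{u}} (f : X ⟶ Y) (j : T ⟶ X) [IsOpenImmersion j] (x : T) {a b : ℤ}
    (h : Bdd (flat (Y.presheaf.stalk (f (j x)))) a b ((sgl _ 0).obj
      ((res (f.stalkMap (j x)).hom).obj (ModuleCat.of (X.presheaf.stalk (j x)) (X.presheaf.stalk (j x)))))) :
    Bdd (flat (Y.presheaf.stalk (f (j x)))) a b ((sgl _ 0).obj
      ((res ((j ≫ f).stalkMap x).hom).obj (ModuleCat.of (T.presheaf.stalk x) (T.presheaf.stalk x)))) := by
  rw [Scheme.Hom.stalkMap_comp]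
  erw [CommRingCat.hom_comp]
  exact Ring.bdd_flat_res_equiv _ (ConcreteCategory.bijective_of_isIso (j.stalkMap x)) _ h

theorem main {T Y : Scheme.{u}} {V : Y.Opens} (hV : IsAffineOpen V) (n : ℕ)
    (g : T ⟶ Spec (CommRingCat.of (MvPolynomial (Fin n) Γ(Y, V)))) (q : T ⟶ Y)
    (hq : q = g ≫ Spec.map (CommRingCat.ofHom MvPolynomial.C) ≫ hV.fromSpec) (x : T) {a b : ℤ}
    (h : Bdd (flat (Y.presheaf.stalk (q x))) a b ((sgl _ 0).obj
      ((res (q.stalkMap x).hom).obj (ModuleCat.of (T.presheaf.stalk x) (T.presheaf.stalk x))))) :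
    Bdd (flat ((Spec (CommRingCat.of (MvPolynomial (Fin n) Γ(Y, V)))).presheaf.stalk (g x))) (min a 0 - n) 0
      ((sgl _ 0).obj ((res (g.stalkMap x).hom).obj (ModuleCat.of (T.presheaf.stalk x) (T.presheaf.stalk x)))) := by
  subst hq
  let hh : Spec (CommRingCat.of (MvPolynomial (Fin n) Γ(Y, V))) ⟶ Y :=
    Spec.map (CommRingCat.ofHom MvPolynomial.C) ≫ hV.fromSpec
  let Pv := MvPolynomial (Fin n) Γ(Y, V)
  let w : Spec (CommRingCat.of Pv) := g x
  let R := Y.presheaf.stalk (hh w)
  let A := (Spec (CommRingCat.of Pv)).presheaf.stalk w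
  let α : R →+* A := (hh.stalkMap w).hom
  have hwV : hh w ∈ V := by
    have : hh w ∈ Set.range hV.fromSpec := ⟨Spec.map (CommRingCat.ofHom MvPolynomial.C) w, rfl⟩
    rwa [hV.range_fromSpec] at this
  let p := hV.primeIdealOf ⟨hh w, hwV⟩
  letI aR : Algebra Γ(Y, V) R := TopCat.Presheaf.algebra_section_stalk Y.presheaf (⟨hh w, hwV⟩ : V)
  haveI hR : IsLocalization.AtPrime R p.asIdeal := hV.isLocalization_stalk ⟨hh w, hwV⟩
  letI aA : Algebra Pv A := StructureSheaf.stalkAlgebra Pv w
  haveI hA : IsLocalization.AtPrime A w.asIdeal := StructureSheaf.IsLocalization.to_stalk _ w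
  have hgerm : ∀ r : Γ(Y, V), α (algebraMap Γ(Y, V) R r) = algebraMap Pv A (MvPolynomial.C r) := by
    intro r
    change hh.stalkMap w (Y.presheaf.germ V (hh w) hwV r) = _
    rw [Scheme.Hom.germ_stalkMap_apply]
    have key : hh.appLE V ⊤ (fun z _ => show hh z ∈ V by
          have : hh z ∈ Set.range hV.fromSpec := ⟨Spec.map (CommRingCat.ofHom MvPolynomial.C) z, rfl⟩
          rwa [hV.range_fromSpec] at this) r =
        (Scheme.ΓSpecIso (CommRingCat.of Pv)).inv (MvPolynomial.C r) := by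
      have e0 : (⊤ : (Spec Γ(Y, V)).Opens) ≤ hV.fromSpec ⁻¹ᵁ V := hV.fromSpec_preimage_self.ge
      have e1 : hh.appLE V ⊤ (fun z _ => e0 trivial) =
          hV.fromSpec.appLE V ⊤ e0 ≫ (Spec.map (CommRingCat.ofHom MvPolynomial.C)).appLE ⊤ ⊤ le_rfl :=
        (Scheme.Hom.appLE_comp_appLE _ _ _ _ _ _ _).symm
      have e2 : hV.fromSpec.appLE V ⊤ e0 = (Scheme.ΓSpecIso Γ(Y, V)).inv := by
        rw [Scheme.Hom.appLE, hV.fromSpec_app_self, Category.assoc, ← Functor.map_comp,
          Subsingleton.elim (_ ≫ _) (𝟙 _), CategoryTheory.Functor.map_id, Category.comp_id]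
      rw [e1, e2, ConcreteCategory.comp_apply]
      refine Eq.trans ?_ (congr($(Scheme.ΓSpecIso_inv_naturality (CommRingCat.ofHom (MvPolynomial.C : Γ(Y, V) →+* Pv))) r)).symm
      rw [ConcreteCategory.comp_apply]
      erw [← Scheme.Hom.app_eq_appLE]
      rfl
    refine Eq.trans ?_ (congrArg ((Spec (CommRingCat.of Pv)).presheaf.germ ⊤ w trivial) key)
    rw [Scheme.Hom.appLE, ConcreteCategory.comp_apply, TopCat.Presheaf.germ_res_apply]
  let θ : MvPolynomial (Fin n) R →+* A := MvPolynomial.eval₂Hom α fun i => algebraMap Pv A (MvPolynomial.X i)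
  letI : Algebra (MvPolynomial (Fin n) R) A := θ.toAlgebra
  letI : Algebra Pv (MvPolynomial (Fin n) R) := MvPolynomial.algebraMvPolynomial
  haveI : IsScalarTower Pv (MvPolynomial (Fin n) R) A := IsScalarTower.of_algebraMap_eq' (by
    refine MvPolynomial.ringHom_ext (fun r => ?_) fun i => ?_
    · rw [RingHom.comp_apply, MvPolynomial.algebraMap_def, MvPolynomial.map_C]
      exact (hgerm r).symm.trans (MvPolynomial.eval₂Hom_C α (fun i => algebraMap Pv A (MvPolynomial.X i)) _).symm
    · rw [RingHom.comp_apply, MvPolynomial.algebraMap_def, MvPolynomial.map_X]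
      exact (MvPolynomial.eval₂Hom_X' α (fun i => algebraMap Pv A (MvPolynomial.X i)) i).symm)
  have hle : p.asIdeal.primeCompl.map (MvPolynomial.C : Γ(Y, V) →+* Pv) ≤ w.asIdeal.primeCompl := by
    rintro _ ⟨r, hr, rfl⟩
    have hu : IsUnit (algebraMap Pv A (MvPolynomial.C r)) := by
      rw [← hgerm]
      exact (IsLocalization.map_units R (⟨r, hr⟩ : p.asIdeal.primeCompl)).map α
    exact (IsLocalization.AtPrime.isUnit_to_map_iff A w.asIdeal _).1 hu
  haveI := IsLocalization.isLocalization_of_submonoid_le (R := Pv) (MvPolynomial (Fin n) R) A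
    (p.asIdeal.primeCompl.map (MvPolynomial.C : Γ(Y, V) →+* Pv)) w.asIdeal.primeCompl hle
  refine Ring.bdd_flat_localized_poly α (g.stalkMap x).hom θ ?_ _ this (a := a) (b := b) ?_
  · exact RingHom.ext fun r => MvPolynomial.eval₂Hom_C α _ r
  · rw [Scheme.Hom.stalkMap_comp g hh x] at h
    erw [CommRingCat.hom_comp] at h
    exact h

/-- Let f : X ⟶ Y be a morphism of finite type between Noetherian schemes which is of finite
Tor-dimension (the structure sheaf of X, placed in degree 0, has finite tor amplitude stalkwise over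
the local rings of Y), U ⊆ X an affine open subset and V ⊆ Y an affine open subset with f(U) ⊆ V.
Then the restriction of f to U factors as U ⟶ W ⟶ Y with U ⟶ W a closed immersion of finite
Tor-dimension and W ⟶ Y smooth. The published section's standing conventions also take all morphisms
separated; the printed argument does not use this, so separatedness is not assumed here. -/
theorem result {X Y : Scheme.{u}}
    [IsNoetherian X] [IsNoetherian Y] (f : X ⟶ Y) [LocallyOfFiniteType f] (hf : DerSch.HasFiniteTorDim f)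
    (U : X.Opens) (hU : IsAffineOpen U) (V : Y.Opens) (hV : IsAffineOpen V) (hUV : U ≤ f ⁻¹ᵁ V) :
    ∃ (W : Scheme.{u}) (g : (U : Scheme.{u}) ⟶ W) (h : W ⟶ Y),
      IsClosedImmersion g ∧ DerSch.HasFiniteTorDim g ∧ Smooth h ∧ g ≫ h = U.ι ≫ f := by
  obtain ⟨a, b, hab⟩ := hf
  letI : Algebra Γ(Y, V) Γ(X, U) := (f.appLE V U hUV).hom.toAlgebra
  haveI : Algebra.FiniteType Γ(Y, V) Γ(X, U) :=
    HasRingHomProperty.appLE @LocallyOfFiniteType f inferInstance ⟨V, hV⟩ ⟨U, hU⟩ hUV
  obtain ⟨n, π, hπ⟩ := Algebra.FiniteType.iff_quotient_mvPolynomial''.1 this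
  let c := Spec.map (CommRingCat.ofHom π.toRingHom)
  let h : Spec (CommRingCat.of (MvPolynomial (Fin n) Γ(Y, V))) ⟶ Y :=
    Spec.map (CommRingCat.ofHom MvPolynomial.C) ≫ hV.fromSpec
  haveI : IsClosedImmersion (Spec.map (CommRingCat.ofHom π.toRingHom)) := IsClosedImmersion.spec_of_surjective _ hπ
  haveI : Smooth (Spec.map (CommRingCat.ofHom (MvPolynomial.C : Γ(Y, V) →+* MvPolynomial (Fin n) Γ(Y, V)))) := by
    rw [HasRingHomProperty.Spec_iff (P := @Smooth), ← MvPolynomial.algebraMap_eq]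
    haveI := Groth.Agent.Lib.ProjSpace.Basic.isStandardSmoothOfRelativeDimension_mvPolynomial (R := Γ(Y, V)) n
    haveI := Algebra.IsStandardSmoothOfRelativeDimension.isStandardSmooth (R := Γ(Y, V)) (S := MvPolynomial (Fin n) Γ(Y, V)) n
    exact (RingHom.smooth_algebraMap (R := Γ(Y, V)) (S := MvPolynomial (Fin n) Γ(Y, V))).2 inferInstance
  have hcomp : (hU.isoSpec.hom ≫ c) ≫ h = U.ι ≫ f := by
    simp only [c, h, Category.assoc]
    rw [← Spec.map_comp_assoc, ← CommRingCat.ofHom_comp,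
      show π.toRingHom.comp MvPolynomial.C = (f.appLE V U hUV).hom from RingHom.ext fun r => π.commutes r]
    show hU.isoSpec.hom ≫ Spec.map (f.appLE V U hUV) ≫ hV.fromSpec = _
    rw [IsAffineOpen.SpecMap_appLE_fromSpec f hV hU hUV, ← IsAffineOpen.isoSpec_inv_ι, Category.assoc,
      Iso.hom_inv_id_assoc]
  refine ⟨_, hU.isoSpec.hom ≫ c, h, inferInstance, ⟨min a 0 - n, 0, fun x => ?_⟩, inferInstance, hcomp⟩
  rw [Ring.hasTorAmplitudeAt_unitCx_iff]
  have hfx := (Ring.hasTorAmplitudeAt_unitCx_iff f (U.ι x) a b).1 (hab (U.ι x))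
  have hι := bdd_flat_res_equiv' f U.ι x hfx
  exact main hV n (hU.isoSpec.hom ≫ c) (U.ι ≫ f) hcomp.symm x hι

end Groth.Agent.S17643
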