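import Groth.Statements.S17647
import Groth.Agent.Lib.QCoh.Sections
import Groth.Agent.Lib.Modules.Support
import Groth.Agent.Lib.DerivedOX.OpenImm
import Mathlib.CategoryTheory.Localization.Adjunction
import Mathlib.CategoryTheory.Adjunction.Restrict

set_option autoImplicit false
universe u
open CategoryTheory CategoryTheory.Limits AlgebraicGeometry
open QCohCat

namespace Groth.Agent.S17647

/-- Let X be a scheme and U ⊆ X an open subset whose inclusion U ⟶ X is quasi-compact, Z = X ∖ U. Then
the restriction functor QCoh(X) ⥤ QCoh(U) between the categories of quasi-coherent modules is a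
localization functor for the class of morphisms of quasi-coherent O_X-modules whose kernel and
cokernel (computed in O_X-modules) have support contained in Z: the category QCoh(U) is the quotient
of QCoh(X) by the localizing subcategory of quasi-coherent modules supported in Z, the direct image
along U ⟶ X being the fully faithful right adjoint. No hypothesis is made on X beyond the
quasi-compactness of U ⟶ X. -/
theorem result (X : Scheme.{u})
    (U : X.Opens) [QuasiCompact U.ι] :
    (ObjectProperty.lift (QCohCat.isQCoh (↑U : Scheme.{u}))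
        (ObjectProperty.ι (QCohCat.isQCoh X) ⋙ Scheme.Modules.restrictFunctor U.ι)
        (fun M => @Scheme.Modules.isQuasicoherent_restrictFunctor (↑U : Scheme.{u}) X U.ι
          inferInstance M.obj M.property)).IsLocalization
      (fun (A B : QCohCat.QCoh X) (f : A ⟶ B) =>
        CohB1.support (kernel f.hom) ⊆ (↑U : Set X)ᶜ ∧
          CohB1.support (cokernel f.hom) ⊆ (↑U : Set X)ᶜ) := by
  haveI : QuasiSeparated U.ι := inferInstance
  let F := ObjectProperty.lift (QCohCat.isQCoh (↑U : Scheme.{u}))
        (ObjectProperty.ι (QCohCat.isQCoh X) ⋙ Scheme.Modules.restrictFunctor U.ι)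
        (fun M => @Scheme.Modules.isQuasicoherent_restrictFunctor (↑U : Scheme.{u}) X U.ι
          inferInstance M.obj M.property)
  let G : QCohCat.QCoh (↑U : Scheme.{u}) ⥤ QCohCat.QCoh X := ObjectProperty.lift (QCohCat.isQCoh X)
    (ObjectProperty.ι (QCohCat.isQCoh (↑U : Scheme.{u})) ⋙ Scheme.Modules.pushforward U.ι)
    (fun M => @Groth.Agent.Lib.QCoh.Pushforward.isQCoh_pushforward _ _ U.ι M.obj _ _ M.property)
  let adj : F ⊣ G := (Scheme.Modules.restrictAdjunction U.ι).restrictFullyFaithful
    (ObjectProperty.fullyFaithfulι _) (ObjectProperty.fullyFaithfulι _) (Iso.refl _) (Iso.refl _)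
  haveI : G.Full := inferInstanceAs (ObjectProperty.lift _ _ _).Full
  haveI : G.Faithful := inferInstanceAs (ObjectProperty.lift _ _ _).Faithful
  have hl := adj.isLocalization
  convert hl using 1
  funext A B f
  refine propext ?_
  let r := Scheme.Modules.restrictFunctor U.ι
  have hiso : IsIso (F.map f) ↔ IsIso (r.map f.hom) :=
    ⟨fun _ => Functor.map_isIso (ObjectProperty.ι _) (F.map f), fun h => by
      haveI : IsIso ((ObjectProperty.ι _).map (F.map f)) := h
      exact isIso_of_reflects_iso (F.map f) (ObjectProperty.ι _)⟩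
  change _ ↔ IsIso (F.map f)
  rw [hiso]
  have hk : ∀ (M : X.Modules), CohB1.support M ⊆ (↑U : Set X)ᶜ ↔ Limits.IsZero (r.obj M) := by
    intro M
    rw [← Groth.Agent.Lib.Modules.Support.support_eq_empty_iff,
      Groth.Agent.Lib.Modules.Support.support_restrict]
    refine ⟨fun h => Set.eq_empty_iff_forall_notMem.mpr fun x hx => h hx x.2, fun h x hx hxU => ?_⟩
    exact Set.eq_empty_iff_forall_notMem.mp h ⟨x, hxU⟩ hx
  rw [hk, hk, (PreservesKernel.iso r f.hom).isZero_iff, (PreservesCokernel.iso r f.hom).isZero_iff]
  constructor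
  · rintro ⟨h1, h2⟩
    haveI : Mono (r.map f.hom) := Preadditive.mono_of_isZero_kernel _ h1
    haveI : Epi (r.map f.hom) := Preadditive.epi_of_isZero_cokernel _ h2
    exact isIso_of_mono_of_epi _
  · intro h
    exact ⟨isZero_kernel_of_mono _, isZero_cokernel_of_epi _⟩

end Groth.Agent.S17647
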