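import Groth.Statements.S17649
import Groth.Agent.Lib.CohDelta.IdealMul.DevTools
import Groth.Agent.Lib.Modules.Local
import Groth.Agent.Lib.Modules.Support
import Groth.Agent.H52.DevSummand
import Groth.Agent.Lib.QCoh.Closure
import Groth.Agent.Lib.QCoh.Pushforward

set_option autoImplicit false
universe u
open CategoryTheory CategoryTheory.Limits AlgebraicGeometry
open QCohCat

namespace Groth.Agent.S17649

open Groth.Agent.Lib Groth.Agent.Lib.Modules.StalkModule Groth.Agent.Lib.CohDelta.IdealMul
open CategoryTheory CategoryTheory.Limits AlgebraicGeometry TopologicalSpace Opposite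
set_option linter.style.haveILetI false

theorem isZero_restrict_iff {X : Scheme.{u}} (W : X.Opens) (M : X.Modules) :
    IsZero ((Scheme.Modules.restrictFunctor W.ι).obj M) ↔ ∀ x ∈ W, x ∉ CohB1.support M := by
  refine Modules.Support.support_eq_empty_iff.symm.trans ?_
  rw [show CohB1.support ((Scheme.Modules.restrictFunctor W.ι).obj M) =
    W.ι ⁻¹' CohB1.support M from Modules.Support.support_restrict W.ι M]
  exact ⟨fun h x hx hM => (Set.eq_empty_iff_forall_notMem.mp h) (⟨x, hx⟩ : (W : Scheme.{u})) hM,
    fun h => Set.eq_empty_iff_forall_notMem.mpr fun z hz => h (W.ι z) z.2 hz⟩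

/-- Suppose the scheme X is quasi-compact and quasi-separated, and take two quasi-compact opens U, V ⊆
X. Given a quasi-compact open W, denote by S_W the class of quasi-coherent O_X-modules that restrict
to zero on W. Then S_{U ∩ V} is the smallest localizing subcategory of Qcoh(X) that contains both
S_U and S_V; concretely (this is the inclusion that is not formal): any quasi-coherent O_X-module F
satisfying F|_{U ∩ V} = 0 arises as an extension of a quasi-coherent module that is zero on V by a
quasi-coherent submodule that is zero on U — one can find a monomorphism A ⟶ F where A is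
quasi-coherent, A|_U = 0 and (F/A)|_V = 0. -/
theorem result {X : Scheme.{u}}
    [CompactSpace X] [QuasiSeparatedSpace X] (U V : X.Opens) [QuasiCompact U.ι] [QuasiCompact V.ι]
    (F : X.Modules) (hF : Coh.IsQCoh F) (h : IsZero ((Scheme.Modules.restrictFunctor (U ⊓ V).ι).obj F)) :
    ∃ (A : X.Modules) (i : A ⟶ F), Mono i ∧ Coh.IsQCoh A ∧
      IsZero ((Scheme.Modules.restrictFunctor U.ι).obj A) ∧
      IsZero ((Scheme.Modules.restrictFunctor V.ι).obj (cokernel i)) := by
  haveI : F.IsQuasicoherent := hF
  haveI : (F.restrict U.ι).IsQuasicoherent := inferInstance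
  let P := Scheme.Modules.pushforward U.ι
  let R := Scheme.Modules.restrictFunctor U.ι
  let adj := Scheme.Modules.restrictAdjunction U.ι
  haveI : (P.obj (R.obj F)).IsQuasicoherent := QCoh.Pushforward.isQCoh_pushforward U.ι (M := R.obj F)
  let η : F ⟶ P.obj (R.obj F) := adj.unit.app F
  haveI hη : IsIso (R.map η) := by
    haveI : IsIso (R.map η ≫ adj.counit.app (R.obj F)) := by
      rw [adj.left_triangle_components F]
      exact IsIso.id (R.obj F)
    exact IsIso.of_isIso_comp_right _ (adj.counit.app (R.obj F))
  refine ⟨kernel η, kernel.ι η, inferInstance, QCoh.Closure.isQCoh_kernel η, ?_, ?_⟩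
  · refine IsZero.of_mono_eq_zero (R.map (kernel.ι η)) ?_
    rw [← cancel_mono (R.map η), ← R.map_comp, kernel.condition, R.map_zero, zero_comp]
  · refine (isZero_restrict_iff V _).mpr fun x hx => ?_
    refine Groth.Agent.H52.DevSummand.not_mem_support_cokernel (kernel.ι η) fun v => ?_
    refine Exists.imp (fun _ => id) (Groth.Agent.H52.DevSummand.eq_stalk_kernel η v ?_)
    obtain ⟨O, hxO, s, rfl⟩ := TopCat.Presheaf.exists_germ_eq F.presheaf v
    let W : X.Opens := O ⊓ V
    have hxW : x ∈ W := ⟨hxO, hx⟩
    rw [← TopCat.Presheaf.germ_res_apply _ (homOfLE (inf_le_left : W ≤ O)) x hxW s,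
      stalkMapₗ_germ]
    set t := F.presheaf.map (homOfLE (inf_le_left : W ≤ O)).op s
    have hz : η.app W t = 0 := by
      refine Modules.Support.eq_zero_of_germ_eq_zero (M := F) (U := U.ι ''ᵁ U.ι ⁻¹ᵁ W) _
        fun z hz hzs => ?_
      obtain ⟨w, hw, rfl⟩ := hz
      exact absurd hzs ((isZero_restrict_iff (U ⊓ V) F).mp h (U.ι w) ⟨w.2, hw.2⟩)
    rw [hz, map_zero]

end Groth.Agent.S17649
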