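import Groth.Statements.S17651
import Groth.Agent.H34.DefAmple
import Groth.Agent.Lib.ClSub.Sections
import Groth.Agent.Lib.ClSub.Quot
import Groth.Agent.H75.RedSub
import Mathlib.FieldTheory.IsAlgClosed.Basic

set_option autoImplicit false
universe u
open CategoryTheory CategoryTheory.Limits AlgebraicGeometry TopologicalSpace
open Curves

namespace Groth.Agent.S17651

lemma constants_surjective {k : Type u} [Field k] [IsAlgClosed k] {Z : Scheme.{u}}
    (f : Z ⟶ Spec (CommRingCat.of k)) [IsIntegral Z] [IsProper f] : Function.Surjective f.appTop := by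
  have hfld : IsField Γ(Z, ⊤) := isField_of_universallyClosed k f
  letI := hfld.toField
  let φ : k →+* Γ(Z, ⊤) := f.appTop.hom.comp (Scheme.ΓSpecIso (CommRingCat.of k)).inv.hom
  letI : Algebra k Γ(Z, ⊤) := φ.toAlgebra
  have hfin : φ.Finite := (finite_appTop_of_universallyClosed k f).comp
    (RingHom.Finite.of_surjective _
      ((Scheme.ΓSpecIso (CommRingCat.of k)).symm.commRingCatIsoToRingEquiv.surjective))
  haveI : Module.Finite k Γ(Z, ⊤) := hfin
  haveI : Algebra.IsIntegral k Γ(Z, ⊤) := inferInstance
  exact fun z => let ⟨c, hc⟩ := (IsAlgClosed.algebraMap_bijective_of_isIntegral (k := k) (K := Γ(Z, ⊤))).2 z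
    ⟨_, hc⟩

/-- Let k be an algebraically closed field and B a connected scheme, proper over k, of dimension one,
with at-worst-nodal singularities and with H^1(B, O_B) = 0. Let E be a finite locally free
O_B-module generated by its global sections and p a closed point of B, with I_p the ideal sheaf of
functions vanishing at p. Then H^1(B, E ⊗ I_p) = 0; since E is locally free, E ⊗ I_p is the
submodule I_p E of sections vanishing at p. (The source works over the complex numbers; the
statement and its proof are unchanged over any algebraically closed field.) -/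
theorem result (k : Type u) [Field k] [IsAlgClosed k]
    (B : Scheme.{u}) [B.Over (Spec (CommRingCat.of k))] [IsProper (B ↘ Spec (CommRingCat.of k))]
    [ConnectedSpace ↥B] (hdim : topologicalKrullDim ↥B = 1) (hnod : Curv2.AtWorstNodal k B)
    (hg : Subsingleton (Coh.HH B (Coh.structureModule B) 1))
    (E : B.Modules) (hE : FlatMod.IsFinLocFree E) (hgg : Curv2.IsGloballyGenerated E)
    (p : ↥B) (hp : IsClosed ({p} : Set ↥B)) :
    Subsingleton (Coh.HH B (CohB1.tensorMod E
      (ClSub.idealMod (Scheme.IdealSheafData.vanishingIdeal (⟨{p}, hp⟩ : Closeds ↥B)))) 1) := by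
  have := H34.DefAmple.isLocallyNoetherian_of_proper (B ↘ Spec (CommRingCat.of k))
  have := H34.DefAmple.compactSpace_of_proper (B ↘ Spec (CommRingCat.of k))
  let I := Scheme.IdealSheafData.vanishingIdeal (⟨{p}, hp⟩ : Closeds ↥B)
  have : AlgebraicGeometry.IsReduced I.subscheme := H75.RedSub.isReduced_vanishingIdeal _
  have hran : Set.range I.subschemeι = ({p} : Set ↥B) := by
    rw [Scheme.IdealSheafData.range_subschemeι]
    rfl
  have : Nonempty I.subscheme := by
    obtain ⟨z, -⟩ : p ∈ Set.range I.subschemeι := by rw [hran]; rfl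
    exact ⟨z⟩
  have : Subsingleton I.subscheme := ⟨fun a b => I.subschemeι.isClosedEmbedding.injective
    (((Set.ext_iff.1 hran _).1 ⟨a, rfl⟩).trans ((Set.ext_iff.1 hran _).1 ⟨b, rfl⟩).symm)⟩
  have : IrreducibleSpace I.subscheme := { toPreirreducibleSpace := inferInstance, toNonempty := ‹_› }
  have : IsIntegral I.subscheme := isIntegral_of_irreducibleSpace_of_isReduced _
  have hI : Subsingleton (Coh.HH B (ClSub.idealMod I) 1) := by
    refine H34.HOne.h1_of_surjective (Groth.Agent.Lib.ClSub.Quot.idealSeq_shortExact I) hg fun q => ?_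
    obtain ⟨c, hc⟩ := constants_surjective (I.subschemeι ≫ (B ↘ Spec (CommRingCat.of k)))
      (show Γ(I.subscheme, ⊤) from q)
    exact ⟨(B ↘ Spec (CommRingCat.of k)).appTop c,
      (Groth.Agent.Lib.ClSub.Sections.toSubscheme_app I ⊤ _).trans hc⟩
  obtain ⟨m, φ, hφ⟩ := H34.GlobGen.exists_free_epi hE hgg
  have hepi := @H34.HOne.epi_tensor B (ClSub.idealMod I) _ _ φ hφ
  refine @H34.HOne.h1_of_epi B _ _ hdim.le _ _ ((Groth.Agent.Lib.TensorMod.Basic.tensorBy (ClSub.idealMod I)).map φ) hepi ?_
  exact
    (H34.DefAmple.h1_map_sigma (Groth.Agent.Lib.TensorMod.Basic.tensorBy (ClSub.idealMod I)) m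
      (Coh.structureModule B)
      (H34.HOne.h1_of_iso (Groth.Agent.Lib.TensorMod.Basic.leftUnit (ClSub.idealMod I)).symm hI))

end Groth.Agent.S17651
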