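import Groth.Statements.S17653
import Groth.Agent.H46.DimData
import Mathlib.AlgebraicGeometry.ZariskisMainTheorem

set_option autoImplicit false
universe u
open CategoryTheory CategoryTheory.Limits AlgebraicGeometry TopologicalSpace
open Variety

namespace Groth.Agent.S17653

open Groth.Agent.Lib.Cyc Groth.Agent.H46.DimData Groth.Agent.H46.FibreTrdeg Order Topology

theorem exists_gen {X : Scheme.{u}} (l : LTSeries (IrreducibleCloseds ↥X)) :
    ∃ p : Fin (l.length + 1) → X, (∀ i, IsGenericPoint (p i) (l i : Set X)) ∧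
      (∀ i j, i ≤ j → p j ⤳ p i) ∧ Function.Injective p := by
  choose p hp using fun i => QuasiSober.sober (l i).isIrreducible (l i).isClosed
  refine ⟨p, hp, fun i j hij => (hp j).specializes ((l.monotone hij : (l i : Set X) ⊆ l j) (hp i).mem),
    fun i j h => ?_⟩
  refine l.strictMono.injective (SetLike.coe_injective ?_)
  rw [← (hp i).def, ← (hp j).def, h]

set_option backward.isDefEq.respectTransparency.types false in
/-- Quasi-finiteness at a point forces residual transcendence degree zero. -/
theorem trd_eq_zero {X Y : Scheme.{u}} (f : X ⟶ Y) [LocallyOfFiniteType f] {x : X}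
    (h : IsOpen ({f.asFiber x} : Set (f.fiber (f x)))) : trd f x = 0 := by
  haveI : JacobsonSpace ↥(f.fiber (f x)) :=
    LocallyOfFiniteType.jacobsonSpace (f.fiberToSpecResidueField (f x))
  have hc : IsClosed ({f.asFiber x} : Set (f.fiber (f x))) :=
    isClosed_singleton_of_isLocallyClosed_singleton h.isLocallyClosed
  have h0 := fdelta_fiber f (f x) (f.asFiber x)
  rw [FieldDim.fdelta_of_isClosed (K := Y.residueField (f x)) (f.fiberToSpecResidueField (f x))
    (f.asFiber x) hc, Scheme.Hom.fiberι_asFiber] at h0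
  exact_mod_cast h0.symm

theorem length_le_qd {X : Scheme.{u}} [IsLocallyNoetherian X] {η : X} {n : ℕ}
    (p : Fin (n + 1) → X) (hp : ∀ i j, i ≤ j → p j ⤳ p i) (hinj : Function.Injective p)
    (hη : ∀ i, η ⤳ p i) : n ≤ qd (hη 0) := by
  have hk : ∀ k : ℕ, ∀ hk : k ≤ n, k ≤ qd (hp 0 ⟨k, by omega⟩ (Fin.zero_le _)) := by
    intro k
    induction k with
    | zero => intro _; exact Nat.zero_le _
    | succ k ih =>
      intro hk
      have h1 := ih (by omega)
      have h2 := qd_lt (hp 0 ⟨k, by omega⟩ (Fin.zero_le _)) (hp 0 ⟨k + 1, by omega⟩ (Fin.zero_le _))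
        (hp ⟨k, by omega⟩ ⟨k + 1, by omega⟩ (Fin.mk_le_mk.mpr (Nat.le_succ k)))
        (fun h => absurd (hinj h) (by simp))
      omega
  have h1 := hk n le_rfl
  rcases eq_or_ne η (p ⟨n, by omega⟩) with rfl | hne
  · exact h1
  · exact h1.trans (qd_lt _ _ (hη _) hne).le

theorem qd_le_dim {X : Scheme.{u}} [IsLocallyNoetherian X] {η z : X} (h : η ⤳ z) (S : Set X)
    (hS : closure {η} ⊆ S) : (qd h : WithBot ℕ∞) ≤ topologicalKrullDim ↥S := by
  rw [← ringKrullDim_locQuot h, ← PrimeSpectrum.topologicalKrullDim_eq_ringKrullDim]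
  let π := Ideal.Quotient.mk (RingHom.ker (Cyc.specMap z η h))
  let j : PrimeSpectrum (Cyc.LocQuot z η h) → X := fun q =>
    X.fromSpecStalk z (PrimeSpectrum.comap π q)
  have hemb : IsEmbedding j :=
    (X.fromSpecStalk z).isEmbedding.comp
      (PrimeSpectrum.isClosedEmbedding_comap_of_surjective _ π Ideal.Quotient.mk_surjective).isEmbedding
  have hmem : ∀ q, j q ∈ S := fun q => hS (by
    refine specializes_iff_mem_closure.mp ?_
    show η ⤳ X.fromSpecStalk z (PrimeSpectrum.comap π q)
    conv_lhs => rw [← DimFun.fromSpecStalk_genPrime z η h]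
    rw [DimFun.fromSpecStalk_specializes_iff]
    intro a ha
    show π a ∈ q.asIdeal
    rw [show π a = 0 from Ideal.Quotient.eq_zero_iff_mem.mpr ha]
    exact q.asIdeal.zero_mem)
  exact (hemb.codRestrict S hmem).isInducing.topologicalKrullDim_le

theorem topologicalKrullDim_le_of_components {Y : Scheme.{u}} (d : WithBot ℕ∞)
    (hY : ∀ Z ∈ irreducibleComponents ↥Y, topologicalKrullDim ↥Z = d) :
    topologicalKrullDim ↥Y ≤ d := by
  refine iSup_le fun l => ?_
  obtain ⟨p, hp, hsp, hinj⟩ := exists_gen l
  obtain ⟨Z, hZ, hle⟩ := exists_mem_irreducibleComponents_subset_of_isIrreducible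
    (l.last : Set Y) l.last.isIrreducible
  rw [← hY Z hZ]
  have hmem : ∀ i, p i ∈ Z := fun i =>
    hle ((l.monotone (Fin.le_last i) : (l i : Set Y) ⊆ l.last) (hp i).mem)
  let q : Fin (l.length + 1) → Z := fun i => ⟨p i, hmem i⟩
  refine le_iSup_of_le (LTSeries.mk l.length
    (fun i => (⟨closure {q i}, isIrreducible_singleton.closure, isClosed_closure⟩ :
      IrreducibleCloseds Z)) fun i j hij => ?_) le_rfl
  have hs : q j ⤳ q i := (subtype_specializes_iff _ _).mpr (hsp i j hij.le)
  refine lt_iff_le_not_ge.mpr ⟨hs.closure_subset, fun hge => ?_⟩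
  have hs' : q i ⤳ q j := specializes_iff_mem_closure.mpr (hge (subset_closure rfl))
  exact hij.ne (hinj (((subtype_specializes_iff _ _).mp hs').antisymm
    ((subtype_specializes_iff _ _).mp hs)).eq)

/-- Suppose X and Y are locally Noetherian schemes of the same pure dimension d (every irreducible
component of X and every irreducible component of Y has topological Krull dimension d), and π : X →
Y is a proper morphism between them. If there is a point x of X which is isolated in its fibre
π⁻¹(π(x)), i.e. some open neighbourhood of x meets that fibre only in x, then the image of π, with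
the subspace topology, has the same dimension as Y. -/
theorem result
    (X Y : Scheme.{u}) [IsLocallyNoetherian X] [IsLocallyNoetherian Y] (π : X ⟶ Y) [IsProper π]
    (d : WithBot ℕ∞) (hX : ∀ Z ∈ irreducibleComponents ↥X, topologicalKrullDim ↥Z = d)
    (hY : ∀ Z ∈ irreducibleComponents ↥Y, topologicalKrullDim ↥Z = d)
    (x : ↥X) (hx : ∃ U : X.Opens, x ∈ U ∧ ∀ x' ∈ U, π x' = π x → x' = x) :
    topologicalKrullDim ↥(Set.range (fun z : ↥X => π z)) = topologicalKrullDim ↥Y := by
  obtain ⟨U, hxU, hU⟩ := hx
  have hxo : IsOpen ({π.asFiber x} : Set (π.fiber (π x))) := by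
    have : ({π.asFiber x} : Set (π.fiber (π x))) = (π.fiberι (π x)) ⁻¹' U := by
      ext z
      refine ⟨fun h => by rw [Set.mem_singleton_iff.mp h]; simpa using hxU, fun h => ?_⟩
      refine (π.fiberι (π x)).isEmbedding.injective ?_
      rw [Scheme.Hom.fiberι_asFiber]
      exact hU _ h (FieldDim.apply_fiberι π _ z)
    rw [this]
    exact U.2.preimage (π.fiberι (π x)).continuous
  obtain ⟨C, hC, hxC⟩ := exists_mem_irreducibleComponents_subset_of_isIrreducible
    ({x} : Set X) isIrreducible_singleton
  obtain ⟨η, hη⟩ := QuasiSober.sober hC.1 (isClosed_of_mem_irreducibleComponents C hC)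
  have hηx : η ⤳ x := hη.specializes (hxC rfl)
  have hq : π.QuasiFiniteAt η :=
    Scheme.Hom.mem_quasiFiniteLocus.mp (hηx.mem_open π.quasiFiniteLocus.2
      (Scheme.Hom.mem_quasiFiniteLocus.mpr
        (Scheme.Hom.quasiFiniteAt_iff_isOpen_singleton_asFiber.mpr hxo)))
  have htrd : trd π η = 0 :=
    trd_eq_zero π (Scheme.Hom.quasiFiniteAt_iff_isOpen_singleton_asFiber.mp hq)
  refine le_antisymm (topologicalKrullDim_subspace_le _ _)
    ((topologicalKrullDim_le_of_components d hY).trans ?_)
  rw [← hX C hC]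
  refine iSup_le fun l => ?_
  -- points of a chain in `C`
  let m : LTSeries (IrreducibleCloseds X) := l.map _
    (IrreducibleCloseds.map_strictMono_of_isInducing IsInducing.subtypeVal)
  obtain ⟨p, hp, hsp, hinj⟩ := exists_gen m
  have hηp : ∀ i, η ⤳ p i := fun i => hη.specializes (by
    have h1 : (m i : Set X) ⊆ C := closure_minimal (fun _ ⟨z, _, hz⟩ => hz ▸ z.2)
      (isClosed_of_mem_irreducibleComponents C hC)
    exact h1 (hp i).mem)
  have h1 := length_le_qd p hsp hinj hηp
  have h2 := qd_ineq π (hηp 0)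
  have h3 : m.length ≤ qd ((hηp 0).map π.continuous) := by omega
  refine le_trans ?_ (qd_le_dim ((hηp 0).map π.continuous) (Set.range fun z : X => π z) ?_)
  · exact_mod_cast h3
  · exact closure_minimal (Set.singleton_subset_iff.mpr ⟨η, rfl⟩) π.isClosedMap.isClosed_range

end Groth.Agent.S17653
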