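import Groth.Statements.S17658
import Mathlib.RingTheory.MvPolynomial.MonomialOrder
import Mathlib.Algebra.Algebra.Operations

set_option autoImplicit false
universe u
open Surf

namespace Groth.Agent.S17658

/-- In the polynomial ring k[T₀,T₁,U,V] over a field k, bigraded by deg T₀ = deg T₁ = (0,1), deg U =
(1,−1), deg V = (1,0) (the Cox ring of the Hirzebruch surface F₁; its piece of bidegree (a,b) is the
space of sections of O(a(E+F)+bF)), let S_(a,b) denote the k-span of the monomials of bidegree
(a,b), so that S_(0,c) is the space of forms of degree c in T₀, T₁. A subspace W ⊆ S_(a,b) is called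
c-generating when W·S_(0,c) = S_(a,b+c). Fix a monomial order and natural numbers a, b, c, and let
W₀(a,b,c) be the set of monomials U^i V^(a−i) T₀^(b+i−j(c+1)) T₁^(j(c+1)) with 0 ≤ i ≤ a, j ≥ 0 and
j(c+1) < b+i, together with the monomials U^i V^(a−i) T₁^(b+i) with 0 ≤ i ≤ a. If every monomial of
W₀(a,b,c) is the leading monomial of some nonzero element of W, then W is c-generating. (The source
fixes the graded lexicographic order with U > V > T₀ > T₁ and works over the complex numbers; its
argument uses only that leading monomials are multiplicative and that W₀(a,b,c)·S_(0,c) contains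
every monomial of S_(a,b+c), so any monomial order and any field are allowed here. The printed index
j runs from 1; with that range the statement fails already for a = 0, b = c = 1 and W spanned by T₁,
and the range from 0 used here is the one matching the accompanying dimension count.) Variables are
indexed T₀ = 0, T₁ = 1, U = 2, V = 3. -/
theorem result (k : Type u) [Field k]
    (mo : MonomialOrder (Fin 4)) (a b c : ℕ) (W : Submodule k (MvPolynomial (Fin 4) k))
    (hW : W ≤ Submodule.span k {f : MvPolynomial (Fin 4) k | ∃ e : Fin 4 →₀ ℕ, e 2 + e 3 = a ∧ e 0 + e 1 = b + e 2 ∧ f = MvPolynomial.monomial e 1})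
    (h₁ : ∀ i j : ℕ, i ≤ a → j * (c + 1) < b + i → ∃ w ∈ W, w ≠ 0 ∧
      mo.degree w = Finsupp.single 0 (b + i - j * (c + 1)) + Finsupp.single 1 (j * (c + 1)) +
        Finsupp.single 2 i + Finsupp.single 3 (a - i))
    (h₂ : ∀ i : ℕ, i ≤ a → ∃ w ∈ W, w ≠ 0 ∧
      mo.degree w = Finsupp.single 1 (b + i) + Finsupp.single 2 i + Finsupp.single 3 (a - i)) :
    W * Submodule.span k {f : MvPolynomial (Fin 4) k | ∃ e : Fin 4 →₀ ℕ, e 2 + e 3 = 0 ∧ e 0 + e 1 = c + e 2 ∧ f = MvPolynomial.monomial e 1} =
      Submodule.span k {f : MvPolynomial (Fin 4) k | ∃ e : Fin 4 →₀ ℕ, e 2 + e 3 = a ∧ e 0 + e 1 = (b + c) + e 2 ∧ f = MvPolynomial.monomial e 1} := by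
  classical
  let M : ℕ → ℕ → Set (Fin 4 →₀ ℕ) := fun a' b' => {e | e 2 + e 3 = a' ∧ e 0 + e 1 = b' + e 2}
  let Sp : ℕ → ℕ → Submodule k (MvPolynomial (Fin 4) k) := fun a' b' =>
    Submodule.span k {f | ∃ e : Fin 4 →₀ ℕ, e 2 + e 3 = a' ∧ e 0 + e 1 = b' + e 2 ∧
      f = MvPolynomial.monomial e 1}
  have supp : ∀ a' b', ∀ p ∈ Sp a' b', ∀ e ∈ p.support, e ∈ M a' b' := by
    intro a' b' p hp
    induction hp using Submodule.span_induction with
    | mem f hf =>
      obtain ⟨e, h1, h2, rfl⟩ := hf
      intro e' he'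
      have := MvPolynomial.support_monomial_subset he'
      simp only [Finset.mem_singleton] at this
      subst this
      exact ⟨h1, h2⟩
    | zero => simp
    | add f g _ _ hf hg =>
      intro e he
      rcases Finset.mem_union.1 (MvPolynomial.support_add he) with h | h
      · exact hf e h
      · exact hg e h
    | smul r f _ hf => exact fun e he => hf e (MvPolynomial.support_smul he)
  show W * Sp 0 c = Sp a (b + c)
  have hle : W * Sp 0 c ≤ Sp a (b + c) := by
    refine (mul_le_mul' hW le_rfl).trans ?_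
    simp only [Sp, Submodule.span_mul_span]
    refine Submodule.span_mono ?_
    rintro _ ⟨_, ⟨e, h1, h2, rfl⟩, _, ⟨e', h1', h2', rfl⟩, rfl⟩
    refine ⟨e + e', ?_, ?_, ?_⟩
    · simp only [Finsupp.add_apply]; omega
    · simp only [Finsupp.add_apply]; omega
    · simp [MvPolynomial.monomial_mul]
  refine le_antisymm hle ?_
  -- every monomial of the target is a leading monomial of an element of the product
  have lead : ∀ e ∈ M a (b + c), ∃ p ∈ W * Sp 0 c, p ≠ 0 ∧ mo.degree p = e := by
    rintro e ⟨h23, h01⟩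
    have mk : ∀ (w : MvPolynomial (Fin 4) k) (r₀ r₁ : ℕ), w ∈ W → w ≠ 0 → r₀ + r₁ = c →
        mo.degree w + (Finsupp.single 0 r₀ + Finsupp.single 1 r₁) = e →
        ∃ p ∈ W * Sp 0 c, p ≠ 0 ∧ mo.degree p = e := by
      intro w r₀ r₁ hw hw0 hr he
      have hm : (MvPolynomial.monomial (Finsupp.single 0 r₀ + Finsupp.single 1 r₁) (1 : k)) ∈
          Sp 0 c := Submodule.subset_span
        ⟨_, by simp, by simp [Finsupp.single_apply, hr], rfl⟩
      refine ⟨_, Submodule.mul_mem_mul hw hm, mul_ne_zero hw0 (by simp), ?_⟩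
      rw [mo.degree_mul hw0 (by simp), mo.degree_monomial]
      simpa using he
    have hi : e 2 ≤ a := by omega
    by_cases hn : b + e 2 ≤ e 1
    · obtain ⟨w, hw, hw0, hd⟩ := h₂ (e 2) hi
      refine mk w (e 0) (e 1 - (b + e 2)) hw hw0 (by omega) ?_
      rw [hd]
      ext i
      fin_cases i <;> simp [Finsupp.single_apply] <;> omega
    · have hj : e 1 / (c + 1) * (c + 1) + e 1 % (c + 1) = e 1 := by
        rw [mul_comm]; exact Nat.div_add_mod _ _
      have hmod : e 1 % (c + 1) ≤ c := Nat.lt_succ_iff.1 (Nat.mod_lt _ (by omega))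
      generalize e 1 / (c + 1) = j at hj
      generalize e 1 % (c + 1) = r at hj hmod
      obtain ⟨w, hw, hw0, hd⟩ := h₁ (e 2) j hi (by omega)
      refine mk w (c - r) r hw hw0 (by omega) ?_
      rw [hd]
      ext i
      fin_cases i <;> simp [Finsupp.single_apply] <;> omega
  have key : ∀ s : mo.syn, ∀ e : Fin 4 →₀ ℕ, mo.toSyn e = s → e ∈ M a (b + c) →
      MvPolynomial.monomial e (1 : k) ∈ W * Sp 0 c := by
    intro s
    induction s using WellFoundedLT.induction with
    | _ s ih =>
      intro e hes he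
      obtain ⟨p, hp, hp0, hpd⟩ := lead e he
      have hsum : p = ∑ d ∈ p.support, MvPolynomial.coeff d p • MvPolynomial.monomial d (1 : k) := by
        conv_lhs => rw [MvPolynomial.as_sum p]
        simp [MvPolynomial.smul_monomial]
      have hmem : e ∈ p.support := by
        rw [← hpd]; exact (mo.degree_mem_support_iff p).2 hp0
      have hrest : ∑ d ∈ p.support.erase e, MvPolynomial.coeff d p • MvPolynomial.monomial d (1 : k)
          ∈ W * Sp 0 c := by
        refine Submodule.sum_mem _ fun d hd => Submodule.smul_mem _ _ ?_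
        obtain ⟨hne, hd⟩ := Finset.mem_erase.1 hd
        refine ih (mo.toSyn d) ?_ d rfl (supp _ _ p (hle hp) d hd)
        rw [← hes, ← hpd]
        exact lt_of_le_of_ne (mo.le_degree hd) fun h => hne ((mo.toSyn.injective h).trans hpd)
      rw [← Finset.add_sum_erase _ _ hmem] at hsum
      have hc : MvPolynomial.coeff e p • MvPolynomial.monomial e (1 : k) ∈ W * Sp 0 c := by
        rw [eq_sub_of_add_eq hsum.symm]
        exact Submodule.sub_mem _ hp hrest
      exact (Submodule.smul_mem_iff _ (MvPolynomial.mem_support_iff.1 hmem)).1 hc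
  refine Submodule.span_le.2 ?_
  rintro _ ⟨e, h1, h2, rfl⟩
  exact key _ e rfl ⟨h1, h2⟩

end Groth.Agent.S17658
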