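import Groth.Statements.S17659
import Groth.Agent.H97.DegSum

set_option autoImplicit false
universe u
open CategoryTheory CategoryTheory.Limits AlgebraicGeometry
open CIDisc

namespace Groth.Agent.S17659

open TopologicalSpace Groth.Agent

theorem dim_le (k : Type u) [Field k] (X : Scheme.{u}) [X.Over (Spec (CommRingCat.of k))]
    [IsProper (X ↘ (Spec (CommRingCat.of k)))]
    (h : ∀ Z ∈ irreducibleComponents (X : Type u), topologicalKrullDim Z = 1) : topologicalKrullDim X ≤ 1 := by
  refine ((Homeomorph.Set.univ X).isHomeomorph.topologicalKrullDim_eq).symm.trans_le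
    ((Lib.VarDim.Basic.topologicalKrullDim_le_iff (X ↘ Spec (CommRingCat.of k)) isClosed_univ.isLocallyClosed 1).2
      fun x _ => ?_)
  have hC := irreducibleComponent_mem_irreducibleComponents x
  exact_mod_cast (Lib.VarDim.Basic.pdim_le_topologicalKrullDim (X ↘ Spec (CommRingCat.of k))
    (isClosed_of_mem_irreducibleComponents _ hC).isLocallyClosed mem_irreducibleComponent).trans (h _ hC).le

/-- Let X be a proper scheme over a field k all of whose irreducible components have dimension one, E a
finite locally free O_X-module of constant rank n and F a coherent O_X-module. Then χ(X, E ⊗ F) =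
Σ_Z r_Z(F) · deg(E|_{Z_red}) + n · χ(X, F), the sum running over the irreducible components Z of X,
where r_Z(F) is the length of the stalk of F at the generic point ξ_Z of Z as a module over
O_{X,ξ_Z}, and Z_red is Z with its reduced induced structure (the closed subscheme cut out by the
radical of the ideal of the component). The Noetherian hypothesis on X is a consequence of
properness over k and is stated for convenience. -/
theorem result (k : Type u) [Field k] (X : Scheme.{u}) [X.Over (Spec (CommRingCat.of k))]
    [IsProper (X ↘ (Spec (CommRingCat.of k)))] [IsNoetherian X]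
    (hdim : ∀ Z ∈ irreducibleComponents (X : Type u), topologicalKrullDim Z = 1)
    (n : ℕ) (E : X.Modules) (hE : FlatMod.IsFinLocFreeOfRank n E) (F : X.Modules) (hF : Coh.IsCoh F) :
    Curv2.euler k X (CohB1.tensorMod E F) =
      (∑ᶠ Z : irreducibleComponents (X : Type u),
        ((Module.length (X.presheaf.stalk Z.2.1.genericPoint) (F.presheaf.stalk Z.2.1.genericPoint)).toNat : ℤ) *
          @Curv2.deg k _ (X.irreducibleComponentIdeal Z.1 Z.2).radical.subscheme
            ⟨(X.irreducibleComponentIdeal Z.1 Z.2).radical.subschemeι ≫ (X ↘ (Spec (CommRingCat.of k)))⟩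
            ((Scheme.Modules.pullback (X.irreducibleComponentIdeal Z.1 Z.2).radical.subschemeι).obj E) n) +
        (n : ℤ) * Curv2.euler k X F := by
  classical
  have hle := dim_le k X hdim
  have := (NoetherianSpace.finite_irreducibleComponents (α := X)).to_subtype
  haveI := Fintype.ofFinite ↥(irreducibleComponents (X : Type u))
  refine eq_add_of_sub_eq ?_
  change H97.DegSum.dev k E n F = _
  rw [finsum_eq_sum_of_fintype,
    Lib.IntTheory.Additive.eq_sum (H97.DegSum.isAdd_dev hE) (H97.DegSum.vanishBelow_dev hE) hF
      (T := ⊤) (Set.subset_univ _) (H97.DegSum.dim_top hle)]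
  refine Finset.sum_bij (fun y hy => ⟨closure {y},
      H97.DegSum.mem_irreducibleComponents hle ((Set.Finite.mem_toFinset _).1 hy)⟩)
    (fun y hy => Finset.mem_univ _)
    (fun a _ b _ e => ((specializes_iff_closure_subset.2 (congrArg Subtype.val e).ge).antisymm
      (specializes_iff_closure_subset.2 (congrArg Subtype.val e).le)).eq)
    (fun Z _ => ?_) fun y hy => ?_
  · obtain ⟨ξ, hξ⟩ := QuasiSober.sober Z.2.1 (isClosed_of_mem_irreducibleComponents Z.1 Z.2)
    exact ⟨ξ, (Set.Finite.mem_toFinset _).2 ⟨trivial, hξ.def ▸ hdim Z.1 Z.2⟩, Subtype.ext hξ.def⟩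
  · have hZ := H97.DegSum.mem_irreducibleComponents hle ((Set.Finite.mem_toFinset _).1 hy)
    show _ = ((Module.length (X.presheaf.stalk hZ.1.genericPoint) (F.presheaf.stalk hZ.1.genericPoint)).toNat : ℤ) *
      @Curv2.deg k _ (X.irreducibleComponentIdeal (closure {y}) hZ).radical.subscheme
        ⟨(X.irreducibleComponentIdeal (closure {y}) hZ).radical.subschemeι ≫ (X ↘ (Spec (CommRingCat.of k)))⟩
        ((Scheme.Modules.pullback (X.irreducibleComponentIdeal (closure {y}) hZ).radical.subschemeι).obj E) n
    have hgp : hZ.1.genericPoint = y :=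
      hZ.1.isGenericPoint_genericPoint_closure.eq (by rw [closure_closure]; exact isGenericPoint_closure)
    have hI : (X.irreducibleComponentIdeal (closure {y}) hZ).radical = _root_.IntMult.ptIdeal y := by
      rw [← Scheme.IdealSheafData.vanishingIdeal_support]
      rfl
    rw [hgp, hI]
    letI : (_root_.IntMult.ptIdeal y).subscheme.Over (Spec (CommRingCat.of k)) :=
      ⟨(_root_.IntMult.ptIdeal y).subschemeι ≫ (X ↘ (Spec (CommRingCat.of k)))⟩
    haveI : IsProper ((_root_.IntMult.ptIdeal y).subscheme ↘ Spec (CommRingCat.of k)) :=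
      inferInstanceAs (IsProper ((_root_.IntMult.ptIdeal y).subschemeι ≫ _))
    rw [← H97.DegSum.dev_push (_root_.IntMult.ptIdeal y).subschemeι rfl hE]
    rfl

end Groth.Agent.S17659
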