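import Groth.Statements.S17660
import Groth.Agent.Lib.ModelFibre.P1Curve
import Groth.Agent.Lib.Curves.IdealTwist
import Groth.Agent.Lib.SurfInt.PushIso
import Groth.Agent.Lib.Modules.ClosedUnit

set_option autoImplicit false
set_option linter.style.haveILetI false
universe u
open CategoryTheory CategoryTheory.Limits AlgebraicGeometry
open Ribbon

namespace Groth.Agent.S17660
open Groth.Agent.Lib Groth.Agent.Lib.TensorMod.Basic

/-- `χ(O(a)) = a + 1` on the line. -/
theorem euler_tw (k : Type u) [Field k] (a : ℤ) :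
    letI : (CohB1.ProjSpace 1 k).Over (Spec (CommRingCat.of k)) := ⟨CohB1.ProjSpace.toSpec 1 k⟩
    Curv2.euler k (CohB1.ProjSpace 1 k) (Twist.twistProjSpace 1 k a) = a + 1 := by
  letI : (CohB1.ProjSpace 1 k).Over (Spec (CommRingCat.of k)) := ⟨CohB1.ProjSpace.toSpec 1 k⟩
  haveI : IsProper (CohB1.ProjSpace 1 k ↘ Spec (CommRingCat.of k)) := ProjSpace.Basic.isProper_toSpec 1 k
  have hd : topologicalKrullDim (CohB1.ProjSpace 1 k) ≤ 1 := by
    rw [ProjSpace.Dim.topologicalKrullDim_projSpace]; simp
  have h := Groth.Agent.S4466.result k 1 one_pos a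
  simp only [Finset.sum_range_succ, Finset.sum_range_zero, zero_add, pow_zero, one_mul, pow_one,
    Nat.cast_one, Ring.choose_one_right] at h
  have hi : PicF.IsInvertible (Twist.twistProjSpace 1 k a) := ProjCoh.Horrocks.isInvertible_TS (d := 1) (k := k) a
  rw [Curves.Euler.euler_eq (Curves.Degree.isGood (k := k) hd hi).vanish]
  simp only [Curves.Euler.hdim]
  linarith

/-- The degree of `O(n)` on the line. -/
theorem deg_tw (k : Type u) [Field k] (n : ℤ) :
    letI : (CohB1.ProjSpace 1 k).Over (Spec (CommRingCat.of k)) := ⟨CohB1.ProjSpace.toSpec 1 k⟩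
    Curv2.deg k (CohB1.ProjSpace 1 k) (Twist.twistProjSpace 1 k n) 1 = n := by
  letI : (CohB1.ProjSpace 1 k).Over (Spec (CommRingCat.of k)) := ⟨CohB1.ProjSpace.toSpec 1 k⟩
  have h0 : Curv2.euler k (CohB1.ProjSpace 1 k) (Coh.structureModule (CohB1.ProjSpace 1 k)) = 1 := by
    rw [Curves.Euler.euler_eq_of_iso (ProjCoh.Coherent.twZero (n := 1) (R := k)).symm]
    exact (euler_tw k 0).trans (by norm_num)
  rw [Curves.Degree.deg_eq, euler_tw k n, h0]; ring


/-- Let C be a proper scheme over a field k and I ⊂ O_C a quasi-coherent ideal with I² = 0 whose closed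
subscheme D ⊂ C is isomorphic over k to the projective line, and suppose that I, regarded as an
O_D-module, is isomorphic to O_{P^1}(-g-1) (so C is a ribbon of arithmetic genus g on P^1 with
conormal bundle I). If L is an invertible O_C-module whose restriction to D is isomorphic to
O_{P^1}(n), then the degree χ(C, L) - χ(C, O_C) of L equals 2n. (Stated over an arbitrary ground
field; the source works with rational ribbons over an algebraically closed field, and also
identifies I·L with O_{P^1}(n-g-1), which is not asserted here.) -/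
theorem result (k : Type u) [Field k] (C : Scheme.{u}) [C.Over (Spec (CommRingCat.of k))]
    [IsProper (C ↘ (Spec (CommRingCat.of k)))]
    (I : C.IdealSheafData) (hI : I ^ 2 = ⊥)
    (e : I.subscheme ≅ CohB1.ProjSpace 1 k)
    (he : e.hom ≫ CohB1.ProjSpace.toSpec 1 k = I.subschemeι ≫ (C ↘ (Spec (CommRingCat.of k))))
    (g : ℕ)
    (hconormal : Nonempty ((Scheme.Modules.pullback I.subschemeι).obj (ClSub.idealMod I) ≅
      (Scheme.Modules.pullback e.hom).obj (Twist.twistProjSpace 1 k (-((g : ℤ) + 1)))))
    (L : C.Modules) (hL : PicF.IsInvertible L) (n : ℤ)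
    (hLD : Nonempty ((Scheme.Modules.pullback I.subschemeι).obj L ≅
      (Scheme.Modules.pullback e.hom).obj (Twist.twistProjSpace 1 k n))) :
    Curv2.deg k C L 1 = 2 * n := by
  haveI := Curves.GlobalSections.isNoetherian_of_proper k C
  set i := I.subschemeι with hi
  letI : I.subscheme.Over (Spec (CommRingCat.of k)) := ⟨i ≫ (C ↘ Spec (CommRingCat.of k))⟩
  letI : (CohB1.ProjSpace 1 k).Over (Spec (CommRingCat.of k)) := ⟨CohB1.ProjSpace.toSpec 1 k⟩
  haveI : IsProper (I.subscheme ↘ Spec (CommRingCat.of k)) :=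
    inferInstanceAs (IsProper (i ≫ (C ↘ Spec (CommRingCat.of k))))
  have hφ : e.hom ≫ (CohB1.ProjSpace 1 k ↘ Spec (CommRingCat.of k)) =
      I.subscheme ↘ Spec (CommRingCat.of k) := he
  haveI : IsIntegral (CohB1.ProjSpace 1 k) := ProjSpace.Basic.isIntegral_projSpace 1 k
  haveI : Nonempty I.subscheme :=
    Nonempty.map e.inv.base (inferInstance : Nonempty (CohB1.ProjSpace 1 k))
  haveI : IsIntegral I.subscheme := isIntegral_of_isOpenImmersion e.hom
  -- dimensions
  have hdD : topologicalKrullDim I.subscheme ≤ 1 := by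
    rw [(TopCat.homeoOfIso (Scheme.forgetToTop.mapIso e)).isHomeomorph.topologicalKrullDim_eq,
      ProjSpace.Dim.topologicalKrullDim_projSpace]
    simp
  have hpow : ∀ (U : C.affineOpens) (a b : Γ(C, U.1)), a ∈ I.ideal U → b ∈ I.ideal U → a * b = 0 := by
    intro U a b ha hb
    have h2 : (I ^ 2).ideal U = ⊥ := by rw [hI]; rfl
    rw [Scheme.IdealSheafData.ideal_pow, Pi.pow_apply, pow_two] at h2
    simpa [h2] using Ideal.mul_mem_mul ha hb
  have hsurj : Function.Surjective i.base := by
    intro x
    obtain ⟨U, hU, hxU, -⟩ := exists_isAffineOpen_mem_and_subset (x := x) (U := ⊤) trivial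
    let W : C.affineOpens := ⟨U, hU⟩
    have hx : x ∈ (I.support : Set C) := by
      rw [SetLike.mem_coe, Scheme.IdealSheafData.mem_support_iff_of_mem (U := W) hxU]
      refine (Scheme.mem_zeroLocus_iff _ _ _).mpr fun a ha hb => ?_
      have hz : a ^ 2 = 0 := (pow_two a).trans (hpow W a a ha ha)
      rw [← Scheme.basicOpen_pow C a two_pos, hz, Scheme.basicOpen_zero] at hb
      exact hb
    rwa [← I.range_subschemeι] at hx
  let hh := i.isClosedEmbedding.toIsEmbedding.toHomeomorphOfSurjective hsurj
  have hdC : topologicalKrullDim C ≤ 1 := hh.isHomeomorph.topologicalKrullDim_eq ▸ hdD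
  -- the line bundles on the line
  obtain ⟨eL⟩ := hLD
  obtain ⟨eI⟩ := hconormal
  have htw : ∀ a : ℤ, PicF.IsInvertible (Twist.twistProjSpace 1 k a) := fun a =>
    ProjCoh.Horrocks.isInvertible_TS (d := 1) (k := k) a
  have hiL : PicF.IsInvertible ((Scheme.Modules.pullback i).obj L) := PicLoc.isInvertible_pullback i hL
  have hiI : PicF.IsInvertible ((Scheme.Modules.pullback i).obj (ClSub.idealMod I)) :=
    TensorMod.Invertible.isInvertible_of_iso eI.symm (PicLoc.isInvertible_pullback e.hom (htw _))
  have hdegA : Curv2.deg k I.subscheme ((Scheme.Modules.pullback i).obj L) 1 = n := by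
    rw [Curves.Degree.deg_eq, Curves.Euler.euler_eq_of_iso eL, ← Curves.Degree.deg_eq,
      SurfInt.PushIso.deg_pullback e.hom hφ (htw n), deg_tw]
  -- twists of pushforwards
  have hpush : ∀ (M : I.subscheme.Modules), Coh.IsCoh M →
      Curv2.euler k C (CohB1.tensorMod ((Coh.push i).obj M) L) =
        Curv2.euler k C ((Coh.push i).obj M) + (CurveBundle.Rank.grank M : ℤ) * n := by
    intro M hM
    have hE := Modules.DualBasis.hasDBases_of_isFinLocFree
      (TensorMod.LocFree.of_rank (TensorMod.LocFree.of_isInvertible hL))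
    haveI : M.IsQuasicoherent := hM.1
    haveI : (CohB1.tensorMod M ((Scheme.Modules.pullback i).obj L)).IsQuasicoherent :=
      (CurveBundle.Twist.isCoh hiL hM).1
    rw [Curves.Euler.euler_eq_of_iso (comm _ _ ≪≫ (Modules.ProjFormula.projIso i hE).app M ≪≫
        (Coh.push i).mapIso (comm _ _)),
      SurfInt.Push.euler_push i rfl (CohB1.tensorMod M ((Scheme.Modules.pullback i).obj L)),
      SurfInt.Push.euler_push i rfl M, Curves.Degree.euler_twist hdD hiL hM, hdegA]
  -- the ideal is a direct image
  haveI : IsIso ((Scheme.Modules.pullbackPushforwardAdjunction i).unit.app (ClSub.idealMod I)) := by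
    refine Modules.ClosedUnit.isIso_unit i _ fun U a ha s => ?_
    rw [Scheme.IdealSheafData.ker_subschemeι] at ha
    refine Lib.ClSub.Sections.idealModι_app_injective I U.1 ?_
    rw [Scheme.Modules.Hom.app_smul, map_zero]
    exact hpow U a _ ha ((Lib.ClSub.Sections.mem_range_idealModι_app_affine_iff I U _).mp ⟨s, rfl⟩)
  let u : ClSub.idealMod I ≅ (Coh.push i).obj ((Scheme.Modules.pullback i).obj (ClSub.idealMod I)) :=
    asIso ((Scheme.Modules.pullbackPushforwardAdjunction i).unit.app (ClSub.idealMod I))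
  have hIt : Curv2.euler k C (CohB1.tensorMod (ClSub.idealMod I) L) =
      Curv2.euler k C (ClSub.idealMod I) + n := by
    have := hpush _ (Curves.Degree.isCoh_of_isInvertible hiI)
    rw [Curves.Degree.grank_of_isInvertible hiI, Nat.cast_one, one_mul] at this
    rw [Curves.Euler.euler_eq_of_iso (tensorIso u (Iso.refl L)), Curves.Euler.euler_eq_of_iso u, this]
  have hQt : Curv2.euler k C (CohB1.tensorMod (ClSub.quotMod I) L) =
      Curv2.euler k C (ClSub.quotMod I) + n := by
    have := hpush _ (Curves.Degree.isCoh_structureModule (X := I.subscheme))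
    rw [Curves.Degree.grank_of_isInvertible (PicLoc.isInvertible_structureModule _), Nat.cast_one,
      one_mul] at this
    exact this
  -- additivity
  have hg : ∀ {F : C.Modules}, Coh.IsCoh F → Curves.Euler.IsGood k C F := fun h =>
    Curves.Finiteness.isGood_of_isCoh hdC h
  have h2 := Curves.Euler.euler_add (k := k) (Lib.ClSub.Quot.idealSeq_shortExact I)
    (hg (Curves.IdealTwist.isCoh_ideal I)) (hg Curves.Degree.isCoh_structureModule)
    (hg (Curves.IdealTwist.isCoh_quot I))
  have h1 := Curves.Degree.euler_ses (k := k) (A := CohB1.tensorMod (ClSub.idealMod I) L)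
    (B := CohB1.tensorMod (Coh.structureModule C) L) (C := CohB1.tensorMod (ClSub.quotMod I) L)
    (CurveBundle.Twist.shortExact hL (Lib.ClSub.Quot.idealSeq_shortExact I))
    (hg (CurveBundle.Twist.isCoh hL (Curves.IdealTwist.isCoh_ideal I)))
    (hg (CurveBundle.Twist.isCoh hL Curves.Degree.isCoh_structureModule))
    (hg (CurveBundle.Twist.isCoh hL (Curves.IdealTwist.isCoh_quot I)))
  rw [Curves.Euler.euler_eq_of_iso (leftUnit L), hIt, hQt] at h1
  change Curv2.euler k C (Coh.structureModule C) = Curv2.euler k C (ClSub.idealMod I) +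
    Curv2.euler k C (ClSub.quotMod I) at h2
  rw [Curves.Degree.deg_eq]
  linarith

end Groth.Agent.S17660
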