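import Groth.Statements.S17661
import Groth.Agent.S0440
import Groth.Agent.Lib.Kaehler.FSmooth
import Groth.Agent.Lib.SmoothLift.Formal
import Mathlib.RingTheory.Smooth.Basic
-- import your own Groth.Agent.* helpers here

set_option autoImplicit false
set_option linter.style.haveILetI false
universe u
open CategoryTheory CategoryTheory.Limits AlgebraicGeometry
open Ribbon

namespace Groth.Agent.S17661

/-- Let k be a field, C a scheme locally of finite type over k and I ⊂ O_C a quasi-coherent ideal with
I² = 0, with closed subscheme D ⊂ C; suppose D is affine, connected and smooth over k and that I,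
regarded as an O_D-module, is invertible (so C is a ribbon on the smooth affine scheme D, and D is
the reduced scheme underlying C). Then the ribbon is split: the inclusion D → C admits a retraction
C → D over k. -/
theorem result (k : Type u) [Field k] (C : Scheme.{u}) [C.Over (Spec (CommRingCat.of k))]
    [LocallyOfFiniteType (C ↘ (Spec (CommRingCat.of k)))]
    (I : C.IdealSheafData) (hI : I ^ 2 = ⊥) [IsAffine I.subscheme] [ConnectedSpace I.subscheme]
    [Smooth (I.subschemeι ≫ (C ↘ (Spec (CommRingCat.of k))))]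
    (hconormal : PicF.IsInvertible ((Scheme.Modules.pullback I.subschemeι).obj (ClSub.idealMod I))) :
    ∃ r : C ⟶ I.subscheme, I.subschemeι ≫ r = 𝟙 I.subscheme ∧
      r ≫ I.subschemeι ≫ (C ↘ (Spec (CommRingCat.of k))) = C ↘ (Spec (CommRingCat.of k)) := by
  set q := C ↘ Spec (CommRingCat.of k)
  set ι := I.subschemeι
  have hsupp : Function.Surjective ι := by
    rw [← Set.range_eq_univ, Scheme.IdealSheafData.range_subschemeι,
      ← Scheme.IdealSheafData.support_pow (I := I) (n := 2) two_ne_zero, hI,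
      Scheme.IdealSheafData.support_bot]
    rfl
  haveI : IsAffine C := Groth.Agent.S0440.result ι hsupp
  let U : C.affineOpens := ⟨⊤, isAffineOpen_top C⟩
  letI : Algebra k Γ(C, ⊤) := (Coh.toGlobal q).toAlgebra
  letI : Algebra k Γ(I.subscheme, ⊤) := (Coh.toGlobal (ι ≫ q)).toAlgebra
  let π : Γ(C, ⊤) →ₐ[k] Γ(I.subscheme, ⊤) :=
    { ι.appTop.hom with commutes' := fun _ => rfl }
  have hπ : Function.Surjective π := I.subschemeι_app_surjective U
  have hker : IsNilpotent (RingHom.ker π.toRingHom) := by
    refine ⟨2, ?_⟩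
    have h1 : RingHom.ker π.toRingHom = I.ideal U := I.ker_subschemeι_app U
    rw [h1, ← Pi.pow_apply, ← Scheme.IdealSheafData.ideal_pow, hI]
    rfl
  haveI : Algebra.FormallySmooth k Γ(I.subscheme, ⊤) := by
    have h1 := Groth.Agent.Lib.Kaehler.FSmooth.formallySmooth_appLE
      (Groth.Agent.Lib.SmoothLift.Formal.isFormallySmoothHom_of_smooth (ι ≫ q))
      (isAffineOpen_top _) (isAffineOpen_top I.subscheme) (show ⊤ ≤ (ι ≫ q) ⁻¹ᵁ ⊤ from le_rfl)
    have h1' : (ι ≫ q).appTop.hom.FormallySmooth := by
      rw [Scheme.Hom.appTop, Scheme.Hom.app_eq_appLE]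
      exact h1
    exact RingHom.FormallySmooth.respectsIso.2 _
      (Scheme.ΓSpecIso (CommRingCat.of k)).commRingCatIsoToRingEquiv.symm h1'
  let g := Algebra.FormallySmooth.liftOfSurjective (AlgHom.id k _) π hπ hker
  have hg : π.comp g = AlgHom.id k _ := Algebra.FormallySmooth.comp_liftOfSurjective _ _ hπ hker
  let r : C ⟶ I.subscheme := C.toSpecΓ ≫ Spec.map (CommRingCat.ofHom g.toRingHom) ≫ I.subscheme.isoSpec.inv
  have hr : r.appTop = CommRingCat.ofHom g.toRingHom := by
    have key : r ≫ I.subscheme.toSpecΓ = C.toSpecΓ ≫ Spec.map (CommRingCat.ofHom g.toRingHom) := by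
      simp only [r, Category.assoc]
      rw [show I.subscheme.toSpecΓ = I.subscheme.isoSpec.hom from rfl, Iso.inv_hom_id, Category.comp_id]
    have h2 : (Scheme.ΓSpecIso Γ(I.subscheme, ⊤)).hom ≫ r.appTop =
        (Scheme.ΓSpecIso Γ(I.subscheme, ⊤)).hom ≫ CommRingCat.ofHom g.toRingHom := by
      rw [← Scheme.toSpecΓ_appTop, ← Scheme.Hom.comp_appTop, key, Scheme.Hom.comp_appTop,
        Scheme.toSpecΓ_appTop, Scheme.toSpecΓ_appTop, Scheme.ΓSpecIso_naturality]
      rfl
    exact (cancel_epi _).mp h2
  refine ⟨r, ext_of_isAffine ?_, ext_of_isAffine ?_⟩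
  · rw [Scheme.Hom.comp_appTop, hr, Scheme.Hom.id_appTop]
    exact CommRingCat.hom_ext (congrArg AlgHom.toRingHom hg)
  · rw [Scheme.Hom.comp_appTop, hr]
    refine (cancel_epi (Scheme.ΓSpecIso (CommRingCat.of k)).inv).mp (CommRingCat.hom_ext (RingHom.ext fun c => ?_))
    exact g.commutes c

end Groth.Agent.S17661
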