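import Groth.Statements.S17663
import Groth.Agent.Lib.SplitRibbon.Main
import Groth.Agent.Lib.Ample.GG
import Groth.Agent.Lib.CohBasics.Affine
import Mathlib.AlgebraicGeometry.Morphisms.FiniteType

open Groth.Agent.Lib Groth.Agent.Lib.SplitRibbon

set_option autoImplicit false
universe u
open CategoryTheory CategoryTheory.Limits AlgebraicGeometry
open Ribbon

namespace Groth.Agent.S17663

attribute [local instance] opModule isCentralScalar

theorem finite_inl (R M : Type u) [CommRing R] [AddCommGroup M] [Module R M] [Module Rᵐᵒᵖ M]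
    [IsCentralScalar R M] [Module.Finite R M] : (TrivSqZeroExt.inlHom R M).Finite := by
  haveI : Module.Finite R (TrivSqZeroExt R M) := inferInstanceAs (Module.Finite R (R × M))
  have h : (algebraMap R (TrivSqZeroExt R M)).Finite := RingHom.finite_algebraMap.2 this
  rwa [show algebraMap R (TrivSqZeroExt R M) = TrivSqZeroExt.inlHom R M from
    RingHom.ext fun _ => rfl] at h

theorem finite_alg {D : Scheme.{u}} (L : D.Modules) (U : D.Opens) [Module.Finite Γ(D, U) Γ(L, U)] :
    ((algα L).app (Opposite.op U)).hom.Finite := by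
  haveI := isCentralScalar L U
  exact finite_inl Γ(D, U) Γ(L, U)

/-- Let D be a reduced connected scheme of finite type over a field k and 𝓛 an invertible O_D-module.
Then some split ribbon on D has conormal bundle 𝓛: there are a k-scheme C locally of finite type
together with a quasi-coherent ideal I ⊂ O_C with I² = 0, a k-isomorphism from the closed subscheme
V(I) to D, a retraction C → V(I) over k of the inclusion, and an isomorphism of O_D-modules between
I (regarded as a module on V(I) ≅ D) and 𝓛. -/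
theorem result (k : Type u) [Field k] (D : Scheme.{u}) [D.Over (Spec (CommRingCat.of k))]
    [LocallyOfFiniteType (D ↘ (Spec (CommRingCat.of k)))] [QuasiCompact (D ↘ (Spec (CommRingCat.of k)))]
    [AlgebraicGeometry.IsReduced D] [ConnectedSpace D]
    (𝓛 : D.Modules) (h𝓛 : PicF.IsInvertible 𝓛) :
    ∃ (C : Scheme.{u}) (sC : C ⟶ (Spec (CommRingCat.of k))) (I : C.IdealSheafData) (φ : I.subscheme ≅ D) (r : C ⟶ I.subscheme),
      LocallyOfFiniteType sC ∧ I ^ 2 = ⊥ ∧ φ.hom ≫ (D ↘ (Spec (CommRingCat.of k))) = I.subschemeι ≫ sC ∧ I.subschemeι ≫ r = 𝟙 I.subscheme ∧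
        r ≫ I.subschemeι ≫ sC = sC ∧
        Nonempty ((Scheme.Modules.pullback (φ.inv ≫ I.subschemeι)).obj (ClSub.idealMod I) ≅ 𝓛) := by
  obtain ⟨hq, hft⟩ : 𝓛.IsQuasicoherent ∧ SheafOfModules.IsFiniteType (R := D.ringCatSheaf) 𝓛 :=
    ⟨(Ample.GG.isCoh_of_isInvertible h𝓛).1, (Ample.GG.isCoh_of_isInvertible h𝓛).2⟩
  obtain ⟨i, hi, hi'⟩ := exists_section 𝓛
  haveI := isClosedImmersion_section i hi
  haveI : IsFinite (p 𝓛) := AlgGlue.Basic.isFinite_proj _ fun U =>
    haveI : Module.Finite Γ(D, U.1) Γ(𝓛, U.1) := CohBasics.Affine.finite_sections U.2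
    finite_alg 𝓛 U.1
  obtain ⟨e⟩ := exists_pullback_iso i hi hi'
  let φ : i.ker.subscheme ≅ D := (asIso i.toImage).symm
  have hφ : φ.inv ≫ i.ker.subschemeι = i := i.toImage_imageι
  have hφ' : φ.hom ≫ i = i.ker.subschemeι := (Iso.eq_inv_comp φ).1 hφ.symm
  refine ⟨C 𝓛, p 𝓛 ≫ (D ↘ Spec (CommRingCat.of k)), i.ker, φ, p 𝓛 ≫ φ.inv, inferInstance,
    ker_sq i hi hi', ?_, ?_, ?_, ?_⟩
  · rw [← hφ', Category.assoc, reassoc_of% hi]
  · have h1 : i.ker.subschemeι ≫ p 𝓛 = φ.hom := by rw [← hφ', Category.assoc, hi, Category.comp_id]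
    rw [← Category.assoc, h1, Iso.hom_inv_id]
  · rw [Category.assoc, ← Category.assoc φ.inv, hφ, reassoc_of% hi]
  · rw [hφ]
    exact ⟨e⟩

end Groth.Agent.S17663
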