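import Groth.Statements.S17665
import Groth.Agent.S17660
import Groth.Agent.H56.CurveDual.Duality
import Groth.Agent.H34.HOne
import Groth.Agent.H21.ThickEquiv.Killed
import Groth.Agent.Lib.SqZeroLift.Killed
import Groth.Agent.Lib.PicProj.Main
import Groth.Agent.Lib.ProjKoszul.Reg2
import Groth.Agent.Lib.ProjCoh.SerreDual
import Groth.Agent.Lib.ProjCoh.Homog
import Groth.Agent.Lib.ProjCoh.Horrocks
import Groth.Agent.Lib.ZarCoh.Linear
import Groth.Agent.Lib.Cyc.CH.FiltTensor
import Groth.Agent.Lib.Cyc.C1K.TStalk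
import Groth.Agent.Lib.QCoh.Pushforward

set_option autoImplicit false
universe u
open CategoryTheory CategoryTheory.Limits AlgebraicGeometry
attribute [local instance] HasDerivedCategory.standard
open Ribbon

namespace Groth.Agent.S17665
open Groth.Agent.Lib Groth.Agent.Lib.TensorMod.Basic

set_option linter.style.haveILetI false
set_option maxHeartbeats 1000000

/-- A map from a module killed by `I` to `F` restricts to zero, when `I ⊗ F → F` is injective and the
conormal module is invertible. -/
theorem pb_map_eq_zero {X : Scheme.{u}} (I : X.IdealSheafData) (hI : I ^ 2 = ⊥) {M F : X.Modules}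
    (hM : SqZeroMod.Killed I.subschemeι M) (hF : FlatMod.IsFlat F)
    (hJ : PicF.IsInvertible ((Scheme.Modules.pullback I.subschemeι).obj (ClSub.idealMod I))) (g : M ⟶ F) :
    (Scheme.Modules.pullback I.subschemeι).map g = 0 := by
  have hT := SqZeroMod.shortExact_tensor_right hF (Lib.ClSub.Quot.idealSeq_shortExact I)
  haveI : Mono (((DCoh.tensorBi (X := X)).flip.obj F).map (_root_.ClSub.idealModι I)) := hT.mono_f
  haveI : Mono (SqZeroMod.incl I F) := mono_comp _ (SqZeroMod.lu F).hom
  have h1 : (SqZeroLift.TI I).map g = 0 := by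
    have h := SqZeroLift.incl_natural I g
    rw [SqZeroLift.incl_eq_zero I hI hM, zero_comp] at h
    exact (cancel_mono (SqZeroMod.incl I F)).1 (h.trans zero_comp.symm)
  have h2 : tmap (𝟙 (ClSub.idealMod I)) g = 0 := by
    refine Eq.trans ?_ h1
    simp [SqZeroLift.TI, DCoh.tensorBi, tmap, TensorMod.Reflective.tm]
    rfl
  haveI := TensorMod.Pullback.isIso_delta I.subschemeι (ClSub.idealMod I) M
  haveI : (Scheme.Modules.pullback I.subschemeι).Additive :=
    (Scheme.Modules.pullbackPushforwardAdjunction I.subschemeι).left_adjoint_additive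
  have h3 := TensorMod.Pullback.delta_natural I.subschemeι (𝟙 (ClSub.idealMod I)) g
  rw [h2, Functor.map_zero, zero_comp, CategoryTheory.Functor.map_id] at h3
  have h4 := (cancel_epi (TensorMod.Pullback.delta I.subschemeι (ClSub.idealMod I) M)).1
    (h3.symm.trans comp_zero.symm)
  haveI : (tensorBy ((Scheme.Modules.pullback I.subschemeι).obj (ClSub.idealMod I))).IsEquivalence :=
    CurveBundle.Twist.isEquivalence hJ
  apply (tensorBy ((Scheme.Modules.pullback I.subschemeι).obj (ClSub.idealMod I))).map_injective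
  rw [Functor.map_zero]
  refine (cancel_mono (comm _ _).hom).1 ?_
  change tmap _ (𝟙 _) ≫ _ = _
  exact ((comm_natural _ _).trans ((congrArg (_ ≫ ·) h4).trans comp_zero)).trans zero_comp.symm

/-- `H¹(O(-2)) ≠ 0` on the line. -/
theorem not_subsingleton_H1 (k : Type u) [Field k] :
    ¬ Subsingleton (Coh.HH (CohB1.ProjSpace 1 k) (Twist.twistProjSpace 1 k (-2)) 1) := by
  intro h1
  letI : (CohB1.ProjSpace 1 k).Over (Spec (CommRingCat.of k)) := ⟨CohB1.ProjSpace.toSpec 1 k⟩
  haveI : IsProper (CohB1.ProjSpace 1 k ↘ Spec (CommRingCat.of k)) := ProjSpace.Basic.isProper_toSpec 1 k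
  have hd : topologicalKrullDim (CohB1.ProjSpace 1 k) ≤ 1 := by
    rw [ProjSpace.Dim.topologicalKrullDim_projSpace]; simp
  have h0 : Subsingleton (Coh.HH (CohB1.ProjSpace 1 k) (Twist.twistProjSpace 1 k (-2)) 0) :=
    ProjCoh.SerreDual.subsingleton_HH_zero_neg (n := 1) (R := k) one_pos (by norm_num)
  have hi : PicF.IsInvertible (Twist.twistProjSpace 1 k (-2)) :=
    ProjCoh.Horrocks.isInvertible_TS (d := 1) (k := k) _
  have h := S17660.euler_tw k (-2)
  rw [Curves.Euler.euler_eq (Curves.Degree.isGood (k := k) hd hi).vanish] at h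
  simp only [Curves.Euler.hdim, Module.finrank_zero_of_subsingleton] at h
  norm_num at h

/-- Let C be a ribbon of arithmetic genus g on the projective line over a field k — a proper k-scheme
with a quasi-coherent ideal I ⊂ O_C, I² = 0, whose closed subscheme D is k-isomorphic to P^1 and
such that I, as an O_D-module, is isomorphic to O_{P^1}(-g-1) — and let ω_C be the dualizing module
of C over k (the cohomology sheaf in degree -1 of f^! O for f : C → Spec k, with the existence of
Rf_* on D_QCoh and of its right adjoint carried as hypotheses). Assume ω_C is invertible. Then the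
restriction of ω_C to D is isomorphic to O_{P^1}(g-1); equivalently the restriction sequence of ω_C
reads 0 → O_{P^1}(-2) → ω_C → O_{P^1}(g-1) → 0. (Existence of an isomorphism only; line bundles on
P^1 are determined by their degree. Invertibility of ω_C (true for ribbons, asserted without proof
in the published text) is carried as a hypothesis.) (Stated over an arbitrary field k; the published
setting is an algebraically closed field; the argument uses only χ(O_{P^1}(m)) = m+1, duality and
Pic P^1 = ℤ by degree.) -/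
theorem result (k : Type u) [Field k] (C : Scheme.{u}) [C.Over (Spec (CommRingCat.of k))]
    [IsProper (C ↘ (Spec (CommRingCat.of k)))]
    (I : C.IdealSheafData) (hI : I ^ 2 = ⊥)
    (e : I.subscheme ≅ CohB1.ProjSpace 1 k)
    (he : e.hom ≫ CohB1.ProjSpace.toSpec 1 k = I.subschemeι ≫ (C ↘ (Spec (CommRingCat.of k))))
    (g : ℕ)
    (hconormal : Nonempty ((Scheme.Modules.pullback I.subschemeι).obj (ClSub.idealMod I) ≅
      (Scheme.Modules.pullback e.hom).obj (Twist.twistProjSpace 1 k (-((g : ℤ) + 1)))))
    [DCoh.HasRpush (C ↘ (Spec (CommRingCat.of k)))] (h : DCoh.RpushPreservesQCoh (C ↘ (Spec (CommRingCat.of k))))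
    [DCoh.HasShriek (C ↘ (Spec (CommRingCat.of k))) h]
    (OY : DCoh.DQCoh (Spec (CommRingCat.of k)))
    (hOY : Nonempty (OY.obj ≅ DCoh.inD (Spec (CommRingCat.of k)) (Coh.structureModule (Spec (CommRingCat.of k)))))
    (hω : PicF.IsInvertible (DCoh.dualizingMod (C ↘ (Spec (CommRingCat.of k))) h OY 1)) :
    Nonempty ((Scheme.Modules.pullback I.subschemeι).obj (DCoh.dualizingMod (C ↘ (Spec (CommRingCat.of k))) h OY 1) ≅
      (Scheme.Modules.pullback e.hom).obj (Twist.twistProjSpace 1 k ((g : ℤ) - 1))) := by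
  haveI := Curves.GlobalSections.isNoetherian_of_proper k C
  haveI : IsIso e.hom := inferInstance
  set f := C ↘ Spec (CommRingCat.of k) with hf
  set i := I.subschemeι
  obtain ⟨eO⟩ := hOY
  obtain ⟨eI⟩ := hconormal
  -- dimensions
  have hdD : topologicalKrullDim I.subscheme ≤ 1 := by
    rw [(TopCat.homeoOfIso (Scheme.forgetToTop.mapIso e)).isHomeomorph.topologicalKrullDim_eq,
      ProjSpace.Dim.topologicalKrullDim_projSpace]
    simp
  have hsurj : Function.Surjective i := SqZeroMod.subschemeι_surjective I hI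
  have hdC : topologicalKrullDim C ≤ ((1 : ℕ) : WithBot ℕ∞) :=
    (i.isClosedEmbedding.toIsEmbedding.toHomeomorphOfSurjective
      hsurj).isHomeomorph.topologicalKrullDim_eq ▸ hdD
  have htw : ∀ a : ℤ, PicF.IsInvertible (Twist.twistProjSpace 1 k a) := fun a =>
    ProjCoh.Horrocks.isInvertible_TS (d := 1) (k := k) a
  have hiD : ∀ s : ℤ, PicF.IsInvertible
      ((Scheme.Modules.pullback e.hom).obj (Twist.twistProjSpace 1 k s)) := fun s =>
    PicLoc.isInvertible_pullback e.hom (htw s)
  set ω := DCoh.dualizingMod f h OY 1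
  have hA : PicF.IsInvertible ((Scheme.Modules.pullback i).obj ω) := PicLoc.isInvertible_pullback i hω
  obtain ⟨a, ⟨ea⟩⟩ := PicProj.Main.exists_twist_iso (n := 1) (R := k)
    ((Scheme.Modules.pullback e.inv).obj ((Scheme.Modules.pullback i).obj ω))
    (PicLoc.isInvertible_pullback e.inv hA)
  let eA : (Scheme.Modules.pullback i).obj ω ≅
      (Scheme.Modules.pullback e.hom).obj (Twist.twistProjSpace 1 k a) :=
    ((Scheme.Modules.pullbackId _).app _).symm ≪≫
      (Scheme.Modules.pullbackCongr e.hom_inv_id.symm).app _ ≪≫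
      ((Scheme.Modules.pullbackComp e.hom e.inv).app _).symm ≪≫
      (Scheme.Modules.pullback e.hom).mapIso ea
  let m : ℤ := -((g : ℤ) + 1) + a
  let eM : SqZeroMod.grTensor I ω ≅ (Scheme.Modules.pullback e.hom).obj (Twist.twistProjSpace 1 k m) :=
    tensorIso eI eA ≪≫ (TensorMod.Pullback.pullbackTensorIso e.hom _ _).symm ≪≫
      (Scheme.Modules.pullback e.hom).mapIso (ProjCoh.Coherent.twTensor (n := 1) (R := k) _ a)
  -- cohomology of direct images
  haveI := H21.ThickEquiv.isEquivalence_pullback e.hom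
  have hH : ∀ s : ℤ, Subsingleton (Coh.HH C ((Scheme.Modules.pushforward i).obj
      ((Scheme.Modules.pullback e.hom).obj (Twist.twistProjSpace 1 k s))) 1) ↔
      Subsingleton (Coh.HH (CohB1.ProjSpace 1 k) (Twist.twistProjSpace 1 k s) 1) := by
    intro s
    haveI : ((Scheme.Modules.pullback e.hom).obj (Twist.twistProjSpace 1 k s)).IsQuasicoherent :=
      TensorMod.QCohInv.isQCoh_of_isInvertible (hiD s)
    let u := asIso ((Scheme.Modules.pullbackPushforwardAdjunction e.hom).unit.app
      (Twist.twistProjSpace 1 k s))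
    refine (ZarCoh.Morph.affineEquiv i _ 1).toEquiv.subsingleton_congr.trans ?_
    refine (ZarCoh.Morph.affineEquiv e.hom _ 1).toEquiv.subsingleton_congr.symm.trans ?_
    exact ⟨H34.HOne.h1_of_iso u.symm, H34.HOne.h1_of_iso u⟩
  have hq : ∀ N : I.subscheme.Modules, PicF.IsInvertible N →
      Coh.IsQCoh ((Scheme.Modules.pushforward i).obj N) := fun N hN => by
    haveI : N.IsQuasicoherent := TensorMod.QCohInv.isQCoh_of_isInvertible hN
    exact QCoh.Pushforward.isQCoh_pushforward (f := i) (M := N)
  -- a nonzero map to the dualizing module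
  let N := (Scheme.Modules.pullback e.hom).obj (Twist.twistProjSpace 1 k (-2))
  obtain ⟨φ, hφ⟩ : ∃ φ : (Scheme.Modules.pushforward i).obj N ⟶ ω, φ ≠ 0 := by
    by_contra hne
    refine not_subsingleton_H1 k ((hH (-2)).1 ?_)
    exact H56.CurveDual.Duality.subsingleton_HH_one f hdC h (DCoh.shriek f h) (DCoh.shriekAdj f h) OY eO
      _ (hq _ (hiD _)) fun g' => not_not.1 fun hg => hne ⟨g', hg⟩
  have hfl := Cyc.CH.isFlat_of_isInvertible hω
  obtain ⟨c, w, hS⟩ := SqZeroMod.exists_seq I hI hfl
  have hJ : PicF.IsInvertible ((Scheme.Modules.pullback i).obj (ClSub.idealMod I)) :=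
    TensorMod.Invertible.isInvertible_of_iso eI.symm (hiD _)
  have hM : PicF.IsInvertible (SqZeroMod.grTensor I ω) :=
    TensorMod.Invertible.isInvertible_of_iso eM.symm (hiD _)
  have hφ0 : φ ≫ (Scheme.Modules.pullbackPushforwardAdjunction i).unit.app ω = 0 := by
    refine ((Scheme.Modules.pullbackPushforwardAdjunction i).unit.naturality φ).trans ?_
    show _ ≫ (Scheme.Modules.pushforward i).map ((Scheme.Modules.pullback i).map φ) = 0
    rw [pb_map_eq_zero I hI (SqZeroMod.killed_push i N) hfl hJ φ, Functor.map_zero, comp_zero]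
  obtain ⟨l, hl⟩ : ∃ l, l ≫ c = φ :=
    ⟨hS.fIsKernel.lift (KernelFork.ofι φ hφ0), hS.fIsKernel.fac _ WalkingParallelPair.zero⟩
  -- upper bound
  have h1 : m ≤ -2 := by
    by_contra hm
    refine hφ ?_
    have hc : c = 0 := H56.CurveDual.Duality.hom_eq_zero f hdC h (DCoh.shriek f h) (DCoh.shriekAdj f h)
      OY eO _ (hq _ hM) (H34.HOne.h1_of_iso ((Scheme.Modules.pushforward i).mapIso eM.symm)
        ((hH m).2 (ProjKoszul.Reg2.subsingleton_tw (Or.inl (by omega)) le_rfl))) c
    rw [← hl, hc, comp_zero]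
  -- lower bound
  have h2 : -2 ≤ m := by
    by_contra hm
    refine hφ ?_
    haveI : IsIso (Scheme.Modules.pullbackPushforwardAdjunction i).counit :=
      haveI : ∀ M, IsIso ((Scheme.Modules.pullbackPushforwardAdjunction i).counit.app M) :=
        SqZeroLift.isIso_counit I hI
      NatIso.isIso_of_isIso_app _
    let ff := (Scheme.Modules.pullbackPushforwardAdjunction i).fullyFaithfulROfIsIsoCounit
    haveI : Subsingleton (ProjCoh.Sections.TS 1 k (-2) ⟶ ProjCoh.Sections.TS 1 k m) :=
      ProjCoh.SerreDual.subsingleton_hom_neg (n := 1) (R := k) one_pos (show m < (-2 : ℤ) by omega)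
    haveI : Subsingleton (ProjCoh.Coherent.tw 1 k (-2) ⟶ ProjCoh.Coherent.tw 1 k m) :=
      ((ProjCoh.Coherent.twIso (n := 1) (R := k) (-2)).homCongr
        (ProjCoh.Coherent.twIso (n := 1) (R := k) m)).subsingleton
    haveI : Subsingleton (Twist.twistProjSpace 1 k (-2) ⟶ Twist.twistProjSpace 1 k m) :=
      this
    have hψ : ff.preimage l ≫ eM.hom = 0 := by
      obtain ⟨t, ht⟩ := (Scheme.Modules.pullback e.hom).map_surjective (ff.preimage l ≫ eM.hom)
      rw [← ht, Subsingleton.elim t 0, Functor.map_zero]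
    have hl0 : l = 0 := by
      rw [← ff.map_preimage l, (cancel_mono eM.hom).1 (hψ.trans zero_comp.symm), Functor.map_zero]
    rw [← hl, hl0, zero_comp]
  have ha : a = (g : ℤ) - 1 := by omega
  subst ha
  exact ⟨eA⟩

end Groth.Agent.S17665
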