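import Groth.Statements.S17675
import Groth.Agent.Lib.Cyc.KroneckerGraph

set_option autoImplicit false
universe u
open CategoryTheory CategoryTheory.Limits AlgebraicGeometry
open Bivar

namespace Groth.Agent.S17675

/-- Together with the observation preceding it: let k be a field, X proper over k, Y locally of finite
type over k, P = X ×_k Y with its projections q₁, q₂, and let X, Y, P carry the dimension functions
induced from the base point (dimension of the closure of a point). Let f : Y → X be a k-morphism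
with graph γ : Y → P, let c be an operational class of degree p on X (an element of the operational
Chow group A^p(X): compatible operations on the Chow groups of all schemes locally of finite type
over X, not a cycle class), and let z be an m-cycle on Y. Suppose that in the Chow group CH_m(P) the
class of the pushforward γ_* z is a finite combination Σ_i n_i [u_i × v_i] of classes of exterior
products, u_i an a_i-cycle on X and v_i an (m − a_i)-cycle on Y; here the exterior product u × v is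
the m-cycle on P whose coefficient at a point z over (x, y) with dim z = dim x + dim y is u(x) v(y)
times the length of O_{P,z}/(m_x, m_y), and 0 at other points. Let β_i be any (a_i − p)-cycle on X
whose class is c ∩ [u_i]. Then c ∩ [z], with c acting on Y through f, is the class in CH_{m−p}(Y) of
the cycle Σ_i n_i deg(β_i) v_i; the degree of β_i is zero unless a_i = p. (The published statement
takes k algebraically closed, X complete with finitely many orbits of a connected solvable group, Y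
= X, f the identity and γ the diagonal, and decomposes the push-forward along the diagonal of the
class of an invariant subvariety into products of classes of invariant subvarieties; in the printed
argument f is any morphism, any such decomposition is allowed, and k only needs to be a field. The
printed schemes are separated and of finite type over k; here Y may be any scheme locally of finite
type over k, a wider class of test schemes.) -/
theorem result
    {k : Type u} [Field k] {X Y P : Scheme.{u}}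
    (pX : X ⟶ Spec (.of k)) (pY : Y ⟶ Spec (.of k)) [IsProper pX] [LocallyOfFiniteType pY]
    (q₁ : P ⟶ X) (q₂ : P ⟶ Y) (hP : IsPullback q₁ q₂ pX pY)
    (δX : X → ℤ) (δY : Y → ℤ) (δP : P → ℤ)
    (hX : Cyc.IsSetup X δX) (hY : Cyc.IsSetup Y δY) (hPδ : Cyc.IsSetup P δP)
    (hδX : Cyc.DeltaCompat pX δX (fun _ => 0)) (hδY : Cyc.DeltaCompat pY δY (fun _ => 0))
    (hδP : Cyc.DeltaCompat q₁ δP δX)
    (f : Y ⟶ X) (hf : f ≫ pX = pY) (hfl : LocallyOfFiniteType f) (hfδ : Cyc.DeltaCompat f δY δX)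
    (γ : Y ⟶ P) [IsClosedImmersion γ] (hγ₁ : γ ≫ q₁ = f) (hγ₂ : γ ≫ q₂ = 𝟙 Y)
    {p m : ℤ} (c : Bivar.OpCl p X δX) (z : AlgebraicCycle Y ℤ) (hz : z ∈ Cyc.Zk Y δY m)
    {ι : Type} [Fintype ι] (n : ι → ℤ) (a : ι → ℤ)
    (u : ι → AlgebraicCycle X ℤ) (hu : ∀ i, u i ∈ Cyc.Zk X δX (a i))
    (v : ι → AlgebraicCycle Y ℤ) (hv : ∀ i, v i ∈ Cyc.Zk Y δY (m - a i))
    (ζ : ι → AlgebraicCycle P ℤ) (hζm : ∀ i, ζ i ∈ Cyc.Zk P δP m)
    (hζ : ∀ (i : ι) (t : P), ζ i t =
          if δP t = δX (q₁ t) + δY (q₂ t) then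
            u i (q₁ t) * v i (q₂ t) *
              ((Module.length (P.presheaf.stalk t) (P.presheaf.stalk t ⧸
                (Ideal.map (q₁.stalkMap t).hom (IsLocalRing.maximalIdeal (X.presheaf.stalk (q₁ t))) ⊔
                  Ideal.map (q₂.stalkMap t).hom (IsLocalRing.maximalIdeal (Y.presheaf.stalk (q₂ t)))))).toNat : ℤ)
          else 0)
    (hdec : ChowOps.cl (AlgebraicCycle.map γ δY δP z) (Bivar.cycMap_mem_Zk γ δY δP m hz) =
      ∑ i, n i • ChowOps.cl (ζ i) (hζm i))
    (β : ι → AlgebraicCycle X ℤ) (hβ : ∀ i, β i ∈ Cyc.Zk X δX (a i - p))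
    (hcβ : ∀ i, c.cap (a i) (ChowOps.cl (u i) (hu i)) = ChowOps.cl (β i) (hβ i))
    (H : (∑ i, (n i * ChowOps.deg pX δX (β i)) • v i) ∈ Cyc.Zk Y δY (m - p)) :
    c.op ⟨Y, f, hfl, δY, hfδ⟩ m (ChowOps.cl z hz) =
      ChowOps.cl (∑ i, (n i * ChowOps.deg pX δX (β i)) • v i) H := by
  haveI := hX.1
  haveI := hY.1
  haveI := hPδ.1
  let T : Lib.Cyc.Kunneth.Tst pX δX :=
    ⟨Y, P, pY, inferInstance, q₁, q₂, hP, δY, δP, hY, hPδ, hδY, hδP⟩
  let s : Bivar.OSq X δX := ⟨Y, f, hfl, δY, hfδ⟩
  haveI : IsProper γ := inferInstance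
  have hγ : Cyc.DeltaCompat γ δY δP := Lib.Cyc.CH.deltaCompat_of_comm (π := q₁) (π' := f) (f := 𝟙 X)
    (by rw [Category.comp_id, hγ₁]) hδP hfδ (Lib.Cyc.Residue.deltaCompat_id δX)
  have h := Lib.Cyc.Kunneth.opT_graph hδX c T s hY.2.2 γ hγ₁ hγ (𝟙 Y) hγ₂ (Lib.Cyc.Residue.deltaCompat_id δY)
    (Lib.Cyc.CH.cls δY m z hz)
  rw [Lib.Cyc.Kunneth.push_id] at h
  have e1 : Lib.Cyc.CH.push hY.2.2 hPδ.2.2 γ hγ (Lib.Cyc.CH.cls δY m z hz) =
      ∑ i, n i • Lib.Cyc.Kunneth.ex hδX T (u i) (Lib.Cyc.CH.cls δY (m - a i) (v i) (hv i)) := by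
    rw [Lib.Cyc.CH.push_cls hY.2.2 hPδ.2.2 γ hγ hz rfl (Bivar.cycMap_mem_Zk γ δY δP m hz), Lib.Cyc.CH.cls,
      hdec, map_sum]
    refine Finset.sum_congr rfl fun i _ => ?_
    rw [map_zsmul]
    refine congrArg (n i • ·) ?_
    obtain ⟨ζ', hζ', e, hval⟩ := Lib.Cyc.Kunneth.exists_ex hδX T (hu i) (hv i)
    rw [e]
    exact Lib.Cyc.CH.cls_congr (by ring) (funext fun t => (hζ i t).trans (hval t).symm)
  have hz' : ∀ i, (n i * ChowOps.deg pX δX (β i)) • v i ∈ Cyc.Zk Y δY (m - p) := by
    intro i y hy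
    by_cases hd : ChowOps.deg pX δX (β i) = 0
    · simp [hd]
    · have hap : a i - p = 0 := by
        by_contra h'
        exact hd ((Lib.Cyc.CH.map_mem (δY := fun _ => (0 : ℤ)) pX (hβ i)) _ (fun e => h' e.symm))
      show (n i * ChowOps.deg pX δX (β i)) * v i y = 0
      rw [hv i y (by omega), mul_zero]
  have e2 : Lib.Cyc.Kunneth.opT c s (Lib.Cyc.CH.cls δY m z hz) =
      Lib.Cyc.CH.cls δY (m - p) (∑ i, (n i * ChowOps.deg pX δX (β i)) • v i) H := by
    rw [h, e1, map_sum, map_sum, Lib.Cyc.CH.cls_sum Finset.univ _ hz']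
    refine Finset.sum_congr rfl fun i _ => ?_
    rw [map_zsmul, map_zsmul]
    have hA := Lib.Cyc.Kunneth.A_eq hX hδX c T (hu i) (hcβ i) (Lib.Cyc.CH.cls δY (m - a i) (v i) (hv i))
    simp only [Lib.Cyc.Kunneth.A, AddMonoidHom.comp_apply] at hA
    rw [hA, smul_smul]
    by_cases hd : ChowOps.deg pX δX (β i) = 0
    · rw [show (n i * ChowOps.deg pX δX (β i)) • Lib.Cyc.CH.cls δY (m - a i) (v i) (hv i) = 0 by
        rw [hd, mul_zero, zero_smul]]
      refine (Lib.Cyc.CH.cls_zero.symm.trans (Lib.Cyc.CH.cls_congr rfl ?_))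
      funext y
      simp [hd]
    · have hap : a i - p = 0 := by
        by_contra h'
        exact hd ((Lib.Cyc.CH.map_mem (δY := fun _ => (0 : ℤ)) pX (hβ i)) _ (fun e => h' e.symm))
      rw [← Lib.Cyc.CH.cls_zsmul]
      exact Lib.Cyc.CH.cls_congr (by omega) rfl
  rw [Lib.Cyc.Kunneth.opT, Lib.Cyc.CH.cls, Lib.Cyc.Bivar.totOp_of] at e2
  exact DirectSum.of_injective (β := fun k => ChowOps.CH Y δY k) (m - p) e2

end Groth.Agent.S17675
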