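import Groth.Statements.S17677
import Groth.Agent.H66.Base
import Mathlib.RingTheory.Bialgebra.MonoidAlgebra
-- import your own Groth.Agent.* helpers here

set_option autoImplicit false
universe u
open Hoch

namespace Groth.Agent.S17677

open scoped TensorProduct

/-- Let k be a commutative ring, M a commutative monoid and V a right comodule over the monoid bialgebra
k[M] (a quasi-coherent module with an action of the diagonalizable monoid scheme Spec k[M]). Then
every 1-cocycle of the Hochschild complex of V is a 1-coboundary, i.e. the first Hochschild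
cohomology module of the diagonalizable monoid with coefficients in V is zero. (The source works
over an algebraic space with M finitely generated and cancellative, hypotheses it uses only to
identify modules under the monoid with comodules; the cocycle computation, which is the affine
statement given here, uses neither.) -/
theorem result (k : Type u) [CommRing k] (M : Type u)
    [AddCommMonoid M] (V : Type u) [AddCommGroup V] [Module k V]
    [HopfRep.Comod k (AddMonoidAlgebra k M) V] :
    Hoch.cocycles k (AddMonoidAlgebra k M) V 1 ≤ Hoch.coboundaries k (AddMonoidAlgebra k M) V 1 := by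
  classical
  let A := AddMonoidAlgebra k M
  let α₀ : A →ₗ[k] k := Finsupp.lapply 0 ∘ₗ (AddMonoidAlgebra.coeffLinearEquiv k).toLinearMap
  have hα₀ : ∀ (m : M) (r : k), α₀ (AddMonoidAlgebra.single m r) = if m = 0 then r else 0 := by
    intro m r
    change (AddMonoidAlgebra.single m r).coeff 0 = _
    simp [Finsupp.single_apply, eq_comm]
  have hα : ∀ a : A, α₀.lTensor A (CoalgebraStruct.comul a) = (1 : A) ⊗ₜ[k] α₀ a := by
    intro a
    induction a using AddMonoidAlgebra.induction_linear with
    | zero => simp
    | add x y hx hy => simp only [map_add, hx, hy, TensorProduct.tmul_add]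
    | single m r =>
      rw [AddMonoidAlgebra.comul_single]
      by_cases hm : m = 0
      · subst hm
        simp [hα₀, AddMonoidAlgebra.one_def]
        rfl
      · simp [hα₀, hm]
  have h1 : α₀ 1 = 1 := (hα₀ 0 1).trans (if_pos rfl)
  intro c hc
  let p : V ⊗[k] A →ₗ[k] V := (TensorProduct.rid k V).toLinearMap ∘ₗ α₀.lTensor V
  let P : (V ⊗[k] A) ⊗[k] A →ₗ[k] V ⊗[k] A :=
    (TensorProduct.rid k (V ⊗[k] A)).toLinearMap ∘ₗ α₀.lTensor (V ⊗[k] A)
  have hd : ∀ (x : V) (a : A), Hoch.d k A V 1 (x ⊗ₜ[k] a) =
      HopfRep.Comod.coact (k := k) (A := A) x ⊗ₜ[k] a -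
        (TensorProduct.assoc k V A A).symm (x ⊗ₜ[k] CoalgebraStruct.comul a) + (x ⊗ₜ[k] a) ⊗ₜ[k] (1 : A) := by
    intro x a
    simp only [Hoch.d_succ, LinearMap.add_apply, LinearMap.smul_apply, zero_add, pow_one]
    erw [LinearMap.rTensor_tmul, Hoch.tail_tmul, Hoch.d_zero_apply]
    simp only [TensorProduct.sub_tmul, TensorProduct.tmul_sub, map_sub, TensorProduct.assoc_symm_tmul]
    module
  have hP : ∀ (y : V ⊗[k] A) (b : A), P (y ⊗ₜ[k] b) = α₀ b • y := fun y b => by simp [P]
  have h3 : ∀ (x : V) (w : A ⊗[k] A), P ((TensorProduct.assoc k V A A).symm (x ⊗ₜ[k] w)) =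
      x ⊗ₜ[k] TensorProduct.rid k A (α₀.lTensor A w) := by
    intro x w
    induction w using TensorProduct.induction_on with
    | zero => simp
    | add u v hu hv => simp only [TensorProduct.tmul_add, map_add, hu, hv]
    | tmul u v => simp [hP, TensorProduct.tmul_smul]
  let D : V ⊗[k] A →ₗ[k] (V ⊗[k] A) ⊗[k] A := Hoch.d k A V 1
  let D₀ : V →ₗ[k] V ⊗[k] A := Hoch.d k A V 0
  have key : ∀ z : V ⊗[k] A, P (D z) = D₀ (p z) + z := by
    intro z
    induction z using TensorProduct.induction_on with
    | zero => simp only [map_zero, add_zero]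
    | add x y hx hy => simp only [map_add, hx, hy]; abel
    | tmul x a =>
      have hp : p (x ⊗ₜ[k] a) = α₀ a • x := by simp [p]
      rw [show D (x ⊗ₜ[k] a) = _ from hd x a, hp, map_smul,
        show D₀ x = HopfRep.Comod.coact (k := k) (A := A) x - x ⊗ₜ[k] (1 : A) from rfl]
      rw [map_add, map_sub, hP, hP, h3, hα, TensorProduct.rid_tmul, h1, one_smul, smul_sub,
        TensorProduct.tmul_smul]
  refine ⟨-p c, ?_⟩
  have h := key c
  rw [show D c = 0 from hc, map_zero] at h
  change D₀ (-p c) = c
  rw [map_neg]
  exact neg_eq_iff_add_eq_zero.2 h.symm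

end Groth.Agent.S17677
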