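import Groth.Statements.S17678
import Mathlib
import Groth.Agent.Lib.Tori.Character

set_option autoImplicit false
universe u v
open DiagMon

namespace Groth.Agent.S17678

/-- Let R be a commutative ring and N an abelian group. Then the ring map R[N] → R[N × N] of monoid
algebras induced by the diagonal n ↦ (n, n), which is the comorphism of the multiplication morphism
of the diagonalizable group scheme Spec R[N] over Spec R, is flat. (The published statement asserts
flatness for every cancellative commutative monoid N, on the ground that N acts freely on N × N
through the diagonal; but for the submonoid N of the natural numbers generated by 2 and 3, the pairs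
(x, x − 1) with x ≥ 3 form one orbit class that is not a free orbit, and the corresponding direct
summand of k[N × N] is the ideal t³k[t] viewed as a module over k[t², t³], which is not flat. The
statement is therefore given for groups, where N × N is a free N-set with basis the pairs (0, b).) -/
theorem result (R : Type u) [CommRing R] (N : Type v)
    [AddCommGroup N] :
    (AddMonoidAlgebra.mapDomainRingHom R ((AddMonoidHom.id N).prod (AddMonoidHom.id N))).Flat := by
  rcases subsingleton_or_nontrivial R with hR | hR
  · haveI : Subsingleton (AddMonoidAlgebra R (N × N)) := inferInstance
    algebraize [AddMonoidAlgebra.mapDomainRingHom R ((AddMonoidHom.id N).prod (AddMonoidHom.id N))]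
    show Module.Flat _ _
    infer_instance
  · set d := (AddMonoidHom.id N).prod (AddMonoidHom.id N)
    have h := (Lib.Tori.Character.faithfullyFlat_mapDomain (R := R) (AddMonoidHom.toMultiplicative d) (fun a b h => congrArg Prod.fst h)).flat
    have heq : AddMonoidAlgebra.mapDomainRingHom R d = (AddMonoidAlgebra.toMultiplicative R (N × N)).symm.toRingHom.comp ((MonoidAlgebra.mapDomainRingHom R (AddMonoidHom.toMultiplicative d)).comp (AddMonoidAlgebra.toMultiplicative R N).toRingHom) := by
      apply AddMonoidAlgebra.ringHom_ext <;> intro x <;> simp <;> (rw [RingEquiv.eq_symm_apply]; ext; simp [AddMonoidAlgebra.toMultiplicative])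
    rw [heq]
    exact RingHom.Flat.comp (RingHom.Flat.comp (RingHom.Flat.of_bijective (AddMonoidAlgebra.toMultiplicative R N).bijective) h) (RingHom.Flat.of_bijective (AddMonoidAlgebra.toMultiplicative R (N × N)).symm.bijective)

end Groth.Agent.S17678
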