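import Groth.Statements.S17679
import Mathlib


set_option autoImplicit false
open DiagMon

namespace Groth.Agent.S17679

/-- For n ≥ 1 the minimal number of generators of ℤ^n as an additive monoid is n + 1: some n + 1
elements generate ℤ^n as a monoid, and every finite set generating ℤ^n as a monoid has at least n +
1 elements. (For n = 0 the empty set generates the zero monoid, so the count n + 1 is stated for n ≥
1 only.) -/
theorem result (n : ℕ) (hn : 1 ≤ n) :
    (∃ s : Finset (Fin n → ℤ), s.card = n + 1 ∧ AddSubmonoid.closure (s : Set (Fin n → ℤ)) = ⊤) ∧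
    ∀ s : Finset (Fin n → ℤ), AddSubmonoid.closure (s : Set (Fin n → ℤ)) = ⊤ → n + 1 ≤ s.card := by
  classical
  refine ⟨⟨(Finset.univ.image fun i : Fin n => (Pi.single i 1 : Fin n → ℤ)) ∪ {fun _ => -1}, ?_, ?_⟩, ?_⟩
  · rw [Finset.card_union_of_disjoint, Finset.card_image_of_injective, Finset.card_univ, Fintype.card_fin, Finset.card_singleton]
    · intro i j h
      by_contra hij
      have := congrFun h i
      simp [Ne.symm hij] at this
      try simp [hij] at this
    · rw [Finset.disjoint_singleton_right]
      intro h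
      obtain ⟨i, -, hi⟩ := Finset.mem_image.mp h
      have := congrFun hi i
      simp at this
  · rw [eq_top_iff]
    intro x _
    set S := AddSubmonoid.closure (((Finset.univ.image fun i : Fin n => (Pi.single i 1 : Fin n → ℤ)) ∪ {fun _ => -1} : Finset (Fin n → ℤ)) : Set (Fin n → ℤ))
    have he : ∀ i, (Pi.single i 1 : Fin n → ℤ) ∈ S := fun i => AddSubmonoid.subset_closure (by simp)
    have hneg : (fun _ => (-1 : ℤ)) ∈ S := AddSubmonoid.subset_closure (by simp)
    let c : ℕ := ∑ i, (x i).natAbs
    have hx : x = (c • fun _ => (-1 : ℤ)) + ∑ i, (x i + c).toNat • (Pi.single i 1 : Fin n → ℤ) := by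
      funext j
      have hc : (x j).natAbs ≤ c := Finset.single_le_sum (f := fun i => (x i).natAbs) (fun i _ => Nat.zero_le _) (Finset.mem_univ j)
      simp [Finset.sum_apply, Pi.single_apply]
      omega
    rw [hx]
    exact add_mem (nsmul_mem hneg _) (sum_mem fun i _ => nsmul_mem (he i) _)
  · intro s hs
    by_contra hlt
    push_neg at hlt
    let φ : (s → ℤ) →ₗ[ℤ] (Fin n → ℤ) := Fintype.linearCombination ℤ (fun v : s => (v : Fin n → ℤ))
    have hsurj : Function.Surjective φ := by
      rw [← LinearMap.range_eq_top, Fintype.range_linearCombination]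
      rw [eq_top_iff]
      intro x _
      have hx : x ∈ AddSubmonoid.closure (s : Set (Fin n → ℤ)) := by rw [hs]; trivial
      have h1 : (s : Set (Fin n → ℤ)) ⊆ (Submodule.span ℤ (Set.range fun v : s => (v : Fin n → ℤ))) :=
        fun v hv => Submodule.subset_span ⟨⟨v, hv⟩, rfl⟩
      exact (AddSubmonoid.closure_le (S := (Submodule.span ℤ (Set.range fun v : s => (v : Fin n → ℤ))).toAddSubmonoid)).mpr h1 hx
    have hle : n ≤ s.card := by
      have := LinearMap.finrank_le_finrank_of_surjective hsurj
      simpa using this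
    have heq : s.card = n := by omega
    let e : (Fin n → ℤ) ≃ₗ[ℤ] (s → ℤ) := LinearEquiv.funCongrLeft ℤ ℤ (Fintype.equivFinOfCardEq (α := s) (by simpa using heq))
    have hinj : Function.Injective φ := by
      have h2 : Function.Bijective (φ ∘ₗ e.toLinearMap) := OrzechProperty.bijective_of_surjective_endomorphism _ (hsurj.comp e.surjective)
      intro a b hab
      exact e.symm.injective (h2.1 (by simpa using hab))
    have hmem : -(∑ v : s, (v : Fin n → ℤ)) ∈ AddSubmonoid.closure (s : Set (Fin n → ℤ)) := by rw [hs]; trivial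
    have hpos : ∀ x ∈ AddSubmonoid.closure (s : Set (Fin n → ℤ)), ∃ c : s → ℤ, (∀ v, 0 ≤ c v) ∧ φ c = x := by
      intro x hx
      induction hx using AddSubmonoid.closure_induction with
      | mem v hv => exact ⟨Pi.single ⟨v, hv⟩ 1, fun w => by by_cases h : w = ⟨v, hv⟩ <;> simp [h], by simp [φ, Fintype.linearCombination_apply_single]⟩
      | zero => exact ⟨0, fun _ => le_rfl, map_zero φ⟩
      | add a b _ _ ha hb =>
        obtain ⟨c, hc, rfl⟩ := ha; obtain ⟨d, hd, rfl⟩ := hb
        exact ⟨c + d, fun v => add_nonneg (hc v) (hd v), map_add φ c d⟩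
    obtain ⟨c, hc, hφc⟩ := hpos _ hmem
    have h0 : φ (c + 1) = φ 0 := by
      rw [map_add, hφc, map_zero]
      simp [φ, Fintype.linearCombination_apply]
    have h3 := hinj h0
    obtain ⟨v⟩ : Nonempty s := by
      rw [← Fintype.card_pos_iff, Fintype.card_coe]; omega
    have := congrFun h3 v
    have := hc v
    simp at *
    omega

end Groth.Agent.S17679
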