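import Groth.Statements.S1768
import Groth.Agent.Lib.RightAdjTensor.SupportsBdd
import Groth.Agent.Lib.RightAdjTensor.BddCoprod


set_option autoImplicit false
universe u
open CategoryTheory CategoryTheory.Limits AlgebraicGeometry
attribute [local instance] HasDerivedCategory.standard
open Dual

namespace Groth.Agent.S1768

/-- Let Y be a Noetherian scheme and f : X → Y a proper morphism. Assume the derived direct image Rf_*
exists and preserves quasi-coherence of cohomology sheaves (both known results), so that it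
restricts to a functor D_QCoh(O_X) → D_QCoh(O_Y), and let a : D_QCoh(O_Y) → D_QCoh(O_X) be a right
adjoint of this restricted functor. Let V ⊆ Y be a quasi-compact open subset. If Q in D_QCoh(O_Y) is
bounded below (H^i(Q) = 0 for all i below some integer c) and every cohomology sheaf of Q restricts
to zero on V, then every cohomology sheaf of a(Q) restricts to zero on f⁻¹V. (The published
statement has a further case under different hypotheses; only the case of a Noetherian base is
stated here. Its conclusion is that a list of equivalent conditions holds; the condition stated here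
is the first of them.) -/
theorem result (X Y : Scheme.{u}) [IsNoetherian Y] (f : X ⟶ Y) [IsProper f] [DCoh.HasRpush f] (h : ∀ K : DCoh.D X, DCoh.IsQCohD K → DCoh.IsQCohD ((DCoh.Rpush f).obj K)) (a : DCoh.DQCoh Y ⥤ DCoh.DQCoh X) (adj : (ObjectProperty.lift DCoh.IsQCohD (ObjectProperty.ι DCoh.IsQCohD ⋙ DCoh.Rpush f) (fun K => h K.obj K.property)) ⊣ a) (V : Y.Opens) (hV : IsCompact (V : Set Y)) (Q : DCoh.DQCoh Y) (c : ℤ) (hQc : ∀ i : ℤ, i < c → IsZero (DCoh.HD Q.obj i)) (hQV : ∀ i : ℤ, IsZero ((DCoh.HD Q.obj i).restrict V.ι)) (i : ℤ) : IsZero ((DCoh.HD (a.obj Q).obj i).restrict (f ⁻¹ᵁ V).ι) := by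
  haveI : CompactSpace X := QuasiCompact.compactSpace_of_compactSpace f
  haveI : QuasiSeparatedSpace X := quasiSeparatedSpace_of_quasiSeparated f
  have hb : ∃ c, Q.obj.IsGE c := ⟨c, (DerivedCategory.isGE_iff _ _).2 hQc⟩
  have hv : Groth.Agent.Lib.Gen43.Restrict.Van V Q.obj := fun k y hy hs => by
    have h := (Groth.Agent.Lib.Modules.Stalk.isZero_iff_stalk_subsingleton.1 (hQV k)) ⟨y, hy⟩
    exact hs (Groth.Agent.Lib.Modules.StalkRestrict.restrictStalkAddEquiv V.ι (DCoh.HD Q.obj k) ⟨y, hy⟩).symm.toEquiv.subsingleton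
  have hX := Groth.Agent.Lib.RightAdjTensor.SupportsBdd.van_a f h adj
    (fun M c hM => Groth.Agent.Lib.RightAdjTensor.preservesColimit_of_isGE f h adj _ c fun _ => hM)
    Q hb hv
  refine Groth.Agent.Lib.Modules.Stalk.isZero_iff_stalk_subsingleton.2 fun z => ?_
  haveI : Subsingleton ((DCoh.HD (a.obj Q).obj i).presheaf.stalk ((f ⁻¹ᵁ V).ι z)) :=
    not_not.1 (hX i _ z.2)
  exact (Groth.Agent.Lib.Modules.StalkRestrict.restrictStalkAddEquiv (f ⁻¹ᵁ V).ι (DCoh.HD (a.obj Q).obj i) z).toEquiv.subsingleton

end Groth.Agent.S1768
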