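import Groth.Statements.S17681

import Groth.Agent.Lib.GrpSch.ConnFibre

set_option autoImplicit false
universe u
open CategoryTheory MonoidalCategory CartesianMonoidalCategory MonObj GrpObj AlgebraicGeometry
open AlgGrp

namespace Groth.Agent.S17681

/-- Let S be a scheme, G a flat S-group scheme of finite presentation with connected fibres, X and Y
S-schemes locally of finite presentation with actions of G, and f : X → Y an étale G-equivariant
S-morphism; assume that S is locally Noetherian or that X and Y are quasi-separated over S. Then f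
reflects fixed points: a T-point x of X whose image in Y is fixed by G after every base change T' →
T is itself fixed by G after every base change, so that the fixed-point subfunctor of X is the
preimage of that of Y. (The source allows X and Y to be algebraic spaces over S; this row is the
case of schemes.) -/
theorem result (S : Scheme.{u})
    (G : Over S) [GrpObj G] [Flat G.hom] [LocallyOfFinitePresentation G.hom] [QuasiCompact G.hom]
    [QuasiSeparated G.hom] (hconn : ∀ s : S, ConnectedSpace (G.hom.fiber s))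
    (X Y : Over S) [LocallyOfFinitePresentation X.hom] [LocallyOfFinitePresentation Y.hom]
    (hS : IsLocallyNoetherian S ∨ (QuasiSeparated X.hom ∧ QuasiSeparated Y.hom))
    (a : AlgGrp.Action G X) (b : AlgGrp.Action G Y) (f : X ⟶ Y) [Etale f.left]
    (hf : a.act ≫ f = (G ◁ f) ≫ b.act) (T : Over S) (x : T ⟶ X)
    (hx : ∀ (T' : Over S) (t : T' ⟶ T) (g : T' ⟶ G), lift g (t ≫ x ≫ f) ≫ b.act = t ≫ x ≫ f)
    (T' : Over S) (t : T' ⟶ T) (g : T' ⟶ G) : lift g (t ≫ x) ≫ a.act = t ≫ x := by
  let φ₁ : G ⊗ T ⟶ X := (G ◁ x) ≫ a.act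
  let φ₂ : G ⊗ T ⟶ X := snd G T ≫ x
  have heq : φ₁ ≫ f = φ₂ ≫ f := by
    have := hx (G ⊗ T) (snd G T) (fst G T)
    rw [show φ₁ ≫ f = lift (fst G T) (snd G T ≫ x ≫ f) ≫ b.act by
      simp only [φ₁, Category.assoc, hf, ← MonoidalCategory.whiskerLeft_comp_assoc]
      congr 1, this]
    simp [φ₂]
  have heq' : φ₁.left ≫ f.left = φ₂.left ≫ f.left := congrArg (fun m => m.left) heq
  let c := Limits.pullback.lift φ₁.left φ₂.left heq'
  let E : Set (G ⊗ T).left := {w | c w ∈ Set.range (Limits.pullback.diagonal f.left)}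
  have hE : IsOpen E :=
    (Limits.pullback.diagonal f.left).isOpenEmbedding.isOpen_range.preimage c.continuous
  have key : ∀ {P : Over S} (r : P ⟶ G ⊗ T), r ≫ φ₁ = r ≫ φ₂ ↔ ∀ z, r.left z ∈ E := fun r => by
    have h := Groth.Agent.Lib.GrpSch.comp_eq_iff_forall_mem_diagonal f.left φ₁.left φ₂.left heq' r.left
    rw [← Over.comp_left, ← Over.comp_left] at h
    exact ⟨fun e => h.1 (congrArg (fun m => m.left) e), fun e => Over.OverMorphism.ext (h.2 e)⟩
  have huniv : ∀ w, w ∈ E := by
    intro w
    let q₀ : T.left := (snd G T).left w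
    let K := AlgebraicClosure (T.left.residueField q₀)
    let q : Spec (CommRingCat.of K) ⟶ T.left :=
      Spec.map (CommRingCat.ofHom (algebraMap (T.left.residueField q₀) K)) ≫ T.left.fromSpecResidueField q₀
    let t₁ : Over.mk (q ≫ T.hom) ⟶ T := Over.homMk q rfl
    have hgc : GeometricallyConnected G.hom :=
      Groth.Agent.Lib.GrpSch.geometricallyConnected_of_section G.hom η[G].left
        (Over.w η[G]) hconn
    have : GeometricallyConnected (snd G (Over.mk (q ≫ T.hom))).left :=
      Groth.Agent.Lib.GrpSch.snd_left_of (P := @GeometricallyConnected) _ hgc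
    let π : (G ⊗ Over.mk (q ≫ T.hom)).left ⟶ Spec (CommRingCat.of K) := (snd G (Over.mk (q ≫ T.hom))).left
    have : GeometricallyConnected π := this
    have : ConnectedSpace (G ⊗ Over.mk (q ≫ T.hom)).left :=
      GeometricallyConnected.connectedSpace_of_subsingleton (f := π)
    have mem : ∀ g : Over.mk (q ≫ T.hom) ⟶ G,
        (∀ z, (lift g (𝟙 _)).left z ∈ (G ◁ t₁).left ⁻¹' E) ↔ lift g (t₁ ≫ x) ≫ a.act = t₁ ≫ x := by
      intro g
      have h := key (lift g t₁)
      rw [show lift g t₁ ≫ φ₁ = lift g (t₁ ≫ x) ≫ a.act by simp [φ₁],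
        show lift g t₁ ≫ φ₂ = t₁ ≫ x by simp [φ₂],
        ← Groth.Agent.Lib.GrpSch.whiskerLeft_lift t₁ g] at h
      exact h.symm
    have hall := Groth.Agent.Lib.GrpSch.open_eq_univ_of_connected (G := G) (q ≫ T.hom)
      ((G ◁ t₁).left ⁻¹' E) (hE.preimage (G ◁ t₁).left.continuous)
      ((mem 1).2 (Groth.Agent.Lib.GrpSch.act_one a _))
      (fun g h hg hh => (mem _).2 (by rw [Groth.Agent.Lib.GrpSch.act_mul, (mem h).1 hh, (mem g).1 hg]))
      (fun g hg => (mem _).2 (by
        conv_lhs => rw [← (mem g).1 hg]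
        rw [Groth.Agent.Lib.GrpSch.act_inv_act]))
    obtain ⟨v, hv, -⟩ := Scheme.exists_preimage_of_isPullback
      (Groth.Agent.Lib.GrpSch.isPullback_whiskerLeft G t₁) w (IsLocalRing.closedPoint K) (by
        change (snd G T).left w = q _
        exact ((Scheme.Hom.comp_apply _ _ _).trans (Scheme.fromSpecResidueField_apply _ _)).symm)
    rw [← hv]
    exact (Set.eq_univ_iff_forall.1 hall v : _)
  have h := (key (lift g t)).2 fun z => huniv _
  simpa [φ₁, φ₂] using h


end Groth.Agent.S17681
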