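import Groth.Statements.S17682
import Mathlib


set_option autoImplicit false
universe u v w u'
open DiagMon

namespace Groth.Agent.S17682

/-- Let R be a commutative ring, A a commutative R-algebra graded by a commutative monoid M, N a
submonoid of M and R' a commutative R-algebra. For every R-algebra homomorphism F : A → R' vanishing
on the homogeneous elements of degree outside N there is a unique R-algebra homomorphism f : A →
R'[M] which is graded (a homogeneous element of degree m goes to a multiple of X^m), vanishes on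
homogeneous elements of degree outside N, and composes with the augmentation X^m ↦ 1 to F. In the
dictionary where an M-grading of A is an action of the diagonalizable monoid scheme Spec R[M] on
Spec A and graded maps A → R'[M] supported on N are equivariant maps from the monoid scheme of N
over R', this says that the attractor of Spec A for the magnet N is represented by the closed
subscheme of Spec A defined by the homogeneous elements of degree outside N. -/
theorem result (R : Type u) [CommRing R]
    (A : Type v) [CommRing A] [Algebra R A] (M : Type w) [AddCommMonoid M] [DecidableEq M]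
    (𝒜 : M → Submodule R A) [GradedAlgebra 𝒜] (N : AddSubmonoid M) (R' : Type u') [CommRing R']
    [Algebra R R'] (F : A →ₐ[R] R') (hF : ∀ m, m ∉ N → ∀ a ∈ 𝒜 m, F a = 0) :
    ∃! f : A →ₐ[R] AddMonoidAlgebra R' M,
      (∀ m, ∀ a ∈ 𝒜 m, f a =
          AddMonoidAlgebra.single m (Bialgebra.counitAlgHom R' (AddMonoidAlgebra R' M) (f a))) ∧
      (∀ m, m ∉ N → ∀ a ∈ 𝒜 m, f a = 0) ∧
      ∀ a, Bialgebra.counitAlgHom R' (AddMonoidAlgebra R' M) (f a) = F a := by
  classical
  let L : ∀ m, 𝒜 m →ₗ[R] AddMonoidAlgebra R' M := fun m =>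
    (Finsupp.lsingle m : R' →ₗ[R] M →₀ R') |> fun g => ((AddMonoidAlgebra.coeffLinearEquiv R).symm.toLinearMap ∘ₗ g) ∘ₗ F.toLinearMap ∘ₗ (𝒜 m).subtype
  have hL : ∀ (m : M) (a : 𝒜 m), L m a = AddMonoidAlgebra.single m (F (a : A)) := fun m a => rfl
  let f₀ : (DirectSum M fun m => 𝒜 m) →ₐ[R] AddMonoidAlgebra R' M :=
    DirectSum.toAlgebra R (fun m => 𝒜 m) L
      (by rw [hL, AddMonoidAlgebra.one_def]; exact congrArg _ (by simp))
      (fun {i j} ai aj => by rw [hL, hL, hL, AddMonoidAlgebra.single_mul_single, ← map_mul]; rfl)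
  let f : A →ₐ[R] AddMonoidAlgebra R' M := f₀.comp (DirectSum.decomposeAlgEquiv 𝒜).toAlgHom
  have hf : ∀ m, ∀ a ∈ 𝒜 m, f a = AddMonoidAlgebra.single m (F a) := by
    intro m a ha
    show f₀ (DirectSum.decompose 𝒜 a) = _
    rw [DirectSum.decompose_of_mem _ ha]
    show DirectSum.toAlgebra R (fun m => 𝒜 m) L _ _ (DirectSum.of (fun m => 𝒜 m) m ⟨a, ha⟩) = _
    exact (DirectSum.toAddMonoid_of (fun i => (L i).toAddMonoidHom) m ⟨a, ha⟩).trans (hL m ⟨a, ha⟩)
  have hc : ∀ a, Bialgebra.counitAlgHom R' (AddMonoidAlgebra R' M) (f a) = F a := by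
    intro a
    rw [← DirectSum.sum_support_decompose 𝒜 a, map_sum, map_sum, map_sum]
    refine Finset.sum_congr rfl fun m _ => ?_
    rw [hf m _ (SetLike.coe_mem _)]
    simp
  refine ⟨f, ⟨fun m a ha => ?_, fun m hm a ha => ?_, hc⟩, ?_⟩
  · rw [hc, hf m a ha]
  · rw [hf m a ha, hF m hm a ha]; simp
  · rintro g ⟨hg1, hg2, hg3⟩
    ext a : 1
    rw [← DirectSum.sum_support_decompose 𝒜 a, map_sum, map_sum]
    refine Finset.sum_congr rfl fun m _ => ?_
    rw [hg1 m _ (SetLike.coe_mem _), hg3, hf m _ (SetLike.coe_mem _)]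

end Groth.Agent.S17682
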