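import Groth.Statements.S17683
import Mathlib


set_option autoImplicit false
universe u
open DiagMon

namespace Groth.Agent.S17683

/-- Let N be a commutative monoid and F a submonoid of N. The additive projection ℤ[N] → ℤ[F] of monoid
algebras keeping the monomials with exponent in F and killing the others is multiplicative, i.e. F
is a face of N, if and only if for all x, y in N the sum x + y lies in F exactly when both x and y
do. -/
theorem result {N : Type u} [AddCommMonoid N] (F : AddSubmonoid N) :
    (∀ a b : AddMonoidAlgebra ℤ N,
        AddMonoidAlgebra.comapDomain ((↑) : F → N) Subtype.val_injective (a * b) =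
          AddMonoidAlgebra.comapDomain ((↑) : F → N) Subtype.val_injective a *
            AddMonoidAlgebra.comapDomain ((↑) : F → N) Subtype.val_injective b) ↔
      ∀ x y : N, x + y ∈ F ↔ (x ∈ F ∧ y ∈ F) := by
  classical
  constructor
  · intro h x y
    have hx := h (AddMonoidAlgebra.single x 1) (AddMonoidAlgebra.single y 1)
    rw [AddMonoidAlgebra.single_mul_single, mul_one] at hx
    have key : ∀ z : N, AddMonoidAlgebra.comapDomain ((↑) : F → N) Subtype.val_injective (AddMonoidAlgebra.single z (1 : ℤ)) =
        if hz : z ∈ F then AddMonoidAlgebra.single (⟨z, hz⟩ : F) (1 : ℤ) else 0 := by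
      intro z
      ext w
      by_cases hz : z ∈ F
      · rw [dif_pos hz]
        simp [Finsupp.single_apply, Subtype.ext_iff]
      · rw [dif_neg hz]
        simp [Finsupp.single_apply]
        exact fun h1 => hz (h1 ▸ w.2)
    rw [key, key, key] at hx
    refine ⟨fun hxy => ?_, fun h1 => F.add_mem h1.1 h1.2⟩
    rw [dif_pos hxy] at hx
    by_cases h1 : x ∈ F
    · by_cases h2 : y ∈ F
      · exact ⟨h1, h2⟩
      · rw [dif_neg h2, mul_zero, AddMonoidAlgebra.single_eq_zero] at hx
        exact absurd hx one_ne_zero
    · rw [dif_neg h1, zero_mul, AddMonoidAlgebra.single_eq_zero] at hx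
      exact absurd hx one_ne_zero
  · intro h a b
    have key : ∀ (z : N) (r : ℤ), AddMonoidAlgebra.comapDomain ((↑) : F → N) Subtype.val_injective (AddMonoidAlgebra.single z r) =
        if hz : z ∈ F then AddMonoidAlgebra.single (⟨z, hz⟩ : F) r else 0 := by
      intro z r
      ext w
      by_cases hz : z ∈ F
      · rw [dif_pos hz]
        simp [Finsupp.single_apply, Subtype.ext_iff]
      · rw [dif_neg hz]
        simp [Finsupp.single_apply]
        exact fun h1 => absurd (h1 ▸ w.2) hz
    have hadd : ∀ u v : AddMonoidAlgebra ℤ N, AddMonoidAlgebra.comapDomain ((↑) : F → N) Subtype.val_injective (u + v) =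
        AddMonoidAlgebra.comapDomain ((↑) : F → N) Subtype.val_injective u + AddMonoidAlgebra.comapDomain ((↑) : F → N) Subtype.val_injective v := by
      intro u v; ext w; simp
    induction a using AddMonoidAlgebra.induction_linear with
    | zero => ext w; simp
    | add u v hu hv => rw [add_mul, hadd, hadd, hu, hv, add_mul]
    | single x r =>
      induction b using AddMonoidAlgebra.induction_linear with
      | zero => ext w; simp
      | add u v hu hv => rw [mul_add, hadd, hadd, hu, hv, mul_add]
      | single y s =>
        rw [AddMonoidAlgebra.single_mul_single, key, key, key]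
        by_cases h1 : x + y ∈ F
        · rw [dif_pos h1, dif_pos ((h x y).mp h1).1, dif_pos ((h x y).mp h1).2, AddMonoidAlgebra.single_mul_single]
          rfl
        · rw [dif_neg h1]
          by_cases h2 : x ∈ F
          · rw [dif_neg fun h3 : y ∈ F => h1 (F.add_mem h2 h3), mul_zero]
          · rw [dif_neg h2, zero_mul]

end Groth.Agent.S17683
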