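import Groth.Statements.S17685

import Groth.Agent.Lib.GrpSch.FiniteAgree

set_option autoImplicit false
universe u
open CategoryTheory MonoidalCategory CartesianMonoidalCategory MonObj GrpObj AlgebraicGeometry
open AlgGrp

open Groth.Agent.Lib.GrpSch Groth.Agent.Lib.GrpSch.FiniteAgree

namespace Groth.Agent.S17685

/-- Let S be a scheme, F an S-scheme that is finite locally free over S (finite, flat and locally of
finite presentation) with a section e of F over S which is a surjective closed immersion (an
infinitesimal pointed S-scheme), and X an S-scheme with an action of the pointed scheme F, i.e. an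
S-morphism F ×_S X → X through which e acts as the identity. Then the subfunctor of F-fixed points
of X, whose T-points are the T-points x of X with g · x_{T'} = x_{T'} for every S-scheme T' over T
and every T'-point g of F, is represented by a closed subscheme of X. (The source allows F and X to
be algebraic spaces over S; this row is the case of schemes.) -/
theorem result (S : Scheme.{u})
    (F X : Over S) (e : 𝟙_ (Over S) ⟶ F) (act : F ⊗ X ⟶ X) (he : (e ▷ X) ≫ act = (λ_ X).hom)
    [IsFinite F.hom] [Flat F.hom] [LocallyOfFinitePresentation F.hom]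
    [IsClosedImmersion e.left] [Surjective e.left] :
    ∃ (Z : Scheme.{u}) (i : Z ⟶ X.left), IsClosedImmersion i ∧
      ∀ (T : Over S) (x : T ⟶ X), (∃ y : T.left ⟶ Z, y ≫ i = x.left) ↔
        ∀ (T' : Over S) (t : T' ⟶ T) (g : T' ⟶ F), lift g (t ≫ x) ≫ act = t ≫ x := by
  haveI : IsImmersion (diag X) := FiniteAgree.diag_immersion
  haveI : IsFinite (snd F X).left := snd_left_of (P := @IsFinite) X ‹_›
  haveI : Flat (snd F X).left := snd_left_of (P := @Flat) X ‹_›
  haveI : LocallyOfFinitePresentation (snd F X).left := snd_left_of (P := @LocallyOfFinitePresentation) X ‹_›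
  haveI : IsImmersion (eqι act (snd F X)) := MorphismProperty.pullback_fst (P := @IsImmersion) _ _ ‹_›
  haveI : Surjective (e ▷ X).left := whiskerRight_left_of (P := @Surjective) e X ‹_›
  obtain ⟨w, hw⟩ := (FiniteAgree.factor_iff act (snd F X) (e ▷ X)).2
    (by rw [he, whiskerRight_snd, leftUnitor_hom])
  haveI : IsClosedImmersion (eqι act (snd F X)) := by
    refine IsClosedImmersion.of_isPreimmersion _ ?_
    convert isClosed_univ
    refine Set.eq_univ_of_forall fun y => ?_
    obtain ⟨z, rfl⟩ := (e ▷ X).left.surjective y
    exact ⟨w z, by rw [← Scheme.Hom.comp_apply, hw]⟩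
  obtain ⟨Z, j, hj, -, hZ⟩ := FiniteAgree.exists_agree (snd F X) act (snd F X)
  refine ⟨Z, j, hj, fun T x => (hZ T x).trans ⟨fun h T' t g => ?_, fun h W p q hpq => ?_⟩⟩
  · have := h T' (lift g (t ≫ x)) t (lift_snd _ _)
    rwa [lift_snd] at this
  · have h1 := h W q (p ≫ fst F X)
    rw [← hpq, ← comp_lift, lift_fst_snd, Category.comp_id] at h1
    exact h1

end Groth.Agent.S17685
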