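import Groth.Statements.S17687
import Mathlib


set_option autoImplicit false
universe u v w
open DiagMon

namespace Groth.Agent.S17687

/-- Let R be a commutative ring and A a commutative R-algebra of finite type graded by a commutative
monoid M. Then the set of ideals J_N, N running over all submonoids of M, where J_N is generated by
the homogeneous elements of degree not in N (the ideal of the attractor of Spec A for the magnet N),
is finite: Spec A has finitely many attractors and hence finitely many pure magnets. (The source
assumes Spec A of finite presentation over the base; its proof uses only a finite set of homogeneous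
algebra generators, so finite type is assumed here.) -/
theorem result (R : Type u) [CommRing R] (A : Type v) [CommRing A]
    [Algebra R A] [Algebra.FiniteType R A] (M : Type w) [AddCommMonoid M] [DecidableEq M]
    (𝒜 : M → Submodule R A) [GradedAlgebra 𝒜] :
    (Set.range fun N : AddSubmonoid M => Ideal.span {a : A | ∃ m : M, m ∉ N ∧ a ∈ 𝒜 m}).Finite := by
  classical
  obtain ⟨T, hT⟩ := (inferInstance : Algebra.FiniteType R A).out
  let H : Finset (M × A) := T.biUnion fun t => (DirectSum.decompose 𝒜 t).support.image fun m => (m, (DirectSum.decompose 𝒜 t m : A))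
  refine (H.powerset.finite_toSet.image fun S : Finset (M × A) => Ideal.span (Prod.snd '' (S : Set (M × A)))).subset ?_
  rintro _ ⟨N, rfl⟩
  refine ⟨H.filter fun p => p.1 ∉ N, Finset.mem_coe.mpr (Finset.mem_powerset.mpr (Finset.filter_subset _ _)), ?_⟩
  refine le_antisymm (Ideal.span_le.mpr ?_) (Ideal.span_le.mpr ?_)
  · rintro _ ⟨p, hp, rfl⟩
    obtain ⟨hpH, hpN⟩ := Finset.mem_filter.mp hp
    obtain ⟨t, -, ht⟩ := Finset.mem_biUnion.mp hpH
    obtain ⟨m, -, rfl⟩ := Finset.mem_image.mp ht
    exact Ideal.subset_span ⟨m, hpN, SetLike.coe_mem _⟩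
  · rintro a ⟨m, hm, ha⟩
    set I := Ideal.span (Prod.snd '' ((H.filter fun p => p.1 ∉ N : Finset (M × A)) : Set (M × A)))
    suffices h : ∀ x : A, ∀ m, m ∉ N → (DirectSum.decompose 𝒜 x m : A) ∈ I by
      have := h a m hm
      rwa [DirectSum.decompose_of_mem_same 𝒜 ha] at this
    intro x
    have hx : x ∈ Algebra.adjoin R (T : Set A) := by rw [hT]; trivial
    induction hx using Algebra.adjoin_induction with
    | mem t ht =>
      intro m hm
      by_cases h0 : m ∈ (DirectSum.decompose 𝒜 t).support
      · exact Ideal.subset_span ⟨(m, _), Finset.mem_coe.mpr (Finset.mem_filter.mpr ⟨Finset.mem_biUnion.mpr ⟨t, ht, Finset.mem_image_of_mem _ h0⟩, hm⟩), rfl⟩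
      · rw [DFinsupp.notMem_support_iff.mp h0, ZeroMemClass.coe_zero]; exact zero_mem _
    | algebraMap r =>
      intro m hm
      rw [DirectSum.decompose_of_mem_ne 𝒜 (i := 0) (SetLike.algebraMap_mem_graded 𝒜 r) (fun h : 0 = m => hm (h ▸ N.zero_mem))]
      exact zero_mem _
    | add u v _ _ hu hv =>
      intro m hm
      rw [DirectSum.decompose_add, DirectSum.add_apply, AddMemClass.coe_add]
      exact add_mem (hu m hm) (hv m hm)
    | mul u v _ _ hu hv =>
      intro m hm
      rw [DirectSum.decompose_mul, DirectSum.coe_mul_apply]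
      refine sum_mem fun ij hij => ?_
      obtain ⟨-, hij⟩ := Finset.mem_filter.mp hij
      by_cases h1 : ij.1 ∈ N
      · exact Ideal.mul_mem_left _ _ (hv _ fun h2 => hm (hij ▸ N.add_mem h1 h2))
      · exact Ideal.mul_mem_right _ _ (hu _ h1)

end Groth.Agent.S17687
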