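import Groth.Statements.S17688
import Groth.Agent.Lib.SchDense.Factor
import Mathlib.FieldTheory.Finite.Basic

set_option autoImplicit false
universe u
open CategoryTheory CategoryTheory.Limits AlgebraicGeometry MonObj
open Neron

namespace Groth.Agent.S17688

/-- Let R be a discrete valuation ring whose fraction field K has characteristic p > 0, and let U be a
flat, separated, commutative group scheme over Spec R whose generic fibre U_K is annihilated by a
power p^N of p (in the group of endomorphisms of U_K as a K-scheme, the p^N-th power of the identity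
is the unit). Then for every prime ℓ invertible in R the ℓ-th power map of U (the ℓ-th power of the
identity in the group of R-morphisms U → U) is an isomorphism. -/
theorem result
    (R : Type u) [CommRing R] [IsDomain R] [IsDiscreteValuationRing R]
    (p : ℕ) (hp : p.Prime) [CharP (FractionRing R) p]
    (U : Over (Spec (CommRingCat.of R))) [GrpObj U] [IsCommMonObj U] [Flat U.hom] [IsSeparated U.hom]
    (N : ℕ) (hN : (𝟙 (Red.bc (Neron.genPt R) U) : Red.bc (Neron.genPt R) U ⟶ Red.bc (Neron.genPt R) U) ^ (p ^ N) = 1)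
    (ℓ : ℕ) (hℓ : ℓ.Prime) (hℓu : IsUnit (ℓ : R)) :
    IsIso ((𝟙 U : U ⟶ U) ^ ℓ) := by
  have := Groth.Agent.Lib.SchDense.Basic.std_genPt R
  have hpow : (𝟙 U : U ⟶ U) ^ (p ^ N) = 1 := by
    apply Groth.Agent.Lib.SchDense.Basic.pullback_map_injective (Neron.genPt R)
    refine ((Functor.homMonoidHom (Over.pullback (Neron.genPt R)) (X := U) (M := U)).map_pow _ _).trans ?_
    refine (Eq.trans ?_ hN).trans
      (Functor.homMonoidHom (Over.pullback (Neron.genPt R)) (X := U) (M := U)).map_one.symm
    rw [Functor.homMonoidHom_apply, CategoryTheory.Functor.map_id]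
  have hne : ℓ ≠ p := by
    rintro rfl
    have := hℓu.map (algebraMap R (FractionRing R))
    rw [map_natCast, CharP.cast_eq_zero] at this
    exact not_isUnit_zero this
  have hco : Nat.Coprime ℓ (p ^ N) := ((Nat.coprime_primes hℓ hp).mpr hne).pow_right N
  have htot : 0 < Nat.totient (p ^ N) := Nat.totient_pos.mpr (pow_pos hp.pos N)
  obtain ⟨t, ht⟩ : ∃ t, Nat.totient (p ^ N) = t + 1 := ⟨_, (Nat.succ_pred_eq_of_pos htot).symm⟩
  have hmod := Nat.ModEq.pow_totient hco
  rw [ht, pow_succ] at hmod
  have key : (𝟙 U : U ⟶ U) ^ (ℓ ^ t * ℓ) = 𝟙 U := by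
    rw [← Nat.mod_add_div (ℓ ^ t * ℓ) (p ^ N), pow_add, pow_mul, hpow, one_pow, hmod]
    rw [_root_.mul_one]
    by_cases h1 : p ^ N = 1
    · rw [h1] at hpow ⊢
      simp only [pow_one] at hpow
      simp [hpow]
    · rw [Nat.one_mod_eq_one.mpr h1, pow_one]
  refine ⟨(𝟙 U : U ⟶ U) ^ (ℓ ^ t), ?_, ?_⟩
  · rw [MonObj.comp_pow, Category.comp_id, ← pow_mul, mul_comm, key]
  · rw [MonObj.comp_pow, Category.comp_id, ← pow_mul, key]

end Groth.Agent.S17688
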