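import Groth.Statements.S17689
import Mathlib.RingTheory.IntegralClosure.IntegrallyClosed
import Mathlib.RingTheory.DiscreteValuationRing.Basic
import Mathlib.RingTheory.Polynomial.RationalRoot
import Groth.Agent.H75.UH.Res

set_option autoImplicit false
universe u
open CategoryTheory AlgebraicGeometry
open Neron

namespace Groth.Agent.S17689

/-- Let R ⊆ S be a finite extension of discrete valuation rings (the structure map R → S is injective
and S is a finite R-module) such that the induced extension K ⊆ L of fraction fields is purely
inseparable. Then the morphism Spec S → Spec R is a universal homeomorphism: every base change of it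
is a homeomorphism on underlying spaces. (No excellence hypothesis is needed here.) -/
theorem result
    (R S K L : Type u) [CommRing R] [IsDomain R] [IsDiscreteValuationRing R]
    [CommRing S] [IsDomain S] [IsDiscreteValuationRing S] [Algebra R S] [Module.Finite R S] [FaithfulSMul R S]
    [Field K] [Field L] [Algebra R K] [IsFractionRing R K] [Algebra S L] [IsFractionRing S L]
    [Algebra K L] [Algebra R L] [IsScalarTower R S L] [IsScalarTower R K L] [IsPurelyInseparable K L] :
    FlatMor.IsUnivHomeo (Spec.map (CommRingCat.ofHom (algebraMap R S))) := by
  obtain ⟨e, he⟩ := ExpChar.exists K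
  have := he
  have key : ∀ z : S, ∃ (n : ℕ) (a : R), z ^ e ^ n = algebraMap R S a := by
    intro z
    obtain ⟨n, k, hk⟩ := IsPurelyInseparable.pow_mem K e (algebraMap S L z)
    have hint : IsIntegral R (algebraMap S L z) :=
      (Algebra.IsIntegral.isIntegral z).algebraMap
    have hk' : IsIntegral R k := by
      refine (isIntegral_algebraMap_iff (A := K) (B := L) (RingHom.injective _)).mp ?_
      rw [hk]
      exact hint.pow _
    obtain ⟨a, ha⟩ := (IsIntegrallyClosed.isIntegral_iff (R := R) (K := K)).mp hk'
    refine ⟨n, a, IsFractionRing.injective S L ?_⟩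
    rw [map_pow, ← hk, ← ha, ← IsScalarTower.algebraMap_apply,
      ← IsScalarTower.algebraMap_apply]
  rw [Groth.Agent.H75.UH.isUnivHomeo_iff]
  refine ⟨algebraMap_isIntegral_iff.mpr inferInstance, ?_, ?_⟩
  · rw [(RingHom.injective_iff_ker_eq_bot _).mp (FaithfulSMul.algebraMap_injective R S)]
    exact bot_le
  · intro p hp z
    obtain ⟨n, a, hna⟩ := key z
    have hres : Groth.Agent.H75.UH.URes (algebraMap R S) p (z ^ e ^ n) := by
      refine ⟨1, a, fun h1 => hp.ne_top ((Ideal.eq_top_iff_one p).mpr h1), fun q hq hqp => ?_⟩
      simp [hna]
    by_cases he1 : e = 1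
    · subst he1
      exact Or.inl (by simpa using hres)
    · refine Or.inr ⟨e, (expChar_is_prime_or_one K e).resolve_right he1, ?_, n, hres⟩
      have h0 : (e : R) = 0 := by
        apply IsFractionRing.injective R K
        rw [map_natCast, map_zero]
        cases he with
        | zero => exact absurd rfl he1
        | prime _ => exact CharP.cast_eq_zero K e
      rw [h0]
      exact zero_mem _

end Groth.Agent.S17689
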