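import Groth.Statements.S17690
import Mathlib.RingTheory.IntegralClosure.IntegrallyClosed
import Mathlib.RingTheory.DiscreteValuationRing.TFAE
import Mathlib.RingTheory.Polynomial.RationalRoot
import Mathlib.FieldTheory.PurelyInseparable.Basic
import Mathlib.RingTheory.DedekindDomain.IntegralClosure
import Groth.Agent.Lib.Excellent.Nagata
import Groth.Agent.S2654

set_option autoImplicit false
universe u
open Neron

namespace Groth.Agent.S17690

theorem dvr_of_finite
    (R K L : Type u) [CommRing R] [IsDomain R] [IsDiscreteValuationRing R]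
    [Field K] [Algebra R K] [IsFractionRing R K] [Field L] [Algebra K L] [FiniteDimensional K L]
    [IsPurelyInseparable K L] [Algebra R L] [IsScalarTower R K L]
    (hfin : Module.Finite R ↥(integralClosure R L)) :
    IsDiscreteValuationRing ↥(integralClosure R L) := by
  have hnoeth : IsNoetherianRing ↥(integralClosure R L) := IsNoetherianRing.of_finite R _
  have hic : IsIntegrallyClosed ↥(integralClosure R L) :=
    integralClosure.isIntegrallyClosedOfFiniteExtension K
  have hinj : Function.Injective (algebraMap R ↥(integralClosure R L)) := by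
    intro a b h
    apply IsFractionRing.injective R K
    apply (algebraMap K L).injective
    rw [← IsScalarTower.algebraMap_apply, ← IsScalarTower.algebraMap_apply]
    exact congrArg Subtype.val h
  obtain ⟨e, he⟩ := ExpChar.exists K
  have := he
  have key : ∀ z : ↥(integralClosure R L), ∃ (n : ℕ) (a : R),
      z ^ e ^ n = algebraMap R ↥(integralClosure R L) a := by
    intro z
    obtain ⟨n, k, hk⟩ := IsPurelyInseparable.pow_mem K e (z : L)
    have hk' : IsIntegral R k := by
      refine (isIntegral_algebraMap_iff (A := K) (B := L) (RingHom.injective _)).mp ?_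
      rw [hk]
      exact z.2.pow _
    obtain ⟨a, ha⟩ := (IsIntegrallyClosed.isIntegral_iff (R := R) (K := K)).mp hk'
    refine ⟨n, a, Subtype.ext ?_⟩
    rw [SubmonoidClass.coe_pow, ← hk, ← ha, ← IsScalarTower.algebraMap_apply]
    rfl
  have hnf : ¬ IsField ↥(integralClosure R L) := fun h =>
    IsDiscreteValuationRing.not_isField R (isField_of_isIntegral_of_isField hinj h)
  have hmax : ∀ q q' : Ideal ↥(integralClosure R L), q.IsMaximal → q'.IsMaximal → q ≤ q' := by
    intro q q' hq hq' z hz
    have h1 : ∀ Q : Ideal ↥(integralClosure R L), Q.IsMaximal →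
        Q.comap (algebraMap R ↥(integralClosure R L)) = IsLocalRing.maximalIdeal R := fun Q hQ =>
      haveI := hQ
      IsLocalRing.eq_maximalIdeal (Ideal.isMaximal_comap_of_isIntegral_of_isMaximal Q)
    obtain ⟨n, a, ha⟩ := key z
    have hpos : 0 < e ^ n := pow_pos (expChar_pos K e) n
    have ha' : a ∈ q.comap (algebraMap R ↥(integralClosure R L)) := by
      rw [Ideal.mem_comap, ← ha]
      exact q.pow_mem_of_mem hz _ hpos
    rw [h1 q hq, ← h1 q' hq', Ideal.mem_comap, ← ha] at ha'
    exact hq'.isPrime.mem_of_pow_mem _ ha'
  obtain ⟨q, hq⟩ := Ideal.exists_maximal ↥(integralClosure R L)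
  have hloc : IsLocalRing ↥(integralClosure R L) :=
    IsLocalRing.of_unique_max_ideal ⟨q, hq, fun q' hq' =>
      le_antisymm (hmax q' q hq' hq) (hmax q q' hq hq')⟩
  have hded : IsDedekindDomain ↥(integralClosure R L) := { }
  exact ((IsDiscreteValuationRing.TFAE _ hnf).out 0 2).mpr hded

/-- Let R be an excellent discrete valuation ring (Noetherian, universally catenary, G-ring, J-2) with
fraction field K, and let L be a finite purely inseparable field extension of K. Then the integral
closure S of R in L is a discrete valuation ring, and S is a finite R-module. -/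
theorem result
    (R K L : Type u) [CommRing R] [IsDomain R] [IsDiscreteValuationRing R] (hR : EGA4.IsExcellent R)
    [Field K] [Algebra R K] [IsFractionRing R K] [Field L] [Algebra K L] [FiniteDimensional K L]
    [IsPurelyInseparable K L] [Algebra R L] [IsScalarTower R K L] :
    IsDiscreteValuationRing ↥(integralClosure R L) ∧ Module.Finite R ↥(integralClosure R L) := by
  have hN : CAlg.IsNagata R := Groth.Agent.S2654.result R ⟨hR.1, hR.2.2.1, hR.2.2.2⟩
  have h2 : CAlg.IsN2 R :=
    Groth.Agent.Lib.Excellent.Nagata.isN2_of_ringEquiv (RingEquiv.quotientBot R) (hN.2 ⊥)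
  have hfin : Module.Finite R ↥(integralClosure R L) :=
    Groth.Agent.Lib.Excellent.Nagata.finite_integralClosure_of_isN2 h2 K L
  exact ⟨dvr_of_finite R K L hfin, hfin⟩

end Groth.Agent.S17690
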