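import Groth.Statements.S17692
import Groth.Agent.Lib.WeilRep.AF

set_option autoImplicit false
universe u
open CategoryTheory CategoryTheory.Limits AlgebraicGeometry
open WeilRes

namespace Groth.Agent.S17692

/-- Suppose f : S' → S is a finite, locally free morphism of schemes (i.e. finite, flat and locally of
finite presentation) that is also a universal homeomorphism, and let X' be an arbitrary scheme over
S' (no condition on finite sets of points lying in a common affine open). Then the Weil restriction
of X' along f is representable by an S-scheme: there exist an S-scheme R and an S'-morphism q from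
the base change R ×_S S' to X' such that, for every S-scheme T, sending an S-morphism g : T → R to
(g ×_S S') followed by q is a bijection onto the S'-morphisms T ×_S S' → X'. (The published
statement writes X' as a scheme over S; the proof treats an S'-scheme, as here.) -/
theorem result
    {S S' : Scheme.{u}} (f : S' ⟶ S) [IsFinite f] [Flat f] [LocallyOfFinitePresentation f]
    (hf : FlatMor.IsUnivHomeo f) (X' : Over S') :
    ∃ (R : Over S) (q : Red.bc f R ⟶ X'), WeilRes.IsWeilRes f X' R q := by
  obtain ⟨R, ⟨r⟩⟩ := Lib.WeilRep.AF.isRepresentable_of_fibres f X' fun T a t => by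
    obtain ⟨V, hV, htV, -⟩ := exists_isAffineOpen_mem_and_subset (X := S) (x := T.hom t) (U := ⊤) trivial
    have hh : IsHomeomorph (pullback.fst T.hom f) :=
      hf _ _ _ (IsPullback.of_hasPullback T.hom f)
    obtain ⟨z₀, hz₀⟩ := hh.surjective t
    have hmem : f (X'.hom (a.left z₀)) ∈ V := by
      change f ((a.left ≫ X'.hom) z₀) ∈ V
      rw [Over.w a]
      change f (pullback.snd T.hom f z₀) ∈ V
      rw [← Scheme.Hom.comp_apply, ← pullback.condition, Scheme.Hom.comp_apply, hz₀]
      exact htV
    obtain ⟨Y, hY, hzY, hYV⟩ := exists_isAffineOpen_mem_and_subset (X := X'.left) (x := a.left z₀)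
      (U := X'.hom ⁻¹ᵁ (f ⁻¹ᵁ V)) hmem
    exact ⟨⟨V, hV⟩, Y, hY, fun y hy => hYV hy, htV,
      fun z hz => (hh.injective (hz.trans hz₀.symm)).symm ▸ hzY⟩
  exact ⟨R, _, WeilRes.IsWeilRes.of_representableBy r⟩

end Groth.Agent.S17692
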