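import Groth.Statements.S17693
import Groth.Agent.Lib.WeilRep.AF
import Groth.Agent.Lib.WeilRep.GrpAffine

set_option autoImplicit false
universe u
open CategoryTheory CategoryTheory.Limits AlgebraicGeometry
open WeilRes

namespace Groth.Agent.S17693

/-- Let k be a field, A a finite k-algebra and G a group scheme of finite type over Spec A, not
necessarily smooth. Then the Weil restriction of G along Spec A → Spec k is representable: there
exist a k-scheme R and an A-morphism q : R ×_k Spec A → G such that for every k-scheme T the map g ↦
(g ×_k Spec A) ≫ q is a bijection from k-morphisms T → R onto A-morphisms T ×_k Spec A → G. (The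
published statement adds that the representing k-group scheme is quasi-projective; only
representability is stated here.) -/
theorem result
    (k A : Type u) [Field k] [CommRing A] [Algebra k A] [Module.Finite k A]
    (G : Over (Spec (CommRingCat.of A))) [GrpObj G] [LocallyOfFiniteType G.hom] [QuasiCompact G.hom] :
    ∃ (R : Over (Spec (CommRingCat.of k)))
      (q : Red.bc (Spec.map (CommRingCat.ofHom (algebraMap k A))) R ⟶ G),
      WeilRes.IsWeilRes (Spec.map (CommRingCat.ofHom (algebraMap k A))) G R q := by
  have : IsArtinianRing A := IsArtinianRing.of_finite k A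
  let f := Spec.map (CommRingCat.ofHom (algebraMap k A))
  have : IsFinite f := (IsFinite.SpecMap_iff _).mpr (RingHom.finite_algebraMap.mpr inferInstance)
  have : Flat f := Flat.SpecMap_iff.mpr (RingHom.flat_algebraMap_iff.mpr inferInstance)
  have : LocallyOfFinitePresentation f := (HasRingHomProperty.Spec_iff (P := @LocallyOfFinitePresentation)).mpr
    (RingHom.finitePresentation_algebraMap.mpr (Algebra.FinitePresentation.of_finiteType.mp inferInstance))
  have h := Lib.WeilRep.AF.isRepresentable f G fun s E hE _ => by
    obtain ⟨Y, hY, hEY⟩ := Lib.WeilRep.GrpAffine.exists_isAffineOpen_finite_of_isArtinianRing G E hE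
    exact ⟨⟨⊤, isAffineOpen_top _⟩, Y, hY, fun _ _ => trivial, trivial, hEY⟩
  exact ⟨_, _, WeilRes.IsWeilRes.of_representableBy (Functor.representableBy _)⟩

end Groth.Agent.S17693
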