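import Groth.Statements.S17694
import Groth.Agent.H2.TorusHom.Main
import Groth.Agent.H87.HomDS
import Groth.Agent.S7785

set_option autoImplicit false
universe u
open CategoryTheory CategoryTheory.Limits AlgebraicGeometry MonObj
open WeilRes

namespace Groth.Agent.S17694

/-- Let κ be a field, B a finite κ-algebra and E an abelian scheme over B, that is a proper smooth
B-group scheme whose geometric fibres are connected. Let R be a κ-group scheme which, with the
homomorphism q : R ×_κ Spec B → E, is the Weil restriction of E along Spec B → Spec κ. Then the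
maximal torus of R is trivial; precisely, as the proof establishes, for every algebraically closed
field Ω over κ every homomorphism of Ω-group schemes from the multiplicative group over Ω to the
base change of R to Ω is trivial. -/
theorem result
    (κ B : Type u) [Field κ] [CommRing B] [Algebra κ B] [Module.Finite κ B]
    (E : Over (Spec (CommRingCat.of B))) [GrpObj E] [IsProper E.hom] [Smooth E.hom]
    (hEc : ∀ (Ω' : Type u) [Field Ω'] (t : Spec (CommRingCat.of Ω') ⟶ Spec (CommRingCat.of B)),
      ConnectedSpace ↥(pullback E.hom t))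
    (R : Over (Spec (CommRingCat.of κ))) [GrpObj R]
    (q : Red.bc (Spec.map (CommRingCat.ofHom (algebraMap κ B))) R ⟶ E) [IsMonHom q]
    (hR : WeilRes.IsWeilRes (Spec.map (CommRingCat.ofHom (algebraMap κ B))) E R q)
    (Ω : Type u) [Field Ω] [IsAlgClosed Ω] [Algebra κ Ω]
    (φ : Red.Gm (Spec (CommRingCat.of Ω)) ⟶ Red.bc (Spec.map (CommRingCat.ofHom (algebraMap κ Ω))) R)
    [IsMonHom φ] :
    φ = 1 := by
  haveI : GeometricallyConnected E.hom := ⟨by
    intro K _ y Z p₁ p₂ hP
    haveI := hEc K y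
    exact (Scheme.homeoOfIso hP.isoPullback).symm.surjective.connectedSpace
      (Scheme.homeoOfIso hP.isoPullback).symm.continuous⟩
  haveI : GeometricallyReduced E.hom := H2.Rigid.geometricallyReduced_of_smooth E.hom
  haveI : IsCommMonObj E := S7785.result E
  let h : Spec (CommRingCat.of Ω) ⟶ Spec (CommRingCat.of κ) :=
    Spec.map (CommRingCat.ofHom (algebraMap κ Ω))
  let ρ : Spec (CommRingCat.of B) ⟶ Spec (CommRingCat.of κ) :=
    Spec.map (CommRingCat.ofHom (algebraMap κ B))
  let a : pullback h ρ ⟶ Spec (CommRingCat.of Ω) := pullback.fst h ρ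
  let b : pullback h ρ ⟶ Spec (CommRingCat.of B) := pullback.snd h ρ
  let j : ∀ X : Over (pullback h ρ),
      (Over.map ρ).obj ((Over.map b).obj X) ⟶ (Over.map h).obj ((Over.map a).obj X) := fun X =>
    Over.homMk (𝟙 X.left) (by
      change 𝟙 X.left ≫ (X.hom ≫ a) ≫ h = (X.hom ≫ b) ≫ ρ
      rw [Category.id_comp, Category.assoc, Category.assoc, pullback.condition])
  let G : ∀ X : Over (pullback h ρ),
      (X ⟶ Red.bc a (Red.Gm (Spec (CommRingCat.of Ω)))) → ((Over.map b).obj X ⟶ E) := fun X x =>
    Lib.RedPts.BC.up ρ (j X ≫ Lib.RedPts.BC.down h (Lib.RedPts.BC.down a x ≫ φ)) ≫ q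
  have hGmul : ∀ X (x y : X ⟶ Red.bc a (Red.Gm (Spec (CommRingCat.of Ω)))),
      G X (x * y) = G X x * G X y := by
    intro X x y
    simp only [G, Lib.RedPts.BC.down_mul, MonObj.mul_comp, MonObj.comp_mul, Lib.RedPts.BC.up_mul]
  have hGnat : ∀ (X X' : Over (pullback h ρ)) (g : X' ⟶ X)
      (x : X ⟶ Red.bc a (Red.Gm (Spec (CommRingCat.of Ω)))),
      (Over.map b).map g ≫ G X x = G X' (g ≫ x) := by
    intro X X' g x
    simp only [G, ← Category.assoc]
    congr 1
    apply Lib.RedPts.BC.down_injective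
    have e : Lib.RedPts.BC.down h (Lib.RedPts.BC.down a (g ≫ x) ≫ φ) = (Over.map h).map ((Over.map a).map g) ≫
        Lib.RedPts.BC.down h (Lib.RedPts.BC.down a x ≫ φ) := by
      rw [Lib.RedPts.BC.down_comp (f := a), Category.assoc, Lib.RedPts.BC.down_comp]
    rw [Lib.RedPts.BC.down_comp, Lib.RedPts.BC.down_up, Lib.RedPts.BC.down_up, e,
      ← Category.assoc, ← Category.assoc]
    refine congrArg (· ≫ Lib.RedPts.BC.down h (Lib.RedPts.BC.down a x ≫ φ)) ?_
    apply Over.OverMorphism.ext
    simp [j, Over.map_map_left]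
  let F : Red.bc a (Red.Gm (Spec (CommRingCat.of Ω))) ⟶ Red.bc b E :=
    Lib.RedPts.BC.up b (G _ (𝟙 _))
  have hF : ∀ (X : Over (pullback h ρ)) (x : X ⟶ Red.bc a (Red.Gm (Spec (CommRingCat.of Ω)))),
      Lib.RedPts.BC.down b (x ≫ F) = G X x := fun X x => by
    rw [Lib.RedPts.BC.down_comp, Lib.RedPts.BC.down_up, hGnat, Category.comp_id]
  haveI : IsMonHom F := H87.HomDS.isMonHom_of_points F fun X x y => Lib.RedPts.BC.down_injective <| by
    rw [Lib.RedPts.BC.down_mul, hF, hF, hF, hGmul]
  haveI : IsCommMonObj (Red.bc b E) := Functor.isCommMonObj_obj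
  haveI : Smooth (Red.bc b E).hom := inferInstanceAs (Smooth (pullback.snd E.hom b))
  haveI : IsProper (Red.bc b E).hom := inferInstanceAs (IsProper (pullback.snd E.hom b))
  have hF1 : F = 1 := H2.TorusHom.torus_hom_eq_one _ _
    (Lib.Tori.Basic.isTorus_bc (Lib.Tori.Basic.isTorus_Gm _) a) F
  let Y : Over (Spec (CommRingCat.of κ)) := (Over.map h).obj (Red.Gm (Spec (CommRingCat.of Ω)))
  let r : Y ⟶ R := Lib.RedPts.BC.down h φ
  suffices hr : r = 1 from Lib.RedPts.BC.down_eq_one.1 hr
  have h1 : WeilRes.restr ρ q Y 1 = 1 := by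
    have e := WeilRes.restr_mul ρ q Y 1 1
    rw [_root_.one_mul] at e
    exact left_eq_mul.mp e
  apply (hR Y).1
  refine Eq.trans ?_ h1.symm
  let X : Over (pullback h ρ) := Over.mk (pullback.lift
    (pullback.fst Y.hom ρ ≫ (Red.Gm (Spec (CommRingCat.of Ω))).hom) (pullback.snd Y.hom ρ)
    ((Category.assoc _ _ _).trans pullback.condition))
  let y : (Over.map a).obj X ⟶ Red.Gm (Spec (CommRingCat.of Ω)) :=
    Over.homMk (pullback.fst Y.hom ρ) (pullback.lift_fst _ _ _).symm
  let k : (Over.map b).obj X ⟶ Red.bc ρ Y :=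
    Over.homMk (𝟙 _) ((Category.id_comp _).trans (pullback.lift_snd _ _ _).symm)
  haveI : IsIso k := by
    haveI : IsIso ((Over.forget _).map k) := by
      change IsIso (𝟙 _)
      infer_instance
    exact isIso_of_reflects_iso k (Over.forget _)
  rw [← cancel_epi k, MonObj.comp_one]
  calc k ≫ WeilRes.restr ρ q Y r = G X (Lib.RedPts.BC.up a y) := by
        simp only [G, WeilRes.restr, Lib.RedPts.BC.down_up, ← Category.assoc]
        congr 1
        apply Lib.RedPts.BC.down_injective
        rw [Lib.RedPts.BC.down_up, Lib.RedPts.BC.down_map, Lib.RedPts.BC.down_comp (f := h),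
          ← Category.assoc]
        refine congrArg (· ≫ r) ?_
        apply Over.OverMorphism.ext
        rw [Over.comp_left, Lib.RedPts.BC.down_left]
        simp [k, j, y, Over.map_map_left]
    _ = 1 := by rw [← hF, hF1, MonObj.comp_one, Lib.RedPts.BC.down_one]

end Groth.Agent.S17694
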