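import Groth.Statements.S17703
import Groth.Agent.Lib.Cohen.DedekindGRing
import Groth.Agent.Lib.Excellent.GenericRegularApps
import Groth.Agent.H18.CMPoly
import Groth.Agent.Lib.GenFinite.Regular
import Groth.Agent.S2654
import Groth.Agent.S2657
import Groth.Agent.Lib.Excellent.FormalFibre
import Mathlib.RingTheory.KrullDimension.PID

set_option autoImplicit false
set_option linter.style.haveILetI false
universe u
open Neron

namespace Groth.Agent.S17703

/-- Let R be a discrete valuation ring with fraction field K, R̂ its completion and K̂ = Frac R̂. Then R
is excellent (Noetherian, universally catenary, G-ring and J-2) if and only if K̂ is geometrically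
reduced over K, i.e. K ⊆ K̂ is separable; here K̂ is written as the generic formal fibre κ(0) ⊗_R R̂
of R, which is R̂ with the uniformizer inverted. -/
theorem result
    (R : Type u) [CommRing R] [IsDomain R] [IsDiscreteValuationRing R] :
    EGA4.IsExcellent R ↔
      Algebra.IsGeometricallyReduced (⊥ : Ideal R).ResidueField (EGA4.formalFibre R (⊥ : Ideal R)) := by
  classical
  constructor
  · intro hE
    have hN : CAlg.IsNagata R := Groth.Agent.S2654.result R ⟨hE.1, hE.2.2.1, hE.2.2.2⟩
    rw [Groth.Agent.Lib.Excellent.FormalFibre.isGeometricallyReduced_iff_finite]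
    intro k' _ _ hk'
    haveI := hk'
    let k := (⊥ : Ideal R).ResidueField
    haveI : FaithfulSMul R k := (faithfulSMul_iff_algebraMap_injective _ _).2 <| by
      rw [injective_iff_map_eq_zero]
      exact fun a ha => Ideal.algebraMap_residueField_eq_zero.1 ha
    haveI : IsFractionRing R k := IsFractionRing.of_field R k fun z => by
      obtain ⟨a, s, -, rfl⟩ := IsFractionRing.div_surjective (R ⧸ (⊥ : Ideal R)) z
      obtain ⟨a, rfl⟩ := Ideal.Quotient.mk_surjective a
      obtain ⟨s, rfl⟩ := Ideal.Quotient.mk_surjective s
      exact ⟨a, s, rfl⟩
    let K := FractionRing R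
    let ε : K ≃ₐ[R] k := FractionRing.algEquiv R k
    letI : Algebra R k' := ((algebraMap k k').comp (algebraMap R k)).toAlgebra
    haveI : IsScalarTower R k k' := IsScalarTower.of_algebraMap_eq fun _ => rfl
    letI : Algebra K k' := ((algebraMap k k').comp ε.toRingEquiv.toRingHom).toAlgebra
    haveI : IsScalarTower R K k' := IsScalarTower.of_algebraMap_eq fun c => by
      rw [RingHom.algebraMap_toAlgebra (R := K), RingHom.comp_apply]
      exact (IsScalarTower.algebraMap_apply R k k' c).trans (congrArg _ (ε.commutes c).symm)
    haveI : FiniteDimensional K k' := by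
      refine Module.Finite.of_equiv_equiv ε.symm.toRingEquiv (RingEquiv.refl k') ?_
      ext z
      simp [RingHom.algebraMap_toAlgebra]
      rfl
    haveI := Groth.Agent.Lib.Cohen.AnalyticDimOne.isReduced_tensor_finite hN k'
    exact isReduced_of_injective ((Algebra.TensorProduct.cancelBaseChange R k k' k'
      (AdicCompletion (IsLocalRing.maximalIdeal R) R)).toRingEquiv.trans
        (Algebra.TensorProduct.comm R k' (AdicCompletion (IsLocalRing.maximalIdeal R) R)).toRingEquiv)
      (RingEquiv.injective _)
  · intro hgr
    have hfib : EGA4.HasGeomReducedFormalFibres R := by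
      intro p hp
      rcases eq_or_ne p ⊥ with rfl | hne
      · exact hgr
      have hpm : IsLocalRing.maximalIdeal R ≤ p :=
        ((hp.isMaximal hne).eq_of_le (IsLocalRing.maximalIdeal.isMaximal R).ne_top
          (IsLocalRing.le_maximalIdeal hp.ne_top)).ge
      let C := AdicCompletion (IsLocalRing.maximalIdeal R) R
      let k := p.ResidueField
      have hkill : ∀ r ∈ IsLocalRing.maximalIdeal R, algebraMap R k r = 0 := fun r hr =>
        Ideal.algebraMap_residueField_eq_zero.2 (hpm hr)
      have hsurj : Function.Surjective (Algebra.TensorProduct.includeLeft : k →ₐ[k] TensorProduct R k C) := by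
        intro z
        induction z using TensorProduct.induction_on with
        | zero => exact ⟨0, map_zero _⟩
        | add x y hx hy =>
          obtain ⟨a, rfl⟩ := hx
          obtain ⟨b, rfl⟩ := hy
          exact ⟨a + b, map_add _ _ _⟩
        | tmul b c =>
          obtain ⟨r, hr⟩ := (AdicCompletion.residueField_map_bijective R).2 (IsLocalRing.residue C c)
          obtain ⟨r, rfl⟩ := IsLocalRing.residue_surjective r
          rw [IsLocalRing.ResidueField.map_residue, ← sub_eq_zero, ← map_sub,
            IsLocalRing.residue_eq_zero_iff, AdicCompletion.maximalIdeal_eq_map] at hr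
          have hz : ∀ x ∈ (IsLocalRing.maximalIdeal R).map (algebraMap R C), TensorProduct.tmul R b x = 0 := by
            intro x hx
            rw [← Submodule.restrictScalars_mem R, ← Ideal.smul_top_eq_map] at hx
            induction hx using Submodule.smul_induction_on' with
            | smul a ha y _ =>
              rw [← TensorProduct.smul_tmul, Algebra.smul_def, hkill a ha, zero_mul,
                TensorProduct.zero_tmul]
            | add x _ y _ hx hy => rw [TensorProduct.tmul_add, hx, hy, add_zero]
          refine ⟨r • b, ?_⟩
          have h := hz _ hr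
          rw [TensorProduct.tmul_sub, sub_eq_zero] at h
          rw [← h, Algebra.algebraMap_eq_smul_one, ← TensorProduct.smul_tmul]
          rfl
      rw [Groth.Agent.Lib.Excellent.FormalFibre.isGeometricallyReduced_iff_finite]
      intro k' _ _ hk'
      let φ : k' →+* TensorProduct k k' (TensorProduct R k C) :=
        (Algebra.TensorProduct.includeLeft : k' →ₐ[k] TensorProduct k k' (TensorProduct R k C)).toRingHom
      have hφ : Function.Surjective φ := by
        intro z
        induction z using TensorProduct.induction_on with
        | zero => exact ⟨0, map_zero _⟩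
        | add x y hx hy =>
          obtain ⟨a, rfl⟩ := hx
          obtain ⟨b, rfl⟩ := hy
          exact ⟨a + b, map_add _ _ _⟩
        | tmul a w =>
          obtain ⟨c, rfl⟩ := hsurj w
          refine ⟨c • a, ?_⟩
          change TensorProduct.tmul k (c • a) (1 : TensorProduct R k C) = _
          rw [TensorProduct.smul_tmul]
          congr 1
          exact (Algebra.algebraMap_eq_smul_one c).symm
      rcases subsingleton_or_nontrivial (TensorProduct k k' (TensorProduct R k C)) with h | h
      · exact ⟨fun x _ => Subsingleton.elim (α := TensorProduct k k' (TensorProduct R k C)) x 0⟩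
      exact isReduced_of_injective (RingEquiv.ofBijective φ ⟨φ.injective, hφ⟩).symm (RingEquiv.injective _)
    have hN : CAlg.IsNagata R := Groth.Agent.S2657.result R hfib
    haveI : LocCoh.IsCohenMacaulayRing R := ⟨fun p _ => by
      haveI : IsRegularLocalRing (Localization.AtPrime p) := inferInstance
      exact Groth.Agent.Lib.GenFinite.Regular.isCohenMacaulayLocalRing (Localization.AtPrime p)⟩
    exact ⟨inferInstance, Groth.Agent.H18.CMPoly.isUniversallyCatenary R,
      Groth.Agent.Lib.Cohen.DedekindGRing.isGRing_of_isNagata R hN,
      Groth.Agent.Lib.Excellent.GenericRegularApps.isJ2_of_isNagata R hN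
        (Order.KrullDimLE.krullDim_le (α := PrimeSpectrum R))⟩

end Groth.Agent.S17703
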