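import Groth.Statements.S17705
import Groth.Agent.Lib.WittU.UnipPeriod
import Groth.Agent.Lib.CommAlgGrp.Basic
import Groth.Agent.H4.NPowEtale
import Groth.Agent.H1.GrpIrred

set_option autoImplicit false
set_option linter.style.haveILetI false
set_option linter.unusedVariables false
set_option maxHeartbeats 1000000
universe u
open CategoryTheory CategoryTheory.Limits MonoidalCategory CartesianMonoidalCategory AlgebraicGeometry MonObj
open Neron

namespace Groth.Agent.S17705

open scoped CategoryTheory.Obj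
attribute [local instance] Hom.commMonoid

open Groth.Agent.Lib

/-- A smooth connected affine group over a field of characteristic `p` without geometric subtori, which is
a surjective image of a commutative group, is killed by a power of `p`. -/
theorem exists_killed (K : Type u) [Field K] (p : ℕ) [CharP K p]
    {P V : Over (Spec (CommRingCat.of K))} [GrpObj P] [IsCommMonObj P] [GrpObj V]
    [LocallyOfFiniteType P.hom] [QuasiCompact P.hom] (q : P ⟶ V) [IsMonHom q] (hq : Surjective q.left)
    [Smooth V.hom] [ConnectedSpace ↥V.left] [IsAffine V.left]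
    (hV : Red.HasNoSubtorus (AlgebraicClosure K)
      (Red.bc (Spec.map (CommRingCat.ofHom (algebraMap K (AlgebraicClosure K)))) V)) :
    ∃ N : ℕ, (𝟙 V) ^ (p ^ N) = 1 := by
  let L := AlgebraicClosure K
  let e := GrpSch.extBase K L
  let P' := (Over.pullback e).obj P
  let V' := (Over.pullback e).obj V
  haveI : CharP L p := charP_of_injective_algebraMap (algebraMap K L).injective p
  haveI : ConnectedSpace ↥V'.left := H1.GrpIrred.connectedSpace_bc V L
  haveI : Smooth V'.hom := GrpSch.bc_hom_of (P := @Smooth) e V inferInstance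
  haveI : LocallyOfFiniteType P'.hom := GrpSch.bc_hom_of (P := @LocallyOfFiniteType) e P inferInstance
  haveI : QuasiCompact P'.hom := GrpSch.bc_hom_of (P := @QuasiCompact) e P inferInstance
  haveI : IsAffineHom V'.hom := GrpSch.bc_hom_of (P := @IsAffineHom) e V inferInstance
  haveI : IsAffine V'.left := isAffine_of_isAffineHom V'.hom
  haveI : IsAffineHom (V' ⊗ V').hom :=
    MorphismProperty.comp_mem _ _ _ (MorphismProperty.pullback_fst _ _ inferInstance) inferInstance
  haveI : IsAffine (V' ⊗ V').left := isAffine_of_isAffineHom (V' ⊗ V').hom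
  haveI : Smooth (V' ⊗ V').hom :=
    MorphismProperty.comp_mem _ _ _ (MorphismProperty.pullback_fst _ _ inferInstance) inferInstance
  haveI : IsReduced (V' ⊗ V').left := GrpSch.isReduced_of_smooth_field (V' ⊗ V').hom
  let q' : P' ⟶ V' := (Over.pullback e).map q
  haveI : Surjective q'.left := GrpSch.bc_map_left_of (P := @Surjective) e q hq
  haveI : IsMonHom q' := GrpSch.isMonHom_bc_map e q
  haveI : IsCommMonObj V' := by
    refine ⟨WittU.Pts.hom_ext_pts fun x => ?_⟩
    obtain ⟨a, ha⟩ := GrpSch.exists_lift_point q' (x ≫ fst V' V')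
    obtain ⟨b, hb⟩ := GrpSch.exists_lift_point q' (x ≫ snd V' V')
    rw [MonObj.mul_eq_mul, MonObj.comp_mul, braiding_hom_fst, braiding_hom_snd, MonObj.comp_mul, MonObj.comp_mul,
      ← ha, ← hb, ← MonObj.mul_comp, ← MonObj.mul_comp, _root_.mul_comm]
  haveI : IsReduced V'.left := GrpSch.isReduced_of_smooth_field V'.hom
  obtain ⟨T, ψ, -, -⟩ := WittU.UnipScheme.exists_tower (G := V') hV
  refine ⟨T.dim, ?_⟩
  have hK : (𝟙 V') ^ (p ^ T.dim) = 1 := by
    refine WittU.Pts.hom_ext_pts fun x => ?_
    rw [MonObj.comp_pow, Category.comp_id, MonObj.comp_one]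
    refine Additive.ofMul.injective (ψ.injective ?_)
    rw [ofMul_pow, map_nsmul, WittU.UnipPeriod.smul_tower p T.isTwr, ofMul_one, map_zero]
  have hmap : ∀ j : ℕ, (Over.pullback e).map ((𝟙 V : V ⟶ V) ^ j) = (𝟙 V') ^ j := by
    intro j
    induction j with
    | zero => simp [Functor.map_one, V']
    | succ j ih => rw [pow_succ, Functor.map_mul, ih, CategoryTheory.Functor.map_id, pow_succ]
  have h1 : (Over.pullback e).map ((𝟙 V : V ⟶ V) ^ (p ^ T.dim)) = (Over.pullback e).map 1 := by
    rw [hmap, hK, Functor.map_one]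
  haveI : Surjective (GrpSch.bcProj e V) := (GrpSch.bcProj_surjective_flat_qc K L V).1.1
  haveI : Flat (GrpSch.bcProj e V) := (GrpSch.bcProj_surjective_flat_qc K L V).1.2
  haveI : Epi (GrpSch.bcProj e V) := Flat.epi_of_flat_of_surjective _
  refine Over.OverMorphism.ext ((cancel_epi (GrpSch.bcProj e V)).1 ?_)
  rw [← (GrpSch.isPullback_bc_map e _).w, ← (GrpSch.isPullback_bc_map e _).w, h1]

/-- A group whose base change along `Spec K ⟶ Spec R` is commutative and which has unique extension of
morphisms is commutative. -/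
theorem comm_of_neron {R K : Type u} [CommRing R] [Field K] [Algebra R K] {N : Over (Spec (CommRingCat.of R))}
    [GrpObj N] (hN : SGA7.IsNeron R K N)
    [IsCommMonObj ((Over.pullback (Spec.map (CommRingCat.ofHom (algebraMap R K)))).obj N)] : IsCommMonObj N := by
  obtain ⟨hsm, -, -, hbij⟩ := hN
  haveI : Smooth (N ⊗ N).hom := MorphismProperty.comp_mem _ _ _ (MorphismProperty.pullback_fst _ _ hsm) hsm
  refine ⟨?_⟩
  rw [MonObj.mul_eq_mul, MonObj.comp_mul, braiding_hom_fst, braiding_hom_snd]
  apply (hbij (N ⊗ N) inferInstance).1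
  show (Over.pullback _).map _ = (Over.pullback _).map _
  rw [Functor.map_mul, Functor.map_mul, _root_.mul_comm]

section UnitComp

variable {R : Type u} [CommRing R] [IsLocalRing R]

theorem cpt_mem {N : Over (Spec (CommRingCat.of R))} (x : 𝟙_ (Over (Spec (CommRingCat.of R))) ⟶ N) :
    x.left.base (IsLocalRing.closedPoint R) ∈ SGA7.specialFibreSet R N := by
  show N.hom.base (x.left.base (IsLocalRing.closedPoint R)) = IsLocalRing.closedPoint R
  rw [← Scheme.Hom.comp_apply, Over.w x]
  rfl

theorem mem_of_map {N M : Over (Spec (CommRingCat.of R))} [GrpObj N] [GrpObj M] (T : N ⟶ M)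
    (h : η[N] ≫ T ∈ SGA7.secUnitComp R M) {x : 𝟙_ (Over (Spec (CommRingCat.of R))) ⟶ N}
    (hx : x ∈ SGA7.secUnitComp R N) : x ≫ T ∈ SGA7.secUnitComp R M := by
  show (x ≫ T).left.base (IsLocalRing.closedPoint R) ∈ connectedComponentIn _ _
  rw [connectedComponentIn_eq (show (η[N] ≫ T).left.base (IsLocalRing.closedPoint R) ∈ connectedComponentIn _ _ from h)]
  refine (isPreconnected_connectedComponentIn.image _ T.left.continuous.continuousOn).subset_connectedComponentIn
    ⟨_, mem_connectedComponentIn (cpt_mem η[N]), rfl⟩ ?_ ⟨_, hx, rfl⟩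
  rintro _ ⟨v, hv, rfl⟩
  have := connectedComponentIn_subset _ _ hv
  show M.hom.base (T.left.base v) = _
  rw [← Scheme.Hom.comp_apply, Over.w T]
  exact this

theorem one_mem {N : Over (Spec (CommRingCat.of R))} [GrpObj N] :
    (1 : 𝟙_ (Over (Spec (CommRingCat.of R))) ⟶ N) ∈ SGA7.secUnitComp R N := by
  rw [← MonObj.one_eq_one]
  exact mem_connectedComponentIn (cpt_mem η[N])

theorem map_mem {N M : Over (Spec (CommRingCat.of R))} [GrpObj N] [GrpObj M] (T : N ⟶ M) [IsMonHom T]
    {x : 𝟙_ (Over (Spec (CommRingCat.of R))) ⟶ N}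
    (hx : x ∈ SGA7.secUnitComp R N) : x ≫ T ∈ SGA7.secUnitComp R M :=
  mem_of_map T (by rw [IsMonHom.one_hom T, MonObj.one_eq_one]; exact one_mem) hx

/-- The sections through the unit component form a subgroup. -/
noncomputable def unitSubgroup (N : Over (Spec (CommRingCat.of R))) [GrpObj N] :
    Subgroup (𝟙_ (Over (Spec (CommRingCat.of R))) ⟶ N) where
  carrier := SGA7.secUnitComp R N
  one_mem' := one_mem
  mul_mem' {a b} ha hb := by
    have hw : ∀ w : 𝟙_ (Over (Spec (CommRingCat.of R))) ⟶ N, w ≫ (𝟙 N * (toUnit N ≫ b)) = w * b := fun w => by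
      rw [MonObj.comp_mul, Category.comp_id, ← Category.assoc, toUnit_unique (w ≫ _) (𝟙 _), Category.id_comp]
    show a * b ∈ SGA7.secUnitComp R N
    rw [← hw]
    exact mem_of_map _ (by rw [hw, MonObj.one_eq_one, _root_.one_mul]; exact hb) ha
  inv_mem' {a} ha := by
    show a⁻¹ ∈ SGA7.secUnitComp R N
    rw [← Category.comp_id a, ← GrpObj.comp_inv]
    exact mem_of_map _ (by rw [GrpObj.comp_inv, Category.comp_id, MonObj.one_eq_one, inv_one]; exact one_mem) ha

end UnitComp

/-- Let R be an excellent discrete valuation ring of equal characteristic p > 0 which is strictly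
henselian (henselian with separably closed residue field), K its fraction field, and P a
pseudo-abelian variety over K, that is a smooth connected commutative K-group scheme of finite type
all of whose smooth connected affine closed subgroup schemes are trivial (unit section an
isomorphism). Let 0 → E → P → V → 0 be an exact sequence of K-group schemes in which E is an abelian
variety, embedded as a closed subgroup and equal to the kernel of the surjective homomorphism P → V,
and V is smooth, connected, affine and unipotent (no non-trivial subtorus over an algebraic closure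
of K); E is then the maximal abelian subvariety of P. Let N_E and N_P be the Néron models of E and P
over R, with group isomorphisms of their generic fibres onto E and P, and g : N_E → N_P the
homomorphism whose generic fibre is the inclusion E → P. Then for every prime ℓ invertible in R the
map induced by g on groups of connected components is an isomorphism on ℓ-primary parts; since R is
strictly henselian this reads on R-points, writing N⁰(R) for the sections meeting the connected
component of the unit in the special fibre: (a) if x ∈ N_E(R) has some x^(ℓ^m) in N_E⁰(R) and g(x) ∈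
N_P⁰(R) then x ∈ N_E⁰(R); (b) every y ∈ N_P(R) with some y^(ℓ^m) in N_P⁰(R) satisfies y · g(x)⁻¹ ∈
N_P⁰(R) for some x ∈ N_E(R) with some x^(ℓ^m') in N_E⁰(R). (The published statement is for any
excellent R, as an isomorphism of étale κ-group schemes; it reduces to this case by Galois descent.) -/
theorem result
    (R K : Type u) [CommRing R] [IsDomain R] [IsDiscreteValuationRing R] (hR : EGA4.IsExcellent R)
    (p : ℕ) (hp : p.Prime) [CharP R p] [HenselianLocalRing R] [IsSepClosed (IsLocalRing.ResidueField R)]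
    [Field K] [Algebra R K] [IsFractionRing R K]
    (P : Over (Spec (CommRingCat.of K))) [GrpObj P] [IsCommMonObj P]
    [Smooth P.hom] [LocallyOfFiniteType P.hom] [QuasiCompact P.hom] [ConnectedSpace ↥P.left]
    (hP : ∀ (H : Over (Spec (CommRingCat.of K))) [GrpObj H] (j : H ⟶ P) [IsMonHom j],
      IsClosedImmersion j.left → Smooth H.hom → ConnectedSpace ↥H.left → IsAffine H.left → IsIso η[H])
    (E V : Over (Spec (CommRingCat.of K))) [GrpObj E] [GrpObj V]
    [IsProper E.hom] [GeometricallyIntegral E.hom]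
    (jE : E ⟶ P) [IsMonHom jE] (πV : P ⟶ V) [IsMonHom πV]
    (hjE : IsClosedImmersion jE.left) (hker : AlgGrp.IsKernel jE πV) (hπV : Surjective πV.left)
    [Smooth V.hom] [ConnectedSpace ↥V.left] [IsAffine V.left]
    (hV : Red.HasNoSubtorus (AlgebraicClosure K) (Red.bc (Spec.map (CommRingCat.ofHom (algebraMap K (AlgebraicClosure K)))) V))
    (NE NP : Over (Spec (CommRingCat.of R))) [GrpObj NE] [GrpObj NP]
    (hNE : SGA7.IsNeron R K NE) (hNP : SGA7.IsNeron R K NP)
    (eE : Red.bc (Spec.map (CommRingCat.ofHom (algebraMap R K))) NE ≅ E) [IsMonHom eE.hom] (eP : Red.bc (Spec.map (CommRingCat.ofHom (algebraMap R K))) NP ≅ P) [IsMonHom eP.hom]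
    (g : NE ⟶ NP) [IsMonHom g] (hg : (Over.pullback (Spec.map (CommRingCat.ofHom (algebraMap R K)))).map g ≫ eP.hom = eE.hom ≫ jE)
    (ℓ : ℕ) (hℓ : ℓ.Prime) (hℓu : IsUnit (ℓ : R)) :
    (∀ x : 𝟙_ (Over (Spec (CommRingCat.of R))) ⟶ NE, (∃ m : ℕ, x ^ (ℓ ^ m) ∈ SGA7.secUnitComp R NE) →
        x ≫ g ∈ SGA7.secUnitComp R NP → x ∈ SGA7.secUnitComp R NE) ∧
      ∀ y : 𝟙_ (Over (Spec (CommRingCat.of R))) ⟶ NP, (∃ m : ℕ, y ^ (ℓ ^ m) ∈ SGA7.secUnitComp R NP) →
        ∃ x : 𝟙_ (Over (Spec (CommRingCat.of R))) ⟶ NE, (∃ m : ℕ, x ^ (ℓ ^ m) ∈ SGA7.secUnitComp R NE) ∧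
          y * (x ≫ g)⁻¹ ∈ SGA7.secUnitComp R NP := by
  haveI : CharP K p := charP_of_injective_algebraMap (IsFractionRing.injective R K) p
  haveI := hπV
  obtain ⟨m₀, hkill⟩ := exists_killed K p πV hπV hV
  set n := p ^ m₀
  haveI : IsMonHom ((𝟙 P : P ⟶ P) ^ n) := H4.NPowEtale.isMonHom_pow_id P n
  have hpow : ((𝟙 P : P ⟶ P) ^ n) ≫ πV = toUnit P ≫ η[V] := by
    rw [← Hom.one_def, MonObj.pow_comp, Category.id_comp, ← Category.comp_id πV, ← MonObj.comp_pow, hkill,
      MonObj.comp_one]
  let h : P ⟶ E := hker.lift ((𝟙 P : P ⟶ P) ^ n) (toUnit P) hpow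
  have hh : h ≫ jE = (𝟙 P : P ⟶ P) ^ n := hker.lift_fst _ _ _
  haveI : Mono jE.left := inferInstance
  haveI : Mono jE := (Over.forget _).mono_of_mono_map (show Mono jE.left from inferInstance)
  haveI : IsMonHom h := CommAlgGrp.isMonHom_of_comp_mono jE _ h hh
  haveI : IsCommMonObj E := CommAlgGrp.isCommMonObj_of_mono jE
  haveI := CommAlgGrp.isCommMonObj_of_mono eE.hom
  haveI := CommAlgGrp.isCommMonObj_of_mono eP.hom
  haveI : IsCommMonObj NE := comm_of_neron hNE
  haveI : IsCommMonObj NP := comm_of_neron hNP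
  haveI : Smooth NE.hom := hNE.1
  haveI : Smooth NP.hom := hNP.1
  let F := Over.pullback (Spec.map (CommRingCat.ofHom (algebraMap R K)))
  obtain ⟨h', hh'⟩ := (hNE.2.2.2 NP hNP.1).2 (eP.hom ≫ h ≫ eE.inv)
  change F.map h' = _ at hh'
  haveI : IsMonHom eE.inv := inferInstance
  haveI : IsMonHom h' := by
    refine ⟨(hNE.2.2.2 (𝟙_ _) (show Smooth (𝟙 _) from inferInstance)).1 ?_, (hNE.2.2.2 (NP ⊗ NP)
      (MorphismProperty.comp_mem _ _ _ (MorphismProperty.pullback_fst _ _ hNP.1) hNP.1)).1 ?_⟩
    · show F.map (η[NP] ≫ h') = F.map η[NE]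
      rw [MonObj.one_eq_one, MonObj.one_eq_one, Functor.map_comp, hh', Functor.map_one, Functor.map_one,
        MonObj.one_comp]
    · show F.map (μ[NP] ≫ h') = F.map _
      rw [MonObj.mul_eq_mul, MonObj.mul_eq_mul, MonObj.comp_mul, tensorHom_fst, tensorHom_snd, Functor.map_comp,
        Functor.map_mul, Functor.map_mul, Functor.map_comp, Functor.map_comp, hh', MonObj.mul_comp]
  have hmap : ∀ (Y : Over (Spec (CommRingCat.of R))) [GrpObj Y] (j : ℕ),
      F.map ((𝟙 Y : Y ⟶ Y) ^ j) = (𝟙 (F.obj Y)) ^ j := by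
    intro Y _ j
    induction j with
    | zero => simp [Functor.map_one]
    | succ j ih => rw [pow_succ, Functor.map_mul, ih, CategoryTheory.Functor.map_id, pow_succ]
  change F.map g ≫ eP.hom = eE.hom ≫ jE at hg
  have hhg : h' ≫ g = (𝟙 NP : NP ⟶ NP) ^ n := by
    refine (hNP.2.2.2 NP hNP.1).1 ?_
    show F.map _ = F.map _
    rw [← cancel_mono eP.hom, hmap, Functor.map_comp, hh', Category.assoc, hg, Category.assoc, Category.assoc,
      eE.inv_hom_id_assoc, hh, MonObj.comp_pow, Category.comp_id, MonObj.pow_comp, Category.id_comp]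
  have hjn : jE ≫ h = (𝟙 E : E ⟶ E) ^ n := by
    rw [← cancel_mono jE, Category.assoc, hh, MonObj.comp_pow, Category.comp_id, MonObj.pow_comp, Category.id_comp]
  have hgh : g ≫ h' = (𝟙 NE : NE ⟶ NE) ^ n := by
    refine (hNE.2.2.2 NE hNE.1).1 ?_
    show F.map _ = F.map _
    rw [← cancel_mono eE.hom, hmap, Functor.map_comp, hh', ← Category.assoc (F.map g), hg, Category.assoc,
      Category.assoc, Category.assoc, eE.inv_hom_id, Category.comp_id, hjn, MonObj.comp_pow, Category.comp_id, MonObj.pow_comp,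
      Category.id_comp]
  have hcop : ∀ m : ℕ, Nat.Coprime (ℓ ^ m) n := fun m => by
    refine Nat.Coprime.pow _ _ ((Nat.coprime_primes hℓ hp).2 fun he => ?_)
    subst he
    rw [CharP.cast_eq_zero] at hℓu
    exact not_isUnit_zero hℓu
  refine ⟨fun x ⟨m, hm⟩ hxg => ?_, fun y ⟨m, hm⟩ => ?_⟩
  · have h1 : x ^ n ∈ unitSubgroup NE := by
      have := map_mem h' hxg
      rwa [Category.assoc, hgh, MonObj.comp_pow, Category.comp_id] at this
    have hb := Nat.gcd_eq_gcd_ab (ℓ ^ m) n
    rw [Nat.Coprime.gcd_eq_one (hcop m)] at hb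
    show x ∈ unitSubgroup NE
    rw [← zpow_one x, show (1 : ℤ) = _ from mod_cast hb, zpow_add, zpow_mul, zpow_mul, zpow_natCast, zpow_natCast]
    exact Subgroup.mul_mem _ (Subgroup.zpow_mem _ hm _) (Subgroup.zpow_mem _ h1 _)
  · have hb := Nat.gcd_eq_gcd_ab (ℓ ^ m) n
    rw [Nat.Coprime.gcd_eq_one (hcop m)] at hb
    set a := Nat.gcdA (ℓ ^ m) n
    set b := Nat.gcdB (ℓ ^ m) n
    refine ⟨(y ^ b) ≫ h', ⟨m, ?_⟩, ?_⟩
    · show ((y ^ b) ≫ h') ^ (ℓ ^ m) ∈ SGA7.secUnitComp R NE
      rw [← MonObj.pow_comp]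
      refine map_mem h' ?_
      rw [← zpow_natCast, ← zpow_mul, mul_comm b, zpow_mul, zpow_natCast]
      exact Subgroup.zpow_mem (unitSubgroup NP) hm b
    · show y * _ ∈ unitSubgroup NP
      rw [Category.assoc, hhg, MonObj.comp_pow, Category.comp_id]
      have h2 : y * ((y ^ b) ^ n)⁻¹ = (y ^ (ℓ ^ m)) ^ a := by
        rw [mul_inv_eq_iff_eq_mul, ← zpow_natCast y, ← zpow_mul, ← zpow_natCast, ← zpow_mul, ← zpow_add,
          mul_comm b]
        conv_lhs => rw [← zpow_one y, show (1 : ℤ) = _ from mod_cast hb]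
      rw [h2]
      exact Subgroup.zpow_mem _ hm a

end Groth.Agent.S17705
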