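import Groth.Statements.S1771
import Groth.Agent.Lib.LCFin.FiniteH1Catenary
import Groth.Agent.S0576
import Groth.Agent.S4710
import Groth.Agent.Lib.Excellent.Nagata
-- import your own Groth.Agent.* helpers here

set_option autoImplicit false
universe u
open LocCoh

namespace Groth.Agent.S1771

/-- Let A be a Noetherian ring which is Nagata and universally catenary, I an ideal of A and M a finite
A-module. Suppose that for every associated prime p of M not containing I and every prime q
containing both p and I, the longest chain of primes from p to q has length at least 2. Then the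
local cohomology module H^1_I(M) is a finite A-module. The published statement asserts that the
pushforward of a coherent sheaf from the open complement of V(I) is coherent; this is its affine
form, stated as finiteness of H^1_I(M). -/
theorem result (A : Type u) [CommRing A] [IsNoetherianRing A] (hN : CAlg.IsNagata A) (hU : CAlg.IsUniversallyCatenary A) (I : Ideal A) (M : Type u) [AddCommGroup M] [Module A M] [Module.Finite A M] (h : ∀ (p q : PrimeSpectrum A) (hpq : p ≤ q), p.asIdeal ∈ associatedPrimes A M → ¬ I ≤ p.asIdeal → I ≤ q.asIdeal → (2 : ℕ∞) ≤ Order.height (⟨q, hpq⟩ : Set.Ici p)) : Module.Finite A (LocCoh.H I 1 M) := by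
  refine Groth.Agent.Lib.LCFin.FiniteH1Catenary.finite_H1_of_universallyCatenary hU I M h ?_
  intro q hq hIq P hP hloc Q hQ
  haveI : IsNoetherianRing (Localization.AtPrime q) :=
    IsLocalization.isNoetherianRing q.primeCompl _ inferInstance
  haveI hred : IsReduced (AdicCompletion (IsLocalRing.maximalIdeal (Localization.AtPrime q ⧸ P))
      (Localization.AtPrime q ⧸ P)) :=
    Groth.Agent.S0576.result (Localization.AtPrime q ⧸ P)
      (Groth.Agent.Lib.Excellent.Nagata.isNagata_quotient (Groth.Agent.S4710.result A hN q.primeCompl) P)
  obtain ⟨hQp, x, hx⟩ := (isAssociatedPrime_iff (I := Q)).1 hQ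
  refine ⟨⟨hQp, bot_le⟩, fun Q' hQ' hle => ?_⟩
  have hQ'p := hQ'.1
  intro r hr
  rw [hx, Submodule.mem_colon_singleton, Submodule.mem_bot, smul_eq_mul] at hr
  rcases hQ'p.mem_or_mem (show r * x ∈ Q' by rw [hr]; exact zero_mem _) with h1 | h1
  · exact h1
  · have h2 := hle h1
    rw [hx, Submodule.mem_colon_singleton, Submodule.mem_bot, smul_eq_mul] at h2
    have hx0 : x = 0 := IsReduced.eq_zero x ⟨2, by rw [pow_two]; exact h2⟩
    exact absurd ((Ideal.eq_top_iff_one Q).2 (by
      rw [hx, Submodule.mem_colon_singleton, Submodule.mem_bot, hx0, smul_zero])) hQp.ne_top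


end Groth.Agent.S1771
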