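import Groth.Statements.S17719
import Groth.Agent.H24.NodeRing.Main

set_option autoImplicit false
universe u
open scoped TensorProduct
open CAlg

namespace Groth.Agent.S17719

open MvPowerSeries in
/-- Let R be a regular local ring, complete for its maximal ideal, with fraction field K; let r be a
non-zero element of R and A the quotient of the power series ring in two variables x, y over R by
the ideal generated by xy − r. If an element a of A maps to a unit of A ⊗_R K, then there are an
element s of R, natural numbers m and n with mn = 0 and a unit u of A with a = s xⁿ yᵐ u. -/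
theorem result
    (R : Type u) [CommRing R] [IsRegularLocalRing R]
    [IsAdicComplete (IsLocalRing.maximalIdeal R) R]
    (r : R) (hr : r ≠ 0)
    (a : (MvPowerSeries (Fin 2) R ⧸ Ideal.span {(X 0 * X 1 - C r : MvPowerSeries (Fin 2) R)}))
    (ha : IsUnit (a ⊗ₜ[R] (1 : FractionRing R) :
      (MvPowerSeries (Fin 2) R ⧸ Ideal.span {(X 0 * X 1 - C r : MvPowerSeries (Fin 2) R)}) ⊗[R] FractionRing R)) :
    ∃ (s : R) (m n : ℕ) (u : (MvPowerSeries (Fin 2) R ⧸ Ideal.span {(X 0 * X 1 - C r : MvPowerSeries (Fin 2) R)})ˣ),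
      m * n = 0 ∧ a = Ideal.Quotient.mk _ (C s * X 0 ^ n * X 1 ^ m) * (u : (MvPowerSeries (Fin 2) R ⧸ Ideal.span {(X 0 * X 1 - C r : MvPowerSeries (Fin 2) R)})) := by
  haveI := Groth.Agent.Lib.Regular.Quotient.isDomain R
  haveI := Groth.Agent.Lib.Regular.UFD.uniqueFactorizationMonoid R
  obtain ⟨b, c, hc, hbc⟩ := Groth.Agent.H24.NodeRing.exists_mul_eq _ a ha
  obtain ⟨f, rfl⟩ := Ideal.Quotient.mk_surjective a
  obtain ⟨g, rfl⟩ := Ideal.Quotient.mk_surjective b
  obtain ⟨s, m, n, u, v, hmn, huv, hu⟩ :=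
    Groth.Agent.H24.NodeRing.exists_normal_form hr c hc f g (Ideal.Quotient.eq.1 (by
      rw [map_mul]; exact hbc))
  rw [← Ideal.Quotient.eq, map_mul, map_one] at huv
  refine ⟨s, m, n, ⟨Ideal.Quotient.mk _ u, Ideal.Quotient.mk _ v, huv, (mul_comm _ _).trans huv⟩,
    hmn, ?_⟩
  show Ideal.Quotient.mk _ f = _ * Ideal.Quotient.mk _ u
  rw [← map_mul]
  exact Ideal.Quotient.eq.2 hu

end Groth.Agent.S17719
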