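import Groth.Statements.S17720
import Mathlib.RingTheory.MvPowerSeries.Rename
import Mathlib.RingTheory.PowerSeries.Inverse
import Mathlib.RingTheory.Nakayama
import Mathlib.RingTheory.Ideal.Quotient.Noetherian
import Mathlib.RingTheory.LocalRing.RingHom.Basic

set_option autoImplicit false
universe u
open CAlg

namespace Groth.Agent.S17720

theorem mem_of_algEquiv (A : Type u) [CommRing A] [IsLocalRing A] [IsNoetherianRing A]
    (α β : A) (hα : α ∈ IsLocalRing.maximalIdeal A)
    (φ : (MvPowerSeries (Fin 2) A ⧸ Ideal.span {(MvPowerSeries.X 0 * MvPowerSeries.X 1 - MvPowerSeries.C β : MvPowerSeries (Fin 2) A)}) ≃ₐ[A] (MvPowerSeries (Fin 2) A ⧸ Ideal.span {(MvPowerSeries.X 0 * MvPowerSeries.X 1 - MvPowerSeries.C α : MvPowerSeries (Fin 2) A)})) :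
    β ∈ Ideal.span {α} := by
  classical
  have : Nontrivial (A ⧸ Ideal.span {α}) :=
    Ideal.Quotient.nontrivial_iff.mpr (by rw [Ne, Ideal.span_singleton_eq_top]; exact hα)
  have : IsLocalRing (A ⧸ Ideal.span {α}) :=
    IsLocalRing.of_surjective' (Ideal.Quotient.mk _) Ideal.Quotient.mk_surjective
  let e : Unit ↪ Fin 2 := ⟨fun _ => 0, fun _ _ _ => rfl⟩
  let red : MvPowerSeries (Fin 2) A →+* PowerSeries (A ⧸ Ideal.span {α}) :=
    (MvPowerSeries.map (Ideal.Quotient.mk (Ideal.span {α}))).comp
      (MvPowerSeries.killCompl (R := A) e).toRingHom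
  have hredC : ∀ a, red (MvPowerSeries.C a) = PowerSeries.C (Ideal.Quotient.mk (Ideal.span {α}) a) :=
    fun a => by
      show MvPowerSeries.map (Ideal.Quotient.mk (Ideal.span {α})) (MvPowerSeries.killCompl (R := A) e (MvPowerSeries.C a)) = _
      rw [MvPowerSeries.killCompl_C, MvPowerSeries.map_C]
      rfl
  have hred1 : red (MvPowerSeries.X 1) = 0 := by
    show MvPowerSeries.map (Ideal.Quotient.mk (Ideal.span {α})) (MvPowerSeries.killCompl (R := A) e (MvPowerSeries.X 1)) = _
    rw [MvPowerSeries.killCompl_X_eq_zero (by rintro ⟨u, hu⟩; exact absurd (show (0 : Fin 2) = 1 from hu) (by decide)), map_zero]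
  have hredsurj : Function.Surjective red := by
    intro g
    choose l hl using Ideal.Quotient.mk_surjective (I := Ideal.span {α})
    let g' : MvPowerSeries Unit A := fun n => l (MvPowerSeries.coeff n g)
    refine ⟨MvPowerSeries.rename e g', ?_⟩
    show MvPowerSeries.map (Ideal.Quotient.mk (Ideal.span {α})) (MvPowerSeries.killCompl (R := A) e (MvPowerSeries.rename e g')) = _
    rw [MvPowerSeries.killCompl_rename_app]
    exact MvPowerSeries.ext fun n => hl (MvPowerSeries.coeff n g)
  have hkill : ∀ y ∈ Ideal.span {(MvPowerSeries.X 0 * MvPowerSeries.X 1 - MvPowerSeries.C α : MvPowerSeries (Fin 2) A)}, red y = 0 := fun y hy => by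
    obtain ⟨z, rfl⟩ := Ideal.mem_span_singleton'.mp hy
    rw [map_mul, map_sub, map_mul, hred1, hredC,
      Ideal.Quotient.eq_zero_iff_mem.mpr (Ideal.mem_span_singleton_self α), map_zero]
    simp
  let π := Ideal.Quotient.lift _ red hkill
  let ψ : MvPowerSeries (Fin 2) A →+* PowerSeries (A ⧸ Ideal.span {α}) :=
    (π.comp φ.toRingEquiv.toRingHom).comp (Ideal.Quotient.mk _)
  have hψsurj : Function.Surjective ψ :=
    ((Ideal.Quotient.lift_surjective_of_surjective _ hkill hredsurj).comp φ.surjective).comp
      Ideal.Quotient.mk_surjective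
  have hψC : ∀ a, ψ (MvPowerSeries.C a) = PowerSeries.C (Ideal.Quotient.mk (Ideal.span {α}) a) :=
    fun a => by
      show π (φ (algebraMap A _ a)) = _
      rw [φ.commutes]
      exact hredC a
  set f := ψ (MvPowerSeries.X 0)
  set g := ψ (MvPowerSeries.X 1)
  have hfg : f * g = PowerSeries.C (Ideal.Quotient.mk (Ideal.span {α}) β) := by
    rw [← hψC, ← sub_eq_zero, ← map_mul, ← map_sub]
    show π (φ (Ideal.Quotient.mk _ _)) = 0
    rw [Ideal.Quotient.eq_zero_iff_mem.mpr (Ideal.mem_span_singleton_self _), map_zero, map_zero]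
  have hloc : IsLocalHom ψ := hψsurj.isLocalHom ψ
  have hnu : ∀ i : Fin 2, ¬ IsUnit (MvPowerSeries.X i : MvPowerSeries (Fin 2) A) := fun i h => by
    have := h.map (MvPowerSeries.constantCoeff (σ := Fin 2) (R := A))
    rw [MvPowerSeries.constantCoeff_X] at this
    exact not_isUnit_zero this
  set m := IsLocalRing.maximalIdeal (A ⧸ Ideal.span {α})
  have hcm : ∀ i : Fin 2, PowerSeries.constantCoeff (ψ (MvPowerSeries.X i)) ∈ m := fun i => by
    by_contra h
    exact hnu i (IsUnit.of_map ψ _
      (PowerSeries.isUnit_iff_constantCoeff.mpr (IsLocalRing.notMem_maximalIdeal.mp h)))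
  -- one of the linear coefficients is a unit
  have hone : PowerSeries.coeff 1 f ∉ m ∨ PowerSeries.coeff 1 g ∉ m := by
    by_contra! hc
    obtain ⟨T, hT⟩ := hψsurj PowerSeries.X
    let p0 : MvPowerSeries (Fin 2) A := fun n => MvPowerSeries.coeff (Finsupp.single 0 1 + n) T
    obtain ⟨p1, hp1⟩ : MvPowerSeries.X 1 ∣
        T - MvPowerSeries.C (MvPowerSeries.constantCoeff T) - MvPowerSeries.X 0 * p0 := by
      rw [MvPowerSeries.X_dvd_iff]
      intro n hn
      rw [map_sub, map_sub, MvPowerSeries.X_def, MvPowerSeries.coeff_monomial_mul,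
        MvPowerSeries.coeff_C, one_mul]
      by_cases h0 : n 0 = 0
      · have : n = 0 := by
          ext i; fin_cases i
          · exact h0
          · exact hn
        subst this
        rw [if_pos rfl, if_neg (by intro hle; have := hle 0; simp at this),
          MvPowerSeries.coeff_zero_eq_constantCoeff_apply]
        ring
      · have hne : n ≠ 0 := fun h => h0 (by simp [h])
        rw [if_neg hne, if_pos (show Finsupp.single 0 1 ≤ n from fun i => by fin_cases i <;> simp <;> omega), sub_zero]
        show MvPowerSeries.coeff n T - MvPowerSeries.coeff (Finsupp.single 0 1 + (n - Finsupp.single 0 1)) T = 0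
        rw [add_tsub_cancel_of_le (fun i => by fin_cases i <;> simp <;> omega), sub_self]
    have hc' : p0 * MvPowerSeries.X 0 + p1 * MvPowerSeries.X 1 =
        T - MvPowerSeries.C (MvPowerSeries.constantCoeff T) := by
      linear_combination -hp1
    have h := congrArg (fun x => PowerSeries.coeff 1 (ψ x)) hc'
    simp only [map_add, map_sub, map_mul, hT, hψC, PowerSeries.coeff_one_X,
      PowerSeries.coeff_C, one_ne_zero, if_false, sub_zero] at h
    rw [PowerSeries.coeff_one_mul, PowerSeries.coeff_one_mul] at h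
    have : (1 : A ⧸ Ideal.span {α}) ∈ m := by
      rw [← h]
      exact add_mem (add_mem (m.mul_mem_left _ (hcm 0)) (m.mul_mem_right _ hc.1))
        (add_mem (m.mul_mem_left _ (hcm 1)) (m.mul_mem_right _ hc.2))
    exact (IsLocalRing.maximalIdeal.isMaximal _).ne_top ((Ideal.eq_top_iff_one _).mpr this)
  have key : ∀ p q : PowerSeries (A ⧸ Ideal.span {α}),
      p * q = PowerSeries.C (Ideal.Quotient.mk (Ideal.span {α}) β) →
      PowerSeries.coeff 1 p ∉ m → PowerSeries.constantCoeff p ∈ m → PowerSeries.constantCoeff q ∈ m →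
        Ideal.Quotient.mk (Ideal.span {α}) β = 0 := by
    intro p q hpq hp1 hp0 hq0
    let J := Ideal.span (Set.range fun n => PowerSeries.coeff n q)
    have hJ : ∀ n, PowerSeries.coeff n q ∈ m * J := by
      intro n
      induction n using Nat.strong_induction_on with | _ n ih => ?_
      have h := congrArg (PowerSeries.coeff (n + 1)) hpq
      rw [PowerSeries.coeff_mul, PowerSeries.coeff_C, if_neg (Nat.succ_ne_zero n)] at h
      rw [Finset.Nat.sum_antidiagonal_succ, PowerSeries.coeff_zero_eq_constantCoeff_apply] at h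
      have h1 : PowerSeries.constantCoeff p * PowerSeries.coeff (n + 1) q ∈ m * J :=
        Ideal.mul_mem_mul hp0 (Ideal.subset_span ⟨n + 1, rfl⟩)
      have h2 : ∑ x ∈ Finset.HasAntidiagonal.antidiagonal n,
          PowerSeries.coeff (x.1 + 1) p * PowerSeries.coeff x.2 q ∈ m * J := by
        rw [eq_neg_of_add_eq_zero_right h]
        exact neg_mem h1
      rw [← Finset.add_sum_erase _ _ (Finset.HasAntidiagonal.mem_antidiagonal.mpr (zero_add n) :
        (0, n) ∈ Finset.HasAntidiagonal.antidiagonal n)] at h2
      have h3 : ∑ x ∈ (Finset.HasAntidiagonal.antidiagonal n).erase (0, n),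
          PowerSeries.coeff (x.1 + 1) p * PowerSeries.coeff x.2 q ∈ m * J := by
        refine Ideal.sum_mem _ fun x hx => Ideal.mul_mem_left _ _ (ih x.2 ?_)
        obtain ⟨hne, hx⟩ := Finset.mem_erase.mp hx
        have hx' := Finset.HasAntidiagonal.mem_antidiagonal.mp hx
        by_contra hcon
        exact hne (Prod.ext (by simp only; omega) (by simp only; omega))
      exact (Ideal.unit_mul_mem_iff_mem _ (IsLocalRing.notMem_maximalIdeal.mp hp1)).mp
        (((m * J).add_mem_iff_left h3).mp h2)
    have hbot : J = ⊥ := Submodule.eq_bot_of_le_smul_of_le_jacobson_bot m J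
      (Ideal.fg_of_isNoetherianRing _)
      (Ideal.span_le.mpr fun y ⟨n, hn⟩ => hn ▸ hJ n) (IsLocalRing.maximalIdeal_le_jacobson _)
    have hq : q = 0 := PowerSeries.ext fun n => by
      have : PowerSeries.coeff n q ∈ J := Ideal.subset_span ⟨n, rfl⟩
      rwa [hbot, Ideal.mem_bot] at this
    rw [hq, mul_zero] at hpq
    have := congrArg PowerSeries.constantCoeff hpq
    rwa [map_zero, PowerSeries.constantCoeff_C, eq_comm] at this
  rw [← Ideal.Quotient.eq_zero_iff_mem]
  rcases hone with h | h
  · exact key f g hfg h (hcm 0) (hcm 1)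
  · exact key g f (by rw [mul_comm]; exact hfg) h (hcm 1) (hcm 0)


open MvPowerSeries IsLocalRing in
/-- Let A be a Noetherian local ring and α, β two elements of its maximal ideal. If the quotient of the
power series ring in two variables over A by xy − α is isomorphic, as an A-algebra, to the quotient
by xy − β, then αA = βA. (The published statement allows any local ring A; it is taken Noetherian
here, the case in which an algebra isomorphism between these complete local rings is continuous for
their adic topologies.) -/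
theorem result
    (A : Type u) [CommRing A] [IsLocalRing A] [IsNoetherianRing A]
    (α β : A) (hα : α ∈ maximalIdeal A) (hβ : β ∈ maximalIdeal A)
    (φ : (MvPowerSeries (Fin 2) A ⧸ Ideal.span {(X 0 * X 1 - C α : MvPowerSeries (Fin 2) A)}) ≃ₐ[A] (MvPowerSeries (Fin 2) A ⧸ Ideal.span {(X 0 * X 1 - C β : MvPowerSeries (Fin 2) A)})) :
    Ideal.span {α} = Ideal.span {β} := by
  refine le_antisymm ((Ideal.span_singleton_le_iff_mem _).mpr (mem_of_algEquiv A β α hβ φ))
    ((Ideal.span_singleton_le_iff_mem _).mpr (mem_of_algEquiv A α β hα φ.symm))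

end Groth.Agent.S17720
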