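import Groth.Statements.S17721
import Mathlib.RingTheory.DiscreteValuationRing.Basic
import Mathlib.RingTheory.PowerSeries.Basic
import Mathlib.RingTheory.Localization.FractionRing
import Mathlib.RingTheory.PowerSeries.Inverse
import Mathlib.RingTheory.LocalRing.ResidueField.Basic
import Mathlib.RingTheory.UniqueFactorizationDomain.Multiplicity

set_option autoImplicit false
universe u
open CAlg

namespace Groth.Agent.S17721

open Polynomial IsLocalRing in
/-- Let R be a complete discrete valuation ring with fraction field K, and f a polynomial over R with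
non-zero constant term a₀ such that a₀ does not divide some coefficient of f of positive degree
(equivalently, the Newton polygon of f has a side of negative slope). Let b be the power series over
K with b · f = a₀, the expansion of the geometric series in 1 − f/a₀. Then the valuations of the
coefficients b_j are not bounded below: for every non-zero c in R there is an index j with c · b_j
outside R. -/
theorem result
    (R : Type u) [CommRing R] [IsDomain R] [IsDiscreteValuationRing R]
    [IsAdicComplete (maximalIdeal R) R]
    (K : Type u) [Field K] [Algebra R K] [IsFractionRing R K]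
    (f : R[X]) (h0 : f.coeff 0 ≠ 0) (hslope : ∃ i : ℕ, 0 < i ∧ ¬ (f.coeff 0 ∣ f.coeff i))
    (b : PowerSeries K)
    (hb : b * ((f.map (algebraMap R K) : K[X]) : PowerSeries K) = PowerSeries.C (algebraMap R K (f.coeff 0))) :
    ∀ c : R, c ≠ 0 → ∃ j : ℕ, algebraMap R K c * PowerSeries.coeff j b ∉ (algebraMap R K).range := by
  classical
  intro c hc
  by_contra hno
  push Not at hno
  choose β hβ using hno
  let B : PowerSeries R := PowerSeries.mk β
  have hinj := IsFractionRing.injective R K
  have hB : B * (f : PowerSeries R) = PowerSeries.C (c * f.coeff 0) := by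
    apply PowerSeries.map_injective (algebraMap R K) hinj
    rw [map_mul, PowerSeries.map_C, map_mul, show PowerSeries.map (algebraMap R K) B = PowerSeries.C (algebraMap R K c) * b by
      ext j; rw [PowerSeries.coeff_C_mul, PowerSeries.coeff_map, PowerSeries.coeff_mk, hβ],
      ← Polynomial.polynomial_map_coe, mul_assoc, hb, map_mul]
  obtain ⟨i₀, hi₀, hndvd⟩ := hslope
  obtain ⟨π, hπ⟩ := IsDiscreteValuationRing.exists_irreducible R
  obtain ⟨m, hm⟩ := IsDiscreteValuationRing.associated_pow_irreducible h0 hπ
  -- the largest power of π dividing all coefficients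
  have hex : ∃ k, ¬ ∀ i, π ^ k ∣ f.coeff i := ⟨m, fun h => hndvd (hm.dvd.trans (h i₀))⟩
  obtain ⟨k, hk⟩ : ∃ k, Nat.find hex = k + 1 := Nat.exists_eq_succ_of_ne_zero fun h => by
    have := Nat.find_spec hex; rw [h] at this; simp at this
  have hdvd : ∀ i, π ^ k ∣ f.coeff i := not_not.1 (Nat.find_min hex (by omega))
  have hnd : ∃ i, ¬ π ^ (k + 1) ∣ f.coeff i := not_forall.1 (hk ▸ Nat.find_spec hex)
  choose g hg using hdvd
  obtain ⟨i₁, hi₁⟩ := hnd
  have hkm : π ^ (k + 1) ∣ f.coeff 0 := by
    refine (pow_dvd_pow π ?_).trans hm.symm.dvd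
    by_contra hlt
    exact hndvd ((hm.dvd.trans (pow_dvd_pow π (by omega))).trans (Dvd.intro _ (hg i₀).symm))
  let G : PowerSeries R := PowerSeries.mk g
  have hG : (f : PowerSeries R) = PowerSeries.C (π ^ k) * G := by
    ext j; rw [PowerSeries.coeff_C_mul, PowerSeries.coeff_mk, Polynomial.coeff_coe, hg]
  let φ := PowerSeries.map (IsLocalRing.residue R)
  have hres : ∀ x : R, IsLocalRing.residue R x = 0 ↔ π ∣ x := fun x => by
    rw [IsLocalRing.residue_eq_zero_iff, hπ.maximalIdeal_eq, Ideal.mem_span_singleton]
  have hπk : π ^ k ≠ 0 := pow_ne_zero _ hπ.ne_zero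
  have hG0 : π ∣ g 0 := by
    rw [hg 0, pow_succ] at hkm
    exact (mul_dvd_mul_iff_left hπk).1 hkm
  have hφG : φ G ≠ 0 := fun h => by
    have := congrArg (PowerSeries.coeff i₁) h
    rw [PowerSeries.coeff_map, PowerSeries.coeff_mk, map_zero, hres] at this
    exact hi₁ (by rw [hg i₁, pow_succ]; exact mul_dvd_mul_left _ this)
  have key : ∀ n, ∀ (B' : PowerSeries R) (d : R), B' * G = PowerSeries.C d → π ^ n ∣ d := by
    intro n
    induction n with
    | zero => intros; simp
    | succ n ih =>
      intro B' d h
      have h0' := congrArg φ h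
      rw [map_mul, PowerSeries.map_C] at h0'
      have hd : IsLocalRing.residue R d = 0 := by
        have := congrArg PowerSeries.constantCoeff h0'
        rw [map_mul, PowerSeries.constantCoeff_C, ← PowerSeries.coeff_zero_eq_constantCoeff_apply (φ G),
          PowerSeries.coeff_map, PowerSeries.coeff_mk, (hres _).2 hG0, mul_zero] at this
        exact this.symm
      rw [hd, map_zero, mul_eq_zero] at h0'
      have hB' : ∀ j, π ∣ PowerSeries.coeff j B' := fun j => by
        rw [← hres, ← PowerSeries.coeff_map, h0'.resolve_right hφG, map_zero]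
      choose β' hβ' using hB'
      obtain ⟨d', rfl⟩ := (hres d).1 hd
      rw [pow_succ']
      refine mul_dvd_mul_left π (ih (PowerSeries.mk β') d' ?_)
      have hne : (PowerSeries.C π : PowerSeries R) ≠ 0 :=
        (map_ne_zero_iff _ PowerSeries.C_injective).2 hπ.ne_zero
      refine mul_left_cancel₀ hne ?_
      rw [← mul_assoc, ← map_mul, show PowerSeries.C π * PowerSeries.mk β' = B' by
        ext j; rw [PowerSeries.coeff_C_mul, PowerSeries.coeff_mk, ← hβ'], h]
  have h1 : (B * PowerSeries.C (π ^ k)) * G = PowerSeries.C (c * f.coeff 0) := by rw [mul_assoc, ← hG, hB]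
  obtain ⟨j, hj⟩ := IsDiscreteValuationRing.associated_pow_irreducible (mul_ne_zero hc h0) hπ
  have h2 := (key (j + 1) _ _ h1).trans hj.dvd
  have h3 := (pow_dvd_pow_iff hπ.ne_zero hπ.not_isUnit).1 h2
  omega

end Groth.Agent.S17721
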