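import Groth.Statements.S17722
import Mathlib

set_option autoImplicit false
universe u
open CAlg

namespace Groth.Agent.S17722

/-- Let R → R' be a faithfully flat ring map between Noetherian integrally closed local domains, and p
an ideal of R. If the ideal pR' generated by the image of p is principal, then p is principal. (The
second assertion of the published lemma, descent of unique factorization, is not part of this row.) -/
theorem result
    (R R' : Type u) [CommRing R] [CommRing R'] [IsDomain R] [IsDomain R']
    [IsNoetherianRing R] [IsNoetherianRing R'] [IsLocalRing R] [IsLocalRing R']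
    [IsIntegrallyClosed R] [IsIntegrallyClosed R']
    [Algebra R R'] [Module.FaithfullyFlat R R']
    (p : Ideal R) (hp : (p.map (algebraMap R R')).IsPrincipal) :
    p.IsPrincipal := by
  classical
  obtain ⟨a', ha'⟩ := hp.principal
  have hmap : p.map (algebraMap R R') = Ideal.span {a'} := ha'
  by_cases h0 : a' = 0
  · have : p = ⊥ := by
      rw [← Ideal.comap_map_eq_self_of_faithfullyFlat (B := R') p, hmap, h0, Ideal.span_singleton_zero]
      exact (Ideal.comap_bot_of_injective _ (FaithfulSMul.algebraMap_injective R R'))
    exact this ▸ bot_isPrincipal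
  · obtain ⟨r, hr, hu⟩ : ∃ r ∈ p, ∃ b : R', IsUnit b ∧ algebraMap R R' r = a' * b := by
      by_contra hne
      push_neg at hne
      have hle : p.map (algebraMap R R') ≤ Ideal.span {a'} * IsLocalRing.maximalIdeal R' := by
        rw [Ideal.map_le_iff_le_comap]
        intro r hr
        have : algebraMap R R' r ∈ Ideal.span {a'} := hmap ▸ Ideal.mem_map_of_mem _ hr
        obtain ⟨b, hb⟩ := Ideal.mem_span_singleton'.mp this
        have hbm : b ∈ IsLocalRing.maximalIdeal R' := by
          rw [IsLocalRing.mem_maximalIdeal]
          exact fun hu => hne r hr b hu (by rw [← hb, mul_comm])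
        rw [Ideal.mem_comap, ← hb, mul_comm b]
        exact Ideal.mul_mem_mul (Ideal.mem_span_singleton_self a') hbm
      have := hle (hmap.symm ▸ Ideal.mem_span_singleton_self a')
      rw [Ideal.mem_span_singleton_mul] at this
      obtain ⟨z, hz, hza⟩ := this
      have : z = 1 := by
        apply mul_left_cancel₀ h0
        rw [hza, mul_one]
      exact (IsLocalRing.maximalIdeal.isMaximal R').ne_top ((Ideal.eq_top_iff_one _).mpr (this ▸ hz))
    obtain ⟨b, hb, hrb⟩ := hu
    refine ⟨r, ?_⟩
    have h2 : (Ideal.span {r}).map (algebraMap R R') = p.map (algebraMap R R') := by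
      rw [Ideal.map_span, Set.image_singleton, hmap, hrb]
      exact (Ideal.span_singleton_eq_span_singleton.mpr (associated_mul_unit_left a' b hb))
    rw [← Ideal.comap_map_eq_self_of_faithfullyFlat (B := R') p, ← h2,
      Ideal.comap_map_eq_self_of_faithfullyFlat]

end Groth.Agent.S17722
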