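import Groth.Statements.S17723

import Groth.Agent.Lib.LabGraph.Circuits
import Mathlib.NumberTheory.Padics.PadicVal.Basic
import Mathlib.LinearAlgebra.Span.Defs
import Mathlib.Tactic.LinearCombination

import Mathlib.Algebra.BigOperators.Associated
set_option autoImplicit false
universe u
open LabGraph

namespace Groth.Agent.S17723

/-- Let G be a finite connected multigraph with endpoint map ends and edge labels l taking positive
integer values. We say g : V → ℤ is elementary-Cartier if, for some integer n ≥ 1, all values of g
are multiples of n and, for each edge whose label fails to divide n, g agrees at its two endpoints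
(equivalently, once the edges with label dividing n are removed, g takes a single value on each
connected piece of what remains). Then every Cartier function f (for each edge, the label divides
the difference of the values of f at its endpoints) lies in the ℤ-span of the elementary-Cartier
functions. -/
theorem result
    {V E : Type u} [Fintype V] [Fintype E] [DecidableEq V] [DecidableEq E]
    (ends : E → V × V) (l : E → ℕ) (hl : ∀ e, 0 < l e) (hconn : LabGraph.Connected ends)
    (f : V → ℤ) (hf : LabGraph.IsCartier ends l f) :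
    f ∈ Submodule.span ℤ {g : V → ℤ | ∃ n : ℕ, 0 < n ∧ (∀ v, (n : ℤ) ∣ g v) ∧
      ∀ e, ¬ (l e ∣ n) → g (ends e).1 = g (ends e).2} := by
  classical
  set M := Submodule.span ℤ {g : V → ℤ | ∃ n : ℕ, 0 < n ∧ (∀ v, (n : ℤ) ∣ g v) ∧
      ∀ e, ¬ (l e ∣ n) → g (ends e).1 = g (ends e).2} with hM
  let I : Ideal ℤ :=
    { carrier := {c | c • f ∈ M}
      zero_mem' := by simp
      add_mem' := fun {a b} ha hb => by show (a + b) • f ∈ M; rw [add_smul]; exact M.add_mem ha hb
      smul_mem' := fun c a ha => by show (c • a) • f ∈ M; rw [smul_eq_mul, mul_smul]; exact M.smul_mem c ha }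
  suffices (1 : ℤ) ∈ I by simpa [I] using this
  refine Lib.LabGraph.Circuits.mem_of_local I fun p hp => ?_
  have := Fact.mk hp
  -- prime-to-`p` parts
  let k : E → ℕ := fun e => padicValNat p (l e)
  let L : ℕ := ∏ e, l e / p ^ k e
  have hk : ∀ e, p ^ k e ∣ l e := fun e => pow_padicValNat_dvd
  have hLp : ¬ (p : ℤ) ∣ (L : ℤ) := by
    rw [Int.natCast_dvd_natCast, hp.prime.dvd_finsetProd_iff]
    rintro ⟨e, -, he⟩
    have : p ^ (k e + 1) ∣ l e := by
      rw [pow_succ]; exact Nat.mul_dvd_of_dvd_div (hk e) he
    exact pow_succ_padicValNat_not_dvd (hl e).ne' this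
  have hL : ∀ e, l e ∣ L * p ^ k e := fun e =>
    calc l e = l e / p ^ k e * p ^ k e := (Nat.div_mul_cancel (hk e)).symm
      _ ∣ L * p ^ k e := mul_dvd_mul_right (Finset.dvd_prod_of_mem _ (Finset.mem_univ e)) _
  refine ⟨(L : ℤ), ?_, hLp⟩
  -- representatives
  let A : ℕ → V → V → Prop := fun j =>
    Relation.ReflTransGen (Lib.LabGraph.Circuits.AdjIn ends (Finset.univ.filter fun e => j < k e))
  let st : ℕ → Setoid V := fun j => ⟨A j, fun _ => .refl,
    fun h => Lib.LabGraph.Circuits.adjIn_symm ends h, fun h h' => h.trans h'⟩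
  let rep : ℕ → V → V := fun j v => (Quotient.mk (st j) v).out
  have hrep : ∀ j v, A j (rep j v) v := fun j v => (Quotient.exact (s := st j) (Quotient.out_eq _))
  have hconst : ∀ j (e : E), j < k e → rep j (ends e).1 = rep j (ends e).2 := fun j e he =>
    congrArg Quotient.out (Quotient.sound (s := st j)
      (Lib.LabGraph.Circuits.adjIn_edge ends (by simp [he])))
  have hdiv : ∀ j (a b : V), A j a b → ((p : ℤ) ^ (j + 1)) ∣ f b - f a := by
    intro j a b hab
    induction hab with
    | refl => simp
    | @tail c d _ hcd ih =>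
      obtain ⟨e, he, he'⟩ := hcd
      have h1 : ((p : ℤ) ^ (j + 1)) ∣ (l e : ℤ) := by
        refine dvd_trans (pow_dvd_pow _ ?_) (by exact_mod_cast hk e)
        simpa using he
      have h2 := h1.trans (hf e)
      have h3 : ((p : ℤ) ^ (j + 1)) ∣ f d - f c := by
        rcases he' with h | h <;> rw [h] at h2 <;> dsimp only at h2
        · exact dvd_sub_comm.1 h2
        · exact h2
      rw [show f d - f a = (f d - f c) + (f c - f a) by ring]
      exact dvd_add h3 ih
  let r : ℕ → V → ℤ := fun j v => f (rep j v)
  have hmem0 : (L : ℤ) • r 0 ∈ M := by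
    refine Submodule.subset_span ⟨L, ?_, fun v => dvd_mul_right _ _, fun e he => ?_⟩
    · exact Nat.pos_of_ne_zero fun h => hLp (by simp [h])
    · have : 0 < k e := Nat.pos_of_ne_zero fun h => he (by simpa [h] using hL e)
      simp [r, hconst 0 e this]
  have hstep : ∀ j, (L : ℤ) • (r (j + 1) - r j) ∈ M := by
    intro j
    refine Submodule.subset_span ⟨L * p ^ (j + 1), ?_, fun v => ?_, fun e he => ?_⟩
    · exact Nat.mul_pos (Nat.pos_of_ne_zero fun h => hLp (by simp [h])) (pow_pos hp.pos _)
    · push_cast
      refine mul_dvd_mul_left _ ?_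
      have h1 : A j (rep (j + 1) v) v := Lib.LabGraph.Circuits.adjIn_mono ends
        (fun e he => by simp only [Finset.mem_filter, Finset.mem_univ, true_and] at he ⊢; omega)
        (hrep (j + 1) v)
      have h2 := dvd_sub (hdiv j _ _ (hrep j v)) (hdiv j _ _ h1)
      simpa [r] using h2
    · have hlt : j + 1 < k e := by
        by_contra hc
        exact he ((hL e).trans (mul_dvd_mul_left _ (pow_dvd_pow _ (by omega))))
      simp [r, hconst j e (by omega), hconst (j + 1) e hlt]
  have hall : ∀ j, (L : ℤ) • r j ∈ M := by
    intro j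
    induction j with
    | zero => exact hmem0
    | succ j ih => simpa [smul_sub] using M.add_mem (hstep j) ih
  have htop : r (∑ e, k e) = f := by
    funext v
    have h := hrep (∑ e, k e) v
    rcases Relation.reflTransGen_iff_eq_or_transGen.1 h with h | h
    · exact congrArg f h.symm
    · obtain ⟨c, -, e, he, -⟩ := Relation.TransGen.tail'_iff.1 h
      simp only [Finset.mem_filter, Finset.mem_univ, true_and] at he
      have := Finset.single_le_sum (fun i _ => Nat.zero_le (k i)) (Finset.mem_univ e)
      omega
  show (L : ℤ) • f ∈ M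
  rw [← htop]
  exact hall _


end Groth.Agent.S17723
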