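import Groth.Statements.S17724

import Groth.Agent.Lib.LabGraph.Circuits
import Mathlib.Algebra.Group.Submonoid.Membership

set_option autoImplicit false
universe u v
open LabGraph

namespace Groth.Agent.S17724

/-- Let G be a finite connected multigraph with endpoint map ends, whose edges carry labels lab in a set
L and positive integer labels n, and suppose the L-labels are constant along every circuit. Say g :
V → ℤ is pre-achievable when for some finite set B of edges all carrying the same L-label, g takes
equal values at the two endpoints of every edge outside B (so g is constant on the connected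
components of the graph with B deleted); say g is Cartier when for every edge e the integer n(e)
divides the difference of the values of g at its endpoints. Then every Cartier function f is a
finite sum of functions each of which is Cartier and pre-achievable, and when f vanishes at a vertex
v₀ the summands can all be taken to vanish at v₀. -/
theorem result
    {V E : Type u} [Fintype V] [Fintype E] [DecidableEq V] [DecidableEq E] {L : Type v}
    (ends : E → V × V) (lab : E → L) (n : E → ℕ) (hn : ∀ e, 0 < n e)
    (hconn : LabGraph.Connected ends)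
    (hcirc : ∀ C : Finset E, LabGraph.IsCircuit ends C → ∀ e ∈ C, ∀ e' ∈ C, lab e = lab e')
    (f : V → ℤ) (hf : LabGraph.IsCartier ends n f) :
    f ∈ AddSubmonoid.closure {g : V → ℤ | LabGraph.IsCartier ends n g ∧ (∃ B : Finset E, (∀ e ∈ B, ∀ e' ∈ B, lab e = lab e') ∧ ∀ e, e ∉ B → g (ends e).1 = g (ends e).2)} ∧
    ∀ v₀ : V, f v₀ = 0 →
      f ∈ AddSubmonoid.closure {g : V → ℤ | LabGraph.IsCartier ends n g ∧ (∃ B : Finset E, (∀ e ∈ B, ∀ e' ∈ B, lab e = lab e') ∧ ∀ e, e ∉ B → g (ends e).1 = g (ends e).2) ∧ g v₀ = 0} := by
  classical
  let S : Set (V → ℤ) := {g | LabGraph.IsCartier ends n g ∧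
    (∃ B : Finset E, (∀ e ∈ B, ∀ e' ∈ B, lab e = lab e') ∧ ∀ e, e ∉ B → g (ends e).1 = g (ends e).2)}
  suffices key : ∀ v₀ : V, (fun v => f v - f v₀) ∈ AddSubmonoid.closure {g | g ∈ S ∧ g v₀ = 0} by
    have hconst : ∀ c : ℤ, (fun _ : V => c) ∈ S := fun c =>
      ⟨fun e => by simp, ∅, by simp, fun _ _ => rfl⟩
    refine ⟨?_, fun v₀ h0 => ?_⟩
    · obtain ⟨v₀⟩ := hconn.1
      have h1 := AddSubmonoid.closure_mono (t := S) (fun g hg => hg.1) (key v₀)
      have h2 := add_mem h1 (AddSubmonoid.subset_closure (hconst (f v₀)))
      have : (fun v => f v - f v₀) + (fun _ : V => f v₀) = f := by funext v; simp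
      rwa [this] at h2
    · have h1 := key v₀
      simp only [h0, sub_zero, S, Set.mem_setOf_eq, and_assoc] at h1
      exact h1
  intro v₀
  have hpot : ∀ c : L, ∃ g : V → ℤ, ∀ e, g (ends e).2 - g (ends e).1 =
      if lab e = c then f (ends e).2 - f (ends e).1 else 0 := by
    intro c
    obtain ⟨g, hg⟩ := Lib.LabGraph.Circuits.exists_potential ends Finset.univ
      (fun e => if lab e = c then f (ends e).2 - f (ends e).1 else 0) fun C hC _ => by
        obtain ⟨e₀, he₀⟩ := hC.1
        by_cases h : lab e₀ = c
        · exact ⟨f, fun e he => by rw [if_pos ((hcirc C hC e he e₀ he₀).trans h)]⟩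
        · exact ⟨0, fun e he => by
            rw [if_neg (fun h' => h ((hcirc C hC e₀ he₀ e he).trans h'))]; simp⟩
    exact ⟨g, fun e => hg e (Finset.mem_univ e)⟩
  choose g hg using hpot
  let T : Finset L := Finset.univ.image lab
  have hsum : (fun v => f v - f v₀) = ∑ c ∈ T, fun v => g c v - g c v₀ := by
    funext v
    rw [Finset.sum_apply]
    have := Lib.LabGraph.Circuits.reachable_univ ends hconn v₀ v
    induction this with
    | refl => simp
    | @tail a b _ hab ih =>
      obtain ⟨e, -, he⟩ := hab
      have h1 : ∑ c ∈ T, (g c (ends e).2 - g c (ends e).1) = f (ends e).2 - f (ends e).1 := by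
        simp only [hg, Finset.sum_ite_eq]
        rw [if_pos (Finset.mem_image_of_mem lab (Finset.mem_univ e))]
      simp only [Finset.sum_sub_distrib] at ih h1 ⊢
      rcases he with he | he <;> rw [he] at h1 <;> dsimp only at h1 <;> linarith
  rw [hsum]
  refine sum_mem fun c _ => AddSubmonoid.subset_closure ⟨⟨fun e => ?_,
    Finset.univ.filter (fun e => lab e = c), ?_, fun e he => ?_⟩, by simp⟩
  · have := hg c e
    split_ifs at this
    · rw [show g c (ends e).1 - g c v₀ - (g c (ends e).2 - g c v₀) = f (ends e).1 - f (ends e).2 by
        linarith]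
      exact hf e
    · rw [show g c (ends e).1 - g c v₀ - (g c (ends e).2 - g c v₀) = 0 by linarith]
      exact dvd_zero _
  · intro e he e' he'
    simp only [Finset.mem_filter] at he he'
    rw [he.2, he'.2]
  · have := hg c e
    simp only [Finset.mem_filter, Finset.mem_univ, true_and] at he
    rw [if_neg he] at this
    show g c _ - g c v₀ = g c _ - g c v₀
    linarith


end Groth.Agent.S17724
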