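import Groth.Statements.S17725
import Mathlib.AlgebraicGeometry.Noetherian
import Mathlib.Topology.Connected.Clopen

set_option autoImplicit false
universe u
open SpecSp

namespace Groth.Agent.S17725

open AlgebraicGeometry in
/-- In a connected Noetherian scheme any two points p, q are linked by a finite chain of points p = x₁,
…, xₙ = q such that for each i one of x_i, x_{i+1} is a specialization of the other; equivalently, p
and q are related by the equivalence relation generated by the specialization relation. -/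
theorem result
    (X : Scheme.{u}) [IsNoetherian X] [ConnectedSpace X] (p q : X) :
    Relation.EqvGen (fun x y : X => x ⤳ y) p q := by
  open Set in
  let R : X → X → Prop := Relation.EqvGen fun x y ↦ x ⤳ y
  have hR : Equivalence R := Relation.EqvGen.is_equivalence _
  obtain ⟨S, hSfin, hSc, hSi, hS⟩ :=
    TopologicalSpace.NoetherianSpace.exists_finite_set_isClosed_irreducible
      (isClosed_univ (X := X))
  have hsame : ∀ Z ∈ S, ∀ x ∈ Z, ∀ y ∈ Z, R x y := fun Z hZ x hx y hy ↦ by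
    obtain ⟨ξ, hξ⟩ := QuasiSober.sober (hSi Z hZ) (hSc Z hZ)
    exact hR.trans (hR.symm (.rel _ _ (hξ.specializes hx))) (.rel _ _ (hξ.specializes hy))
  have hcl : ∀ C : Set X, (∀ Z ∈ S, (Z ∩ C).Nonempty → Z ⊆ C) → IsClosed C := fun C hC ↦ by
    have heq : C = ⋃ Z ∈ {Z ∈ S | (Z ∩ C).Nonempty}, Z := by
      refine subset_antisymm (fun x hx ↦ ?_) (iUnion₂_subset fun Z hZ ↦ hC Z hZ.1 hZ.2)
      obtain ⟨Z, hZ, hxZ⟩ := (hS ▸ mem_univ x : x ∈ ⋃₀ S)
      exact mem_iUnion₂.mpr ⟨Z, ⟨hZ, x, hxZ, hx⟩, hxZ⟩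
    rw [heq]
    exact Set.Finite.isClosed_biUnion (hSfin.subset fun Z hZ ↦ hZ.1) fun Z hZ ↦ hSc Z hZ.1
  let C : Set X := {x | R p x}
  have hopen : IsOpen C := by
    rw [← isClosed_compl_iff]
    refine hcl _ ?_
    rintro Z hZ ⟨y, hy, hyC⟩ x hx hxC
    exact hyC (hR.trans hxC (hsame Z hZ x hx y hy))
  have hclosed : IsClosed C := hcl C fun Z hZ ⟨y, hy, hyC⟩ x hx ↦
    hR.trans hyC (hsame Z hZ y hy x hx)
  have huniv : C = univ :=
    IsClopen.eq_univ ⟨hclosed, hopen⟩ ⟨p, hR.refl p⟩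
  exact (huniv ▸ mem_univ q : q ∈ C)

end Groth.Agent.S17725
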