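import Groth.Statements.S17726
import Mathlib.RingTheory.Ideal.Operations

set_option autoImplicit false
universe u
open CAlg

namespace Groth.Agent.S17726

/-- Let f and g be non-zero-divisors of a commutative ring A, not both units; think of them as local
equations, at a point of the union of the supports, of two effective Cartier divisors E and D. If
the ideals generated by g^{m₁} and f^{n₁} coincide, and likewise for g^{m₂} and f^{n₂}, then m₁ n₂ =
m₂ n₁. So all pairs (m, n) with m D = n E locally at the point are proportional, and the saturation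
of the monoid they form is generated by a single element. -/
theorem result
    (A : Type u) [CommRing A] (f g : A)
    (hf : f ∈ nonZeroDivisors A) (hg : g ∈ nonZeroDivisors A) (hfg : ¬ (IsUnit f ∧ IsUnit g))
    (m₁ n₁ m₂ n₂ : ℕ)
    (h₁ : Ideal.span {g ^ m₁} = Ideal.span {f ^ n₁})
    (h₂ : Ideal.span {g ^ m₂} = Ideal.span {f ^ n₂}) :
    m₁ * n₂ = m₂ * n₁ := by
  have hpow : ∀ {a : A}, a ∈ nonZeroDivisors A → ¬ IsUnit a → ∀ i j : ℕ,
      Ideal.span {a ^ i} = Ideal.span {a ^ j} → i = j := by
    intro a ha hu i j h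
    by_contra hne
    wlog hij : i < j generalizing i j
    · exact this j i h.symm (Ne.symm hne) (by omega)
    obtain ⟨c, hc⟩ := Ideal.mem_span_singleton'.mp (h ▸ Ideal.mem_span_singleton_self (a ^ i))
    obtain ⟨d, rfl⟩ : ∃ d, j = i + (d + 1) := ⟨j - i - 1, by omega⟩
    have : a ^ i * 1 = a ^ i * (c * a ^ d * a) := by
      conv_lhs => rw [mul_one, ← hc]
      rw [pow_add, pow_succ]; ring
    exact hu (IsUnit.of_mul_eq_one (b := c * a ^ d)
      (by rw [mul_comm]; exact ((mul_cancel_left_mem_nonZeroDivisors (pow_mem ha i)).mp this).symm))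
  have hpw : ∀ (a c : A) (i : ℕ), Ideal.span {a} = Ideal.span {c} →
      Ideal.span {a ^ i} = Ideal.span {c ^ i} := fun a c i h => by
    rw [← Ideal.span_singleton_pow, h, Ideal.span_singleton_pow]
  by_cases hfu : IsUnit f
  · have hgu : ¬ IsUnit g := fun h => hfg ⟨hfu, h⟩
    have hz : ∀ m n : ℕ, Ideal.span {g ^ m} = Ideal.span {f ^ n} → m = 0 := by
      intro m n h
      rw [Ideal.span_singleton_eq_top.mpr (hfu.pow n), Ideal.span_singleton_eq_top] at h
      by_contra hm
      exact hgu ((isUnit_pow_iff hm).mp h)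
    rw [hz m₁ n₁ h₁, hz m₂ n₂ h₂, zero_mul, zero_mul]
  · refine hpow hf hfu _ _ ?_
    calc Ideal.span {f ^ (m₁ * n₂)} = Ideal.span {(g ^ m₂) ^ m₁} := by
          rw [hpw _ _ m₁ h₂, ← pow_mul, mul_comm]
      _ = Ideal.span {(g ^ m₁) ^ m₂} := by rw [← pow_mul, ← pow_mul, mul_comm]
      _ = Ideal.span {f ^ (m₂ * n₁)} := by rw [hpw _ _ m₂ h₁, ← pow_mul, mul_comm]

end Groth.Agent.S17726
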