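import Groth.Statements.S17727
import Groth.Agent.Lib.SchDense.Factor

set_option autoImplicit false
universe u
open Neron

namespace Groth.Agent.S17727

open CategoryTheory.Limits

open CategoryTheory AlgebraicGeometry in
/-- Let f : E → S be a morphism of schemes and U ⊆ S a schematically dense open subscheme such that f
restricts to an isomorphism over U and the preimage of U is schematically dense in E. Then for every
section σ of f and every point s of S there is an open neighbourhood W of σ(s) in E on which f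
restricts to an open immersion. (The published statements conclude that the section lands in the
étale locus of f, in one published form for an algebraic space E, in another for f locally of finite
type over a Noetherian base; the affine-local argument gives the sharper conclusion recorded here,
for schemes.) -/
theorem result
    {E S : Scheme.{u}} (f : E ⟶ S) (U : S.Opens) (hU : CInt.IsSchematicallyDense U)
    (hiso : IsIso (morphismRestrict f U)) (hdense : CInt.IsSchematicallyDense (f ⁻¹ᵁ U))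
    (σ : S ⟶ E) (hσ : σ ≫ f = 𝟙 S) (s : S) :
    ∃ W : E.Opens, σ.base s ∈ W ∧ IsOpenImmersion ((Scheme.Opens.ι W) ≫ f) := by
  obtain ⟨_, ⟨W, hWa, rfl⟩, hsW, -⟩ :=
    E.isBasis_affineOpens.exists_subset_of_mem_open (Set.mem_univ (σ.base s)) isOpen_univ
  have hfσ : ∀ x, f.base (σ.base x) = x := fun x => by
    rw [← Scheme.Hom.comp_apply, hσ]; rfl
  let V : S.Opens := σ ⁻¹ᵁ W
  let W₀ : E.Opens := W ⊓ f ⁻¹ᵁ V
  have hmem : σ.base s ∈ W₀ := ⟨hsW, by show σ.base (f.base (σ.base s)) ∈ W; rwa [hfσ]⟩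
  have hVW : V ≤ σ ⁻¹ᵁ W₀ := fun x hx => ⟨hx, by show σ.base (f.base (σ.base x)) ∈ W; rwa [hfσ]⟩
  let a := f.resLE V W₀ inf_le_right
  let b := σ.resLE W₀ V hVW
  have hba : b ≫ a = 𝟙 _ := by
    rw [← cancel_mono V.ι]; simp [a, b, hσ]
  have hab : a ≫ b = 𝟙 _ := by
    rw [← cancel_mono (E.homOfLE (inf_le_left : W₀ ≤ W))]
    have : IsAffine W := hWa
    refine Groth.Agent.Lib.SchDense.Basic.ext_of_isSchematicallyDense (terminal.from _)
      (terminal.hom_ext _ _)
      (Groth.Agent.Lib.SchDense.Factor.isSchematicallyDense_preimage hdense W₀) ?_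
    rw [← cancel_mono (Scheme.Opens.ι W)]
    simp only [Category.assoc, Scheme.homOfLE_ι, Category.id_comp, a, b,
      Scheme.Hom.resLE_comp_ι, Scheme.Hom.resLE_comp_ι_assoc]
    show (W₀.ι ⁻¹ᵁ f ⁻¹ᵁ U).ι ≫ f.resLE V W₀ _ ≫ σ.resLE W₀ V hVW ≫ W₀.ι =
      (W₀.ι ⁻¹ᵁ f ⁻¹ᵁ U).ι ≫ W₀.ι
    rw [Scheme.Hom.resLE_comp_ι, Scheme.Hom.resLE_comp_ι_assoc]
    -- both sides land in `f ⁻¹ᵁ U`, on which `f` is a monomorphism
    have hr : ∀ {P : Scheme.{u}} (q : P ⟶ E), (∀ x, f.base (q.base x) ∈ U) → q ≫ f ≫ σ = q := by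
      intro P q hq
      have h1 : Set.range q.base ⊆ Set.range (f ⁻¹ᵁ U).ι.base := by
        rw [Scheme.Opens.range_ι]; rintro _ ⟨x, rfl⟩; exact hq x
      have h2 : Set.range (q ≫ f ≫ σ).base ⊆ Set.range (f ⁻¹ᵁ U).ι.base := by
        rw [Scheme.Opens.range_ι]; rintro _ ⟨x, rfl⟩
        show f.base (σ.base (f.base (q.base x))) ∈ U
        rw [hfσ]; exact hq x
      have : IsOpenImmersion.lift (f ⁻¹ᵁ U).ι (q ≫ f ≫ σ) h2 = IsOpenImmersion.lift (f ⁻¹ᵁ U).ι q h1 := by
        rw [← cancel_mono (f ∣_ U), ← cancel_mono U.ι]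
        simp [hσ]
      have := congrArg (· ≫ (f ⁻¹ᵁ U).ι) this
      simpa using this
    have := hr ((W₀.ι ⁻¹ᵁ (f ⁻¹ᵁ U)).ι ≫ W₀.ι) (fun x => x.2)
    simpa using this
  have : IsIso a := ⟨b, hab, hba⟩
  refine ⟨W₀, hmem, ?_⟩
  rw [← Scheme.Hom.resLE_comp_ι f (U := V) (inf_le_right : W₀ ≤ f ⁻¹ᵁ V)]
  show IsOpenImmersion (a ≫ V.ι)
  infer_instance

end Groth.Agent.S17727
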