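import Groth.Statements.S17728
import Groth.Agent.Lib.NeronDescent.Descent
import Groth.Agent.H19.FlatLocus.Scheme
import Mathlib.AlgebraicGeometry.Morphisms.FlatMono
import Mathlib.AlgebraicGeometry.Morphisms.Etale

set_option autoImplicit false
universe u
open Neron

namespace Groth.Agent.S17728

open CategoryTheory CategoryTheory.Limits AlgebraicGeometry TopologicalSpace
open Groth.Agent.Lib.NeronDescent

/-- Over the open where `f` is an isomorphism, maps into `X` are determined by their images in `S`. -/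
theorem eq_of_iso {X S T : Scheme.{u}} (f : X ⟶ S) (U : S.Opens) [IsIso (f ∣_ U)] (a b : T ⟶ X)
    (h : a ≫ f = b ≫ f) (ha : ∀ t, f (a t) ∈ U) : a = b := by
  have hb : ∀ t, f (b t) ∈ U := fun t => by
    have h' : f (a t) = f (b t) := congr($(h) t)
    exact h' ▸ ha t
  let a' := IsOpenImmersion.lift (f ⁻¹ᵁ U).ι a (by
    rintro _ ⟨t, rfl⟩; rw [Scheme.Opens.range_ι]; exact ha t)
  let b' := IsOpenImmersion.lift (f ⁻¹ᵁ U).ι b (by
    rintro _ ⟨t, rfl⟩; rw [Scheme.Opens.range_ι]; exact hb t)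
  have ha' : a' ≫ (f ⁻¹ᵁ U).ι = a := IsOpenImmersion.lift_fac _ _ _
  have hb' : b' ≫ (f ⁻¹ᵁ U).ι = b := IsOpenImmersion.lift_fac _ _ _
  have : a' = b' := by
    rw [← cancel_mono (f ∣_ U), ← cancel_mono U.ι, Category.assoc, Category.assoc, morphismRestrict_ι,
      reassoc_of% ha', reassoc_of% hb', h]
  rw [← ha', ← hb', this]

/-- An affine chart inside the preimage of an affine open. -/
theorem exists_chart {X S : Scheme.{u}} (f : X ⟶ S) (x : X) (V : S.Opens) (hV : f x ∈ V)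
    (O : X.Opens) (hO : x ∈ O) :
    ∃ (W : X.Opens), IsAffineOpen W ∧ x ∈ W ∧ W ≤ O ∧ W ≤ f ⁻¹ᵁ V ∧ IsSeparated (W.ι ≫ f) := by
  obtain ⟨_, ⟨(V₀ : S.Opens), hV₀, rfl⟩, hxV₀, hV₀V⟩ :=
    S.isBasis_affineOpens.exists_subset_of_mem_open (show f x ∈ (V : Set S) from hV) V.2
  obtain ⟨_, ⟨(W : X.Opens), hW, rfl⟩, hxW, hWle⟩ :=
    X.isBasis_affineOpens.exists_subset_of_mem_open
      (show x ∈ ((O ⊓ f ⁻¹ᵁ V₀ : X.Opens) : Set X) from ⟨hO, hxV₀⟩) (O ⊓ f ⁻¹ᵁ V₀).2
  have hWV₀ : W ≤ f ⁻¹ᵁ V₀ := fun y hy => (hWle hy).2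
  refine ⟨W, hW, hxW, fun y hy => (hWle hy).1, fun y hy => hV₀V (hWle hy).2, ?_⟩
  haveI : IsAffine W := hW
  haveI : IsAffine V₀ := hV₀
  have e : f.resLE V₀ W hWV₀ ≫ V₀.ι = W.ι ≫ f := Scheme.Hom.resLE_comp_ι _ _
  rw [← e]
  infer_instance

/-- A flat point gives an open immersion on a neighbourhood. -/
theorem exists_isOpenImmersion {X S : Scheme.{u}} [IsLocallyNoetherian S] (f : X ⟶ S)
    [LocallyOfFiniteType f] (U : S.Opens) [IsIso (f ∣_ U)]
    (hdense : CInt.IsSchematicallyDense (f ⁻¹ᵁ U)) (x : X) (hflat : (f.stalkMap x).hom.Flat) :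
    ∃ W : X.Opens, x ∈ W ∧ IsOpenImmersion (W.ι ≫ f) := by
  haveI : IsLocallyNoetherian X := LocallyOfFiniteType.isLocallyNoetherian f
  haveI : LocallyOfFinitePresentation f := inferInstance
  obtain ⟨W, hW, hxW, hWO, -, hsep⟩ := exists_chart f x ⊤ trivial
    ⟨_, Groth.Agent.H19.FlatLocus.Scheme.isOpen_flat_stalkMap (f := f)⟩ hflat
  haveI := hsep
  haveI : Flat (W.ι ≫ f) := by
    rw [Flat.iff_flat_stalkMap]
    intro w
    rw [Scheme.Hom.stalkMap_comp]
    exact RingHom.Flat.comp (hWO w.2) (Flat.stalkMap W.ι w)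
  let g := W.ι ≫ f
  obtain ⟨b, hb, hbU⟩ := exists_nzd_section hdense hW
  let P := pullback g g
  let pX : P ⟶ X := pullback.fst g g ≫ W.ι
  have heq : pullback.fst g g = pullback.snd g g := by
    have hT : (⊤ : P.Opens) ≤ pX ⁻¹ᵁ W := fun p _ => (pullback.fst g g p).2
    haveI : IsIso (⊤ : P.Opens).ι := inferInstanceAs (IsIso P.topIso.hom)
    rw [← cancel_epi (⊤ : P.Opens).ι]
    refine eq_of_basicOpen g (pX.app W b) (germ_app_mem_nonZeroDivisors pX hW hb) hT _ _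
      (by rw [Category.assoc, Category.assoc, pullback.condition]) ?_
    rw [← cancel_mono W.ι]
    refine eq_of_iso f U _ _ ?_ ?_
    · simp only [Category.assoc]
      exact congrArg (fun q => _ ≫ _ ≫ q) (pullback.condition (f := g) (g := g))
    · intro t
      exact (basicOpen_app_le pX hbU t.2 : _)
  haveI : Mono g := ⟨fun a c hac => by
    have h1 := pullback.lift_fst a c hac
    have h2 := pullback.lift_snd a c hac
    rw [← h1, heq, h2]⟩
  exact ⟨W, hxW, IsOpenImmersion.of_flat_of_mono g⟩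

/-- A section through a point gives an open immersion on a neighbourhood. -/
theorem exists_isOpenImmersion_of_section {X S : Scheme.{u}} [IsLocallyNoetherian S] (f : X ⟶ S)
    [LocallyOfFiniteType f] (U : S.Opens) [IsIso (f ∣_ U)]
    (hdense : CInt.IsSchematicallyDense (f ⁻¹ᵁ U)) (x : X) (V : S.Opens) (hV : f x ∈ V)
    (σ : (V : Scheme.{u}) ⟶ X) (hσ : σ ≫ f = V.ι) (hσx : σ ⟨f x, hV⟩ = x) :
    ∃ W : X.Opens, x ∈ W ∧ IsOpenImmersion (W.ι ≫ f) := by
  haveI : IsLocallyNoetherian X := LocallyOfFiniteType.isLocallyNoetherian f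
  obtain ⟨W, hW, hxW, -, hWV, hsep⟩ := exists_chart f x V hV ⊤ trivial
  let V₁ : S.Opens := V.ι ''ᵁ (σ ⁻¹ᵁ W)
  have hV₁V : V₁ ≤ V := V.ι_image_le _
  have hxV₁ : f x ∈ V₁ := ⟨⟨f x, hV⟩, by show σ _ ∈ W; rw [hσx]; exact hxW, rfl⟩
  let X₁ : X.Opens := W ⊓ f ⁻¹ᵁ V₁
  let r : (X₁ : Scheme.{u}) ⟶ (V₁ : Scheme.{u}) := f.resLE V₁ X₁ inf_le_right
  let σ₁ : (V₁ : Scheme.{u}) ⟶ X := S.homOfLE hV₁V ≫ σ
  have hσ₁ : σ₁ ≫ f = V₁.ι := by rw [Category.assoc, hσ, Scheme.homOfLE_ι]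
  have hmem : ∀ v : V₁.toScheme, σ₁ v ∈ X₁ := by
    intro v
    refine ⟨?_, ?_⟩
    · obtain ⟨v', hv', he⟩ := v.2
      have : S.homOfLE hV₁V v = v' := V.ι.isOpenEmbedding.injective (by
        rw [← Scheme.Hom.comp_apply, Scheme.homOfLE_ι]; exact he.symm)
      show σ (S.homOfLE hV₁V v) ∈ W
      rw [this]
      exact hv'
    · show f (σ₁ v) ∈ V₁
      have : f (σ₁ v) = V₁.ι v := congr($(hσ₁) v)
      rw [this]
      exact v.2
  let s : (V₁ : Scheme.{u}) ⟶ (X₁ : Scheme.{u}) := IsOpenImmersion.lift X₁.ι σ₁ (by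
    rintro _ ⟨v, rfl⟩; rw [Scheme.Opens.range_ι]; exact hmem v)
  have hs : s ≫ X₁.ι = σ₁ := IsOpenImmersion.lift_fac _ _ _
  have hr : r ≫ V₁.ι = X₁.ι ≫ f := Scheme.Hom.resLE_comp_ι _ _
  have hsr : s ≫ r = 𝟙 _ := by
    rw [← cancel_mono V₁.ι, Category.assoc, hr, reassoc_of% hs, hσ₁, Category.id_comp]
  haveI : IsSeparated (X₁.ι ≫ f) := by
    haveI := hsep
    rw [← X.homOfLE_ι (inf_le_left : X₁ ≤ W), Category.assoc]
    infer_instance
  obtain ⟨b, hb, hbU⟩ := exists_nzd_section hdense hW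
  have hrs : r ≫ s = 𝟙 _ := by
    refine eq_of_basicOpen (X₁.ι ≫ f) b (fun y hy => germ_mem_nonZeroDivisors hW hb hy)
      (inf_le_left : X₁ ≤ W) _ _ ?_ ?_
    · rw [Category.id_comp, ← hr, Category.assoc, reassoc_of% hsr]
    · rw [← cancel_mono X₁.ι]
      refine (eq_of_iso f U _ _ ?_ ?_).symm
      · simp only [Category.assoc, Category.id_comp]
        rw [reassoc_of% hs, hσ₁, hr]
        simp [X₁]
      · intro t
        exact hbU t.2
  haveI : IsIso r := ⟨s, hrs, hsr⟩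
  refine ⟨X₁, ⟨hxW, hxV₁⟩, ?_⟩
  rw [← hr]
  infer_instance

open CategoryTheory AlgebraicGeometry in
/-- Let S be a Noetherian scheme, U ⊆ S a dense open subscheme and f : X → S a morphism locally of
finite type which restricts to an isomorphism over U and for which the preimage of U is
schematically dense in X. For a point x of X the following are equivalent: f is étale on some open
neighbourhood of x; f is flat at x, that is, the local ring of X at x is flat over the local ring of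
S at f(x); some open neighbourhood V of f(x) carries a section σ of f over V passing through x. -/
theorem result
    {X S : Scheme.{u}} [IsNoetherian S] (f : X ⟶ S) [LocallyOfFiniteType f]
    (U : S.Opens) (hU : Dense (U : Set S))
    (hiso : IsIso (morphismRestrict f U)) (hdense : CInt.IsSchematicallyDense (f ⁻¹ᵁ U))
    (x : X) :
    List.TFAE [
      ∃ W : X.Opens, x ∈ W ∧ Etale (W.ι ≫ f),
      (f.stalkMap x).hom.Flat,
      ∃ (V : S.Opens) (hV : f.base x ∈ V) (σ : (V : Scheme.{u}) ⟶ X),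
        σ ≫ f = V.ι ∧ σ.base ⟨f.base x, hV⟩ = x] := by
  haveI := hiso
  have hto : ∀ W : X.Opens, x ∈ W → IsOpenImmersion (W.ι ≫ f) →
      ∃ (V : S.Opens) (hV : f.base x ∈ V) (σ : (V : Scheme.{u}) ⟶ X),
        σ ≫ f = V.ι ∧ σ.base ⟨f.base x, hV⟩ = x := by
    intro W hxW hW
    let g := W.ι ≫ f
    refine ⟨g.opensRange, ⟨⟨x, hxW⟩, rfl⟩, g.isoOpensRange.inv ≫ W.ι, ?_, ?_⟩
    · rw [Category.assoc]
      exact g.isoOpensRange_inv_comp
    · have h1 : g.isoOpensRange.inv ⟨f.base x, ⟨⟨x, hxW⟩, rfl⟩⟩ = (⟨x, hxW⟩ : W.toScheme) := by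
        apply g.isOpenEmbedding.injective
        exact congr($(g.isoOpensRange_inv_comp) ⟨f.base x, ⟨⟨x, hxW⟩, rfl⟩⟩)
      show W.ι (g.isoOpensRange.inv _) = x
      rw [h1]
      rfl
  tfae_have 1 → 2 := fun ⟨W, hxW, hW⟩ => by
    let w : W.toScheme := ⟨x, hxW⟩
    have h1 : (((W.ι ≫ f).stalkMap w).hom).Flat := Flat.stalkMap _ _
    rw [Scheme.Hom.stalkMap_comp] at h1
    exact (RingHom.Flat.respectsIso.cancel_right_isIso (f.stalkMap (W.ι w)) (W.ι.stalkMap w)).1 h1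
  tfae_have 2 → 3 := fun h => by
    obtain ⟨W, hxW, hW⟩ := exists_isOpenImmersion f U hdense x h
    exact hto W hxW hW
  tfae_have 3 → 1 := fun ⟨V, hV, σ, hσ, hσx⟩ => by
    obtain ⟨W, hxW, hW⟩ := exists_isOpenImmersion_of_section f U hdense x V hV σ hσ hσx
    exact ⟨W, hxW, inferInstance⟩
  tfae_finish

end Groth.Agent.S17728
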