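import Groth.Statements.S17735
import Groth.Agent.H24.NodeRing.Fibral
import Groth.Agent.Lib.Regular.Quotient

set_option autoImplicit false
universe u
open CAlg

namespace Groth.Agent.S17735

open IsLocalRing in
/-- Let R be a regular local ring complete for its maximal ideal, r a non-zero element of R, A the
quotient of the power series ring in x, y over R by xy − r, B the quotient of the polynomial ring in
x, y over R by xy − r, ι : B → A the natural map, P the ideal of B generated by x, y and the maximal
ideal of R, à the localization of B at P and φ : à → A the map extending ι. Call a prime of height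
one of A (or of Ã) fibral when it contains a non-zero element of R. Then contraction along φ is a
bijection from the set of fibral height-one primes of A onto the set of fibral height-one primes of
Ã; equivalently it induces an isomorphism between the free abelian groups of fibral Weil divisors. -/
theorem result
    (R : Type u) [CommRing R] [IsRegularLocalRing R]
    [IsAdicComplete (maximalIdeal R) R]
    (r : R) (hr : r ≠ 0)
    (ι : (MvPolynomial (Fin 2) R ⧸ Ideal.span {(MvPolynomial.X 0 * MvPolynomial.X 1 - MvPolynomial.C r : MvPolynomial (Fin 2) R)}) →+*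
      (MvPowerSeries (Fin 2) R ⧸ Ideal.span {(MvPowerSeries.X 0 * MvPowerSeries.X 1 - MvPowerSeries.C r : MvPowerSeries (Fin 2) R)}))
    (hι : ι.comp (Ideal.Quotient.mk _) =
      (Ideal.Quotient.mk _).comp (MvPolynomial.coeToMvPowerSeries.ringHom : MvPolynomial (Fin 2) R →+* MvPowerSeries (Fin 2) R))
    (P : Ideal (MvPolynomial (Fin 2) R ⧸ Ideal.span {(MvPolynomial.X 0 * MvPolynomial.X 1 - MvPolynomial.C r : MvPolynomial (Fin 2) R)})) [P.IsPrime]
    (hP : P = Ideal.span {Ideal.Quotient.mk _ (MvPolynomial.X 0), Ideal.Quotient.mk _ (MvPolynomial.X 1)} ⊔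
      (maximalIdeal R).map (algebraMap R _))
    (φ : Localization.AtPrime P →+* (MvPowerSeries (Fin 2) R ⧸ Ideal.span {(MvPowerSeries.X 0 * MvPowerSeries.X 1 - MvPowerSeries.C r : MvPowerSeries (Fin 2) R)}))
    (hφ : φ.comp (algebraMap _ (Localization.AtPrime P)) = ι) :
    Set.BijOn (fun 𝔓 => Ideal.comap φ 𝔓)
      {𝔓 | 𝔓.IsPrime ∧ 𝔓.height = 1 ∧ Ideal.comap (algebraMap R _) 𝔓 ≠ ⊥}
      {𝔮 : Ideal (Localization.AtPrime P) | 𝔮.IsPrime ∧ @Ideal.height (Localization.AtPrime P) _ 𝔮 = 1 ∧ Ideal.comap (algebraMap R (Localization.AtPrime P)) 𝔮 ≠ ⊥} := by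
  haveI : IsDomain R := Groth.Agent.Lib.Regular.Quotient.isDomain R
  haveI : UniqueFactorizationMonoid R := Groth.Agent.Lib.Regular.UFD.uniqueFactorizationMonoid R
  have hr' : r ∈ maximalIdeal R := by
    intro hu
    have hxy : Ideal.Quotient.mk (Ideal.span {(MvPolynomial.X 0 * MvPolynomial.X 1 - MvPolynomial.C r :
        MvPolynomial (Fin 2) R)}) (MvPolynomial.C r) ∈ P := by
      rw [show Ideal.Quotient.mk (Ideal.span {(MvPolynomial.X 0 * MvPolynomial.X 1 - MvPolynomial.C r :
        MvPolynomial (Fin 2) R)}) (MvPolynomial.C r) = Ideal.Quotient.mk _ (MvPolynomial.X 0 * MvPolynomial.X 1) from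
        (Ideal.Quotient.eq.2 (Ideal.mem_span_singleton_self _)).symm, map_mul, hP]
      exact Ideal.mem_sup_left (Ideal.mul_mem_right _ _ (Ideal.subset_span (by simp)))
    exact ‹P.IsPrime›.ne_top (Ideal.eq_top_of_isUnit_mem P hxy ((hu.map MvPolynomial.C).map _))
  exact H24.NodeRing.bijOn_comap hr' hr P (Localization.AtPrime P) ι
    (fun z => RingHom.congr_fun hι z) φ (fun b => RingHom.congr_fun hφ b)

end Groth.Agent.S17735
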