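import Groth.Statements.S17739
import Mathlib
import Groth.Agent.H68.QsP.Fixed

set_option autoImplicit false
open QsChow

namespace Groth.Agent.S17739

/-- For an integer n ≥ 2 put s := n / 2 + 1 (integer part) and, for 2 ≤ j ≤ s, let k_j be the integer
part of the base-2 logarithm of (2n - 1)/(2j - 3); let P := F_2[ε_1, …, ε_s]/(ε_1^n, ε_2^(2^k_2), …,
ε_s^(2^k_s)) over the field F_2 with two elements, and let τ be the F_2-algebra involution of P with
τ(ε_1) = ε_1 and τ(ε_j) = ε_j + ε_1^(2j-3) for 2 ≤ j ≤ s (it exists since (2j-3)·2^k_j ≥ n, and is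
unique). Then the image of the map y ↦ y + τ(y) on P equals the set of products ε_1 · z with z
running over the τ-fixed subalgebra of P. (The printed statement is the same assertion after passing
to the quotients by ε_1^m for 1 ≤ m ≤ n, which follows at once; n ≥ 2 is assumed so that ε_2
exists.) -/
theorem result (n : ℕ) (hn : 2 ≤ n)
    (τ : QsChow.P n →ₐ[ZMod 2] QsChow.P n) (hτ1 : τ (QsChow.eps n 1) = QsChow.eps n 1)
    (hτ : ∀ j : ℕ, 2 ≤ j → j ≤ QsChow.numVars n →
      τ (QsChow.eps n j) = QsChow.eps n j + QsChow.eps n 1 ^ (2 * j - 3)) :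
    Set.range (fun y : QsChow.P n => y + τ y) =
      (fun z : QsChow.P n => QsChow.eps n 1 * z) '' (AlgHom.equalizer τ (AlgHom.id (ZMod 2) (QsChow.P n)) : Set (QsChow.P n)) := by
  ext y
  constructor
  · rintro ⟨x, rfl⟩
    have hx : x + τ x ∈ Ideal.span ({Groth.Agent.H68.QsP.ee n ^ 1} : Set (QsChow.P n)) := by
      rw [pow_one]
      have h := Groth.Agent.H68.QsP.dd_mem hn τ hτ1 hτ x
      have hle : Submodule.span (ZMod 2) (Groth.Agent.H68.QsP.v n '' {b | Groth.Agent.H68.QsP.par b = 0 ∧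
          1 ≤ (b (Groth.Agent.H68.QsP.i0 n)).val}) ≤
          (Ideal.span ({Groth.Agent.H68.QsP.ee n} : Set (QsChow.P n))).restrictScalars (ZMod 2) := by
        rw [Submodule.span_le]
        rintro _ ⟨b, ⟨-, hb⟩, rfl⟩
        rw [SetLike.mem_coe, Submodule.restrictScalars_mem, Groth.Agent.H68.QsP.v_split b (Groth.Agent.H68.QsP.i0 n),
          Groth.Agent.H68.QsP.fac_i0]
        refine Ideal.mul_mem_right _ _ ?_
        obtain ⟨c, hc⟩ := Nat.exists_eq_add_of_le hb
        rw [hc, add_comm, pow_succ]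
        exact Ideal.mul_mem_left _ _ (Ideal.mem_span_singleton_self _)
      exact hle h
    obtain ⟨z, hz, hzy⟩ := Groth.Agent.H68.QsP.exists_fixed_factor hn τ hτ1 hτ le_rfl hx
    rw [pow_one] at hzy
    exact ⟨z, hz, hzy.symm⟩
  · rintro ⟨z, hz, rfl⟩
    exact Groth.Agent.H68.QsP.ee_mul_fixed_mem hn τ hτ1 hτ hz

end Groth.Agent.S17739
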