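import Groth.Statements.S17743
import Mathlib
import Groth.Agent.H68.PtChow

set_option autoImplicit false
universe u
open CategoryTheory AlgebraicGeometry
open QsChow

namespace Groth.Agent.S17743

lemma finrank_lift_fixed {k K : Type u} [Field k] [Field K] [Algebra k K] (L : IntermediateField k K)
    [FiniteDimensional k L] [IsGalois k L] (H : Subgroup (L ≃ₐ[k] L)) :
    FiniteDimensional k (IntermediateField.lift (IntermediateField.fixedField H)) ∧
      Module.finrank k (IntermediateField.lift (IntermediateField.fixedField H)) * Nat.card H = Module.finrank k L := by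
  let e := (IntermediateField.liftAlgEquiv (IntermediateField.fixedField H)).toLinearEquiv
  refine ⟨Module.Finite.equiv e, ?_⟩
  rw [← e.finrank_eq, ← IntermediateField.finrank_fixedField_eq_card H, Module.finrank_mul_finrank]

/-- Let K be a separable algebraic field extension of k and suppose that some intermediate field L of K
over k is finite Galois over k with degree [L:k] not of the form p^n for a prime p and n ≥ 0 (so
[L:k] has at least two prime factors). Then the subgroup of the Chow group of zero-cycles of Spec k
generated by the classes of push-forwards from Spec F, over the intermediate fields F of K over k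
that are finite over k and different from k, is the whole group; that is, the conormed Chow group of
the point relative to K over k is zero. (Degree 1 = p^0 must be excluded: for L = K = k the quotient
is ℤ.) -/
theorem result
    (k : Type u) [Field k] (K : Type u) [Field K] [Algebra k K] [Algebra.IsSeparable k K]
    (L : IntermediateField k K) [FiniteDimensional k L] [IsGalois k L]
    (hL : ∀ p n : ℕ, p.Prime → Module.finrank k L ≠ p ^ n) :
    QsChow.ptNormSubgroup k K = ⊤ := by
  classical
  apply AddSubgroup.map_injective (H68.PtChow.deg_injective k)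
  rw [H68.PtChow.map_ptNormSubgroup, AddSubgroup.map_top_of_surjective _ (H68.PtChow.deg_surjective k)]
  obtain ⟨d, hd⟩ := Int.subgroup_cyclic (AddSubgroup.closure
      {d | ∃ (F : IntermediateField k K) (_ : FiniteDimensional k F) (_ : F ≠ ⊥), d = (Module.finrank k F : ℤ)})
  have hmem : ∀ (F : IntermediateField k K), FiniteDimensional k F → Module.finrank k F ≠ 1 → d ∣ (Module.finrank k F : ℤ) := by
    intro F hF h1
    have : (Module.finrank k F : ℤ) ∈ AddSubgroup.closure {d} := by
      rw [← hd]
      exact AddSubgroup.subset_closure ⟨F, hF, fun h => h1 (by rw [h]; exact IntermediateField.finrank_bot), rfl⟩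
    rwa [← AddSubgroup.zmultiples_eq_closure, Int.mem_zmultiples_iff] at this
  have hL1 : Module.finrank k L ≠ 1 := fun h => hL 2 0 Nat.prime_two (by rw [h, pow_zero])
  have hd1 : d.natAbs = 1 := by
    by_contra hne
    obtain ⟨q, hq, hqd⟩ := Nat.exists_prime_and_dvd hne
    haveI : Fact q.Prime := ⟨hq⟩
    have hqd' : (q : ℤ) ∣ d := Int.natCast_dvd.mpr hqd
    let P : Sylow q (L ≃ₐ[k] L) := default
    obtain ⟨hfin, hcard⟩ := finrank_lift_fixed L (P : Subgroup (L ≃ₐ[k] L))
    set F := IntermediateField.lift (IntermediateField.fixedField (P : Subgroup (L ≃ₐ[k] L)))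
    have hidx : Module.finrank k F = (P : Subgroup (L ≃ₐ[k] L)).index := by
      have h := (P : Subgroup (L ≃ₐ[k] L)).index_mul_card
      rw [IsGalois.card_aut_eq_finrank, ← hcard] at h
      exact (Nat.eq_of_mul_eq_mul_right Nat.card_pos h).symm
    have hP := P.not_dvd_index
    have hF1 : Module.finrank k F ≠ 1 := by
      intro h1
      rw [hidx, Subgroup.index_eq_one] at h1
      apply hL q (Nat.factorization (Nat.card (L ≃ₐ[k] L)) q) hq
      rw [← P.card_eq_multiplicity, ← IsGalois.card_aut_eq_finrank]
      exact ((Nat.card_congr (Equiv.setCongr (by rw [h1]))).trans (Nat.card_congr Subgroup.topEquiv.toEquiv)).symm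
    have := hqd'.trans (hmem F hfin hF1)
    rw [Int.natCast_dvd_natCast, hidx] at this
    exact hP this
  rw [hd]
  refine eq_top_iff.mpr fun a _ => ?_
  rw [← AddSubgroup.zmultiples_eq_closure, Int.mem_zmultiples_iff]
  exact Int.natAbs_dvd.mp (by rw [hd1]; exact one_dvd a)

end Groth.Agent.S17743
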