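import Groth.Statements.S17744
import Mathlib
import Groth.Agent.H68.PtChow

set_option autoImplicit false
universe u
open CategoryTheory AlgebraicGeometry
open QsChow

namespace Groth.Agent.S17744

lemma finrank_lift_fixed {k K : Type u} [Field k] [Field K] [Algebra k K] (L : IntermediateField k K)
    [FiniteDimensional k L] [IsGalois k L] (H : Subgroup (L ≃ₐ[k] L)) :
    FiniteDimensional k (IntermediateField.lift (IntermediateField.fixedField H)) ∧
      Module.finrank k (IntermediateField.lift (IntermediateField.fixedField H)) * Nat.card H = Module.finrank k L := by
  let e := (IntermediateField.liftAlgEquiv (IntermediateField.fixedField H)).toLinearEquiv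
  refine ⟨Module.Finite.equiv e, ?_⟩
  rw [← e.finrank_eq, ← IntermediateField.finrank_fixedField_eq_card H, Module.finrank_mul_finrank]

/-- Let K be a separable algebraic field extension of k, let L be an intermediate field of K over k that
is finite Galois over k of degree p^n with p prime and n ≥ 1, and suppose that every intermediate
field of K over k that is finite over k has degree a power of p. Then the subgroup of the Chow group
of zero-cycles of Spec k generated by the classes of push-forwards from Spec F, over the
intermediate fields F of K over k that are finite over k and different from k, has index p; that is,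
the conormed Chow group of the point relative to K over k is cyclic of order p (the field with p
elements, in the source's ring language). (For n = 0, i.e. L = k, the assertion fails with K = k, so
n ≥ 1 is required.) -/
theorem result
    (k : Type u) [Field k] (K : Type u) [Field K] [Algebra k K] [Algebra.IsSeparable k K]
    (L : IntermediateField k K) [FiniteDimensional k L] [IsGalois k L]
    (p n : ℕ) (hp : p.Prime) (hn : 1 ≤ n) (hL : Module.finrank k L = p ^ n)
    (hF : ∀ F : IntermediateField k K, FiniteDimensional k F → ∃ e : ℕ, Module.finrank k F = p ^ e) :
    (QsChow.ptNormSubgroup k K).index = p := by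
  classical
  haveI : Fact p.Prime := ⟨hp⟩
  have hle : (QsChow.ptNormSubgroup k K).map (H68.PtChow.deg k) = AddSubgroup.zmultiples (p : ℤ) := by
    rw [H68.PtChow.map_ptNormSubgroup]
    refine le_antisymm ((AddSubgroup.closure_le _).mpr ?_) ?_
    · rintro _ ⟨F, hF', hne, rfl⟩
      obtain ⟨e, he⟩ := hF F hF'
      rw [SetLike.mem_coe, Int.mem_zmultiples_iff, Int.natCast_dvd_natCast, he]
      refine dvd_pow_self p fun h => hne ?_
      rw [h, pow_zero] at he
      exact IntermediateField.finrank_eq_one_iff.mp he
    · rw [AddSubgroup.zmultiples_le]
      obtain ⟨m, rfl⟩ : ∃ m, n = m + 1 := ⟨n - 1, by omega⟩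
      obtain ⟨H, hH⟩ := Sylow.exists_subgroup_card_pow_prime p (G := L ≃ₐ[k] L) (n := m)
        (by rw [IsGalois.card_aut_eq_finrank, hL]; exact pow_dvd_pow p (Nat.le_succ m))
      obtain ⟨hfin, hcard⟩ := finrank_lift_fixed L H
      set F := IntermediateField.lift (IntermediateField.fixedField H)
      have hdeg : Module.finrank k F = p := by
        rw [hH, hL, pow_succ'] at hcard
        exact Nat.eq_of_mul_eq_mul_right (pow_pos hp.pos m) hcard
      refine AddSubgroup.subset_closure ⟨F, hfin, fun h => hp.ne_one ?_, by rw [hdeg]⟩
      rw [← hdeg, h]
      exact IntermediateField.finrank_bot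
  rw [← AddSubgroup.index_map_of_bijective (⟨H68.PtChow.deg_injective k, H68.PtChow.deg_surjective k⟩ :
    Function.Bijective (H68.PtChow.deg k)) (QsChow.ptNormSubgroup k K), hle, Int.index_zmultiples, Int.natAbs_natCast]

end Groth.Agent.S17744
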