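import Groth.Statements.S17746
import Groth.Agent.H68.NormTop
import Groth.Agent.H68.FactorSubfield
import Groth.Agent.Lib.RG.GeomComp
import Groth.Agent.Lib.Flat55.RegularAlteration
import Mathlib

set_option autoImplicit false
universe u
open CategoryTheory AlgebraicGeometry
open QsChow

open Groth.Agent.Lib

namespace Groth.Agent.S17746

/-- For a field extension K of k (separable algebraic) and a k-scheme X with weight function δ, call
norm subgroup of CH_j(X) the subgroup generated by the classes of the push-forwards to X of j-cycles
on the base changes X_F, over the intermediate fields F of K over k that are finite over k and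
different from k (the quotient by it is the degree-j part of the conormed Chow group of X relative
to K over k). Let L be an intermediate field of K over k that is finite Galois over k, and let X be
a smooth variety over k (smooth, separated and quasi-compact structure morphism) that is connected
and whose base change X_L is not connected. Then for every weight function δ on X (a dimension
function induced from weight 0 on Spec k) and every integer j the norm subgroup of CH_j(X) relative
to K over k is the whole Chow group: all conormed Chow groups of X vanish. -/
theorem result
    (k : Type u) [Field k] (K : Type u) [Field K] [Algebra k K] [Algebra.IsSeparable k K]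
    (L : IntermediateField k K) [FiniteDimensional k L] [IsGalois k L]
    (X : Scheme.{u}) [X.Over (Spec (CommRingCat.of k))]
    (hsm : Smooth (X ↘ Spec (CommRingCat.of k))) [IsSeparated (X ↘ Spec (CommRingCat.of k))]
    [QuasiCompact (X ↘ Spec (CommRingCat.of k))]
    [ConnectedSpace X] (hdisc : ¬ ConnectedSpace ↥(Curv2.bc k X L))
    (δ : X → ℤ) (hδ : Cyc.IsSetup X δ)
    (hcompat : Cyc.DeltaCompat (X ↘ Spec (CommRingCat.of k)) δ (fun _ => 0)) (j : ℤ) :
    QsChow.normSubgroup k K X δ j = ⊤ := by
  classical
  set f := X ↘ Spec (CommRingCat.of k) with hf
  haveI : IsIntegral X := RG.GeomComp.isIntegral_of_smooth_connected f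
  have hn : ∀ x : X, IsIntegrallyClosed (X.presheaf.stalk x) := fun x => by
    haveI := Cyc.SmoothReg.isRegularLocalRing_stalk f x
    exact Regular.UFD.isIntegrallyClosed _
  obtain ⟨F', hF', g', hg'⟩ := H68.FactorSubfield.exists_factor k X hn L fun h => hdisc inferInstance
  let F := IntermediateField.lift F'
  haveI : FiniteDimensional k F :=
    Module.Finite.equiv (IntermediateField.liftAlgEquiv F').toLinearEquiv
  have hF : F ≠ ⊥ := fun h => hF' (IntermediateField.lift_injective L (by
    rw [IntermediateField.lift_bot]; exact h))
  refine H68.NormTop.normSubgroup_eq_top k K F hF X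
    (g' ≫ Spec.map (CommRingCat.ofHom (IntermediateField.liftAlgEquiv F').symm.toAlgHom.toRingHom)) ?_ δ j
  rw [Category.assoc, ← Spec.map_comp, ← CommRingCat.ofHom_comp, AlgHom.toRingHom_eq_coe, AlgHom.comp_algebraMap, hg']

end Groth.Agent.S17746
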