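import Groth.Statements.S17751
import Mathlib.RingTheory.Ideal.KrullsHeightTheorem
import Mathlib.RingTheory.Ideal.MinimalPrime.Noetherian
-- import your own Groth.Agent.* helpers here

set_option autoImplicit false
universe u
open LocCoh

namespace Groth.Agent.S17751

/-- Suppose R is a Noetherian ring, r is a natural number, and I is an ideal of R. Then there are
elements f_1, …, f_r of I such that for every prime ideal p of R of height less than r, p contains I
if and only if p contains f_1, …, f_r. (For r = 0 there is nothing to prove.) -/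
theorem result (R : Type u) [CommRing R] [IsNoetherianRing R] (I : Ideal R) (r : ℕ) : ∃ f : Fin r → R, (∀ i, f i ∈ I) ∧ ∀ (p : Ideal R) [p.IsPrime], p.height < r → (I ≤ p ↔ Ideal.span (Set.range f) ≤ p) := by
  classical
  induction r with
  | zero => exact ⟨Fin.elim0, fun i => i.elim0, fun p _ hp => absurd hp (by simp)⟩
  | succ r ih =>
    obtain ⟨f, hf, hiff⟩ := ih
    set J := Ideal.span (Set.range f)
    have hJI : J ≤ I := Ideal.span_le.2 (by rintro _ ⟨i, rfl⟩; exact hf i)
    have hfin : {q ∈ J.minimalPrimes | ¬ I ≤ q}.Finite :=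
      (Ideal.finite_minimalPrimes_of_isNoetherianRing R J).subset fun q hq => hq.1
    obtain ⟨x, hxI, hx⟩ : ∃ x ∈ I, ∀ q ∈ J.minimalPrimes, ¬ I ≤ q → x ∉ q := by
      by_contra hh
      push Not at hh
      obtain ⟨q, hq, hIq⟩ : ∃ q ∈ hfin.toFinset, I ≤ q := by
        refine (Ideal.subset_union_prime (f := id) I I fun v hv _ _ => (hfin.mem_toFinset.1 hv).1.1.1).1 ?_
        intro y hy
        obtain ⟨q, hq1, hq2, hyq⟩ := hh y hy
        exact Set.mem_biUnion (hfin.mem_toFinset.2 ⟨hq1, hq2⟩) hyq
      exact (hfin.mem_toFinset.1 hq).2 hIq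
    refine ⟨Fin.cons x f, fun i => Fin.cases hxI hf i, fun p hpp hp => ?_⟩
    have hrange : Ideal.span (Set.range (Fin.cons x f : Fin (r + 1) → R)) = Ideal.span {x} ⊔ J := by
      rw [Fin.range_cons, Ideal.span_insert]
    rw [hrange]
    refine ⟨fun h => sup_le ((Ideal.span_singleton_le_iff_mem _).2 (h hxI)) (hJI.trans h), fun h => ?_⟩
    by_contra hIp
    have hxp : x ∈ p := (Ideal.span_singleton_le_iff_mem _).1 (le_sup_left.trans h)
    obtain ⟨q, hq, hqp⟩ := Ideal.exists_minimalPrimes_le (le_sup_right.trans h)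
    have := hq.1.1
    rcases eq_or_lt_of_le hqp with rfl | hlt
    · exact hx q hq hIp hxp
    · have hqfin : q.FiniteHeight := Ideal.finiteHeight_of_isNoetherianRing q
      have h1 := Ideal.height_strict_mono_of_isPrime hlt
      have hq' : q.height < (r : ℕ∞) := by
        refine lt_of_lt_of_le h1 ?_
        rw [Nat.cast_succ] at hp
        exact (ENat.lt_add_one_iff (ENat.natCast_ne_top r)).1 hp
      exact hIp (((hiff q hq').2 hq.1.2).trans hqp)


end Groth.Agent.S17751
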