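import Groth.Statements.S17752
import Groth.Agent.S17751
import Mathlib.RingTheory.Ideal.Height
-- import your own Groth.Agent.* helpers here

set_option autoImplicit false
universe u
open LocCoh

namespace Groth.Agent.S17752

/-- Let R be a Noetherian ring of Krull dimension d and I an ideal of R. Then there are d + 1 elements
f_0, …, f_d of I such that I and the ideal they generate have the same radical; in other words the
arithmetic rank of I is at most d + 1. -/
theorem result (R : Type u) [CommRing R] [IsNoetherianRing R] (d : ℕ) (hd : ringKrullDim R = d) (I : Ideal R) : ∃ f : Fin (d + 1) → R, (∀ i, f i ∈ I) ∧ I.radical = (Ideal.span (Set.range f)).radical := by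
  obtain ⟨f, hf, hiff⟩ := S17751.result R I (d + 1)
  refine ⟨f, hf, ?_⟩
  rw [Ideal.radical_eq_sInf, Ideal.radical_eq_sInf]
  congr 1
  ext q
  refine ⟨fun ⟨h, hq⟩ => ⟨le_trans (Ideal.span_le.2 (by rintro _ ⟨i, rfl⟩; exact hf i)) h, hq⟩,
    fun ⟨h, hq⟩ => ⟨(@hiff q hq ?_).2 h, hq⟩⟩
  have h1 := (Ideal.height_le_ringKrullDim_of_ne_top hq.ne_top).trans_eq hd
  have h2 : q.height ≤ (d : ℕ∞) := by exact_mod_cast h1
  exact h2.trans_lt (by exact_mod_cast d.lt_succ_self)


end Groth.Agent.S17752
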