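import Groth.Statements.S17753
import Groth.Agent.S17751
import Mathlib.RingTheory.Ideal.Height
-- import your own Groth.Agent.* helpers here

set_option autoImplicit false
universe u
open LocCoh

namespace Groth.Agent.S17753

/-- Let R be a Noetherian local ring of Krull dimension d and I a proper ideal of R. Then there are d
elements f_1, …, f_d of I such that I and the ideal they generate have the same radical, so the
arithmetic rank of I is at most d. (The published statement has no properness hypothesis; for the
unit ideal of a field, d = 0 and no empty family generates the unit ideal up to radical, and the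
published proof uses that the maximal ideal contains I.) -/
theorem result (R : Type u) [CommRing R] [IsNoetherianRing R] [IsLocalRing R] (d : ℕ) (hd : ringKrullDim R = d) (I : Ideal R) (hI : I ≠ ⊤) : ∃ f : Fin d → R, (∀ i, f i ∈ I) ∧ I.radical = (Ideal.span (Set.range f)).radical := by
  obtain ⟨f, hf, hiff⟩ := S17751.result R I d
  refine ⟨f, hf, ?_⟩
  rw [Ideal.radical_eq_sInf, Ideal.radical_eq_sInf]
  congr 1
  ext q
  refine ⟨fun ⟨h, hq⟩ => ⟨le_trans (Ideal.span_le.2 (by rintro _ ⟨i, rfl⟩; exact hf i)) h, hq⟩,
    fun ⟨h, hq⟩ => ⟨?_, hq⟩⟩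
  by_cases hqm : q = IsLocalRing.maximalIdeal R
  · exact hqm ▸ IsLocalRing.le_maximalIdeal hI
  refine (@hiff q hq ?_).2 h
  have hm := (IsLocalRing.maximalIdeal_height_eq_ringKrullDim (R := R)).trans hd
  have hm' : (IsLocalRing.maximalIdeal R).height = (d : ℕ∞) := by exact_mod_cast hm
  have hqfin : q.FiniteHeight := Ideal.finiteHeight_of_isNoetherianRing q
  exact hm' ▸ Ideal.height_strict_mono_of_isPrime
    (lt_of_le_of_ne (IsLocalRing.le_maximalIdeal hq.ne_top) hqm)


end Groth.Agent.S17753
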