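import Groth.Statements.S17755
import Groth.Agent.Lib.LCFin.Finite
import Groth.Agent.Lib.LCFin.Catenary
-- import your own Groth.Agent.* helpers here

set_option autoImplicit false
universe u
open LocCoh

namespace Groth.Agent.S17755

/-- Let R be a Noetherian local ring with maximal ideal m which is a homomorphic image of a Gorenstein
local ring, and let M be a finitely generated R-module whose support has dimension n. Then the
following are equivalent: (1) M is generalized Cohen–Macaulay, i.e. the local cohomology module
H^i_m(M) has finite length for every i < n; (2) M is equidimensional, i.e. R ⧸ p has dimension n for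
every minimal prime p of the annihilator of M, and for every prime p ≠ m containing the annihilator
of M the localization M_p is a Cohen–Macaulay module over R_p (its depth equals the dimension of its
support). -/
theorem result (R : Type u) [CommRing R] [IsNoetherianRing R] [IsLocalRing R] (R' : Type u) [CommRing R'] [LocCoh.IsGorensteinLocalRing R'] (g : R' →+* R) (hg : Function.Surjective g) (M : Type u) [AddCommGroup M] [Module R M] [Module.Finite R M] (n : ℕ) (hn : Module.supportDim R M = n) : (∀ i : ℕ, i < n → IsFiniteLength R (LocCoh.H (IsLocalRing.maximalIdeal R) i M)) ↔ ((∀ p ∈ (Module.annihilator R M).minimalPrimes, ringKrullDim (R ⧸ p) = n) ∧ ∀ (p : Ideal R) [p.IsPrime], p ≠ IsLocalRing.maximalIdeal R → Module.annihilator R M ≤ p → LocCoh.IsCohenMacaulayModule (Localization.AtPrime p) (LocalizedModule p.primeCompl M)) := by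
  classical
  letI : Algebra R' R := g.toAlgebra
  letI : Module R' M := Module.compHom M g
  haveI : IsScalarTower R' R M := ⟨fun a b m => by rw [Algebra.smul_def, mul_smul]; rfl⟩
  haveI := Groth.Agent.Lib.LCFin.Annihilator.isCohenMacaulay (R := R')
  have key : ∀ i, IsFiniteLength R (LocCoh.H (IsLocalRing.maximalIdeal R) i M) ↔
      ∀ (p : PrimeSpectrum R), ¬ IsLocalRing.maximalIdeal R ≤ p.asIdeal → ∀ e j : ℕ,
        ringKrullDim (R ⧸ p.asIdeal) = e → j + e = i → Subsingleton (LocCoh.H
          (IsLocalRing.maximalIdeal (Localization.AtPrime p.asIdeal)) j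
          (LocalizedModule p.asIdeal.primeCompl M)) := fun i => by
    rw [Groth.Agent.Lib.LCFin.Finite.isFiniteLength_H_iff,
      Groth.Agent.Lib.LCFin.Annihilator.le_radical_iff_of_quotient (R := R') hg M _ i]
  simp only [key]
  have hMnt : Nontrivial M := by
    by_contra hc
    rw [not_nontrivial_iff_subsingleton] at hc
    rw [Module.supportDim_eq_bot_of_subsingleton] at hn
    exact absurd hn.symm (WithBot.natCast_ne_bot n)
  obtain ⟨d, hd⟩ := Groth.Agent.Lib.Depth.CM.supportDim_eq_nat (R := R) R
  have hdim : ∀ p : PrimeSpectrum R, ∃ e : ℕ, ringKrullDim (R ⧸ p.asIdeal) = e := fun p => by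
    have hle := (ringKrullDim_quotient_le p.asIdeal).trans
      ((Module.supportDim_self_eq_ringKrullDim (R := R)).symm.trans hd).le
    rw [Groth.Agent.Lib.Excellent.CatenaryDim.ringKrullDim_quotient_eq_coheight p,
      WithBot.coe_le_coe] at hle
    obtain ⟨e, he⟩ := ENat.ne_top_iff_exists.1 (lt_of_le_of_lt hle (ENat.natCast_lt_top d)).ne
    exact ⟨e, by rw [Groth.Agent.Lib.Excellent.CatenaryDim.ringKrullDim_quotient_eq_coheight p, ← he]; rfl⟩
  have hsupp : ∀ p : PrimeSpectrum R, p ∈ Module.support R M ↔
      Module.annihilator R M ≤ p.asIdeal := fun p => by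
    rw [Module.support_eq_zeroLocus]; exact Iff.rfl
  constructor
  · intro H
    have hCM : ∀ (p : PrimeSpectrum R), ¬ IsLocalRing.maximalIdeal R ≤ p.asIdeal →
        p ∈ Module.support R M → ∀ e : ℕ, ringKrullDim (R ⧸ p.asIdeal) = e → ∀ b : ℕ,
        Module.supportDim (Localization.AtPrime p.asIdeal)
          (LocalizedModule p.asIdeal.primeCompl M) = b → n ≤ b + e ∧
        LocCoh.IsCohenMacaulayModule (Localization.AtPrime p.asIdeal)
          (LocalizedModule p.asIdeal.primeCompl M) := by
      intro p hp hpM e he b hb
      have : Nontrivial (LocalizedModule p.asIdeal.primeCompl M) := Module.mem_support_iff.1 hpM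
      have h1 : ((n - e : ℕ) : ℕ∞) ≤ LocCoh.depth (Localization.AtPrime p.asIdeal)
          (LocalizedModule p.asIdeal.primeCompl M) :=
        (Groth.Agent.Lib.Depth.LocalCoh.le_idealDepth_iff_H
          (IsLocalRing.maximalIdeal (Localization.AtPrime p.asIdeal))
          (LocalizedModule p.asIdeal.primeCompl M) (n - e)).2 fun j hj =>
            H (j + e) (by omega) p hp e j he rfl
      have h2 := (WithBot.coe_le_coe.2 h1).trans (Groth.Agent.Lib.Depth.Assoc.depth_le_supportDim
        (R := Localization.AtPrime p.asIdeal) (LocalizedModule p.asIdeal.primeCompl M))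
      rw [hb] at h2
      have h3 : n - e ≤ b := by exact_mod_cast h2
      obtain ⟨b', hb', hbe⟩ :=
        Groth.Agent.Lib.LCFin.Catenary.supportDim_localized_add_le M hn p hpM he
      obtain rfl : b' = b := by exact_mod_cast hb'.symm.trans hb
      refine ⟨by omega, Groth.Agent.Lib.Depth.CM.isCohenMacaulayModule_iff_le.2 ?_⟩
      rw [hb, show b' = n - e by omega]
      exact WithBot.coe_le_coe.2 h1
    refine ⟨fun p hp => ?_, fun p _ hp hann => ?_⟩
    · let P : PrimeSpectrum R := ⟨p, hp.1.1⟩
      have hPM : P ∈ Module.support R M := (hsupp P).2 hp.1.2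
      obtain ⟨e, he⟩ := hdim P
      obtain ⟨b, hb, hbe⟩ := Groth.Agent.Lib.LCFin.Catenary.supportDim_localized_add_le M hn P hPM he
      have hb0 : b = 0 := by
        have := (Groth.Agent.Lib.DMod.SupportDim.supportDim_localized P M).symm.trans hb
        have h0 : Order.krullDim {q : PrimeSpectrum R // q ∈ Module.support R M ∧ q ≤ P} ≤ 0 := by
          refine Order.krullDim_nonpos_iff_forall_isMax.2 fun x y _ => ?_
          exact (show y.1 ≤ P from y.2.2).trans (hp.2 ⟨x.1.2, (hsupp x.1).1 x.2.1⟩ x.2.2)
        rw [this] at h0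
        exact Nat.le_zero.1 (by exact_mod_cast h0)
      by_cases hm : IsLocalRing.maximalIdeal R ≤ p
      · -- the support is the closed point
        have hn0 : n = 0 := by
          have h0 : Module.supportDim R M ≤ 0 := by
            refine Order.krullDim_nonpos_iff_forall_isMax.2 fun x y _ => ?_
            exact ((IsLocalRing.le_maximalIdeal y.1.2.ne_top).trans hm).trans (hp.2 ⟨x.1.2, (hsupp x.1).1 x.2⟩
              ((IsLocalRing.le_maximalIdeal x.1.2.ne_top).trans hm))
          rw [hn] at h0
          exact Nat.le_zero.1 (by exact_mod_cast h0)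
        rw [he, show e = n by omega]
      · have := (hCM P hm hPM e he b hb).1
        rw [he, show e = n by omega]
    · let P : PrimeSpectrum R := ⟨p, ‹_›⟩
      have hPM : P ∈ Module.support R M := (hsupp P).2 hann
      obtain ⟨e, he⟩ := hdim P
      obtain ⟨b, hb, -⟩ := Groth.Agent.Lib.LCFin.Catenary.supportDim_localized_add_le M hn P hPM he
      exact (hCM P (fun hle => hp (le_antisymm (IsLocalRing.le_maximalIdeal (Ideal.IsPrime.ne_top ‹_›)) hle))
        hPM e he b hb).2
  · rintro ⟨heq, hCM⟩ i hi p hp e j he hje
    by_cases hpM : p ∈ Module.support R M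
    swap
    · have : Subsingleton (LocalizedModule p.asIdeal.primeCompl M) := Module.notMem_support_iff.1 hpM
      exact ModuleCat.subsingleton_of_isZero ((localCohomology _ j).map_isZero
        (ModuleCat.isZero_of_subsingleton (ModuleCat.of _ (LocalizedModule p.asIdeal.primeCompl M))))
    obtain ⟨P, hPmin, hPp⟩ := Ideal.exists_minimalPrimes_le ((hsupp p).1 hpM)
    have hPe := heq P hPmin
    obtain ⟨hle, hdimle⟩ := Groth.Agent.Lib.LCFin.Catenary.le_supportDim_localized (R := R') M hg
      ⟨P, hPmin.1.1⟩ p ((hsupp _).2 hPmin.1.2) hPp hPe he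
    have hCMp := hCM p.asIdeal (fun e => hp e.ge) ((hsupp p).1 hpM)
    rw [show Module.supportDim (Localization.AtPrime p.asIdeal)
      (LocalizedModule p.asIdeal.primeCompl M) = _ from hCMp] at hdimle
    have hdep : ((n - e : ℕ) : ℕ∞) ≤ LocCoh.depth (Localization.AtPrime p.asIdeal)
      (LocalizedModule p.asIdeal.primeCompl M) := WithBot.coe_le_coe.1 hdimle
    exact (Groth.Agent.Lib.Depth.LocalCoh.le_idealDepth_iff_H
      (IsLocalRing.maximalIdeal (Localization.AtPrime p.asIdeal))
      (LocalizedModule p.asIdeal.primeCompl M) (n - e)).1 hdep j (by omega)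


end Groth.Agent.S17755
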