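import Groth.Statements.S17756
import Groth.Agent.Lib.InjHull.Complete
import Mathlib.Algebra.Module.SpanRankOperations
-- import your own Groth.Agent.* helpers here

set_option autoImplicit false
universe u
open Matlis

namespace Groth.Agent.S17756

/-- Let R be a Noetherian local ring with maximal ideal m and residue field k, E an injective hull of k,
and M a finitely generated R-module with Matlis dual M^v = Hom_R(M, E). Then the minimal number of
generators of M equals the k-dimension of the socle of M^v, the submodule of elements of M^v killed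
by m (stated as its length as an R-module). -/
theorem result (R : Type u) [CommRing R] [IsNoetherianRing R] [IsLocalRing R] (E : Type u) [AddCommGroup E] [Module R E] (f : IsLocalRing.ResidueField R →ₗ[R] E) (hf : InjHull.IsInjectiveHull f) (M : Type u) [AddCommGroup M] [Module R M] [Module.Finite R M] : ((⊤ : Submodule R M).spanFinrank : ℕ∞) = Module.length R (LocCoh.torsionBy (IsLocalRing.maximalIdeal R) (M →ₗ[R] E)) := by
  open Groth.Agent.Lib.InjHull in
  have key : Module.length R (LocCoh.torsionBy (IsLocalRing.maximalIdeal R) (M →ₗ[R] E)) =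
      Module.length R (M ⧸ (IsLocalRing.maximalIdeal R • ⊤ : Submodule R M)) := by
    have hfl : IsFiniteLength R (M ⧸ (IsLocalRing.maximalIdeal R • ⊤ : Submodule R M)) :=
      Complete.isFiniteLength_of_pow_smul (IsLocalRing.maximalIdeal R) 1 _ fun x c hc => by
        obtain ⟨x, rfl⟩ := Submodule.Quotient.mk_surjective _ x
        rw [← Submodule.Quotient.mk_smul, Submodule.Quotient.mk_eq_zero]
        exact Submodule.smul_mem_smul (by simpa using hc) trivial
    rw [← Matlis.length_dual hf hfl]
    let π := (IsLocalRing.maximalIdeal R • ⊤ : Submodule R M).mkQ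
    let T : ((M ⧸ (IsLocalRing.maximalIdeal R • ⊤ : Submodule R M)) →ₗ[R] E) →ₗ[R]
        LocCoh.torsionBy (IsLocalRing.maximalIdeal R) (M →ₗ[R] E) :=
      (LinearMap.lcomp R E π).codRestrict _ fun ψ => by
        rw [Submodule.mem_torsionBySet_iff]
        rintro ⟨c, hc⟩
        refine LinearMap.ext fun x => ?_
        show c • ψ (π x) = 0
        rw [← map_smul, ← map_smul, show π (c • x) = 0 from (Submodule.Quotient.mk_eq_zero _).mpr
          (Submodule.smul_mem_smul hc trivial), map_zero]
    refine (LinearEquiv.ofBijective T ⟨fun a b h => Submodule.linearMap_qext _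
      (congrArg Subtype.val h), fun φ => ?_⟩).length_eq.symm
    refine ⟨Submodule.liftQ _ φ.1 ?_, Subtype.ext (LinearMap.ext fun x => rfl)⟩
    rw [Submodule.smul_le]
    intro c hc x _
    rw [LinearMap.mem_ker, map_smul]
    exact LinearMap.congr_fun ((Submodule.mem_torsionBySet_iff _ _).mp φ.2 ⟨c, hc⟩) x
  rw [key, IsLocalRing.spanFinrank_eq_finrank_quotient (⊤ : Submodule R M) Module.Finite.fg_top]
  let e : (↥(⊤ : Submodule R M) ⧸ (IsLocalRing.maximalIdeal R) • (⊤ : Submodule R ↥(⊤ : Submodule R M)))
      ≃ₗ[R] (M ⧸ (IsLocalRing.maximalIdeal R • ⊤ : Submodule R M)) :=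
    Submodule.Quotient.equiv _ _ Submodule.topEquiv (by simp [Submodule.map_smul''])
  rw [← e.length_eq]
  letI : Field (R ⧸ IsLocalRing.maximalIdeal R) := Ideal.Quotient.field _
  rw [Module.length_eq_of_surjective (R := R ⧸ IsLocalRing.maximalIdeal R) (S := R)
    Ideal.Quotient.mk_surjective, Module.length_eq_finrank]


end Groth.Agent.S17756
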