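import Groth.Statements.S17758
import Groth.Agent.Lib.LCFin.Connected
-- import your own Groth.Agent.* helpers here

set_option autoImplicit false
universe u
open LocCoh

namespace Groth.Agent.S17758

/-- Let R be a complete Noetherian local domain of Krull dimension d with maximal ideal m, and I a
proper ideal of R of arithmetic rank at most d − 2: there are elements f_1, …, f_t with t + 2 ≤ d
such that I and (f_1, …, f_t) have the same radical. Then the punctured spectrum of R ⧸ I, viewed as
the set of prime ideals of R that contain I and differ from m, is a nonempty connected subset of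
Spec R. (Connectedness is taken here to include nonemptiness, so the unit ideal, whose punctured
spectrum is empty, is excluded; for a proper I nonemptiness is automatic, since otherwise I would be
m-primary and m would be minimal over an ideal generated by t ≤ d − 2 elements, against Krull's
height bound.) -/
theorem result (R : Type u) [CommRing R] [IsDomain R] [IsNoetherianRing R] [IsLocalRing R] [IsAdicComplete (IsLocalRing.maximalIdeal R) R] (d : ℕ) (hd : ringKrullDim R = d) (t : ℕ) (ht : t + 2 ≤ d) (f : Fin t → R) (I : Ideal R) (hItop : I ≠ ⊤) (hI : I.radical = (Ideal.span (Set.range f)).radical) : IsConnected {x : PrimeSpectrum R | I ≤ x.asIdeal ∧ x.asIdeal ≠ IsLocalRing.maximalIdeal R} := by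
  classical
  have hcdf : LocCoh.CdLE R (Ideal.span (Set.range f)) t := by
    have h := Lib.LCFin.Cd.cdLE_card (Finset.univ.image f)
    rw [Finset.coe_image, Finset.coe_univ, Set.image_univ] at h
    exact Lib.LCFin.Cd.cdLE_mono ((Finset.card_image_le).trans (by simp)) h
  have hcdI : LocCoh.CdLE R I t := by
    rw [Lib.LCFin.Connected.cdLE_congr (Ideal.le_radical (I := I)) fun q hq h => hq.radical_le_iff.2 h,
      hI, ← Lib.LCFin.Connected.cdLE_congr (Ideal.le_radical (I := Ideal.span (Set.range f)))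
        fun q hq h => hq.radical_le_iff.2 h]
    exact hcdf
  have hIm := IsLocalRing.le_maximalIdeal hItop
  refine ⟨?_, isPreconnected_closed_iff.2 fun Z Z' hZ hZ' hcov hne hne' => ?_⟩
  · by_contra hempty
    have hm : I.radical = IsLocalRing.maximalIdeal R := by
      rw [Ideal.radical_eq_sInf]
      refine le_antisymm (sInf_le ⟨hIm, inferInstance⟩) (le_sInf fun q hq => ?_)
      by_contra hne
      exact hempty ⟨⟨q, hq.2⟩, hq.1, fun h => hne (le_of_eq h.symm)⟩
    exact not_subsingleton_iff_nontrivial.2 (Lib.LCFin.Top.not_cdLE_of_radical_eq I hm d hd)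
      (hcdI R d (by omega))
  by_contra hcon
  obtain ⟨a₀, rfl⟩ := (PrimeSpectrum.isClosed_iff_zeroLocus_ideal Z).1 hZ
  obtain ⟨b₀, rfl⟩ := (PrimeSpectrum.isClosed_iff_zeroLocus_ideal Z').1 hZ'
  obtain ⟨x, hx, hxa⟩ := hne
  obtain ⟨y, hy, hyb⟩ := hne'
  simp only [PrimeSpectrum.mem_zeroLocus, SetLike.coe_subset_coe] at hxa hyb
  set a := a₀ ⊔ I
  set b := b₀ ⊔ I
  have hab : a ⊔ b ≠ ⊤ := fun h => (IsLocalRing.maximalIdeal.isMaximal R).ne_top
    (top_le_iff.1 (h ▸ sup_le (sup_le (hxa.trans (IsLocalRing.le_maximalIdeal x.2.ne_top)) hIm)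
      (sup_le (hyb.trans (IsLocalRing.le_maximalIdeal y.2.ne_top)) hIm)))
  have hall : ∀ q : Ideal R, q.IsPrime → I ≤ q → q ≠ IsLocalRing.maximalIdeal R →
      a₀ ≤ q ∨ b₀ ≤ q := fun q hq hIq hqm => by
    simpa [PrimeSpectrum.mem_zeroLocus] using hcov (show (⟨q, hq⟩ : PrimeSpectrum R) ∈ _ from ⟨hIq, hqm⟩)
  obtain ⟨dc, hdc⟩ := Lib.LCFin.Connected.exists_dim_eq _ hab
  have hdc0 : dc = 0 := by
    have h0 : ringKrullDim (R ⧸ a ⊔ b) ≤ 0 := by
      rw [ringKrullDim_quotient]
      refine Order.krullDim_nonpos_iff_forall_isMax.2 ?_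
      rintro ⟨⟨q, hq⟩, hqab⟩ ⟨⟨r, hr⟩, -⟩ -
      have hle : a ⊔ b ≤ q := hqab
      have hqm : q = IsLocalRing.maximalIdeal R := by
        by_contra hqm
        exact hcon ⟨⟨q, hq⟩, ⟨(le_sup_right.trans le_sup_left).trans hle, hqm⟩,
          (le_sup_left.trans le_sup_left).trans hle, (le_sup_left.trans le_sup_right).trans hle⟩
      show r ≤ q
      exact (IsLocalRing.le_maximalIdeal hr.ne_top).trans hqm.ge
    rw [hdc] at h0
    exact_mod_cast le_antisymm h0 (by exact_mod_cast Nat.zero_le dc)
  have hpos : ∀ (c : Ideal R) (q : PrimeSpectrum R), c ≤ q.asIdeal →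
      q.asIdeal ≠ IsLocalRing.maximalIdeal R → ringKrullDim (R ⧸ a ⊔ b) < ringKrullDim (R ⧸ c) := by
    intro c q hc hq
    have h1 := (Lib.Depth.Assoc.ringKrullDim_quotient_add_one_le_of_lt (lt_of_le_of_ne
      (IsLocalRing.le_maximalIdeal q.2.ne_top) hq)).trans (ringKrullDim_le_of_surjective
        (Ideal.Quotient.factor hc) (Ideal.Quotient.factor_surjective _))
    let : Field (R ⧸ IsLocalRing.maximalIdeal R) := Ideal.Quotient.field _
    rw [ringKrullDim_eq_zero_of_field, zero_add] at h1
    rw [hdc, hdc0]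
    exact lt_of_lt_of_le (by decide) h1
  have hcd : LocCoh.CdLE R (a ⊓ b) t := by
    refine (Lib.LCFin.Connected.cdLE_congr (le_inf le_sup_right le_sup_right) (fun q hq hIq => ?_) t).1 hcdI
    by_cases hqm : q = IsLocalRing.maximalIdeal R
    · rw [hqm]
      exact inf_le_left.trans (sup_le (hxa.trans (IsLocalRing.le_maximalIdeal x.2.ne_top)) hIm)
    rcases hall q hq hIq hqm with h | h
    · exact inf_le_left.trans (sup_le h hIq)
    · exact inf_le_right.trans (sup_le h hIq)
  have := Lib.LCFin.Connected.le_cd_add hd dc a b hab hdc.le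
    (hpos a x (sup_le hxa hx.1) hx.2) (hpos b y (sup_le hyb hy.1) hy.2) t hcd dc hdc
  omega


end Groth.Agent.S17758
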