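import Groth.Statements.S17762
import Groth.Agent.Lib.LCFin.Annihilator
-- import your own Groth.Agent.* helpers here

set_option autoImplicit false
universe u
open LocCoh

namespace Groth.Agent.S17762

/-- Let R be a Noetherian local ring with maximal ideal m which is a homomorphic image of a Gorenstein
local ring, M a finitely generated R-module, J an ideal of R and i a natural number. Then J is
contained in the radical of the annihilator of H^i_m(M) if and only if for every prime ideal p of R
not containing J, the local cohomology module H^j_{pR_p}(M_p) over R_p vanishes for the index j with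
j + dim(R ⧸ p) = i (no condition when i < dim(R ⧸ p)). -/
theorem result (R : Type u) [CommRing R] [IsNoetherianRing R] [IsLocalRing R] (R' : Type u) [CommRing R'] [LocCoh.IsGorensteinLocalRing R'] (g : R' →+* R) (hg : Function.Surjective g) (M : Type u) [AddCommGroup M] [Module R M] [Module.Finite R M] (J : Ideal R) (i : ℕ) : J ≤ (Module.annihilator R (LocCoh.H (IsLocalRing.maximalIdeal R) i M)).radical ↔ ∀ (p : Ideal R) [p.IsPrime], ¬ J ≤ p → ∀ j : ℕ, (j : WithBot ℕ∞) + ringKrullDim (R ⧸ p) = i → Subsingleton (LocCoh.H (IsLocalRing.maximalIdeal (Localization.AtPrime p)) j (LocalizedModule p.primeCompl M)) := by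
  letI : Algebra R' R := g.toAlgebra
  letI : Module R' M := Module.compHom M g
  haveI : IsScalarTower R' R M := ⟨fun a b m => by rw [Algebra.smul_def, mul_smul]; rfl⟩
  rw [Groth.Agent.Lib.LCFin.Annihilator.le_radical_iff_of_quotient (R := R') hg M J i]
  constructor
  · intro H p _ hp j hj
    have : Nontrivial (R ⧸ p) := Ideal.Quotient.nontrivial_iff.2 (Ideal.IsPrime.ne_top ‹_›)
    obtain ⟨d, hd⟩ := Groth.Agent.Lib.Depth.CM.supportDim_eq_nat (R := R) R
    obtain ⟨e, he⟩ : ∃ e : ℕ, ringKrullDim (R ⧸ p) = e := by
      have hle := (ringKrullDim_quotient_le p).trans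
        ((Module.supportDim_self_eq_ringKrullDim (R := R)).symm.trans hd).le
      obtain ⟨x, hx⟩ := WithBot.ne_bot_iff_exists.1
        (ne_bot_of_le_ne_bot (WithBot.coe_ne_bot (a := (0 : ℕ∞))) ringKrullDim_nonneg_of_nontrivial :
          ringKrullDim (R ⧸ p) ≠ ⊥)
      rw [← hx, WithBot.coe_le_coe] at hle
      obtain ⟨e, he⟩ := ENat.ne_top_iff_exists.1 (lt_of_le_of_lt hle (ENat.natCast_lt_top d)).ne
      exact ⟨e, by rw [← hx, ← he]; rfl⟩
    rw [he] at hj
    exact H ⟨p, ‹_›⟩ hp e j he (by exact_mod_cast hj)
  · intro H p hp e j he hje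
    exact H p.asIdeal hp j (by rw [he]; exact_mod_cast hje)


end Groth.Agent.S17762
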