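import Groth.Statements.S17764
-- import your own Groth.Agent.* helpers here

set_option autoImplicit false
universe u
open InjHull

namespace Groth.Agent.S17764

/-- Let R be a commutative ring and M an R-module which is torsion-free (no nonzero element of R kills a
nonzero element of M) and divisible (multiplication by every nonzero element of R is surjective on
M). Then M is an injective R-module. (Over a ring with zero divisors the two hypotheses force M =
0.) -/
theorem result (R : Type u) [CommRing R] (M : Type u) [AddCommGroup M] [Module R M] [NoZeroSMulDivisors R M] (hdiv : ∀ r : R, r ≠ 0 → Function.Surjective (fun m : M => r • m)) : Module.Injective R M := by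
  refine Module.Baer.injective fun J g => ?_
  by_cases hJ : J = ⊥
  · exact ⟨0, fun x hx => by
      have : (⟨x, hx⟩ : J) = 0 := Subtype.ext (by simpa [hJ] using hx)
      simp [this]⟩
  obtain ⟨a, ha, ha0⟩ := Submodule.exists_mem_ne_zero_of_ne_bot hJ
  obtain ⟨m, hm⟩ := hdiv a ha0 (g ⟨a, ha⟩)
  refine ⟨LinearMap.toSpanSingleton R M m, fun x hx => ?_⟩
  simp only [LinearMap.toSpanSingleton_apply]
  refine eq_of_sub_eq_zero ((NoZeroSMulDivisors.eq_zero_or_eq_zero_of_smul_eq_zero (c := a) ?_).resolve_left ha0)
  rw [smul_sub, sub_eq_zero]
  show a • x • m = a • g ⟨x, hx⟩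
  have h1 : a • m = g ⟨a, ha⟩ := hm
  rw [smul_comm, h1, ← map_smul, ← map_smul]
  exact congrArg g (Subtype.ext (by simp [mul_comm]))


end Groth.Agent.S17764
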