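import Groth.Statements.S17765
import Groth.Agent.S0604
import Groth.Agent.Lib.Regular.PD
import Groth.Agent.Lib.Regular.Serre
import Groth.Agent.Lib.LCFin.Annihilator
import Groth.Agent.Lib.Depth.CM
import Groth.Agent.Lib.Depth.Assoc
import Mathlib.RingTheory.Ideal.AssociatedPrime.Localization
-- import your own Groth.Agent.* helpers here

set_option autoImplicit false
universe u
open CategoryTheory
open LocCoh

namespace Groth.Agent.S17765

/-- Let B be a regular local ring, M a finitely generated B-module and p an associated prime ideal of M.
Then the height of p is at most the projective dimension of M: for every n such that M has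
projective dimension at most n, ht p ≤ n. -/
theorem result (B : Type u) [CommRing B] [IsRegularLocalRing B] (M : Type u) [AddCommGroup M] [Module B M] [Module.Finite B M] (p : Ideal B) (hp : p ∈ associatedPrimes B M) (n : ℕ) (hn : HasProjectiveDimensionLE (ModuleCat.of B M) n) : p.height ≤ n := by
  classical
  have : p.IsPrime := hp.isPrime
  set P := Localization.AtPrime p
  set N := LocalizedModule p.primeCompl M
  have hpd : HasProjectiveDimensionLE (ModuleCat.of P N) n :=
    Lib.Regular.PD.pdle_localization p.primeCompl P n (LocalizedModule.mkLinearMap p.primeCompl M) hn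
  have hass : IsLocalRing.maximalIdeal P ∈ associatedPrimes P N := by
    refine Module.associatedPrimes.mem_associatedPrimes_of_comap_mem_associatedPrimes_of_isLocalizedModule
      p.primeCompl (LocalizedModule.mkLinearMap p.primeCompl M) _ ?_
    rwa [show (IsLocalRing.maximalIdeal P).comap (algebraMap B P) = p from Localization.AtPrime.under_maximalIdeal]
  have : Nontrivial N := by
    by_contra hN
    rw [not_nontrivial_iff_subsingleton] at hN
    obtain ⟨x, hx⟩ := ((isAssociatedPrime_iff (I := IsLocalRing.maximalIdeal P)).1 hass).2
    refine (IsLocalRing.maximalIdeal.isMaximal P).ne_top ((Ideal.eq_top_iff_one _).2 ?_)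
    rw [hx, Submodule.mem_colon_singleton, hN.elim x 0, smul_zero]
    exact zero_mem _
  have hdepth : LocCoh.depth P N = 0 := (Lib.Depth.Assoc.depth_eq_zero_iff N).2 hass
  obtain ⟨e, he⟩ : ∃ e : ℕ, projectiveDimension (ModuleCat.of P N) = e := by
    have h := (projectiveDimension_le_iff (ModuleCat.of P N) n).2 hpd
    have hne : projectiveDimension (ModuleCat.of P N) ≠ ⊥ := by
      rw [Ne, projectiveDimension_eq_bot_iff]
      exact fun h0 => not_subsingleton N (ModuleCat.subsingleton_of_isZero h0)
    revert h hne
    generalize projectiveDimension (ModuleCat.of P N) = D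
    intro h hne
    obtain ⟨D', rfl⟩ := WithBot.ne_bot_iff_exists.1 hne
    obtain ⟨e, rfl⟩ := ENat.ne_top_iff_exists.1 (ne_top_of_le_ne_top (ENat.natCast_ne_top n)
      (WithBot.coe_le_coe.1 h))
    exact ⟨e, rfl⟩
  have hAB := S0604.result P N e he
  rw [hdepth, add_zero] at hAB
  have hen := (projectiveDimension_le_iff (ModuleCat.of P N) n).2 hpd
  rw [he] at hen
  have hG : LocCoh.IsGorensteinLocalRing P := Lib.Goren.Basic.isGorensteinLocalRing_of_isRegular P
  have : LocCoh.IsCohenMacaulayLocalRing P := Lib.LCFin.Annihilator.isCohenMacaulay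
  have hdim := Lib.Depth.CM.ringKrullDim_eq_depth (R := P)
  rw [IsLocalization.AtPrime.ringKrullDim_eq_height p P, hAB] at hdim
  have h1 : p.height = (e : ℕ∞) := by exact_mod_cast hdim
  rw [h1]
  exact_mod_cast (show e ≤ n by exact_mod_cast hen)


end Groth.Agent.S17765
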