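import Groth.Statements.S17766
import Groth.Agent.Lib.LCFin.CanonUFD
import Groth.Agent.Lib.LocalCoh.ExtCompare
-- import your own Groth.Agent.* helpers here

set_option autoImplicit false
universe u
open CategoryTheory Opposite
open LocCoh

namespace Groth.Agent.S17766

/-- Let B be a regular local ring, p a prime ideal of B of height r, and suppose that A = B ⧸ p is
Cohen–Macaulay. Then the B-module Ext^r_B(A, B) is isomorphic either to A itself or to a proper
ideal I of A which is unmixed of height one, i.e. every associated prime of A ⧸ I has height one in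
A (existence of a B-linear isomorphism in each case). -/
theorem result (B : Type u) [CommRing B] [IsRegularLocalRing B] (p : Ideal B) [p.IsPrime] [LocCoh.IsCohenMacaulayLocalRing (B ⧸ p)] (r : ℕ) (hr : p.height = r) : Nonempty (((Ext B (ModuleCat.{u} B) r).obj (op (ModuleCat.of B (B ⧸ p)))).obj (ModuleCat.of B B) ≃ₗ[B] (B ⧸ p)) ∨ ∃ I : Ideal (B ⧸ p), I ≠ ⊤ ∧ (∀ q ∈ associatedPrimes (B ⧸ p) ((B ⧸ p) ⧸ I), q.height = 1) ∧ Nonempty (((Ext B (ModuleCat.{u} B) r).obj (op (ModuleCat.of B (B ⧸ p)))).obj (ModuleCat.of B B) ≃ₗ[B] I) := by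
  obtain ⟨E, _, _, f, d, K, _, _, _, _, _, hf, hd, ⟨c⟩, ⟨e⟩⟩ := Lib.LCFin.CanonUFD.exists_canon p hr
  let c' : (((Ext B (ModuleCat.{u} B) r).obj (op (ModuleCat.of B (B ⧸ p)))).obj (ModuleCat.of B B)) ≃ₗ[B] K :=
    (((Lib.LocalCoh.extIso B r).app (op (ModuleCat.of B (B ⧸ p)))).app
      (ModuleCat.of B B)).toLinearEquiv.trans c.symm
  obtain ⟨φ, hφ⟩ := Lib.LCFin.CanonUFD.exists_injective hf hd e
  by_cases htop : LinearMap.range φ = ⊤
  · exact Or.inl ⟨c'.trans ((LinearEquiv.ofBijective φ ⟨hφ, LinearMap.range_eq_top.1 htop⟩).restrictScalars B)⟩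
  · exact Or.inr ⟨LinearMap.range φ, htop, fun q hq => Lib.LCFin.CanonUFD.height_eq_one hf hd e φ hφ hq,
      ⟨c'.trans ((LinearEquiv.ofInjective φ hφ).restrictScalars B)⟩⟩


end Groth.Agent.S17766
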