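import Groth.Statements.S17771
import Groth.Agent.Lib.Graded.IdealChange
import Groth.Agent.Lib.Graded.StdVanish

set_option autoImplicit false
universe u
open GrLC

namespace Groth.Agent.S17771

open Groth.Agent.Lib.Graded Groth.Agent.Lib.Graded.StarInj

/-- Let R = ⊕_{n ≥ 0} R_n be a positively ℤ-graded ring which is standard graded (irrelevant ideal
generated by R_1), with R_0 Artinian, *local with unique homogeneous maximal ideal m, and
Cohen–Macaulay of Krull dimension d. Then the a-invariant of R is at least −d: the end (largest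
nonzero degree) of the graded local cohomology module H^d_m(R), computed from any *injective
resolution of R in the graded category, is ≥ −d. (Equality holds exactly for polynomial rings
R_0[T_1, …, T_d]; that characterisation is not part of this statement.) -/
theorem result (R : Type u) [CommRing R] [LocCoh.IsCohenMacaulayRing R] (𝒜 : ℤ → AddSubgroup R) [GradedRing 𝒜] (hpos : ∀ n : ℤ, n < 0 → 𝒜 n = ⊥) (hstd : Ideal.span (⋃ n ∈ Set.Ioi (0 : ℤ), (𝒜 n : Set R)) = Ideal.span ((𝒜 1 : AddSubgroup R) : Set R)) [IsArtinianRing (GrLC.deg0 𝒜)] (m : HomogeneousIdeal 𝒜) (hm : GrLC.IsStarLocal 𝒜 m) (d : ℕ) (hd : ringKrullDim R = d) (I : GrLC.StarInjRes 𝒜 𝒜) : (((-(d : ℤ) : ℤ) : WithTop ℤ) : WithBot (WithTop ℤ)) ≤ GrLC.endDeg (I.Hgr m d) := by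
  by_contra hc
  have hzero : ∀ g : ℤ, -(d : ℤ) ≤ g → I.Hgr m d g = ⊥ := by
    intro g hg
    by_contra hne
    exact hc (le_trans (WithBot.coe_le_coe.2 (WithTop.coe_le_coe.2 hg)) (IntGraded.le_endDeg _ hne))
  have ha : (FGInduction.posIdeal 𝒜).toIdeal = Ideal.span ((𝒜 1 : AddSubgroup R) : Set R) :=
    (FGInduction.span_iUnion_Ioi 𝒜).symm.trans hstd
  have h := StdVanish.span_eq_top (a := FGInduction.posIdeal 𝒜) (fun n hn r hr => by
    rwa [hpos n hn, AddSubgroup.mem_bot] at hr) ha 𝒜 (Set.Iio 0) fun n hn i => by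
    simp only [Set.mem_Iio, not_lt] at hn
    refine (IdealChange.V_iff hpos hm _ i _).1 ?_
    rcases lt_trichotomy i d with hi | rfl | hi
    · exact StarLocal.V_of_lt hpos hm hd hi _
    · exact (Van.V_toMod_iff I).2 (hzero _ (by omega))
    · refine CMVanish.V_of_supportDim_lt _ ?_
      rw [Module.supportDim_self_eq_ringKrullDim, hd]
      exact_mod_cast hi
  have hz : Submodule.span R (⋃ n ∈ Set.Iio (0 : ℤ), (𝒜 n : Set R)) = ⊥ := by
    rw [Submodule.span_eq_bot]
    intro r hr
    obtain ⟨n, hn, hr⟩ := Set.mem_iUnion₂.1 hr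
    rw [hpos n hn] at hr
    exact hr
  exact StarLocal.toIdeal_ne_top hm (eq_top_iff.2 ((h.symm.trans hz).le.trans bot_le))

end Groth.Agent.S17771
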