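import Groth.Statements.S17772
import Groth.Agent.Lib.Graded.SerreFormula

set_option autoImplicit false
universe u
open GrLC

namespace Groth.Agent.S17772

open Groth.Agent.Lib.Graded Groth.Agent.Lib.Graded.StarInj

/-- Let R = ⊕_{n ≥ 0} R_n be a positively ℤ-graded ring which is standard graded (irrelevant ideal
generated by R_1), with R_0 Artinian, *local with unique homogeneous maximal ideal m, and
Cohen–Macaulay of Krull dimension d; let H_R(n) = ℓ_{R_0}(R_n) be its Hilbert function and P_R ∈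
ℚ[X] its Hilbert polynomial (a polynomial agreeing with H_R for all large n, taken as given). Then
the a-invariant of R, the largest degree in which H^d_m(R) is nonzero (computed from any *injective
resolution of R), equals the supremum of the integers n with P_R(n) ≠ H_R(n). (The published text
writes 'min' for this supremum; the set of such n is unbounded below whenever it is nonempty, e.g.
all n < 0 for a polynomial ring over a field, and the published one-line proof H_R(n) − P_R(n) =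
(−1)^d ℓ(H^d_m(R)_n) identifies the set with the nonzero degrees of H^d_m(R), whose largest element
is a(R).) -/
theorem result (R : Type u) [CommRing R] [LocCoh.IsCohenMacaulayRing R] (𝒜 : ℤ → AddSubgroup R) [GradedRing 𝒜] (hpos : ∀ n : ℤ, n < 0 → 𝒜 n = ⊥) (hstd : Ideal.span (⋃ n ∈ Set.Ioi (0 : ℤ), (𝒜 n : Set R)) = Ideal.span ((𝒜 1 : AddSubgroup R) : Set R)) [IsArtinianRing (GrLC.deg0 𝒜)] (m : HomogeneousIdeal 𝒜) (hm : GrLC.IsStarLocal 𝒜 m) (d : ℕ) (hd : ringKrullDim R = d) (I : GrLC.StarInjRes 𝒜 𝒜) (P : Polynomial ℚ) (hP : ∃ N : ℤ, ∀ n : ℤ, N ≤ n → P.eval (n : ℚ) = ((Module.length (GrLC.deg0 𝒜) (GrLC.comp 𝒜 𝒜 n)).toNat : ℚ)) : GrLC.endDeg (I.Hgr m d) = ⨆ (n : ℤ) (_ : P.eval (n : ℚ) ≠ ((Module.length (GrLC.deg0 𝒜) (GrLC.comp 𝒜 𝒜 n)).toNat : ℚ)), ((n : WithTop ℤ) : WithBot (WithTop ℤ)) := by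
  obtain ⟨N, hP⟩ := hP
  have key : ∀ n : ℤ, (P.eval (n : ℚ) ≠ ((Module.length (GrLC.deg0 𝒜) (GrLC.comp 𝒜 𝒜 n)).toNat : ℚ)) ↔
      I.Hgr m d n ≠ ⊥ := by
    intro n
    have h := SerreFormula.delta_eq_poly hpos hm (N := d) (hd.le) (GrLC.GMod.of 𝒜 R 𝒜)
      (inferInstanceAs (Module.Finite R R)) (P := P) (n₀ := N) hP n
    rw [SerreFormula.delta_eq (X := GrLC.GMod.of 𝒜 R 𝒜) I, Finset.sum_range_succ, Finset.sum_eq_zero, zero_add] at h
    · haveI : IsArtinian (GrLC.deg0 𝒜) (I.Hcomp m d n) :=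
        SerreFormula.isArtinian_Hcomp hpos hm (GrLC.GMod.of 𝒜 R 𝒜) (inferInstanceAs (Module.Finite R R)) I d n
      haveI : IsNoetherian (GrLC.deg0 𝒜) (I.Hcomp m d n) := IsSemiprimaryRing.isNoetherian_iff_isArtinian.2 inferInstance
      change EulerLength.L (GrLC.deg0 𝒜) (GrLC.comp 𝒜 𝒜 n) -
        (-1 : ℚ) ^ d * EulerLength.L (GrLC.deg0 𝒜) (I.Hcomp m d n) = P.eval (n : ℚ) at h
      rw [← h, Ne, Ne, ← LES.Hcomp_eq_bot_iff, ← Submodule.subsingleton_iff_eq_bot]
      unfold EulerLength.L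
      rw [sub_eq_self, mul_eq_zero, Nat.cast_eq_zero, ENat.toNat_eq_zero, Module.length_eq_zero_iff]
      simp [Module.length_ne_top]
    · intro i hi
      haveI : Subsingleton (I.Hcomp m i n) := by
        rw [Submodule.subsingleton_iff_eq_bot, LES.Hcomp_eq_bot_iff]
        exact (Van.V_toMod_iff I).1 (StarLocal.V_of_lt hpos hm hd (Finset.mem_range.1 hi) n)
      exact mul_eq_zero_of_right _ (@EulerLength.L_eq_zero _ _ _ _ _ _ this)
  rw [GrLC.endDeg]
  exact iSup_congr fun n => iSup_congr_Prop (key n).symm fun _ => rfl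

end Groth.Agent.S17772
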