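import Groth.Statements.S17774
import Groth.Agent.Lib.LCFin.CanonChange
-- import your own Groth.Agent.* helpers here

set_option autoImplicit false
universe u
open CategoryTheory Opposite
open LocCoh

namespace Groth.Agent.S17774

/-- Let (S, n) be a Gorenstein local ring, I an ideal of S of height g such that R = S ⧸ I is a
Cohen–Macaulay local ring, of Krull dimension d, and E an injective hull of the residue field of S.
Then the canonical module of R is Ext^g_S(R, S), in the following sense: the Matlis dual
Hom_S(Ext^g_S(R, S), E) is isomorphic as an S-module to the top local cohomology H^d_n(R) of R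
regarded as an S-module (existence of an S-linear isomorphism; Hom into E over S and local
cohomology with support in n agree with the corresponding notions over R for R-modules). -/
theorem result (S : Type u) [CommRing S] [LocCoh.IsGorensteinLocalRing S] (I : Ideal S) (g : ℕ) (hg : I.height = g) [LocCoh.IsCohenMacaulayLocalRing (S ⧸ I)] (d : ℕ) (hd : ringKrullDim (S ⧸ I) = d) (E : Type u) [AddCommGroup E] [Module S E] (f : IsLocalRing.ResidueField S →ₗ[S] E) (hf : InjHull.IsInjectiveHull f) : Nonempty ((((Ext S (ModuleCat.{u} S) g).obj (op (ModuleCat.of S (S ⧸ I)))).obj (ModuleCat.of S S) →ₗ[S] E) ≃ₗ[S] LocCoh.H (IsLocalRing.maximalIdeal S) d (S ⧸ I)) := by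
  have hCM : LocCoh.IsCohenMacaulayLocalRing S := Groth.Agent.Lib.LCFin.Annihilator.isCohenMacaulay
  obtain ⟨N, hN⟩ := Groth.Agent.Lib.Depth.CM.supportDim_eq_nat (R := S) S
  rw [Module.supportDim_self_eq_ringKrullDim] at hN
  have hgd := Groth.Agent.Lib.LCFin.CanonChange.height_add_eq I hg hd hN
  obtain ⟨g₀, hg₀⟩ := Groth.Agent.Lib.LCFin.Gorenstein.exists_isInjectiveHull S N hN
  obtain ⟨c, -⟩ := Groth.Agent.Lib.InjHull.Basic.unique hf hg₀
  obtain ⟨e⟩ := Groth.Agent.Lib.LCFin.Duality.exists_duality N hN (S ⧸ I) (i := d) (j := g) (by omega)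
  let ε : (((Ext S (ModuleCat.{u} S) g).obj (op (ModuleCat.of S (S ⧸ I)))).obj (ModuleCat.of S S)) ≃ₗ[S]
      Abelian.Ext (ModuleCat.of S (S ⧸ I)) (ModuleCat.of S S) g :=
    (((Groth.Agent.Lib.LocalCoh.extIso S g).app (op (ModuleCat.of S (S ⧸ I)))).app
      (ModuleCat.of S S)).toLinearEquiv
  exact ⟨((LinearEquiv.congrRight c).trans (LinearEquiv.congrLeft _ S ε)).trans e.symm⟩


end Groth.Agent.S17774
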