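import Groth.Statements.S17775
import Groth.Agent.Lib.LocalCoh.TightSop
import Groth.Agent.Lib.Goren.Basic
import Groth.Agent.Lib.Goren.LCI
import Groth.Agent.Lib.Goren.Artin
import Groth.Agent.Lib.InjHull.Recognize
import Mathlib.RingTheory.Localization.Away.Basic
import Mathlib.Tactic.LinearCombination
import Mathlib.RingTheory.HopkinsLevitzki
-- import your own Groth.Agent.* helpers here

set_option autoImplicit false
universe u
open BigOperators
open Goren

namespace Groth.Agent.S17775

section

open IsLocalRing Groth.Agent.Lib.LocalCoh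

variable {R : Type u} [CommRing R] {d : ℕ} (x : Fin d → R)

/-- The ideal of the powers of a family. -/
def pw (t : Fin d → ℕ) : Ideal R := Ideal.span (Set.range fun i => x i ^ t i)

theorem mem_pw (t : Fin d → ℕ) (i : Fin d) {e : ℕ} (he : t i ≤ e) (r : R) : r * x i ^ e ∈ pw x t :=
  Ideal.mul_mem_left _ _ (Ideal.mem_of_dvd _ (pow_dvd_pow _ he) (Ideal.subset_span ⟨i, rfl⟩))

theorem pw_antitone {t t' : Fin d → ℕ} (h : ∀ i, t' i ≤ t i) : pw x t ≤ pw x t' := by
  refine Ideal.span_le.2 ?_
  rintro _ ⟨i, rfl⟩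
  simpa using mem_pw x t' i (h i) 1

variable [IsLocalRing R] [LocCoh.IsCohenMacaulayLocalRing R] (hdim : ringKrullDim R = d)
  (hx : TightSop.IsSop x)
include hdim hx

theorem cancel_one (t : Fin d → ℕ) (k : Fin d) (hk : 1 ≤ t k) {z : R} (hz : x k * z ∈ pw x t) :
    z ∈ pw x (Function.update t k (t k - 1)) := by
  classical
  by_cases h0 : ∃ j, j ≠ k ∧ t j = 0
  · obtain ⟨j, hjk, hj⟩ := h0
    simpa using mem_pw x (Function.update t k (t k - 1)) j (e := 0)
      (by rw [Function.update_of_ne hjk, hj]) z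
  simp only [not_exists, not_and] at h0
  have hc : TightSop.IsSop (fun j => x j ^ Function.update t k 1 j) := hx.pow fun j => by
    rcases eq_or_ne j k with rfl | hj
    · simp
    · rw [Function.update_of_ne hj]
      exact Nat.pos_of_ne_zero (h0 j hj)
  let c : Fin d → R := fun j => x j ^ Function.update t k 1 j
  have hoth : ∀ s : Fin d → ℕ, (∀ j, j ≠ k → s j = t j) →
      TightSop.others c k = TightSop.others (fun j => x j ^ s j) k := fun s hs => by
    unfold TightSop.others
    congr 1
    refine Set.image_congr fun j (hj : j ≠ k) => ?_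
    simp [c, Function.update_of_ne hj, hs j hj]
  rw [pw, TightSop.span_eq_others_sup _ k, Submodule.mem_sup] at hz
  obtain ⟨o, ho, b, hb, heq⟩ := hz
  obtain ⟨v, rfl⟩ := Ideal.mem_span_singleton'.1 hb
  have h1 : z - v * x k ^ (t k - 1) ∈ TightSop.others c k := by
    refine TightSop.cancel hdim hc k ?_
    have e1 : x k ^ Function.update t k 1 k * (z - v * x k ^ (t k - 1)) = o := by
      have ht : t k - 1 + 1 = t k := Nat.sub_add_cancel hk
      rw [Function.update_self, pow_one, mul_sub, ← heq, ← mul_left_comm, ← pow_succ', ht]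
      ring
    show x k ^ Function.update t k 1 k * (z - v * x k ^ (t k - 1)) ∈ _
    rw [e1, hoth t fun j _ => rfl]
    exact ho
  rw [pw, TightSop.span_eq_others_sup _ k, ← hoth _ fun j hj => Function.update_of_ne hj _ _]
  refine Submodule.mem_sup.2 ⟨_, h1, v * x k ^ (t k - 1), Ideal.mem_span_singleton'.2 ⟨v, ?_⟩, by ring⟩
  rw [Function.update_self]

theorem cancel_pow (t : Fin d → ℕ) (k : Fin d) (e : ℕ) (hk : e ≤ t k) {z : R}
    (hz : x k ^ e * z ∈ pw x t) : z ∈ pw x (Function.update t k (t k - e)) := by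
  classical
  induction e generalizing z with
  | zero => simpa using hz
  | succ e ih =>
    have h1 := ih (z := x k * z) (by omega) (by rwa [← mul_assoc, ← pow_succ])
    have h2 := cancel_one x hdim hx _ k (by rw [Function.update_self]; omega) h1
    rwa [Function.update_self, Function.update_idem, Nat.sub_sub] at h2

theorem cancel_prod (S : Finset (Fin d)) (e : ℕ) (t : Fin d → ℕ) (ht : ∀ j ∈ S, e ≤ t j) {z : R}
    (hz : (∏ j ∈ S, x j ^ e) * z ∈ pw x t) : z ∈ pw x (fun j => if j ∈ S then t j - e else t j) := by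
  classical
  induction S using Finset.induction_on generalizing t with
  | empty => simpa using hz
  | insert k S hk ih =>
    rw [Finset.prod_insert hk, mul_assoc] at hz
    have h2 := ih _ (fun j hj => by
      rw [Function.update_of_ne (fun h => hk (by rwa [← h]))]
      exact ht j (Finset.mem_insert_of_mem hj)) (cancel_pow x hdim hx t k e (ht k (Finset.mem_insert_self k S)) hz)
    refine pw_antitone x (fun j => ?_) h2
    rcases eq_or_ne j k with rfl | hj
    · simp [hk]
    · simp [Function.update_of_ne hj, hj]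

theorem colon (n N : ℕ) (hn : n ≤ N) {z : R} (hz : ∀ k, x k ^ n * z ∈ pw x (fun _ => N))
    (S : Finset (Fin d)) :
    z ∈ pw x (fun _ => N) ⊔ Ideal.span {∏ j ∈ S, x j ^ (N - n)} := by
  classical
  induction S using Finset.induction_on with
  | empty => simp
  | insert k S hk ih =>
    obtain ⟨o, ho, b, hb, heq⟩ := Submodule.mem_sup.1 ih
    obtain ⟨w, rfl⟩ := Ideal.mem_span_singleton'.1 hb
    let u : Fin d → ℕ := Function.update (fun _ => N) k (N - n)
    have h1 : z ∈ pw x u := cancel_pow x hdim hx _ k n hn (hz k)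
    have h2 : w * (∏ j ∈ S, x j ^ (N - n)) ∈ pw x u := by
      rw [eq_sub_of_add_eq' heq]
      refine Ideal.sub_mem _ h1 (pw_antitone x (fun j => ?_) ho)
      rcases eq_or_ne j k with rfl | hj
      · simp [u]
      · simp [u, Function.update_of_ne hj]
    rw [mul_comm] at h2
    have h3 := cancel_prod x hdim hx S (N - n) u (fun j hj => by
      rw [show u j = N from Function.update_of_ne (fun h : j = k => hk (h ▸ hj)) _ _]
      omega) h2
    rw [← heq]
    refine Ideal.add_mem _ (Ideal.mem_sup_left ho) ?_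
    let T : Ideal R := pw x (fun _ => N) ⊔ Ideal.span {∏ j ∈ insert k S, x j ^ (N - n)}
    suffices hle : pw x (fun j => if j ∈ S then u j - (N - n) else u j) ≤
        Submodule.comap (LinearMap.mulRight R (∏ j ∈ S, x j ^ (N - n))) T from hle h3
    refine Ideal.span_le.2 ?_
    rintro _ ⟨j, rfl⟩
    show x j ^ (if j ∈ S then u j - (N - n) else u j) * (∏ j ∈ S, x j ^ (N - n)) ∈ T
    rcases eq_or_ne j k with rfl | hj
    · refine Ideal.mem_sup_right (Ideal.mem_span_singleton.2 ?_)
      rw [if_neg hk, show u j = N - n from Function.update_self _ _ _, Finset.prod_insert hk]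
    · refine Ideal.mem_sup_left ?_
      rw [show u j = N from Function.update_of_ne hj _ _]
      by_cases hjS : j ∈ S
      · rw [if_pos hjS, ← Finset.mul_prod_erase _ _ hjS, ← mul_assoc, ← pow_add, mul_comm]
        exact mem_pw x _ j (by omega) _
      · rw [if_neg hjS, mul_comm]
        exact mem_pw x _ j le_rfl _

end

section

open IsLocalRing Groth.Agent.Lib.LocalCoh

variable {R : Type u} [CommRing R] {d : ℕ} (x : Fin d → R)

local notation "P" => ∏ i, x i
local notation "L" => Localization.Away (∏ i, x i)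
local notation "α" => algebraMap R (Localization.Away (∏ i, x i))
local notation "ε" => IsLocalization.Away.invSelf (S := Localization.Away (∏ i, x i)) (∏ i, x i)

/-- The partial fractions. -/
noncomputable def frac : Submodule R L :=
  Submodule.span R {y : L | ∃ (i : Fin d) (n : ℕ), y = α (x i ^ n) * ε ^ n}

/-- The stages of the quotient. -/
noncomputable def stage (n : ℕ) : R →ₗ[R] L ⧸ frac x :=
  (frac x).mkQ ∘ₗ LinearMap.toSpanSingleton R L (ε ^ n)

theorem smul_inv (z : R) (n k : ℕ) : (P ^ k * z) • (ε ^ (n + k) : L) = z • ε ^ n := by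
  rw [Algebra.smul_def, Algebra.smul_def, map_mul, map_pow, pow_add]
  calc _ = α z * ε ^ n * ((α P) * ε) ^ k := by ring
    _ = _ := by rw [IsLocalization.Away.mul_invSelf, one_pow, mul_one]

theorem stage_shift (z : R) (n k : ℕ) : stage x (n + k) (P ^ k * z) = stage x n z :=
  congrArg (frac x).mkQ (smul_inv x z n k)

theorem mul_mem_pw {N : ℕ} {w : R} (hw : w ∈ pw x (fun _ => N)) (k : ℕ) :
    P ^ k * w ∈ pw x (fun _ => N + k) := by
  suffices h : pw x (fun _ => N) ≤ Submodule.comap (LinearMap.mulLeft R (P ^ k)) (pw x fun _ => N + k)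
    from h hw
  refine Ideal.span_le.2 ?_
  rintro _ ⟨i, rfl⟩
  show P ^ k * x i ^ N ∈ pw x (fun _ => N + k)
  rw [← Finset.mul_prod_erase _ _ (Finset.mem_univ i), mul_pow]
  convert mem_pw x (fun _ => N + k) i (e := N + k) le_rfl ((∏ j ∈ Finset.univ.erase i, x j) ^ k) using 1
  ring

theorem exists_of_mem_frac {y : L} (hy : y ∈ frac x) :
    ∃ (N : ℕ) (w : R), w ∈ pw x (fun _ => N) ∧ y = w • ε ^ N := by
  induction hy using Submodule.span_induction with
  | mem y hy =>
    obtain ⟨i, n, rfl⟩ := hy
    exact ⟨n, x i ^ n, by simpa using mem_pw x (fun _ => n) i le_rfl 1, (Algebra.smul_def _ _).symm⟩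
  | zero => exact ⟨0, 0, zero_mem _, (zero_smul R _).symm⟩
  | add y z _ _ hy hz =>
    obtain ⟨N, w, hw, rfl⟩ := hy
    obtain ⟨M, v, hv, rfl⟩ := hz
    refine ⟨N + M, P ^ M * w + P ^ N * v, Ideal.add_mem _ (mul_mem_pw x hw M) ?_, ?_⟩
    · rw [add_comm N M]
      exact mul_mem_pw x hv N
    · rw [add_smul, smul_inv, add_comm N M, smul_inv]
  | smul r y _ hy =>
    obtain ⟨N, w, hw, rfl⟩ := hy
    exact ⟨N, r * w, Ideal.mul_mem_left _ _ hw, (mul_smul r w _).symm⟩

theorem stage_eq_zero {n : ℕ} {z : R} (hz : z ∈ pw x (fun _ => n)) : stage x n z = 0 := by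
  suffices h : pw x (fun _ => n) ≤ LinearMap.ker (stage x n) from h hz
  refine Ideal.span_le.2 ?_
  rintro _ ⟨i, rfl⟩
  exact (Submodule.Quotient.mk_eq_zero _).2 (Submodule.subset_span ⟨i, n, Algebra.smul_def _ _⟩)

theorem exists_stage (q : L ⧸ frac x) : ∃ (n : ℕ) (z : R), stage x n z = q := by
  obtain ⟨y, rfl⟩ := Submodule.Quotient.mk_surjective _ q
  obtain ⟨⟨z, ⟨s, n, rfl⟩⟩, h⟩ := IsLocalization.surj (Submonoid.powers P) y
  refine ⟨n, z, congrArg (frac x).mkQ ?_⟩
  show z • ε ^ n = y
  have h1 : y * α (P ^ n) = α z := h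
  rw [Algebra.smul_def, ← h1, map_pow, mul_assoc, ← mul_pow, IsLocalization.Away.mul_invSelf, one_pow,
    mul_one]

variable [IsLocalRing R] [LocCoh.IsCohenMacaulayLocalRing R] (hdim : ringKrullDim R = d)
  (hx : TightSop.IsSop x)
include hdim hx

theorem mem_of_stage_eq_zero {n : ℕ} {z : R} (h : stage x n z = 0) : z ∈ pw x (fun _ => n) := by
  obtain ⟨N, w, hw, he⟩ := exists_of_mem_frac x ((Submodule.Quotient.mk_eq_zero (frac x)).1 h)
  rw [LinearMap.toSpanSingleton_apply, Algebra.smul_def, Algebra.smul_def] at he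
  have he' : α (z * P ^ N) = α (w * P ^ n) := by
    calc α (z * P ^ N) = α z * ε ^ n * (α P) ^ (n + N) := by
          rw [pow_add, map_mul, map_pow]
          calc α z * α P ^ N = α z * α P ^ N * (α P * ε) ^ n := by
                rw [IsLocalization.Away.mul_invSelf, one_pow, mul_one]
            _ = _ := by ring
      _ = α w * ε ^ N * (α P) ^ (n + N) := by rw [he]
      _ = α (w * P ^ n) := by
          rw [pow_add, map_mul, map_pow]
          calc _ = α w * α P ^ n * (α P * ε) ^ N := by ring
            _ = _ := by rw [IsLocalization.Away.mul_invSelf, one_pow, mul_one]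
  obtain ⟨⟨c, k, rfl⟩, hc⟩ := (IsLocalization.eq_iff_exists (Submonoid.powers P) L).1 he'
  have hc' : P ^ k * (z * P ^ N) = P ^ k * (w * P ^ n) := hc
  have h2 : P ^ (k + N) * z ∈ pw x (fun _ => N + (k + n)) := by
    rw [show P ^ (k + N) * z = P ^ (k + n) * w by linear_combination hc']
    exact mul_mem_pw x hw (k + n)
  rw [← Finset.prod_pow] at h2
  have h3 := cancel_prod x hdim hx Finset.univ (k + N) _ (fun j _ => by omega) h2
  refine pw_antitone x (fun j => ?_) h3
  simp; omega

theorem exists_stage_of_killed {n : ℕ} {q : L ⧸ frac x} (h : ∀ a ∈ pw x (fun _ => n), a • q = 0) :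
    ∃ z : R, stage x n z = q := by
  obtain ⟨M, z, rfl⟩ := exists_stage x q
  have hk : ∀ i, x i ^ n * (P ^ n * z) ∈ pw x (fun _ => M + n) := fun i =>
    mem_of_stage_eq_zero x hdim hx (by
      rw [← smul_eq_mul, map_smul, stage_shift]
      exact h _ (Ideal.subset_span ⟨i, rfl⟩))
  obtain ⟨o, ho, b, hb, heq⟩ := Submodule.mem_sup.1
    (colon x hdim hx n (M + n) (by omega) hk Finset.univ)
  obtain ⟨w, rfl⟩ := Ideal.mem_span_singleton'.1 hb
  refine ⟨w, ?_⟩
  rw [← stage_shift x z M n, ← heq, map_add, stage_eq_zero x ho, zero_add, Finset.prod_pow,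
    Nat.add_sub_cancel, mul_comm w, add_comm M n, stage_shift]

end

/-- Let R be a Gorenstein local ring of Krull dimension d with maximal ideal m and residue field k, and
let x_1, …, x_d be a system of parameters of R, i.e. d elements generating an ideal whose radical is
m. Put t = x_1 ⋯ x_d. Then the R-module R_t ⧸ Σ_i R_{x_1⋯x̂_i⋯x_d}, realised as the quotient of the
localization R_t by the R-submodule spanned by the fractions x_i^n / t^n (i = 1, …, d, n ≥ 0), is an
injective hull of k: some R-linear map from k into it is an injective hull. -/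
theorem result (R : Type u) [CommRing R] [LocCoh.IsGorensteinLocalRing R] (d : ℕ) (hd : ringKrullDim R = d) (x : Fin d → R) (hx : (Ideal.span (Set.range x)).radical = IsLocalRing.maximalIdeal R) : ∃ f : IsLocalRing.ResidueField R →ₗ[R] (Localization.Away (∏ i, x i) ⧸ Submodule.span R {y : Localization.Away (∏ i, x i) | ∃ (i : Fin d) (n : ℕ), y = algebraMap R (Localization.Away (∏ i, x i)) (x i ^ n) * IsLocalization.Away.invSelf (∏ i, x i) ^ n}), InjHull.IsInjectiveHull f := by
  classical
  obtain ⟨n, hn⟩ := LocCoh.IsGorensteinLocalRing.exists_hasInjectiveDimensionLT (A := R)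
  obtain ⟨d', hd', -, hCM, -⟩ := Groth.Agent.Lib.Goren.Basic.exists_dim hn
  have hs : Groth.Agent.Lib.LocalCoh.TightSop.IsSop x := hx
  have htor : LocCoh.IsPowerTorsion (IsLocalRing.maximalIdeal R) (Localization.Away (∏ i, x i) ⧸ frac x) := by
    intro q
    obtain ⟨n, z, rfl⟩ := exists_stage x q
    have h1 : IsLocalRing.maximalIdeal R ≤ (pw x fun _ => n).radical := by
      rw [← hx, Ideal.radical_le_radical_iff, Ideal.span_le]
      rintro _ ⟨i, rfl⟩
      exact ⟨n, by simpa using mem_pw x (fun _ => n) i le_rfl 1⟩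
    obtain ⟨k, hk⟩ := Ideal.exists_pow_le_of_le_radical_of_fg h1 (IsNoetherian.noetherian _)
    exact ⟨k, fun a ha => by
      rw [← map_smul, smul_eq_mul]
      exact stage_eq_zero x (Ideal.mul_mem_right _ _ (hk ha))⟩
  let e : ∀ n, (R ⧸ pw x fun _ => n) →ₗ[R] Localization.Away (∏ i, x i) ⧸ frac x := fun n =>
    Submodule.liftQ _ (stage x n) fun a ha => LinearMap.mem_ker.2 (stage_eq_zero x ha)
  have einj : ∀ n, Function.Injective (e n) := fun n => by
    rw [← LinearMap.ker_eq_bot, eq_bot_iff]
    intro q hq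
    obtain ⟨z, rfl⟩ := Submodule.Quotient.mk_surjective _ q
    exact (Submodule.mem_bot R).2 ((Submodule.Quotient.mk_eq_zero _).2 (mem_of_stage_eq_zero x hd hs hq))
  have hc1 : ∀ n, pw x (fun _ => n) ≤ pw x (fun _ => 0) := fun n => pw_antitone x fun _ => Nat.zero_le n
  -- simple socle
  have hsimple : IsSimpleModule R ((R ⧸ IsLocalRing.maximalIdeal R) →ₗ[R]
      Localization.Away (∏ i, x i) ⧸ frac x) := by
    have hmem : ∀ a ∈ List.ofFn x, a ∈ IsLocalRing.maximalIdeal R := fun a ha => by
      obtain ⟨i, rfl⟩ := List.mem_ofFn.1 ha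
      exact hs.mem i
    have hpw : pw x (fun _ => 1) = Ideal.ofList (List.ofFn x) := by
      unfold pw Ideal.ofList
      congr 1
      ext a
      simp
    have hle : pw x (fun _ => 1) ≤ IsLocalRing.maximalIdeal R := by
      rw [hpw]; exact Ideal.span_le.2 hmem
    have hreg : RingTheory.Sequence.IsWeaklyRegular R (List.ofFn x) := by
      refine Groth.Agent.Lib.Depth.Span.isWeaklyRegular_of_idealDepth_eq _ R hmem (le_of_eq ?_)
      rw [List.length_ofFn]
      have hdepth : (d : WithBot ℕ∞) = (LocCoh.depth R R : WithBot ℕ∞) :=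
        hd.symm.trans Groth.Agent.Lib.Depth.CM.ringKrullDim_eq_depth
      refine (WithBot.coe_inj.1 hdepth).trans (Groth.Agent.Lib.Depth.Ext.idealDepth_radical_eq _ R ?_).symm
      rw [← hpw, (IsLocalRing.maximalIdeal.isMaximal R).isPrime.radical]
      unfold pw
      simp only [pow_one]
      exact hx
    have : Nontrivial (R ⧸ pw x fun _ => 1) := Ideal.Quotient.nontrivial_iff.2 fun h =>
      (IsLocalRing.maximalIdeal.isMaximal R).ne_top (top_le_iff.1 (h ▸ hle))
    have : IsLocalRing (R ⧸ pw x fun _ => 1) :=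
      IsLocalRing.of_surjective' (Ideal.Quotient.mk _) Ideal.Quotient.mk_surjective
    have : LocCoh.IsGorensteinLocalRing (R ⧸ pw x fun _ => 1) := by
      have := Groth.Agent.Lib.Goren.LCI.gorenstein_quotient_of_isWeaklyRegular R _ hmem hreg
      rwa [← hpw] at this
    have : IsArtinianRing (R ⧸ pw x fun _ => 1) := by
      rw [isArtinianRing_iff_krullDimLE_zero]
      rw [Ring.krullDimLE_zero_iff]
      intro q hq
      have hmk : (q.comap (Ideal.Quotient.mk _)) = IsLocalRing.maximalIdeal R := by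
        refine le_antisymm (IsLocalRing.le_maximalIdeal (Ideal.IsPrime.ne_top inferInstance)) ?_
        rw [← hx, Ideal.IsPrime.radical_le_iff inferInstance, Ideal.span_le]
        rintro _ ⟨i, rfl⟩
        show Ideal.Quotient.mk _ (x i) ∈ q
        rw [Ideal.Quotient.eq_zero_iff_mem.2 (by simpa using mem_pw x (fun _ => 1) i le_rfl 1)]
        exact zero_mem q
      rw [← Ideal.map_comap_of_surjective _ Ideal.Quotient.mk_surjective q, hmk]
      refine Ideal.IsMaximal.map_of_surjective_of_ker_le Ideal.Quotient.mk_surjective ?_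
      rw [Ideal.mk_ker]; exact hle
    have hlen : Module.length R (LocCoh.torsionBy (IsLocalRing.maximalIdeal R) (R ⧸ pw x fun _ => 1)) = 1 :=
      (Groth.Agent.Lib.Goren.Artin.length_socle_quotient _).trans
        (Groth.Agent.Lib.Goren.Artin.isGorensteinLocalRing_iff_socle.1 inferInstance)
    have := Module.length_eq_one_iff.1 hlen
    have : IsSimpleModule R ((R ⧸ IsLocalRing.maximalIdeal R) →ₗ[R] R ⧸ pw x fun _ => 1) :=
      IsSimpleModule.congr (Groth.Agent.Lib.InjHull.BaseChange.homQuotientEquiv _ _)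
    let c : ((R ⧸ IsLocalRing.maximalIdeal R) →ₗ[R] R ⧸ pw x fun _ => 1) →ₗ[R]
        ((R ⧸ IsLocalRing.maximalIdeal R) →ₗ[R] Localization.Away (∏ i, x i) ⧸ frac x) :=
      LinearMap.llcomp R _ _ _ (e 1)
    refine IsSimpleModule.congr (LinearEquiv.ofBijective c ⟨fun φ ψ h => LinearMap.ext fun y =>
      einj 1 (LinearMap.congr_fun h y), fun φ => ?_⟩).symm
    have hr : ∀ y, φ y ∈ LinearMap.range (e 1) := fun y => by
      obtain ⟨z, hz⟩ := exists_stage_of_killed x hd hs (n := 1) (q := φ y) fun a ha => by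
        rw [← map_smul]
        obtain ⟨y, rfl⟩ := Submodule.Quotient.mk_surjective _ y
        rw [← Submodule.Quotient.mk_smul, smul_eq_mul,
          (Submodule.Quotient.mk_eq_zero _).2 (Ideal.mul_mem_right y _ (hle ha)), map_zero]
      exact ⟨Submodule.Quotient.mk z, hz⟩
    exact ⟨(LinearEquiv.ofInjective (e 1) (einj 1)).symm.toLinearMap ∘ₗ φ.codRestrict _ hr,
      LinearMap.ext fun y => congrArg Subtype.val
        ((LinearEquiv.ofInjective (e 1) (einj 1)).apply_symm_apply ⟨φ y, hr y⟩)⟩
  refine Groth.Agent.Lib.InjHull.Recognize.exists_isInjectiveHull_of_lengths _ htor hsimple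
    (fun n => pw x fun _ => n) (fun n => ?_) (fun N => ?_) fun n => ?_
  · refine Ideal.exists_pow_le_of_le_radical_of_fg ?_ (IsNoetherian.noetherian _)
    rw [← hx, Ideal.radical_le_radical_iff, Ideal.span_le]
    rintro _ ⟨i, rfl⟩
    exact ⟨n, by simpa using mem_pw x (fun _ => n) i le_rfl 1⟩
  · refine ⟨N, Ideal.span_le.2 ?_⟩
    rintro _ ⟨i, rfl⟩
    exact Ideal.pow_mem_pow (hs.mem i) N
  · let Φ : (R ⧸ pw x fun _ => n) →ₗ[R] ((R ⧸ pw x fun _ => n) →ₗ[R]
        Localization.Away (∏ i, x i) ⧸ frac x) :=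
      (LinearMap.llcomp R _ _ _ (e n)) ∘ₗ LinearMap.mul R (R ⧸ pw x fun _ => n)
    refine (LinearEquiv.ofBijective Φ ⟨fun a b h => ?_, fun ψ => ?_⟩).length_eq
    · have h1 := LinearMap.congr_fun h (Submodule.Quotient.mk 1)
      simp only [Φ, LinearMap.comp_apply, LinearMap.llcomp_apply, LinearMap.mul_apply'] at h1
      simpa using einj n h1
    · obtain ⟨z, hz⟩ := exists_stage_of_killed x hd hs (n := n) (q := ψ (Submodule.Quotient.mk 1)) fun a ha => by
        rw [← map_smul, ← Submodule.Quotient.mk_smul, smul_eq_mul, mul_one,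
          (Submodule.Quotient.mk_eq_zero _).2 ha, map_zero]
      refine ⟨Submodule.Quotient.mk z, Submodule.linearMap_qext _ (LinearMap.ext_ring ?_)⟩
      show e n (Ideal.Quotient.mk _ z * Ideal.Quotient.mk _ 1) = ψ (Submodule.Quotient.mk 1)
      rw [map_one, mul_one]
      exact hz


end Groth.Agent.S17775
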