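import Groth.Statements.S17779
import Mathlib.Data.Nat.Choose.Sum
import Mathlib.Tactic.Ring

set_option autoImplicit false
open DRR

namespace Groth.Agent.S17779

open Finset in
/-- the alternating sum (n-th finite difference of `x ^ k` at `0`) -/
def A (n k : ℕ) : ℤ := ∑ j ∈ range (n + 1), (-1 : ℤ) ^ (n - j) * (n.choose j : ℤ) * (j : ℤ) ^ k

open Finset in
theorem A_succ (n k : ℕ) :
    A (n + 1) (k + 1) = (n + 1) * ∑ t ∈ range (k + 1), (k.choose t : ℤ) * A n t := by
  rw [A, Finset.sum_range_succ' _ (n + 1)]
  simp only [Nat.cast_zero, zero_pow (Nat.succ_ne_zero k), mul_zero, add_zero]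
  simp only [A, Finset.mul_sum]
  rw [Finset.sum_comm]
  refine Finset.sum_congr rfl fun j _ => ?_
  have h : ((n + 1).choose (j + 1) : ℤ) * ((j + 1 : ℕ) : ℤ) = (n + 1) * (n.choose j : ℤ) := by
    exact_mod_cast (Nat.add_one_mul_choose_eq n j).symm
  rw [show n + 1 - (j + 1) = n - j by omega, pow_succ]
  rw [show ((j + 1 : ℕ) : ℤ) ^ k * ((j + 1 : ℕ) : ℤ) = ((j + 1 : ℕ) : ℤ) * ((j + 1 : ℕ) : ℤ) ^ k by ring,
    ← mul_assoc, mul_assoc ((-1 : ℤ) ^ (n - j)) _ _, h]
  push_cast
  rw [add_pow, Finset.mul_sum]
  refine Finset.sum_congr rfl fun t _ => ?_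
  simp; ring

open Finset in
theorem A_eq (n : ℕ) : ∀ k, k ≤ n + 1 → A n k = if k = n + 1 then (((n + 1).choose 2 * n.factorial : ℕ) : ℤ)
    else if k = n then (n.factorial : ℤ) else 0 := by
  induction n with
  | zero =>
    intro k hk
    rcases Nat.le_one_iff_eq_zero_or_eq_one.mp hk with rfl | rfl <;> simp [A]
  | succ n ih =>
    intro k hk
    rcases k with _ | k
    · have h : A (n + 1) 0 = 0 := by
        have h := add_pow (1 : ℤ) (-1) (n + 1)
        simp only [add_neg_cancel, zero_pow (Nat.succ_ne_zero n), one_pow, one_mul] at h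
        simp only [A, pow_zero, mul_one]
        exact h.symm
      simp [h]
    rw [A_succ, Finset.sum_congr rfl (fun t ht => by rw [ih t (by simp at ht; omega)])]
    rcases Nat.lt_trichotomy k n with h | rfl | h
    · rw [Finset.sum_eq_zero (fun t ht => by
        simp at ht; simp [show t ≠ n + 1 by omega, show t ≠ n by omega])]
      rw [if_neg (by omega), if_neg (by omega)]; simp
    · rw [Finset.sum_eq_single k (fun t ht h' => by
        simp at ht; simp [show t ≠ k + 1 by omega, h']) (by simp)]
      simp [Nat.factorial_succ]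
    · obtain rfl : k = n + 1 := by omega
      rw [Finset.sum_range_succ, Finset.sum_eq_single n (fun t ht h' => by
        simp at ht; simp [show t ≠ n + 1 by omega, h']) (by simp)]
      simp [Nat.factorial_succ, Nat.choose_succ_succ' (n + 1) 1, Nat.choose_succ_succ' n 1]
      push_cast
      ring

/-- For natural numbers n and k with k ≤ n + 1, the alternating sum over j = 0, …, n of (−1)^(n−j) C(n,
j) j^k (with the convention 0^0 = 1) equals n! · n(n+1)/2 when k = n + 1, equals n! when k = n, and
vanishes when k < n. (The published statement takes n ≥ 1 and divides through by n!; the case n = 0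
holds as well and is included.) -/
theorem result (n k : ℕ) (hk : k ≤ n + 1) :
    (∑ j ∈ Finset.range (n + 1), (-1 : ℤ) ^ (n - j) * (n.choose j : ℤ) * (j : ℤ) ^ k) =
      (if k = n + 1 then (((n + 1).choose 2 * n.factorial : ℕ) : ℤ)
        else if k = n then (n.factorial : ℤ) else 0) := by
  exact A_eq n k hk

end Groth.Agent.S17779
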