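import Groth.Statements.S17780
import Mathlib.Data.Nat.Choose.Sum
import Mathlib.Data.Nat.Factorial.Cast
import Mathlib.Algebra.Group.Nat.Even
import Mathlib.Tactic.Ring

set_option autoImplicit false
universe u
open DRR

namespace Groth.Agent.S17780

open Finset in
/-- the alternating sum (n-th finite difference of `x ^ k` at `0`) -/
def A0 (n k : ℕ) : ℤ := ∑ j ∈ range (n + 1), (-1 : ℤ) ^ (n - j) * (n.choose j : ℤ) * (j : ℤ) ^ k

open Finset in
theorem A0_succ (n k : ℕ) :
    A0 (n + 1) (k + 1) = (n + 1) * ∑ t ∈ range (k + 1), (k.choose t : ℤ) * A0 n t := by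
  rw [A0, Finset.sum_range_succ' _ (n + 1)]
  simp only [Nat.cast_zero, zero_pow (Nat.succ_ne_zero k), mul_zero, add_zero]
  simp only [A0, Finset.mul_sum]
  rw [Finset.sum_comm]
  refine Finset.sum_congr rfl fun j _ => ?_
  have h : ((n + 1).choose (j + 1) : ℤ) * ((j + 1 : ℕ) : ℤ) = (n + 1) * (n.choose j : ℤ) := by
    exact_mod_cast (Nat.add_one_mul_choose_eq n j).symm
  rw [show n + 1 - (j + 1) = n - j by omega, pow_succ]
  rw [show ((j + 1 : ℕ) : ℤ) ^ k * ((j + 1 : ℕ) : ℤ) = ((j + 1 : ℕ) : ℤ) * ((j + 1 : ℕ) : ℤ) ^ k by ring,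
    ← mul_assoc, mul_assoc ((-1 : ℤ) ^ (n - j)) _ _, h]
  push_cast
  rw [add_pow, Finset.mul_sum]
  refine Finset.sum_congr rfl fun t _ => ?_
  simp; ring

open Finset in
theorem A0_eq (n : ℕ) : ∀ k, k ≤ n + 1 → A0 n k = if k = n + 1 then (((n + 1).choose 2 * n.factorial : ℕ) : ℤ)
    else if k = n then (n.factorial : ℤ) else 0 := by
  induction n with
  | zero =>
    intro k hk
    rcases Nat.le_one_iff_eq_zero_or_eq_one.mp hk with rfl | rfl <;> simp [A0]
  | succ n ih =>
    intro k hk
    rcases k with _ | k
    · have h : A0 (n + 1) 0 = 0 := by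
        have h := add_pow (1 : ℤ) (-1) (n + 1)
        simp only [add_neg_cancel, zero_pow (Nat.succ_ne_zero n), one_pow, one_mul] at h
        simp only [A0, pow_zero, mul_one]
        exact h.symm
      simp [h]
    rw [A0_succ, Finset.sum_congr rfl (fun t ht => by rw [ih t (by simp at ht; omega)])]
    rcases Nat.lt_trichotomy k n with h | rfl | h
    · rw [Finset.sum_eq_zero (fun t ht => by
        simp at ht; simp [show t ≠ n + 1 by omega, show t ≠ n by omega])]
      rw [if_neg (by omega), if_neg (by omega)]; simp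
    · rw [Finset.sum_eq_single k (fun t ht h' => by
        simp at ht; simp [show t ≠ k + 1 by omega, h']) (by simp)]
      simp [Nat.factorial_succ]
    · obtain rfl : k = n + 1 := by omega
      rw [Finset.sum_range_succ, Finset.sum_eq_single n (fun t ht h' => by
        simp at ht; simp [show t ≠ n + 1 by omega, h']) (by simp)]
      simp [Nat.factorial_succ, Nat.choose_succ_succ' (n + 1) 1, Nat.choose_succ_succ' n 1]
      push_cast
      ring

/-- For x, y in a commutative ring and a natural number n, (n+1)! · x · y^n equals the sum over j = 0,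
…, n of (−1)^(n−j) C(n, j) (x + j y)^(n+1), minus (n · (n+1)!/2) · y^(n+1). (The published identity
is stated in ℚ[x, y] with an overall factor 1/(n+1) and the coefficients C(n, j)(−1)^(n−j)/n!; it is
given here multiplied through by (n+1)!, which makes it an identity with integer coefficients valid
in every commutative ring; n · (n+1)!/2 is an integer.) -/
theorem result (A : Type u) [CommRing A] (x y : A) (n : ℕ) :
    ((n + 1).factorial : A) * x * y ^ n =
      (∑ j ∈ Finset.range (n + 1), (-1 : A) ^ (n - j) * (n.choose j : A) * (x + (j : A) * y) ^ (n + 1))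
        - ((n * (n + 1).factorial / 2 : ℕ) : A) * y ^ (n + 1) := by
  have hexp : ∑ j ∈ Finset.range (n + 1), (-1 : A) ^ (n - j) * (n.choose j : A) * (x + (j : A) * y) ^ (n + 1)
      = ∑ t ∈ Finset.range (n + 2), x ^ (n + 1 - t) * y ^ t * ((n + 1).choose t : A) * ((A0 n t : ℤ) : A) := by
    simp only [A0, Int.cast_sum, Finset.mul_sum]
    rw [Finset.sum_comm]
    refine Finset.sum_congr rfl fun j _ => ?_
    rw [add_comm x, add_pow, Finset.mul_sum]
    refine Finset.sum_congr rfl fun t _ => ?_
    push_cast; ring
  rw [hexp, Finset.sum_range_succ, Finset.sum_eq_single n (fun t ht h' => by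
    simp at ht
    rw [A0_eq n t (by omega), if_neg (by omega), if_neg h']; simp) (by simp), A0_eq n n (by omega),
    A0_eq n (n + 1) le_rfl, if_neg (by omega), if_pos rfl, if_pos rfl]
  have : n * (n + 1).factorial / 2 = (n + 1).choose 2 * n.factorial := by
    rw [Nat.factorial_succ, Nat.choose_two_right, Nat.add_sub_cancel, Nat.div_mul_right_comm
      (by simpa [mul_comm] using (Nat.even_mul_succ_self n).two_dvd)]
    congr 1; ring
  rw [this, Nat.factorial_succ]
  simp
  push_cast
  ring

end Groth.Agent.S17780
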