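import Groth.Statements.S17781
import Mathlib.Data.Nat.Factorization.Basic
import Mathlib.Tactic.Ring
-- import your own Groth.Agent.* helpers here

set_option autoImplicit false
open Variety

namespace Groth.Agent.S17781

lemma div_gcd_dvd_choose (d n : ℕ) (hd : 1 ≤ d) (hn : 1 ≤ n) :
    d / Nat.gcd d n ∣ d.choose n := by
  obtain ⟨d', rfl⟩ := Nat.exists_eq_succ_of_ne_zero (show d ≠ 0 by omega)
  obtain ⟨n', rfl⟩ := Nat.exists_eq_succ_of_ne_zero (show n ≠ 0 by omega)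
  obtain ⟨g, a, b, hg, hab, ha, hb⟩ := Nat.exists_coprime' (m := d' + 1) (n := n' + 1)
    (Nat.gcd_pos_of_pos_left _ (Nat.succ_pos _))
  have hgg : Nat.gcd (d' + 1) (n' + 1) = g := by
    rw [ha, hb, Nat.gcd_mul_right, hab.gcd_eq_one, one_mul]
  simp only [Nat.succ_eq_add_one]
  rw [hgg, ha, Nat.mul_div_cancel _ hg, ← ha]
  have key := Nat.add_one_mul_choose_eq d' n'
  refine hab.dvd_of_dvd_mul_right ⟨d'.choose n', Nat.eq_of_mul_eq_mul_left hg ?_⟩
  rw [ha, hb] at key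
  rw [ha, hb]
  calc g * ((a * g).choose (b * g) * b) = (a * g).choose (b * g) * (b * g) := by ring
    _ = a * g * d'.choose n' := key.symm
    _ = g * (a * d'.choose n') := by ring

lemma not_dvd_choose_pred {d p b : ℕ} (hp : p.Prime) (hd : 1 ≤ d) (hb : p ^ b ∣ d) :
    ∀ j, j < p ^ b → ¬ p ∣ (d - 1).choose j := by
  obtain ⟨d', rfl⟩ := Nat.exists_eq_succ_of_ne_zero (show d ≠ 0 by omega)
  intro j
  induction j with
  | zero => intro _; simpa using hp.ne_one
  | succ j ih =>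
    intro hj hdvd
    refine ih (Nat.lt_of_succ_lt hj) ?_
    have hp2 : p ∣ (d' + 1).choose (j + 1) := by
      refine Dvd.dvd.trans ?_ (div_gcd_dvd_choose (d' + 1) (j + 1) (by omega) (by omega))
      by_contra h
      have h1 : p ^ b ∣ Nat.gcd (d' + 1) (j + 1) := by
        have h2 : p ^ b ∣ Nat.gcd (d' + 1) (j + 1) * ((d' + 1) / Nat.gcd (d' + 1) (j + 1)) := by
          rw [Nat.mul_div_cancel' (Nat.gcd_dvd_left _ _)]; exact hb
        exact (Nat.Coprime.pow_left b (hp.coprime_iff_not_dvd.2 h)).dvd_of_dvd_mul_right h2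
      exact absurd (Nat.le_of_dvd (Nat.succ_pos _) (h1.trans (Nat.gcd_dvd_right _ _))) (by omega)
    have hsum := Nat.choose_succ_succ' d' j
    simp only [Nat.succ_eq_add_one, Nat.add_sub_cancel] at hdvd ⊢
    rw [hsum] at hp2
    exact (Nat.dvd_add_left hdvd).1 hp2

lemma dvd_choose_all_iff (d N g : ℕ) (hd : 1 ≤ d) :
    (∀ n ∈ Finset.Icc 1 N, g ∣ d.choose n) ↔
      ∀ δ ∈ (Finset.Icc 1 N).filter (fun δ => δ ∣ d), g ∣ d / δ := by
  constructor
  · intro h δ hδ
    obtain ⟨hδ1, hδd⟩ := Finset.mem_filter.1 hδ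
    obtain ⟨hδ1, hδN⟩ := Finset.mem_Icc.1 hδ1
    refine Nat.dvd_iff_prime_pow_dvd_dvd _ _ |>.2 fun p a hp hpa => ?_
    obtain ⟨b, e, he, rfl⟩ :=
      Nat.exists_eq_pow_mul_and_not_dvd (show δ ≠ 0 by omega) p hp.ne_one
    have hb1 : 1 ≤ p ^ b := Nat.one_le_pow _ _ hp.pos
    have hbd : p ^ b ∣ d := (dvd_mul_right _ _).trans hδd
    have hmem : p ^ b ∈ Finset.Icc 1 N := Finset.mem_Icc.2 ⟨hb1,
      le_trans (Nat.le_mul_of_pos_right _ (Nat.pos_of_ne_zero fun h => by simp [h] at hδ1)) hδN⟩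
    have hC := hpa.trans (h _ hmem)
    obtain ⟨c, hc⟩ := hbd
    have hchoose : d.choose (p ^ b) = c * (d - 1).choose (p ^ b - 1) := by
      have key := Nat.add_one_mul_choose_eq (d - 1) (p ^ b - 1)
      rw [show d - 1 + 1 = d by omega, show p ^ b - 1 + 1 = p ^ b by omega] at key
      refine Nat.eq_of_mul_eq_mul_right (show 0 < p ^ b by omega) ?_
      rw [← key, mul_right_comm c, mul_comm c, ← hc]
    have hndvd := not_dvd_choose_pred hp hd ⟨c, hc⟩ (p ^ b - 1) (by omega)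
    rw [hchoose] at hC
    have hac : p ^ a ∣ c :=
      (Nat.Coprime.pow_left a (hp.coprime_iff_not_dvd.2 hndvd)).dvd_of_dvd_mul_right hC
    have hec : e ∣ c := Nat.dvd_of_mul_dvd_mul_left (show 0 < p ^ b by omega) (hc ▸ hδd)
    obtain ⟨k, rfl⟩ := hec
    have he0 : 0 < e := Nat.pos_of_ne_zero fun h => by simp [h] at hδ1
    rw [hc, ← mul_assoc, Nat.mul_div_cancel_left _ (Nat.mul_pos (by omega) he0)]
    exact (Nat.Coprime.pow_left a (hp.coprime_iff_not_dvd.2 he)).dvd_of_dvd_mul_left hac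
  · intro h n hn
    obtain ⟨hn1, hnN⟩ := Finset.mem_Icc.1 hn
    refine (h (Nat.gcd d n) (Finset.mem_filter.2 ⟨Finset.mem_Icc.2 ⟨?_, ?_⟩,
      Nat.gcd_dvd_left _ _⟩)).trans (div_gcd_dvd_choose d n hd hn1)
    · exact Nat.gcd_pos_of_pos_right _ hn1
    · exact (Nat.le_of_dvd hn1 (Nat.gcd_dvd_right _ _)).trans hnN

/-- Let d ≥ 1 and N ≥ 1 be integers and let I(d, N) be the greatest common divisor of the quotients d/δ
over the divisors δ of d with 1 ≤ δ ≤ N. Then I(d, N) equals the greatest common divisor of the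
integers χ(d, n) = 1 − (−1)^n C(d − 1, n) for 1 ≤ n ≤ N (χ(d, n) is the Euler characteristic of O_H
for a degree-d hypersurface H in projective n-space). Both greatest common divisors are taken in ℤ,
normalised to be non-negative. -/
theorem result (d N : ℕ) (hd : 1 ≤ d) (hN : 1 ≤ N) :
    (Finset.Icc 1 N).gcd (fun n => 1 - (-1 : ℤ) ^ n * ((d - 1).choose n : ℤ)) =
      ((Finset.Icc 1 N).filter (fun δ => δ ∣ d)).gcd (fun δ => ((d / δ : ℕ) : ℤ)) := by
  obtain ⟨d', rfl⟩ := Nat.exists_eq_succ_of_ne_zero (show d ≠ 0 by omega)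
  simp only [Nat.succ_eq_add_one, Nat.add_sub_cancel]
  set χ : ℕ → ℤ := fun n => 1 - (-1 : ℤ) ^ n * (d'.choose n : ℤ) with hχ
  have hrec : ∀ n, χ (n + 1) = χ n + (-1) ^ n * ((d' + 1).choose (n + 1) : ℤ) := fun n => by
    simp only [hχ, Nat.choose_succ_succ', pow_succ]
    push_cast
    ring
  have hχ0 : χ 0 = 0 := by simp [hχ]
  have iff1 : ∀ g : ℤ, (∀ n ∈ Finset.Icc 1 N, g ∣ χ n) ↔
      ∀ n ∈ Finset.Icc 1 N, g ∣ ((d' + 1).choose n : ℤ) := by
    intro g
    constructor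
    · intro h n hn
      obtain ⟨hn1, hnN⟩ := Finset.mem_Icc.1 hn
      obtain ⟨m, rfl⟩ := Nat.exists_eq_succ_of_ne_zero (show n ≠ 0 by omega)
      have h0 : g ∣ χ m := by
        rcases Nat.eq_zero_or_pos m with rfl | hm
        · rw [hχ0]; exact dvd_zero _
        · exact h m (Finset.mem_Icc.2 ⟨hm, by omega⟩)
      have h1 := h (m + 1) hn
      rw [hrec, dvd_add_right h0] at h1
      exact (IsUnit.dvd_mul_left ((isUnit_one.neg).pow m)).1 h1
    · intro h n
      induction n with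
      | zero => intro hn; simp at hn
      | succ m ih =>
        intro hn
        obtain ⟨-, hnN⟩ := Finset.mem_Icc.1 hn
        rw [hrec]
        refine dvd_add ?_ (Dvd.dvd.mul_left (h _ hn) _)
        rcases Nat.eq_zero_or_pos m with rfl | hm
        · rw [hχ0]; exact dvd_zero _
        · exact ih (Finset.mem_Icc.2 ⟨hm, by omega⟩)
  refine dvd_antisymm_of_normalize_eq Finset.normalize_gcd Finset.normalize_gcd ?_ ?_
  · refine Finset.dvd_gcd fun δ hδ => ?_
    have h := (iff1 _).1 fun n hn => (Finset.gcd_dvd hn :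
      (Finset.Icc 1 N).gcd χ ∣ χ n)
    have h' := (dvd_choose_all_iff (d' + 1) N _ (by omega)).1
      (fun n hn => Int.natAbs_dvd_natAbs.2 (h n hn)) δ hδ
    exact Int.natAbs_dvd.1 (Int.natCast_dvd_natCast.2 h')
  · refine Finset.dvd_gcd fun n hn => (iff1 _).2 (fun n hn => ?_) n hn
    have h := (dvd_choose_all_iff (d' + 1) N
      (((Finset.Icc 1 N).filter (fun δ => δ ∣ d' + 1)).gcd
        (fun δ => (((d' + 1) / δ : ℕ) : ℤ))).natAbs (by omega)).2
      (fun δ hδ => Int.natAbs_dvd_natAbs.2 (Finset.gcd_dvd hδ :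
        ((Finset.Icc 1 N).filter (fun δ => δ ∣ d' + 1)).gcd
          (fun δ => (((d' + 1) / δ : ℕ) : ℤ)) ∣ (((d' + 1) / δ : ℕ) : ℤ))) n hn
    exact Int.natAbs_dvd.1 (Int.natCast_dvd_natCast.2 h)

end Groth.Agent.S17781
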