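import Groth.Statements.S19920
import Groth.Agent.Lib.ModelFibre.Stalk
import Groth.Agent.Lib.ModelFibre.MaxPoint
import Groth.Agent.Lib.ModelFibre.Multisection
import Groth.Agent.Lib.ModelFibre.Points

set_option autoImplicit false
universe u
open CategoryTheory CategoryTheory.Limits AlgebraicGeometry
open Models
open scoped TensorProduct

namespace Groth.Agent.S19920

/-- Let R be a discrete valuation ring that is Henselian, whose residue field k is algebraically closed,
with fraction field K, and let 𝒳 be an R-scheme of finite type, flat over R, whose generic fibre is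
X (𝒳 is a model of the K-scheme X) and special fibre Y = 𝒳 ⊗_R k. Then the index of X over K (the
greatest common divisor of the degrees of its closed points) divides the multiplicity of Y (the
greatest common divisor of the lengths of the local rings of Y at its points of codimension 0): for
every point η of Y which is maximal for specialization, the local ring O_{Y,η} has finite length ℓ
and ℓ lies in the subgroup of ℤ generated by the degrees of the closed points of X. -/
theorem result (R : Type u) [CommRing R]
    [IsDomain R] [IsDiscreteValuationRing R] [HenselianLocalRing R] (hk : IsAlgClosed (IsLocalRing.ResidueField R))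
    (X : Scheme.{u}) (f : X ⟶ Spec (CommRingCat.of (FractionRing R)))
    (𝒳 : Scheme.{u}) (p : 𝒳 ⟶ Spec (CommRingCat.of R)) (h𝒳 : Models.IsModel R 𝒳 p X f)
    (η : ↥(Models.specialFibre R 𝒳 p)) (hη : ∀ y : ↥(Models.specialFibre R 𝒳 p), y ⤳ η → y = η) :
    ∃ ℓ : ℕ, Module.length ((Models.specialFibre R 𝒳 p).presheaf.stalk η) ((Models.specialFibre R 𝒳 p).presheaf.stalk η) = ℓ ∧
      (ℓ : ℤ) ∈ Curv2.indexSubgroup f := by
  obtain ⟨hflat, hlft, -, g, hg⟩ := h𝒳
  have : LocallyOfFiniteType f := MorphismProperty.of_isPullback hg inferInstance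
  set φk : R →+* IsLocalRing.ResidueField R := algebraMap R (IsLocalRing.ResidueField R) with hφk
  have hs : IsPullback (pullback.fst p (Spec.map (CommRingCat.ofHom φk)))
      (pullback.snd p (Spec.map (CommRingCat.ofHom φk))) p (Spec.map (CommRingCat.ofHom φk)) :=
    IsPullback.of_hasPullback _ _
  have hφ : Function.Surjective φk := IsLocalRing.residue_surjective
  have hker : RingHom.ker φk = IsLocalRing.maximalIdeal R := IsLocalRing.ker_residue
  set x : 𝒳 := pullback.fst p (Spec.map (CommRingCat.ofHom φk)) η with hxdef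
  obtain ⟨_, ⟨U, hU, rfl⟩, hx, -⟩ :=
    𝒳.isBasis_affineOpens.exists_subset_of_mem_open (Set.mem_univ x) isOpen_univ
  have : IsOpenImmersion hU.fromSpec := hU.isOpenImmersion_fromSpec
  let A := Γ(𝒳, U)
  set α : CommRingCat.of R ⟶ A := Spec.preimage (hU.fromSpec ≫ p) with hα
  letI : Algebra R A := α.hom.toAlgebra
  have : Algebra.FiniteType R A := by
    show α.hom.FiniteType
    rw [← HasRingHomProperty.Spec_iff (P := @LocallyOfFiniteType), Spec.map_preimage]
    infer_instance
  have : Module.Flat R A := by
    show α.hom.Flat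
    rw [← HasRingHomProperty.Spec_iff (P := @Flat), Spec.map_preimage]
    infer_instance
  let S := 𝒳.presheaf.stalk x
  letI : Algebra A S := (𝒳.presheaf.germ U x hx).hom.toAlgebra
  set P := (hU.primeIdealOf ⟨x, hx⟩).asIdeal with hPdef
  have hloc : IsLocalization.AtPrime S P := hU.isLocalization_stalk ⟨x, hx⟩
  have hbase : Groth.Agent.Lib.ModelFibre.Stalk.baseHom p x = (algebraMap A S).comp (algebraMap R A) := by
    have h : CommRingCat.ofHom (Groth.Agent.Lib.ModelFibre.Stalk.baseHom p x) =
        α ≫ 𝒳.presheaf.germ U x hx := by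
      apply Spec.map_injective
      rw [← Groth.Agent.Lib.ModelFibre.Stalk.fromSpecStalk_comp, Spec.map_comp, hα, Spec.map_preimage,
        ← hU.fromSpecStalk_eq_fromSpecStalk hx]
      exact Category.assoc _ _ _
    exact congrArg CommRingCat.Hom.hom h
  set I := (IsLocalRing.maximalIdeal R).map (algebraMap R A) with hI
  let AP := Localization.AtPrime P
  set I' := I.map (algebraMap A AP) with hI'
  let e1 : S ≃ₐ[A] AP := IsLocalization.algEquiv P.primeCompl S AP
  have hI'' : I' = ((RingHom.ker φk).map (Groth.Agent.Lib.ModelFibre.Stalk.baseHom p x)).map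
      (e1.toRingEquiv : S →+* AP) := by
    rw [hker, hbase, ← Ideal.map_map, Ideal.map_map (I := I)]
    exact congrArg (fun g => I.map g) (RingHom.ext fun a => (e1.commutes a).symm)
  let E : (AP ⧸ I') ≃+* (Models.specialFibre R 𝒳 p).presheaf.stalk η :=
    (Ideal.quotientEquiv _ _ e1.toRingEquiv hI'').symm.trans
      (Groth.Agent.Lib.ModelFibre.Stalk.quotientEquiv φk hφ hs η)
  have hsub : Subsingleton (PrimeSpectrum (AP ⧸ I')) := by
    have := Groth.Agent.Lib.ModelFibre.MaxPoint.subsingleton_primeSpectrum hη
    exact (PrimeSpectrum.comap_injective_of_surjective E.symm.toRingHom E.symm.surjective).subsingleton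
  have hI'le : I' ≤ IsLocalRing.maximalIdeal AP := IsLocalRing.le_maximalIdeal fun h => by
    have : Subsingleton (AP ⧸ I') := Ideal.Quotient.subsingleton_iff.2 h
    have := E.symm.toEquiv.subsingleton
    exact not_subsingleton ((Models.specialFibre R 𝒳 p).presheaf.stalk η) this
  have hP : I ≤ P := by
    rw [← IsLocalization.AtPrime.comap_maximalIdeal AP P, ← Ideal.map_le_iff_le_comap]
    exact hI'le
  have hmin : ∀ q : Ideal A, q.IsPrime → I ≤ q → q ≤ P → q = P := by
    intro q hq hIq hqP
    have hd : Disjoint (P.primeCompl : Set A) q := Set.disjoint_left.2 fun a ha haq => ha (hqP haq)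
    have hq' : (q.map (algebraMap A AP)).IsPrime :=
      IsLocalization.isPrime_of_isPrime_disjoint P.primeCompl _ _ hq hd
    have hrange : ∀ J : PrimeSpectrum AP, I' ≤ J.asIdeal →
        J ∈ Set.range (PrimeSpectrum.comap (Ideal.Quotient.mk I')) := fun J hJ => by
      rw [range_comap_of_surjective _ _ Ideal.Quotient.mk_surjective, Ideal.mk_ker]
      exact hJ
    obtain ⟨r₁, hr₁⟩ := hrange ⟨_, hq'⟩ (Ideal.map_mono hIq)
    obtain ⟨r₂, hr₂⟩ := hrange (IsLocalRing.closedPoint AP) hI'le
    have h : q.map (algebraMap A AP) = IsLocalRing.maximalIdeal AP :=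
      congrArg PrimeSpectrum.asIdeal (hr₁.symm.trans ((Subsingleton.elim r₁ r₂) ▸ hr₂))
    rw [← IsLocalization.under_map_of_isPrime_disjoint P.primeCompl AP hq hd, h]
    exact IsLocalization.AtPrime.under_maximalIdeal AP P
  obtain ⟨ℓ, B, _, _, φB, hφB, hBfin, hBfree, hBrank, hlen⟩ :=
    Groth.Agent.Lib.ModelFibre.Multisection.exists_finite_free_quotient P hP hmin
  refine ⟨ℓ, ?_, ?_⟩
  · rw [← hlen]
    let Y := (Models.specialFibre R 𝒳 p).presheaf.stalk η
    letI : Algebra AP Y := (E.toRingHom.comp (Ideal.Quotient.mk I')).toAlgebra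
    have hsurj : Function.Surjective (algebraMap AP Y) := E.surjective.comp Ideal.Quotient.mk_surjective
    rw [← Module.length_eq_of_surjective (R := Y) (M := Y) hsurj]
    let eY : (AP ⧸ I') ≃ₗ[AP] Y :=
      { E with
        map_smul' := fun a z => by
          obtain ⟨z, rfl⟩ := Ideal.Quotient.mk_surjective z
          show E (Ideal.Quotient.mk I' (a * z)) = E (Ideal.Quotient.mk I' a) * E (Ideal.Quotient.mk I' z)
          rw [map_mul, map_mul] }
    exact eY.symm.length_eq
  · let K := FractionRing R
    have : Module.Finite K (TensorProduct R K B) := inferInstance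
    rw [← hBrank, ← Module.finrank_baseChange (R := K) (S := R) (M' := B)]
    refine Groth.Agent.Lib.ModelFibre.Points.finrank_mem (Curv2.indexSubgroup f) fun Q hQ => ?_
    letI : Field (TensorProduct R K B ⧸ Q) := Ideal.Quotient.field Q
    let ψ : A →+* TensorProduct R K B ⧸ Q :=
      ((Ideal.Quotient.mk Q).comp
        (Algebra.TensorProduct.includeRight (R := R) (A := K) (B := B)).toRingHom).comp φB.toRingHom
    have hψ : ψ.comp (algebraMap R A) = (algebraMap K (TensorProduct R K B ⧸ Q)).comp (algebraMap R K) :=
      RingHom.ext fun r => by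
        show Ideal.Quotient.mk Q
          (Algebra.TensorProduct.includeRight (R := R) (A := K) (B := B) (φB (algebraMap R A r))) = _
        rw [φB.commutes, AlgHom.commutes]
        exact ((Ideal.Quotient.mk_algebraMap _ _ r).trans
          (IsScalarTower.algebraMap_apply R K (TensorProduct R K B ⧸ Q) r))
    refine Groth.Agent.Lib.ModelFibre.Points.finrank_mem_indexSubgroup f g hU.fromSpec ψ ?_
      (hg.lift (Spec.map (CommRingCat.ofHom ψ) ≫ hU.fromSpec)
        (Spec.map (CommRingCat.ofHom (algebraMap K (TensorProduct R K B ⧸ Q)))) ?_)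
      (hg.lift_snd _ _ _) (hg.lift_fst _ _ _)
    · rw [eq_top_iff]
      intro z _
      obtain ⟨z, rfl⟩ := Ideal.Quotient.mk_surjective z
      induction z using TensorProduct.induction_on with
      | zero => rw [map_zero]; exact Subring.zero_mem _
      | add a b ha hb => rw [map_add]; exact Subring.add_mem _ (ha trivial) (hb trivial)
      | tmul c b =>
        obtain ⟨a, rfl⟩ := hφB b
        have h : (c ⊗ₜ[R] φB a : TensorProduct R K B) =
            algebraMap K (TensorProduct R K B) c * (1 ⊗ₜ[R] φB a) := by
          simp [Algebra.TensorProduct.algebraMap_apply]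
        rw [h, map_mul]
        exact Subring.mul_mem _
          (Subring.subset_closure (Or.inr ⟨c, rfl⟩)) (Subring.subset_closure (Or.inl ⟨a, rfl⟩))
    · rw [Category.assoc, ← Spec.map_preimage (hU.fromSpec ≫ p), ← hα, ← Spec.map_comp, ← Spec.map_comp]
      exact congrArg Spec.map (CommRingCat.hom_ext hψ)

end Groth.Agent.S19920
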