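import Groth.Statements.S17784
import Groth.Agent.H21.EulerDvd.Main
import Groth.Agent.H21.EulerDvd.Root
import Groth.Agent.S19920
-- import your own Groth.Agent.* helpers here

set_option autoImplicit false
universe u
open CategoryTheory CategoryTheory.Limits AlgebraicGeometry
open Variety

namespace Groth.Agent.S17784

/-- Suppose R is a discrete valuation ring that is Henselian, whose residue field is algebraically
closed, and write K for its fraction field; let X be a regular proper K-scheme which admits a
regular proper model over R (a flat finite-type R-scheme, proper over R and with all local rings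
regular, whose generic fibre is X). Then the index of X over K divides χ(X, O_X): the Euler
characteristic of the structure sheaf lies in the subgroup of ℤ generated by the degrees of the
closed points of X. -/
theorem result (R : Type u) [CommRing R]
    [IsDomain R] [IsDiscreteValuationRing R] [HenselianLocalRing R] (hk : IsAlgClosed (IsLocalRing.ResidueField R))
    (X : Scheme.{u}) [X.Over (Spec (CommRingCat.of (FractionRing R)))] [IsProper (X ↘ Spec (CommRingCat.of (FractionRing R)))] (hXreg : Models.IsRegularScheme X)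
    (𝒳 : Scheme.{u}) (p : 𝒳 ⟶ Spec (CommRingCat.of R)) (h𝒳 : Models.IsRegularProperModel R 𝒳 p X (X ↘ Spec (CommRingCat.of (FractionRing R)))) :
    Curv2.euler (FractionRing R) X (Coh.structureModule X) ∈ Curv2.indexSubgroup (X ↘ Spec (CommRingCat.of (FractionRing R))) := by
  obtain ⟨hmodel, hproper, hreg⟩ := h𝒳
  obtain ⟨hflat, hlft, -, g, hg⟩ := hmodel
  haveI := hproper
  haveI := hflat
  haveI := hlft
  haveI : IsLocallyNoetherian 𝒳 := LocallyOfFiniteType.isLocallyNoetherian p
  set f := X ↘ Spec (CommRingCat.of (FractionRing R))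
  set H := Curv2.indexSubgroup f with hH
  set e := Curv2.euler (FractionRing R) X (Coh.structureModule X)
  obtain ⟨π, hπ⟩ := IsDiscreteValuationRing.exists_irreducible R
  obtain ⟨a, ha⟩ := Int.subgroup_cyclic H
  rw [← AddSubgroup.zmultiples_eq_closure] at ha
  have hmult : ∀ (y : 𝒳), p y = IsLocalRing.closedPoint R →
      (∀ z : 𝒳, p z = IsLocalRing.closedPoint R → z ⤳ y → z = y) →
      ∀ k : ℕ, Ring.ord (𝒳.presheaf.stalk y) (Groth.Agent.Lib.ModelFibre.Stalk.baseHom p y π) = k →
        (k : ℤ) ∈ H := by
    intro y hy hymax k hk'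
    set φk : R →+* IsLocalRing.ResidueField R := algebraMap R (IsLocalRing.ResidueField R) with hφk
    have hs : IsPullback (pullback.fst p (Spec.map (CommRingCat.ofHom φk)))
        (pullback.snd p (Spec.map (CommRingCat.ofHom φk))) p (Spec.map (CommRingCat.ofHom φk)) :=
      IsPullback.of_hasPullback _ _
    have hφ : Function.Surjective φk := IsLocalRing.residue_surjective
    have : IsClosedImmersion (Spec.map (CommRingCat.ofHom φk)) :=
      IsClosedImmersion.spec_of_surjective _ hφ
    have : IsClosedImmersion (pullback.fst p (Spec.map (CommRingCat.ofHom φk))) :=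
      MorphismProperty.of_isPullback hs.flip inferInstance
    have hker : RingHom.ker φk = IsLocalRing.maximalIdeal R := IsLocalRing.ker_residue
    have hrange : Set.range (pullback.fst p (Spec.map (CommRingCat.ofHom φk))) =
        p ⁻¹' {IsLocalRing.closedPoint R} := by
      rw [Scheme.Pullback.range_fst]
      congr 1
      show Set.range (PrimeSpectrum.comap φk) = _
      rw [range_comap_of_surjective _ _ hφ, hker]
      ext z
      simp only [PrimeSpectrum.mem_zeroLocus, SetLike.coe_subset_coe, Set.mem_singleton_iff]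
      refine ⟨fun h => PrimeSpectrum.ext (le_antisymm (IsLocalRing.le_maximalIdeal z.2.ne_top) h),
        fun h => h ▸ le_rfl⟩
    obtain ⟨η, hη⟩ : y ∈ Set.range (pullback.fst p (Spec.map (CommRingCat.ofHom φk))) := by
      rw [hrange]; exact hy
    subst hη
    have hηmax : ∀ z : ↥(Models.specialFibre R 𝒳 p), z ⤳ η → z = η := by
      intro z hz
      refine (pullback.fst p (Spec.map (CommRingCat.ofHom φk))).isClosedEmbedding.injective ?_
      refine hymax _ ?_ (hz.map (pullback.fst p (Spec.map (CommRingCat.ofHom φk))).continuous)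
      exact (hrange ▸ Set.mem_range_self z : _ ∈ p ⁻¹' {IsLocalRing.closedPoint R})
    obtain ⟨ℓ, hℓ, hℓH⟩ := Groth.Agent.S19920.result R hk X f 𝒳 p ⟨hflat, hlft, inferInstance, g, hg⟩ η hηmax
    suffices k = ℓ by rw [this]; exact hℓH
    set x := pullback.fst p (Spec.map (CommRingCat.ofHom φk)) η
    let S := 𝒳.presheaf.stalk x
    let J : Ideal S := (RingHom.ker φk).map (Groth.Agent.Lib.ModelFibre.Stalk.baseHom p x)
    have hJ : J = Ideal.span {Groth.Agent.Lib.ModelFibre.Stalk.baseHom p x π} := by
      simp only [J, hker, hπ.maximalIdeal_eq, Ideal.map_span, Set.image_singleton]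
      rfl
    let E : (S ⧸ J) ≃+* (Models.specialFibre R 𝒳 p).presheaf.stalk η :=
      Groth.Agent.Lib.ModelFibre.Stalk.quotientEquiv φk hφ hs η
    let Y := (Models.specialFibre R 𝒳 p).presheaf.stalk η
    letI : Algebra S Y := (E.toRingHom.comp (Ideal.Quotient.mk J)).toAlgebra
    have hsurj : Function.Surjective (algebraMap S Y) := E.surjective.comp Ideal.Quotient.mk_surjective
    let eY : (S ⧸ J) ≃ₗ[S] Y :=
      { E with
        map_smul' := fun a z => by
          obtain ⟨z, rfl⟩ := Ideal.Quotient.mk_surjective z
          show E (Ideal.Quotient.mk J (a * z)) = E (Ideal.Quotient.mk J a) * E (Ideal.Quotient.mk J z)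
          rw [map_mul, map_mul] }
    have h1 : Module.length S Y = (ℓ : ℕ∞) := by
      rw [Module.length_eq_of_surjective (R := Y) (S := S) (M := Y) hsurj]; exact hℓ
    have h2 : Ring.ord S (Groth.Agent.Lib.ModelFibre.Stalk.baseHom p x π) = (ℓ : ℕ∞) := by
      rw [Ring.ord, ← hJ, eY.length_eq, h1]
    exact ENat.coe_inj.1 (hk'.symm.trans h2)
  have hdvd : ∀ n : ℕ, 1 ≤ n → (∀ k : ℕ, (k : ℤ) ∈ H → n ∣ k) → (n : ℤ) ∣ e := by
    intro n hn hnH
    obtain ⟨I, hI, hIn⟩ := Groth.Agent.H21.EulerDvd.exists_effCartier_pow_eq p hreg hπ n hn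
      fun y hy hymax k hk' => hnH k (hmult y hy hymax k hk')
    haveI : IsProper (Over.mk p).hom := hproper
    haveI : Flat (Over.mk p).hom := hflat
    exact Groth.Agent.H21.EulerDvd.dvd_euler (Over.mk p) I hI n hn hIn hg
  rw [ha, Int.mem_zmultiples_iff]
  by_cases ha0 : a = 0
  · have := hdvd (e.natAbs + 1) (by omega) fun k hkH => by
      rw [ha, Int.mem_zmultiples_iff, ha0, zero_dvd_iff, Nat.cast_eq_zero] at hkH
      subst hkH
      exact dvd_zero _
    rw [Int.eq_zero_of_dvd_of_natAbs_lt_natAbs this (by omega)]
    exact dvd_zero a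
  · have := hdvd a.natAbs (Int.natAbs_pos.2 ha0) fun k hkH => by
      rw [ha, Int.mem_zmultiples_iff] at hkH
      exact Int.natCast_dvd_natCast.1 (Int.natAbs_dvd.2 hkH)
    exact Int.natAbs_dvd.1 this

end Groth.Agent.S17784
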