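import Groth.Statements.S17788
import Groth.Agent.H99.PurityNormal
import Groth.Agent.H99.PureLift
import Groth.Agent.H99.CplNormal
import Groth.Agent.Lib.Purity.Local

set_option autoImplicit false
set_option linter.style.haveILetI false
set_option backward.isDefEq.respectTransparency false
universe u
open CategoryTheory CategoryTheory.Limits AlgebraicGeometry
open Pi1

namespace Groth.Agent.S17788

/-- A local ring whose spectrum is pure at the closed point has nonempty punctured spectrum. -/
theorem exists_ne_closedPoint (T : Type u) [CommRing T] [IsNoetherianRing T] [IsLocalRing T]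
    (h : (FEt.restrict (FEt.puncturedSpec T).ι).IsEquivalence) :
    ∃ p : PrimeSpectrum T, p ≠ IsLocalRing.closedPoint T := by
  by_contra hc
  let U := FEt.puncturedSpec T
  haveI : IsEmpty ↥(U : Scheme.{u}) := ⟨fun x => x.2 (not_not.mp fun hx => hc ⟨_, hx⟩)⟩
  haveI := h
  let X : FEt.Cat (Spec (CommRingCat.of T)) := MorphismProperty.Over.mk ⊤ (𝟙 _) ⟨inferInstance, inferInstance⟩
  let E : FEt.Cat (Spec (CommRingCat.of T)) := MorphismProperty.Over.mk ⊤
    (AlgebraicGeometry.Scheme.emptyTo (Spec (CommRingCat.of T))) ⟨inferInstance, inferInstance⟩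
  haveI : IsEmpty ((FEt.restrict U.ι).obj X).left := Function.isEmpty (β := ↥(U : Scheme.{u})) ((FEt.restrict U.ι).obj X).hom.base
  haveI : IsEmpty ((FEt.restrict U.ι).obj E).left := Function.isEmpty (β := ↥(U : Scheme.{u})) ((FEt.restrict U.ι).obj E).hom.base
  let φ : ((FEt.restrict U.ι).obj X) ⟶ ((FEt.restrict U.ι).obj E) :=
    MorphismProperty.Over.homMk (isInitialOfIsEmpty.to _) (isInitialOfIsEmpty.hom_ext _ _) trivial
  exact IsEmpty.false (α := ↥(∅ : Scheme.{u})) (((FEt.restrict U.ι).preimage φ).left.base (IsLocalRing.closedPoint T))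

/-- A noetherian local ring and its completion have the same residue field. -/
theorem residueMap_bijective (R : Type u) [CommRing R] [IsLocalRing R] [IsNoetherianRing R]
    [IsLocalHom (algebraMap R (EGA4.Cpl R))] :
    Function.Bijective (IsLocalRing.ResidueField.map (algebraMap R (EGA4.Cpl R))) := by
  refine ⟨RingHom.injective _, fun x => ?_⟩
  obtain ⟨y, rfl⟩ := IsLocalRing.residue_surjective x
  obtain ⟨t, ht⟩ := Ideal.Quotient.mk_surjective (AdicCompletion.evalₐ (IsLocalRing.maximalIdeal R) 1 y)
  refine ⟨IsLocalRing.residue R t, ?_⟩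
  rw [IsLocalRing.ResidueField.map_residue]
  refine (Ideal.Quotient.mk_eq_mk_iff_sub_mem _ _).mpr ?_
  have h : algebraMap R (EGA4.Cpl R) t - y ∈ IsLocalRing.maximalIdeal (EGA4.Cpl R) ^ 1 := by
    rw [← H99.GaloisCpl.ker_eval, RingHom.mem_ker, map_sub, sub_eq_zero]
    exact ((AdicCompletion.evalₐ (IsLocalRing.maximalIdeal R) 1).commutes t).trans ht
  rwa [pow_one] at h

/-- Let A be an excellent normal local domain and r a natural number such that A is pure in codimension
at least r, in the sense that for every prime ideal P of A of height at least r the completion of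
the local ring A_P at its maximal ideal is pure (for every open V of its spectrum, restriction of
finite étale covers from V to the part of V outside the closed point is an equivalence of
categories). Let B be a normal domain which is a finite extension of A with injective structure map.
Then every prime ideal q of B which is minimal among the primes at which B is not unramified over A
(B_q not formally unramified over A) has height less than r. -/
theorem result (A : Type u) [CommRing A] [IsDomain A] [IsLocalRing A] [IsNoetherianRing A] [IsIntegrallyClosed A] (hA : EGA4.IsExcellent A) (r : ℕ) (hpure : ∀ (P : Ideal A) [P.IsPrime], (r : ℕ∞) ≤ P.height → SGA2.IsPurePair (Spec (CommRingCat.of (AdicCompletion (IsLocalRing.maximalIdeal (Localization.AtPrime P)) (Localization.AtPrime P)))) (FEt.puncturedSpec (AdicCompletion (IsLocalRing.maximalIdeal (Localization.AtPrime P)) (Localization.AtPrime P)))) (B : Type u) [CommRing B] [IsDomain B] [IsIntegrallyClosed B] [Algebra A B] [Module.Finite A B] (hinj : Function.Injective (algebraMap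 A B)) (q : Ideal B) [q.IsPrime] (hq : ¬ Algebra.IsUnramifiedAt A q) (hmin : ∀ (q' : Ideal B) [q'.IsPrime], q' ≤ q → ¬ Algebra.IsUnramifiedAt A q' → q' = q) : q.height < (r : ℕ∞) := by
  by_contra hlt
  have hle : (r : ℕ∞) ≤ q.height := le_of_not_gt hlt
  let P := q.under A
  have hP : (r : ℕ∞) ≤ P.height := hle.trans (Lib.Dim.Integral.height_le_height_under (R := A) q)
  let Ap := Localization.AtPrime P
  let Bq := Localization.AtPrime q
  haveI : IsDomain Ap := IsLocalization.isDomain_localization P.primeCompl_le_nonZeroDivisors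
  haveI : IsIntegrallyClosed Ap :=
    isIntegrallyClosed_of_isLocalization _ P.primeCompl P.primeCompl_le_nonZeroDivisors
  haveI : IsDomain Bq := IsLocalization.isDomain_localization q.primeCompl_le_nonZeroDivisors
  haveI : IsIntegrallyClosed Bq :=
    isIntegrallyClosed_of_isLocalization _ q.primeCompl q.primeCompl_le_nonZeroDivisors
  haveI : IsNoetherianRing B := IsNoetherianRing.of_finite A B
  haveI : IsNoetherianRing Bq := IsLocalization.isNoetherianRing q.primeCompl _ inferInstance
  haveI : FaithfulSMul A B := (faithfulSMul_iff_algebraMap_injective A B).mpr hinj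
  -- the semilocalization, finite over `Ap`
  let Bp := Localization (Algebra.algebraMapSubmonoid B P.primeCompl)
  haveI : Module.Finite Ap Bp := Module.Finite.of_isLocalization A B P.primeCompl
  have hMq : Algebra.algebraMapSubmonoid B P.primeCompl ≤ q.primeCompl := by
    rintro _ ⟨a, ha, rfl⟩
    exact ha
  let g : Bp →ₐ[B] Bq := IsLocalization.liftAlgHom (M := Algebra.algebraMapSubmonoid B P.primeCompl)
    (f := Algebra.ofId B Bq) fun y => IsLocalization.map_units Bq (⟨y.1, hMq y.2⟩ : q.primeCompl)
  letI : Algebra Bp Bq := g.toRingHom.toAlgebra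
  haveI : IsScalarTower B Bp Bq := IsScalarTower.of_algebraMap_eq fun x => (g.commutes x).symm
  let Q' : Ideal Bp := q.map (algebraMap B Bp)
  have hdisj : Disjoint (Algebra.algebraMapSubmonoid B P.primeCompl : Set B) (q : Set B) :=
    Set.disjoint_left.mpr fun y hy hyq => hMq hy hyq
  haveI : Q'.IsPrime := IsLocalization.isPrime_of_isPrime_disjoint _ _ q ‹_› hdisj
  have hQq : Q'.under B = q := IsLocalization.under_map_of_isPrime_disjoint _ Bp ‹q.IsPrime› hdisj
  have hQP : Q'.under Ap = IsLocalRing.maximalIdeal Ap := by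
    have h1 : (Q'.under Ap).under A = P := by
      rw [Ideal.under_under, ← Ideal.under_under (B := B), hQq]
    rw [← Localization.AtPrime.map_eq_maximalIdeal]
    exact (IsLocalization.map_under P.primeCompl Ap _).symm.trans (congrArg (Ideal.map _) h1)
  haveI : Q'.LiesOver (IsLocalRing.maximalIdeal Ap) := ⟨hQP.symm⟩
  haveI : Q'.IsMaximal := Ideal.isMaximal_of_isIntegral_of_isMaximal_comap (R := Ap) Q'
    (by rw [show Q'.comap (algebraMap Ap Bp) = _ from hQP]; infer_instance)
  haveI : IsLocalization.AtPrime Bq Q' := by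
    haveI := IsLocalization.isLocalization_of_submonoid_le (S := Bp) (T := Bq)
      (Algebra.algebraMapSubmonoid B P.primeCompl) q.primeCompl hMq
    refine IsLocalization.of_le (q.primeCompl.map (algebraMap B Bp)) Q'.primeCompl ?_ ?_
    · rintro _ ⟨y, hy, rfl⟩ hyQ
      exact hy (hQq ▸ hyQ : y ∈ q)
    · intro y hy
      obtain ⟨b, ⟨c, hc⟩, rfl⟩ := IsLocalization.exists_mk'_eq (Algebra.algebraMapSubmonoid B P.primeCompl) y
      have hb : b ∉ q := fun hb => hy ((IsLocalization.mk'_mem_iff (I := Q')).mpr (Ideal.mem_map_of_mem _ hb))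
      have h := IsLocalization.mk'_spec Bp b (⟨c, hc⟩ : Algebra.algebraMapSubmonoid B P.primeCompl)
      replace h := congrArg (algebraMap Bp Bq) h
      rw [map_mul, ← IsScalarTower.algebraMap_apply B Bp Bq, ← IsScalarTower.algebraMap_apply B Bp Bq] at h
      exact isUnit_of_mul_isUnit_left (h ▸ IsLocalization.map_units Bq (⟨b, hb⟩ : q.primeCompl))
  -- completions
  let f0 := Localization.localRingHom P q (algebraMap A B) rfl
  have hgA : ∀ r : Ap, algebraMap Bp Bq (algebraMap Ap Bp r) = f0 r := fun r => RingHom.congr_fun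
    (show (algebraMap Bp Bq).comp (algebraMap Ap Bp) = f0 from
      IsLocalization.ringHom_ext P.primeCompl (RingHom.ext fun a => by
        show algebraMap Bp Bq (algebraMap Ap Bp (algebraMap A Ap a)) = f0 (algebraMap A Ap a)
        rw [← IsScalarTower.algebraMap_apply A Ap Bp, Localization.localRingHom_to_map,
          IsScalarTower.algebraMap_apply A B Bp, ← IsScalarTower.algebraMap_apply B Bp Bq])) r
  have hf0 : IsLocalRing.maximalIdeal Ap ≤ (IsLocalRing.maximalIdeal Bq).comap f0 :=
    fun z hz hu => hz (isUnit_of_map_unit f0 z hu)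
  let φ : EGA4.Cpl Ap →+* EGA4.Cpl Bq := H99.CplSpan.map f0 hf0
  have hφ : ∀ r, φ (algebraMap Ap _ r) = algebraMap Bq _ (f0 r) := H99.CplSpan.map_algebraMap f0 hf0
  let T := EGA4.Cpl Ap
  let S := EGA4.Cpl Bq
  letI : Algebra T S := φ.toAlgebra
  obtain ⟨gs, hgs⟩ := (Module.finite_def (R := Ap) (M := Bp)).mp inferInstance
  have hspan := fun x => H99.CplSpan.exists_sum Ap Bp Bq Q' φ
    (fun r => by rw [hφ, hgA]) gs hgs x
  haveI : Module.Finite T S := by
    classical
    refine ⟨⟨gs.image fun e => algebraMap Bq S (algebraMap Bp Bq e), eq_top_iff.mpr fun x _ => ?_⟩⟩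
    obtain ⟨Lc, rfl⟩ := hspan x
    refine Submodule.sum_mem _ fun e _ => ?_
    rw [show φ (Lc e) * algebraMap Bq S (algebraMap Bp Bq e.1) = Lc e • algebraMap Bq S (algebraMap Bp Bq e.1) from
      (Algebra.smul_def _ _).symm]
    exact Submodule.smul_mem _ _ (Submodule.subset_span (by
      rw [Finset.coe_image]; exact ⟨e.1, e.2, rfl⟩))
  haveI : Algebra.EssFiniteType B Bq := Algebra.EssFiniteType.of_isLocalization Bq q.primeCompl
  haveI : Algebra.EssFiniteType A Bq := Algebra.EssFiniteType.comp A B Bq
  haveI : Algebra.EssFiniteType A Ap := Algebra.EssFiniteType.of_isLocalization Ap P.primeCompl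
  obtain ⟨_, _⟩ := H99.CplNormal.isDomain_and_isIntegrallyClosed A hA.2.2.1 Ap
  obtain ⟨_, _⟩ := H99.CplNormal.isDomain_and_isIntegrallyClosed A hA.2.2.1 Bq
  haveI : IsNoetherianRing Ap := IsLocalization.isNoetherianRing P.primeCompl _ inferInstance
  have hmAp : IsLocalRing.maximalIdeal Ap ≠ ⊤ := (IsLocalRing.maximalIdeal.isMaximal _).ne_top
  have hmBq : IsLocalRing.maximalIdeal Bq ≠ ⊤ := (IsLocalRing.maximalIdeal.isMaximal _).ne_top
  have hφinj : Function.Injective (algebraMap T S) := by
    refine H99.CplNormal.injective_of_ringKrullDim_eq _ _ ?_ ?_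
    · show ringKrullDim (AdicCompletion (IsLocalRing.maximalIdeal Ap) Ap) ≠ _
      rw [Lib.Regular.Completion.ringKrullDim_eq (IsLocalRing.maximalIdeal Ap) hmAp]
      exact ringKrullDim_ne_top
    · show ringKrullDim (AdicCompletion (IsLocalRing.maximalIdeal Bq) Bq) =
        ringKrullDim (AdicCompletion (IsLocalRing.maximalIdeal Ap) Ap)
      rw [Lib.Regular.Completion.ringKrullDim_eq (IsLocalRing.maximalIdeal Ap) hmAp,
        Lib.Regular.Completion.ringKrullDim_eq (IsLocalRing.maximalIdeal Bq) hmBq,
        IsLocalization.AtPrime.ringKrullDim_eq_height q Bq, IsLocalization.AtPrime.ringKrullDim_eq_height P Ap,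
        Lib.Dim.Integral.height_eq_height_under (R := A) q]
  -- `A → S` through `T`
  haveI : IsScalarTower A B S := IsScalarTower.of_algebraMap_eq fun a => by
    rw [IsScalarTower.algebraMap_apply A Bq S, IsScalarTower.algebraMap_apply B Bq S,
      IsScalarTower.algebraMap_apply A B Bq]
  haveI : IsScalarTower A T S := IsScalarTower.of_algebraMap_eq fun a => by
    show algebraMap A S a = φ (algebraMap A T a)
    rw [IsScalarTower.algebraMap_apply A Bq S, IsScalarTower.algebraMap_apply A Ap T, hφ,
      Localization.localRingHom_to_map, ← IsScalarTower.algebraMap_apply A B Bq]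
  -- generated by the image of `B`
  have hgen : ∀ c : S, ∃ d ∈ Algebra.adjoin T (Set.range (algebraMap B S)),
      IsUnit d ∧ c * d ∈ Algebra.adjoin T (Set.range (algebraMap B S)) := fun c => by
    obtain ⟨Lc, rfl⟩ := hspan c
    refine ⟨1, one_mem _, isUnit_one, ?_⟩
    rw [mul_one]
    refine sum_mem fun e _ => mul_mem (Subalgebra.algebraMap_mem _ (Lc e)) ?_
    obtain ⟨b, ⟨_, a, ha, rfl⟩, he⟩ := IsLocalization.exists_mk'_eq (Algebra.algebraMapSubmonoid B P.primeCompl) e.1
    have hu : IsUnit (algebraMap A T a) := by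
      rw [IsScalarTower.algebraMap_apply A Ap T]
      exact (IsLocalization.map_units Ap (⟨a, ha⟩ : P.primeCompl)).map (algebraMap Ap T)
    obtain ⟨u, hu⟩ := hu.exists_right_inv
    have h1 : algebraMap Bq S (algebraMap Bp Bq e.1) * algebraMap B S (algebraMap A B a) = algebraMap B S b := by
      rw [IsScalarTower.algebraMap_apply B Bq S, IsScalarTower.algebraMap_apply B Bq S b, ← map_mul, IsScalarTower.algebraMap_apply B Bp Bq, IsScalarTower.algebraMap_apply B Bp Bq, ← map_mul,
        ← he, IsLocalization.mk'_spec]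
    have h2 : algebraMap Bq S (algebraMap Bp Bq e.1) = algebraMap B S b * algebraMap T S u := by
      rw [← h1, ← IsScalarTower.algebraMap_apply A B S, IsScalarTower.algebraMap_apply A T S, mul_assoc,
        ← map_mul, hu, map_one, mul_one]
    rw [h2]
    exact mul_mem (Algebra.subset_adjoin ⟨b, rfl⟩) (Subalgebra.algebraMap_mem _ _)
  -- unramified away from the closed point
  haveI : IsLocalHom (algebraMap Bq S) := by
    refine ⟨fun z hz => by_contra fun hzu => ?_⟩
    have h := (H99.GaloisCpl.of_mem_pow_iff Bq 1 z).mpr (by rwa [pow_one])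
    rw [pow_one] at h
    exact h hz
  haveI : IsLocalHom (algebraMap Ap T) := by
    refine ⟨fun z hz => by_contra fun hzu => ?_⟩
    have h := (H99.GaloisCpl.of_mem_pow_iff Ap 1 z).mpr (by rwa [pow_one])
    rw [pow_one] at h
    exact h hz
  have hmaxS : IsLocalRing.maximalIdeal S = (IsLocalRing.maximalIdeal Bq).map (algebraMap Bq S) :=
    AdicCompletion.maximalIdeal_eq_map
  have hunr : ∀ (Q : Ideal S) [Q.IsPrime], Q.under T ≠ IsLocalRing.maximalIdeal T →
      Algebra.IsUnramifiedAt T Q := by
    intro Q _ hQ
    let q1 := Q.under B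
    have hq1 : q1 ≤ q := fun b hb => by
      by_contra hbq
      exact ‹Q.IsPrime›.ne_top (Ideal.eq_top_of_isUnit_mem _ (show algebraMap B S b ∈ Q from hb)
        ((IsLocalization.map_units Bq (⟨b, hbq⟩ : q.primeCompl)).map (algebraMap Bq S)))
    have hne : q1 ≠ q := fun e => hQ (by
      have h1 : IsLocalRing.maximalIdeal S ≤ Q := by
        refine hmaxS.le.trans (Ideal.map_le_iff_le_comap.mpr ((Localization.AtPrime.map_eq_maximalIdeal (I := q)).ge.trans
          (Ideal.map_le_iff_le_comap.mpr fun b hb => ?_)))
        have hbQ : algebraMap B S b ∈ Q := e.ge hb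
        show algebraMap Bq S (algebraMap B Bq b) ∈ Q
        rwa [← IsScalarTower.algebraMap_apply B Bq S]
      have h2 : Q = IsLocalRing.maximalIdeal S :=
        ((IsLocalRing.maximalIdeal.isMaximal S).eq_of_le ‹Q.IsPrime›.ne_top h1).symm
      rw [h2]
      haveI := Ideal.isMaximal_comap_of_isIntegral_of_isMaximal (R := T) (IsLocalRing.maximalIdeal S)
      exact IsLocalRing.eq_maximalIdeal this)
    have hu : Algebra.IsUnramifiedAt A q1 := not_not.mp fun hn => hne (hmin q1 hq1 hn)
    have hs : (⟨q1, inferInstance⟩ : PrimeSpectrum B) ∉ Module.support B Ω[B⁄A] := fun hs =>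
      (Algebra.unramifiedLocus_eq_compl_support (R := A) (A := B)).le
        (show (⟨q1, inferInstance⟩ : PrimeSpectrum B) ∈ Algebra.unramifiedLocus A B from hu) hs
    rw [Module.support_eq_zeroLocus, PrimeSpectrum.mem_zeroLocus, Set.not_subset] at hs
    obtain ⟨s, hsann, hsq⟩ := hs
    have hk := Lib.Purity.Local.smul_kaehler_eq_zero (R := A) (A := T) S s
      (fun ω => Module.mem_annihilator.mp hsann ω) hgen
    show (⟨Q, inferInstance⟩ : PrimeSpectrum S) ∈ Algebra.unramifiedLocus T S
    rw [Algebra.unramifiedLocus_eq_compl_support, Set.mem_compl_iff, Module.notMem_support_iff']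
    exact fun ω => ⟨algebraMap B S s, hsq, hk ω⟩
  -- purity
  have hpair := H99.PureLift.restrict_of_isPurePair (A := T) (hpure P hP)
  obtain ⟨p, hp⟩ := exists_ne_closedPoint T hpair
  obtain ⟨f, hf, hfp⟩ : ∃ f ∈ IsLocalRing.maximalIdeal T, f ∉ p.asIdeal := by
    by_contra hc
    push Not at hc
    exact hp (PrimeSpectrum.ext ((IsLocalRing.maximalIdeal.isMaximal T).eq_of_le p.2.ne_top hc).symm)
  haveI : Algebra.Etale T S := H99.PurityNormal.etale_of_essSurj T S hφinj hpair.essSurj f hf
    (fun h => hfp (h ▸ zero_mem _)) hunr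
  -- descend
  haveI : IsLocalHom (algebraMap T S) := RingHom.IsIntegral.isLocalHom Algebra.IsIntegral.isIntegral hφinj
  letI : Algebra Ap Bq := f0.toAlgebra
  haveI : IsScalarTower A Ap Bq := IsScalarTower.of_algebraMap_eq fun a => by
    show _ = f0 (algebraMap A Ap a)
    rw [Localization.localRingHom_to_map, ← IsScalarTower.algebraMap_apply]
  haveI : Algebra.EssFiniteType Ap Bq := Algebra.EssFiniteType.of_comp A Ap Bq
  haveI : IsLocalHom (algebraMap Ap Bq) := inferInstanceAs (IsLocalHom f0)
  refine hq ?_
  suffices Algebra.FormallyUnramified Ap Bq by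
    haveI : Algebra.FormallyUnramified A Ap := Algebra.FormallyUnramified.of_isLocalization P.primeCompl
    exact Algebra.FormallyUnramified.comp A Ap Bq
  haveI : Algebra.IsSeparable (IsLocalRing.ResidueField Ap) (IsLocalRing.ResidueField Bq) := by
    let eT := RingEquiv.ofBijective _ (residueMap_bijective Ap)
    let eS := RingEquiv.ofBijective _ (residueMap_bijective Bq)
    have hres : Algebra.IsSeparable (IsLocalRing.ResidueField T) (IsLocalRing.ResidueField S) := inferInstance
    refine Algebra.IsSeparable.of_equiv_equiv eT.symm eS.symm (RingHom.ext fun z => ?_)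
    obtain ⟨z, rfl⟩ := eT.surjective z
    show algebraMap _ _ (eT.symm (eT z)) = eS.symm (algebraMap _ _ (eT z))
    rw [RingEquiv.symm_apply_apply, RingEquiv.eq_symm_apply]
    obtain ⟨z, rfl⟩ := IsLocalRing.residue_surjective z
    show IsLocalRing.residue S (algebraMap Bq S (f0 z)) = IsLocalRing.residue S (φ (algebraMap Ap T z))
    rw [hφ]
  refine Algebra.FormallyUnramified.of_map_maximalIdeal ?_
  haveI : Module.FaithfullyFlat Bq S := Module.FaithfullyFlat.of_flat_of_isLocalHom
  refine (Ideal.comap_map_eq_self_of_faithfullyFlat (B := S) ((IsLocalRing.maximalIdeal Ap).map (algebraMap Ap Bq))).symm.trans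
    ((congrArg (Ideal.comap (algebraMap Bq S)) ?_).trans
      (Ideal.comap_map_eq_self_of_faithfullyFlat (B := S) (IsLocalRing.maximalIdeal Bq)))
  rw [Ideal.map_map, show (algebraMap Bq S).comp (algebraMap Ap Bq) = φ.comp (algebraMap Ap T) from
    RingHom.ext fun z => (hφ z).symm, ← Ideal.map_map,
    ← show IsLocalRing.maximalIdeal T = (IsLocalRing.maximalIdeal Ap).map (algebraMap Ap T) from
      AdicCompletion.maximalIdeal_eq_map, ← hmaxS]
  exact Algebra.FormallyUnramified.map_maximalIdeal

end Groth.Agent.S17788
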