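import Groth.Statements.S2946
import Groth.Agent.H95.LefConn

set_option autoImplicit false
universe u
open CategoryTheory CategoryTheory.Limits AlgebraicGeometry
open Lef

namespace Groth.Agent.S2946

/-- Let X be a locally Noetherian scheme and 𝓘 a quasi-coherent ideal sheaf with Y = V(𝓘), and suppose
Lef(X, Y) holds (this prelude's Lef.LefCond). Then for every open U of X containing Y, Y is
connected if and only if U is connected. -/
theorem result (X : Scheme.{u}) [IsLocallyNoetherian X] (𝓘 : X.IdealSheafData) (h : Lef.LefCond X 𝓘) (U : X.Opens) (hU : (𝓘.support : Set X) ⊆ (U : Set X)) : ConnectedSpace (𝓘.support : Set X) ↔ ConnectedSpace U := by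
  have hJ := h U hU _ (H95.LefConn.isFinLocFree_structure _)
  have hs : ((𝓘.comap U.ι).support : Set (U : Scheme.{u})) = U.ι ⁻¹' (𝓘.support : Set X) :=
    congrArg SetLike.coe (𝓘.support_comap U.ι)
  have him : U.ι '' ((𝓘.comap U.ι).support : Set (U : Scheme.{u})) = (𝓘.support : Set X) := by
    rw [hs, Set.image_preimage_eq_inter_range, Scheme.Opens.range_ι]
    exact Set.inter_eq_left.mpr hU
  have hind : Topology.IsInducing U.ι := U.ι.isOpenEmbedding.isInducing
  rw [← isConnected_iff_connectedSpace, ← him]
  constructor
  · rintro ⟨hne, hc⟩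
    haveI : PreconnectedSpace (U : Scheme.{u}) := ⟨H95.LefConn.isPreconnected_univ_of_support _ hJ
      (hind.isPreconnected_image.mp hc)⟩
    haveI : Nonempty (U : Scheme.{u}) := hne.of_image.to_type
    exact ConnectedSpace.mk ‹_›
  · intro hc
    haveI : ConnectedSpace (U : Scheme.{u}) := hc
    refine ⟨Set.Nonempty.image _ ?_, hind.isPreconnected_image.mpr
      (H95.LefConn.isPreconnected_support_of_univ _ hJ isPreconnected_univ)⟩
    rw [Set.nonempty_iff_ne_empty]
    exact fun he => (H95.LefConn.isEmpty_of_support_empty _ hJ he).false (Classical.arbitrary _)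

end Groth.Agent.S2946
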