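import Groth.Statements.S17790
import Groth.Agent.S2946
import Groth.Agent.H99.PureLift
-- import your own Groth.Agent.* helpers here

set_option autoImplicit false
set_option backward.isDefEq.respectTransparency false
set_option linter.style.haveILetI false
universe u
open CategoryTheory CategoryTheory.Limits AlgebraicGeometry
open Pi1

namespace Groth.Agent.S17790

open AlgebraicGeometry CategoryTheory CategoryTheory.Limits in
/-- The punctured spectrum of a pure local ring is connected. -/
theorem connectedSpace_punctured (A : Type u) [CommRing A] [IsNoetherianRing A] [IsLocalRing A]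
    (hne : (FEt.puncturedSpec A : Set (Spec (CommRingCat.of A))).Nonempty)
    (h : (FEt.restrict (FEt.puncturedSpec A).ι).IsEquivalence) :
    ConnectedSpace ↥(FEt.puncturedSpec A : Scheme.{u}) := by
  let U := FEt.puncturedSpec A
  haveI : Nonempty ↥(U : Scheme.{u}) := hne.to_subtype
  refine @ConnectedSpace.mk _ _ (preconnectedSpace_iff_clopen.mpr fun W hW => ?_) inferInstance
  by_cases hW0 : W = ∅
  · exact Or.inl hW0
  refine Or.inr ?_
  let O : (U : Scheme.{u}).Opens := ⟨W, hW.isOpen⟩
  haveI : IsClosedImmersion O.ι := IsClosedImmersion.of_isPreimmersion _ (by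
    rw [Scheme.Opens.range_ι]; exact hW.isClosed)
  let V : FEt.Cat (U : Scheme.{u}) := MorphismProperty.Over.mk ⊤ O.ι ⟨inferInstance, inferInstance⟩
  obtain ⟨Y, ⟨e⟩⟩ := h.essSurj.mem_essImage V
  haveI : IsFinite Y.hom := Y.prop.1
  haveI : Etale Y.hom := Y.prop.2
  have hrange : W = U.ι.base ⁻¹' Set.range Y.hom.base := by
    have h1 : Set.range (pullback.snd Y.hom U.ι).base = W := by
      let el := (MorphismProperty.Over.forget _ _ _ ⋙ CategoryTheory.Over.forget _).mapIso e
      have h2 : el.hom ≫ O.ι = pullback.snd Y.hom U.ι := CategoryTheory.Over.w ((MorphismProperty.Over.forget _ _ _).map e.hom)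
      refine (congrArg (fun φ => Set.range φ.base) h2.symm).trans ?_
      refine Eq.trans (Set.range_comp O.ι.base el.hom.base) ?_
      rw [show Set.range el.hom.base = Set.univ from Set.range_eq_univ.2 el.hom.homeomorph.surjective]
      exact Set.image_univ.trans O.range_ι
    rw [← h1, Scheme.Pullback.range_snd]
    rfl
  have hop : IsOpen (Set.range Y.hom.base) := Y.hom.isOpenMap.isOpen_range
  have hcl : IsClosed (Set.range Y.hom.base) := Y.hom.isClosedMap.isClosed_range
  have hcp : (IsLocalRing.closedPoint A : Spec (CommRingCat.of A)) ∈ Set.range Y.hom.base := by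
    obtain ⟨w, hw⟩ := Set.nonempty_iff_ne_empty.2 hW0
    rw [hrange] at hw
    exact ((PrimeSpectrum.le_iff_specializes _ (IsLocalRing.closedPoint A)).mp
      (IsLocalRing.le_maximalIdeal (U.ι.base w : PrimeSpectrum A).isPrime.ne_top)).mem_closed hcl hw
  rw [hrange]
  ext x
  exact ⟨fun _ => trivial, fun _ => ((PrimeSpectrum.le_iff_specializes _ (IsLocalRing.closedPoint A)).mp
    (IsLocalRing.le_maximalIdeal (U.ι.base x : PrimeSpectrum A).isPrime.ne_top)).mem_open hop hcp⟩

/-- Let A be a Noetherian local ring and I an ideal for which A is I-adically complete and A/I is local;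
write X = Spec A, Y = V(I) and U for the punctured spectrum. Suppose that A is pure (the pair formed
by X and its closed point is pure) and that the effective Lefschetz condition Leff(U, U ∩ Y) holds.
Then Y minus the closed point, i.e. U ∩ Y, is a connected (nonempty) subset of X. -/
theorem result (A : Type u) [CommRing A] [IsLocalRing A] [IsNoetherianRing A] (I : Ideal A) [IsAdicComplete I A] [IsLocalRing (A ⧸ I)] (hpure : SGA2.IsPurePair (Spec (CommRingCat.of A)) (FEt.puncturedSpec A)) (hleff : LefX.LeffCond (↑(FEt.puncturedSpec A) : Scheme.{u}) ((Spec.map (CommRingCat.ofHom (Ideal.Quotient.mk I))).ker.comap (FEt.puncturedSpec A).ι)) : IsConnected (((Spec.map (CommRingCat.ofHom (Ideal.Quotient.mk I))).ker.support : Set ↥(Spec (CommRingCat.of A))) ∩ (FEt.puncturedSpec A : Set ↥(Spec (CommRingCat.of A)))) := by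
  let U := FEt.puncturedSpec A
  let 𝓘 := (Spec.map (CommRingCat.ofHom (Ideal.Quotient.mk I))).ker
  have h := H99.PureLift.restrict_of_isPurePair hpure
  have hne : (U : Set (Spec (CommRingCat.of A))).Nonempty := by
    by_contra hc
    have hz : ∀ p : PrimeSpectrum A, p = IsLocalRing.closedPoint A := fun p => by
      by_contra hp
      exact hc ⟨p, hp⟩
    haveI : IsEmpty ↥(U : Scheme.{u}) := ⟨fun x => x.2 (hz _)⟩
    haveI := h
    let T : FEt.Cat (Spec (CommRingCat.of A)) := MorphismProperty.Over.mk ⊤ (𝟙 _) ⟨inferInstance, inferInstance⟩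
    let E : FEt.Cat (Spec (CommRingCat.of A)) := MorphismProperty.Over.mk ⊤
      (AlgebraicGeometry.Scheme.emptyTo (Spec (CommRingCat.of A))) ⟨inferInstance, inferInstance⟩
    haveI : IsEmpty ((FEt.restrict U.ι).obj T).left := Function.isEmpty (β := ↥(U : Scheme.{u})) ((FEt.restrict U.ι).obj T).hom.base
    haveI : IsEmpty ((FEt.restrict U.ι).obj E).left := Function.isEmpty (β := ↥(U : Scheme.{u})) ((FEt.restrict U.ι).obj E).hom.base
    let φ : ((FEt.restrict U.ι).obj T) ⟶ ((FEt.restrict U.ι).obj E) :=
      MorphismProperty.Over.homMk (isInitialOfIsEmpty.to _) (isInitialOfIsEmpty.hom_ext _ _) trivial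
    exact IsEmpty.false (α := ↥(∅ : Scheme.{u})) (((FEt.restrict U.ι).preimage φ).left.base (IsLocalRing.closedPoint A))
  haveI := connectedSpace_punctured A hne h
  have hc : ConnectedSpace ((𝓘.comap U.ι).support : Set (U : Scheme.{u})) :=
    (Groth.Agent.S2946.result (U : Scheme.{u}) (𝓘.comap U.ι) hleff.1 ⊤ (fun x _ => trivial)).2
      (isConnected_iff_connectedSpace.mp isConnected_univ)
  have hc' := (isConnected_iff_connectedSpace.mpr hc).image U.ι.base U.ι.continuous.continuousOn
  have hs : ((𝓘.comap U.ι).support : Set (U : Scheme.{u})) = U.ι ⁻¹' (𝓘.support : Set (Spec (CommRingCat.of A))) :=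
    congrArg SetLike.coe (𝓘.support_comap U.ι)
  rwa [hs, Set.image_preimage_eq_inter_range, Scheme.Opens.range_ι] at hc'

end Groth.Agent.S17790
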