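import Groth.Statements.S17794
import Groth.Agent.Lib.AlgSpace.Quot
import Groth.Agent.Lib.GrpQ.FfMonoGrp
import Groth.Agent.H4.KernelSquare

set_option autoImplicit false
universe u
open CategoryTheory CategoryTheory.Limits MonoidalCategory CartesianMonoidalCategory MonObj GrpObj AlgebraicGeometry
open GrpSch

namespace Groth.Agent.S17794

/-- Let S be a scheme and f : G → H a homomorphism of S-group schemes, both of finite presentation over
S (locally of finite presentation, quasi-compact and quasi-separated), and let i : N → G be the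
kernel of f (the square formed by i, f, the unit section of H and N → S is cartesian). Then f is
faithfully flat (flat and surjective) if and only if the map of representable sheaves h_G → h_H
induced by f on the big fppf site of S is an epimorphism of sheaves of sets and N is flat over S. -/
theorem result {S : Scheme.{u}} {G H N : Over S} [GrpObj G] [GrpObj H] (f : G ⟶ H) [IsMonHom f] [LocallyOfFinitePresentation G.hom] [QuasiCompact G.hom] [QuasiSeparated G.hom] [LocallyOfFinitePresentation H.hom] [QuasiCompact H.hom] [QuasiSeparated H.hom] (i : N ⟶ G) (hi : AlgGrp.IsKernel i f) : (Flat f.left ∧ Surjective f.left) ↔ (Epi (QuotSh.repMap Scheme.fppfPrecoverage f) ∧ Flat N.hom) := by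
  have hconj : ∀ {P : Prop}, (Epi ((AlgSp.yon S).map f) ↔ P) → (Epi (QuotSh.repMap Scheme.fppfPrecoverage f) ↔ P) := by
    intro P h
    rw [← h]
    have e := Groth.Agent.Lib.AlgSpace.repMap_repIso_hom f
    constructor
    · intro _
      have : Epi ((QuotSh.repIsoUliftYoneda Scheme.fppfPrecoverage G).hom ≫ (AlgSp.yon S).map f) := by
        rw [← e]; exact epi_comp _ _
      exact epi_of_epi (QuotSh.repIsoUliftYoneda Scheme.fppfPrecoverage G).hom _
    · intro _
      have : Epi (QuotSh.repMap Scheme.fppfPrecoverage f ≫ (QuotSh.repIsoUliftYoneda Scheme.fppfPrecoverage H).hom) := by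
        rw [e]; exact epi_comp _ _
      have h2 := epi_comp (QuotSh.repMap Scheme.fppfPrecoverage f ≫ (QuotSh.repIsoUliftYoneda Scheme.fppfPrecoverage H).hom)
        (QuotSh.repIsoUliftYoneda Scheme.fppfPrecoverage H).inv
      rwa [Category.assoc, Iso.hom_inv_id, Category.comp_id] at h2
  rw [and_congr_left' (hconj Iff.rfl)]
  constructor
  · rintro ⟨hfl, hs⟩
    refine ⟨?_, Groth.Agent.H4.KernelSquare.hom_of f i hi (P := @Flat) hfl⟩
    have : LocallyOfFinitePresentation f.left :=
      Groth.Agent.Lib.AlgSpMor.Cancel.locallyOfFinitePresentation_of_comp (g := H.hom) (by rw [Over.w]; infer_instance)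
        inferInstance
    exact Groth.Agent.Lib.AlgSpace.epi_yon_map f (Groth.Agent.Lib.AlgSpace.fppfCover_mk f.left)
  · rintro ⟨hepi, hN⟩
    obtain ⟨C, gC, p, m, hp, hm, hpm, hs, hfl, hl, hmono, -, -, -⟩ :=
      Groth.Agent.Lib.GrpQ.FfMono.exists_quot_kernel f i hi hN (Or.inl inferInstance)
    haveI := hmono; haveI := hs; haveI := hfl
    haveI : Epi ((AlgSp.yon S).map p ≫ (AlgSp.yon S).map m) := by rw [← Functor.map_comp, hpm]; exact hepi
    haveI : Epi ((AlgSp.yon S).map m) := epi_of_epi ((AlgSp.yon S).map p) _
    haveI : Mono ((AlgSp.yon S).map m) := inferInstance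
    haveI : IsIso ((AlgSp.yon S).map m) := isIso_of_mono_of_epi _
    haveI : IsIso m := isIso_of_fully_faithful (AlgSp.yon S) m
    haveI : IsIso m.left := ((Over.forget S).mapIso (asIso m)).isIso_hom
    rw [← hpm, Over.comp_left]
    exact ⟨inferInstance, inferInstance⟩

end Groth.Agent.S17794
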