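import Groth.Statements.S17797
import Mathlib.RingTheory.EssentialFiniteness
import Mathlib.RingTheory.AlgebraicIndependent.TranscendenceBasis
import Mathlib.RingTheory.LocalRing.ResidueField.Basic
import Mathlib.RingTheory.IntegralClosure.IntegrallyClosed
import Mathlib.RingTheory.Algebraic.Integral

set_option autoImplicit false
universe u
open CAlg

namespace Groth.Agent.S17797

/-- Suppose k is a field of characteristic zero and S is a local domain that is an essentially
finite-type k-algebra. Then there are an extension field K of k, a K-algebra A of finite type and a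
maximal ideal m of A such that S is isomorphic over k to the localization A_m. -/
theorem result (k : Type u) [Field k] [CharZero k] (S : Type u) [CommRing S] [IsDomain S] [IsLocalRing S] [Algebra k S] [Algebra.EssFiniteType k S] : ∃ (K : Type u) (_ : Field K) (_ : Algebra k K) (A : Type u) (_ : CommRing A) (_ : Algebra K A) (_ : Algebra k A) (_ : IsScalarTower k K A) (_ : Algebra.FiniteType K A) (m : Ideal A) (_ : m.IsMaximal), Nonempty (S ≃ₐ[k] Localization.AtPrime m) := by
  let κ := IsLocalRing.ResidueField S
  haveI : FaithfulSMul k κ := (faithfulSMul_iff_algebraMap_injective k κ).mpr (algebraMap k κ).injective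
  obtain ⟨T, hT⟩ := exists_isTranscendenceBasis k κ
  choose y hy using fun t : T => IsLocalRing.residue_surjective (R := S) (t : κ)
  have hres : ∀ p : MvPolynomial T k, IsLocalRing.residue S (MvPolynomial.aeval y p) =
      MvPolynomial.aeval (Subtype.val : T → κ) p := by
    intro p
    have : (IsScalarTower.toAlgHom k S κ).comp (MvPolynomial.aeval y) =
        MvPolynomial.aeval (Subtype.val : T → κ) :=
      MvPolynomial.algHom_ext fun t => by simp only [AlgHom.comp_apply, MvPolynomial.aeval_X]; exact hy t
    exact DFunLike.congr_fun this p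
  have hu : ∀ p : nonZeroDivisors (MvPolynomial T k), IsUnit (MvPolynomial.aeval y (p : MvPolynomial T k)) :=
    fun p => by_contra fun h => nonZeroDivisors.ne_zero p.2 (hT.1 (by
      rw [map_zero, ← hres]
      exact (IsLocalRing.residue_eq_zero_iff _).mpr h))
  let K := FractionRing (MvPolynomial T k)
  let j : K →+* S := IsLocalization.lift (M := nonZeroDivisors (MvPolynomial T k)) hu
  letI : Algebra K S := j.toAlgebra
  haveI : IsScalarTower k K S := .of_algebraMap_eq fun c => by
    change _ = j (algebraMap k K c)
    rw [IsScalarTower.algebraMap_apply k (MvPolynomial T k) K, IsLocalization.lift_eq]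
    exact ((MvPolynomial.aeval y).commutes c).symm
  haveI : Algebra.EssFiniteType K S := Algebra.EssFiniteType.of_comp k K S
  let A := Algebra.EssFiniteType.subalgebra K S
  let m : Ideal A := (IsLocalRing.maximalIdeal S).comap (algebraMap A S)
  haveI : m.IsPrime := Ideal.IsPrime.comap _
  haveI : IsLocalization.AtPrime S m := by
    have : m.primeCompl = Algebra.EssFiniteType.submonoid K S := by
      ext a
      change ¬ algebraMap A S a ∈ IsLocalRing.maximalIdeal S ↔ IsUnit (algebraMap A S a)
      rw [IsLocalRing.mem_maximalIdeal, mem_nonunits_iff, not_not]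
    rw [IsLocalization.AtPrime, this]
    exact Algebra.EssFiniteType.isLocalization K S
  haveI : Algebra.IsAlgebraic K κ := by
    refine ⟨fun z => ?_⟩
    obtain ⟨q, hq, hz⟩ := hT.isAlgebraic.isAlgebraic z
    let h : Algebra.adjoin k (Set.range (Subtype.val : T → κ)) →+* K :=
      (algebraMap (MvPolynomial T k) K).comp hT.1.aevalEquiv.symm.toRingEquiv.toRingHom
    have hcomp : (algebraMap K κ).comp h =
        algebraMap (Algebra.adjoin k (Set.range (Subtype.val : T → κ))) κ := by
      ext a
      obtain ⟨p, rfl⟩ := hT.1.aevalEquiv.surjective a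
      have : hT.1.aevalEquiv.symm.toRingEquiv.toRingHom (hT.1.aevalEquiv p) = p :=
        hT.1.aevalEquiv.symm_apply_apply p
      change IsLocalRing.residue S (j (algebraMap _ K (hT.1.aevalEquiv.symm.toRingEquiv.toRingHom
        (hT.1.aevalEquiv p)))) = _
      rw [this, IsLocalization.lift_eq]
      exact (hres p).trans (hT.1.algebraMap_aevalEquiv p).symm
    refine ⟨q.map h, (Polynomial.map_ne_zero_iff ?_).mpr hq, ?_⟩
    · exact (IsFractionRing.injective (MvPolynomial T k) K).comp hT.1.aevalEquiv.symm.injective
    · rw [Polynomial.aeval_def, Polynomial.eval₂_map, hcomp]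
      exact hz
  haveI : m.IsMaximal := by
    let ψ : (A ⧸ m) →ₐ[K] κ := Ideal.Quotient.liftₐ m
      ((IsScalarTower.toAlgHom K S κ).comp A.val)
      fun a ha => (IsLocalRing.residue_eq_zero_iff _).mpr ha
    have hψ : Function.Injective ψ := by
      rw [injective_iff_map_eq_zero]
      intro a ha
      obtain ⟨a, rfl⟩ := Ideal.Quotient.mk_surjective a
      exact Ideal.Quotient.eq_zero_iff_mem.mpr ((IsLocalRing.residue_eq_zero_iff (A.val a)).mp ha)
    haveI : Algebra.IsIntegral K (A ⧸ m) := Algebra.IsIntegral.of_injective ψ hψ
    exact Ideal.Quotient.maximal_of_isField _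
      (isField_of_isIntegral_of_isField' (R := K) (S := A ⧸ m) (Field.toIsField K))
  refine ⟨K, inferInstance, inferInstance, A, inferInstance, inferInstance, inferInstance,
    inferInstance, inferInstance, m, inferInstance, ⟨?_⟩⟩
  exact ((IsLocalization.algEquiv m.primeCompl (Localization.AtPrime m) S).restrictScalars k).symm

end Groth.Agent.S17797
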