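import Groth.Statements.S17798
import Groth.Agent.H99.ClassTorsion
import Groth.Agent.Lib.RefHull.Group

set_option autoImplicit false
set_option linter.style.haveILetI false
set_option backward.isDefEq.respectTransparency false
universe u
open CategoryTheory CategoryTheory.Limits AlgebraicGeometry
open RefFun

namespace Groth.Agent.S17798

/-- The algebra structure on the function field of a spectrum. -/
@[reducible] noncomputable def ffAlg (A : Type u) [CommRing A] [IsDomain A] :
    Algebra A (Spec (CommRingCat.of A)).functionField :=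
  (StructureSheaf.toStalk A (genericPoint (Spec (CommRingCat.of A)))).hom.toAlgebra

theorem isFractionRing_ff (A : Type u) [CommRing A] [IsDomain A] :
    letI := ffAlg A
    IsFractionRing A (Spec (CommRingCat.of A)).functionField := by
  haveI : IsDomain (CommRingCat.of A) := inferInstanceAs (IsDomain A)
  exact functionField_isFractionRing_of_affine (CommRingCat.of A)

/-- The algebra structure on a stalk of a spectrum. -/
@[reducible] noncomputable def stalkAlg (A : Type u) [CommRing A] (y : Spec (CommRingCat.of A)) :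
    Algebra A ((Spec (CommRingCat.of A)).presheaf.stalk y) :=
  (StructureSheaf.toStalk A y).hom.toAlgebra

theorem isLocalization_stalk (A : Type u) [CommRing A] (y : Spec (CommRingCat.of A)) :
    letI := stalkAlg A y
    IsLocalization.AtPrime ((Spec (CommRingCat.of A)).presheaf.stalk y) (y : PrimeSpectrum A).asIdeal :=
  StructureSheaf.IsLocalization.to_stalk (R := A) (y : PrimeSpectrum A)

theorem isNormalScheme_spec (A : Type u) [CommRing A] [IsDomain A] [IsIntegrallyClosed A] :
    Pi1.IsNormalScheme (Spec (CommRingCat.of A)) := fun x => by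
  letI := stalkAlg A x
  haveI := isLocalization_stalk A x
  haveI := (x : PrimeSpectrum A).isPrime
  exact ⟨IsLocalization.isDomain_of_atPrime _ (x : PrimeSpectrum A).asIdeal,
    isIntegrallyClosed_of_isLocalization _ _ (Ideal.primeCompl_le_nonZeroDivisors (x : PrimeSpectrum A).asIdeal)⟩

theorem coheight_iff (A : Type u) [CommRing A] [IsDomain A] [IsNoetherianRing A] (y : Spec (CommRingCat.of A)) :
    Order.coheight y = 1 ↔ (y : PrimeSpectrum A).asIdeal.height = 1 := by
  letI := stalkAlg A y
  haveI := isLocalization_stalk A y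
  rw [← Lib.RefHull.Ord.dim_eq_one_iff,
    IsLocalization.AtPrime.ringKrullDim_eq_height (y : PrimeSpectrum A).asIdeal]
  exact_mod_cast Iff.rfl

theorem unitAt_iff (A : Type u) [CommRing A] [IsDomain A] [IsNoetherianRing A]
    (hX : Pi1.IsNormalScheme (Spec (CommRingCat.of A))) :
    letI := ffAlg A
    haveI := isFractionRing_ff A
    ∀ (y : Spec (CommRingCat.of A)), Order.coheight y = 1 → ∀ f : (Spec (CommRingCat.of A)).functionField, f ≠ 0 →
      (H99.ClassTorsion.UnitAt (A := A) (y : PrimeSpectrum A).asIdeal f ↔ Scheme.ord f y = 0) := by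
  letI := ffAlg A
  haveI := isFractionRing_ff A
  intro y hy f hf
  letI := stalkAlg A y
  haveI := isLocalization_stalk A y
  haveI := (y : PrimeSpectrum A).isPrime
  haveI : IsScalarTower A ((Spec (CommRingCat.of A)).presheaf.stalk y) (Spec (CommRingCat.of A)).functionField :=
    IsScalarTower.of_algebraMap_eq fun r => show (StructureSheaf.toStalk A (genericPoint (Spec (CommRingCat.of A)))).hom r =
        (Spec.structureSheaf A).presheaf.stalkSpecializes
          ((genericPoint_spec (Spec (CommRingCat.of A))).specializes (Set.mem_univ y)) ((StructureSheaf.toStalk A y).hom r) from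
      (congr($(StructureSheaf.toStalk_stalkSpecializes
        ((genericPoint_spec (Spec (CommRingCat.of A))).specializes (Set.mem_univ y))) r)).symm
  have hu : ∀ z : A, z ∉ (y : PrimeSpectrum A).asIdeal →
      Scheme.ord (algebraMap A (Spec (CommRingCat.of A)).functionField z) y = 0 ∧
        algebraMap A (Spec (CommRingCat.of A)).functionField z ≠ 0 := fun z hz => by
    have h1 : IsUnit (algebraMap A ((Spec (CommRingCat.of A)).presheaf.stalk y) z) :=
      IsLocalization.map_units _ (⟨z, hz⟩ : (y : PrimeSpectrum A).asIdeal.primeCompl)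
    rw [IsScalarTower.algebraMap_apply A ((Spec (CommRingCat.of A)).presheaf.stalk y) (Spec (CommRingCat.of A)).functionField]
    exact ⟨Lib.RefHull.Ord.ord_of_isUnit hX hy h1, (h1.map _).ne_zero⟩
  constructor
  · rintro ⟨u, v, hu', hv', huv⟩
    have h1 := Scheme.ord_mul (x := y) (hu v hv').2 hf
    rw [huv, (hu u hu').1, (hu v hv').1] at h1
    omega
  · intro h0
    obtain ⟨w, rfl⟩ := (Lib.RefHull.Ord.mem_range_iff hX hy hf).mpr h0.ge
    have hw : IsUnit w := (Lib.RefHull.Ord.isUnit_iff hX hy (fun e => hf (by rw [e, map_zero]))).mpr h0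
    obtain ⟨u, v, rfl⟩ := IsLocalization.exists_mk'_eq (y : PrimeSpectrum A).asIdeal.primeCompl w
    refine ⟨u, v, (IsLocalization.AtPrime.isUnit_mk'_iff _ _ u v).mp hw, v.2, ?_⟩
    rw [IsScalarTower.algebraMap_apply A ((Spec (CommRingCat.of A)).presheaf.stalk y) (Spec (CommRingCat.of A)).functionField,
      IsScalarTower.algebraMap_apply A ((Spec (CommRingCat.of A)).presheaf.stalk y) (Spec (CommRingCat.of A)).functionField u,
      ← map_mul, IsLocalization.mk'_spec']

/-- Let A be an excellent normal local domain which is equicharacteristic (A and its residue field have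
the same characteristic p, possibly 0) and pure in codimension at least 2: for every prime P of A of
height at least 2 the completion of A_P at its maximal ideal is pure. Consider the divisor class
group of A, realized as the group of isomorphism classes of rank-one coherent reflexive modules on
Spec A under the reflexive tensor product. Then it has no torsion of order prime to the
characteristic: for every integer s ≥ 1 invertible in A and every class c with c^s = 1, c = 1. -/
theorem result (A : Type u) [CommRing A] [IsDomain A] [IsLocalRing A] [IsNoetherianRing A] [IsIntegrallyClosed A] (hA : EGA4.IsExcellent A) (p : ℕ) [CharP A p] [CharP (IsLocalRing.ResidueField A) p] (hpure : ∀ (P : Ideal A) [P.IsPrime], (2 : ℕ∞) ≤ P.height → SGA2.IsPurePair (Spec (CommRingCat.of (AdicCompletion (IsLocalRing.maximalIdeal (Localization.AtPrime P)) (Localization.AtPrime P)))) (FEt.puncturedSpec (AdicCompletion (IsLocalRing.maximalIdeal (Localization.AtPrime P)) (Localization.AtPrime P)))) [RefFun.Law (Spec (CommRingCat.of A))] (s : ℕ) (hs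 : 0 < s) (hsu : IsUnit ((s : ℕ) : A)) (c : RefFun.Ref1Set (Spec (CommRingCat.of A))) (hc : c ^ s = 1) : c = 1 := by
  let X := Spec (CommRingCat.of A)
  have hX : Pi1.IsNormalScheme X := isNormalScheme_spec A
  have hmul : ∀ a b : RefFun.Ref1Set X, a * b = Lib.RefHull.Group.mul hX a b := fun a b => Subtype.ext (by
    rw [RefFun.mul_val, ← a.2.choose_spec.1, ← b.2.choose_spec.1]
    rfl)
  have hone : (1 : RefFun.Ref1Set X) = Lib.RefHull.Group.one := Subtype.ext RefFun.one_val
  obtain ⟨D, hD⟩ := Lib.RefHull.Group.exists_hasDiv c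
  have hpow : ∀ n : ℕ, Lib.RefHull.Group.HasDiv (c ^ n) fun y => (n : ℤ) * D y := fun n => by
    induction n with
    | zero =>
      rw [pow_zero, hone]
      simpa using Lib.RefHull.Group.hasDiv_one hX
    | succ n ih =>
      rw [pow_succ, hmul]
      have e : (fun y => ((n + 1 : ℕ) : ℤ) * D y) = fun y => (n : ℤ) * D y + D y :=
        funext fun y => by push_cast; ring
      rw [e]
      exact Lib.RefHull.Group.hasDiv_mul hX ih hD
  have hs' := hpow s
  rw [hc, hone] at hs'
  obtain ⟨t, ht, hts⟩ := Lib.RefHull.Group.hasDiv_change hs' hX Lib.RefHull.Group.isRef1_structure rfl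
  obtain ⟨t0, ht0, ht0s⟩ := Lib.RefHull.Group.one_section hX
  have hR : RefHull.IsRef1 (Coh.structureModule X) := Lib.RefHull.Group.isRef1_structure
  obtain ⟨a, ha⟩ := Lib.RefHull.RankOne.span_of_ne_zero hR.2.2 ht0 t
  have ha0 : a ≠ 0 := fun e => ht (by rw [← ha, e, zero_smul])
  have haD : ∀ y : X, Order.coheight y = 1 → Scheme.ord a y = (s : ℤ) * D y := fun y hy => by
    rw [← hts y hy, ← ha, Lib.RefHull.Ord.secOrd_smul hX hy hR ht0 ha0, ht0s y hy, add_zero]
  have hht : ∀ y : X, Order.coheight y = 1 ↔ (y : PrimeSpectrum A).asIdeal.height = 1 := coheight_iff A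
  letI iK : Algebra A X.functionField := ffAlg A
  haveI : IsFractionRing A X.functionField := isFractionRing_ff A
  have hord := unitAt_iff A hX
  have hb : ∀ (y : X), Order.coheight y = 1 → ∃ b : X.functionField, b ≠ 0 ∧ Scheme.ord b y = D y := by
    intro y hy
    obtain ⟨ϖ, hϖ⟩ := Lib.RefHull.Ord.exists_irreducible hX hy
    have hn : ∀ n : ℕ, algebraMap (X.presheaf.stalk y) X.functionField (ϖ ^ n) ≠ 0 ∧
        Scheme.ord (algebraMap (X.presheaf.stalk y) X.functionField (ϖ ^ n)) y = n := fun n => by
      haveI := (hX y).1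
      refine ⟨fun e => pow_ne_zero n hϖ.ne_zero (IsFractionRing.injective _ _ (e.trans (map_zero _).symm)), ?_⟩
      simpa using Lib.RefHull.Ord.ord_unit_mul_pow hX hy hϖ 1 n
    obtain ⟨n, hn' | hn'⟩ := Int.eq_nat_or_neg (D y)
    · exact ⟨_, (hn n).1, by rw [(hn n).2, hn']⟩
    · exact ⟨_, inv_ne_zero (hn n).1, by rw [Lib.RefHull.Ord.ord_inv (hn n).1, (hn n).2, hn']⟩
  have hpoword : ∀ (y : X) (b : X.functionField), b ≠ 0 → ∀ n : ℕ, Scheme.ord (b ^ n) y = (n : ℤ) * Scheme.ord b y := by
    intro y b hb n
    induction n with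
    | zero => simp [Lib.RefHull.Ord.ord_one]
    | succ n ih => rw [pow_succ, Scheme.ord_mul (pow_ne_zero n hb) hb, ih]; push_cast; ring
  obtain ⟨g, hg, hgu⟩ := H99.ClassTorsion.exists_unitAt hA hpure X.functionField s hs hsu a ha0 fun p hp hp1 => by
    let y : X := (⟨p, hp⟩ : PrimeSpectrum A)
    have hy : Order.coheight y = 1 := (hht y).mpr hp1
    obtain ⟨b, hb0, hbD⟩ := hb y hy
    refine ⟨b, hb0, (hord y hy _ (div_ne_zero ha0 (pow_ne_zero _ hb0))).mpr ?_⟩
    rw [Lib.RefHull.Ord.ord_div ha0 (pow_ne_zero _ hb0), haD y hy, hpoword y b hb0, hbD, sub_self]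
  have hgD : ∀ y : X, Order.coheight y = 1 → Scheme.ord g y = D y := fun y hy => by
    obtain ⟨b, hb0, hbD⟩ := hb y hy
    have h1 : H99.ClassTorsion.UnitAt (A := A) (y : PrimeSpectrum A).asIdeal (a / b ^ s) :=
      (hord y hy _ (div_ne_zero ha0 (pow_ne_zero _ hb0))).mpr (by
        rw [Lib.RefHull.Ord.ord_div ha0 (pow_ne_zero _ hb0), haD y hy, hpoword y b hb0, hbD, sub_self])
    have h2 := (hord y hy _ (div_ne_zero hg hb0)).mp (hgu _ (y : PrimeSpectrum A).isPrime ((hht y).mp hy) b hb0 h1)
    rw [Lib.RefHull.Ord.ord_div hg hb0, hbD] at h2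
    omega
  rw [hone]
  refine Lib.RefHull.Group.eq_of_hasDiv hX hD
    ⟨_, hR, g • t0, rfl, fun h => ht0 ((isUnit_iff_ne_zero.mpr hg).smul_eq_zero.mp h), fun y hy => ?_⟩ fun y _ => rfl
  rw [Lib.RefHull.Ord.secOrd_smul hX hy hR ht0 hg, ht0s y hy, hgD y hy, add_zero]

end Groth.Agent.S17798
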