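import Groth.Statements.S17802
import Groth.Agent.S5152
import Groth.Agent.Lib.ConormalDepth45.Regular
import Groth.Agent.Lib.ConormalDepth45.Bound

set_option autoImplicit false
universe u
open LocCoh

namespace Groth.Agent.S17802

/-- Let (R, m) be a universally catenary Noetherian local domain, I ⊆ m an ideal with R/I
equidimensional, and r a natural number such that the associated graded ring ⊕ Iⁿ/Iⁿ⁺¹, i.e. the
Rees algebra of I modulo the ideal generated by I, satisfies Serre's condition S_r. Let ad(I) be the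
analytic deviation: the Krull dimension of ⊕ Iⁿ/mIⁿ (the Rees algebra modulo m) minus the height of
I. Then for every n ≥ 0 and every prime ideal p ⊇ I of R, the depth of the R_p-module (Iⁿ/Iⁿ⁺¹)_p is
at least min(r, dim (R/I)_p − ad(I)); equivalently every natural number d with d ≤ r and d + dim(⊕
Iⁿ/mIⁿ) ≤ height(p/I) + ht(I) satisfies d ≤ depth (Iⁿ/Iⁿ⁺¹)_p. -/
theorem result (R : Type u) [CommRing R] [IsDomain R] [IsLocalRing R] [IsNoetherianRing R] (huc : CAlg.IsUniversallyCatenary R) (I : Ideal R) (hI : I ≤ IsLocalRing.maximalIdeal R) (heq : EGA4.IsEquidim (R ⧸ I)) (r : ℕ) (hS : LocCoh.HasSk r (↥(reesAlgebra I) ⧸ Ideal.map (algebraMap R ↥(reesAlgebra I)) I) (↥(reesAlgebra I) ⧸ Ideal.map (algebraMap R ↥(reesAlgebra I)) I)) (n : ℕ) (p : Ideal R) [p.IsPrime] (hp : I ≤ p) (d : ℕ) (hdr : d ≤ r) (hd : (d : WithBot ℕ∞) + ringKrullDim (↥(reesAlgebra I) ⧸ Ideal.map (algebraMap R ↥(reesAlgebra I)) (IsLocalRing.maximalIdeal R)) ≤ (((p.map (Ideal.Quotient.mk I)).height : ℕ∞) : WithBot ℕ∞) + ((I.height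 : ℕ∞) : WithBot ℕ∞)) : (d : ℕ∞) ≤ LocCoh.depth (Localization.AtPrime p) (LocalizedModule p.primeCompl (↥(I ^ n) ⧸ (I • (⊤ : Submodule R ↥(I ^ n))))) := by
  let T := ↥(reesAlgebra I)
  let IT : Ideal T := Ideal.map (algebraMap R T) I
  let G := T ⧸ IT
  haveI : IsNoetherianRing G := inferInstanceAs (IsNoetherianRing (T ⧸ IT))
  -- depth along `pG`
  have hdepth : (d : ℕ∞) ≤ LocCoh.idealDepth (p.map (algebraMap R G)) G := by
    rw [Groth.Agent.S5152.result G _ G]
    refine le_iInf fun P => le_iInf fun hP => ?_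
    have h1 := hS P.asIdeal
    have h2 : Module.supportDim (Localization.AtPrime P.asIdeal) (LocalizedModule P.asIdeal.primeCompl G) =
        ringKrullDim (Localization.AtPrime P.asIdeal) :=
      Module.supportDim_self_eq_ringKrullDim (Localization.AtPrime P.asIdeal)
    rw [h2, IsLocalization.AtPrime.ringKrullDim_eq_height P.asIdeal] at h1
    have hq : p ≤ P.asIdeal.comap (algebraMap R G) := Ideal.map_le_iff_le_comap.1 hP
    have h3 := Lib.ConormalDepth45.height_le huc P
    have h4 := Lib.ConormalDepth45.height_add_le I p hp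
    have hdP : (d : ℕ∞) ≤ P.asIdeal.height := by
      obtain ⟨h, hh⟩ := Lib.ConormalDepth45.exists_nat P.asIdeal
      have h5 : (((p.map (Ideal.Quotient.mk I)).height : ℕ∞) : WithBot ℕ∞) + ((I.height : ℕ∞) : WithBot ℕ∞) ≤
          (((P.asIdeal.comap (algebraMap R G)).height : ℕ∞) : WithBot ℕ∞) := by
        rw [← WithBot.coe_add]
        exact WithBot.coe_le_coe.2 (h4.trans (Ideal.height_mono hq))
      have h6 := (hd.trans h5).trans h3
      obtain ⟨Q, hQ⟩ := Lib.ConormalDepth45.exists_nat (P.asIdeal.comap (algebraMap R G))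
      rw [hh] at h6 ⊢
      have hFnt : Nontrivial (T ⧸ Ideal.map (algebraMap R T) (IsLocalRing.maximalIdeal R)) := by
        refine Ideal.Quotient.nontrivial_iff.2 (ne_top_of_le_ne_top
          (Ideal.comap_ne_top (Polynomial.constantCoeff.comp (reesAlgebra I).val.toRingHom)
            (IsLocalRing.maximalIdeal.isMaximal R).ne_top) ?_)
        refine Ideal.map_le_iff_le_comap.2 fun a ha => ?_
        show (Polynomial.C a).coeff 0 ∈ IsLocalRing.maximalIdeal R
        rwa [Polynomial.coeff_C_zero]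
      have hne : ringKrullDim (T ⧸ Ideal.map (algebraMap R T) (IsLocalRing.maximalIdeal R)) ≠ ⊤ := by
        intro he
        have h7 := hd.trans h5
        rw [he, hQ, show (d : WithBot ℕ∞) = ((d : ℕ∞) : WithBot ℕ∞) from rfl, ← WithBot.coe_top,
          ← WithBot.coe_add, WithBot.coe_le_coe, add_top] at h7
        exact ENat.natCast_ne_top Q (top_le_iff.1 h7)
      have hnb : (0 : WithBot ℕ∞) ≤
          ringKrullDim (T ⧸ Ideal.map (algebraMap R T) (IsLocalRing.maximalIdeal R)) :=
        ringKrullDim_nonneg_of_nontrivial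
      generalize ringKrullDim (T ⧸ Ideal.map (algebraMap R T) (IsLocalRing.maximalIdeal R)) = l at h6 hne hnb
      revert h6
      match l with
      | ⊥ => simp at hnb
      | (⊤ : ℕ∞) => exact absurd rfl hne
      | ((m : ℕ) : ℕ∞) =>
        intro h6
        have h8 : ((d + m : ℕ) : WithBot ℕ∞) ≤ ((h + m : ℕ) : WithBot ℕ∞) := by exact_mod_cast h6
        have h9 : d + m ≤ h + m := by exact_mod_cast h8
        exact_mod_cast Nat.le_of_add_le_add_right h9
    have h10 : (d : WithBot ℕ∞) ≤ min (r : WithBot ℕ∞) (P.asIdeal.height : WithBot ℕ∞) :=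
      le_min (by exact_mod_cast hdr) (WithBot.coe_le_coe.2 hdP)
    exact WithBot.coe_le_coe.1 (h10.trans h1)
  -- the degree `n` part is a retract
  let N := ↥(I ^ n) ⧸ (I • (⊤ : Submodule R ↥(I ^ n)))
  let μ : ↥(I ^ n) →ₗ[R] T :=
    { toFun := fun x => Lib.ConormalDepth45.mon n x.1 x.2
      map_add' := fun x y => Subtype.ext (map_add (Polynomial.monomial n) x.1 y.1)
      map_smul' := fun c x => Subtype.ext (map_smul (Polynomial.monomial n) c x.1) }
  let ι : N →ₗ[R] G := Submodule.liftQ _ ((Ideal.Quotient.mkₐ R IT).toLinearMap.comp μ) (by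
    refine Submodule.smul_le.2 fun a ha x _ => ?_
    rw [LinearMap.mem_ker, map_smul]
    show Ideal.Quotient.mk IT (a • μ x) = 0
    refine Ideal.Quotient.eq_zero_iff_mem.2 ?_
    rw [Algebra.smul_def]
    exact Ideal.mul_mem_right _ _ (Ideal.mem_map_of_mem _ ha))
  let co : T →ₗ[R] ↥(I ^ n) :=
    { toFun := fun f => ⟨(f : Polynomial R).coeff n, f.2 n⟩
      map_add' := fun f g => Subtype.ext (Polynomial.coeff_add _ _ n)
      map_smul' := fun c f => Subtype.ext (Polynomial.coeff_smul c _ n) }
  let π : G →ₗ[R] N :=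
    (Submodule.liftQ (IT.restrictScalars R) ((I • (⊤ : Submodule R ↥(I ^ n))).mkQ.comp co) (by
      rw [← Ideal.smul_top_eq_map]
      refine Submodule.smul_le.2 fun a ha x _ => ?_
      rw [LinearMap.mem_ker, map_smul]
      show Submodule.Quotient.mk (a • co x) = 0
      exact (Submodule.Quotient.mk_eq_zero _).2 (Submodule.smul_mem_smul ha Submodule.mem_top))).comp
      (Submodule.Quotient.restrictScalarsEquiv R IT).symm.toLinearMap
  have hri : π.comp ι = LinearMap.id := by
    refine LinearMap.ext fun z => ?_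
    obtain ⟨x, rfl⟩ := Submodule.Quotient.mk_surjective _ z
    show Submodule.Quotient.mk (co (μ x)) = Submodule.Quotient.mk x
    congr 1
    exact Subtype.ext (Polynomial.coeff_monomial_same n x.1)
  exact Lib.ConormalDepth45.depth_localized_of_retract p ι π hri hdepth

end Groth.Agent.S17802
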