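import Groth.Statements.S17803
import Groth.Agent.S0600
import Groth.Agent.S0599
import Groth.Agent.S2670
import Groth.Agent.S5785
import Groth.Agent.Lib.GRing.EssFinite

set_option autoImplicit false
universe u
open EGA4

namespace Groth.Agent.S17803

/-- Normality is invariant under isomorphism. -/
theorem transport {R S : Type u} [CommRing R] [CommRing S] (e : R ≃+* S) (h : EGA4.IsNormalRing R) :
    EGA4.IsNormalRing S := fun p _ => by
  haveI : (p.comap e.toRingHom).IsPrime := Ideal.comap_isPrime _ _
  obtain ⟨hd, hc⟩ := h (p.comap e.toRingHom)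
  have hM : (p.comap e.toRingHom).primeCompl.map e.toMonoidHom = p.primeCompl := by
    ext z
    constructor
    · rintro ⟨x, hx, rfl⟩; exact hx
    · intro hz
      exact ⟨e.symm z, fun hc => hz (by simpa using hc), e.apply_symm_apply z⟩
  let e' := IsLocalization.ringEquivOfRingEquiv (Localization.AtPrime (p.comap e.toRingHom))
    (Localization.AtPrime p) e hM
  exact ⟨MulEquiv.isDomain (Localization.AtPrime (p.comap e.toRingHom)) e'.symm.toMulEquiv,
    IsIntegrallyClosed.of_equiv e'⟩

/-- A localization of a regular ring is regular. -/
theorem regular_away (R : Type u) [CommRing R] [IsRegularRing R] (F : R) :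
    IsRegularRing (Localization.Away F) := by
  haveI : IsNoetherianRing (Localization.Away F) :=
    IsLocalization.isNoetherianRing (Submonoid.powers F) _ inferInstance
  refine ⟨fun q _ => ?_⟩
  haveI := IsLocalization.isLocalization_atPrime_localization_atPrime (Submonoid.powers F) q
  exact IsRegularLocalRing.of_ringEquiv (R := Localization.AtPrime (q.comap (algebraMap R (Localization.Away F))))
    (IsLocalization.algEquiv (q.comap (algebraMap R (Localization.Away F))).primeCompl _ _).toRingEquiv

/-- The localization of a surjection is surjective. -/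
theorem awayMap_surjective {R A : Type u} [CommRing R] [CommRing A] (φ : R →+* A)
    (hφ : Function.Surjective φ) (F : R) : Function.Surjective (Localization.awayMap φ F) := by
  intro y
  obtain ⟨a, ⟨_, n, rfl⟩, rfl⟩ := IsLocalization.exists_mk'_eq (Submonoid.powers (φ F)) y
  obtain ⟨r, rfl⟩ := hφ a
  refine ⟨IsLocalization.mk' (Localization.Away F) r (⟨F ^ n, n, rfl⟩ : Submonoid.powers F), ?_⟩
  rw [Localization.awayMap, IsLocalization.Away.map, IsLocalization.map_mk']
  congr 1
  exact Subtype.ext (map_pow φ F n)

/-- A surjection of rings induces a surjection of adic completions. -/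
theorem exists_surjection {R S : Type u} [CommRing R] [CommRing S] (g : R →+* S)
    (hg : Function.Surjective g) (J : Ideal S) :
    ∃ ψ : AdicCompletion (J.comap g) R →+* AdicCompletion J S, Function.Surjective ψ := by
  classical
  let K := J.comap g
  have hK : K.map g = J := Ideal.map_comap_of_surjective g hg J
  have hle : ∀ n, K ^ n ≤ (J ^ n).comap g := fun n => by
    rw [← Ideal.map_le_iff_le_comap, Ideal.map_pow, hK]
  let fn : ∀ n, AdicCompletion K R →+* S ⧸ J ^ n := fun n =>
    (Ideal.quotientMap (J ^ n) g (hle n)).comp (AdicCompletion.evalₐ K n).toRingHom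
  let ψ : AdicCompletion K R →+* AdicCompletion J S := AdicCompletion.liftRingHom J fn
    (fun {m n} hmn => by
      refine RingHom.ext fun x => ?_
      induction x using AdicCompletion.induction_on with
      | h a =>
        simp only [fn, RingHom.comp_apply, AlgHom.toRingHom_eq_coe, RingHom.coe_coe]
        rw [AdicCompletion.evalₐ_mk, AdicCompletion.evalₐ_mk, Ideal.quotientMap_mk, Ideal.quotientMap_mk]
        show Ideal.Quotient.mk (J ^ m) (g (a.val n)) = _
        rw [Ideal.Quotient.eq, ← map_sub]
        refine hle m ?_
        have h1 := (SModEq.sub_mem).1 (a.property hmn)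
        simp only [smul_eq_mul, Ideal.mul_top] at h1
        rw [← neg_sub, neg_mem_iff]
        exact h1)
  refine ⟨ψ, fun y => ?_⟩
  choose s hs using fun n => hg ((Ideal.Quotient.mk_surjective (AdicCompletion.evalₐ J n y)).choose)
  have hsy : ∀ n, Ideal.Quotient.mk (J ^ n) (g (s n)) = AdicCompletion.evalₐ J n y := fun n => by
    rw [hs]; exact (Ideal.Quotient.mk_surjective (AdicCompletion.evalₐ J n y)).choose_spec
  have hstep : ∀ n, ∃ j ∈ K ^ n, g j = g (s (n + 1)) - g (s n) := fun n => by
    have hc : g (s (n + 1)) - g (s n) ∈ J ^ n := by
      rw [← Ideal.Quotient.eq, hsy n]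
      have h1 := congrArg (Ideal.Quotient.factorPow J (Nat.le_succ n)) (hsy (n + 1))
      refine h1.trans ?_
      induction y using AdicCompletion.induction_on with
      | h a =>
        rw [AdicCompletion.evalₐ_mk, AdicCompletion.evalₐ_mk]
        show Ideal.Quotient.mk (J ^ n) (a.val (n + 1)) = _
        rw [Ideal.Quotient.eq]
        have h2 := (SModEq.sub_mem).1 (a.property (Nat.le_succ n))
        simp only [smul_eq_mul, Ideal.mul_top] at h2
        rw [← neg_sub, neg_mem_iff]
        exact h2
    rw [← hK, ← Ideal.map_pow, Ideal.mem_map_iff_of_surjective g hg] at hc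
    exact hc
  choose j hjK hj using hstep
  let r : ℕ → R := fun n => s 0 + ∑ i ∈ Finset.range n, j i
  have hgr : ∀ n, g (r n) = g (s n) := fun n => by
    rw [map_add, map_sum]
    simp only [hj]
    rw [Finset.sum_range_sub (fun n => g (s n)), add_sub_cancel]
  refine ⟨AdicCompletion.mk K R (AdicCompletion.AdicCauchySequence.mk K R r fun n => ?_), ?_⟩
  · rw [SModEq.sub_mem, smul_eq_mul, Ideal.mul_top, ← neg_sub, neg_mem_iff]
    simpa [r, Finset.sum_range_succ] using hjK n
  · refine AdicCompletion.ext_evalₐ fun n => ?_
    rw [AdicCompletion.evalₐ_liftRingHom]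
    simp only [fn, RingHom.comp_apply, AlgHom.toRingHom_eq_coe, RingHom.coe_coe]
    rw [AdicCompletion.evalₐ_mk, Ideal.quotientMap_mk, ← hsy]
    exact congrArg _ (hgr n)


/-- Let A be an excellent normal domain which is a quotient of a regular ring, I an ideal of A and f ∈
A. Then the I-adic completion of the localization A_f is a normal ring (its localization at every
prime ideal is an integrally closed domain), and it is a quotient of a regular ring. -/
theorem result (A : Type u) [CommRing A] [IsDomain A] [IsIntegrallyClosed A] (hexc : EGA4.IsExcellent A) (hreg : ∃ (R : Type u) (_ : CommRing R) (_ : IsRegularRing R) (φ : R →+* A), Function.Surjective φ) (I : Ideal A) (f : A) : EGA4.IsNormalRing (AdicCompletion (I.map (algebraMap A (Localization.Away f))) (Localization.Away f)) ∧ ∃ (R' : Type u) (_ : CommRing R') (_ : IsRegularRing R') (ψ : R' →+* AdicCompletion (I.map (algebraMap A (Localization.Away f))) (Localization.Away f)), Function.Surjective ψ := by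
  obtain ⟨hN, -, hG, -⟩ := hexc
  obtain ⟨R, _, _, φ, hφ⟩ := hreg
  obtain ⟨F, rfl⟩ := hφ f
  let B := Localization.Away (φ F)
  haveI : IsNoetherianRing B := IsLocalization.isNoetherianRing (Submonoid.powers (φ F)) _ inferInstance
  constructor
  · have hGB : CAlg.IsGRing B := Groth.Agent.S0599.result A hG B
    haveI : IsNoetherianRing (AdicCompletion (I.map (algebraMap A B)) B) :=
      Lib.Excellent.CompletionNoetherian.isNoetherianRing_adicCompletion _
    have hB : EGA4.IsNormalRing B := fun q _ => by
      haveI := IsLocalization.isLocalization_atPrime_localization_atPrime (Submonoid.powers (φ F)) q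
      haveI hp : (q.comap (algebraMap A B)).IsPrime := Ideal.comap_isPrime _ _
      refine ⟨IsLocalization.isDomain_of_atPrime _ (q.comap (algebraMap A B)), ?_⟩
      haveI := IsLocalization.isDomain_of_atPrime (Localization.AtPrime q) (q.comap (algebraMap A B))
      exact isIntegrallyClosed_of_isLocalization (R := A) (Localization.AtPrime q)
        (q.comap (algebraMap A B)).primeCompl (Ideal.primeCompl_le_nonZeroDivisors _)
    have h1 := Groth.Agent.S2670.result B (AdicCompletion (I.map (algebraMap A B)) B)
      (Lib.GRing.EssFinite.isNormalHom_of_isRegularHom _ _ (Groth.Agent.S0600.result B hGB _)) B hB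
    exact transport (Algebra.TensorProduct.rid B B _).toRingEquiv h1
  · let T := Localization.Away F
    haveI : IsRegularRing T := regular_away R F
    let g : T →+* B := Localization.awayMap φ F
    have hg : Function.Surjective g := awayMap_surjective φ hφ F
    refine ⟨AdicCompletion ((I.map (algebraMap A B)).comap g) T, inferInstance,
      Groth.Agent.S5785.result T _, exists_surjection g hg (I.map (algebraMap A B))⟩

end Groth.Agent.S17803
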