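import Groth.Statements.S17804
import Groth.Agent.Lib.TorsLift89.Basic

set_option autoImplicit false
universe u
open CategoryTheory CategoryTheory.Limits MonoidalCategory CartesianMonoidalCategory MonObj GrpObj AlgebraicGeometry
open GrpSch

namespace Groth.Agent.S17804

/-- Let k be a field, G a commutative group scheme locally of finite type over k, H ⊆ G a closed
subgroup scheme of finite type over k, and q : G → Q the quotient G/H (q is flat, surjective,
locally of finite presentation, and G ×_k H → G ×_Q G, (g, h) ↦ (g, gh), is an isomorphism). Let n ≥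
1 and M ≥ 1 be integers. Then G contains a closed subgroup scheme G_M annihilated by n^N for some N,
with image in Q killed by n^M, such that the induced homomorphism from G_M to the kernel Q[n^M] of
multiplication by n^M on Q is flat and surjective. -/
theorem result (k : Type u) [Field k] {G H Q : Over (Spec (CommRingCat.of k))} [GrpObj G] [IsCommMonObj G] [GrpObj H] [GrpObj Q] [LocallyOfFiniteType G.hom] [LocallyOfFiniteType H.hom] [QuasiCompact H.hom] (iH : H ⟶ G) [IsMonHom iH] (hcl : IsClosedImmersion iH.left) (q : G ⟶ Q) [IsMonHom q] (hq : RedSub.IsQuotient iH q) (n : ℕ) (hn : 0 < n) (M : ℕ) (hM : 0 < M) : ∃ (G' : Over (Spec (CommRingCat.of k))) (_ : GrpObj G') (j : G' ⟶ G) (_ : IsMonHom j), IsClosedImmersion j.left ∧ (∃ N : ℕ, ∀ (T : Over (Spec (CommRingCat.of k))) (g : T ⟶ G'), g ^ (n ^ N) = 1) ∧ (∀ (T : Over (Spec (CommRingCat.of k))) (g : T ⟶ G'), (g ≫ j ≫ q) ^ (n ^ M) = 1) ∧ ∀ (K : Over (Spec (CommRingCat.of k))) [GrpObj K] (κ : K ⟶ Q) [IsMonHom κ], AlgGrp.IsKernel κ ((𝟙 Q) ^ (n ^ M))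 → ∀ ℓ : G' ⟶ K, ℓ ≫ κ = j ≫ q → Flat ℓ.left ∧ Surjective ℓ.left := by
  exact Groth.Agent.Lib.TorsLift89.exists_torsion_lift iH hcl q hq n M

end Groth.Agent.S17804
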