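import Groth.Statements.S17807
import Groth.Agent.Lib.CurveFF.LineIso
import Groth.Agent.Lib.CurveFF.IdealInv
import Groth.Agent.Lib.CurveFF.Hyp
import Groth.Agent.Lib.CurveFF.Consts
import Groth.Agent.Lib.Curves.RationalPoint
-- import your own Groth.Agent.* helpers here

set_option autoImplicit false
universe u
open CategoryTheory CategoryTheory.Limits AlgebraicGeometry
open JacVar

namespace Groth.Agent.S17807
open Groth.Agent.Lib
attribute [local instance] Curv2.stalkAlgebra

/-- Let C be a smooth proper geometrically connected curve of genus g > 0 over a field k with a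
k-rational point, and let L be an invertible module on C with h¹(C, L) > 0. Under these hypotheses,
C contains some nonempty open U with the following property: whenever Q is a k-rational point of C
and M is an invertible module satisfying M ⊗ I_Q ≅ L (so M is L(Q)), one has h¹(C, M) = h¹(C, L) − 1
if Q belongs to U, and h¹(C, M) = h¹(C, L) if Q does not. (The published statement is phrased for
all closed points Q; for a closed point of degree d > 1 the drop can exceed one, so this row states
it for k-rational points Q.) -/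
theorem result (k : Type u) [Field k]
    (C : Scheme.{u}) [C.Over (Spec (CommRingCat.of k))]
    [IsProper (C ↘ Spec (CommRingCat.of k))] [Smooth (C ↘ Spec (CommRingCat.of k))] [GeometricallyConnected (C ↘ Spec (CommRingCat.of k))]
    (hdim : topologicalKrullDim ↥C = 1)
    (hg : 0 < Curv2.genus k C)
    (σ₀ : Spec (CommRingCat.of k) ⟶ C) (hσ₀ : σ₀ ≫ (C ↘ Spec (CommRingCat.of k)) = 𝟙 _)
    (L : C.Modules) (hL : PicF.IsInvertible L) (hL1 : 0 < Module.finrank k (Coh.HH C L 1)) :
    ∃ U : C.Opens, (U : Set ↥C).Nonempty ∧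
      ∀ (σ : Spec (CommRingCat.of k) ⟶ C) (hσ : σ ≫ (C ↘ Spec (CommRingCat.of k)) = 𝟙 _) (M : C.Modules) (hM : PicF.IsInvertible M)
        (hML : Nonempty (CohB1.tensorMod M (ClSub.idealMod σ.ker) ≅ L)),
        ((∀ p, σ.base p ∈ U) → Module.finrank k (Coh.HH C M 1) = Module.finrank k (Coh.HH C L 1) - 1) ∧
        ((∀ p, σ.base p ∉ U) → Module.finrank k (Coh.HH C M 1) = Module.finrank k (Coh.HH C L 1)) := by
  classical
  have hne0 : Nonempty C := ⟨σ₀.base (default : PrimeSpectrum k)⟩
  haveI := hne0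
  haveI : Subsingleton (Spec (CommRingCat.of k)) := inferInstanceAs (Subsingleton (PrimeSpectrum k))
  haveI : Nonempty (Spec (CommRingCat.of k)) := inferInstanceAs (Nonempty (PrimeSpectrum k))
  haveI : ConnectedSpace C :=
    GeometricallyConnected.connectedSpace_of_subsingleton (C ↘ Spec (CommRingCat.of k))
  haveI : IsIntegral C := CurveBundle.SmoothField.isIntegral k hdim.le
  have h := CurveFF.curveHyp_of_smooth k hdim
  have h0 := CurveFF.finrank_h0_eq_one k C
  have hK := CurveFF.isFunctionField (k := k) h h0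
  obtain ⟨R⟩ := CurveFF.LineDiv.nonempty_rep hL
  obtain ⟨W, hW⟩ := FunFld.Weil.exists_isCanonical hK
  set E := W - R.div (k := k) h hK with hE
  have hE1 : Module.finrank k (Coh.HH C L 1) = _root_.FunFld.ell E := R.finrank_h1 h hK h0 hW
  obtain ⟨F, x, hF, hx, hEF, -⟩ := FunFld.SmallGenus.exists_nonneg hK (E := E) (by omega)
  have hfin : {y : C | ∃ hy : IsClosed ({y} : Set C),
      _root_.FunFld.ell (E - Finsupp.single (CurveFF.placeOf k h ⟨y, hy⟩) (1 : ℤ)) = _root_.FunFld.ell E}.Finite := by
    refine ((F.support.finite_toSet.preimage (CurveFF.placeOf_injective (k := k) h).injOn).image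
      Subtype.val).subset ?_
    rintro y ⟨hy, heq⟩
    refine ⟨⟨y, hy⟩, ?_, rfl⟩
    simp only [Set.mem_preimage, Finset.mem_coe, Finsupp.mem_support_iff]
    intro hF0
    set P := CurveFF.placeOf k h ⟨y, hy⟩ with hP
    haveI := FunFld.Degree.finiteDimensional_L hK E
    have heqL : _root_.FunFld.L (E - Finsupp.single P (1 : ℤ)) = _root_.FunFld.L E :=
      Submodule.eq_of_le_of_finrank_le (FunFld.Degree.L_mono fun Q => by
        rw [Finsupp.sub_apply, Finsupp.single_apply]; split_ifs <;> omega) heq.ge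
    have hmem : x⁻¹ ∈ _root_.FunFld.L E := FunFld.Degree.mem_L_iff_ord.2 (Or.inr fun Q => by
      have h1 := hF Q
      rw [FunFld.Place.ord_inv, hEF, Finsupp.add_apply, FunFld.Degree.div_apply hK]
      rw [Finsupp.coe_zero, Pi.zero_apply] at h1
      omega)
    rw [← heqL] at hmem
    have h2 := (FunFld.Degree.mem_L_iff_ord.1 hmem).resolve_left (inv_ne_zero hx) P
    rw [FunFld.Place.ord_inv, Finsupp.sub_apply, Finsupp.single_eq_same, hEF, Finsupp.add_apply,
      FunFld.Degree.div_apply hK, hF0] at h2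
    omega
  let U : C.Opens := ⟨{y : C | ∃ hy : IsClosed ({y} : Set C),
      _root_.FunFld.ell (E - Finsupp.single (CurveFF.placeOf k h ⟨y, hy⟩) (1 : ℤ)) = _root_.FunFld.ell E}ᶜ, by
    rw [isOpen_compl_iff, ← Set.biUnion_of_singleton {y : C | ∃ hy : IsClosed ({y} : Set C),
      _root_.FunFld.ell (E - Finsupp.single (CurveFF.placeOf k h ⟨y, hy⟩) (1 : ℤ)) = _root_.FunFld.ell E}]
    exact hfin.isClosed_biUnion fun y hy => hy.1⟩
  refine ⟨U, ⟨genericPoint C, fun ⟨hy, _⟩ =>
    SmoothCurve.Stalk.ne_genericPoint_of_isClosed (by rw [hdim]; exact one_ne_zero) hy rfl⟩, ?_⟩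
  intro σ hσ M hM hML
  let p : CurveFF.CPt C := ⟨Curves.RationalPoint.pt σ, Curves.RationalPoint.isClosed_pt σ hσ⟩
  set P := CurveFF.placeOf k h p with hPdef
  have hPd : P.deg = 1 := by
    rw [hPdef, CurveFF.deg_placeOf]
    exact Curves.RationalPoint.finrank_residueField σ hσ
  obtain ⟨e⟩ := hML
  rw [Curves.RationalPoint.ker_eq σ hσ p.2] at e
  obtain ⟨J, hJ⟩ := CurveFF.IdealInv.exists_rep_point h hK p
  obtain ⟨S⟩ := CurveFF.LineDiv.nonempty_rep hM
  obtain ⟨c, hc, hdiv⟩ := CurveFF.LineDiv.exists_div_iso h hK e (S.mul J) R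
  rw [CurveFF.LineDiv.Rep.div_mul, hJ, ← hPdef] at hdiv
  have hS : W - S.div (k := k) h hK = (E - Finsupp.single P (1 : ℤ)) + _root_.FunFld.div k c⁻¹ := by
    rw [FunFld.Degree.div_inv hK, hE,
      show S.div (k := k) h hK = R.div (k := k) h hK + _root_.FunFld.div k c + Finsupp.single P (1 : ℤ) by
        rw [← hdiv]; abel]
    abel
  have hM1 : Module.finrank k (Coh.HH C M 1) = _root_.FunFld.ell (E - Finsupp.single P (1 : ℤ)) := by
    rw [S.finrank_h1 h hK h0 hW, hS, FunFld.Riemann.ell_add_div hK _ (inv_ne_zero hc)]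
  have hle : E - Finsupp.single P (1 : ℤ) ≤ E := fun Q => by
    rw [Finsupp.sub_apply, Finsupp.single_apply]; split_ifs <;> omega
  have hsub := FunFld.Degree.ell_sub_ell_le hK hle
  rw [FunFld.Degree.deg_sub E (Finsupp.single P (1 : ℤ)), FunFld.Degree.deg_single, hPd] at hsub
  haveI := FunFld.Degree.finiteDimensional_L hK E
  have hmono : _root_.FunFld.ell (E - Finsupp.single P (1 : ℤ)) ≤ _root_.FunFld.ell E :=
    Submodule.finrank_mono (FunFld.Degree.L_mono hle)
  refine ⟨fun hin => ?_, fun hout => ?_⟩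
  · have hne : _root_.FunFld.ell (E - Finsupp.single P (1 : ℤ)) ≠ _root_.FunFld.ell E :=
      fun heq => hin (default : PrimeSpectrum k) ⟨p.2, heq⟩
    omega
  · obtain ⟨hy, heq⟩ := not_not.1 (hout (default : PrimeSpectrum k))
    have heq' : _root_.FunFld.ell (E - Finsupp.single P (1 : ℤ)) = _root_.FunFld.ell E := heq
    omega

end Groth.Agent.S17807
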