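import Groth.Statements.S17808
import Groth.Agent.Lib.CurveFF.GeneralPoints
import Groth.Agent.Lib.CurveFF.LineIso
import Groth.Agent.Lib.CurveFF.IdealInv
import Groth.Agent.Lib.CurveFF.Drop
import Groth.Agent.H75.RedKer
import Groth.Agent.Lib.CurveBundle.SmoothField
-- import your own Groth.Agent.* helpers here

set_option autoImplicit false
universe u
open CategoryTheory CategoryTheory.Limits AlgebraicGeometry
open JacVar

namespace Groth.Agent.S17808
open Groth.Agent.Lib Groth.Agent.Lib.CurveFF
attribute [local instance] Curv2.stalkAlgebra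

/-- Let C be a smooth proper connected curve of genus g > 0 over an algebraically closed field k (with a
chosen point), and let r ≤ g. Then there is a nonempty open subset U of the r-fold fibre power C ×_k
⋯ ×_k C such that for every k-point (P_1, …, P_r) of U (closed points, k being algebraically closed)
and every invertible module M on C with M ⊗ I_{P_1} ⊗ ⋯ ⊗ I_{P_r} ≅ O_C (so M is O(P_1 + ⋯ + P_r)),
h⁰(C, M) = 1. (The published statement, over the ground field of the section, says only that U is
open; this row also asserts that U is non-empty; k is taken algebraically closed so that the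
k-points of U are its closed points.) -/
theorem result (k : Type u) [Field k] [IsAlgClosed k]
    (C : Scheme.{u}) [C.Over (Spec (CommRingCat.of k))]
    [IsProper (C ↘ Spec (CommRingCat.of k))] [Smooth (C ↘ Spec (CommRingCat.of k))] [GeometricallyConnected (C ↘ Spec (CommRingCat.of k))]
    (hdim : topologicalKrullDim ↥C = 1)
    (hg : 0 < Curv2.genus k C)
    (σ₀ : Spec (CommRingCat.of k) ⟶ C) (hσ₀ : σ₀ ≫ (C ↘ Spec (CommRingCat.of k)) = 𝟙 _)
    (r : ℕ) (hr : r ≤ Curv2.genus k C) :
    ∃ U : (SymProd.fibPow (C ↘ Spec (CommRingCat.of k)) r).Opens, (U : Set ↥(SymProd.fibPow (C ↘ Spec (CommRingCat.of k)) r)).Nonempty ∧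
      ∀ (x : Spec (CommRingCat.of k) ⟶ SymProd.fibPow (C ↘ Spec (CommRingCat.of k)) r)
        (hx : x ≫ WidePullback.base (fun (_ : Fin r) => (C ↘ Spec (CommRingCat.of k))) = 𝟙 _)
        (hxU : ∀ p, x.base p ∈ U) (M : C.Modules) (hM : PicF.IsInvertible M)
        (hMD : Nonempty (CohB1.tensorMod M (FGA.tensorList (List.ofFn fun i : Fin r =>
          ClSub.idealMod (x ≫ WidePullback.π (fun (_ : Fin r) => (C ↘ Spec (CommRingCat.of k))) i).ker)) ≅ Coh.structureModule C)),
        Module.finrank k (Coh.HH C M 0) = 1 := by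
  classical
  haveI : Nonempty (Spec (CommRingCat.of k)) := inferInstanceAs (Nonempty (PrimeSpectrum k))
  haveI : Subsingleton (Spec (CommRingCat.of k)) := inferInstanceAs (Subsingleton (PrimeSpectrum k))
  haveI : ConnectedSpace C := GeometricallyConnected.connectedSpace_of_subsingleton (C ↘ Spec (CommRingCat.of k))
  haveI : IsIntegral C := CurveBundle.SmoothField.isIntegral k hdim.le
  haveI : IsLocallyNoetherian C := LocallyOfFiniteType.isLocallyNoetherian (C ↘ Spec (CommRingCat.of k))
  have h := CurveFF.curveHyp_of_smooth k hdim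
  have h0 := CurveFF.finrank_h0_eq_one k C
  have hK := CurveFF.isFunctionField (k := k) h h0
  have hge := CurveFF.genus_eq (k := k) h h0
  obtain ⟨W, hW⟩ := FunFld.Weil.exists_isCanonical hK
  haveI := FunFld.Degree.finiteDimensional_L hK W
  have hgW : Module.finrank k (_root_.FunFld.L W) = Curv2.genus k C :=
    (FunFld.Weil.ell_canonical hK hW).trans hge.symm
  let β := Module.finBasisOfFinrankEq k (_root_.FunFld.L W) hgW
  choose Va hVa σ hσ using fun a => C.presheaf.exists_germ_eq ((β a : _root_.FunFld.L W) : C.functionField)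
  let Bad : Set C := Subtype.val '' ((CurveFF.placeOf k h : CurveFF.CPt C → _) ⁻¹' (W.support : Set _))
  have hBad : Bad.Finite :=
    (W.support.finite_toSet.preimage (CurveFF.placeOf_injective (k := k) h).injOn).image _
  have hBadc : IsClosed Bad := by
    rw [← Set.biUnion_of_singleton Bad]
    exact hBad.isClosed_biUnion fun z hz => by obtain ⟨w, -, rfl⟩ := hz; exact w.2
  let V : C.Opens := Finset.univ.inf Va ⊓ ⟨Badᶜ, hBadc.isOpen_compl⟩
  have hηV : genericPoint C ∈ V := by
    refine ⟨?_, ?_⟩
    · show genericPoint C ∈ ((Finset.univ.inf Va : C.Opens) : Set C)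
      rw [TopologicalSpace.Opens.coe_finset_inf, Finset.inf_eq_iInf]
      simpa using fun a => hVa a
    · rintro ⟨w, -, hw⟩
      exact SmoothCurve.Stalk.ne_genericPoint_of_isClosed (by rw [hdim]; exact one_ne_zero) w.2 hw
  have hVle : ∀ a, V ≤ Va a := fun a => inf_le_left.trans (Finset.inf_le (Finset.mem_univ a))
  let s := fun a => C.presheaf.map (homOfLE (hVle a)).op (σ a)
  have hs : ∀ c : Fin (Curv2.genus k C) → k, C.presheaf.germ V (genericPoint C) hηV (GeneralPoints.comb s c) =
      ((∑ a, c a • β a : _root_.FunFld.L W) : C.functionField) := by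
    intro c
    simp only [GeneralPoints.comb, map_sum, map_mul, Submodule.coe_sum, Submodule.coe_smul, Algebra.smul_def]
    refine Finset.sum_congr rfl fun a _ => ?_
    congr 1
    · exact CurveFF.germ_cst hηV (c a)
    · exact (C.presheaf.germ_res_apply (homOfLE (hVle a)) _ hηV (σ a)).trans (hσ a)
  have hind : ∀ c : Fin (Curv2.genus k C) → k, GeneralPoints.comb s c = 0 → c = 0 := by
    intro c hc
    have h1 : (∑ a, c a • β a : _root_.FunFld.L W) = 0 := Subtype.ext (by rw [← hs, hc, map_zero]; rfl)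
    funext a
    exact Fintype.linearIndependent_iff.1 β.linearIndependent c h1 a
  obtain ⟨P, hP, hP', hspan⟩ := GeneralPoints.exists_points s hind r hr
  choose c₀ hc₀ using fun j : Fin r => hspan (Pi.single j 1)
  let u := fun j => GeneralPoints.comb s (c₀ j)
  -- the open set
  let π := fun b : Fin r => WidePullback.π (fun (_ : Fin r) => (C ↘ Spec (CommRingCat.of k))) b
  let U₀ := Finset.univ.inf fun b => π b ⁻¹ᵁ V
  have hU₀ : ∀ b, U₀ ≤ π b ⁻¹ᵁ V := fun b => Finset.inf_le (Finset.mem_univ b)
  let A : Matrix (Fin r) (Fin r) Γ(SymProd.fibPow (C ↘ Spec (CommRingCat.of k)) r, U₀) :=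
    fun b j => (π b).appLE V U₀ (hU₀ b) (u j)
  have hpt : ∀ (x : Spec (CommRingCat.of k) ⟶ SymProd.fibPow (C ↘ Spec (CommRingCat.of k)) r)
      (hx : ⊤ ≤ x ⁻¹ᵁ U₀) (hxb : ∀ b, ⊤ ≤ (x ≫ π b) ⁻¹ᵁ V),
      GeneralPoints.ev x hx A.det =
        Matrix.det (fun b j => GeneralPoints.ev (x ≫ π b) (hxb b) (u j)) := by
    intro x hx hxb
    rw [RingHom.map_det]
    congr 1
    funext b j
    show (Scheme.ΓSpecIso (CommRingCat.of k)).hom (x.appLE U₀ ⊤ hx ((π b).appLE V U₀ (hU₀ b) (u j))) = _
    rw [← CommRingCat.comp_apply (f := (π b).appLE V U₀ (hU₀ b)), Scheme.Hom.appLE_comp_appLE]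
    rfl
  refine ⟨(SymProd.fibPow (C ↘ Spec (CommRingCat.of k)) r).basicOpen A.det, ?_, ?_⟩
  · let x : Spec (CommRingCat.of k) ⟶ SymProd.fibPow (C ↘ Spec (CommRingCat.of k)) r :=
      WidePullback.lift (𝟙 _) P hP'
    have hxπ : ∀ b, x ≫ π b = P b := fun b => WidePullback.lift_π _ _ _ _ _
    have hxb : ∀ b, ⊤ ≤ (x ≫ π b) ⁻¹ᵁ V := fun b => by rw [hxπ]; exact hP b
    have hx : ⊤ ≤ x ⁻¹ᵁ U₀ := fun z _ => by
      show x z ∈ ((U₀ : (SymProd.fibPow (C ↘ Spec (CommRingCat.of k)) r).Opens) : Set _)
      rw [TopologicalSpace.Opens.coe_finset_inf, Finset.inf_eq_iInf]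
      simpa using fun b => hxb b (show z ∈ (⊤ : (Spec (CommRingCat.of k)).Opens) from trivial)
    refine ⟨_, (GeneralPoints.ev_ne_zero_iff x hx _).1 ?_⟩
    have h1 : Matrix.det (fun b j => GeneralPoints.ev (x ≫ π b) (hxb b) (u j)) = 1 := by
      rw [show (fun b j => GeneralPoints.ev (x ≫ π b) (hxb b) (u j)) = (1 : Matrix (Fin r) (Fin r) k)
        from ?_, Matrix.det_one]
      funext b j
      simp only [hxπ, u, GeneralPoints.ev_comb s (c₀ j) (P b) (hP' b) (hP b), hc₀ j b,
        Matrix.one_apply, Pi.single_apply]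
    rw [hpt x hx hxb, h1]
    exact one_ne_zero
  intro x hx' hxU M hM hMD
  have hx : ⊤ ≤ x ⁻¹ᵁ U₀ := fun z _ => (show x z ∈ U₀ from Scheme.basicOpen_le _ A.det (hxU z))
  have hxb : ∀ b, ⊤ ≤ (x ≫ π b) ⁻¹ᵁ V := fun b z hz => hU₀ b (hx hz)
  have hxo : ∀ b, (x ≫ π b) ≫ (C ↘ Spec (CommRingCat.of k)) = 𝟙 _ := fun b => by
    rw [Category.assoc, WidePullback.π_arrow]; exact hx'
  have hdet : Matrix.det (fun b j => GeneralPoints.ev (x ≫ π b) (hxb b) (u j)) ≠ 0 := by
    rw [← hpt x hx hxb]
    exact (GeneralPoints.ev_ne_zero_iff x hx _).2 (hxU _)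
  let y : Fin r → CurveFF.CPt C := fun b => ⟨(x ≫ π b) (IsLocalRing.closedPoint k),
    ((pointEquivClosedPoint (C ↘ Spec (CommRingCat.of k))) ⟨x ≫ π b, hxo b⟩).2⟩
  let D : _root_.FunFld.Divisor k C.functionField := ∑ b, Finsupp.single (CurveFF.placeOf k h (y b)) 1
  have hD0 : 0 ≤ D := Finset.sum_nonneg fun b _ => Finsupp.single_nonneg.2 zero_le_one
  -- speciality
  have hWD : _root_.FunFld.ell (W - D) + r ≤ Curv2.genus k C := by
    haveI := FunFld.Degree.finiteDimensional_L hK (W - D)
    let ψ : (Fin r → k) →ₗ[k] _root_.FunFld.L W :=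
      Fintype.linearCombination k (fun j => ∑ a, c₀ j a • β a)
    let inc : _root_.FunFld.L (W - D) →ₗ[k] _root_.FunFld.L W :=
      Submodule.inclusion (FunFld.Degree.L_mono (sub_le_self _ hD0))
    have hval : ∀ (d : Fin r → k) (b : Fin r),
        ((ψ d : C.functionField)) ∈ _root_.FunFld.L (W - D) →
        ∑ j, d j * GeneralPoints.ev (x ≫ π b) (hxb b) (u j) = 0 := by
      intro d b hm
      let t : Γ(C, V) := ∑ j, Curves.PolePoint.cst k V (d j) * u j
      have ht : GeneralPoints.ev (x ≫ π b) (hxb b) t = ∑ j, d j * GeneralPoints.ev (x ≫ π b) (hxb b) (u j) := by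
        simp only [t, map_sum, map_mul, GeneralPoints.ev_cst _ (hxo b)]
      rw [← ht]
      by_contra hne
      have hyt := (GeneralPoints.ev_ne_zero_iff _ (hxb b) t).1 hne
      obtain ⟨hyV, hu⟩ := hyt
      change IsUnit (C.presheaf.germ V (y b).1 hyV t) at hu
      refine absurd hu ((CurveFF.ClosedImmersionCrit.val_lt_one_iff (k := k) h (y b) _).1 ?_)
      have e : algebraMap (C.presheaf.stalk (y b).1) C.functionField (C.presheaf.germ V (y b).1 hyV t) =
          (ψ d : C.functionField) := by
        rw [RefHull.Generic.algebraMap_germ hyV t]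
        show C.presheaf.germ V (genericPoint C) hηV t = _
        simp only [t, ψ, u, map_sum, map_mul, hs, Fintype.linearCombination_apply, Submodule.coe_sum,
          Submodule.coe_smul]
        refine Finset.sum_congr rfl fun j _ => ?_
        rw [Algebra.smul_def (d j)]
        exact congrArg (· * _) (CurveFF.germ_cst hηV (d j))
      rw [e]
      have hW0 : W (CurveFF.placeOf k h (y b)) = 0 := by
        by_contra hne0
        exact hyV.2 ⟨y b, Finsupp.mem_support_iff.2 hne0, rfl⟩
      have hDb : 1 ≤ D (CurveFF.placeOf k h (y b)) := by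
        simp only [D, Finsupp.finsetSum_apply]
        refine le_trans ?_ (Finset.single_le_sum (fun c _ => ?_) (Finset.mem_univ b))
        · simp
        · rw [Finsupp.single_apply]; split_ifs <;> omega
      refine (CurveFF.Drop.mem_L_iff_val.1 hm _).trans_lt ?_
      rw [← WithZero.exp_zero, WithZero.exp_lt_exp, Finsupp.sub_apply, hW0]
      omega
    have hinj : Function.Injective (inc.coprod ψ) := by
      rw [injective_iff_map_eq_zero]
      rintro ⟨f, d⟩ hfd
      rw [LinearMap.coprod_apply] at hfd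
      have hd : d = 0 := by
        have hm : ((ψ d : C.functionField)) ∈ _root_.FunFld.L (W - D) := by
          have h2 : ψ d = inc (-f) := by rw [map_neg]; exact eq_neg_of_add_eq_zero_right hfd
          rw [h2]
          exact (-f).2
        exact Matrix.eq_zero_of_mulVec_eq_zero hdet (funext fun b =>
          (Finset.sum_congr rfl fun j _ => mul_comm _ _).trans (hval d b hm))
      subst hd
      rw [map_zero, add_zero] at hfd
      exact Prod.ext (Submodule.inclusion_injective _ (hfd.trans (map_zero inc).symm)) rfl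
    have := LinearMap.finrank_le_finrank_of_injective hinj
    rw [Module.finrank_prod, Module.finrank_fin_fun, hgW] at this
    exact this
  -- the divisor of the product of the ideals
  have hlist : ∀ (n : ℕ) (z : Fin n → CurveFF.CPt C),
      ∃ R : CurveFF.LineDiv.Rep (FGA.tensorList (List.ofFn fun i => ClSub.idealMod (Curves.PointIdeal.ptI (z i).2))),
        R.div h hK = -∑ i, Finsupp.single (CurveFF.placeOf k h (z i)) 1 := by
    intro n
    induction n with
    | zero =>
      intro z
      rw [List.ofFn_zero]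
      have key : (CurveFF.LineDiv.trivRep (PicLoc.isInvertible_structureModule C)).div (k := k) h hK =
          -∑ i, Finsupp.single (CurveFF.placeOf k h (z i)) (1 : ℤ) := by
        ext Q
        obtain ⟨q, rfl⟩ := CurveFF.placeOf_surjective (k := k) h Q
        rw [CurveFF.LineDiv.Rep.div_placeOf, CurveFF.LineDiv.trivRep_e]
        simp
      exact ⟨CurveFF.LineDiv.trivRep (PicLoc.isInvertible_structureModule C), key⟩
    | succ n ih =>
      intro z
      obtain ⟨R, hR⟩ := ih fun i => z i.succ
      obtain ⟨J, hJ⟩ := CurveFF.IdealInv.exists_rep_point h hK (z 0)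
      rw [List.ofFn_succ]
      have key : (J.mul R).div h hK = -∑ i, Finsupp.single (CurveFF.placeOf k h (z i)) (1 : ℤ) := by
        rw [J.div_mul h hK R, hJ, hR, Fin.sum_univ_succ, neg_add]
      exact ⟨J.mul R, key⟩
  obtain ⟨R₀, hR₀⟩ := hlist r y
  have hker : (fun i : Fin r => ClSub.idealMod (x ≫ π i).ker) =
      fun i => ClSub.idealMod (Curves.PointIdeal.ptI (y i).2) := by
    funext i
    congr 1
    rw [H75.RedKer.ker_eq_vanishingIdeal]
    congr 1
    ext1
    have : Set.range (x ≫ π i) = {(y i).1} := Set.Subset.antisymm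
      (by rintro _ ⟨w, rfl⟩; rw [Subsingleton.elim w (IsLocalRing.closedPoint k)]; rfl)
      (by rintro _ rfl; exact ⟨_, rfl⟩)
    simp only [this, (y i).2.closure_eq]
  change Nonempty (CohB1.tensorMod M (FGA.tensorList (List.ofFn fun i : Fin r =>
    ClSub.idealMod (x ≫ π i).ker)) ≅ _) at hMD
  rw [hker] at hMD
  obtain ⟨e⟩ := hMD
  obtain ⟨R⟩ := CurveFF.LineDiv.nonempty_rep hM
  obtain ⟨c, hc, hdiv⟩ := CurveFF.LineDiv.exists_div_iso h hK e (R.mul R₀)
    (CurveFF.LineDiv.trivRep (PicLoc.isInvertible_structureModule C))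
  have hT : (CurveFF.LineDiv.trivRep (PicLoc.isInvertible_structureModule C)).div (k := k) h hK = 0 := by
    ext Q
    obtain ⟨q, rfl⟩ := CurveFF.placeOf_surjective (k := k) h Q
    rw [CurveFF.LineDiv.Rep.div_placeOf, CurveFF.LineDiv.trivRep_e]
    rfl
  rw [R.div_mul h hK R₀, hR₀, hT, zero_add] at hdiv
  have hRdiv : R.div h hK = D + _root_.FunFld.div k c := by
    rw [← hdiv]; simp only [D]; abel
  rw [R.finrank_h0 h hK, hRdiv, FunFld.Riemann.ell_add_div hK _ hc]
  have h1 := CurveFF.Drop.one_le_ell hK hD0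
  have h2 := FunFld.Weil.riemann_roch hK hW D
  have h3 : _root_.FunFld.Divisor.deg D = r := by
    have key : ∀ S : Finset (Fin r), _root_.FunFld.Divisor.deg
        (∑ b ∈ S, Finsupp.single (CurveFF.placeOf k h (y b)) (1 : ℤ)) = S.card := by
      intro S
      induction S using Finset.induction with
      | empty => rw [Finset.sum_empty, Finset.card_empty, FunFld.Degree.deg_zero]; rfl
      | insert b S hb ih =>
        rw [Finset.sum_insert hb, Finset.card_insert_of_notMem hb, FunFld.Degree.deg_add,
          FunFld.Degree.deg_single, FunFld.Rational.deg_eq_one hK]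
        omega
    simpa using key Finset.univ
  rw [h3, ← hge] at h2
  omega

end Groth.Agent.S17808
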