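import Groth.Statements.S17814
import Mathlib.AlgebraicGeometry.IdealSheaf.Functorial
-- import your own Groth.Agent.* helpers here

set_option autoImplicit false
universe u
open CategoryTheory CategoryTheory.Limits AlgebraicGeometry
open SDiv

namespace Groth.Agent.S17814

open AlgebraicGeometry CategoryTheory CategoryTheory.Limits
open scoped TensorProduct

open scoped TensorProduct in
/-- Over a reduced Noetherian ring, an element of a flat algebra that vanishes in every fibre is zero. -/
theorem eq_zero_of_forall_fibre (A : Type u) [CommRing A] [_root_.IsReduced A] [IsNoetherianRing A]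
    {B : Type u} [CommRing B] [Algebra A B] [Module.Flat A B] (x : B)
    (h : ∀ (p : Ideal A) [p.IsPrime], (Algebra.TensorProduct.includeLeftRingHom (R := A) (B := p.ResidueField)) x = 0) :
    x = 0 := by
  classical
  have : Finite (minimalPrimes A) := (minimalPrimes.finite_of_isNoetherianRing A).to_subtype
  have := Fintype.ofFinite (minimalPrimes A)
  have hmp : ∀ p : minimalPrimes A, p.1.IsPrime := fun p => p.2.1.1
  let φ : A →ₗ[A] ((p : minimalPrimes A) → p.1.ResidueField) :=
    LinearMap.pi fun p => Algebra.linearMap A p.1.ResidueField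
  have hφ : Function.Injective φ := by
    rw [injective_iff_map_eq_zero]
    intro a ha
    have hmem : a ∈ sInf (minimalPrimes A) := by
      simp only [Submodule.mem_sInf]
      intro p hp
      have : Ideal.IsPrime (p : Ideal A) := hmp ⟨p, hp⟩
      exact Ideal.algebraMap_residueField_eq_zero.mp (congrFun ha ⟨p, hp⟩)
    rw [show sInf (minimalPrimes A) = (⊥ : Ideal A).radical from Ideal.sInf_minimalPrimes,
      Ideal.radical_bot_of_isReduced] at hmem
    simpa using hmem
  have hinj := ((TensorProduct.piRight A A B (fun p : minimalPrimes A => p.1.ResidueField)).injective).comp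
    (Module.Flat.lTensor_preserves_injective_linearMap (M := B) φ hφ)
  have hz : x ⊗ₜ[A] (1 : A) = 0 := hinj (by
    funext p
    simpa [φ] using h p.1)
  simpa using congrArg (TensorProduct.rid A B) hz

/-- If a closed subscheme flat over a reduced locally Noetherian base is contained in `D` fibrewise,
it is contained in `D`. -/
theorem le_ker_of_fibre {X Z T : Scheme.{u}} [IsLocallyNoetherian T] [AlgebraicGeometry.IsReduced T]
    (π : X ⟶ T) (ι : Z ⟶ X) [IsAffineHom ι] [Flat (ι ≫ π)] (D : X.IdealSheafData)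
    (hfib : ∀ t : ↥T, D.comap (pullback.fst π (T.fromSpecResidueField t)) ≤
      ι.ker.comap (pullback.fst π (T.fromSpecResidueField t))) :
    D ≤ ι.ker := by
  refine Scheme.IdealSheafData.le_of_iSup_eq_top (ι := {p : T.affineOpens × X.affineOpens // (p.2 : X.Opens) ≤ π ⁻¹ᵁ p.1})
    (fun p => p.1.2) ?_ ?_
  · refine eq_top_iff.mpr fun x _ => ?_
    obtain ⟨_, ⟨V, hV, rfl⟩, hxV, -⟩ :=
      T.isBasis_affineOpens.exists_subset_of_mem_open (Set.mem_univ (π x)) isOpen_univ
    obtain ⟨_, ⟨U, hU, rfl⟩, hxU, hUV⟩ :=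
      X.isBasis_affineOpens.exists_subset_of_mem_open (show x ∈ (π ⁻¹ᵁ V : X.Opens) from hxV) (π ⁻¹ᵁ V).2
    exact TopologicalSpace.Opens.mem_iSup.mpr ⟨⟨⟨⟨V, hV⟩, ⟨U, hU⟩⟩, hUV⟩, hxU⟩
  rintro ⟨⟨⟨V, hV⟩, ⟨U, hU⟩⟩, hUV⟩ r hr
  let W : Z.Opens := ι ⁻¹ᵁ U
  have hW : IsAffineOpen W := hU.preimage _
  have hWV : W ≤ (ι ≫ π) ⁻¹ᵁ V := fun z hz => hUV hz
  let φ := (ι ≫ π).appLE V W hWV
  let _ : Algebra Γ(T, V) Γ(Z, W) := φ.hom.toAlgebra
  have hflat : Flat (ι ≫ π) := inferInstance
  have hfl : Module.Flat Γ(T, V) Γ(Z, W) :=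
    HasRingHomProperty.appLE @Flat (ι ≫ π) hflat ⟨V, hV⟩ ⟨W, hW⟩ hWV
  rw [Scheme.Hom.ker_apply, RingHom.mem_ker]
  have : IsLocallyNoetherian T := inferInstance
  have : IsNoetherianRing Γ(T, V) := IsLocallyNoetherian.component_noetherian ⟨V, hV⟩
  refine eq_zero_of_forall_fibre Γ(T, V) _ fun p hp => ?_
  let C := CommRingCat.of (Γ(Z, W) ⊗[Γ(T, V)] p.ResidueField)
  let a : Γ(Z, W) ⟶ C := CommRingCat.ofHom Algebra.TensorProduct.includeLeftRingHom
  let b : CommRingCat.of p.ResidueField ⟶ C :=
    CommRingCat.ofHom (Algebra.TensorProduct.includeRight (R := Γ(T, V)) (A := Γ(Z, W))).toRingHom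
  let c : Γ(T, V) ⟶ CommRingCat.of p.ResidueField := CommRingCat.ofHom (algebraMap Γ(T, V) p.ResidueField)
  have hcomm : φ ≫ a = c ≫ b := by
    ext1
    exact RingHom.ext fun z => RingHom.congr_fun Algebra.TensorProduct.includeLeftRingHom_comp_algebraMap z
  let u : Spec C ⟶ Z := Spec.map a ≫ hW.fromSpec
  let k : Spec (CommRingCat.of p.ResidueField) ⟶ T := Spec.map c ≫ hV.fromSpec
  have hu : (u ≫ ι) ≫ π = Spec.map b ≫ k := by
    simp only [u, k, Category.assoc, ← IsAffineOpen.SpecMap_appLE_fromSpec (ι ≫ π) hV hW hWV]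
    rw [← Spec.map_comp_assoc, ← Spec.map_comp_assoc]
    exact congrArg (fun m => Spec.map m ≫ hV.fromSpec) hcomm
  obtain ⟨⟨t, m⟩, hm⟩ := (Scheme.SpecToEquivOfField p.ResidueField T).symm.surjective k
  have hm' : Spec.map m ≫ T.fromSpecResidueField t = k := hm
  let l : Spec C ⟶ pullback π (T.fromSpecResidueField t) :=
    pullback.lift (u ≫ ι) (Spec.map b ≫ Spec.map m) (by
      rw [hu, ← hm', Category.assoc])
  have hl : l ≫ pullback.fst π (T.fromSpecResidueField t) = u ≫ ι := pullback.lift_fst _ _ _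
  have hker : D ≤ (u ≫ ι).ker := by
    rw [← hl, Scheme.Hom.ker_comp, Scheme.IdealSheafData.le_map_iff_comap_le]
    refine (hfib t).trans ?_
    rw [← Scheme.IdealSheafData.le_map_iff_comap_le, ← Scheme.Hom.ker_comp, hl]
    exact Scheme.Hom.le_ker_comp _ _
  have h0 : ((u ≫ ι).app U) r = 0 :=
    RingHom.mem_ker.mp (Scheme.Hom.ideal_ker_le _ ⟨U, hU⟩ (hker ⟨U, hU⟩ hr))
  rw [Scheme.Hom.comp_app] at h0
  change (u.app W) ((ι.app U) r) = 0 at h0
  have key : u.app W = a ≫ (Scheme.ΓSpecIso C).inv ≫ (Spec C).presheaf.map (eqToHom (by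
      simp [u, hW.fromSpec_preimage_self])).op := by
    simp only [u, Scheme.Hom.comp_app, hW.fromSpec_app_self, Category.assoc, Scheme.Hom.naturality]
    rw [← Category.assoc, show (Scheme.ΓSpecIso Γ(Z, W)).inv ≫ (Spec.map a).app ⊤ = a ≫ (Scheme.ΓSpecIso C).inv
      from (Scheme.ΓSpecIso_inv_naturality a).symm]
    exact Category.assoc _ _ _
  rw [key] at h0
  simp only [CategoryTheory.comp_apply] at h0
  exact (map_eq_zero_iff _ (ConcreteCategory.bijective_of_isIso (Scheme.ΓSpecIso C).inv).1).mp
    ((map_eq_zero_iff _ (ConcreteCategory.bijective_of_isIso _).1).mp h0)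


/-- Let T be a reduced locally Noetherian scheme, π : 𝒞 ⟶ T a proper smooth morphism of relative
dimension 1, and D, D' relative effective divisors on 𝒞/T: closed subschemes whose ideal sheaves are
locally generated by a single nonzerodivisor and which are flat over T. If for every point t of T
the fibre of D over t contains the fibre of D' as closed subschemes of 𝒞_t (containment of ideal
sheaves the other way), then D contains D': the ideal sheaf of D is contained in that of D'. (The
published statement has no hypothesis on T; over T = Spec k[ε] the divisors x = 0 and x = ε on the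
projective line have equal fibres while neither contains the other. This row assumes T reduced and
locally Noetherian.) -/
theorem result {𝒞 T : Scheme.{u}} [IsLocallyNoetherian T] [AlgebraicGeometry.IsReduced T]
    (π : 𝒞 ⟶ T) [IsProper π] [SmoothOfRelativeDimension 1 π]
    (D D' : 𝒞.IdealSheafData)
    (hD : BlowUp.IsEffCartierIdeal D ∧ Flat (D.subschemeι ≫ π))
    (hD' : BlowUp.IsEffCartierIdeal D' ∧ Flat (D'.subschemeι ≫ π))
    (hfib : ∀ t : ↥T, D.comap (pullback.fst π (T.fromSpecResidueField t)) ≤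
      D'.comap (pullback.fst π (T.fromSpecResidueField t))) :
    D ≤ D' := by
  have := hD'.2
  exact (le_ker_of_fibre π D'.subschemeι D fun t => by
    rw [Scheme.IdealSheafData.ker_subschemeι]; exact hfib t).trans
    (Scheme.IdealSheafData.ker_subschemeι D').le

end Groth.Agent.S17814
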