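import Groth.Statements.S17824
import Groth.Agent.Lib.CurveFF.SumDiff
import Groth.Agent.Lib.CurveFF.LineIso
import Groth.Agent.Lib.CurveFF.IdealInv
import Groth.Agent.H75.RedKer
import Groth.Agent.Lib.CurveBundle.SmoothField
-- import your own Groth.Agent.* helpers here

set_option autoImplicit false
universe u
open CategoryTheory CategoryTheory.Limits AlgebraicGeometry
open JacVar

namespace Groth.Agent.S17824
open Groth.Agent.Lib Groth.Agent.Lib.CurveFF
attribute [local instance] Curv2.stalkAlgebra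

/-- Parts (a) and (b) over an algebraically closed field. Let C be a smooth proper connected curve of
genus g > 0 over an algebraically closed field k with a k-point P, and consider the 2g-fold fibre
power C ×_k ⋯ ×_k C, a k-rational point of which is a pair (D, D') of g-tuples of k-points (the
first g and the last g coordinates). (a) There is a nonempty open subset U of it such that for every
k-rational point (P_1, …, P_{2g}) of U and every invertible module M with M ⊗ I_{P_1} ⊗ ⋯ ⊗
I_{P_{2g}} ≅ I_P^{⊗g}, i.e. M ≅ O(D + D' − gP), one has h⁰(C, M) = 1. (b) There is a nonempty open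
subset V such that for every k-rational point of V and every invertible M with M ⊗ I_{P_{g+1}} ⊗ ⋯ ⊗
I_{P_{2g}} ⊗ I_P^{⊗g} ≅ I_{P_1} ⊗ ⋯ ⊗ I_{P_g}, i.e. M ≅ O(D' − D + gP), one has h⁰(C, M) = 1. (The
published lemma is phrased on C^(g) × C^(g), over the ground field, and for points with values in
every field containing it; this row takes k algebraically closed and k-points of the 2g-fold fibre
power.) -/
theorem result (k : Type u) [Field k] [IsAlgClosed k]
    (C : Scheme.{u}) [C.Over (Spec (CommRingCat.of k))]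
    [IsProper (C ↘ Spec (CommRingCat.of k))] [Smooth (C ↘ Spec (CommRingCat.of k))] [GeometricallyConnected (C ↘ Spec (CommRingCat.of k))]
    (hdim : topologicalKrullDim ↥C = 1)
    (g : ℕ) (hg : Curv2.genus k C = g) (hg1 : 1 ≤ g)
    (σ : Spec (CommRingCat.of k) ⟶ C) (hσ : σ ≫ (C ↘ Spec (CommRingCat.of k)) = 𝟙 _) :
    (∃ U : (SymProd.fibPow (C ↘ Spec (CommRingCat.of k)) (2 * g)).Opens, (U : Set ↥(SymProd.fibPow (C ↘ Spec (CommRingCat.of k)) (2 * g))).Nonempty ∧
      ∀ (x : Spec (CommRingCat.of k) ⟶ SymProd.fibPow (C ↘ Spec (CommRingCat.of k)) (2 * g))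
        (hx : x ≫ WidePullback.base (fun (_ : Fin (2 * g)) => (C ↘ Spec (CommRingCat.of k))) = 𝟙 _)
        (hxU : ∀ p, x.base p ∈ U) (M : C.Modules) (hM : PicF.IsInvertible M)
        (hMD : Nonempty (CohB1.tensorMod M (FGA.tensorList (List.ofFn fun i : Fin (2 * g) => ClSub.idealMod (x ≫ WidePullback.π (fun (_ : Fin (2 * g)) => (C ↘ Spec (CommRingCat.of k))) i).ker)) ≅
          CohB1.tensorPow (ClSub.idealMod σ.ker) g)),
        Module.finrank k (Coh.HH C M 0) = 1) ∧
    (∃ V : (SymProd.fibPow (C ↘ Spec (CommRingCat.of k)) (2 * g)).Opens, (V : Set ↥(SymProd.fibPow (C ↘ Spec (CommRingCat.of k)) (2 * g))).Nonempty ∧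
      ∀ (x : Spec (CommRingCat.of k) ⟶ SymProd.fibPow (C ↘ Spec (CommRingCat.of k)) (2 * g))
        (hx : x ≫ WidePullback.base (fun (_ : Fin (2 * g)) => (C ↘ Spec (CommRingCat.of k))) = 𝟙 _)
        (hxV : ∀ p, x.base p ∈ V) (M : C.Modules) (hM : PicF.IsInvertible M)
        (hMD : Nonempty (CohB1.tensorMod M (CohB1.tensorMod
            (FGA.tensorList (List.ofFn fun i : Fin g => ClSub.idealMod (x ≫ WidePullback.π (fun (_ : Fin (2 * g)) => (C ↘ Spec (CommRingCat.of k))) (Fin.cast (two_mul g).symm (Fin.natAdd g i))).ker))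
            (CohB1.tensorPow (ClSub.idealMod σ.ker) g)) ≅
          FGA.tensorList (List.ofFn fun i : Fin g => ClSub.idealMod (x ≫ WidePullback.π (fun (_ : Fin (2 * g)) => (C ↘ Spec (CommRingCat.of k))) (Fin.cast (two_mul g).symm (Fin.castAdd g i))).ker))),
        Module.finrank k (Coh.HH C M 0) = 1) := by
  classical
  haveI : Nonempty (Spec (CommRingCat.of k)) := inferInstanceAs (Nonempty (PrimeSpectrum k))
  haveI : Subsingleton (Spec (CommRingCat.of k)) := inferInstanceAs (Subsingleton (PrimeSpectrum k))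
  haveI : ConnectedSpace C := GeometricallyConnected.connectedSpace_of_subsingleton (C ↘ Spec (CommRingCat.of k))
  haveI : IsIntegral C := CurveBundle.SmoothField.isIntegral k hdim.le
  haveI : IsLocallyNoetherian C := LocallyOfFiniteType.isLocallyNoetherian (C ↘ Spec (CommRingCat.of k))
  have h := CurveFF.curveHyp_of_smooth k hdim
  have h0 := CurveFF.finrank_h0_eq_one k C
  have hK := CurveFF.isFunctionField (k := k) h h0
  rw [CurveFF.genus_eq (k := k) h h0] at hg
  obtain ⟨W, hW⟩ := FunFld.Weil.exists_isCanonical hK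
  set P₀ := CurveFF.placeOf k h (OpenCond.pt σ hσ) with hP₀
  letI : (SymProd.fibPow (C ↘ Spec (CommRingCat.of k)) (2 * g)).Over (Spec (CommRingCat.of k)) :=
    ⟨WidePullback.base fun (_ : Fin (2 * g)) => (C ↘ Spec (CommRingCat.of k))⟩
  let q := fun b : Fin (2 * g) => WidePullback.π (fun (_ : Fin (2 * g)) => (C ↘ Spec (CommRingCat.of k))) b
  have hqo : ∀ (x : Spec (CommRingCat.of k) ⟶ SymProd.fibPow (C ↘ Spec (CommRingCat.of k)) (2 * g)),
      x ≫ WidePullback.base (fun (_ : Fin (2 * g)) => (C ↘ Spec (CommRingCat.of k))) = 𝟙 _ →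
      ∀ b, (x ≫ q b) ≫ (C ↘ Spec (CommRingCat.of k)) = 𝟙 _ := fun x hx b => by
    rw [Category.assoc, WidePullback.π_arrow]; exact hx
  let T := CurveFF.LineDiv.trivRep (PicLoc.isInvertible_structureModule C)
  have hT : T.div (k := k) h hK = 0 := by
    ext Q
    obtain ⟨z, rfl⟩ := CurveFF.placeOf_surjective (k := k) h Q
    rw [CurveFF.LineDiv.Rep.div_placeOf, CurveFF.LineDiv.trivRep_e]
    rfl
  have hker : ∀ (p : Spec (CommRingCat.of k) ⟶ C) (hp : p ≫ (C ↘ Spec (CommRingCat.of k)) = 𝟙 _),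
      p.ker = Curves.PointIdeal.ptI (OpenCond.pt p hp).2 := by
    intro p hp
    rw [H75.RedKer.ker_eq_vanishingIdeal]
    congr 1
    ext1
    have : Set.range p = {(OpenCond.pt p hp).1} := Set.Subset.antisymm
      (by rintro _ ⟨w, rfl⟩; rw [Subsingleton.elim w (IsLocalRing.closedPoint k)]; rfl)
      (by rintro _ rfl; exact ⟨_, rfl⟩)
    simp only [this, (OpenCond.pt p hp).2.closure_eq]
  have hlist : ∀ (n : ℕ) (p : Fin n → (Spec (CommRingCat.of k) ⟶ C))
      (hp : ∀ b, p b ≫ (C ↘ Spec (CommRingCat.of k)) = 𝟙 _),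
      ∃ R : CurveFF.LineDiv.Rep (FGA.tensorList (List.ofFn fun i => ClSub.idealMod (p i).ker)),
        R.div h hK = -SumDiff.divOf h p hp := by
    intro n
    induction n with
    | zero =>
      intro p hp
      rw [List.ofFn_zero]
      have key : T.div (k := k) h hK = -SumDiff.divOf h p hp := by
        rw [hT, SumDiff.divOf, Fintype.sum_empty, neg_zero]
      exact ⟨T, key⟩
    | succ n ih =>
      intro p hp
      obtain ⟨R, hR⟩ := ih (fun i => p i.succ) fun i => hp i.succ
      obtain ⟨J, hJ⟩ := CurveFF.IdealInv.exists_rep_point h hK (OpenCond.pt (p 0) (hp 0))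
      rw [List.ofFn_succ, hker (p 0) (hp 0)]
      have key : (J.mul R).div h hK = -SumDiff.divOf h p hp := by
        rw [J.div_mul h hK R, hJ, hR]
        simp only [SumDiff.divOf, Fin.sum_univ_succ, neg_add]
      exact ⟨J.mul R, key⟩
  have hpow : ∀ n : ℕ, ∃ R : CurveFF.LineDiv.Rep (CohB1.tensorPow (ClSub.idealMod σ.ker) n),
      R.div h hK = -Finsupp.single P₀ (n : ℤ) := by
    intro n
    induction n with
    | zero =>
      have key : T.div (k := k) h hK = -Finsupp.single P₀ ((0 : ℕ) : ℤ) := by simp [hT]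
      exact ⟨T, key⟩
    | succ n ih =>
      obtain ⟨J, hJ⟩ := CurveFF.IdealInv.exists_rep_point h hK (OpenCond.pt σ hσ)
      rw [hker σ hσ] at ih ⊢
      obtain ⟨R', hR'⟩ := ih
      have key : (R'.mul J).div h hK = -Finsupp.single P₀ ((n + 1 : ℕ) : ℤ) := by
        rw [R'.div_mul h hK J, hJ, hR', ← hP₀, Nat.cast_succ, Finsupp.single_add, neg_add]
      exact ⟨R'.mul J, key⟩
  have hdegP : ∀ a : ℤ, _root_.FunFld.Divisor.deg (Finsupp.single P₀ a) = a := fun a => by
    rw [FunFld.Degree.deg_single, FunFld.Rational.deg_eq_one hK]; simp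
  -- reduction to vanishing
  have hfin : ∀ (M : C.Modules) (R : CurveFF.LineDiv.Rep M) (E : _root_.FunFld.Divisor k C.functionField)
      (c : C.functionField), c ≠ 0 → R.div h hK = E + _root_.FunFld.div k c →
      _root_.FunFld.Divisor.deg E = g → _root_.FunFld.ell (W - E) = 0 →
      Module.finrank k (Coh.HH C M 0) = 1 := by
    intro M R E c hc hdiv hdE hsp
    rw [R.finrank_h0 h hK, hdiv, FunFld.Riemann.ell_add_div hK _ hc]
    have := FunFld.Weil.riemann_roch hK hW E
    rw [hdE, hsp, hg] at this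
    omega
  refine ⟨?_, ?_⟩
  · obtain ⟨U, hne, hU⟩ := SumDiff.exists_open_sum h hK hg hW P₀ hg1 (r := 2 * g) (by omega) q
      fun P hP => ⟨WidePullback.lift (𝟙 _) P hP, WidePullback.lift_base _ _ _ _,
        fun b => WidePullback.lift_π _ _ _ _ _⟩
    refine ⟨U, hne, fun x hx hxU M hM hMD => ?_⟩
    obtain ⟨e⟩ := hMD
    obtain ⟨R⟩ := CurveFF.LineDiv.nonempty_rep hM
    obtain ⟨R₁, hR₁⟩ := hlist (2 * g) (fun b => x ≫ q b) (hqo x hx)
    obtain ⟨R₂, hR₂⟩ := hpow g
    obtain ⟨c, hc, hdiv⟩ := CurveFF.LineDiv.exists_div_iso h hK e (R.mul R₁) R₂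
    rw [R.div_mul h hK R₁, hR₁, hR₂] at hdiv
    set D := SumDiff.divOf h (fun b => x ≫ q b) (hqo x hx) with hD
    refine hfin M R (D - Finsupp.single P₀ (g : ℤ)) c hc ?_ ?_ ?_
    · calc R.div h hK = (R.div h hK + -D) + D := by abel
        _ = _ := by rw [hdiv]; abel
    · rw [FunFld.Degree.deg_sub, hdegP, hD, SumDiff.deg_divOf h hK]; push_cast; ring
    · rw [show W - (D - Finsupp.single P₀ (g : ℤ)) = W + Finsupp.single P₀ (g : ℤ) - D by abel]
      exact hU x hx (hqo x hx) hxU
  · let qD := fun i : Fin g => q (Fin.cast (two_mul g).symm (Fin.castAdd g i))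
    let qE := fun i : Fin g => q (Fin.cast (two_mul g).symm (Fin.natAdd g i))
    obtain ⟨U, hne, hU⟩ := SumDiff.exists_open_diff h hK hg hW P₀ hg1 qD qE fun P Q hP hQ => by
      let PQ : Fin (2 * g) → (Spec (CommRingCat.of k) ⟶ C) := fun b => Fin.append P Q (Fin.cast (two_mul g) b)
      have hPQ : ∀ b, PQ b ≫ (C ↘ Spec (CommRingCat.of k)) = 𝟙 _ := fun b => by
        show Fin.append P Q (Fin.cast (two_mul g) b) ≫ _ = _
        generalize Fin.cast (two_mul g) b = j
        refine Fin.addCases (fun i => ?_) (fun i => ?_) j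
        · rw [Fin.append_left]; exact hP i
        · rw [Fin.append_right]; exact hQ i
      refine ⟨WidePullback.lift (𝟙 _) PQ hPQ, WidePullback.lift_base _ _ _ _, fun b => ?_, fun b => ?_⟩
      · exact (WidePullback.lift_π _ _ _ _ _).trans (Fin.append_left P Q b)
      · exact (WidePullback.lift_π _ _ _ _ _).trans (Fin.append_right P Q b)
    refine ⟨U, hne, fun x hx hxU M hM hMD => ?_⟩
    obtain ⟨e⟩ := hMD
    obtain ⟨R⟩ := CurveFF.LineDiv.nonempty_rep hM
    obtain ⟨RD, hRD⟩ := hlist g (fun b => x ≫ qD b) (fun b => hqo x hx _)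
    obtain ⟨RE, hRE⟩ := hlist g (fun b => x ≫ qE b) (fun b => hqo x hx _)
    obtain ⟨R₂, hR₂⟩ := hpow g
    obtain ⟨c, hc, hdiv⟩ := CurveFF.LineDiv.exists_div_iso h hK e (R.mul (RE.mul R₂)) RD
    rw [R.div_mul h hK (RE.mul R₂), RE.div_mul h hK R₂, hRD, hRE, hR₂] at hdiv
    set DD := SumDiff.divOf h (fun b => x ≫ qD b) (fun b => hqo x hx _) with hDD
    set DE := SumDiff.divOf h (fun b => x ≫ qE b) (fun b => hqo x hx _) with hDE
    refine hfin M R (DE + Finsupp.single P₀ (g : ℤ) - DD) c hc ?_ ?_ ?_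
    · calc R.div h hK = (R.div h hK + (-DE + -Finsupp.single P₀ (g : ℤ))) + (DE + Finsupp.single P₀ (g : ℤ)) := by abel
        _ = _ := by rw [hdiv]; abel
    · rw [FunFld.Degree.deg_sub, FunFld.Degree.deg_add, hdegP, hDD, hDE, SumDiff.deg_divOf h hK,
        SumDiff.deg_divOf h hK]; ring
    · rw [show W - (DE + Finsupp.single P₀ (g : ℤ) - DD) = W + DD - DE - Finsupp.single P₀ (g : ℤ) by abel]
      exact hU x hx (fun b => hqo x hx _) (fun b => hqo x hx _) hxU

end Groth.Agent.S17824
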