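import Groth.Statements.S17825
-- (no helpers)

set_option autoImplicit false
universe u
open CategoryTheory CategoryTheory.Limits AlgebraicGeometry
open JacVar

namespace Groth.Agent.S17825

/-- Let S be a scheme, Y an S-scheme separated over S, F a presheaf of sets on the category of
S-schemes, f : h_Y ⟶ F a morphism from the functor of points of Y, and s : F ⟶ h_Y a section of f (s
followed by f is the identity). Then F is represented by a closed subscheme of Y: there are an
S-scheme Z, a morphism i : Z ⟶ Y over S which is a closed immersion, and an isomorphism F ≅ h_Z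
whose composite with h_i : h_Z ⟶ h_Y is s. (The published lemma treats the case where Y is the r-th
symmetric power of a curve, F the functor of degree-r invertible families modulo twisting and f the
divisor-class map.) -/
theorem result {S : Scheme.{u}} (Y : Over S) [IsSeparated Y.hom]
    (F : (Over S)ᵒᵖ ⥤ Type u) (f : yoneda.obj Y ⟶ F) (s : F ⟶ yoneda.obj Y) (hsf : s ≫ f = 𝟙 F) :
    ∃ (Z : Over S) (i : Z ⟶ Y), IsClosedImmersion i.left ∧
      ∃ e : F ≅ yoneda.obj Z, e.hom ≫ yoneda.map i = s := by
  let e : Y ⟶ Y := Yoneda.fullyFaithful.preimage (f ≫ s)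
  have he : yoneda.map e = f ≫ s := Yoneda.fullyFaithful.map_preimage _
  let i : equalizer e (𝟙 Y) ⟶ Y := equalizer.ι e (𝟙 Y)
  have hi : i ≫ e = i := (equalizer.condition e (𝟙 Y)).trans (Category.comp_id _)
  have hie : yoneda.map i ≫ f ≫ s = yoneda.map i := by
    rw [← he, ← Functor.map_comp, hi]
  obtain ⟨r, hr⟩ : ∃ r : Y ⟶ equalizer e (𝟙 Y), r ≫ i = e := by
    have hee : e ≫ e = e := Yoneda.fullyFaithful.map_injective (by
      rw [Functor.map_comp, he, Category.assoc, ← Category.assoc s, hsf, Category.id_comp])
    exact ⟨equalizer.lift e (hee.trans (Category.comp_id _).symm), equalizer.lift_ι _ _⟩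
  refine ⟨equalizer e (𝟙 Y), i, inferInstanceAs (IsClosedImmersion (equalizer.ι e (𝟙 Y)).left),
    ⟨s ≫ yoneda.map r, yoneda.map i ≫ f, ?_, ?_⟩, ?_⟩
  · rw [Category.assoc, ← Category.assoc (yoneda.map r), ← Functor.map_comp, hr, he,
      Category.assoc, hsf, Category.comp_id, hsf]
  · rw [Category.assoc, ← Category.assoc f, ← he, ← Functor.map_comp, ← Functor.map_comp]
    have : i ≫ e ≫ r = 𝟙 _ := by
      have hm : Mono i := inferInstanceAs (Mono (equalizer.ι e (𝟙 Y)))
      rw [← cancel_mono i]
      simp only [Category.assoc, Category.id_comp, hr]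
      rw [← Category.assoc, hi, hi]
    rw [this, CategoryTheory.Functor.map_id]
  · rw [Category.assoc, ← Functor.map_comp, hr, he, ← Category.assoc, hsf, Category.id_comp]

end Groth.Agent.S17825
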