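import Groth.Statements.S1783
import Groth.Agent.Lib.DMod.ShriekVia

set_option autoImplicit false
universe u
open CategoryTheory
attribute [local instance] HasDerivedCategory.standard
open Dual2

namespace Groth.Agent.S1783
open Groth.Agent.Lib.DMod

/-- Let R → A be a ring map of finite type between Noetherian rings, where φ^!(K) is formed from a
presentation ψ : R[x_1, …, x_n] → A as RHom_P(A, K ⊗^L_R P)[n], assuming the derived base change to
P exists and taking for RHom_P(A, −) a right adjoint of restriction of scalars along ψ. If K in D(R)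
has vanishing cohomology below some degree, then so does φ^!(K); if moreover all cohomology modules
of K are finite R-modules, then all cohomology modules of φ^!(K) are finite A-modules. -/
theorem result (R A : Type u) [CommRing R] [CommRing A] [IsNoetherianRing R] [IsNoetherianRing A] [Algebra R A] (n : ℕ) (ψ : MvPolynomial (Fin n) R →ₐ[R] A) (hψ : Function.Surjective ψ) [DRing.HasLBaseChange (algebraMap R (MvPolynomial (Fin n) R))] (Rψ : Dual.D (MvPolynomial (Fin n) R) ⥤ Dual.D A) (adj : DRing.restrictD ψ.toRingHom ⊣ Rψ) (K : Dual.D R) (a : ℤ) (hKa : ∀ i : ℤ, i < a → Subsingleton (Dual.HD R K i)) : (∃ b : ℤ, ∀ i : ℤ, i < b → Subsingleton (Dual.HD A (Dual2.shriekVia n Rψ K) i)) ∧ ((∀ i : ℤ, Module.Finite R (Dual.HD R K i)) → ∀ i : ℤ, Module.Finite A (Dual.HD A (Dual2.shriekVia n Rψ K) i)) := by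
  let P := MvPolynomial (Fin n) R
  let e := (FlatHom.isoLBaseChange R P).app K
  have h1 : ∀ i : ℤ, i < a → Subsingleton (Dual.HD P ((DRing.LBaseChange (algebraMap R P)).obj K) i) :=
    fun i hi => by
      have := hKa i hi
      have := FlatDualizing.subsingleton_tensor P (A := R) (Dual.HD R K i)
      exact ((Basic.HDCongr e i).trans (FlatHom.HDL P K i).symm).toEquiv.subsingleton
  refine ⟨⟨a - n, fun i hi => ?_⟩, fun hfin i => ?_⟩
  · have := ShriekVia.right_bounded_below adj h1 (↑n + i) (by lia)
    exact (Basic.HDShift _ (n : ℤ) i (↑n + i) rfl).toEquiv.subsingleton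
  · have := FiniteRing.finite_HD_right (RingHom.Finite.of_surjective ψ.toRingHom hψ) adj _ a h1
      (fun j => have := hfin j
        Module.Finite.equiv ((Basic.HDCongr e j).trans (FlatHom.HDL P K j).symm).symm) (↑n + i)
    exact Module.Finite.equiv (Basic.HDShift _ (n : ℤ) i (↑n + i) rfl).symm

end Groth.Agent.S1783
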