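import Groth.Statements.S17831

import Groth.Agent.Lib.GrpSch.InfAutDer
import Groth.Agent.Lib.ActSep.HomogInst
import Groth.Agent.Lib.QuotSt.Basic

set_option autoImplicit false
universe u
open CategoryTheory MonoidalCategory CartesianMonoidalCategory MonObj GrpObj AlgebraicGeometry
open AutSch

namespace Groth.Agent.S17831

open CategoryTheory.Limits MonoidalCategory CartesianMonoidalCategory MonObj
open Groth.Agent.Lib
open Groth.Agent.Lib.GrpSch.InfAut Groth.Agent.Lib.GrpSch.InfAut.Thick

variable {k : Type u} [Field k] {X G : Over (Spec (CommRingCat.of k))} [GrpObj G]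

theorem famOf_one (a : AlgGrp.Action G X) (T : Over (Spec (CommRingCat.of k))) :
    AutSch.famOf a (toUnit T ≫ η[G]) = fst X T := by
  rw [AutSch.famOf, ← Category.assoc, comp_toUnit, ← Hom.one_def, QuotSt.Act.one_smul]

theorem isAutFamily_fst (T : Over (Spec (CommRingCat.of k))) : AutSch.IsAutFamily (fst X T) := by
  change IsIso (lift (fst X T) (snd X T))
  rw [lift_fst_snd]
  infer_instance

theorem sec_eq : sec X = lift (𝟙 X) (toUnit X) ≫ (X ◁ zero k) := by
  rw [lift_whiskerLeft]

theorem sec_left_eq {φ : X ⊗ dual k ⟶ X} (h : AutSch.pullFam (zero k) φ = fst X _) :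
    (sec X).left ≫ φ.left = 𝟙 X.left := by
  have h1 : sec X ≫ φ = 𝟙 X := by
    rw [sec_eq, Category.assoc]
    change lift _ _ ≫ AutSch.pullFam (zero k) φ = _
    rw [h, lift_fst]
  exact congrArg CommaMorphism.left h1

theorem pullFam_eq {φ : X ⊗ dual k ⟶ X} (h : (sec X).left ≫ φ.left = 𝟙 X.left) :
    AutSch.pullFam (zero k) φ = fst X _ := by
  have h1 : sec X ≫ φ = 𝟙 X := Over.OverMorphism.ext h
  have h2 : X ◁ zero k = fst X _ ≫ sec X := by
    apply CartesianMonoidalCategory.hom_ext
    · rw [whiskerLeft_fst, Category.assoc, lift_fst, Category.comp_id]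
    · rw [whiskerLeft_snd, Category.assoc, lift_snd, ← Category.assoc, comp_toUnit]
      congr 1
      exact toUnit_unique _ _
  rw [AutSch.pullFam, h2, Category.assoc, h1, Category.comp_id]

/-- Let k be a field and X a proper k-scheme of dimension at most 1, and let the k-group scheme G,
locally of finite type over k, with its action a be the automorphism group scheme of X over k. Then
G → Spec k is unramified exactly when Der_k(O_X, O_X) = 0, i.e. when every k-derivation of O_X into
O_X takes the value zero on every section over every open. (Unramified is stated as formally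
unramified, G being locally of finite type. The published statement also lists as equivalent that
the automorphism group scheme is geometrically reduced of dimension zero, and a condition on the
moduli stack of curves; this row states the unramified condition only.) -/
theorem result (k : Type u) [Field k]
    (X : Over (Spec (CommRingCat.of k))) [IsProper X.hom] (hdim : topologicalKrullDim ↥X.left ≤ 1)
    (G : Over (Spec (CommRingCat.of k))) [GrpObj G] [LocallyOfFiniteType G.hom] (a : AlgGrp.Action G X)
    (hG : AutSch.Represents X G a) :
    FormallyUnramified G.hom ↔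
      ∀ (D : OmegaSh.Der X.hom (Coh.structureModule X.left)) (U : X.left.Opens) (s : Γ(X.left, U)),
        D.app U s = 0 := by
  have hX : IsNoetherian X.left := by
    haveI : IsLocallyNoetherian X.left := LocallyOfFiniteType.isLocallyNoetherian X.hom
    haveI : CompactSpace ↥X.left := QuasiCompact.compactSpace_of_compactSpace X.hom
    exact ⟨⟩
  have hθ : ∀ U, Function.Bijective (θ (X := X) U) := θ_bijective
  rw [AutSch.represents_iff] at hG
  have hone : ∀ (T : Over (Spec (CommRingCat.of k))) (g : T ⟶ G),
      AutSch.famOf a g = fst X T → g = toUnit T ≫ η[G] := fun T g hg =>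
    (hG T _ (isAutFamily_fst T)).unique hg (famOf_one a T)
  constructor
  · intro hu D U s
    haveI : IsOpenImmersion η[G].left := (ActSep.formallyUnramified_iff_isOpenImmersion_unit G).1 hu
    obtain ⟨g, hg, -⟩ := hG _ _ (isAutFamily_famOfDer D)
    have hz : zero k ≫ g = η[G] := by
      rw [hone _ (zero k ≫ g) (by rw [AutSch.famOf_comp, hg, pullFam_eq (sec_famOfDer D)]),
        toUnit_unique (toUnit (𝟙_ _)) (𝟙 _), Category.id_comp]
    rw [eq_one_of_isOpenImmersion η[G] g hz, famOf_one] at hg
    exact eq_zero_of_famOfDer_eq D hθ hg.symm U s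
  · intro hD
    haveI : IsOpenImmersion η[G].left := isOpenImmersion_section η[G] fun v hv => by
      have hs : (sec X).left ≫ (AutSch.famOf a v).left = 𝟙 X.left := by
        refine sec_left_eq ?_
        rw [← AutSch.famOf_comp, hv, show η[G] = toUnit (𝟙_ _) ≫ η[G] from by
          rw [toUnit_unique (toUnit (𝟙_ _)) (𝟙 _), Category.id_comp], famOf_one]
      exact hone _ v (eq_fst_of_derOf hθ _ hs fun U s => hD _ U s)
    exact ActSep.formallyUnramified_of_isOpenImmersion_unit G

end Groth.Agent.S17831
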