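import Groth.Statements.S17837

import Groth.Agent.Lib.GrpSch.MonoCoset
import Groth.Agent.Lib.GrpSch.Blanchard
import Groth.Agent.Lib.GalPts.Restrict
import Groth.Agent.Lib.ProjSpace.BaseChange
import Groth.Agent.S7520

set_option autoImplicit false
universe u
open CategoryTheory MonoidalCategory CartesianMonoidalCategory MonObj GrpObj AlgebraicGeometry
open AutSch

open Groth.Agent.Lib Groth.Agent.Lib.GalPts

namespace Groth.Agent.S17837

/-- The family of an action is a family of automorphisms. -/
theorem isAutFamily_famOf {S : Scheme.{u}} {G X : Over S} [GrpObj G] (a : AlgGrp.Action G X) {T : Over S}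
    (g : T ⟶ G) : AutSch.IsAutFamily (AutSch.famOf a g) := by
  have key : ∀ u v : T ⟶ G, u * v = 1 → AutSch.endOf (AutSch.famOf a v) ≫ AutSch.endOf (AutSch.famOf a u) = 𝟙 _ := by
    intro u v huv
    apply CartesianMonoidalCategory.hom_ext
    · rw [Category.assoc, AutSch.endOf_fst, Category.id_comp]
      simp only [AutSch.famOf, AutSch.endOf, comp_lift_assoc, lift_snd_assoc, lift_fst]
      rw [← GrpSch.act_mul, ← MonObj.comp_mul, huv, MonObj.comp_one, GrpSch.act_one]
    · rw [Category.assoc, AutSch.endOf_snd, AutSch.endOf_snd, Category.id_comp]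
  exact ⟨AutSch.endOf (AutSch.famOf a g⁻¹), key g⁻¹ g (inv_mul_cancel g), key g g⁻¹ (mul_inv_cancel g)⟩

/-- Over an algebraically closed field k, let f : X → Y be a fibration: X and Y are projective varieties
(integral k-schemes with closed immersions into projective spaces over k) and f is a k-morphism with
O_Y → f_*O_X an isomorphism (bijective on sections over every open of Y). Let (GX, aX) be the
automorphism group scheme of X with its universal action, locally of finite type, and let the
k-group scheme Gf with its action af on X represent the automorphisms of f: the families φ of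
automorphisms of X parametrised by T whose associated T-automorphism of X × T descends along f × T
to the T-automorphism associated with some family of automorphisms of Y. Then the homomorphism ρ :
Gf → GX through which af is obtained from the universal action (the first projection from the
automorphism group scheme of f) is a closed immersion. -/
theorem result (k : Type u) [Field k] [IsAlgClosed k]
    (X Y : Over (Spec (CommRingCat.of k))) [IsIntegral X.left] [IsIntegral Y.left]
    (hX : RelProj.IsHProjective X.hom) (hY : RelProj.IsHProjective Y.hom)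
    (f : X ⟶ Y) (hf : ∀ U : Y.left.Opens, IsIso (f.left.app U))
    (GX : Over (Spec (CommRingCat.of k))) [GrpObj GX] [LocallyOfFiniteType GX.hom] (aX : AlgGrp.Action GX X)
    (hGX : AutSch.Represents X GX aX)
    (Gf : Over (Spec (CommRingCat.of k))) [GrpObj Gf] (af : AlgGrp.Action Gf X)
    (hGf : AutSch.RepresentsSub X
      (fun T φ => ∃ ψ : Y ⊗ T ⟶ Y, AutSch.IsAutFamily ψ ∧ AutSch.endOf φ ≫ (f ▷ T) = (f ▷ T) ≫ AutSch.endOf ψ) Gf af)
    (ρ : Gf ⟶ GX) [IsMonHom ρ] (hρ : (ρ ▷ X) ≫ aX.act = af.act) :
    IsClosedImmersion ρ.left := by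
  haveI : IsProper X.hom := by
    obtain ⟨n, i, hi, hie⟩ := hX
    haveI := hi
    haveI : IsProper (CohB1.ProjSpaceOver.toBase n (Spec (CommRingCat.of k))) :=
      ProjSpace.BaseChange.isProper_toBase n _
    rw [← hie]; infer_instance
  haveI : IsProper Y.hom := by
    obtain ⟨n, i, hi, hie⟩ := hY
    haveI := hi
    haveI : IsProper (CohB1.ProjSpaceOver.toBase n (Spec (CommRingCat.of k))) :=
      ProjSpace.BaseChange.isProper_toBase n _
    rw [← hie]; infer_instance
  haveI : IsProper f.left := by
    haveI : IsProper (f.left ≫ Y.hom) := by rw [Over.w f]; infer_instance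
    exact IsProper.of_comp f.left Y.hom
  -- monomorphism
  have hfam : ∀ (T : Over (Spec (CommRingCat.of k))) (g : T ⟶ Gf), famOf af g = famOf aX (g ≫ ρ) := fun T g => by
    rw [famOf, famOf, ← hρ, ← Category.assoc (snd X T), lift_whiskerRight_assoc]
  haveI : Mono ρ := ⟨fun {T} g g' h => by
    obtain ⟨g₀, -, hu⟩ := hGf.2 T (famOf af g) (isAutFamily_famOf af g) (hGf.1 T g)
    rw [hu g rfl, hu g' ((hfam _ g').trans ((congrArg (famOf aX) h.symm).trans (hfam _ g).symm))]⟩
  -- the identity component
  obtain ⟨R₀, _, r₀, hr₀, hr₀c, hr₀f, hrange, -, hcpt⟩ := Groth.Agent.S7520.result k GX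
  haveI := hr₀; haveI := hr₀c; haveI := hr₀f
  haveI : LocallyOfFiniteType R₀.hom := by rw [← Over.w r₀]; infer_instance
  haveI : IsLocallyNoetherian GX.left := LocallyOfFiniteType.isLocallyNoetherian GX.hom
  haveI : LocallyOfFinitePresentation r₀.left := inferInstance
  haveI : IsOpenImmersion r₀.left := IsOpenImmersion.of_flat_of_mono r₀.left
  have hconn : _root_.IsConnected (Set.range r₀.left) := hrange ▸ isConnected_connectedComponent
  haveI := Subtype.connectedSpace hconn
  haveI : ConnectedSpace R₀.left :=
    (r₀.left.isOpenEmbedding.isEmbedding.toHomeomorph).symm.surjective.connectedSpace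
      (r₀.left.isOpenEmbedding.isEmbedding.toHomeomorph).symm.continuous
  let a₀ : AlgGrp.Action R₀ X := Restrict.mkAction ((r₀ ▷ X) ≫ aX.act)
    (fun W x => by rw [lift_whiskerRight_assoc, MonObj.one_comp, GrpSch.act_one])
    (fun W g h x => by rw [lift_whiskerRight_assoc, lift_whiskerRight_assoc, lift_whiskerRight_assoc,
      MonObj.mul_comp, GrpSch.act_mul])
  have hpush : Groth.Agent.H2.Rigid.Push f.left := fun U =>
    haveI := hf U
    ConcreteCategory.bijective_of_isIso (f.left.app U)
  obtain ⟨b, hb, -⟩ := GrpSch.Blanchard.existsUnique_action a₀ f hpush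
    (GrpSch.Blanchard.constSet_eq_univ_of_connected a₀ f hpush)
  obtain ⟨σ, hσ, -⟩ := hGf.2 R₀ (famOf aX r₀) (isAutFamily_famOf aX r₀) ⟨famOf b (𝟙 R₀), isAutFamily_famOf b _, by
    apply CartesianMonoidalCategory.hom_ext
    · rw [Category.assoc, Category.assoc, whiskerRight_fst, endOf_fst, endOf_fst_assoc, famOf, famOf,
        Category.comp_id, comp_lift_assoc, whiskerRight_snd, whiskerRight_fst, Category.assoc]
      have h1 : lift (snd X R₀ ≫ r₀) (fst X R₀) ≫ aX.act = lift (snd X R₀) (fst X R₀) ≫ a₀.act :=
        (lift_whiskerRight_assoc _ _ _ _).symm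
      rw [← Category.assoc, h1, Category.assoc, ← hb, ← Category.assoc, lift_whiskerLeft]
    · rw [Category.assoc, Category.assoc, whiskerRight_snd, endOf_snd, endOf_snd, whiskerRight_snd]⟩
  refine GrpSch.isClosedImmersion_of_open_factor ρ r₀ σ ?_
  obtain ⟨g₀, -, hu⟩ := ((represents_iff GX aX).1 hGX) R₀ (famOf aX r₀) (isAutFamily_famOf aX r₀)
  rw [hu r₀ rfl, hu (σ ≫ ρ) ((hfam _ σ).symm.trans hσ)]


end Groth.Agent.S17837
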