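import Groth.Statements.S17832

import Groth.Agent.S17837
import Groth.Agent.Lib.GrpSch.PullCoset
import Groth.Agent.Lib.SchDense.Basic
import Groth.Agent.Lib.ZMTStein.Normal
import Groth.Agent.Lib.GrpSch.Basic

set_option autoImplicit false
universe u
open CategoryTheory MonoidalCategory CartesianMonoidalCategory MonObj GrpObj AlgebraicGeometry
open AutSch

open Groth.Agent.Lib Groth.Agent.Lib.GalPts Groth.Agent.S17837 CategoryTheory.Limits

namespace Groth.Agent.S17832

section

open CategoryTheory.Limits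

theorem push_of_affine {X Y : Scheme.{u}} (f : X ⟶ Y)
    (hb : ∀ U : Y.Opens, IsAffineOpen U → Function.Bijective (f.app U).hom) : Groth.Agent.H2.Rigid.Push f := by
  let φ : Y.sheaf ⟶ (TopCat.Sheaf.pushforward _ f.base).obj X.sheaf := ⟨f.c⟩
  have hbasis : TopologicalSpace.Opens.IsBasis (Set.range fun i : Y.affineOpens => i.1) := by
    rw [show (Set.range fun i : Y.affineOpens => i.1) = Y.affineOpens from Subtype.range_coe]
    exact Y.isBasis_affineOpens
  have := TopCat.Sheaf.isIso_iff_isIso_basis hbasis (φ := φ) fun i => by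
    change IsIso (f.app i.1)
    exact (ConcreteCategory.isIso_iff_bijective _).2 (hb i.1 i.2)
  intro U
  have : IsIso φ.hom := inferInstanceAs (IsIso ((TopCat.Sheaf.forget _ _).map φ))
  have : IsIso (f.app U) := (inferInstance : IsIso (φ.hom.app (Opposite.op U)))
  exact ConcreteCategory.bijective_of_isIso (f.app U)

variable {k : Type u} [Field k] {X Y G : Over (Spec (CommRingCat.of k))} [GrpObj G]

theorem famOf_natural (a : AlgGrp.Action G X) (b : AlgGrp.Action G Y) (f : X ⟶ Y)
    (h : (G ◁ f) ≫ b.act = a.act ≫ f) {T : Over (Spec (CommRingCat.of k))} (g : T ⟶ G) :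
    famOf a g ≫ f = (f ▷ T) ≫ famOf b g := by
  rw [famOf, famOf, Category.assoc, ← h, lift_whiskerLeft_assoc, comp_lift_assoc, whiskerRight_snd_assoc,
    whiskerRight_fst]

/-- Lifts of families along a birational morphism are unique. -/
theorem lift_unique [IsIntegral X.left] [IsSeparated X.hom] [IsLocallyNoetherian X.left] (f : X ⟶ Y)
    (U : Y.left.Opens) (hne : ((f.left ⁻¹ᵁ U : X.left.Opens) : Set X.left).Nonempty)
    (hf : IsIso (f.left ∣_ U)) {T : Over (Spec (CommRingCat.of k))}
    (φ₁ φ₂ : X ⊗ T ⟶ X) (hφ : IsAutFamily φ₁) (h : φ₁ ≫ f = φ₂ ≫ f) : φ₁ = φ₂ := by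
  haveI : IsIso (endOf φ₁) := hφ
  suffices hψ : inv (endOf φ₁) ≫ φ₂ = fst X T by
    rw [← cancel_epi (inv (endOf φ₁)), hψ, IsIso.inv_comp_eq, endOf_fst]
  have hψf : (inv (endOf φ₁) ≫ φ₂) ≫ f = fst X T ≫ f := by
    rw [Category.assoc, ← h, ← Category.assoc]
    congr 1
    rw [IsIso.inv_comp_eq, endOf_fst]
  generalize inv (endOf φ₁) ≫ φ₂ = ψ at hψf
  let V : X.left.Opens := f.left ⁻¹ᵁ U
  haveI : IsDominant V.ι := by
    refine ⟨?_⟩
    rw [DenseRange, Scheme.Opens.range_ι]
    exact V.2.dense hne
  haveI : IsSchemeTheoreticallyDominant V.ι := .of_isDominant _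
  haveI : QuasiCompact V.ι := inferInstance
  haveI : Flat (fst X T).left := GrpSch.fst_left_of (P := @Flat) X (inferInstance : Flat T.hom)
  haveI : IsSchemeTheoreticallyDominant (pullback.snd V.ι (fst X T).left) := inferInstance
  have hsub : Set.range (pullback.snd V.ι (fst X T).left ≫ ψ.left) ⊆ Set.range V.ι := by
    rintro _ ⟨z, rfl⟩
    rw [Scheme.Opens.range_ι]
    change f.left ((pullback.snd V.ι (fst X T).left ≫ ψ.left) z) ∈ U
    have e : (pullback.snd V.ι (fst X T).left ≫ ψ.left) ≫ f.left = pullback.fst V.ι (fst X T).left ≫ V.ι ≫ f.left := by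
      rw [Category.assoc, show ψ.left ≫ f.left = (fst X T).left ≫ f.left from congrArg CommaMorphism.left hψf,
        ← Category.assoc, ← pullback.condition, Category.assoc]
    rw [← Scheme.Hom.comp_apply, e, Scheme.Hom.comp_apply, Scheme.Hom.comp_apply]
    exact (pullback.fst V.ι (fst X T).left z).2
  refine Over.OverMorphism.ext (SchDense.Basic.ext_of_std X.hom ((Over.w ψ).trans (Over.w (fst X T)).symm)
    (pullback.snd V.ι (fst X T).left) ?_)
  let l := IsOpenImmersion.lift V.ι _ hsub
  have hl : l ≫ V.ι = pullback.snd V.ι (fst X T).left ≫ ψ.left := IsOpenImmersion.lift_fac _ _ _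
  rw [← hl, ← pullback.condition]
  congr 1
  haveI := hf
  haveI : Mono (f.left ∣_ U ≫ U.ι) := mono_comp _ _
  rw [← cancel_mono (f.left ∣_ U ≫ U.ι), morphismRestrict_ι, ← Category.assoc, ← Category.assoc, hl,
    pullback.condition, Category.assoc, Category.assoc,
    show ψ.left ≫ f.left = (fst X T).left ≫ f.left from congrArg CommaMorphism.left hψf]

end

/-- Over an algebraically closed field k, let X and Y be normal projective varieties (integral k-schemes
whose local rings are integrally closed domains, each admitting a closed immersion into a projective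
space over k) and f : X → Y a birational k-morphism: f restricts to an isomorphism over some
non-empty open subset of Y. Let (GX, aX) and (GY, aY) be the automorphism group schemes of X and Y
with their universal actions, both locally of finite type, and let H be a closed subgroup scheme of
GY (e : H → GY a homomorphism which is a closed immersion) whose action on Y through e lifts to an
action b of H on X for which f is equivariant. Then the homomorphism ρ : H → GX through which b is
obtained from the universal action is a closed immersion. (The published statement takes for H the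
reduced automorphism group of Y; the form here allows any closed subgroup scheme of the automorphism
group scheme whose action lifts.) -/
theorem result (k : Type u) [Field k] [IsAlgClosed k]
    (X Y : Over (Spec (CommRingCat.of k))) [IsIntegral X.left] [IsIntegral Y.left]
    (hXn : Pi1.IsNormalScheme X.left) (hYn : Pi1.IsNormalScheme Y.left)
    (hX : RelProj.IsHProjective X.hom) (hY : RelProj.IsHProjective Y.hom)
    (f : X ⟶ Y) (U : Y.left.Opens) (hU : (U : Set ↥Y.left).Nonempty) (hf : IsIso (f.left ∣_ U))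
    (GX : Over (Spec (CommRingCat.of k))) [GrpObj GX] [LocallyOfFiniteType GX.hom] (aX : AlgGrp.Action GX X)
    (hGX : AutSch.Represents X GX aX)
    (GY : Over (Spec (CommRingCat.of k))) [GrpObj GY] [LocallyOfFiniteType GY.hom] (aY : AlgGrp.Action GY Y)
    (hGY : AutSch.Represents Y GY aY)
    (H : Over (Spec (CommRingCat.of k))) [GrpObj H] (e : H ⟶ GY) [IsMonHom e] (he : IsClosedImmersion e.left)
    (b : AlgGrp.Action H X) (hb : (H ◁ f) ≫ (e ▷ Y) ≫ aY.act = b.act ≫ f)
    (ρ : H ⟶ GX) [IsMonHom ρ] (hρ : (ρ ▷ X) ≫ aX.act = b.act) :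
    IsClosedImmersion ρ.left := by
  haveI : IsProper X.hom := by
    obtain ⟨n, i, hi, hie⟩ := hX
    haveI := hi
    haveI : IsProper (CohB1.ProjSpaceOver.toBase n (Spec (CommRingCat.of k))) :=
      ProjSpace.BaseChange.isProper_toBase n _
    rw [← hie]; infer_instance
  haveI : IsProper Y.hom := by
    obtain ⟨n, i, hi, hie⟩ := hY
    haveI := hi
    haveI : IsProper (CohB1.ProjSpaceOver.toBase n (Spec (CommRingCat.of k))) :=
      ProjSpace.BaseChange.isProper_toBase n _
    rw [← hie]; infer_instance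
  haveI : IsProper f.left := by
    haveI : IsProper (f.left ≫ Y.hom) := by rw [Over.w f]; infer_instance
    exact IsProper.of_comp f.left Y.hom
  haveI : IsLocallyNoetherian X.left := LocallyOfFiniteType.isLocallyNoetherian X.hom
  obtain ⟨hξ, hbir⟩ := ZMTStein.generic_of_isIso_restrict f.left U hU hf
  have hpush : Groth.Agent.H2.Rigid.Push f.left := push_of_affine f.left
    (ZMTStein.bijective_app_of_normal f.left hYn hξ hbir)
  have hVne : ((f.left ⁻¹ᵁ U : X.left.Opens) : Set X.left).Nonempty := by
    refine ⟨genericPoint X.left, ?_⟩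
    change f.left (genericPoint X.left) ∈ U
    rw [hξ]
    exact ((genericPoint_spec Y.left).mem_open_set_iff U.2).2 (by simpa using hU)
  haveI : LocallyOfFiniteType H.hom := by
    haveI := he
    rw [← Over.w e]; infer_instance
  -- the identity component
  obtain ⟨R₀, _, r₀, hr₀, hr₀c, hr₀f, hrange, -, -⟩ := Groth.Agent.S7520.result k GX
  haveI := hr₀; haveI := hr₀c; haveI := hr₀f
  haveI : LocallyOfFiniteType R₀.hom := by rw [← Over.w r₀]; infer_instance
  haveI : IsLocallyNoetherian GX.left := LocallyOfFiniteType.isLocallyNoetherian GX.hom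
  haveI : LocallyOfFinitePresentation r₀.left := inferInstance
  haveI : IsOpenImmersion r₀.left := IsOpenImmersion.of_flat_of_mono r₀.left
  have hconn : _root_.IsConnected (Set.range r₀.left) := hrange ▸ isConnected_connectedComponent
  haveI := Subtype.connectedSpace hconn
  haveI : ConnectedSpace R₀.left :=
    (r₀.left.isOpenEmbedding.isEmbedding.toHomeomorph).symm.surjective.connectedSpace
      (r₀.left.isOpenEmbedding.isEmbedding.toHomeomorph).symm.continuous
  let a₀ : AlgGrp.Action R₀ X := Restrict.mkAction ((r₀ ▷ X) ≫ aX.act)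
    (fun W x => by rw [lift_whiskerRight_assoc, MonObj.one_comp, GrpSch.act_one])
    (fun W g h x => by rw [lift_whiskerRight_assoc, lift_whiskerRight_assoc, lift_whiskerRight_assoc,
      MonObj.mul_comp, GrpSch.act_mul])
  obtain ⟨b₀, hb₀, -⟩ := GrpSch.Blanchard.existsUnique_action a₀ f hpush
    (GrpSch.Blanchard.constSet_eq_univ_of_connected a₀ f hpush)
  obtain ⟨β, hβ, -⟩ := ((represents_iff GY aY).1 hGY) R₀ (famOf b₀ (𝟙 R₀)) (isAutFamily_famOf b₀ _)
  have hβ' : ∀ {T : Over (Spec (CommRingCat.of k))} (c : T ⟶ R₀), famOf aY (c ≫ β) = famOf b₀ c := fun {T} c => by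
    rw [famOf_comp, hβ, ← famOf_comp, Category.comp_id]
  have ha₀ : ∀ {T : Over (Spec (CommRingCat.of k))} (c : T ⟶ R₀), famOf a₀ c = famOf aX (c ≫ r₀) := fun {T} c => by
    rw [famOf, famOf, ← Category.assoc (snd X T)]
    exact lift_whiskerRight_assoc _ _ _ _
  have hbρ : ∀ {T : Over (Spec (CommRingCat.of k))} (c : T ⟶ H), famOf b c = famOf aX (c ≫ ρ) := fun {T} c => by
    rw [famOf, famOf, ← hρ, ← Category.assoc (snd X T), lift_whiskerRight_assoc]
  let be : AlgGrp.Action H Y := Restrict.mkAction ((e ▷ Y) ≫ aY.act)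
    (fun W x => by rw [lift_whiskerRight_assoc, MonObj.one_comp, GrpSch.act_one])
    (fun W g h x => by rw [lift_whiskerRight_assoc, lift_whiskerRight_assoc, lift_whiskerRight_assoc,
      MonObj.mul_comp, GrpSch.act_mul])
  have hbe : ∀ {T : Over (Spec (CommRingCat.of k))} (c : T ⟶ H), famOf be c = famOf aY (c ≫ e) := fun {T} c => by
    rw [famOf, famOf, ← Category.assoc (snd Y T)]
    exact lift_whiskerRight_assoc _ _ _ _
  have hepi : ∀ {T W : Over (Spec (CommRingCat.of k))} (k₁ k₂ : Y ⊗ T ⟶ W),
      (f ▷ T) ≫ k₁ = (f ▷ T) ≫ k₂ → k₁ = k₂ := fun {T W} k₁ k₂ h => by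
    rw [← cancel_epi (β_ T Y).hom]
    refine GrpSch.Blanchard.hom_ext_whiskerLeft T f hpush ?_
    rw [BraidedCategory.braiding_naturality_right_assoc, BraidedCategory.braiding_naturality_right_assoc, h]
  have huX : ∀ {T : Over (Spec (CommRingCat.of k))} (c c' : T ⟶ GX), famOf aX c = famOf aX c' → c = c' :=
    fun {T} c c' h => by
    obtain ⟨g₀, -, hu⟩ := ((represents_iff GX aX).1 hGX) T (famOf aX c) (isAutFamily_famOf aX c)
    rw [hu c rfl, hu c' h.symm]
  have huY : ∀ {T : Over (Spec (CommRingCat.of k))} (c c' : T ⟶ GY), famOf aY c = famOf aY c' → c = c' :=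
    fun {T} c c' h => by
    obtain ⟨g₀, -, hu⟩ := ((represents_iff GY aY).1 hGY) T (famOf aY c) (isAutFamily_famOf aY c)
    rw [hu c rfl, hu c' h.symm]
  have key₁ : ∀ {T : Over (Spec (CommRingCat.of k))} (c : T ⟶ R₀) (d : T ⟶ H), c ≫ r₀ = d ≫ ρ → c ≫ β = d ≫ e :=
    fun {T} c d h => huY _ _ (hepi _ _ (by
      rw [hβ', ← hbe, ← famOf_natural a₀ b₀ f hb₀, ← famOf_natural b be f hb, ha₀, hbρ, h]))
  have key₂ : ∀ {T : Over (Spec (CommRingCat.of k))} (c : T ⟶ R₀) (d : T ⟶ H), c ≫ β = d ≫ e → c ≫ r₀ = d ≫ ρ :=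
    fun {T} c d h => huX _ _ (lift_unique f U hVne hf _ _ (isAutFamily_famOf aX _) (by
      rw [← ha₀, ← hbρ, famOf_natural a₀ b₀ f hb₀, famOf_natural b be f hb, ← hβ', hbe, h]))
  haveI := he
  haveI : Mono e := Over.mono_of_mono_left e
  have hpb : IsPullback (pullback.fst β e) (pullback.snd β e) r₀ ρ :=
    ⟨⟨key₂ _ _ pullback.condition⟩, ⟨PullbackCone.IsLimit.mk _
      (fun c => pullback.lift c.fst c.snd (key₁ _ _ c.condition))
      (fun c => pullback.lift_fst _ _ _) (fun c => pullback.lift_snd _ _ _)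
      (fun c m h₁ h₂ => pullback.hom_ext (h₁.trans (pullback.lift_fst _ _ _).symm)
        (h₂.trans (pullback.lift_snd _ _ _).symm))⟩⟩
  have hQ : IsClosedImmersion (pullback.fst β e).left :=
    MorphismProperty.of_isPullback ((IsPullback.of_hasPullback β e).map (Over.forget _)).flip he
  exact GrpSch.isClosedImmersion_of_pullback_open ρ r₀ hpb hQ


end Groth.Agent.S17832
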