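import Groth.Statements.S17833
import Groth.Agent.Lib.GrpQ.GlobalFn
import Groth.Agent.Lib.GrpQ.Desc
import Groth.Agent.Lib.GrpQ.FlatInj
import Groth.Agent.Lib.GrpQ.Affinization
import Groth.Agent.Lib.GrpSch.SmoothReduced
import Groth.Agent.H2.Rigid.H0

set_option autoImplicit false
set_option linter.style.haveILetI false
universe u
open Groth.Agent.Lib
open CategoryTheory MonoidalCategory CartesianMonoidalCategory MonObj GrpObj AlgebraicGeometry
open AlgGrp

namespace Groth.Agent.S17833

/-- Over an algebraically closed field k, let G be a connected smooth k-group scheme of finite type (in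
the terminology of the notes, a smooth connected algebraic group), and H an affine normal subgroup
scheme of G such that the quotient G/H is an abelian variety: here j : H → G is the kernel of a flat
surjective homomorphism q : G → Q of k-group schemes with Q proper over k, and H is affine. Then an
automorphism u of the algebraic group G which fixes H pointwise (j ∘ u = j) and induces the identity
of Q (q ∘ u = q) is the identity. Equivalently, the map from the group of automorphisms of G fixing
H pointwise to the automorphism group of G/H is injective. -/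
theorem result (k : Type u) [Field k] [IsAlgClosed k]
    (G H Q : Over (Spec (CommRingCat.of k))) [GrpObj G] [GrpObj H] [GrpObj Q]
    [Smooth G.hom] [QuasiCompact G.hom] [ConnectedSpace ↥G.left]
    [IsAffine H.left] [IsProper Q.hom]
    (j : H ⟶ G) [IsMonHom j] (q : G ⟶ Q) [IsMonHom q] [Flat q.left] [Surjective q.left]
    (hker : AlgGrp.IsKernel j q)
    (u : G ≅ G) [IsMonHom u.hom] (hH : j ≫ u.hom = j) (hQ : u.hom ≫ q = q) :
    u.hom = 𝟙 G := by
  haveI : IsSeparated G.hom := GrpSch.isSeparated_of_field G
  haveI : GeometricallyReduced G.hom := GrpSch.geometricallyReduced_of_smooth_field G.hom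
  haveI : IsLocallyNoetherian G.left := LocallyOfFiniteType.isLocallyNoetherian G.hom
  haveI : IsReduced G.left := GeometricallyReduced.isReduced_of_flat_of_isLocallyNoetherian G.hom
  haveI : IsReduced Q.left := by
    haveI : ∀ y : Q.left, _root_.IsReduced (Q.left.presheaf.stalk y) := fun y => by
      obtain ⟨x, rfl⟩ := q.left.surjective y
      exact isReduced_of_injective (q.left.stalkMap x).hom (GrpQ.FlatInj.stalkMap_injective q.left x)
    exact isReduced_of_isReduced_stalk Q.left
  haveI : ConnectedSpace Q.left := by
    have h := (isConnected_range q.left.continuous)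
    rw [Set.range_eq_univ.mpr q.left.surjective] at h
    exact connectedSpace_iff_univ.2 h
  haveI : JacobsonSpace Q.left := LocallyOfFiniteType.jacobsonSpace Q.hom
  haveI : Nonempty Q.left := inferInstance
  haveI hQiso : IsIso Q.hom.appTop := GrpQ.GlobalFn.isIso_appTop
    (Groth.Agent.H2.Rigid.appTop_surjective_of_section Q.hom η[Q].left (Over.w η[Q]))
  haveI : Mono j := GrpQ.kernel_mono hker
  have hcov : GrpQ.IsCover q := GrpQ.isCover_hom q
  obtain ⟨d, hd⟩ := (GrpQ.mem_kernel hker (u.hom * (𝟙 G)⁻¹)).2 (by
    rw [MonObj.mul_comp, GrpObj.inv_comp, hQ, Category.id_comp, mul_inv_cancel])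
  have hinv : ∀ (T : Over (Spec (CommRingCat.of k))) (x y : T ⟶ G), x ≫ q = y ≫ q →
      x ≫ d = y ≫ d := by
    intro T x y hxy
    obtain ⟨m, hm⟩ := (GrpQ.mem_kernel hker (x⁻¹ * y)).2 (by
      rw [MonObj.mul_comp, GrpObj.inv_comp, hxy, inv_mul_cancel])
    rw [← cancel_mono j, Category.assoc, Category.assoc, hd]
    have hy : y = x * (m ≫ j) := by rw [hm, mul_inv_cancel_left]
    simp only [MonObj.comp_mul, GrpObj.comp_inv, Category.comp_id, hy, MonObj.mul_comp,
      Category.assoc, hH, _root_.mul_inv_rev, _root_.mul_assoc, mul_inv_cancel_left]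
  obtain ⟨e, he⟩ := GrpQ.exists_desc hcov d hinv
  haveI : IsIso (toUnit Q).left.appTop := hQiso
  obtain ⟨c, hc⟩ := GrpQ.Affinization.exists_fac (toUnit Q) e
  have h1 : u.hom * (𝟙 G)⁻¹ = toUnit G ≫ c ≫ j := by
    rw [← hd, ← he, ← hc]
    simp only [← Category.assoc, toUnit_unique ((q ≫ toUnit Q)) (toUnit G)]
  have h2 : c ≫ j = 1 := by
    have h := congrArg (fun z => η[G] ≫ z) h1
    simp only [MonObj.comp_mul, GrpObj.comp_inv, Category.comp_id, IsMonHom.one_hom, mul_inv_cancel,
      ← Category.assoc, toUnit_unique (η[G] ≫ toUnit G) (𝟙 _), Category.id_comp] at h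
    exact h.symm
  rw [h2, MonObj.comp_one, mul_inv_eq_one] at h1
  exact h1

end Groth.Agent.S17833
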