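import Groth.Statements.S17839
import Groth.Agent.Lib.Cyc.InducedDimFun
import Groth.Agent.Lib.Regular.Quotient

set_option autoImplicit false
universe u
open CategoryTheory AlgebraicGeometry
open Cyc

namespace Groth.Agent.S17839

/-- Let S be a locally Noetherian scheme all of whose local rings are regular and universally catenary,
and δS : S → ℤ the function with δS(s) = −dim O_{S,s}. Let f : X ⟶ S be locally of finite type and δ
: X → ℤ the induced function, δ(x) = δS(f x) + trdeg_{κ(f x)} κ(x) — the S-dimension: for X
irreducible with generic point ξ, δ(ξ) is the transcendence degree of the function field of X over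
κ(f ξ) minus dim O_{S, f ξ}. Then δ is a dimension function on X: it drops strictly along every
nontrivial specialization and by exactly one along immediate ones; equivalently, for irreducible
closed subsets V ⊆ W of X with generic points v and w, codim(V, W) = δ(w) − δ(v). (The published
statement fixes S Noetherian, excellent, regular and separated and X separated of finite type over
S; its proof uses only the hypotheses listed.) -/
theorem result {X S : Scheme.{u}} (f : X ⟶ S)
    [LocallyOfFiniteType f] [IsLocallyNoetherian S]
    (hreg : ∀ s : S, IsRegularLocalRing (S.presheaf.stalk s))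
    (huc : ∀ s : S, CAlg.IsUniversallyCatenary (S.presheaf.stalk s))
    (δS : S → ℤ) (hδS : ∀ s : S, ringKrullDim (S.presheaf.stalk s) = ((-δS s).toNat : WithBot ℕ∞) ∧ δS s ≤ 0)
    (δ : X → ℤ) (hδ : Cyc.DeltaCompat f δ δS) :
    Cyc.IsDimFun X δ := by
  have hS : Cyc.IsDimFun S δS := by
    refine Groth.Agent.Lib.Cyc.InducedDimFun.isDimFun_of_locQuot fun x y h => ?_
    have := hreg y
    have : IsDomain (S.presheaf.stalk y) := Groth.Agent.Lib.Regular.Quotient.isDomain _
    have hP : (RingHom.ker (Cyc.specMap y x h)).height ≠ ⊤ :=
      Ideal.height_ne_top (RingHom.ker_isPrime _).ne_top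
    have h1 := (Groth.Agent.Lib.Cyc.DimFormula.height_map_add
      (Ideal.Quotient.mk (RingHom.ker (Cyc.specMap y x h))) Ideal.Quotient.mk_surjective
      (IsLocalRing.maximalIdeal (Cyc.LocQuot y x h))).2 inferInstance
      ((huc y).2 (S.presheaf.stalk y) inferInstance)
    rw [IsLocalRing.maximalIdeal_comap, Ideal.mk_ker] at h1
    obtain ⟨n, hn⟩ := ENat.ne_top_iff_exists.mp
      (Ideal.height_ne_top (I := IsLocalRing.maximalIdeal (Cyc.LocQuot y x h))
        (IsLocalRing.maximalIdeal.isMaximal _).ne_top)
    obtain ⟨a, ha⟩ := ENat.ne_top_iff_exists.mp hP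
    have h2 := IsLocalRing.maximalIdeal_height_eq_ringKrullDim (R := S.presheaf.stalk y)
    have h3 := Groth.Agent.Lib.Cyc.InducedDimFun.height_genPrime y x h
    rw [(hδS y).1, ← h1, ← hn, ← ha] at h2
    rw [(hδS x).1, ← ha] at h3
    refine ⟨n, ?_, ?_⟩
    · rw [← IsLocalRing.maximalIdeal_height_eq_ringKrullDim, ← hn]
      rfl
    · have h4 : n + a = (-δS y).toNat := by exact_mod_cast h2
      have h5 : a = (-δS x).toNat := by exact_mod_cast h3
      have := (hδS x).2
      have := (hδS y).2
      omega
  exact Groth.Agent.Lib.Cyc.InducedDimFun.isDimFun f hS huc hδ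

end Groth.Agent.S17839
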