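import Groth.Statements.S17840
import Groth.Agent.Lib.Cyc.FlatDim

set_option autoImplicit false
universe u
open CategoryTheory AlgebraicGeometry
open Cyc

namespace Groth.Agent.S17840

/-- Let (Y, δY) be a locally Noetherian scheme with universally catenary local rings and a dimension
function, f : X ⟶ Y a flat morphism locally of finite type between irreducible schemes with generic
points ξ and η, and δX the induced function on X, δX(x) = δY(f x) + trdeg_{κ(f x)} κ(x). Put d =
δX(ξ) − δY(η). Then d ≥ 0, every irreducible component of every fibre of f has dimension d, and for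
every point x of X the fibre of f over f(x) has dimension d. (The published statement is for schemes
separated of finite type over a Noetherian excellent regular separated base S with δ the S-dimension
— transcendence degree of the residue field minus the dimension of the local ring of S at the image
point — and for the fibre over every point of Y; the fibre over a point outside f(X) is empty, so
the dimension statement is made here at points of the image; this row allows any dimension function
δY on a locally Noetherian Y with universally catenary local rings, with δX induced from it.) -/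
theorem result {X Y : Scheme.{u}} (f : X ⟶ Y) [Flat f] [LocallyOfFiniteType f]
    [IrreducibleSpace X] [IrreducibleSpace Y] (δX : X → ℤ) (δY : Y → ℤ) (hY : Cyc.IsSetup Y δY)
    (hδ : Cyc.DeltaCompat f δX δY) :
    0 ≤ δX (genericPoint X) - δY (genericPoint Y) ∧
      Cyc.HasRelDim f (δX (genericPoint X) - δY (genericPoint Y)).toNat ∧
      ∀ x : X, topologicalKrullDim ↥(f.fiber (f x)) =
        ((δX (genericPoint X) - δY (genericPoint Y)).toNat : WithBot ℕ∞) := by
  have hshift := Groth.Agent.Lib.Cyc.FlatDim.delta_shift f hY hδ
  have h0 : 0 ≤ δX (genericPoint X) - δY (genericPoint Y) := by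
    rw [← Groth.Agent.Lib.Cyc.FlatDim.genericPoint_maps f]
    have := Groth.Agent.Lib.Cyc.Residue.deltaY_le hδ (genericPoint X)
    omega
  set d := (δX (genericPoint X) - δY (genericPoint Y)).toNat with hd
  have htr : ∀ x, Groth.Agent.Lib.Cyc.FibLen.IsMaxFib f x →
      Groth.Agent.Lib.Cyc.Residue.trdegAt f x = d := fun x hx => by
    rw [Groth.Agent.Lib.Cyc.InducedDimFun.trdegAt_natCast f hδ x]
    congr 1
    have := hshift x hx
    omega
  have hrel := Groth.Agent.Lib.Cyc.FieldDim.hasRelDim_of_forall f htr
  refine ⟨h0, hrel, fun x => ?_⟩
  have : LocallyOfFiniteType (X := f.fiber (f x)) (Y := Spec (CommRingCat.of (Y.residueField (f x))))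
      (f.fiberToSpecResidueField (f x)) := MorphismProperty.pullback_snd _ _ ‹_›
  have hfd : ∀ z : f.fiber (f x), Groth.Agent.Lib.Cyc.DimFun.IsMaxPt z →
      (Groth.Agent.Lib.Cyc.FieldDim.fdelta (K := Y.residueField (f x))
        (f.fiberToSpecResidueField (f x)) z).toNat = d := fun z hz => by
    have h1 := htr _ ((Groth.Agent.Lib.Cyc.FieldDim.isMaxFib_iff f _ z).mpr hz)
    rw [← Groth.Agent.Lib.Cyc.FieldDim.trdegAt_fiber,
      Groth.Agent.Lib.Cyc.FieldDim.trdegAt_eq_fdelta (K := Y.residueField (f x))
        (f.fiberToSpecResidueField (f x)), Nat.cast_inj] at h1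
    exact h1
  refine le_antisymm ((Groth.Agent.Lib.Cyc.LocalDim.topologicalKrullDim_le_iff
    (K := Y.residueField (f x)) (f.fiberToSpecResidueField (f x)) d).mpr fun z => ?_) ?_
  · obtain ⟨w, hwz, hw⟩ := Groth.Agent.Lib.Cyc.DimFun.exists_isMaxPt_specializes z
    have h1 := Groth.Agent.Lib.Cyc.DimFun.le_of_specializes
      (Groth.Agent.Lib.Cyc.FieldDim.isDimFun_fdelta (K := Y.residueField (f x))
        (f.fiberToSpecResidueField (f x))) hwz
    have h2 := hfd w hw
    have := Groth.Agent.Lib.Cyc.FieldDim.fdelta_nonneg (K := Y.residueField (f x))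
      (f.fiberToSpecResidueField (f x)) w
    omega
  · obtain ⟨w, -, hw⟩ := Groth.Agent.Lib.Cyc.DimFun.exists_isMaxPt_specializes (f.asFiber x)
    rw [← hfd w hw]
    exact Groth.Agent.Lib.Cyc.LocalDim.fdelta_le_topologicalKrullDim _ w

end Groth.Agent.S17840
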