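import Groth.Statements.S17843
import Mathlib

set_option autoImplicit false
universe u v
open CAlg

namespace Groth.Agent.S17843

theorem scale_lift {R : Type u} [CommRing R] (r : R) (p : Polynomial (Localization.Away r)) :
    ∃ (N : ℕ) (q : Polynomial R), q.map (algebraMap R (Localization.Away r)) =
      Polynomial.C (algebraMap R (Localization.Away r) (r ^ N)) * Polynomial.aeval (Polynomial.C (algebraMap R (Localization.Away r) (r ^ N)) * Polynomial.X) p := by
  induction p using Polynomial.induction_on' with
  | add p q hp hq =>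
    obtain ⟨N, u, hu⟩ := hp; obtain ⟨M, v, hv⟩ := hq
    refine ⟨N + M, Polynomial.C (r ^ M) * u.comp (Polynomial.C (r ^ M) * Polynomial.X) + Polynomial.C (r ^ N) * v.comp (Polynomial.C (r ^ N) * Polynomial.X), ?_⟩
    simp only [Polynomial.map_add, Polynomial.map_mul, Polynomial.map_C, Polynomial.map_comp, Polynomial.map_X, hu, hv,
      Polynomial.mul_comp, Polynomial.C_comp, ← Polynomial.coe_aeval_eq_eval, Polynomial.aeval_add, map_add, mul_add]
    simp only [Polynomial.comp_eq_aeval, ← Polynomial.aeval_algHom_apply, map_mul, Polynomial.aeval_C, Polynomial.aeval_X, pow_add, Polynomial.algebraMap_eq]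
    ring_nf
  | monomial d c =>
    obtain ⟨k, a, ha⟩ := IsLocalization.Away.surj r c
    refine ⟨k, Polynomial.C (a * r ^ (k * d)) * Polynomial.X ^ d, ?_⟩
    simp only [Polynomial.map_mul, Polynomial.map_C, Polynomial.map_pow, Polynomial.map_X, Polynomial.aeval_monomial, mul_pow, map_mul, map_pow, Polynomial.algebraMap_eq, ← ha]
    ring

/-- In the case of an affine scheme of finite presentation, let B be a finitely presented R-algebra, r ∈
R, and x : B → R[1/r][T] an R-algebra homomorphism whose value at T = 0, a homomorphism B → R[1/r],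
is induced by a homomorphism x̃₀ : B → R. Then for every large enough n, the homomorphism x(rⁿT) : B
→ R[1/r][T] is induced by a homomorphism x̃ : B → R[T] whose value at T = 0 is x̃₀. The published
statement is for algebraic spaces locally of finite presentation over R; this row takes an affine
scheme of finite presentation. -/
theorem result
    (R : Type u) (B : Type v) [CommRing R] [CommRing B] [Algebra R B]
    [Algebra.FinitePresentation R B] (r : R)
    (x : B →ₐ[R] Polynomial (Localization.Away r))
    (x₀ : B →ₐ[R] R)
    (hx₀ : (algebraMap R (Localization.Away r)).comp x₀.toRingHom =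
      (Polynomial.evalRingHom 0).comp x.toRingHom) :
    ∃ N : ℕ, ∀ n : ℕ, N ≤ n →
      ∃ y : B →ₐ[R] Polynomial R,
        (Polynomial.evalRingHom 0).comp y.toRingHom = x₀.toRingHom ∧
        (Polynomial.mapRingHom (algebraMap R (Localization.Away r))).comp y.toRingHom =
          (Polynomial.aeval (Polynomial.C (algebraMap R (Localization.Away r) (r ^ n)) * Polynomial.X) :
              Polynomial (Localization.Away r) →ₐ[Localization.Away r] Polynomial (Localization.Away r)).toRingHom.comp
            x.toRingHom := by
  classical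
  let al := algebraMap R (Localization.Away r)
  let sc : ℕ → (Polynomial (Localization.Away r) →ₐ[(Localization.Away r)] Polynomial (Localization.Away r)) := fun m => Polynomial.aeval (Polynomial.C (al (r ^ m)) * Polynomial.X)
  let sR : ℕ → (Polynomial R →ₐ[R] Polynomial R) := fun m => Polynomial.aeval (Polynomial.C (r ^ m) * Polynomial.X)
  have hcomm : ∀ m q, (sR m q).map al = sc m (q.map al) := by
    intro m q
    induction q using Polynomial.induction_on' with
    | add p q hp hq => simp only [map_add, Polynomial.map_add, hp, hq]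
    | monomial d c => simp [sR, sc, Polynomial.aeval_monomial]
  have hadd : ∀ a b p, sc a (sc b p) = sc (a + b) p := by
    intro a b p
    simp only [sc, ← Polynomial.aeval_algHom_apply]
    congr 2
    simp only [map_mul, Polynomial.aeval_C, Polynomial.aeval_X, Polynomial.algebraMap_eq, pow_add]
    ring_nf
  have h0 : ∀ m (q : Polynomial R), (sR m q).eval 0 = q.eval 0 := by
    intro m q
    induction q using Polynomial.induction_on' with
    | add p q hp hq => simp only [map_add, Polynomial.eval_add, hp, hq]
    | monomial d c => rcases d with _ | d <;> simp [sR, Polynomial.aeval_monomial, Polynomial.eval_pow]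
  obtain ⟨k, π, hπ, hker⟩ := Algebra.FinitePresentation.out (R := R) (A := B)
  have hgen : ∀ i, ∃ (N : ℕ) (q : Polynomial R), q.eval 0 = x₀ (π (MvPolynomial.X i)) ∧ q.map al = sc N (x (π (MvPolynomial.X i))) := by
    intro i
    set p := x (π (MvPolynomial.X i))
    obtain ⟨N, q, hq⟩ := scale_lift r p.divX
    refine ⟨N, Polynomial.C (x₀ (π (MvPolynomial.X i))) + Polynomial.X * q, by simp, ?_⟩
    have hp0 : al (x₀ (π (MvPolynomial.X i))) = p.coeff 0 := by
      rw [Polynomial.coeff_zero_eq_eval_zero]; exact RingHom.congr_fun hx₀ _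
    conv_rhs => rw [← Polynomial.X_mul_divX_add p]
    rw [Polynomial.map_add, Polynomial.map_mul, Polynomial.map_C, Polynomial.map_X, hq, map_add, map_mul, hp0]
    simp only [sc, Polynomial.aeval_X, Polynomial.aeval_C, Polynomial.algebraMap_eq]
    ring
  choose N q hq0 hqm using hgen
  set N0 := Finset.univ.sup N
  let Q : ℕ → (MvPolynomial (Fin k) R →ₐ[R] Polynomial R) := fun m => MvPolynomial.aeval fun i => sR (N0 - N i + m) (q i)
  have hQmap : ∀ m f, (Q m f).map al = sc (N0 + m) (x (π f)) := by
    intro m f
    induction f using MvPolynomial.induction_on with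
    | C c =>
      rw [← MvPolynomial.algebraMap_eq, AlgHom.commutes, AlgHom.commutes, AlgHom.commutes, IsScalarTower.algebraMap_apply R (Localization.Away r) (Polynomial (Localization.Away r)),
        AlgHom.commutes]
      simp [al]
    | add u v hu hv => simp only [map_add, Polynomial.map_add, hu, hv]
    | mul_X u i hu =>
      simp only [map_mul, Polynomial.map_mul, hu]
      congr 1
      simp only [Q, MvPolynomial.aeval_X, hcomm, hqm, hadd]
      have : N i ≤ N0 := Finset.le_sup (Finset.mem_univ i)
      rw [show N0 - N i + m + N i = N0 + m by omega]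
  have hQ0 : ∀ m f, (Q m f).eval 0 = x₀ (π f) := by
    intro m f
    induction f using MvPolynomial.induction_on with
    | C c => rw [← MvPolynomial.algebraMap_eq, AlgHom.commutes, AlgHom.commutes, AlgHom.commutes]; simp
    | add u v hu hv => simp only [map_add, Polynomial.eval_add, hu, hv]
    | mul_X u i hu => simp only [map_mul, Polynomial.eval_mul, hu, Q, MvPolynomial.aeval_X, h0, hq0]
  have hshift : ∀ m f, sR m (Q 0 f) = Q m f := by
    intro m f
    induction f using MvPolynomial.induction_on with
    | C c => rw [← MvPolynomial.algebraMap_eq, AlgHom.commutes, AlgHom.commutes, AlgHom.commutes]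
    | add u v hu hv => simp only [map_add, hu, hv]
    | mul_X u i hu =>
      simp only [map_mul, hu]
      congr 1
      simp only [Q, sR, MvPolynomial.aeval_X, ← Polynomial.aeval_algHom_apply]
      congr 1
      simp only [map_mul, Polynomial.aeval_C, Polynomial.aeval_X, Polynomial.algebraMap_eq, pow_add, pow_zero, map_one, mul_one]
      ring_nf
  have hkill : ∀ f ∈ RingHom.ker π, ∃ M, ∀ m, M ≤ m → Q m f = 0 := by
    intro f hf
    rw [RingHom.mem_ker] at hf
    have h1 : (Q 0 f).map al = 0 := by rw [hQmap, hf, map_zero, map_zero]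
    have h2 : (Q 0 f).coeff 0 = 0 := by rw [Polynomial.coeff_zero_eq_eval_zero, hQ0, hf, map_zero]
    have h3 : ∀ d, ∃ e, r ^ e * (Q 0 f).coeff d = 0 := by
      intro d
      have h4 : al ((Q 0 f).coeff d) = 0 := by rw [← Polynomial.coeff_map, h1, Polynomial.coeff_zero]
      obtain ⟨⟨_, e, rfl⟩, he⟩ := (IsLocalization.map_eq_zero_iff (Submonoid.powers r) (Localization.Away r) _).1 h4
      exact ⟨e, he⟩
    choose e he using h3
    refine ⟨(Q 0 f).support.sup e, fun m hm => ?_⟩
    rw [← hshift]
    conv_lhs => rw [(Q 0 f).as_sum_support]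
    rw [map_sum]
    refine Finset.sum_eq_zero fun d hd => ?_
    have hd0 : d ≠ 0 := by rintro rfl; exact (Polynomial.mem_support_iff.1 hd) h2
    have : r ^ (m * d) * (Q 0 f).coeff d = 0 := by
      have hle : e d ≤ m * d := ((Finset.le_sup hd).trans hm).trans (Nat.le_mul_of_pos_right _ (Nat.pos_of_ne_zero hd0))
      rw [← Nat.sub_add_cancel hle, pow_add, mul_assoc, he, mul_zero]
    simp only [sR, Polynomial.aeval_monomial, Polynomial.algebraMap_eq, mul_pow, ← map_pow, ← pow_mul, ← mul_assoc, ← map_mul]
    rw [mul_comm _ (r ^ (m * d)), this, map_zero, zero_mul]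
  obtain ⟨S, hS⟩ := hker
  have hS' : ∀ f ∈ S, f ∈ RingHom.ker π := fun f hf => hS ▸ Submodule.subset_span hf
  choose! M hM using fun f (hf : f ∈ S) => hkill f (hS' f hf)
  refine ⟨N0 + S.sup M, fun nn hnn => ?_⟩
  have hle : RingHom.ker π.toRingHom ≤ RingHom.ker (Q (nn - N0)).toRingHom := by
    rw [← hS]
    refine Submodule.span_le.2 fun f hf => ?_
    have hMle : M f ≤ S.sup M := Finset.le_sup hf
    exact hM f hf (nn - N0) (by omega)
  let y : B →ₐ[R] Polynomial R := AlgHom.liftOfSurjective π hπ (Q (nn - N0)) hle
  have hy : ∀ f, y (π f) = Q (nn - N0) f := fun f => AlgHom.liftOfSurjective_apply π hπ (Q (nn - N0)) hle f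
  refine ⟨y, RingHom.ext fun z => ?_, RingHom.ext fun z => ?_⟩
  · obtain ⟨f, rfl⟩ := hπ z
    show (y (π f)).eval 0 = x₀ (π f)
    rw [hy, hQ0]
  · obtain ⟨f, rfl⟩ := hπ z
    show (y (π f)).map al = sc nn (x (π f))
    rw [hy, hQmap, Nat.add_sub_cancel' (by omega)]

end Groth.Agent.S17843
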