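import Groth.Statements.S17844
import Groth.Agent.Lib.TorsorQuillen.Top

set_option autoImplicit false
open CategoryTheory CategoryTheory.Limits MonoidalCategory CartesianMonoidalCategory MonObj GrpObj AlgebraicGeometry
universe u
open NonAbH1

namespace Groth.Agent.S17844

/-- For torsors under a group scheme locally of finite presentation, let S be an affine scheme, G an
S-group scheme locally of finite presentation and X an fppf torsor over the affine space 𝔸ⁿ_S (n
finite) under the base change of G. Suppose that Zariski locally on S the torsor X descends: every
point of S has an open neighbourhood U ↪ S and a torsor P under G_U over U whose base change to 𝔸ⁿ_U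
is equivariantly isomorphic to the restriction of X (both regarded as actions of the base change of
G along 𝔸ⁿ_U → S through the canonical identifications of iterated base changes). Then X is
equivariantly isomorphic to the base change of a G-torsor over S. The published statement also
allows more general group functors and graded algebras in place of the polynomial algebra;
affineness of S cannot be dropped. -/
theorem result
    (S : Scheme.{u}) [IsAffine S] (n : Type u) [Finite n]
    (G : Over S) [GrpObj G] [LocallyOfFinitePresentation G.hom]
    (X : NonAbH1.TorsorSch (Red.bc (𝔸(n; S) ↘ S) G) Scheme.fppfPrecoverage)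
    (hloc : ∀ s : S, ∃ (U : Scheme.{u}) (j : U ⟶ S) (_ : IsOpenImmersion j), s ∈ Set.range j.base ∧
      ∃ P : NonAbH1.TorsorSch (Red.bc j G) Scheme.fppfPrecoverage,
        Nonempty (NonAbH1.EquivIso
          ((P.act.bc (pullback.snd (𝔸(n; S) ↘ S) j)).restrict
            (ActBC.bcCompIso (pullback.snd (𝔸(n; S) ↘ S) j) j G rfl).inv)
          ((X.act.bc (pullback.fst (𝔸(n; S) ↘ S) j)).restrict
            (ActBC.bcCompIso (pullback.fst (𝔸(n; S) ↘ S) j) (𝔸(n; S) ↘ S) G pullback.condition).inv))) :
    ∃ P : NonAbH1.TorsorSch G Scheme.fppfPrecoverage,
      Nonempty (NonAbH1.EquivIso (P.act.bc (𝔸(n; S) ↘ S)) X.act) := by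
  exact Groth.Agent.Lib.TorsorQuillen.Top.exists_torsor_of_local X.isTorsor hloc

end Groth.Agent.S17844
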