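import Groth.Statements.S17846
import Groth.Agent.Lib.OT67.MultFinite

set_option autoImplicit false
universe u
open SGA3b

namespace Groth.Agent.S17846

/-- Over an affine base, i.e. over a ring R with connected prime spectrum, a finite R-group scheme of
multiplicative type G = Spec A (A a commutative Hopf algebra, finite as an R-module, diagonalisable
locally in the fppf topology) is isotrivial: diagonalisable after a finite étale faithfully flat
base change. The published statement is for any connected base scheme. -/
theorem result
    (R : Type u) [CommRing R] [ConnectedSpace (PrimeSpectrum R)]
    (A : Type u) [CommRing A] [HopfAlgebra R A] [Module.Finite R A]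
    (hA : SGA3b.IsMultType R A) : SGA3b.IsIsotrivial R A := by
  haveI := Groth.Agent.Lib.OT67.MultFinite.projective hA
  haveI := Groth.Agent.Lib.OT67.MultFinite.isCocomm hA
  haveI := Groth.Agent.Lib.OT67.MultFinite.etale_dual hA
  exact Groth.Agent.Lib.OT67.SplitMult.isIsotrivial_of_etale_dual A

end Groth.Agent.S17846
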