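import Groth.Statements.S17851
import Groth.Agent.Lib.TorsorQuillen.LineMain

set_option autoImplicit false
open CategoryTheory CategoryTheory.Limits MonoidalCategory CartesianMonoidalCategory MonObj GrpObj AlgebraicGeometry
universe u
open NonAbH1

namespace Groth.Agent.S17851

/-- Let R be a ring and G an R-group scheme locally of finite presentation. Call an fppf torsor over the
affine line Spec A[t] (under the base change of the group) trivial away from an A-finite closed
subscheme when it has a section over the open complement of V(I) for some ideal I of A[t] with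
A[t]/I a finite A-module. If for every maximal ideal m of R every torsor under the base change of G
over Spec R_m[t] which is trivial away from an R_m-finite closed subscheme is trivial, then every
torsor under the base change of G over Spec R[t] which is trivial away from an R-finite closed
subscheme is trivial. The published statement also allows more general group functors. -/
theorem result
    (R : Type u) [CommRing R]
    (G : Over (Spec (CommRingCat.of R))) [GrpObj G] [LocallyOfFinitePresentation G.hom]
    (hloc : ∀ (m : Ideal R) [m.IsMaximal]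
      (Y : NonAbH1.TorsorSch (Red.bc (Spec.map (CommRingCat.ofHom (algebraMap (Localization.AtPrime m) (Polynomial (Localization.AtPrime m))))) (Red.bc (Spec.map (CommRingCat.ofHom (algebraMap R (Localization.AtPrime m)))) G)) Scheme.fppfPrecoverage),
      (∃ I : Ideal (Polynomial (Localization.AtPrime m)), Module.Finite (Localization.AtPrime m) (Polynomial (Localization.AtPrime m) ⧸ I) ∧
        NonAbH1.HasSectionOver Y.X (Scheme.Opens.ι
          (⟨(PrimeSpectrum.zeroLocus (I : Set (Polynomial (Localization.AtPrime m))))ᶜ,
            (PrimeSpectrum.isClosed_zeroLocus _).isOpen_compl⟩ : (Spec (CommRingCat.of (Polynomial (Localization.AtPrime m)))).Opens))) →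
      NonAbH1.HasSectionOver Y.X (𝟙 (Spec (CommRingCat.of (Polynomial (Localization.AtPrime m))))))
    (X : NonAbH1.TorsorSch (Red.bc (Spec.map (CommRingCat.ofHom (algebraMap R (Polynomial R)))) G) Scheme.fppfPrecoverage)
    (I : Ideal (Polynomial R)) (hI : Module.Finite R (Polynomial R ⧸ I))
    (hX : NonAbH1.HasSectionOver X.X (Scheme.Opens.ι
      (⟨(PrimeSpectrum.zeroLocus (I : Set (Polynomial R)))ᶜ,
        (PrimeSpectrum.isClosed_zeroLocus _).isOpen_compl⟩ : (Spec (CommRingCat.of (Polynomial R))).Opens))) :
    NonAbH1.HasSectionOver X.X (𝟙 (Spec (CommRingCat.of (Polynomial R)))) := by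
  obtain ⟨f, hf, hfI⟩ : ∃ f : Polynomial R, f.Monic ∧ f ∈ I := by
    haveI := hI
    obtain ⟨f, hf, hf0⟩ := Algebra.IsIntegral.isIntegral (R := R) (Ideal.Quotient.mkₐ R I Polynomial.X)
    refine ⟨f, hf, Ideal.Quotient.eq_zero_iff_mem.1 ?_⟩
    rw [← Polynomial.aeval_def, Polynomial.aeval_algHom_apply, Polynomial.aeval_X_left_apply] at hf0
    exact hf0
  obtain ⟨s, hs⟩ := hX
  let U : (Spec (CommRingCat.of (Polynomial R))).Opens :=
    ⟨(PrimeSpectrum.zeroLocus (I : Set (Polynomial R)))ᶜ, (PrimeSpectrum.isClosed_zeroLocus _).isOpen_compl⟩
  have hr : Set.range (Spec.map (CommRingCat.ofHom (algebraMap (Polynomial R) (Localization.Away f)))) ⊆ Set.range U.ι := by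
    rw [Scheme.Opens.range_ι]
    rintro _ ⟨z, rfl⟩ hz
    have h : PrimeSpectrum.comap (algebraMap (Polynomial R) (Localization.Away f)) z ∈ Set.range
        (PrimeSpectrum.comap (algebraMap (Polynomial R) (Localization.Away f))) := ⟨z, rfl⟩
    rw [PrimeSpectrum.localization_away_comap_range (Localization.Away f) f] at h
    exact h (hz hfI)
  refine Groth.Agent.Lib.TorsorQuillen.LineMain.hasSectionOver_poly hloc X.isTorsor f hf
    ⟨IsOpenImmersion.lift U.ι _ hr ≫ s, ?_⟩
  rw [Category.assoc, hs]
  exact IsOpenImmersion.lift_fac _ _ _

end Groth.Agent.S17851
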