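import Groth.Statements.S17853
import Groth.Agent.H22.Horrocks.Apply
import Mathlib

set_option autoImplicit false
open Polynomial LaurentPolynomial TensorProduct
universe u
open CAlg

namespace Groth.Agent.S17853

/-- For an arbitrary commutative ring A, a finitely generated projective A[t]-module M is extended from
A (isomorphic to A[t] ⊗_A P for an A-module P) if and only if it extends to a vector bundle on the
projective line over A. The latter is stated by gluing: there are a finitely generated projective
module N over the polynomial ring of the chart at infinity and an isomorphism over the Laurent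
polynomial ring between the localisation of M and the base change of N along s ↦ t⁻¹, written as a
bijective additive map A[t,t⁻¹] ⊗ M → A[t,t⁻¹] ⊗ N that is semilinear with respect to the A-algebra
involution t ↦ t⁻¹ of A[t,t⁻¹]. (The published statement adds: for A semilocal, M is then free on
each connected component of the affine line.) -/
theorem result
    (A : Type u) [CommRing A] (M : Type u) [AddCommGroup M] [Module A[X] M]
    [Module.Finite A[X] M] [Module.Projective A[X] M] :
    (∃ (P : Type u) (_ : AddCommGroup P) (_ : Module A P), Nonempty (M ≃ₗ[A[X]] (A[X] ⊗[A] P))) ↔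
      ∃ (N : Type u) (_ : AddCommGroup N) (_ : Module A[X] N),
        Module.Finite A[X] N ∧ Module.Projective A[X] N ∧
        ∃ e : (A[T;T⁻¹] ⊗[A[X]] M) →ₛₗ[(LaurentPolynomial.invert (R := A)).toRingEquiv.toRingHom]
            (A[T;T⁻¹] ⊗[A[X]] N), Function.Bijective e := by
  haveI : IsScalarTower A A[X] A[T;T⁻¹] :=
    IsScalarTower.of_algebraMap_eq fun r => (Polynomial.toLaurent_C r).symm
  obtain ⟨Q⟩ := H22.Horrocks.exists_pres (R := A[X]) (M := M)
  constructor
  · rintro ⟨P, _, _, ⟨θ⟩⟩
    let ev0 : A[X] →ₐ[A] A := Polynomial.aeval 0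
    let ε : A[X] ⊗[A] P →ₗ[A] P :=
      (TensorProduct.lid A P).toLinearMap ∘ₗ TensorProduct.map ev0.toLinearMap LinearMap.id
    have hε : ∀ (g : A[X]) (x : A[X] ⊗[A] P), ε (g • x) = ev0 g • ε x := by
      intro g x
      induction x using TensorProduct.induction_on with
      | zero => simp
      | tmul h p =>
        rw [TensorProduct.smul_tmul', smul_eq_mul]
        simp [ε, mul_smul]
      | add x y hx hy => rw [smul_add, map_add, hx, hy, map_add, smul_add]
    have hdep : ∀ w : Fin Q.n → A[X], ε (θ (Q.π w)) = ∑ i, ev0 (w i) • ε (θ (Q.π (Pi.single i 1))) := by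
      intro w
      conv_lhs => rw [pi_eq_sum_univ' w]
      simp [map_sum, map_smul, hε]
    let P0 : H22.Horrocks.Pres A P :=
      { n := Q.n
        π :=
          { toFun := fun v => ∑ i, v i • ε (θ (Q.π (Pi.single i 1)))
            map_add' := fun v w => by simp [add_smul, Finset.sum_add_distrib]
            map_smul' := fun r v => by simp [Finset.smul_sum, mul_smul] }
        σ :=
          { toFun := fun p i => ev0 (Q.σ (θ.symm ((1 : A[X]) ⊗ₜ[A] p)) i)
            map_add' := fun p q => funext fun i => by simp [tmul_add]
            map_smul' := fun r p => funext fun i => by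
              rw [tmul_smul, ← algebraMap_smul A[X] r ((1 : A[X]) ⊗ₜ[A] p)]
              simp [ev0] }
        hπσ := fun p => by
          show ∑ i, ev0 (Q.σ (θ.symm ((1 : A[X]) ⊗ₜ[A] p)) i) • ε (θ (Q.π (Pi.single i 1))) = p
          rw [← hdep, Q.hπσ, θ.apply_symm_apply]
          simp [ε] }
    haveI := P0.finite
    haveI := P0.projective
    refine ⟨A[X] ⊗[A] P, inferInstance, inferInstance, inferInstance, inferInstance, ?_⟩
    let inv := (LaurentPolynomial.invert (R := A))
    let c := TensorProduct.AlgebraTensorModule.cancelBaseChange A A[X] A[T;T⁻¹] A[T;T⁻¹] P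
    let θL : A[T;T⁻¹] ⊗[A[X]] M ≃ₗ[A[T;T⁻¹]] A[T;T⁻¹] ⊗[A] P := (θ.baseChange A[X] A[T;T⁻¹] M _) ≪≫ₗ c
    let F := TensorProduct.congr inv.toLinearEquiv (LinearEquiv.refl A P)
    have hF : ∀ (r : A[T;T⁻¹]) (x : A[T;T⁻¹] ⊗[A] P), F (r • x) = inv r • F x := by
      intro r x
      induction x using TensorProduct.induction_on with
      | zero => simp
      | tmul h p => simp [F, inv, TensorProduct.smul_tmul', map_mul]
      | add x y hx hy => rw [smul_add, map_add, hx, hy, map_add, smul_add]
    refine ⟨{ toFun := fun x => c.symm (F (θL x)), map_add' := fun x y => by simp,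
              map_smul' := fun r x => ?_ }, ?_⟩
    · rw [map_smul θL, hF, map_smul c.symm]
      rfl
    · exact c.symm.bijective.comp (F.bijective.comp θL.bijective)
  · rintro ⟨N, _, _, _, _, e, he⟩
    obtain ⟨Q'⟩ := H22.Horrocks.exists_pres (R := A[X]) (M := N)
    have hext := H22.Horrocks.extended_of_semilinear Q Q' e he
    let f := Q.e.map (evalRingHom (0 : A))
    let P0 := H22.Horrocks.Pres.ofIdem f (H22.Horrocks.map_idem' _ Q.idem)
    refine ⟨LinearMap.range (Matrix.toLin' f), inferInstance, inferInstance,
      Q.nonempty_linearEquiv (P0.baseChange A[X]) ?_⟩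
    have : (P0.baseChange A[X]).e = Q.e.map (Polynomial.C.comp (evalRingHom 0)) := by
      refine (H22.Horrocks.Pres.baseChange_e P0 A[X]).trans ?_
      show (H22.Horrocks.Pres.ofIdem f _).e.map _ = _
      erw [H22.Horrocks.Pres.ofIdem_e]
      exact H22.Horrocks.map_map' _ _ _
    erw [this]; exact hext

end Groth.Agent.S17853
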