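import Groth.Statements.S17854
import Groth.Agent.H83.EtaleCriterion
import Mathlib.RingTheory.Jacobson.Ring
import Mathlib.RingTheory.Unramified.Field
import Mathlib.FieldTheory.Perfect
import Mathlib.RingTheory.IntegralDomain

set_option autoImplicit false
open TensorProduct
universe u
open EtAlg

namespace Groth.Agent.S17854

/-- In the case of a base with finite residue field, let k be a local ring whose residue field is
finite, R a finitely presented k-algebra and m a maximal ideal of R over the maximal ideal of k such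
that R is smooth over k at m of relative dimension d > 0 (the module of Kähler differentials of R
over k has rank d at m). Then there are g ∉ m and an étale k-algebra homomorphism φ : k[x₁, …, x_d]
→ R[1/g] which induces an isomorphism of residue fields at m, i.e. k[x₁, …, x_d] → R[1/g]/m R[1/g]
is surjective. The published statement is for any local ring k; this row takes the residue field of
k finite. -/
theorem result
    (k : Type u) [CommRing k] [IsLocalRing k] [Finite (IsLocalRing.ResidueField k)]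
    (R : Type u) [CommRing R] [Algebra k R] [Algebra.FinitePresentation k R]
    (m : Ideal R) [m.IsMaximal] (hm : m.comap (algebraMap k R) = IsLocalRing.maximalIdeal k)
    [Algebra.IsSmoothAt k m] (d : ℕ) (hd : 0 < d)
    (hdim : Module.finrank (R ⧸ m) ((R ⧸ m) ⊗[R] KaehlerDifferential k R) = d) :
    ∃ g : R, g ∉ m ∧ ∃ φ : MvPolynomial (Fin d) k →ₐ[k] Localization.Away g,
      φ.toRingHom.Etale ∧
      Function.Surjective
        ((Ideal.Quotient.mk (m.map (algebraMap R (Localization.Away g)))).comp φ.toRingHom) := by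
  classical
  let κ := R ⧸ m
  letI : Field κ := Ideal.Quotient.field m
  let ρ : IsLocalRing.ResidueField k →+* κ :=
    Ideal.quotientMap m (algebraMap k R) hm.ge
  letI : Algebra (IsLocalRing.ResidueField k) κ := ρ.toAlgebra
  haveI : IsScalarTower k (IsLocalRing.ResidueField k) κ := .of_algebraMap_eq fun _ => rfl
  haveI : Algebra.FiniteType k κ :=
    Algebra.FiniteType.of_surjective (Ideal.Quotient.mkₐ k m) Ideal.Quotient.mk_surjective
  haveI : Algebra.FiniteType (IsLocalRing.ResidueField k) κ :=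
    Algebra.FiniteType.of_restrictScalars_finiteType k _ _
  haveI : Module.Finite (IsLocalRing.ResidueField k) κ :=
    finite_of_finite_type_of_isJacobsonRing _ _
  haveI : Finite κ := Module.finite_of_finite (IsLocalRing.ResidueField k)
  haveI : Algebra.IsSeparable (IsLocalRing.ResidueField k) κ := inferInstance
  haveI : Algebra.FormallyUnramified (IsLocalRing.ResidueField k) κ :=
    Algebra.FormallyUnramified.of_isSeparable _ _
  haveI : Algebra.FormallyUnramified k (IsLocalRing.ResidueField k) :=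
    .of_surjective (Algebra.ofId k (IsLocalRing.ResidueField k)) Ideal.Quotient.mk_surjective
  haveI : Algebra.FormallyUnramified k κ := .comp k (IsLocalRing.ResidueField k) κ
  have hsurj : Function.Surjective (algebraMap R κ) := Ideal.Quotient.mk_surjective
  -- every class in the cotangent fibre is the differential of a function vanishing at `m`
  have hdm : ∀ v : κ ⊗[R] Ω[R⁄k], ∃ x : R, x ∈ m ∧ (1 : κ) ⊗ₜ[R] KaehlerDifferential.D k R x = v := by
    intro v
    obtain ⟨c, rfl⟩ := (KaehlerDifferential.exact_kerCotangentToTensor_mapBaseChange k R κ hsurj v).1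
      (Subsingleton.elim _ _)
    obtain ⟨⟨x, hx⟩, rfl⟩ := Ideal.toCotangent_surjective _ c
    refine ⟨x, Ideal.Quotient.eq_zero_iff_mem.1 hx, ?_⟩
    simp
  obtain ⟨i₀⟩ : Nonempty (Fin d) := ⟨⟨0, hd⟩⟩
  let ω : Module.Basis (Fin d) κ (κ ⊗[R] Ω[R⁄k]) :=
    haveI : Module.Finite κ (κ ⊗[R] Ω[R⁄k]) := inferInstance
    Module.finBasisOfFinrankEq κ _ hdim
  obtain ⟨θ, hθ⟩ := IsCyclic.exists_generator (α := κˣ)
  obtain ⟨r₀, hr₀⟩ := Ideal.Quotient.mk_surjective (θ : κ)
  choose x hxm hx using fun i => hdm (ω i - if i = i₀ then (1 : κ) ⊗ₜ[R] KaehlerDifferential.D k R r₀ else 0)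
  let z : Fin d → R := fun i => x i + if i = i₀ then r₀ else 0
  have hz : ∀ i, (1 : κ) ⊗ₜ[R] KaehlerDifferential.D k R (z i) = ω i := by
    intro i
    simp only [z, map_add, TensorProduct.tmul_add, hx]
    split_ifs <;> simp
  have hz0 : Ideal.Quotient.mk m (z i₀) = θ := by
    simp only [z, ↓reduceIte, map_add, Ideal.Quotient.eq_zero_iff_mem.2 (hxm i₀), zero_add, hr₀]
  let φ₀ : MvPolynomial (Fin d) k →ₐ[k] R := MvPolynomial.aeval z
  letI : Algebra (MvPolynomial (Fin d) k) R := φ₀.toRingHom.toAlgebra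
  haveI : IsScalarTower k (MvPolynomial (Fin d) k) R :=
    .of_algebraMap_eq fun a => (φ₀.commutes a).symm
  have hX : ∀ i, algebraMap (MvPolynomial (Fin d) k) R (.X i) = z i := fun i =>
    MvPolynomial.aeval_X z i
  have hq : ∀ w : Ω[R⁄k], (1 : κ) ⊗ₜ[R] w = 0 → w ∈ (m • ⊤ : Submodule R Ω[R⁄k]) := by
    intro w hw
    have := congr_arg (TensorProduct.quotTensorEquivQuotSMul Ω[R⁄k] m) hw
    rw [map_zero, show (1 : κ) = Ideal.Quotient.mk m 1 from rfl,
      TensorProduct.quotTensorEquivQuotSMul_mk_tmul, one_smul] at this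
    exact (Submodule.Quotient.mk_eq_zero _).1 this
  have hspan : Submodule.span R (Set.range fun i : Fin d => KaehlerDifferential.D k R
      (algebraMap (MvPolynomial (Fin d) k) R (.X i))) ⊔ m • ⊤ = ⊤ := by
    refine eq_top_iff.2 fun w _ => ?_
    have h0 := ω.sum_repr ((1 : κ) ⊗ₜ[R] w)
    choose r hr using fun i => Ideal.Quotient.mk_surjective (ω.repr ((1 : κ) ⊗ₜ[R] w) i)
    refine Submodule.mem_sup.2 ⟨∑ i, r i • KaehlerDifferential.D k R (z i), ?_,
      w - ∑ i, r i • KaehlerDifferential.D k R (z i), hq _ ?_, add_sub_cancel _ _⟩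
    · exact Submodule.sum_mem _ fun i _ => Submodule.smul_mem _ _
        (Submodule.subset_span ⟨i, by simp only [hX]⟩)
    · rw [TensorProduct.tmul_sub, TensorProduct.tmul_sum, sub_eq_zero]
      refine h0.symm.trans (Finset.sum_congr rfl fun i _ => ?_)
      rw [TensorProduct.tmul_smul, hz, ← IsScalarTower.algebraMap_smul κ (r i) (ω i)]
      exact congr_arg (· • ω i) (hr i).symm
  have hind : ∀ r : Fin d → R, ∑ i, r i • KaehlerDifferential.D k R
      (algebraMap (MvPolynomial (Fin d) k) R (.X i)) ∈ (m • ⊤ : Submodule R Ω[R⁄k]) → ∀ i, r i ∈ m := by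
    intro r hr i
    have h0 : ∀ w ∈ (m • ⊤ : Submodule R Ω[R⁄k]), (1 : κ) ⊗ₜ[R] w = 0 := by
      intro w hw
      refine Submodule.smul_induction_on hw (fun a ha n _ => ?_) fun a b ha hb => by
        rw [TensorProduct.tmul_add, ha, hb, add_zero]
      rw [← TensorProduct.smul_tmul, ← Algebra.algebraMap_eq_smul_one,
        show algebraMap R κ a = 0 from Ideal.Quotient.eq_zero_iff_mem.2 ha, TensorProduct.zero_tmul]
    have h1 := h0 _ hr
    simp only [hX, TensorProduct.tmul_sum, TensorProduct.tmul_smul, hz] at h1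
    have h2 : ∑ j, algebraMap R κ (r j) • ω j = 0 := by
      simpa only [IsScalarTower.algebraMap_smul] using h1
    exact Ideal.Quotient.eq_zero_iff_mem.1 (Fintype.linearIndependent_iff.1 ω.linearIndependent _ h2 i)
  haveI : Algebra.FinitePresentation (MvPolynomial (Fin d) k) R :=
    .of_restrict_scalars_finitePresentation k _ _
  haveI : Algebra.IsEtaleAt (MvPolynomial (Fin d) k) m :=
    Groth.Agent.H83.EtaleCriterion.formallyEtale_of_bijective k _ _
      (Groth.Agent.H83.EtaleCriterion.bijective_mapBaseChange_atPrime k R m hspan hind)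
  obtain ⟨g, hg, het⟩ := Algebra.exists_etale_of_isEtaleAt (R := MvPolynomial (Fin d) k) m
  let φ : MvPolynomial (Fin d) k →ₐ[k] Localization.Away g :=
    (IsScalarTower.toAlgHom k R (Localization.Away g)).comp φ₀
  have hφ : φ.toRingHom = algebraMap (MvPolynomial (Fin d) k) (Localization.Away g) := by
    rw [IsScalarTower.algebraMap_eq (MvPolynomial (Fin d) k) R (Localization.Away g)]
    rfl
  refine ⟨g, hg, φ, ?_, ?_⟩
  · rw [hφ, RingHom.etale_algebraMap]
    exact het
  intro y
  obtain ⟨y, rfl⟩ := Ideal.Quotient.mk_surjective y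
  obtain ⟨n, a, hay⟩ := IsLocalization.Away.surj g y
  obtain ⟨c, hc⟩ : ∃ c : MvPolynomial (Fin d) k, Ideal.Quotient.mk m (φ₀ c) =
      Ideal.Quotient.mk m a * ((Ideal.Quotient.mk m g)⁻¹) ^ n := by
    by_cases h0 : Ideal.Quotient.mk m a * ((Ideal.Quotient.mk m g)⁻¹) ^ n = 0
    · exact ⟨0, by rw [map_zero, map_zero, h0]⟩
    · obtain ⟨j, hj⟩ := (mem_powers_iff_mem_zpowers).2 (hθ (Units.mk0 _ h0))
      refine ⟨MvPolynomial.X i₀ ^ j, ?_⟩
      rw [map_pow, map_pow, MvPolynomial.aeval_X, hz0]
      exact (Units.val_pow_eq_pow_val θ j).symm.trans (congr_arg Units.val hj)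
  have hgk : Ideal.Quotient.mk m g ≠ 0 := fun h => hg (Ideal.Quotient.eq_zero_iff_mem.1 h)
  have hdiff : φ₀ c * g ^ n - a ∈ m := by
    rw [← Ideal.Quotient.eq_zero_iff_mem, map_sub, map_mul, map_pow, hc, mul_assoc, ← mul_pow,
      inv_mul_cancel₀ hgk, one_pow, mul_one, sub_self]
  refine ⟨c, ?_⟩
  rw [RingHom.comp_apply, Ideal.Quotient.mk_eq_mk_iff_sub_mem]
  have hu : IsUnit (algebraMap R (Localization.Away g) g ^ n) :=
    (IsLocalization.Away.algebraMap_isUnit g).pow n
  rw [← (m.map (algebraMap R (Localization.Away g))).mul_unit_mem_iff_mem hu]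
  have : (φ.toRingHom c - y) * algebraMap R (Localization.Away g) g ^ n =
      algebraMap R (Localization.Away g) (φ₀ c * g ^ n - a) := by
    rw [sub_mul, hay, map_sub, map_mul, map_pow]
    rfl
  rw [this]
  exact Ideal.mem_map_of_mem _ hdiff

end Groth.Agent.S17854
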