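import Groth.Statements.S17855
import Groth.Agent.Lib.LocScale.Basic

set_option autoImplicit false
open CategoryTheory CategoryTheory.Limits MonoidalCategory CartesianMonoidalCategory MonObj GrpObj AlgebraicGeometry
universe u
open NonAbH1

namespace Groth.Agent.S17855
open Groth.Agent.Lib.LocScale Polynomial in
theorem aux (R : Type u) [CommRing R]
    (G : Over (Spec (CommRingCat.of R))) [GrpObj G] [LocallyOfFinitePresentation G.hom]
    (r r' : R) (hrr : IsCoprime r r')
    (A A' B : Type u) [CommRing A] [CommRing A'] [CommRing B] [Algebra R A] [Algebra R A']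
    [Algebra R B] (ιA : A →ₐ[R] B) (ιA' : A' →ₐ[R] B)
    (hA : IsLoc ιA (algebraMap R A r')) (hA' : IsLoc ιA' (algebraMap R A' r))
    (g : O R B[X] ⟶ G) (hg : m (ev0 R B) ≫ g = 1) :
    ∃ (g₁ : O R A[X] ⟶ G) (g₂ : O R A'[X] ⟶ G), m (ev0 R A) ≫ g₁ = 1 ∧ m (ev0 R A') ≫ g₂ = 1 ∧
      g = (m (Polynomial.mapAlgHom ιA) ≫ g₁) * (m (Polynomial.mapAlgHom ιA') ≫ g₂) := by
  obtain ⟨N, gh, hgh₀, hgh⟩ := exists_scale_eq G hA' g 1 (by rw [hg, MonObj.comp_one])
  let σ : B[X] →ₐ[R] B[X][X] :=
    (Polynomial.aeval (Polynomial.C Polynomial.X + Polynomial.X : B[X][X])).restrictScalars R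
  let κ : B[X] →ₐ[R] B[X][X] := (Polynomial.CAlgHom (R := B) (A := B[X])).restrictScalars R
  have hσ : (ev0 R B[X]).comp σ = AlgHom.id R B[X] := by
    refine AlgHom.ext fun p => ?_
    induction p using Polynomial.induction_on' with
    | add p q hp hq => rw [map_add, map_add, hp, hq]
    | monomial i b => simp [σ, ev0_apply, Polynomial.coeff_zero_eq_eval_zero,
        Polynomial.C_mul_X_pow_eq_monomial]
  have hκ : (ev0 R B[X]).comp κ = AlgHom.id R B[X] := by
    refine AlgHom.ext fun p => ?_
    simp [κ, ev0_apply]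
  obtain ⟨M, Hh, hH₀, hH⟩ := exists_scale_eq G hA.polynomial
    ((m σ ≫ g) * (m κ ≫ g)⁻¹) (1 : O R A[X] ⟶ G) (by
      rw [MonObj.comp_mul, GrpObj.comp_inv, ← Category.assoc, ← Category.assoc, m_comp, m_comp,
        hσ, hκ, mul_inv_cancel, MonObj.comp_one])
  obtain ⟨a, b, hab⟩ := IsCoprime.pow (m := N) (n := M) hrr
  let δ : A[X][X] →ₐ[R] A[X] :=
    (Polynomial.aeval (Polynomial.C (algebraMap R A b) * Polynomial.X : A[X])).restrictScalars R
  let δB : B[X][X] →ₐ[R] B[X] :=
    (Polynomial.aeval (Polynomial.C (algebraMap R B b) * Polynomial.X : B[X])).restrictScalars R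
  let ψ : A[X][X] →ₐ[R] A[X] :=
    δ.comp (Polynomial.mapAlgHom (scale R (algebraMap R A (a * r ^ N))))
  let ψB : B[X][X] →ₐ[R] B[X] :=
    δB.comp (Polynomial.mapAlgHom (scale R (algebraMap R B (a * r ^ N))))
  refine ⟨m ψ ≫ Hh, m (scale R (algebraMap R A' a)) ≫ gh, ?_, ?_, ?_⟩
  · have e : (ev0 R A).comp ψ = (ev0 R A).comp (ev0 R A[X]) := by
      refine AlgHom.ext fun p => ?_
      simp [ψ, δ, ev0_apply, Polynomial.coeff_zero_eq_eval_zero,
        Polynomial.eval_comp]
      induction p using Polynomial.induction_on' with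
      | add p q hp hq => simp [hp, hq]
      | monomial i c => rcases i with - | i <;> simp [scale_eq_comp, Polynomial.eval_comp]
    rw [← Category.assoc, m_comp, e, ← m_comp, Category.assoc, hH₀, MonObj.comp_one]
  · have e : (ev0 R A').comp (scale R (algebraMap R A' a)) = ev0 R A' :=
      AlgHom.ext fun p => by simp [ev0_apply, coeff_scale]
    rw [← Category.assoc, m_comp, e, hgh₀]
  · have e₁ : (Polynomial.mapAlgHom ιA).comp ψ =
        ψB.comp (Polynomial.mapAlgHom (Polynomial.mapAlgHom ιA)) := by
      refine AlgHom.ext fun p => ?_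
      induction p using Polynomial.induction_on' with
      | add p q hp hq => rw [map_add, map_add, hp, hq]
      | monomial i c =>
        simp [ψ, ψB, δ, δB, scale_eq_comp, Polynomial.map_comp]
    have e₂ : (Polynomial.mapAlgHom ιA').comp (scale R (algebraMap R A' a)) =
        (scale R (algebraMap R B a)).comp (Polynomial.mapAlgHom ιA') := by
      refine AlgHom.ext fun p => ?_
      simp [scale_eq_comp, Polynomial.map_comp]
    have hb' : Polynomial.mapAlgHom ιA (Polynomial.C (algebraMap R A r')) ^ M =
        Polynomial.C (algebraMap R B r' ^ M) := by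
      simp [map_pow]
    have hX₁ : ψB (scale R (Polynomial.C (algebraMap R B r' ^ M)) (σ Polynomial.X)) =
        Polynomial.X := by
      have h1 : algebraMap R B (a * r ^ N) + algebraMap R B r' ^ M * algebraMap R B b = 1 := by
        rw [← map_pow, ← map_mul, ← map_add, mul_comm (r' ^ M), hab, map_one]
      calc ψB (scale R (Polynomial.C (algebraMap R B r' ^ M)) (σ Polynomial.X))
          = Polynomial.C (algebraMap R B (a * r ^ N) + algebraMap R B r' ^ M * algebraMap R B b) *
              Polynomial.X := by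
            simp [σ, ψB, δB, scale_eq_comp]
            ring
        _ = Polynomial.X := by rw [h1, map_one, _root_.one_mul]
    have e₃ : (ψB.comp (scale R (Polynomial.C (algebraMap R B r' ^ M)))).comp σ =
        AlgHom.id R B[X] := by
      refine AlgHom.ext fun p => ?_
      induction p using Polynomial.induction_on' with
      | add p q hp hq => rw [map_add, map_add, hp, hq]
      | monomial i c =>
        have hC : ψB (scale R (Polynomial.C (algebraMap R B r' ^ M)) (σ (Polynomial.C c))) =
            Polynomial.C c := by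
          simp [σ, ψB, δB, scale_eq_comp]
        rw [← Polynomial.C_mul_X_pow_eq_monomial]
        simp only [AlgHom.comp_apply, AlgHom.id_apply, map_mul, map_pow] at hX₁ hC ⊢
        rw [hX₁, hC]
    have e₄ : (ψB.comp (scale R (Polynomial.C (algebraMap R B r' ^ M)))).comp κ =
        scale R (algebraMap R B (a * r ^ N)) := by
      refine AlgHom.ext fun p => ?_
      simp [κ, ψB, δB, scale_eq_comp]
    have e₅ : (scale R (algebraMap R B a)).comp (scale R (ιA' (algebraMap R A' r) ^ N)) =
        scale R (algebraMap R B (a * r ^ N)) :=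
      AlgHom.ext fun p => by simp [scale_scale, map_mul, map_pow]
    rw [← Category.assoc, m_comp, e₁, ← m_comp, Category.assoc, hH, hb',
      ← Category.assoc (m _), m_comp, MonObj.comp_mul, GrpObj.comp_inv, ← Category.assoc,
      ← Category.assoc, m_comp, m_comp, e₃, e₄, m_id, Category.id_comp, ← Category.assoc,
      m_comp, e₂, ← m_comp, Category.assoc, hgh, ← Category.assoc, m_comp, e₅,
      inv_mul_cancel_right]


/-- For a group scheme locally of finite presentation, let R be a ring, G an R-group scheme locally of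
finite presentation over S = Spec R, and r, r' ∈ R generating the unit ideal; let A = R[1/r], A' =
R[1/r'], B = R[1/rr']. For an R-algebra C write G₀(C) for the set of S-morphisms Spec C[T] → G whose
restriction along T ↦ 0 (the S-morphism Spec C → Spec C[T]) is the unit. Then G₀(B) = G₀(A)·G₀(A'):
every g ∈ G₀(B) is the product, in the group of Spec B[T]-points of G, of the pullback of some g₁ ∈
G₀(A) and the pullback of some g₂ ∈ G₀(A') along Spec B[T] → Spec A[T], Spec A'[T]. The S-morphisms
induced by T ↦ 0 and by the localisation maps are taken as data determined by their underlying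
scheme maps. The published statement also allows more general group functors and graded algebras. -/
theorem result
    (R : Type u) [CommRing R]
    (G : Over (Spec (CommRingCat.of R))) [GrpObj G] [LocallyOfFinitePresentation G.hom]
    (r r' : R) (hrr : Ideal.span ({r, r'} : Set R) = ⊤)
    (A A' B : Type u) [CommRing A] [CommRing A'] [CommRing B] [Algebra R A] [Algebra R A'] [Algebra R B]
    [IsLocalization.Away r A] [IsLocalization.Away r' A'] [IsLocalization.Away (r * r') B]
    [Algebra A B] [Algebra A' B] [IsScalarTower R A B] [IsScalarTower R A' B]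
    (eA : Over.mk (Spec.map (CommRingCat.ofHom (algebraMap R (A)))) ⟶ Over.mk (Spec.map (CommRingCat.ofHom (algebraMap R (Polynomial A)))))
    (heA : eA.left = Spec.map (CommRingCat.ofHom (Polynomial.evalRingHom (0 : A))))
    (eA' : Over.mk (Spec.map (CommRingCat.ofHom (algebraMap R (A')))) ⟶ Over.mk (Spec.map (CommRingCat.ofHom (algebraMap R (Polynomial A')))))
    (heA' : eA'.left = Spec.map (CommRingCat.ofHom (Polynomial.evalRingHom (0 : A'))))
    (eB : Over.mk (Spec.map (CommRingCat.ofHom (algebraMap R (B)))) ⟶ Over.mk (Spec.map (CommRingCat.ofHom (algebraMap R (Polynomial B)))))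
    (heB : eB.left = Spec.map (CommRingCat.ofHom (Polynomial.evalRingHom (0 : B))))
    (tA : Over.mk (Spec.map (CommRingCat.ofHom (algebraMap R (Polynomial B)))) ⟶ Over.mk (Spec.map (CommRingCat.ofHom (algebraMap R (Polynomial A)))))
    (htA : tA.left = Spec.map (CommRingCat.ofHom (Polynomial.mapRingHom (algebraMap A B))))
    (tA' : Over.mk (Spec.map (CommRingCat.ofHom (algebraMap R (Polynomial B)))) ⟶ Over.mk (Spec.map (CommRingCat.ofHom (algebraMap R (Polynomial A')))))
    (htA' : tA'.left = Spec.map (CommRingCat.ofHom (Polynomial.mapRingHom (algebraMap A' B))))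
    (g : Over.mk (Spec.map (CommRingCat.ofHom (algebraMap R (Polynomial B)))) ⟶ G) (hg : eB ≫ g = 1) :
    ∃ (g₁ : Over.mk (Spec.map (CommRingCat.ofHom (algebraMap R (Polynomial A)))) ⟶ G) (g₂ : Over.mk (Spec.map (CommRingCat.ofHom (algebraMap R (Polynomial A')))) ⟶ G),
      eA ≫ g₁ = 1 ∧ eA' ≫ g₂ = 1 ∧ g = (tA ≫ g₁) * (tA' ≫ g₂) := by
  have : IsLocalization.Away (r' * r) B := by rw [mul_comm]; infer_instance
  have hA := Lib.LocScale.isLoc_of_mul (R := R) A B r' r
  have hA' := Lib.LocScale.isLoc_of_mul (R := R) A' B r r'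
  have hcop : IsCoprime r r' := by
    obtain ⟨a, b, h⟩ := Ideal.mem_span_pair.mp (hrr ▸ Submodule.mem_top : (1 : R) ∈ _)
    exact ⟨a, b, h⟩
  obtain rfl : eA = Lib.LocScale.m (Lib.LocScale.ev0 R A) :=
    Over.OverMorphism.ext (by rw [heA, Lib.LocScale.m_left, Lib.LocScale.ev0_toRingHom])
  obtain rfl : eA' = Lib.LocScale.m (Lib.LocScale.ev0 R A') :=
    Over.OverMorphism.ext (by rw [heA', Lib.LocScale.m_left, Lib.LocScale.ev0_toRingHom])
  obtain rfl : eB = Lib.LocScale.m (Lib.LocScale.ev0 R B) :=
    Over.OverMorphism.ext (by rw [heB, Lib.LocScale.m_left, Lib.LocScale.ev0_toRingHom])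
  obtain rfl : tA = Lib.LocScale.m (Polynomial.mapAlgHom (IsScalarTower.toAlgHom R A B)) :=
    Over.OverMorphism.ext (by rw [htA, Lib.LocScale.m_left]; rfl)
  obtain rfl : tA' = Lib.LocScale.m (Polynomial.mapAlgHom (IsScalarTower.toAlgHom R A' B)) :=
    Over.OverMorphism.ext (by rw [htA', Lib.LocScale.m_left]; rfl)
  exact aux R G r r' hcop A A' B _ _ hA hA' g hg

end Groth.Agent.S17855
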