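import Groth.Statements.S17856
import Groth.Agent.H19.PointsPiFT
import Groth.Agent.Lib.Lim.Approx.Main

set_option autoImplicit false
open CategoryTheory AlgebraicGeometry
universe u
open Algz

namespace Groth.Agent.S17856

/-- Schemes locally of finite type over `ℤ` have good covers. -/
theorem goodCover_of_sys (S : Groth.Agent.Lib.Lim.Approx.Basic.Sys.{u}) (i : S.Iᵒᵖ) :
    H19.PointsPiFT.GoodCover (S.D.obj i) := by
  classical
  set Y := S.D.obj i with hY
  obtain ⟨s, hs⟩ : ∃ s : Finset Y.affineOpens, (⨆ V ∈ s, (V : Y.Opens)) = ⊤ := by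
    obtain ⟨s, hs⟩ := (isCompact_univ (X := Y)).elim_finite_subcover
      (fun V : Y.affineOpens => ((V : Y.Opens) : Set Y)) (fun V => V.1.2) (fun x _ => by
        obtain ⟨V, hV, hx, -⟩ := Y.isBasis_affineOpens.exists_subset_of_mem_open
          (Set.mem_univ x) isOpen_univ
        obtain ⟨V, hV', rfl⟩ := hV
        exact Set.mem_iUnion.mpr ⟨⟨V, hV'⟩, hx⟩)
    refine ⟨s, top_le_iff.mp fun x _ => ?_⟩
    have := hs (Set.mem_univ x)
    simp only [Set.mem_iUnion] at this
    obtain ⟨V, hV, hx⟩ := this
    exact le_iSup₂_of_le (f := fun (V : Y.affineOpens) (_ : V ∈ s) => (V : Y.Opens)) V hV le_rfl hx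
  refine ⟨s.image Subtype.val, ?_, fun V hV => ?_⟩
  · rw [Finset.iSup_finset_image]
    exact hs
  obtain ⟨⟨V, hV'⟩, -, rfl⟩ := Finset.mem_image.mp hV
  clear hV
  have hV : IsAffineOpen V := hV'
  refine ⟨hV, ?_⟩
  let t := Limits.IsTerminal.from specULiftZIsTerminal Y
  have h := LocallyOfFiniteType.finiteType_appLE t (isAffineOpen_top _) hV le_top
  have h0 : (algebraMap ℤ Γ(Spec (CommRingCat.of (ULift.{u} ℤ)), ⊤)).FiniteType := by
    apply RingHom.FiniteType.of_surjective
    have e := (Scheme.ΓSpecIso (CommRingCat.of (ULift.{u} ℤ))).commRingCatIsoToRingEquiv.trans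
      ULift.ringEquiv
    intro y
    exact ⟨e y, by
      apply e.injective
      rw [eq_intCast, map_intCast, Int.cast_id]⟩
  have h1 : (algebraMap ℤ Γ(Y, V)).FiniteType := by
    have := h.comp h0
    rwa [Subsingleton.elim (algebraMap ℤ Γ(Y, V)) _]
  have : Algebra.FiniteType ℤ Γ(Y, V) := RingHom.finiteType_algebraMap.mp h1
  exact Algebra.FinitePresentation.of_finiteType.mp this



/-- Let `X` be a quasi-compact quasi-separated scheme and `A i` an arbitrary family of commutative
rings. Sending a morphism from the spectrum of the product ring to `X` to the family of its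
composites with the morphisms `Spec (A i) ⟶ Spec (∏ A i)` induced by the projections is a bijection
onto the set of all families of morphisms `Spec (A i) ⟶ X`. (Both quasi-compactness and
quasi-separatedness of `X` are needed.) -/
theorem result (X : Scheme.{u}) [CompactSpace X] [QuasiSeparatedSpace X]
    {ι : Type u} (A : ι → CommRingCat.{u}) :
    Function.Bijective (fun f : Spec (CommRingCat.of (∀ i, A i)) ⟶ X =>
      fun i : ι => Spec.map (CommRingCat.ofHom (Pi.evalRingHom (fun j => (A j : Type u)) i)) ≫ f) := by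
  refine ⟨pointsPi_injective (fun i => A i) X, fun f => ?_⟩
  obtain ⟨Ap⟩ := Groth.Agent.Lib.Lim.Approx.Main.exists_approx (S := X)
  obtain ⟨k⟩ := Ap.ne
  let π := Ap.pr k
  have : IsAffineHom π := isAffineHom_π_app _ Ap.cone Ap.isLimit (Opposite.op k)
  obtain ⟨g, hg⟩ := H19.PointsPiFT.pointsPi_surjective (A := fun i => (A i : Type u))
    (goodCover_of_sys Ap.toSys (Opposite.op k)) (fun i => f i ≫ π)
  let P := Limits.pullback π g
  have : IsAffine P := isAffine_of_isAffineHom (Limits.pullback.snd π g)
  obtain ⟨s, hs⟩ := pointsPi_surjective_of_isAffine (fun i => A i) P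
    (fun i => Limits.pullback.lift (f i) _ (hg i).symm)
  have hid : s ≫ Limits.pullback.snd π g = 𝟙 _ := by
    refine pointsPi_injective (fun i => A i) _ (funext fun i => ?_)
    show _ ≫ s ≫ _ = _ ≫ 𝟙 _
    rw [Category.comp_id, ← Category.assoc]
    have := congrFun hs i
    exact (congrArg (· ≫ Limits.pullback.snd π g) this).trans (Limits.pullback.lift_snd _ _ _)
  refine ⟨s ≫ Limits.pullback.fst π g, funext fun i => ?_⟩
  show _ ≫ s ≫ _ = f i
  rw [← Category.assoc]
  have := congrFun hs i
  exact (congrArg (· ≫ Limits.pullback.fst π g) this).trans (Limits.pullback.lift_fst _ _ _)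

end Groth.Agent.S17856
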