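import Groth.Statements.S17862
import Groth.Agent.Lib.PiPointsInj

set_option autoImplicit false
open CategoryTheory AlgebraicGeometry
universe u
open Groth.Agent
open Algz

namespace Groth.Agent.S17862

/-- Let `S` be an affine scheme, `X` a quasi-compact and quasi-separated algebraic space over `S`, and
`A i` a family of commutative rings indexed by an arbitrary type, with a morphism `h` from the
spectrum of the product ring to `S`. Two `S`-morphisms `Spec (Π i, A i) ⟶ X` that agree after
composition with every `Spec (A i) ⟶ Spec (Π i, A i)` are equal. (For schemes this is the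
injectivity half of the corresponding bijection; the algebraic-space case is the one stated here.
Over an affine base, relative and absolute quasi-separatedness agree.) -/
theorem result (S : Scheme.{u}) [IsAffine S]
    (X : AlgSp.Space S) (hqc : AlgSp.IsQuasiCompactSp X.obj) (hqs : AlgSp.IsQuasiSeparatedSp X.obj)
    {ι : Type u} (A : ι → CommRingCat.{u}) (h : Spec (CommRingCat.of (∀ i, A i)) ⟶ S) :
    Function.Injective (fun g : (AlgSp.ofScheme S).obj (Over.mk h) ⟶ X => fun i : ι =>
      (AlgSp.ofScheme S).map (Over.homMk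
        (Spec.map (CommRingCat.ofHom (Pi.evalRingHom (fun j => (A j : Type u)) i)))
        rfl : Over.mk (Spec.map (CommRingCat.ofHom (Pi.evalRingHom (fun j => (A j : Type u)) i)) ≫ h) ⟶
          Over.mk h) ≫ g) := by
  intro g g' hgg
  apply ObjectProperty.hom_ext
  obtain ⟨V, v, fst, sq, hv⟩ := Lib.AlgSpace.repWith_exists
    (Lib.AlgSpace.repWith_diag_locallyOfFiniteType X.property) (Limits.prod.lift g.hom g'.hom)
  haveI : Mono v.left :=
    Lib.AlgSpace.repWith_property (Lib.AlgSpace.repWith_diag_monomorphisms X.property.diag) sq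
  haveI : LocallyOfFiniteType v.left := hv
  haveI : QuasiCompact v.left := Lib.AlgSpace.repWith_property hqs sq
  let p : ∀ i, Over.mk (Spec.map (CommRingCat.ofHom (Pi.evalRingHom (fun j => (A j : Type u)) i)) ≫ h) ⟶
      Over.mk h := fun i => Over.homMk
    (Spec.map (CommRingCat.ofHom (Pi.evalRingHom (fun j => (A j : Type u)) i))) rfl
  have hlift : ∀ i, ∃ u : Over.mk _ ⟶ V, u ≫ v = p i := fun i => by
    have hk : (AlgSp.yon S).map (p i) ≫ g.hom = (AlgSp.yon S).map (p i) ≫ g'.hom :=
      congrArg (fun q => q.hom) (congrFun hgg i)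
    obtain ⟨u, hu⟩ := (AlgSp.yon S).map_surjective
      (sq.lift ((AlgSp.yon S).map (p i) ≫ g.hom) ((AlgSp.yon S).map (p i)) (by
        refine Limits.prod.hom_ext ?_ ?_ <;> simp [hk]))
    refine ⟨u, (AlgSp.yon S).map_injective ?_⟩
    rw [Functor.map_comp, hu, sq.lift_snd]
  choose u hu using hlift
  obtain ⟨w, hw⟩ := Lib.PiPointsInj.exists_section_of_mono A v.left (fun i => (u i).left)
    (fun i => (congrArg (fun q => q.left) (hu i) :))
  let w' : Over.mk h ⟶ V := Over.homMk w (by
    rw [← Over.w v, ← Category.assoc, hw]; exact Category.id_comp _)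
  have hw' : w' ≫ v = 𝟙 _ := Over.OverMorphism.ext hw
  have h1 := congrArg (fun q => q ≫ Limits.prod.fst) sq.w
  have h2 := congrArg (fun q => q ≫ Limits.prod.snd) sq.w
  simp only [Category.assoc, Limits.prod.lift_fst, Limits.prod.lift_snd, Category.comp_id] at h1 h2
  have h3 : (AlgSp.yon S).map (w' ≫ v) ≫ g.hom = (AlgSp.yon S).map (w' ≫ v) ≫ g'.hom := by
    rw [Functor.map_comp, Category.assoc, Category.assoc, ← h1, ← h2]
  rw [hw', CategoryTheory.Functor.map_id] at h3
  exact ((Category.id_comp g.hom).symm.trans h3).trans (Category.id_comp g'.hom)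

end Groth.Agent.S17862
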