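import Groth.Statements.S17863
import Mathlib.RingTheory.AdicCompletion.RingHom

set_option autoImplicit false
set_option linter.style.haveILetI false
open CategoryTheory AlgebraicGeometry
universe u
open Algz

namespace Groth.Agent.S17863

/-- Let `A` be a commutative ring which is `I`-adically complete for an ideal `I` and let `X` be a
quasi-affine scheme. Then the natural map from `X(A)` to compatible systems in the `X(A/I^n)` is
bijective: two morphisms `Spec A ⟶ X` with the same restriction to every `Spec (A/I^n)` are equal,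
and every family of morphisms `Spec (A/I^n) ⟶ X` compatible with the transition maps `Spec (A/I^n) ⟶
Spec (A/I^(n+1))` is the family of restrictions of a morphism `Spec A ⟶ X`. -/
theorem result (A : Type u) [CommRing A] (I : Ideal A) [IsAdicComplete I A]
    (X : Scheme.{u}) [X.IsQuasiAffine] :
    (∀ f g : Spec (CommRingCat.of A) ⟶ X,
      (∀ n : ℕ, Spec.map (CommRingCat.ofHom (Ideal.Quotient.mk (I ^ n))) ≫ f =
        Spec.map (CommRingCat.ofHom (Ideal.Quotient.mk (I ^ n))) ≫ g) → f = g) ∧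
    (∀ e : ∀ n : ℕ, Spec (CommRingCat.of (A ⧸ I ^ n)) ⟶ X,
      (∀ n : ℕ, Spec.map (CommRingCat.ofHom (Ideal.Quotient.factorPowSucc I n)) ≫ e (n + 1) = e n) →
      ∃ f : Spec (CommRingCat.of A) ⟶ X,
        ∀ n : ℕ, Spec.map (CommRingCat.ofHom (Ideal.Quotient.mk (I ^ n))) ≫ f = e n) := by
  refine ⟨fun f g h => ?_, fun e he => ?_⟩
  · rw [← cancel_mono X.toSpecΓ]
    obtain ⟨φ, hφ⟩ : ∃ φ, f ≫ X.toSpecΓ = Spec.map φ := ⟨_, (Spec.map_preimage _).symm⟩
    obtain ⟨ψ, hψ⟩ : ∃ ψ, g ≫ X.toSpecΓ = Spec.map ψ := ⟨_, (Spec.map_preimage _).symm⟩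
    rw [hφ, hψ]
    congr 1
    ext x
    refine IsHausdorff.eq_iff_smodEq (I := I).2 fun n => ?_
    rw [smul_eq_mul, Ideal.mul_top, SModEq, Ideal.Quotient.mk_eq_mk, Ideal.Quotient.mk_eq_mk]
    have e1 := congrArg (· ≫ X.toSpecΓ) (h n)
    simp only [Category.assoc, hφ, hψ, ← Spec.map_comp] at e1
    exact congr($(Spec.map_injective e1) x)
  · choose φ hφ using fun n => (⟨_, (Spec.map_preimage (e n ≫ X.toSpecΓ)).symm⟩ :
      ∃ φ, e n ≫ X.toSpecΓ = Spec.map φ)
    have hstep : ∀ n, (Ideal.Quotient.factorPowSucc I n).comp (φ (n + 1)).hom = (φ n).hom := by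
      intro n
      have e1 := congrArg (· ≫ X.toSpecΓ) (he n)
      simp only [Category.assoc, hφ, ← Spec.map_comp] at e1
      exact congrArg CommRingCat.Hom.hom (Spec.map_injective e1)
    have hcompat : ∀ {m n : ℕ} (hle : m ≤ n),
        (Ideal.Quotient.factorPow I hle).comp (φ n).hom = (φ m).hom := fun hle =>
      IsAdicComplete.StrictMono.factorPow_comp_eq_of_factorPow_comp_succ_eq' strictMono_id
        (fun n => (φ n).hom) (fun {m} => hstep m) hle
    let Φ := IsAdicComplete.liftRingHom I (fun n => (φ n).hom) hcompat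
    have hΦ : ∀ n, Spec.map (CommRingCat.ofHom (Ideal.Quotient.mk (I ^ n))) ≫
        Spec.map (CommRingCat.ofHom Φ) = e n ≫ X.toSpecΓ := fun n => by
      rw [hφ, ← Spec.map_comp]
      congr 1
      ext x
      exact IsAdicComplete.mk_liftRingHom I _ hcompat n x
    have hrange : Set.range (Spec.map (CommRingCat.ofHom Φ)) ⊆ Set.range X.toSpecΓ := by
      rintro _ ⟨q, rfl⟩
      obtain ⟨m, hm, hle⟩ := Ideal.exists_le_maximal _ q.isPrime.ne_top
      have hI : RingHom.ker (Ideal.Quotient.mk (I ^ 1)) ≤ m := by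
        rw [Ideal.mk_ker, pow_one]
        exact (IsAdicComplete.le_jacobson_bot I).trans (sInf_le ⟨bot_le, hm⟩)
      obtain ⟨r, hr⟩ : (⟨m, hm.isPrime⟩ : PrimeSpectrum A) ∈
          Set.range (Spec.map (CommRingCat.ofHom (Ideal.Quotient.mk (I ^ 1)))) := by
        change _ ∈ Set.range (PrimeSpectrum.comap (Ideal.Quotient.mk (I ^ 1)))
        rw [range_comap_of_surjective _ _ Ideal.Quotient.mk_surjective]
        exact hI
      have hsp : q ⤳ (⟨m, hm.isPrime⟩ : PrimeSpectrum A) := (PrimeSpectrum.le_iff_specializes q _).1 hle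
      refine (hsp.map (Spec.map (CommRingCat.ofHom Φ)).continuous).mem_open
        X.toSpecΓ.isOpenEmbedding.isOpen_range ⟨e 1 r, ?_⟩
      rw [← hr]
      exact (congr($(hΦ 1) r)).symm
    refine ⟨IsOpenImmersion.lift X.toSpecΓ _ hrange, fun n => ?_⟩
    rw [← cancel_mono X.toSpecΓ, Category.assoc, IsOpenImmersion.lift_fac, hΦ n]

end Groth.Agent.S17863
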