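import Groth.Statements.S17864
import Groth.Agent.Lib.Adic.Complete
import Mathlib.RingTheory.Finiteness.Projective

set_option autoImplicit false
universe u
open Algz

namespace Groth.Agent.S17864

/-- The full-faithfulness assertion. Let `A` be a commutative ring which is `I`-adically complete for an
ideal `I`, and `P`, `Q` finitely generated projective `A`-modules. An `A`-linear map `P → Q` is
determined by its reductions modulo the powers `I^n`, and every family of `A`-linear maps `P/I^n P →
Q/I^n Q` compatible with the transition maps is the family of reductions of an `A`-linear map `P →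
Q`. (The companion assertion, that compatible systems of finite projective modules over the rings
`A/I^n` lift to `A`, is not restated here.) -/
theorem result (A : Type u) [CommRing A] (I : Ideal A)
    [IsAdicComplete I A] (P Q : Type u) [AddCommGroup P] [Module A P] [Module.Finite A P]
    [Module.Projective A P] [AddCommGroup Q] [Module A Q] [Module.Finite A Q] [Module.Projective A Q] :
    (∀ f f' : P →ₗ[A] Q, (∀ n : ℕ, f.reduceModIdeal (I ^ n) = f'.reduceModIdeal (I ^ n)) → f = f') ∧
    (∀ g : ∀ n : ℕ, P ⧸ (I ^ n • ⊤ : Submodule A P) →ₗ[A] Q ⧸ (I ^ n • ⊤ : Submodule A Q),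
      (∀ n : ℕ, AdicCompletion.transitionMap I Q (Nat.le_succ n) ∘ₗ g (n + 1) =
        g n ∘ₗ AdicCompletion.transitionMap I P (Nat.le_succ n)) →
      ∃ f : P →ₗ[A] Q, ∀ n : ℕ, f.reduceModIdeal (I ^ n) = g n) := by
  haveI hh : IsHausdorff I Q := by
    obtain ⟨n, f, g, -, -, hfg⟩ := Module.Finite.exists_comp_eq_id_of_projective A Q
    haveI : IsHausdorff I (Fin n → A) := ⟨fun x hx => funext fun i => by
      refine IsHausdorff.haus (I := I) ‹IsAdicComplete I A›.toIsHausdorff (x i) fun m => ?_
      rw [SModEq.zero]
      have h := Submodule.mem_map_of_mem (f := LinearMap.proj (R := A) i) (SModEq.zero.mp (hx m))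
      rw [Submodule.map_smul''] at h
      exact Submodule.smul_mono le_rfl le_top h⟩
    refine ⟨fun x hx => ?_⟩
    have h0 : g x = 0 := IsHausdorff.haus (I := I) ‹IsHausdorff I (Fin n → A)› (g x) fun m => by
      rw [SModEq.zero]
      have h := Submodule.mem_map_of_mem (f := g) (SModEq.zero.mp (hx m))
      rw [Submodule.map_smul''] at h
      exact Submodule.smul_mono le_rfl le_top h
    rw [← LinearMap.id_apply (R := A) x, ← hfg, LinearMap.comp_apply, h0, map_zero]
  haveI hp : IsPrecomplete I Q := Groth.Agent.Lib.Adic.Complete.isPrecomplete_of_finite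
  haveI : IsAdicComplete I Q := { toIsHausdorff := hh, toIsPrecomplete := hp }
  refine ⟨fun f f' h => LinearMap.ext fun x => ?_, fun g hg => ?_⟩
  · refine sub_eq_zero.mp (IsHausdorff.haus hh (f x - f' x) fun n => ?_)
    rw [SModEq.zero, ← Submodule.Quotient.eq]
    exact DFunLike.congr_fun (h n) (Submodule.Quotient.mk x)
  · have hle : ∀ {m n : ℕ} (hmn : m ≤ n) (x : P),
        Submodule.factorPow I Q hmn (g n (Submodule.Quotient.mk x)) = g m (Submodule.Quotient.mk x) := by
      intro m n hmn x
      induction hmn with
      | refl =>
        obtain ⟨y, hy⟩ := Submodule.Quotient.mk_surjective _ (g m (Submodule.Quotient.mk x))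
        rw [← hy]
        rfl
      | @step n hmn ih =>
        rw [← ih]
        have e := LinearMap.congr_fun (hg n) (Submodule.Quotient.mk x)
        change Submodule.factorPow I Q _ (g (n + 1) (Submodule.Quotient.mk x)) = _
        have e' : Submodule.factorPow I Q (Nat.le_succ n) (g (n + 1) (Submodule.Quotient.mk x)) =
            g n (Submodule.Quotient.mk x) := e
        rw [← e']
        obtain ⟨y, hy⟩ := Submodule.Quotient.mk_surjective _ (g (n + 1) (Submodule.Quotient.mk x))
        rw [← hy]
        rfl
    refine ⟨IsAdicComplete.lift I (fun n => (g n).comp (Submodule.mkQ _))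
      (fun {m n} hmn => LinearMap.ext fun x => hle hmn x), fun n => LinearMap.ext fun z => ?_⟩
    obtain ⟨x, rfl⟩ := Submodule.Quotient.mk_surjective _ z
    exact IsAdicComplete.mk_lift (I := I) _ n x

end Groth.Agent.S17864
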