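import Groth.Statements.S17867
import Groth.Agent.H23.NisGen
import Groth.Agent.Lib.QCoh.Pullback
import Groth.Agent.Lib.Kaehler.LocFree
import Groth.Agent.Lib.TensorMod.LocFree
import Groth.Agent.Lib.DR.FlatBC

set_option autoImplicit false
open CategoryTheory AlgebraicGeometry
universe u
open Algz

namespace Groth.Agent.S17867

open Groth.Agent.Lib


/-- In the case of schemes. Let `R` be a commutative ring and `f : U ⟶ Spec R` a Nisnevich cover of
length at most `m`, with `U` a quasi-compact quasi-separated scheme, and let `M` be a finite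
`R`-module. If the pullback `f^* M~` of the associated sheaf of modules is a quotient of the free
module of rank `N` on `U` (it is generated by `N` global sections), then `M` is generated by `N * m`
elements. (Finite generation of `M` follows from the other hypotheses by faithfully flat descent and
is assumed here; the original form is for a Nisnevich cover by a quasi-compact quasi-separated
algebraic space, stated here for a scheme `U`.) -/
theorem result (R : CommRingCat.{u}) (M : ModuleCat.{u} R)
    [Module.Finite R M] {U : Scheme.{u}} [CompactSpace U] [QuasiSeparatedSpace U]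
    (f : U ⟶ Spec R) (m N : ℕ) (hf : W4c5algebraiztannaka.IsNisCoverLen f m)
    (hgen : ∃ φ : FlatMod.freeMod U N ⟶ (Scheme.Modules.pullback f).obj (AlgebraicGeometry.tilde M), Epi φ) :
    ∃ s : Fin (N * m) → M, Submodule.span R (Set.range s) = ⊤ := by
  obtain ⟨Z, h0, h1, hmono, hcl, hsec⟩ := hf.flag
  refine Groth.Agent.H23.NisGen.gen_of_chain N m Z h0 h1 (fun k => (hcl k).1) fun k J hJ hsub => ?_
  obtain ⟨w, hw⟩ := Groth.Agent.H23.NisGen.exists_lift f (hsec k) J hJ hsub
  obtain ⟨φ, hφ⟩ := hgen
  let S : CommRingCat.{u} := CommRingCat.of (R ⧸ J)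
  let q : R ⟶ S := CommRingCat.ofHom (Ideal.Quotient.mk J)
  let W := (ModuleCat.extendScalars q.hom).obj M
  let F := ModuleCat.of S (Fin N → S)
  let a : AlgebraicGeometry.tilde F ⟶ AlgebraicGeometry.tilde W :=
    (Kaehler.LocFree.tildeFreeIso (Pi.basisFun S (Fin N))).hom ≫
      (TensorMod.LocFree.pullbackFreeModIso w N).inv ≫ (Scheme.Modules.pullback w).map φ ≫
      ((Scheme.Modules.pullbackComp w f).app (AlgebraicGeometry.tilde M)).hom ≫
      ((Scheme.Modules.pullbackCongr hw).app (AlgebraicGeometry.tilde M)).hom ≫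
      ((QCoh.Pullback.pullbackTildeIso q).app M).hom
  have ha : Epi a := inferInstance
  haveI := (AlgebraicGeometry.tilde.fullyFaithfulFunctor (R := S)).full
  haveI := (AlgebraicGeometry.tilde.fullyFaithfulFunctor (R := S)).faithful
  obtain ⟨g, hg⟩ := (AlgebraicGeometry.tilde.functor S).map_surjective a
  have hgE : Epi ((AlgebraicGeometry.tilde.functor S).map g) := hg ▸ ha
  have hgs : Function.Surjective g.hom :=
    (ModuleCat.epi_iff_surjective g).mp ((AlgebraicGeometry.tilde.functor S).epi_of_epi_map hgE)
  let e := DR.FlatBC.extEquiv R (R ⧸ J) M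
  let g' : (Fin N → R ⧸ J) →ₗ[R ⧸ J] TensorProduct R (R ⧸ J) M := e.toLinearMap ∘ₗ g.hom
  have hg' : Function.Surjective g' := e.surjective.comp hgs
  let π := (TensorProduct.quotTensorEquivQuotSMul M J).toLinearMap
  choose t ht using fun i => (J • (⊤ : Submodule R M)).mkQ_surjective
    (π (g' fun j => if i = j then 1 else 0))
  refine ⟨t, fun x _ => ?_⟩
  obtain ⟨z, hz⟩ := (TensorProduct.quotTensorEquivQuotSMul M J).surjective (Submodule.Quotient.mk x)
  obtain ⟨c, hc⟩ := hg' z
  choose r hr using fun i => Ideal.Quotient.mk_surjective (c i)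
  have key : (J • (⊤ : Submodule R M)).mkQ x = (J • (⊤ : Submodule R M)).mkQ (∑ i, r i • t i) := by
    calc _ = π z := hz.symm
      _ = π (g' c) := by rw [hc]
      _ = _ := by
        rw [pi_eq_sum_univ c, map_sum, map_sum, map_sum]
        refine Finset.sum_congr rfl fun i _ => ?_
        rw [map_smul, ← hr i]
        have hs : ∀ v : TensorProduct R (R ⧸ J) M, (Ideal.Quotient.mk J (r i)) • v = r i • v :=
          fun v => algebraMap_smul (R ⧸ J) (r i) v
        rw [hs, map_smul, map_smul, ht]
  exact Submodule.mem_sup.mpr ⟨_, Submodule.sum_mem _ fun i _ => Submodule.smul_mem _ _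
    (Submodule.subset_span ⟨i, rfl⟩), _, (Submodule.Quotient.eq _).mp key, add_sub_cancel _ x⟩

end Groth.Agent.S17867
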