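import Groth.Statements.S17868
import Groth.Agent.H78.Nis
import Groth.Agent.S17856
import Mathlib.AlgebraicGeometry.Limits
import Mathlib.AlgebraicGeometry.Morphisms.QuasiSeparated
import Mathlib.AlgebraicGeometry.Morphisms.QuasiCompact

set_option autoImplicit false
open CategoryTheory AlgebraicGeometry
universe u
open Algz

namespace Groth.Agent.S17868

/-- In the case of schemes with an affine source. Let `f : U ⟶ Y` be a Nisnevich cover of length at most
`m'` with `U` affine and `Y` quasi-compact quasi-separated. There is a natural number `m` such that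
for every commutative ring `B` and every morphism `g : Spec B ⟶ Y` there exist an affine scheme `V`,
a Nisnevich cover `v : V ⟶ Spec B` of length at most `m`, and a morphism `w : V ⟶ U` over `Y` (that
is, `w ≫ f = v ≫ g`). (The original form allows `U` to be any quasi-compact quasi-separated
algebraic space; `U` is taken affine here, which makes `f` quasi-affine.) -/
theorem result {U Y : Scheme.{u}} [IsAffine U]
    [CompactSpace Y] [QuasiSeparatedSpace Y] (f : U ⟶ Y) (m' : ℕ)
    (hf : W4c5algebraiztannaka.IsNisCoverLen f m') :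
    ∃ m : ℕ, ∀ (B : CommRingCat.{u}) (g : Spec B ⟶ Y),
      ∃ (V : Scheme.{u}) (_ : IsAffine V) (v : V ⟶ Spec B) (w : V ⟶ U),
        W4c5algebraiztannaka.IsNisCoverLen v m ∧ w ≫ f = v ≫ g := by
  classical
  by_contra hne
  push Not at hne
  choose B g hbad using hne
  let A : ULift.{u} ℕ → CommRingCat.{u} := fun n => B n.down
  obtain ⟨G, hG⟩ := (Groth.Agent.S17856.result Y A).surjective (fun n => g n.down)
  let P := CommRingCat.of (∀ n, A n)
  haveI : QuasiCompact f := quasiCompact_of_compactSpace f
  haveI : QuasiSeparatedSpace U := inferInstance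
  haveI : QuasiSeparated f := .of_quasiSeparatedSpace f
  haveI : Etale f := hf.etale
  let U' := Limits.pullback f G
  let p : U' ⟶ Spec P := Limits.pullback.snd f G
  haveI : CompactSpace U' := QuasiCompact.compactSpace_of_compactSpace p
  haveI : QuasiSeparatedSpace U' := quasiSeparatedSpace_of_quasiSeparated p
  obtain ⟨s, hs, hcov⟩ := (isCompact_iff_finite_and_eq_biUnion_affineOpens (X := U') (U := ⊤)).mp
    (by simpa using (isCompact_univ : IsCompact (Set.univ : Set U')))
  haveI : Fintype s := hs.fintype
  let e := (Fintype.equivFin s).symm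
  let V : Fin (Fintype.card s) → U'.Opens := fun i => (e i).1.1
  have hV : ∀ i, IsAffineOpen (V i) := fun i => (e i).1.2
  have hsup : ⨆ i, V i = ⊤ := by
    refine top_le_iff.mp fun x hx => ?_
    have hx' : x ∈ ⨆ i ∈ s, (i : U'.Opens) := hcov.le hx
    simp only [TopologicalSpace.Opens.mem_iSup] at hx'
    obtain ⟨W, hW, hxW⟩ := hx'
    exact TopologicalSpace.Opens.mem_iSup.mpr ⟨e.symm ⟨W, hW⟩, by simpa [V] using hxW⟩
  have hd := Groth.Agent.H78.Nis.isNisCoverLen_sigma _ V (fun i => (hV i).isCompact) hsup
  have hp : W4c5algebraiztannaka.IsNisCoverLen p m' :=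
    Groth.Agent.H78.Nis.isNisCoverLen_baseChange hf G
  haveI : ∀ i, IsAffine (V i) := hV
  let d : (∐ fun i => ((V i : U'.Opens) : Scheme.{u})) ⟶ U' := Limits.Sigma.desc fun i => (V i).ι
  haveI : IsAffine (∐ fun i => ((V i : U'.Opens) : Scheme.{u})) := inferInstance
  have hdp : W4c5algebraiztannaka.IsNisCoverLen (d ≫ p) (Fintype.card s * m') :=
    Groth.Agent.H78.Nis.isNisCoverLen_comp d p hd hp
  let n : ULift.{u} ℕ := ⟨Fintype.card s * m'⟩
  let q : Spec (A n) ⟶ Spec P := Spec.map (CommRingCat.ofHom (Pi.evalRingHom (fun j => (A j : Type u)) n))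
  have hq : q ≫ G = g n.down := congrFun hG n
  haveI : IsAffine (Limits.pullback (d ≫ p) q) := inferInstance
  exact hbad n.down (Limits.pullback (d ≫ p) q) inferInstance (Limits.pullback.snd (d ≫ p) q)
    (Limits.pullback.fst (d ≫ p) q ≫ d ≫ Limits.pullback.fst f G)
    (Groth.Agent.H78.Nis.isNisCoverLen_baseChange hdp q)
    (by
      change (_ ≫ d ≫ Limits.pullback.fst f G) ≫ f = _ ≫ g n.down
      rw [← hq, Category.assoc, Category.assoc, Limits.pullback.condition,
        ← Category.assoc d, Limits.pullback.condition_assoc])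

end Groth.Agent.S17868
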