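import Groth.Statements.S17870
import Groth.Agent.H23.SizeGlob
import Mathlib.Data.Int.Interval

set_option autoImplicit false
open CategoryTheory
universe u
attribute [local instance] HasDerivedCategory.standard
open Algz

namespace Groth.Agent.S17870

/-- There is a function `F : ℕ → ℕ`, independent of the ring, such that for every commutative ring `R`
and every perfect complex over `R`, given as a bounded complex `E` of finitely generated projective
modules: if `E` locally has size at most `N` (after base change to some Nisnevich cover `Spec B ⟶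
Spec R` of length at most `N` it becomes isomorphic in `D(B)` to a complex vanishing outside `[-N,
N]` whose terms are projective quotients of `B^N`), then it globally has size at most `F N` (it is
isomorphic in `D(R)` to such a complex over `R` with bound `F N`). -/
theorem result :
    ∃ F : ℕ → ℕ, ∀ (R : Type u) [CommRing R] (E : DRing.Cx R) (a b : ℤ),
      DRing.VanishesOutside E a b → DRing.TermwiseFiniteProjective E →
      ∀ N : ℕ, W4c5algebraiztannaka.LocSize E N → W4c5algebraiztannaka.GlobSize R (DRing.toD E) (F N) := by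
  refine ⟨fun N => N + 1 + Groth.Agent.H23.SizeGlob.bd N N (2 * N + 1), ?_⟩
  intro R _ E a b hE hEp N hloc
  obtain ⟨B, _, φ, hcov, P, ⟨hPv, hPt⟩, ⟨eP⟩⟩ := hloc
  algebraize [φ]
  have hK : ∃ r, Groth.Agent.H23.SizeGlob.Small E a b r := by
    classical
    choose n g hg using fun i => haveI := (hEp i).1; Module.Finite.exists_fin' R (E.X i)
    refine ⟨(Finset.Icc a b).sup n, hE, fun i => (hEp i).2, fun i => ?_⟩
    by_cases hi : i ∈ Finset.Icc a b
    · exact Groth.Agent.H23.SizeGlob.Gen.mono ⟨g i, hg i⟩ (Finset.le_sup hi)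
    · exact Groth.Agent.H23.SizeGlob.Gen.zero (hE i (by simp at hi; omega)) _
  obtain ⟨r, hK⟩ := hK
  have hP : Groth.Agent.H23.SizeGlob.Small P (-(N : ℤ) - 1) N N :=
    ⟨fun i hi => hPv i (by omega), fun i => (hPt i).1, fun i => (hPt i).2⟩
  haveI := Groth.Agent.H23.NisGen.faithfullyFlat hcov
  obtain ⟨Q, hQ, ⟨eQ⟩⟩ := Groth.Agent.H23.SizeGlob.main B hcov (-(N : ℤ) - 1) N (2 * N + 1) N E a b r
    P (by omega) hK hP ⟨eP⟩ (fun i hi => Groth.Agent.H23.SizeGlob.exactAt_of_bc B E i
      (Groth.Agent.H23.SizeGlob.exactAt_of_iso eP.symm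
        (CategoryTheory.ShortComplex.exact_of_isZero_X₂ _ (hPv i (by omega)))))
  exact ⟨Q, ⟨fun i hi => hQ.vanish i (by simp only [Groth.Agent.H23.SizeGlob.bd] at hi ⊢; omega),
    fun i => ⟨hQ.proj i, (hQ.gen i).mono (Nat.le_add_left _ _)⟩⟩, ⟨eQ⟩⟩

end Groth.Agent.S17870
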