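import Groth.Statements.S17871
import Groth.Agent.H23.UnifPres
import Groth.Agent.Lib.Modules.AffineSections
import Groth.Agent.Lib.CechRes.PullSec
import Mathlib.AlgebraicGeometry.AffineScheme

set_option autoImplicit false
open CategoryTheory AlgebraicGeometry Opposite
universe u
open Algz

namespace Groth.Agent.S17871

open Groth.Agent.H23.UnifPres
open Groth.Agent.Lib Groth.Agent.Lib.QCoh.Localizing

theorem local_pres {X : Scheme.{u}} {A : CommRingCat.{u}} (f : Spec A ⟶ X) (F : X.Modules)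
    [F.IsQuasicoherent] (t : Finset X.affineOpens)
    (ht : (Set.univ : Set X) ⊆ ⋃ U ∈ t, (U.1 : Set X))
    (n r : X.affineOpens → ℕ)
    (h : ∀ U, HasPres Γ(X, U.1) Γ(F, U.1) (Fin (n U)) (Fin (r U))) :
    HasPres Γ(Spec A, ⊤) Γ((Scheme.Modules.pullback f).obj F, ⊤) (Σ j : t, Fin (n j.1))
      (Σ j : t, (Σ j : t, Fin (n j.1)) ⊕ Fin (r j.1)) := by
  classical
  have htop : IsAffineOpen (⊤ : (Spec A).Opens) := isAffineOpen_top _
  let I : t → Ideal Γ(Spec A, ⊤) := fun j =>
    { carrier := {a | (Spec A).basicOpen a ≤ f ⁻¹ᵁ j.1.1}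
      zero_mem' := by
        change (Spec A).basicOpen (0 : Γ(Spec A, ⊤)) ≤ _
        rw [Scheme.basicOpen_zero]; exact bot_le
      add_mem' := fun {a b} ha hb x hx => by
        by_contra hn
        have hx' := ((Spec A).mem_basicOpen (a + b) x trivial).1 hx
        rw [map_add] at hx'
        rcases IsLocalRing.isUnit_or_isUnit_of_isUnit_add hx' with h' | h'
        · exact hn (ha (((Spec A).mem_basicOpen a x trivial).2 h'))
        · exact hn (hb (((Spec A).mem_basicOpen b x trivial).2 h'))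
      smul_mem' := fun c a ha => by
        change (Spec A).basicOpen (c * a) ≤ _
        rw [Scheme.basicOpen_mul]
        exact inf_le_right.trans ha }
  have hI : (1 : Γ(Spec A, ⊤)) ∈ ⨆ j, I j := by
    have : Ideal.span (⋃ j, (I j : Set Γ(Spec A, ⊤))) = ⊤ := by
      refine (htop.iSup_basicOpen_eq_self_iff).1 (le_antisymm le_top fun x _ => ?_)
      obtain ⟨U, hU⟩ := Set.mem_iUnion.1 (ht (Set.mem_univ (f x)))
      obtain ⟨hUt, hxU⟩ := Set.mem_iUnion.1 hU
      obtain ⟨a, ha, hxa⟩ := htop.exists_basicOpen_le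
        (V := f ⁻¹ᵁ U.1) ⟨x, hxU⟩ trivial
      exact TopologicalSpace.Opens.mem_iSup.2 ⟨⟨a, Set.mem_iUnion.2 ⟨⟨U, hUt⟩, ha⟩⟩, hxa⟩
    rw [Ideal.span, Submodule.span_iUnion] at this
    simp only [Submodule.span_eq] at this
    rw [this]; trivial
  obtain ⟨v, hv⟩ := (Submodule.mem_iSup_finset_iff_exists_sum (s := Finset.univ) I 1).1
    (by simpa using hI)
  let a : t → Γ(Spec A, ⊤) := fun j => (v j : Γ(Spec A, ⊤))
  have ha : Ideal.span (Set.range a) = ⊤ := by
    rw [Ideal.eq_top_iff_one, ← hv]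
    exact Submodule.sum_mem _ fun j _ => Ideal.subset_span ⟨j, rfl⟩
  let P := (Scheme.Modules.pullback f).obj F
  haveI : P.IsQuasicoherent := Groth.Agent.Lib.QCoh.Pullback.isQCoh_pullback f F
  letI : ∀ j, Algebra Γ(Spec A, ⊤) Γ(Spec A, (Spec A).basicOpen (a j)) :=
    fun j ↦ (resR ((Spec A).basicOpen_le (a j))).toAlgebra
  letI : ∀ j, Module Γ(Spec A, ⊤) Γ(P, (Spec A).basicOpen (a j)) :=
    fun j ↦ Module.compHom _ (resR ((Spec A).basicOpen_le (a j)))
  haveI : ∀ j, IsScalarTower Γ(Spec A, ⊤) Γ(Spec A, (Spec A).basicOpen (a j))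
      Γ(P, (Spec A).basicOpen (a j)) := fun j ↦ IsScalarTower.of_algebraMap_smul fun _ _ ↦ rfl
  haveI : ∀ j, IsLocalization.Away (a j) Γ(Spec A, (Spec A).basicOpen (a j)) :=
    fun j ↦ htop.isLocalization_basicOpen (a j)
  let l : ∀ j, Γ(P, ⊤) →ₗ[Γ(Spec A, ⊤)] Γ(P, (Spec A).basicOpen (a j)) := fun j ↦
    { toFun := res P ((Spec A).basicOpen_le (a j))
      map_add' := map_add _
      map_smul' := fun r m ↦ res_smul ((Spec A).basicOpen_le (a j)) r m }
  haveI : ∀ j, IsLocalizedModule (Submonoid.powers (a j)) (l j) := fun j ↦ by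
    refine ⟨fun s ↦ ?_, fun y ↦ ?_, fun {x y} h ↦ ?_⟩
    · rw [Module.End.isUnit_iff]
      exact (IsLocalization.map_units Γ(Spec A, (Spec A).basicOpen (a j)) s).smul_bijective
    · obtain ⟨k, s, hs⟩ := (localizes_of_isAffineOpen P htop (a j)).ext' y
      refine ⟨⟨s, ⟨a j ^ k, k, rfl⟩⟩, ?_⟩
      refine Eq.trans ?_ hs.symm
      change resR ((Spec A).basicOpen_le (a j)) (a j ^ k) • y = _
      rw [map_pow]
    · obtain ⟨k, hk⟩ := (localizes_of_isAffineOpen P htop (a j)).sep.exists_pow_smul_eq h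
      exact ⟨⟨a j ^ k, k, rfl⟩, hk⟩
  refine hasPres_of_cover a ha (fun j => n j.1) (fun j => r j.1)
    (fun j => Γ(Spec A, (Spec A).basicOpen (a j))) (fun j => Γ(P, (Spec A).basicOpen (a j))) l
    fun j => ?_
  have hj : (Spec A).basicOpen (a j) ≤ f ⁻¹ᵁ j.1.1 := (v j).2
  letI : Algebra Γ(X, j.1.1) Γ(Spec A, (Spec A).basicOpen (a j)) :=
    (f.appLE j.1.1 _ hj).hom.toAlgebra
  letI : Module Γ(X, j.1.1) Γ(P, (Spec A).basicOpen (a j)) :=
    Module.compHom _ (f.appLE j.1.1 _ hj).hom
  haveI : IsScalarTower Γ(X, j.1.1) Γ(Spec A, (Spec A).basicOpen (a j))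
      Γ(P, (Spec A).basicOpen (a j)) := IsScalarTower.of_algebraMap_smul fun _ _ => rfl
  exact (h j.1).baseChange
    (Groth.Agent.Lib.CechRes.PullSec.isBaseChange_mu f F j.1.2 (htop.basicOpen (a j)) hj)


/-- Let `X` be a quasi-compact quasi-separated scheme, `A i` a family of commutative rings indexed by an
arbitrary type together with morphisms `f i : Spec (A i) ⟶ X`, and `F` an `O_X`-module locally of
finite presentation (a finitely presented quasi-coherent sheaf). Then the product over `i` of the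
modules of global sections of the pullbacks `(f i)^* F` is a finitely presented module over the
product of the rings of global sections `Γ(Spec (A i), O)` (that is, over `Π i, A i`). The point is
that the index set may be infinite. -/
theorem result (X : Scheme.{u}) [CompactSpace X] [QuasiSeparatedSpace X]
    {ι : Type u} (A : ι → CommRingCat.{u}) (f : ∀ i, Spec (A i) ⟶ X) (F : X.Modules) (hF : CohB1.IsFP F) :
    Module.FinitePresentation (∀ i, Γ(Spec (A i), ⊤))
      (∀ i, Γ((Scheme.Modules.pullback (f i)).obj F, ⊤)) := by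
  classical
  haveI : SheafOfModules.IsFinitePresentation (R := X.ringCatSheaf) F := hF
  haveI : F.IsQuasicoherent :=
    SheafOfModules.IsQuasicoherent.mk (R := X.ringCatSheaf) (M := F)
      ⟨(SheafOfModules.IsFinitePresentation.exists_quasicoherentData (R := X.ringCatSheaf) F).choose⟩
  obtain ⟨t, ht⟩ := isCompact_univ.elim_finite_subcover (fun U : X.affineOpens => (U.1 : Set X))
    (fun U => U.1.isOpen) (fun x _ => by
      obtain ⟨_, ⟨U, hU, rfl⟩, hx, -⟩ :=
        X.isBasis_affineOpens.exists_subset_of_mem_open (Set.mem_univ x) isOpen_univ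
      exact Set.mem_iUnion.2 ⟨⟨U, hU⟩, hx⟩)
  have hnr : ∀ U : X.affineOpens, ∃ n r : ℕ,
      HasPres Γ(X, U.1) Γ(F, U.1) (Fin n) (Fin r) := fun U => by
    haveI := Groth.Agent.Lib.Modules.AffineSections.finitePresentation_sections hF U.2
    exact exists_hasPres
  choose n r hnr using hnr
  refine (hasPres_pi (P := Σ j : t, Fin (n j.1))
    (Q := Σ j : t, (Σ j : t, Fin (n j.1)) ⊕ Fin (r j.1)) fun i => ?_).finitePresentation
  exact local_pres (f i) F t ht n r hnr

end Groth.Agent.S17871
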