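import Groth.Statements.S17873
import Groth.Agent.H80.RegularExtend
import Groth.Agent.H26.CIQuotient
import Groth.Agent.Lib.Depth.Local
import Groth.Agent.Lib.Depth.Assoc

set_option autoImplicit false
set_option backward.isDefEq.respectTransparency false
universe u
open GRRSing

namespace Groth.Agent.S17873

open IsLocalRing RingTheory.Sequence
open scoped Pointwise
open Groth.Agent.Lib Groth.Agent.H26

theorem aux : ∀ (j : ℕ) (T : Type u) [CommRing T] [IsLocalRing T] [IsNoetherianRing T] (J : Ideal T),
    J ≠ ⊤ → LocCoh.idealDepth J T = j →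
    j ≤ Submodule.spanFinrank J ∧ ∃ ts : List T, ts.length = Submodule.spanFinrank J ∧
      Ideal.ofList ts = J ∧ IsWeaklyRegular T (ts.take j) := by
  intro j
  induction j with
  | zero =>
    intro T _ _ _ J _ _
    obtain ⟨ts, h1, h2⟩ := CIQuotient.exists_list_spanFinrank J (IsNoetherian.noetherian J)
    exact ⟨zero_le, ts, h2, h1, by rw [List.take_zero]; exact IsWeaklyRegular.nil T T⟩
  | succ j ih =>
    intro T _ _ _ J hJ hd
    classical
    have hJtop : J • (⊤ : Submodule T T) ≠ ⊤ := by rwa [smul_eq_mul, Ideal.mul_top]
    obtain ⟨y, hyJ, hy, -⟩ := Depth.Local.exists_regular_of_idealDepth_eq_succ hd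
    have hass := (Depth.Assoc.exists_isSMulRegular_iff J T).mp ⟨y, hyJ, hy⟩
    have hJm : J ≤ maximalIdeal T := IsLocalRing.le_maximalIdeal hJ
    obtain ⟨x, hxJ, hxm, hx⟩ : ∃ x ∈ J, x ∉ maximalIdeal T * J ∧ IsSMulRegular T x := by
      by_contra hc
      push Not at hc
      let F : Set (Ideal T) := insert (maximalIdeal T * J) (associatedPrimes T T)
      have hF : F.Finite := (associatedPrimes.finite T T).insert _
      have hsub : (J : Set T) ⊆ ⋃ p ∈ F, (p : Set T) := fun x hx => by
        by_cases hxm : x ∈ maximalIdeal T * J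
        · exact Set.mem_iUnion₂_of_mem (Set.mem_insert _ _) hxm
        · have : x ∈ ⋃ p ∈ associatedPrimes T T, (p : Set T) := by
            rw [biUnion_associatedPrimes_eq_compl_regular T T]
            exact hc x hx hxm
          obtain ⟨p, hp, hxp⟩ := Set.mem_iUnion₂.mp this
          exact Set.mem_iUnion₂_of_mem (Set.mem_insert_of_mem _ hp) hxp
      obtain ⟨p, hp, hle⟩ := (Ideal.subset_union_prime_finite hF (maximalIdeal T * J) (maximalIdeal T * J)
        fun i hi h1 _ => IsAssociatedPrime.isPrime ((Set.mem_insert_iff.mp hi).resolve_left h1)).mp hsub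
      rcases Set.mem_insert_iff.mp hp with rfl | hp
      · have hbot : J = ⊥ := Submodule.eq_bot_of_le_smul_of_le_jacobson_bot (maximalIdeal T) J
          (IsNoetherian.noetherian J) (by rwa [smul_eq_mul]) (IsLocalRing.maximalIdeal_le_jacobson _)
        subst hbot
        obtain rfl : y = 0 := hyJ
        exact one_ne_zero (hy (show (0 : T) • (1 : T) = 0 • 0 by simp))
      · exact hass p hp hle
    obtain ⟨gs, hgs, hglen⟩ := CIQuotient.exists_list_spanFinrank J (IsNoetherian.noetherian J)
    obtain ⟨t, htlen, htgen⟩ := H80.RegularExtend.exists_extend (J := J) gs.get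
      (by rw [Set.range_list_get]; exact hgs) (fun _ : Fin 1 => x) (fun _ => hxJ) (fun c hc i => by
        by_contra hu
        rw [Fin.sum_univ_one] at hc
        have hu' : IsUnit (c 0) := by
          obtain rfl : i = 0 := Subsingleton.elim _ _
          exact not_not.mp hu
        exact hxm ((Ideal.unit_mul_mem_iff_mem _ hu').mp hc))
    simp only [List.ofFn_succ, List.ofFn_zero, List.cons_append, List.nil_append] at htlen htgen
    rw [List.length_cons, hglen] at htlen
    set π := Ideal.Quotient.mk (Ideal.span {x})
    have hxne : Ideal.span {x} ≠ ⊤ :=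
      ne_top_of_le_ne_top hJ ((Ideal.span_singleton_le_iff_mem _).mpr hxJ)
    haveI : Nontrivial (T ⧸ Ideal.span {x}) := Ideal.Quotient.nontrivial_iff.mpr hxne
    haveI : IsLocalRing (T ⧸ Ideal.span {x}) := IsLocalRing.of_surjective' π Ideal.Quotient.mk_surjective
    have hπx : π x = 0 := Ideal.Quotient.eq_zero_iff_mem.mpr (Ideal.mem_span_singleton_self x)
    have hJ' : J.map π = Ideal.ofList (t.map π) := by
      rw [← htgen, Ideal.map_ofList, List.map_cons, Ideal.ofList_cons, hπx,
        Ideal.span_singleton_eq_bot.mpr rfl, bot_sup_eq]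
    have hle : Submodule.spanFinrank (J.map π) ≤ t.length := by
      rw [hJ']
      exact (CIQuotient.spanFinrank_ofList_le _).trans_eq (List.length_map _)
    have hxJ' : Ideal.span {x} ≤ J := (Ideal.span_singleton_le_iff_mem _).mpr hxJ
    have hne' : J.map π ≠ ⊤ := fun h => hJ (by
      have := congrArg (Ideal.comap π) h
      rwa [Ideal.comap_top, Ideal.comap_map_of_surjective' π Ideal.Quotient.mk_surjective, Ideal.mk_ker,
        sup_eq_left.mpr hxJ'] at this)
    have hd' : LocCoh.idealDepth (J.map π) (T ⧸ Ideal.span {x}) = j := by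
      have h1 := Depth.SES.idealDepth_quotSMulTop J hxJ hx
      rw [hd, Nat.cast_succ] at h1
      have h2 : LocCoh.idealDepth J (QuotSMulTop x T) = j :=
        le_antisymm ((ENat.add_le_add_iff_right ENat.one_ne_top).mp h1.le)
          ((ENat.add_le_add_iff_right ENat.one_ne_top).mp h1.ge)
      rw [← h2, Depth.Basic.idealDepth_congr J (Submodule.quotEquivOfEq (x • (⊤ : Submodule T T))
        (Ideal.span {x}) (by rw [← Submodule.ideal_span_singleton_smul, smul_eq_mul, Ideal.mul_top]))]
      exact (Depth.Basic.idealDepth_eq_map_of_surjective (R := T) (S := T ⧸ Ideal.span {x})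
        (M := T ⧸ Ideal.span {x}) Ideal.Quotient.mk_surjective J).symm
    obtain ⟨hj, ts, hlen, hgen, hreg⟩ := ih (T ⧸ Ideal.span {x}) (J.map π) hne' hd'
    choose l hl using fun z : T ⧸ Ideal.span {x} => Ideal.Quotient.mk_surjective (I := Ideal.span {x}) z
    have hls : (ts.map l).map π = ts := by
      rw [List.map_map]
      exact (List.map_congr_left fun z _ => hl z).trans (List.map_id' _)
    have hgen' : Ideal.ofList (x :: ts.map l) = J := by
      rw [Ideal.ofList_cons]
      have := congrArg (Ideal.comap π) hgen
      rw [← hls, ← Ideal.map_ofList, Ideal.comap_map_of_surjective' _ Ideal.Quotient.mk_surjective,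
        Ideal.comap_map_of_surjective' _ Ideal.Quotient.mk_surjective, Ideal.mk_ker,
        sup_eq_left.mpr hxJ', sup_comm] at this
      exact this
    have hc : Submodule.spanFinrank J ≤ ts.length + 1 := by
      have := CIQuotient.spanFinrank_ofList_le (x :: ts.map l)
      rwa [hgen', List.length_cons, List.length_map] at this
    refine ⟨by omega, x :: ts.map l, by rw [List.length_cons, List.length_map]; omega, hgen', ?_⟩
    rw [List.take_succ_cons, isWeaklyRegular_cons_iff, ← List.map_take]
    refine ⟨hx, ?_⟩
    rw [(Submodule.quotEquivOfEq (x • (⊤ : Submodule T T)) (Ideal.span {x})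
      (by rw [← Submodule.ideal_span_singleton_smul, smul_eq_mul, Ideal.mul_top])).isWeaklyRegular_congr,
      ← isWeaklyRegular_map_algebraMap_iff (T ⧸ Ideal.span {x}), Ideal.Quotient.algebraMap_eq,
      List.map_map, show (Ideal.Quotient.mk (Ideal.span {x})) ∘ l = id from funext hl]
    simpa using hreg

/-- Let T be a Cohen–Macaulay Noetherian local ring, J a proper ideal of T, j the grade of J (the
J-depth of T, i.e. the supremum of the lengths of T-regular sequences inside J; a natural number
here) and c the minimal number of generators of J (equal to the dimension of J/𝔪J over the residue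
field). Then j ≤ c and there is a generating sequence t_1, …, t_c of J such that t_1, …, t_j is a
T-regular sequence. (The published statement does not exclude J = T; there c = 1 while the grade,
read as the depth of T, can exceed 1, so this row assumes J proper.) -/
theorem result {T : Type u} [CommRing T] [LocCoh.IsCohenMacaulayLocalRing T]
    (J : Ideal T) (hJ : J ≠ ⊤) (j : ℕ) (hj : LocCoh.idealDepth J T = j) :
    j ≤ Submodule.spanFinrank J ∧
      ∃ ts : List T, ts.length = Submodule.spanFinrank J ∧ Ideal.ofList ts = J ∧
        RingTheory.Sequence.IsRegular T (ts.take j) := by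
  obtain ⟨h1, ts, h2, h3, h4⟩ := aux j T J hJ hj
  exact ⟨h1, ts, h2, h3, IsRegular.of_isWeaklyRegular_of_mem_maximalIdeal T
    (fun z hz => IsLocalRing.le_maximalIdeal hJ (h3 ▸ Ideal.subset_span (List.mem_of_mem_take hz))) h4⟩

end Groth.Agent.S17873
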