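import Groth.Statements.S17874
import Groth.Agent.H20.CMDim
import Groth.Agent.Lib.Depth.Local
import Mathlib.RingTheory.Ideal.KrullsHeightTheorem
import Mathlib.RingTheory.Ideal.AssociatedPrime.Finiteness
import Mathlib.RingTheory.Nakayama

set_option autoImplicit false
universe u
open GRRSing

namespace Groth.Agent.S17874

theorem exchange {T : Type u} [CommRing T] [IsLocalRing T] {N : Ideal T} (hN : N.FG) (l : List T)
    (hl : ∀ i (hi : i < l.length), l[i] ∉ IsLocalRing.maximalIdeal T * N ⊔ Ideal.ofList (l.take i))
    (hlN : ∀ a ∈ l, a ∈ N) :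
    ∃ G : Finset T, l.length + G.card ≤ Submodule.spanFinrank N ∧ Ideal.ofList l ⊔ Ideal.span (G : Set T) = N := by
  classical
  induction l using List.reverseRecOn with
  | nil =>
    obtain ⟨G, hcard, hG⟩ := Submodule.FG.exists_span_finset_card_eq_spanFinrank hN
    exact ⟨G, by simp [hcard], by simp [Ideal.ofList, ← Ideal.submodule_span_eq, hG]⟩
  | append_singleton l a ih =>
    obtain ⟨G, hcard, hG⟩ := ih (fun i hi => by
      have := hl i (by simp; omega)
      rwa [List.getElem_append_left hi, List.take_append_of_le_length hi.le] at this)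
      (fun b hb => hlN b (by simp [hb]))
    have ha := hl l.length (by simp)
    rw [List.getElem_append_right le_rfl, List.take_left] at ha
    simp only [Nat.sub_self, List.getElem_cons_zero] at ha
    have haN : a ∈ N := hlN a (by simp)
    rw [← hG] at haN
    obtain ⟨v, hv, w, hw, hvw⟩ := Submodule.mem_sup.1 haN
    obtain ⟨c, -, hc⟩ := Submodule.mem_span_finset.1 hw
    obtain ⟨g, hg, hu⟩ : ∃ g ∈ G, IsUnit (c g) := by
      by_contra hcon
      push Not at hcon
      refine ha (hvw ▸ add_mem (Submodule.mem_sup_right hv) (Submodule.mem_sup_left ?_))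
      rw [← hc]
      refine sum_mem fun g hg => Ideal.mul_mem_mul ((IsLocalRing.mem_maximalIdeal _).2 (hcon g hg)) ?_
      rw [← hG]
      exact Submodule.mem_sup_right (Submodule.subset_span hg)
    refine ⟨G.erase g, ?_, ?_⟩
    · rw [Finset.card_erase_of_mem hg, List.length_append, List.length_singleton]
      have := Finset.card_pos.2 ⟨g, hg⟩
      omega
    · rw [Ideal.ofList_append, Ideal.ofList_singleton, sup_assoc]
      refine le_antisymm (sup_le (hG ▸ le_sup_left) (sup_le ((Ideal.span_singleton_le_iff_mem _).2 (hlN a (by simp)))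
        (hG ▸ le_sup_of_le_right (Ideal.span_mono (Finset.erase_subset g G))))) ?_
      conv_lhs => rw [← hG]
      refine sup_le le_sup_left (Ideal.span_le.2 fun z hz => ?_)
      by_cases hzg : z = g
      · subst hzg
        obtain ⟨u, hu⟩ := hu
        set S := Ideal.ofList l ⊔ (Ideal.span {a} ⊔ Ideal.span ((G.erase z : Finset T) : Set T))
        have h1 : c z • z ∈ S := by
          have : c z • z = a - v - ∑ x ∈ G.erase z, c x • x := by
            rw [← hvw, ← hc, ← Finset.add_sum_erase G (fun x => c x • x) hz]
            ring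
          rw [this]
          exact sub_mem (sub_mem (Submodule.mem_sup_right (Submodule.mem_sup_left (Ideal.mem_span_singleton_self a))) (Submodule.mem_sup_left hv))
            (sum_mem fun x hx => Submodule.smul_mem _ _ (Submodule.mem_sup_right (Submodule.mem_sup_right (Submodule.subset_span hx))))
        have h2 := S.mul_mem_left (↑u⁻¹ : T) h1
        rwa [smul_eq_mul, ← hu, Units.inv_mul_cancel_left] at h2
      · exact Submodule.mem_sup_right (Submodule.mem_sup_right (Submodule.subset_span (Finset.mem_erase.2 ⟨hzg, hz⟩)))

open Groth.Agent.Lib.Depth in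
theorem height_of_ass {T : Type u} [CommRing T] [LocCoh.IsCohenMacaulayLocalRing T] (l : List T)
    (hreg : RingTheory.Sequence.IsWeaklyRegular T l) (Q : Ideal T)
    (hQ : Q ∈ associatedPrimes T (T ⧸ Ideal.ofList l)) : Q.height ≤ l.length := by
  obtain ⟨hQp, x, hx⟩ := isAssociatedPrime_iff.1 hQ
  haveI := hQp
  have hlQ : Ideal.ofList l ≤ Q := fun r hr => by
    rw [hx, Submodule.mem_colon_singleton, Submodule.mem_bot]
    obtain ⟨y, rfl⟩ := Submodule.Quotient.mk_surjective _ x
    rw [← Submodule.Quotient.mk_smul, Submodule.Quotient.mk_eq_zero]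
    exact Ideal.mul_mem_right _ _ hr
  have hx0 : x ≠ 0 := fun h => hQp.ne_top ((Ideal.eq_top_iff_one _).2 (by rw [hx, Submodule.mem_colon_singleton, h]; simp))
  have hmem : ∀ r ∈ l, r ∈ Q := fun r hr => hlQ (Ideal.subset_span hr)
  let e : (T ⧸ Ideal.ofList l • (⊤ : Submodule T T)) ≃ₗ[T] T ⧸ Ideal.ofList l :=
    Submodule.quotEquivOfEq _ _ (by rw [smul_eq_mul, Ideal.mul_top])
  have hne : Q • (⊤ : Submodule T (T ⧸ Ideal.ofList l • (⊤ : Submodule T T))) ≠ ⊤ :=
    Local.ofList_smul_top_ne_top (by rw [smul_eq_mul, Ideal.mul_top]; exact hQp.ne_top) hmem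
  have h0 : LocCoh.idealDepth Q (T ⧸ Ideal.ofList l • (⊤ : Submodule T T)) = 0 :=
    Local.idealDepth_eq_zero_of_exists hne ⟨e.symm x, fun h => hx0 (by simpa using congrArg e h), fun a ha => by
      rw [← map_smul]
      rw [hx, Submodule.mem_colon_singleton, Submodule.mem_bot] at ha
      rw [ha, map_zero]⟩
  have h1 := Local.idealDepth_quot_ofList (I := Q) (M := T) hmem hreg
  rw [h0, zero_add] at h1
  have hsupp : Module.support T T = Set.univ := Set.eq_univ_of_forall fun P => by
    rw [Module.support_eq_zeroLocus, Module.annihilator_eq_bot.2 inferInstance]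
    exact bot_le (a := P.asIdeal)
  have h2 := CM.supportDim_localization_le_idealDepth CM.isCohenMacaulayModule_self Q (hsupp ▸ Set.mem_univ _)
  rw [Groth.Agent.H20.CMDim.supportDim_of_support_eq_univ (Groth.Agent.H20.CMDim.support_localized_eq_univ hsupp Q),
    IsLocalization.AtPrime.ringKrullDim_eq_height Q, ← h1, WithBot.coe_le_coe] at h2
  exact h2
theorem not_mem_others {T : Type u} [CommRing T] {p : Ideal T} (ts : List T) (hts : Ideal.ofList ts = p)
    (hlt' : ts.length ≤ Submodule.spanFinrank p) :
    ∀ i : Fin ts.length, ts[i] ∉ Ideal.span (Set.range fun j : {j : Fin ts.length // j ≠ i} => ts[(j : Fin ts.length)]) := by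
  classical
  intro i hi
  have hlt : ts.length ≤ Submodule.spanFinrank p := hlt'
  let s : Finset T := (Finset.univ.erase i).image (fun j : Fin ts.length => ts[j])
  have hsp : Submodule.span T (s : Set T) = p := by
    refine le_antisymm (Submodule.span_le.2 fun a ha => ?_) ?_
    · obtain ⟨j, -, rfl⟩ := Finset.mem_image.1 ha
      exact hts ▸ Ideal.subset_span (List.getElem_mem j.2)
    · refine le_of_eq_of_le hts.symm (Ideal.span_le.2 fun a ha => ?_)
      obtain ⟨j, hj, rfl⟩ := List.getElem_of_mem ha
      by_cases hji : (⟨j, hj⟩ : Fin ts.length) = i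
      · have : Ideal.span (Set.range fun j : {j : Fin ts.length // j ≠ i} => ts[(j : Fin ts.length)]) ≤ Submodule.span T (s : Set T) :=
          Ideal.span_mono (by rintro _ ⟨k, rfl⟩; exact Finset.mem_coe.2 (Finset.mem_image.2 ⟨k.1, Finset.mem_erase.2 ⟨k.2, Finset.mem_univ _⟩, rfl⟩))
        have e : ts[j] = ts[i] := by subst hji; rfl
        rw [e]
        exact this hi
      · exact Submodule.subset_span (Finset.mem_coe.2 (Finset.mem_image.2 ⟨⟨j, hj⟩, Finset.mem_erase.2 ⟨hji, Finset.mem_univ _⟩, rfl⟩))
  have h1 := Submodule.spanFinrank_span_le_ncard_of_finite (R := T) (s := (s : Set T)) s.finite_toSet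
  rw [hsp, Set.ncard_coe_finset] at h1
  have h2 : s.card ≤ ts.length - 1 := Finset.card_image_le.trans (by simp)
  have := i.2
  omega

/-- Let T be a Cohen–Macaulay Noetherian local ring and p a prime ideal of T whose minimal number of
generators is at most height(p) + 1, and assume the localization T_p is a regular local ring. In
that case some d-sequence generates p: there is a list of elements generating p, no member of which
lies in the ideal of the others, and such that for all positions i ≤ k the colon ideals ((t_1, …,
t_{i-1}) : t_k t_i) and ((t_1, …, t_{i-1}) : t_k) coincide. -/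
theorem result {T : Type u} [CommRing T] [LocCoh.IsCohenMacaulayLocalRing T]
    (p : Ideal T) [p.IsPrime] (hgen : (Submodule.spanFinrank p : ℕ∞) ≤ p.height + 1)
    [IsRegularLocalRing (Localization.AtPrime p)] :
    ∃ ts : List T, Ideal.ofList ts = p ∧ W4c5grrsingularflat.IsDSeq ts := by
  classical
  set m := IsLocalRing.maximalIdeal T
  set A := Localization.AtPrime p
  set φ := algebraMap T A
  haveI : IsNoetherianRing A := IsLocalization.isNoetherianRing p.primeCompl _ inferInstance
  have hpfg : p.FG := IsNoetherian.noetherian p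
  obtain ⟨h, hh⟩ := ENat.ne_top_iff_exists.1 (Ideal.height_ne_top (I := p) Ideal.IsPrime.ne_top')
  have hMA : IsLocalRing.maximalIdeal A = p.map φ := Localization.AtPrime.map_eq_maximalIdeal.symm
  have hrA : Submodule.spanFinrank (IsLocalRing.maximalIdeal A) = h := by
    have := IsRegularLocalRing.spanFinrank_maximalIdeal (R := A)
    rw [IsLocalization.AtPrime.ringKrullDim_eq_height p A, ← hh] at this
    exact_mod_cast this
  have hnh : h ≤ Submodule.spanFinrank p := by
    have := Ideal.height_le_spanFinrank p Ideal.IsPrime.ne_top'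
    rw [← hh] at this
    exact_mod_cast this
  have hn : Submodule.spanFinrank p ≤ h + 1 := by
    rw [← hh] at hgen
    exact_mod_cast hgen
  -- choose the regular part
  let Good : List T → Prop := fun l =>
    (∀ a ∈ l, a ∈ p) ∧ RingTheory.Sequence.IsWeaklyRegular T l ∧
    (∀ i (hi : i < l.length), l[i] ∉ m * p ⊔ Ideal.ofList (l.take i)) ∧
    (∀ i (hi : i < l.length), φ l[i] ∉ IsLocalRing.maximalIdeal A * IsLocalRing.maximalIdeal A ⊔ (Ideal.ofList (l.take i)).map φ)
  obtain ⟨l, hlen, hlp, hreg, hP3, hP2⟩ : ∃ l : List T, l.length = h ∧ Good l := by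
    suffices ∀ i ≤ h, ∃ l : List T, l.length = i ∧ Good l from this h le_rfl
    intro i
    induction i with
    | zero =>
      intro _
      exact ⟨[], rfl, by simp, RingTheory.Sequence.IsWeaklyRegular.nil _ _, by simp, by simp⟩
    | succ i ih =>
      intro hi
      obtain ⟨l, hl, hlp, hreg, hP3, hP2⟩ := ih (by omega)
      let S1 : Ideal T := m * p ⊔ Ideal.ofList l
      let S2 : Ideal T := (IsLocalRing.maximalIdeal A * IsLocalRing.maximalIdeal A ⊔ (Ideal.ofList l).map φ).comap φ
      have hlle : Ideal.ofList l ≤ p := Ideal.span_le.2 hlp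
      have h1 : ¬ p ≤ S1 := fun hle => by
        have hpl : p ≤ Ideal.ofList l := Submodule.le_of_le_smul_of_le_jacobson_bot hpfg
          (IsLocalRing.maximalIdeal_le_jacobson ⊥) (hle.trans (le_of_eq (sup_comm _ _)))
        have h2 := Submodule.spanFinrank_span_le_ncard_of_finite (R := T) (s := ({a | a ∈ l} : Set T)) l.finite_toSet
        rw [show Submodule.span T {a | a ∈ l} = p from le_antisymm hlle hpl] at h2
        have h3 : ({a | a ∈ l} : Set T).ncard ≤ l.length := by
          rw [show ({a | a ∈ l} : Set T) = (l.toFinset : Set T) by ext; simp, Set.ncard_coe_finset]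
          exact List.toFinset_card_le l
        omega
      have h2 : ¬ p ≤ S2 := fun hle => by
        have hle' : IsLocalRing.maximalIdeal A ≤ (Ideal.ofList l).map φ := by
          refine Submodule.le_of_le_smul_of_le_jacobson_bot (IsNoetherian.noetherian _)
            (IsLocalRing.maximalIdeal_le_jacobson ⊥) ?_
          conv_lhs => rw [hMA]
          exact (Ideal.map_le_iff_le_comap.2 hle).trans (le_of_eq (sup_comm _ _))
        have hle2 : (Ideal.ofList l).map φ ≤ IsLocalRing.maximalIdeal A := hMA ▸ Ideal.map_mono hlle
        have h2 := Submodule.spanFinrank_span_le_ncard_of_finite (R := A) (s := φ '' {a | a ∈ l}) (l.finite_toSet.image _)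
        rw [show Submodule.span A (φ '' {a | a ∈ l}) = IsLocalRing.maximalIdeal A from
          le_antisymm (by rw [← Ideal.span, ← Ideal.map_span]; exact hle2) (by rw [← Ideal.span, ← Ideal.map_span]; exact hle')] at h2
        have h3 : (φ '' {a | a ∈ l}).ncard ≤ l.length := by
          refine (Set.ncard_image_le l.finite_toSet).trans ?_
          rw [show ({a | a ∈ l} : Set T) = (l.toFinset : Set T) by ext; simp, Set.ncard_coe_finset]
          exact List.toFinset_card_le l
        omega
      have hfin := associatedPrimes.finite T (T ⧸ Ideal.ofList l)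
      obtain ⟨x, hxp, hx⟩ : ∃ x ∈ p, x ∉ S1 ∧ x ∉ S2 ∧ ∀ Q ∈ associatedPrimes T (T ⧸ Ideal.ofList l), x ∉ Q := by
        by_contra hcon
        push Not at hcon
        have hcov : (p : Set T) ⊆ ⋃ J ∈ ((insert S1 (insert S2 hfin.toFinset) : Finset (Ideal T)) : Set (Ideal T)), ((id J : Ideal T) : Set T) := by
          intro x hx
          by_cases ha : x ∈ S1
          · exact Set.mem_biUnion (x := S1) (by simp) ha
          by_cases hb : x ∈ S2
          · exact Set.mem_biUnion (x := S2) (by simp) hb
          obtain ⟨Q, hQ, hxQ⟩ := hcon x hx ha hb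
          exact Set.mem_biUnion (x := Q) (by simp [hQ]) hxQ
        obtain ⟨J, hJ, hle⟩ := (Ideal.subset_union_prime (f := id) S1 S2 (fun J hJ hne hne' => by
          simp only [Finset.mem_insert, Set.Finite.mem_toFinset, hne, hne', false_or] at hJ
          exact IsAssociatedPrime.isPrime hJ)).1 hcov
        simp only [Finset.mem_insert, Set.Finite.mem_toFinset] at hJ
        rcases hJ with rfl | rfl | hJ
        · exact h1 hle
        · exact h2 hle
        · have h4 := (Ideal.height_mono hle).trans (height_of_ass l hreg J hJ)
          rw [← hh, hl] at h4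
          norm_cast at h4
          omega
      refine ⟨l ++ [x], by simp [hl], ?_, ?_, ?_, ?_⟩
      · intro a ha
        rw [List.mem_append, List.mem_singleton] at ha
        rcases ha with ha | rfl
        exacts [hlp a ha, hxp]
      · refine (RingTheory.Sequence.isWeaklyRegular_append_iff T l [x]).2 ⟨hreg, ?_⟩
        rw [RingTheory.Sequence.isWeaklyRegular_singleton_iff]
        let e : (T ⧸ Ideal.ofList l • (⊤ : Submodule T T)) ≃ₗ[T] T ⧸ Ideal.ofList l :=
          Submodule.quotEquivOfEq _ _ (by rw [smul_eq_mul, Ideal.mul_top])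
        rw [e.isSMulRegular_congr]
        refine IsSMulRegular.of_right_eq_zero_of_smul fun z hz => ?_
        by_contra hz0
        obtain ⟨Q, hQ, hle⟩ := exists_le_isAssociatedPrime_of_isNoetherianRing T z hz0
        exact hx.2.2 Q hQ (hle (Submodule.mem_colon_singleton.2 (by simpa using hz)))
      · intro j hj
        rw [List.length_append, List.length_singleton] at hj
        rcases lt_or_eq_of_le (Nat.lt_succ_iff.1 hj) with hj | rfl
        · rw [List.getElem_append_left hj, List.take_append_of_le_length hj.le]
          exact hP3 j hj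
        · simpa [List.getElem_append_right] using hx.1
      · intro j hj
        rw [List.length_append, List.length_singleton] at hj
        rcases lt_or_eq_of_le (Nat.lt_succ_iff.1 hj) with hj | rfl
        · rw [List.getElem_append_left hj, List.take_append_of_le_length hj.le]
          exact hP2 j hj
        · simpa [List.getElem_append_right, S2] using hx.2.1
  have hlle : Ideal.ofList l ≤ p := Ideal.span_le.2 hlp
  -- the regular part generates after localisation
  have hlA : (Ideal.ofList l).map φ = IsLocalRing.maximalIdeal A := by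
    obtain ⟨G, hG, hG'⟩ := exchange (IsNoetherian.noetherian (IsLocalRing.maximalIdeal A)) (l.map φ) (fun i hi => by
      rw [List.getElem_map, ← List.map_take, ← Ideal.map_ofList]
      exact hP2 i (by simpa using hi)) (fun a ha => by
      obtain ⟨b, hb, rfl⟩ := List.mem_map.1 ha
      rw [hMA]; exact Ideal.mem_map_of_mem _ (hlp b hb))
    rw [List.length_map, hlen, hrA] at hG
    have : G = ∅ := Finset.card_eq_zero.1 (by omega)
    rw [this, Finset.coe_empty, Ideal.span_empty, sup_bot_eq] at hG'
    rw [Ideal.map_ofList, hG']
  obtain ⟨G, hG, hG'⟩ := exchange hpfg l hP3 hlp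
  rw [hlen] at hG
  refine ⟨l ++ G.toList, ?_, ?_, ?_⟩
  · rw [Ideal.ofList_append, ← hG']
    congr 1
    simp [Ideal.ofList]
  · have hts : Ideal.ofList (l ++ G.toList) = p := by
      rw [Ideal.ofList_append, ← hG']
      congr 1
      simp [Ideal.ofList]
    exact not_mem_others _ hts (by simp [hlen]; omega)
  · intro i k hk hik
    have hlen' : (l ++ G.toList).length ≤ h + 1 := by simp [hlen]; omega
    ext r
    simp only [Submodule.mem_colon_singleton, smul_eq_mul]
    refine ⟨fun hr => ?_, fun hr => ?_⟩
    swap
    · rw [← mul_assoc]; exact Ideal.mul_mem_right _ _ hr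
    by_cases hih : i < l.length
    · rw [List.getElem_append_left hih, List.take_append_of_le_length hih.le] at *
      have hi' : i < l.length := hih
      have h3 := hreg.regular_mod_prev i hi'
      rw [← mul_assoc] at hr
      have h4 : Submodule.Quotient.mk (p := Ideal.ofList (l.take i) • (⊤ : Submodule T T)) (r * (l ++ G.toList)[k]) = 0 := by
        refine h3.right_eq_zero_of_smul ?_
        rw [← Submodule.Quotient.mk_smul, Submodule.Quotient.mk_eq_zero, smul_eq_mul, smul_eq_mul, Ideal.mul_top, mul_comm]
        exact hr
      rwa [Submodule.Quotient.mk_eq_zero, smul_eq_mul, Ideal.mul_top] at h4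
    · have hil : i = l.length := by omega
      have hkl : k = l.length := by omega
      subst hkl
      subst hil
      rw [List.take_left] at *
      set y := (l ++ G.toList)[l.length]
      have hyp : p = Ideal.ofList l ⊔ Ideal.span {y} := by
        have hG1 : G.toList = [y] := by
          have h1 : G.toList.length = 1 := by
            have := hlen'
            simp only [List.length_append] at this hk
            omega
          obtain ⟨z, hz⟩ := List.length_eq_one_iff.1 h1
          have : y = z := by
            simp only [y, List.getElem_append_right le_rfl, Nat.sub_self, hz, List.getElem_cons_zero]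
          rw [hz, this]
        rw [← hG', show (G : Set T) = {y} by
          ext z; rw [Finset.mem_coe, ← Finset.mem_toList, hG1]; simp]
      by_contra hry
      have hne : Ideal.Quotient.mk (Ideal.ofList l) (r * y) ≠ 0 := fun h => hry (Ideal.Quotient.eq_zero_iff_mem.1 h)
      obtain ⟨Q, hQ, hle⟩ := exists_le_isAssociatedPrime_of_isNoetherianRing T (Ideal.Quotient.mk (Ideal.ofList l) (r * y)) hne
      haveI := hQ.isPrime
      have hann : ∀ s, s * (r * y) ∈ Ideal.ofList l → s ∈ Q := fun s hs => hle (Submodule.mem_colon_singleton.2 (by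
        rw [Submodule.mem_bot, Algebra.smul_def, Ideal.Quotient.algebraMap_eq, ← map_mul, Ideal.Quotient.eq_zero_iff_mem]
        exact hs))
      have hpQ : p ≤ Q := by
        rw [hyp]
        refine sup_le (fun a ha => hann a (Ideal.mul_mem_right _ _ ha)) ((Ideal.span_singleton_le_iff_mem _).2 (hann y ?_))
        rw [show y * (r * y) = r * (y * y) by ring]
        exact hr
      have hQp : Q ≤ p := by
        by_contra hne'
        have h5 := height_of_ass l hreg Q hQ
        have h6 : p < Q := lt_of_le_not_ge hpQ hne'
        have h7 := Ideal.height_strict_mono_of_isPrime h6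
        rw [hlen, hh] at h5
        exact absurd (lt_of_lt_of_le h7 h5) (lt_irrefl _)
      have hy : φ (r * y) ∈ (Ideal.ofList l).map φ := by
        rw [hlA, hMA]
        exact Ideal.mem_map_of_mem _ (Ideal.mul_mem_left _ _ (hyp ▸ Submodule.mem_sup_right (Ideal.mem_span_singleton_self y)))
      obtain ⟨s, hs, hsy⟩ := (IsLocalization.algebraMap_mem_map_algebraMap_iff p.primeCompl A _ _).1 hy
      exact hs (hQp (hann s hsy))

end Groth.Agent.S17874
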