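import Groth.Statements.S17875
import Mathlib.Tactic.Ring
import Mathlib.Tactic.FieldSimp
import Mathlib.Data.Nat.Choose.Sum

set_option autoImplicit false
universe u
open Polynomial
open GRRSing

namespace Groth.Agent.S17875

/-- Let R be a commutative ℚ-algebra, r an element of R and δ a natural number with (r - 1) ^ (δ + 1) =
0. Write s(k, j) for the signed Stirling numbers of the first kind, the coefficients of x (x - 1) ⋯
(x - k + 1) = Σ_j s(k, j) x ^ j. Then (i) for every natural number n, r ^ n = Σ_{k ≤ δ} [n (n - 1) ⋯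
(n - k + 1) / k!] (r - 1) ^ k; and (ii) in the polynomial ring R[x], Σ_{k ≤ δ} [x (x - 1) ⋯ (x - k +
1) / k!] (r - 1) ^ k = Σ_{j ≤ δ} [Σ_{k ≤ δ} Σ_{u ≤ k} (-1) ^ (k - u) s(k, j) / (u! (k - u)!) · r ^
u] x ^ j. -/
theorem result {R : Type u} [CommRing R] [Algebra ℚ R]
    (r : R) (δ : ℕ) (hr : (r - 1) ^ (δ + 1) = 0) :
    (∀ n : ℕ, r ^ n = ∑ k ∈ Finset.range (δ + 1), ((descPochhammer ℚ k).eval (n : ℚ) / (k.factorial : ℚ)) • (r - 1) ^ k) ∧
    (∑ k ∈ Finset.range (δ + 1), ((k.factorial : ℚ)⁻¹ • (descPochhammer R k * Polynomial.C ((r - 1) ^ k))) =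
      ∑ j ∈ Finset.range (δ + 1), Polynomial.C (∑ k ∈ Finset.range (δ + 1), ∑ u ∈ Finset.range (k + 1),
        (((-1 : ℚ) ^ (k - u) * (((descPochhammer ℤ k).coeff j : ℤ) : ℚ)) / ((u.factorial * (k - u).factorial : ℕ) : ℚ)) • r ^ u) * Polynomial.X ^ j) := by
  constructor
  · intro n
    have hz : ∀ k, δ < k → (r - 1) ^ k = 0 := fun k hk => pow_eq_zero_of_le hk hr
    have hcoef : ∀ k, ((descPochhammer ℚ k).eval (n : ℚ) / (k.factorial : ℚ)) • (r - 1) ^ k = (n.choose k : R) * (r - 1) ^ k := by
      intro k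
      rw [descPochhammer_eval_eq_descFactorial, Nat.descFactorial_eq_factorial_mul_choose, Nat.cast_mul,
        mul_div_cancel_left₀ _ (by exact_mod_cast k.factorial_ne_zero), Algebra.smul_def, map_natCast]
    simp only [hcoef]
    calc r ^ n = ((r - 1) + 1) ^ n := by rw [sub_add_cancel]
      _ = ∑ k ∈ Finset.range (n + 1), (n.choose k : R) * (r - 1) ^ k := by
        rw [add_pow]; exact Finset.sum_congr rfl fun k _ => by rw [one_pow, mul_one, mul_comm]
      _ = ∑ k ∈ Finset.range (n + 1 + (δ + 1)), (n.choose k : R) * (r - 1) ^ k :=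
        Finset.sum_subset (Finset.range_mono (by omega)) fun k _ hk => by
          rw [Nat.choose_eq_zero_of_lt (by simpa using hk), Nat.cast_zero, zero_mul]
      _ = _ := (Finset.sum_subset (Finset.range_mono (by omega)) fun k _ hk => by
          rw [hz k (by simpa using hk), mul_zero]).symm
  · ext j
    simp only [Polynomial.finsetSum_coeff, Polynomial.coeff_C_mul_X_pow, Finset.sum_ite_eq, Polynomial.coeff_smul, Polynomial.coeff_mul_C]
    have hd : ∀ k, (descPochhammer R k).coeff j = algebraMap ℚ R (((descPochhammer ℤ k).coeff j : ℤ) : ℚ) := by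
      intro k
      rw [← descPochhammer_map (Int.castRingHom R), Polynomial.coeff_map, eq_intCast, map_intCast]
    split_ifs with hj
    · refine Finset.sum_congr rfl fun k _ => ?_
      rw [hd, sub_eq_add_neg, add_pow, Finset.mul_sum, Finset.smul_sum]
      refine Finset.sum_congr rfl fun u hu => ?_
      have hu' : u ≤ k := Nat.lt_succ_iff.1 (Finset.mem_range.1 hu)
      rw [Algebra.smul_def, Algebra.smul_def]
      have e : (k.factorial : ℚ)⁻¹ * ((((descPochhammer ℤ k).coeff j : ℤ) : ℚ) * ((-1) ^ (k - u) * (k.choose u : ℚ))) =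
          ((-1 : ℚ) ^ (k - u) * (((descPochhammer ℤ k).coeff j : ℤ) : ℚ)) / ((u.factorial * (k - u).factorial : ℕ) : ℚ) := by
        rw [← Nat.choose_mul_factorial_mul_factorial hu']
        have h1 : (u.factorial : ℚ) ≠ 0 := by exact_mod_cast u.factorial_ne_zero
        have h2 : ((k - u).factorial : ℚ) ≠ 0 := by exact_mod_cast (k - u).factorial_ne_zero
        have h3 : (k.choose u : ℚ) ≠ 0 := by exact_mod_cast (Nat.choose_pos hu').ne'
        push_cast
        field_simp
      rw [← e, map_mul, map_mul, map_mul, map_pow, map_neg, map_one, map_natCast]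
      ring
    · refine Finset.sum_eq_zero fun k hk => ?_
      have : (descPochhammer ℤ k).coeff j = 0 := Polynomial.coeff_eq_zero_of_natDegree_lt (by
        rw [descPochhammer_natDegree]; simp at hj hk; omega)
      rw [hd, this]
      simp

end Groth.Agent.S17875
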