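import Groth.Statements.S17877
import Groth.Agent.Lib.Dim.Integral
import Mathlib

set_option autoImplicit false
set_option linter.style.haveILetI false
set_option linter.unusedSectionVars false
universe u
open GRRSing

namespace Groth.Agent.S17877

open TensorProduct IsLocalRing

/-- `Ω_{B/L}` modulo a rational prime is spanned by generators of the cotangent space. -/
theorem span_fibre {L B : Type u} [Field L] [CommRing B] [Algebra L B] (q : Ideal B) [q.IsMaximal]
    (hrat : ∀ b : B, ∃ c : L, b - algebraMap L B c ∈ q) (n : ℕ)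
    (hn : Module.finrank (ResidueField (Localization.AtPrime q))
      (CotangentSpace (Localization.AtPrime q)) ≤ n)
    [IsNoetherianRing B] :
    Module.finrank (B ⧸ q) ((B ⧸ q) ⊗[B] KaehlerDifferential L B) ≤ n := by
  classical
  let Bq := Localization.AtPrime q
  haveI : IsNoetherianRing Bq := IsLocalization.isNoetherianRing q.primeCompl _ inferInstance
  have hfg : (maximalIdeal Bq).FG := IsNoetherian.noetherian _
  let G := (Submodule.FG.finite_generators hfg).toFinset
  have hGs : Ideal.span (G : Set Bq) = maximalIdeal Bq := by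
    simp [G, Ideal.span, Submodule.span_generators]
  have hGc : G.card ≤ n := by
    rw [show G.card = (maximalIdeal Bq).spanFinrank by
      rw [← Set.ncard_eq_toFinset_card _ (Submodule.FG.finite_generators hfg),
        Submodule.FG.generators_ncard hfg]]
    rwa [IsLocalRing.spanFinrank_maximalIdeal_eq_finrank_cotangentSpace]
  have hsurj := IsLocalization.surj q.primeCompl (S := Bq)
  choose sec hsec using hsurj
  let Z : Finset B := G.image fun g => (sec g).1
  have hZ : Ideal.span (algebraMap B Bq '' (Z : Set B)) = maximalIdeal Bq := by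
    rw [← hGs, Finset.coe_image, Set.image_image]
    apply le_antisymm <;> rw [Ideal.span_le]
    · rintro _ ⟨g, hg, rfl⟩
      show algebraMap B Bq (sec g).1 ∈ Ideal.span (G : Set Bq)
      rw [← hsec g]
      exact Ideal.mul_mem_right _ _ (Ideal.subset_span hg)
    · intro g hg
      have h1 : algebraMap B Bq (sec g).1 ∈ Ideal.span ((fun x => algebraMap B Bq (sec x).1) '' (G : Set Bq)) :=
        Ideal.subset_span ⟨g, hg, rfl⟩
      rw [← hsec g] at h1
      exact (Ideal.mul_unit_mem_iff_mem _ (IsLocalization.map_units Bq (sec g).2)).1 h1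
  have hZq : Ideal.span (Z : Set B) ≤ q := by
    rw [Ideal.span_le]
    intro z hz
    rw [SetLike.mem_coe, ← IsLocalization.AtPrime.to_map_mem_maximal_iff Bq q z, ← hZ]
    exact Ideal.subset_span ⟨z, hz, rfl⟩
  let N := (B ⧸ q) ⊗[B] KaehlerDifferential L B
  let δ : B → N := fun b => (1 : B ⧸ q) ⊗ₜ[B] KaehlerDifferential.D L B b
  let U : Submodule (B ⧸ q) N := Submodule.span (B ⧸ q) (δ '' (Z : Set B))
  letI : Field (B ⧸ q) := Ideal.Quotient.field q
  have hzero : ∀ (r : B) (w : KaehlerDifferential L B), r ∈ q → (1 : B ⧸ q) ⊗ₜ[B] (r • w) = 0 := by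
    intro r w hr
    rw [← TensorProduct.smul_tmul, Algebra.smul_def, Ideal.Quotient.algebraMap_eq,
      Ideal.Quotient.eq_zero_iff_mem.2 hr, zero_mul, TensorProduct.zero_tmul]
  have hleib : ∀ (a b : B), δ (a * b) = Ideal.Quotient.mk q a • δ b + Ideal.Quotient.mk q b • δ a := by
    intro a b
    simp only [δ, Derivation.leibniz, TensorProduct.tmul_add]
    congr 1 <;>
      rw [TensorProduct.smul_tmul', ← TensorProduct.smul_tmul, smul_eq_mul, mul_one, Algebra.smul_def,
        Ideal.Quotient.algebraMap_eq, mul_one]
  have hspan : ∀ a ∈ Ideal.span (Z : Set B), δ a ∈ U := by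
    intro a ha
    induction ha using Submodule.span_induction with
    | mem z hz => exact Submodule.subset_span ⟨z, hz, rfl⟩
    | zero => simp [δ]
    | add x y _ _ hx hy =>
      simp only [δ, map_add, TensorProduct.tmul_add]
      exact add_mem hx hy
    | smul r x hxs hx =>
      rw [smul_eq_mul, hleib, Ideal.Quotient.eq_zero_iff_mem.2 (hZq hxs), zero_smul, add_zero]
      exact U.smul_mem _ hx
  have hq : ∀ a ∈ q, δ a ∈ U := by
    intro a ha
    have h1 : algebraMap B Bq a ∈ (Ideal.span (Z : Set B)).map (algebraMap B Bq) := by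
      rw [Ideal.map_span, hZ, IsLocalization.AtPrime.to_map_mem_maximal_iff Bq q a]
      exact ha
    obtain ⟨s, hs, hsa⟩ := (IsLocalization.algebraMap_mem_map_algebraMap_iff q.primeCompl Bq _ a).1 h1
    have h2 := hspan _ hsa
    rw [hleib, Ideal.Quotient.eq_zero_iff_mem.2 ha, zero_smul, add_zero] at h2
    have hs0 : Ideal.Quotient.mk q s ≠ 0 := fun h => hs (Ideal.Quotient.eq_zero_iff_mem.1 h)
    have := U.smul_mem (Ideal.Quotient.mk q s)⁻¹ h2
    rwa [smul_smul, inv_mul_cancel₀ hs0, one_smul] at this
  have htop : U = ⊤ := by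
    rw [eq_top_iff]
    intro x hx'
    clear hx'
    induction x using TensorProduct.induction_on with
    | zero => exact zero_mem _
    | add x y hx hy => exact add_mem hx hy
    | tmul r w =>
      have hw : (1 : B ⧸ q) ⊗ₜ[B] w ∈ U := by
        have hmem : w ∈ Submodule.span B (Set.range (KaehlerDifferential.D L B)) := by
          rw [KaehlerDifferential.span_range_derivation]; trivial
        induction hmem using Submodule.span_induction with
        | mem x hx =>
          obtain ⟨b, rfl⟩ := hx
          obtain ⟨c, hc⟩ := hrat b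
          have h := hq _ hc
          simpa [δ] using h
        | zero => simp
        | add x y _ _ hx hy => rw [TensorProduct.tmul_add]; exact add_mem hx hy
        | smul r x _ hx =>
          rw [← TensorProduct.smul_tmul, Algebra.smul_def, Ideal.Quotient.algebraMap_eq,
            ← smul_eq_mul, ← TensorProduct.smul_tmul']
          exact U.smul_mem _ hx
      have := U.smul_mem r hw
      rwa [TensorProduct.smul_tmul', smul_eq_mul, mul_one] at this
  have hfin : (δ '' (Z : Set B)).Finite := (Z.finite_toSet.image _)
  calc Module.finrank (B ⧸ q) N = Module.finrank (B ⧸ q) U := by rw [htop, finrank_top]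
    _ ≤ hfin.toFinset.card := by
        have h := finrank_span_finset_le_card (R := B ⧸ q) (M := N) hfin.toFinset
        rwa [Set.Finite.coe_toFinset] at h
    _ ≤ Z.card := by
        rw [← Set.ncard_eq_toFinset_card _ hfin, ← Set.ncard_coe_finset Z]
        exact Set.ncard_image_le Z.finite_toSet
    _ ≤ G.card := Finset.card_image_le
    _ ≤ n := hGc

theorem core {K : Type u} [Field K] {A : Type u} [CommRing A] [Algebra K A] [Algebra.FiniteType K A]
    (L B : Type u) [Field L] [IsAlgClosed L] [Algebra K L] [Algebra.IsAlgebraic K L]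
    [CommRing B] [IsDomain B] [Algebra A B] [Algebra L B] [Algebra K B]
    [IsScalarTower K A B] [IsScalarTower K L B] [Algebra.IsPushout K L A B]
    (hhyp : ∀ (q : Ideal B) [q.IsPrime],
      (Module.finrank (ResidueField (Localization.AtPrime q))
          (CotangentSpace (Localization.AtPrime q)) : ℕ∞) ≤ q.height + 1)
    (d : ℕ) (hd : ringKrullDim A = d) (p : Ideal A) [p.IsPrime] :
    ∃ s : Finset (LocalizedModule p.primeCompl (KaehlerDifferential K A)),
      s.card ≤ d + 1 ∧
        Submodule.span (Localization.AtPrime p) (s : Set (LocalizedModule p.primeCompl (KaehlerDifferential K A))) = ⊤ := by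
  classical
  obtain ⟨m, hm, hpm⟩ := Ideal.exists_le_maximal p (Ideal.IsPrime.ne_top ‹_›)
  haveI : Algebra.IsPushout K A L B := Algebra.IsPushout.symm inferInstance
  haveI : Algebra.IsIntegral K L := Algebra.IsAlgebraic.isIntegral
  haveI : Algebra.IsIntegral A B := by
    haveI : Algebra.IsIntegral A (A ⊗[K] L) := inferInstance
    exact ⟨fun b => by
      obtain ⟨x, rfl⟩ := (Algebra.IsPushout.equiv K A L B).surjective b
      exact (Algebra.IsIntegral.isIntegral (R := A) x).map (Algebra.IsPushout.equiv K A L B).toAlgHom⟩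
  haveI : Algebra.FiniteType L B :=
    Algebra.FiniteType.of_surjective (Algebra.IsPushout.equiv K L A B).toAlgHom
      (Algebra.IsPushout.equiv K L A B).surjective
  haveI : IsNoetherianRing B := Algebra.FiniteType.isNoetherianRing L B
  haveI : Module.FaithfullyFlat A B :=
    Module.FaithfullyFlat.of_linearEquiv A (A ⊗[K] L)
      (Algebra.IsPushout.equiv K A L B).toLinearEquiv.symm
  obtain ⟨⟨q, hqp⟩, hq⟩ := PrimeSpectrum.comap_surjective_of_faithfullyFlat (A := A) (B := B) ⟨m, hm.isPrime⟩
  have hqm : q.comap (algebraMap A B) = m := congrArg PrimeSpectrum.asIdeal hq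
  haveI : q.IsMaximal := Ideal.isMaximal_of_isIntegral_of_isMaximal_comap q (by
    show (q.comap (algebraMap A B)).IsMaximal
    rw [hqm]; exact hm)
  haveI := hm
  letI : Field (A ⧸ m) := Ideal.Quotient.field m
  letI : Field (B ⧸ q) := Ideal.Quotient.field q
  -- the residue field is `L`
  have hrat : ∀ b : B, ∃ c : L, b - algebraMap L B c ∈ q := by
    intro b
    haveI : Algebra.FiniteType L (B ⧸ q) :=
      Algebra.FiniteType.of_surjective (Ideal.Quotient.mkₐ L q) Ideal.Quotient.mk_surjective
    haveI : Module.Finite L (B ⧸ q) := finite_of_finite_type_of_isJacobsonRing L (B ⧸ q)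
    haveI : Algebra.IsIntegral L (B ⧸ q) := inferInstance
    obtain ⟨c, hc⟩ := (IsAlgClosed.algebraMap_bijective_of_isIntegral (k := L) (K := B ⧸ q)).2
      (Ideal.Quotient.mk q b)
    refine ⟨c, Ideal.Quotient.eq.1 ?_⟩
    rw [← hc]
    rfl
  have hht : q.height ≤ (d : ℕ∞) := by
    refine le_trans (Groth.Agent.Lib.Dim.Integral.height_le_height_under (R := A) q) ?_
    have h := (q.comap (algebraMap A B)).height_le_ringKrullDim_of_ne_top (by rw [hqm]; exact hm.ne_top)
    rw [hd] at h
    exact WithBot.coe_le_coe.1 h
  have hn : Module.finrank (ResidueField (Localization.AtPrime q))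
      (CotangentSpace (Localization.AtPrime q)) ≤ d + 1 := by
    have h := (hhyp q).trans (add_le_add hht le_rfl)
    exact_mod_cast h
  have hB := span_fibre q hrat (d + 1) hn
  -- descend to `A ⧸ m`
  letI : Algebra (A ⧸ m) (B ⧸ q) := (Ideal.quotientMap q (algebraMap A B) (le_of_eq hqm.symm)).toAlgebra
  haveI : IsScalarTower A (A ⧸ m) (B ⧸ q) := IsScalarTower.of_algebraMap_eq fun _ => rfl
  let eB : (B ⧸ q) ⊗[B] KaehlerDifferential L B ≃ₗ[B ⧸ q]
      (B ⧸ q) ⊗[A ⧸ m] ((A ⧸ m) ⊗[A] KaehlerDifferential K A) :=
    ((AlgebraTensorModule.congr (LinearEquiv.refl (B ⧸ q) (B ⧸ q))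
        (KaehlerDifferential.tensorKaehlerEquiv K L A B).symm).trans
      (AlgebraTensorModule.cancelBaseChange A B (B ⧸ q) (B ⧸ q) (KaehlerDifferential K A))).trans
      (AlgebraTensorModule.cancelBaseChange A (A ⧸ m) (B ⧸ q) (B ⧸ q) (KaehlerDifferential K A)).symm
  have hc : Module.finrank (A ⧸ m) ((A ⧸ m) ⊗[A] KaehlerDifferential K A) ≤ d + 1 := by
    rw [eB.finrank_eq, Module.finrank_baseChange] at hB
    exact hB
  -- lift a basis and apply Nakayama
  let bs := Module.finBasis (A ⧸ m) ((A ⧸ m) ⊗[A] KaehlerDifferential K A)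
  have hsur : Function.Surjective fun w : KaehlerDifferential K A => (1 : A ⧸ m) ⊗ₜ[A] w := by
    intro x
    induction x using TensorProduct.induction_on with
    | zero => exact ⟨0, by simp⟩
    | add x y hx hy =>
      obtain ⟨a, ha⟩ := hx
      obtain ⟨b, hb⟩ := hy
      exact ⟨a + b, by simp [TensorProduct.tmul_add, ← ha, ← hb]⟩
    | tmul r w =>
      obtain ⟨a, rfl⟩ := Ideal.Quotient.mk_surjective r
      exact ⟨a • w, by
        show (1 : A ⧸ m) ⊗ₜ[A] (a • w) = _
        rw [← TensorProduct.smul_tmul, Algebra.smul_def, Ideal.Quotient.algebraMap_eq, mul_one]⟩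
  choose lft hlft using fun i => hsur (bs i)
  haveI : Algebra.EssFiniteType K A := inferInstance
  let Uz : Submodule A (KaehlerDifferential K A) := Submodule.span A (Set.range lft)
  have hmk : ∀ w : KaehlerDifferential K A, w ∈ Uz ⊔ m • ⊤ := by
    intro w
    choose a ha using fun i => Ideal.Quotient.mk_surjective (I := m) (bs.repr ((1 : A ⧸ m) ⊗ₜ[A] w) i)
    have h0 : (1 : A ⧸ m) ⊗ₜ[A] (w - ∑ i, a i • lft i) = 0 := by
      rw [TensorProduct.tmul_sub, TensorProduct.tmul_sum, sub_eq_zero]
      conv_lhs => rw [← bs.sum_repr ((1 : A ⧸ m) ⊗ₜ[A] w)]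
      refine Finset.sum_congr rfl fun i _ => ?_
      rw [← ha i, ← hlft i, TensorProduct.smul_tmul', smul_eq_mul, mul_one, ← TensorProduct.smul_tmul,
        Algebra.smul_def, Ideal.Quotient.algebraMap_eq, mul_one]
    have h1 := congrArg (TensorProduct.quotTensorEquivQuotSMul (KaehlerDifferential K A) m) h0
    rw [map_zero, ← map_one (Ideal.Quotient.mk m), TensorProduct.quotTensorEquivQuotSMul_mk_tmul,
      one_smul, Submodule.Quotient.mk_eq_zero] at h1
    refine Submodule.mem_sup.2 ⟨∑ i, a i • lft i, ?_, w - ∑ i, a i • lft i, h1, by abel⟩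
    exact Submodule.sum_mem _ fun i _ => Uz.smul_mem _ (Submodule.subset_span ⟨i, rfl⟩)
  haveI : Module.Finite A (KaehlerDifferential K A ⧸ Uz) := inferInstance
  obtain ⟨r, hr1, hr0⟩ := Submodule.exists_sub_one_mem_and_smul_eq_zero_of_fg_of_le_smul m
    (⊤ : Submodule A (KaehlerDifferential K A ⧸ Uz)) Module.Finite.fg_top (by
      intro x _
      obtain ⟨w, rfl⟩ := Submodule.Quotient.mk_surjective _ x
      obtain ⟨u, hu, v, hv, rfl⟩ := Submodule.mem_sup.1 (hmk w)
      rw [Submodule.Quotient.mk_add, (Submodule.Quotient.mk_eq_zero Uz).2 hu, zero_add]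
      have h2 : Uz.mkQ v ∈ (m • (⊤ : Submodule A (KaehlerDifferential K A))).map Uz.mkQ :=
        Submodule.mem_map_of_mem hv
      rw [Submodule.map_smul'', Submodule.map_top, Submodule.range_mkQ] at h2
      exact h2)
  have hrp : r ∉ p := fun h => hm.ne_top ((Ideal.eq_top_iff_one m).2 (by
    simpa using sub_mem (hpm h) hr1))
  let f := LocalizedModule.mkLinearMap p.primeCompl (KaehlerDifferential K A)
  refine ⟨Finset.univ.image fun i => f (lft i), ?_, ?_⟩
  · refine Finset.card_image_le.trans ?_
    rw [Finset.card_univ, Fintype.card_fin]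
    exact hc
  rw [eq_top_iff]
  intro y _
  obtain ⟨⟨w, s⟩, rfl⟩ := IsLocalizedModule.mk'_surjective p.primeCompl f y
  have hrw : r • w ∈ Uz := by
    rw [← Submodule.Quotient.mk_eq_zero, Submodule.Quotient.mk_smul]
    exact hr0 _ Submodule.mem_top
  have hmem : f (r • w) ∈ Submodule.span (Localization.AtPrime p)
      ((Finset.univ.image fun i => f (lft i) : Finset _) : Set (LocalizedModule p.primeCompl (KaehlerDifferential K A))) := by
    have : ∀ u ∈ Uz, f u ∈ Submodule.span (Localization.AtPrime p)
        ((Finset.univ.image fun i => f (lft i) : Finset _) : Set (LocalizedModule p.primeCompl (KaehlerDifferential K A))) := by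
      intro u hu
      induction hu using Submodule.span_induction with
      | mem x hx =>
        obtain ⟨i, rfl⟩ := hx
        exact Submodule.subset_span (by simp)
      | zero => simp
      | add x y _ _ hx hy => rw [map_add]; exact add_mem hx hy
      | smul a x _ hx =>
        rw [map_smul, ← IsScalarTower.algebraMap_smul (Localization.AtPrime p) a (f x)]
        exact Submodule.smul_mem _ _ hx
    exact this _ hrw
  have hy : Function.uncurry (IsLocalizedModule.mk' f) (w, s) =
      IsLocalization.mk' (Localization.AtPrime p) (1 : A) ((⟨r, hrp⟩ : p.primeCompl) * s) • f (r • w) := by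
    show IsLocalizedModule.mk' f w s = _
    rw [← IsLocalizedModule.mk'_one p.primeCompl f (r • w), IsLocalizedModule.mk'_smul_mk', mul_one, one_smul]
    exact (IsLocalizedModule.mk'_cancel_left f w ⟨r, hrp⟩ s).symm
  rw [hy]
  exact Submodule.smul_mem _ _ hmem

/-- Let K be a field with algebraic closure K̄ and Z = Spec A an affine scheme of finite type over K of
dimension d whose geometric fibre Spec (K̄ ⊗_K A) is integral with at most hypersurface
singularities (at every prime the embedding dimension of the local ring, the dimension of 𝔪/𝔪² over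
the residue field, is at most the height of the prime plus one). Then for every prime p of A the
(Ω_{A/K})_p is generated over A_p by at most d + 1 elements. (The published statement is for any Z
of finite type over K; the assertion is local on Z and the hypotheses pass to affine opens.) -/
theorem result
    {K : Type u} [Field K] {A : Type u} [CommRing A] [Algebra K A] [Algebra.FiniteType K A]
    [IsDomain (TensorProduct K (AlgebraicClosure K) A)]
    (hhyp : ∀ (q : Ideal (TensorProduct K (AlgebraicClosure K) A)) [q.IsPrime],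
      (Module.finrank (IsLocalRing.ResidueField (Localization.AtPrime q))
          (IsLocalRing.CotangentSpace (Localization.AtPrime q)) : ℕ∞) ≤ q.height + 1)
    (d : ℕ) (hd : ringKrullDim A = d) (p : Ideal A) [p.IsPrime] :
    ∃ s : Finset (LocalizedModule p.primeCompl (KaehlerDifferential K A)),
      s.card ≤ d + 1 ∧ Submodule.span (Localization.AtPrime p) (s : Set (LocalizedModule p.primeCompl (KaehlerDifferential K A))) = ⊤ := by
  classical
  letI : Algebra A (TensorProduct K (AlgebraicClosure K) A) := Algebra.TensorProduct.rightAlgebra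
  exact core (AlgebraicClosure K) (TensorProduct K (AlgebraicClosure K) A) hhyp d hd p


end Groth.Agent.S17877
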