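import Groth.Statements.S17880
import Groth.Agent.Lib.Lim.Approx.Rel
-- import your own Groth.Agent.* helpers here

set_option autoImplicit false
universe u
open CategoryTheory AlgebraicGeometry
open Lim

namespace Groth.Agent.S17880
set_option backward.isDefEq.respectTransparency false
open CategoryTheory.Limits Opposite

/-- Let f : Y → X be a morphism of schemes with X and Y quasi-compact and quasi-separated. Then f is the
composite of an affine morphism Y → Z and a morphism Z → X of finite presentation (locally of finite
presentation, quasi-compact and quasi-separated); if f is separated, Z → X can in addition be chosen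
separated. Both assertions are packaged in one existential. -/
theorem result {X Y : Scheme.{u}} (f : Y ⟶ X)
    [CompactSpace X] [QuasiSeparatedSpace X] [CompactSpace Y] [QuasiSeparatedSpace Y] :
    ∃ (Z : Scheme.{u}) (g : Y ⟶ Z) (h : Z ⟶ X), IsAffineHom g ∧ LocallyOfFinitePresentation h ∧
      QuasiCompact h ∧ QuasiSeparated h ∧ (IsSeparated f → IsSeparated h) ∧ g ≫ h = f := by
  obtain ⟨R⟩ := Groth.Agent.Lib.Lim.Approx.Rel.exists_relApprox f
  obtain ⟨k⟩ := R.ne
  by_cases hf : IsSeparated f
  · have : IsSeparated (R.cone.π.app (op k) ≫ R.t.app (op k)) := by rw [R.w]; exact hf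
    obtain ⟨i, hi⟩ := Groth.Agent.Lib.Lim.Valuative.exists_isSeparated R.isLimit R.t (op k)
    exact ⟨_, R.π.app i, R.t.app i, isAffineHom_π_app R.D R.cone R.isLimit i, R.lfp _, R.qc _,
      R.qs _, fun _ => hi, R.w _⟩
  · exact ⟨_, R.π.app (op k), R.t.app (op k), isAffineHom_π_app R.D R.cone R.isLimit _, R.lfp _,
      R.qc _, R.qs _, fun h => absurd h hf, R.w _⟩

end Groth.Agent.S17880
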