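import Groth.Statements.S17879
import Groth.Agent.S17880
import Groth.Agent.S0384
import Groth.Agent.S8853
import Groth.Agent.H22.StrictTransform.Exists

set_option autoImplicit false
universe u
open CategoryTheory AlgebraicGeometry
open Lim

namespace Groth.Agent.S17879

/-- Let f : Y → X be a morphism of schemes with X and Y quasi-compact and quasi-separated. Then f is
separated if and only if it is the composite of an affine morphism Y → Z and a proper morphism Z →
X, for some scheme Z. -/
theorem result {X Y : Scheme.{u}} (f : Y ⟶ X)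
    [CompactSpace X] [QuasiSeparatedSpace X] [CompactSpace Y] [QuasiSeparatedSpace Y] :
    IsSeparated f ↔
      ∃ (Z : Scheme.{u}) (g : Y ⟶ Z) (h : Z ⟶ X), IsAffineHom g ∧ IsProper h ∧ g ≫ h = f := by
  constructor
  · intro hf
    obtain ⟨Z, g, h, hg, hlfp, hqc, hqs, hsep, hgh⟩ := Groth.Agent.S17880.result f
    haveI := hsep hf
    haveI := hg
    haveI : LocallyOfFiniteType h := inferInstance
    obtain ⟨Xc, j, p, hj, hjq, hp, hjp⟩ := Groth.Agent.S0384.result h
    haveI := hj; haveI := hjq; haveI := hp
    haveI : CompactSpace Xc := QuasiCompact.compactSpace_of_compactSpace p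
    haveI : QuasiSeparatedSpace Xc := quasiSeparatedSpace_of_quasiSeparated p
    haveI : CompactSpace Z := QuasiCompact.compactSpace_of_compactSpace h
    obtain ⟨J, hJ, hJs⟩ := Groth.Agent.Lib.Flat55.GenericStrataScheme.exists_isFG_support j.opensRange
      (isCompact_range j.continuous)
    let c := Groth.Agent.Lib.BlowUpExists.blProj J
    have hc : BlowUp.IsBlowUp c J := Groth.Agent.H22.BlowUpAmple.isBlowUp_blProj J
    haveI : IsProper c := Groth.Agent.Lib.BlowUpExists.isProper_blProj hJ
    haveI := Groth.Agent.Lib.Ideal.BlowUp.isIso_off_center hc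
    have hr : Set.range j ⊆ Set.range (Groth.Agent.H22.StrictTransform.off J).ι := by
      rw [Scheme.Opens.range_ι]
      intro z hz hzs
      exact hJs.le hzs hz
    let j₀ := IsOpenImmersion.lift (Groth.Agent.H22.StrictTransform.off J).ι j hr
    have hj₀ : j₀ ≫ (Groth.Agent.H22.StrictTransform.off J).ι = j := IsOpenImmersion.lift_fac _ _ _
    have hsurj : Function.Surjective j₀ := by
      intro y
      have hy : y.1 ∈ Set.range j := by
        by_contra hn
        exact y.2 (hJs.ge hn)
      obtain ⟨z, hz⟩ := hy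
      refine ⟨z, Subtype.ext ?_⟩
      show (Groth.Agent.H22.StrictTransform.off J).ι (j₀ z) = _
      rw [← Scheme.Hom.comp_apply, hj₀, hz]
    haveI : IsOpenImmersion (j₀ ≫ (Groth.Agent.H22.StrictTransform.off J).ι) := by rw [hj₀]; infer_instance
    haveI : IsOpenImmersion j₀ := IsOpenImmersion.of_comp j₀ (Groth.Agent.H22.StrictTransform.off J).ι
    haveI : IsIso j₀ := (isIso_iff_isOpenImmersion_and_surjective j₀).2 ⟨inferInstance, ⟨hsurj⟩⟩
    haveI : IsAffineHom (c ⁻¹ᵁ Groth.Agent.H22.StrictTransform.off J).ι := by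
      have e : c ⁻¹ᵁ Groth.Agent.H22.StrictTransform.off J =
          Groth.Agent.H22.StrictTransform.off (J.comap c) := by
        ext z
        show c z ∉ J.support ↔ z ∉ (J.comap c).support
        rw [Scheme.IdealSheafData.support_comap]
        rfl
      rw [e]
      exact Groth.Agent.S8853.result _ fun x _ => by
        obtain ⟨U, hxU, t, -, ht⟩ := hc.1 x
        exact ⟨U, hxU, t, ht⟩
    refine ⟨_, g ≫ j₀ ≫ CategoryTheory.inv (c ∣_ Groth.Agent.H22.StrictTransform.off J) ≫
      (c ⁻¹ᵁ Groth.Agent.H22.StrictTransform.off J).ι, c ≫ p, inferInstance, inferInstance, ?_⟩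
    simp only [Category.assoc]
    rw [← morphismRestrict_ι_assoc, IsIso.inv_hom_id_assoc, reassoc_of% hj₀, hjp, hgh]
  · rintro ⟨Z, g, h, hg, hh, rfl⟩
    haveI := hg; haveI := hh
    infer_instance

end Groth.Agent.S17879
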