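import Groth.Statements.S17881
import Mathlib

set_option autoImplicit false
universe u
open CAlg

namespace Groth.Agent.S17881

/-- Let O be a subring of a nontrivial commutative ring A. The following are equivalent: (i) A is a
local ring, every non-unit of A belongs to O, and for every unit u of A one of u, u⁻¹ belongs to O —
equivalently O is the preimage in the local ring A of a valuation ring of the residue field of A,
which makes O a semi-valuation ring with semi-fraction ring A; (ii) for all f, g in A generating the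
unit ideal, either f ∈ gO or g ∈ fO. (A is taken nontrivial: over the zero ring (ii) holds and (i)
fails.) -/
theorem result (A : Type u) [CommRing A] [Nontrivial A]
    (O : Subring A) :
    (IsLocalRing A ∧ (∀ a : A, ¬ IsUnit a → a ∈ O) ∧ (∀ u : Aˣ, (u : A) ∈ O ∨ ((u⁻¹ : Aˣ) : A) ∈ O)) ↔
      ∀ f g : A, IsCoprime f g → (∃ o ∈ O, f = g * o) ∨ (∃ o ∈ O, g = f * o) := by
  constructor
  · rintro ⟨hloc, hn, hu⟩ f g ⟨s, t, hst⟩
    haveI := hloc
    rcases IsLocalRing.isUnit_or_isUnit_of_add_one hst with h | h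
    · have hf : IsUnit f := isUnit_of_mul_isUnit_right h
      obtain ⟨u, rfl⟩ := hf
      by_cases hg : IsUnit g
      · obtain ⟨v, rfl⟩ := hg
        rcases hu (v⁻¹ * u) with h' | h'
        · exact Or.inl ⟨_, h', by simp [← mul_assoc]⟩
        · exact Or.inr ⟨_, h', by simp [← mul_assoc]⟩
      · refine Or.inr ⟨(↑u⁻¹ : A) * g, hn _ ?_, by simp⟩
        exact fun hc => hg (isUnit_of_mul_isUnit_right hc)
    · have hg : IsUnit g := isUnit_of_mul_isUnit_right h
      obtain ⟨v, rfl⟩ := hg
      by_cases hf : IsUnit f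
      · obtain ⟨u, rfl⟩ := hf
        rcases hu (v⁻¹ * u) with h' | h'
        · exact Or.inl ⟨_, h', by simp [← mul_assoc]⟩
        · exact Or.inr ⟨_, h', by simp [← mul_assoc]⟩
      · refine Or.inl ⟨(↑v⁻¹ : A) * f, hn _ ?_, by simp⟩
        exact fun hc => hf (isUnit_of_mul_isUnit_right hc)
  · intro h
    refine ⟨IsLocalRing.of_isUnit_or_isUnit_one_sub_self fun a => ?_, fun a ha => ?_, fun u => ?_⟩
    · rcases h a (1 - a) ⟨1, 1, by ring⟩ with ⟨o, _, ho⟩ | ⟨o, _, ho⟩
      · exact Or.inr (IsUnit.of_mul_eq_one (1 + o) (by rw [mul_add, ← ho]; ring))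
      · exact Or.inl (IsUnit.of_mul_eq_one (1 + o) (by rw [mul_add, ← ho]; ring))
    · rcases h a 1 isCoprime_one_right with ⟨o, hO, ho⟩ | ⟨o, _, ho⟩
      · rw [ho, one_mul]; exact hO
      · exact absurd (IsUnit.of_mul_eq_one o ho.symm) ha
    · rcases h (u : A) 1 isCoprime_one_right with ⟨o, hO, ho⟩ | ⟨o, hO, ho⟩
      · left; rw [ho, one_mul]; exact hO
      · right
        have : ((u⁻¹ : Aˣ) : A) = o := by
          rw [← mul_one ((u⁻¹ : Aˣ) : A), ho, ← mul_assoc, Units.inv_mul, one_mul]
        rw [this]; exact hO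

end Groth.Agent.S17881
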