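import Groth.Statements.S17882
import Mathlib.LinearAlgebra.Matrix.Adjugate
import Mathlib.LinearAlgebra.LinearIndependent.Defs

set_option autoImplicit false
universe u
open CAlg

namespace Groth.Agent.S17882

/-- Let B be a commutative ring, r ≥ 1, N a finitely generated submodule of B^r, and n_1, …, n_r ∈ N.
Suppose the determinant of the matrix with rows n_1, …, n_r is a nonzerodivisor of B and that the
determinant of every matrix whose rows lie in N is a multiple of it (the image of the top exterior
power of N in that of B^r ≅ B is the principal ideal generated by n_1 ∧ ⋯ ∧ n_r, a nonzerodivisor).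
Then n_1, …, n_r are linearly independent over B and span N: N is free of rank r with this basis. -/
theorem result (B : Type u) [CommRing B] (r : ℕ) (hr : 0 < r)
    (N : Submodule B (Fin r → B)) (hN : N.FG) (n : Fin r → (Fin r → B)) (hn : ∀ i, n i ∈ N)
    (hgen : ∀ m : Fin r → (Fin r → B), (∀ i, m i ∈ N) →
      Matrix.det (Matrix.of m) ∈ Ideal.span {Matrix.det (Matrix.of n)})
    (hnzd : Matrix.det (Matrix.of n) ∈ nonZeroDivisors B) :
    LinearIndependent B n ∧ Submodule.span B (Set.range n) = N := by
  set M : Matrix (Fin r) (Fin r) B := Matrix.of n with hM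
  have hli : LinearIndependent B n := by
    rw [Fintype.linearIndependent_iff]
    intro c hc i
    have h : Matrix.vecMul c M = 0 := by
      funext j
      have := congr_fun hc j
      simpa [Matrix.vecMul, dotProduct, hM] using this
    have h2 := congrArg (fun v => Matrix.vecMul v M.adjugate i) h
    simp only [Matrix.vecMul_vecMul, Matrix.mul_adjugate, Matrix.vecMul_smul, Matrix.vecMul_one,
      Matrix.zero_vecMul, Pi.smul_apply, smul_eq_mul, Pi.zero_apply] at h2
    exact (mul_right_mem_nonZeroDivisors_eq_zero_iff hnzd).mp (by rwa [mul_comm] at h2)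
  refine ⟨hli, le_antisymm (Submodule.span_le.mpr (Set.range_subset_iff.mpr hn)) fun v hv => ?_⟩
  have hd : ∀ i, ∃ c, c * M.det = Matrix.cramer M.transpose v i := by
    intro i
    have hcr : Matrix.cramer M.transpose v i = Matrix.det (Matrix.of (Function.update n i v)) := by
      rw [Matrix.cramer_transpose_apply]
      rfl
    rw [hcr]
    refine Ideal.mem_span_singleton'.mp (hgen _ fun j => ?_)
    by_cases hj : j = i
    · subst hj; simpa using hv
    · simpa [Function.update_of_ne hj] using hn j
  choose c hc using hd
  have hsum : v = ∑ i, c i • n i := by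
    funext j
    apply (mul_cancel_left_mem_nonZeroDivisors hnzd).mp
    have h := congr_fun (Matrix.mulVec_cramer M.transpose v) j
    rw [Matrix.det_transpose] at h
    simp only [Matrix.mulVec, dotProduct, Matrix.transpose_apply, ← hc, Pi.smul_apply,
      smul_eq_mul] at h
    rw [← h, Finset.sum_apply, Finset.mul_sum]
    refine Finset.sum_congr rfl fun i _ => ?_
    simp only [hM, Matrix.of_apply, Pi.smul_apply, smul_eq_mul]
    ring
  rw [hsum]
  exact Submodule.sum_mem _ fun i _ => Submodule.smul_mem _ _ (Submodule.subset_span ⟨i, rfl⟩)

end Groth.Agent.S17882
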