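import Groth.Statements.S17885
import Groth.Agent.Lib.Lim.Approx.Rel
import Groth.Agent.Lib.Lim.Existence
-- import your own Groth.Agent.* helpers here

set_option autoImplicit false
universe u
open CategoryTheory AlgebraicGeometry
open Lim

namespace Groth.Agent.S17885
set_option backward.isDefEq.respectTransparency false
open CategoryTheory.Limits Opposite

/-- Let f : Y → X be a morphism of schemes with X and Y quasi-compact and quasi-separated. Then f is
affine if and only if the X-scheme Y is a limit, in the category of schemes over X, of a filtered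
inverse system of X-schemes that are affine and of finite presentation over X. -/
theorem result {X Y : Scheme.{u}} (f : Y ⟶ X)
    [CompactSpace X] [QuasiSeparatedSpace X] [CompactSpace Y] [QuasiSeparatedSpace Y] :
    IsAffineHom f ↔
      ∃ (I : Type u) (_ : SmallCategory I) (_ : IsFiltered I) (D : Iᵒᵖ ⥤ Over X)
        (c : Limits.Cone D) (_ : Limits.IsLimit c),
        (∀ i, IsAffineHom (D.obj i).hom ∧ LocallyOfFinitePresentation (D.obj i).hom) ∧
        Nonempty (c.pt ≅ Over.mk f) := by
  constructor
  · intro hf
    obtain ⟨R⟩ := Groth.Agent.Lib.Lim.Approx.Rel.exists_relApprox f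
    obtain ⟨k⟩ := R.ne
    have : IsAffineHom (R.cone.π.app (op k) ≫ R.t.app (op k)) := by rw [R.w]; exact hf
    obtain ⟨i, -, hi⟩ := Groth.Agent.Lib.Lim.Eventual.exists_isAffineHom R.t R.isLimit (op k)
    let R' := R.tail i.unop
    exact ⟨R'.K, inferInstance, isFiltered_of_directed_le_nonempty R'.K, R'.overD, R'.overCone,
      R'.isLimitOverCone, fun k' => ⟨hi _ (homOfLE k'.unop.2).op, R'.lfp k'⟩, ⟨Iso.refl _⟩⟩
  · rintro ⟨I, _, _, D, c, hc, hD, ⟨e⟩⟩
    obtain ⟨i⟩ := (IsFiltered.nonempty : Nonempty I)
    have : IsConnected Iᵒᵖ := IsCofiltered.isConnected _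
    have : ∀ {a b : Iᵒᵖ} (g : a ⟶ b), IsAffineHom ((D ⋙ Over.forget X).map g) := fun {a b} g => by
      have := (hD a).1
      have := (hD b).1
      have : IsAffineHom ((D.map g).left ≫ (D.obj b).hom) := by rw [Over.w]; infer_instance
      exact IsAffineHom.of_comp (D.map g).left (D.obj b).hom
    obtain ⟨c', hc', -⟩ := Groth.Agent.Lib.Lim.Existence.exists_isLimit (D ⋙ Over.forget X)
    have : HasLimit (D ⋙ Over.forget X) := ⟨⟨⟨c', hc'⟩⟩⟩
    have : PreservesLimit D (Over.forget X) := preservesLimit_of_createsLimit_and_hasLimit D _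
    have h1 : IsAffineHom ((c.π.app (op i)).left) :=
      isAffineHom_π_app _ _ (isLimitOfPreserves (Over.forget X) hc) (op i)
    have := (hD (op i)).1
    have h2 : f = e.inv.left ≫ (c.π.app (op i)).left ≫ (D.obj (op i)).hom := by
      rw [Over.w (c.π.app (op i))]
      exact (Over.w e.inv).symm
    rw [h2]
    infer_instance

end Groth.Agent.S17885
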