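import Groth.Statements.S17886
import Groth.Agent.Lib.Ample.RelAmple

set_option autoImplicit false
universe u
open CategoryTheory AlgebraicGeometry
open FlatMor

namespace Groth.Agent.S17886

theorem exists_dense_affine {X : Scheme.{u}} [IsNoetherian X] (x : X) :
    ∃ U : X.Opens, x ∈ U ∧ IsAffineOpen U ∧ Dense (U : Set X) := by
  obtain ⟨U₀, hU₀, hx₀, -⟩ := exists_isAffineOpen_mem_and_subset (X := X) (x := x) (U := ⊤) trivial
  haveI : WellFoundedGT X.Opens := inferInstance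
  obtain ⟨U, ⟨hxU, hU⟩, hmax⟩ := exists_maximal_of_wellFoundedGT
    (fun U : X.Opens => x ∈ U ∧ IsAffineOpen U) ⟨U₀, hx₀, hU₀⟩
  refine ⟨U, hxU, hU, ?_⟩
  rw [dense_iff_inter_open]
  intro O hO hne
  by_contra hempty
  obtain ⟨z, hz⟩ := hne
  obtain ⟨V, hV, hzV, hVO⟩ := exists_isAffineOpen_mem_and_subset (X := X) (x := z) (U := ⟨O, hO⟩) hz
  have hd : Disjoint U V := by
    rw [disjoint_iff_inf_le]
    intro y hy
    exact absurd ⟨y, hVO hy.2, hy.1⟩ hempty
  have hsup : IsAffineOpen (U ⊔ V) := by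
    rw [sup_eq_iSup]
    refine IsAffineOpen.iSup_of_disjoint (fun b => by cases b <;> assumption) ?_
    intro a b hab
    cases a <;> cases b
    · exact absurd rfl hab
    · exact hd.symm
    · exact hd
    · exact absurd rfl hab
  have hle : U ⊔ V ≤ U := hmax ⟨Or.inl hxU, hsup⟩ le_sup_left
  exact hempty ⟨z, hz, hle (Or.inr hzV)⟩

theorem isQuasiProjective_affine {S X : Scheme.{u}} (f : X ⟶ S) [LocallyOfFiniteType f]
    {U : X.Opens} (hU : IsAffineOpen U) [QuasiCompact (U.ι ≫ f)] :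
    RelProj.IsQuasiProjective (U.ι ≫ f) := by
  refine ⟨inferInstance, inferInstance, Coh.structureModule _, ?_⟩
  rw [← Groth.Agent.Lib.Ample.RelAmple.isQuasiAffine_iff_isRelAmple]
  refine ⟨inferInstance, fun V hV => ?_⟩
  haveI : IsAffine (U : Scheme.{u}) := hU
  haveI : CompactSpace ((U.ι ≫ f) ⁻¹ᵁ V : Scheme.{u}) :=
    isCompact_iff_compactSpace.1 (QuasiCompact.isCompact_preimage (f := U.ι ≫ f) _ V.2 hV.isCompact)
  exact Scheme.IsQuasiAffine.of_isImmersion ((U.ι ≫ f) ⁻¹ᵁ V).ι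

theorem result {S X : Scheme.{u}} (f : X ⟶ S)
    [IsNoetherian S] [IsSeparated f] [QuasiCompact f] [LocallyOfFiniteType f] :
    ∃ (n : ℕ) (U : Fin n → X.Opens), (⨆ i, U i) = ⊤ ∧
      ∀ i, IsAffineOpen (U i) ∧ Dense ((U i : Set X)) ∧ RelProj.IsQuasiProjective ((U i).ι ≫ f) := by
  haveI : IsLocallyNoetherian X := LocallyOfFiniteType.isLocallyNoetherian f
  haveI : CompactSpace X := QuasiCompact.compactSpace_of_compactSpace f
  haveI : IsNoetherian X := {}
  choose U hxU hU hd using fun x : X => exists_dense_affine x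
  obtain ⟨t, ht⟩ := isCompact_univ.elim_finite_subcover (fun x => (U x : Set X))
    (fun x => (U x).isOpen) fun x _ => Set.mem_iUnion.2 ⟨x, hxU x⟩
  refine ⟨t.card, fun i => U (t.equivFin.symm i).1, top_le_iff.1 fun y _ => ?_, fun i => ⟨hU _, hd _, ?_⟩⟩
  · obtain ⟨z, hz, hyz⟩ := Set.mem_iUnion₂.1 (ht (Set.mem_univ y))
    exact TopologicalSpace.Opens.mem_iSup.2 ⟨t.equivFin ⟨z, hz⟩, by simpa using hyz⟩
  · exact isQuasiProjective_affine f (hU _)

end Groth.Agent.S17886
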