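import Groth.Statements.S17887
import Groth.Agent.Lib.Ideal.BlowUp
import Groth.Agent.Lib.AlgSpDiv.Compl
import Groth.Agent.Lib.SchDense.Basic
import Mathlib.AlgebraicGeometry.Noetherian

set_option autoImplicit false
universe u
open CategoryTheory AlgebraicGeometry
open BlowUp

namespace Groth.Agent.S17887

/-- Let X be a Noetherian scheme, U ⊆ X an open subscheme that is schematically dense in X, I a
quasi-coherent ideal sheaf on X whose support does not meet U, and π : X' → X a blowing-up of X
along I. Then π⁻¹(U) is schematically dense in X'. -/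
theorem result {X X' : Scheme.{u}} [IsNoetherian X]
    (U : X.Opens) [IsSchemeTheoreticallyDominant U.ι] (𝓘 : X.IdealSheafData)
    (hU : Disjoint (𝓘.support : Set X) (U : Set X)) (π : X' ⟶ X) (hπ : BlowUp.IsBlowUp π 𝓘) :
    IsSchemeTheoreticallyDominant (π ⁻¹ᵁ U).ι := by
  set V : X.Opens := 𝓘.support.compl with hV
  have hUV : U ≤ V := fun x hx hxI => Set.disjoint_left.mp hU hxI hx
  haveI hiso : IsIso (π ∣_ V) := Groth.Agent.Lib.Ideal.BlowUp.isIso_off_center hπ
  have hpre : π ⁻¹ᵁ V = (𝓘.comap π).support.compl := by
    ext x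
    simp [hV, Scheme.IdealSheafData.support_comap]
  haveI h1 : IsSchemeTheoreticallyDominant (π ⁻¹ᵁ V).ι := by
    rw [hpre]
    exact Groth.Agent.Lib.SchDense.Basic.std_of_isSchematicallyDense
      (Groth.Agent.Lib.AlgSpDiv.isSchematicallyDense_compl_support hπ.1)
  haveI : QuasiCompact U.ι := inferInstance
  have h2 : IsPullback (𝟙 (U : Scheme.{u})) (X.homOfLE hUV) U.ι V.ι := by
    refine (IsPullback.of_hasPullback U.ι V.ι).of_iso ?_ (Iso.refl _) (Iso.refl _) (Iso.refl _) ?_ ?_ ?_ ?_
    · exact
        { hom := Limits.pullback.fst _ _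
          inv := Limits.pullback.lift (𝟙 _) (X.homOfLE hUV) (by simp)
          hom_inv_id := by
            apply Limits.pullback.hom_ext
            · exact (Category.assoc _ _ _).trans (((Limits.pullback.fst _ _) ≫= Limits.pullback.lift_fst _ _ _).trans ((Category.comp_id _).trans (Category.id_comp _).symm))
            · rw [← cancel_mono V.ι]
              simp only [Category.assoc, Category.id_comp]
              rw [Limits.pullback.lift_snd_assoc, Scheme.homOfLE_ι, Limits.pullback.condition]
          inv_hom_id := Limits.pullback.lift_fst _ _ _ }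
    · simp
    · rw [← cancel_mono V.ι]
      simp only [Category.assoc, Iso.refl_hom, Category.comp_id, Scheme.homOfLE_ι]
      exact Limits.pullback.condition.symm
    · simp
    · simp
  haveI h3 : IsSchemeTheoreticallyDominant (X.homOfLE hUV) :=
    IsSchemeTheoreticallyDominant.of_isPullback h2
  haveI : QuasiCompact (X.homOfLE hUV) := MorphismProperty.of_isPullback h2 inferInstance
  have hle : π ⁻¹ᵁ U ≤ π ⁻¹ᵁ V := fun x hx => hUV hx
  have h4 : IsPullback (π ∣_ U) (X'.homOfLE hle) (X.homOfLE hUV) (π ∣_ V) := by
    refine IsPullback.of_bot ?_ ?_ (isPullback_morphismRestrict π V)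
    · simpa using isPullback_morphismRestrict π U
    · rw [← cancel_mono V.ι]
      simp
  haveI h5 : IsSchemeTheoreticallyDominant (X'.homOfLE hle) :=
    IsSchemeTheoreticallyDominant.of_isPullback h4
  rw [← X'.homOfLE_ι hle]
  infer_instance

end Groth.Agent.S17887
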