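import Groth.Statements.S17889
import Groth.Agent.H22.BlowUpSeparate

set_option autoImplicit false
universe u
open CategoryTheory AlgebraicGeometry TopologicalSpace
open BlowUp

namespace Groth.Agent.S17889

/-- Let X be a Noetherian scheme, X₀ ⊆ X an open subscheme, p : Z → X a morphism of finite type with Z
Noetherian, and F ⊆ X, G ⊆ Z closed subsets with p⁻¹(F ∩ X₀) ∩ G = ∅. Let a be a quasi-coherent
ideal sheaf on X whose support does not meet X₀, which contains the vanishing ideal I_F of F, and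
which is contained in the kernel ideal of V(I_F·O_Z + I_G) → Z → X (the ideal of the
scheme-theoretic image under p of p⁻¹(F) ∩ G). Let π : X' → X be a blowing-up along a, Z' = Z ×_X X'
with projections π' : Z' → Z and p' : Z' → X'. Then p'⁻¹ of the closure in X' of π⁻¹(F ∩ X₀) is
disjoint from the closure in Z' of π'⁻¹(G ∩ p⁻¹(X₀)). Taking a to be that kernel ideal shows such an
a exists. -/
theorem result
    {X Z : Scheme.{u}} [IsNoetherian X] [IsNoetherian Z] (p : Z ⟶ X) [LocallyOfFiniteType p]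
    (X₀ : X.Opens) (F : Closeds X) (G : Closeds Z)
    (hFG : p.base ⁻¹' ((F : Set X) ∩ (X₀ : Set X)) ∩ (G : Set Z) = ∅)
    (𝔞 : X.IdealSheafData) (h₁ : Disjoint (𝔞.support : Set X) (X₀ : Set X))
    (h₂ : Scheme.IdealSheafData.vanishingIdeal F ≤ 𝔞)
    (h₃ : 𝔞 ≤ (((Scheme.IdealSheafData.vanishingIdeal F).comap p ⊔
      Scheme.IdealSheafData.vanishingIdeal G).subschemeι ≫ p).ker)
    {X' : Scheme.{u}} (π : X' ⟶ X) (hπ : BlowUp.IsBlowUp π 𝔞) :
    (Limits.pullback.snd p π).base ⁻¹' closure (π.base ⁻¹' ((F : Set X) ∩ (X₀ : Set X))) ∩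
      closure ((Limits.pullback.fst p π).base ⁻¹' ((G : Set Z) ∩ (p ⁻¹ᵁ X₀ : Set Z))) = ∅ := by
  refine Set.eq_empty_iff_forall_notMem.2 ?_
  rintro z ⟨hzF, hzG⟩
  set p' := Limits.pullback.snd p π
  set π' := Limits.pullback.fst p π
  set J := Scheme.IdealSheafData.vanishingIdeal F
  set IG := Scheme.IdealSheafData.vanishingIdeal G
  obtain ⟨W₁, hyW, f, hf, hEW⟩ := hπ.1 (p' z)
  set P₀ := (W₁.2.primeIdealOf ⟨p' z, hyW⟩).asIdeal with hP₀
  -- the ideal of `F` lies in `f` times the prime of the point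
  have hJp : (J.comap π).ideal W₁ ≤ P₀ * Ideal.span {f} := by
    intro a ha
    have haE : a ∈ (𝔞.comap π).ideal W₁ :=
      Scheme.IdealSheafData.comap_mono (f := π) h₂ W₁ ha
    obtain ⟨c, rfl⟩ := Ideal.mem_span_singleton'.1 (hEW.le haE)
    refine Ideal.mul_mem_mul ?_ (Ideal.mem_span_singleton_self f)
    by_contra hb
    obtain ⟨y', hy'b, hy'Y⟩ := mem_closure_iff.1 hzF _ (X'.basicOpen c).2
      ((Groth.Agent.Lib.Ideal.EffCartier.mem_basicOpen_iff_notMem_prime W₁.2 hyW c).2 hb)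
    have hy'W : y' ∈ W₁.1 := X'.basicOpen_le c hy'b
    have hy'J : y' ∈ (J.comap π).support := by
      simp only [Scheme.IdealSheafData.support_comap]
      show π y' ∈ (J.support : Set X)
      rw [Scheme.IdealSheafData.coe_support_vanishingIdeal]
      exact hy'Y.1
    have hy'E : y' ∉ (𝔞.comap π).support := by
      simp only [Scheme.IdealSheafData.support_comap]
      exact fun h => Set.disjoint_left.1 h₁ h hy'Y.2
    rw [Groth.Agent.Lib.Ideal.Prime.mem_support_iff_le_prime _ W₁ hy'W] at hy'J hy'E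
    rw [hEW, Ideal.span_singleton_le_iff_mem] at hy'E
    exact ((W₁.2.primeIdealOf ⟨y', hy'W⟩).2.mem_or_mem (hy'J ha)).elim
      ((Groth.Agent.Lib.Ideal.EffCartier.mem_basicOpen_iff_notMem_prime W₁.2 hy'W c).1 hy'b) hy'E
  obtain ⟨P, hP, hzP, hPle⟩ := exists_isAffineOpen_mem_and_subset
    (show z ∈ p' ⁻¹ᵁ W₁.1 from hyW)
  have e : P ≤ p' ⁻¹ᵁ W₁.1 := hPle
  have hk : 𝔞.comap p ≤ J.comap p ⊔ IG := by
    rw [← Scheme.IdealSheafData.le_map_iff_comap_le]
    refine h₃.trans_eq ?_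
    rw [Scheme.Hom.ker_comp, Scheme.IdealSheafData.ker_subschemeι]
  have hk' : (𝔞.comap π).comap p' ≤ (J.comap π).comap p' ⊔ IG.comap π' := by
    have h4 : (𝔞.comap p).comap π' ≤ (J.comap p ⊔ IG).comap π' :=
      Scheme.IdealSheafData.comap_mono (f := π') hk
    rw [Scheme.IdealSheafData.comap_sup] at h4
    simp only [← Scheme.IdealSheafData.comap_comp] at h4 ⊢
    rwa [show π' ≫ p = p' ≫ π from Limits.pullback.condition] at h4
  have hk'' := hk' ⟨P, hP⟩
  rw [Scheme.IdealSheafData.ideal_sup, Pi.sup_apply,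
    Groth.Agent.Lib.Ideal.Comap.ideal_comap _ _ W₁ ⟨P, hP⟩ e,
    Groth.Agent.Lib.Ideal.Comap.ideal_comap _ _ W₁ ⟨P, hP⟩ e, hEW] at hk''
  set φ := (p'.appLE W₁.1 P e).hom
  obtain ⟨j₀, hj₀, g₀, hg₀, hsum⟩ := Submodule.mem_sup.1
    (hk'' (Ideal.mem_map_of_mem φ (Ideal.mem_span_singleton_self f)))
  have hj₀' : j₀ ∈ Ideal.map φ P₀ * Ideal.span {φ f} := by
    have h' := Ideal.map_mono (f := φ) hJp hj₀
    rwa [Ideal.map_mul, Ideal.map_span φ {f}, Set.image_singleton] at h'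
  obtain ⟨a, ha, haf⟩ := Ideal.mem_mul_span_singleton.1 hj₀'
  have hpz : Ideal.map φ P₀ ≤ (hP.primeIdealOf ⟨z, hzP⟩).asIdeal := by
    rw [Ideal.map_le_iff_le_comap]
    intro b hb
    rw [Ideal.mem_comap]
    by_contra hbz
    have hzb := (Groth.Agent.Lib.Ideal.EffCartier.mem_basicOpen_iff_notMem_prime hP hzP (φ b)).2 hbz
    rw [show φ b = p'.appLE W₁.1 P e b from rfl, Scheme.basicOpen_appLE] at hzb
    exact (Groth.Agent.Lib.Ideal.EffCartier.mem_basicOpen_iff_notMem_prime W₁.2 hyW b).1 hzb.2 hb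
  have hz1 : z ∈ (Limits.pullback p π).basicOpen (1 - a : Γ(Limits.pullback p π, P)) := by
    rw [Groth.Agent.Lib.Ideal.EffCartier.mem_basicOpen_iff_notMem_prime hP hzP]
    intro h
    exact (hP.primeIdealOf ⟨z, hzP⟩).2.ne_top ((Ideal.eq_top_iff_one _).2 (by
      simpa using add_mem h (hpz ha)))
  obtain ⟨w, hw, hwG, hwX⟩ := mem_closure_iff.1 hzG _ ((Limits.pullback p π).basicOpen _).2 hz1
  have hwP : w ∈ P := (Limits.pullback p π).basicOpen_le _ hw
  have hwg : g₀ ∈ (hP.primeIdealOf ⟨w, hwP⟩).asIdeal := by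
    refine (Groth.Agent.Lib.Ideal.Prime.mem_support_iff_le_prime _ ⟨P, hP⟩ hwP).1 ?_ hg₀
    simp only [Scheme.IdealSheafData.support_comap]
    show π' w ∈ (IG.support : Set Z)
    rw [Scheme.IdealSheafData.coe_support_vanishingIdeal]
    exact hwG
  have h0 : φ f ∈ (hP.primeIdealOf ⟨w, hwP⟩).asIdeal := by
    have hfa : φ f * (1 - a) = g₀ := by
      rw [mul_sub, mul_one, mul_comm, haf, sub_eq_iff_eq_add, add_comm]
      exact hsum.symm
    refine (((hP.primeIdealOf ⟨w, hwP⟩).2.mem_or_mem (hfa ▸ hwg))).resolve_right ?_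
    exact (Groth.Agent.Lib.Ideal.EffCartier.mem_basicOpen_iff_notMem_prime hP hwP _).1 hw
  have hwE : w ∈ ((𝔞.comap π).comap p').support := by
    rw [Groth.Agent.Lib.Ideal.Prime.mem_support_iff_le_prime _ ⟨P, hP⟩ hwP,
      Groth.Agent.Lib.Ideal.Comap.ideal_comap _ _ W₁ ⟨P, hP⟩ e, hEW, Ideal.map_span,
      Set.image_singleton, Ideal.span_singleton_le_iff_mem]
    exact h0
  simp only [Scheme.IdealSheafData.support_comap] at hwE
  refine Set.disjoint_left.1 h₁ hwE ?_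
  show π (p' w) ∈ X₀
  rw [← Scheme.Hom.comp_apply, ← show π' ≫ p = p' ≫ π from Limits.pullback.condition,
    Scheme.Hom.comp_apply]
  exact hwX

end Groth.Agent.S17889
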