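import Groth.Statements.S17899
import Groth.Agent.H20.SemiValuation

set_option autoImplicit false
universe u
open TensorProduct
open CAlg

namespace Groth.Agent.S17899

/-- Let A be a local ring with residue field K, R a valuation ring of K and O ⊆ A the preimage of R
under A → K (so O is a semi-valuation ring with semi-fraction ring A, S = Spec O is glued from U =
Spec A and T = Spec R). Let C be an O-algebra of finite type which is U-admissible (C → A ⊗_O C
injective) and such that A ⊗_O C is flat and of finite presentation over A. Then C is flat and of
finite presentation over O. (The published assertion is more general: the base may be any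
quasi-compact quasi-separated U-admissible scheme over Spec O, and the scheme over it any
quasi-compact quasi-separated admissible scheme. This row is the case of an affine scheme over Spec
O itself, the case in which the published proof carries out its argument.) -/
theorem result
    (A : Type u) [CommRing A] [IsLocalRing A] (R : ValuationSubring (IsLocalRing.ResidueField A))
    (O : Subring A) (hO : O = R.toSubring.comap (IsLocalRing.residue A))
    (C : Type u) [CommRing C] [Algebra ↥O C] [Algebra.FiniteType ↥O C]
    (hadm : Function.Injective (Algebra.TensorProduct.includeRight : C →ₐ[↥O] A ⊗[↥O] C))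
    (hflat : Module.Flat A (A ⊗[↥O] C)) (hfp : Algebra.FinitePresentation A (A ⊗[↥O] C)) :
    Module.Flat ↥O C ∧ Algebra.FinitePresentation ↥O C := by
  subst hO
  refine Groth.Agent.H20.SemiValuation.main Subtype.val_injective (fun x hx => ⟨⟨x, ?_⟩, rfl⟩) (fun a => ?_)
    hadm hflat hfp
  · show IsLocalRing.residue A x ∈ R.toSubring
    rw [(IsLocalRing.residue_eq_zero_iff x).2 hx]
    exact zero_mem _
  · rcases R.mem_or_inv_mem (IsLocalRing.residue A a) with h | h
    · exact Or.inl ⟨⟨a, h⟩, rfl⟩
    · by_cases ha : IsUnit a
      · obtain ⟨u, rfl⟩ := ha
        refine Or.inr ⟨⟨(↑u⁻¹ : A), ?_⟩, u.mul_inv⟩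
        show IsLocalRing.residue A _ ∈ R.toSubring
        rw [map_units_inv]
        exact h
      · refine Or.inl ⟨⟨a, ?_⟩, rfl⟩
        show IsLocalRing.residue A a ∈ R.toSubring
        rw [(IsLocalRing.residue_eq_zero_iff a).2 ha]
        exact zero_mem _

end Groth.Agent.S17899
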