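import Groth.Statements.S17900
import Mathlib.RingTheory.Flat.Equalizer
import Mathlib.RingTheory.Flat.Basic
import Mathlib.LinearAlgebra.TensorProduct.Prod

set_option autoImplicit false
universe u
open TensorProduct
open Pinch

namespace Groth.Agent.S17900

/-- Let R be a commutative ring and let B' → B → A, B' → A' → A be a commutative square of R-algebras
which is a fibre square (B' = B ×_A A') with A' → A surjective. If B, A' and A are flat over R then
B' is flat over R. -/
theorem result (R B' B A' A : Type u) [CommRing R] [CommRing B'] [CommRing B] [CommRing A'] [CommRing A]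
    [Algebra B' B] [Algebra B' A'] [Algebra B A] [Algebra A' A] [Algebra B' A]
    [IsScalarTower B' B A] [IsScalarTower B' A' A]
    [Algebra R B'] [Algebra R B] [Algebra R A'] [Algebra R A]
    [IsScalarTower R B' B] [IsScalarTower R B' A'] [IsScalarTower R B' A] [IsScalarTower R B A] [IsScalarTower R A' A]
    (hsq : EtMil.IsFibreSquare B' B A' A)
    [Module.Flat R B] [Module.Flat R A'] [Module.Flat R A] :
    Module.Flat R B' := by
  obtain ⟨hsurj, hlift⟩ := hsq
  let φ : B' →ₗ[R] B × A' :=
    (IsScalarTower.toAlgHom R B' B).toLinearMap.prod (IsScalarTower.toAlgHom R B' A').toLinearMap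
  let ψ : B × A' →ₗ[R] A :=
    (IsScalarTower.toAlgHom R B A).toLinearMap ∘ₗ LinearMap.fst R B A' -
      (IsScalarTower.toAlgHom R A' A).toLinearMap ∘ₗ LinearMap.snd R B A'
  have hcomm : ∀ x : B', algebraMap B A (algebraMap B' B x) = algebraMap A' A (algebraMap B' A' x) :=
    fun x => by rw [← IsScalarTower.algebraMap_apply B' B A, ← IsScalarTower.algebraMap_apply B' A' A]
  have hφ : Function.Injective φ := fun x y hxy => by
    obtain ⟨z, -, hz⟩ := hlift (algebraMap B' B y) (algebraMap B' A' y) (hcomm y)
    exact (hz x ⟨congr($hxy.1), congr($hxy.2)⟩).trans (hz y ⟨rfl, rfl⟩).symm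
  have hψ : Function.Surjective ψ := fun a => by
    obtain ⟨a', rfl⟩ := hsurj a
    exact ⟨(0, -a'), by simp [ψ]⟩
  have hex : Function.Exact φ ψ := by
    rintro ⟨b, a⟩
    constructor
    · intro hba
      obtain ⟨x, ⟨h1, h2⟩, -⟩ := hlift b a (sub_eq_zero.mp hba)
      exact ⟨x, Prod.ext h1 h2⟩
    · rintro ⟨x, hx⟩
      rw [← hx]
      exact sub_eq_zero.mpr (hcomm x)
  refine Module.Flat.iff_rTensor_preserves_injective_linearMap.mpr fun N N' _ _ _ _ g hg => ?_
  have h1 : Function.Injective (φ.lTensor N) := LinearMap.lTensor_injective_of_exact_of_flat ψ hψ φ hφ hex N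
  have h2 : Function.Injective (g.rTensor (B × A')) := by
    have key : ∀ x, TensorProduct.prodRight R R N' B A' (g.rTensor (B × A') x) =
        Prod.map (g.rTensor B) (g.rTensor A') (TensorProduct.prodRight R R N B A' x) := by
      intro x
      induction x using TensorProduct.induction_on with
      | zero => simp [Prod.map, Prod.mk_zero_zero]
      | tmul n z => simp [Prod.map]
      | add a b ha hb => simp only [map_add, ha, hb]; simp [Prod.map]
    intro x y hxy
    refine (TensorProduct.prodRight R R N B A').injective
      (((Module.Flat.rTensor_preserves_injective_linearMap (M := B) g hg).prodMap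
        (Module.Flat.rTensor_preserves_injective_linearMap (M := A') g hg)) ?_)
    rw [← key, ← key, hxy]
  have h3 : (φ.lTensor N') ∘ₗ (g.rTensor B') = (g.rTensor (B × A')) ∘ₗ (φ.lTensor N) := by
    rw [LinearMap.lTensor_comp_rTensor, LinearMap.rTensor_comp_lTensor]
  have h4 : Function.Injective ((φ.lTensor N') ∘ₗ (g.rTensor B')) := by
    rw [h3]; exact h2.comp h1
  exact Function.Injective.of_comp (f := φ.lTensor N') h4

end Groth.Agent.S17900
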