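import Groth.Statements.S17901
import Groth.Agent.Lib.Ferrand.BaseChangeRing

set_option autoImplicit false
universe u
open TensorProduct
open Pinch

namespace Groth.Agent.S17901

/-- Let R be a commutative ring and let B' → B → A, B' → A' → A be a fibre square of R-algebras (B' = B
×_A A') with A' → A surjective, where B, A' and A are flat over R. Then for every commutative
R-algebra R' the square obtained by applying R' ⊗_R − is again a fibre square: R' ⊗_R A' → R' ⊗_R A
is surjective and every pair of elements of R' ⊗_R B and R' ⊗_R A' with the same image in R' ⊗_R A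
is the image of a unique element of R' ⊗_R B'. (The published lemma concludes that the base-changed
square of spectra is co-cartesian in ringed spaces; this row states the ring form, surjective edge
and fibre product, which its proof establishes before translating it to ringed spaces.) -/
theorem result (R B' B A' A : Type u) [CommRing R] [CommRing B'] [CommRing B] [CommRing A'] [CommRing A]
    [Algebra B' B] [Algebra B' A'] [Algebra B A] [Algebra A' A] [Algebra B' A]
    [IsScalarTower B' B A] [IsScalarTower B' A' A]
    [Algebra R B'] [Algebra R B] [Algebra R A'] [Algebra R A]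
    [IsScalarTower R B' B] [IsScalarTower R B' A'] [IsScalarTower R B' A] [IsScalarTower R B A] [IsScalarTower R A' A]
    (hsq : EtMil.IsFibreSquare B' B A' A)
    [Module.Flat R B] [Module.Flat R A'] [Module.Flat R A]
    (R' : Type u) [CommRing R'] [Algebra R R'] :
    Function.Surjective (Algebra.TensorProduct.map (AlgHom.id R R') (IsScalarTower.toAlgHom R A' A)) ∧
    ∀ (x : R' ⊗[R] B) (y : R' ⊗[R] A'),
      Algebra.TensorProduct.map (AlgHom.id R R') (IsScalarTower.toAlgHom R B A) x =
        Algebra.TensorProduct.map (AlgHom.id R R') (IsScalarTower.toAlgHom R A' A) y →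
      ∃! z : R' ⊗[R] B',
        Algebra.TensorProduct.map (AlgHom.id R R') (IsScalarTower.toAlgHom R B' B) z = x ∧
        Algebra.TensorProduct.map (AlgHom.id R R') (IsScalarTower.toAlgHom R B' A') z = y := by
  obtain ⟨hsurj, hlift⟩ := hsq
  have hcomm : ∀ x : B', algebraMap B A (algebraMap B' B x) = algebraMap A' A (algebraMap B' A' x) :=
    fun x => by rw [← IsScalarTower.algebraMap_apply B' B A, ← IsScalarTower.algebraMap_apply B' A' A]
  have h : Groth.Agent.Lib.Ferrand.IsSq (IsScalarTower.toAlgHom R B' B).toRingHom
      (IsScalarTower.toAlgHom R B' A').toRingHom (IsScalarTower.toAlgHom R B A).toRingHom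
      (IsScalarTower.toAlgHom R A' A).toRingHom := by
    refine ⟨hcomm, hsurj, fun x y h1 h2 => ?_, fun b a hba => ?_⟩
    · obtain ⟨z, -, hz⟩ := hlift (algebraMap B' B y) (algebraMap B' A' y) (hcomm y)
      exact (hz x ⟨h1, h2⟩).trans (hz y ⟨rfl, rfl⟩).symm
    · obtain ⟨x, hx, -⟩ := hlift b a hba
      exact ⟨x, hx⟩
  have h' := h.tensor R' (Or.inr inferInstance)
  refine ⟨h'.surj, fun x y hxy => ?_⟩
  obtain ⟨z, hz1, hz2⟩ := h'.lift x y hxy
  exact ⟨z, ⟨hz1, hz2⟩, fun w hw => h'.ext w z (hw.1.trans hz1.symm) (hw.2.trans hz2.symm)⟩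

end Groth.Agent.S17901
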