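import Groth.Statements.S17904
import Groth.Agent.Lib.Pinch.RingedPushoutOfGlued
-- import your own Groth.Agent.* helpers here

set_option autoImplicit false
universe u
open CategoryTheory AlgebraicGeometry
open Pinch

namespace Groth.Agent.S17904

/-- Let S be a scheme and Z → X, Z → Z', X → X', Z' → X' a commutative square of S-schemes in which Z →
X and Z' → X' are closed immersions and Z → Z' and X → X' are affine, which is a pushout square in
the category of ringed spaces, with X, Z and Z' flat over S. Then for every morphism T → S the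
square of base changes Z_T → X_T, Z_T → Z'_T, X_T → X'_T, Z'_T → X'_T is a pushout square in the
category of ringed spaces. -/
theorem result {S X Z Z' X' : Scheme.{u}}
    (fX : X ⟶ S) (fZ' : Z' ⟶ S) (fX' : X' ⟶ S) (ι : Z ⟶ X) (q : Z ⟶ Z') (π : X ⟶ X') (ι' : Z' ⟶ X')
    [IsClosedImmersion ι] [IsClosedImmersion ι'] [IsAffineHom q] [IsAffineHom π]
    (hq : q ≫ fZ' = ι ≫ fX) (hπ : π ≫ fX' = fX) (hι' : ι' ≫ fX' = fZ')
    (hpo : IsPushout ((Scheme.forgetToLocallyRingedSpace ⋙ LocallyRingedSpace.forgetToSheafedSpace).map ι) ((Scheme.forgetToLocallyRingedSpace ⋙ LocallyRingedSpace.forgetToSheafedSpace).map q)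
      ((Scheme.forgetToLocallyRingedSpace ⋙ LocallyRingedSpace.forgetToSheafedSpace).map π) ((Scheme.forgetToLocallyRingedSpace ⋙ LocallyRingedSpace.forgetToSheafedSpace).map ι'))
    [Flat fX] [Flat (ι ≫ fX)] [Flat fZ']
    {T : Scheme.{u}} (g : T ⟶ S) :
    IsPushout
      ((Scheme.forgetToLocallyRingedSpace ⋙ LocallyRingedSpace.forgetToSheafedSpace).map
        ((Over.pullback g).map (Over.homMk ι rfl : Over.mk (ι ≫ fX) ⟶ Over.mk fX)).left)
      ((Scheme.forgetToLocallyRingedSpace ⋙ LocallyRingedSpace.forgetToSheafedSpace).map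
        ((Over.pullback g).map (Over.homMk q hq : Over.mk (ι ≫ fX) ⟶ Over.mk fZ')).left)
      ((Scheme.forgetToLocallyRingedSpace ⋙ LocallyRingedSpace.forgetToSheafedSpace).map
        ((Over.pullback g).map (Over.homMk π hπ : Over.mk fX ⟶ Over.mk fX')).left)
      ((Scheme.forgetToLocallyRingedSpace ⋙ LocallyRingedSpace.forgetToSheafedSpace).map
        ((Over.pullback g).map (Over.homMk ι' hι' : Over.mk fZ' ⟶ Over.mk fX')).left) := by
  have hw : ι ≫ π = q ≫ ι' := Groth.Agent.Lib.Pinch.RingedPushout.toSS.map_injective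
    (by rw [Functor.map_comp, Functor.map_comp]; exact hpo.w)
  have h := Groth.Agent.Lib.Pinch.RingedPushout.gluedBy hw hpo
  set i' := ((Over.pullback g).map (Over.homMk ι rfl : Over.mk (ι ≫ fX) ⟶ Over.mk fX)).left
  set j' := ((Over.pullback g).map (Over.homMk q hq : Over.mk (ι ≫ fX) ⟶ Over.mk fZ')).left
  set a' := ((Over.pullback g).map (Over.homMk π hπ : Over.mk fX ⟶ Over.mk fX')).left
  set b' := ((Over.pullback g).map (Over.homMk ι' hι' : Over.mk fZ' ⟶ Over.mk fX')).left
  have hP : IsPullback (Limits.pullback.fst fX' g) (Limits.pullback.snd fX' g) fX' g :=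
    IsPullback.of_hasPullback _ _
  have hX : IsPullback (Limits.pullback.fst fX g) a' π (Limits.pullback.fst fX' g) := by
    refine IsPullback.of_bot ?_ (Limits.pullback.lift_fst _ _ _).symm hP
    rw [show a' ≫ Limits.pullback.snd fX' g = Limits.pullback.snd fX g from Limits.pullback.lift_snd _ _ _, hπ]
    exact IsPullback.of_hasPullback _ _
  have hY : IsPullback (Limits.pullback.fst fZ' g) b' ι' (Limits.pullback.fst fX' g) := by
    refine IsPullback.of_bot ?_ (Limits.pullback.lift_fst _ _ _).symm hP
    rw [show b' ≫ Limits.pullback.snd fX' g = Limits.pullback.snd fZ' g from Limits.pullback.lift_snd _ _ _, hι']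
    exact IsPullback.of_hasPullback _ _
  have hZ : IsPullback (Limits.pullback.fst (ι ≫ fX) g) i' ι (Limits.pullback.fst fX g) := by
    refine IsPullback.of_bot ?_ (Limits.pullback.lift_fst _ _ _).symm (IsPullback.of_hasPullback fX g)
    rw [show i' ≫ Limits.pullback.snd fX g = Limits.pullback.snd (ι ≫ fX) g from Limits.pullback.lift_snd _ _ _]
    exact IsPullback.of_hasPullback _ _
  haveI : IsClosedImmersion i' := MorphismProperty.of_isPullback hZ inferInstance
  haveI : IsClosedImmersion b' := MorphismProperty.of_isPullback hY inferInstance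
  haveI : IsAffineHom a' := MorphismProperty.of_isPullback hX inferInstance
  refine Groth.Agent.Lib.Pinch.RingedPushout.isPushout_toSS
    (Groth.Agent.Lib.Pinch.RingedPushout.gluedBy_of_isPushout
      (h.baseChange fX' g hP hX hY hZ (Limits.pullback.lift_fst _ _ _) ?_ (Or.inr ?_)))
  · simp only [i', j', a', b']
    rw [← Over.comp_left, ← Over.comp_left, ← Functor.map_comp, ← Functor.map_comp]
    exact congrArg (fun r : Over.mk (ι ≫ fX) ⟶ Over.mk fX' => ((Over.pullback g).map r).left)
      (Over.OverMorphism.ext (show ι ≫ π = q ≫ ι' from hw))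
  · rw [hπ]; infer_instance

end Groth.Agent.S17904
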