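import Groth.Statements.S17905
import Groth.Agent.Lib.Pinch.RingedPushoutOfGlued
import Mathlib.AlgebraicGeometry.Morphisms.Flat
-- import your own Groth.Agent.* helpers here

set_option autoImplicit false
universe u
open CategoryTheory AlgebraicGeometry
open Pinch

namespace Groth.Agent.S17905

/-- Pullback of sections along a flat surjection is injective. -/
theorem app_injective_of_flat {A B : Scheme.{u}} (f : A ⟶ B) [Flat f] [Surjective f] (V : B.Opens) :
    Function.Injective (f.app V) := by
  intro s s' hs
  refine TopCat.Presheaf.section_ext B.sheaf V s s' fun y hy => ?_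
  obtain ⟨z, rfl⟩ := f.surjective y
  have hinj : Function.Injective (f.stalkMap z) := by
    algebraize [(f.stalkMap z).hom]
    have : Module.FaithfullyFlat (B.presheaf.stalk (f z)) (A.presheaf.stalk z) :=
      @Module.FaithfullyFlat.of_flat_of_isLocalHom _ _ _ _ _ _ _
        (Flat.stalkMap f z) (f.toLRSHom.prop z)
    exact ‹RingHom.FaithfullyFlat _›.injective
  refine hinj ?_
  exact (Scheme.Hom.germ_stalkMap_apply f V z hy s).trans
    ((congrArg (A.presheaf.germ (f ⁻¹ᵁ V) z hy) hs).trans (Scheme.Hom.germ_stalkMap_apply f V z hy s').symm)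


/-- Let S be a scheme and Z → X, Z → Z', X → X', Z' → X' a commutative square of S-schemes which is a
pushout square in the category of ringed spaces, with Z → X and Z' → X' closed immersions, X → X'
affine, Z → Z' finite, flat and surjective, and X, Z, Z' flat over S. Suppose that for every T → S
the map O_T → (f_T)_* O_{X_T} induced by the base change f_T : X_T → T of X → S is an isomorphism.
Then for every T → S the map O_T → (f'_T)_* O_{X'_T} induced by the base change of X' → S is an
isomorphism. (The published lemma is stated for the pinching of a finite surjective Z → Z' whose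
fibres lie in affine opens of X, with X → S admitting a section; this row assumes X → X' only affine
and drops the affine-fibre and section conditions, which the printed proof does not use.) -/
theorem result {S X Z Z' X' : Scheme.{u}}
    (fX : X ⟶ S) (fZ' : Z' ⟶ S) (fX' : X' ⟶ S) (ι : Z ⟶ X) (q : Z ⟶ Z') (π : X ⟶ X') (ι' : Z' ⟶ X')
    [IsClosedImmersion ι] [IsClosedImmersion ι'] [IsFinite q] [Flat q] [Surjective q] [IsAffineHom π]
    (hq : q ≫ fZ' = ι ≫ fX) (hπ : π ≫ fX' = fX) (hι' : ι' ≫ fX' = fZ')
    (hpo : IsPushout ((Scheme.forgetToLocallyRingedSpace ⋙ LocallyRingedSpace.forgetToSheafedSpace).map ι) ((Scheme.forgetToLocallyRingedSpace ⋙ LocallyRingedSpace.forgetToSheafedSpace).map q)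
      ((Scheme.forgetToLocallyRingedSpace ⋙ LocallyRingedSpace.forgetToSheafedSpace).map π) ((Scheme.forgetToLocallyRingedSpace ⋙ LocallyRingedSpace.forgetToSheafedSpace).map ι'))
    [Flat fX] [Flat (ι ≫ fX)] [Flat fZ']
    (hX : ∀ (T : Scheme.{u}) (g : T ⟶ S) (U : T.Opens), IsIso ((Limits.pullback.snd fX g).app U))
    (T : Scheme.{u}) (g : T ⟶ S) (U : T.Opens) :
    IsIso ((Limits.pullback.snd fX' g).app U) := by
  have hw : ι ≫ π = q ≫ ι' := Groth.Agent.Lib.Pinch.RingedPushout.toSS.map_injective
    (by rw [Functor.map_comp, Functor.map_comp]; exact hpo.w)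
  have h := Groth.Agent.Lib.Pinch.RingedPushout.gluedBy hw hpo
  set i' := ((Over.pullback g).map (Over.homMk ι rfl : Over.mk (ι ≫ fX) ⟶ Over.mk fX)).left
  set j' := ((Over.pullback g).map (Over.homMk q hq : Over.mk (ι ≫ fX) ⟶ Over.mk fZ')).left
  set a' := ((Over.pullback g).map (Over.homMk π hπ : Over.mk fX ⟶ Over.mk fX')).left
  set b' := ((Over.pullback g).map (Over.homMk ι' hι' : Over.mk fZ' ⟶ Over.mk fX')).left
  have hP : IsPullback (Limits.pullback.fst fX' g) (Limits.pullback.snd fX' g) fX' g :=
    IsPullback.of_hasPullback _ _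
  have hXsq : IsPullback (Limits.pullback.fst fX g) a' π (Limits.pullback.fst fX' g) := by
    refine IsPullback.of_bot ?_ (Limits.pullback.lift_fst _ _ _).symm hP
    rw [show a' ≫ Limits.pullback.snd fX' g = Limits.pullback.snd fX g from Limits.pullback.lift_snd _ _ _, hπ]
    exact IsPullback.of_hasPullback _ _
  have hY : IsPullback (Limits.pullback.fst fZ' g) b' ι' (Limits.pullback.fst fX' g) := by
    refine IsPullback.of_bot ?_ (Limits.pullback.lift_fst _ _ _).symm hP
    rw [show b' ≫ Limits.pullback.snd fX' g = Limits.pullback.snd fZ' g from Limits.pullback.lift_snd _ _ _, hι']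
    exact IsPullback.of_hasPullback _ _
  have hZ : IsPullback (Limits.pullback.fst (ι ≫ fX) g) i' ι (Limits.pullback.fst fX g) := by
    refine IsPullback.of_bot ?_ (Limits.pullback.lift_fst _ _ _).symm (IsPullback.of_hasPullback fX g)
    rw [show i' ≫ Limits.pullback.snd fX g = Limits.pullback.snd (ι ≫ fX) g from Limits.pullback.lift_snd _ _ _]
    exact IsPullback.of_hasPullback _ _
  haveI : IsClosedImmersion i' := MorphismProperty.of_isPullback hZ inferInstance
  haveI : IsClosedImmersion b' := MorphismProperty.of_isPullback hY inferInstance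
  haveI : IsAffineHom a' := MorphismProperty.of_isPullback hXsq inferInstance
  have hj' : IsPullback (Limits.pullback.fst (ι ≫ fX) g) j' q (Limits.pullback.fst fZ' g) := by
    refine IsPullback.of_bot ?_ (Limits.pullback.lift_fst _ _ _).symm (IsPullback.of_hasPullback fZ' g)
    rw [show j' ≫ Limits.pullback.snd fZ' g = Limits.pullback.snd (ι ≫ fX) g from Limits.pullback.lift_snd _ _ _, hq]
    exact IsPullback.of_hasPullback _ _
  haveI : Flat j' := MorphismProperty.of_isPullback hj' inferInstance
  haveI : Surjective j' := MorphismProperty.of_isPullback hj' inferInstance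
  have hw' : i' ≫ a' = j' ≫ b' := by
    simp only [i', j', a', b']
    rw [← Over.comp_left, ← Over.comp_left, ← Functor.map_comp, ← Functor.map_comp]
    exact congrArg (fun r : Over.mk (ι ≫ fX) ⟶ Over.mk fX' => ((Over.pullback g).map r).left)
      (Over.OverMorphism.ext (show ι ≫ π = q ≫ ι' from hw))
  have hg := Groth.Agent.Lib.Pinch.RingedPushout.gluedBy_of_isPushout
    (h.baseChange fX' g hP hXsq hY hZ (Limits.pullback.lift_fst _ _ _) hw' (Or.inr (by rw [hπ]; infer_instance)))
  set f := Limits.pullback.snd fX' g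
  have hfa : a' ≫ f = Limits.pullback.snd fX g := Limits.pullback.lift_snd _ _ _
  have hbij : Function.Bijective ((a' ≫ f).app U) := by
    rw [hfa]
    haveI := hX T g U
    exact ConcreteCategory.bijective_of_isIso _
  rw [ConcreteCategory.isIso_iff_bijective]
  have hinj : Function.Injective (a'.app (f ⁻¹ᵁ U)) := fun s s' hs => by
    refine Groth.Agent.Lib.Pinch.RingedPushout.section_ext hg hs (app_injective_of_flat j' _ ?_)
    have key : ∀ u, j'.app (b' ⁻¹ᵁ (f ⁻¹ᵁ U)) (b'.app (f ⁻¹ᵁ U) u) =
        (Limits.pullback (ι ≫ fX) g).presheaf.map (eqToHom (by simp only [← Scheme.Hom.comp_preimage, ← Category.assoc, hw'])).op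
          (i'.app (a' ⁻¹ᵁ (f ⁻¹ᵁ U)) (a'.app (f ⁻¹ᵁ U) u)) := fun u =>
      congr($(Scheme.Hom.congr_app hw'.symm (f ⁻¹ᵁ U)) u)
    rw [key, key, hs]
  rw [Scheme.Hom.comp_app] at hbij
  refine ⟨Function.Injective.of_comp hbij.1, fun x => ?_⟩
  obtain ⟨y, hy⟩ := hbij.2 (a'.app (f ⁻¹ᵁ U) x)
  exact ⟨y, hinj hy⟩

end Groth.Agent.S17905
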