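import Groth.Statements.S17906
import Groth.Prelude.Def_PicLoc

set_option autoImplicit false
set_option linter.style.haveILetI false
universe u
open CategoryTheory CategoryTheory.Limits AlgebraicGeometry
open PicRel

namespace Groth.Agent.S17906

open CategoryTheory CategoryTheory.Limits AlgebraicGeometry in
theorem key {X S S' A B : Scheme.{u}} (f : X ⟶ S) (g : S' ⟶ S) (a : A ⟶ S') (b : B ⟶ S') (t : B ⟶ A)
    (w : t ≫ a = b) :
    (pullbackLeftPullbackSndIso f g b).inv ≫
        pullback.map (pullback.snd f g) b (pullback.snd f g) a (𝟙 _) t (𝟙 _) (by simp) (by simp [w]) =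
      pullback.map f (b ≫ g) f (a ≫ g) (𝟙 _) t (𝟙 _) (by simp) (by simp [← w]) ≫
        (pullbackLeftPullbackSndIso f g a).inv := by
  apply pullback.hom_ext
  · apply pullback.hom_ext
    · simp [pullback.map, pullback.lift_fst, pullback.lift_snd, pullback.lift_fst_assoc, pullback.lift_snd_assoc]
    · simp [pullback.map, pullback.lift_fst, pullback.lift_snd, pullback.lift_fst_assoc, pullback.lift_snd_assoc, w, pullback.condition]
  · simp [pullback.map, pullback.lift_fst, pullback.lift_snd, pullback.lift_fst_assoc, pullback.lift_snd_assoc]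

/-- Let f : X → S be a morphism of schemes, g : S' → S a morphism and X' = X ×_S S'. If the relative
Picard functor of X over S, sheafified and described through a representing S-scheme P with maps φ_T
from classes of modules on X ×_S T to S-morphisms T → P, is represented by P, then the relative
Picard functor of X' over S' is represented by P ×_S S': a class c on (X ×_S S') ×_{S'} T is sent,
after transport along the canonical isomorphism of this scheme with X ×_S T, to the S'-morphism T →
P ×_S S' whose components are φ(c) and the structure morphism of T. (The published statement is for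
the fppf sheafification, asserts the isomorphism of functors Pic_{X/S} ×_S S' ≅ Pic_{X'/S'} in
general, and adds the compatibility of universal bundles and rigidifications; stated here is the
representability consequence for the étale sheafification, to which the same argument applies.) -/
theorem result {X S S' : Scheme.{u}} (f : X ⟶ S) (g : S' ⟶ S)
    (P : Over S) (φ : ∀ T : Over S, PicF.Cl (PicF.XT f T) → (T ⟶ P)) (hP : PicRel.IsRelPic f P φ) :
    PicRel.IsRelPic (pullback.snd f g) (Over.mk (pullback.snd P.hom g))
      (fun T c => Over.homMk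
        (pullback.lift (φ (Over.mk (T.hom ≫ g)) (PicF.pullCl (pullbackLeftPullbackSndIso f g T.hom).inv c)).left T.hom
          (Over.w (φ (Over.mk (T.hom ≫ g)) (PicF.pullCl (pullbackLeftPullbackSndIso f g T.hom).inv c))))
        (pullback.lift_snd _ _ _)) := by
  have nat' : ∀ (T T' : Over S') (h : T' ⟶ T),
      (pullbackLeftPullbackSndIso f g T'.hom).inv ≫ PicF.XTmap (pullback.snd f g) h =
        PicF.XTmap f (Over.homMk h.left (by simp [Over.w_assoc]) :
          Over.mk (T'.hom ≫ g) ⟶ Over.mk (T.hom ≫ g)) ≫ (pullbackLeftPullbackSndIso f g T.hom).inv := by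
    intro T T' h
    exact key f g T.hom T'.hom h.left (Over.w h)
  refine ⟨fun T T' h c hc => ?_, fun T g' => ?_, fun T c c' hc hc' heq => ?_⟩
  · have hh := congrArg (·.left) (hP.natural _ _ (Over.homMk h.left (by simp [Over.w_assoc]) :
      Over.mk (T'.hom ≫ g) ⟶ Over.mk (T.hom ≫ g))
      (PicF.pullCl (pullbackLeftPullbackSndIso f g T.hom).inv c) (PicLoc.isInvertibleCl_pullCl _ hc))
    rw [← PicLoc.pullCl_comp, ← nat', PicLoc.pullCl_comp] at hh
    apply Over.OverMorphism.ext
    apply pullback.hom_ext
    · simpa [pullback.lift_fst] using hh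
    · simp [pullback.lift_snd, Over.w h]
  · obtain ⟨ι, U, hU, hsurj⟩ := hP.locallySurjective (Over.mk (T.hom ≫ g))
      (Over.homMk (g'.left ≫ pullback.fst P.hom g)
        (by have := Over.w g'; simp only [Over.mk_hom] at this
            simp [pullback.condition, ← this]))
    refine ⟨ι, U, hU, fun i => ?_⟩
    obtain ⟨c, hc, hφ⟩ := hsurj i
    let k : Over.mk (((U i).hom ≫ T.hom) ≫ g) ⟶ PicRel.ovr (Over.mk (T.hom ≫ g)) (U i) :=
      Over.homMk (𝟙 _) (by simp)
    refine ⟨PicF.pullCl (pullbackLeftPullbackSndIso f g ((U i).hom ≫ T.hom)).hom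
      (PicF.pullCl (PicF.XTmap f k) c),
      PicLoc.isInvertibleCl_pullCl _ (PicLoc.isInvertibleCl_pullCl _ hc), ?_⟩
    have hk := congrArg (·.left) (hP.natural _ _ k c hc)
    rw [hφ] at hk
    apply Over.OverMorphism.ext
    apply pullback.hom_ext
    · simp only [Over.homMk_left, Over.comp_left, Category.assoc, pullback.lift_fst]
      rw [← PicLoc.pullCl_comp _ (pullbackLeftPullbackSndIso f g ((U i).hom ≫ T.hom)).hom]
      erw [Iso.inv_hom_id, PicLoc.pullCl_id]
      simpa [k] using hk
    · have hw := Over.w g'
      simp only [Over.mk_hom] at hw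
      simp [pullback.lift_snd, hw]
  · have hcomp := congrArg (fun t => t.left ≫ pullback.fst P.hom g) heq
    simp only [Over.homMk_left, pullback.lift_fst] at hcomp
    obtain ⟨ι, U, hU, hinj⟩ := hP.locallyInjective (Over.mk (T.hom ≫ g)) _ _
      (PicLoc.isInvertibleCl_pullCl _ hc) (PicLoc.isInvertibleCl_pullCl _ hc') (Over.OverMorphism.ext hcomp)
    refine ⟨ι, U, hU, fun i => ?_⟩
    let k : Over.mk (((U i).hom ≫ T.hom) ≫ g) ⟶ PicRel.ovr (Over.mk (T.hom ≫ g)) (U i) :=
      Over.homMk (𝟙 _) (by simp)
    have e : PicF.XTmap (pullback.snd f g) (PicRel.ovrHom T (U i)) =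
        ((pullbackLeftPullbackSndIso f g ((U i).hom ≫ T.hom)).hom ≫ PicF.XTmap f k) ≫
          PicF.XTmap f (PicRel.ovrHom (Over.mk (T.hom ≫ g)) (U i)) ≫
            (pullbackLeftPullbackSndIso f g T.hom).inv := by
      have h1 := nat' T (Over.mk ((U i).hom ≫ T.hom)) (Over.homMk (U i).hom rfl)
      have h2 : PicF.XTmap f k ≫ PicF.XTmap f (PicRel.ovrHom (Over.mk (T.hom ≫ g)) (U i)) =
          PicF.XTmap f (Over.homMk (U i).hom (by simp) :
            Over.mk (((U i).hom ≫ T.hom) ≫ g) ⟶ Over.mk (T.hom ≫ g)) := by
        apply pullback.hom_ext <;>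
          simp [PicF.XTmap, pullback.map, k, pullback.lift_fst, pullback.lift_snd, pullback.lift_fst_assoc,
            pullback.lift_snd_assoc]
      rw [Category.assoc, ← Category.assoc (PicF.XTmap f k), h2]
      exact ((Iso.inv_comp_eq _).1 h1)
    rw [e]
    simp only [PicLoc.pullCl_comp]
    rw [hinj i]

end Groth.Agent.S17906
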