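import Groth.Statements.S17907
import Groth.Agent.Lib.Pinch.PairGlue
import Groth.Agent.Lib.Modules.AffineSections

set_option autoImplicit false
universe u
open CategoryTheory AlgebraicGeometry
open Pinch

namespace Groth.Agent.S17907


open TopologicalSpace Opposite ZarCoh.FlatBC.PullbackSections Groth.Agent.Lib.Pinch Groth.Agent.Lib.TensorMod.Dual

theorem exists_nhd_fibre {X T : Scheme.{u}} (π : X ⟶ T) (hc : IsClosedMap π.base) {p : T} {G : X.Opens}
    (h : ∀ x, π x = p → x ∈ G) : ∃ O : T.Opens, p ∈ O ∧ π ⁻¹ᵁ O ≤ G := by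
  refine ⟨⟨(π.base '' (G : Set X)ᶜ)ᶜ, (hc _ G.isOpen.isClosed_compl).isOpen_compl⟩,
    fun ⟨x, hx, hxy⟩ => hx (h x hxy), fun x hx => ?_⟩
  by_contra hxO
  exact hx ⟨x, hxO, rfl⟩

theorem isFrame_of_empty {X : Scheme.{u}} {M : X.Modules} {n : ℕ} {V : X.Opens} (hV : ∀ x, x ∉ V)
    (e : Fin n → Γ(M, V)) : StalkFrame.IsFrame M V e := fun x hx => (hV x hx).elim

/-- Let Z → X be a closed immersion and Z → Z' a finite surjective morphism such that every fibre of Z →
Z' lies in an affine open of X; let X → X', Z' → X' complete a commutative square of schemes which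
is a pushout square in the category of ringed spaces, with Z' → X' a closed immersion, X → X' finite
and an isomorphism over the open complement of the image of Z'. Given locally free modules L_X on X
and L_{Z'} on Z' of the same rank n and an isomorphism σ from the pullback of L_X to Z onto the
pullback of L_{Z'} to Z, there are a locally free module M of rank n on X', an isomorphism e_X from
the pullback of M to X onto L_X and an isomorphism e_{Z'} from the pullback of M to Z' onto L_{Z'},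
compatible with σ: the canonical isomorphism between the two iterated pullbacks of M to Z (through X
and through Z') followed by the pullback of e_{Z'} to Z equals the pullback of e_X to Z followed by
σ. (The published result is an equivalence of categories between locally free modules of rank n on
X' and such triples (L_X, L_{Z'}, σ); stated here is the essential surjectivity of the functor
towards triples, not its full faithfulness. Finiteness of X → X' and the isomorphism away from Z'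
are part of the pinching construction and are taken as hypotheses.) -/
theorem result {X Z Z' X' : Scheme.{u}}
    (ι : Z ⟶ X) (q : Z ⟶ Z') (π : X ⟶ X') (ι' : Z' ⟶ X')
    [IsClosedImmersion ι] [IsClosedImmersion ι'] [IsFinite q] [Surjective q] [IsFinite π]
    (hw : ι ≫ π = q ≫ ι')
    (hpo : IsPushout ((Scheme.forgetToLocallyRingedSpace ⋙ LocallyRingedSpace.forgetToSheafedSpace).map ι) ((Scheme.forgetToLocallyRingedSpace ⋙ LocallyRingedSpace.forgetToSheafedSpace).map q)
      ((Scheme.forgetToLocallyRingedSpace ⋙ LocallyRingedSpace.forgetToSheafedSpace).map π) ((Scheme.forgetToLocallyRingedSpace ⋙ LocallyRingedSpace.forgetToSheafedSpace).map ι'))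
    (hAF : ∀ z' : Z', ∃ U : X.Opens, IsAffineOpen U ∧ ∀ z : Z, q.base z = z' → ι.base z ∈ U)
    (U : X'.Opens) (hU : (U : Set X') = (Set.range ι'.base)ᶜ) (hiso : IsIso (π ∣_ U))
    (n : ℕ) (LX : X.Modules) (LZ' : Z'.Modules)
    (hLX : FlatMod.IsFinLocFreeOfRank n LX) (hLZ' : FlatMod.IsFinLocFreeOfRank n LZ')
    (σ : (Scheme.Modules.pullback ι).obj LX ≅ (Scheme.Modules.pullback q).obj LZ') :
    ∃ (M : X'.Modules) (eX : (Scheme.Modules.pullback π).obj M ≅ LX)
      (eZ' : (Scheme.Modules.pullback ι').obj M ≅ LZ'),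
      FlatMod.IsFinLocFreeOfRank n M ∧
      (Scheme.Modules.pullbackComp ι π).app M ≪≫ (Scheme.Modules.pullbackCongr hw).app M ≪≫
          ((Scheme.Modules.pullbackComp q ι').app M).symm ≪≫ (Scheme.Modules.pullback q).mapIso eZ' =
        (Scheme.Modules.pullback ι).mapIso eX ≪≫ σ := by
  refine PairGlue.exists_glue hw σ hpo fun p => ?_
  by_cases hp : p ∈ Set.range ι'.base
  · obtain ⟨z', rfl⟩ := hp
    obtain ⟨V, f, hz'V, hf⟩ := StalkFrame.exists_isFrame_of_rank hLZ' z'
    obtain ⟨G', hG', hG'V⟩ := ι'.isClosedEmbedding.isEmbedding.isInducing.isOpen_iff.1 V.isOpen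
    obtain ⟨O, hO, hpO, hOG⟩ := exists_isAffineOpen_mem_and_subset (x := ι' z') (U := ⟨G', hG'⟩)
      ((Set.ext_iff.1 hG'V z').2 hz'V)
    have hOV : ι' ⁻¹ᵁ O ≤ V := fun y hy => (Set.ext_iff.1 hG'V y).1 (hOG hy)
    let W : Z.Opens := ι ⁻¹ᵁ (π ⁻¹ᵁ O)
    have hWq : W ≤ q ⁻¹ᵁ (ι' ⁻¹ᵁ O) := by
      show (ι ≫ π) ⁻¹ᵁ O ≤ _
      rw [hw]; rfl
    let g : Fin n → Γ((Scheme.Modules.pullback ι).obj LX, W) := fun i =>
      σ.inv.app W (pbRes q LZ' hWq (rs LZ' hOV (f i)))
    have hg : StalkFrame.IsFrame _ W g := ((hf.res hOV).pbRes q hWq).map_iso σ.symm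
    haveI : LX.IsQuasicoherent := Lib.Modules.AffineSections.isQCoh_of_isFinLocFree fun x => by
      obtain ⟨V, hV, hi⟩ := hLX x
      exact ⟨V, n, hV, hi⟩
    have hA : IsAffineOpen (π ⁻¹ᵁ O) := hO.preimage π
    have hsurj : Function.Surjective (pbRes ι LX (le_refl W)) := by
      intro t
      obtain ⟨a, rfl⟩ := (bijective_pbTensor ι LX hA (hA.preimage ι) (le_refl W)).2 t
      induction a using TensorProduct.induction_on with
      | zero => exact ⟨0, by simp⟩
      | tmul c m =>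
        obtain ⟨r, hr⟩ := ι.app_surjective _ hA c
        refine ⟨r • m, ?_⟩
        rw [pbTensor_tmul, pbRes_smul, ← hr, Scheme.Hom.app_eq_appLE]
      | add a b ha hb =>
        obtain ⟨a', ha⟩ := ha
        obtain ⟨b', hb⟩ := hb
        exact ⟨a' + b', by rw [map_add, map_add, ha, hb]⟩
    choose ex hex using fun i => hsurj (g i)
    let S : Set X.Opens := {G | ∃ h : G ≤ π ⁻¹ᵁ O, StalkFrame.IsFrame LX G fun i => rs LX h (ex i)}
    have hfib : ∀ x, π x = ι' z' → x ∈ sSup S := fun x hx => by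
      haveI := RingedPushout.gluedBy hw hpo
      obtain ⟨z, hz, -⟩ := Scheme.exists_preimage_of_isPullback
        (Groth.Agent.Lib.Ferrand.GluedBy.isPullback (RingedPushout.gluedBy hw hpo)) x z' hx
      have hzW : z ∈ W := by
        show π (ι z) ∈ O
        rw [hz, hx]; exact hpO
      obtain ⟨G, hG, hxG, hGf⟩ := StalkFrame.exists_isFrame_nhd ι hLX ex (le_refl W)
        (by simpa only [hex] using hg) z hzW
      exact Opens.mem_sSup.2 ⟨G, ⟨hG, hGf⟩, hz ▸ hxG⟩
    obtain ⟨O₁, hpO₁, hO₁⟩ := exists_nhd_fibre π π.isClosedMap hfib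
    let O' : X'.Opens := O ⊓ O₁
    have hO' : π ⁻¹ᵁ O' ≤ π ⁻¹ᵁ O := π.preimage_mono inf_le_left
    have hO'' : ι' ⁻¹ᵁ O' ≤ ι' ⁻¹ᵁ O := ι'.preimage_mono inf_le_left
    refine ⟨O', ⟨hpO, hpO₁⟩, fun i => rs LX hO' (ex i), fun i => rs LZ' (hO''.trans hOV) (f i),
      fun x hx => ?_, hf.res _, fun i => ?_⟩
    · obtain ⟨G, ⟨hG, hGf⟩, hxG⟩ := Opens.mem_sSup.1 (hO₁ (show x ∈ π ⁻¹ᵁ O₁ from hx.2))
      have he : (fun i => LX.presheaf.germ (π ⁻¹ᵁ O') x hx (rs LX hO' (ex i))) =
          fun i => LX.presheaf.germ G x hxG (rs LX hG (ex i)) := funext fun i =>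
        (TopCat.Presheaf.germ_res_apply LX.presheaf (homOfLE hO') x hx (ex i)).trans
          (TopCat.Presheaf.germ_res_apply LX.presheaf (homOfLE hG) x hxG (ex i)).symm
      simpa only [congrFun he] using hGf x hxG
    · have eX : (q ≫ ι') ⁻¹ᵁ O' ≤ ι ⁻¹ᵁ (π ⁻¹ᵁ O') := by rw [← hw]; rfl
      have eW : (q ≫ ι') ⁻¹ᵁ O' ≤ W := eX.trans (ι.preimage_mono hO')
      rw [PairGlue.pullTo_app ι π _ hw σ.hom O' eX, PairGlue.pullTo_app q ι' _ rfl _ O' le_rfl,
        StalkFrame.pbRes_rs, StalkFrame.pbRes_rs,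
        ← StalkFrame.rs_pbRes ι LX (le_refl W) eW (ex i), hex i]
      refine (congrArg (σ.hom.app _) (ConcreteCategory.congr_hom
        (σ.inv.mapPresheaf.naturality (homOfLE eW).op) (pbRes q LZ' hWq (rs LZ' hOV (f i)))).symm).trans ?_
      refine (congr(($(σ.inv_hom_id)).app ((q ≫ ι') ⁻¹ᵁ O')
        (rs _ eW (pbRes q LZ' hWq (rs LZ' hOV (f i)))))).trans ?_
      show rs _ eW (pbRes q LZ' hWq (rs LZ' hOV (f i))) = _
      rw [StalkFrame.rs_pbRes, StalkFrame.pbRes_rs]
      rfl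
  · have hpU : p ∈ U := (Set.ext_iff.1 hU p).2 hp
    obtain ⟨x₀, hx₀⟩ := (RingedPushout.jointly_surjective hpo p).resolve_right hp
    obtain ⟨G, e, hxG, he⟩ := StalkFrame.exists_isFrame_of_rank hLX x₀
    have hfib : ∀ x, π x = p → x ∈ G := fun x hx => by
      have hinj := (π ∣_ U).homeomorph.injective
      have key : ∀ y : (π ⁻¹ᵁ U).toScheme, U.ι ((π ∣_ U) y) = π ((π ⁻¹ᵁ U).ι y) := fun y => by
        rw [← Scheme.Hom.comp_apply, morphismRestrict_ι, Scheme.Hom.comp_apply]
      have : (⟨x, show π x ∈ U from hx ▸ hpU⟩ : (π ⁻¹ᵁ U).toScheme) = ⟨x₀, show π x₀ ∈ U from hx₀ ▸ hpU⟩ :=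
        hinj (U.ι.isOpenEmbedding.injective ((key ⟨x, show π x ∈ U from hx ▸ hpU⟩).trans ((hx.trans hx₀.symm).trans (key ⟨x₀, show π x₀ ∈ U from hx₀ ▸ hpU⟩).symm)))
      have hx' : x = x₀ := congrArg Subtype.val this
      exact hx' ▸ hxG
    obtain ⟨O₁, hpO₁, hO₁⟩ := exists_nhd_fibre π π.isClosedMap hfib
    let O' : X'.Opens := U ⊓ O₁
    have hO' : π ⁻¹ᵁ O' ≤ G := (π.preimage_mono inf_le_right).trans hO₁
    have hemp : ∀ y, y ∉ ι' ⁻¹ᵁ O' := fun y hy => (Set.ext_iff.1 hU (ι' y)).1 hy.1 ⟨y, rfl⟩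
    refine ⟨O', ⟨hpU, hpO₁⟩, fun i => rs LX hO' (e i), fun _ => 0, he.res _, isFrame_of_empty hemp _,
      fun i => ?_⟩
    exact Lib.Modules.TensorSec.section_ext ((Scheme.Modules.pullback q).obj LZ') (U := (q ≫ ι') ⁻¹ᵁ O') _ _
      fun z hz => (hemp (q z) hz).elim

end Groth.Agent.S17907
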