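import Groth.Statements.S17914
import Groth.Agent.Lib.PolLaw.Gamma
import Mathlib.RingTheory.IsTensorProduct
import Mathlib.RingTheory.Norm.Basic
-- import your own Groth.Agent.* helpers here

set_option autoImplicit false
universe u
open scoped TensorProduct
open PolLaw

namespace Groth.Agent.S17914

open Groth.Agent.Lib.PolLaw
open scoped TensorProduct


/-- Affine-free form, stated through universal properties. Let R → R' be a commutative algebra that is
free of rank d as an R-module, Q a commutative R-algebra, and Q' a commutative ring under Q and R'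
which is their pushout over R and is free of rank d over Q. Let (C, γ) be the degree-d divided power
algebra of R' over R with its universal multiplicative law (hypothesis: every multiplicative law of
degree d out of R' factors uniquely through γ) and π : C → R the R-algebra map with π ∘ γ = the norm
law of R' over R; let (C', γ', π') be the analogous data for Q' over Q. Let θ : C → C' be an
R-algebra homomorphism compatible with the two universal laws over every commutative Q-algebra P:
γ'_P applied to the image of z ∈ P ⊗_R R' in P ⊗_Q Q' equals (p ⊗ c ↦ p ⊗ θ c) applied to γ_P(z) (so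
θ is the base-change homomorphism of divided power algebras). Then π' (θ c) is the image in Q of π c
for every c ∈ C: the algebra map attached to the norm commutes with base change. (The published
lemma is for a finite locally free extension of constant rank and states the commutativity of each
of three squares; this row assumes R' free over R and states the commutativity of the composite.) -/
theorem result {R R' Q Q' : Type u} [CommRing R] [CommRing R'] [Algebra R R']
    [CommRing Q] [Algebra R Q] [CommRing Q'] [Algebra R Q'] [Algebra Q Q'] [Algebra R' Q']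
    [IsScalarTower R Q Q'] [IsScalarTower R R' Q'] [Algebra.IsPushout R R' Q Q']
    [Module.Free R R'] [Module.Finite R R'] [Module.Free Q Q'] [Module.Finite Q Q']
    (d : ℕ) (hd : Module.finrank R R' = d) (hd' : Module.finrank Q Q' = d)
    {C : Type u} [CommRing C] [Algebra R C] (γ : PolLaw.MulLaw R R' C d) (hγ : PolLaw.IsGammaD γ)
    (π : C →ₐ[R] R) (hπ : PolLaw.MulLaw.postcomp π γ = PolLaw.normLaw R R' d hd)
    {C' : Type u} [CommRing C'] [Algebra R C'] [Algebra Q C'] [IsScalarTower R Q C']
    (γ' : PolLaw.MulLaw Q Q' C' d) (hγ' : PolLaw.IsGammaD γ')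
    (π' : C' →ₐ[Q] Q) (hπ' : PolLaw.MulLaw.postcomp π' γ' = PolLaw.normLaw Q Q' d hd')
    (θ : C →ₐ[R] C')
    (hθ : ∀ (P : Type u) [CommRing P] [Algebra R P] [Algebra Q P] [IsScalarTower R Q P] (z : P ⊗[R] R'),
      γ'.law.toFun' P (PolLaw.bcAlong (IsScalarTower.toAlgHom R R' Q').toLinearMap P z) =
        PolLaw.bcAlong θ.toLinearMap P (γ.law.toFun' P z)) :
    ∀ c : C, π' (θ c) = algebraMap R Q (π c) := by
  intro c
  haveI : Algebra.IsPushout R Q R' Q' := Algebra.IsPushout.symm inferInstance
  suffices (π'.restrictScalars R).comp θ = (Algebra.ofId R Q).comp π from AlgHom.congr_fun this c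
  refine Gamma.hom_ext hγ fun n b ν => ?_
  let P := MvPolynomial (Fin n) Q
  let z : P ⊗[R] R' := ∑ i, MvPolynomial.X i ⊗ₜ[R] b i
  let E : P ⊗[R] R' ≃ₐ[P] P ⊗[Q] Q' := (Algebra.TensorProduct.cancelBaseChange R Q P P R').symm.trans
    (Algebra.TensorProduct.congr AlgEquiv.refl (Algebra.IsPushout.equiv R Q R' Q'))
  let g : R' →ₗ[R] Q' := (IsScalarTower.toAlgHom R R' Q').toLinearMap
  have hE : ∀ w, E w = PolLaw.bcAlong g P w := by
    intro w
    induction w using TensorProduct.induction_on with
    | zero => simp
    | tmul p r =>
      simp [E, g, PolLaw.bcAlong, Algebra.TensorProduct.cancelBaseChange, Algebra.IsPushout.equiv_tmul]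
    | add x y hx hy => simp only [map_add, hx, hy]
  let ev₁ : P ⊗[R] C →ₐ[P] P := Algebra.TensorProduct.lift (Algebra.ofId P P)
    ((IsScalarTower.toAlgHom R Q P).comp ((π'.restrictScalars R).comp θ)) fun _ _ => Commute.all _ _
  let ev₂ : P ⊗[R] C →ₐ[P] P := Algebra.TensorProduct.lift (Algebra.ofId P P)
    ((IsScalarTower.toAlgHom R Q P).comp ((Algebra.ofId R Q).comp π)) fun _ _ => Commute.all _ _
  have h₂ : ev₂ (γ.law.toFun' P z) = Algebra.norm P z := by
    have h := congrArg (fun F : PolLaw.MulLaw R R' R d => F.law.toFun' P z) hπ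
    rw [PolLaw.normLaw_apply] at h
    have hev : ∀ w, ev₂ w = TensorProduct.rid R P (π.toLinearMap.lTensor P w) := fun w => by
      induction w using TensorProduct.induction_on with
      | zero => simp
      | tmul p e =>
        simp [ev₂, Algebra.smul_def, Algebra.ofId_apply, mul_comm, IsScalarTower.algebraMap_apply R Q P]
      | add x y hx hy => simp only [map_add, hx, hy]
    rw [hev]
    refine (congrArg _ h).trans ?_
    simp
  have h₁ : ev₁ (γ.law.toFun' P z) = Algebra.norm P z := by
    have h := congrArg (fun F : PolLaw.MulLaw Q Q' Q d => F.law.toFun' P (PolLaw.bcAlong g P z)) hπ'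
    rw [PolLaw.normLaw_apply] at h
    have hev : ∀ w, ev₁ w = TensorProduct.rid Q P (π'.toLinearMap.lTensor P (PolLaw.bcAlong θ.toLinearMap P w)) :=
      fun w => by
        induction w using TensorProduct.induction_on with
        | zero => simp
        | tmul p e => simp [ev₁, PolLaw.bcAlong, Algebra.smul_def, Algebra.ofId_apply, mul_comm]
        | add x y hx hy => simp only [map_add, hx, hy]
    rw [hev, ← hθ]
    refine (congrArg _ h).trans ?_
    rw [TensorProduct.rid_tmul, one_smul, ← hE, Algebra.norm_eq_of_algEquiv]
  have h := congrArg (MvPolynomial.coeff ν) (h₁.trans h₂.symm)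
  rw [Coeff.expand_homog γ.homog, map_sum, map_sum, MvPolynomial.coeff_sum, MvPolynomial.coeff_sum] at h
  simp only [ev₁, ev₂, P, Algebra.TensorProduct.lift_tmul, Algebra.ofId_apply, Algebra.algebraMap_self_apply,
    Coeff.monomial_one_eq, AlgHom.comp_apply, IsScalarTower.toAlgHom_apply, MvPolynomial.algebraMap_eq,
    mul_comm _ (MvPolynomial.C _), MvPolynomial.coeff_C_mul, MvPolynomial.coeff_monomial, mul_ite, mul_one, mul_zero,
    Finset.sum_ite_eq'] at h
  by_cases hν : ν ∈ Coeff.degSet (Fin n) d
  · rw [if_pos hν, if_pos hν] at h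
    exact h
  · rw [Coeff.coef_eq_zero_of_sum_ne γ.homog _ _ (fun hh => hν (Coeff.mem_degSet.2 hh)), map_zero, map_zero]

end Groth.Agent.S17914
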