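import Groth.Statements.S17917
import Groth.Agent.H18.RefPair

set_option autoImplicit false
universe u
open CategoryTheory CategoryTheory.Limits AlgebraicGeometry
open RefCh

open Groth.Agent.H18.K0Diff Groth.Agent.H18.RefPair

namespace Groth.Agent.S17917

/-- Let k be an algebraically closed field, X an integral normal scheme of dimension s + 2 admitting a
closed immersion into some P^N_k over k, and L_1, …, L_s invertible O_X-modules with inverses M_1,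
…, M_s. Let ℒ_1 be a coherent reflexive O_X-module of rank one (ℒ_1 = O_X(D_1) for a Weil divisor
D_1, with dual ℒ_1^∨ = O_X(-D_1)) and ℒ_2 an invertible O_X-module (a Cartier divisor D_2) with
inverse 𝓜_2. With q(ℱ) the limit of 2 χ(c_1(L_1) ⋯ c_1(L_s) · [ℱ^[m]]) / m^2 (reflexive powers,
FGA.intNum in the M_i), assumed to exist for ℒ_1, ℒ_2 and the reflexive hull ℒ_1 ⊗̂ ℒ_2 of ℒ_1 ⊗
ℒ_2, one has (q(ℒ_1 ⊗̂ ℒ_2) - q(ℒ_1) - q(ℒ_2)) / 2 = χ(c_1(ℒ_2) c_1(L_1) ⋯ c_1(L_s) · ([O_X] -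
[ℒ_1^∨])), the right side written as the difference of the alternating sums FGA.intNum in (𝓜_2, M_1,
…, M_s) of O_X and of ℒ_1^∨; that is, D_1 · D_2 · L_1 ⋯ L_s equals the usual intersection number of
the Cartier divisor D_2 and the L_i with the cycle of D_1. (The published text normalises D^2 · L_1
⋯ L_s as twice the limit of χ(c_1(L_1) ⋯ c_1(L_s) · ([O_X] - [O_X(-mD)])) / m^2, the negative of the
number used here, and with that sign the identity fails for two lines on the projective plane, where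
it would read -1 = 1.) -/
theorem result (k : Type u) [Field k] [IsAlgClosed k] (X : Scheme.{u}) [X.Over (Spec (CommRingCat.of k))]
    [AlgebraicGeometry.IsIntegral X] (hnorm : Pi1.IsNormalScheme X) (s : ℕ) (hdim : topologicalKrullDim X = (s + 2 : ℕ))
    (hproj : ∃ (N : ℕ) (ι : X ⟶ CohB1.ProjSpace N k), IsClosedImmersion ι ∧ ι ≫ CohB1.ProjSpace.toSpec N k = X ↘ Spec (CommRingCat.of k))
    (L M : Fin s → X.Modules) (hL : ∀ i, PicF.IsInvertible (L i))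
    (hLM : ∀ i, Nonempty (CohB1.tensorMod (L i) (M i) ≅ Coh.structureModule X))
    (ℒ₁ ℒ₂ 𝓜₂ : X.Modules) (h₁ : RefHull.IsRef1 ℒ₁) (h₂ : PicF.IsInvertible ℒ₂)
    (h₂' : Nonempty (CohB1.tensorMod ℒ₂ 𝓜₂ ≅ Coh.structureModule X))
    (q₁ q₂ q₁₂ : ℝ)
    (hq₁ : Filter.Tendsto (fun m : ℕ => (2 : ℝ) * (FGA.intNum k X (s + 2) M (RefPow.refPow ℒ₁ m) : ℝ) / ((m : ℝ) ^ 2)) Filter.atTop (nhds q₁))
    (hq₂ : Filter.Tendsto (fun m : ℕ => (2 : ℝ) * (FGA.intNum k X (s + 2) M (RefPow.refPow ℒ₂ m) : ℝ) / ((m : ℝ) ^ 2)) Filter.atTop (nhds q₂))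
    (hq₁₂ : Filter.Tendsto (fun m : ℕ => (2 : ℝ) * (FGA.intNum k X (s + 2) M (RefPow.refPow (RefPow.refTensor ℒ₁ ℒ₂) m) : ℝ) / ((m : ℝ) ^ 2)) Filter.atTop (nhds q₁₂)) :
    (q₁₂ - q₁ - q₂) / 2 =
      ((FGA.intNum k X (s + 2) (Fin.cons 𝓜₂ M) (Coh.structureModule X) -
        FGA.intNum k X (s + 2) (Fin.cons 𝓜₂ M) (RefHull.dual ℒ₁) : ℤ) : ℝ) := by
  obtain ⟨hp, hN⟩ := Groth.Agent.H18.RefPair.proper_noetherian hproj
  haveI := hp
  haveI := hN
  have hfin := Groth.Agent.Lib.Snapper.Finite.cohFinite k X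
  obtain ⟨δ, hδ, hη⟩ := exists_delta (k := k) (X := X) (s + 2)
  have hle := Groth.Agent.H18.RefK0.le_dim hδ hη
  have hM : ∀ i, PicF.IsInvertible (M i) := fun i =>
    Groth.Agent.Lib.TensorMod.TensorInv.isInvertible_of_tensor_iso
      (Groth.Agent.Lib.TensorMod.Basic.comm (M i) (L i) ≪≫ (hLM i).some)
  let O := Coh.structureModule X
  have hO : RefHull.IsRef1 O := Groth.Agent.Lib.RefHull.Group.isRef1_structure
  let K := KZero.clSub (Cyc.CohLe δ ((s + 2 : ℕ) : ℤ))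
  have hC : PicF.IsInvertible 𝓜₂ := Groth.Agent.Lib.TensorMod.TensorInv.isInvertible_of_tensor_iso
      (Groth.Agent.Lib.TensorMod.Basic.comm 𝓜₂ ℒ₂ ≪≫ h₂'.some)
  let φ := phi (δ := δ) hfin hdim.le M hM
  let D := diff δ ((s + 2 : ℕ) : ℤ) hC
  have hint : ∀ F : X.Modules, Coh.IsCoh F → FGA.intNum k X (s + 2) M F = φ (K F) := fun F hF => by
    rw [intNum_eq hfin hdim.le hle M hM hF]; rfl
  have hint' : ∀ F : X.Modules, Coh.IsCoh F →
      FGA.intNum k X (s + 2) (Fin.cons 𝓜₂ M) F = φ (D (K F)) := fun F hF => by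
    rw [intNum_eq hfin hdim.le hle (Fin.cons 𝓜₂ M) (isInvertible_cons hC hM) hF,
      diffs_cons 𝓜₂ hC M hM]
    rfl
  let ca := φ (D (K ℒ₁ - K O))
  let c0 := φ (K O)
  have hP : ∀ m : ℕ, Coh.IsCoh (RefPow.refPow ℒ₁ m) := fun m => (isRef1_refPow hnorm h₁ m).1
  have hlin : ∀ m : ℕ, φ (D (K (RefPow.refPow ℒ₁ m))) = φ (D (K O)) + (m : ℤ) * ca := fun m => by
    have h := phi_eq_zero hδ hfin hdim.le hη M hM (j := ((s + 2 : ℕ) : ℤ) - 2 - 1) (by omega) (by omega)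
      (diff_mem hδ hC (by omega) (cl_refPow hδ hnorm hη h₁ m))
    rw [map_sub, map_sub, map_zsmul, map_sub, map_sub, map_zsmul, smul_eq_mul] at h
    change φ (D (K (RefPow.refPow ℒ₁ m))) - φ (D (K O)) - (m : ℤ) * ca = 0 at h
    linarith
  have hconst : ∀ m : ℕ, φ (D (D (K (RefPow.refPow ℒ₁ m)))) = φ (D (D (K O))) := fun m => by
    have h := phi_eq_zero hδ hfin hdim.le hη M hM (j := ((s + 2 : ℕ) : ℤ) - 1 - 1 - 1) (by omega) (by omega)
      (diff_mem hδ hC (by omega) (diff_mem hδ hC (by omega)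
        (cl_sub_structure hδ hnorm hη (isRef1_refPow hnorm h₁ m))))
    rw [map_sub, map_sub, map_sub, sub_eq_zero] at h
    exact h
  have h12 : ∀ m : ℕ, 2 * FGA.intNum k X (s + 2) M (RefPow.refPow (RefPow.refTensor ℒ₁ ℒ₂) m) -
      2 * FGA.intNum k X (s + 2) M (RefPow.refPow ℒ₁ m) - 2 * FGA.intNum k X (s + 2) M (RefPow.refPow ℒ₂ m) =
        2 * (m : ℤ) ^ 2 * ca - 2 * c0 := fun m => by
    have hBm := Groth.Agent.Lib.TensorMod.Invertible.isInvertible_tensorPow h₂ m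
    have hT1 := Groth.Agent.Lib.Snapper.Twist.isCoh_twist hBm (hP m)
    have hT2 := Groth.Agent.Lib.Snapper.Twist.isCoh_twist hBm hO.1
    obtain ⟨e1⟩ := refPow_twist' hnorm h₁ h₂ m
    obtain ⟨e2⟩ := refPow_invertible hnorm h₂ m
    have e2' := e2 ≪≫ (Groth.Agent.Lib.TensorMod.Basic.leftUnit _).symm ≪≫
      Groth.Agent.Lib.TensorMod.Basic.comm (Coh.structureModule X) (CohB1.tensorPow ℒ₂ m)
    rw [hint _ (Groth.Agent.Lib.CohBasics.Closure.isCoh_of_iso e1.symm hT1),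
      hint _ (Groth.Agent.Lib.CohBasics.Closure.isCoh_of_iso e2'.symm hT2), hint _ (hP m)]
    simp only [K]
    rw [Groth.Agent.H18.K0Diff.cl_iso e1 inferInstance, Groth.Agent.H18.K0Diff.cl_iso e2' inferInstance]
    obtain ⟨-, -, a0⟩ := phi_pow hδ hfin hdim.le hη (r := s) rfl M hM h₂ hC h₂'.some (hP m) m
    obtain ⟨-, -, b0⟩ := phi_pow hδ hfin hdim.le hη (r := s) rfl M hM h₂ hC h₂'.some hO.1 m
    change _ = 2 * φ (K (RefPow.refPow ℒ₁ m)) + 2 * (m : ℤ) * φ (D (K (RefPow.refPow ℒ₁ m))) +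
      (m : ℤ) * ((m : ℤ) + 1) * φ (D (D (K (RefPow.refPow ℒ₁ m)))) at a0
    rw [hlin m, hconst m] at a0
    change _ = 2 * φ (K O) + 2 * (m : ℤ) * φ (D (K O)) + (m : ℤ) * ((m : ℤ) + 1) * φ (D (D (K O))) at b0
    linear_combination a0 - b0
  have hlim : Filter.Tendsto (fun m : ℕ => (2 : ℝ) * (ca : ℝ) - 2 * (c0 : ℝ) / (m : ℝ) ^ 2) Filter.atTop
      (nhds (q₁₂ - q₁ - q₂)) := by
    refine ((hq₁₂.sub hq₁).sub hq₂).congr' ?_
    filter_upwards [Filter.eventually_gt_atTop 0] with m hm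
    have hm' : (m : ℝ) ≠ 0 := by exact_mod_cast hm.ne'
    have h' := congrArg (fun z : ℤ => (z : ℝ)) (h12 m)
    push_cast at h'
    field_simp
    linear_combination (1/2 : ℝ) * h'
  have hlim' : Filter.Tendsto (fun m : ℕ => (2 : ℝ) * (ca : ℝ) - 2 * (c0 : ℝ) / (m : ℝ) ^ 2) Filter.atTop
      (nhds (2 * (ca : ℝ))) := by
    simpa using (tendsto_const_nhds (x := (2 : ℝ) * (ca : ℝ))).sub
      ((tendsto_const_nhds (x := 2 * (c0 : ℝ))).div_atTop
        ((Filter.tendsto_pow_atTop (n := 2) two_ne_zero).comp tendsto_natCast_atTop_atTop))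
  obtain ⟨s₁, hs₁, -⟩ := Groth.Agent.Lib.RefHull.RankOne.exists_basis_generic h₁.2.2
  obtain ⟨hd1, t, ht, htd⟩ := Groth.Agent.Lib.RefHull.DivRef.dual_spec hnorm h₁ hs₁
  obtain ⟨hT, hT0, hT'⟩ := Groth.Agent.Lib.RefHull.DivRef.refTensor_spec hnorm h₁ hd1 hs₁ ht
  obtain ⟨o, ho, ho'⟩ := Groth.Agent.Lib.RefHull.Group.one_section hnorm
  obtain ⟨eT, -⟩ := Groth.Agent.Lib.RefHull.Divisor.exists_iso hnorm hT hO hT0 ho fun y hy => by
    rw [hT' y hy, ho' y hy, htd y hy, add_neg_cancel]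
  have hdual : φ (D (K O)) - φ (D (K (RefHull.dual ℒ₁))) = ca := by
    have h := Groth.Agent.H18.RefK0.cl_refTensor hδ hη hnorm h₁ hd1
    have hm : (K O - K (RefHull.dual ℒ₁)) - (K ℒ₁ - K O) ∈
        filt δ ((s + 2 : ℕ) : ℤ) (((s + 2 : ℕ) : ℤ) - 2) := by
      rw [mem_filt]
      simp only [K, QuotientAddGroup.mk_sub]
      unfold Cyc.toK0CohQuot at h
      rw [Groth.Agent.H18.K0Diff.cl_iso (F := RefPow.refTensor ℒ₁ (RefHull.dual ℒ₁)) eT inferInstance,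
        add_comm (QuotientAddGroup.mk (KZero.clSub _ ℒ₁))] at h
      rw [sub_eq_zero, sub_eq_sub_iff_add_eq_add, h]
      abel
    have h0 := phi_eq_zero hδ hfin hdim.le hη M hM (j := ((s + 2 : ℕ) : ℤ) - 2 - 1) (by omega) (by omega)
      (diff_mem hδ hC (by omega) hm)
    rw [map_sub, map_sub, sub_eq_zero] at h0
    change φ (D (K O - K (RefHull.dual ℒ₁))) = ca at h0
    rwa [map_sub, map_sub] at h0
  rw [hint' _ hO.1, hint' _ hd1.1, hdual, tendsto_nhds_unique hlim hlim']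
  ring

end Groth.Agent.S17917
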