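import Groth.Statements.S17918
import Groth.Agent.H18.RefPair

set_option autoImplicit false
universe u
open CategoryTheory CategoryTheory.Limits AlgebraicGeometry
open RefCh

open Groth.Agent.H18.K0Diff Groth.Agent.H18.RefPair

namespace Groth.Agent.S17918

/-- Let k be an algebraically closed field, X an integral normal scheme of dimension s + 3 admitting a
closed immersion into some P^N_k over k, L_1, …, L_s, A and B invertible O_X-modules with inverses
M_1, …, M_s, A' and B' (so that A' ⊗ B' is an inverse of A ⊗ B), and ℒ a coherent reflexive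
O_X-module of rank one (ℒ = O_X(D)). Suppose 2 χ(c_1(A) c_1(L_1) ⋯ c_1(L_s) · [ℒ^[m]]) / m^2 → a, 2
χ(c_1(B) c_1(L_1) ⋯ c_1(L_s) · [ℒ^[m]]) / m^2 → b and 2 χ(c_1(A ⊗ B) c_1(L_1) ⋯ c_1(L_s) · [ℒ^[m]])
/ m^2 → c as m → ∞, the Euler characteristics being the alternating sums FGA.intNum in (A', M_1, …,
M_s), (B', M_1, …, M_s) and (A' ⊗ B', M_1, …, M_s) of the reflexive powers ℒ^[m]. Then c = a + b:
the self-intersection number D^2 · L_0 · L_1 ⋯ L_s is additive in the invertible module L_0. -/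
theorem result (k : Type u) [Field k] [IsAlgClosed k] (X : Scheme.{u}) [X.Over (Spec (CommRingCat.of k))]
    [AlgebraicGeometry.IsIntegral X] (hnorm : Pi1.IsNormalScheme X) (s : ℕ) (hdim : topologicalKrullDim X = (s + 3 : ℕ))
    (hproj : ∃ (N : ℕ) (ι : X ⟶ CohB1.ProjSpace N k), IsClosedImmersion ι ∧ ι ≫ CohB1.ProjSpace.toSpec N k = X ↘ Spec (CommRingCat.of k))
    (L M : Fin s → X.Modules) (hL : ∀ i, PicF.IsInvertible (L i))
    (hLM : ∀ i, Nonempty (CohB1.tensorMod (L i) (M i) ≅ Coh.structureModule X))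
    (A A' B B' : X.Modules) (hA : PicF.IsInvertible A) (hB : PicF.IsInvertible B)
    (hAA' : Nonempty (CohB1.tensorMod A A' ≅ Coh.structureModule X))
    (hBB' : Nonempty (CohB1.tensorMod B B' ≅ Coh.structureModule X))
    (ℒ : X.Modules) (hℒ : RefHull.IsRef1 ℒ) (a b c : ℝ)
    (ha : Filter.Tendsto (fun m : ℕ => (2 : ℝ) * (FGA.intNum k X (s + 3) (Fin.cons A' M) (RefPow.refPow ℒ m) : ℝ) / ((m : ℝ) ^ 2)) Filter.atTop (nhds a))
    (hb : Filter.Tendsto (fun m : ℕ => (2 : ℝ) * (FGA.intNum k X (s + 3) (Fin.cons B' M) (RefPow.refPow ℒ m) : ℝ) / ((m : ℝ) ^ 2)) Filter.atTop (nhds b))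
    (hc : Filter.Tendsto (fun m : ℕ => (2 : ℝ) * (FGA.intNum k X (s + 3) (Fin.cons (CohB1.tensorMod A' B') M) (RefPow.refPow ℒ m) : ℝ) / ((m : ℝ) ^ 2)) Filter.atTop (nhds c)) :
    c = a + b := by
  obtain ⟨hp, hN⟩ := Groth.Agent.H18.RefPair.proper_noetherian hproj
  haveI := hp
  haveI := hN
  have hfin := Groth.Agent.Lib.Snapper.Finite.cohFinite k X
  obtain ⟨δ, hδ, hη⟩ := exists_delta (k := k) (X := X) (s + 3)
  have hle := Groth.Agent.H18.RefK0.le_dim hδ hη
  have hM : ∀ i, PicF.IsInvertible (M i) := fun i =>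
    Groth.Agent.Lib.TensorMod.TensorInv.isInvertible_of_tensor_iso
      (Groth.Agent.Lib.TensorMod.Basic.comm (M i) (L i) ≪≫ (hLM i).some)
  let O := Coh.structureModule X
  have hO : RefHull.IsRef1 O := Groth.Agent.Lib.RefHull.Group.isRef1_structure
  let K := KZero.clSub (Cyc.CohLe δ ((s + 3 : ℕ) : ℤ))
  have hA' : PicF.IsInvertible A' := Groth.Agent.Lib.TensorMod.TensorInv.isInvertible_of_tensor_iso
      (Groth.Agent.Lib.TensorMod.Basic.comm A' A ≪≫ hAA'.some)
  have hB' : PicF.IsInvertible B' := Groth.Agent.Lib.TensorMod.TensorInv.isInvertible_of_tensor_iso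
      (Groth.Agent.Lib.TensorMod.Basic.comm B' B ≪≫ hBB'.some)
  have hC := Groth.Agent.Lib.TensorMod.Invertible.isInvertible_tensorMod hA' hB'
  let φ := phi (δ := δ) hfin hdim.le M hM
  let N := fun (C : X.Modules) (m : ℕ) =>
    FGA.intNum k X (s + 3) (Fin.cons C M : Fin (s + 1) → X.Modules) (RefPow.refPow ℒ m)
  have hint : ∀ (C : X.Modules) (hC : PicF.IsInvertible C) (m : ℕ),
      N C m = φ (diff δ ((s + 3 : ℕ) : ℤ) hC (K (RefPow.refPow ℒ m))) := fun C hC m => by
    simp only [N]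
    rw [intNum_eq hfin hdim.le hle (Fin.cons C M) (isInvertible_cons hC hM) (isRef1_refPow hnorm hℒ m).1,
      diffs_cons C hC M hM]
    rfl
  let DD := fun x => φ (diff δ ((s + 3 : ℕ) : ℤ) hA' (diff δ ((s + 3 : ℕ) : ℤ) hB' x))
  let c₀ := DD (K O)
  let c₁ := DD (K ℒ - K O)
  have hdd : ∀ m : ℕ, N (CohB1.tensorMod A' B') m - N A' m - N B' m = -(c₀ + (m : ℤ) * c₁) := fun m => by
    rw [hint _ hC, hint _ hA', hint _ hB', diff_tensor hA' hB' hC (Iso.refl _), map_sub, map_add]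
    have h := phi_eq_zero hδ hfin hdim.le hη M hM (j := ((s + 3 : ℕ) : ℤ) - 2 - 1 - 1) (by omega) (by omega)
      (diff_mem hδ hA' (by omega) (diff_mem hδ hB' (by omega) (cl_refPow hδ hnorm hη hℒ m)))
    simp only [map_sub, map_zsmul, smul_eq_mul] at h
    simp only [c₀, c₁, DD, map_sub, φ, K, O]
    linarith
  have hlim : Filter.Tendsto
      (fun m : ℕ => ((-2 : ℝ) * c₀) / (m : ℝ) ^ 2 + ((-2 : ℝ) * c₁) / (m : ℝ)) Filter.atTop
      (nhds (c - a - b)) := by
    refine ((hc.sub ha).sub hb).congr' ?_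
    filter_upwards [Filter.eventually_gt_atTop 0] with m hm
    have hm' : (m : ℝ) ≠ 0 := by exact_mod_cast hm.ne'
    have h' := congrArg (fun z : ℤ => (z : ℝ)) (hdd m)
    simp only [N] at h'
    push_cast at h'
    field_simp
    linear_combination h'
  have hlim' : Filter.Tendsto
      (fun m : ℕ => ((-2 : ℝ) * c₀) / (m : ℝ) ^ 2 + ((-2 : ℝ) * c₁) / (m : ℝ)) Filter.atTop (nhds 0) := by
    simpa using ((tendsto_const_nhds (x := (-2 : ℝ) * c₀)).div_atTop
        ((Filter.tendsto_pow_atTop (n := 2) two_ne_zero).comp tendsto_natCast_atTop_atTop)).add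
      ((tendsto_const_nhds (x := (-2 : ℝ) * c₁)).div_atTop tendsto_natCast_atTop_atTop)
  have := tendsto_nhds_unique hlim hlim'
  linarith

end Groth.Agent.S17918
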