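import Groth.Statements.S17919
import Groth.Agent.H18.RefPair
import Groth.Agent.H18.FrobDet
import Groth.Agent.H18.DetK0
import Groth.Agent.Lib.FundLocal.ExtPowExists
import Mathlib.Analysis.SpecificLimits.Basic

set_option autoImplicit false
universe u
open CategoryTheory CategoryTheory.Limits AlgebraicGeometry
open RefCh

open Groth.Agent.H18.K0Diff Groth.Agent.H18.RefPair

namespace Groth.Agent.S17919

/-- Let k be an algebraically closed field of characteristic p > 0, X an integral normal scheme of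
dimension s + 3 admitting a closed immersion into some P^N_k over k, L_1, …, L_s, A and B invertible
O_X-modules with inverses M_1, …, M_s, A' and B', E a coherent reflexive O_X-module, and (G_m) its
reflexive Frobenius pull-backs F_X^[m] E (G_0 = E, G_{m+1} ≅ (F_X^* G_m)^**). Suppose χ(c_1(A)
c_1(L_1) ⋯ c_1(L_s) · [G_m]) / p^{2m} → a, χ(c_1(B) c_1(L_1) ⋯ c_1(L_s) · [G_m]) / p^{2m} → b and
χ(c_1(A ⊗ B) c_1(L_1) ⋯ c_1(L_s) · [G_m]) / p^{2m} → c as m → ∞ (alternating sums FGA.intNum in (A',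
M_1, …, M_s), (B', M_1, …, M_s) and (A' ⊗ B', M_1, …, M_s)). Then c = a + b: the number ∫_X ch_2(E)
L_0 L_1 ⋯ L_s, defined as such a limit, is additive in the invertible module L_0. -/
theorem result (k : Type u) [Field k] [IsAlgClosed k] (X : Scheme.{u}) [X.Over (Spec (CommRingCat.of k))]
    [AlgebraicGeometry.IsIntegral X] (hnorm : Pi1.IsNormalScheme X) (s : ℕ) (hdim : topologicalKrullDim X = (s + 3 : ℕ))
    (hproj : ∃ (N : ℕ) (ι : X ⟶ CohB1.ProjSpace N k), IsClosedImmersion ι ∧ ι ≫ CohB1.ProjSpace.toSpec N k = X ↘ Spec (CommRingCat.of k))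
    (p : ℕ) [Fact p.Prime] [CharP k p] [FrobSch.IsCharP X p]
    (L M : Fin s → X.Modules) (hL : ∀ i, PicF.IsInvertible (L i))
    (hLM : ∀ i, Nonempty (CohB1.tensorMod (L i) (M i) ≅ Coh.structureModule X))
    (A A' B B' : X.Modules) (hA : PicF.IsInvertible A) (hB : PicF.IsInvertible B)
    (hAA' : Nonempty (CohB1.tensorMod A A' ≅ Coh.structureModule X))
    (hBB' : Nonempty (CohB1.tensorMod B B' ≅ Coh.structureModule X))
    (E : X.Modules) (hE : Coh.IsCoh E) (hEr : RefHull.IsReflexive E)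
    (G : ℕ → X.Modules) (hG0 : G 0 = E)
    (hG : ∀ m, Nonempty (G (m + 1) ≅ RefHull.ddual ((Scheme.Modules.pullback (FrobSch.frob X p)).obj (G m)))) (a b c : ℝ)
    (ha : Filter.Tendsto (fun m : ℕ => (FGA.intNum k X (s + 3) (Fin.cons A' M) (G m) : ℝ) / ((p : ℝ) ^ (2 * m))) Filter.atTop (nhds a))
    (hb : Filter.Tendsto (fun m : ℕ => (FGA.intNum k X (s + 3) (Fin.cons B' M) (G m) : ℝ) / ((p : ℝ) ^ (2 * m))) Filter.atTop (nhds b))
    (hc : Filter.Tendsto (fun m : ℕ => (FGA.intNum k X (s + 3) (Fin.cons (CohB1.tensorMod A' B') M) (G m) : ℝ) / ((p : ℝ) ^ (2 * m))) Filter.atTop (nhds c)) :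
    c = a + b := by
  obtain ⟨hp, hN⟩ := Groth.Agent.H18.RefPair.proper_noetherian hproj
  haveI := hp
  haveI := hN
  have hfin := Groth.Agent.Lib.Snapper.Finite.cohFinite k X
  obtain ⟨δ, hδ, hη⟩ := exists_delta (k := k) (X := X) (s + 3)
  have hle := Groth.Agent.H18.RefK0.le_dim hδ hη
  have hM : ∀ i, PicF.IsInvertible (M i) := fun i =>
    Groth.Agent.Lib.TensorMod.TensorInv.isInvertible_of_tensor_iso
      (Groth.Agent.Lib.TensorMod.Basic.comm (M i) (L i) ≪≫ (hLM i).some)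
  have hA' : PicF.IsInvertible A' := Groth.Agent.Lib.TensorMod.TensorInv.isInvertible_of_tensor_iso
      (Groth.Agent.Lib.TensorMod.Basic.comm A' A ≪≫ hAA'.some)
  have hB' : PicF.IsInvertible B' := Groth.Agent.Lib.TensorMod.TensorInv.isInvertible_of_tensor_iso
      (Groth.Agent.Lib.TensorMod.Basic.comm B' B ≪≫ hBB'.some)
  have hC := Groth.Agent.Lib.TensorMod.Invertible.isInvertible_tensorMod hA' hB'
  haveI := Groth.Agent.Lib.RefHull.Reflexive.finite_stalk hE (genericPoint ↥X)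
  haveI : Module.Finite X.functionField (E.presheaf.stalk (genericPoint ↥X)) := this
  let r := Module.finrank X.functionField (E.presheaf.stalk (genericPoint ↥X))
  let BE : Module.Basis (Fin r) X.functionField (E.presheaf.stalk (genericPoint ↥X)) :=
    Module.finBasis _ _
  haveI := hE.1
  obtain ⟨W, hW⟩ := Groth.Agent.Lib.FundLocal.ExtPowExists.exists_isExtPow (E := E) r
  obtain ⟨hH, v, hv, hord⟩ := Groth.Agent.Lib.RefHull.ExtHull.exists_hull hnorm hE hW BE
  choose! cE hcE using fun y (hy : Order.coheight y = 1) =>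
    Groth.Agent.Lib.RefHull.ExtHull.exists_gens hnorm hE (r := r) rfl hy
  let D₀ : X → ℤ := fun y => Groth.Agent.Lib.RefHull.Ord.secOrd (RefHull.ddual W) v y
  have hdet : Groth.Agent.H18.FrobDet.HasDet E r D₀ :=
    ⟨BE, cE, fun y hy => ⟨(hcE y hy).1, (hcE y hy).2, hord y hy _ (hcE y hy).1 (hcE y hy).2⟩⟩
  let O := Coh.structureModule X
  let K := KZero.clSub (Cyc.CohLe δ ((s + 3 : ℕ) : ℤ))
  let φ := phi (δ := δ) hfin hdim.le M hM
  let N := fun (C : X.Modules) (m : ℕ) =>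
    FGA.intNum k X (s + 3) (Fin.cons C M : Fin (s + 1) → X.Modules) (G m)
  have hGc : ∀ m, Coh.IsCoh (G m) := fun m =>
    (Groth.Agent.H18.FrobDet.iterate p hnorm hE hEr hdet G hG0 hG m).1
  have hint : ∀ (C : X.Modules) (hC : PicF.IsInvertible C) (m : ℕ),
      N C m = φ (diff δ ((s + 3 : ℕ) : ℤ) hC (K (G m))) := fun C hC m => by
    simp only [N]
    rw [intNum_eq hfin hdim.le hle (Fin.cons C M) (isInvertible_cons hC hM) (hGc m),
      diffs_cons C hC M hM]
    rfl
  let DD := fun x => φ (diff δ ((s + 3 : ℕ) : ℤ) hA' (diff δ ((s + 3 : ℕ) : ℤ) hB' x))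
  let c₀ := (r : ℤ) * DD (K O)
  let c₁ := DD (K (RefHull.ddual W) - K O)
  have hdd : ∀ m : ℕ, N (CohB1.tensorMod A' B') m - N A' m - N B' m =
      -(c₀ + ((p : ℤ) ^ m) * c₁) := fun m => by
    rw [hint _ hC, hint _ hA', hint _ hB', diff_tensor hA' hB' hC (Iso.refl _), map_sub, map_add]
    obtain ⟨hmc, hmr, B, c, hc⟩ := Groth.Agent.H18.FrobDet.iterate p hnorm hE hEr hdet G hG0 hG m
    obtain ⟨hP, t, ht, ht'⟩ := Groth.Agent.H18.FrobRef.refPow_spec hnorm hH hv (p ^ m)
    have e1 := Groth.Agent.H18.DetK0.main_gen hδ hη hnorm hmc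
      (Groth.Agent.Lib.RefHull.Generic.toGen_injective_of_isReflexive hmc hmr) B c
      (fun y hy => (hc y hy).1) (fun y hy => (hc y hy).2.1) hP ht
      (fun y hy => by rw [ht' y hy, ← (hc y hy).2.2]; push_cast; rfl)
    have e1' : K (G m) - (r : ℤ) • K O + (K O - K (RefPow.refPow (RefHull.ddual W) (p ^ m))) ∈
        filt δ ((s + 3 : ℕ) : ℤ) (((s + 3 : ℕ) : ℤ) - 2) := by
      rw [mem_filt, QuotientAddGroup.mk_add, QuotientAddGroup.mk_sub, QuotientAddGroup.mk_sub,
        QuotientAddGroup.mk_zsmul]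
      exact e1
    have e2 := add_mem e1' (cl_refPow hδ hnorm hη hH (p ^ m))
    have h := phi_eq_zero hδ hfin hdim.le hη M hM (j := ((s + 3 : ℕ) : ℤ) - 2 - 1 - 1) (by omega) (by omega)
      (diff_mem hδ hA' (by omega) (diff_mem hδ hB' (by omega) e2))
    simp only [K, O, map_sub, map_add, map_zsmul, smul_eq_mul] at h
    simp only [c₀, c₁, DD, map_sub, φ, K, O]
    simp only [Nat.cast_pow] at h
    linarith
  have hp2 := (Fact.out : p.Prime).two_le
  have hpow : Filter.Tendsto (fun m : ℕ => (p : ℝ) ^ m) Filter.atTop Filter.atTop :=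
    tendsto_pow_atTop_atTop_of_one_lt (by exact_mod_cast hp2)
  have hlim : Filter.Tendsto
      (fun m : ℕ => ((-1 : ℝ) * c₀) / ((p : ℝ) ^ m) ^ 2 + ((-1 : ℝ) * c₁) / ((p : ℝ) ^ m)) Filter.atTop
      (nhds (c - a - b)) := by
    refine ((hc.sub ha).sub hb).congr fun m => ?_
    have hm' : (p : ℝ) ≠ 0 := by exact_mod_cast (show p ≠ 0 by omega)
    have h' := congrArg (fun z : ℤ => (z : ℝ)) (hdd m)
    simp only [N] at h'
    push_cast at h'
    rw [pow_mul']
    field_simp
    linear_combination h'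
  have hlim' : Filter.Tendsto
      (fun m : ℕ => ((-1 : ℝ) * c₀) / ((p : ℝ) ^ m) ^ 2 + ((-1 : ℝ) * c₁) / ((p : ℝ) ^ m)) Filter.atTop
      (nhds 0) := by
    simpa using ((tendsto_const_nhds (x := (-1 : ℝ) * c₀)).div_atTop
        ((Filter.tendsto_pow_atTop (n := 2) two_ne_zero).comp hpow)).add
      ((tendsto_const_nhds (x := (-1 : ℝ) * c₁)).div_atTop hpow)
  have := tendsto_nhds_unique hlim hlim'
  linarith

end Groth.Agent.S17919
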