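import Groth.Statements.S1792
import Groth.Agent.Lib.DMod.RelDual.Main

set_option autoImplicit false
universe u
open CategoryTheory
open scoped TensorProduct
attribute [local instance] HasDerivedCategory.standard
open Dual2

namespace Groth.Agent.S1792
open Groth.Agent.Lib.DR Groth.Agent.Lib.DMod


/-- Let R → A be a ring map which is flat and of finite presentation. Two relative dualizing complexes
(relative dualizing: R-perfect with RHom_{A⊗_R A}(A, K ⊗^L_A (A ⊗_R A)) ≅ A, the base change taken
along the left coprojection under its existence hypothesis and RHom_{A⊗_R A}(A, −) given as a right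
adjoint Rμ of restriction along the multiplication map) are isomorphic in D(A). -/
theorem result (R A : Type u) [CommRing R] [CommRing A] [Algebra R A] [Module.Flat R A] [Algebra.FinitePresentation R A] [DRing.HasLBaseChange (Algebra.TensorProduct.includeLeftRingHom : A →+* TensorProduct R A A)] (Rμ : Dual.D (TensorProduct R A A) ⥤ Dual.D A) (adjμ : DRing.restrictD (Algebra.TensorProduct.lmul' R (S := A)).toRingHom ⊣ Rμ) (K L : Dual.D A) (hK : Dual2.IsRelDualizing R A Rμ K) (hL : Dual2.IsRelDualizing R A Rμ L) : Nonempty (K ≅ L) := by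
  obtain ⟨n, ψ, hψ, -⟩ := Algebra.FinitePresentation.out (R := R) (A := A)
  haveI : DRing.HasLBaseChange (algebraMap R (MvPolynomial (Fin n) R)) := BaseChangeU.hasLBaseChange _
  haveI := ShriekBC.hasRHomRel ψ.toRingHom
  let Rψ := DTen.RHomRel ψ.toRingHom
  let adj : DRing.restrictD ψ.toRingHom ⊣ Rψ := DTen.relAdj _
  obtain ⟨eK⟩ := RelDual.Main.nonempty_iso_shriek hψ adj adjμ hK
  obtain ⟨eL⟩ := RelDual.Main.nonempty_iso_shriek hψ adj adjμ hL
  exact ⟨eK ≪≫ eL.symm⟩

end Groth.Agent.S1792
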