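import Groth.Statements.S17924
import Groth.Agent.Lib.Cyc.K0.Cycles
import Groth.Agent.Lib.RefHull.Group

set_option autoImplicit false
universe u
open CategoryTheory CategoryTheory.Limits AlgebraicGeometry
open RefCh

namespace Groth.Agent.S17924

open Groth.Agent.Lib Groth.Agent.Lib.RefHull in
theorem length_generic {X : Scheme.{u}} [AlgebraicGeometry.IsIntegral X] {F : X.Modules}
    (h : RefHull.GenInvertible F) :
    Module.length (X.presheaf.stalk (genericPoint ↥X)) (F.presheaf.stalk (genericPoint ↥X)) = 1 := by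
  haveI : IsSimpleModule (X.presheaf.stalk (genericPoint ↥X)) (X.presheaf.stalk (genericPoint ↥X)) :=
    inferInstanceAs (IsSimpleModule X.functionField X.functionField)
  obtain ⟨t, ht0, ht⟩ := RankOne.exists_basis_generic h
  have hb : Function.Bijective (LinearMap.toSpanSingleton (X.presheaf.stalk (genericPoint ↥X)) _ t) :=
    ⟨fun a b e => RankOne.smul_left_injective' h ht0 e, ht⟩
  rw [← (LinearEquiv.ofBijective _ hb).length_eq, Module.length_eq_one_iff]
  infer_instance


/-- Let k be an algebraically closed field, X an integral normal scheme of dimension n = s + 2 admitting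
a closed immersion into some P^N_k over k, δ a dimension function on X (a pair (X, δ) as in the
setup of Chow homology, Cyc.IsSetup) normalised by δ(generic point) = n, so that δ(x) is the
dimension of the closure of x, and ℒ a coherent reflexive O_X-module of rank one (ℒ = O_X(-D) for a
Weil divisor D). Write K(X) = K_0(Coh(X)) and K_m(X) for the subgroup generated by the classes of
coherent modules whose support has dimension at most m. Then [O_X] - [ℒ] ∈ K_{n-1}(X): the classes
of O_X and ℒ agree in K_0(Coh(X)) / K_{n-1}(X) (Cyc.toK0CohQuot δ n (n - 1)); in the notation [O_D]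
= [O_X] - [O_X(-D)], the class [O_D] lies in K_{n-1}(X). -/
theorem result (k : Type u) [Field k] [IsAlgClosed k] (X : Scheme.{u}) [X.Over (Spec (CommRingCat.of k))]
    [AlgebraicGeometry.IsIntegral X] (hnorm : Pi1.IsNormalScheme X) (s : ℕ) (hdim : topologicalKrullDim X = (s + 2 : ℕ))
    (hproj : ∃ (N : ℕ) (ι : X ⟶ CohB1.ProjSpace N k), IsClosedImmersion ι ∧ ι ≫ CohB1.ProjSpace.toSpec N k = X ↘ Spec (CommRingCat.of k))
    (δ : X → ℤ) (hδ : Cyc.IsSetup X δ) (hδη : δ (genericPoint X) = (s + 2 : ℕ))
    (ℒ : X.Modules) (hℒ : RefHull.IsRef1 ℒ) :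
    Cyc.toK0CohQuot δ (s + 2 : ℕ) (s + 1 : ℕ) (Coh.structureModule X) =
      Cyc.toK0CohQuot δ (s + 2 : ℕ) (s + 1 : ℕ) ℒ := by
  haveI := hδ.1
  set k : ℤ := ((s + 2 : ℕ) : ℤ) with hk
  have hb : ((s + 1 : ℕ) : ℤ) = k - 1 := by omega
  have hle : ∀ x : X, δ x ≤ k := fun x => by
    by_cases h : genericPoint ↥X = x
    · rw [← h, hδη]
    · have := (hδ.2.2 _ x (Groth.Agent.Lib.RefHull.Generic.spec x) h).1
      omega
  have hη : ∀ y : X, δ y = k → y = genericPoint ↥X := fun y hy => by
    by_contra h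
    have := (hδ.2.2 _ y (Groth.Agent.Lib.RefHull.Generic.spec y) (Ne.symm h)).1
    omega
  have hO := Groth.Agent.Lib.RefHull.Group.isRef1_structure (X := X)
  have hfun : Cyc.sheafFun δ k (Coh.structureModule X) = Cyc.sheafFun δ k ℒ := by
    funext y
    simp only [Cyc.sheafFun]
    split_ifs with hy
    · cases hη y hy
      rw [length_generic hO.2.2, length_generic hℒ.2.2]
    · rfl
  rw [hb, Groth.Agent.Lib.Cyc.K0.Cycles.cl_eq_cycleSheaf k hδ.2.2 ⟨hO.1, fun x _ => hle x⟩,
    Groth.Agent.Lib.Cyc.K0.Cycles.cl_eq_cycleSheaf k hδ.2.2 ⟨hℒ.1, fun x _ => hle x⟩, hfun]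

end Groth.Agent.S17924
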