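import Groth.Statements.S17926
import Groth.Agent.H18.K0Diff
import Groth.Agent.Lib.TensorMod.TensorInv
import Groth.Agent.S17924

set_option autoImplicit false
universe u
open CategoryTheory CategoryTheory.Limits AlgebraicGeometry
open RefCh

open Groth.Agent.H18.K0Diff

namespace Groth.Agent.S17926

/-- Let k be an algebraically closed field, X an integral normal scheme of dimension n = s + 2 admitting
a closed immersion into some P^N_k over k, δ a dimension function on X (Cyc.IsSetup) with δ(generic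
point) = n, L_1, …, L_{n-1} invertible O_X-modules with inverses M_1, …, M_{n-1}, and ℒ a coherent
reflexive O_X-module of rank one (ℒ = O_X(-D) for a Weil divisor D, [O_D] = [O_X] - [ℒ]). With
c_1(L) · [F] = [F] - [L^{-1} ⊗ F] on K_0(Coh(X)), the class c_1(L_1) ⋯ c_1(L_{n-1}) · [O_D] = Σ_{I ⊆
{1, …, n-1}} (-1)^{|I|} ([M_I ⊗ O_X] - [M_I ⊗ ℒ]), where M_I = ⊗_{i ∈ I} M_i (FGA.tensorList of the
sorted I), lies in K_0(X), the subgroup generated by the classes of coherent modules with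
zero-dimensional support: its image in K_0(Coh(X)) / K_0(X) (Cyc.toK0CohQuot δ n 0) vanishes. -/
theorem result (k : Type u) [Field k] [IsAlgClosed k] (X : Scheme.{u}) [X.Over (Spec (CommRingCat.of k))]
    [AlgebraicGeometry.IsIntegral X] (hnorm : Pi1.IsNormalScheme X) (s : ℕ) (hdim : topologicalKrullDim X = (s + 2 : ℕ))
    (hproj : ∃ (N : ℕ) (ι : X ⟶ CohB1.ProjSpace N k), IsClosedImmersion ι ∧ ι ≫ CohB1.ProjSpace.toSpec N k = X ↘ Spec (CommRingCat.of k))
    (δ : X → ℤ) (hδ : Cyc.IsSetup X δ) (hδη : δ (genericPoint X) = (s + 2 : ℕ))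
    (L M : Fin (s + 1) → X.Modules) (hL : ∀ i, PicF.IsInvertible (L i))
    (hLM : ∀ i, Nonempty (CohB1.tensorMod (L i) (M i) ≅ Coh.structureModule X))
    (ℒ : X.Modules) (hℒ : RefHull.IsRef1 ℒ) :
    (∑ I : Finset (Fin (s + 1)), ((-1 : ℤ) ^ I.card) •
      (Cyc.toK0CohQuot δ (s + 2 : ℕ) 0 (CohB1.tensorMod (FGA.tensorList ((I.sort (· ≤ ·)).map M)) (Coh.structureModule X)) -
        Cyc.toK0CohQuot δ (s + 2 : ℕ) 0 (CohB1.tensorMod (FGA.tensorList ((I.sort (· ≤ ·)).map M)) ℒ))) = 0 := by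
  haveI := hδ.1
  have hle : ∀ x : X, δ x ≤ ((s + 2 : ℕ) : ℤ) := Groth.Agent.H18.RefK0.le_dim hδ.2.2 hδη
  have hM : ∀ i, PicF.IsInvertible (M i) := fun i =>
    Groth.Agent.Lib.TensorMod.TensorInv.isInvertible_of_tensor_iso
      (Groth.Agent.Lib.TensorMod.Basic.comm (M i) (L i) ≪≫ (hLM i).some)
  have hO : Cyc.CohLe δ (s + 2 : ℕ) (Coh.structureModule X) :=
    ⟨(Groth.Agent.Lib.RefHull.Group.isRef1_structure (X := X)).1, fun x _ => hle x⟩
  have hℓ : Cyc.CohLe δ (s + 2 : ℕ) ℒ := ⟨hℒ.1, fun x _ => hle x⟩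
  have h : alt δ (s + 2 : ℕ) M (Coh.structureModule X) - alt δ (s + 2 : ℕ) M ℒ ∈
      filt δ ((s + 2 : ℕ) : ℤ) (((s + 1 : ℕ) : ℤ) - ((s + 1 : ℕ) : ℤ)) := by
    rw [alt_eq_diffs M hM hO, alt_eq_diffs M hM hℓ, ← map_sub]
    refine diffs_mem hδ.2.2 M hM (by omega) ?_
    rw [mem_filt, QuotientAddGroup.mk_sub, sub_eq_zero]
    exact Groth.Agent.S17924.result k X hnorm s hdim hproj δ hδ hδη ℒ hℒ
  rw [sub_self] at h
  have h' := mem_filt.1 h
  unfold alt at h'
  rw [← Finset.sum_sub_distrib] at h'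
  refine Eq.trans ?_ h'
  rw [← QuotientAddGroup.mk'_apply, map_sum]
  refine Finset.sum_congr rfl fun I _ => ?_
  rw [← smul_sub, map_zsmul, map_sub]
  rfl

end Groth.Agent.S17926
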