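import Groth.Statements.S17928
import Groth.Agent.H18.K0Diff
import Groth.Agent.Lib.TensorMod.TensorInv


set_option autoImplicit false
universe u
open CategoryTheory CategoryTheory.Limits AlgebraicGeometry
open RefCh

open Groth.Agent.H18.K0Diff

namespace Groth.Agent.S17928

/-- Let k be an algebraically closed field, X an integral normal scheme of dimension n = s + 2 admitting
a closed immersion into some P^N_k over k, δ a dimension function on X (Cyc.IsSetup) with δ(generic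
point) = n, L_1, …, L_{n-1} invertible O_X-modules with inverses M_1, …, M_{n-1}, and ℒ_1, ℒ_2
coherent reflexive O_X-modules of rank one (ℒ_j = O_X(-D_j)); write ℒ_1 ⊗̂ ℒ_2 for the reflexive
hull of ℒ_1 ⊗ ℒ_2, which is O_X(-D_1 - D_2). In K(X) = K_0(Coh(X)) (classes KZero.clSub for the
property 'coherent with support of δ-dimension ≤ n', i.e. all coherent modules) put S(ℒ) = Σ_{I ⊆
{1, …, n-1}} (-1)^{|I|} ([M_I ⊗ O_X] - [M_I ⊗ ℒ]) with M_I = ⊗_{i∈I} M_i, so that S(O_X(-D)) =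
c_1(L_1) ⋯ c_1(L_{n-1}) · [O_D]. Then S(ℒ_1 ⊗̂ ℒ_2) = S(ℒ_1) + S(ℒ_2): the K(X)-valued symbol
c_1(L_1) ⋯ c_1(L_{n-1}) · [O_D] is additive, hence ℤ-linear, in the Weil divisor D. -/
theorem result (k : Type u) [Field k] [IsAlgClosed k] (X : Scheme.{u}) [X.Over (Spec (CommRingCat.of k))]
    [AlgebraicGeometry.IsIntegral X] (hnorm : Pi1.IsNormalScheme X) (s : ℕ) (hdim : topologicalKrullDim X = (s + 2 : ℕ))
    (hproj : ∃ (N : ℕ) (ι : X ⟶ CohB1.ProjSpace N k), IsClosedImmersion ι ∧ ι ≫ CohB1.ProjSpace.toSpec N k = X ↘ Spec (CommRingCat.of k))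
    (δ : X → ℤ) (hδ : Cyc.IsSetup X δ) (hδη : δ (genericPoint X) = (s + 2 : ℕ))
    (L M : Fin (s + 1) → X.Modules) (hL : ∀ i, PicF.IsInvertible (L i))
    (hLM : ∀ i, Nonempty (CohB1.tensorMod (L i) (M i) ≅ Coh.structureModule X))
    (ℒ₁ ℒ₂ : X.Modules) (h₁ : RefHull.IsRef1 ℒ₁) (h₂ : RefHull.IsRef1 ℒ₂) :
    (∑ I : Finset (Fin (s + 1)), ((-1 : ℤ) ^ I.card) •
        (KZero.clSub (Cyc.CohLe δ (s + 2 : ℕ)) (CohB1.tensorMod (FGA.tensorList ((I.sort (· ≤ ·)).map M)) (Coh.structureModule X)) -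
          KZero.clSub (Cyc.CohLe δ (s + 2 : ℕ)) (CohB1.tensorMod (FGA.tensorList ((I.sort (· ≤ ·)).map M)) (RefPow.refTensor ℒ₁ ℒ₂)))) =
      (∑ I : Finset (Fin (s + 1)), ((-1 : ℤ) ^ I.card) •
        (KZero.clSub (Cyc.CohLe δ (s + 2 : ℕ)) (CohB1.tensorMod (FGA.tensorList ((I.sort (· ≤ ·)).map M)) (Coh.structureModule X)) -
          KZero.clSub (Cyc.CohLe δ (s + 2 : ℕ)) (CohB1.tensorMod (FGA.tensorList ((I.sort (· ≤ ·)).map M)) ℒ₁))) +
      (∑ I : Finset (Fin (s + 1)), ((-1 : ℤ) ^ I.card) •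
        (KZero.clSub (Cyc.CohLe δ (s + 2 : ℕ)) (CohB1.tensorMod (FGA.tensorList ((I.sort (· ≤ ·)).map M)) (Coh.structureModule X)) -
          KZero.clSub (Cyc.CohLe δ (s + 2 : ℕ)) (CohB1.tensorMod (FGA.tensorList ((I.sort (· ≤ ·)).map M)) ℒ₂))) := by
  haveI := hδ.1
  have hle : ∀ x : X, δ x ≤ ((s + 2 : ℕ) : ℤ) := Groth.Agent.H18.RefK0.le_dim hδ.2.2 hδη
  have hM : ∀ i, PicF.IsInvertible (M i) := fun i =>
    Groth.Agent.Lib.TensorMod.TensorInv.isInvertible_of_tensor_iso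
      (Groth.Agent.Lib.TensorMod.Basic.comm (M i) (L i) ≪≫ (hLM i).some)
  have hO : Cyc.CohLe δ (s + 2 : ℕ) (Coh.structureModule X) :=
    ⟨(Groth.Agent.Lib.RefHull.Group.isRef1_structure (X := X)).1, fun x _ => hle x⟩
  have hT := (Groth.Agent.Lib.RefHull.DivRef.refTensor_spec hnorm h₁ h₂
    (Groth.Agent.Lib.RefHull.RankOne.exists_basis_generic h₁.2.2).choose_spec.1
    (Groth.Agent.Lib.RefHull.RankOne.exists_basis_generic h₂.2.2).choose_spec.1).1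
  have hT' : Cyc.CohLe δ (s + 2 : ℕ) (RefPow.refTensor ℒ₁ ℒ₂) := ⟨hT.1, fun x _ => hle x⟩
  have hA : Cyc.CohLe δ (s + 2 : ℕ) ℒ₁ := ⟨h₁.1, fun x _ => hle x⟩
  have hB : Cyc.CohLe δ (s + 2 : ℕ) ℒ₂ := ⟨h₂.1, fun x _ => hle x⟩
  simp only [smul_sub, Finset.sum_sub_distrib]
  change alt δ (s + 2 : ℕ) M _ - alt δ (s + 2 : ℕ) M _ =
    (alt δ (s + 2 : ℕ) M _ - alt δ (s + 2 : ℕ) M _) + (alt δ (s + 2 : ℕ) M _ - alt δ (s + 2 : ℕ) M _)
  rw [alt_eq_diffs M hM hT', alt_eq_diffs M hM hO, alt_eq_diffs M hM hA, alt_eq_diffs M hM hB,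
    ← map_sub, ← map_sub, ← map_sub, ← map_add, ← sub_eq_zero, ← map_sub]
  refine eq_zero_of_mem_filt (j := ((s : ℕ) : ℤ) - ((s + 1 : ℕ) : ℤ)) (fun x => ?_)
    (diffs_mem hδ.2.2 M hM (by omega) ?_)
  · have := nonneg_of_setup hδ.2.2 hdim.le hδη x
    omega
  · rw [mem_filt, QuotientAddGroup.mk_sub, QuotientAddGroup.mk_add, QuotientAddGroup.mk_sub,
      QuotientAddGroup.mk_sub, QuotientAddGroup.mk_sub]
    have h := Groth.Agent.H18.RefK0.cl_refTensor hδ.2.2 hδη hnorm h₁ h₂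
    rw [show ((s + 2 : ℕ) : ℤ) - 2 = ((s : ℕ) : ℤ) by omega] at h
    unfold Cyc.toK0CohQuot at h
    calc _ = ((QuotientAddGroup.mk (KZero.clSub _ ℒ₁) : Cyc.K0CohQuot δ (s + 2 : ℕ) (s : ℕ)) +
          QuotientAddGroup.mk (KZero.clSub _ ℒ₂)) -
        (QuotientAddGroup.mk (KZero.clSub _ (RefPow.refTensor ℒ₁ ℒ₂)) +
          QuotientAddGroup.mk (KZero.clSub _ (Coh.structureModule X))) := by abel
      _ = 0 := by rw [← h, sub_self]

end Groth.Agent.S17928
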